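import Groth.Statements.S18069
import Groth.Agent.S0346
import Groth.Agent.S18811
import Groth.Agent.H28.AntiAff

set_option autoImplicit false
universe u
open CategoryTheory MonoidalCategory CartesianMonoidalCategory MonObj GrpObj AlgebraicGeometry CategoryTheory.Limits
open AlgGrp

namespace Groth.Agent.S18069

/-- Let k be a field and G₁, G₂ connected k-group schemes of finite type. Then G₁ × G₂ is anti-affine,
i.e. O(G₁ × G₂) = k, if and only if G₁ and G₂ are both anti-affine. -/
theorem result (k : Type u) [Field k]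
    (G₁ G₂ : Over (Spec (CommRingCat.of k))) [GrpObj G₁] [LocallyOfFiniteType G₁.hom] [QuasiCompact G₁.hom] [ConnectedSpace ↥G₁.left]
    [GrpObj G₂] [LocallyOfFiniteType G₂.hom] [QuasiCompact G₂.hom] [ConnectedSpace ↥G₂.left] :
    Function.Bijective ((Scheme.ΓSpecIso (CommRingCat.of k)).inv ≫ (G₁ ⊗ G₂).hom.appTop).hom ↔
      Function.Bijective ((Scheme.ΓSpecIso (CommRingCat.of k)).inv ≫ G₁.hom.appTop).hom ∧ Function.Bijective ((Scheme.ΓSpecIso (CommRingCat.of k)).inv ≫ G₂.hom.appTop).hom := by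
  let _ : G₁.left.Over (Spec (CommRingCat.of k)) := ⟨G₁.hom⟩
  let _ : G₂.left.Over (Spec (CommRingCat.of k)) := ⟨G₂.hom⟩
  have hs1 : IsSeparated G₁.hom := (Groth.Agent.S0346.result _ G₁).1.mpr inferInstance
  have hs2 : IsSeparated G₂.hom := (Groth.Agent.S0346.result _ G₂).1.mpr inferInstance
  have hc1 : CompactSpace G₁.left := QuasiCompact.compactSpace_of_compactSpace G₁.hom
  have hc2 : CompactSpace G₂.left := QuasiCompact.compactSpace_of_compactSpace G₂.hom
  have ha1 : IsAffineHom (Limits.pullback.diagonal (G₁.left ↘ (Spec (CommRingCat.of k)))) := by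
    change IsAffineHom (Limits.pullback.diagonal G₁.hom); infer_instance
  have ha2 : IsAffineHom (Limits.pullback.diagonal (G₂.left ↘ (Spec (CommRingCat.of k)))) := by
    change IsAffineHom (Limits.pullback.diagonal G₂.hom); infer_instance
  have hpo : IsPushout G₁.hom.appTop G₂.hom.appTop (Limits.pullback.fst G₁.hom G₂.hom).appTop
      (Limits.pullback.snd G₁.hom G₂.hom).appTop := Groth.Agent.S18811.result k G₁.left G₂.left
  have hpo' : IsPushout ((Scheme.ΓSpecIso (CommRingCat.of k)).inv ≫ G₁.hom.appTop)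
      ((Scheme.ΓSpecIso (CommRingCat.of k)).inv ≫ G₂.hom.appTop)
      (Limits.pullback.fst G₁.hom G₂.hom).appTop (Limits.pullback.snd G₁.hom G₂.hom).appTop :=
    hpo.of_iso (Scheme.ΓSpecIso (CommRingCat.of k)) (Iso.refl _) (Iso.refl _) (Iso.refl _)
      (by simp) (by simp) (by simp) (by simp)
  have hhom : (G₁ ⊗ G₂).hom = Limits.pullback.fst G₁.hom G₂.hom ≫ G₁.hom := Over.tensorObj_hom ..
  have happ : (G₁ ⊗ G₂).hom.appTop =
      G₁.hom.appTop ≫ (Limits.pullback.fst G₁.hom G₂.hom).appTop := by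
    rw [hhom, Scheme.Hom.comp_appTop]
  rw [happ, ← Category.assoc]
  exact Groth.Agent.H28.AntiAff.pushout_lemma k _ _ _ _ hpo'

end Groth.Agent.S18069
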