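import Groth.Statements.S18070
import Groth.Agent.S18811
import Groth.Agent.S0346
import Groth.Agent.H28.FpqcIso
import Groth.Agent.H28.FnDesc

set_option autoImplicit false
universe u
open CategoryTheory MonoidalCategory CartesianMonoidalCategory MonObj GrpObj AlgebraicGeometry CategoryTheory.Limits
open AlgGrp

namespace Groth.Agent.S18070

theorem isPullback_kernelPair {S : Scheme.{u}} {G₁ G G₂ : Over S} [GrpObj G₁] [GrpObj G] [GrpObj G₂]
    (i : G₁ ⟶ G) [IsMonHom i] [Mono i] (q : G ⟶ G₂) [IsMonHom q] (hex : AlgGrp.IsKernel i q) :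
    IsPullback (fst G G₁) ((G ◁ i) ≫ μ[G]) q q := by
  have hm : (G ◁ i) ≫ μ[G] = fst G G₁ * (snd G G₁ ≫ i) := by
    rw [Hom.mul_def]
    congr 1
  have hiq : ∀ {T : Over S} (h : T ⟶ G₁), (h ≫ i) ≫ q = 1 := by
    intro T h
    rw [Category.assoc, hex.w, Hom.one_def, ← Category.assoc]
    congr 1
    exact toUnit_unique _ _
  have hker : ∀ {T : Over S} (g₁ g₂ : T ⟶ G), g₁ ≫ q = g₂ ≫ q →
      (g₁⁻¹ * g₂) ≫ q = toUnit T ≫ η[G₂] := by
    intro T g₁ g₂ h
    rw [MonObj.mul_comp, GrpObj.inv_comp, h, inv_mul_cancel, Hom.one_def]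
  refine ⟨⟨?_⟩, ⟨Limits.PullbackCone.IsLimit.mk _
    (fun s => lift s.fst (hex.lift (s.fst⁻¹ * s.snd) (toUnit _) (hker _ _ s.condition)))
    ?_ ?_ ?_⟩⟩
  · rw [hm, MonObj.mul_comp, hiq, _root_.mul_one]
  · intro s
    exact lift_fst _ _
  · intro s
    rw [hm, MonObj.comp_mul, lift_fst, ← Category.assoc, lift_snd, hex.lift_fst]
    group
  · intro s m hm1 hm2
    apply CartesianMonoidalCategory.hom_ext
    · rw [lift_fst, hm1]
    · rw [lift_snd, ← cancel_mono i, hex.lift_fst]
      rw [hm, MonObj.comp_mul, hm1, ← Category.assoc] at hm2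
      rw [← hm2]
      group

/-- Let k be a field and 1 → G₁ → G → G₂ → 1 an exact sequence of k-group schemes of finite type with
G₁, G₂ connected (i : G₁ → G a homomorphism and closed immersion which is the kernel of the flat
surjective homomorphism q : G → G₂). Anti-affineness passes from G to the quotient G₂; in the other
direction, G is anti-affine whenever G₁ and G₂ both are. -/
theorem result (k : Type u) [Field k]
    (G₁ G G₂ : Over (Spec (CommRingCat.of k))) [GrpObj G₁] [LocallyOfFiniteType G₁.hom] [QuasiCompact G₁.hom] [ConnectedSpace ↥G₁.left]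
    [GrpObj G] [LocallyOfFiniteType G.hom] [QuasiCompact G.hom]
    [GrpObj G₂] [LocallyOfFiniteType G₂.hom] [QuasiCompact G₂.hom] [ConnectedSpace ↥G₂.left]
    (i : G₁ ⟶ G) [IsMonHom i] [IsClosedImmersion i.left] (q : G ⟶ G₂) [IsMonHom q] [Surjective q.left] [Flat q.left]
    (hex : AlgGrp.IsKernel i q) :
    (Function.Bijective ((Scheme.ΓSpecIso (CommRingCat.of k)).inv ≫ G.hom.appTop).hom → Function.Bijective ((Scheme.ΓSpecIso (CommRingCat.of k)).inv ≫ G₂.hom.appTop).hom) ∧
    (Function.Bijective ((Scheme.ΓSpecIso (CommRingCat.of k)).inv ≫ G₁.hom.appTop).hom → Function.Bijective ((Scheme.ΓSpecIso (CommRingCat.of k)).inv ≫ G₂.hom.appTop).hom → Function.Bijective ((Scheme.ΓSpecIso (CommRingCat.of k)).inv ≫ G.hom.appTop).hom) := by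
  have hnoeth : IsNoetherian G.left := Groth.Agent.H28.FpqcIso.isNoetherian_of_finiteType k G
  have hqc : QuasiCompact q.left := inferInstance
  have hee : EffectiveEpi q.left := inferInstance
  have hmono : Mono i := by
    have : Mono i.left := inferInstance
    exact Over.mono_of_mono_left i
  have sqK : IsPullback (fst G G₁).left ((G ◁ i) ≫ μ[G]).left q.left q.left :=
    (isPullback_kernelPair i q hex).map (Over.forget _)
  obtain ⟨hinj, hrange⟩ := Groth.Agent.H28.FnDesc.fn_descent q.left _ _ sqK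
  have hGhom : G.hom = q.left ≫ G₂.hom := (Over.w q).symm
  have happ : G.hom.appTop = G₂.hom.appTop ≫ q.left.appTop := by
    rw [hGhom, Scheme.Hom.comp_appTop]
  have hcomp : ((Scheme.ΓSpecIso (CommRingCat.of k)).inv ≫ G.hom.appTop).hom =
      q.left.appTop.hom.comp ((Scheme.ΓSpecIso (CommRingCat.of k)).inv ≫ G₂.hom.appTop).hom := by
    rw [happ, ← Category.assoc]
    rfl
  constructor
  · intro hb
    rw [hcomp] at hb
    refine ⟨fun x y hxy => hb.injective (by simp only [RingHom.comp_apply, hxy]), fun t => ?_⟩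
    obtain ⟨c, hc⟩ := hb.surjective (q.left.appTop.hom t)
    exact ⟨c, hinj hc⟩
  · intro hb1 hb2
    rw [hcomp]
    refine ⟨fun x y hxy => hb2.injective (hinj hxy), fun s => ?_⟩
    suffices hs : s ∈ Set.range q.left.appTop.hom by
      obtain ⟨t, rfl⟩ := hs
      obtain ⟨c, rfl⟩ := hb2.surjective t
      exact ⟨c, rfl⟩
    rw [hrange]
    -- Künneth
    let _ : G.left.Over (Spec (CommRingCat.of k)) := ⟨G.hom⟩
    let _ : G₁.left.Over (Spec (CommRingCat.of k)) := ⟨G₁.hom⟩
    have hs1 : IsSeparated G.hom := (Groth.Agent.S0346.result _ G).1.mpr inferInstance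
    have hs2 : IsSeparated G₁.hom := (Groth.Agent.S0346.result _ G₁).1.mpr inferInstance
    have hc1 : CompactSpace G.left := QuasiCompact.compactSpace_of_compactSpace G.hom
    have hc2 : CompactSpace G₁.left := QuasiCompact.compactSpace_of_compactSpace G₁.hom
    have ha1 : IsAffineHom (Limits.pullback.diagonal (G.left ↘ (Spec (CommRingCat.of k)))) := by
      change IsAffineHom (Limits.pullback.diagonal G.hom); infer_instance
    have ha2 : IsAffineHom (Limits.pullback.diagonal (G₁.left ↘ (Spec (CommRingCat.of k)))) := by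
      change IsAffineHom (Limits.pullback.diagonal G₁.hom); infer_instance
    have hpo : IsPushout G.hom.appTop G₁.hom.appTop (Limits.pullback.fst G.hom G₁.hom).appTop
        (Limits.pullback.snd G.hom G₁.hom).appTop := Groth.Agent.S18811.result k G.left G₁.left
    have hiso1 : IsIso ((Scheme.ΓSpecIso (CommRingCat.of k)).inv ≫ G₁.hom.appTop) :=
      (ConcreteCategory.isIso_iff_bijective _).mpr hb1
    have hiso2 : IsIso G₁.hom.appTop := by
      have : G₁.hom.appTop = (Scheme.ΓSpecIso (CommRingCat.of k)).hom ≫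
          ((Scheme.ΓSpecIso (CommRingCat.of k)).inv ≫ G₁.hom.appTop) := by simp
      rw [this]
      infer_instance
    have hiso3 : IsIso (Limits.pullback.fst G.hom G₁.hom).appTop := hpo.isIso_inl_of_isIso
    have hfsteq : (fst G G₁).left = Limits.pullback.fst G.hom G₁.hom := Over.fst_left ..
    obtain ⟨s', hs'⟩ : ∃ s', (fst G G₁).left.appTop.hom s' =
        ((G ◁ i) ≫ μ[G]).left.appTop.hom s := by
      rw [hfsteq]
      exact ((ConcreteCategory.isIso_iff_bijective _).mp hiso3).surjective _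
    have h1 : (fst G G₁).left ≫ Groth.Agent.H28.FnDesc.fn s' =
        ((G ◁ i) ≫ μ[G]).left ≫ Groth.Agent.H28.FnDesc.fn s := by
      rw [Groth.Agent.H28.FnDesc.comp_fn, Groth.Agent.H28.FnDesc.comp_fn, hs']
    have hσ1 : lift (𝟙 G) (toUnit G ≫ η[G₁]) ≫ fst G G₁ = 𝟙 G := lift_fst _ _
    have hσ2 : lift (𝟙 G) (toUnit G ≫ η[G₁]) ≫ (G ◁ i) ≫ μ[G] = 𝟙 G := by
      have hm : (G ◁ i) ≫ μ[G] = fst G G₁ * (snd G G₁ ≫ i) := by
        rw [Hom.mul_def]
        congr 1
      rw [hm, MonObj.comp_mul, lift_fst, ← Category.assoc, lift_snd, ← Hom.one_def,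
        MonObj.one_comp, _root_.mul_one]
    have h2 : (lift (𝟙 G) (toUnit G ≫ η[G₁])).left ≫ (fst G G₁).left ≫
        Groth.Agent.H28.FnDesc.fn s' = (lift (𝟙 G) (toUnit G ≫ η[G₁])).left ≫
        ((G ◁ i) ≫ μ[G]).left ≫ Groth.Agent.H28.FnDesc.fn s := by rw [h1]
    rw [← Category.assoc, ← Category.assoc, ← Over.comp_left, ← Over.comp_left, hσ1, hσ2] at h2
    have h3 : s' = s := by
      apply Groth.Agent.H28.FnDesc.fn_injective
      simpa using h2
    rw [← hs', h3]


end Groth.Agent.S18070
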