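import Groth.Statements.S18121
import Mathlib

set_option autoImplicit false
universe u
open Pinch

namespace Groth.Agent.S18121


open Polynomial

section Aux
variable {B : Type u} [CommRing B] (b : B)

local notation "𝔣" => (X ^ 2 - C b : B[X])

theorem hmonic : (𝔣).Monic := monic_X_pow_sub_C b two_ne_zero

theorem z_sq : (AdjoinRoot.root 𝔣) ^ 2 = AdjoinRoot.of 𝔣 b := by
  have h := AdjoinRoot.eval₂_root 𝔣
  simp only [eval₂_sub, eval₂_pow, eval₂_X, eval₂_C] at h
  exact sub_eq_zero.mp h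

theorem indep [Nontrivial B] (c₀ c₁ : B)
    (h : AdjoinRoot.of 𝔣 c₀ + AdjoinRoot.of 𝔣 c₁ * AdjoinRoot.root 𝔣 = 0) : c₀ = 0 ∧ c₁ = 0 := by
  have h1 : AdjoinRoot.mk 𝔣 (C c₀ + C c₁ * X) = 0 := by
    rw [map_add, map_mul, AdjoinRoot.mk_C, AdjoinRoot.mk_C, AdjoinRoot.mk_X]; exact h
  rw [AdjoinRoot.mk_eq_zero] at h1
  have hd : (C c₀ + C c₁ * X : B[X]).natDegree ≤ 1 := by compute_degree
  have h2 : (C c₀ + C c₁ * X : B[X]) = 0 := by
    by_contra hne
    exact (hmonic b).not_dvd_of_natDegree_lt hne (by rw [natDegree_X_pow_sub_C]; omega) h1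
  constructor
  · have := congrArg (fun p => p.coeff 0) h2
    simpa using this
  · have := congrArg (fun p => p.coeff 1) h2
    simpa using this

theorem decomp [Nontrivial B] (x : AdjoinRoot 𝔣) :
    ∃ c₀ c₁ : B, x = AdjoinRoot.of 𝔣 c₀ + AdjoinRoot.of 𝔣 c₁ * AdjoinRoot.root 𝔣 := by
  obtain ⟨P, rfl⟩ := AdjoinRoot.mk_surjective x
  have hdiv := modByMonic_add_div P 𝔣
  have hdeg : (P %ₘ 𝔣).natDegree < 2 := by
    have h1 := natDegree_modByMonic_lt P (hmonic b) (by
      intro h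
      have h2 := congrArg natDegree h
      rw [natDegree_X_pow_sub_C, natDegree_one] at h2
      omega)
    rwa [natDegree_X_pow_sub_C] at h1
  have hR := eq_X_add_C_of_natDegree_le_one (show (P %ₘ 𝔣).natDegree ≤ 1 by omega)
  have hmk : AdjoinRoot.mk 𝔣 P = AdjoinRoot.mk 𝔣 (P %ₘ 𝔣) := by
    conv_lhs => rw [← hdiv]
    rw [map_add, map_mul, AdjoinRoot.mk_self, zero_mul, add_zero]
  refine ⟨(P %ₘ 𝔣).coeff 0, (P %ₘ 𝔣).coeff 1, ?_⟩
  conv_lhs => rw [hmk, hR]
  rw [map_add, map_mul, AdjoinRoot.mk_C, AdjoinRoot.mk_C, AdjoinRoot.mk_X]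
  ring

noncomputable def Psi : MvPolynomial (Fin 2) B →ₐ[B] Polynomial (AdjoinRoot 𝔣) :=
  MvPolynomial.aeval ![C (AdjoinRoot.root 𝔣) * X, X]

theorem Psi_X0 : Psi b (MvPolynomial.X 0) = C (AdjoinRoot.root 𝔣) * X := by simp [Psi]

theorem Psi_X1 : Psi b (MvPolynomial.X 1) = X := by simp [Psi]

theorem Psi_C (a : B) : Psi b (MvPolynomial.C a) = C (AdjoinRoot.of 𝔣 a) := by
  rw [Psi, MvPolynomial.aeval_C, Polynomial.algebraMap_apply, AdjoinRoot.algebraMap_eq]

theorem Psi_g :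
    Psi b (MvPolynomial.X 0 ^ 2 - MvPolynomial.C b * MvPolynomial.X 1 ^ 2) = 0 := by
  rw [map_sub, map_mul, map_pow, map_pow, Psi_X0, Psi_X1, Psi_C, mul_pow, ← C_pow, z_sq, sub_self]

noncomputable def phi0 : B[X] →ₐ[B] MvPolynomial (Fin 2) B := Polynomial.aeval (MvPolynomial.X 1)

theorem phi0_X : (phi0 : B[X] →ₐ[B] MvPolynomial (Fin 2) B) X = MvPolynomial.X 1 := by
  rw [phi0, Polynomial.aeval_X]

theorem phi0_C (a : B) : (phi0 : B[X] →ₐ[B] MvPolynomial (Fin 2) B) (C a) = MvPolynomial.C a := by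
  rw [phi0, Polynomial.aeval_C]; rfl

theorem Psi_phi0 (p : B[X]) : Psi b (phi0 p) = p.map (AdjoinRoot.of 𝔣) := by
  have h : (Psi b).comp phi0 = Polynomial.mapAlg B (AdjoinRoot 𝔣) := by
    apply Polynomial.algHom_ext
    rw [AlgHom.comp_apply, Polynomial.mapAlg_eq_map, Polynomial.map_X, phi0_X, Psi_X1]
  have h2 := AlgHom.congr_fun h p
  rw [AlgHom.comp_apply, Polynomial.mapAlg_eq_map, AdjoinRoot.algebraMap_eq] at h2
  exact h2

theorem normal_form (P : MvPolynomial (Fin 2) B) :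
    ∃ (Q : MvPolynomial (Fin 2) B) (P₀ P₁ : B[X]),
      P = Q * (MvPolynomial.X 0 ^ 2 - MvPolynomial.C b * MvPolynomial.X 1 ^ 2) + phi0 P₀
        + MvPolynomial.X 0 * phi0 P₁ := by
  induction P using MvPolynomial.induction_on with
  | C a => exact ⟨0, C a, 0, by rw [phi0_C, map_zero]; ring⟩
  | add p q hp hq =>
    obtain ⟨Q, P₀, P₁, hp⟩ := hp
    obtain ⟨Q', P₀', P₁', hq⟩ := hq
    exact ⟨Q + Q', P₀ + P₀', P₁ + P₁', by rw [map_add, map_add, hp, hq]; ring⟩
  | mul_X p i hp =>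
    obtain ⟨Q, P₀, P₁, hp⟩ := hp
    have hi : i = 0 ∨ i = 1 := by
      fin_cases i
      · exact Or.inl rfl
      · exact Or.inr rfl
    rcases hi with rfl | rfl
    · refine ⟨Q * MvPolynomial.X 0 + phi0 P₁, C b * X ^ 2 * P₁, P₀, ?_⟩
      rw [hp, map_mul, map_mul, map_pow, phi0_X, phi0_C]; ring
    · refine ⟨Q * MvPolynomial.X 1, P₀ * X, P₁ * X, ?_⟩
      rw [hp, map_mul, map_mul, phi0_X]; ring

theorem ker_eq [Nontrivial B] : RingHom.ker (Psi b).toRingHom =
    Ideal.span {MvPolynomial.X 0 ^ 2 - MvPolynomial.C b * MvPolynomial.X 1 ^ 2} := by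
  apply le_antisymm
  · intro P hP
    have hP' : Psi b P = 0 := hP
    obtain ⟨Q, P₀, P₁, rfl⟩ := normal_form b P
    rw [map_add, map_add, map_mul, map_mul, Psi_g, mul_zero, zero_add, Psi_phi0, Psi_phi0,
      Psi_X0] at hP'
    have hcoef : ∀ n, P₀.coeff (n + 1) = 0 ∧ P₁.coeff n = 0 := by
      intro n
      have h1 := congrArg (fun G => G.coeff (n + 1)) hP'
      simp only [coeff_add, coeff_map, coeff_zero] at h1
      rw [mul_assoc, coeff_C_mul, coeff_X_mul, coeff_map, mul_comm (AdjoinRoot.root 𝔣)] at h1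
      exact indep b _ _ h1
    have h00 : P₀.coeff 0 = 0 := by
      have h1 := congrArg (fun G => G.coeff 0) hP'
      simp only [coeff_add, coeff_map, coeff_zero] at h1
      rw [mul_assoc, coeff_C_mul, coeff_X_mul_zero, mul_zero, add_zero] at h1
      exact (indep b (P₀.coeff 0) 0 (by rw [h1, map_zero, zero_mul, add_zero])).1
    have hP₀ : P₀ = 0 := by
      ext n
      cases n with
      | zero => rw [h00, coeff_zero]
      | succ n => rw [(hcoef n).1, coeff_zero]
    have hP₁ : P₁ = 0 := by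
      ext n
      rw [(hcoef n).2, coeff_zero]
    rw [hP₀, hP₁, map_zero, mul_zero, add_zero, add_zero]
    exact Ideal.mem_span_singleton'.mpr ⟨Q, rfl⟩
  · rw [Ideal.span_singleton_le_iff_mem, RingHom.mem_ker]
    exact Psi_g b

theorem range_mem [Nontrivial B] (G : (AdjoinRoot 𝔣)[X]) (c : B)
    (hc : G.coeff 0 = AdjoinRoot.of 𝔣 c) : G ∈ (Psi b).range := by
  have hX : (X : (AdjoinRoot 𝔣)[X]) ∈ (Psi b).range :=
    (AlgHom.mem_range _).mpr ⟨MvPolynomial.X 1, Psi_X1 b⟩
  have hXC : ∀ h : AdjoinRoot 𝔣, (X * C h : (AdjoinRoot 𝔣)[X]) ∈ (Psi b).range := by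
    intro h
    obtain ⟨c₀, c₁, rfl⟩ := decomp b h
    refine (AlgHom.mem_range _).mpr
      ⟨MvPolynomial.C c₀ * MvPolynomial.X 1 + MvPolynomial.C c₁ * MvPolynomial.X 0, ?_⟩
    rw [map_add, map_mul, map_mul, Psi_C, Psi_C, Psi_X0, Psi_X1, C_add, C_mul]; ring
  have hXH : ∀ H : (AdjoinRoot 𝔣)[X], X * H ∈ (Psi b).range := by
    intro H
    induction H using Polynomial.induction_on' with
    | add p q hp hq => rw [mul_add]; exact add_mem hp hq
    | monomial n a =>
      rw [← C_mul_X_pow_eq_monomial, ← mul_assoc]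
      exact mul_mem (hXC a) (pow_mem hX n)
  have hG : G = X * G.divX + C (G.coeff 0) := by
    rw [mul_comm]; exact (divX_mul_X_add G).symm
  rw [hG, hc]
  refine add_mem (hXH _) ?_
  exact (AlgHom.mem_range _).mpr ⟨MvPolynomial.C c, Psi_C b c⟩

end Aux


/-- Let B be a commutative ring, b an element of B, B' := B[z]/(z^2 - b) the rank-two B-algebra with z^2
= b, and Ψ : B[u, v] → B'[t] the B-algebra homomorphism with u ↦ z t and v ↦ t. Then the kernel of Ψ
is the principal ideal generated by u^2 - b v^2, and a polynomial of B'[t] lies in the image of Ψ as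
soon as its constant coefficient lies in B. Equivalently, B[u, v]/(u^2 - b v^2) is the fibre product
of B'[t] and B over B' (for t ↦ 0 and the inclusion of B): the pinching of Spec B' × 𝔸¹ along Spec
B' × {0} by the double cover Spec B' → Spec B is the hypersurface u^2 = b v^2 over B; for B = K[w]
and b = w this is the pinch point u^2 = v^2 w. -/
theorem result (B : Type u) [CommRing B] (b : B) :
    letI Ψ : MvPolynomial (Fin 2) B →ₐ[B] Polynomial (AdjoinRoot (Polynomial.X ^ 2 - Polynomial.C b)) :=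
      MvPolynomial.aeval
        ![Polynomial.C (AdjoinRoot.root (Polynomial.X ^ 2 - Polynomial.C b)) * Polynomial.X, Polynomial.X]
    RingHom.ker Ψ.toRingHom =
        Ideal.span {MvPolynomial.X 0 ^ 2 - MvPolynomial.C b * MvPolynomial.X 1 ^ 2} ∧
      ∀ G : Polynomial (AdjoinRoot (Polynomial.X ^ 2 - Polynomial.C b)),
        (∃ c : B, G.coeff 0 = algebraMap B (AdjoinRoot (Polynomial.X ^ 2 - Polynomial.C b)) c) →
          G ∈ Ψ.range := by
  by_cases hB : Nontrivial B
  · exact ⟨ker_eq b, fun G ⟨c, hc⟩ => range_mem b G c hc⟩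
  · haveI : Subsingleton B := not_nontrivial_iff_subsingleton.mp hB
    have h0 : ∀ P : MvPolynomial (Fin 2) B, P = 0 := fun P => by
      rw [← one_mul P, ← MvPolynomial.C_1, Subsingleton.elim (1 : B) 0, MvPolynomial.C_0, zero_mul]
    have h0' : ∀ G : Polynomial (AdjoinRoot (Polynomial.X ^ 2 - Polynomial.C b)), G = 0 :=
      fun G => by
        have h1 : (1 : AdjoinRoot (Polynomial.X ^ 2 - Polynomial.C b)) = 0 := by
          rw [← map_one (AdjoinRoot.of (Polynomial.X ^ 2 - Polynomial.C b)),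
            Subsingleton.elim (1 : B) 0, map_zero]
        rw [← one_mul G, ← Polynomial.C_1, h1, Polynomial.C_0, zero_mul]
    refine ⟨?_, fun G _ => ?_⟩
    · ext P
      rw [h0 P]
      exact ⟨fun _ => zero_mem _, fun _ => zero_mem _⟩
    · rw [h0' G]; exact zero_mem _

end Groth.Agent.S18121
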