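import Groth.Statements.S18123
import Mathlib

set_option autoImplicit false
universe u
open Pinch

namespace Groth.Agent.S18123


section Aux
variable (K : Type u) [Field K]

local notation "𝔖" => MvPolynomial (Fin 2) K
local notation "x₀" => (MvPolynomial.X 0 : MvPolynomial (Fin 2) K)
local notation "y₀" => (MvPolynomial.X 1 : MvPolynomial (Fin 2) K)
local notation "𝔯" => Algebra.adjoin K ({x₀ ^ 2, x₀ * y₀, y₀} : Set (MvPolynomial (Fin 2) K))

theorem hx2 : x₀ ^ 2 ∈ 𝔯 := Algebra.subset_adjoin (by simp)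
theorem hxy : x₀ * y₀ ∈ 𝔯 := Algebra.subset_adjoin (by simp)
theorem hy : y₀ ∈ 𝔯 := Algebra.subset_adjoin (by simp)

theorem fin2_cases (i : Fin 2) : i = 0 ∨ i = 1 := by
  fin_cases i
  · exact Or.inl rfl
  · exact Or.inr rfl

theorem y_mul_mem_aux (t : 𝔖) : y₀ * t ∈ 𝔯 ∧ x₀ * y₀ * t ∈ 𝔯 := by
  induction t using MvPolynomial.induction_on with
  | C a =>
    have hC : (MvPolynomial.C a : 𝔖) ∈ 𝔯 := by
      rw [← MvPolynomial.algebraMap_eq]; exact Subalgebra.algebraMap_mem _ a
    exact ⟨mul_mem (hy K) hC, mul_mem (hxy K) hC⟩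
  | add p q hp hq =>
    exact ⟨by rw [mul_add]; exact add_mem hp.1 hq.1, by rw [mul_add]; exact add_mem hp.2 hq.2⟩
  | mul_X p i hp =>
    rcases fin2_cases i with rfl | rfl
    · constructor
      · have e : y₀ * (p * x₀) = x₀ * y₀ * p := by ring
        rw [e]; exact hp.2
      · have e : x₀ * y₀ * (p * x₀) = x₀ ^ 2 * (y₀ * p) := by ring
        rw [e]; exact mul_mem (hx2 K) hp.1
    · constructor
      · have e : y₀ * (p * y₀) = (y₀ * p) * y₀ := by ring
        rw [e]; exact mul_mem hp.1 (hy K)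
      · have e : x₀ * y₀ * (p * y₀) = (x₀ * y₀ * p) * y₀ := by ring
        rw [e]; exact mul_mem hp.2 (hy K)

theorem y_mul_mem (t : 𝔖) : y₀ * t ∈ 𝔯 := (y_mul_mem_aux K t).1

noncomputable def ev : 𝔖 →ₐ[K] Polynomial K := MvPolynomial.aeval ![Polynomial.X, 0]

noncomputable def iota : Polynomial K →ₐ[K] 𝔖 := Polynomial.aeval x₀

theorem ev_X0 : ev K x₀ = Polynomial.X := by simp [ev]
theorem ev_X1 : ev K y₀ = 0 := by simp [ev]
theorem iota_X : iota K Polynomial.X = x₀ := by simp [iota]

theorem ev_mem (r : 𝔖) (hr : r ∈ 𝔯) : ∃ q, ev K r = Polynomial.expand K 2 q := by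
  have hle : 𝔯 ≤ (AlgHom.range (Polynomial.expand K 2)).comap (ev K) := by
    refine Algebra.adjoin_le ?_
    intro f hf
    simp only [Set.mem_insert_iff, Set.mem_singleton_iff] at hf
    rw [SetLike.mem_coe, Subalgebra.mem_comap, AlgHom.mem_range]
    rcases hf with rfl | rfl | rfl
    · exact ⟨Polynomial.X, by rw [map_pow, ev_X0, Polynomial.expand_X]⟩
    · exact ⟨0, by rw [map_mul, ev_X1, mul_zero, map_zero]⟩
    · exact ⟨0, by rw [ev_X1, map_zero]⟩
  have h1 := hle hr
  rw [Subalgebra.mem_comap, AlgHom.mem_range] at h1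
  obtain ⟨q, hq⟩ := h1
  exact ⟨q, hq.symm⟩

theorem coeff_odd_of_even (q q' : Polynomial K) (h : q = Polynomial.expand K 2 q') (n : ℕ)
    (hn : ¬ 2 ∣ n) : q.coeff n = 0 := by
  rw [h, Polynomial.coeff_expand (by norm_num : 0 < 2), if_neg hn]

theorem odd_form (a : Polynomial K) (ha : ∀ n, 2 ∣ n → a.coeff n = 0) :
    ∃ p : Polynomial K, a = Polynomial.X * Polynomial.expand K 2 p := by
  refine ⟨∑ k ∈ Finset.range (a.natDegree + 1), Polynomial.monomial k (a.coeff (2 * k + 1)), ?_⟩
  ext n
  cases n with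
  | zero => rw [ha 0 (dvd_zero 2), Polynomial.coeff_X_mul_zero]
  | succ m =>
    rw [Polynomial.coeff_X_mul, Polynomial.coeff_expand (by norm_num : 0 < 2)]
    split_ifs with hm
    · obtain ⟨k, rfl⟩ := hm
      rw [Nat.mul_div_cancel_left k (by norm_num : 0 < 2), Polynomial.finset_sum_coeff]
      simp only [Polynomial.coeff_monomial]
      rw [Finset.sum_ite_eq']
      split_ifs with hk
      · rfl
      · rw [Finset.mem_range, not_lt] at hk
        exact Polynomial.coeff_eq_zero_of_natDegree_lt (by omega)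
    · exact ha (m + 1) (by omega)

theorem sub_iota_ev (f : 𝔖) : ∃ t : 𝔖, f - iota K (ev K f) = y₀ * t := by
  induction f using MvPolynomial.induction_on with
  | C a =>
    refine ⟨0, ?_⟩
    rw [ev, MvPolynomial.aeval_C, Polynomial.algebraMap_apply, iota, Polynomial.aeval_C,
      Algebra.algebraMap_self, RingHom.id_apply, MvPolynomial.algebraMap_eq, sub_self, mul_zero]
  | add p q hp hq =>
    obtain ⟨t, ht⟩ := hp
    obtain ⟨t', ht'⟩ := hq
    exact ⟨t + t', by rw [map_add, map_add, mul_add, ← ht, ← ht']; ring⟩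
  | mul_X p i hp =>
    obtain ⟨t, ht⟩ := hp
    rcases fin2_cases i with rfl | rfl
    · refine ⟨t * x₀, ?_⟩
      rw [map_mul, ev_X0, map_mul, iota_X, ← mul_assoc, ← ht]; ring
    · refine ⟨p, ?_⟩
      rw [map_mul, ev_X1, mul_zero, map_zero, sub_zero]; ring

theorem main [NeZero (2 : K)] (D : Derivation K 𝔖 𝔖) :
    (∀ r ∈ 𝔯, D r ∈ 𝔯) ↔
      (D y₀ ∈ Ideal.span {y₀} ∧
        ∃ (s : 𝔖) (p : Polynomial K), D x₀ = y₀ * s + x₀ * Polynomial.aeval (x₀ ^ 2) p) := by
  constructor
  · intro h
    obtain ⟨q1, hq1⟩ := ev_mem K _ (h _ (hy K))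
    obtain ⟨q2, hq2⟩ := ev_mem K _ (h _ (hxy K))
    obtain ⟨q3, hq3⟩ := ev_mem K _ (h _ (hx2 K))
    rw [Derivation.leibniz, smul_eq_mul, smul_eq_mul, map_add, map_mul, map_mul, ev_X0, ev_X1,
      zero_mul, add_zero] at hq2
    rw [pow_two, Derivation.leibniz, smul_eq_mul, map_add, map_mul, ev_X0] at hq3
    have hc : ev K (D y₀) = 0 := by
      ext n
      rw [Polynomial.coeff_zero]
      by_cases hn : 2 ∣ n
      · have h5 := coeff_odd_of_even K _ _ hq2 (n + 1) (by omega)
        rwa [Polynomial.coeff_X_mul] at h5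
      · exact coeff_odd_of_even K _ _ hq1 n hn
    have ha : ∀ n, 2 ∣ n → (ev K (D x₀)).coeff n = 0 := by
      intro n hn
      have h5 := coeff_odd_of_even K _ _ hq3 (n + 1) (by omega)
      rw [Polynomial.coeff_add, Polynomial.coeff_X_mul, ← two_mul] at h5
      exact (mul_eq_zero.mp h5).resolve_left (NeZero.ne (2 : K))
    constructor
    · obtain ⟨t, ht⟩ := sub_iota_ev K (D y₀)
      rw [hc, map_zero, sub_zero] at ht
      rw [ht]; exact Ideal.mem_span_singleton'.mpr ⟨t, mul_comm _ _⟩
    · obtain ⟨p, hp⟩ := odd_form K _ ha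
      obtain ⟨t, ht⟩ := sub_iota_ev K (D x₀)
      refine ⟨t, p, ?_⟩
      rw [hp, map_mul, iota_X, iota, Polynomial.expand_aeval] at ht
      rw [← ht]; ring
  · rintro ⟨hDy, s, p, hDx⟩
    obtain ⟨t, ht⟩ := Ideal.mem_span_singleton'.mp hDy
    have hP : Polynomial.aeval (x₀ ^ 2) p ∈ 𝔯 := by
      have h1 : Polynomial.aeval (x₀ ^ 2) p
          = ((Polynomial.aeval (⟨x₀ ^ 2, hx2 K⟩ : 𝔯) p : 𝔯) : 𝔖) :=
        (Polynomial.aeval_subalgebra_coe p 𝔯 ⟨x₀ ^ 2, hx2 K⟩).symm
      rw [h1]; exact SetLike.coe_mem _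
    intro r hr
    induction hr using Algebra.adjoin_induction with
    | mem f hf =>
      simp only [Set.mem_insert_iff, Set.mem_singleton_iff] at hf
      rcases hf with rfl | rfl | rfl
      · have hD2 : D (x₀ ^ 2) = x₀ * D x₀ + x₀ * D x₀ := by
          rw [pow_two, Derivation.leibniz, smul_eq_mul]
        rw [hD2, hDx]
        have e : x₀ * (y₀ * s + x₀ * Polynomial.aeval (x₀ ^ 2) p)
            + x₀ * (y₀ * s + x₀ * Polynomial.aeval (x₀ ^ 2) p)
            = y₀ * (2 * x₀ * s) + (x₀ ^ 2 * Polynomial.aeval (x₀ ^ 2) p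
              + x₀ ^ 2 * Polynomial.aeval (x₀ ^ 2) p) := by ring
        rw [e]
        exact add_mem (y_mul_mem K _) (add_mem (mul_mem (hx2 K) hP) (mul_mem (hx2 K) hP))
      · rw [Derivation.leibniz, smul_eq_mul, smul_eq_mul, ← ht, hDx]
        have e : x₀ * (t * y₀) + y₀ * (y₀ * s + x₀ * Polynomial.aeval (x₀ ^ 2) p)
            = y₀ * (x₀ * t + (y₀ * s + x₀ * Polynomial.aeval (x₀ ^ 2) p)) := by ring
        rw [e]; exact y_mul_mem K _
      · have hD1 : D y₀ = y₀ * t := by rw [← ht, mul_comm]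
        rw [hD1]; exact y_mul_mem K _
    | algebraMap c => rw [Derivation.map_algebraMap]; exact zero_mem _
    | add a b ha hb iha ihb => rw [map_add]; exact add_mem iha ihb
    | mul a b ha hb iha ihb =>
      rw [Derivation.leibniz, smul_eq_mul, smul_eq_mul]
      exact add_mem (mul_mem ha ihb) (mul_mem hb iha)

end Aux


/-- Let K be a field in which 2 ≠ 0, S = K[x, y], and R ⊆ S the K-subalgebra generated by x^2, x y, y,
the coordinate ring of the pinch point with normalization S, obtained by gluing the plane along the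
line y = 0 via x ↦ -x. A K-derivation D of S maps R into R if and only if D(y) is a multiple of y
and D(x) = y s + x p(x^2) for some s in S and some polynomial p in one variable. Every K-derivation
R → S extends uniquely to S, and under this identification the derivations mapping R into R form the
image of the tangent sheaf of the pinch point in that of its normalization; so this image contains y
times all derivations of S, and modulo those it is spanned by the odd multiples x^(2k+1) ∂/∂x, the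
part of the tangent sheaf of the line y = 0 invariant under x ↦ -x. (The text works over an
algebraically closed field of characteristic different from 2; the computation uses only 2 ≠ 0.) -/
theorem result
    (K : Type u) [Field K] [NeZero (2 : K)]
    (D : Derivation K (MvPolynomial (Fin 2) K) (MvPolynomial (Fin 2) K)) :
    letI x : MvPolynomial (Fin 2) K := MvPolynomial.X 0
    letI y : MvPolynomial (Fin 2) K := MvPolynomial.X 1
    letI R : Subalgebra K (MvPolynomial (Fin 2) K) := Algebra.adjoin K {x ^ 2, x * y, y}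
    (∀ r ∈ R, D r ∈ R) ↔
      (D y ∈ Ideal.span {y} ∧
        ∃ (s : MvPolynomial (Fin 2) K) (p : Polynomial K), D x = y * s + x * Polynomial.aeval (x ^ 2) p) := by
  exact main K D

end Groth.Agent.S18123
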