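import Groth.Statements.S18125
import Mathlib

set_option autoImplicit false
universe u
open Pinch

namespace Groth.Agent.S18125

open MvPolynomial in
theorem aux (K : Type u) [Field K] [NeZero (2 : K)] (n : ℕ) :
    Ideal.span {(X 0 : MvPolynomial (Fin (n + 3)) K), X 1} =
      Ideal.span {(X 0 : MvPolynomial (Fin (n + 3)) K) ^ 2 - X 1 ^ 2 * X 2, 2 * X 0,
        -(2 * X 1 * X 2), -(X 1 ^ 2)} ⊔ Ideal.span {X 1} ∧
    (Ideal.span {(X 0 : MvPolynomial (Fin (n + 3)) K) ^ 2 - X 1 ^ 2 * X 2, 2 * X 0,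
        -(2 * X 1 * X 2), -(X 1 ^ 2)}).colon
        ((Ideal.span {(X 1 : MvPolynomial (Fin (n + 3)) K)} : Ideal _) : Set _) =
      Ideal.span {X 0, X 1, X 2} := by
  have h2 : (C (2⁻¹ : K) : MvPolynomial (Fin (n + 3)) K) * 2 = 1 := by
    rw [← map_ofNat (C (σ := Fin (n + 3)) (R := K)) 2, ← map_mul,
      inv_mul_cancel₀ (NeZero.ne 2), map_one]
  have g2 : (2 * X 0 : MvPolynomial (Fin (n + 3)) K) ∈
      Ideal.span {(X 0 : MvPolynomial (Fin (n + 3)) K) ^ 2 - X 1 ^ 2 * X 2, 2 * X 0,
        -(2 * X 1 * X 2), -(X 1 ^ 2)} :=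
    Ideal.subset_span (Set.mem_insert_of_mem _ (Set.mem_insert _ _))
  have g3 : (-(2 * X 1 * X 2) : MvPolynomial (Fin (n + 3)) K) ∈
      Ideal.span {(X 0 : MvPolynomial (Fin (n + 3)) K) ^ 2 - X 1 ^ 2 * X 2, 2 * X 0,
        -(2 * X 1 * X 2), -(X 1 ^ 2)} :=
    Ideal.subset_span (Set.mem_insert_of_mem _ (Set.mem_insert_of_mem _ (Set.mem_insert _ _)))
  have g4 : (-(X 1 ^ 2) : MvPolynomial (Fin (n + 3)) K) ∈
      Ideal.span {(X 0 : MvPolynomial (Fin (n + 3)) K) ^ 2 - X 1 ^ 2 * X 2, 2 * X 0,
        -(2 * X 1 * X 2), -(X 1 ^ 2)} :=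
    Ideal.subset_span (Set.mem_insert_of_mem _ (Set.mem_insert_of_mem _
      (Set.mem_insert_of_mem _ (Set.mem_singleton _))))
  have hu : (X 0 : MvPolynomial (Fin (n + 3)) K) ∈
      Ideal.span {(X 0 : MvPolynomial (Fin (n + 3)) K) ^ 2 - X 1 ^ 2 * X 2, 2 * X 0,
        -(2 * X 1 * X 2), -(X 1 ^ 2)} := by
    have e : (X 0 : MvPolynomial (Fin (n + 3)) K) = C (2⁻¹ : K) * (2 * X 0) := by
      linear_combination (-(X 0 : MvPolynomial (Fin (n + 3)) K)) * h2
    have := Ideal.mul_mem_left _ (C (2⁻¹ : K)) g2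
    rwa [← e] at this
  have hvw : (X 1 * X 2 : MvPolynomial (Fin (n + 3)) K) ∈
      Ideal.span {(X 0 : MvPolynomial (Fin (n + 3)) K) ^ 2 - X 1 ^ 2 * X 2, 2 * X 0,
        -(2 * X 1 * X 2), -(X 1 ^ 2)} := by
    have e : (X 1 * X 2 : MvPolynomial (Fin (n + 3)) K) =
        (-(C (2⁻¹ : K))) * (-(2 * X 1 * X 2)) := by
      linear_combination (-(X 1 * X 2 : MvPolynomial (Fin (n + 3)) K)) * h2
    have := Ideal.mul_mem_left _ (-(C (2⁻¹ : K))) g3
    rwa [← e] at this
  have hvv : (X 1 ^ 2 : MvPolynomial (Fin (n + 3)) K) ∈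
      Ideal.span {(X 0 : MvPolynomial (Fin (n + 3)) K) ^ 2 - X 1 ^ 2 * X 2, 2 * X 0,
        -(2 * X 1 * X 2), -(X 1 ^ 2)} := by
    have := Submodule.neg_mem _ g4
    rwa [neg_neg] at this
  have h10 : (1 : Fin (n + 3)) ≠ 0 := by simp [Fin.ext_iff]
  have h20 : (2 : Fin (n + 3)) ≠ 0 := by
    simp [Fin.ext_iff, Nat.mod_eq_of_lt (show 2 < n + 3 by omega)]
  have h21 : (2 : Fin (n + 3)) ≠ 1 := by
    simp [Fin.ext_iff, Nat.mod_eq_of_lt (show 2 < n + 3 by omega)]
  -- generic: generators lie in any ideal containing X0, X1*X2, X1^2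
  have gens : ∀ I : Ideal (MvPolynomial (Fin (n + 3)) K), (X 0 : MvPolynomial (Fin (n + 3)) K) ∈ I →
      (X 1 * X 2 : MvPolynomial (Fin (n + 3)) K) ∈ I → (X 1 ^ 2 : MvPolynomial (Fin (n + 3)) K) ∈ I →
      Ideal.span {(X 0 : MvPolynomial (Fin (n + 3)) K) ^ 2 - X 1 ^ 2 * X 2, 2 * X 0,
        -(2 * X 1 * X 2), -(X 1 ^ 2)} ≤ I := by
    intro I a0 a12 a11
    rw [Ideal.span_le]
    rintro x (rfl | rfl | rfl | rfl)
    · have e : (X 0 : MvPolynomial (Fin (n + 3)) K) ^ 2 - X 1 ^ 2 * X 2 =
          X 0 * X 0 - X 2 * X 1 ^ 2 := by ring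
      rw [SetLike.mem_coe, e]
      exact I.sub_mem (I.mul_mem_left _ a0) (I.mul_mem_left _ a11)
    · exact I.mul_mem_left _ a0
    · have e : (-(2 * X 1 * X 2) : MvPolynomial (Fin (n + 3)) K) = (-2) * (X 1 * X 2) := by ring
      rw [SetLike.mem_coe, e]
      exact I.mul_mem_left _ a12
    · exact I.neg_mem a11
  constructor
  · apply le_antisymm
    · rw [Ideal.span_le]
      rintro x (rfl | rfl)
      · exact Ideal.mem_sup_left hu
      · exact Ideal.mem_sup_right (Ideal.subset_span (Set.mem_singleton _))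
    · have a0 : (X 0 : MvPolynomial (Fin (n + 3)) K) ∈
          Ideal.span {(X 0 : MvPolynomial (Fin (n + 3)) K), X 1} :=
        Ideal.subset_span (Set.mem_insert _ _)
      have a1 : (X 1 : MvPolynomial (Fin (n + 3)) K) ∈
          Ideal.span {(X 0 : MvPolynomial (Fin (n + 3)) K), X 1} :=
        Ideal.subset_span (Set.mem_insert_of_mem _ (Set.mem_singleton _))
      apply sup_le
      · apply gens _ a0
        · exact Ideal.mul_mem_right _ _ a1
        · rw [pow_two]; exact Ideal.mul_mem_left _ _ a1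
      · rw [Ideal.span_le]
        rintro x rfl
        exact a1
  · apply le_antisymm
    · intro f hf
      rw [Ideal.mem_colon_span_singleton] at hf
      have m0 : (X 0 : MvPolynomial (Fin (n + 3)) K) ∈
          Ideal.span ((fun s => monomial s (1 : K)) '' ({Finsupp.single 0 1,
            Finsupp.single 1 1 + Finsupp.single 2 1, Finsupp.single 1 2} :
            Set (Fin (n + 3) →₀ ℕ))) :=
        Ideal.subset_span ⟨Finsupp.single 0 1, Set.mem_insert _ _, rfl⟩
      have m1 : (X 1 * X 2 : MvPolynomial (Fin (n + 3)) K) ∈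
          Ideal.span ((fun s => monomial s (1 : K)) '' ({Finsupp.single 0 1,
            Finsupp.single 1 1 + Finsupp.single 2 1, Finsupp.single 1 2} :
            Set (Fin (n + 3) →₀ ℕ))) := by
        refine Ideal.subset_span ⟨Finsupp.single 1 1 + Finsupp.single 2 1,
          Set.mem_insert_of_mem _ (Set.mem_insert _ _), ?_⟩
        show monomial (Finsupp.single 1 1 + Finsupp.single 2 1) (1 : K) = X 1 * X 2
        rw [X, X, monomial_mul, one_mul]
      have m2 : (X 1 ^ 2 : MvPolynomial (Fin (n + 3)) K) ∈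
          Ideal.span ((fun s => monomial s (1 : K)) '' ({Finsupp.single 0 1,
            Finsupp.single 1 1 + Finsupp.single 2 1, Finsupp.single 1 2} :
            Set (Fin (n + 3) →₀ ℕ))) := by
        refine Ideal.subset_span ⟨Finsupp.single 1 2,
          Set.mem_insert_of_mem _ (Set.mem_insert_of_mem _ (Set.mem_singleton _)), ?_⟩
        show monomial (Finsupp.single 1 2) (1 : K) = X 1 ^ 2
        rw [X_pow_eq_monomial]
      have hf' := gens _ m0 m1 m2 hf
      rw [mem_ideal_span_monomial_image] at hf'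
      have e3 : Ideal.span {(X 0 : MvPolynomial (Fin (n + 3)) K), X 1, X 2} =
          Ideal.span (X '' ({0, 1, 2} : Set (Fin (n + 3)))) := by
        rw [Set.image_insert_eq, Set.image_insert_eq, Set.image_singleton]
      rw [e3, mem_ideal_span_X_image]
      intro m hm
      have hm' : m + Finsupp.single 1 1 ∈ (f * X 1).support := by
        rw [support_mul_X]
        exact Finset.mem_map_of_mem _ hm
      obtain ⟨si, hsi, hle⟩ := hf' _ hm'
      rcases hsi with rfl | rfl | rfl
      · refine ⟨0, by simp, ?_⟩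
        have := hle 0
        simp [Finsupp.single_apply, h10, h20, h21, h10.symm, h20.symm, h21.symm] at this
        omega
      · refine ⟨2, by simp, ?_⟩
        have := hle 2
        simp [Finsupp.single_apply, h10, h20, h21, h10.symm, h20.symm, h21.symm] at this
        omega
      · refine ⟨1, by simp, ?_⟩
        have := hle 1
        simp [Finsupp.single_apply, h10, h20, h21, h10.symm, h20.symm, h21.symm] at this
        omega
    · rw [Ideal.span_le]
      rintro x (rfl | rfl | rfl)
      · rw [SetLike.mem_coe, Ideal.mem_colon_span_singleton]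
        exact Ideal.mul_mem_right _ _ hu
      · rw [SetLike.mem_coe, Ideal.mem_colon_span_singleton, ← pow_two]
        exact hvv
      · have e : (X 2 * X 1 : MvPolynomial (Fin (n + 3)) K) = X 1 * X 2 := mul_comm _ _
        rw [SetLike.mem_coe, Ideal.mem_colon_span_singleton, e]
        exact hvw

/-- Let K be a field in which 2 ≠ 0, n ≥ 0, S = K[u, v, w, t_1, …, t_n] (u, v, w the first three
variables), h = u^2 - v^2 w the equation of the pinch-point model, and Jac the ideal generated by h
and its three partial derivatives 2u, -2vw, -v^2, which cuts out the scheme-theoretic singular locus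
of {h = 0}. Then the ideal (u, v) of the double locus is Jac + (v), and the colon ideal of Jac by
(v) is (u, v, w). Consequently (u, v)/Jac, the ideal of the double locus restricted to the singular
locus, is an invertible sheaf on the pinch locus u = v = w = 0: it is free of rank one over K[t_1,
…, t_n] on the class of v. (The text states this for every semi-smooth variety and reduces to this
model; K algebraically closed is not needed for the model computation.) -/
theorem result
    (K : Type u) [Field K] [NeZero (2 : K)] (n : ℕ) :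
    letI u : MvPolynomial (Fin (n + 3)) K := MvPolynomial.X 0
    letI v : MvPolynomial (Fin (n + 3)) K := MvPolynomial.X 1
    letI w : MvPolynomial (Fin (n + 3)) K := MvPolynomial.X 2
    letI Jac : Ideal (MvPolynomial (Fin (n + 3)) K) :=
      Ideal.span {u ^ 2 - v ^ 2 * w, 2 * u, -(2 * v * w), -(v ^ 2)}
    Ideal.span {u, v} = Jac ⊔ Ideal.span {v} ∧ Jac.colon (Ideal.span {v}) = Ideal.span {u, v, w} :=
  aux K n

end Groth.Agent.S18125
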