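import Groth.Statements.S18127
import Mathlib

set_option autoImplicit false
universe u
open LocAlg

namespace Groth.Agent.S18127

/-- Let R be a local ring with maximal ideal m and algebraically closed residue field, and M an n × n
matrix over R whose reduction modulo m has rank at most r. Then the determinant of M lies in m^(n −
r). (The published setting is the local ring of germs of holomorphic functions at a point of a
complex manifold, where this says that the determinant vanishes to order at least n − r at a point
where the matrix has rank at most r.) -/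
theorem result
    {R : Type u} [CommRing R] [IsLocalRing R] [IsAlgClosed (IsLocalRing.ResidueField R)]
    {n : ℕ} (M : Matrix (Fin n) (Fin n) R) (r : ℕ)
    (hr : (M.map (IsLocalRing.residue R)).rank ≤ r) :
    M.det ∈ IsLocalRing.maximalIdeal R ^ (n - r) := by
  classical
  set Mb : Matrix (Fin n) (Fin n) (IsLocalRing.ResidueField R) :=
    M.map (IsLocalRing.residue R) with hMb
  obtain ⟨Vb, Ub, e, hV, hU, hN⟩ := Matrix.exists_rank_normal_form Mb
  have hlift : ∀ (X : Matrix (Fin n) (Fin n) (IsLocalRing.ResidueField R)),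
      ∃ Y : Matrix (Fin n) (Fin n) R, Y.map (IsLocalRing.residue R) = X := by
    intro X
    refine ⟨fun i j => (IsLocalRing.residue_surjective (X i j)).choose, ?_⟩
    ext i j
    exact (IsLocalRing.residue_surjective (X i j)).choose_spec
  obtain ⟨V, hV'⟩ := hlift Vb
  obtain ⟨U, hU'⟩ := hlift Ub
  have hVu : IsUnit V.det := by
    rw [← isUnit_map_iff (IsLocalRing.residue R), RingHom.map_det, RingHom.mapMatrix_apply, hV']
    exact (Matrix.isUnit_iff_isUnit_det _).1 hV
  have hUu : IsUnit U.det := by
    rw [← isUnit_map_iff (IsLocalRing.residue R), RingHom.map_det, RingHom.mapMatrix_apply, hU']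
    exact (Matrix.isUnit_iff_isUnit_det _).1 hU
  set P := V * M * U with hP
  have hPmap : P.map (IsLocalRing.residue R) = (Matrix.fromBlocks 1 0 0 0).submatrix e e := by
    rw [hP, Matrix.map_mul, Matrix.map_mul, hV', hU', ← hMb]
    exact hN
  have hdet : P.det ∈ IsLocalRing.maximalIdeal R ^ (n - r) := by
    rw [Matrix.det_apply']
    apply Ideal.sum_mem
    intro σ _
    apply Ideal.mul_mem_left
    rw [← Equiv.prod_comp e.symm (fun i => P (σ i) i), Fintype.prod_sum_type]
    apply Ideal.mul_mem_left
    have h1 : ∏ b : Fin (Fintype.card (Fin n) - Mb.rank),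
        P (σ (e.symm (Sum.inr b))) (e.symm (Sum.inr b)) ∈
          IsLocalRing.maximalIdeal R ^ (Fintype.card (Fin n) - Mb.rank) := by
      have h2 := Ideal.prod_mem_prod (s := (Finset.univ : Finset (Fin (Fintype.card (Fin n) - Mb.rank))))
        (I := fun _ => IsLocalRing.maximalIdeal R)
        (x := fun b => P (σ (e.symm (Sum.inr b))) (e.symm (Sum.inr b))) (fun b _ => ?_)
      · simpa using h2
      · rw [← IsLocalRing.residue_eq_zero_iff]
        have h3 := congrFun (congrFun hPmap (σ (e.symm (Sum.inr b)))) (e.symm (Sum.inr b))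
        rw [Matrix.map_apply, Matrix.submatrix_apply, Equiv.apply_symm_apply] at h3
        rw [h3]
        cases e (σ (e.symm (Sum.inr b))) <;> simp
    refine Ideal.pow_le_pow_right ?_ h1
    rw [Fintype.card_fin]
    omega
  obtain ⟨v, hv⟩ := hVu
  obtain ⟨u, hu⟩ := hUu
  have hM : M.det = ↑v⁻¹ * ↑u⁻¹ * P.det := by
    rw [hP, Matrix.det_mul, Matrix.det_mul, ← hv, ← hu]
    have h1 : (↑v⁻¹ : R) * ↑v = 1 := Units.inv_mul v
    have h2 : (↑u⁻¹ : R) * ↑u = 1 := Units.inv_mul u
    calc M.det = ((↑v⁻¹ : R) * ↑v) * ((↑u⁻¹ : R) * ↑u) * M.det := by rw [h1, h2]; ring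
      _ = _ := by ring
  rw [hM]
  exact Ideal.mul_mem_left _ _ hdet

end Groth.Agent.S18127
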