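import Groth.Statements.S18153
import Mathlib

set_option autoImplicit false
universe u w
open FrobAlg

namespace Groth.Agent.S18153

theorem det_zero_of_colsum {R : Type*} [CommRing R] {m : ℕ} (hm : 0 < m)
    (N : Matrix (Fin m) (Fin m) R) (h : ∀ j, ∑ i, N i j = 0) : N.det = 0 := by
  have h1 : Matrix.vecMul (1 : Fin m → R) N = 0 := by
    ext j
    simp [Matrix.vecMul, dotProduct, h j]
  have h2 : Matrix.vecMul (1 : Fin m → R) (N * N.adjugate) = 0 := by
    rw [← Matrix.vecMul_vecMul, h1, Matrix.zero_vecMul]
  rw [Matrix.mul_adjugate, Matrix.vecMul_smul, Matrix.vecMul_one] at h2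
  have := congrFun h2 ⟨0, hm⟩
  simpa using this

theorem prod_monomial' {τ R : Type*} [CommSemiring R] {ι : Type*} (s : Finset ι)
    (e : ι → τ →₀ ℕ) (c : ι → R) :
    ∏ i ∈ s, MvPolynomial.monomial (e i) (c i)
      = MvPolynomial.monomial (∑ i ∈ s, e i) (∏ i ∈ s, c i) := by
  classical
  induction s using Finset.induction_on with
  | empty => simp
  | insert a s ha ih =>
    rw [Finset.prod_insert ha, Finset.sum_insert ha, Finset.prod_insert ha, ih,
      MvPolynomial.monomial_mul]

open MvPolynomial in
theorem mono_case (p : ℕ) [Fact p.Prime] (R : Type*) [CommRing R] [CharP R p]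
    {m : ℕ} (hm : 0 < m) (σ : Type*) (v : Fin m → ((Fin m ⊕ σ) →₀ ℕ)) :
    MvPolynomial.coeff
        (Finsupp.sumElim (Finsupp.equivFunOnFinite.symm fun _ : Fin m => p - 1) (0 : σ →₀ ℕ))
        (Matrix.of fun i j : Fin m =>
          MvPolynomial.pderiv (Sum.inl j) (MvPolynomial.monomial (v i) (1 : R))).det = 0 := by
  classical
  set μ : (Fin m ⊕ σ) →₀ ℕ :=
    Finsupp.sumElim (Finsupp.equivFunOnFinite.symm fun _ : Fin m => p - 1) (0 : σ →₀ ℕ) with hμ
  set A : (Fin m ⊕ σ) →₀ ℕ := ∑ i, v i with hA
  set one' : (Fin m ⊕ σ) →₀ ℕ := ∑ i : Fin m, Finsupp.single (Sum.inl i) 1 with hone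
  set N : Matrix (Fin m) (Fin m) R := Matrix.of fun i j => ((v i (Sum.inl j) : ℕ) : R) with hN
  have key : ∀ π : Equiv.Perm (Fin m),
      coeff μ (∏ i, (Matrix.of fun i j : Fin m =>
          pderiv (Sum.inl j) (monomial (v i) (1 : R))) (π i) i)
        = (if A = μ + one' then 1 else 0) * ∏ i, N (π i) i := by
    intro π
    simp only [Matrix.of_apply, MvPolynomial.pderiv_monomial, one_mul]
    rw [prod_monomial', MvPolynomial.coeff_monomial]
    by_cases h0 : ∏ i, ((v (π i) (Sum.inl i) : ℕ) : R) = 0
    · simp [hN, h0]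
    · have hpos : ∀ i, v (π i) (Sum.inl i) ≠ 0 := by
        intro i hi
        apply h0
        apply Finset.prod_eq_zero (Finset.mem_univ i)
        simp [hi]
      have hsum : (∑ i, (v (π i) - Finsupp.single (Sum.inl i) 1)) + one' = A := by
        rw [hone, ← Finset.sum_add_distrib]
        have h1 : ∀ i, v (π i) - Finsupp.single (Sum.inl i) 1 + Finsupp.single (Sum.inl i) 1
            = v (π i) := by
          intro i
          apply tsub_add_cancel_of_le
          rw [Finsupp.single_le_iff]
          exact Nat.one_le_iff_ne_zero.mpr (hpos i)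
        rw [Finset.sum_congr rfl (fun i _ => h1 i), hA]
        exact Equiv.sum_comp π v
      have hiff : (∑ i, (v (π i) - Finsupp.single (Sum.inl i) 1) = μ) ↔ (A = μ + one') := by
        rw [← hsum]
        constructor
        · intro h; rw [h]
        · intro h; exact add_right_cancel h
      simp only [hiff]
      split_ifs <;> simp [hN]
  rw [Matrix.det_apply, MvPolynomial.coeff_sum]
  have hterm : ∀ π ∈ (Finset.univ : Finset (Equiv.Perm (Fin m))),
      coeff μ (Equiv.Perm.sign π • ∏ i, (Matrix.of fun i j : Fin m =>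
          pderiv (Sum.inl j) (monomial (v i) (1 : R))) (π i) i)
        = (if A = μ + one' then 1 else 0) * (Equiv.Perm.sign π • ∏ i, N (π i) i) := by
    intro π _
    rcases Int.units_eq_one_or (Equiv.Perm.sign π) with h | h
    · rw [h, one_smul, one_smul, key π]
    · rw [h, Units.neg_smul, one_smul, Units.neg_smul, one_smul, MvPolynomial.coeff_neg, key π,
        mul_neg]
  rw [Finset.sum_congr rfl hterm, ← Finset.mul_sum, ← Matrix.det_apply]
  split_ifs with hAeq
  · rw [one_mul]
    apply det_zero_of_colsum hm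
    intro j
    simp only [hN, Matrix.of_apply]
    rw [← Nat.cast_sum]
    have h1 : A (Sum.inl j) = ∑ i, v i (Sum.inl j) := by
      rw [hA, Finsupp.finsetSum_apply]
    have h2 : ∑ i, v i (Sum.inl j) = p := by
      rw [← h1, hAeq]
      have hp := (Fact.out : p.Prime).one_le
      have h3 : one' (Sum.inl j) = 1 := by
        rw [hone, Finsupp.finsetSum_apply]
        simp [Finsupp.single_apply]
      have h4 : μ (Sum.inl j) = p - 1 := by
        rw [hμ]; simp
      rw [Finsupp.add_apply, h3, h4]
      omega
    rw [h2, CharP.cast_eq_zero]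
  · rw [zero_mul]

open MvPolynomial in
theorem main (p : ℕ) [Fact p.Prime] (R : Type*) [CommRing R] [CharP R p]
    {m : ℕ} (hm : 0 < m) (σ : Type*) (f : Fin m → MvPolynomial (Fin m ⊕ σ) R) :
    MvPolynomial.coeff
        (Finsupp.sumElim (Finsupp.equivFunOnFinite.symm fun _ : Fin m => p - 1) (0 : σ →₀ ℕ))
        (Matrix.of fun i j : Fin m => MvPolynomial.pderiv (Sum.inl j) (f i)).det = 0 := by
  classical
  set μ : (Fin m ⊕ σ) →₀ ℕ :=
    Finsupp.sumElim (Finsupp.equivFunOnFinite.symm fun _ : Fin m => p - 1) (0 : σ →₀ ℕ) with hμ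
  let rowLin : MvPolynomial (Fin m ⊕ σ) R →ₗ[R] (Fin m → MvPolynomial (Fin m ⊕ σ) R) :=
    LinearMap.pi (fun j => ((MvPolynomial.pderiv (R := R) (Sum.inl j : Fin m ⊕ σ)) :
      MvPolynomial (Fin m ⊕ σ) R →ₗ[R] MvPolynomial (Fin m ⊕ σ) R))
  let Φ : MultilinearMap R (fun _ : Fin m => MvPolynomial (Fin m ⊕ σ) R) R :=
    (MvPolynomial.lcoeff R μ).compMultilinearMap
      (((Matrix.detRowAlternating (n := Fin m)
        (R := MvPolynomial (Fin m ⊕ σ) R)).toMultilinearMap.restrictScalars R).compLinearMap
          (fun _ => rowLin))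
  have hΦ : ∀ g : Fin m → MvPolynomial (Fin m ⊕ σ) R,
      Φ g = MvPolynomial.coeff μ
        (Matrix.of fun i j : Fin m => MvPolynomial.pderiv (Sum.inl j) (g i)).det := fun g => rfl
  have hΦ0 : Φ = 0 := by
    apply Module.Basis.ext_multilinear (fun _ => MvPolynomial.basisMonomials (Fin m ⊕ σ) R)
    intro v
    rw [hΦ]
    simp only [MvPolynomial.coe_basisMonomials, MultilinearMap.zero_apply]
    exact mono_case p R hm σ v
  rw [← hΦ f, hΦ0]
  rfl

/-- Let R be a commutative ring of prime characteristic p and f_1, …, f_m (m ≥ 1) polynomials over R in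
the variables t_1, …, t_m and a further, possibly empty, family of variables s_a. Then in the m × m
Jacobian determinant det(∂f_i/∂t_j) with respect to the t-variables, the coefficient of the monomial
t_1^{p-1} ⋯ t_m^{p-1} (all s-exponents zero) vanishes. (In the source this is the claim, for formal
power series in n ≥ m variables over the base field, to which the proof of the proposition reduces;
the coefficient in question only involves truncations of the f_i, so the polynomial form over any
ring of characteristic p is the same assertion.) -/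
theorem result
    (p : ℕ) [Fact p.Prime] (R : Type u) [CommRing R] [CharP R p]
    {m : ℕ} (hm : 0 < m) (σ : Type w) (f : Fin m → MvPolynomial (Fin m ⊕ σ) R) :
    MvPolynomial.coeff
        (Finsupp.sumElim (Finsupp.equivFunOnFinite.symm fun _ : Fin m => p - 1) (0 : σ →₀ ℕ))
        (Matrix.of fun i j : Fin m => MvPolynomial.pderiv (Sum.inl j) (f i)).det = 0 := by
  exact main p R hm σ f

end Groth.Agent.S18153
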