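import Mathlib
import Groth.Agent.H11.EtLiftFrob
import Groth.Agent.H2.W2
import Groth.Statements.S18155

set_option autoImplicit false
universe u v
open FrobAlg

namespace Groth.Agent.S18155

/-- Let k be an algebraically closed field of characteristic p, A a commutative k-algebra and C an étale
A-algebra. If A admits a flat lifting over W_2(k) together with a lift of Frobenius, then so does C.
(The source states this for an étale cover Y → X of smooth varieties over k; its argument uses only
that Y is étale over X, and the affine case is stated here with no smoothness or finiteness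
hypothesis on A over k.) -/
theorem result
    (p : ℕ) [Fact p.Prime] (k : Type u) [Field k] [IsAlgClosed k] [CharP k p]
    (A C : Type v) [CommRing A] [CommRing C] [Algebra k A] [Algebra k C]
    [Algebra A C] [IsScalarTower k A C] [Algebra.Etale A C]
    (hA : FrobAlg.IsFLiftable p k A) : FrobAlg.IsFLiftable p k C := by

  have hp : p.Prime := Fact.out
  obtain ⟨B, _, ι, π, Φ, h⟩ := hA
  haveI : ExpChar k p := ExpChar.prime hp
  haveI : PerfectRing k p := PerfectField.toPerfectRing p
  have hker := Groth.Agent.H2.W2.lift_ker p k h.toIsLift
  have hJ : (RingHom.ker π) ^ 2 = ⊥ := by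
    rw [hker, Ideal.span_singleton_pow, sq, Groth.Agent.H2.W2.natCast_mul_natCast p k ι]
    exact Ideal.span_singleton_eq_bot.2 rfl
  have hpC : (p : C) = 0 := by
    rw [← map_natCast (algebraMap k C), CharP.cast_eq_zero, map_zero]
  obtain ⟨S, _, _, πC, ΦC, hEt, hsurj, hkerC, hcomm, hsemi, hredC⟩ :=
    Groth.Agent.H11.EtLiftFrob.main π h.surj hJ p hp hpC Φ h.red
  refine ⟨S, inferInstance, (algebraMap B S).comp ι, πC, ΦC, ?_⟩
  exact
    { flat := RingHom.Flat.comp h.flat (RingHom.flat_algebraMap_iff.2 inferInstance)
      surj := hsurj
      ker_eq := by rw [hkerC, h.ker_eq, Ideal.map_map]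
      comm := by
        rw [← RingHom.comp_assoc, hcomm, RingHom.comp_assoc, h.comm, ← RingHom.comp_assoc,
          ← IsScalarTower.algebraMap_eq]
      semi := by
        rw [← RingHom.comp_assoc, hsemi, RingHom.comp_assoc, h.semi, RingHom.comp_assoc]
      red := hredC }

end Groth.Agent.S18155
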