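import Groth.Statements.S18188
import Mathlib

set_option autoImplicit false
universe u
open OrbRR

namespace Groth.Agent.S18188

/-- Let K be a field in which 6 ≠ 0, let j < N be natural numbers (so N ≥ 1), and let ζ ∈ K be a
primitive N-th root of unity. Then the sum over i = 1, …, N − 1 of ζ^{ij} / (2 − ζ^i − ζ^{−i})
equals j(j − N)/2 + (N² − 1)/12. (The published setting is characteristic zero; the identity is
stated here over any field of characteristic different from 2 and 3, where the published proof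
applies unchanged: a field containing a primitive N-th root of unity has characteristic prime to N,
and each denominator 2 − ζ^i − ζ^{−i} = −(1 − ζ^i)²/ζ^i with 0 < i < N is nonzero. In
characteristics 2 and 3 the right-hand side has no meaning.) -/
theorem result (K : Type u) [Field K] (h6 : (6 : K) ≠ 0)
    (N j : ℕ) (hj : j < N) (ζ : K) (hζ : IsPrimitiveRoot ζ N) :
    ∑ i ∈ Finset.Ioo 0 N, ζ ^ (i * j) / (2 - ζ ^ i - (ζ ^ i)⁻¹) =
      (j : K) * ((j : K) - (N : K)) / 2 + ((N : K) ^ 2 - 1) / 12 := by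
  classical
  have hNpos : 0 < N := by omega
  have h2 : (2 : K) ≠ 0 := by
    intro h
    apply h6
    have h3 : (6 : K) = 2 * 3 := by norm_num
    rw [h3, h, zero_mul]
  have h12 : (12 : K) ≠ 0 := by
    have h3 : (12 : K) = 2 * 6 := by norm_num
    rw [h3]
    exact mul_ne_zero h2 h6
  haveI : NeZero N := ⟨by omega⟩
  have hN : (N : K) ≠ 0 := (hζ.neZero').ne
  have hζ0 : ζ ≠ 0 := hζ.ne_zero (by omega)
  have hDx : ∀ i : ℕ, (2 - ζ ^ i - (ζ ^ i)⁻¹) * ζ ^ i = 2 * ζ ^ i - (ζ ^ i) ^ 2 - 1 := by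
    intro i
    have hx0 : ζ ^ i ≠ 0 := pow_ne_zero _ hζ0
    field_simp
  have hDne : ∀ i ∈ Finset.Ioo 0 N, (2 - ζ ^ i - (ζ ^ i)⁻¹) ≠ 0 := by
    intro i hi
    rw [Finset.mem_Ioo] at hi
    have hx1 : ζ ^ i ≠ 1 := hζ.pow_ne_one_of_pos_of_lt (by omega) hi.2
    intro h
    apply hx1
    have h3 : (ζ ^ i - 1) ^ 2 = 0 := by
      have h4 := hDx i
      rw [h, zero_mul] at h4
      linear_combination h4
    exact sub_eq_zero.mp ((pow_eq_zero_iff (two_ne_zero)).mp h3)
  set g : ℕ → K := fun t => ∑ i ∈ Finset.Ioo 0 N, ζ ^ (i * t) / (2 - ζ ^ i - (ζ ^ i)⁻¹) with hg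
  change g j = _
  have geom : ∀ x : K, x ≠ 1 → x ^ N = 1 → ∑ t ∈ Finset.range N, x ^ t = 0 := by
    intro x hx1 hxN
    have h3 := mul_geom_sum x N
    rw [hxN, sub_self] at h3
    exact (mul_eq_zero.mp h3).resolve_left (sub_ne_zero.mpr hx1)
  have hpowN : ∀ s : ℕ, (ζ ^ s) ^ N = 1 := by
    intro s
    rw [← pow_mul, mul_comm, pow_mul, hζ.pow_eq_one, one_pow]
  have sd : ∀ t, g (t + 2) - 2 * g (t + 1) + g t =
      - ∑ i ∈ Finset.Ioo 0 N, ζ ^ (i * (t + 1)) := by
    intro t
    simp only [hg]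
    rw [Finset.mul_sum, ← Finset.sum_sub_distrib, ← Finset.sum_add_distrib,
      ← Finset.sum_neg_distrib]
    apply Finset.sum_congr rfl
    intro i hi
    have hd := hDne i hi
    have hdx := hDx i
    rw [pow_mul, pow_mul, pow_mul]
    generalize ζ ^ i = x at hd hdx ⊢
    generalize (2 - x - x⁻¹) = d at hd hdx ⊢
    have h3 : x ^ (t + 2) - 2 * x ^ (t + 1) + x ^ t = -x ^ (t + 1) * d := by
      linear_combination (x ^ t) * hdx
    have h4 : x ^ (t + 2) / d - 2 * (x ^ (t + 1) / d) + x ^ t / d =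
        (x ^ (t + 2) - 2 * x ^ (t + 1) + x ^ t) / d := by ring
    rw [h4, h3, mul_div_cancel_right₀ _ hd]
  have sumIoo : ∀ s, 0 < s → s < N → ∑ i ∈ Finset.Ioo 0 N, ζ ^ (i * s) = -1 := by
    intro s hs0 hsN
    have hx1 : ζ ^ s ≠ 1 := hζ.pow_ne_one_of_pos_of_lt (by omega) hsN
    have h0 := geom (ζ ^ s) hx1 (hpowN s)
    rw [Finset.range_eq_Ico, Finset.sum_eq_sum_Ico_succ_bot hNpos, Finset.Ico_add_one_left_eq_Ioo,
      pow_zero] at h0
    have h3 : ∑ i ∈ Finset.Ioo 0 N, ζ ^ (i * s) = ∑ i ∈ Finset.Ioo 0 N, (ζ ^ s) ^ i := by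
      apply Finset.sum_congr rfl
      intro i _
      rw [← pow_mul, mul_comm]
    rw [h3]
    linear_combination h0
  set H : ℕ → K := fun t => 2 * g t - (t : K) * ((t : K) - N) with hH
  have Hsd : ∀ t, t + 1 < N → H (t + 2) = 2 * H (t + 1) - H t := by
    intro t ht
    have h1 := sd t
    rw [sumIoo (t + 1) (by omega) ht, neg_neg] at h1
    simp only [hH]
    push_cast
    linear_combination 2 * h1
  have Haff : ∀ t, t ≤ N → H t = H 0 + (t : K) * (H 1 - H 0) := by
    intro t
    induction t using Nat.strong_induction_on with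
    | _ t ih =>
      intro ht
      rcases t with _ | _ | t
      · simp
      · push_cast; ring
      · have h1 := ih (t + 1) (by omega) (by omega)
        have h0 := ih t (by omega) (by omega)
        rw [Hsd t (by omega), h1, h0]
        push_cast
        ring
  have hgN : g N = g 0 := by
    simp only [hg]
    apply Finset.sum_congr rfl
    intro i _
    rw [pow_mul, hpowN, mul_zero, pow_zero]
  have hHN : H N = H 0 := by
    simp only [hH, hgN]
    push_cast
    ring
  have hδ : H 1 - H 0 = 0 := by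
    have h1 := Haff N le_rfl
    rw [hHN] at h1
    have h3 : (N : K) * (H 1 - H 0) = 0 := by linear_combination -h1
    exact (mul_eq_zero.mp h3).resolve_left hN
  have Hconst : ∀ t, t ≤ N → 2 * g t = (t : K) * ((t : K) - N) + 2 * g 0 := by
    intro t ht
    have h1 := Haff t ht
    rw [hδ, mul_zero, add_zero] at h1
    simp only [hH] at h1
    push_cast at h1
    linear_combination h1
  have sumg : ∑ t ∈ Finset.range N, g t = 0 := by
    simp only [hg]
    rw [Finset.sum_comm]
    apply Finset.sum_eq_zero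
    intro i hi
    rw [← Finset.sum_div]
    have hi' := Finset.mem_Ioo.mp hi
    have h3 : ∑ t ∈ Finset.range N, ζ ^ (i * t) = 0 := by
      have hx1 : ζ ^ i ≠ 1 := hζ.pow_ne_one_of_pos_of_lt (by omega) hi'.2
      have h4 := geom (ζ ^ i) hx1 (hpowN i)
      simpa [pow_mul] using h4
    rw [h3, zero_div]
  have hQ : ∀ n : ℕ, 6 * ∑ t ∈ Finset.range n, (t : K) * ((t : K) - N) =
      (n : K) * ((n : K) - 1) * (2 * (n : K) - 1) - 3 * (N : K) * (n : K) * ((n : K) - 1) := by
    intro n
    induction n with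
    | zero => simp
    | succ n ih =>
      rw [Finset.sum_range_succ, mul_add, ih]
      push_cast
      ring
  have hsum2 : ∑ t ∈ Finset.range N, (t : K) * ((t : K) - N) + (N : K) * (2 * g 0) = 0 := by
    have h1 : ∑ t ∈ Finset.range N, (2 * g t) = 0 := by
      rw [← Finset.mul_sum, sumg, mul_zero]
    have h3 : ∑ t ∈ Finset.range N, (2 * g t) =
        ∑ t ∈ Finset.range N, ((t : K) * ((t : K) - N) + 2 * g 0) := by
      apply Finset.sum_congr rfl
      intro t ht
      exact Hconst t (le_of_lt (Finset.mem_range.mp ht))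
    rw [h3, Finset.sum_add_distrib, Finset.sum_const, Finset.card_range, nsmul_eq_mul] at h1
    exact h1
  have hg0 : 12 * g 0 = (N : K) ^ 2 - 1 := by
    apply mul_left_cancel₀ hN
    have h1 := hQ N
    linear_combination 6 * hsum2 - h1
  have h5 := Hconst j (le_of_lt hj)
  rw [div_add_div _ _ h2 h12, eq_div_iff (mul_ne_zero h2 h12)]
  linear_combination 12 * h5 + 2 * hg0

end Groth.Agent.S18188
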