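import Groth.Statements.S18189
import Mathlib
import Groth.Agent.S18188

set_option autoImplicit false
open OrbRR

namespace Groth.Agent.S18189

/-- Let N ≥ 1 be a natural number, let ζ ∈ ℂ be a primitive N-th root of unity, and put f(i) = i(i −
N)/2 + (N² − 1)/12 for 0 ≤ i < N. For every natural number m the complex number ε_m = (1/N)
∑_{i=0}^{N−1} f(i) ζ^{mi}, an eigenvalue of the symmetric circulant N × N matrix with (i, j) entry
f(j − i)/N, is real and nonnegative. -/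
theorem result (N : ℕ) (hN : 0 < N) (ζ : ℂ)
    (hζ : IsPrimitiveRoot ζ N) (m : ℕ) :
    (∑ i ∈ Finset.range N,
        ((i : ℂ) * ((i : ℂ) - (N : ℂ)) / 2 + ((N : ℂ) ^ 2 - 1) / 12) / (N : ℂ) * ζ ^ (m * i)).im = 0 ∧
    0 ≤ (∑ i ∈ Finset.range N,
        ((i : ℂ) * ((i : ℂ) - (N : ℂ)) / 2 + ((N : ℂ) ^ 2 - 1) / 12) / (N : ℂ) * ζ ^ (m * i)).re := by
  classical
  have h6 : (6 : ℂ) ≠ 0 := by norm_num
  have hNC : (N : ℂ) ≠ 0 := by exact_mod_cast hN.ne'
  have hf : ∀ i ∈ Finset.range N,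
      ((i : ℂ) * ((i : ℂ) - (N : ℂ)) / 2 + ((N : ℂ) ^ 2 - 1) / 12) =
        ∑ k ∈ Finset.Ioo 0 N, ζ ^ (k * i) / (2 - ζ ^ k - (ζ ^ k)⁻¹) := by
    intro i hi
    exact (Groth.Agent.S18188.result ℂ h6 N i (Finset.mem_range.mp hi) ζ hζ).symm
  have hpowN : ∀ s : ℕ, (ζ ^ s) ^ N = 1 := by
    intro s
    rw [← pow_mul, mul_comm, pow_mul, hζ.pow_eq_one, one_pow]
  have inner : ∀ k : ℕ, ∑ i ∈ Finset.range N, ζ ^ (k * i) * ζ ^ (m * i) =
      if N ∣ k + m then (N : ℂ) else 0 := by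
    intro k
    have h1 : ∀ i, ζ ^ (k * i) * ζ ^ (m * i) = (ζ ^ (k + m)) ^ i := by
      intro i
      rw [← pow_add, ← pow_mul]
      ring_nf
    simp only [h1]
    split_ifs with hdvd
    · have h2 : ζ ^ (k + m) = 1 := (hζ.pow_eq_one_iff_dvd _).mpr hdvd
      simp [h2]
    · have hx1 : ζ ^ (k + m) ≠ 1 := fun h => hdvd ((hζ.pow_eq_one_iff_dvd _).mp h)
      have h3 := mul_geom_sum (ζ ^ (k + m)) N
      rw [hpowN, sub_self] at h3
      exact (mul_eq_zero.mp h3).resolve_left (sub_ne_zero.mpr hx1)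
  have hE : (∑ i ∈ Finset.range N,
      ((i : ℂ) * ((i : ℂ) - (N : ℂ)) / 2 + ((N : ℂ) ^ 2 - 1) / 12) / (N : ℂ) * ζ ^ (m * i)) =
      ∑ k ∈ Finset.Ioo 0 N, (if N ∣ k + m then 1 / (2 - ζ ^ k - (ζ ^ k)⁻¹) else 0) := by
    calc (∑ i ∈ Finset.range N,
          ((i : ℂ) * ((i : ℂ) - (N : ℂ)) / 2 + ((N : ℂ) ^ 2 - 1) / 12) / (N : ℂ) * ζ ^ (m * i))
        = ∑ i ∈ Finset.range N, ∑ k ∈ Finset.Ioo 0 N,
            (ζ ^ (k * i) * ζ ^ (m * i)) / ((2 - ζ ^ k - (ζ ^ k)⁻¹) * N) := by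
          apply Finset.sum_congr rfl
          intro i hi
          rw [hf i hi, Finset.sum_div, Finset.sum_mul]
          apply Finset.sum_congr rfl
          intro k _
          rw [div_div, div_mul_eq_mul_div]
      _ = ∑ k ∈ Finset.Ioo 0 N, ∑ i ∈ Finset.range N,
            (ζ ^ (k * i) * ζ ^ (m * i)) / ((2 - ζ ^ k - (ζ ^ k)⁻¹) * N) := Finset.sum_comm
      _ = ∑ k ∈ Finset.Ioo 0 N, (if N ∣ k + m then 1 / (2 - ζ ^ k - (ζ ^ k)⁻¹) else 0) := by
          apply Finset.sum_congr rfl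
          intro k _
          rw [← Finset.sum_div, inner]
          split_ifs
          · rw [mul_comm, div_mul_eq_div_div, div_self hNC]
          · rw [zero_div]
  have hDreal : ∀ k ∈ Finset.Ioo 0 N, ∃ r : ℝ, 0 < r ∧ (2 - ζ ^ k - (ζ ^ k)⁻¹) = (r : ℂ) := by
    intro k hk
    rw [Finset.mem_Ioo] at hk
    have hx1 : ζ ^ k ≠ 1 := hζ.pow_ne_one_of_pos_of_lt (by omega) hk.2
    have hnorm : ‖ζ ^ k‖ = 1 := Complex.norm_eq_one_of_pow_eq_one (hpowN k) hN.ne'
    have hinv : (ζ ^ k)⁻¹ = (starRingEnd ℂ) (ζ ^ k) := Complex.inv_eq_conj hnorm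
    generalize ζ ^ k = x at hx1 hnorm hinv
    refine ⟨2 - 2 * x.re, ?_, ?_⟩
    · have hsq : x.re * x.re + x.im * x.im = 1 := by
        rw [← Complex.normSq_apply, Complex.normSq_eq_norm_sq, hnorm]
        norm_num
      have hle : x.re ≤ 1 := by nlinarith [mul_self_nonneg x.im, mul_self_nonneg (x.re - 1)]
      have hne : x.re ≠ 1 := by
        intro h1
        have him : x.im = 0 := by
          have h3 : x.im * x.im = 0 := by rw [h1] at hsq; linarith
          exact mul_self_eq_zero.mp h3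
        apply hx1
        apply Complex.ext <;> simp [h1, him]
      have hlt : x.re < 1 := lt_of_le_of_ne hle hne
      linarith
    · rw [hinv]
      apply Complex.ext <;> simp <;> ring
  rw [hE]
  constructor
  · rw [Complex.im_sum]
    apply Finset.sum_eq_zero
    intro k hk
    obtain ⟨r, hr, hDr⟩ := hDreal k hk
    split_ifs
    · rw [hDr, one_div, ← Complex.ofReal_inv, Complex.ofReal_im]
    · simp
  · rw [Complex.re_sum]
    apply Finset.sum_nonneg
    intro k hk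
    obtain ⟨r, hr, hDr⟩ := hDreal k hk
    split_ifs
    · rw [hDr, one_div, ← Complex.ofReal_inv, Complex.ofReal_re]
      exact (inv_pos.mpr hr).le
    · simp

end Groth.Agent.S18189
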