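import Groth.Statements.S18190
import Mathlib
-- import your own Groth.Agent.* helpers here

set_option autoImplicit false
open OrbRR

namespace Groth.Agent.S18190

/-- Let N ≥ 1 and let f : ℤ/Nℤ → ℚ be f(x) = x(x − N)/2 + (N² − 1)/12, where x is read as its
representative with 0 ≤ x < N. The real N × N matrix indexed by ℤ/Nℤ whose (i, j) entry is f(j −
i)/N, a symmetric circulant matrix, is positive semidefinite. -/
theorem result (N : ℕ) [NeZero N] :
    (Matrix.of fun i j : ZMod N =>
        ((((j - i).val : ℝ) * (((j - i).val : ℝ) - (N : ℝ))) / 2 + ((N : ℝ) ^ 2 - 1) / 12) / (N : ℝ)).PosSemidef := by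
  obtain ⟨m, rfl⟩ : ∃ m, N = m + 1 := ⟨N - 1, by have := NeZero.pos N; omega⟩
  set Nr : ℝ := ((m + 1 : ℕ) : ℝ) with hNr
  have hNr' : Nr = (m : ℝ) + 1 := by rw [hNr]; push_cast; ring
  have hNpos : 0 < Nr := by rw [hNr']; positivity
  have hne : Nr ≠ 0 := hNpos.ne'
  set c : ℝ := (Nr ^ 2 - 1) / 12 with hc
  let F : ZMod (m + 1) → ℝ := fun d => ((d.val : ℝ) * ((d.val : ℝ) - Nr)) / 2 + c
  have hF : ∀ d, F d = ((d.val : ℝ) * ((d.val : ℝ) - Nr)) / 2 + c := fun d => rfl
  have hS1 : ∀ d : ZMod (m + 1), d.val = m → (d + 1).val = 0 := by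
    intro d h
    rw [ZMod.val_add, ZMod.val_one_eq_one_mod, Nat.add_mod_mod, h, Nat.mod_self]
  have hS2 : ∀ d : ZMod (m + 1), d.val ≠ m → (d + 1).val = d.val + 1 := by
    intro d h
    have := d.val_lt
    rw [ZMod.val_add, ZMod.val_one_eq_one_mod, Nat.add_mod_mod]
    exact Nat.mod_eq_of_lt (by omega)
  have hP1 : ∀ d : ZMod (m + 1), d.val = 0 → (d - 1).val = m := by
    intro d h
    rw [sub_eq_add_neg, ZMod.val_add, ZMod.val_neg_one, h, zero_add]
    exact Nat.mod_eq_of_lt (by omega)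
  have hP2 : ∀ d : ZMod (m + 1), d.val ≠ 0 → (d - 1).val = d.val - 1 := by
    intro d h
    have := d.val_lt
    rw [sub_eq_add_neg, ZMod.val_add, ZMod.val_neg_one]
    have e : d.val + m = (d.val - 1) + (m + 1) := by omega
    rw [e, Nat.add_mod_right]
    exact Nat.mod_eq_of_lt (by omega)
  have lemA : ∀ d : ZMod (m + 1),
      F (d + 1) + F (d - 1) - 2 * F d = 1 - (if d = 0 then Nr else 0) := by
    intro d
    have hlt := d.val_lt
    rw [hF, hF, hF]
    by_cases h1 : d.val = m <;> by_cases h2 : d.val = 0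
    · have hd : d = 0 := (ZMod.val_eq_zero d).mp h2
      have hm0 : (m : ℝ) = 0 := by
        have : m = 0 := by omega
        simp [this]
      have hN1 : Nr = 1 := by rw [hNr', hm0]; ring
      rw [hS1 d h1, hP1 d h2, h2, if_pos hd, hN1, hm0]
      push_cast; ring
    · have hd : d ≠ 0 := fun h => h2 ((ZMod.val_eq_zero d).mpr h)
      rw [hS1 d h1, hP2 d h2, Nat.cast_sub (by omega), if_neg hd, h1, hNr']
      push_cast; ring
    · have hd : d = 0 := (ZMod.val_eq_zero d).mp h2
      rw [hS2 d h1, hP1 d h2, h2, if_pos hd, hNr']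
      push_cast; ring
    · have hd : d ≠ 0 := fun h => h2 ((ZMod.val_eq_zero d).mpr h)
      rw [hS2 d h1, hP2 d h2, Nat.cast_sub (by omega), if_neg hd]
      push_cast; ring
  have hG : ∀ (a c' : ℝ) (n : ℕ), ∑ v ∈ Finset.range n, (((v : ℝ) * ((v : ℝ) - a)) / 2 + c') =
      ((n : ℝ) - 1) * n * (2 * n - 1) / 12 - a * n * ((n : ℝ) - 1) / 4 + c' * n := by
    intro a c' n
    induction n with
    | zero => simp
    | succ k ih => rw [Finset.sum_range_succ, ih]; push_cast; ring
  have lemB : ∑ d : ZMod (m + 1), F d = 0 := by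
    have h1 : ∑ d : ZMod (m + 1), F d =
        ∑ v ∈ Finset.range (m + 1), (((v : ℝ) * ((v : ℝ) - Nr)) / 2 + c) :=
      Fin.sum_univ_eq_sum_range (fun v => (((v : ℝ) * ((v : ℝ) - Nr)) / 2 + c)) (m + 1)
    rw [h1, hG, hc, hNr']; push_cast; ring
  have hsymm : ∀ d : ZMod (m + 1), F (-d) = F d := by
    intro d
    by_cases hd : d = 0
    · rw [hd, neg_zero]
    · rw [hF, hF, ZMod.neg_val, if_neg hd, Nat.cast_sub (le_of_lt d.val_lt), ← hNr]
      ring
  show (Matrix.of fun i j : ZMod (m + 1) => F (j - i) / Nr).PosSemidef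
  refine Matrix.PosSemidef.of_dotProduct_mulVec_nonneg ?_ ?_
  · ext i j
    simp only [Matrix.conjTranspose_apply, Matrix.of_apply, star_trivial]
    rw [← neg_sub j i, hsymm]
  · intro x
    have hsx : star x = x := by ext i; simp
    rw [hsx]
    let y : ZMod (m + 1) → ℝ := fun i => ∑ j, F (j - i) / Nr * x j
    have hy : ∀ i, y i = ∑ j, F (j - i) / Nr * x j := fun i => rfl
    show 0 ≤ ∑ i, x i * y i
    have hL : ∀ i, 2 * y i - y (i + 1) - y (i - 1) = x i - (∑ j, x j) / Nr := by
      intro i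
      rw [hy, hy, hy, Finset.mul_sum, ← Finset.sum_sub_distrib, ← Finset.sum_sub_distrib]
      have hterm : ∀ j, 2 * (F (j - i) / Nr * x j) - F (j - (i + 1)) / Nr * x j
          - F (j - (i - 1)) / Nr * x j = (if j = i then x j else 0) - x j / Nr := by
        intro j
        have e1 : j - (i + 1) = (j - i) - 1 := by ring
        have e2 : j - (i - 1) = (j - i) + 1 := by ring
        rw [e1, e2]
        have hA := lemA (j - i)
        have h3 : 2 * F (j - i) - F (j - i - 1) - F (j - i + 1)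
            = -(1 - (if j - i = 0 then Nr else 0)) := by linarith
        have h4 : 2 * (F (j - i) / Nr * x j) - F (j - i - 1) / Nr * x j
            - F (j - i + 1) / Nr * x j
            = (2 * F (j - i) - F (j - i - 1) - F (j - i + 1)) / Nr * x j := by ring
        rw [h4, h3]
        by_cases hji : j = i
        · rw [if_pos (sub_eq_zero.mpr hji), if_pos hji, neg_sub, sub_div, div_self hne]; ring
        · rw [if_neg (sub_ne_zero.mpr hji), if_neg hji]; ring
      rw [Finset.sum_congr rfl fun j _ => hterm j, Finset.sum_sub_distrib, Finset.sum_ite_eq',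
        if_pos (Finset.mem_univ i), ← Finset.sum_div]
    have hsum : ∑ i, y i = 0 := by
      simp only [hy]
      rw [Finset.sum_comm]
      have h0 : ∀ j, ∑ i, F (j - i) / Nr * x j = 0 := by
        intro j
        rw [← Finset.sum_mul, ← Finset.sum_div]
        have h1 : ∑ i, F (j - i) = ∑ d, F d := Equiv.sum_comp (Equiv.subLeft j) F
        rw [h1, lemB]; simp
      exact Finset.sum_eq_zero fun j _ => h0 j
    have e1 : ∑ i, y (i + 1) ^ 2 = ∑ i, y i ^ 2 :=
      Equiv.sum_comp (Equiv.addRight (1 : ZMod (m + 1))) (fun i => y i ^ 2)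
    have e2 : ∑ i, y (i + 1) * y i = ∑ i, y i * y (i - 1) := by
      have h := Equiv.sum_comp (Equiv.addRight (1 : ZMod (m + 1))) (fun i => y i * y (i - 1))
      simp only [Equiv.coe_addRight, add_sub_cancel_right] at h
      exact h
    have hQ : 0 ≤ ∑ i, (y (i + 1) - y i) ^ 2 := Finset.sum_nonneg fun i _ => sq_nonneg _
    have hLHS : ∑ i, (y (i + 1) - y i) ^ 2 =
        (∑ i, y (i + 1) ^ 2) + (∑ i, y i ^ 2) - 2 * ∑ i, y (i + 1) * y i := by
      rw [Finset.mul_sum, ← Finset.sum_add_distrib, ← Finset.sum_sub_distrib]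
      exact Finset.sum_congr rfl fun i _ => by ring
    have hMID : ∑ i, y i * (2 * y i - y (i + 1) - y (i - 1)) =
        2 * (∑ i, y i ^ 2) - (∑ i, y (i + 1) * y i) - ∑ i, y i * y (i - 1) := by
      rw [Finset.mul_sum, ← Finset.sum_sub_distrib, ← Finset.sum_sub_distrib]
      exact Finset.sum_congr rfl fun i _ => by ring
    have hRHS : ∑ i, y i * (x i - (∑ j, x j) / Nr) =
        (∑ i, x i * y i) - (∑ j, x j) / Nr * ∑ i, y i := by
      rw [Finset.mul_sum, ← Finset.sum_sub_distrib]
      exact Finset.sum_congr rfl fun i _ => by ring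
    have e3 : ∑ i, y i * (2 * y i - y (i + 1) - y (i - 1)) =
        ∑ i, y i * (x i - (∑ j, x j) / Nr) :=
      Finset.sum_congr rfl fun i _ => by rw [hL i]
    rw [hsum, mul_zero, sub_zero] at hRHS
    linarith

end Groth.Agent.S18190
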