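import Groth.Statements.S18204
import Mathlib

set_option autoImplicit false
universe u
open LocImm

namespace Groth.Agent.S18204

section Helpers
open AlgebraicGeometry CategoryTheory CategoryTheory.Limits TopologicalSpace

theorem bijective_of_isLocalization {A S T : Type u} [CommRing A] [CommRing S] [CommRing T]
    [Algebra A S] [Algebra A T] (M : Submonoid A) [IsLocalization M S] [IsLocalization M T]
    (ψ : S →+* T) (hψ : ψ.comp (algebraMap A S) = algebraMap A T) : Function.Bijective ψ := by
  let e : S ≃ₐ[A] T := IsLocalization.algEquiv M S T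
  have h1 : ψ = (e.toAlgHom : S →+* T) :=
    IsLocalization.ringHom_ext M (hψ.trans (AlgHom.comp_algebraMap e.toAlgHom).symm)
  rw [h1]
  exact e.bijective

set_option backward.isDefEq.respectTransparency false in
theorem stalk_iso_of_locHom {X Y : Scheme.{u}} (f : X ⟶ Y) {U : Y.Opens} (hU : IsAffineOpen U)
    {V : X.Opens} (hV : IsAffineOpen V) (e : V ≤ f ⁻¹ᵁ U)
    (hloc : LocImm.IsLocHom (f.appLE U V e).hom)
    (x : X) (hxV : x ∈ V) : IsIso (f.stalkMap x) := by
  obtain ⟨M, hM⟩ := hloc
  letI : Algebra Γ(Y, U) Γ(X, V) := (f.appLE U V e).hom.toAlgebra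
  haveI : IsLocalization M Γ(X, V) := hM
  letI := X.presheaf.algebra_section_stalk ⟨x, hxV⟩
  haveI := hV.isLocalization_stalk ⟨x, hxV⟩
  letI : Algebra Γ(Y, U) (X.presheaf.stalk x) :=
    ((X.presheaf.germ V x hxV).hom.comp (f.appLE U V e).hom).toAlgebra
  haveI : IsScalarTower Γ(Y, U) Γ(X, V) (X.presheaf.stalk x) :=
    IsScalarTower.of_algebraMap_eq' rfl
  have h1 : IsLocalization
      (Ideal.primeCompl ((hV.primeIdealOf ⟨x, hxV⟩).asIdeal.comap (algebraMap Γ(Y, U) Γ(X, V))))
      (X.presheaf.stalk x) :=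
    IsLocalization.isLocalization_isLocalization_atPrime_isLocalization M (X.presheaf.stalk x)
      (hV.primeIdealOf ⟨x, hxV⟩).asIdeal
  have hpq : (hV.primeIdealOf ⟨x, hxV⟩).asIdeal.comap (algebraMap Γ(Y, U) Γ(X, V)) =
      (hU.primeIdealOf ⟨f x, e hxV⟩).asIdeal :=
    congr($(IsAffineOpen.comap_primeIdealOf_appLE U hU V hV e hxV).1)
  have hsub : Ideal.primeCompl
      ((hV.primeIdealOf ⟨x, hxV⟩).asIdeal.comap (algebraMap Γ(Y, U) Γ(X, V))) =
      (hU.primeIdealOf ⟨f x, e hxV⟩).asIdeal.primeCompl := by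
    ext a
    simp only [Ideal.mem_primeCompl_iff]
    rw [hpq]
  rw [hsub] at h1
  letI := Y.presheaf.algebra_section_stalk ⟨f x, e hxV⟩
  haveI h2 := hU.isLocalization_stalk ⟨f x, e hxV⟩
  have hψ : (f.stalkMap x).hom.comp (algebraMap Γ(Y, U) (Y.presheaf.stalk (f x))) =
      algebraMap Γ(Y, U) (X.presheaf.stalk x) := by
    have e2 : f.appLE U V e ≫ X.presheaf.germ V x hxV =
        Y.presheaf.germ U (f x) (e hxV) ≫ f.stalkMap x := by
      rw [Scheme.Hom.germ_stalkMap]
      simp only [Scheme.Hom.appLE, Category.assoc, TopCat.Presheaf.germ_res]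
    exact (congrArg CommRingCat.Hom.hom e2).symm
  haveI := h1
  have hbij := bijective_of_isLocalization (hU.primeIdealOf ⟨f x, e hxV⟩).asIdeal.primeCompl
    (f.stalkMap x).hom hψ
  exact (ConcreteCategory.isIso_iff_bijective _).mpr hbij

theorem main18204 {X Y : Scheme.{u}} [IsNoetherian Y]
    (f : X ⟶ Y) (hf : LocImm.IsLocImmersion f) [LocallyOfFiniteType f] : IsOpenImmersion f := by
  obtain ⟨hloc, hinj⟩ := hf
  have hiso : ∀ x, IsIso (f.stalkMap x) := by
    intro x
    obtain ⟨U, V, hxV, e, hUV⟩ := hloc x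
    exact stalk_iso_of_locHom f U.2 V.2 e hUV x hxV
  haveI := hiso
  haveI : Flat f := (Flat.iff_flat_stalkMap f).mpr (fun x =>
    RingHom.Flat.of_bijective (ConcreteCategory.bijective_of_isIso (f.stalkMap x)))
  haveI : LocallyOfFinitePresentation f :=
    LocallyOfFinitePresentation.iff_locallyOfFiniteType.mpr inferInstance
  have hopen : IsOpenMap f := f.isOpenMap
  apply IsOpenImmersion.of_isIso_stalkMap f
  exact Topology.IsOpenEmbedding.of_continuous_injective_isOpenMap f.continuous hinj hopen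

end Helpers

open CategoryTheory AlgebraicGeometry in
/-- A localizing immersion (localizing and injective on points) of Noetherian schemes which is locally
of finite type is an open immersion. -/
theorem result {X Y : Scheme.{u}} [IsNoetherian X] [IsNoetherian Y]
    (f : X ⟶ Y) (hf : LocImm.IsLocImmersion f) [LocallyOfFiniteType f] : IsOpenImmersion f := by
  exact main18204 f hf

end Groth.Agent.S18204
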