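import Groth.Statements.S18203
import Mathlib
import Groth.Agent.S18204

set_option autoImplicit false
universe u
open LocImm

namespace Groth.Agent.S18203

section Helpers
open AlgebraicGeometry CategoryTheory CategoryTheory.Limits TopologicalSpace

theorem isInducing_of_specializes {X Y : Type*} [TopologicalSpace X] [TopologicalSpace Y]
    [NoetherianSpace X] [QuasiSober X] {f : X → Y} (hf : Continuous f)
    (hG : ∀ ξ x : X, f ξ ⤳ f x → ξ ⤳ x) : Topology.IsInducing f := by
  refine ⟨le_antisymm hf.le_induced (fun V hV => ?_)⟩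
  rw [isOpen_induced_iff]
  obtain ⟨S, hSfin, hScl, hSirr, hS⟩ :=
    NoetherianSpace.exists_finite_set_isClosed_irreducible hV.isClosed_compl
  have hgp : ∀ t ∈ S, ∃ ξ, IsGenericPoint ξ t :=
    fun t ht => QuasiSober.sober (hSirr t ht) (hScl t ht)
  have hK : IsClosed (⋃ t ∈ S, closure (f '' t)) :=
    hSfin.isClosed_biUnion (fun t _ => isClosed_closure)
  refine ⟨(⋃ t ∈ S, closure (f '' t))ᶜ, hK.isOpen_compl, ?_⟩
  ext x
  simp only [Set.mem_preimage, Set.mem_compl_iff]
  constructor
  · intro hfx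
    by_contra hxV
    have hxT : x ∈ Vᶜ := hxV
    rw [hS] at hxT
    obtain ⟨t, ht, hxt⟩ := hxT
    exact hfx (Set.mem_biUnion ht (subset_closure ⟨x, hxt, rfl⟩))
  · intro hxV hfxK
    obtain ⟨t, ht, hfxt⟩ := Set.mem_iUnion₂.mp hfxK
    obtain ⟨ξ, hξ⟩ := hgp t ht
    have h1 : closure (f '' t) ⊆ closure {f ξ} := by
      apply closure_minimal _ isClosed_closure
      rw [← hξ.def]
      calc f '' closure {ξ} ⊆ closure (f '' {ξ}) := image_closure_subset_closure_image hf
        _ = closure {f ξ} := by rw [Set.image_singleton]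
    have h2 : f ξ ⤳ f x := specializes_iff_mem_closure.mpr (h1 hfxt)
    have h3 : ξ ⤳ x := hG ξ x h2
    have h4 : x ∈ t := by rw [← hξ.def]; exact specializes_iff_mem_closure.mp h3
    have h5 : x ∈ Vᶜ := by rw [hS]; exact ⟨t, ht, h4⟩
    exact h5 hxV

set_option backward.isDefEq.respectTransparency false in
theorem genlift_of_stalk_iso {X Y : Scheme.{u}} (f : X ⟶ Y) (x : X) [IsIso (f.stalkMap x)]
    (y : Y) (hy : y ⤳ f x) : ∃ x', x' ⤳ x ∧ f x' = y := by
  have h1 : y ∈ Set.range (Y.fromSpecStalk (f x)) := by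
    rw [Scheme.range_fromSpecStalk]; exact hy
  obtain ⟨p, rfl⟩ := h1
  let p' := (Spec.map (inv (f.stalkMap x))) p
  have hp' : (Spec.map (f.stalkMap x)) p' = p := by
    show (Spec.map (inv (f.stalkMap x)) ≫ Spec.map (f.stalkMap x)) p = p
    rw [← Spec.map_comp, IsIso.hom_inv_id, Spec.map_id]
    rfl
  refine ⟨X.fromSpecStalk x p', ?_, ?_⟩
  · have : X.fromSpecStalk x p' ∈ Set.range (X.fromSpecStalk x) := ⟨p', rfl⟩
    rwa [Scheme.range_fromSpecStalk] at this
  · show (X.fromSpecStalk x ≫ f) p' = _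
    rw [← Scheme.SpecMap_stalkMap_fromSpecStalk]
    show Y.fromSpecStalk (f x) ((Spec.map (f.stalkMap x)) p') = _
    rw [hp']

theorem main18203 {X Y : Scheme.{u}} [IsNoetherian X]
    (f : X ⟶ Y) (hf : LocImm.IsLocImmersion f) :
    Topology.IsEmbedding (fun x => f x) ∧
      StableUnderGeneralization (Set.range (fun x => f x)) ∧ ∀ x : X, IsIso (f.stalkMap x) := by
  obtain ⟨hloc, hinj⟩ := hf
  have hiso : ∀ x, IsIso (f.stalkMap x) := by
    intro x
    obtain ⟨U, V, hxV, e, hUV⟩ := hloc x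
    exact Groth.Agent.S18204.stalk_iso_of_locHom f U.2 V.2 e hUV x hxV
  haveI := hiso
  have hG : ∀ ξ x : X, f ξ ⤳ f x → ξ ⤳ x := by
    intro ξ x h
    obtain ⟨x', hx', hfx'⟩ := genlift_of_stalk_iso f x (f ξ) h
    have hxx : x' = ξ := hinj hfx'
    rwa [hxx] at hx'
  refine ⟨⟨isInducing_of_specializes f.continuous hG, hinj⟩, ?_, hiso⟩
  rintro _ y hy ⟨x, rfl⟩
  obtain ⟨x', -, rfl⟩ := genlift_of_stalk_iso f x y hy
  exact ⟨x', rfl⟩

end Helpers

open CategoryTheory AlgebraicGeometry in
/-- Let `f : X ⟶ Y` be a localizing immersion (localizing and injective on points) of Noetherian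
schemes. Then `f` is a topological embedding, its image is stable under generization, and every
stalk map `O_{Y, f x} → O_{X, x}` is an isomorphism; thus `f` identifies `X` with the subspace
`f(X)` equipped with the restriction of `O_Y`. -/
theorem result {X Y : Scheme.{u}} [IsNoetherian X] [IsNoetherian Y]
    (f : X ⟶ Y) (hf : LocImm.IsLocImmersion f) :
    Topology.IsEmbedding (fun x => f x) ∧ StableUnderGeneralization (Set.range (fun x => f x)) ∧ ∀ x : X, IsIso (f.stalkMap x) := by
  exact main18203 f hf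

end Groth.Agent.S18203
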