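import Groth.Statements.S18207
import Mathlib
import Groth.Agent.S18204

set_option autoImplicit false
universe u
open LocImm

namespace Groth.Agent.S18207

section Helpers
open AlgebraicGeometry CategoryTheory CategoryTheory.Limits TopologicalSpace

theorem mono_of_locImm {X Y : Scheme.{u}} (f : X ⟶ Y) (hf : LocImm.IsLocImmersion f) : Mono f := by
  obtain ⟨hloc, hinj⟩ := hf
  have hiso : ∀ x, IsIso (f.stalkMap x) := by
    intro x
    obtain ⟨U, V, hxV, e, hUV⟩ := hloc x
    exact Groth.Agent.S18204.stalk_iso_of_locHom f U.2 V.2 e hUV x hxV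
  haveI : SurjectiveOnStalks f :=
    ⟨fun x => (ConcreteCategory.bijective_of_isIso (f.stalkMap x)).2⟩
  exact SurjectiveOnStalks.mono_of_injective (f := f) hinj

theorem main18207 {X Y : Scheme.{u}} (f : X ⟶ Y) :
    LocImm.IsLocImmersion f ↔ (LocImm.IsLocalizing f ∧ Mono f) := by
  constructor
  · intro h
    exact ⟨h.1, mono_of_locImm f h⟩
  · rintro ⟨hloc, hmono⟩
    haveI := hmono
    exact ⟨hloc, f.injective⟩

end Helpers

open CategoryTheory AlgebraicGeometry in
/-- A morphism of Noetherian schemes is a localizing immersion (localizing and injective on points) if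
and only if it is a localizing monomorphism in the category of schemes. -/
theorem result {X Y : Scheme.{u}} [IsNoetherian X] [IsNoetherian Y] (f : X ⟶ Y) :
    LocImm.IsLocImmersion f ↔ (LocImm.IsLocalizing f ∧ Mono f) := by
  exact main18207 f

end Groth.Agent.S18207
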