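import Groth.Statements.S18202
import Mathlib
import Groth.Agent.S18207

set_option autoImplicit false
universe u
open LocImm

namespace Groth.Agent.S18202

section Helpers
open AlgebraicGeometry CategoryTheory CategoryTheory.Limits TopologicalSpace

theorem locHom_baseChange {R A S B : CommRingCat.{u}} (φ : R ⟶ A) (ψ : R ⟶ S)
    (α : A ⟶ B) (β : S ⟶ B) (h : IsPushout φ ψ α β) (hφ : LocImm.IsLocHom φ.hom) :
    LocImm.IsLocHom β.hom := by
  obtain ⟨M, hM⟩ := hφ
  letI := φ.hom.toAlgebra
  letI := ψ.hom.toAlgebra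
  letI := α.hom.toAlgebra
  letI := β.hom.toAlgebra
  letI : Algebra R B := (α.hom.comp φ.hom).toAlgebra
  haveI : IsScalarTower R A B := IsScalarTower.of_algebraMap_eq' rfl
  haveI : IsScalarTower R S B := IsScalarTower.of_algebraMap_eq' (by
    have := congrArg CommRingCat.Hom.hom h.w
    exact this)
  haveI : Algebra.IsPushout R A S B := CommRingCat.isPushout_iff_isPushout.mp h
  haveI : Algebra.IsPushout R S A B := Algebra.IsPushout.symm inferInstance
  haveI : IsLocalization M A := hM
  exact ⟨Algebra.algebraMapSubmonoid S M,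
    (Algebra.isLocalization_iff_isPushout M A).mpr inferInstance⟩

set_option backward.isDefEq.respectTransparency false in
theorem main18202 {X Y Y' : Scheme.{u}} (f : X ⟶ Y) (g : Y' ⟶ Y)
    (hf : LocImm.IsLocImmersion f) : LocImm.IsLocImmersion (pullback.snd f g) := by
  haveI : Mono f := Groth.Agent.S18207.mono_of_locImm f hf
  refine ⟨?_, (pullback.snd f g).injective⟩
  intro z
  obtain ⟨U, V, hxV, e, hUV⟩ := hf.1 (pullback.fst f g z)
  have hcond : f (pullback.fst f g z) = g (pullback.snd f g z) := by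
    rw [← Scheme.Hom.comp_apply, ← Scheme.Hom.comp_apply, pullback.condition]
  obtain ⟨U', hU', hyU', eU'⟩ := Opens.isBasis_iff_nbhd.mp Y'.isBasis_affineOpens
    (show pullback.snd f g z ∈ g ⁻¹ᵁ U.1 from by
      show g (pullback.snd f g z) ∈ U.1
      rw [← hcond]; exact e hxV)
  let V' : (pullback f g).Opens := (pullback.fst f g) ⁻¹ᵁ V.1 ⊓ (pullback.snd f g) ⁻¹ᵁ U'
  have H : IsPullback (pullback.fst f g) (pullback.snd f g) f g := IsPullback.of_hasPullback f g
  have hV' : IsAffineOpen V' := by
    have : IsAffine _ := U.2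
    have : IsAffine _ := hU'
    have : IsAffine _ := V.2
    exact .of_isIso (Scheme.Hom.isPullback_resLE H eU' e rfl).isoPullback.hom
  have hpo : IsPushout (f.appLE U.1 V.1 e) (g.appLE U.1 U' eU')
      ((pullback.fst f g).appLE V.1 V' inf_le_left)
      ((pullback.snd f g).appLE U' V' inf_le_right) := by
    haveI := isIso_pushoutSection_of_isAffineOpen H eU' e (rfl : V' = _) U.2 hU' V.2
    exact (isIso_pushoutSection_iff H eU' e rfl).mp this
  exact ⟨⟨U', hU'⟩, ⟨V', hV'⟩, ⟨hxV, hyU'⟩, inf_le_right,
    locHom_baseChange _ _ _ _ hpo hUV⟩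

end Helpers

open CategoryTheory AlgebraicGeometry Limits in
/-- Let `f : X ⟶ Y` be a localizing immersion (localizing and injective on points) of Noetherian schemes
and `g : Y' ⟶ Y` a morphism with `Y'` Noetherian. Then the base change `X ×_Y Y' ⟶ Y'` is a
localizing immersion. -/
theorem result {X Y Y' : Scheme.{u}} [IsNoetherian X] [IsNoetherian Y] [IsNoetherian Y']
    (f : X ⟶ Y) (g : Y' ⟶ Y) (hf : LocImm.IsLocImmersion f) : LocImm.IsLocImmersion (pullback.snd f g) := by
  exact main18202 f g hf

end Groth.Agent.S18202
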