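import Groth.Statements.S18208
import Mathlib
import Groth.Agent.S18202
import Groth.Agent.S18203

set_option autoImplicit false
universe u
open LocImm

namespace Groth.Agent.S18208

section Helpers
open AlgebraicGeometry CategoryTheory CategoryTheory.Limits TopologicalSpace

set_option backward.isDefEq.respectTransparency false in
theorem locHom_basicOpen {X Y : Scheme.{u}} (f : X ⟶ Y) {U : Y.Opens} (hU : IsAffineOpen U)
    {V : X.Opens} (hV : IsAffineOpen V) (e : V ≤ f ⁻¹ᵁ U)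
    (hloc : LocImm.IsLocHom (f.appLE U V e).hom) (a : Γ(Y, U))
    (e' : X.basicOpen ((f.appLE U V e) a) ≤ f ⁻¹ᵁ (Y.basicOpen a)) :
    LocImm.IsLocHom (f.appLE (Y.basicOpen a) (X.basicOpen ((f.appLE U V e) a)) e').hom := by
  have hpo : IsPushout (f.appLE U V e) (Y.presheaf.map (homOfLE (Y.basicOpen_le a)).op)
      (X.presheaf.map (homOfLE (X.basicOpen_le ((f.appLE U V e) a))).op)
      (f.appLE (Y.basicOpen a) (X.basicOpen ((f.appLE U V e) a)) e') := by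
    haveI := hU.isLocalization_basicOpen a
    haveI := hV.isLocalization_basicOpen ((f.appLE U V e) a)
    refine CommRingCat.isPushout_of_isLocalization (f.appLE U V e).hom
      (f.appLE (Y.basicOpen a) (X.basicOpen ((f.appLE U V e) a)) e').hom ?_ (.powers a)
    change CommRingCat.Hom.hom (Y.presheaf.map _ ≫ f.appLE _ _ _) =
      CommRingCat.Hom.hom (f.appLE U V e ≫ X.presheaf.map _)
    rw [f.map_appLE, f.appLE_map]
  exact Groth.Agent.S18202.locHom_baseChange _ _ _ _ hpo hloc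

set_option backward.isDefEq.respectTransparency false in
theorem fwd18208 {X Y : Scheme.{u}} [IsNoetherian X] (f : X ⟶ Y)
    (hf : LocImm.IsLocImmersion f) (x : X) :
    ∃ V : Y.Opens, f x ∈ V ∧ IsAffineOpen V ∧ IsAffineOpen (f ⁻¹ᵁ V) ∧
      LocImm.IsLocHom (f.app V).hom := by
  obtain ⟨U, W, hxW, e, hUW⟩ := hf.1 x
  have hemb := (Groth.Agent.S18203.main18203 f hf).1
  obtain ⟨O, hO, hOW⟩ := hemb.isInducing.isOpen_iff.mp W.1.2
  let O' : Y.Opens := ⟨O, hO⟩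
  have hfxO : f x ∈ O' := by
    have h1 : x ∈ (fun x => f x) ⁻¹' O := by rw [hOW]; exact hxW
    exact h1
  obtain ⟨a, haO, hxa⟩ := U.2.exists_basicOpen_le (V := O') ⟨f x, hfxO⟩ (e hxW)
  have hpre : f ⁻¹ᵁ (Y.basicOpen a) = X.basicOpen ((f.appLE U.1 W.1 e) a) := by
    rw [Scheme.basicOpen_appLE]
    symm
    apply inf_eq_right.mpr
    intro z hz
    have hzO : f z ∈ O := haO hz
    have h2 : z ∈ (fun x => f x) ⁻¹' O := hzO
    rw [hOW] at h2
    exact h2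
  refine ⟨Y.basicOpen a, hxa, U.2.basicOpen a, ?_, ?_⟩
  · rw [hpre]; exact W.2.basicOpen _
  · have e' : X.basicOpen ((f.appLE U.1 W.1 e) a) ≤ f ⁻¹ᵁ (Y.basicOpen a) := hpre.ge
    have h1 := locHom_basicOpen f U.2 W.2 e hUW a e'
    rw [← Scheme.Hom.appLE_eq_app]
    exact (Scheme.Hom.appLE_congr f e' rfl hpre.symm
      (fun {R S} φ => LocImm.IsLocHom φ.hom)).mp h1

set_option backward.isDefEq.respectTransparency false in
theorem bwd18208 {X Y : Scheme.{u}} (f : X ⟶ Y)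
    (h : ∀ x : X, ∃ V : Y.Opens, f x ∈ V ∧ IsAffineOpen V ∧ IsAffineOpen (f ⁻¹ᵁ V) ∧
      LocImm.IsLocHom (f.app V).hom) :
    LocImm.IsLocImmersion f := by
  constructor
  · intro x
    obtain ⟨V, hxV, hV, hW, hloc⟩ := h x
    refine ⟨⟨V, hV⟩, ⟨f ⁻¹ᵁ V, hW⟩, hxV, le_rfl, ?_⟩
    rw [Scheme.Hom.appLE_eq_app]; exact hloc
  · intro x₁ x₂ h12
    obtain ⟨V, hxV, hV, hW, hloc⟩ := h x₁
    have hx₁ : x₁ ∈ f ⁻¹ᵁ V := hxV
    have hx₂ : x₂ ∈ f ⁻¹ᵁ V := by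
      show f x₂ ∈ V
      have h12' : f x₁ = f x₂ := h12
      rw [← h12']; exact hxV
    have hloc' : LocImm.IsLocHom (f.appLE V (f ⁻¹ᵁ V) le_rfl).hom := by
      rw [Scheme.Hom.appLE_eq_app]; exact hloc
    obtain ⟨M, hM⟩ := hloc'
    letI : Algebra Γ(Y, V) Γ(X, f ⁻¹ᵁ V) := (f.appLE V (f ⁻¹ᵁ V) le_rfl).hom.toAlgebra
    haveI : IsLocalization M Γ(X, f ⁻¹ᵁ V) := hM
    have hc₁ : (hW.primeIdealOf ⟨x₁, hx₁⟩).asIdeal.comap (algebraMap Γ(Y, V) Γ(X, f ⁻¹ᵁ V)) =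
        (hV.primeIdealOf ⟨f x₁, hx₁⟩).asIdeal :=
      congr($(IsAffineOpen.comap_primeIdealOf_appLE V hV (f ⁻¹ᵁ V) hW le_rfl hx₁).1)
    have hc₂ : (hW.primeIdealOf ⟨x₂, hx₂⟩).asIdeal.comap (algebraMap Γ(Y, V) Γ(X, f ⁻¹ᵁ V)) =
        (hV.primeIdealOf ⟨f x₂, hx₂⟩).asIdeal :=
      congr($(IsAffineOpen.comap_primeIdealOf_appLE V hV (f ⁻¹ᵁ V) hW le_rfl hx₂).1)
    have hpt : hV.primeIdealOf ⟨f x₁, hx₁⟩ = hV.primeIdealOf ⟨f x₂, hx₂⟩ := by
      congr 1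
      exact Subtype.ext h12
    have hq : (hW.primeIdealOf ⟨x₁, hx₁⟩).asIdeal = (hW.primeIdealOf ⟨x₂, hx₂⟩).asIdeal := by
      calc (hW.primeIdealOf ⟨x₁, hx₁⟩).asIdeal
          = ((hW.primeIdealOf ⟨x₁, hx₁⟩).asIdeal.comap
              (algebraMap Γ(Y, V) Γ(X, f ⁻¹ᵁ V))).map (algebraMap Γ(Y, V) Γ(X, f ⁻¹ᵁ V)) :=
            (IsLocalization.map_comap M _ _).symm
        _ = ((hW.primeIdealOf ⟨x₂, hx₂⟩).asIdeal.comap
              (algebraMap Γ(Y, V) Γ(X, f ⁻¹ᵁ V))).map (algebraMap Γ(Y, V) Γ(X, f ⁻¹ᵁ V)) := by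
            rw [hc₁, hc₂, hpt]
        _ = (hW.primeIdealOf ⟨x₂, hx₂⟩).asIdeal := IsLocalization.map_comap M _ _
    have hq' : hW.primeIdealOf ⟨x₁, hx₁⟩ = hW.primeIdealOf ⟨x₂, hx₂⟩ := PrimeSpectrum.ext hq
    have e1 := hW.fromSpec_primeIdealOf ⟨x₁, hx₁⟩
    have e2 := hW.fromSpec_primeIdealOf ⟨x₂, hx₂⟩
    rw [hq'] at e1
    exact e1.symm.trans e2

theorem main18208 {X Y : Scheme.{u}} [IsNoetherian X] (f : X ⟶ Y) :
    LocImm.IsLocImmersion f ↔ ∀ x : X, ∃ V : Y.Opens, f x ∈ V ∧ IsAffineOpen V ∧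
      IsAffineOpen (f ⁻¹ᵁ V) ∧ LocImm.IsLocHom (f.app V).hom :=
  ⟨fun hf x => fwd18208 f hf x, bwd18208 f⟩

end Helpers

open CategoryTheory AlgebraicGeometry in
/-- A morphism `f : X ⟶ Y` of Noetherian schemes is a localizing immersion (localizing and injective on
points) if and only if every point of `f(X)` has an affine open neighbourhood `V` in `Y` whose
preimage `f⁻¹V` is affine with `Γ(Y, V) → Γ(X, f⁻¹V)` a localizing ring map (its target is the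
localization of its source at some submonoid). In particular such an `f` is quasi-affine. -/
theorem result {X Y : Scheme.{u}} [IsNoetherian X] [IsNoetherian Y] (f : X ⟶ Y) :
    LocImm.IsLocImmersion f ↔ ∀ x : X, ∃ V : Y.Opens, f x ∈ V ∧ IsAffineOpen V ∧ IsAffineOpen (f ⁻¹ᵁ V) ∧ LocImm.IsLocHom (f.app V).hom := by
  exact main18208 f

end Groth.Agent.S18208
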