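import Groth.Statements.S18195
import Mathlib
import Groth.Agent.S18208
import Groth.Agent.S18203

set_option autoImplicit false
universe u
open LocImm

namespace Groth.Agent.S18195

section Helpers
open AlgebraicGeometry CategoryTheory CategoryTheory.Limits TopologicalSpace

theorem locHom_of_comp_injective {C A B : Type u} [CommRing C] [CommRing A] [CommRing B]
    (α : C →+* A) (β : A →+* B) (hβ : Function.Injective β)
    (hloc : LocImm.IsLocHom (β.comp α)) : LocImm.IsLocHom β := by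
  obtain ⟨N, hN⟩ := hloc
  letI : Algebra C B := (β.comp α).toAlgebra
  haveI : IsLocalization N B := hN
  letI : Algebra A B := β.toAlgebra
  refine ⟨N.map α, ?_⟩
  rw [isLocalization_iff]
  refine ⟨?_, ?_, ?_⟩
  · rintro ⟨_, n, hn, rfl⟩
    exact IsLocalization.map_units B (⟨n, hn⟩ : N)
  · intro b
    obtain ⟨⟨γ, n⟩, h⟩ := IsLocalization.surj N b
    exact ⟨⟨α γ, ⟨α n, n, n.2, rfl⟩⟩, h⟩
  · intro a₁ a₂ h
    exact ⟨1, by rw [hβ h]⟩

set_option backward.isDefEq.respectTransparency false in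
theorem main18195 {X Y Z : Scheme.{u}} [IsNoetherian X]
    (f : X ⟶ Y) (g : Y ⟶ Z) (hfg : LocImm.IsLocImmersion (f ≫ g))
    (hd : ∀ U : Y.Opens, Function.Injective (f.app U).hom) : LocImm.IsLocImmersion f := by
  refine ⟨?_, ?_⟩
  swap
  · intro x₁ x₂ h12
    apply hfg.2
    show g (f x₁) = g (f x₂)
    have h12' : f x₁ = f x₂ := h12
    rw [h12']
  intro x
  obtain ⟨W, hxW, hW, hV₀, hlocW⟩ := Groth.Agent.S18208.fwd18208 (f ≫ g) hfg x
  have hemb := (Groth.Agent.S18203.main18203 (f ≫ g) hfg).1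
  have hfxW : f x ∈ g ⁻¹ᵁ W := hxW
  obtain ⟨U, hU, hxU, eU⟩ := Opens.isBasis_iff_nbhd.mp Y.isBasis_affineOpens hfxW
  obtain ⟨O, hO, hOV⟩ := hemb.isInducing.isOpen_iff.mp (f ⁻¹ᵁ U).2
  let O' : Z.Opens := ⟨O, hO⟩
  have hxO : (f ≫ g) x ∈ O' := by
    have h1 : x ∈ (fun x => (f ≫ g) x) ⁻¹' O := by rw [hOV]; exact hxU
    exact h1
  obtain ⟨c, hcO, hxc⟩ := hW.exists_basicOpen_le (V := O') ⟨(f ≫ g) x, hxO⟩ hxW
  have hU'eq : Y.basicOpen ((g.appLE W U eU) c) = U ⊓ g ⁻¹ᵁ (Z.basicOpen c) :=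
    Scheme.basicOpen_appLE g U W eU c
  have hV'eq : f ⁻¹ᵁ (Y.basicOpen ((g.appLE W U eU) c)) =
      X.basicOpen (((f ≫ g).appLE W ((f ≫ g) ⁻¹ᵁ W) le_rfl) c) := by
    rw [hU'eq, Scheme.basicOpen_appLE]
    ext z
    constructor
    · rintro ⟨_, hz2⟩
      have hz3 : (f ≫ g) z ∈ Z.basicOpen c := hz2
      exact ⟨Z.basicOpen_le c hz3, hz3⟩
    · rintro ⟨_, hz2⟩
      have hz3 : (f ≫ g) z ∈ Z.basicOpen c := hz2
      have hz4 : z ∈ (fun x => (f ≫ g) x) ⁻¹' O := hcO hz3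
      rw [hOV] at hz4
      exact ⟨hz4, hz3⟩
  have hU'aff : IsAffineOpen (Y.basicOpen ((g.appLE W U eU) c)) := hU.basicOpen _
  have hV'aff : IsAffineOpen (f ⁻¹ᵁ (Y.basicOpen ((g.appLE W U eU) c))) := by
    rw [hV'eq]; exact hV₀.basicOpen _
  have hxV' : x ∈ f ⁻¹ᵁ (Y.basicOpen ((g.appLE W U eU) c)) := by
    show f x ∈ Y.basicOpen ((g.appLE W U eU) c)
    rw [hU'eq]
    exact ⟨hxU, hxc⟩
  have hlocW' : LocImm.IsLocHom ((f ≫ g).appLE W ((f ≫ g) ⁻¹ᵁ W) le_rfl).hom := by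
    rw [Scheme.Hom.appLE_eq_app]; exact hlocW
  have e' : X.basicOpen (((f ≫ g).appLE W ((f ≫ g) ⁻¹ᵁ W) le_rfl) c) ≤
      (f ≫ g) ⁻¹ᵁ (Z.basicOpen c) := by
    rw [Scheme.basicOpen_appLE]; exact inf_le_right
  have hloc1 := Groth.Agent.S18208.locHom_basicOpen (f ≫ g) hW hV₀ le_rfl hlocW' c e'
  have hloc2 := (Scheme.Hom.appLE_congr (f ≫ g) e' rfl hV'eq.symm
    (fun {R S} φ => LocImm.IsLocHom φ.hom)).mp hloc1
  have e₁ : Y.basicOpen ((g.appLE W U eU) c) ≤ g ⁻¹ᵁ (Z.basicOpen c) := by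
    rw [hU'eq]; exact inf_le_right
  have hfac := Scheme.Hom.appLE_comp_appLE f g (Z.basicOpen c)
    (Y.basicOpen ((g.appLE W U eU) c)) (f ⁻¹ᵁ (Y.basicOpen ((g.appLE W U eU) c))) e₁ le_rfl
  rw [← hfac] at hloc2
  have hinj : Function.Injective
      (f.appLE (Y.basicOpen ((g.appLE W U eU) c))
        (f ⁻¹ᵁ (Y.basicOpen ((g.appLE W U eU) c))) le_rfl).hom := by
    rw [Scheme.Hom.appLE_eq_app]; exact hd _
  have hloc3 := locHom_of_comp_injective _ _ hinj hloc2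
  exact ⟨⟨_, hU'aff⟩, ⟨_, hV'aff⟩, hxV', le_rfl, hloc3⟩

end Helpers

open CategoryTheory AlgebraicGeometry in
/-- Let `f : X ⟶ Y` and `g : Y ⟶ Z` be morphisms of Noetherian schemes with `g` separated and `f ≫ g` a
localizing immersion (localizing and injective on points). If `f` has schematically dense image,
i.e. each ring map `Γ(Y, U) → Γ(X, f⁻¹U)` is injective, then `f` is a localizing immersion. -/
theorem result {X Y Z : Scheme.{u}} [IsNoetherian X] [IsNoetherian Y] [IsNoetherian Z]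
    (f : X ⟶ Y) (g : Y ⟶ Z) (hfg : LocImm.IsLocImmersion (f ≫ g)) [IsSeparated g]
    (hd : ∀ U : Y.Opens, Function.Injective (f.app U).hom) : LocImm.IsLocImmersion f := by
  exact main18195 f g hfg hd

end Groth.Agent.S18195
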