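import Groth.Statements.S18197
import Mathlib
import Groth.Agent.S18202
import Groth.Agent.S18203

set_option autoImplicit false
universe u
open LocImm

namespace Groth.Agent.S18197

section Helpers
open AlgebraicGeometry CategoryTheory CategoryTheory.Limits TopologicalSpace

theorem exists_maximal_generization {X : Type*} [TopologicalSpace X] [QuasiSober X] [T0Space X]
    (x : X) : ∃ ξ : X, ξ ⤳ x ∧ ∀ ξ' : X, ξ' ⤳ ξ → ξ' = ξ := by
  have hirr : IsIrreducible (irreducibleComponent x) := isIrreducible_irreducibleComponent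
  have hcl : IsClosed (irreducibleComponent x) := isClosed_irreducibleComponent
  obtain ⟨ξ, hξ⟩ := QuasiSober.sober hirr hcl
  refine ⟨ξ, ?_, ?_⟩
  · rw [specializes_iff_mem_closure, hξ.def]; exact mem_irreducibleComponent
  · intro ξ' h
    have h1 : closure {ξ} ⊆ closure {ξ'} := specializes_iff_closure_subset.mp h
    have h2 : irreducibleComponent x ⊆ closure {ξ'} := hξ.def ▸ h1
    have h3 : closure {ξ'} ⊆ irreducibleComponent x :=
      (irreducibleComponent_mem_irreducibleComponents x).2 isIrreducible_singleton.closure h2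
    have h4 : ξ' ∈ closure {ξ} := by rw [hξ.def]; exact h3 (subset_closure rfl)
    have h5 : ξ ⤳ ξ' := specializes_iff_mem_closure.mpr h4
    exact (h.antisymm h5).eq

set_option backward.isDefEq.respectTransparency false in
theorem loc_inj_of_stalk_iso {X Y : Scheme.{u}} (f : X ⟶ Y) (x : X) [IsIso (f.stalkMap x)]
    (a b : X) (ha : a ⤳ x) (hb : b ⤳ x) (hab : f a = f b) : a = b := by
  have ha' : a ∈ Set.range (X.fromSpecStalk x) := by rw [Scheme.range_fromSpecStalk]; exact ha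
  have hb' : b ∈ Set.range (X.fromSpecStalk x) := by rw [Scheme.range_fromSpecStalk]; exact hb
  obtain ⟨p, rfl⟩ := ha'
  obtain ⟨q, rfl⟩ := hb'
  have key : ∀ r, f (X.fromSpecStalk x r) =
      Y.fromSpecStalk (f x) ((Spec.map (f.stalkMap x)) r) := by
    intro r
    show (X.fromSpecStalk x ≫ f) r = _
    rw [← Scheme.SpecMap_stalkMap_fromSpecStalk]
    rfl
  rw [key, key] at hab
  have h1 : (Spec.map (f.stalkMap x)) p = (Spec.map (f.stalkMap x)) q :=
    (Y.fromSpecStalk (f x)).isEmbedding.injective hab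
  have h2 : ∀ r, (Spec.map (inv (f.stalkMap x))) ((Spec.map (f.stalkMap x)) r) = r := by
    intro r
    show (Spec.map (f.stalkMap x) ≫ Spec.map (inv (f.stalkMap x))) r = r
    rw [← Spec.map_comp, IsIso.inv_hom_id, Spec.map_id]
    rfl
  have h3 : (Spec.map (inv (f.stalkMap x))) ((Spec.map (f.stalkMap x)) p) =
      (Spec.map (inv (f.stalkMap x))) ((Spec.map (f.stalkMap x)) q) := by rw [h1]
  rw [h2, h2] at h3
  rw [h3]

set_option backward.isDefEq.respectTransparency false in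
theorem specializes_of_locHom {P X : Scheme.{u}} (h : P ⟶ X) {U : X.Opens} (hU : IsAffineOpen U)
    {V : P.Opens} (hV : IsAffineOpen V) (e : V ≤ h ⁻¹ᵁ U)
    (hloc : LocImm.IsLocHom (h.appLE U V e).hom)
    (a b : P) (ha : a ∈ V) (hb : b ∈ V) (hab : h a ⤳ h b) : a ⤳ b := by
  obtain ⟨M, hM⟩ := hloc
  letI : Algebra Γ(X, U) Γ(P, V) := (h.appLE U V e).hom.toAlgebra
  haveI : IsLocalization M Γ(P, V) := hM
  have hca : (hV.primeIdealOf ⟨a, ha⟩).asIdeal.comap (algebraMap Γ(X, U) Γ(P, V)) =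
      (hU.primeIdealOf ⟨h a, e ha⟩).asIdeal :=
    congr($(IsAffineOpen.comap_primeIdealOf_appLE U hU V hV e ha).1)
  have hcb : (hV.primeIdealOf ⟨b, hb⟩).asIdeal.comap (algebraMap Γ(X, U) Γ(P, V)) =
      (hU.primeIdealOf ⟨h b, e hb⟩).asIdeal :=
    congr($(IsAffineOpen.comap_primeIdealOf_appLE U hU V hV e hb).1)
  have h1 : hU.primeIdealOf ⟨h a, e ha⟩ ⤳ hU.primeIdealOf ⟨h b, e hb⟩ := by
    rw [← hU.fromSpec.isOpenEmbedding.isInducing.specializes_iff, hU.fromSpec_primeIdealOf,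
      hU.fromSpec_primeIdealOf]
    exact hab
  have h2 : (hU.primeIdealOf ⟨h a, e ha⟩).asIdeal ≤ (hU.primeIdealOf ⟨h b, e hb⟩).asIdeal :=
    (PrimeSpectrum.le_iff_specializes _ _).mpr h1
  have h3 : (hV.primeIdealOf ⟨a, ha⟩).asIdeal ≤ (hV.primeIdealOf ⟨b, hb⟩).asIdeal := by
    calc (hV.primeIdealOf ⟨a, ha⟩).asIdeal
        = ((hV.primeIdealOf ⟨a, ha⟩).asIdeal.comap (algebraMap Γ(X, U) Γ(P, V))).map
            (algebraMap Γ(X, U) Γ(P, V)) := (IsLocalization.map_comap M _ _).symm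
      _ = ((hU.primeIdealOf ⟨h a, e ha⟩).asIdeal).map (algebraMap Γ(X, U) Γ(P, V)) := by rw [hca]
      _ ≤ ((hU.primeIdealOf ⟨h b, e hb⟩).asIdeal).map (algebraMap Γ(X, U) Γ(P, V)) :=
        Ideal.map_mono h2
      _ = ((hV.primeIdealOf ⟨b, hb⟩).asIdeal.comap (algebraMap Γ(X, U) Γ(P, V))).map
            (algebraMap Γ(X, U) Γ(P, V)) := by rw [hcb]
      _ = (hV.primeIdealOf ⟨b, hb⟩).asIdeal := IsLocalization.map_comap M _ _
  have h4 : hV.primeIdealOf ⟨a, ha⟩ ⤳ hV.primeIdealOf ⟨b, hb⟩ :=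
    (PrimeSpectrum.le_iff_specializes _ _).mp h3
  have h5 := h4.map hV.fromSpec.continuous
  rw [hV.fromSpec_primeIdealOf, hV.fromSpec_primeIdealOf] at h5
  exact h5

set_option backward.isDefEq.respectTransparency false in
theorem exists_affine_snd_locHom {X Y Y' : Scheme.{u}} (f : X ⟶ Y) (g : Y' ⟶ Y)
    (hloc : LocImm.IsLocalizing f) (z : ↑(pullback f g)) :
    ∃ (V : X.Opens) (U' : Y'.Opens) (_ : pullback.fst f g z ∈ V) (_ : pullback.snd f g z ∈ U')
      (_ : IsAffineOpen U')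
      (_ : IsAffineOpen ((pullback.fst f g) ⁻¹ᵁ V ⊓ (pullback.snd f g) ⁻¹ᵁ U')),
      LocImm.IsLocHom ((pullback.snd f g).appLE U'
        ((pullback.fst f g) ⁻¹ᵁ V ⊓ (pullback.snd f g) ⁻¹ᵁ U') inf_le_right).hom := by
  obtain ⟨U, V, hxV, e, hUV⟩ := hloc (pullback.fst f g z)
  have hcond : f (pullback.fst f g z) = g (pullback.snd f g z) := by
    rw [← Scheme.Hom.comp_apply, ← Scheme.Hom.comp_apply, pullback.condition]
  obtain ⟨U', hU', hyU', eU'⟩ := Opens.isBasis_iff_nbhd.mp Y'.isBasis_affineOpens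
    (show pullback.snd f g z ∈ g ⁻¹ᵁ U.1 from by
      show g (pullback.snd f g z) ∈ U.1
      rw [← hcond]; exact e hxV)
  have H : IsPullback (pullback.fst f g) (pullback.snd f g) f g := IsPullback.of_hasPullback f g
  have hV' : IsAffineOpen ((pullback.fst f g) ⁻¹ᵁ V.1 ⊓ (pullback.snd f g) ⁻¹ᵁ U') := by
    have : IsAffine _ := U.2
    have : IsAffine _ := hU'
    have : IsAffine _ := V.2
    exact .of_isIso (Scheme.Hom.isPullback_resLE H eU' e rfl).isoPullback.hom
  have hpo : IsPushout (f.appLE U.1 V.1 e) (g.appLE U.1 U' eU')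
      ((pullback.fst f g).appLE V.1 ((pullback.fst f g) ⁻¹ᵁ V.1 ⊓ (pullback.snd f g) ⁻¹ᵁ U')
        inf_le_left)
      ((pullback.snd f g).appLE U' ((pullback.fst f g) ⁻¹ᵁ V.1 ⊓ (pullback.snd f g) ⁻¹ᵁ U')
        inf_le_right) := by
    haveI := isIso_pushoutSection_of_isAffineOpen H eU' e rfl U.2 hU' V.2
    exact (isIso_pushoutSection_iff H eU' e rfl).mp this
  exact ⟨V.1, U', hxV, hyU', hU', hV', Groth.Agent.S18202.locHom_baseChange _ _ _ _ hpo hUV⟩

set_option backward.isDefEq.respectTransparency false in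
theorem inj_of_sep {X Y : Scheme.{u}} (f : X ⟶ Y) (hf : LocImm.IsLocalizing f) [IsSeparated f]
    (hmax : Set.InjOn (fun x => f x) {x : X | ∀ x' : X, x' ⤳ x → x' = x}) :
    Function.Injective f := by
  have hiso : ∀ x, IsIso (f.stalkMap x) := by
    intro x
    obtain ⟨U, V, hxV, e, hUV⟩ := hf x
    exact Groth.Agent.S18204.stalk_iso_of_locHom f U.2 V.2 e hUV x hxV
  haveI := hiso
  intro x₁ x₂ h12
  obtain ⟨ξ₁, hξ₁x, hξ₁max⟩ := exists_maximal_generization x₁
  have h1 : f ξ₁ ⤳ f x₂ := h12 ▸ hξ₁x.map f.continuous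
  obtain ⟨ξ₂, hξ₂x, hfξ₂⟩ := Groth.Agent.S18203.genlift_of_stalk_iso f x₂ (f ξ₁) h1
  have hξ₂max : ∀ ξ' : X, ξ' ⤳ ξ₂ → ξ' = ξ₂ := by
    intro ξ' hξ'
    have h2 : f ξ' ⤳ f ξ₁ := hfξ₂ ▸ hξ'.map f.continuous
    obtain ⟨ξ'', hξ'', hfξ''⟩ := Groth.Agent.S18203.genlift_of_stalk_iso f ξ₁ (f ξ') h2
    have h3 : ξ'' = ξ₁ := hξ₁max ξ'' hξ''
    have h4 : f ξ' = f ξ₂ := by rw [← hfξ'', h3, hfξ₂]
    exact loc_inj_of_stalk_iso f ξ₂ ξ' ξ₂ hξ' specializes_rfl h4
  have hξ : ξ₁ = ξ₂ := hmax hξ₁max hξ₂max hfξ₂.symm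
  subst hξ
  obtain ⟨z, hz1, hz2⟩ := Scheme.Pullback.exists_preimage_pullback x₁ x₂ h12
  obtain ⟨V, U', hzV, hzU', hU', hV', hloc'⟩ := exists_affine_snd_locHom f f hf z
  have hd1 : (pullback.fst f f) ((pullback.diagonal f) ξ₁) = ξ₁ := by
    show (pullback.diagonal f ≫ pullback.fst f f) ξ₁ = ξ₁
    rw [pullback.diagonal_fst]; rfl
  have hd2 : (pullback.snd f f) ((pullback.diagonal f) ξ₁) = ξ₁ := by
    show (pullback.diagonal f ≫ pullback.snd f f) ξ₁ = ξ₁
    rw [pullback.diagonal_snd]; rfl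
  have hdV' : (pullback.diagonal f) ξ₁ ∈
      (pullback.fst f f) ⁻¹ᵁ V ⊓ (pullback.snd f f) ⁻¹ᵁ U' := by
    refine ⟨?_, ?_⟩
    · show (pullback.fst f f) ((pullback.diagonal f) ξ₁) ∈ V
      rw [hd1]
      exact hξ₁x.mem_open V.2 (by rw [← hz1]; exact hzV)
    · show (pullback.snd f f) ((pullback.diagonal f) ξ₁) ∈ U'
      rw [hd2]
      exact hξ₂x.mem_open U'.2 (by rw [← hz2]; exact hzU')
  have hzV' : z ∈ (pullback.fst f f) ⁻¹ᵁ V ⊓ (pullback.snd f f) ⁻¹ᵁ U' := ⟨hzV, hzU'⟩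
  have hspec : (pullback.diagonal f) ξ₁ ⤳ z :=
    specializes_of_locHom (pullback.snd f f) hU' hV' inf_le_right hloc' _ z hdV' hzV'
      (by rw [hd2, hz2]; exact hξ₂x)
  have hclosed : IsClosed (Set.range (pullback.diagonal f)) :=
    (pullback.diagonal f).isClosedEmbedding.isClosed_range
  have hzr : z ∈ Set.range (pullback.diagonal f) := hspec.mem_closed hclosed ⟨ξ₁, rfl⟩
  obtain ⟨x, rfl⟩ := hzr
  have e1 : (pullback.fst f f) ((pullback.diagonal f) x) = x := by
    show (pullback.diagonal f ≫ pullback.fst f f) x = x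
    rw [pullback.diagonal_fst]; rfl
  have e2 : (pullback.snd f f) ((pullback.diagonal f) x) = x := by
    show (pullback.diagonal f ≫ pullback.snd f f) x = x
    rw [pullback.diagonal_snd]; rfl
  rw [← hz1, ← hz2, e1, e2]

theorem main18197 {X Y : Scheme.{u}} (f : X ⟶ Y) (hf : LocImm.IsLocalizing f) :
    Function.Injective f.base ↔ (IsSeparated f ∧
      Set.InjOn (fun x => f x) {x : X | ∀ x' : X, x' ⤳ x → x' = x}) := by
  constructor
  · intro hinj
    haveI : Mono f := Groth.Agent.S18207.mono_of_locImm f ⟨hf, hinj⟩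
    exact ⟨inferInstance, fun a _ b _ hab => hinj hab⟩
  · rintro ⟨hsep, hmax⟩
    haveI := hsep
    exact inj_of_sep f hf hmax

end Helpers

open CategoryTheory AlgebraicGeometry in
/-- Let `f : X ⟶ Y` be a localizing morphism of Noetherian schemes. Then `f` is injective on points if
and only if `f` is separated and injective on the set of maximal points of `X` (the generic points
of its irreducible components, i.e. the points with no proper generization). -/
theorem result {X Y : Scheme.{u}} [IsNoetherian X] [IsNoetherian Y] (f : X ⟶ Y) (hf : LocImm.IsLocalizing f) :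
    Function.Injective f.base ↔ (IsSeparated f ∧ Set.InjOn (fun x => f x) {x : X | ∀ x' : X, x' ⤳ x → x' = x}) := by
  exact main18197 f hf

end Groth.Agent.S18197
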