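import Groth.Statements.S18205
import Mathlib
import Groth.Agent.S18204

set_option autoImplicit false
universe u
open LocImm

namespace Groth.Agent.S18205

section Helpers
open AlgebraicGeometry CategoryTheory CategoryTheory.Limits TopologicalSpace

theorem isOpen_of_isClosed_of_stableUnderGeneralization {Y : Type*} [TopologicalSpace Y]
    [NoetherianSpace Y] [QuasiSober Y]
    {Z : Set Y} (hZ : IsClosed Z) (hgen : StableUnderGeneralization Z) : IsOpen Z := by
  rw [← isClosed_compl_iff]
  have hfin : (irreducibleComponents Y).Finite := NoetherianSpace.finite_irreducibleComponents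
  have hcompl : Zᶜ = ⋃ C ∈ {C ∈ irreducibleComponents Y | ¬ C ⊆ Z}, C := by
    ext y
    simp only [Set.mem_compl_iff, Set.mem_iUnion, Set.mem_setOf_eq, exists_prop]
    constructor
    · intro hy
      exact ⟨irreducibleComponent y, ⟨irreducibleComponent_mem_irreducibleComponents y,
        fun h => hy (h mem_irreducibleComponent)⟩, mem_irreducibleComponent⟩
    · rintro ⟨C, ⟨hC, hCZ⟩, hyC⟩ hyZ
      apply hCZ
      have hCirr : IsIrreducible C := hC.1
      have hCcl : IsClosed C := isClosed_of_mem_irreducibleComponents C hC
      obtain ⟨η, hη⟩ := QuasiSober.sober hCirr hCcl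
      have hηy : η ⤳ y := by
        rw [specializes_iff_mem_closure, hη.def]
        exact hyC
      have hηZ : η ∈ Z := hgen hηy hyZ
      rw [← hη.def]
      exact hZ.closure_subset_iff.mpr (Set.singleton_subset_iff.mpr hηZ)
  rw [hcompl]
  exact (hfin.subset (fun C hC => hC.1)).isClosed_biUnion
    (fun C hC => isClosed_of_mem_irreducibleComponents C hC.1)

set_option backward.isDefEq.respectTransparency false in
theorem main18205 {X Y : Scheme.{u}} [IsNoetherian X] [IsNoetherian Y]
    (f : X ⟶ Y) (hf : LocImm.IsLocImmersion f) (hc : IsClosed (Set.range (fun x => f x))) :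
    IsOpenImmersion f := by
  obtain ⟨hloc, hinj⟩ := hf
  have hc' : IsClosed (Set.range f) := hc
  have hiso : ∀ x, IsIso (f.stalkMap x) := by
    intro x
    obtain ⟨U, V, hxV, e, hUV⟩ := hloc x
    exact Groth.Agent.S18204.stalk_iso_of_locHom f U.2 V.2 e hUV x hxV
  haveI := hiso
  have hgenlift : ∀ (x : X) (y : Y), y ⤳ f x → ∃ x', x' ⤳ x ∧ f x' = y := by
    intro x y hy
    have h1 : y ∈ Set.range (Y.fromSpecStalk (f x)) := by
      rw [Scheme.range_fromSpecStalk]; exact hy
    obtain ⟨p, rfl⟩ := h1
    let p' := (Spec.map (inv (f.stalkMap x))) p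
    have hp' : (Spec.map (f.stalkMap x)) p' = p := by
      show (Spec.map (inv (f.stalkMap x)) ≫ Spec.map (f.stalkMap x)) p = p
      rw [← Spec.map_comp, IsIso.hom_inv_id, Spec.map_id]
      rfl
    refine ⟨X.fromSpecStalk x p', ?_, ?_⟩
    · have : X.fromSpecStalk x p' ∈ Set.range (X.fromSpecStalk x) := ⟨p', rfl⟩
      rwa [Scheme.range_fromSpecStalk] at this
    · show (X.fromSpecStalk x ≫ f) p' = _
      rw [← Scheme.SpecMap_stalkMap_fromSpecStalk]
      show Y.fromSpecStalk (f x) ((Spec.map (f.stalkMap x)) p') = _
      rw [hp']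
  have hgen : StableUnderGeneralization (Set.range f) := by
    rintro _ y hy ⟨x, rfl⟩
    obtain ⟨x', -, rfl⟩ := hgenlift x y hy
    exact ⟨x', rfl⟩
  have hopenrange : IsOpen (Set.range f) :=
    isOpen_of_isClosed_of_stableUnderGeneralization hc' hgen
  have hspec : SpecializingMap f := by
    intro x y' hy'
    have hmem : y' ∈ Set.range f :=
      (hc'.closure_subset_iff.mpr (Set.singleton_subset_iff.mpr ⟨x, rfl⟩))
        (specializes_iff_mem_closure.mp hy')
    obtain ⟨x', rfl⟩ := hmem
    obtain ⟨x'', hx'', hfx''⟩ := hgenlift x' (f x) hy'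
    have hxx : x'' = x := hinj hfx''
    subst hxx
    exact ⟨x', hx'', rfl⟩
  have hclosed : IsClosedMap f := (isClosedMap_iff_specializingMap f).mpr hspec
  have hemb : Topology.IsEmbedding f :=
    (Topology.IsClosedEmbedding.of_continuous_injective_isClosedMap f.continuous hinj
      hclosed).isEmbedding
  exact IsOpenImmersion.of_isIso_stalkMap f ⟨hemb, hopenrange⟩

end Helpers

open CategoryTheory AlgebraicGeometry in
/-- Let `f : X ⟶ Y` be a localizing immersion (localizing and injective on points) of Noetherian schemes
whose image is closed. Then `f` is an open immersion (so its image is open and closed and `f` is an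
isomorphism onto a union of connected components of `Y`); in particular a surjective localizing
immersion is an isomorphism. -/
theorem result {X Y : Scheme.{u}} [IsNoetherian X] [IsNoetherian Y]
    (f : X ⟶ Y) (hf : LocImm.IsLocImmersion f) (hc : IsClosed (Set.range (fun x => f x))) : IsOpenImmersion f := by
  exact main18205 f hf hc

end Groth.Agent.S18205
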