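import Groth.Statements.S18251
import Mathlib

set_option autoImplicit false
universe u
open W4c5m1nsnscurves
open Curves

namespace Groth.Agent.S18251

open MvPolynomial
open scoped MonomialOrder

/-- additive equivalence to lex pairs, second exponent first -/
private noncomputable def toSynEquiv : (Fin 2 →₀ ℕ) ≃+ ℕ ×ₗ ℕ where
  toFun c := toLex (c 1, c 0)
  invFun p := Finsupp.single 1 (ofLex p).1 + Finsupp.single 0 (ofLex p).2
  left_inv c := by
    ext i
    fin_cases i <;> simp
  right_inv p := by
    simp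
  map_add' c d := rfl

private noncomputable def mo : MonomialOrder (Fin 2) where
  syn := ℕ ×ₗ ℕ
  toSyn := toSynEquiv
  toSyn_monotone := by
    intro c d hcd
    show toLex (c 1, c 0) ≤ toLex (d 1, d 0)
    exact Prod.Lex.toLex_mono (Prod.mk_le_mk.mpr ⟨hcd 1, hcd 0⟩)

private lemma mo_lt_iff (c d : Fin 2 →₀ ℕ) :
    c ≺[mo] d ↔ c 1 < d 1 ∨ c 1 = d 1 ∧ c 0 < d 0 := by
  show toLex (c 1, c 0) < toLex (d 1, d 0) ↔ _
  exact Prod.Lex.toLex_lt_toLex

private noncomputable abbrev fpoly (R : Type u) [CommRing R] (a b c d : R) :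
    MvPolynomial (Fin 2) R :=
  X 0 * X 1 ^ 2 - X 0 ^ 2 * X 1 - (C a * X 0 * X 1 + C b * X 0 + C c * X 1 + C d)

private lemma fpoly_eq (R : Type u) [CommRing R] (a b c d : R) :
    fpoly R a b c d = monomial (Finsupp.single 0 1 + Finsupp.single 1 2) 1 +
      (-(monomial (Finsupp.single 0 2 + Finsupp.single 1 1) 1) -
        (monomial (Finsupp.single 0 1 + Finsupp.single 1 1) a + monomial (Finsupp.single 0 1) b +
          monomial (Finsupp.single 1 1) c + monomial 0 d)) := by
  have h1 : (X 0 * X 1 ^ 2 : MvPolynomial (Fin 2) R) =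
      monomial (Finsupp.single 0 1 + Finsupp.single 1 2) 1 := by
    rw [monomial_single_add, ← X_pow_eq_monomial, pow_one]
  have h2 : (X 0 ^ 2 * X 1 : MvPolynomial (Fin 2) R) =
      monomial (Finsupp.single 0 2 + Finsupp.single 1 1) 1 := by
    rw [monomial_single_add, ← X_pow_eq_monomial, pow_one]
  have h3 : (C a * X 0 * X 1 : MvPolynomial (Fin 2) R) =
      monomial (Finsupp.single 0 1 + Finsupp.single 1 1) a := by
    rw [monomial_single_add, ← C_mul_X_eq_monomial, pow_one]
    ring
  have h4 : (C b * X 0 : MvPolynomial (Fin 2) R) = monomial (Finsupp.single 0 1) b :=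
    C_mul_X_eq_monomial
  have h5 : (C c * X 1 : MvPolynomial (Fin 2) R) = monomial (Finsupp.single 1 1) c :=
    C_mul_X_eq_monomial
  have h6 : (C d : MvPolynomial (Fin 2) R) = monomial 0 d := rfl
  show X 0 * X 1 ^ 2 - X 0 ^ 2 * X 1 - (C a * X 0 * X 1 + C b * X 0 + C c * X 1 + C d) = _
  rw [h1, h2, h3, h4, h5, h6]
  ring

private lemma fpoly_degree (R : Type u) [CommRing R] [Nontrivial R] (a b c d : R) :
    mo.degree (fpoly R a b c d) = Finsupp.single 0 1 + Finsupp.single 1 2 ∧
    mo.leadingCoeff (fpoly R a b c d) = 1 := by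
  classical
  rw [fpoly_eq]
  obtain ⟨g, hg⟩ : ∃ g : MvPolynomial (Fin 2) R,
      g = (-(monomial (Finsupp.single 0 2 + Finsupp.single 1 1) 1) -
        (monomial (Finsupp.single 0 1 + Finsupp.single 1 1) a + monomial (Finsupp.single 0 1) b +
          monomial (Finsupp.single 1 1) c + monomial 0 d)) := ⟨_, rfl⟩
  rw [← hg]
  have hd0 : (0 : Fin 2 →₀ ℕ) ≺[mo] (Finsupp.single 0 1 + Finsupp.single 1 2) := by
    rw [mo_lt_iff]; left; simp [Finsupp.single_apply]
  have hsupp : ∀ c' ∈ g.support, c' ≺[mo] (Finsupp.single 0 1 + Finsupp.single 1 2) := by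
    intro c' hc'
    by_contra hnot
    rw [mem_support_iff] at hc'
    apply hc'
    have e1 : (Finsupp.single 0 2 + Finsupp.single 1 1 : Fin 2 →₀ ℕ) ≠ c' := by
      rintro rfl; apply hnot; rw [mo_lt_iff]; left; simp [Finsupp.single_apply]
    have e2 : (Finsupp.single 0 1 + Finsupp.single 1 1 : Fin 2 →₀ ℕ) ≠ c' := by
      rintro rfl; apply hnot; rw [mo_lt_iff]; left; simp [Finsupp.single_apply]
    have e3 : (Finsupp.single 0 1 : Fin 2 →₀ ℕ) ≠ c' := by
      rintro rfl; apply hnot; rw [mo_lt_iff]; left; simp [Finsupp.single_apply]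
    have e4 : (Finsupp.single 1 1 : Fin 2 →₀ ℕ) ≠ c' := by
      rintro rfl; apply hnot; rw [mo_lt_iff]; left; simp [Finsupp.single_apply]
    have e5 : (0 : Fin 2 →₀ ℕ) ≠ c' := by
      rintro rfl; apply hnot; rw [mo_lt_iff]; left; simp [Finsupp.single_apply]
    rw [hg]
    simp only [coeff_sub, coeff_neg, coeff_add, coeff_monomial, if_neg e1, if_neg e2, if_neg e3,
      if_neg e4, if_neg e5]
    simp
  have hlt : mo.degree g ≺[mo]
      mo.degree (monomial (Finsupp.single 0 1 + Finsupp.single 1 2) (1 : R)) := by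
    rw [MonomialOrder.degree_monomial, if_neg one_ne_zero]
    exact (MonomialOrder.degree_lt_iff hd0).mpr hsupp
  constructor
  · rw [MonomialOrder.degree_add_of_lt hlt, MonomialOrder.degree_monomial, if_neg one_ne_zero]
  · rw [MonomialOrder.leadingCoeff_add_of_lt hlt, MonomialOrder.leadingCoeff_monomial]

private noncomputable def ee : Option (ℕ ⊕ (Fin 2 × ℕ)) → (Fin 2 →₀ ℕ)
  | none => 0
  | some (Sum.inl k) => Finsupp.single 0 (k + 1) + Finsupp.single 1 1
  | some (Sum.inr (y, k)) => Finsupp.single y (k + 1)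

private lemma cmon3_eq (R : Type u) [CommRing R] (a b c d : R) (i : Option (ℕ ⊕ (Fin 2 × ℕ))) :
    cmon3 R a b c d i = Ideal.Quotient.mk _ (monomial (ee i) 1) := by
  rcases i with _ | (k | ⟨y, k⟩)
  · show (1 : CurveAlg3 R a b c d) = _
    simp only [ee]
    rw [← one_def, map_one]
  · show Ideal.Quotient.mk _ (X 0 ^ (k + 1) * X 1) = _
    congr 1
    simp only [ee]
    rw [monomial_single_add, ← X_pow_eq_monomial, pow_one]
  · show Ideal.Quotient.mk _ (X y ^ (k + 1)) = _
    congr 1
    simp only [ee]
    rw [X_pow_eq_monomial]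

private lemma ee_not_le (i : Option (ℕ ⊕ (Fin 2 × ℕ))) :
    ¬ ((Finsupp.single 0 1 + Finsupp.single 1 2 : Fin 2 →₀ ℕ) ≤ ee i) := by
  intro hle
  have h0 := hle 0
  have h1 := hle 1
  rcases i with _ | (k | ⟨y, k⟩)
  · simp [ee, Finsupp.single_apply] at h0
  · simp [ee, Finsupp.single_apply] at h1
  · fin_cases y
    · simp [ee, Finsupp.single_apply] at h1
    · simp [ee, Finsupp.single_apply] at h0

private noncomputable def dec (c : Fin 2 →₀ ℕ) : Option (ℕ ⊕ (Fin 2 × ℕ)) :=
  if c 1 = 0 then (if c 0 = 0 then none else some (Sum.inr (0, c 0 - 1)))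
  else if c 0 = 0 then some (Sum.inr (1, c 1 - 1)) else some (Sum.inl (c 0 - 1))

private lemma dec_ee (i : Option (ℕ ⊕ (Fin 2 × ℕ))) : dec (ee i) = i := by
  rcases i with _ | (k | ⟨y, k⟩)
  · simp [dec, ee]
  · simp [dec, ee, Finsupp.single_apply]
  · fin_cases y
    · simp [dec, ee, Finsupp.single_apply]
    · simp [dec, ee, Finsupp.single_apply]

private lemma ee_injective : Function.Injective ee :=
  Function.LeftInverse.injective dec_ee

private lemma ee_dec (c : Fin 2 →₀ ℕ)
    (hc : ¬ ((Finsupp.single 0 1 + Finsupp.single 1 2 : Fin 2 →₀ ℕ) ≤ c)) :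
    ee (dec c) = c := by
  have hc' : ¬ (1 ≤ c 0 ∧ 2 ≤ c 1) := by
    intro h
    apply hc
    intro i
    fin_cases i
    · simpa [Finsupp.single_apply] using h.1
    · simpa [Finsupp.single_apply] using h.2
  unfold dec
  split_ifs with h1 h0 h0
  · ext i
    fin_cases i <;> simp [ee, h0, h1]
  · ext i
    fin_cases i
    · simp [ee, Finsupp.single_apply] <;> omega
    · simp [ee, Finsupp.single_apply, h1]
  · ext i
    fin_cases i
    · simp [ee, Finsupp.single_apply, h0]
    · simp [ee, Finsupp.single_apply] <;> omega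
  · have h2 : c 1 = 1 := by omega
    ext i
    fin_cases i
    · simp [ee, Finsupp.single_apply] <;> omega
    · simp [ee, Finsupp.single_apply, h2]

/-- Case n = 3: let R be a commutative ring and a, b, c, d elements of R (a point of U_3, which is
affine 4-space, so no condition is imposed). Then in the R-algebra R[x_2, x_3]/(x_2 x_3² − x_2² x_3
− a x_2 x_3 − b x_2 − c x_3 − d) the classes of the monomials 1, x_2^k x_3, x_2^k and x_3^k (k ≥ 1)
are linearly independent over R and span, i.e. form an R-basis. -/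
theorem result (R : Type u) [CommRing R] (a b c d : R) :
    LinearIndependent R (cmon3 R a b c d) ∧
      Submodule.span R (Set.range (cmon3 R a b c d)) = ⊤ := by

  classical
  rcases subsingleton_or_nontrivial R with hR | hR
  · haveI : Subsingleton (CurveAlg3 R a b c d) := Module.subsingleton R _
    exact ⟨linearIndependent_of_subsingleton, Subsingleton.elim _ _⟩
  obtain ⟨hdeg, hlc⟩ := fpoly_degree R a b c d
  constructor
  · rw [linearIndependent_iff]
    intro l hl
    obtain ⟨P, hP⟩ : ∃ P : MvPolynomial (Fin 2) R,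
        P = ∑ i ∈ l.support, MvPolynomial.monomial (ee i) (l i) := ⟨_, rfl⟩
    have hcoeff : ∀ j, MvPolynomial.coeff (ee j) P = l j := by
      intro j
      rw [hP, MvPolynomial.coeff_sum]
      simp only [MvPolynomial.coeff_monomial]
      rw [Finset.sum_eq_single j]
      · simp
      · intro i _ hij
        rw [if_neg (fun h => hij (ee_injective h))]
      · intro hj
        rw [if_pos rfl]
        exact Finsupp.notMem_support_iff.mp hj
    have hmk : Ideal.Quotient.mk (Ideal.span {fpoly R a b c d}) P = 0 := by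
      rw [← hl, Finsupp.linearCombination_apply, Finsupp.sum, hP, map_sum]
      refine Finset.sum_congr rfl (fun i _ => ?_)
      rw [cmon3_eq]
      have h1 : MvPolynomial.monomial (ee i) (l i) =
          l i • MvPolynomial.monomial (ee i) (1 : R) := by
        rw [MvPolynomial.smul_monomial, smul_eq_mul, mul_one]
      rw [h1]
      exact map_smul (Ideal.Quotient.mkₐ R (Ideal.span {fpoly R a b c d})) (l i) _
    rw [Ideal.Quotient.eq_zero_iff_mem, Ideal.mem_span_singleton'] at hmk
    obtain ⟨g, hg⟩ := hmk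
    have hP0 : P = 0 := by
      by_contra hPne
      have hg0 : g ≠ 0 := by
        rintro rfl
        exact hPne (by rw [← hg, zero_mul])
      have hreg : IsRegular (mo.leadingCoeff (fpoly R a b c d)) := by
        rw [hlc]; exact isRegular_one
      have hdegP : mo.degree P =
          mo.degree g + (Finsupp.single 0 1 + Finsupp.single 1 2) := by
        rw [← hg, MonomialOrder.degree_mul_of_isRegular_right hg0 hreg, hdeg]
      have hmem := MonomialOrder.degree_mem_support (m := mo) hPne
      have hex : ∃ i, ee i = mo.degree P := by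
        by_contra hno
        push_neg at hno
        rw [MvPolynomial.mem_support_iff] at hmem
        apply hmem
        rw [hP, MvPolynomial.coeff_sum]
        apply Finset.sum_eq_zero
        intro i _
        rw [MvPolynomial.coeff_monomial, if_neg]
        rw [← hP]
        exact hno i
      obtain ⟨i, hi⟩ := hex
      apply ee_not_le i
      rw [hi, hdegP]
      exact le_add_self
    ext j
    rw [← hcoeff j, hP0, MvPolynomial.coeff_zero]
    rfl
  · rw [eq_top_iff]
    rintro x -
    obtain ⟨F, rfl⟩ := Ideal.Quotient.mk_surjective x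
    obtain ⟨g, r, hF, -, hr⟩ := mo.div_single (b := fpoly R a b c d)
      (by rw [hlc]; exact isUnit_one) F
    have hmk : Ideal.Quotient.mk (Ideal.span {fpoly R a b c d}) F =
        Ideal.Quotient.mk _ r := by
      rw [hF, map_add, add_eq_right]
      exact Ideal.Quotient.eq_zero_iff_mem.mpr
        (Ideal.mul_mem_left _ _ (Ideal.subset_span rfl))
    rw [hmk, r.as_sum, map_sum]
    refine Submodule.sum_mem _ (fun c' hc' => ?_)
    have hnle := hr c' hc'
    rw [hdeg] at hnle
    have hee := ee_dec c' hnle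
    have h1 : MvPolynomial.monomial c' (MvPolynomial.coeff c' r) =
        MvPolynomial.coeff c' r • MvPolynomial.monomial (ee (dec c')) (1 : R) := by
      rw [hee, MvPolynomial.smul_monomial, smul_eq_mul, mul_one]
    rw [h1]
    have h2 : Ideal.Quotient.mk (Ideal.span {fpoly R a b c d})
        (MvPolynomial.coeff c' r • MvPolynomial.monomial (ee (dec c')) (1 : R)) =
        MvPolynomial.coeff c' r • cmon3 R a b c d (dec c') := by
      rw [cmon3_eq]
      exact map_smul (Ideal.Quotient.mkₐ R _) _ _
    rw [h2]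
    exact Submodule.smul_mem _ _ (Submodule.subset_span ⟨_, rfl⟩)


end Groth.Agent.S18251
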