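import Groth.Statements.S18265
import Mathlib

set_option autoImplicit false
universe u
open InvQ

namespace Groth.Agent.S18265

theorem isIntegrallyClosed_of_saturated {k S : Type*} [CommRing k] [CommRing S] [IsDomain S]
    [Algebra k S] [IsIntegrallyClosed S] (T : Subalgebra k S)
    (hT : ∀ (s : S) (a b : T), (b : S) ≠ 0 → (b : S) * s = a → s ∈ T) : IsIntegrallyClosed T := by
  rw [isIntegrallyClosed_iff (FractionRing T)]
  intro x hx
  obtain ⟨a, b, hb, rfl⟩ := IsFractionRing.div_surjective (A := T) x
  have hb0 : b ≠ 0 := nonZeroDivisors.ne_zero hb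
  have hbS : (b : S) ≠ 0 := fun h => hb0 (Subtype.ext h)
  obtain ⟨ι, hιdef⟩ : ∃ ι : T →+* FractionRing S,
      ι = (algebraMap S (FractionRing S)).comp T.val.toRingHom := ⟨_, rfl⟩
  have hι : Function.Injective ι := by
    rw [hιdef]
    exact (IsFractionRing.injective S (FractionRing S)).comp Subtype.val_injective
  obtain ⟨p, hp, hpx⟩ := hx
  have hx' : IsIntegral S (IsFractionRing.lift hι
      (algebraMap T (FractionRing T) a / algebraMap T (FractionRing T) b)) := by
    refine ⟨p.map T.val.toRingHom, hp.map _, ?_⟩
    rw [Polynomial.eval₂_map]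
    have hcomp : (algebraMap S (FractionRing S)).comp T.val.toRingHom
        = (IsFractionRing.lift hι).comp (algebraMap T (FractionRing T)) := by
      ext t
      simp only [RingHom.comp_apply, IsFractionRing.lift_algebraMap, hιdef]
    rw [hcomp, ← Polynomial.hom_eval₂, hpx, map_zero]
  obtain ⟨s, hs⟩ := IsIntegrallyClosed.algebraMap_eq_of_integral hx'
  rw [map_div₀, IsFractionRing.lift_algebraMap, IsFractionRing.lift_algebraMap] at hs
  have hιb : ι b ≠ 0 := fun h => hb0 (hι (by rw [h, map_zero]))
  rw [eq_div_iff hιb] at hs
  have hbs : (b : S) * s = a := by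
    apply IsFractionRing.injective S (FractionRing S)
    rw [map_mul, mul_comm]
    rw [hιdef] at hs
    exact hs
  have hsT : s ∈ T := hT s a b hbS hbs
  refine ⟨⟨s, hsT⟩, ?_⟩
  have hbK : algebraMap T (FractionRing T) b ≠ 0 := by
    intro h
    exact hb0 (IsFractionRing.injective T (FractionRing T) (by rw [h, map_zero]))
  rw [eq_div_iff hbK, ← map_mul]
  congr 1
  apply Subtype.ext
  show s * (b : S) = a
  rw [mul_comm]; exact hbs


/-- Let k be an algebraically closed field and n, m natural numbers, and let R be the ring of polynomial
functions of m vectors of k^(n+1) invariant under the special linear group SL(n+1, k) acting on all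
the vectors at once and under the rescalings of the individual vectors by units with product 1
(equivalently: invariant and homogeneous of one and the same degree in each vector) — the graded
ring of invariant sections whose Proj is the quotient variety of ordered m-point sets in projective
n-space. Then R is integrally closed in its field of fractions; hence that quotient variety is
normal. (Only the normality assertion of the source's statement is given here; its dimension,
rationality and singular-locus assertions are not.) -/
theorem result (k : Type u) [Field k] [IsAlgClosed k] (n m : ℕ) :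
    IsIntegrallyClosed (W4c5pointsetsdelpezzo.invRing k n m) := by
  apply isIntegrallyClosed_of_saturated
  intro s a b hb hbs
  have key : ∀ σ : W4c5pointsetsdelpezzo.TupleRing k n m →ₐ[k] W4c5pointsetsdelpezzo.TupleRing k n m,
      σ (a : W4c5pointsetsdelpezzo.TupleRing k n m) = a →
      σ (b : W4c5pointsetsdelpezzo.TupleRing k n m) = b → σ s = s := by
    intro σ ha hb'
    have h1 : σ (b : W4c5pointsetsdelpezzo.TupleRing k n m) * σ s = σ a := by
      rw [← map_mul, hbs]
    rw [ha, hb', ← hbs] at h1
    exact mul_left_cancel₀ hb h1
  have ha := a.2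
  have hb2 := b.2
  unfold W4c5pointsetsdelpezzo.invRing at ha hb2 ⊢
  rw [Algebra.mem_inf, Algebra.mem_iInf, Algebra.mem_iInf] at ha hb2 ⊢
  constructor
  · intro g
    rw [AlgHom.mem_equalizer]
    exact key _ ((AlgHom.mem_equalizer _ _ _).mp (ha.1 g)) ((AlgHom.mem_equalizer _ _ _).mp (hb2.1 g))
  · intro t
    rw [AlgHom.mem_equalizer]
    exact key _ ((AlgHom.mem_equalizer _ _ _).mp (ha.2 t)) ((AlgHom.mem_equalizer _ _ _).mp (hb2.2 t))

end Groth.Agent.S18265
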