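import Mathlib
import Groth.Statements.S18266
import Groth.Agent.S14765
-- import your own Groth.Agent.* helpers here

set_option autoImplicit false
universe u
open CategoryTheory AlgebraicGeometry
open FDesc

namespace Groth.Agent.S18266

open CategoryTheory.Limits

theorem eq_zero_of_mul_eq_zero_of_basicOpen {Y : Scheme.{u}} {W : Y.Opens} (t s : Γ(Y, W))
    (hts : t * s = 0) (ht : ∀ x ∈ W, x ∈ Y.basicOpen t) : s = 0 := by
  refine TopCat.Presheaf.section_ext Y.sheaf W s 0 (fun x hx => ?_)
  have hu : IsUnit (Y.presheaf.germ W x hx t) := (Y.mem_basicOpen t x hx).mp (ht x hx)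
  have h0 : Y.presheaf.germ W x hx t * Y.presheaf.germ W x hx s = 0 := by
    rw [← map_mul, hts, map_zero]
  rw [map_zero]
  exact (hu.mul_right_eq_zero).mp h0


/-- Let A be a discrete valuation ring, η the generic point of Spec A, and f : X → Spec A a morphism
from an arbitrary scheme X. The scheme-theoretic closure of the generic fibre X_η in X (the flat
completion) is flat over Spec A, and it is the largest closed subscheme of X flat over Spec A: for
every closed immersion i : Z → X with Z flat over Spec A, the ideal sheaf of the flat completion is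
contained in the ideal sheaf of i. -/
theorem result (A : Type u) [CommRing A] [IsDomain A]
    [IsDiscreteValuationRing A] {X : Scheme.{u}} (f : X ⟶ Spec (CommRingCat.of A))
    (η : ↥(Spec (CommRingCat.of A))) (hη : η.asIdeal = ⊥) :
    Flat ((f.fiberι η).imageι ≫ f) ∧
      ∀ (Z : Scheme.{u}) (i : Z ⟶ X), IsClosedImmersion i → Flat (i ≫ f) → (f.fiberι η).ker ≤ i.ker := by
  obtain ⟨e, he⟩ : ∃ e : Spec ((Spec (CommRingCat.of A)).residueField η) ⟶ Spec (CommRingCat.of A),
      e = (Spec (CommRingCat.of A)).fromSpecResidueField η := ⟨_, rfl⟩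
  haveI hqce : QuasiCompact e := by rw [he]; infer_instance
  obtain ⟨ι, hι⟩ : ∃ ι : f.fiber η ⟶ X, ι = f.fiberι η := ⟨_, rfl⟩
  rw [← hι]
  haveI hqc : QuasiCompact ι := by
    rw [hι]
    show QuasiCompact (pullback.fst f ((Spec (CommRingCat.of A)).fromSpecResidueField η))
    rw [← he]
    infer_instance
  have hιpt : ∀ pt, f.base (ι.base pt) = η := by
    intro pt
    have h1 : ι.base pt ∈ Set.range (f.fiberι η) := ⟨pt, by rw [hι]⟩
    rw [Scheme.Hom.range_fiberι] at h1
    exact h1
  constructor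
  · rw [IsZariskiLocalAtSource.iff_of_openCover (P := @Flat) ι.ker.subschemeCover.openCover]
    change ∀ U : X.affineOpens, Flat (ι.ker.subschemeCover.f U ≫ ι.ker.subschemeι ≫ f)
    intro U
    obtain ⟨φ, hφ⟩ := Spec.map_surjective (U.2.fromSpec ≫ f)
    have e1 : ι.ker.subschemeCover.f U ≫ ι.ker.subschemeι ≫ f =
        Spec.map (φ ≫ CommRingCat.ofHom (Ideal.Quotient.mk (ι.ker.ideal U))) := by
      rw [Spec.map_comp, hφ, ← Category.assoc, ← Category.assoc,
        Scheme.IdealSheafData.subschemeCover_map_subschemeι,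
        Scheme.IdealSheafData.glueDataObjι_ι]
      rfl
    suffices hsuff : Flat (Spec.map (φ ≫ CommRingCat.ofHom (Ideal.Quotient.mk (ι.ker.ideal U)))) by
      rw [e1]; exact hsuff
    rw [HasRingHomProperty.Spec_iff (P := @Flat)]
    apply Groth.Agent.S14765.flat_of_valuationRing
    intro v hv b hb
    obtain ⟨b₀, rfl⟩ := Ideal.Quotient.mk_surjective b
    have hb' : φ.hom v * b₀ ∈ ι.ker.ideal U := by
      rw [← Ideal.Quotient.eq_zero_iff_mem, map_mul]
      exact hb
    rw [Scheme.Hom.ker_apply, RingHom.mem_ker, map_mul] at hb'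
    rw [Ideal.Quotient.eq_zero_iff_mem, Scheme.Hom.ker_apply, RingHom.mem_ker]
    apply eq_zero_of_mul_eq_zero_of_basicOpen _ _ hb'
    intro pt hptU
    obtain ⟨x', hx'def⟩ : ∃ x' : X, x' = ι.base pt := ⟨_, rfl⟩
    have hx'U : x' ∈ U.1 := by rw [hx'def]; exact hptU
    have hx' : f.base x' = η := by rw [hx'def]; exact hιpt pt
    have hp' : U.2.fromSpec.base (U.2.primeIdealOf ⟨x', hx'U⟩) = x' :=
      U.2.fromSpec_primeIdealOf ⟨x', hx'U⟩
    have hφv : φ.hom v ∉ (U.2.primeIdealOf ⟨x', hx'U⟩).asIdeal := by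
      intro hmem
      have h1 : v ∈ ((Spec.map φ).base (U.2.primeIdealOf ⟨x', hx'U⟩)).asIdeal := hmem
      rw [hφ, Scheme.Hom.comp_apply, hp', hx', hη] at h1
      exact hv ((Ideal.mem_bot).mp h1)
    have h2 : U.2.primeIdealOf ⟨x', hx'U⟩ ∈ U.2.fromSpec ⁻¹ᵁ X.basicOpen (φ.hom v) := by
      rw [U.2.fromSpec_preimage_basicOpen]
      exact hφv
    have h3 : x' ∈ X.basicOpen (φ.hom v) := by
      have : U.2.fromSpec.base (U.2.primeIdealOf ⟨x', hx'U⟩) ∈ X.basicOpen (φ.hom v) := h2
      rwa [hp'] at this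
    have h4 : pt ∈ ι ⁻¹ᵁ X.basicOpen (φ.hom v) := by
      show ι.base pt ∈ X.basicOpen (φ.hom v)
      rw [← hx'def]; exact h3
    rw [Scheme.preimage_basicOpen] at h4
    exact h4
  · intro Z i hi hfl
    haveI := hi
    haveI := hfl
    haveI hdom : IsDominant e := by
      constructor
      rw [he, DenseRange, Scheme.range_fromSpecResidueField, dense_iff_closure_eq]
      ext y
      simp only [Set.mem_univ, iff_true]
      rw [← specializes_iff_mem_closure]
      refine (PrimeSpectrum.le_iff_specializes (R := A) η y).mp ?_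
      show η.asIdeal ≤ PrimeSpectrum.asIdeal (R := A) y
      rw [hη]; exact bot_le
    haveI : IsSchemeTheoreticallyDominant e := IsSchemeTheoreticallyDominant.of_isDominant e
    haveI : IsSchemeTheoreticallyDominant (pullback.fst (i ≫ f) e) := inferInstance
    obtain ⟨θ, hθ⟩ : ∃ θ : pullback (i ≫ f) e ⟶ f.fiber η, θ ≫ ι = pullback.fst (i ≫ f) e ≫ i := by
      refine ⟨pullback.lift (pullback.fst (i ≫ f) e ≫ i) (pullback.snd (i ≫ f) e)
        (by rw [Category.assoc, pullback.condition, he]), ?_⟩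
      rw [hι]
      exact pullback.lift_fst _ _ _
    calc ι.ker ≤ (θ ≫ ι).ker := Scheme.Hom.le_ker_comp θ ι
      _ = (pullback.fst (i ≫ f) e ≫ i).ker := by rw [hθ]
      _ = i.ker := by
        rw [Scheme.Hom.ker_comp, Scheme.Hom.ker_eq_bot, Scheme.IdealSheafData.map_bot]

end Groth.Agent.S18266
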