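import Groth.Statements.S18283
import Mathlib

set_option autoImplicit false
universe u v
open CAlgX

namespace Groth.Agent.S18283

private theorem main {A : Type u} [CommRing A] {ι : Type v} [Fintype ι] [DecidableEq ι]
    (H : Finset ι) (f : ι → ι → A)
    (hfH : ∀ j, ∀ j' ∈ H, f j j' = (Pi.single j (1 : A) : ι → A) j')
    (M : Submodule A (ι → A)) (hf : ∀ j ∈ H, f j ∈ M) :
    M = Submodule.span A (f '' ↑H)
      ↔ ∀ v : Fin (H.card + 1) → ι → A, (∀ k, v k ∈ M) →
          exteriorPower.ιMulti A (H.card + 1) v = 0 := by
  classical
  constructor
  · intro hM v hv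
    have hrange : M = LinearMap.range (Fintype.linearCombination A (fun j : H => f j)) := by
      rw [hM, Fintype.range_linearCombination]
      congr 1
      ext x
      simp
    have hex : ∀ k, ∃ a : H → A, Fintype.linearCombination A (fun j : H => f j) a = v k := by
      intro k
      have h1 := hv k
      rw [hrange] at h1
      exact h1
    choose a ha using hex
    have hzero : (exteriorPower.ιMulti A (H.card + 1)).compLinearMap
        (Fintype.linearCombination A (fun j : H => f j)) = 0 := by
      apply Module.Basis.ext_alternating (Pi.basisFun A H)
      intro w hw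
      exfalso
      have h2 := Fintype.card_le_of_injective w hw
      simp at h2
    have h3 : exteriorPower.ιMulti A (H.card + 1) v =
        ((exteriorPower.ιMulti A (H.card + 1)).compLinearMap
          (Fintype.linearCombination A (fun j : H => f j))) a := by
      rw [AlternatingMap.compLinearMap_apply]
      congr 1
      funext k
      exact (ha k).symm
    rw [h3, hzero]
    rfl
  · intro hw
    have key : ∀ m' ∈ M, (∀ j' ∈ H, m' j' = 0) → ∀ i, i ∉ H → m' i = 0 := by
      intro m' hm'M hm'H i hi
      let e : Fin H.card ≃ H := H.equivFin.symm
      let σ : Fin (H.card + 1) → ι := Fin.snoc (α := fun _ => ι) (fun k => (e k : ι)) i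
      let v : Fin (H.card + 1) → (ι → A) :=
        Fin.snoc (α := fun _ => (ι → A)) (fun k => f (e k)) m'
      have hσc : ∀ k : Fin H.card, σ k.castSucc = (e k : ι) := fun k => Fin.snoc_castSucc _ _ _
      have hσl : σ (Fin.last _) = i := Fin.snoc_last _ _
      have hvc : ∀ k : Fin H.card, v k.castSucc = f (e k) := fun k => Fin.snoc_castSucc _ _ _
      have hvl : v (Fin.last _) = m' := Fin.snoc_last _ _
      have hvM : ∀ k, v k ∈ M := by
        intro k
        refine Fin.lastCases ?_ (fun k => ?_) k
        · rw [hvl]; exact hm'M
        · rw [hvc]; exact hf _ (e k).2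
      have h0 := hw v hvM
      let proj : (ι → A) →ₗ[A] (Fin (H.card + 1) → A) := LinearMap.funLeft A A σ
      let g : (ι → A) [⋀^Fin (H.card + 1)]→ₗ[A] A :=
        (Matrix.detRowAlternating).compLinearMap proj
      have h1 : g v = 0 := by
        have h2 := exteriorPower.alternatingMapLinearEquiv_apply_ιMulti g v
        rw [← h2, h0, map_zero]
      have h2 : g v = Matrix.det (Matrix.of fun k l => v k (σ l)) := rfl
      have htri : (Matrix.of fun k l => v k (σ l)).BlockTriangular
          (id : Fin (H.card + 1) → Fin (H.card + 1)) := by
        intro a b hab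
        simp only [id] at hab
        simp only [Matrix.of_apply]
        refine Fin.lastCases ?_ (fun b0 hab => ?_) b hab
        · intro hab
          exact absurd hab (not_lt.mpr (Fin.le_last a))
        · rw [hσc]
          refine Fin.lastCases ?_ (fun a0 hab => ?_) a hab
          · intro _
            rw [hvl]
            exact hm'H _ (e b0).2
          · rw [hvc, hfH _ _ (e b0).2]
            have hne : b0 ≠ a0 := by
              intro h
              rw [h] at hab
              exact lt_irrefl _ hab
            have hne' : ((e b0 : H) : ι) ≠ (e a0 : ι) := fun h =>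
              hne (e.injective (Subtype.ext h))
            exact Pi.single_eq_of_ne hne' _
      rw [h2, Matrix.det_of_upperTriangular htri, Fin.prod_univ_castSucc] at h1
      simp only [Matrix.of_apply] at h1
      rw [hσl, hvl] at h1
      have hone : ∀ k : Fin H.card, v k.castSucc (σ k.castSucc) = 1 := by
        intro k
        rw [hvc, hσc, hfH _ _ (e k).2, Pi.single_eq_same]
      rw [Finset.prod_eq_one (fun k _ => hone k), one_mul] at h1
      exact h1
    apply le_antisymm
    · intro m hm
      have hsum_mem : ∑ j ∈ H, m j • f j ∈ Submodule.span A (f '' ↑H) :=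
        Submodule.sum_mem _ (fun j hj => Submodule.smul_mem _ _
          (Submodule.subset_span ⟨j, hj, rfl⟩))
      have hsumM : ∑ j ∈ H, m j • f j ∈ M :=
        Submodule.sum_mem _ (fun j hj => M.smul_mem _ (hf j hj))
      have hm'M : m - ∑ j ∈ H, m j • f j ∈ M := M.sub_mem hm hsumM
      have hm'H : ∀ j' ∈ H, (m - ∑ j ∈ H, m j • f j) j' = 0 := by
        intro j' hj'
        simp only [Pi.sub_apply, Finset.sum_apply, Pi.smul_apply, smul_eq_mul]
        rw [Finset.sum_eq_single j']
        · rw [hfH j' j' hj', Pi.single_eq_same, mul_one, sub_self]
        · intro b _ hne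
          rw [hfH b j' hj', Pi.single_eq_of_ne (Ne.symm hne), mul_zero]
        · intro h
          exact absurd hj' h
      have hm'0 : m - ∑ j ∈ H, m j • f j = 0 := by
        funext i
        by_cases hi : i ∈ H
        · exact hm'H i hi
        · exact key _ hm'M hm'H i hi
      have hmeq : m = ∑ j ∈ H, m j • f j := sub_eq_zero.mp hm'0
      rw [hmeq]
      exact hsum_mem
    · refine Submodule.span_le.mpr ?_
      rintro _ ⟨j, hj, rfl⟩
      exact hf j hj

/-- Let A be a commutative ring, ι a finite index type, H a finite set of indices (the head indices) and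
c : ι → ι → A a table of coefficients; for j ∈ H put f_j = e_j − Σ_{i ∉ H} c_{ji} e_i in the free
module A^ι, so that each f_j has head e_j with coefficient 1 and tail supported outside H. If a
submodule M of A^ι contains every f_j with j ∈ H, then M is the A-span of these f_j if and only if
every wedge product of |H|+1 elements of M vanishes in the (|H|+1)-st exterior power of A^ι
(equivalently, every (|H|+1)-minor of every matrix whose rows lie in M vanishes). The published
statement is the case where A is a Noetherian algebra over a field of characteristic zero, A^ι is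
the degree-(m+1) part of the polynomial ring over A with its basis of terms, H is the set of
degree-(m+1) terms of a strongly stable monomial ideal generated in degree m, and M is the
degree-(m+1) part of an ideal generated by a marked set on that monomial ideal; this row allows any
commutative ring and any submodule containing the marked polynomials. -/
theorem result
    {A : Type u} [CommRing A] {ι : Type v} [Fintype ι] [DecidableEq ι]
    (H : Finset ι) (c : ι → ι → A) (M : Submodule A (ι → A))
    (hf : ∀ j ∈ H, (Pi.single j (1 : A) - ∑ i ∈ Hᶜ, c j i • Pi.single i (1 : A)) ∈ M) :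
    M = Submodule.span A ((fun j => Pi.single j (1 : A) - ∑ i ∈ Hᶜ, c j i • Pi.single i (1 : A)) '' ↑H)
      ↔ ∀ v : Fin (H.card + 1) → ι → A, (∀ k, v k ∈ M) →
          exteriorPower.ιMulti A (H.card + 1) v = 0 := by
  classical
  refine main H _ ?_ M hf
  intro j j' hj'
  simp only [Pi.sub_apply, Finset.sum_apply, Pi.smul_apply, smul_eq_mul]
  rw [Finset.sum_eq_zero, sub_zero]
  intro i hi
  have hne : j' ≠ i := by
    intro h
    rw [Finset.mem_compl] at hi
    exact hi (h ▸ hj')
  rw [Pi.single_eq_of_ne hne, mul_zero]

end Groth.Agent.S18283
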