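import Groth.Statements.S18285
import Groth.Agent.H28.MagnetSD

set_option autoImplicit false
universe u
open CategoryTheory MonoidalCategory CartesianMonoidalCategory MonObj AlgebraicGeometry Opposite
open Magnet

namespace Groth.Agent.S18285

/-- Let X be an S-scheme separated over S with an action of the diagonalizable monoid scheme A(M)_S of a
commutative monoid M, and N a submonoid of M. Then the canonical map from the attractor X^N to X
(evaluation at the unit section of A(N)_S) is a monomorphism: for every S-scheme T it is injective
on T-points. (The published statement allows X to be an algebraic space over S; here X is a scheme.) -/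
theorem result (S : Scheme.{u}) (M : Type) [AddCommMonoid M]
    (X : Over S) [IsSeparated X.hom] (a : Magnet.MonAct (Magnet.AMonS S M) X) (N : AddSubmonoid M) (T : Over S) :
    Function.Injective (fun φ => (Magnet.attrToX a N).app (op T) φ) := by
  intro φ φ' hφ
  apply Subtype.ext
  have hev : lift (toUnit T ≫ η[AMonS S N]) (𝟙 T) ≫ φ.1 =
      lift (toUnit T ≫ η[AMonS S N]) (𝟙 T) ≫ φ'.1 := hφ
  apply Groth.Agent.H28.MagnetSD.hom_ext_of_injective S N.subtype Subtype.val_injective T
  apply Magnet.hom_ext_lift₂
  intro T' g t
  have key : ∀ ψ : (attr a N).obj (op T),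
      lift g t ≫ (AMonS.map S N.subtype ▷ T) ≫ ψ.1 =
        lift g (t ≫ lift (toUnit T ≫ η[AMonS S N]) (𝟙 T) ≫ ψ.1) ≫ a.act := by
    intro ψ
    have h := (MonAct.mem_eqvHom_iff ψ.1).mp ψ.2 T' g 1 t
    rw [lift_whiskerRight_assoc]
    have h1 : lift g (1 : T' ⟶ AMonS S N) ≫ (subAct S M N).act = g ≫ AMonS.map S N.subtype := by
      rw [subAct, MonAct.lift_restrict_act, MonAct.lift_regular_act, _root_.mul_one]
    rw [h1] at h
    rw [h]
    congr 2
    rw [← Category.assoc, comp_lift, Category.comp_id, ← Category.assoc, Hom.one_def,
      toUnit_unique (t ≫ toUnit T) (toUnit T')]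
  rw [key φ, key φ', hev]

end Groth.Agent.S18285
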