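import Groth.Statements.S18288
import Groth.Agent.H28.MagnetSD

set_option autoImplicit false
universe u
open CategoryTheory MonoidalCategory CartesianMonoidalCategory MonObj AlgebraicGeometry Opposite
open Magnet

namespace Groth.Agent.S18288

/-- Let M be a commutative monoid with an injective homomorphism f : M → Z into a commutative group Z
(so M is cancellative; the published statement takes Z to be the group completion of M, and the same
argument applies to any such Z), let Y be a submonoid of Z contained in the image of M, and let X be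
an S-scheme separated over S with an action of the diagonalizable monoid scheme A(M)_S. Regard X as
a D(Z)_S-scheme through D(Z)_S → A(M)_S. Then the canonical map of attractors X^{f⁻¹Y ⊂ M} → X^{Y ⊂
Z} is an isomorphism: a D(Z)_S-equivariant family out of A(Y)_S is automatically A(M)_S-equivariant.
(The published statement allows X to be an algebraic space; here X is a scheme.) -/
theorem result (S : Scheme.{u}) (M Z : Type) [AddCommMonoid M]
    [AddCommGroup Z] (f : M →+ Z) (hf : Function.Injective f) (Y : AddSubmonoid Z)
    (hY : Y ≤ AddMonoidHom.mrange f) (X : Over S) [IsSeparated X.hom]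
    (a : Magnet.MonAct (Magnet.AMonS S M) X) :
    IsIso (Magnet.attrComap a f Y) := by
  have hgbij : Function.Bijective
      ((f.comp (Y.comap f).subtype).codRestrict Y (fun x => x.2)) := by
    constructor
    · intro x y hxy
      have := congrArg Subtype.val hxy
      exact Subtype.ext (hf this)
    · intro y
      obtain ⟨m, hm⟩ := hY y.2
      exact ⟨⟨m, by show f m ∈ Y; rw [hm]; exact y.2⟩, Subtype.ext hm⟩
  set g : ↥(Y.comap f) →+ ↥Y := (f.comp (Y.comap f).subtype).codRestrict Y (fun x => x.2) with hg
  let ge : ↥(Y.comap f) ≃+ ↥Y := AddEquiv.ofBijective g hgbij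
  set ψ := AMonS.map S g with hψ
  set ψinv := AMonS.map S ge.symm.toAddMonoidHom with hψinv
  have : IsMonHom ψinv := by rw [hψinv]; infer_instance
  have h1 : ψ ≫ ψinv = 𝟙 _ := by
    rw [hψ, hψinv, ← AMonS.map_comp]
    have : g.comp ge.symm.toAddMonoidHom = AddMonoidHom.id _ := by
      ext x; exact congrArg Subtype.val (ge.apply_symm_apply x)
    rw [this, Groth.Agent.H28.MagnetSD.AMonS_map_id]
  have h2 : ψinv ≫ ψ = 𝟙 _ := by
    rw [hψ, hψinv, ← AMonS.map_comp]
    have : ge.symm.toAddMonoidHom.comp g = AddMonoidHom.id _ := by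
      ext x; exact congrArg Subtype.val (ge.symm_apply_apply x)
    rw [this, Groth.Agent.H28.MagnetSD.AMonS_map_id]
  have hkey : AMonS.map S f ≫ AMonS.map S (Y.comap f).subtype ≫ ψinv = AMonS.map S Y.subtype := by
    have e1 : AMonS.map S f ≫ AMonS.map S (Y.comap f).subtype = AMonS.map S Y.subtype ≫ ψ := by
      rw [← AMonS.map_comp, hψ, ← AMonS.map_comp]; rfl
    rw [← Category.assoc, e1, Category.assoc, h1, Category.comp_id]
  rw [NatTrans.isIso_iff_isIso_app]
  intro T
  rw [isIso_iff_bijective]
  constructor
  · intro φ φ' h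
    apply Subtype.ext
    have h3 : (ψ ▷ unop T) ≫ φ.1 = (ψ ▷ unop T) ≫ φ'.1 := congrArg Subtype.val h
    have : IsIso ψ := ⟨ψinv, h1, h2⟩
    exact (cancel_epi _).mp h3
  · intro χ
    refine ⟨⟨(ψinv ▷ unop T) ≫ χ.1, ?_⟩, ?_⟩
    · have hχ := (MonAct.mem_eqvHom_iff χ.1).mp χ.2
      unfold MonAct.IsEquivariant
      apply Groth.Agent.H28.MagnetSD.hom_ext_of_injective S f hf
      apply Magnet.hom_ext_lift₂
      intro T' z w
      rw [← lift_comp_fst_snd w]
      generalize w ≫ fst _ _ = b
      generalize w ≫ snd _ _ = t
      rw [lift_whiskerRight_assoc, lift_whiskerRight_assoc, MonAct.lift_prod_act_assoc,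
        MonAct.lift_trivial_act, lift_whiskerLeft_assoc, lift_whiskerRight_assoc,
        lift_whiskerRight_assoc]
      have e3 : (lift (z ≫ AMonS.map S f) b ≫ (subAct S M (Y.comap f)).act) ≫ ψinv =
          lift z (b ≫ ψinv) ≫ (subAct S Z Y).act := by
        rw [subAct, subAct, MonAct.lift_restrict_act, MonAct.lift_regular_act,
          MonAct.lift_restrict_act, MonAct.lift_regular_act, MonObj.mul_comp, Category.assoc,
          Category.assoc, hkey]
      rw [e3, hχ, MonAct.lift_restrict_act]
    · apply Subtype.ext
      show (ψ ▷ unop T) ≫ (ψinv ▷ unop T) ≫ χ.1 = χ.1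
      rw [← comp_whiskerRight_assoc, h1, id_whiskerRight, Category.id_comp]

end Groth.Agent.S18288
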