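import Groth.Statements.S18364
import Mathlib

set_option autoImplicit false
universe u
open CAlg

namespace Groth.Agent.S18364

section helpers

theorem mem_piM {A : Type*} [CommRing A] (π : A) {M : Type*} [AddCommGroup M] [Module A M]
    (x : M) : x ∈ Ideal.span {π} • (⊤ : Submodule A M) ↔ ∃ m : M, π • m = x := by
  rw [Submodule.ideal_span_singleton_smul, Submodule.mem_smul_pointwise_iff_exists]
  constructor
  · rintro ⟨m, -, h⟩
    exact ⟨m, h⟩
  · rintro ⟨m, h⟩
    exact ⟨m, Submodule.mem_top, h⟩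

theorem mp_lemma {A : Type*} [CommRing A] {I p : Ideal A} (hp : p ∈ I.minimalPrimes) {x : A}
    (hx : x ∈ p) : ∃ (k : ℕ) (t : A), t ∉ p ∧ t * x ^ k ∈ I := by
  haveI : p.IsPrime := hp.1.1
  by_contra hcon
  push_neg at hcon
  have hdis : Disjoint (I : Set A) (p.primeCompl ⊔ Submonoid.powers x : Submonoid A) := by
    rw [Set.disjoint_left]
    intro z hzI hzS
    obtain ⟨y, hy, w, hw, rfl⟩ := Submonoid.mem_sup.1 hzS
    obtain ⟨k, rfl⟩ := (Submonoid.mem_powers_iff _ _).1 hw
    exact hcon k y hy hzI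
  obtain ⟨q, hq, hIq, hqS⟩ := Ideal.exists_le_prime_disjoint I _ hdis
  have hqp : q ≤ p := by
    intro z hz
    by_contra hzp
    exact Set.disjoint_left.1 hqS hz (Submonoid.mem_sup_left hzp)
  have hpq : p ≤ q := hp.2 ⟨hq, hIq⟩ hqp
  exact Set.disjoint_left.1 hqS (hpq hx) (Submonoid.mem_sup_right (Submonoid.mem_powers x))

theorem mem_Ncomap {A : Type u} [CommRing A] (π : A) {ι : Type} (𝔓 : ι → Ideal A)
    [∀ i, (𝔓 i).IsPrime] (M' : Type u) [AddCommGroup M'] [Module A M'] (T : Set ι) (x : M') :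
    x ∈ (⨅ i ∈ T, LinearMap.ker (LocalizedModule.mkLinearMap (𝔓 i).primeCompl
        (M' ⧸ Ideal.span {π} • (⊤ : Submodule A M')))).comap
        (Submodule.mkQ (Ideal.span {π} • (⊤ : Submodule A M')))
      ↔ ∀ i ∈ T, ∃ s : A, s ∉ 𝔓 i ∧ ∃ m : M', π • m = s • x := by
  simp only [Submodule.mem_comap, Submodule.mem_iInf, LocalizedModule.mem_ker_mkLinearMap_iff]
  refine forall₂_congr fun i _ => ?_
  constructor
  · rintro ⟨s, hs, h⟩
    rw [Submodule.mkQ_apply, ← Submodule.Quotient.mk_smul, Submodule.Quotient.mk_eq_zero,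
      mem_piM] at h
    exact ⟨s, hs, h⟩
  · rintro ⟨s, hs, h⟩
    refine ⟨s, hs, ?_⟩
    rw [Submodule.mkQ_apply, ← Submodule.Quotient.mk_smul, Submodule.Quotient.mk_eq_zero,
      mem_piM]
    exact h

end helpers

/-- Let A be a Noetherian ring, π an element of A, and (𝔓_i)_{i ∈ ι} an injective finite family listing
exactly the minimal prime ideals over (π). Let M be a finitely generated A-module and M̄ = M/πM. For
a subset T of ι let K(T) ⊆ M̄ be the submodule of elements whose image in the localisation of M̄ at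
𝔓_i is zero for every i ∈ T, and N(T) ⊆ M its preimage in M. Assume K(ι) = 0, i.e. no nonzero
element of M̄ vanishes at all the minimal primes (every associated prime of M̄ is one of the 𝔓_i).
Then for every subset Y of ι with complement Z one has N(Y) ∩ N(Z) = πM, and the same construction
applied to the module N(Y) instead of M — the preimage in N(Y) of the elements of N(Y)/πN(Y)
vanishing at every 𝔓_i with i ∈ Z — is, as a submodule of M, equal to N(Y) ∩ N(Z). (Geometric
meaning: A is the local ring of a flat family of curves over a discrete valuation ring with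
uniformizer π at a point of the reduced special fibre, M the stalk of a torsion-free rank-one sheaf
I, Y a set of components of the special fibre through the point, and N(Y) the stalk of the kernel
I^Y of I → I(s)_Y; the statement is (I^Y)^Z = I^Y ∩ I^Z = πI. Reducedness of A/πA, flatness and rank
one are not used.) -/
theorem result
    (A : Type u) [CommRing A] [IsNoetherianRing A] (π : A)
    (ι : Type) [Finite ι] (𝔓 : ι → Ideal A) [∀ i, (𝔓 i).IsPrime]
    (h𝔓 : ∀ i, 𝔓 i ∈ (Ideal.span {π}).minimalPrimes) (h𝔓inj : Function.Injective 𝔓)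
    (h𝔓surj : ∀ 𝔔 ∈ (Ideal.span {π}).minimalPrimes, ∃ i, 𝔓 i = 𝔔)
    (M : Type u) [AddCommGroup M] [Module A M] [Module.Finite A M]
    (K : Set ι → Submodule A (M ⧸ Ideal.span {π} • (⊤ : Submodule A M)))
    (hK : ∀ T : Set ι, K T = ⨅ i ∈ T, LinearMap.ker
      (LocalizedModule.mkLinearMap (𝔓 i).primeCompl (M ⧸ Ideal.span {π} • (⊤ : Submodule A M))))
    (htf : K Set.univ = ⊥)
    (N : Set ι → Submodule A M)
    (hN : ∀ T : Set ι, N T = (K T).comap (Submodule.mkQ (Ideal.span {π} • (⊤ : Submodule A M))))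
    (Y : Set ι) :
    N Y ⊓ N Yᶜ = Ideal.span {π} • (⊤ : Submodule A M) ∧
    Submodule.map (N Y).subtype
      ((⨅ i ∈ Yᶜ, LinearMap.ker (LocalizedModule.mkLinearMap (𝔓 i).primeCompl
          (↥(N Y) ⧸ Ideal.span {π} • (⊤ : Submodule A ↥(N Y))))).comap
        (Submodule.mkQ (Ideal.span {π} • (⊤ : Submodule A ↥(N Y)))))
      = N Y ⊓ N Yᶜ := by
  classical
  cases nonempty_fintype ι
  have hNmem : ∀ (T : Set ι) (y : M), y ∈ N T ↔
      ∀ i ∈ T, ∃ s : A, s ∉ 𝔓 i ∧ ∃ m : M, π • m = s • y := by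
    intro T y
    rw [hN, hK]
    exact mem_Ncomap π 𝔓 M T y
  have hone : ∀ i, (1 : A) ∉ 𝔓 i :=
    fun i => (Ideal.ne_top_iff_one _).1 (Ideal.IsPrime.ne_top inferInstance)
  have hpiN : ∀ (T : Set ι) (y : M), (∃ m : M, π • m = y) → y ∈ N T := by
    rintro T y ⟨m, hm⟩
    rw [hNmem]
    intro i _
    exact ⟨1, hone i, m, by rw [hm, one_smul]⟩
  have huniv : ∀ y : M, y ∈ N Set.univ → ∃ m : M, π • m = y := by
    intro y hy
    rw [hN, htf, Submodule.mem_comap, Submodule.mem_bot, Submodule.mkQ_apply,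
      Submodule.Quotient.mk_eq_zero, mem_piM] at hy
    exact hy
  have hclaim1 : ∀ y : M, y ∈ N Y ⊓ N Yᶜ ↔ ∃ m : M, π • m = y := by
    intro y
    constructor
    · intro h
      obtain ⟨h1, h2⟩ := Submodule.mem_inf.1 h
      apply huniv
      rw [hNmem] at h1 h2 ⊢
      intro i _
      by_cases hi : i ∈ Y
      · exact h1 i hi
      · exact h2 i hi
    · intro h
      exact Submodule.mem_inf.2 ⟨hpiN _ _ h, hpiN _ _ h⟩
  have key : ∀ i ∈ Yᶜ, ∀ m : M, ∃ s : A, s ∉ 𝔓 i ∧ s • m ∈ N Y := by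
    intro i hi m
    have hex : ∀ j : ι, ∃ (u t : A), u ∉ 𝔓 i ∧ t ∉ 𝔓 j ∧
        (j ∈ Y → t * u ∈ Ideal.span {π}) := by
      intro j
      by_cases hj : j ∈ Y
      · have hne : ¬ (𝔓 j ≤ 𝔓 i) := by
          intro hle
          have hle' : 𝔓 i ≤ 𝔓 j := (h𝔓 i).2 (h𝔓 j).1 hle
          have hij : i = j := h𝔓inj (le_antisymm hle' hle)
          exact hi (by rw [hij]; exact hj)
        obtain ⟨x, hxj, hxi⟩ := SetLike.not_le_iff_exists.1 hne
        obtain ⟨k, t, ht, htx⟩ := mp_lemma (h𝔓 j) hxj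
        exact ⟨x ^ k, t, fun h => hxi (Ideal.IsPrime.mem_of_pow_mem inferInstance k h), ht,
          fun _ => htx⟩
      · exact ⟨1, 1, hone i, hone j, fun h => absurd h hj⟩
    choose u t hu ht hut using hex
    refine ⟨∏ j, u j, ?_, ?_⟩
    · exact Submonoid.prod_mem (𝔓 i).primeCompl (fun j _ => hu j)
    · rw [hNmem]
      intro j hj
      refine ⟨t j, ht j, ?_⟩
      obtain ⟨a, ha⟩ := Ideal.mem_span_singleton'.1 (hut j hj)
      refine ⟨(a * ∏ j' ∈ Finset.univ.erase j, u j') • m, ?_⟩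
      rw [← Finset.mul_prod_erase Finset.univ u (Finset.mem_univ j)]
      simp only [smul_smul]
      congr 1
      rw [← mul_assoc (t j), ← ha]
      ring
  constructor
  · ext y
    rw [hclaim1, mem_piM]
  · ext y
    rw [hclaim1]
    constructor
    · intro h
      obtain ⟨⟨y', hy'N⟩, hy', rfl⟩ := Submodule.mem_map.1 h
      rw [mem_Ncomap π 𝔓 (↥(N Y)) Yᶜ] at hy'
      show ∃ m : M, π • m = y'
      rw [← hclaim1]
      refine Submodule.mem_inf.2 ⟨hy'N, ?_⟩
      rw [hNmem]
      intro i hi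
      obtain ⟨s, hs, n', hn'⟩ := hy' i hi
      refine ⟨s, hs, n'.1, ?_⟩
      have := congrArg Subtype.val hn'
      simpa using this
    · rintro ⟨m, rfl⟩
      have hyN : π • m ∈ N Y := hpiN _ _ ⟨m, rfl⟩
      refine Submodule.mem_map.2 ⟨⟨π • m, hyN⟩, ?_, rfl⟩
      rw [mem_Ncomap π 𝔓 (↥(N Y)) Yᶜ]
      intro i hi
      obtain ⟨s, hs, hsm⟩ := key i hi m
      refine ⟨s, hs, ⟨s • m, hsm⟩, ?_⟩
      apply Subtype.ext
      show π • (s • m) = s • (π • m)
      exact smul_comm π s m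

end Groth.Agent.S18364
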