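import Groth.Statements.S18365
import Mathlib

set_option autoImplicit false
universe u
open CAlg

namespace Groth.Agent.S18365

section helpers

theorem mem_piM {A : Type*} [CommRing A] (π : A) {M : Type*} [AddCommGroup M] [Module A M]
    (x : M) : x ∈ Ideal.span {π} • (⊤ : Submodule A M) ↔ ∃ m : M, π • m = x := by
  rw [Submodule.ideal_span_singleton_smul, Submodule.mem_smul_pointwise_iff_exists]
  constructor
  · rintro ⟨m, -, h⟩
    exact ⟨m, h⟩
  · rintro ⟨m, h⟩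
    exact ⟨m, Submodule.mem_top, h⟩

theorem mem_Ncomap {A : Type u} [CommRing A] (π : A) {ι : Type} (𝔓 : ι → Ideal A)
    [∀ i, (𝔓 i).IsPrime] (M' : Type u) [AddCommGroup M'] [Module A M'] (T : Set ι) (x : M') :
    x ∈ (⨅ i ∈ T, LinearMap.ker (LocalizedModule.mkLinearMap (𝔓 i).primeCompl
        (M' ⧸ Ideal.span {π} • (⊤ : Submodule A M')))).comap
        (Submodule.mkQ (Ideal.span {π} • (⊤ : Submodule A M')))
      ↔ ∀ i ∈ T, ∃ s : A, s ∉ 𝔓 i ∧ ∃ m : M', π • m = s • x := by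
  simp only [Submodule.mem_comap, Submodule.mem_iInf, LocalizedModule.mem_ker_mkLinearMap_iff]
  refine forall₂_congr fun i _ => ?_
  constructor
  · rintro ⟨s, hs, h⟩
    rw [Submodule.mkQ_apply, ← Submodule.Quotient.mk_smul, Submodule.Quotient.mk_eq_zero,
      mem_piM] at h
    exact ⟨s, hs, h⟩
  · rintro ⟨s, hs, h⟩
    refine ⟨s, hs, ?_⟩
    rw [Submodule.mkQ_apply, ← Submodule.Quotient.mk_smul, Submodule.Quotient.mk_eq_zero,
      mem_piM]
    exact h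

end helpers

/-- Let A be a Noetherian ring, π an element of A, (𝔓_i)_{i ∈ ι} an injective finite family listing
exactly the minimal prime ideals over (π), and M a finitely generated A-module on which π acts
injectively; put M̄ = M/πM. For T ⊆ ι let K(T) ⊆ M̄ be the submodule of elements whose image in the
localisation of M̄ at 𝔓_i vanishes for every i ∈ T, and N(T) ⊆ M its preimage; assume K(ι) = 0.
Suppose that M̄ decomposes at Y, i.e. K(Y) + K(Yᶜ) = M̄, and that for a subset Z the module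
N(Y)/πN(Y) decomposes at Z, i.e. its submodule of elements vanishing at every 𝔓_i (i ∈ Z) and its
submodule of elements vanishing at every 𝔓_i (i ∉ Z) together span it. Then M̄ decomposes at Z: K(Z)
+ K(Zᶜ) = M̄. (Geometric meaning: for a flat family of curves over a discrete valuation ring with
uniformizer π, I a torsion-free rank-one sheaf flat over the base, Y a subcurve of the special fibre
X(s) at which I(s) decomposes and I^Y = ker(I → I(s)_Y): if I^Y(s) decomposes at a subcurve Z then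
so does I(s); decomposition of a sheaf at Z is the surjectivity of I(s) → I(s)_Z ⊕ I(s)_{Z^c},
checked on stalks. Reducedness of the special fibre and rank one are not used.) -/
theorem result
    (A : Type u) [CommRing A] [IsNoetherianRing A] (π : A)
    (ι : Type) [Finite ι] (𝔓 : ι → Ideal A) [∀ i, (𝔓 i).IsPrime]
    (h𝔓 : ∀ i, 𝔓 i ∈ (Ideal.span {π}).minimalPrimes) (h𝔓inj : Function.Injective 𝔓)
    (h𝔓surj : ∀ 𝔔 ∈ (Ideal.span {π}).minimalPrimes, ∃ i, 𝔓 i = 𝔔)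
    (M : Type u) [AddCommGroup M] [Module A M] [Module.Finite A M]
    (hπ : ∀ m : M, π • m = 0 → m = 0)
    (K : Set ι → Submodule A (M ⧸ Ideal.span {π} • (⊤ : Submodule A M)))
    (hK : ∀ T : Set ι, K T = ⨅ i ∈ T, LinearMap.ker
      (LocalizedModule.mkLinearMap (𝔓 i).primeCompl (M ⧸ Ideal.span {π} • (⊤ : Submodule A M))))
    (htf : K Set.univ = ⊥)
    (N : Set ι → Submodule A M)
    (hN : ∀ T : Set ι, N T = (K T).comap (Submodule.mkQ (Ideal.span {π} • (⊤ : Submodule A M))))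
    (Y Z : Set ι) (hY : K Y ⊔ K Yᶜ = ⊤)
    (K' : Set ι → Submodule A (↥(N Y) ⧸ Ideal.span {π} • (⊤ : Submodule A ↥(N Y))))
    (hK' : ∀ T : Set ι, K' T = ⨅ i ∈ T, LinearMap.ker
      (LocalizedModule.mkLinearMap (𝔓 i).primeCompl (↥(N Y) ⧸ Ideal.span {π} • (⊤ : Submodule A ↥(N Y)))))
    (hZ : K' Z ⊔ K' Zᶜ = ⊤) :
    K Z ⊔ K Zᶜ = ⊤ := by
  classical
  have hNmem : ∀ (T : Set ι) (y : M), y ∈ N T ↔
      ∀ i ∈ T, ∃ s : A, s ∉ 𝔓 i ∧ ∃ m : M, π • m = s • y := by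
    intro T y
    rw [hN, hK]
    exact mem_Ncomap π 𝔓 M T y
  have hone : ∀ i, (1 : A) ∉ 𝔓 i :=
    fun i => (Ideal.ne_top_iff_one _).1 (Ideal.IsPrime.ne_top inferInstance)
  have hNW : ∀ (T : Set ι) (y : M), y ∈ N T ↔ ∀ i ∈ T, y ∈ N {i} := by
    intro T y
    rw [hNmem]
    refine forall₂_congr fun i _ => ?_
    rw [hNmem]
    simp only [Set.mem_singleton_iff, forall_eq]
  have hpiN : ∀ (T : Set ι) (m : M), π • m ∈ N T := by
    intro T m
    rw [hNmem]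
    intro i _
    exact ⟨1, hone i, m, by rw [one_smul]⟩
  have huniv : ∀ y : M, (∀ i, y ∈ N {i}) → ∃ m : M, π • m = y := by
    intro y hy
    have h1 : y ∈ N Set.univ := (hNW _ _).2 fun i _ => hy i
    rw [hN, htf, Submodule.mem_comap, Submodule.mem_bot, Submodule.mkQ_apply,
      Submodule.Quotient.mk_eq_zero, mem_piM] at h1
    exact h1
  have hW_of : ∀ (i : ι) (y : M) (s : A), s ∉ 𝔓 i → (∃ m : M, π • m = s • y) → y ∈ N {i} := by
    intro i y s hs hm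
    rw [hNmem]
    intro j hj
    rw [Set.mem_singleton_iff] at hj
    subst hj
    exact ⟨s, hs, hm⟩
  have hYdec : ∀ m : M, ∃ x y : M, x ∈ N Y ∧ y ∈ N Yᶜ ∧ m = x + y := by
    intro m
    have h1 : Submodule.mkQ _ m ∈ K Y ⊔ K Yᶜ := by rw [hY]; exact Submodule.mem_top
    obtain ⟨xb, hxb, yb, hyb, hxy⟩ := Submodule.mem_sup.1 h1
    obtain ⟨x, rfl⟩ := Submodule.mkQ_surjective _ xb
    refine ⟨x, m - x, ?_, ?_, by abel⟩
    · rw [hN]; exact hxb
    · rw [hN, Submodule.mem_comap, map_sub, ← hxy, add_sub_cancel_left]; exact hyb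
  have hA : ∀ n : M, n ∈ N Y → ∃ a b n₀ : M, n₀ ∈ N Y ∧ a ∈ N Y ∧ b ∈ N Y ∧
      n = a + b + π • n₀ ∧
      (∀ i ∈ Z, ∃ s : A, s ∉ 𝔓 i ∧ ∃ n₁ ∈ N Y, π • n₁ = s • a) ∧
      (∀ i ∈ Zᶜ, ∃ s : A, s ∉ 𝔓 i ∧ ∃ n₁ ∈ N Y, π • n₁ = s • b) := by
    intro n hn
    have h1 : Submodule.mkQ _ (⟨n, hn⟩ : ↥(N Y)) ∈ K' Z ⊔ K' Zᶜ := by
      rw [hZ]; exact Submodule.mem_top
    obtain ⟨ab, hab', bb, hbb', hab⟩ := Submodule.mem_sup.1 h1
    obtain ⟨α, rfl⟩ := Submodule.mkQ_surjective _ ab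
    obtain ⟨β, rfl⟩ := Submodule.mkQ_surjective _ bb
    have h2 : Submodule.mkQ (Ideal.span {π} • (⊤ : Submodule A ↥(N Y)))
        ((⟨n, hn⟩ : ↥(N Y)) - α - β) = 0 := by
      rw [map_sub, map_sub, ← hab]; abel
    rw [Submodule.mkQ_apply, Submodule.Quotient.mk_eq_zero, mem_piM] at h2
    obtain ⟨ν₀, hν₀⟩ := h2
    have hα : ∀ i ∈ Z, ∃ s : A, s ∉ 𝔓 i ∧ ∃ m : ↥(N Y), π • m = s • α := by
      rw [hK'] at hab'
      exact (mem_Ncomap π 𝔓 (↥(N Y)) Z α).1 hab'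
    have hβ : ∀ i ∈ Zᶜ, ∃ s : A, s ∉ 𝔓 i ∧ ∃ m : ↥(N Y), π • m = s • β := by
      rw [hK'] at hbb'
      exact (mem_Ncomap π 𝔓 (↥(N Y)) Zᶜ β).1 hbb'
    refine ⟨α.1, β.1, ν₀.1, ν₀.2, α.2, β.2, ?_, ?_, ?_⟩
    · have h3 : π • ν₀.1 = n - α.1 - β.1 := congrArg Subtype.val hν₀
      rw [h3]; abel
    · intro i hi
      obtain ⟨s, hs, m, hm⟩ := hα i hi
      exact ⟨s, hs, m.1, m.2, congrArg Subtype.val hm⟩
    · intro i hi
      obtain ⟨s, hs, m, hm⟩ := hβ i hi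
      exact ⟨s, hs, m.1, m.2, congrArg Subtype.val hm⟩
  have hB : ∀ n ∈ N Y, n ∈ N Z ⊔ N Zᶜ := by
    intro n hn
    obtain ⟨a, b, n₀, hn₀, ha, hb, hsum, haZ, hbZ⟩ := hA n hn
    have haZ' : a ∈ N Z := (hNW _ _).2 fun i hi => by
      obtain ⟨s, hs, n₁, _, h⟩ := haZ i hi
      exact hW_of i a s hs ⟨n₁, h⟩
    have hbZ' : b ∈ N Zᶜ := (hNW _ _).2 fun i hi => by
      obtain ⟨s, hs, n₁, _, h⟩ := hbZ i hi
      exact hW_of i b s hs ⟨n₁, h⟩
    rw [hsum]
    exact Submodule.add_mem _ (Submodule.add_mem_sup haZ' hbZ')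
      (Submodule.mem_sup_left (hpiN _ _))
  have hC : ∀ n' ∈ N Yᶜ, n' ∈ N Z ⊔ N Zᶜ := by
    intro n' hn'
    obtain ⟨a, b, n₀, hn₀, ha, hb, hsum, haZ, hbZ⟩ := hA (π • n') (hpiN _ _)
    have haZ' : a ∈ N Z := (hNW _ _).2 fun i hi => by
      obtain ⟨s, hs, n₁, _, h⟩ := haZ i hi
      exact hW_of i a s hs ⟨n₁, h⟩
    have hbZ' : b ∈ N Zᶜ := (hNW _ _).2 fun i hi => by
      obtain ⟨s, hs, n₁, _, h⟩ := hbZ i hi
      exact hW_of i b s hs ⟨n₁, h⟩
    have haZc : a ∈ N Zᶜ := by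
      have : a = π • n' - π • n₀ - b := by rw [hsum]; abel
      rw [this]
      exact Submodule.sub_mem _ (Submodule.sub_mem _ (hpiN _ _) (hpiN _ _)) hbZ'
    have hbZ2 : b ∈ N Z := by
      have : b = π • n' - π • n₀ - a := by rw [hsum]; abel
      rw [this]
      exact Submodule.sub_mem _ (Submodule.sub_mem _ (hpiN _ _) (hpiN _ _)) haZ'
    obtain ⟨a₁, ha₁⟩ := huniv a (fun i => by
      by_cases hi : i ∈ Z
      · exact (hNW _ _).1 haZ' i hi
      · exact (hNW _ _).1 haZc i hi)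
    obtain ⟨b₁, hb₁⟩ := huniv b (fun i => by
      by_cases hi : i ∈ Z
      · exact (hNW _ _).1 hbZ2 i hi
      · exact (hNW _ _).1 hbZ' i hi)
    have hn'eq : n' = a₁ + b₁ + n₀ := by
      apply sub_eq_zero.1
      apply hπ
      rw [smul_sub, smul_add, smul_add, ha₁, hb₁, ← hsum, sub_self]
    have ha₁YZ : a₁ ∈ N (Y ∩ Z) := by
      rw [hNW]
      rintro i ⟨hiY, hiZ⟩
      obtain ⟨s, hs, n₁, hn₁, h⟩ := haZ i hiZ
      have h1 : n₁ = s • a₁ := by
        apply sub_eq_zero.1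
        apply hπ
        rw [smul_sub, h, ← ha₁, smul_comm, sub_self]
      rw [h1] at hn₁
      obtain ⟨t, ht, m, hm⟩ := (hNmem _ _).1 hn₁ i hiY
      refine hW_of i a₁ (t * s) ?_ ⟨m, by rw [hm, smul_smul]⟩
      intro hts
      rcases Ideal.IsPrime.mem_or_mem inferInstance hts with h | h
      · exact ht h
      · exact hs h
    have hb₁YZ : b₁ ∈ N (Y ∩ Zᶜ) := by
      rw [hNW]
      rintro i ⟨hiY, hiZ⟩
      obtain ⟨s, hs, n₁, hn₁, h⟩ := hbZ i hiZ
      have h1 : n₁ = s • b₁ := by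
        apply sub_eq_zero.1
        apply hπ
        rw [smul_sub, h, ← hb₁, smul_comm, sub_self]
      rw [h1] at hn₁
      obtain ⟨t, ht, m, hm⟩ := (hNmem _ _).1 hn₁ i hiY
      refine hW_of i b₁ (t * s) ?_ ⟨m, by rw [hm, smul_smul]⟩
      intro hts
      rcases Ideal.IsPrime.mem_or_mem inferInstance hts with h | h
      · exact ht h
      · exact hs h
    obtain ⟨a', a'', ha', ha'', hadec⟩ := hYdec a₁
    obtain ⟨b', b'', hb', hb'', hbdec⟩ := hYdec b₁
    have ha''Z : a'' ∈ N Z := by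
      rw [hNW]
      intro i hiZ
      by_cases hiY : i ∈ Y
      · have h1 : a₁ ∈ N {i} := (hNW _ _).1 ha₁YZ i ⟨hiY, hiZ⟩
        have h2 : a' ∈ N {i} := (hNW _ _).1 ha' i hiY
        have : a'' = a₁ - a' := by rw [hadec]; abel
        rw [this]; exact Submodule.sub_mem _ h1 h2
      · exact (hNW _ _).1 ha'' i hiY
    have hb''Z : b'' ∈ N Zᶜ := by
      rw [hNW]
      intro i hiZ
      by_cases hiY : i ∈ Y
      · have h1 : b₁ ∈ N {i} := (hNW _ _).1 hb₁YZ i ⟨hiY, hiZ⟩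
        have h2 : b' ∈ N {i} := (hNW _ _).1 hb' i hiY
        have : b'' = b₁ - b' := by rw [hbdec]; abel
        rw [this]; exact Submodule.sub_mem _ h1 h2
      · exact (hNW _ _).1 hb'' i hiY
    have hrY : a' + b' + n₀ ∈ N Y := Submodule.add_mem _ (Submodule.add_mem _ ha' hb') hn₀
    have hrYc : a' + b' + n₀ ∈ N Yᶜ := by
      have : a' + b' + n₀ = n' - a'' - b'' := by rw [hn'eq, hadec, hbdec]; abel
      rw [this]
      exact Submodule.sub_mem _ (Submodule.sub_mem _ hn' ha'') hb''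
    obtain ⟨r₀, hr₀⟩ := huniv (a' + b' + n₀) (fun i => by
      by_cases hi : i ∈ Y
      · exact (hNW _ _).1 hrY i hi
      · exact (hNW _ _).1 hrYc i hi)
    have hfin : n' = a'' + b'' + π • r₀ := by rw [hr₀, hn'eq, hadec, hbdec]; abel
    rw [hfin]
    exact Submodule.add_mem _ (Submodule.add_mem_sup ha''Z hb''Z)
      (Submodule.mem_sup_left (hpiN _ _))
  have hmain : ∀ m : M, m ∈ N Z ⊔ N Zᶜ := by
    intro m
    obtain ⟨x, y, hx, hy, rfl⟩ := hYdec m
    exact Submodule.add_mem _ (hB x hx) (hC y hy)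
  rw [eq_top_iff]
  intro xb _
  obtain ⟨m, rfl⟩ := Submodule.mkQ_surjective _ xb
  obtain ⟨p, hp, q, hq, hpq⟩ := Submodule.mem_sup.1 (hmain m)
  rw [← hpq, map_add]
  refine Submodule.add_mem_sup ?_ ?_
  · have := hp
    rw [hN] at this
    exact this
  · have := hq
    rw [hN] at this
    exact this

end Groth.Agent.S18365
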