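import Groth.Statements.S18367
import Mathlib
import Groth.Agent.H13.Acyc
import Groth.Agent.H29.RegGlobalDim

set_option autoImplicit false
universe u
open CategoryTheory CategoryTheory.Limits
open LocAlg

namespace Groth.Agent.S18367

/-- Let R be a Cohen–Macaulay local ring of Krull dimension g and K = (K^0 → K^1 → ⋯) a bounded cochain
complex of finitely generated free R-modules (K^i = 0 for i > N) such that every cohomology module
H^i(K) has finite length. Then H^i(K) = 0 for all i < g. -/
theorem result (R : Type u) [CommRing R]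
    [LocCoh.IsCohenMacaulayLocalRing R] (g : ℕ) (hg : ringKrullDim R = g) (K : CochainComplex (ModuleCat.{u} R) ℕ)
    (N : ℕ) (hbd : ∀ i, N < i → IsZero (K.X i)) (hfree : ∀ i, Module.Free R (K.X i) ∧ Module.Finite R (K.X i))
    (hfl : ∀ i, IsFiniteLength R (K.homology i)) (i : ℕ) (hi : i < g) :
    IsZero (K.homology i) := by
  classical
  let δ : ∀ j, ↑(K.X j) →ₗ[R] ↑(K.X (j + 1)) := fun j => (K.d j (j + 1)).hom
  have hδ : ∀ j x, δ (j + 1) (δ j x) = 0 := by
    intro j x
    have h := K.d_comp_d j (j + 1) (j + 2)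
    have h2 : (K.d j (j + 1) ≫ K.d (j + 1) (j + 2)).hom x = 0 := by rw [h]; rfl
    exact h2
  have : ∀ j, Module.Finite R (K.X j) := fun j => (hfree j).2
  have : ∀ j, Module.Free R (K.X j) := fun j => (hfree j).1
  have hdepth : LocCoh.depth R R = g := by
    have h1 := LocCoh.IsCohenMacaulayLocalRing.supportDim_eq_depth (R := R)
    rw [Module.supportDim_self_eq_ringKrullDim, hg] at h1
    exact (WithBot.coe_injective (show (((g : ℕ∞)) : WithBot ℕ∞) = _ from h1)).symm
  have hX : ∀ j, (g : ℕ∞) ≤ LocCoh.depth R (K.X j) := fun j => by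
    rw [← hdepth]
    exact Groth.Agent.H29.idealDepth_le_idealDepth_of_flat _ _
  have hd00 : (K.d 0 0).hom = 0 := by
    rw [K.shape 0 0 (by simp)]
    rfl
  have hflq : ∀ j, IsFiniteLength R (↥(LinearMap.ker (δ j)) ⧸
      (Groth.Agent.H13.Acyc.B (fun j => ↑(K.X j)) δ j).submoduleOf (LinearMap.ker (δ j))) := by
    intro j
    cases j with
    | zero =>
      have e1 := K.homologyIsoSc' 0 0 1 (by simp) (by simp)
      have e2 := (K.sc' 0 0 1).moduleCatHomologyIso
      let p : Submodule R ↥(LinearMap.ker (δ 0)) :=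
        LinearMap.range (K.sc' 0 0 1).moduleCatToCycles
      have h1 : IsFiniteLength R (↥(LinearMap.ker (δ 0)) ⧸ p) :=
        (e1 ≪≫ e2).toLinearEquiv.isFiniteLength (hfl 0)
      refine (Submodule.quotEquivOfEq p _ ?_).isFiniteLength h1
      ext ⟨x, hx⟩
      constructor
      · rintro ⟨y, hy⟩
        have hxy : (K.d 0 0).hom y = x := congrArg Subtype.val hy
        rw [hd00] at hxy
        show x ∈ (⊥ : Submodule R ↑(K.X 0))
        rw [← hxy]
        exact Submodule.zero_mem _
      · intro h
        have hx0 : x = 0 := (Submodule.mem_bot R).mp h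
        refine ⟨0, Subtype.ext ?_⟩
        show (K.d 0 0).hom 0 = x
        rw [map_zero, hx0]
    | succ j =>
      have e1 := K.homologyIsoSc' j (j + 1) (j + 2) (by simp) (by simp)
      have e2 := (K.sc' j (j + 1) (j + 2)).moduleCatHomologyIso
      let p : Submodule R ↥(LinearMap.ker (δ (j + 1))) :=
        LinearMap.range (K.sc' j (j + 1) (j + 2)).moduleCatToCycles
      have h1 : IsFiniteLength R (↥(LinearMap.ker (δ (j + 1))) ⧸ p) :=
        (e1 ≪≫ e2).toLinearEquiv.isFiniteLength (hfl (j + 1))
      refine (Submodule.quotEquivOfEq p _ ?_).isFiniteLength h1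
      ext ⟨x, hx⟩
      constructor
      · rintro ⟨y, hy⟩
        have hxy : (K.d j (j + 1)).hom y = x := congrArg Subtype.val hy
        exact ⟨y, hxy⟩
      · rintro ⟨y, hy⟩
        exact ⟨y, Subtype.ext hy⟩
  have hB := Groth.Agent.H13.Acyc.acyclic (fun j => ↑(K.X j)) δ hδ g hX hflq i hi
  cases i with
  | zero =>
    rw [← HomologicalComplex.exactAt_iff_isZero_homology,
      HomologicalComplex.exactAt_iff' K 0 0 1 (by simp) (by simp),
      ShortComplex.moduleCat_exact_iff_range_eq_ker]
    show LinearMap.range (K.d 0 0).hom = LinearMap.ker (δ 0)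
    rw [hd00, LinearMap.range_zero]
    exact hB
  | succ j =>
    rw [← HomologicalComplex.exactAt_iff_isZero_homology,
      HomologicalComplex.exactAt_iff' K j (j + 1) (j + 2) (by simp) (by simp),
      ShortComplex.moduleCat_exact_iff_range_eq_ker]
    exact hB

end Groth.Agent.S18367
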