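import Groth.Statements.S18370
import Mathlib

set_option autoImplicit false
universe u
open CategoryTheory CategoryTheory.Limits MonoidalCategory CartesianMonoidalCategory MonObj GrpObj AlgebraicGeometry
open GrpSch

namespace Groth.Agent.S18370

section helpers

theorem grp_aux {H : Type*} [CommGroup H] (x y : H) (a b : ℕ) (u v : ℤ)
    (huv : (a : ℤ) * u + (b : ℤ) * v = 1) (hx : x ^ a = 1) (hy : y ^ b = 1) :
    (x * y) ^ ((b : ℤ) * v) = x ∧ (x * y) ^ ((a : ℤ) * u) = y := by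
  have hx' : x ^ ((a : ℤ) * u) = 1 := by rw [zpow_mul, zpow_natCast, hx, one_zpow]
  have hy' : y ^ ((b : ℤ) * v) = 1 := by rw [zpow_mul, zpow_natCast, hy, one_zpow]
  have hx1 : x ^ ((b : ℤ) * v) = x := by
    have : (b : ℤ) * v = 1 - (a : ℤ) * u := by linarith
    rw [this, zpow_sub, zpow_one, hx', inv_one, _root_.mul_one]
  have hy1 : y ^ ((a : ℤ) * u) = y := by
    have : (a : ℤ) * u = 1 - (b : ℤ) * v := by linarith
    rw [this, zpow_sub, zpow_one, hy', inv_one, _root_.mul_one]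
  constructor
  · rw [mul_zpow, hx1, hy', _root_.mul_one]
  · rw [mul_zpow, hx', hy1, _root_.one_mul]

theorem grp_aux2 {H : Type*} [CommGroup H] (g : H) (n a b : ℕ) (v : ℤ) (hn : n = a * b)
    (hg : g ^ n = 1) :
    (g ^ ((b : ℤ) * v)) ^ a = 1 ∧ (g ^ ((a : ℤ) * v)) ^ b = 1 := by
  have hn' : (n : ℤ) = (a : ℤ) * b := by rw [hn]; push_cast; ring
  constructor
  · rw [← zpow_natCast, ← zpow_mul]
    have : (b : ℤ) * v * (a : ℤ) = (n : ℤ) * v := by rw [hn']; ring
    rw [this, zpow_mul, zpow_natCast, hg, one_zpow]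
  · rw [← zpow_natCast, ← zpow_mul]
    have : (a : ℤ) * v * (b : ℤ) = (n : ℤ) * v := by rw [hn']; ring
    rw [this, zpow_mul, zpow_natCast, hg, one_zpow]

end helpers

/-- Let S be a scheme and G a commutative S-group scheme which is killed by a natural number n, i.e. the
n-th power map of G is the trivial homomorphism, and let n = a·b with a and b coprime. If i_a : G_a
→ G and i_b : G_b → G are scheme-theoretic kernels of the a-th and b-th power maps of G, then the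
morphism G_a ×_S G_b → G sending (x, y) to i_a(x)·i_b(y) is an isomorphism of S-schemes. (The
published statement assumes n ≠ 0; the case n = 0, where {a, b} = {0, 1} and one kernel is all of G
while the other is trivial, is included here.) -/
theorem result {S : Scheme.{u}} (G Ga Gb : Over S)
    [GrpObj G] [IsCommMonObj G] (n a b : ℕ) (hn : n = a * b) (hab : Nat.Coprime a b)
    (hG : (𝟙 G) ^ n = 1)
    (ia : Ga ⟶ G) (hia : AlgGrp.IsKernel ia ((𝟙 G) ^ a))
    (ib : Gb ⟶ G) (hib : AlgGrp.IsKernel ib ((𝟙 G) ^ b)) :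
    IsIso ((fst Ga Gb ≫ ia) * (snd Ga Gb ≫ ib)) := by
  classical
  set u : ℤ := Nat.gcdA a b with hu
  set v : ℤ := Nat.gcdB a b with hv
  have hbez : (a : ℤ) * u + (b : ℤ) * v = 1 := by
    have h := Nat.gcd_eq_gcd_ab a b
    have hg : Nat.gcd a b = 1 := hab
    rw [hg] at h
    simpa using h.symm
  have hpa : ∀ {T : Over S} (t : T ⟶ Ga), (t ≫ ia) ^ a = 1 := by
    intro T t
    calc (t ≫ ia) ^ a = (t ≫ ia) ≫ (𝟙 G) ^ a := by rw [MonObj.comp_pow, Category.comp_id]
      _ = t ≫ (toUnit Ga ≫ η[G]) := by rw [Category.assoc, hia.w]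
      _ = 1 := by rw [← Hom.one_def, MonObj.comp_one]
  have hpb : ∀ {T : Over S} (t : T ⟶ Gb), (t ≫ ib) ^ b = 1 := by
    intro T t
    calc (t ≫ ib) ^ b = (t ≫ ib) ≫ (𝟙 G) ^ b := by rw [MonObj.comp_pow, Category.comp_id]
      _ = t ≫ (toUnit Gb ≫ η[G]) := by rw [Category.assoc, hib.w]
      _ = 1 := by rw [← Hom.one_def, MonObj.comp_one]
  let xa : G ⟶ G := (𝟙 G) ^ ((b : ℤ) * v)
  let xb : G ⟶ G := (𝟙 G) ^ ((a : ℤ) * u)
  have hxa : xa ^ a = 1 := (grp_aux2 (𝟙 G) n a b v hn hG).1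
  have hxb : xb ^ b = 1 := (grp_aux2 (𝟙 G) n a b u hn hG).2
  have hwa : xa ≫ (𝟙 G) ^ a = toUnit G ≫ η[G] := by
    rw [MonObj.comp_pow, Category.comp_id]; exact hxa
  have hwb : xb ≫ (𝟙 G) ^ b = toUnit G ≫ η[G] := by
    rw [MonObj.comp_pow, Category.comp_id]; exact hxb
  let la : G ⟶ Ga := hia.lift xa (toUnit G) hwa
  let lb : G ⟶ Gb := hib.lift xb (toUnit G) hwb
  have hla : la ≫ ia = xa := hia.lift_fst _ _ _
  have hlb : lb ≫ ib = xb := hib.lift_fst _ _ _
  have hmz : ∀ z : ℤ, ((fst Ga Gb ≫ ia) * (snd Ga Gb ≫ ib)) ≫ (𝟙 G) ^ z =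
      ((fst Ga Gb ≫ ia) * (snd Ga Gb ≫ ib)) ^ z := fun z => by
    rw [GrpObj.comp_zpow, Category.comp_id]
  obtain ⟨h1, h2⟩ := grp_aux (fst Ga Gb ≫ ia) (snd Ga Gb ≫ ib) a b u v hbez (hpa _) (hpb _)
  refine ⟨⟨lift la lb, ?_, ?_⟩⟩
  · apply CartesianMonoidalCategory.hom_ext
    · rw [Category.assoc, lift_fst, Category.id_comp]
      apply hia.hom_ext
      · rw [Category.assoc, hla]
        exact (hmz ((b : ℤ) * v)).trans h1
      · exact toUnit_unique _ _
    · rw [Category.assoc, lift_snd, Category.id_comp]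
      apply hib.hom_ext
      · rw [Category.assoc, hlb]
        exact (hmz ((a : ℤ) * u)).trans h2
      · exact toUnit_unique _ _
  · rw [MonObj.comp_mul, lift_fst_assoc, lift_snd_assoc, hla, hlb]
    show (𝟙 G) ^ ((b : ℤ) * v) * (𝟙 G) ^ ((a : ℤ) * u) = 𝟙 G
    have h3 : (b : ℤ) * v + (a : ℤ) * u = 1 := by linarith
    rw [← zpow_add, h3, zpow_one]

end Groth.Agent.S18370
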