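import Groth.Statements.S18374
import Mathlib
import Groth.Agent.Lib.Helper7.PhiStab1
-- import your own Groth.Agent.* helpers here

set_option autoImplicit false
universe u
open PhiStab

namespace Groth.Agent.S18374

open Groth.Agent.Helper7.PhiS

open PhiStab in
/-- Let (V, E, ends) be a connected finite multigraph, φ a real weighting of its vertices and (m, N) a
sheaf datum on it (an integer multidegree m and a set N of edges, the non-free nodes) whose total
degree Σ_v m v + #N equals Σ_v φ v. Then (m, N) is φ-semistable, i.e. Σ_{v ∈ S} φ v - cut S / 2 ≤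
deg_S(m, N) for every nonempty proper vertex set S, if and only if this inequality holds for every
elementary S (one for which S and its complement both induce connected subgraphs); and likewise for
φ-stability with strict inequalities. This is the statement for a rank-1 torsion-free sheaf of
degree g - 1 on a stable pointed curve with this dual graph, written for the sheaf's combinatorial
datum, on which alone the stability inequalities depend and which takes all values. -/
theorem result {V E : Type u} [Fintype V] [Fintype E] [DecidableEq V] [DecidableEq E]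
    (ends : E → V × V) (hconn : LabGraph.Connected ends)
    (φ : V → ℝ) (m : V → ℤ) (N : Finset E) (hdeg : (∑ v : V, φ v) = (totDeg m N : ℝ)) :
    (IsSemistable ends φ m N ↔
      ∀ S : Finset V, IsElementary ends S →
        (∑ v ∈ S, φ v) - (LabGraph.cut ends S : ℝ) / 2 ≤ (degOn ends m N S : ℝ)) ∧
    (IsStable ends φ m N ↔
      ∀ S : Finset V, IsElementary ends S →
        (∑ v ∈ S, φ v) - (LabGraph.cut ends S : ℝ) / 2 < (degOn ends m N S : ℝ)) := by
  have hg : ∀ S : Finset V, ((∑ v ∈ S, φ v) - (LabGraph.cut ends S : ℝ) / 2 ≤
      (degOn ends m N S : ℝ)) ↔ 0 ≤ gfun ends φ m N S := by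
    intro S
    unfold gfun
    constructor <;> intro h <;> linarith
  have hg' : ∀ S : Finset V, ((∑ v ∈ S, φ v) - (LabGraph.cut ends S : ℝ) / 2 <
      (degOn ends m N S : ℝ)) ↔ 0 < gfun ends φ m N S := by
    intro S
    unfold gfun
    constructor <;> intro h <;> linarith
  have hel_ne : ∀ S : Finset V, IsElementary ends S → S.Nonempty ∧ S ≠ Finset.univ := by
    rintro S ⟨h1, h2⟩
    obtain ⟨⟨a, ha⟩⟩ := h1.1
    obtain ⟨⟨b, hb⟩⟩ := h2.1
    refine ⟨⟨a, ha⟩, fun h => ?_⟩
    rw [h] at hb
    simp at hb
  constructor
  · constructor
    · intro h S hS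
      exact h S (hel_ne S hS).1 (hel_ne S hS).2
    · intro h S hne hnu
      rw [hg]
      exact all_of_elementary ends hconn φ m N hdeg (fun a => 0 ≤ a)
        (fun a b ha hb => add_nonneg ha hb) (fun S hS => (hg S).1 (h S hS)) S hne hnu
  · constructor
    · intro h S hS
      exact h S (hel_ne S hS).1 (hel_ne S hS).2
    · intro h S hne hnu
      rw [hg']
      exact all_of_elementary ends hconn φ m N hdeg (fun a => 0 < a)
        (fun a b ha hb => add_pos ha hb) (fun S hS => (hg' S).1 (h S hS)) S hne hnu

end Groth.Agent.S18374
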