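import Groth.Statements.S18375
import Mathlib
import Groth.Agent.Lib.Helper7.PhiStab2
-- import your own Groth.Agent.* helpers here

set_option autoImplicit false
universe u
open PhiStab

namespace Groth.Agent.S18375

open Groth.Agent.Helper7.PhiS Groth.Agent.Helper7.LabG Groth.Agent.Helper7.MatTree

open PhiStab in
/-- Let (V, E, ends) be a finite multigraph and T a set of edges forming a spanning tree (the spanning
subgraph with edge set T is connected and contains no circuit), b an integer and φ a nondegenerate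
real weighting of the vertices with Σ_v φ v = b. Then there is a unique integer multidegree m for
which the sheaf datum (m, Tᶜ), not locally free exactly at the edges outside T, has total degree b
and is φ-stable. This is the statement that a stable pointed curve with this dual graph carries a
φ-stable rank-1 torsion-free sheaf of degree g - 1 = b failing to be locally free exactly at the
nodes outside T, of uniquely determined multidegree, written for the combinatorial datum. -/
theorem result {V E : Type u} [Fintype V] [Fintype E] [DecidableEq V] [DecidableEq E]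
    (ends : E → V × V) (T : Finset E)
    (hT : DualGr.IsTree (spanEnds ends T)) (b : ℤ) (φ : V → ℝ) (hφ : (∑ v : V, φ v) = (b : ℝ))
    (hnd : Nondegenerate ends φ) :
    ∃! m : V → ℤ, totDeg m Tᶜ = b ∧ IsStable ends φ m Tᶜ := by
  classical
  haveI : Nonempty V := hT.1.1
  have hTS : LabGraph.IsSpanningTree ends T := hT
  obtain ⟨hS, hcard⟩ := (tree_iff ends T).1 hTS
  have hgs : ∀ (m : V → ℤ) (S : Finset V), ((∑ v ∈ S, φ v) - (LabGraph.cut ends S : ℝ) / 2 ≤
      (degOn ends m Tᶜ S : ℝ)) ↔ 0 ≤ gfun ends φ m Tᶜ S := by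
    intro m S
    unfold gfun
    constructor <;> intro h <;> linarith
  have hgt : ∀ (m : V → ℤ) (S : Finset V), ((∑ v ∈ S, φ v) - (LabGraph.cut ends S : ℝ) / 2 <
      (degOn ends m Tᶜ S : ℝ)) ↔ 0 < gfun ends φ m Tᶜ S := by
    intro m S
    unfold gfun
    constructor <;> intro h <;> linarith
  -- existence
  have hex : ∃ m : V → ℤ, totDeg m Tᶜ = b ∧ IsStable ends φ m Tᶜ := by
    obtain ⟨v₀⟩ := ‹Nonempty V›
    obtain ⟨M, hM⟩ : ∃ M : ℤ, M = b - (Tᶜ.card : ℤ) := ⟨_, rfl⟩
    obtain ⟨σ, hσ⟩ : ∃ σ : E → ℝ, ∀ f, σ f = ∑ v ∈ sideT ends T f, psi ends Tᶜ φ v :=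
      ⟨_, fun _ => rfl⟩
    obtain ⟨m₀, hm₀⟩ : ∃ m₀ : V → ℤ, ∀ v, m₀ v = if v = v₀ then M else 0 := ⟨_, fun _ => rfl⟩
    obtain ⟨t, ht⟩ : ∃ t : E → ℤ, ∀ f, t f =
        if f ∈ T then (∑ v ∈ sideT ends T f, m₀ v) - round (σ f) else 0 := ⟨_, fun _ => rfl⟩
    obtain ⟨m, hm⟩ : ∃ m : V → ℤ, ∀ v, m v = m₀ v + (∑ f, t f • bvec ends ℤ f) v :=
      ⟨_, fun _ => rfl⟩
    have ht0 : ∀ e, e ∉ T → t e = 0 := fun e he => by rw [ht, if_neg he]
    have hsum0 : ∑ v, m₀ v = M := by
      simp only [hm₀, Finset.sum_ite_eq', Finset.mem_univ, if_true]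
    have hsumm : ∑ v, m v = M := by
      have h1 : ∑ v, m v = ∑ v, m₀ v + ∑ v ∈ Finset.univ, (∑ f, t f • bvec ends ℤ f) v := by
        rw [← Finset.sum_add_distrib]
        exact Finset.sum_congr rfl fun v _ => hm v
      rw [h1, sum_comb_on, hsum0]
      simp
    have htot : totDeg m Tᶜ = b := by
      unfold PhiStab.totDeg
      rw [hsumm, hM]
      ring
    have hdeg : ∑ v, φ v = (totDeg m Tᶜ : ℝ) := by rw [htot, hφ]
    have hside : ∀ f ∈ T, ∑ v ∈ sideT ends T f, m v = round (σ f) := by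
      intro f hf
      have h1 : ∑ v ∈ sideT ends T f, m v = ∑ v ∈ sideT ends T f, m₀ v +
          ∑ v ∈ sideT ends T f, (∑ e, t e • bvec ends ℤ e) v := by
        rw [← Finset.sum_add_distrib]
        exact Finset.sum_congr rfl fun v _ => hm v
      rw [h1, sum_comb_side ends hS hcard t ht0 hf, ht f, if_pos hf]
      ring
    have hx0 := sum_x_zero ends φ m Tᶜ hdeg
    obtain ⟨cf, hcf0, hxeq⟩ := coeff_of_sum_zero ends ℝ hS
      (fun v => (m v : ℝ) - psi ends Tᶜ φ v) hx0
    have hcf : ∀ e, |cf e| ≤ 1/2 := by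
      intro e
      by_cases he : e ∈ T
      · have h1 := sum_comb_side ends hS hcard cf hcf0 he
        rw [← hxeq] at h1
        have h2 : ∑ v ∈ sideT ends T e, ((m v : ℝ) - psi ends Tᶜ φ v) =
            (round (σ e) : ℝ) - σ e := by
          rw [Finset.sum_sub_distrib, ← hσ e, ← hside e he]
          push_cast
          rfl
        have h3 : cf e = σ e - (round (σ e) : ℝ) := by
          have h4 : ∑ v ∈ sideT ends T e, ((m v : ℝ) - psi ends Tᶜ φ v) = -cf e := h1
          linarith
        rw [h3]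
        exact abs_sub_round (σ e)
      · rw [hcf0 e he]
        norm_num
    have hss := semistable_of_coeff ends φ m cf hcf0 hcf hxeq
    have hsemi : IsSemistable ends φ m Tᶜ := fun S _ _ => (hgs m S).2 (hss S)
    exact ⟨m, htot, hnd m Tᶜ hdeg hsemi⟩
  obtain ⟨m, hm1, hm2⟩ := hex
  refine ⟨m, ⟨hm1, hm2⟩, ?_⟩
  rintro m' ⟨hm1', hm2'⟩
  have hdeg : ∑ v, φ v = (totDeg m Tᶜ : ℝ) := by rw [hm1, hφ]
  have hdeg' : ∑ v, φ v = (totDeg m' Tᶜ : ℝ) := by rw [hm1', hφ]
  have hb := fun f hf => side_bound_of_stable ends hS hcard φ m hdeg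
    (fun S h1 h2 => (hgt m S).1 (hm2 S h1 h2)) (f := f) hf
  have hb' := fun f hf => side_bound_of_stable ends hS hcard φ m' hdeg'
    (fun S h1 h2 => (hgt m' S).1 (hm2' S h1 h2)) (f := f) hf
  have hy : (fun v => ((m' v - m v : ℤ) : ℝ)) = 0 := by
    apply eq_zero_of_side_sums ends hS hcard
    · have h1 : ∑ v, m' v = ∑ v, m v := by
        have e1 := hm1
        have e2 := hm1'
        unfold PhiStab.totDeg at e1 e2
        linarith
      have h2 : ∑ v, ((m' v - m v : ℤ) : ℝ) = ((∑ v, m' v - ∑ v, m v : ℤ) : ℝ) := by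
        push_cast
        rw [Finset.sum_sub_distrib]
      rw [h2, h1]
      simp
    · intro f hf
      have h1 := hb f hf
      have h2 := hb' f hf
      have h3 : ∑ v ∈ sideT ends T f, ((m' v - m v : ℤ) : ℝ) =
          ∑ v ∈ sideT ends T f, ((m' v : ℝ) - psi ends Tᶜ φ v) -
            ∑ v ∈ sideT ends T f, ((m v : ℝ) - psi ends Tᶜ φ v) := by
        rw [← Finset.sum_sub_distrib]
        exact Finset.sum_congr rfl fun v _ => by push_cast; ring
      have h4 : |∑ v ∈ sideT ends T f, ((m' v - m v : ℤ) : ℝ)| < 1 := by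
        rw [h3]
        rw [abs_lt] at h1 h2 ⊢
        constructor <;> linarith [h1.1, h1.2, h2.1, h2.2]
      have h5 : ∑ v ∈ sideT ends T f, ((m' v - m v : ℤ) : ℝ) =
          ((∑ v ∈ sideT ends T f, (m' v - m v) : ℤ) : ℝ) := by push_cast; rfl
      rw [h5] at h4 ⊢
      have h6 : |∑ v ∈ sideT ends T f, (m' v - m v)| < 1 := by exact_mod_cast h4
      rw [Int.abs_lt_one_iff.1 h6]
      simp
  funext v
  have h1 := congrFun hy v
  have h2 : ((m' v - m v : ℤ) : ℝ) = 0 := h1
  have h3 : m' v - m v = 0 := by exact_mod_cast h2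
  linarith

end Groth.Agent.S18375
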