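import Groth.Statements.S18376
import Mathlib
import Groth.Agent.Lib.Helper7.PhiStab3
import Groth.Agent.S18375
-- import your own Groth.Agent.* helpers here

set_option autoImplicit false
universe u
open PhiStab

namespace Groth.Agent.S18376


open Groth.Agent.Helper7.PhiS Groth.Agent.Helper7.LabG Groth.Agent.Helper7.MatTree


open PhiStab in
/-- Let (V, E, ends) be a connected finite multigraph, b an integer, and φ₁, φ₂ real weightings of the
vertices with Σ_v φ₁ v = Σ_v φ₂ v = b, φ₁ nondegenerate. Then every φ₁-stable sheaf datum (m, N) of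
total degree b is φ₂-semistable if and only if φ₂ lies in the closed stability polytope of φ₁, that
is, for every elementary vertex set S and every integer d with d - Σ_{v ∈ S} φ₁ v + cut S / 2 > 0
one has d - Σ_{v ∈ S} φ₂ v + cut S / 2 ≥ 0. Membership in the closure of the polytope is expressed
by this half-space condition, the form in which the source's proof uses it; the sheaves of degree g
- 1 = b on stable pointed curves with this dual graph enter through their combinatorial data. -/
theorem result {V E : Type u} [Fintype V] [Fintype E] [DecidableEq V] [DecidableEq E]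
    (ends : E → V × V)
    (hconn : LabGraph.Connected ends) (b : ℤ) (φ₁ φ₂ : V → ℝ) (h₁ : (∑ v : V, φ₁ v) = (b : ℝ))
    (h₂ : (∑ v : V, φ₂ v) = (b : ℝ)) (hnd : Nondegenerate ends φ₁) :
    (∀ (m : V → ℤ) (N : Finset E), totDeg m N = b → IsStable ends φ₁ m N → IsSemistable ends φ₂ m N) ↔
      InClosedPolytope ends φ₁ φ₂ := by
  classical
  haveI : Nonempty V := hconn.1
  constructor
  · -- (⇒)
    intro H S hel d hd
    have hS1 := iconn_of_connected ends hel.1
    have hS2 := iconn_of_connected ends hel.2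
    have hne : S.Nonempty := hS1.1
    have hcne : Sᶜ.Nonempty := hS2.1
    have hnu : S ≠ Finset.univ := by
      obtain ⟨s, hs⟩ := hcne
      intro h
      rw [h] at hs
      simp at hs
    have hcnu : Sᶜ ≠ Finset.univ := by
      obtain ⟨s, hs⟩ := hne
      intro h
      have h' : s ∈ Sᶜ := by rw [h]; exact Finset.mem_univ _
      exact (Finset.mem_compl.1 h') hs
    have hno : ∃ e₀, ¬ ((ends e₀).1 ∈ S ↔ (ends e₀).2 ∈ S) := by
      by_contra hno
      have hno' : ∀ e, ((ends e).1 ∈ S ↔ (ends e).2 ∈ S) := fun e => by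
        by_contra h; exact hno ⟨e, h⟩
      exact hnu (closed_univ_of_connected ends hconn hne hno')
    obtain ⟨e₀, he₀⟩ := hno
    have hcov : ∀ v, v ∈ S ∨ v ∈ Sᶜ := fun v => by
      by_cases h : v ∈ S
      · exact Or.inl h
      · exact Or.inr (Finset.mem_compl.2 h)
    obtain ⟨T₀, hT₀def⟩ : ∃ T₀ : Finset E,
        T₀ = PhiStab.inner ends S ∪ PhiStab.inner ends Sᶜ ∪ {e₀} := ⟨_, rfl⟩
    have hi1 : PhiStab.inner ends S ⊆ T₀ := by
      rw [hT₀def]; exact fun e he => Finset.mem_union_left _ (Finset.mem_union_left _ he)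
    have hi2 : PhiStab.inner ends Sᶜ ⊆ T₀ := by
      rw [hT₀def]; exact fun e he => Finset.mem_union_left _ (Finset.mem_union_right _ he)
    have hmem : e₀ ∈ T₀ := by
      rw [hT₀def]; exact Finset.mem_union_right _ (Finset.mem_singleton_self _)
    have hT₀ : SConn ends T₀ := by
      by_cases ha : (ends e₀).1 ∈ S
      · have hc : (ends e₀).2 ∈ Sᶜ :=
          Finset.mem_compl.2 (fun hc => he₀ ⟨fun _ => hc, fun _ => ha⟩)
        exact sconn_two ends hcov hS1 hS2 hi1 hi2 hmem ha hc
      · have hc : (ends e₀).2 ∈ S := by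
          by_contra hc
          exact he₀ ⟨fun h => absurd h ha, fun h => absurd h hc⟩
        exact sconn_two ends (fun v => (hcov v).symm) hS2 hS1 hi2 hi1 hmem
          (Finset.mem_compl.2 ha) hc
    obtain ⟨T, hTsub, hTS, hTcard⟩ := exists_tree_sub ends _ T₀ rfl hT₀
    rw [hT₀def] at hTsub
    have hTree : DualGr.IsTree (spanEnds ends T) := (tree_iff ends T).2 ⟨hTS, hTcard⟩
    obtain ⟨m, ⟨htot, hst⟩, -⟩ := Groth.Agent.S18375.result ends T hTree b φ₁ h₁ hnd
    have hss := H m Tᶜ htot hst
    have hdeg : ∑ v, φ₁ v = (totDeg m Tᶜ : ℝ) := by rw [htot, h₁]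
    have hct : ct ends Tᶜ S ≤ 1 := ct_le_one ends hTsub
    have g1 : 0 < gfun ends φ₁ m Tᶜ S := by
      have := hst S hne hnu
      unfold gfun; linarith
    have g2 : 0 < gfun ends φ₁ m Tᶜ Sᶜ := by
      have := hst Sᶜ hcne hcnu
      unfold gfun; linarith
    have hlt : gfun ends φ₁ m Tᶜ S < 1 := by
      rw [gfun_eq'] at g1 g2 ⊢
      rw [ct_compl] at g2
      have h0 := sum_x_zero ends φ₁ m Tᶜ hdeg
      have h3 := Finset.sum_add_sum_compl S (fun v => (m v : ℝ) - psi ends Tᶜ φ₁ v)
      linarith
    have h4 := hss S hne hnu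
    unfold gfun at hlt
    unfold PhiStab.ell at hd ⊢
    have h5 : (degOn ends m Tᶜ S : ℝ) < ((d + 1 : ℤ) : ℝ) := by push_cast; linarith
    have h6 : degOn ends m Tᶜ S ≤ d := Int.lt_add_one_iff.1 (Int.cast_lt.1 h5)
    have h7 : (degOn ends m Tᶜ S : ℝ) ≤ (d : ℝ) := by exact_mod_cast h6
    linarith
  · -- (⇐)
    intro hP m N htot hst
    have hdeg : ∑ v, φ₂ v = (totDeg m N : ℝ) := by rw [htot, h₂]
    have hel : ∀ S, IsElementary ends S → 0 ≤ gfun ends φ₂ m N S := by
      intro S hS
      have hS1 := iconn_of_connected ends hS.1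
      have hS2 := iconn_of_connected ends hS.2
      have hnu : S ≠ Finset.univ := by
        obtain ⟨s, hs⟩ := hS2.1
        intro h
        rw [h] at hs
        simp at hs
      have h1 := hst S hS1.1 hnu
      have h2 := hP S hS (degOn ends m N S) (by unfold PhiStab.ell; linarith)
      unfold PhiStab.ell at h2
      unfold gfun
      exact h2
    intro S hne hnu
    have h9 : 0 ≤ gfun ends φ₂ m N S :=
      all_of_elementary ends hconn φ₂ m N hdeg (fun x => 0 ≤ x)
        (fun a b ha hb => add_nonneg ha hb) hel S hne hnu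
    unfold gfun at h9
    linarith

end Groth.Agent.S18376
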