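import Groth.Statements.S18379
import Groth.Agent.H21.Verlinde.V14

set_option autoImplicit false
open VerlindeComb

namespace Groth.Agent.S18379

/-- Let r, k ≥ 1 be integers. Summing over all integer vectors v with r + k > v_1 > v_2 > ⋯ > v_{r-1} >
v_r = 0, one has Σ_v ∏_{i<j} (2 sin(π (v_i - v_j) / (r + k)))² = r (r + k)^{r-1}; that is, the
genus-zero Verlinde number of rank r and level k with no parabolic points, defined as (r (r +
k)^{r-1})⁻¹ times this sum, equals 1. Indices are 0-based below: v i stands for v_{i+1}. -/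
theorem result (r k : ℕ) (hr : 1 ≤ r) (hk : 1 ≤ k) :
    (∑ v ∈ (Finset.univ : Finset (Fin r → Fin (r + k))).filter
        (fun v : Fin r → Fin (r + k) => StrictAnti v ∧ ∀ i : Fin r, (i : ℕ) = r - 1 → (v i : ℕ) = 0),
      ∏ p ∈ (Finset.univ : Finset (Fin r × Fin r)).filter (fun p => p.1 < p.2),
        ((2 : ℝ) * Real.sin (Real.pi * ((v p.1 : ℕ) - (v p.2 : ℕ) : ℝ) / ((r : ℝ) + k))) ^ 2) =
      (r : ℝ) * ((r : ℝ) + k) ^ (r - 1) := by
  obtain ⟨n, rfl⟩ : ∃ n, r = n + 1 := ⟨r - 1, by omega⟩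
  classical
  have hfilter : (Finset.univ : Finset (Fin (n + 1) → Fin (n + 1 + k))).filter
      (fun v : Fin (n + 1) → Fin (n + 1 + k) =>
        StrictAnti v ∧ ∀ i : Fin (n + 1), (i : ℕ) = n + 1 - 1 → (v i : ℕ) = 0) =
      (Finset.univ : Finset (Fin (n + 1) → Fin (n + 1 + k))).filter
        (fun v => StrictAnti v ∧ ((v (Fin.last n) : Fin (n + 1 + k)) : ℕ) = 0) := by
    refine Finset.filter_congr (fun v _ => ?_)
    refine and_congr_right (fun _ => ⟨fun h => h (Fin.last n) (by simp), fun h i hi => ?_⟩)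
    have : i = Fin.last n := Fin.ext (by simp only [Fin.val_last]; omega)
    rw [this]; exact h
  rw [hfilter]
  have hden : (((n + 1 : ℕ) : ℝ) + (k : ℝ)) = ((n + 1 + k : ℕ) : ℝ) := by push_cast; ring
  simp only [hden]
  have hsum := H21.Verlinde.sum_P n k
  obtain ⟨X, hX⟩ : ∃ X : ℝ, X = ∑ v ∈ (Finset.univ : Finset (Fin (n + 1) → Fin (n + 1 + k))).filter
        (fun v => StrictAnti v ∧ ((v (Fin.last n) : Fin (n + 1 + k)) : ℕ) = 0),
      ∏ p ∈ (Finset.univ : Finset (Fin (n + 1) × Fin (n + 1))).filter (fun p => p.1 < p.2),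
        ((2 : ℝ) * Real.sin (Real.pi * (((v p.1 : ℕ) : ℝ) - ((v p.2 : ℕ) : ℝ)) /
          ((n + 1 + k : ℕ) : ℝ))) ^ 2 := ⟨_, rfl⟩
  rw [← hX] at hsum ⊢
  have hXnn : 0 ≤ X := by
    rw [hX]
    exact Finset.sum_nonneg (fun v _ => Finset.prod_nonneg (fun p _ => sq_nonneg _))
  have hpos : (0 : ℝ) < ((n : ℝ) + 1) * ((n + 1 + k : ℕ) : ℝ) ^ n := by positivity
  have hε : (∏ _p ∈ (Finset.univ : Finset (Fin (n + 1) × Fin (n + 1))).filter
      (fun p => p.1 < p.2), (-1 : ℂ)) = 1 ∨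
      (∏ _p ∈ (Finset.univ : Finset (Fin (n + 1) × Fin (n + 1))).filter
      (fun p => p.1 < p.2), (-1 : ℂ)) = -1 := by
    rw [Finset.prod_const]
    exact neg_one_pow_eq_or ℂ _
  have hs : ((Equiv.Perm.sign (Fin.revPerm : Equiv.Perm (Fin (n + 1))) : ℤ) : ℂ) = 1 ∨
      ((Equiv.Perm.sign (Fin.revPerm : Equiv.Perm (Fin (n + 1))) : ℤ) : ℂ) = -1 := by
    rcases Int.units_eq_one_or (Equiv.Perm.sign (Fin.revPerm : Equiv.Perm (Fin (n + 1)))) with h | h
    · left; rw [h]; simp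
    · right; rw [h]; simp
  have hgoal : ((n + 1 : ℕ) : ℝ) * ((n + 1 + k : ℕ) : ℝ) ^ (n + 1 - 1) =
      ((n : ℝ) + 1) * ((n + 1 + k : ℕ) : ℝ) ^ n := by
    rw [Nat.add_sub_cancel]; push_cast; ring
  rw [hgoal]
  have hcases : (X : ℂ) = (((n : ℝ) + 1) * ((n + 1 + k : ℕ) : ℝ) ^ n : ℝ) ∨
      (X : ℂ) = ((-(((n : ℝ) + 1) * ((n + 1 + k : ℕ) : ℝ) ^ n) : ℝ) : ℂ) := by
    rcases hε with h1 | h1 <;> rcases hs with h2 | h2 <;> rw [h1, h2] at hsum
    · left; rw [hsum]; push_cast; ring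
    · right; rw [hsum]; push_cast; ring
    · right; rw [hsum]; push_cast; ring
    · left; rw [hsum]; push_cast; ring
  rcases hcases with h | h
  · exact_mod_cast h
  · have : X = -(((n : ℝ) + 1) * ((n + 1 + k : ℕ) : ℝ) ^ n) := by exact_mod_cast h
    linarith

end Groth.Agent.S18379
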