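import Groth.Statements.S18382
import Mathlib
import Groth.Agent.Lib.Helper7.MatTree2
-- import your own Groth.Agent.* helpers here

set_option autoImplicit false
universe u
open PhiStab

namespace Groth.Agent.S18382

open Groth.Agent.Helper7.LabG Groth.Agent.Helper7.MatTree

section aux
variable {V E : Type u} [Fintype V] [Fintype E] [DecidableEq V] [DecidableEq E]

lemma mem_side_iff (ends : E → V × V) (e : E) (v : V) :
    v ∈ PhiStab.side ends e ↔
      Relation.ReflTransGen (step ends (Finset.univ.erase e)) (ends e).1 v := by
  classical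
  simp only [PhiStab.side, Finset.mem_filter, Finset.mem_univ, true_and]
  constructor
  · intro h
    exact h.lift id (fun a b hab => by
      obtain ⟨e', he'⟩ := hab
      exact ⟨e'.1, e'.2, he'⟩)
  · intro h
    exact h.lift id (fun a b hab => by
      obtain ⟨e', he', h'⟩ := hab
      exact ⟨⟨e', he'⟩, h'⟩)

lemma sconn_erase_of_path (ends : E → V × V) (e : E) (hS : SConn ends Finset.univ)
    (h12 : Relation.ReflTransGen (step ends (Finset.univ.erase e)) (ends e).1 (ends e).2) :
    SConn ends (Finset.univ.erase e) := by
  have h21 := rtg_symm ends _ h12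
  intro x y
  have hxy := hS x y
  induction hxy with
  | refl => exact Relation.ReflTransGen.refl
  | tail _ hbc ih =>
    refine ih.trans ?_
    obtain ⟨e', he', h⟩ := hbc
    by_cases hee : e' = e
    · rw [hee] at h
      rcases h with h | h
      · simpa [h] using h12
      · simpa [h] using h21
    · exact Relation.ReflTransGen.single ⟨e', Finset.mem_erase.2 ⟨hee, he'⟩, h⟩

end aux

open PhiStab in
/-- Let (V, E, ends) be a finite tree, that is a connected multigraph without circuits. For every family
of real numbers c_e indexed by the edges and every real c₀ there is exactly one real weighting φ of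
the vertices such that, for each edge e, the sum of φ over the side of e containing its first
endpoint (the vertices joined to that endpoint by a chain of edges other than e) equals c_e, and the
sum of φ over all vertices equals c₀. The lemma itself — a system of stability parameters on all
treelike marked graphs compatible with contractions is determined by its components on the
two-vertex graphs — reduces to this square linear system being nondegenerate. -/
theorem result {V E : Type u} [Fintype V] [Fintype E] [DecidableEq V] [DecidableEq E]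
    (ends : E → V × V) (hT : DualGr.IsTree ends)
    (c : E → ℝ) (c₀ : ℝ) :
    ∃! φ : V → ℝ, (∀ e : E, (∑ v ∈ side ends e, φ v) = c e) ∧ (∑ v : V, φ v) = c₀ := by
  classical
  haveI : Nonempty V := hT.1.1
  have hS : SConn ends Finset.univ := fun x y => (hT.1.2 x y).lift id (fun a b hab => by
    obtain ⟨e', he'⟩ := hab
    exact ⟨e', Finset.mem_univ _, he'⟩)
  have hF : ∀ C : Finset E, C ⊆ Finset.univ → ¬ LabGraph.IsCircuit ends C := fun C _ => hT.2 C
  have hcard1 := card_le_of_forest ends hF
  have hcard2 := card_ge_of_sconn ends hS
  have hcardE : (Finset.univ : Finset E).card = Fintype.card E := Finset.card_univ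
  have h1 : ∀ e, (ends e).1 ∈ PhiStab.side ends e := fun e =>
    (mem_side_iff ends e _).2 Relation.ReflTransGen.refl
  have h2 : ∀ e, (ends e).2 ∉ PhiStab.side ends e := by
    intro e hmem
    have h12 := (mem_side_iff ends e _).1 hmem
    have h3 := card_ge_of_sconn ends (sconn_erase_of_path ends e hS h12)
    have h4 := Finset.card_erase_lt_of_mem (Finset.mem_univ e)
    omega
  have h3 : ∀ e f, f ≠ e →
      ((ends f).1 ∈ PhiStab.side ends e ↔ (ends f).2 ∈ PhiStab.side ends e) := by
    intro e f hfe
    rw [mem_side_iff, mem_side_iff]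
    have hmem : f ∈ Finset.univ.erase e := Finset.mem_erase.2 ⟨hfe, Finset.mem_univ _⟩
    constructor
    · intro h; exact h.tail ⟨f, hmem, Or.inl rfl⟩
    · intro h; exact h.tail ⟨f, hmem, Or.inr rfl⟩
  let L : (V → ℝ) →ₗ[ℝ] ((E → ℝ) × ℝ) :=
    { toFun := fun φ => (fun e => ∑ v ∈ PhiStab.side ends e, φ v, ∑ v, φ v)
      map_add' := fun φ ψ => by
        refine Prod.ext (funext fun e => ?_) ?_
        · simp [Finset.sum_add_distrib]
        · simp [Finset.sum_add_distrib]
      map_smul' := fun r φ => by
        refine Prod.ext (funext fun e => ?_) ?_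
        · simp [Finset.mul_sum]
        · simp [Finset.mul_sum] }
  have hinj : Function.Injective L := by
    rw [← LinearMap.ker_eq_bot, LinearMap.ker_eq_bot']
    intro φ hφ
    have hφ1 : ∀ e, ∑ v ∈ PhiStab.side ends e, φ v = 0 :=
      fun e => congrFun (congrArg Prod.fst hφ) e
    have hφ2 : ∑ v, φ v = 0 := congrArg Prod.snd hφ
    obtain ⟨a, -, ha⟩ := coeff_of_sum_zero ends ℝ hS φ hφ2
    have h7 : ∀ e f, ∑ v ∈ PhiStab.side ends e, bvec ends ℝ f v =
        (if (ends f).2 ∈ PhiStab.side ends e then 1 else 0) -
          (if (ends f).1 ∈ PhiStab.side ends e then 1 else 0) := by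
      intro e f
      simp only [bvec_apply, Finset.sum_sub_distrib, Finset.sum_ite_eq']
    have hae : ∀ e, a e = 0 := by
      intro e
      have h5 := hφ1 e
      rw [ha] at h5
      have h6 : ∑ v ∈ PhiStab.side ends e, (∑ f, a f • bvec ends ℝ f) v =
          ∑ f, a f * ∑ v ∈ PhiStab.side ends e, bvec ends ℝ f v := by
        simp only [Finset.sum_apply, Pi.smul_apply, smul_eq_mul]
        rw [Finset.sum_comm]
        exact Finset.sum_congr rfl fun f _ => (Finset.mul_sum _ _ _).symm
      rw [h6, Finset.sum_eq_single e] at h5
      · rw [h7, if_neg (h2 e), if_pos (h1 e)] at h5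
        linear_combination -h5
      · intro f _ hfe
        rw [h7]
        by_cases hm : (ends f).1 ∈ PhiStab.side ends e
        · rw [if_pos hm, if_pos ((h3 e f hfe).1 hm)]; ring
        · rw [if_neg hm, if_neg (fun h => hm ((h3 e f hfe).2 h))]; ring
      · intro h; exact absurd (Finset.mem_univ _) h
    rw [ha]
    simp [hae]
  have hfr : Module.finrank ℝ (V → ℝ) = Module.finrank ℝ ((E → ℝ) × ℝ) := by
    rw [Module.finrank_prod, Module.finrank_fintype_fun_eq_card,
      Module.finrank_fintype_fun_eq_card, Module.finrank_self]
    omega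
  have hsurj : Function.Surjective L :=
    (LinearMap.injective_iff_surjective_of_finrank_eq_finrank hfr).1 hinj
  obtain ⟨φ, hφ⟩ := hsurj (c, c₀)
  refine ⟨φ, ⟨fun e => congrFun (congrArg Prod.fst hφ) e, congrArg Prod.snd hφ⟩, ?_⟩
  rintro ψ ⟨hψ1, hψ2⟩
  apply hinj
  rw [hφ]
  exact Prod.ext (funext hψ1) hψ2

end Groth.Agent.S18382
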