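import Groth.Statements.S18383
import Mathlib

set_option autoImplicit false
universe u
open CategoryTheory CategoryTheory.Limits MonoidalCategory CartesianMonoidalCategory MonObj GrpObj AlgebraicGeometry
open GrpSch

namespace Groth.Agent.S18383

/-- Let S be a scheme, H an S-group scheme and i : G → H a homomorphism of S-group schemes which is a
closed immersion (G a closed subgroup scheme of H). Then the left-translation action of G on H is
strictly free: the S-morphism G ×_S H → H ×_S H, (g, h) ↦ (i(g)·h, h), is a closed immersion. -/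
theorem result {S : Scheme.{u}} (G H : Over S)
    [GrpObj G] [GrpObj H] (i : G ⟶ H) [IsMonHom i] [IsClosedImmersion i.left] :
    IsClosedImmersion (CartesianMonoidalCategory.lift ((i ▷ H) ≫ μ[H]) (snd G H)).left := by
  let σ : H ⊗ H ⟶ H ⊗ H := lift μ[H] (snd H H)
  let τ : H ⊗ H ⟶ H ⊗ H := lift (fst H H * (snd H H)⁻¹) (snd H H)
  have hμ : (μ[H] : H ⊗ H ⟶ H) = fst H H * snd H H := by
    rw [CategoryTheory.Hom.mul_def, lift_fst_snd, Category.id_comp]
  have hστ : σ ≫ τ = 𝟙 _ := by
    apply CartesianMonoidalCategory.hom_ext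
    · calc (σ ≫ τ) ≫ fst H H = σ ≫ (fst H H * (snd H H)⁻¹) := by
            simp only [Category.assoc, τ, lift_fst]
        _ = (σ ≫ fst H H) * (σ ≫ snd H H)⁻¹ := by rw [MonObj.comp_mul, GrpObj.comp_inv]
        _ = μ[H] * (snd H H)⁻¹ := by simp only [σ, lift_fst, lift_snd]
        _ = fst H H := by rw [hμ]; exact _root_.mul_inv_cancel_right _ _
        _ = 𝟙 _ ≫ fst H H := (Category.id_comp _).symm
    · simp [σ, τ]
  have hτσ : τ ≫ σ = 𝟙 _ := by
    apply CartesianMonoidalCategory.hom_ext
    · calc (τ ≫ σ) ≫ fst H H = τ ≫ μ[H] := by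
            simp only [Category.assoc, σ, lift_fst]
        _ = (τ ≫ fst H H) * (τ ≫ snd H H) := by rw [hμ, MonObj.comp_mul]
        _ = (fst H H * (snd H H)⁻¹) * snd H H := by simp only [τ, lift_fst, lift_snd]
        _ = fst H H := _root_.inv_mul_cancel_right _ _
        _ = 𝟙 _ ≫ fst H H := (Category.id_comp _).symm
    · simp [σ, τ]
  haveI : IsIso σ := ⟨τ, hστ, hτσ⟩
  have hfac : lift ((i ▷ H) ≫ μ[H]) (snd G H) = (i ▷ H) ≫ σ := by
    apply CartesianMonoidalCategory.hom_ext
    · simp [σ]
    · simp [σ]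
  rw [hfac, Over.comp_left]
  haveI : IsClosedImmersion (i ▷ H).left := by
    have h := MorphismProperty.pullbackMap (P := @IsClosedImmersion) (f := G.hom) (g := H.hom)
      (f' := H.hom) (g' := H.hom) (i₁ := i.left) (i₂ := 𝟙 H.left)
      ‹IsClosedImmersion i.left› inferInstance (Over.w i).symm (Category.id_comp _).symm
    exact h
  haveI : IsIso σ.left := (inferInstance : IsIso ((Over.forget S).map σ))
  infer_instance

end Groth.Agent.S18383
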