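import Groth.Statements.S18386
import Mathlib

set_option autoImplicit false
universe u
open LVCorr

namespace Groth.Agent.S18386

open AlgebraicGeometry in
/-- Let X be a connected Noetherian scheme and I a quasi-coherent sheaf of ideals on X, different from
the structure sheaf, such that I^k = I^(k+1) for some natural number k. Then I^k = 0. -/
theorem result (X : Scheme.{u}) [AlgebraicGeometry.IsNoetherian X]
    [ConnectedSpace X] (I : X.IdealSheafData) (hI : I ≠ ⊤) (k : ℕ)
    (h : I ^ k = I ^ (k + 1)) : I ^ k = ⊥ := by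
  have hk : k ≠ 0 := by
    rintro rfl
    apply hI
    rw [pow_zero, zero_add, pow_one] at h
    exact h.symm
  have hstab : ∀ j, I ^ (k + j) = I ^ k := by
    intro j
    induction j with
    | zero => rfl
    | succ j ih => rw [← add_assoc, pow_succ, ih, ← pow_succ]; exact h.symm
  have hKK : I ^ k * I ^ k = I ^ k := by rw [← pow_add]; exact hstab k
  have hloc : ∀ U : X.affineOpens, ∃ e : Γ(X, U.1), IsIdempotentElem e ∧
      (I ^ k).ideal U = Ideal.span {e} := by
    intro U
    haveI : IsNoetherianRing Γ(X, U.1) := AlgebraicGeometry.IsLocallyNoetherian.component_noetherian U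
    have h1 : IsIdempotentElem ((I ^ k).ideal U) :=
      congrFun (congrArg AlgebraicGeometry.Scheme.IdealSheafData.ideal hKK) U
    exact (Ideal.isIdempotentElem_iff_of_fg _ (_root_.IsNoetherian.noetherian _)).mp h1
  have hsupp : (I ^ k).support = I.support :=
    AlgebraicGeometry.Scheme.IdealSheafData.support_pow I k hk
  have hopen : IsOpen ((I ^ k).support : Set X) := by
    rw [isOpen_iff_forall_mem_open]
    intro x hx
    obtain ⟨_, ⟨U, hU, rfl⟩, hxU, -⟩ :=
      X.isBasis_affineOpens.exists_subset_of_mem_open (Set.mem_univ x) isOpen_univ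
    refine ⟨((I ^ k).support : Set X) ∩ U, Set.inter_subset_left, ?_, ⟨hx, hxU⟩⟩
    obtain ⟨e, he, hKe⟩ := hloc ⟨U, hU⟩
    rw [AlgebraicGeometry.Scheme.IdealSheafData.coe_support_inter (I ^ k) ⟨U, hU⟩,
      ← AlgebraicGeometry.IsAffineOpen.fromSpec_image_zeroLocus hU, hKe]
    apply hU.fromSpec.isOpenEmbedding.isOpenMap
    rw [PrimeSpectrum.zeroLocus_span,
      PrimeSpectrum.zeroLocus_eq_basicOpen_of_mul_add e (1 - e)
        (by rw [mul_sub, mul_one, he.eq, sub_self]) (by ring)]
    exact (PrimeSpectrum.basicOpen (1 - e)).isOpen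
  have hclopen : IsClopen ((I ^ k).support : Set X) := ⟨(I ^ k).support.isClosed, hopen⟩
  rcases isClopen_iff.mp hclopen with h0 | h1
  · exfalso
    apply hI
    rw [← AlgebraicGeometry.Scheme.IdealSheafData.support_eq_bot_iff, ← hsupp]
    exact TopologicalSpace.Closeds.ext h0
  · have hsb : (I ^ k).support = (⊥ : X.IdealSheafData).support := by
      rw [AlgebraicGeometry.Scheme.IdealSheafData.support_bot]
      exact TopologicalSpace.Closeds.ext h1
    have hrad : (I ^ k).radical = (⊥ : X.IdealSheafData).radical := by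
      rw [← AlgebraicGeometry.Scheme.IdealSheafData.vanishingIdeal_support,
        ← AlgebraicGeometry.Scheme.IdealSheafData.vanishingIdeal_support, hsb]
    apply AlgebraicGeometry.Scheme.IdealSheafData.ext
    funext U
    obtain ⟨e, he, hKe⟩ := hloc U
    have hmem : e ∈ ((I ^ k).ideal U).radical :=
      Ideal.le_radical (hKe ▸ Ideal.subset_span (Set.mem_singleton e))
    have h3 : ((I ^ k).ideal U).radical = (⊥ : Ideal Γ(X, U.1)).radical :=
      congrFun (congrArg AlgebraicGeometry.Scheme.IdealSheafData.ideal hrad) U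
    rw [h3] at hmem
    obtain ⟨n, hn⟩ := hmem
    have hn0 : e ^ n = 0 := Ideal.mem_bot.mp hn
    have he0 : e = 0 := by
      rw [← he.pow_succ_eq n, pow_succ, hn0, zero_mul]
    rw [hKe, he0]
    simp

end Groth.Agent.S18386
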