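import Groth.Statements.S18387
import Mathlib

set_option autoImplicit false
universe u
open LVCorr

namespace Groth.Agent.S18387

/-- In the affine form which its proof establishes. Let A be a commutative algebra over a field F which
is finite-dimensional of dimension d over F. Then the d-th power of the nilradical of A vanishes.
(Applied to the fibre algebra A = B/mB of a quasi-finite morphism over a closed point with maximal
ideal m, this says that the d-th power of the radical of mB lies in mB, i.e. the ramification of the
morphism at that point is at most the degree d of the fibre.) -/
theorem result (F A : Type u) [Field F] [CommRing A] [Algebra F A]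
    [FiniteDimensional F A] : nilradical A ^ Module.finrank F A = ⊥ := by
  have : IsArtinianRing A := IsArtinianRing.of_finite F A
  set N := nilradical A with hN
  have hjac : N ≤ Ideal.jacobson ⊥ := by
    exact Ideal.radical_le_jacobson
  have key : ∀ k : ℕ, N ^ k = ⊥ ∨
      Module.finrank F ((N ^ k).restrictScalars F) + k ≤ Module.finrank F A := by
    intro k
    induction k with
    | zero =>
      right
      simp only [add_zero]
      exact Submodule.finrank_le _
    | succ k ih =>
      rcases ih with h0 | hle
      · left; rw [pow_succ, h0, Ideal.bot_mul]
      · by_cases heq : N ^ (k + 1) = N ^ k
        · left
          have hfg : (N ^ k).FG := IsNoetherian.noetherian _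
          have h1 : N ^ k ≤ N • N ^ k := by
            rw [smul_eq_mul, ← pow_succ', heq]
          have := Submodule.eq_bot_of_le_smul_of_le_jacobson_bot N (N ^ k) hfg h1 hjac
          rw [heq]; exact this
        · right
          have hlt : (N ^ (k + 1)).restrictScalars F < (N ^ k).restrictScalars F := by
            apply lt_of_le_of_ne
            · intro x hx
              exact Ideal.pow_le_pow_right (Nat.le_succ k) hx
            · intro h
              apply heq
              ext x
              exact SetLike.ext_iff.mp h x
          have := Submodule.finrank_lt_finrank_of_lt hlt
          omega
  rcases key (Module.finrank F A) with h | h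
  · exact h
  · have h0 : Module.finrank F ((N ^ Module.finrank F A).restrictScalars F) = 0 := by omega
    have := Submodule.finrank_eq_zero.mp h0
    ext x
    have hx := SetLike.ext_iff.mp this x
    simpa using hx

end Groth.Agent.S18387
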