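import Groth.Statements.S18389
import Mathlib

set_option autoImplicit false
universe u
open LVCorr

namespace Groth.Agent.S18389

open AlgebraicGeometry CategoryTheory in
/-- Let j : C → C̄ be an open immersion with dense image and jX : X → X̄ an open immersion, and let c₁ :
C → X and c̄₁ : C̄ → X̄ satisfy j followed by c̄₁ equals c₁ followed by jX, with c̄₁ separated. Let
U be an open subset of X such that c₁⁻¹(U) is dense in C and the restriction c₁⁻¹(U) → U of c₁ is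
proper. Then c̄₁⁻¹(jX(U)) = j(c₁⁻¹(U)) as open subsets of C̄. (In the source all schemes are
separated of finite type over a field, C̄ and X̄ are compactifications of a correspondence and of X,
so that c̄₁ is automatically separated.) -/
theorem result {C Cb X Xb : Scheme.{u}}
    (j : C ⟶ Cb) [IsOpenImmersion j] (hj : DenseRange j.base)
    (jX : X ⟶ Xb) [IsOpenImmersion jX] (c₁ : C ⟶ X) (cb₁ : Cb ⟶ Xb) [IsSeparated cb₁]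
    (h : j ≫ cb₁ = c₁ ≫ jX) (U : X.Opens) (hU : Dense ((c₁ ⁻¹ᵁ U : C.Opens) : Set C))
    [IsProper (c₁ ∣_ U)] :
    cb₁ ⁻¹ᵁ (jX ''ᵁ U) = j ''ᵁ (c₁ ⁻¹ᵁ U) := by
  classical
  have hcomm : ∀ y : C, cb₁ (j y) = jX (c₁ y) := by
    intro y
    have := congrArg (fun f : C ⟶ Xb => f y) h
    simpa only [Scheme.Hom.comp_apply] using this
  have hsup : ∀ y : C, y ∈ c₁ ⁻¹ᵁ U → j y ∈ cb₁ ⁻¹ᵁ (jX ''ᵁ U) := by
    intro y hy
    show cb₁ (j y) ∈ jX '' (U : Set X)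
    rw [hcomm]
    exact Set.mem_image_of_mem _ hy
  apply le_antisymm
  · have hrange : Set.range ((c₁ ⁻¹ᵁ U).ι ≫ j) ⊆ Set.range (cb₁ ⁻¹ᵁ (jX ''ᵁ U)).ι := by
      rintro _ ⟨w, rfl⟩
      rw [Scheme.Opens.range_ι, Scheme.Hom.comp_apply]
      exact hsup _ w.2
    let j' : (c₁ ⁻¹ᵁ U).toScheme ⟶ (cb₁ ⁻¹ᵁ (jX ''ᵁ U)).toScheme :=
      IsOpenImmersion.lift (cb₁ ⁻¹ᵁ (jX ''ᵁ U)).ι ((c₁ ⁻¹ᵁ U).ι ≫ j) hrange
    have hj' : j' ≫ (cb₁ ⁻¹ᵁ (jX ''ᵁ U)).ι = (c₁ ⁻¹ᵁ U).ι ≫ j := IsOpenImmersion.lift_fac _ _ _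
    have hcomp : j' ≫ (cb₁ ∣_ (jX ''ᵁ U)) = (c₁ ∣_ U) ≫ (jX.isoImage U).hom := by
      rw [← cancel_mono (jX ''ᵁ U).ι]
      calc (j' ≫ cb₁ ∣_ (jX ''ᵁ U)) ≫ (jX ''ᵁ U).ι
          = (j' ≫ (cb₁ ⁻¹ᵁ (jX ''ᵁ U)).ι) ≫ cb₁ := by
            rw [Category.assoc, morphismRestrict_ι, Category.assoc]
        _ = (c₁ ⁻¹ᵁ U).ι ≫ c₁ ≫ jX := by rw [hj', Category.assoc, h]
        _ = ((c₁ ∣_ U) ≫ U.ι) ≫ jX := by rw [morphismRestrict_ι, Category.assoc]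
        _ = ((c₁ ∣_ U) ≫ (jX.isoImage U).hom) ≫ (jX ''ᵁ U).ι := by
            rw [Category.assoc, Category.assoc, Scheme.Hom.isoImage_hom_ι]
    haveI hsep : IsSeparated (cb₁ ∣_ (jX ''ᵁ U)) :=
      IsZariskiLocalAtTarget.restrict (P := @IsSeparated) inferInstance _
    haveI : IsProper (j' ≫ (cb₁ ∣_ (jX ''ᵁ U))) := by rw [hcomp]; infer_instance
    haveI : IsProper j' := IsProper.of_comp j' (cb₁ ∣_ (jX ''ᵁ U))
    have hclosed : IsClosed (Set.range j') := j'.isClosedMap.isClosed_range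
    have hdense : Dense (j '' ((c₁ ⁻¹ᵁ U : C.Opens) : Set C)) :=
      hj.dense_image j.continuous hU
    have hdense' : Dense ((cb₁ ⁻¹ᵁ (jX ''ᵁ U)).ι ⁻¹' (j '' ((c₁ ⁻¹ᵁ U : C.Opens) : Set C))) :=
      hdense.preimage (cb₁ ⁻¹ᵁ (jX ''ᵁ U)).ι.isOpenEmbedding.isOpenMap
    have hel : ∀ w : (c₁ ⁻¹ᵁ U).toScheme,
        (cb₁ ⁻¹ᵁ (jX ''ᵁ U)).ι (j' w) = j ((c₁ ⁻¹ᵁ U).ι w) := by
      intro w
      have := congrArg (fun f : (c₁ ⁻¹ᵁ U).toScheme ⟶ Cb => f w) hj'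
      simpa only [Scheme.Hom.comp_apply] using this
    have hsub : (cb₁ ⁻¹ᵁ (jX ''ᵁ U)).ι ⁻¹' (j '' ((c₁ ⁻¹ᵁ U : C.Opens) : Set C)) ⊆
        Set.range j' := by
      rintro v ⟨y, hy, hyv⟩
      refine ⟨⟨y, hy⟩, ?_⟩
      apply (cb₁ ⁻¹ᵁ (jX ''ᵁ U)).ι.isOpenEmbedding.injective
      rw [hel]
      exact hyv
    have huniv : Set.range j' = Set.univ := by
      have := (hdense'.mono hsub).closure_eq
      rwa [hclosed.closure_eq] at this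
    intro v hv
    obtain ⟨w, hw⟩ : (⟨v, hv⟩ : (cb₁ ⁻¹ᵁ (jX ''ᵁ U)).toScheme) ∈ Set.range j' := by
      rw [huniv]; trivial
    show v ∈ j '' ((c₁ ⁻¹ᵁ U : C.Opens) : Set C)
    refine ⟨(c₁ ⁻¹ᵁ U).ι w, w.2, ?_⟩
    exact (hel w).symm.trans (congrArg (cb₁ ⁻¹ᵁ (jX ''ᵁ U)).ι hw)
  · rintro _ ⟨y, hy, rfl⟩
    exact hsup y hy

end Groth.Agent.S18389
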