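import Groth.Statements.S18390
import Mathlib

set_option autoImplicit false
universe u
open LVCorr

namespace Groth.Agent.S18390

/-- In the affine, ring-theoretic form which its proof establishes. Let φ : A' → A be a ring
homomorphism, I' a finitely generated ideal of A' and I an ideal of A containing the image of I'.
Then some power I'^k is mapped into I^(k+1) if and only if for every n ≥ 1 and every a ∈ I'^n there
is a k with φ(a)^k ∈ I^(nk+1). (Geometrically, for a morphism f : (X, Z) → (X', Z') of pairs with Z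
a closed subscheme of the preimage of Z', the normal cone of Z in X is the spectrum of the
associated graded algebra of I, and the second condition says that the induced map of normal cones
sends the normal cone of Z set-theoretically into the zero section Z'; the source states the
equivalence in that language.) -/
theorem result (A' A : Type u) [CommRing A'] [CommRing A]
    (φ : A' →+* A) (I' : Ideal A') (hI' : I'.FG) (I : Ideal A) (hle : I'.map φ ≤ I) :
    (∃ k : ℕ, (I' ^ k).map φ ≤ I ^ (k + 1)) ↔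
      ∀ n : ℕ, 1 ≤ n → ∀ a ∈ I' ^ n, ∃ k : ℕ, 1 ≤ k ∧ φ a ^ k ∈ I ^ (n * k + 1) := by
  -- refined binomial lemma
  have hbin : ∀ (X Y : Ideal A') (n m : ℕ),
      (X ⊔ Y) ^ (n + m) ≤ X ^ n * (X ⊔ Y) ^ m ⊔ Y ^ m * (X ⊔ Y) ^ n := by
    intro X Y n
    induction n with
    | zero =>
      intro m
      simp only [zero_add, pow_zero, Ideal.one_eq_top, Ideal.top_mul, Ideal.mul_top]
      exact le_sup_left
    | succ n ihn =>
      intro m
      induction m with
      | zero =>
        simp only [add_zero, pow_zero, Ideal.one_eq_top, Ideal.top_mul, Ideal.mul_top]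
        exact le_sup_right
      | succ m ihm =>
        have h1 := ihn (m + 1)
        have e : n + 1 + (m + 1) = (n + (m + 1)) + 1 := by ring
        have e' : n + 1 + (m + 1) = (n + 1 + m) + 1 := by ring
        -- Z^(N+1) = X * Z^N ⊔ Y * Z^N
        have hsplit : (X ⊔ Y) ^ (n + 1 + (m + 1)) =
            X * (X ⊔ Y) ^ (n + (m + 1)) ⊔ Y * (X ⊔ Y) ^ (n + 1 + m) := by
          conv_lhs => rw [e, pow_succ', Ideal.sup_mul]
          congr 2
          ring_nf
        rw [hsplit]
        apply sup_le
        · calc X * (X ⊔ Y) ^ (n + (m + 1))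
              ≤ X * (X ^ n * (X ⊔ Y) ^ (m + 1) ⊔ Y ^ (m + 1) * (X ⊔ Y) ^ n) :=
                Ideal.mul_mono_right h1
            _ = X ^ (n + 1) * (X ⊔ Y) ^ (m + 1) ⊔ Y ^ (m + 1) * (X * (X ⊔ Y) ^ n) := by
                rw [Ideal.mul_sup, ← mul_assoc, ← pow_succ', ← mul_assoc, mul_comm X (Y ^ (m + 1)),
                  mul_assoc]
            _ ≤ X ^ (n + 1) * (X ⊔ Y) ^ (m + 1) ⊔ Y ^ (m + 1) * (X ⊔ Y) ^ (n + 1) := by
                apply sup_le_sup_left
                apply Ideal.mul_mono_right
                rw [pow_succ']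
                exact Ideal.mul_mono_left le_sup_left
        · calc Y * (X ⊔ Y) ^ (n + 1 + m)
              ≤ Y * (X ^ (n + 1) * (X ⊔ Y) ^ m ⊔ Y ^ m * (X ⊔ Y) ^ (n + 1)) :=
                Ideal.mul_mono_right ihm
            _ = X ^ (n + 1) * (Y * (X ⊔ Y) ^ m) ⊔ Y ^ (m + 1) * (X ⊔ Y) ^ (n + 1) := by
                rw [Ideal.mul_sup, ← mul_assoc, mul_comm Y (X ^ (n + 1)), mul_assoc, ← mul_assoc Y,
                  ← pow_succ']
            _ ≤ X ^ (n + 1) * (X ⊔ Y) ^ (m + 1) ⊔ Y ^ (m + 1) * (X ⊔ Y) ^ (n + 1) := by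
                apply sup_le_sup_right
                apply Ideal.mul_mono_right
                rw [pow_succ']
                exact Ideal.mul_mono_left le_sup_right
  constructor
  · rintro ⟨k, hk⟩ n hn a ha
    rcases Nat.eq_zero_or_pos k with rfl | hkpos
    · -- I = ⊤
      have htop : I = ⊤ := by
        rw [Ideal.eq_top_iff_one]
        have : (1 : A) ∈ (I' ^ 0).map φ := by
          rw [pow_zero, Ideal.one_eq_top]
          have := Ideal.mem_map_of_mem φ (Submodule.mem_top : (1 : A') ∈ (⊤ : Ideal A'))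
          simpa using this
        simpa using hk this
      refine ⟨1, le_refl _, ?_⟩
      rw [htop, Ideal.top_pow]; exact Submodule.mem_top
    · refine ⟨k, hkpos, ?_⟩
      have h1 : a ^ k ∈ (I' ^ k) ^ n := by
        rw [← pow_mul, mul_comm, pow_mul]
        exact Ideal.pow_mem_pow ha k
      have h2 : φ (a ^ k) ∈ ((I' ^ k) ^ n).map φ := Ideal.mem_map_of_mem φ h1
      rw [Ideal.map_pow] at h2
      have h3 : ((I' ^ k).map φ) ^ n ≤ (I ^ (k + 1)) ^ n := Ideal.pow_right_mono hk n
      have h4 := h3 h2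
      rw [← pow_mul] at h4
      rw [← map_pow]
      refine Ideal.pow_le_pow_right ?_ h4
      nlinarith
  · intro h
    have key : ∀ J : Ideal A', J.FG → J ≤ I' → ∃ k : ℕ, (J ^ k).map φ ≤ I ^ (k + 1) := by
      intro J hJ
      induction J, hJ using Submodule.fg_induction with
      | singleton a =>
        intro ha
        have haI : a ∈ I' := ha (Ideal.subset_span (Set.mem_singleton a))
        obtain ⟨k, hk1, hk⟩ := h 1 (le_refl 1) a (by simpa using haI)
        refine ⟨k, ?_⟩
        rw [show (Submodule.span A' {a} : Ideal A') = Ideal.span {a} from rfl,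
          Ideal.span_singleton_pow, Ideal.map_span, Set.image_singleton, Ideal.span_singleton_le_iff_mem,
          map_pow]
        simpa [one_mul] using hk
      | sup J₁ J₂ hJ1fg hJ2fg ih1 ih2 =>
        intro hle12
        have hJ1 : J₁ ≤ I' := le_sup_left.trans hle12
        have hJ2 : J₂ ≤ I' := le_sup_right.trans hle12
        obtain ⟨k₁, hk₁⟩ := ih1 hJ1
        obtain ⟨k₂, hk₂⟩ := ih2 hJ2
        refine ⟨k₁ + k₂, ?_⟩
        have hZ : Ideal.map φ (J₁ ⊔ J₂ : Ideal A') ≤ I := (Ideal.map_mono hle12).trans hle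
        have hZpow : ∀ m : ℕ, Ideal.map φ ((J₁ ⊔ J₂ : Ideal A') ^ m) ≤ I ^ m := by
          intro m; rw [Ideal.map_pow]; exact Ideal.pow_right_mono hZ m
        refine (Ideal.map_mono (hbin J₁ J₂ k₁ k₂)).trans ?_
        rw [Ideal.map_sup, Ideal.map_mul, Ideal.map_mul]
        apply sup_le
        · calc Ideal.map φ ((J₁ : Ideal A') ^ k₁) * Ideal.map φ ((J₁ ⊔ J₂ : Ideal A') ^ k₂)
                ≤ I ^ (k₁ + 1) * I ^ k₂ := Ideal.mul_mono hk₁ (hZpow k₂)
            _ = I ^ (k₁ + k₂ + 1) := by rw [← pow_add]; congr 1; ring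
        · calc Ideal.map φ ((J₂ : Ideal A') ^ k₂) * Ideal.map φ ((J₁ ⊔ J₂ : Ideal A') ^ k₁)
                ≤ I ^ (k₂ + 1) * I ^ k₁ := Ideal.mul_mono hk₂ (hZpow k₁)
            _ = I ^ (k₁ + k₂ + 1) := by rw [← pow_add]; congr 1; ring
    exact key I' hI' (le_refl _)

end Groth.Agent.S18390
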