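import Groth.Statements.S18391
import Mathlib
import Groth.Agent.H20.NormalDVR

set_option autoImplicit false
universe u
open LVCorr

namespace Groth.Agent.S18391

/-- Let A be a normal (integrally closed) Noetherian domain and z an element of A such that the radical
of the principal ideal (z) is prime. Then there exist elements w, t of A and a natural number r,
with w not in the radical of (z), such that in the localization A[1/w] the ideal generated by z
equals the ideal generated by t^r and the ideal generated by t is prime. (The condition on w is the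
one the printed proof produces and the later use of the lemma needs.) -/
theorem result (A : Type u) [CommRing A] [IsDomain A]
    [IsNoetherianRing A] [IsIntegrallyClosed A] (z : A) (hz : (Ideal.span {z}).radical.IsPrime) :
    ∃ (w t : A) (r : ℕ), w ∉ (Ideal.span {z}).radical ∧
      Ideal.span {algebraMap A (Localization.Away w) z} =
        Ideal.span {algebraMap A (Localization.Away w) t ^ r} ∧
      (Ideal.span {algebraMap A (Localization.Away w) t}).IsPrime := by
  classical
  by_cases hz0 : z = 0
  · subst hz0
    haveI : IsDomain (Localization.Away (1 : A)) :=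
      IsLocalization.isDomain_localization
        (powers_le_nonZeroDivisors_of_noZeroDivisors one_ne_zero)
    refine ⟨1, 0, 1, ?_, by simp, ?_⟩
    · intro h
      exact hz.ne_top ((Ideal.eq_top_iff_one _).mpr h)
    · rw [map_zero, Ideal.span_singleton_eq_bot.mpr rfl]
      exact Ideal.isPrime_bot
  haveI := hz
  have hmin := Groth.Agent.H20.radical_mem_minimalPrimes (Ideal.span {z}) hz
  haveI hdvr : IsDiscreteValuationRing (Localization.AtPrime (Ideal.span {z}).radical) :=
    Groth.Agent.H20.isDVR_atPrime_of_mem_minimalPrimes hz0 _ hmin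
  have hzp : z ∈ (Ideal.span {z}).radical := Ideal.le_radical (Ideal.mem_span_singleton_self z)
  have hinj : Function.Injective
      (algebraMap A (Localization.AtPrime (Ideal.span {z}).radical)) :=
    IsLocalization.injective _ (Ideal.span {z}).radical.primeCompl_le_nonZeroDivisors
  have hz' : algebraMap A (Localization.AtPrime (Ideal.span {z}).radical) z ≠ 0 := by
    intro h
    exact hz0 (hinj (by rw [h, map_zero]))
  -- a uniformizer coming from A
  obtain ⟨ϖ, hϖ⟩ := IsDiscreteValuationRing.exists_irreducible
    (Localization.AtPrime (Ideal.span {z}).radical)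
  obtain ⟨t, s0, hts⟩ := IsLocalization.exists_mk'_eq (Ideal.span {z}).radical.primeCompl ϖ
  have hirr : Irreducible (algebraMap A (Localization.AtPrime (Ideal.span {z}).radical) t) := by
    have hu : IsUnit (algebraMap A (Localization.AtPrime (Ideal.span {z}).radical) (s0 : A)) :=
      IsLocalization.map_units _ s0
    have : Associated ϖ (algebraMap A (Localization.AtPrime (Ideal.span {z}).radical) t) := by
      obtain ⟨u, hu'⟩ := hu
      refine ⟨u, ?_⟩
      rw [hu', ← hts, IsLocalization.mk'_spec]
    exact this.irreducible hϖ
  have hmax : IsLocalRing.maximalIdeal (Localization.AtPrime (Ideal.span {z}).radical) =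
      Ideal.span {algebraMap A (Localization.AtPrime (Ideal.span {z}).radical) t} :=
    hirr.maximalIdeal_eq
  have htp : t ∈ (Ideal.span {z}).radical := by
    by_contra h
    exact hirr.not_isUnit
      ((IsLocalization.AtPrime.isUnit_to_map_iff _ (Ideal.span {z}).radical t).mpr h)
  -- z = unit * t^r
  obtain ⟨r, u, hu⟩ := IsDiscreteValuationRing.associated_pow_irreducible hz' hirr
  obtain ⟨a, b, hab⟩ := IsLocalization.exists_mk'_eq (Ideal.span {z}).radical.primeCompl
    (u : Localization.AtPrime (Ideal.span {z}).radical)
  have hap : a ∉ (Ideal.span {z}).radical := by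
    have : IsUnit (IsLocalization.mk' (Localization.AtPrime (Ideal.span {z}).radical) a b) := by
      rw [hab]; exact u.isUnit
    exact (IsLocalization.AtPrime.isUnit_mk'_iff _ (Ideal.span {z}).radical a b).mp this
  have hza : z * a = t ^ r * (b : A) := by
    apply hinj
    rw [map_mul, map_mul, map_pow, ← hu, ← hab, mul_assoc, IsLocalization.mk'_spec]
  -- finite generation: a common denominator
  have hfg : ∀ N : Submodule A A, N.FG → N ≤ (Ideal.span {z}).radical →
      ∃ s : A, s ∉ (Ideal.span {z}).radical ∧ ∀ x ∈ N, s * x ∈ Ideal.span {t} := by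
    intro N hN
    refine Submodule.fg_induction (R := A) (M := A)
      (motive := fun N _ => N ≤ (Ideal.span {z}).radical →
        ∃ s : A, s ∉ (Ideal.span {z}).radical ∧ ∀ x ∈ N, s * x ∈ Ideal.span {t}) ?_ ?_ N hN
    · intro x hx
      have hxp : x ∈ (Ideal.span {z}).radical := hx (Submodule.mem_span_singleton_self x)
      have hxm : algebraMap A (Localization.AtPrime (Ideal.span {z}).radical) x ∈
          IsLocalRing.maximalIdeal (Localization.AtPrime (Ideal.span {z}).radical) :=
        (IsLocalization.AtPrime.to_map_mem_maximal_iff _ (Ideal.span {z}).radical x).mpr hxp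
      rw [hmax, Ideal.mem_span_singleton'] at hxm
      obtain ⟨c, hc⟩ := hxm
      obtain ⟨c1, c2, hc12⟩ := IsLocalization.exists_mk'_eq (Ideal.span {z}).radical.primeCompl c
      have hxc : (c2 : A) * x = c1 * t := by
        apply hinj
        rw [map_mul, map_mul, ← hc, ← hc12, mul_comm, mul_assoc, mul_comm _ (algebraMap A _ (c2 : A)),
          ← mul_assoc, IsLocalization.mk'_spec]
      refine ⟨c2, c2.2, ?_⟩
      intro e he
      obtain ⟨k, rfl⟩ := Submodule.mem_span_singleton.mp he
      rw [smul_eq_mul, mul_left_comm, hxc]
      exact Ideal.mul_mem_left _ _ (Ideal.mul_mem_left _ _ (Ideal.mem_span_singleton_self t))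
    · intro N1 N2 _ _ h1 h2 hle
      obtain ⟨s1, hs1, h1'⟩ := h1 (le_sup_left.trans hle)
      obtain ⟨s2, hs2, h2'⟩ := h2 (le_sup_right.trans hle)
      refine ⟨s1 * s2, fun h => (hz.mem_or_mem h).elim hs1 hs2, ?_⟩
      intro x hx
      obtain ⟨x1, hx1, x2, hx2, rfl⟩ := Submodule.mem_sup.mp hx
      have e : s1 * s2 * (x1 + x2) = s2 * (s1 * x1) + s1 * (s2 * x2) := by ring
      rw [e]
      exact Ideal.add_mem _ (Ideal.mul_mem_left _ _ (h1' x1 hx1))
        (Ideal.mul_mem_left _ _ (h2' x2 hx2))
  obtain ⟨s1, hs1, hs1'⟩ := hfg (Ideal.span {z}).radical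
    (IsNoetherian.noetherian _) le_rfl
  -- the element w
  have hwp : a * (b : A) * s1 ∉ (Ideal.span {z}).radical := by
    intro h
    rcases hz.mem_or_mem h with h | h
    · rcases hz.mem_or_mem h with h | h
      · exact hap h
      · exact b.2 h
    · exact hs1 h
  have hw0 : a * (b : A) * s1 ≠ 0 := by
    intro h
    exact hwp (h ▸ Ideal.zero_mem _)
  haveI : IsDomain (Localization.Away (a * (b : A) * s1)) :=
    IsLocalization.isDomain_localization
      (powers_le_nonZeroDivisors_of_noZeroDivisors hw0)
  refine ⟨a * (b : A) * s1, t, r, hwp, ?_, ?_⟩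
  · -- span {z} = span {t^r} in A_w
    have hw : IsUnit (algebraMap A (Localization.Away (a * (b : A) * s1)) (a * (b : A) * s1)) :=
      IsLocalization.Away.algebraMap_isUnit _
    have hau : IsUnit (algebraMap A (Localization.Away (a * (b : A) * s1)) a) :=
      isUnit_of_dvd_unit (map_dvd _ ⟨(b : A) * s1, by ring⟩) hw
    have hbu : IsUnit (algebraMap A (Localization.Away (a * (b : A) * s1)) (b : A)) :=
      isUnit_of_dvd_unit (map_dvd _ ⟨a * s1, by ring⟩) hw
    obtain ⟨ua, hua⟩ := hau
    obtain ⟨ub, hub⟩ := hbu
    rw [Ideal.span_singleton_eq_span_singleton]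
    refine ⟨ua * ub⁻¹, ?_⟩
    have h1 : algebraMap A (Localization.Away (a * (b : A) * s1)) z * ua =
        algebraMap A (Localization.Away (a * (b : A) * s1)) t ^ r * ub := by
      rw [hua, hub, ← map_mul, hza, map_mul, map_pow]
    rw [Units.val_mul, ← mul_assoc, h1, Units.mul_inv_cancel_right]
  · -- span {t} = map p, prime
    have hw : IsUnit (algebraMap A (Localization.Away (a * (b : A) * s1)) (a * (b : A) * s1)) :=
      IsLocalization.Away.algebraMap_isUnit _
    have hsu : IsUnit (algebraMap A (Localization.Away (a * (b : A) * s1)) s1) :=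
      isUnit_of_dvd_unit (map_dvd _ ⟨a * (b : A), by ring⟩) hw
    have hdisj : Disjoint (Submonoid.powers (a * (b : A) * s1) : Set A)
        ((Ideal.span {z}).radical : Set A) := by
      rw [Set.disjoint_left]
      rintro x ⟨k, rfl⟩ hx
      exact hwp (hz.mem_of_pow_mem _ hx)
    have hprime : (Ideal.map (algebraMap A (Localization.Away (a * (b : A) * s1)))
        (Ideal.span {z}).radical).IsPrime :=
      IsLocalization.isPrime_of_isPrime_disjoint (Submonoid.powers (a * (b : A) * s1)) _ _ hz hdisj
    have heq : Ideal.span {algebraMap A (Localization.Away (a * (b : A) * s1)) t} =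
        Ideal.map (algebraMap A (Localization.Away (a * (b : A) * s1)))
          (Ideal.span {z}).radical := by
      apply le_antisymm
      · rw [Ideal.span_le, Set.singleton_subset_iff]
        exact Ideal.mem_map_of_mem _ htp
      · rw [Ideal.map_le_iff_le_comap]
        intro x hx
        rw [Ideal.mem_comap]
        obtain ⟨c, hc⟩ := Ideal.mem_span_singleton'.mp (hs1' x hx)
        obtain ⟨us, hus⟩ := hsu
        have h5 : algebraMap A (Localization.Away (a * (b : A) * s1)) c *
            algebraMap A (Localization.Away (a * (b : A) * s1)) t =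
            ↑us * algebraMap A (Localization.Away (a * (b : A) * s1)) x := by
          rw [hus, ← map_mul, ← map_mul, hc]
        rw [Ideal.mem_span_singleton']
        refine ⟨↑us⁻¹ * algebraMap A _ c, ?_⟩
        rw [mul_assoc (↑us⁻¹ : Localization.Away (a * (b : A) * s1)), h5,
          Units.inv_mul_cancel_left]
    rw [heq]
    exact hprime

end Groth.Agent.S18391
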