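import Groth.Statements.S18392
import Mathlib
import Groth.Agent.H20.NormalDVR

set_option autoImplicit false
universe u
open LVCorr

namespace Groth.Agent.S18392

/-- Let A be a normal (integrally closed) Noetherian domain and z an element of A such that the radical
of (z) is prime. Then for every non-empty open subset V of Spec A contained in the basic open set
D(z) (that is, every non-empty open subset of Spec A[1/z]) there is an element x of A, not in the
radical of (z), such that the basic open set D(xz) = Spec A[1/xz] is contained in V. -/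
theorem result (A : Type u) [CommRing A]
    [IsDomain A] [IsNoetherianRing A] [IsIntegrallyClosed A] (z : A)
    (hz : (Ideal.span {z}).radical.IsPrime) (V : Set (PrimeSpectrum A)) (hV : IsOpen V)
    (hVz : V ⊆ (PrimeSpectrum.basicOpen z : Set (PrimeSpectrum A))) (hne : V.Nonempty) :
    ∃ x : A, x ∉ (Ideal.span {z}).radical ∧
      ((PrimeSpectrum.basicOpen (x * z) : TopologicalSpace.Opens (PrimeSpectrum A)) :
        Set (PrimeSpectrum A)) ⊆ V := by
  classical
  obtain ⟨pt, hpt⟩ := hne
  have hz0 : z ≠ 0 := by
    rintro rfl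
    have := hVz hpt
    simp at this
  obtain ⟨_, ⟨y, rfl⟩, hyx, hyV⟩ :=
    PrimeSpectrum.isTopologicalBasis_basic_opens.exists_subset_of_mem_open hpt hV
  have hy0 : y ≠ 0 := by
    rintro rfl
    simp at hyx
  haveI := hz
  have hmin := Groth.Agent.H20.radical_mem_minimalPrimes (Ideal.span {z}) hz
  haveI hdvr : IsDiscreteValuationRing (Localization.AtPrime (Ideal.span {z}).radical) :=
    Groth.Agent.H20.isDVR_atPrime_of_mem_minimalPrimes hz0 _ hmin
  have hzp : z ∈ (Ideal.span {z}).radical := Ideal.le_radical (Ideal.mem_span_singleton_self z)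
  have hinj : Function.Injective
      (algebraMap A (Localization.AtPrime (Ideal.span {z}).radical)) :=
    IsLocalization.injective _ (Ideal.span {z}).radical.primeCompl_le_nonZeroDivisors
  have hz' : algebraMap A (Localization.AtPrime (Ideal.span {z}).radical) z ≠ 0 := by
    intro h
    exact hz0 (hinj (by rw [h, map_zero]))
  have hy' : algebraMap A (Localization.AtPrime (Ideal.span {z}).radical) y ≠ 0 := by
    intro h
    exact hy0 (hinj (by rw [h, map_zero]))
  obtain ⟨ϖ, hϖ⟩ := IsDiscreteValuationRing.exists_irreducible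
    (Localization.AtPrime (Ideal.span {z}).radical)
  obtain ⟨m, hm⟩ := IsDiscreteValuationRing.associated_pow_irreducible hz' hϖ
  obtain ⟨n, hn⟩ := IsDiscreteValuationRing.associated_pow_irreducible hy' hϖ
  have hm1 : m ≠ 0 := by
    rintro rfl
    rw [pow_zero] at hm
    have hu : IsUnit (algebraMap A (Localization.AtPrime (Ideal.span {z}).radical) z) :=
      (associated_one_iff_isUnit).mp hm
    exact (IsLocalization.AtPrime.isUnit_to_map_iff _ (Ideal.span {z}).radical z).mp hu hzp
  have hdvd : algebraMap A (Localization.AtPrime (Ideal.span {z}).radical) y ∣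
      (algebraMap A (Localization.AtPrime (Ideal.span {z}).radical) z) ^ n := by
    have h1 : Associated ((algebraMap A (Localization.AtPrime (Ideal.span {z}).radical) z) ^ n)
        (ϖ ^ (m * n)) := by
      rw [pow_mul]
      exact hm.pow_pow
    have h2 : ϖ ^ n ∣ ϖ ^ (m * n) :=
      pow_dvd_pow _ (Nat.le_mul_of_pos_left n (Nat.pos_of_ne_zero hm1))
    exact (hn.dvd_iff_dvd_left).mpr ((h1.dvd_iff_dvd_right).mpr h2)
  obtain ⟨c, hc⟩ := hdvd
  obtain ⟨s', s, rfl⟩ := IsLocalization.exists_mk'_eq (Ideal.span {z}).radical.primeCompl c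
  have h3 : z ^ n * (s : A) = y * s' := by
    apply hinj
    rw [map_mul, map_mul, map_pow, hc, mul_assoc, IsLocalization.mk'_spec]
  refine ⟨s, s.2, ?_⟩
  intro q hq
  apply hyV
  simp only [SetLike.mem_coe, PrimeSpectrum.mem_basicOpen] at hq ⊢
  intro hyq
  have h4 : z ^ n * (s : A) ∈ q.asIdeal := by
    rw [h3]
    exact Ideal.mul_mem_right _ _ hyq
  rcases q.isPrime.mem_or_mem h4 with h5 | h5
  · exact hq (Ideal.mul_mem_left _ _ (q.isPrime.mem_of_pow_mem _ h5))
  · exact hq (Ideal.mul_mem_right _ _ h5)

end Groth.Agent.S18392
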