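import Groth.Statements.S18393
import Mathlib

set_option autoImplicit false
universe u v
open LVCorr

namespace Groth.Agent.S18393

/-- Stated for the underlying continuous maps. Let c₁, c₂ : C → X be continuous maps with C a Noetherian
topological space, let Z be a closed subset of X and B the closure in C of c₂⁻¹(Z) ∖ c₁⁻¹(Z). Call Z
locally invariant when every point x of Z has an open neighbourhood U such that every y in C with
c₂(y) ∈ Z ∩ U and c₁(y) ∈ U satisfies c₁(y) ∈ Z. Then Z is locally invariant if and only if for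
every irreducible subset T of B the closures of c₁(T) and of c₂(T) in X are disjoint. (The source
states this for a correspondence c = (c₁, c₂) : C → X × X of separated schemes of finite type over
an algebraically closed field and for the irreducible components of B; the condition for all
irreducible subsets of B is the same condition.) -/
theorem result {C : Type u} {X : Type v}
    [TopologicalSpace C] [TopologicalSpace X] [TopologicalSpace.NoetherianSpace C]
    (c₁ c₂ : C → X) (hc₁ : Continuous c₁) (hc₂ : Continuous c₂) (Z : Set X) (hZ : IsClosed Z) :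
    (∀ x ∈ Z, ∃ U : Set X, IsOpen U ∧ x ∈ U ∧
        ∀ y : C, c₂ y ∈ Z → c₂ y ∈ U → c₁ y ∈ U → c₁ y ∈ Z) ↔
      ∀ T : Set C, T ⊆ closure (c₂ ⁻¹' Z \ c₁ ⁻¹' Z) → IsIrreducible T →
        closure (c₁ '' T) ∩ closure (c₂ '' T) = ∅ := by
  classical
  set W : Set C := c₂ ⁻¹' Z \ c₁ ⁻¹' Z with hW
  constructor
  · intro hinv T hTB hTirr
    by_contra hne
    obtain ⟨x, hx1, hx2⟩ := Set.nonempty_iff_ne_empty.mpr hne
    -- c₂ maps closure W into Z
    have hc₂B : ∀ y ∈ closure W, c₂ y ∈ Z := by
      intro y hy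
      have h1 : c₂ y ∈ closure (c₂ '' W) := image_closure_subset_closure_image hc₂ ⟨y, hy, rfl⟩
      have h2 : closure (c₂ '' W) ⊆ Z := by
        apply closure_minimal _ hZ
        rintro _ ⟨w, hw, rfl⟩
        exact hw.1
      exact h2 h1
    have hxZ : x ∈ Z := by
      have : closure (c₂ '' T) ⊆ Z := by
        apply closure_minimal _ hZ
        rintro _ ⟨w, hw, rfl⟩
        exact hc₂B w (hTB hw)
      exact this hx2
    obtain ⟨U, hUo, hxU, hU⟩ := hinv x hxZ
    -- T meets c₁⁻¹ U and c₂⁻¹ U
    have h1 : (T ∩ c₁ ⁻¹' U).Nonempty := by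
      obtain ⟨_, hwU, ⟨w, hw, rfl⟩⟩ := mem_closure_iff.mp hx1 U hUo hxU
      exact ⟨w, hw, hwU⟩
    have h2 : (T ∩ c₂ ⁻¹' U).Nonempty := by
      obtain ⟨_, hwU, ⟨w, hw, rfl⟩⟩ := mem_closure_iff.mp hx2 U hUo hxU
      exact ⟨w, hw, hwU⟩
    obtain ⟨t, htT, ht1, ht2⟩ := hTirr.2 (c₁ ⁻¹' U) (c₂ ⁻¹' U) (hUo.preimage hc₁) (hUo.preimage hc₂) h1 h2
    -- the open set c₁⁻¹U ∩ c₂⁻¹U meets closure W hence W
    have hopen : IsOpen (c₁ ⁻¹' U ∩ c₂ ⁻¹' U) := (hUo.preimage hc₁).inter (hUo.preimage hc₂)
    obtain ⟨y, ⟨hy1, hy2⟩, hyW⟩ := mem_closure_iff.mp (hTB htT) _ hopen ⟨ht1, ht2⟩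
    exact hyW.2 (hU y hyW.1 hy2 hy1)
  · intro hT x hxZ
    obtain ⟨S, hSfin, hSclosed, hSirr, hSeq⟩ :=
      TopologicalSpace.NoetherianSpace.exists_finite_set_isClosed_irreducible
        (isClosed_closure (s := W))
    let Uf : Set C → Set X := fun t =>
      if x ∈ closure (c₁ '' t) then (closure (c₂ '' t))ᶜ else (closure (c₁ '' t))ᶜ
    refine ⟨⋂ t ∈ S, Uf t, ?_, ?_, ?_⟩
    · apply hSfin.isOpen_biInter
      intro t _
      simp only [Uf]
      split_ifs
      · exact isClosed_closure.isOpen_compl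
      · exact isClosed_closure.isOpen_compl
    · simp only [Set.mem_iInter]
      intro t ht
      simp only [Uf]
      split_ifs with h
      · intro hx2
        have hsub : t ⊆ closure W := by rw [hSeq]; exact Set.subset_sUnion_of_mem ht
        have := hT t hsub (hSirr t ht)
        have hmem : x ∈ closure (c₁ '' t) ∩ closure (c₂ '' t) := ⟨h, hx2⟩
        rw [this] at hmem
        exact hmem
      · exact h
    · intro y hy2Z hy2U hy1U
      by_contra hy1Z
      have hyW : y ∈ W := ⟨hy2Z, hy1Z⟩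
      have hyB : y ∈ closure W := subset_closure hyW
      rw [hSeq] at hyB
      obtain ⟨t, ht, hyt⟩ := hyB
      simp only [Set.mem_iInter] at hy2U hy1U
      have h1 := hy1U t ht
      have h2 := hy2U t ht
      simp only [Uf] at h1 h2
      split_ifs at h1 h2 with h
      · exact h2 (subset_closure ⟨y, hyt, rfl⟩)
      · exact h1 (subset_closure ⟨y, hyt, rfl⟩)

end Groth.Agent.S18393
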