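import Groth.Statements.S18402
import Mathlib
set_option linter.style.haveILetI false

set_option autoImplicit false
universe u
open Pi1

namespace Groth.Agent.S18402

section Aux

private lemma finite_irreducibleComponents_of_generalizing {A B : Type*} [TopologicalSpace A]
    [TopologicalSpace B] [QuasiSober A] [IrreducibleSpace B] [QuasiSober B] (f : A → B)
    (hg : GeneralizingMap f) (hfin : ∀ b, (f ⁻¹' {b}).Finite) :
    (irreducibleComponents A).Finite := by
  refine ((hfin (genericPoint B)).image (fun a => closure {a})).subset ?_
  intro T hT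
  obtain ⟨η, hη⟩ := QuasiSober.sober hT.1 (isClosed_of_mem_irreducibleComponents T hT)
  obtain ⟨a', ha'η, ha'⟩ := hg (genericPoint_specializes (f η))
  refine ⟨a', ha', ?_⟩
  have h1 : T ≤ closure {a'} := by
    rw [← hη.def]
    exact closure_minimal (Set.singleton_subset_iff.mpr ha'η.mem_closure) isClosed_closure
  exact le_antisymm (hT.2 isIrreducible_singleton.closure h1) h1

private lemma connected_of_generalizing {A B : Type*} [TopologicalSpace A] [TopologicalSpace B]
    [QuasiSober B] [ConnectedSpace B] (p : A → B) (hs : Function.Surjective p)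
    (hg : GeneralizingMap p) (hf : ∀ b, IsPreconnected (p ⁻¹' {b}))
    (hfin : (irreducibleComponents B).Finite) : ConnectedSpace A := by
  haveI : Nonempty A := by
    obtain ⟨a, -⟩ := hs (Classical.arbitrary B)
    exact ⟨a⟩
  -- step 1
  have hpre : ∀ U : Set A, IsClopen U → p ⁻¹' (p '' U) = U := by
    intro U hU
    apply Set.Subset.antisymm _ (Set.subset_preimage_image p U)
    rintro a ⟨a₀, ha₀, h⟩
    exact (hf (p a)).subset_isClopen hU ⟨a₀, h, ha₀⟩ rfl
  have hgen : ∀ U : Set A, IsClopen U → ∀ b ∈ p '' U, ∀ b', b' ⤳ b → b' ∈ p '' U := by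
    rintro U hU _ ⟨a, ha, rfl⟩ b' hb'
    obtain ⟨a', ha'a, rfl⟩ := hg hb'
    exact ⟨a', ha'a.mem_open hU.isOpen ha, rfl⟩
  have hcompl : ∀ U : Set A, IsClopen U → (p '' U)ᶜ = p '' Uᶜ := by
    intro U hU
    ext b
    constructor
    · intro hb
      obtain ⟨a, rfl⟩ := hs b
      exact ⟨a, fun ha => hb ⟨a, ha, rfl⟩, rfl⟩
    · rintro ⟨a, ha, rfl⟩ hb
      have : a ∈ p ⁻¹' (p '' U) := hb
      rw [hpre U hU] at this
      exact ha this
  have hspec : ∀ U : Set A, IsClopen U → ∀ b ∈ p '' U, ∀ b', b ⤳ b' → b' ∈ p '' U := by
    intro U hU b hb b' hbb'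
    by_contra hb'
    have h1 : b' ∈ p '' Uᶜ := by rw [← hcompl U hU]; exact hb'
    have h2 : b ∈ p '' Uᶜ := hgen Uᶜ hU.compl b' h1 b hbb'
    rw [← hcompl U hU] at h2
    exact h2 hb
  have hclosed : ∀ U : Set A, IsClopen U → IsClosed (p '' U) := by
    intro U hU
    have : p '' U = ⋃ T ∈ {T : Set B | T ∈ irreducibleComponents B ∧ T ⊆ p '' U}, T := by
      apply Set.Subset.antisymm
      · intro b hb
        have hT := irreducibleComponent_mem_irreducibleComponents b
        obtain ⟨η, hη⟩ := QuasiSober.sober hT.1 isClosed_irreducibleComponent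
        have hηb : η ⤳ b := hη.specializes mem_irreducibleComponent
        have hηU : η ∈ p '' U := hgen U hU b hb η hηb
        refine Set.mem_biUnion (x := irreducibleComponent b) ⟨hT, ?_⟩ mem_irreducibleComponent
        intro t ht
        exact hspec U hU η hηU t (hη.specializes ht)
      · intro b hb
        simp only [Set.mem_iUnion, Set.mem_setOf_eq] at hb
        obtain ⟨T, ⟨-, hTU⟩, hbT⟩ := hb
        exact hTU hbT
    rw [this]
    exact (hfin.subset (fun T hT => hT.1)).isClosed_biUnion
      (fun T hT => isClosed_of_mem_irreducibleComponents T hT.1)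
  refine { toPreconnectedSpace := preconnectedSpace_iff_clopen.mpr ?_, toNonempty := ‹_› }
  intro U hU
  have hclopen : IsClopen (p '' U) :=
    ⟨hclosed U hU, by rw [← isClosed_compl_iff, hcompl U hU]; exact hclosed Uᶜ hU.compl⟩
  rcases isClopen_iff.mp hclopen with h | h
  · left
    rw [← hpre U hU, h, Set.preimage_empty]
  · right
    rw [← hpre U hU, h, Set.preimage_univ]

end Aux


open AlgebraicGeometry CategoryTheory CategoryTheory.Limits in
/-- Let X be an irreducible scheme and π : W ⟶ X a flat morphism whose fibre over every field-valued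
point of X is irreducible (so every fibre is geometrically irreducible and π is surjective). Then
for every finite étale cover Z of X with Z connected, the base change of Z along π is connected.
Ranging over all finite étale covers of X, this says that the monodromy group of each cover (the
image of the fundamental group in the permutations of a geometric fibre) is unchanged by pullback
along π. The published statement asserts that equality of monodromy groups, for generically finite,
generically étale covers between irreducible algebraic stacks. -/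
theorem result {X W : Scheme.{u}}
    [IrreducibleSpace X] (π : W ⟶ X) [Flat π] [GeometricallyIrreducible π]
    (Z : FEt.Cat X) [ConnectedSpace Z.left] :
    ConnectedSpace ↥(pullback Z.hom π) := by
  let f : Z.left ⟶ X := Z.hom
  haveI : IsFinite f := Z.prop.1
  haveI : Etale f := Z.prop.2
  haveI : Flat f := inferInstance
  have hfin : (irreducibleComponents ↥Z.left).Finite :=
    finite_irreducibleComponents_of_generalizing (A := ↥Z.left) (B := ↥X) (fun a => f a)
      (Flat.generalizingMap f) (fun b => f.finite_preimage_singleton b)
  let q : pullback f π ⟶ Z.left := pullback.fst f π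
  have hsurj : Function.Surjective q := q.surjective
  have hfib : ∀ z : ↥Z.left, _root_.IsPreconnected (q ⁻¹' {z}) := by
    intro z
    have : IsIrreducible (q ⁻¹' {z}) := by
      rw [← q.range_fiberι z, ← Set.image_univ]
      exact (IrreducibleSpace.isIrreducible_univ _).image _
        (q.fiberι z).continuous.continuousOn
    exact this.isConnected.isPreconnected
  exact connected_of_generalizing (A := ↥(pullback f π)) (B := ↥Z.left) (fun a => q a) hsurj
    (Flat.generalizingMap q) hfib hfin

end Groth.Agent.S18402
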