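import Mathlib
import Groth.Agent.H11.LocalBasisJ
import Groth.Agent.H11.EtaleQuotBasis
import Groth.Statements.S18416

set_option autoImplicit false
universe u v w
open CAlg

namespace Groth.Agent.S18416

/-- Let R → C and C → B be smooth ring homomorphisms, J an ideal of B and K the preimage of J in C, and
suppose that C surjects onto A = B/J (so that C/K = B/J = A). Then for every prime x of A there
exist f ∈ B whose image in A does not lie in x and an ideal J₀ of B_f contained in J B_f such that
the composite C → B_f → B_f/J₀ is étale. -/
theorem result (R : Type u) (C : Type v) (B : Type w)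
    [CommRing R] [CommRing C] [CommRing B] [Algebra R C] [Algebra C B] [Algebra R B] [IsScalarTower R C B]
    [Algebra.Smooth R C] [Algebra.Smooth C B] (J : Ideal B)
    (hsurj : Function.Surjective ((Ideal.Quotient.mk J).comp (algebraMap C B)))
    (x : PrimeSpectrum (B ⧸ J)) :
    ∃ f : B, Ideal.Quotient.mk J f ∉ x.asIdeal ∧
      ∃ J₀ : Ideal (Localization.Away f), J₀ ≤ J.map (algebraMap B (Localization.Away f)) ∧
        ((Ideal.Quotient.mk J₀).comp ((algebraMap B (Localization.Away f)).comp (algebraMap C B))).Etale := by

  classical
  let q : Ideal B := x.asIdeal.comap (Ideal.Quotient.mk J)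
  haveI : q.IsPrime := Ideal.comap_isPrime _ _
  have hspan : Submodule.span B (Set.range fun g : J => KaehlerDifferential.D C B g.1) = ⊤ := by
    rw [eq_top_iff, ← KaehlerDifferential.span_range_derivation C B]
    apply Submodule.span_le.mpr
    rintro _ ⟨b, rfl⟩
    obtain ⟨c, hc⟩ := hsurj (Ideal.Quotient.mk J b)
    have hmem : b - algebraMap C B c ∈ J := by
      rw [← Ideal.Quotient.eq]
      exact hc.symm
    have h1 : KaehlerDifferential.D C B b =
        KaehlerDifferential.D C B (⟨b - algebraMap C B c, hmem⟩ : J).1 := by
      simp [map_sub]
    rw [h1]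
    exact Submodule.subset_span ⟨_, rfl⟩
  obtain ⟨κ, _, a, h, hh, b, hb⟩ :=
    Groth.Agent.H11.LocalBasisJ.exists_basis_away (R := C) J hspan q
  refine ⟨h, hh, Ideal.span (Set.range fun i => algebraMap B (Localization.Away h) (a i).1), ?_, ?_⟩
  · rw [Ideal.span_le]
    rintro _ ⟨i, rfl⟩
    exact Ideal.mem_map_of_mem _ (a i).2
  · haveI : Algebra.FormallySmooth C (Localization.Away h) := inferInstance
    haveI : Algebra.FinitePresentation B (Localization.Away h) :=
      IsLocalization.Away.finitePresentation h
    haveI : Algebra.FinitePresentation C (Localization.Away h) :=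
      Algebra.FinitePresentation.trans C B (Localization.Away h)
    haveI : Algebra.Smooth C (Localization.Away h) := ⟨inferInstance, inferInstance⟩
    have het := Groth.Agent.H11.EtaleQuotBasis.etale_quotient (R := C)
      (fun i => algebraMap B (Localization.Away h) (a i).1) b hb
    have hcomp : (Ideal.Quotient.mk (Ideal.span (Set.range fun i =>
        algebraMap B (Localization.Away h) (a i).1))).comp
        ((algebraMap B (Localization.Away h)).comp (algebraMap C B)) =
        algebraMap C (Localization.Away h ⧸ Ideal.span (Set.range fun i =>
        algebraMap B (Localization.Away h) (a i).1)) := by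
      rw [← IsScalarTower.algebraMap_eq C B (Localization.Away h)]
      rfl
    rw [hcomp, RingHom.etale_algebraMap]
    exact het

end Groth.Agent.S18416
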