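import Groth.Statements.S18423
import Groth.Agent.Lib.Lead.TraceEtale

set_option autoImplicit false
universe u v
open Pi1

namespace Groth.Agent.S18423


open IsLocalRing

/-- The localization of `B` at the image of `A ∖ p` is formally étale over `A_p` as soon as `B` is
étale over `A` at all primes lying over primes contained in `p`. -/
theorem formallyEtale_loc (A : Type u) (B : Type v) [CommRing A] [CommRing B] [Algebra A B]
    (p : Ideal A) [p.IsPrime]
    (h : ∀ (q : Ideal B) [q.IsPrime], q.comap (algebraMap A B) ≤ p → Algebra.IsEtaleAt A q) :
    Algebra.FormallyEtale (Localization.AtPrime p)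
      (Localization (Algebra.algebraMapSubmonoid B p.primeCompl)) := by
  haveI : Algebra.FormallyEtale A (Localization (Algebra.algebraMapSubmonoid B p.primeCompl)) := by
    rw [← Algebra.etaleLocus_eq_univ_iff, Set.eq_univ_iff_forall]
    intro Q
    rw [Algebra.mem_etaleLocus_iff]
    let q : Ideal B := Q.asIdeal.comap
      (algebraMap B (Localization (Algebra.algebraMapSubmonoid B p.primeCompl)))
    haveI : q.IsPrime := Ideal.comap_isPrime _ _
    have hq : q.comap (algebraMap A B) ≤ p := by
      intro a ha
      by_contra hap
      have hmem : algebraMap A B a ∈ Algebra.algebraMapSubmonoid B p.primeCompl :=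
        ⟨a, hap, rfl⟩
      have hunit : IsUnit (algebraMap B (Localization (Algebra.algebraMapSubmonoid B p.primeCompl))
          (algebraMap A B a)) :=
        IsLocalization.map_units _ (⟨_, hmem⟩ : Algebra.algebraMapSubmonoid B p.primeCompl)
      have hin : algebraMap B (Localization (Algebra.algebraMapSubmonoid B p.primeCompl))
          (algebraMap A B a) ∈ Q.asIdeal := ha
      exact Q.2.ne_top (Ideal.eq_top_of_isUnit_mem _ hin hunit)
    haveI : Algebra.IsEtaleAt A q := h q hq
    let e : Localization.AtPrime q ≃ₐ[B] Localization.AtPrime Q.asIdeal :=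
      IsLocalization.localizationLocalizationAtPrimeIsoLocalization
        (Algebra.algebraMapSubmonoid B p.primeCompl) Q.asIdeal
    exact Algebra.FormallyEtale.of_equiv (e.restrictScalars A)
  exact Algebra.FormallyEtale.localization_base p.primeCompl

/-- Let A be a Noetherian local ring of Krull dimension at least 2 and B a finite flat commutative
A-algebra. If B is etale over A at every prime of B lying over a non-maximal prime of A (that is,
Spec B is etale over the punctured spectrum of A), then B is etale over A. -/
theorem result (A : Type u) (B : Type v) [CommRing A] [CommRing B]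
    [Algebra A B] [IsNoetherianRing A] [IsLocalRing A] (hdim : (2 : WithBot ℕ∞) ≤ ringKrullDim A)
    [Module.Finite A B] [Module.Flat A B]
    (h : ∀ q : PrimeSpectrum B, q.asIdeal.comap (algebraMap A B) ≠ IsLocalRing.maximalIdeal A →
      Algebra.IsEtaleAt A q.asIdeal) :
    Algebra.Etale A B := by
  classical
  haveI : Module.Free A B := Module.free_of_flat_of_isLocalRing
  let b := Module.Free.chooseBasis A B
  rw [Groth.Agent.Lead.TraceEtale.etale_iff_isUnit_discr b]
  by_contra hd
  have hne : Ideal.span {Algebra.discr A b} ≠ ⊤ := by
    rwa [Ne, Ideal.span_singleton_eq_top]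
  obtain ⟨p, hp⟩ := Ideal.nonempty_minimalPrimes hne
  haveI : p.IsPrime := hp.1.1
  have hdp : Algebra.discr A b ∈ p := hp.1.2 (Ideal.subset_span rfl)
  have hht : p.height ≤ 1 := Ideal.height_le_one_of_isPrincipal_of_mem_minimalPrimes _ p hp
  have hpm : p ≠ maximalIdeal A := by
    intro heq
    have h1 : ((maximalIdeal A).height : WithBot ℕ∞) = ringKrullDim A :=
      IsLocalRing.maximalIdeal_height_eq_ringKrullDim
    rw [← heq] at h1
    rw [← h1] at hdim
    have h2 : (2 : ℕ∞) ≤ p.height := by
      have h2' : ((2 : ℕ∞) : WithBot ℕ∞) ≤ (p.height : WithBot ℕ∞) := hdim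
      exact WithBot.coe_le_coe.mp h2'
    have h3 : (2 : ℕ∞) ≤ 1 := h2.trans hht
    exact absurd h3 (by decide)
  have hall : ∀ (q : Ideal B) [q.IsPrime], q.comap (algebraMap A B) ≤ p →
      Algebra.IsEtaleAt A q := by
    intro q _ hq
    apply h ⟨q, inferInstance⟩
    intro heq
    apply hpm
    exact le_antisymm (IsLocalRing.le_maximalIdeal (Ideal.IsPrime.ne_top inferInstance))
      (heq ▸ hq)
  haveI := formallyEtale_loc A B p hall
  let bp := b.localizationLocalization (Localization.AtPrime p) p.primeCompl
    (Localization (Algebra.algebraMapSubmonoid B p.primeCompl))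
  haveI : Module.Finite (Localization.AtPrime p)
      (Localization (Algebra.algebraMapSubmonoid B p.primeCompl)) := Module.Finite.of_basis bp
  haveI : Module.Free (Localization.AtPrime p)
      (Localization (Algebra.algebraMapSubmonoid B p.primeCompl)) := Module.Free.of_basis bp
  haveI : Module.FinitePresentation (Localization.AtPrime p)
      (Localization (Algebra.algebraMapSubmonoid B p.primeCompl)) :=
    Module.finitePresentation_of_projective _ _
  haveI : Algebra.FinitePresentation (Localization.AtPrime p)
      (Localization (Algebra.algebraMapSubmonoid B p.primeCompl)) :=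
    Algebra.FinitePresentation.of_finitePresentation _ _
  haveI : Algebra.Etale (Localization.AtPrime p)
      (Localization (Algebra.algebraMapSubmonoid B p.primeCompl)) := ⟨inferInstance, inferInstance⟩
  have hunit := (Groth.Agent.Lead.TraceEtale.etale_iff_isUnit_discr bp).mp inferInstance
  rw [Algebra.discr_localizationLocalization A p.primeCompl
    (Localization (Algebra.algebraMapSubmonoid B p.primeCompl)) b] at hunit
  exact (IsLocalization.AtPrime.isUnit_to_map_iff (Localization.AtPrime p) p _).mp hunit hdp

end Groth.Agent.S18423
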