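import Groth.Statements.S18429
-- import your own Groth.Agent.* helpers here

set_option autoImplicit false
universe u
open SpinCurv

namespace Groth.Agent.S18429

/-- Let n ≥ 1 and r ≥ 2 be integers and let e_0, …, e_{nr} be integers with e_0 = e_{nr} = 0 (the
coefficients of a chain of nr - 1 exceptional curves joining two non-exceptional components with
coefficient zero) such that at every interior index 1 ≤ j ≤ nr - 1 the second difference e_{j-1} - 2
e_j + e_{j+1} (the degree of the divisor Σ e_i E_i on the j-th curve of the chain) is divisible by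
r. Then there are integers e'_0, …, e'_{nr}, with e'_j ≡ e_j modulo r for every interior j, with
e'_0 = e'_{nr} = 0 and every e'_j ≤ 0, whose second differences at the interior indices are each 0
or r, and are nonzero at no two distinct interior indices. -/
theorem result (n r : ℕ) (hn : 1 ≤ n) (hr : 2 ≤ r)
    (e : ℕ → ℤ) (he0 : e 0 = 0) (henr : e (n * r) = 0)
    (hdiv : ∀ j : ℕ, 1 ≤ j → j < n * r → (r : ℤ) ∣ e (j - 1) - 2 * e j + e (j + 1)) :
    ∃ e' : ℕ → ℤ, e' 0 = 0 ∧ e' (n * r) = 0 ∧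
      (∀ j : ℕ, 1 ≤ j → j < n * r → (r : ℤ) ∣ e' j - e j) ∧
      (∀ j : ℕ, j ≤ n * r → e' j ≤ 0) ∧
      (∀ j : ℕ, 1 ≤ j → j < n * r →
        (e' (j - 1) - 2 * e' j + e' (j + 1) = 0 ∨ e' (j - 1) - 2 * e' j + e' (j + 1) = r)) ∧
      (∀ j j' : ℕ, 1 ≤ j → j < n * r → 1 ≤ j' → j' < n * r →
        e' (j - 1) - 2 * e' j + e' (j + 1) ≠ 0 → e' (j' - 1) - 2 * e' j' + e' (j' + 1) ≠ 0 → j = j') := by
  have hrpos : (0 : ℤ) < r := by exact_mod_cast (by omega : 0 < r)
  obtain ⟨a, ha⟩ : ∃ a : ℤ, a = e 1 := ⟨_, rfl⟩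
  -- e j ≡ j * a
  have hE : ∀ j : ℕ, (j ≤ n * r → (r : ℤ) ∣ e j - j * a) ∧
      (j + 1 ≤ n * r → (r : ℤ) ∣ e (j + 1) - (j + 1 : ℕ) * a) := by
    intro j
    induction j with
    | zero =>
      refine ⟨fun _ => by simp [he0], fun _ => by simp [ha]⟩
    | succ j ih =>
      refine ⟨ih.2, fun hj => ?_⟩
      have h1 := ih.1 (by omega)
      have h2 := ih.2 (by omega)
      have h3 := hdiv (j + 1) (by omega) (by omega)
      simp only [Nat.add_sub_cancel] at h3
      have : e (j + 1 + 1) - ((j + 1 + 1 : ℕ) : ℤ) * a =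
          (e j - 2 * e (j + 1) + e (j + 1 + 1)) + 2 * (e (j + 1) - ((j + 1 : ℕ) : ℤ) * a)
            - (e j - (j : ℤ) * a) := by
        push_cast; ring
      rw [this]
      exact dvd_sub (dvd_add h3 (dvd_mul_of_dvd_right h2 2)) h1
  have hEj : ∀ j : ℕ, j ≤ n * r → (r : ℤ) ∣ e j - j * a := fun j hj => (hE j).1 hj
  -- the residue
  obtain ⟨t, ht0, htr, k, hk⟩ : ∃ t : ℤ, 0 ≤ t ∧ t < r ∧ ∃ k : ℤ, a + t = r * k := by
    refine ⟨(-a) % r, Int.emod_nonneg _ hrpos.ne', Int.emod_lt_of_pos _ hrpos, -((-a) / r), ?_⟩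
    have := Int.emod_add_mul_ediv (-a) r
    linarith
  obtain ⟨u, hu⟩ : ∃ u : ℕ, (u : ℤ) = r - t := ⟨(r - t).toNat, Int.toNat_of_nonneg (by omega)⟩
  have hu1 : 1 ≤ u := by omega
  have hur : u ≤ r := by omega
  obtain ⟨s, hs⟩ : ∃ s : ℤ, s = -t := ⟨_, rfl⟩
  have hus : (u : ℤ) = r + s := by rw [hu, hs]; ring
  have hs0 : s ≤ 0 := by omega
  have hsa : (r : ℤ) ∣ s - a := ⟨-k, by rw [hs]; linarith⟩
  obtain ⟨j₀, hj₀⟩ : ∃ j₀ : ℕ, j₀ = n * u := ⟨_, rfl⟩
  have hj₀N : j₀ ≤ n * r := by rw [hj₀]; exact Nat.mul_le_mul_left n hur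
  have hj₀pos : 1 ≤ j₀ := by rw [hj₀]; exact Nat.one_le_iff_ne_zero.mpr (by positivity)
  -- agreement of the two branches at j₀
  have hagree : ((r : ℤ) + s) * ((j₀ : ℤ) - ((n * r : ℕ) : ℤ)) = s * (j₀ : ℤ) := by
    rw [hj₀]; push_cast; rw [hus]; ring
  obtain ⟨e', he'⟩ : ∃ e' : ℕ → ℤ, e' = fun j : ℕ =>
      if j ≤ j₀ then s * (j : ℤ) else ((r : ℤ) + s) * ((j : ℤ) - ((n * r : ℕ) : ℤ)) := ⟨_, rfl⟩
  have h1 : ∀ j : ℕ, j ≤ j₀ → e' j = s * (j : ℤ) := fun j hj => by rw [he']; simp [hj]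
  have h2 : ∀ j : ℕ, j₀ ≤ j → e' j = ((r : ℤ) + s) * ((j : ℤ) - ((n * r : ℕ) : ℤ)) := by
    intro j hj
    rcases Nat.eq_or_lt_of_le hj with rfl | hlt
    · rw [h1 _ le_rfl, hagree]
    · rw [he']; simp [Nat.not_le.mpr hlt]
  have hdiff : ∀ j : ℕ, 1 ≤ j → j < n * r →
      e' (j - 1) - 2 * e' j + e' (j + 1) = if j = j₀ then (r : ℤ) else 0 := by
    intro j hj1 hjN
    obtain ⟨i, rfl⟩ : ∃ i, j = i + 1 := ⟨j - 1, by omega⟩
    simp only [Nat.add_sub_cancel]
    rcases lt_trichotomy (i + 1) j₀ with hlt | heq | hgt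
    · rw [if_neg (by omega), h1 i (by omega), h1 (i + 1) (by omega), h1 (i + 1 + 1) (by omega)]
      push_cast; ring
    · rw [if_pos heq, h1 i (by omega), h1 (i + 1) (by omega), h2 (i + 1 + 1) (by omega)]
      have := hagree
      rw [← heq] at this
      push_cast at this ⊢
      linear_combination this
    · rw [if_neg (by omega), h2 i (by omega), h2 (i + 1) (by omega), h2 (i + 1 + 1) (by omega)]
      push_cast; ring
  refine ⟨e', ?_, ?_, ?_, ?_, ?_, ?_⟩
  · rw [h1 0 (by omega)]; simp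
  · rw [h2 (n * r) hj₀N]; simp
  · intro j hj1 hjN
    have hmod : (r : ℤ) ∣ e' j - s * (j : ℤ) := by
      rcases le_or_gt j j₀ with hle | hgt
      · rw [h1 j hle]; simp
      · rw [h2 j (by omega)]
        refine ⟨(j : ℤ) - ((n * r : ℕ) : ℤ) - s * n, ?_⟩
        push_cast; ring
    have : e' j - e j = (e' j - s * (j : ℤ)) + (s - a) * (j : ℤ) - (e j - (j : ℤ) * a) := by ring
    rw [this]
    exact dvd_sub (dvd_add hmod (dvd_mul_of_dvd_left hsa _)) (hEj j (by omega))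
  · intro j hjN
    rcases le_or_gt j j₀ with hle | hgt
    · rw [h1 j hle]
      exact mul_nonpos_of_nonpos_of_nonneg hs0 (by positivity)
    · rw [h2 j (by omega)]
      apply mul_nonpos_of_nonneg_of_nonpos
      · omega
      · have : (j : ℤ) ≤ ((n * r : ℕ) : ℤ) := by exact_mod_cast hjN
        linarith
  · intro j hj1 hjN
    rw [hdiff j hj1 hjN]
    by_cases h : j = j₀
    · right; rw [if_pos h]
    · left; rw [if_neg h]
  · intro j j' hj1 hjN hj'1 hj'N hne hne'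
    rw [hdiff j hj1 hjN] at hne
    rw [hdiff j' hj'1 hj'N] at hne'
    have hjj : j = j₀ := by
      by_contra h
      rw [if_neg h] at hne
      exact hne rfl
    have hjj' : j' = j₀ := by
      by_contra h
      rw [if_neg h] at hne'
      exact hne' rfl
    rw [hjj, hjj']

end Groth.Agent.S18429
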