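import Groth.Statements.S18431
import Mathlib

set_option autoImplicit false
universe u
open SpinCurv

namespace Groth.Agent.S18431

/-- Let R be a Noetherian local ring in which the natural number r is invertible and let ξ, ζ ∈ R
satisfy ξ^r = 1 and ζ^r = 1. Then either ξ = ζ, or ξ - ζ is a unit of R. (Consequently an element of
R annihilated by ξ - ζ is zero unless ξ = ζ. In the published setting R is moreover complete; the
step does not use completeness.) -/
theorem result (R : Type u) [CommRing R] [IsNoetherianRing R] [IsLocalRing R]
    (r : ℕ) (hr : IsUnit (r : R)) (ξ ζ : R) (hξ : ξ ^ r = 1) (hζ : ζ ^ r = 1) :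
    ξ = ζ ∨ IsUnit (ξ - ζ) := by
  by_cases hu : IsUnit (ξ - ζ)
  · exact Or.inr hu
  · left
    have hmem : ξ - ζ ∈ IsLocalRing.maximalIdeal R := by
      rwa [IsLocalRing.mem_maximalIdeal, mem_nonunits_iff]
    have hres : IsLocalRing.residue R ξ = IsLocalRing.residue R ζ := by
      have : IsLocalRing.residue R (ξ - ζ) = 0 := by
        rwa [IsLocalRing.residue_eq_zero_iff]
      rw [map_sub, sub_eq_zero] at this
      exact this
    have hgeom := geom_sum₂_mul ξ ζ r
    rw [hξ, hζ, sub_self] at hgeom
    have hrpos : 0 < r := by
      rcases Nat.eq_zero_or_pos r with h | h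
      · subst h
        simp at hr
      · exact h
    have hζu : IsUnit ζ := by
      apply IsUnit.of_pow_eq_one hζ (by omega)
    have hS : IsUnit (∑ i ∈ Finset.range r, ξ ^ i * ζ ^ (r - 1 - i)) := by
      rw [← IsLocalRing.residue_ne_zero_iff_isUnit]
      rw [map_sum]
      have : ∀ i ∈ Finset.range r, IsLocalRing.residue R (ξ ^ i * ζ ^ (r - 1 - i)) = (IsLocalRing.residue R ζ) ^ (r - 1) := by
        intro i hi
        rw [map_mul, map_pow, map_pow, hres, ← pow_add]
        congr 1
        have := Finset.mem_range.mp hi
        omega
      rw [Finset.sum_congr rfl this]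
      simp only [Finset.sum_const, Finset.card_range, nsmul_eq_mul]
      have h1 : IsUnit ((r : IsLocalRing.ResidueField R)) := by
        have := hr.map (IsLocalRing.residue R)
        simpa using this
      have h2 : IsUnit (IsLocalRing.residue R ζ) := hζu.map _
      exact (h1.mul (h2.pow _)).ne_zero
    have := hS.mul_right_eq_zero.mp hgeom
    exact sub_eq_zero.mp this

end Groth.Agent.S18431
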