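import Groth.Statements.S18457
import Mathlib.Tactic.IntervalCases
import Mathlib.Tactic.Linarith
import Mathlib.Tactic.Ring
import Mathlib.Algebra.Order.BigOperators.Group.Finset
import Mathlib.Tactic.NormNum
import Mathlib.Algebra.BigOperators.Ring.Finset

set_option autoImplicit false
open Finset
open Surf

namespace Groth.Agent.S18457

/-- In the Picard lattice of the plane blown up at n ≤ 8 points, with basis h, e_1, …, e_n, form h² = 1,
e_i² = −1, all other products 0, and anticanonical class D = 3h − Σ e_i, let d·h − Σ a_i e_i be a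
class with all a_i ≥ 0 (the class of the strict transform of a degree-d plane curve having
multiplicity a_i at the i-th point) which is a (−2)-class orthogonal to D, that is d² − Σ a_i² = −2
and 3d = Σ a_i. Then one of the following holds: d = 1 and every a_i is 0 or 1 with exactly three
equal to 1; d = 2 and every a_i is 0 or 1 with exactly six equal to 1; d = 3, n = 8, and one a_i
equals 2 while the remaining seven equal 1. The published statement is geometric: under the
general-position hypotheses on the points, no smooth rational curve on the blown-up plane is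
orthogonal to D; this row is the lattice enumeration its proof carries out (a line through three of
the points, a conic through six, a cubic through all eight and singular at one). -/
theorem result (n : ℕ) (hn : n ≤ 8)
    (d : ℤ) (a : Fin n → ℤ) (ha : ∀ i, 0 ≤ a i)
    (hsq : d ^ 2 - ∑ i, (a i) ^ 2 = -2) (hK : 3 * d = ∑ i, a i) :
    (d = 1 ∧ (∀ i, a i = 0 ∨ a i = 1) ∧ (Finset.univ.filter (fun i => a i = 1)).card = 3) ∨
      (d = 2 ∧ (∀ i, a i = 0 ∨ a i = 1) ∧ (Finset.univ.filter (fun i => a i = 1)).card = 6) ∨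
      (d = 3 ∧ n = 8 ∧ ∃ j, a j = 2 ∧ ∀ i, i ≠ j → a i = 1) := by
  classical
  have hnn : (n : ℤ) ≤ 8 := by exact_mod_cast hn
  have hs2' : ∑ i, (a i) ^ 2 = d ^ 2 + 2 := by linarith
  have hd0 : 0 ≤ d := by
    have h1 : 0 ≤ ∑ i, a i := Finset.sum_nonneg (fun i _ => ha i)
    linarith
  have hexp : ∀ (c e : ℤ), ∑ i, (c * a i - e) ^ 2 =
      c ^ 2 * ∑ i, (a i) ^ 2 - 2 * c * e * ∑ i, a i + (n : ℤ) * e ^ 2 := by
    intro c e
    have h1 : ∀ i, (c * a i - e) ^ 2 = c ^ 2 * (a i) ^ 2 - (2 * c * e) * a i + e ^ 2 :=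
      fun i => by ring
    simp only [h1, Finset.sum_add_distrib, Finset.sum_sub_distrib, ← Finset.mul_sum,
      Finset.sum_const, Finset.card_univ, Fintype.card_fin, nsmul_eq_mul]
  have hd4 : d ≤ 4 := by
    have h1 : 0 ≤ ∑ i, (8 * a i - 3 * d) ^ 2 := Finset.sum_nonneg (fun i _ => sq_nonneg _)
    rw [hexp 8 (3 * d), hs2', ← hK] at h1
    nlinarith
  have ht : ∑ i, ((a i) ^ 2 - a i) = d ^ 2 + 2 - 3 * d := by
    rw [Finset.sum_sub_distrib]
    linarith
  have ht0 : ∀ i, 0 ≤ (a i) ^ 2 - a i := by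
    intro i
    have h1 := ha i
    by_cases h0 : a i = 0
    · simp [h0]
    · have h2 : 1 ≤ a i := by omega
      nlinarith
  have h01 : ∀ i, (a i) ^ 2 - a i = 0 → a i = 0 ∨ a i = 1 := by
    intro i hi
    have h1 : a i * (a i - 1) = 0 := by nlinarith
    rcases mul_eq_zero.mp h1 with h | h
    · exact Or.inl h
    · exact Or.inr (by linarith)
  have hcount : (∀ i, a i = 0 ∨ a i = 1) →
      ((Finset.univ.filter (fun i => a i = 1)).card : ℤ) = ∑ i, a i := by
    intro hall
    rw [Finset.natCast_card_filter]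
    apply Finset.sum_congr rfl
    intro i _
    rcases hall i with h | h
    · rw [h]; simp
    · rw [h]; simp
  interval_cases d
  · -- d = 0
    exfalso
    have h1 : ∑ i, a i = 0 := by linarith
    have h2 := (Finset.sum_eq_zero_iff_of_nonneg (fun i _ => ha i)).mp h1
    have h3 : ∑ i, (a i) ^ 2 = 0 := by
      apply Finset.sum_eq_zero
      intro i hi
      rw [h2 i hi]
      norm_num
    linarith
  · -- d = 1
    left
    have h1 : ∑ i, ((a i) ^ 2 - a i) = 0 := by rw [ht]; norm_num
    have h2 := (Finset.sum_eq_zero_iff_of_nonneg (fun i _ => ht0 i)).mp h1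
    have hall : ∀ i, a i = 0 ∨ a i = 1 := fun i => h01 i (h2 i (Finset.mem_univ i))
    refine ⟨rfl, hall, ?_⟩
    have h3 := hcount hall
    rw [← hK] at h3
    exact_mod_cast h3
  · -- d = 2
    right; left
    have h1 : ∑ i, ((a i) ^ 2 - a i) = 0 := by rw [ht]; norm_num
    have h2 := (Finset.sum_eq_zero_iff_of_nonneg (fun i _ => ht0 i)).mp h1
    have hall : ∀ i, a i = 0 ∨ a i = 1 := fun i => h01 i (h2 i (Finset.mem_univ i))
    refine ⟨rfl, hall, ?_⟩
    have h3 := hcount hall
    rw [← hK] at h3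
    exact_mod_cast h3
  · -- d = 3
    right; right
    have h1 : ∑ i, ((a i) ^ 2 - a i) = 2 := by rw [ht]; norm_num
    obtain ⟨j, hj⟩ : ∃ j, (a j) ^ 2 - a j ≠ 0 := by
      by_contra hno
      push Not at hno
      have h2 : ∑ i, ((a i) ^ 2 - a i) = 0 := Finset.sum_eq_zero (fun i _ => hno i)
      linarith
    have hj2 : 2 ≤ a j := by
      have h2 := ha j
      by_contra hlt
      push Not at hlt
      have h3 : a j = 0 ∨ a j = 1 := by omega
      rcases h3 with h | h <;> · rw [h] at hj; norm_num at hj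
    have hsplit : ∑ i, ((a i) ^ 2 - a i) =
        ((a j) ^ 2 - a j) + ∑ i ∈ Finset.univ.erase j, ((a i) ^ 2 - a i) :=
      (Finset.add_sum_erase _ (fun i => (a i) ^ 2 - a i) (Finset.mem_univ j)).symm
    have hrest0 : 0 ≤ ∑ i ∈ Finset.univ.erase j, ((a i) ^ 2 - a i) :=
      Finset.sum_nonneg (fun i _ => ht0 i)
    have hj3 : a j = 2 := by nlinarith
    have hrest : ∑ i ∈ Finset.univ.erase j, ((a i) ^ 2 - a i) = 0 := by
      rw [hj3] at hsplit
      linarith
    have h2 := (Finset.sum_eq_zero_iff_of_nonneg (fun i _ => ht0 i)).mp hrest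
    have hothers : ∀ i, i ≠ j → a i = 0 ∨ a i = 1 := fun i hi =>
      h01 i (h2 i (Finset.mem_erase.mpr ⟨hi, Finset.mem_univ i⟩))
    have hsum : ∑ i ∈ Finset.univ.erase j, a i = 7 := by
      have h3 : ∑ i, a i = a j + ∑ i ∈ Finset.univ.erase j, a i :=
        (Finset.add_sum_erase _ (fun i => a i) (Finset.mem_univ j)).symm
      rw [hj3] at h3
      linarith
    have hcard : ((Finset.univ.erase j : Finset (Fin n)).card : ℤ) = (n : ℤ) - 1 := by
      rw [Finset.card_erase_of_mem (Finset.mem_univ j), Finset.card_univ, Fintype.card_fin]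
      have hn1 : 1 ≤ n := Nat.one_le_iff_ne_zero.mpr (fun h0 => by subst h0; exact j.elim0)
      push_cast [Nat.cast_sub hn1]
      ring
    have hdef : ∑ i ∈ Finset.univ.erase j, (1 - a i) = (n : ℤ) - 1 - 7 := by
      rw [Finset.sum_sub_distrib, hsum, Finset.sum_const, nsmul_eq_mul, mul_one, hcard]
    have hdef0 : ∀ i ∈ Finset.univ.erase j, 0 ≤ 1 - a i := by
      intro i hi
      rcases hothers i (Finset.mem_erase.mp hi).1 with h | h <;> rw [h] <;> norm_num
    have hdefsum : 0 ≤ ∑ i ∈ Finset.univ.erase j, (1 - a i) := Finset.sum_nonneg hdef0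
    have hn8 : (n : ℤ) = 8 := by linarith
    have hzero : ∑ i ∈ Finset.univ.erase j, (1 - a i) = 0 := by rw [hdef, hn8]; norm_num
    have h5 := (Finset.sum_eq_zero_iff_of_nonneg hdef0).mp hzero
    refine ⟨rfl, by exact_mod_cast hn8, j, hj3, ?_⟩
    intro i hi
    have h6 := h5 i (Finset.mem_erase.mpr ⟨hi, Finset.mem_univ i⟩)
    linarith
  · -- d = 4
    exfalso
    have h1 := hexp 2 3
    rw [hs2', ← hK] at h1
    have h2 : ∑ i : Fin n, (1 : ℤ) ≤ ∑ i, (2 * a i - 3) ^ 2 := by
      apply Finset.sum_le_sum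
      intro i _
      have hz : 2 * a i - 3 ≠ 0 := by omega
      have h3 := sq_pos_of_ne_zero hz
      omega
    rw [Finset.sum_const, Finset.card_univ, Fintype.card_fin, nsmul_eq_mul, mul_one] at h2
    norm_num at h1
    linarith

end Groth.Agent.S18457
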