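import Groth.Statements.S18465
import Mathlib.Algebra.MonoidAlgebra.Basic

set_option autoImplicit false
universe u v w x
open WildLef

namespace Groth.Agent.S18465

/-- Let f : G₁ → G₂ be a homomorphism of groups, ρ : G₂ → Γ a homomorphism with finite image G, and A a
nontrivial commutative ring. Let G₂ act on the group algebra A[G] through ρ followed by the left
regular representation, and G₁ through f. If the elements of A[G] fixed by G₁ coincide with those
fixed by G₂, then ρ ∘ f and ρ have the same image. (The published statement has Γ a general linear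
group GL_r(A); over the zero ring that group is trivial, so requiring A nontrivial and allowing any
target group loses nothing.) -/
theorem result
    {G₁ : Type u} {G₂ : Type v} {Γ : Type w} [Group G₁] [Group G₂] [Group Γ]
    (f : G₁ →* G₂) (ρ : G₂ →* Γ) [Finite ρ.range] (A : Type x) [CommRing A] [Nontrivial A]
    (h : {x : MonoidAlgebra A ρ.range | ∀ g : G₁, MonoidAlgebra.of A ρ.range (ρ.rangeRestrict (f g)) * x = x} =
      {x : MonoidAlgebra A ρ.range | ∀ g : G₂, MonoidAlgebra.of A ρ.range (ρ.rangeRestrict g) * x = x}) :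
    (ρ.comp f).range = ρ.range := by
  classical
  let H : Subgroup ρ.range := (ρ.rangeRestrict.comp f).range
  have : Fintype H := Fintype.ofFinite H
  let x : MonoidAlgebra A ρ.range := ∑ k : H, MonoidAlgebra.of A ρ.range (k : ρ.range)
  have hx1 : x ∈ {x : MonoidAlgebra A ρ.range |
      ∀ g : G₁, MonoidAlgebra.of A ρ.range (ρ.rangeRestrict (f g)) * x = x} := by
    intro g
    have hc : ρ.rangeRestrict (f g) ∈ H := ⟨g, rfl⟩
    show MonoidAlgebra.of A ρ.range (ρ.rangeRestrict (f g)) *
      (∑ k : H, MonoidAlgebra.of A ρ.range (k : ρ.range)) = _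
    rw [Finset.mul_sum]
    have e : ∀ k : H, MonoidAlgebra.of A ρ.range (ρ.rangeRestrict (f g)) *
        MonoidAlgebra.of A ρ.range (k : ρ.range) =
        MonoidAlgebra.of A ρ.range (((Equiv.mulLeft (⟨_, hc⟩ : H)) k : H) : ρ.range) := by
      intro k
      rw [← map_mul]
      rfl
    simp only [e]
    exact Fintype.sum_equiv (Equiv.mulLeft (⟨_, hc⟩ : H)) _ _ (fun k => rfl)
  rw [h] at hx1
  have hxapply : ∀ γ : ρ.range, x.coeff γ = if γ ∈ H then 1 else 0 := by
    intro γ
    show (∑ k : H, MonoidAlgebra.of A ρ.range (k : ρ.range)).coeff γ = _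
    rw [MonoidAlgebra.coeff_sum, Finsupp.finsetSum_apply]
    simp only [MonoidAlgebra.of_apply, MonoidAlgebra.coeff_single, Finsupp.single_apply]
    split_ifs with hγ
    · rw [Finset.sum_eq_single (⟨γ, hγ⟩ : H)]
      · simp
      · intro k _ hk
        rw [if_neg]
        intro hkγ
        exact hk (Subtype.ext hkγ)
      · intro hn
        exact absurd (Finset.mem_univ _) hn
    · apply Finset.sum_eq_zero
      intro k _
      rw [if_neg]
      intro hkγ
      exact hγ (hkγ ▸ k.2)
  apply le_antisymm
  · rintro _ ⟨g, rfl⟩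
    exact ⟨f g, rfl⟩
  · rintro _ ⟨g, rfl⟩
    have h1 := hx1 g
    have h2 := congrArg (fun z : MonoidAlgebra A ρ.range => z.coeff (ρ.rangeRestrict g)) h1
    simp only [MonoidAlgebra.of_apply] at h2
    rw [MonoidAlgebra.coeff_single_mul_apply, inv_mul_cancel, one_mul, hxapply, hxapply,
      if_pos (one_mem H)] at h2
    by_cases hg : ρ.rangeRestrict g ∈ H
    · obtain ⟨g₁, hg₁⟩ := hg
      refine ⟨g₁, ?_⟩
      have h3 := congrArg Subtype.val hg₁
      exact h3
    · rw [if_neg hg] at h2
      exact absurd h2 one_ne_zero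

end Groth.Agent.S18465
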