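import Groth.Statements.S18466
import Mathlib

set_option autoImplicit false
universe u
open Hopf

namespace Groth.Agent.S18466


open ConstGrp TensorProduct

section Aux
variable {k : Type u} [Field k]

theorem comul_of_mul {G : Type} [Group G] [Fintype G] [DecidableEq G] (f : F k G)
    (hf : ∀ a b, f (a * b) = f a * f b) :
    Coalgebra.comul (R := k) f = f ⊗ₜ[k] f := by
  rw [comul_eq_sum]
  conv_rhs => rw [eq_sum_smul_e f]
  rw [TensorProduct.sum_tmul]
  refine Finset.sum_congr rfl fun a _ => ?_
  rw [TensorProduct.tmul_sum]
  refine Finset.sum_congr rfl fun b _ => ?_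
  rw [hf, TensorProduct.smul_tmul_smul]

theorem comul_single_one {G : Type} [Group G] (g : G) :
    Coalgebra.comul (R := k) (MonoidAlgebra.single g (1 : k)) =
      (MonoidAlgebra.single g (1 : k)) ⊗ₜ[k] (MonoidAlgebra.single g (1 : k)) := by
  rw [MonoidAlgebra.comul_single, CommSemiring.comul_apply, TensorProduct.map_tmul]
  rfl

variable {n : ℕ} [NeZero n]

/-- the characters `h ↦ ψ (g h)` -/
noncomputable def chi (ψ : AddChar (ZMod n) k) :
    Multiplicative (ZMod n) →* F k (Multiplicative (ZMod n)) where
  toFun g := fun h => ψ (Multiplicative.toAdd g * Multiplicative.toAdd h)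
  map_one' := by
    ext h
    show ψ (Multiplicative.toAdd (1 : Multiplicative (ZMod n)) * Multiplicative.toAdd h) = 1
    rw [toAdd_one, zero_mul, AddChar.map_zero_eq_one]
  map_mul' := by
    intro g g'
    ext h
    show ψ (Multiplicative.toAdd (g * g') * Multiplicative.toAdd h) =
      ψ (Multiplicative.toAdd g * Multiplicative.toAdd h) *
        ψ (Multiplicative.toAdd g' * Multiplicative.toAdd h)
    rw [toAdd_mul, add_mul, AddChar.map_add_eq_mul]

theorem chi_apply (ψ : AddChar (ZMod n) k) (g h : Multiplicative (ZMod n)) :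
    chi ψ g h = ψ (Multiplicative.toAdd g * Multiplicative.toAdd h) := rfl

end Aux


/-- Let k be a field and n ≥ 1. The constant group scheme ℤ/n over k is self-dual, that is, isomorphic
to its Cartier dual μ_n — equivalently the Hopf algebra of k-valued functions on the cyclic group of
order n and the group algebra of that group over k (group elements group-like) are isomorphic as
bialgebras — precisely when the field k has a primitive n-th root of unity, i.e. k contains n
distinct n-th roots of unity in k. (The published statement assumes that the characteristic of k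
does not divide n; both directions hold without that assumption by the same argument, since a
primitive n-th root of unity forces n to be nonzero in k, so it is omitted here.) -/
theorem result
    (k : Type u) [Field k] (n : ℕ) [NeZero n] :
    Nonempty (ConstGrp.F k (Multiplicative (ZMod n)) ≃ₐc[k] MonoidAlgebra k (Multiplicative (ZMod n))) ↔
      ∃ ζ : k, IsPrimitiveRoot ζ n := by
  classical
  constructor
  · rintro ⟨Φ⟩
    set g₀ : Multiplicative (ZMod n) := Multiplicative.ofAdd (1 : ZMod n) with hg₀
    set x : MonoidAlgebra k (Multiplicative (ZMod n)) := MonoidAlgebra.single g₀ 1 with hx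
    set χ : F k (Multiplicative (ZMod n)) := Φ.symm x with hχ
    have hcomx : Coalgebra.comul (R := k) x = x ⊗ₜ[k] x := comul_single_one g₀
    have hcomχ : Coalgebra.comul (R := k) χ = χ ⊗ₜ[k] χ := by
      rw [hχ, ← CoalgHomClass.map_comp_comul_apply Φ.symm x, hcomx, TensorProduct.map_tmul]
      rfl
    have hmul : ∀ a b, χ (a * b) = χ a * χ b := by
      intro a b
      rw [← pair_comul k _ χ a b, hcomχ, pair_tmul]
    have hone : χ 1 = 1 := by
      have h1 : Coalgebra.counit (R := k) χ = Coalgebra.counit (R := k) x :=
        CoalgHomClass.counit_comp_apply Φ.symm x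
      rw [ConstGrp.counit_apply] at h1
      rw [h1, hx, MonoidAlgebra.counit_single, CommSemiring.counit_apply]
    have hpow : ∀ m : ℕ, χ (g₀ ^ m) = χ g₀ ^ m := by
      intro m
      induction m with
      | zero => rw [pow_zero, pow_zero, hone]
      | succ m ih => rw [pow_succ, pow_succ, hmul, ih]
    have hgen : ∀ g : Multiplicative (ZMod n), ∃ m : ℕ, g = g₀ ^ m := by
      intro g
      refine ⟨(Multiplicative.toAdd g).val, ?_⟩
      apply Multiplicative.toAdd.injective
      rw [toAdd_pow, hg₀, toAdd_ofAdd, nsmul_eq_mul, mul_one, ZMod.natCast_zmod_val]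
    have hg₀n : g₀ ^ n = 1 := by
      apply Multiplicative.toAdd.injective
      rw [toAdd_pow, hg₀, toAdd_ofAdd, nsmul_eq_mul, mul_one, ZMod.natCast_self, toAdd_one]
    refine ⟨χ g₀, IsPrimitiveRoot.mk_of_lt _ (Nat.pos_of_ne_zero (NeZero.ne n)) ?_ ?_⟩
    · rw [← hpow, hg₀n, hone]
    · intro l hl hln hζl
      have hχl : χ ^ l = 1 := by
        ext g
        obtain ⟨m, rfl⟩ := hgen g
        show (χ (g₀ ^ m)) ^ l = 1
        rw [hpow, ← pow_mul, mul_comm, pow_mul, hζl, one_pow]
      have h2 : Φ (χ ^ l) = Φ 1 := by rw [hχl]
      rw [map_pow, map_one, hχ, Φ.apply_symm_apply, hx, MonoidAlgebra.single_pow, one_pow,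
        MonoidAlgebra.one_def] at h2
      have h3 := (MonoidAlgebra.single_left_inj (one_ne_zero : (1 : k) ≠ 0)).mp h2
      have h4 : ((l : ℕ) : ZMod n) = 0 := by
        have h5 := congrArg Multiplicative.toAdd h3
        rwa [toAdd_pow, hg₀, toAdd_ofAdd, nsmul_eq_mul, mul_one, toAdd_one] at h5
      rw [ZMod.natCast_eq_zero_iff] at h4
      exact absurd (Nat.le_of_dvd hl h4) (by omega)
  · rintro ⟨ζ, hζ⟩
    have hζn : ζ ^ n = 1 := hζ.pow_eq_one
    set ψ : AddChar (ZMod n) k := AddChar.zmodChar n hζn with hψ
    have hprim : AddChar.IsPrimitive ψ := AddChar.zmodChar_primitive_of_primitive_root n hζ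
    have hn0 : ((n : ℕ) : k) ≠ 0 := (hζ.neZero').ne
    let Ψ : MonoidAlgebra k (Multiplicative (ZMod n)) →ₐ[k] F k (Multiplicative (ZMod n)) :=
      MonoidAlgebra.lift k (F k (Multiplicative (ZMod n))) (Multiplicative (ZMod n)) (chi ψ)
    have hΨ : ∀ g, Ψ (MonoidAlgebra.single g 1) = chi ψ g := fun g => by
      show MonoidAlgebra.lift k _ _ (chi ψ) (MonoidAlgebra.single g 1) = _
      rw [MonoidAlgebra.lift_single, one_smul]
    have hcounit : (Bialgebra.counitAlgHom k (F k (Multiplicative (ZMod n)))).comp Ψ =
        Bialgebra.counitAlgHom k (MonoidAlgebra k (Multiplicative (ZMod n))) := by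
      refine MonoidAlgebra.algHom_ext (fun g => ?_) (Subsingleton.elim _ _)
      rw [AlgHom.comp_apply, hΨ]
      show Coalgebra.counit (R := k) (chi ψ g) =
        Coalgebra.counit (R := k) (MonoidAlgebra.single g (1 : k))
      rw [ConstGrp.counit_apply, chi_apply, toAdd_one, mul_zero, AddChar.map_zero_eq_one,
        MonoidAlgebra.counit_single, CommSemiring.counit_apply]
    have hcomul : (Algebra.TensorProduct.map Ψ Ψ).comp
          (Bialgebra.comulAlgHom k (MonoidAlgebra k (Multiplicative (ZMod n)))) =
        (Bialgebra.comulAlgHom k (F k (Multiplicative (ZMod n)))).comp Ψ := by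
      refine MonoidAlgebra.algHom_ext (fun g => ?_) (Subsingleton.elim _ _)
      rw [AlgHom.comp_apply, AlgHom.comp_apply, hΨ]
      show Algebra.TensorProduct.map Ψ Ψ (Coalgebra.comul (R := k) (MonoidAlgebra.single g (1 : k))) =
        Coalgebra.comul (R := k) (chi ψ g)
      rw [comul_single_one, Algebra.TensorProduct.map_tmul, hΨ, comul_of_mul]
      intro a b
      rw [chi_apply, chi_apply, chi_apply, toAdd_mul, mul_add, AddChar.map_add_eq_mul]
    -- surjectivity
    have hsurj : Function.Surjective Ψ := by
      let y : Multiplicative (ZMod n) → MonoidAlgebra k (Multiplicative (ZMod n)) := fun h =>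
        ((n : ℕ) : k)⁻¹ • ∑ g : Multiplicative (ZMod n),
          ψ (-(Multiplicative.toAdd g * Multiplicative.toAdd h)) • MonoidAlgebra.single g (1 : k)
      have hy : ∀ h, Ψ (y h) = e k h := by
        intro h
        ext h'
        show Ψ (((n : ℕ) : k)⁻¹ • ∑ g : Multiplicative (ZMod n),
          ψ (-(Multiplicative.toAdd g * Multiplicative.toAdd h)) • MonoidAlgebra.single g (1 : k)) h' = _
        rw [map_smul, map_sum, ConstGrp.smul_apply, ConstGrp.sum_apply, e_apply]
        have hterm : ∀ g ∈ (Finset.univ : Finset (Multiplicative (ZMod n))),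
            (Ψ (ψ (-(Multiplicative.toAdd g * Multiplicative.toAdd h)) •
              MonoidAlgebra.single g (1 : k))) h' =
            ψ (Multiplicative.toAdd g * (Multiplicative.toAdd h' - Multiplicative.toAdd h)) := by
          intro g _
          rw [map_smul, hΨ, ConstGrp.smul_apply, chi_apply, ← AddChar.map_add_eq_mul]
          congr 1
          ring
        rw [Finset.sum_congr rfl hterm]
        rw [Fintype.sum_equiv Multiplicative.toAdd
          (fun g : Multiplicative (ZMod n) =>
            ψ (Multiplicative.toAdd g * (Multiplicative.toAdd h' - Multiplicative.toAdd h)))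
          (fun x : ZMod n => ψ (x * (Multiplicative.toAdd h' - Multiplicative.toAdd h)))
          (fun g => rfl)]
        rw [AddChar.sum_mulShift _ hprim, ZMod.card]
        by_cases hh : h' = h
        · subst hh
          rw [sub_self, if_pos rfl, if_pos rfl, inv_mul_cancel₀ hn0]
        · have hne : ¬ (Multiplicative.toAdd h' - Multiplicative.toAdd h = 0) := by
            rw [sub_eq_zero]
            intro hcon
            exact hh (Multiplicative.toAdd.injective hcon)
          rw [if_neg hh, if_neg hne]
          simp
      intro f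
      refine ⟨∑ h : Multiplicative (ZMod n), f h • y h, ?_⟩
      rw [map_sum]
      conv_rhs => rw [eq_sum_smul_e f]
      refine Finset.sum_congr rfl fun h _ => ?_
      rw [map_smul, hy]
    have hfr : Module.finrank k (MonoidAlgebra k (Multiplicative (ZMod n))) =
        Module.finrank k (F k (Multiplicative (ZMod n))) := by
      rw [Module.finrank_eq_card_basis (MonoidAlgebra.basis (Multiplicative (ZMod n)) k),
        Module.finrank_eq_card_basis (ConstGrp.basis k (Multiplicative (ZMod n)))]
    haveI : Module.Finite k (MonoidAlgebra k (Multiplicative (ZMod n))) :=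
      Module.Finite.of_basis (MonoidAlgebra.basis (Multiplicative (ZMod n)) k)
    have hinj : Function.Injective Ψ :=
      (LinearMap.injective_iff_surjective_of_finrank_eq_finrank hfr (f := Ψ.toLinearMap)).mpr hsurj
    let E : MonoidAlgebra k (Multiplicative (ZMod n)) ≃ₐ[k] F k (Multiplicative (ZMod n)) :=
      AlgEquiv.ofBijective Ψ ⟨hinj, hsurj⟩
    have hE : (E : MonoidAlgebra k (Multiplicative (ZMod n)) →ₐ[k] F k (Multiplicative (ZMod n))) = Ψ :=
      AlgHom.ext fun x => rfl
    refine ⟨(BialgEquiv.ofAlgEquiv E ?_ ?_).symm⟩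
    · rw [hE]
      exact hcounit
    · rw [hE]
      exact hcomul

end Groth.Agent.S18466
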