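import Groth.Statements.S18467
import Mathlib.FieldTheory.Finite.Basic
import Mathlib.RingTheory.Idempotents
import Mathlib.Algebra.Ring.GeomSum
import Mathlib.GroupTheory.SpecificGroups.Cyclic
import Mathlib.RingTheory.IntegralDomain

set_option autoImplicit false
universe u
open Hopf

namespace Groth.Agent.S18467

/-- Let p be a prime and R a commutative ring containing an element u with u(p − 1) = 1, and let χ be a
homomorphism from the group of units of ℤ/p to the group of units of R such that χ(m) − 1 is a unit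
of R for every m ≠ 1. For 0 ≤ i < p − 1 put e_i = u · Σ_m χ(m)^{−i} [m] in the group algebra
R[(ℤ/p)ˣ]. Then the e_i are idempotents, e_i e_j = 0 for i ≠ j, and Σ_i e_i = 1. (The published
statement is for algebras over the subring of the p-adic integers generated over ℤ by the values of
the Teichmüller character χ and by 1/(p(p − 1)); the hypotheses on R and χ here are the properties
of that situation which the computation uses, so the row is stated for every such pair.) -/
theorem result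
    (p : ℕ) [Fact p.Prime] (R : Type u) [CommRing R] (u : R) (hu : u * ((p - 1 : ℕ) : R) = 1)
    (χ : (ZMod p)ˣ →* Rˣ) (hχ : ∀ m : (ZMod p)ˣ, m ≠ 1 → IsUnit ((χ m : R) - 1)) :
    CompleteOrthogonalIdempotents (fun i : Fin (p - 1) =>
      u • ∑ m : (ZMod p)ˣ, ((χ m⁻¹ : Rˣ) : R) ^ (i : ℕ) • MonoidAlgebra.of R (ZMod p)ˣ m) := by
  classical
  rw [CompleteOrthogonalIdempotents.iff_ortho_complete]
  have hcard : Fintype.card (ZMod p)ˣ = p - 1 := ZMod.card_units p
  set c : (ZMod p)ˣ → R := fun m => ((χ m : Rˣ) : R) with hc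
  have c_mul : ∀ m m', c (m * m') = c m * c m' := fun m m' => by simp [hc]
  have c_one : c 1 = 1 := by simp [hc]
  have c_pow : ∀ m (k : ℕ), c (m ^ k) = c m ^ k := fun m k => by simp [hc]
  have hunit : ∀ m, m ≠ 1 → IsUnit (c m - 1) := hχ
  constructor
  · intro i j hij
    have key : ∑ m : (ZMod p)ˣ, c m⁻¹ ^ (i : ℕ) * c m ^ (j : ℕ) = 0 := by
      obtain ⟨g, hg⟩ := IsCyclic.exists_generator (α := (ZMod p)ˣ)
      have hord : orderOf g = p - 1 := by
        rw [orderOf_eq_card_of_forall_mem_zpowers hg, Nat.card_eq_fintype_card, hcard]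
      set ψ : (ZMod p)ˣ → R := fun m => c m⁻¹ ^ (i : ℕ) * c m ^ (j : ℕ) with hψ
      have hψmul : ∀ m, ψ (g * m) = ψ g * ψ m := by
        intro m
        simp only [hψ, mul_inv_rev, c_mul]
        ring
      have hsum : ∑ m, ψ m = ψ g * ∑ m, ψ m := by
        rw [Finset.mul_sum,
          ← Fintype.sum_equiv (Equiv.mulLeft g) (fun m => ψ (g * m)) ψ (fun m => rfl)]
        exact Finset.sum_congr rfl (fun m _ => hψmul m)
      set h : (ZMod p)ˣ := g⁻¹ ^ (i : ℕ) * g ^ (j : ℕ) with hh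
      have hψg : ψ g = c h := by simp only [hψ, hh, c_mul, c_pow]
      have hne : h ≠ 1 := by
        intro h1
        have h2 : g ^ (j : ℕ) = g ^ (i : ℕ) := by
          rw [hh, inv_pow, inv_mul_eq_one] at h1
          exact h1.symm
        rw [pow_eq_pow_iff_modEq, hord] at h2
        have h3 := Nat.ModEq.eq_of_lt_of_lt h2 j.2 i.2
        exact hij (Fin.ext h3.symm)
      have hu' := hunit h hne
      have h4 : (c h - 1) * ∑ m, ψ m = 0 := by
        rw [sub_mul, one_mul, ← hψg, ← hsum, sub_self]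
      exact (hu'.mul_right_eq_zero).mp h4
    show (u • ∑ m : (ZMod p)ˣ, c m⁻¹ ^ (i : ℕ) • MonoidAlgebra.of R (ZMod p)ˣ m) *
      (u • ∑ m : (ZMod p)ˣ, c m⁻¹ ^ (j : ℕ) • MonoidAlgebra.of R (ZMod p)ˣ m) = 0
    rw [smul_mul_smul_comm, Finset.sum_mul_sum]
    have step1 : ∀ m : (ZMod p)ˣ,
        ∑ m' : (ZMod p)ˣ, (c m⁻¹ ^ (i : ℕ) • MonoidAlgebra.of R (ZMod p)ˣ m) *
          (c m'⁻¹ ^ (j : ℕ) • MonoidAlgebra.of R (ZMod p)ˣ m') =
        ∑ k : (ZMod p)ˣ, (c m⁻¹ ^ (i : ℕ) * c (m⁻¹ * k)⁻¹ ^ (j : ℕ)) •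
          MonoidAlgebra.of R (ZMod p)ˣ k := by
      intro m
      apply Fintype.sum_equiv (Equiv.mulLeft m)
      intro m'
      simp only [Equiv.coe_mulLeft, inv_mul_cancel_left, smul_mul_smul_comm, ← map_mul]
    rw [Finset.sum_congr rfl (fun m _ => step1 m), Finset.sum_comm]
    have step2 : ∀ k : (ZMod p)ˣ, ∑ m : (ZMod p)ˣ,
        (c m⁻¹ ^ (i : ℕ) * c (m⁻¹ * k)⁻¹ ^ (j : ℕ)) • MonoidAlgebra.of R (ZMod p)ˣ k = 0 := by
      intro k
      rw [← Finset.sum_smul]
      have h5 : ∑ m : (ZMod p)ˣ, c m⁻¹ ^ (i : ℕ) * c (m⁻¹ * k)⁻¹ ^ (j : ℕ) =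
          c k⁻¹ ^ (j : ℕ) * ∑ m : (ZMod p)ˣ, c m⁻¹ ^ (i : ℕ) * c m ^ (j : ℕ) := by
        rw [Finset.mul_sum]
        apply Finset.sum_congr rfl
        intro m _
        rw [mul_inv_rev, inv_inv, c_mul, mul_pow]
        ring
      rw [h5, key, mul_zero, zero_smul]
    rw [Finset.sum_eq_zero (fun k _ => step2 k), smul_zero]
  · show ∑ i : Fin (p - 1), u • ∑ m : (ZMod p)ˣ,
      c m⁻¹ ^ (i : ℕ) • MonoidAlgebra.of R (ZMod p)ˣ m = 1
    rw [← Finset.smul_sum, Finset.sum_comm]
    have geo : ∀ m : (ZMod p)ˣ, ∑ i : Fin (p - 1), c m⁻¹ ^ (i : ℕ) =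
        if m = 1 then ((p - 1 : ℕ) : R) else 0 := by
      intro m
      split_ifs with hm
      · subst hm
        simp [c_one]
      · have hm' : m⁻¹ ≠ 1 := by simpa using hm
        have hu' := hunit _ hm'
        have hgeo : (c m⁻¹ - 1) * ∑ i : Fin (p - 1), c m⁻¹ ^ (i : ℕ) = 0 := by
          rw [Fin.sum_univ_eq_sum_range (fun i => c m⁻¹ ^ i) (p - 1), mul_comm, geom_sum_mul,
            ← c_pow]
          have h6 : m⁻¹ ^ (p - 1) = 1 := by
            rw [← hcard]
            exact pow_card_eq_one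
          rw [h6, c_one, sub_self]
        exact hu'.mul_right_eq_zero.mp hgeo
    simp only [← Finset.sum_smul, geo]
    rw [Finset.sum_eq_single 1]
    · rw [if_pos rfl, smul_smul, hu, one_smul, map_one]
    · intro m _ hm
      rw [if_neg hm, zero_smul]
    · intro h7
      exact absurd (Finset.mem_univ _) h7

end Groth.Agent.S18467
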