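import Groth.Statements.S18468
import Groth.Agent.Lib.Helper22.OTLib

set_option autoImplicit false
universe u
open OortTate

namespace Groth.Agent.S18468

/-- Let p be a prime, R a commutative ring containing u with u(p − 1) = 1, and χ a homomorphism from the
units of ℤ/p to the units of R such that χ(m) − 1 is a unit for every m ≠ 1 (the situation of an
algebra over the subring Λ_p of the p-adic integers generated by the Teichmüller values and 1/(p(p −
1)), with χ the Teichmüller character, which is the published setting). Let A be a commutative Hopf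
algebra over R such that the p-th convolution power of the identity of A is the neutral element ε
followed by the unit (the affine group G = Spec A is killed by p), so that for a unit m of ℤ/p the
power map [m] of A depends only on m. For 0 ≤ i < p − 1 let I_i ⊆ A be the submodule of those f with
ε(f) = 0 and [m]f = χ(m)^i f for every m. Then the augmentation ideal ker ε is the internal direct
sum of the I_i (the family is independent and its supremum is ker ε), and each I_i is the image of
ker ε under the averaging operator u Σ_m χ(m)^{−i}[m]. (The published statement is for the Hopf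
algebra of a group scheme of order p over a Λ_p-algebra, which is commutative and killed by p; the
hypotheses here are what the argument uses.) -/
theorem result
    (p : ℕ) [Fact p.Prime] (R : Type u) [CommRing R] (u : R) (hu : u * ((p - 1 : ℕ) : R) = 1)
    (χ : (ZMod p)ˣ →* Rˣ) (hχ : ∀ m : (ZMod p)ˣ, m ≠ 1 → IsUnit ((χ m : R) - 1))
    (A : Type u) [CommRing A] [HopfAlgebra R A]
    (hp : (WithConv.toConv (AlgHom.id R A)) ^ p = 1) :
    iSupIndep (fun i : Fin (p - 1) => OortTate.eigenAug R A p χ (i : ℕ)) ∧
      (⨆ i : Fin (p - 1), OortTate.eigenAug R A p χ (i : ℕ)) =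
        LinearMap.ker (Bialgebra.counitAlgHom R A).toLinearMap ∧
      ∀ i : Fin (p - 1), OortTate.eigenAug R A p χ (i : ℕ) =
        Submodule.map (OortTate.proj R A p u χ (i : ℕ))
          (LinearMap.ker (Bialgebra.counitAlgHom R A).toLinearMap) := by
  classical
  have hIle : ∀ i : ℕ, OortTate.eigenAug R A p χ i ≤
      LinearMap.ker (Bialgebra.counitAlgHom R A).toLinearMap := by
    intro i
    unfold OortTate.eigenAug
    exact inf_le_left
  have hmemI : ∀ f : A, f ∈ LinearMap.ker (Bialgebra.counitAlgHom R A).toLinearMap ↔
      Coalgebra.counit (R := R) f = 0 := by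
    intro f
    rw [LinearMap.mem_ker]
    rfl
  have hprojmem : ∀ (i : ℕ) (f : A), Coalgebra.counit (R := R) f = 0 →
      OortTate.proj R A p u χ i f ∈ OortTate.eigenAug R A p χ i := by
    intro i f hf
    rw [Groth.Agent.Helper22.OTLib.mem_eigenAug]
    exact ⟨Groth.Agent.Helper22.OTLib.counit_proj p u χ i f hf,
      fun m => Groth.Agent.Helper22.OTLib.T_proj p u χ hp i m f⟩
  refine ⟨?_, ?_, ?_⟩
  · rw [iSupIndep_def]
    intro i
    rw [Submodule.disjoint_def]
    intro x hxi hxs
    have h1 : OortTate.proj R A p u χ (i : ℕ) x = x := by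
      have := Groth.Agent.Helper22.OTLib.proj_eigen' p u hu χ hχ (i : ℕ) (i : ℕ) i.2 i.2 x
        ((Groth.Agent.Helper22.OTLib.mem_eigenAug p χ _ x).1 hxi).2
      rwa [if_pos rfl] at this
    have h2 : (⨆ j, ⨆ (_ : j ≠ i), OortTate.eigenAug R A p χ (j : ℕ)) ≤
        LinearMap.ker (OortTate.proj R A p u χ (i : ℕ)) := by
      refine iSup₂_le fun j hj => ?_
      intro y hy
      rw [LinearMap.mem_ker]
      have := Groth.Agent.Helper22.OTLib.proj_eigen' p u hu χ hχ (j : ℕ) (i : ℕ) j.2 i.2 y
        ((Groth.Agent.Helper22.OTLib.mem_eigenAug p χ _ y).1 hy).2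
      rwa [if_neg (fun h => hj (Fin.ext h))] at this
    have h3 := LinearMap.mem_ker.1 (h2 hxs)
    rw [← h1, h3]
  · apply le_antisymm
    · exact iSup_le fun i => hIle i
    · intro f hf
      have hf' := (hmemI f).1 hf
      rw [← Groth.Agent.Helper22.OTLib.sum_proj p u hu χ hχ f, ← Fin.sum_univ_eq_sum_range]
      refine Submodule.sum_mem _ fun i _ => ?_
      exact (le_iSup (fun i : Fin (p - 1) => OortTate.eigenAug R A p χ (i : ℕ)) i)
        (hprojmem (i : ℕ) f hf')
  · intro i
    apply le_antisymm
    · intro f hf
      have h1 : OortTate.proj R A p u χ (i : ℕ) f = f := by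
        have := Groth.Agent.Helper22.OTLib.proj_eigen' p u hu χ hχ (i : ℕ) (i : ℕ) i.2 i.2 f
          ((Groth.Agent.Helper22.OTLib.mem_eigenAug p χ _ f).1 hf).2
        rwa [if_pos rfl] at this
      exact ⟨f, hIle _ hf, h1⟩
    · rintro _ ⟨f, hf, rfl⟩
      exact hprojmem (i : ℕ) f ((hmemI f).1 hf)

end Groth.Agent.S18468
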