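import Groth.Statements.S18470

set_option autoImplicit false
universe u v
open OortTate

namespace Groth.Agent.S18470

/-- Let R be a commutative ring and A a commutative Hopf algebra over R which is finitely generated and
projective as an R-module (a finite locally free group scheme G = Spec A, not assumed commutative),
and let A^D = Hom_R(A, R) be the dual algebra with its Hopf structure (the Cartier dual when A is
cocommutative), whose counit is evaluation at 1. Then restriction of linear forms to the
augmentation ideal I = ker ε_A of A is a bijection from the augmentation ideal of A^D onto the dual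
module Hom_R(I, R): the dual of the augmentation ideal of G is the augmentation ideal of the dual.
The published statement is for a group scheme of order p over a Λ_p-algebra; the argument uses only
the splitting A = R·1 ⊕ ker ε. -/
theorem result
    (R : Type u) [CommRing R] (A : Type v) [CommRing A] [HopfAlgebra R A]
    [Module.Finite R A] [Module.Projective R A] :
    Function.Bijective (fun f : LinearMap.ker (Bialgebra.counitAlgHom R (CartDual.D R A)).toLinearMap =>
      ((CartDual.toDual R A) (f : CartDual.D R A)).comp
        (LinearMap.ker (Bialgebra.counitAlgHom R A).toLinearMap).subtype) := by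
  classical
  set I := LinearMap.ker (Bialgebra.counitAlgHom R A).toLinearMap with hI
  have hmemD : ∀ f : CartDual.D R A,
      f ∈ LinearMap.ker (Bialgebra.counitAlgHom R (CartDual.D R A)).toLinearMap ↔ f 1 = 0 := by
    intro f
    rw [LinearMap.mem_ker]
    rfl
  -- the projection onto the augmentation ideal
  have hπmem : ∀ a : A, a - (Coalgebra.counit (R := R) a) • (1 : A) ∈ I := by
    intro a
    rw [hI, LinearMap.mem_ker]
    simp
  let π : A →ₗ[R] I :=
    LinearMap.codRestrict I
      (LinearMap.id - (LinearMap.toSpanSingleton R A 1) ∘ₗ (Coalgebra.counit (R := R) (A := A)))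
      (fun a => by simpa using hπmem a)
  have hπ : ∀ a : A, (π a : A) = a - (Coalgebra.counit (R := R) a) • (1 : A) := by
    intro a; simp [π]
  have hπI : ∀ a : I, π a = a := by
    intro a
    apply Subtype.ext
    rw [hπ]
    have : Coalgebra.counit (R := R) (a : A) = 0 := by
      have h := LinearMap.mem_ker.1 a.2
      simpa using h
    rw [this, zero_smul, sub_zero]
  constructor
  · intro f g hfg
    apply Subtype.ext
    apply (CartDual.toDual R A).injective
    apply LinearMap.ext
    intro a
    have hf1 : (f : CartDual.D R A) 1 = 0 := (hmemD _).1 f.2
    have hg1 : (g : CartDual.D R A) 1 = 0 := (hmemD _).1 g.2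
    have hres := LinearMap.congr_fun hfg (π a)
    simp only [LinearMap.comp_apply, Submodule.subtype_apply, hπ] at hres
    have e1 : CartDual.toDual R A (f : CartDual.D R A) a =
        CartDual.toDual R A (f : CartDual.D R A) (a - (Coalgebra.counit (R := R) a) • (1 : A)) +
          (Coalgebra.counit (R := R) a) * CartDual.toDual R A (f : CartDual.D R A) 1 := by
      rw [map_sub, map_smul, smul_eq_mul]; ring
    have e2 : CartDual.toDual R A (g : CartDual.D R A) a =
        CartDual.toDual R A (g : CartDual.D R A) (a - (Coalgebra.counit (R := R) a) • (1 : A)) +
          (Coalgebra.counit (R := R) a) * CartDual.toDual R A (g : CartDual.D R A) 1 := by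
      rw [map_sub, map_smul, smul_eq_mul]; ring
    have hf1' : CartDual.toDual R A (f : CartDual.D R A) 1 = 0 := hf1
    have hg1' : CartDual.toDual R A (g : CartDual.D R A) 1 = 0 := hg1
    rw [e1, e2, hres, hf1', hg1']
  · intro g
    refine ⟨⟨(CartDual.toDual R A).symm (g ∘ₗ π), ?_⟩, ?_⟩
    · rw [hmemD]
      show (CartDual.toDual R A) ((CartDual.toDual R A).symm (g ∘ₗ π)) 1 = 0
      rw [LinearEquiv.apply_symm_apply, LinearMap.comp_apply]
      have : π 1 = 0 := by
        apply Subtype.ext
        rw [hπ]
        simp
      rw [this, map_zero]
    · apply LinearMap.ext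
      intro a
      show (CartDual.toDual R A) ((CartDual.toDual R A).symm (g ∘ₗ π)) (a : A) = g a
      rw [LinearEquiv.apply_symm_apply, LinearMap.comp_apply, hπI]

end Groth.Agent.S18470
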