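import Groth.Statements.S18472
import Mathlib
import Groth.Agent.Lib.Helper8.HopfCot

set_option autoImplicit false
universe u v
open Hopf

namespace Groth.Agent.S18472

open Groth.Agent.Helper8 TensorProduct

/-- Let R be a commutative ring and A a commutative Hopf algebra over R which is finitely generated and
projective as an R-module (a finite locally free group scheme G = Spec A over Spec R), and let I =
ker ε be its augmentation ideal. Then A is étale over R if and only if I² = I. (The published text
calls G finite flat, meaning that A is finitely generated and projective.) -/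
theorem result
    (R : Type u) [CommRing R] (A : Type v) [CommRing A] [HopfAlgebra R A]
    [Module.Finite R A] [Module.Projective R A] :
    Algebra.Etale R A ↔
      RingHom.ker (Bialgebra.counitAlgHom R A) ^ 2 = RingHom.ker (Bialgebra.counitAlgHom R A) := by
  classical
  set I := RingHom.ker (Bialgebra.counitAlgHom R A) with hI
  constructor
  · intro hE
    haveI : Algebra.FormallyUnramified R A := inferInstance
    obtain ⟨t, ht1, ht2⟩ :=
      (Algebra.FormallyUnramified.iff_exists_tensorProduct (R := R) (S := A)).mp inferInstance
    let φ : A ⊗[R] A →ₐ[R] A := Algebra.TensorProduct.productMap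
      ((Algebra.ofId R A).comp (Bialgebra.counitAlgHom R A)) (AlgHom.id R A)
    set e' := φ t with he'
    have hφ : ∀ a b : A, φ (a ⊗ₜ b) = algebraMap R A (Coalgebra.counit (R := R) a) * b := by
      intro a b
      simp [φ, Algebra.TensorProduct.productMap_apply_tmul, Algebra.ofId_apply]
    have h1 : ∀ s : A, (s - algebraMap R A (Coalgebra.counit (R := R) s)) * e' = 0 := by
      intro s
      have := congrArg φ (ht1 s)
      rw [map_mul, map_sub, hφ, hφ, map_zero] at this
      simpa using this
    have h2 : Coalgebra.counit (R := R) e' = 1 := by
      have h3 : ∀ z : A ⊗[R] A, Coalgebra.counit (R := R) (φ z) =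
          Coalgebra.counit (R := R) (Algebra.TensorProduct.lmul' R z) := by
        intro z
        induction z using TensorProduct.induction_on with
        | zero => simp
        | add x y hx hy => simp only [map_add, hx, hy]
        | tmul a b =>
          rw [hφ, Algebra.TensorProduct.lmul'_apply_tmul, Bialgebra.counit_mul,
            Bialgebra.counit_mul, Bialgebra.counit_algebraMap]
      rw [he', h3, ht2, Bialgebra.counit_one]
    have h4 : (1 - e') ∈ I := by
      rw [hI, RingHom.mem_ker, map_sub, map_one]
      show (1 : R) - Coalgebra.counit (R := R) e' = 0
      rw [h2, sub_self]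
    apply le_antisymm (Ideal.pow_le_self two_ne_zero)
    intro i hi
    have hi0 : Coalgebra.counit (R := R) i = 0 := hi
    have h5 := h1 i
    rw [hi0, map_zero, sub_zero] at h5
    have h6 : i = i * (1 - e') := by rw [mul_sub, mul_one, h5, sub_zero]
    rw [h6, pow_two]
    exact Ideal.mul_mem_mul hi h4
  · intro hsq
    have hidem : IsIdempotentElem I := by rw [IsIdempotentElem, ← pow_two, hsq]
    haveI : Subsingleton I.Cotangent := (Ideal.cotangent_subsingleton_iff I).mpr hidem
    have hz : ∀ z : A ⊗[R] I.Cotangent, z = 0 := by
      intro z
      induction z using TensorProduct.induction_on with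
      | zero => rfl
      | tmul a n => rw [Subsingleton.elim n 0, TensorProduct.tmul_zero]
      | add x y hx hy => rw [hx, hy, add_zero]
    have hD : ∀ a : A, KaehlerDifferential.D R A a = 0 := by
      intro a
      obtain ⟨l, hl⟩ := HopfCot.exists_lD (KaehlerDifferential.D R A) (HopfCot.piStd (R := R) (A := A))
        HopfCot.piStd_mem HopfCot.piStd_one
      rw [← HopfCot.lift_d (KaehlerDifferential.D R A) HopfCot.piStd l hl a,
        hz ((HopfCot.piStd (R := R) (A := A)).lTensor A (Coalgebra.comul (R := R) a)), map_zero]
    have hbot : Submodule.span A (Set.range (KaehlerDifferential.D R A)) = ⊥ := by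
      rw [Submodule.span_eq_bot]
      rintro _ ⟨a, rfl⟩
      exact hD a
    have hall : ∀ x : Ω[A⁄R], x = 0 := by
      intro x
      have hx : x ∈ Submodule.span A (Set.range (KaehlerDifferential.D R A)) := by
        rw [KaehlerDifferential.span_range_derivation]; exact Submodule.mem_top
      rw [hbot] at hx
      exact (Submodule.mem_bot A).mp hx
    haveI : Algebra.FormallyUnramified R A := ⟨⟨fun x y => by rw [hall x, hall y]⟩⟩
    haveI : Module.FinitePresentation R A := Module.finitePresentation_of_projective R A
    exact Algebra.Etale.of_formallyUnramified_of_flat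

end Groth.Agent.S18472
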