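import Groth.Statements.S18479
import Groth.Agent.Lib.Helper22.HopfTwo

set_option autoImplicit false
universe u v
open scoped TensorProduct
open OortTate

namespace Groth.Agent.S18479

/-- Let R be a commutative ring and A a commutative Hopf algebra over R whose augmentation ideal ker ε
is a free R-module of rank one with generator x (this is the situation of a group scheme of order 2
over a local ring: A free of rank 2, so ker ε is free of rank 1). Then there are a, b ∈ R with x² =
a·x, Δ(x) = x ⊗ 1 + 1 ⊗ x + b·(x ⊗ x), and ab = −2; thus A is the Hopf algebra R[T]/(T² − aT) with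
comultiplication T ↦ T ⊗ 1 + 1 ⊗ T + b T ⊗ T. (The copy works over a Noetherian local ring to get
freeness; the computation uses only that ker ε is free on x.) -/
theorem result
    (R : Type u) [CommRing R] (A : Type v) [CommRing A] [HopfAlgebra R A]
    (x : A) (hx : Bialgebra.counitAlgHom R A x = 0)
    (hgen : ∀ f : A, Bialgebra.counitAlgHom R A f = 0 → ∃ r : R, f = r • x)
    (hfree : ∀ r : R, r • x = 0 → r = 0) :
    ∃ a b : R, x * x = a • x ∧
      Bialgebra.comulAlgHom R A x = x ⊗ₜ[R] 1 + 1 ⊗ₜ[R] x + b • (x ⊗ₜ[R] x) ∧ a * b = -2 := by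
  have hG : Groth.Agent.Helper22.HopfTwo.Gen R x := by
    refine ⟨?_, ?_, hfree⟩
    · simpa using hx
    · intro f hf
      exact hgen f (by simpa using hf)
  let π := Groth.Agent.Helper22.HopfTwo.coord hG
  have hΔ := Groth.Agent.Helper22.HopfTwo.comul_x hG
  have hxx := Groth.Agent.Helper22.HopfTwo.x_mul_x hG
  have hπ1 : π 1 = 0 := Groth.Agent.Helper22.HopfTwo.coord_one hG
  have hπx : π x = 1 := Groth.Agent.Helper22.HopfTwo.coord_x hG
  set a : R := π (x * x) with ha
  set b : R := Groth.Agent.Helper22.HopfTwo.pair π π (Coalgebra.comul (R := R) x) with hb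
  refine ⟨a, b, hxx, ?_, ?_⟩
  · rw [Bialgebra.comulAlgHom_apply]
    exact hΔ
  · -- quadratic relation
    have h1 : Groth.Agent.Helper22.HopfTwo.pair π π (Coalgebra.comul (R := R) (x * x)) = a * b := by
      rw [hxx, map_smul, map_smul, smul_eq_mul]
    have h2 : Groth.Agent.Helper22.HopfTwo.pair π π (Coalgebra.comul (R := R) (x * x)) =
        2 + 4 * (a * b) + (a * b) ^ 2 := by
      rw [Bialgebra.comul_mul, hΔ]
      simp only [add_mul, mul_add, smul_mul_assoc, mul_smul_comm,
        Algebra.TensorProduct.tmul_mul_tmul, one_mul, mul_one, map_add, map_smul,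
        Groth.Agent.Helper22.HopfTwo.pair_tmul, smul_eq_mul, hπ1, hπx, ← ha]
      ring
    -- antipode relation
    have hS0 : Coalgebra.counit (R := R) (HopfAlgebra.antipode R x) = 0 := by
      rw [HopfAlgebra.counit_antipode]
      exact hG.counit_x
    have hSx := Groth.Agent.Helper22.HopfTwo.decomp hG (HopfAlgebra.antipode R x)
    rw [hS0, zero_smul, zero_add] at hSx
    set c : R := π (HopfAlgebra.antipode R x) with hc
    have h3 := HopfAlgebra.mul_antipode_rTensor_comul_apply (R := R) x
    rw [hG.counit_x, map_zero, hΔ] at h3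
    simp only [map_add, map_smul, LinearMap.rTensor_tmul, LinearMap.mul'_apply,
      HopfAlgebra.antipode_one, one_mul, mul_one] at h3
    rw [hSx, smul_mul_assoc, hxx] at h3
    have h4 : (c + 1 + b * (c * a)) • x = 0 := by
      rw [add_smul, add_smul, one_smul, mul_smul, mul_smul]
      exact h3
    have h5 := hfree _ h4
    have h6 : a * b = 2 + 4 * (a * b) + (a * b) ^ 2 := h1.symm.trans h2
    linear_combination (a * b + 2) * h5 + c * h6

end Groth.Agent.S18479
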