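import Groth.Statements.S18480
import Groth.Agent.Lib.Helper22.HopfTwo

set_option autoImplicit false
universe u v
open scoped TensorProduct
open OortTate

namespace Groth.Agent.S18480

/-- Let R be a commutative ring and let A and A' be commutative Hopf algebras over R whose augmentation
ideals are free of rank one with generators x and x', with constants a, b and a', b' ∈ R such that
x² = a x, Δ(x) = x ⊗ 1 + 1 ⊗ x + b x ⊗ x and x'² = a' x', Δ(x') = x' ⊗ 1 + 1 ⊗ x' + b' x' ⊗ x' (the
group schemes of order two G_{a,b} and G_{a',b'}). Then A and A' are isomorphic as bialgebras over R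
(G_{a,b} ≅ G_{a',b'} as group schemes) if and only if there is a unit s of R with a = a'·s and b' =
b·s. -/
theorem result
    (R : Type u) [CommRing R] (A : Type v) [CommRing A] [HopfAlgebra R A]
    (x : A) (hx : Bialgebra.counitAlgHom R A x = 0)
    (hgen : ∀ f : A, Bialgebra.counitAlgHom R A f = 0 → ∃ r : R, f = r • x)
    (hfree : ∀ r : R, r • x = 0 → r = 0)
    (a b : R) (hxa : x * x = a • x)
    (hxb : Bialgebra.comulAlgHom R A x = x ⊗ₜ[R] 1 + 1 ⊗ₜ[R] x + b • (x ⊗ₜ[R] x))
    (A' : Type v) [CommRing A'] [HopfAlgebra R A']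
    (x' : A') (hx' : Bialgebra.counitAlgHom R A' x' = 0)
    (hgen' : ∀ f : A', Bialgebra.counitAlgHom R A' f = 0 → ∃ r : R, f = r • x')
    (hfree' : ∀ r : R, r • x' = 0 → r = 0)
    (a' b' : R) (hxa' : x' * x' = a' • x')
    (hxb' : Bialgebra.comulAlgHom R A' x' = x' ⊗ₜ[R] 1 + 1 ⊗ₜ[R] x' + b' • (x' ⊗ₜ[R] x')) :
    Nonempty (A ≃ₐc[R] A') ↔ ∃ s : Rˣ, a = a' * (s : R) ∧ b' = b * (s : R) := by
  have hG : Groth.Agent.Helper22.HopfTwo.Gen R x :=
    ⟨by simpa using hx, fun f hf => hgen f (by simpa using hf), hfree⟩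
  have hG' : Groth.Agent.Helper22.HopfTwo.Gen R x' :=
    ⟨by simpa using hx', fun f hf => hgen' f (by simpa using hf), hfree'⟩
  have hΔ : Coalgebra.comul (R := R) x = x ⊗ₜ[R] 1 + 1 ⊗ₜ[R] x + b • (x ⊗ₜ[R] x) := by
    simpa using hxb
  have hΔ' : Coalgebra.comul (R := R) x' = x' ⊗ₜ[R] 1 + 1 ⊗ₜ[R] x' + b' • (x' ⊗ₜ[R] x') := by
    simpa using hxb'
  have ha : Groth.Agent.Helper22.HopfTwo.coord hG (x * x) = a :=
    (Groth.Agent.Helper22.HopfTwo.coord_eq hG (x * x) 0 a (by rw [hxa]; simp)).2
  have ha' : Groth.Agent.Helper22.HopfTwo.coord hG' (x' * x') = a' :=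
    (Groth.Agent.Helper22.HopfTwo.coord_eq hG' (x' * x') 0 a' (by rw [hxa']; simp)).2
  constructor
  · rintro ⟨Φ⟩
    have h0 : Coalgebra.counit (R := R) (Φ x) = 0 := by
      rw [CoalgHomClass.counit_comp_apply]
      exact hG.counit_x
    have hΦx := Groth.Agent.Helper22.HopfTwo.decomp hG' (Φ x)
    rw [h0, zero_smul, zero_add] at hΦx
    set s := Groth.Agent.Helper22.HopfTwo.coord hG' (Φ x) with hs
    have h0' : Coalgebra.counit (R := R) (Φ.symm x') = 0 := by
      rw [CoalgHomClass.counit_comp_apply]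
      exact hG'.counit_x
    have hΨx := Groth.Agent.Helper22.HopfTwo.decomp hG (Φ.symm x')
    rw [h0', zero_smul, zero_add] at hΨx
    set t := Groth.Agent.Helper22.HopfTwo.coord hG (Φ.symm x') with ht
    have hst : s * t = 1 := by
      have h1 : Φ.symm (Φ x) = x := Φ.symm_apply_apply x
      rw [hΦx, map_smul, hΨx, smul_smul] at h1
      have h2 : (s * t - 1) • x = 0 := by rw [sub_smul, one_smul, h1, sub_self]
      have h3 := hfree _ h2
      linear_combination h3
    refine ⟨⟨s, t, hst, by rw [mul_comm]; exact hst⟩, ?_, ?_⟩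
    · have h1 : Φ (x * x) = Φ x * Φ x := map_mul Φ x x
      rw [hxa, map_smul, hΦx, smul_mul_smul_comm, hxa', smul_smul, smul_smul] at h1
      have h2 : (a * s - s * s * a') • x' = 0 := by rw [sub_smul, h1, sub_self]
      have h3 := hfree' _ h2
      show a = a' * s
      linear_combination t * h3 - (a - a' * s) * hst
    · have h1 := CoalgHomClass.map_comp_comul_apply Φ x
      rw [hΔ, hΦx, map_smul, hΔ'] at h1
      have h2 := congrArg (Groth.Agent.Helper22.HopfTwo.pair
        (Groth.Agent.Helper22.HopfTwo.coord hG') (Groth.Agent.Helper22.HopfTwo.coord hG')) h1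
      simp only [map_add, map_smul, TensorProduct.map_tmul, LinearMap.coe_coe, hΦx, map_one,
        Groth.Agent.Helper22.HopfTwo.pair_tmul, Groth.Agent.Helper22.HopfTwo.coord_one,
        Groth.Agent.Helper22.HopfTwo.coord_x, smul_eq_mul] at h2
      show b' = b * s
      linear_combination (-t) * h2 - (b' - b * s) * hst
  · rintro ⟨s, hs1, hs2⟩
    have hst : (s : R) * ((s⁻¹ : Rˣ) : R) = 1 := by simp
    have hts : ((s⁻¹ : Rˣ) : R) * (s : R) = 1 := by simp
    have hc1 : Groth.Agent.Helper22.HopfTwo.coord hG (x * x) = a' * (s : R) := by rw [ha, hs1]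
    have hc2 : Groth.Agent.Helper22.HopfTwo.coord hG' (x' * x') = a * ((s⁻¹ : Rˣ) : R) := by
      rw [ha', hs1, mul_assoc, hst, mul_one]
    let F := Groth.Agent.Helper22.HopfTwo.scaleAlgHom hG x' (s : R) a' hxa' hc1
    let G := Groth.Agent.Helper22.HopfTwo.scaleAlgHom hG' x ((s⁻¹ : Rˣ) : R) a hxa hc2
    have hFx : F x = (s : R) • x' := Groth.Agent.Helper22.HopfTwo.scaleAlgHom_x hG x' _ a' hxa' hc1
    have hGx : G x' = ((s⁻¹ : Rˣ) : R) • x :=
      Groth.Agent.Helper22.HopfTwo.scaleAlgHom_x hG' x _ a hxa hc2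
    have hFG : F.comp G = AlgHom.id R A' := by
      apply AlgHom.toLinearMap_injective
      apply Groth.Agent.Helper22.HopfTwo.linearMap_ext hG'
      · simp
      · show F (G x') = x'
        rw [hGx, map_smul, hFx, smul_smul, hts, one_smul]
    have hGF : G.comp F = AlgHom.id R A := by
      apply AlgHom.toLinearMap_injective
      apply Groth.Agent.Helper22.HopfTwo.linearMap_ext hG
      · simp
      · show G (F x) = x
        rw [hFx, map_smul, hGx, smul_smul, hst, one_smul]
    let E : A ≃ₐ[R] A' := AlgEquiv.ofAlgHom F G hFG hGF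
    have hEx : E x = (s : R) • x' := hFx
    refine ⟨BialgEquiv.ofAlgEquiv E ?_ ?_⟩
    · apply AlgHom.toLinearMap_injective
      apply Groth.Agent.Helper22.HopfTwo.linearMap_ext hG
      · simp
      · show Coalgebra.counit (R := R) (E x) = Coalgebra.counit (R := R) x
        rw [hEx, map_smul, hG.counit_x, hG'.counit_x, smul_zero]
    · apply AlgHom.toLinearMap_injective
      apply Groth.Agent.Helper22.HopfTwo.linearMap_ext hG
      · show (Algebra.TensorProduct.map (E : A →ₐ[R] A') (E : A →ₐ[R] A'))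
          (Coalgebra.comul (R := R) (1 : A)) = Coalgebra.comul (R := R) (E 1)
        rw [Bialgebra.comul_one, map_one, map_one, Bialgebra.comul_one]
      · show (Algebra.TensorProduct.map (E : A →ₐ[R] A') (E : A →ₐ[R] A'))
          (Coalgebra.comul (R := R) x) = Coalgebra.comul (R := R) (E x)
        have e1 : (E : A →ₐ[R] A') x = (s : R) • x' := hFx
        have e2 : (E : A →ₐ[R] A') 1 = 1 := map_one _
        rw [hΔ, hEx, map_smul, hΔ', hs2]
        simp only [map_add, map_smul, Algebra.TensorProduct.map_tmul, e1, e2,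
          TensorProduct.tmul_smul, ← TensorProduct.smul_tmul']
        module

end Groth.Agent.S18480
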