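import Groth.Statements.S18490
import Mathlib

set_option autoImplicit false
universe u
open CategoryTheory CategoryTheory.Limits AlgebraicGeometry
open FlatMor

namespace Groth.Agent.S18490

section Helpers
open AlgebraicGeometry CategoryTheory CategoryTheory.Limits TopologicalSpace

theorem flat_of_ring_retract {A B C : Type u} [CommRing A] [CommRing B] [CommRing C]
    (φ : A →+* B) (i : B →+* C) (r : C →+* B) (hri : r.comp i = RingHom.id B)
    (hfl : (i.comp φ).Flat) : φ.Flat := by
  letI := φ.toAlgebra
  letI : Algebra A C := (i.comp φ).toAlgebra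
  let il : B →ₗ[A] C :=
    { toFun := i
      map_add' := map_add i
      map_smul' := fun a b => by
        simp only [Algebra.smul_def, RingHom.id_apply, map_mul]
        rfl }
  let rl : C →ₗ[A] B :=
    { toFun := r
      map_add' := map_add r
      map_smul' := fun a c => by
        simp only [Algebra.smul_def, RingHom.id_apply, map_mul]
        congr 1
        exact RingHom.congr_fun hri (φ a) }
  have hcomp : rl.comp il = LinearMap.id := by
    ext b
    exact RingHom.congr_fun hri b
  haveI : Module.Flat A C := hfl
  exact Module.Flat.of_retract il rl hcomp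

section
variable {X Y S : Scheme.{u}} (f : X ⟶ S) (g : Y ⟶ S) (y : S ⟶ Y)

/-- the section of the first projection induced by `y` -/
noncomputable def sec18490 (hy : y ≫ g = 𝟙 S) : X ⟶ pullback f g :=
  pullback.lift (𝟙 X) (f ≫ y) (by rw [Category.id_comp, Category.assoc, hy, Category.comp_id])

theorem sec18490_fst (hy : y ≫ g = 𝟙 S) : sec18490 f g y hy ≫ pullback.fst f g = 𝟙 X :=
  pullback.lift_fst _ _ _

theorem fac18490 (hy : y ≫ g = 𝟙 S) : f = sec18490 f g y hy ≫ (pullback.fst f g ≫ f) := by
  rw [← Category.assoc, sec18490_fst f g y hy, Category.id_comp]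

theorem qc18490 (hy : y ≫ g = 𝟙 S) (hq : QuasiCompact (pullback.fst f g ≫ f)) : QuasiCompact f := by
  have hsurj : Function.Surjective (pullback.fst f g) := fun x =>
    ⟨sec18490 f g y hy x, by rw [← Scheme.Hom.comp_apply, sec18490_fst f g y hy]; rfl⟩
  constructor
  intro U hU hUc
  have h1 := hq.isCompact_preimage U hU hUc
  have h2 : f ⁻¹' U = (pullback.fst f g) '' ((pullback.fst f g ≫ f) ⁻¹' U) := by
    have h3 : ((pullback.fst f g ≫ f) ⁻¹' U : Set _) = (pullback.fst f g) ⁻¹' (f ⁻¹' U) := rfl
    rw [h3, Set.image_preimage_eq _ hsurj]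
  rw [h2]
  exact h1.image (pullback.fst f g).continuous

theorem lft18490 (hy : y ≫ g = 𝟙 S) (hq : LocallyOfFiniteType (pullback.fst f g ≫ f)) : LocallyOfFiniteType f := by
  haveI := hq
  haveI : LocallyOfFiniteType (sec18490 f g y hy ≫ pullback.fst f g) := by
    rw [sec18490_fst f g y hy]; infer_instance
  haveI : LocallyOfFiniteType (sec18490 f g y hy) :=
    locallyOfFiniteType_of_comp (sec18490 f g y hy) (pullback.fst f g)
  rw [fac18490 f g y hy]
  infer_instance

theorem sep18490 (hy : y ≫ g = 𝟙 S) (hq : IsSeparated (pullback.fst f g ≫ f)) : IsSeparated f := by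
  haveI := hq
  haveI : Mono (sec18490 f g y hy) := mono_of_mono_fac (sec18490_fst f g y hy)
  rw [fac18490 f g y hy]
  infer_instance

set_option backward.isDefEq.respectTransparency false in
theorem flat18490 (hy : y ≫ g = 𝟙 S) (hq : Flat (pullback.fst f g ≫ f)) : Flat f := by
  haveI := hq
  have hs := sec18490_fst f g y hy
  rw [Flat.iff_flat_stalkMap]
  intro x
  have hx : (pullback.fst f g) (sec18490 f g y hy x) = x := by
    rw [← Scheme.Hom.comp_apply, hs]; rfl
  suffices h : (f.stalkMap ((pullback.fst f g) (sec18490 f g y hy x))).hom.Flat by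
    rw [hx] at h; exact h
  have hj : IsIso ((sec18490 f g y hy ≫ pullback.fst f g).stalkMap x) := by
    rw [hs]; infer_instance
  have hcomp : (sec18490 f g y hy ≫ pullback.fst f g).stalkMap x =
      (pullback.fst f g).stalkMap (sec18490 f g y hy x) ≫ (sec18490 f g y hy).stalkMap x :=
    Scheme.Hom.stalkMap_comp (sec18490 f g y hy) (pullback.fst f g) x
  have hir : (pullback.fst f g).stalkMap (sec18490 f g y hy x) ≫
      ((sec18490 f g y hy).stalkMap x ≫
        inv ((sec18490 f g y hy ≫ pullback.fst f g).stalkMap x)) = 𝟙 _ := by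
    rw [← Category.assoc, ← hcomp, IsIso.hom_inv_id]
  have hh : (pullback.fst f g ≫ f).stalkMap (sec18490 f g y hy x) =
      f.stalkMap ((pullback.fst f g) (sec18490 f g y hy x)) ≫
        (pullback.fst f g).stalkMap (sec18490 f g y hy x) :=
    Scheme.Hom.stalkMap_comp (pullback.fst f g) f (sec18490 f g y hy x)
  have hflat := Flat.stalkMap (pullback.fst f g ≫ f) (sec18490 f g y hy x)
  rw [hh] at hflat
  exact flat_of_ring_retract (f.stalkMap ((pullback.fst f g) (sec18490 f g y hy x))).hom
    ((pullback.fst f g).stalkMap (sec18490 f g y hy x)).hom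
    ((sec18490 f g y hy).stalkMap x ≫
      inv ((sec18490 f g y hy ≫ pullback.fst f g).stalkMap x)).hom
    (by rw [← CommRingCat.hom_comp, hir]; rfl) hflat

end

end Helpers

/-- Let f : X → S and g : Y → S be morphisms of schemes and suppose that g has a section y : S → Y. If
the structure morphism X ×_S Y → S (first projection followed by f) is quasi-compact, then so is f;
likewise for locally of finite type, for separated, and for flat. (Finite type, also listed in the
source, is the conjunction of the first two.) -/
theorem result {X Y S : Scheme.{u}} (f : X ⟶ S) (g : Y ⟶ S)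
    (y : S ⟶ Y) (hy : y ≫ g = 𝟙 S) :
    (QuasiCompact (pullback.fst f g ≫ f) → QuasiCompact f) ∧
    (LocallyOfFiniteType (pullback.fst f g ≫ f) → LocallyOfFiniteType f) ∧
    (IsSeparated (pullback.fst f g ≫ f) → IsSeparated f) ∧
    (Flat (pullback.fst f g ≫ f) → Flat f) := by
  exact ⟨qc18490 f g y hy, lft18490 f g y hy, sep18490 f g y hy, flat18490 f g y hy⟩

end Groth.Agent.S18490
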