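import Mathlib
import Groth.Statements.S18498
-- import your own Groth.Agent.* helpers here

set_option autoImplicit false
universe u
open CategoryTheory CategoryTheory.Limits AlgebraicGeometry MonObj
open Neron

namespace Groth.Agent.S18498


/-- Let R be a Dedekind domain with fraction field K, X a Spec R-scheme which is flat over Spec R, Y a
Spec R-scheme which is separated over Spec R, and f, g : X → Y two R-morphisms whose restrictions to
generic fibres X_K → Y_K are equal. Then f = g: an R-morphism from a flat R-scheme to a separated
R-scheme is determined by its generic fibre. (The source states this for algebraic spaces over a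
connected Dedekind scheme; the case of schemes over an affine base is stated.) -/
theorem result (R : Type u) [CommRing R] [IsDedekindDomain R]
    (X Y : Over (Spec (CommRingCat.of R))) [Flat X.hom] [IsSeparated Y.hom] (f g : X ⟶ Y)
    (h : (Neron.genericFibre R).map f = (Neron.genericFibre R).map g) : f = g := by
  haveI hdom : IsDominant (Neron.genPt R) := by
    refine ⟨?_⟩
    have h0 : DenseRange (PrimeSpectrum.comap (algebraMap R (FractionRing R))) :=
      (PrimeSpectrum.denseRange_comap_iff_ker_le_nilRadical _).mpr (by
        rw [(RingHom.injective_iff_ker_eq_bot _).mp (IsFractionRing.injective R (FractionRing R))]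
        exact bot_le)
    exact h0
  haveI : IsSchemeTheoreticallyDominant (Neron.genPt R) :=
    IsSchemeTheoreticallyDominant.of_isDominant _
  haveI : IsSchemeTheoreticallyDominant (pullback.fst X.hom (Neron.genPt R)) := inferInstance
  have hfst : ∀ φ : X ⟶ Y, ((Neron.genericFibre R).map φ).left ≫
      pullback.fst Y.hom (Neron.genPt R) = pullback.fst X.hom (Neron.genPt R) ≫ φ.left := by
    intro φ
    exact pullback.lift_fst _ _ _
  have hj : pullback.fst X.hom (Neron.genPt R) ≫ f.left =
      pullback.fst X.hom (Neron.genPt R) ≫ g.left := by
    rw [← hfst f, ← hfst g, h]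
  have hker : (equalizer.ι f g).left.ker = ⊥ := by
    obtain ⟨j', hj'def⟩ : ∃ j' : Over.mk (pullback.fst X.hom (Neron.genPt R) ≫ X.hom) ⟶ X,
        j'.left = pullback.fst X.hom (Neron.genPt R) :=
      ⟨Over.homMk (pullback.fst X.hom (Neron.genPt R)), rfl⟩
    have hj' : j' ≫ f = j' ≫ g := by
      ext1
      rw [Over.comp_left, Over.comp_left, hj'def]
      exact hj
    have hfac : (equalizer.lift j' hj').left ≫ (equalizer.ι f g).left =
        pullback.fst X.hom (Neron.genPt R) := by
      rw [← Over.comp_left, equalizer.lift_ι, hj'def]
    have hle := Scheme.Hom.le_ker_comp (equalizer.lift j' hj').left (equalizer.ι f g).left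
    rw [hfac, Scheme.Hom.ker_eq_bot (pullback.fst X.hom (Neron.genPt R))] at hle
    exact le_bot_iff.mp hle
  haveI : IsIso (equalizer.ι f g).left := IsClosedImmersion.isIso_iff_ker_eq_bot.mpr hker
  have hfin : (equalizer.ι f g).left ≫ f.left = (equalizer.ι f g).left ≫ g.left := by
    rw [← Over.comp_left, ← Over.comp_left, equalizer.condition f g]
  ext1
  exact (cancel_epi (equalizer.ι f g).left).mp hfin

end Groth.Agent.S18498
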