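import Groth.Statements.S18538
import Mathlib

set_option autoImplicit false
universe u
open EtAlg

namespace Groth.Agent.S18538

/-- Let A ⊆ B be an injective finite extension of integrally closed domains, with fraction fields K ⊆ L
and L separable over K. Then A → B → B ⊗_A B is exact, the second map being b ↦ b ⊗ 1 - 1 ⊗ b: every
element of B whose two images in B ⊗_A B agree comes from A. -/
theorem result
    (A B K L : Type u) [CommRing A] [CommRing B] [IsDomain A] [IsDomain B]
    [IsIntegrallyClosed A] [IsIntegrallyClosed B] [Algebra A B] [FaithfulSMul A B] [Module.Finite A B]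
    [Field K] [Field L] [Algebra A K] [IsFractionRing A K] [Algebra B L] [IsFractionRing B L]
    [Algebra K L] [Algebra A L] [IsScalarTower A K L] [IsScalarTower A B L]
    [Algebra.IsSeparable K L] :
    Algebra.IsEffective A B := by
  intro b
  constructor
  · intro hb
    let fL : B →ₗ[A] L := (IsScalarTower.toAlgHom A B L).toLinearMap
    let Φ : TensorProduct A B B →ₗ[A] TensorProduct K L L :=
      (TensorProduct.mapOfCompatibleSMul K A A L L).comp (TensorProduct.map fL fL)
    have h1 : Φ (Algebra.TensorProduct.includeLeftSubRight A B b) =
        Algebra.TensorProduct.includeLeftSubRight K L (algebraMap B L b) := by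
      simp [Φ, fL, Algebra.TensorProduct.includeLeftSubRight_apply]
    have h2 : Algebra.TensorProduct.includeLeftSubRight K L (algebraMap B L b) = 0 := by
      rw [← h1, hb, map_zero]
    have hKL : Algebra.IsEffective K L := Algebra.IsEffective.of_faithfullyFlat K L
    obtain ⟨κ, hκ⟩ := (hKL _).1 h2
    have hκ' : algebraMap K L κ = algebraMap B L b := hκ
    have hint : IsIntegral A κ := by
      have h3 : IsIntegral A (algebraMap B L b) :=
        (Algebra.IsIntegral.isIntegral (R := A) b).map (IsScalarTower.toAlgHom A B L)
      rw [← hκ'] at h3
      exact (isIntegral_algebraMap_iff (algebraMap K L).injective).1 h3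
    obtain ⟨a, ha⟩ := IsIntegrallyClosed.algebraMap_eq_of_integral hint
    refine ⟨a, ?_⟩
    apply IsFractionRing.injective B L
    change algebraMap B L (algebraMap A B a) = _
    rw [← hκ', ← ha, ← IsScalarTower.algebraMap_apply, ← IsScalarTower.algebraMap_apply]
  · exact Algebra.TensorProduct.includeLeftSubRight_zero_of_mem_range

end Groth.Agent.S18538
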