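import Groth.Statements.S18544
import Mathlib

set_option autoImplicit false
universe u
open CAlg

namespace Groth.Agent.S18544

/-- Let F be an algebraically closed field of characteristic zero, n a natural number, and N a nonzero
polynomial over F in the n² matrix entries whose evaluation on n × n matrices is multiplicative,
N(xy) = N(x)·N(y) for all x, y (a norm form on the matrix algebra M_n(F) over F). Then N is a
natural power of the determinant: for some m, N(x) = det(x)^m for every matrix x. The published
statement concerns norm forms of any central simple algebra over a subfield; this row is the case of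
the full matrix algebra over an algebraically closed field, which is the case its proof treats. -/
theorem result (F : Type u) [Field F] [IsAlgClosed F]
    [CharZero F] (n : ℕ) (N : MvPolynomial (Fin n × Fin n) F) (hN : N ≠ 0)
    (hmul : ∀ x y : Matrix (Fin n) (Fin n) F,
      MvPolynomial.eval (fun ij : Fin n × Fin n => (x * y) ij.1 ij.2) N =
        MvPolynomial.eval (fun ij : Fin n × Fin n => x ij.1 ij.2) N * MvPolynomial.eval (fun ij : Fin n × Fin n => y ij.1 ij.2) N) :
    ∃ m : ℕ, ∀ x : Matrix (Fin n) (Fin n) F,
      MvPolynomial.eval (fun ij : Fin n × Fin n => x ij.1 ij.2) N = x.det ^ m := by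
  classical
  obtain ⟨ν, hν⟩ : ∃ ν : Matrix (Fin n) (Fin n) F → F, ∀ x, ν x =
      MvPolynomial.eval (fun ij : Fin n × Fin n => x ij.1 ij.2) N := ⟨_, fun _ => rfl⟩
  have hm : ∀ x y, ν (x * y) = ν x * ν y := by
    intro x y
    rw [hν, hν, hν]
    exact hmul x y
  have h1 : ν 1 = 1 := by
    have hsq : ν 1 = ν 1 * ν 1 := by rw [← hm, one_mul]
    have h01 : ν 1 * (ν 1 - 1) = 0 := by rw [mul_sub, mul_one, ← hsq, sub_self]
    rcases mul_eq_zero.mp h01 with h | h
    · exfalso
      apply hN
      apply MvPolynomial.funext
      intro f
      rw [map_zero]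
      have h2 := hm (Matrix.of fun i j => f (i, j)) 1
      rw [mul_one, h, mul_zero, hν] at h2
      exact h2
    · exact sub_eq_zero.mp h
  have hunit : ∀ x y : Matrix (Fin n) (Fin n) F, x * y = 1 → ν x ≠ 0 := by
    intro x y hxy h0
    have h3 := hm x y
    rw [hxy, h1, h0, zero_mul] at h3
    exact one_ne_zero h3
  -- transvections
  have htv : ∀ (i j : Fin n), i ≠ j → ∀ c : F, ν (Matrix.transvection i j c) = 1 := by
    intro i j hij c
    have hD : Matrix.diagonal (fun a => if a = i then (2 : F) else 1) * Matrix.transvection i j c
        = Matrix.transvection i j (c + c) *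
          Matrix.diagonal (fun a => if a = i then (2 : F) else 1) := by
      ext a b
      rw [Matrix.diagonal_mul, Matrix.mul_diagonal, Matrix.transvection, Matrix.transvection,
        Matrix.add_apply, Matrix.add_apply, Matrix.one_apply, Matrix.single_apply,
        Matrix.single_apply]
      by_cases h : i = a ∧ j = b
      · obtain ⟨rfl, rfl⟩ := h
        simp [hij, hij.symm, two_mul]
      · rw [if_neg h, if_neg h, add_zero]
        by_cases hab : a = b
        · subst hab
          simp
        · rw [if_neg hab, mul_zero, zero_mul]
    have hDne : ν (Matrix.diagonal (fun a => if a = i then (2 : F) else 1)) ≠ 0 := by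
      apply hunit _ (Matrix.diagonal (fun a => if a = i then (2 : F)⁻¹ else 1))
      rw [Matrix.diagonal_mul_diagonal]
      have : (fun a => (if a = i then (2 : F) else 1) * (if a = i then (2 : F)⁻¹ else 1))
          = fun _ => 1 := by
        funext a
        split_ifs <;> simp
      rw [this, Matrix.diagonal_one]
    have h4 : ν (Matrix.transvection i j c) =
        ν (Matrix.transvection i j c) * ν (Matrix.transvection i j c) := by
      have h5 := congrArg ν hD
      rw [hm, hm, ← Matrix.transvection_mul_transvection_same i j hij, hm] at h5
      have h6 : ν (Matrix.diagonal (fun a => if a = i then (2 : F) else 1)) *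
          ν (Matrix.transvection i j c) =
          ν (Matrix.diagonal (fun a => if a = i then (2 : F) else 1)) *
          (ν (Matrix.transvection i j c) * ν (Matrix.transvection i j c)) := by
        rw [h5]; ring
      exact mul_left_cancel₀ hDne h6
    have h7 : ν (Matrix.transvection i j c) * ν (Matrix.transvection i j (-c)) = 1 := by
      rw [← hm, Matrix.transvection_mul_transvection_same i j hij, add_neg_cancel,
        Matrix.transvection_zero, h1]
    have hTne : ν (Matrix.transvection i j c) ≠ 0 := left_ne_zero_of_mul_eq_one h7
    have h8 : ν (Matrix.transvection i j c) * ν (Matrix.transvection i j c) =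
        ν (Matrix.transvection i j c) * 1 := by
      rw [mul_one]; exact h4.symm
    exact mul_left_cancel₀ hTne h8
  -- permutation invariance on diagonal matrices
  have hperm : ∀ (σ : Equiv.Perm (Fin n)) (d : Fin n → F),
      ν (Matrix.diagonal d) = ν (Matrix.diagonal (d ∘ σ)) := by
    intro σ d
    obtain ⟨A, hA⟩ : ∃ A : Matrix (Fin n) (Fin n) F,
        A = Matrix.of fun a b => if σ a = b then (1 : F) else 0 := ⟨_, rfl⟩
    obtain ⟨A', hA'⟩ : ∃ A' : Matrix (Fin n) (Fin n) F,
        A' = Matrix.of fun a b => if σ.symm a = b then (1 : F) else 0 := ⟨_, rfl⟩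
    have hAA' : A * A' = 1 := by
      ext a b
      rw [hA, hA', Matrix.mul_apply]
      simp only [Matrix.of_apply, Matrix.one_apply]
      rw [Finset.sum_eq_single (σ a)]
      · simp
      · intro c _ hc
        rw [if_neg (Ne.symm hc), zero_mul]
      · intro h
        exact absurd (Finset.mem_univ _) h
    have hcomm : A * Matrix.diagonal d = Matrix.diagonal (d ∘ σ) * A := by
      ext a b
      rw [Matrix.mul_diagonal, Matrix.diagonal_mul, hA, Matrix.of_apply, Function.comp_apply]
      by_cases h : σ a = b
      · rw [if_pos h, h, one_mul, mul_one]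
      · rw [if_neg h, zero_mul, mul_zero]
    have hAne : ν A ≠ 0 := hunit A A' hAA'
    have h7 := congrArg ν hcomm
    rw [hm, hm] at h7
    have h8 : ν A * ν (Matrix.diagonal d) = ν A * ν (Matrix.diagonal (d ∘ σ)) := by
      rw [h7, mul_comm]
    exact mul_left_cancel₀ hAne h8
  -- characters
  have hchi : ∀ i : Fin n, ∃ m : ℕ, ∀ t : F,
      ν (Matrix.diagonal (fun a => if a = i then t else 1)) = t ^ m := by
    intro i
    obtain ⟨g, hg⟩ : ∃ g : Fin n × Fin n → Polynomial F, g = fun ab =>
        if ab.1 = ab.2 then (if ab.1 = i then Polynomial.X else 1) else 0 := ⟨_, rfl⟩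
    have hp : ∀ t : F, (MvPolynomial.aeval g N).eval t =
        ν (Matrix.diagonal (fun a => if a = i then t else 1)) := by
      intro t
      have hgen : ∀ M : MvPolynomial (Fin n × Fin n) F, (MvPolynomial.aeval g M).eval t =
          MvPolynomial.eval (fun ab => (g ab).eval t) M := by
        intro M
        induction M using MvPolynomial.induction_on with
        | C a => simp
        | add p q hp hq => simp [hp, hq]
        | mul_X p ab hp => simp [hp]
      rw [hgen, hν]
      refine congrArg (fun f => MvPolynomial.eval f N) ?_
      funext ab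
      rw [hg, Matrix.diagonal_apply]
      beta_reduce
      split_ifs <;> simp
    obtain ⟨p, hpdef⟩ : ∃ p : Polynomial F, p = MvPolynomial.aeval g N := ⟨_, rfl⟩
    rw [← hpdef] at hp
    have hp1 : p.eval 1 = 1 := by
      rw [hp]
      have : (fun a => if a = i then (1 : F) else 1) = fun _ => 1 := by
        funext a
        simp
      rw [this, Matrix.diagonal_one, h1]
    have hpm : ∀ s t : F, p.eval (s * t) = p.eval s * p.eval t := by
      intro s t
      rw [hp, hp, hp, ← hm, Matrix.diagonal_mul_diagonal]
      refine congrArg (fun f => ν (Matrix.diagonal f)) ?_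
      funext a
      split_ifs <;> simp
    have hpne : p ≠ 0 := by
      intro h0
      rw [h0, Polynomial.eval_zero] at hp1
      exact zero_ne_one hp1
    refine ⟨p.natDegree, fun t => ?_⟩
    have hcomp : p.comp (Polynomial.C t * Polynomial.X) = Polynomial.C (p.eval t) * p := by
      apply Polynomial.funext
      intro s
      rw [Polynomial.eval_comp, Polynomial.eval_mul, Polynomial.eval_mul, Polynomial.eval_C,
        Polynomial.eval_X, Polynomial.eval_C, hpm]
    have hc := congrArg (fun q => q.coeff p.natDegree) hcomp
    simp only [Polynomial.comp_C_mul_X_coeff, Polynomial.coeff_C_mul] at hc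
    have hlc : p.coeff p.natDegree ≠ 0 := by
      rwa [Polynomial.coeff_natDegree, Ne, Polynomial.leadingCoeff_eq_zero]
    rw [← hp t]
    have h9 : p.coeff p.natDegree * p.eval t = p.coeff p.natDegree * t ^ p.natDegree := by
      rw [mul_comm]; exact hc.symm
    exact mul_left_cancel₀ hlc h9
  choose mf hmf using hchi
  have hdiag : ∀ d : Fin n → F, ν (Matrix.diagonal d) =
      ∏ i, ν (Matrix.diagonal (fun a => if a = i then d i else 1)) := by
    intro d
    have hs : ∀ s : Finset (Fin n), ν (Matrix.diagonal (fun a => if a ∈ s then d a else 1)) =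
        ∏ i ∈ s, ν (Matrix.diagonal (fun a => if a = i then d i else 1)) := by
      intro s
      induction s using Finset.induction_on with
      | empty => simp [h1]
      | insert b s hb ih =>
        rw [Finset.prod_insert hb, ← ih, ← hm, Matrix.diagonal_mul_diagonal]
        refine congrArg (fun f => ν (Matrix.diagonal f)) ?_
        funext a
        by_cases hab : a = b
        · subst hab
          simp [hb]
        · simp [hab]
    have h10 := hs Finset.univ
    simpa using h10
  have hsw : ∀ (i j : Fin n) (t : F), ν (Matrix.diagonal (fun a => if a = i then t else 1)) =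
      ν (Matrix.diagonal (fun a => if a = j then t else 1)) := by
    intro i j t
    rw [hperm (Equiv.swap i j) (fun a => if a = i then t else 1)]
    refine congrArg (fun f => ν (Matrix.diagonal f)) ?_
    funext a
    simp only [Function.comp_apply]
    by_cases haj : a = j
    · subst haj
      simp
    · rw [if_neg haj, if_neg]
      intro h
      apply haj
      have h11 := congrArg (Equiv.swap i j) h
      simpa using h11
  refine ⟨if h : 0 < n then mf ⟨0, h⟩ else 0, fun x => ?_⟩
  rw [← hν]
  refine Matrix.diagonal_transvection_induction
    (fun x => ν x = x.det ^ (if h : 0 < n then mf ⟨0, h⟩ else 0)) x ?_ ?_ ?_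
  · intro d _
    show ν (Matrix.diagonal d) = _
    rw [hdiag, Matrix.det_diagonal, ← Finset.prod_pow]
    refine Finset.prod_congr rfl fun i _ => ?_
    have hn : 0 < n := i.pos
    rw [dif_pos hn, hsw i ⟨0, hn⟩, hmf]
  · intro t
    show ν t.toMatrix = _
    rw [Matrix.TransvectionStruct.det, one_pow]
    exact htv t.i t.j t.hij t.c
  · intro A B hA hB
    have hA' : ν A = A.det ^ (if h : 0 < n then mf ⟨0, h⟩ else 0) := hA
    have hB' : ν B = B.det ^ (if h : 0 < n then mf ⟨0, h⟩ else 0) := hB
    show ν (A * B) = _
    rw [hm, hA', hB', Matrix.det_mul, mul_pow]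

end Groth.Agent.S18544
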