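import Groth.Statements.S18545
import Mathlib

set_option autoImplicit false
universe u
open AbVar

namespace Groth.Agent.S18545

/-- A step in the proof of Tate's isogeny result over finite fields, in linear-algebra form. Let K be a
field and V a K-vector space of finite dimension 2g carrying a nondegenerate alternating bilinear
form e. Let F be a K-subalgebra of End(V) which is isomorphic as a K-algebra to a finite product K ×
⋯ × K and which is spanned over K by a set S of similitudes of e (for each s in S there is a nonzero
scalar c with e(s x, s y) = c·e(x, y) for all x, y). Let D be a set of endomorphisms of V such that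
every F-stable isotropic subspace W of dimension g (a maximal isotropic subspace) is D-stable. Then
every F-stable isotropic subspace of V is D-stable. (In the application V is the rational ℓ-adic
Tate module of an abelian variety over a finite field with the Riemann form of a polarisation, F the
algebra generated by the Galois group, split for the chosen ℓ, and D the commutant of the image of
the endomorphism algebra; the hypothesis on maximal isotropic subspaces is the step obtained from
the finiteness of isomorphism classes.) -/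
theorem result (K : Type u) [Field K]
    (V : Type u) [AddCommGroup V] [Module K V] [FiniteDimensional K V] (g : ℕ) (hV : Module.finrank K V = 2 * g)
    (e : LinearMap.BilinForm K V) (he : e.IsAlt) (hnd : e.Nondegenerate)
    (F : Subalgebra K (Module.End K V)) (r : ℕ) (hF : Nonempty (F ≃ₐ[K] (Fin r → K)))
    (S : Set (Module.End K V)) (hS : Submodule.span K S = Subalgebra.toSubmodule F)
    (hsim : ∀ s ∈ S, ∃ c : K, c ≠ 0 ∧ ∀ x y : V, e (s x) (s y) = c * e x y)
    (D : Set (Module.End K V))
    (hmax : ∀ W : Submodule K V, (∀ f ∈ F, ∀ w ∈ W, f w ∈ W) → (∀ x ∈ W, ∀ y ∈ W, e x y = 0) →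
      Module.finrank K W = g → ∀ d ∈ D, ∀ w ∈ W, d w ∈ W)
    (W : Submodule K V) (hWF : ∀ f ∈ F, ∀ w ∈ W, f w ∈ W) (hWiso : ∀ x ∈ W, ∀ y ∈ W, e x y = 0) :
    ∀ d ∈ D, ∀ w ∈ W, d w ∈ W := by
  classical
  obtain ⟨φ⟩ := hF
  have hskew : ∀ x y, e x y = - e y x := fun x y => (LinearMap.IsAlt.neg he y x).symm
  have hSinj : ∀ s ∈ S, Function.Injective s := by
    intro s hs
    obtain ⟨c, hc, hcs⟩ := hsim s hs
    rw [← LinearMap.ker_eq_bot, LinearMap.ker_eq_bot']
    intro x hx
    apply hnd.1 x
    intro y
    have := hcs x y
    rw [hx, map_zero, LinearMap.zero_apply] at this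
    exact (mul_eq_zero.1 this.symm).resolve_left hc
  have hOrth : ∀ W : Submodule K V, (∀ f ∈ F, ∀ w ∈ W, f w ∈ W) →
      ∀ f ∈ F, ∀ x ∈ e.orthogonal W, f x ∈ e.orthogonal W := by
    intro W hWF f hf
    have hf' : f ∈ Submodule.span K S := by rw [hS]; exact hf
    refine Submodule.span_induction
      (p := fun f _ => ∀ x ∈ e.orthogonal W, f x ∈ e.orthogonal W) ?_ ?_ ?_ ?_ hf'
    · intro s hs x hx
      obtain ⟨c, hc, hcs⟩ := hsim s hs
      have hsF : s ∈ F := by
        have : s ∈ Submodule.span K S := Submodule.subset_span hs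
        rw [hS] at this; exact this
      have hsurj : ∀ w ∈ W, ∃ w' ∈ W, s w' = w := by
        have hinj : Function.Injective (s.restrict (fun w hw => hWF s hsF w hw)) := by
          intro a b hab
          apply Subtype.ext
          apply hSinj s hs
          have := congrArg Subtype.val hab
          simpa using this
        have hsur := (LinearMap.injective_iff_surjective
          (f := s.restrict (fun w hw => hWF s hsF w hw))).1 hinj
        intro w hw
        obtain ⟨⟨w', hw'⟩, h⟩ := hsur ⟨w, hw⟩
        exact ⟨w', hw', by simpa using congrArg Subtype.val h⟩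
      rw [LinearMap.BilinForm.mem_orthogonal_iff]
      intro w hw
      obtain ⟨w', hw', rfl⟩ := hsurj w hw
      rw [hcs, (LinearMap.BilinForm.mem_orthogonal_iff.1 hx) w' hw', mul_zero]
    · intro x hx; simp
    · intro f₁ f₂ _ _ h₁ h₂ x hx
      rw [LinearMap.add_apply]; exact Submodule.add_mem _ (h₁ x hx) (h₂ x hx)
    · intro a f _ h x hx
      rw [LinearMap.smul_apply]; exact Submodule.smul_mem _ _ (h x hx)
  -- idempotents
  obtain ⟨ε, hε⟩ : ∃ ε : Fin r → Module.End K V,
      ε = fun i => ((φ.symm (Pi.single i 1) : F) : Module.End K V) := ⟨_, rfl⟩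
  have hεF : ∀ i, ε i ∈ F := fun i => by rw [hε]; exact (φ.symm (Pi.single i 1)).2
  have hεsum : ∑ i, ε i = 1 := by
    have h1 : (∑ i, φ.symm (Pi.single i (1:K)) : F) = 1 := by
      rw [← map_sum]
      have : (∑ i, Pi.single i (1:K) : Fin r → K) = 1 := by
        ext j; simp [Finset.sum_apply, Pi.single_apply]
      rw [this, map_one]
    have := congrArg (Subalgebra.val F) h1
    rw [hε]
    simpa using this
  have hεeig : ∀ f (hf : f ∈ F), ∀ i, f * ε i = (φ ⟨f, hf⟩ i) • ε i := by
    intro f hf i
    have h1 : (⟨f, hf⟩ : F) * φ.symm (Pi.single i 1) =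
        (φ ⟨f, hf⟩ i) • φ.symm (Pi.single i 1) := by
      apply φ.injective
      rw [map_mul, map_smul, φ.apply_symm_apply]
      ext j
      by_cases hj : j = i
      · subst hj; simp
      · simp [Pi.single_apply, hj]
    have := congrArg (Subalgebra.val F) h1
    rw [hε]
    simpa using this
  have hsumapply : ∀ u : V, u = ∑ i, ε i u := by
    intro u
    rw [← LinearMap.sum_apply, hεsum]; rfl
  have main : ∀ n : ℕ, ∀ W : Submodule K V, (∀ f ∈ F, ∀ w ∈ W, f w ∈ W) →
      (∀ x ∈ W, ∀ y ∈ W, e x y = 0) → g - Module.finrank K W = n →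
      ∀ d ∈ D, ∀ w ∈ W, d w ∈ W := by
    intro n
    induction n using Nat.strong_induction_on with
    | _ n ih =>
      intro W hWF hWiso hn
      have hWle : W ≤ e.orthogonal W := fun x hx =>
        LinearMap.BilinForm.mem_orthogonal_iff.2 (fun y hy => hWiso y hy x hx)
      have hdimU : Module.finrank K (e.orthogonal W) = 2 * g - Module.finrank K W := by
        rw [LinearMap.BilinForm.finrank_orthogonal hnd, hV]
      have hle : Module.finrank K W ≤ g := by
        have := Submodule.finrank_mono hWle
        rw [hdimU] at this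
        lia
      rcases Nat.lt_or_ge (Module.finrank K W) g with hlt | hge
      swap
      · exact hmax W hWF hWiso (le_antisymm hle hge)
      have hUstab := hOrth W hWF
      have hUorth : ∀ x ∈ e.orthogonal W, ∀ w ∈ W, e w x = 0 := fun x hx =>
        LinearMap.BilinForm.mem_orthogonal_iff.1 hx
      obtain ⟨U, hU⟩ : ∃ U, U = e.orthogonal W := ⟨_, rfl⟩
      rw [← hU] at hWle hdimU hUstab hUorth
      have step1 : ∃ i, ∃ u ∈ U, ε i u ∉ W := by
        by_contra hcon
        push Not at hcon
        have hUW : U ≤ W := by
          intro u hu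
          rw [hsumapply u]
          exact Submodule.sum_mem _ (fun i _ => hcon i u hu)
        have := Submodule.finrank_mono hUW
        lia
      obtain ⟨i₁, u₁, hu₁, ht₁⟩ := step1
      have ht₁0 : ε i₁ u₁ ≠ 0 := fun h => ht₁ (by rw [h]; exact W.zero_mem)
      have step2 : ∃ i, ∃ u ∈ U, ε i u ∉ W ⊔ Submodule.span K {ε i₁ u₁} := by
        by_contra hcon
        push Not at hcon
        have hUW : U ≤ W ⊔ Submodule.span K {ε i₁ u₁} := by
          intro u hu
          rw [hsumapply u]
          exact Submodule.sum_mem _ (fun i _ => hcon i u hu)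
        have h1 := Submodule.finrank_mono hUW
        have h2 := Submodule.finrank_add_le_finrank_add_finrank W (Submodule.span K {ε i₁ u₁})
        have h3 : Module.finrank K (Submodule.span K {ε i₁ u₁}) = 1 :=
          finrank_span_singleton ht₁0
        lia
      obtain ⟨i₂, u₂, hu₂, ht₂⟩ := step2
      have ht₂W : ε i₂ u₂ ∉ W := fun h => ht₂ (Submodule.mem_sup_left h)
      have ext1 : ∀ i, ∀ u ∈ U, ε i u ∉ W → ∀ d ∈ D, ∀ x ∈ W ⊔ Submodule.span K {ε i u},
          d x ∈ W ⊔ Submodule.span K {ε i u} := by
        intro i u hu ht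
        have htU : ε i u ∈ U := hUstab (ε i) (hεF i) u hu
        apply ih (g - Module.finrank K ↥(W ⊔ Submodule.span K {ε i u})) ?_
          (W ⊔ Submodule.span K {ε i u}) ?_ ?_ rfl
        · have hlt' : W < W ⊔ Submodule.span K {ε i u} := by
            refine lt_of_le_of_ne le_sup_left ?_
            intro heq
            apply ht
            rw [heq]
            exact Submodule.mem_sup_right (Submodule.mem_span_singleton_self _)
          have := Submodule.finrank_lt_finrank_of_lt hlt'
          lia
        · intro f hf x hx
          obtain ⟨w, hw, y, hy, rfl⟩ := Submodule.mem_sup.1 hx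
          obtain ⟨a, rfl⟩ := Submodule.mem_span_singleton.1 hy
          rw [map_add, map_smul]
          refine Submodule.add_mem _ (Submodule.mem_sup_left (hWF f hf w hw))
            (Submodule.mem_sup_right ?_)
          have hfe : f (ε i u) = (φ ⟨f, hf⟩ i) • ε i u := by
            have := congrArg (fun h : Module.End K V => h u) (hεeig f hf i)
            simpa using this
          rw [hfe]
          exact Submodule.smul_mem _ _ (Submodule.smul_mem _ _
            (Submodule.mem_span_singleton_self _))
        · intro x hx y hy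
          obtain ⟨w, hw, x', hx', rfl⟩ := Submodule.mem_sup.1 hx
          obtain ⟨a, rfl⟩ := Submodule.mem_span_singleton.1 hx'
          obtain ⟨w', hw', y', hy', rfl⟩ := Submodule.mem_sup.1 hy
          obtain ⟨b, rfl⟩ := Submodule.mem_span_singleton.1 hy'
          have h1 : e w w' = 0 := hWiso w hw w' hw'
          have h2 : e w (ε i u) = 0 := hUorth _ htU w hw
          have h3 : e (ε i u) w' = 0 := by rw [hskew, hUorth _ htU w' hw', neg_zero]
          have h4 : e (ε i u) (ε i u) = 0 := he.self_eq_zero _
          simp [h1, h2, h3, h4]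
      intro d hd w hw
      have m1 := ext1 i₁ u₁ hu₁ ht₁ d hd w (Submodule.mem_sup_left hw)
      have m2 := ext1 i₂ u₂ hu₂ ht₂W d hd w (Submodule.mem_sup_left hw)
      obtain ⟨w₁, hw₁, y₁, hy₁, h₁⟩ := Submodule.mem_sup.1 m1
      obtain ⟨a, rfl⟩ := Submodule.mem_span_singleton.1 hy₁
      obtain ⟨w₂, hw₂, y₂, hy₂, h₂⟩ := Submodule.mem_sup.1 m2
      obtain ⟨b, rfl⟩ := Submodule.mem_span_singleton.1 hy₂
      by_cases hb : b = 0
      · rw [← h₂, hb, zero_smul, add_zero]; exact hw₂
      · exfalso
        apply ht₂
        have hmem : b • ε i₂ u₂ ∈ W ⊔ Submodule.span K {ε i₁ u₁} := by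
          have : b • ε i₂ u₂ = w₁ + a • ε i₁ u₁ - w₂ := by rw [h₁.trans h₂.symm]; abel
          rw [this]
          exact Submodule.sub_mem _ (Submodule.add_mem _ (Submodule.mem_sup_left hw₁)
            (Submodule.mem_sup_right (Submodule.smul_mem _ _
              (Submodule.mem_span_singleton_self _)))) (Submodule.mem_sup_left hw₂)
        have := Submodule.smul_mem _ b⁻¹ hmem
        rwa [smul_smul, inv_mul_cancel₀ hb, one_smul] at this
  exact main _ W hWF hWiso rfl

end Groth.Agent.S18545
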