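import Groth.Statements.S18546
import Groth.Agent.H23.TensorSq

set_option autoImplicit false
open scoped TensorProduct
universe u v
open GalCoh

namespace Groth.Agent.S18546

theorem aux1 : ∀ p q r : ZMod 2, p = q + r → q = p + r := by decide

theorem aux2 : ∀ x0 x1 y0 y1 : ZMod 2, ¬(x0 = 0 ∧ x1 = 0) → ¬(y0 = 0 ∧ y1 = 0) →
    ¬(x0 = y0 ∧ x1 = y1) →
    (x0 * x0 + y0 * y0 + x0 * y0 = x1 * x1 + y1 * y1 + x1 * y1 ∧
      x0 * x0 + y0 * y0 + x0 * y0 =
        (x0 * x1 + y0 * y1 + x0 * y1) + (x1 * x0 + y1 * y0 + x1 * y0)) := by decide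

/-- Let G be a group acting linearly on a vector space V of dimension 2 over the field 𝔽₂ with two
elements. Then the short exact sequence of G-modules 0 → V → S²V → Λ²V → 0 (v ↦ v·v, x·y ↦ x ∧ y)
splits G-equivariantly. Here, for a vector space V over the field with two elements carrying a
linear action ρ of a group G, write N_a ⊆ V ⊗ V for the span of the tensors v ⊗ v and N_s ⊆ N_a for
the span of the tensors x ⊗ y + y ⊗ x, so that S²V = (V ⊗ V)/N_s, Λ²V = (V ⊗ V)/N_a and the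
surjection S²V → Λ²V, x·y ↦ x ∧ y, is G-equivariant for the diagonal action; a G-equivariant linear
section of this surjection is the same thing as a G-stable subspace W of V ⊗ V with W ∩ N_a = N_s
and W + N_a = V ⊗ V, which is how the splitting is stated. (The source has the absolute Galois group
of a field acting continuously; any group is allowed here.) -/
theorem result (G : Type u) [Group G] (V : Type v)
    [AddCommGroup V] [Module (ZMod 2) V] (hV : Module.finrank (ZMod 2) V = 2)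
    (ρ : Representation (ZMod 2) G V) :
    ∃ W : Submodule (ZMod 2) (V ⊗[ZMod 2] V),
      (∀ g : G, ∀ w ∈ W, ρ.tprod ρ g w ∈ W) ∧
      W ⊓ Submodule.span (ZMod 2) (Set.range fun v : V => v ⊗ₜ[ZMod 2] v) =
        Submodule.span (ZMod 2) (Set.range fun p : V × V => p.1 ⊗ₜ[ZMod 2] p.2 + p.2 ⊗ₜ[ZMod 2] p.1) ∧
      W ⊔ Submodule.span (ZMod 2) (Set.range fun v : V => v ⊗ₜ[ZMod 2] v) = ⊤ := by
  classical
  haveI : Module.Finite (ZMod 2) V := Module.finite_of_finrank_pos (by rw [hV]; norm_num)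
  obtain ⟨bb⟩ : Nonempty (Module.Basis (Fin 2) (ZMod 2) V) :=
    ⟨Module.finBasisOfFinrankEq (ZMod 2) V hV⟩
  obtain ⟨B, hB⟩ : ∃ B : Module.Basis (Fin 2 × Fin 2) (ZMod 2) (V ⊗[ZMod 2] V),
      B = bb.tensorProduct bb := ⟨_, rfl⟩
  have hBapp : ∀ i j, B (i, j) = bb i ⊗ₜ[ZMod 2] bb j := fun i j => by
    rw [hB]; exact Module.Basis.tensorProduct_apply bb bb i j
  have hrepr : ∀ (x y : V) (i j : Fin 2),
      B.repr (x ⊗ₜ[ZMod 2] y) (i, j) = bb.repr x i * bb.repr y j := by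
    intro x y i j
    rw [hB, Module.Basis.tensorProduct_repr_tmul_apply, smul_eq_mul, mul_comm]
  have hexp : ∀ z : V ⊗[ZMod 2] V, z = B.repr z (0, 0) • (bb 0 ⊗ₜ[ZMod 2] bb 0) +
      B.repr z (0, 1) • (bb 0 ⊗ₜ[ZMod 2] bb 1) + B.repr z (1, 0) • (bb 1 ⊗ₜ[ZMod 2] bb 0) +
      B.repr z (1, 1) • (bb 1 ⊗ₜ[ZMod 2] bb 1) := by
    intro z
    conv_lhs => rw [← B.sum_repr z]
    rw [Fintype.sum_prod_type, Fin.sum_univ_two, Fin.sum_univ_two, Fin.sum_univ_two]
    simp only [hBapp]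
    abel
  -- coordinates of the basis vectors
  have r00 : bb.repr (bb 0) 0 = 1 := by rw [Module.Basis.repr_self, Finsupp.single_apply]; simp
  have r01 : bb.repr (bb 0) 1 = 0 := by rw [Module.Basis.repr_self, Finsupp.single_apply]; simp
  have r10 : bb.repr (bb 1) 0 = 0 := by rw [Module.Basis.repr_self, Finsupp.single_apply]; simp
  have r11 : bb.repr (bb 1) 1 = 1 := by rw [Module.Basis.repr_self, Finsupp.single_apply]; simp
  obtain ⟨t, ht⟩ : ∃ t : V ⊗[ZMod 2] V,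
      t = bb 0 ⊗ₜ[ZMod 2] bb 1 + bb 1 ⊗ₜ[ZMod 2] bb 0 := ⟨_, rfl⟩
  obtain ⟨w, hw⟩ : ∃ w : V ⊗[ZMod 2] V,
      w = bb 0 ⊗ₜ[ZMod 2] bb 0 + bb 1 ⊗ₜ[ZMod 2] bb 1 + bb 0 ⊗ₜ[ZMod 2] bb 1 := ⟨_, rfl⟩
  obtain ⟨W, hW⟩ : ∃ W : Submodule (ZMod 2) (V ⊗[ZMod 2] V),
      W = Submodule.span (ZMod 2) {t, w} := ⟨_, rfl⟩
  have htW : t ∈ W := by rw [hW]; exact Submodule.subset_span (by simp)
  have hwW : w ∈ W := by rw [hW]; exact Submodule.subset_span (by simp)
  have hmemW : ∀ z : V ⊗[ZMod 2] V, B.repr z (0, 0) = B.repr z (1, 1) →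
      B.repr z (0, 0) = B.repr z (0, 1) + B.repr z (1, 0) → z ∈ W := by
    intro z h1 h2
    have hq := aux1 _ _ _ h2
    have : z = B.repr z (0, 0) • w + B.repr z (1, 0) • t := by
      conv_lhs => rw [hexp z, ← h1, hq]
      rw [hw, ht]
      simp only [add_smul, smul_add]; abel
    rw [this]
    exact add_mem (Submodule.smul_mem _ _ hwW) (Submodule.smul_mem _ _ htW)
  have hne0 : ∀ x : V, x ≠ 0 → ¬ (bb.repr x 0 = 0 ∧ bb.repr x 1 = 0) := by
    rintro x hx ⟨h0, h1⟩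
    apply hx
    apply bb.ext_elem
    intro i
    rw [map_zero, Finsupp.zero_apply]
    exact (Fin.forall_fin_two (p := fun i => bb.repr x i = 0)).mpr ⟨h0, h1⟩ i
  have hne : ∀ x y : V, x ≠ y → ¬ (bb.repr x 0 = bb.repr y 0 ∧ bb.repr x 1 = bb.repr y 1) := by
    rintro x y hxy ⟨h0, h1⟩
    apply hxy
    apply bb.ext_elem
    intro i
    exact (Fin.forall_fin_two (p := fun i => bb.repr x i = bb.repr y i)).mpr ⟨h0, h1⟩ i
  have hq : ∀ x y : V, x ≠ 0 → y ≠ 0 → x ≠ y →
      x ⊗ₜ[ZMod 2] x + y ⊗ₜ[ZMod 2] y + x ⊗ₜ[ZMod 2] y ∈ W := by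
    intro x y hx hy hxy
    obtain ⟨e1, e2⟩ := aux2 _ _ _ _ (hne0 x hx) (hne0 y hy) (hne x y hxy)
    apply hmemW
    · simp only [map_add, Finsupp.add_apply, hrepr]
      exact e1
    · simp only [map_add, Finsupp.add_apply, hrepr]
      exact e2
  have hNsW : Submodule.span (ZMod 2)
      (Set.range fun p : V × V => p.1 ⊗ₜ[ZMod 2] p.2 + p.2 ⊗ₜ[ZMod 2] p.1) ≤ W := by
    refine Submodule.span_le.mpr ?_
    rintro _ ⟨⟨x, y⟩, rfl⟩
    refine Groth.Agent.H23.TensorSq.symm_mem_of_span bb bb.span_eq W ?_ x y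
    rw [Fin.forall_fin_two]
    constructor <;> rw [Fin.forall_fin_two] <;> refine ⟨?_, ?_⟩
    · rw [ZModModule.add_self]; exact zero_mem _
    · rw [← ht]; exact htW
    · rw [add_comm, ← ht]; exact htW
    · rw [ZModModule.add_self]; exact zero_mem _
  have htNs : t ∈ Submodule.span (ZMod 2)
      (Set.range fun p : V × V => p.1 ⊗ₜ[ZMod 2] p.2 + p.2 ⊗ₜ[ZMod 2] p.1) := by
    rw [ht]
    exact Submodule.subset_span (Set.mem_range_self
      (f := fun p : V × V => p.1 ⊗ₜ[ZMod 2] p.2 + p.2 ⊗ₜ[ZMod 2] p.1) (bb 0, bb 1))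
  refine ⟨W, ?_, ?_, ?_⟩
  · intro g z hz
    rw [hW] at hz
    induction hz using Submodule.span_induction with
    | mem x hx =>
      rcases hx with rfl | hx
      · -- x = t
        rw [ht, map_add, Representation.tprod_apply, TensorProduct.map_tmul, TensorProduct.map_tmul]
        exact hNsW (Submodule.subset_span (Set.mem_range_self
          (f := fun p : V × V => p.1 ⊗ₜ[ZMod 2] p.2 + p.2 ⊗ₜ[ZMod 2] p.1)
          (ρ g (bb 0), ρ g (bb 1))))
      · -- x = w
        rw [Set.mem_singleton_iff] at hx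
        subst hx
        rw [hw, map_add, map_add, Representation.tprod_apply, TensorProduct.map_tmul,
          TensorProduct.map_tmul, TensorProduct.map_tmul]
        have hinj := Groth.Agent.H23.TensorSq.rep_injective ρ g
        refine hq _ _ ?_ ?_ ?_
        · rw [← map_zero (ρ g)]; exact fun h => bb.ne_zero 0 (hinj h)
        · rw [← map_zero (ρ g)]; exact fun h => bb.ne_zero 1 (hinj h)
        · exact fun h => absurd (bb.injective (hinj h)) (by decide)
    | zero => rw [map_zero]; exact zero_mem _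
    | add x y _ _ hx hy => rw [map_add]; exact add_mem hx hy
    | smul c x _ hx => rw [map_smul]; exact Submodule.smul_mem _ _ hx
  · apply le_antisymm
    · rintro z ⟨hzW, hzNa⟩
      obtain ⟨ℓ, hℓ⟩ : ∃ ℓ : (V ⊗[ZMod 2] V) →ₗ[ZMod 2] ZMod 2,
          ℓ = B.coord (0, 1) + B.coord (1, 0) := ⟨_, rfl⟩
      have hℓapp : ∀ z, ℓ z = B.repr z (0, 1) + B.repr z (1, 0) := fun z => by
        rw [hℓ, LinearMap.add_apply, Module.Basis.coord_apply, Module.Basis.coord_apply]
      have hNa : Submodule.span (ZMod 2) (Set.range fun v : V => v ⊗ₜ[ZMod 2] v) ≤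
          LinearMap.ker ℓ := by
        refine Submodule.span_le.mpr ?_
        rintro _ ⟨v, rfl⟩
        show ℓ (v ⊗ₜ[ZMod 2] v) = 0
        rw [hℓapp, hrepr, hrepr, mul_comm, CharTwo.add_self_eq_zero]
      have hℓt : ℓ t = 0 := by
        rw [hℓapp, ht]
        simp only [map_add, Finsupp.add_apply, hrepr, r00, r01, r10, r11]
        decide
      have hℓw : ℓ w = 1 := by
        rw [hℓapp, hw]
        simp only [map_add, Finsupp.add_apply, hrepr, r00, r01, r10, r11]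
        decide
      rw [hW] at hzW
      obtain ⟨α, β, rfl⟩ := Submodule.mem_span_pair.mp hzW
      have h0 : ℓ (α • t + β • w) = 0 := hNa hzNa
      rw [map_add, map_smul, map_smul, hℓt, hℓw, smul_zero, zero_add, smul_eq_mul, mul_one] at h0
      rw [h0, zero_smul, add_zero]
      exact Submodule.smul_mem _ _ htNs
    · exact le_inf hNsW Groth.Agent.H23.TensorSq.Ns_le_Na
  · rw [eq_top_iff, ← B.span_eq, Submodule.span_le]
    have hsq : ∀ v : V, v ⊗ₜ[ZMod 2] v ∈
        W ⊔ Submodule.span (ZMod 2) (Set.range fun v : V => v ⊗ₜ[ZMod 2] v) := fun v =>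
      Submodule.mem_sup_right (Submodule.subset_span ⟨v, rfl⟩)
    have h01 : bb 0 ⊗ₜ[ZMod 2] bb 1 ∈
        W ⊔ Submodule.span (ZMod 2) (Set.range fun v : V => v ⊗ₜ[ZMod 2] v) := by
      have : bb 0 ⊗ₜ[ZMod 2] bb 1 = w - bb 0 ⊗ₜ[ZMod 2] bb 0 - bb 1 ⊗ₜ[ZMod 2] bb 1 := by
        rw [hw]; abel
      rw [this]
      exact sub_mem (sub_mem (Submodule.mem_sup_left hwW) (hsq _)) (hsq _)
    have hall : ∀ i j : Fin 2, bb i ⊗ₜ[ZMod 2] bb j ∈
        W ⊔ Submodule.span (ZMod 2) (Set.range fun v : V => v ⊗ₜ[ZMod 2] v) := by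
      rw [Fin.forall_fin_two]
      constructor <;> rw [Fin.forall_fin_two] <;> refine ⟨?_, ?_⟩
      · exact hsq _
      · exact h01
      · have : bb 1 ⊗ₜ[ZMod 2] bb 0 = t - bb 0 ⊗ₜ[ZMod 2] bb 1 := by rw [ht]; abel
        rw [this]
        exact sub_mem (Submodule.mem_sup_left htW) h01
      · exact hsq _
    rintro _ ⟨⟨i, j⟩, rfl⟩
    rw [hBapp]
    exact hall i j

end Groth.Agent.S18546
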