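import Groth.Statements.S18547
import Mathlib

set_option autoImplicit false
open scoped TensorProduct
universe u v
open GalCoh

namespace Groth.Agent.S18547


open TensorProduct

section Fin

def E (A X : Fin 3 → Fin 3 → ZMod 2) (i j : Fin 3) : ZMod 2 :=
  A i 0 * A j 0 * X 0 0 + A i 0 * A j 1 * X 0 1 + A i 0 * A j 2 * X 0 2
  + A i 1 * A j 0 * X 1 0 + A i 1 * A j 1 * X 1 1 + A i 1 * A j 2 * X 1 2
  + A i 2 * A j 0 * X 2 0 + A i 2 * A j 1 * X 2 1 + A i 2 * A j 2 * X 2 2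

def orr (x y : ZMod 2) : ZMod 2 := x + y + x * y

def Mp (a b c : ZMod 2) : Fin 3 → Fin 3 → ZMod 2 :=
  ![![orr a b, a, b], ![0, orr a c, c], ![0, 0, orr b c]]

def Om (a b c : ZMod 2) : Fin 3 → Fin 3 → ZMod 2 :=
  ![![0, a, b], ![a, 0, c], ![b, c, 0]]

theorem eta33 (A : Fin 3 → Fin 3 → ZMod 2) :
    A = ![![A 0 0, A 0 1, A 0 2], ![A 1 0, A 1 1, A 1 2], ![A 2 0, A 2 1, A 2 2]] := by
  funext i j; fin_cases i <;> fin_cases j <;> rfl

set_option maxRecDepth 100000 in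
theorem FL' : ∀ x00 x01 x02 x10 x11 x12 x20 x21 x22 a b c : ZMod 2,
    (∀ i j, E ![![x00, x01, x02], ![x10, x11, x12], ![x20, x21, x22]] (Om a b c) i j = Om a b c i j) →
    ∀ i j, (E ![![x00, x01, x02], ![x10, x11, x12], ![x20, x21, x22]] (Mp a b c) i j - Mp a b c i j = E ![![x00, x01, x02], ![x10, x11, x12], ![x20, x21, x22]] (Mp a b c) j i - Mp a b c j i) ∧
      (E ![![x00, x01, x02], ![x10, x11, x12], ![x20, x21, x22]] (Mp a b c) i i - Mp a b c i i = 0) := by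
  decide +kernel

theorem FL (A : Fin 3 → Fin 3 → ZMod 2) (a b c : ZMod 2)
    (h : ∀ i j, E A (Om a b c) i j = Om a b c i j) :
    ∀ i j, (E A (Mp a b c) i j - Mp a b c i j = E A (Mp a b c) j i - Mp a b c j i) ∧
      (E A (Mp a b c) i i - Mp a b c i i = 0) := by
  have key := FL' (A 0 0) (A 0 1) (A 0 2) (A 1 0) (A 1 1) (A 1 2) (A 2 0) (A 2 1) (A 2 2) a b c
  rw [← eta33 A] at key
  exact key h

set_option maxRecDepth 100000 in
theorem FL1' : ∀ m00 m01 m02 m10 m11 m12 m20 m21 m22 : ZMod 2, ∀ i j,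
    Mp (m01 + m10) (m02 + m20) (m12 + m21) i j - ![![m00, m01, m02], ![m10, m11, m12], ![m20, m21, m22]] i j
      = Mp (m01 + m10) (m02 + m20) (m12 + m21) j i - ![![m00, m01, m02], ![m10, m11, m12], ![m20, m21, m22]] j i := by
  decide +kernel

theorem FL1 (M : Fin 3 → Fin 3 → ZMod 2) (i j : Fin 3) :
    Mp (M 0 1 + M 1 0) (M 0 2 + M 2 0) (M 1 2 + M 2 1) i j - M i j
      = Mp (M 0 1 + M 1 0) (M 0 2 + M 2 0) (M 1 2 + M 2 1) j i - M j i := by
  have key := FL1' (M 0 0) (M 0 1) (M 0 2) (M 1 0) (M 1 1) (M 1 2) (M 2 0) (M 2 1) (M 2 2) i j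
  rw [← eta33 M] at key
  exact key

set_option maxRecDepth 100000 in
theorem FLΩ' : ∀ m00 m01 m02 m10 m11 m12 m20 m21 m22 : ZMod 2, ∀ k l,
    Om (m01 + m10) (m02 + m20) (m12 + m21) k l = ![![m00, m01, m02], ![m10, m11, m12], ![m20, m21, m22]] k l + ![![m00, m01, m02], ![m10, m11, m12], ![m20, m21, m22]] l k := by
  decide +kernel

theorem FLΩ (M : Fin 3 → Fin 3 → ZMod 2) (k l : Fin 3) :
    Om (M 0 1 + M 1 0) (M 0 2 + M 2 0) (M 1 2 + M 2 1) k l = M k l + M l k := by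
  have key := FLΩ' (M 0 0) (M 0 1) (M 0 2) (M 1 0) (M 1 1) (M 1 2) (M 2 0) (M 2 1) (M 2 2) k l
  rw [← eta33 M] at key
  exact key

theorem char2lemma : ∀ x y z w : ZMod 2, x - y = z - w → x + z = y + w := by decide

end Fin

section Aux
variable {V : Type v} [AddCommGroup V] [Module (ZMod 2) V]

local notation "𝔑a" => Submodule.span (ZMod 2) (Set.range fun v : V => v ⊗ₜ[ZMod 2] v)
local notation "𝔑s" => Submodule.span (ZMod 2)
  (Set.range fun p : V × V => Prod.fst p ⊗ₜ[ZMod 2] Prod.snd p + Prod.snd p ⊗ₜ[ZMod 2] Prod.fst p)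

theorem sq_mem (x : V) : x ⊗ₜ[ZMod 2] x ∈ 𝔑a := Submodule.subset_span ⟨x, rfl⟩

theorem sym_mem_Ns (x y : V) : x ⊗ₜ[ZMod 2] y + y ⊗ₜ[ZMod 2] x ∈ 𝔑s :=
  Submodule.subset_span ⟨(x, y), rfl⟩

theorem sym_mem_Na (x y : V) : x ⊗ₜ[ZMod 2] y + y ⊗ₜ[ZMod 2] x ∈ 𝔑a := by
  have e : x ⊗ₜ[ZMod 2] y + y ⊗ₜ[ZMod 2] x
      = (x + y) ⊗ₜ[ZMod 2] (x + y) - x ⊗ₜ[ZMod 2] x - y ⊗ₜ[ZMod 2] y := by
    rw [TensorProduct.add_tmul, TensorProduct.tmul_add, TensorProduct.tmul_add]; abel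
  rw [e]
  exact sub_mem (sub_mem (sq_mem _) (sq_mem _)) (sq_mem _)

theorem expand_tau (b : Module.Basis (Fin 3) (ZMod 2) V) (τ : V ⊗[ZMod 2] V) :
    (b.tensorProduct b).repr τ (0, 0) • b 0 ⊗ₜ[ZMod 2] b 0
      + (b.tensorProduct b).repr τ (0, 1) • b 0 ⊗ₜ[ZMod 2] b 1
      + (b.tensorProduct b).repr τ (0, 2) • b 0 ⊗ₜ[ZMod 2] b 2
      + ((b.tensorProduct b).repr τ (1, 0) • b 1 ⊗ₜ[ZMod 2] b 0
      + (b.tensorProduct b).repr τ (1, 1) • b 1 ⊗ₜ[ZMod 2] b 1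
      + (b.tensorProduct b).repr τ (1, 2) • b 1 ⊗ₜ[ZMod 2] b 2)
      + ((b.tensorProduct b).repr τ (2, 0) • b 2 ⊗ₜ[ZMod 2] b 0
      + (b.tensorProduct b).repr τ (2, 1) • b 2 ⊗ₜ[ZMod 2] b 1
      + (b.tensorProduct b).repr τ (2, 2) • b 2 ⊗ₜ[ZMod 2] b 2) = τ := by
  have hτ := (b.tensorProduct b).sum_repr τ
  rw [Fintype.sum_prod_type] at hτ
  simp only [Fin.sum_univ_three, Module.Basis.tensorProduct_apply] at hτ
  exact hτ

theorem mem_Ns_of_alt (b : Module.Basis (Fin 3) (ZMod 2) V) (τ : V ⊗[ZMod 2] V)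
    (h : ∀ i j, (b.tensorProduct b).repr τ (i, j) = (b.tensorProduct b).repr τ (j, i))
    (h0 : ∀ i, (b.tensorProduct b).repr τ (i, i) = 0) : τ ∈ 𝔑s := by
  have e : τ = (b.tensorProduct b).repr τ (0, 1) • (b 0 ⊗ₜ[ZMod 2] b 1 + b 1 ⊗ₜ[ZMod 2] b 0)
      + (b.tensorProduct b).repr τ (0, 2) • (b 0 ⊗ₜ[ZMod 2] b 2 + b 2 ⊗ₜ[ZMod 2] b 0)
      + (b.tensorProduct b).repr τ (1, 2) • (b 1 ⊗ₜ[ZMod 2] b 2 + b 2 ⊗ₜ[ZMod 2] b 1) := by
    conv_lhs => rw [← expand_tau b τ]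
    rw [h0 0, h0 1, h0 2, h 1 0, h 2 0, h 2 1]
    simp only [zero_smul, smul_add]; abel
  rw [e]
  exact add_mem (add_mem (Submodule.smul_mem _ _ (sym_mem_Ns _ _))
    (Submodule.smul_mem _ _ (sym_mem_Ns _ _))) (Submodule.smul_mem _ _ (sym_mem_Ns _ _))

theorem mem_Na_of_sym (b : Module.Basis (Fin 3) (ZMod 2) V) (τ : V ⊗[ZMod 2] V)
    (h : ∀ i j, (b.tensorProduct b).repr τ (i, j) = (b.tensorProduct b).repr τ (j, i)) :
    τ ∈ 𝔑a := by
  have e : τ = (b.tensorProduct b).repr τ (0, 0) • (b 0 ⊗ₜ[ZMod 2] b 0)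
      + (b.tensorProduct b).repr τ (1, 1) • (b 1 ⊗ₜ[ZMod 2] b 1)
      + (b.tensorProduct b).repr τ (2, 2) • (b 2 ⊗ₜ[ZMod 2] b 2)
      + (b.tensorProduct b).repr τ (0, 1) • (b 0 ⊗ₜ[ZMod 2] b 1 + b 1 ⊗ₜ[ZMod 2] b 0)
      + (b.tensorProduct b).repr τ (0, 2) • (b 0 ⊗ₜ[ZMod 2] b 2 + b 2 ⊗ₜ[ZMod 2] b 0)
      + (b.tensorProduct b).repr τ (1, 2) • (b 1 ⊗ₜ[ZMod 2] b 2 + b 2 ⊗ₜ[ZMod 2] b 1) := by
    conv_lhs => rw [← expand_tau b τ]
    rw [h 1 0, h 2 0, h 2 1]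
    simp only [smul_add]; abel
  rw [e]
  exact add_mem (add_mem (add_mem (add_mem (add_mem (Submodule.smul_mem _ _ (sq_mem _))
    (Submodule.smul_mem _ _ (sq_mem _))) (Submodule.smul_mem _ _ (sq_mem _)))
    (Submodule.smul_mem _ _ (sym_mem_Na _ _))) (Submodule.smul_mem _ _ (sym_mem_Na _ _)))
    (Submodule.smul_mem _ _ (sym_mem_Na _ _))

theorem sym_of_mem_Na (b : Module.Basis (Fin 3) (ZMod 2) V) (τ : V ⊗[ZMod 2] V)
    (hτ : τ ∈ 𝔑a) (i j : Fin 3) :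
    (b.tensorProduct b).repr τ (i, j) = (b.tensorProduct b).repr τ (j, i) := by
  induction hτ using Submodule.span_induction with
  | mem x hx =>
    obtain ⟨w, rfl⟩ := hx
    dsimp only
    rw [Module.Basis.tensorProduct_repr_tmul_apply, Module.Basis.tensorProduct_repr_tmul_apply,
      smul_eq_mul, smul_eq_mul, mul_comm]
  | zero => simp
  | add x y _ _ hx hy => simp only [map_add, Finsupp.add_apply, hx, hy]
  | smul c x _ hx => simp only [map_smul, Finsupp.smul_apply, hx]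

theorem coord_map (b : Module.Basis (Fin 3) (ZMod 2) V) (f : V →ₗ[ZMod 2] V)
    (τ : V ⊗[ZMod 2] V) (i j : Fin 3) :
    (b.tensorProduct b).repr (TensorProduct.map f f τ) (i, j)
      = E (fun i k => b.repr (f (b k)) i) (fun k l => (b.tensorProduct b).repr τ (k, l)) i j := by
  conv_lhs => rw [← expand_tau b τ]
  simp only [map_add, map_smul, TensorProduct.map_tmul, Finsupp.add_apply, Finsupp.smul_apply,
    Module.Basis.tensorProduct_repr_tmul_apply, smul_eq_mul, E]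
  ring

theorem main (G : Type u) [Group G] (hV : Module.finrank (ZMod 2) V = 3)
    (ρ : Representation (ZMod 2) G V) (t : V ⊗[ZMod 2] V)
    (ht : ∀ g : G, ρ.tprod ρ g t - t ∈ 𝔑a) :
    ∃ t' : V ⊗[ZMod 2] V, t' - t ∈ 𝔑a ∧ ∀ g : G, ρ.tprod ρ g t' - t' ∈ 𝔑s := by
  haveI : Module.Finite (ZMod 2) V := Module.finite_of_finrank_pos (by rw [hV]; norm_num)
  obtain ⟨b⟩ : Nonempty (Module.Basis (Fin 3) (ZMod 2) V) :=
    ⟨Module.finBasisOfFinrankEq (ZMod 2) V hV⟩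
  obtain ⟨M, hMdef⟩ : ∃ M : Fin 3 → Fin 3 → ZMod 2,
      M = fun k l => (b.tensorProduct b).repr t (k, l) := ⟨_, rfl⟩
  have hMij : ∀ i j, (b.tensorProduct b).repr t (i, j) = M i j := by
    intro i j; rw [hMdef]
  obtain ⟨a₁, ha₁⟩ : ∃ a₁, a₁ = M 0 1 + M 1 0 := ⟨_, rfl⟩
  obtain ⟨a₂, ha₂⟩ : ∃ a₂, a₂ = M 0 2 + M 2 0 := ⟨_, rfl⟩
  obtain ⟨a₃, ha₃⟩ : ∃ a₃, a₃ = M 1 2 + M 2 1 := ⟨_, rfl⟩
  obtain ⟨t', ht'⟩ : ∃ t' : V ⊗[ZMod 2] V,
      ∀ i j, (b.tensorProduct b).repr t' (i, j) = Mp a₁ a₂ a₃ i j := by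
    refine ⟨(b.tensorProduct b).repr.symm
      (Finsupp.equivFunOnFinite.symm (fun p : Fin 3 × Fin 3 => Mp a₁ a₂ a₃ p.1 p.2)), ?_⟩
    intro i j
    rw [LinearEquiv.apply_symm_apply]
    rfl
  refine ⟨t', ?_, ?_⟩
  · refine mem_Na_of_sym b _ (fun i j => ?_)
    rw [map_sub, Finsupp.sub_apply, Finsupp.sub_apply, ht', ht', hMij, hMij, ha₁, ha₂, ha₃]
    exact FL1 M i j
  · intro g
    obtain ⟨A, hA⟩ : ∃ A : Fin 3 → Fin 3 → ZMod 2, A = fun i k => b.repr (ρ g (b k)) i :=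
      ⟨_, rfl⟩
    have hH : ∀ i j, E A M i j - M i j = E A M j i - M j i := by
      intro i j
      have h1 := sym_of_mem_Na b _ (ht g) i j
      rw [Representation.tprod_apply, map_sub, Finsupp.sub_apply, Finsupp.sub_apply, coord_map,
        coord_map, ← hA, ← hMdef, hMij, hMij] at h1
      exact h1
    have hΩ : Om a₁ a₂ a₃ = fun k l => M k l + M l k := by
      funext k l
      rw [ha₁, ha₂, ha₃]
      exact FLΩ M k l
    have hH' : ∀ i j, E A (Om a₁ a₂ a₃) i j = Om a₁ a₂ a₃ i j := by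
      intro i j
      rw [hΩ]
      have e : E A (fun k l => M k l + M l k) i j = E A M i j + E A M j i := by
        simp only [E]; ring
      rw [e]
      exact char2lemma _ _ _ _ (hH i j)
    have hFL := FL A a₁ a₂ a₃ hH'
    have hc' : ∀ i j, (b.tensorProduct b).repr (ρ.tprod ρ g t' - t') (i, j)
        = E A (Mp a₁ a₂ a₃) i j - Mp a₁ a₂ a₃ i j := by
      intro i j
      rw [Representation.tprod_apply, map_sub, Finsupp.sub_apply, coord_map, ← hA, ht']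
      have e2 : (fun k l => (b.tensorProduct b).repr t' (k, l)) = Mp a₁ a₂ a₃ := by
        funext k l; exact ht' k l
      rw [e2]
    refine mem_Ns_of_alt b _ (fun i j => ?_) (fun i => ?_)
    · rw [hc', hc']; exact (hFL i j).1
    · rw [hc']; exact (hFL i i).2

end Aux


/-- Let G be a group acting linearly on a vector space V of dimension 3 over the field 𝔽₂ with two
elements. Then the connecting map (Λ²V)^G → H¹(G, V) of the short exact sequence of G-modules 0 → V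
→ S²V → Λ²V → 0 (v ↦ v·v, x·y ↦ x ∧ y) is zero; equivalently, every G-invariant element of Λ²V is
the image of a G-invariant element of S²V. Here N_a ⊆ V ⊗ V is the span of the tensors v ⊗ v and N_s
⊆ N_a the span of the tensors x ⊗ y + y ⊗ x, so that S²V = (V ⊗ V)/N_s and Λ²V = (V ⊗ V)/N_a with
the diagonal action of G, and the statement reads: a tensor t whose class modulo N_a is G-invariant
is congruent modulo N_a to a tensor whose class modulo N_s is G-invariant. (The source writes the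
rank hypothesis on the lattice M with V = M/2M, which has the same rank, and has the absolute Galois
group of a field acting; any group is allowed here.) -/
theorem result (G : Type u) [Group G] (V : Type v)
    [AddCommGroup V] [Module (ZMod 2) V] (hV : Module.finrank (ZMod 2) V = 3)
    (ρ : Representation (ZMod 2) G V) (t : V ⊗[ZMod 2] V)
    (ht : ∀ g : G, ρ.tprod ρ g t - t ∈ Submodule.span (ZMod 2) (Set.range fun v : V => v ⊗ₜ[ZMod 2] v)) :
    ∃ t' : V ⊗[ZMod 2] V, t' - t ∈ Submodule.span (ZMod 2) (Set.range fun v : V => v ⊗ₜ[ZMod 2] v) ∧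
      ∀ g : G, ρ.tprod ρ g t' - t' ∈
        Submodule.span (ZMod 2) (Set.range fun p : V × V => p.1 ⊗ₜ[ZMod 2] p.2 + p.2 ⊗ₜ[ZMod 2] p.1) := by
  exact main G hV ρ t ht

end Groth.Agent.S18547
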