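import Groth.Statements.S18548
import Groth.Agent.H23.TensorSq

set_option autoImplicit false
open scoped TensorProduct
universe u v w
open GalCoh

namespace Groth.Agent.S18548

/-- Let G be a group acting linearly on a vector space V over the field 𝔽₂ with two elements, and
suppose V is a permutation module: G permutes the vectors of some basis of V. Then the short exact
sequence of G-modules 0 → V → S²V → Λ²V → 0 (v ↦ v·v, x·y ↦ x ∧ y) splits G-equivariantly. Here, for
a vector space V over the field with two elements carrying a linear action ρ of a group G, write N_a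
⊆ V ⊗ V for the span of the tensors v ⊗ v and N_s ⊆ N_a for the span of the tensors x ⊗ y + y ⊗ x,
so that S²V = (V ⊗ V)/N_s, Λ²V = (V ⊗ V)/N_a and the surjection S²V → Λ²V, x·y ↦ x ∧ y, is
G-equivariant for the diagonal action; a G-equivariant linear section of this surjection is the same
thing as a G-stable subspace W of V ⊗ V with W ∩ N_a = N_s and W + N_a = V ⊗ V, which is how the
splitting is stated. (The source has the absolute Galois group of a field acting continuously; any
group and any basis index set are allowed here.) -/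
theorem result (G : Type u) [Group G] (V : Type v)
    [AddCommGroup V] [Module (ZMod 2) V] (ρ : Representation (ZMod 2) G V)
    (ι : Type w) (b : Module.Basis ι (ZMod 2) V) (hb : ∀ g : G, ∀ i : ι, ∃ j : ι, ρ g (b i) = b j) :
    ∃ W : Submodule (ZMod 2) (V ⊗[ZMod 2] V),
      (∀ g : G, ∀ w ∈ W, ρ.tprod ρ g w ∈ W) ∧
      W ⊓ Submodule.span (ZMod 2) (Set.range fun v : V => v ⊗ₜ[ZMod 2] v) =
        Submodule.span (ZMod 2) (Set.range fun p : V × V => p.1 ⊗ₜ[ZMod 2] p.2 + p.2 ⊗ₜ[ZMod 2] p.1) ∧
      W ⊔ Submodule.span (ZMod 2) (Set.range fun v : V => v ⊗ₜ[ZMod 2] v) = ⊤ := by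
  classical
  obtain ⟨B, hB⟩ : ∃ B : Module.Basis (ι × ι) (ZMod 2) (V ⊗[ZMod 2] V), B = b.tensorProduct b :=
    ⟨_, rfl⟩
  have hBapp : ∀ i j, B (i, j) = b i ⊗ₜ[ZMod 2] b j := fun i j => by
    rw [hB]; exact Module.Basis.tensorProduct_apply b b i j
  obtain ⟨W, hW⟩ : ∃ W : Submodule (ZMod 2) (V ⊗[ZMod 2] V),
      W = Submodule.span (ZMod 2) (B '' {p : ι × ι | p.1 ≠ p.2}) := ⟨_, rfl⟩
  obtain ⟨Δ, hΔ⟩ : ∃ Δ : Submodule (ZMod 2) (V ⊗[ZMod 2] V),
      Δ = Submodule.span (ZMod 2) (B '' {p : ι × ι | p.1 = p.2}) := ⟨_, rfl⟩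
  have hoff : ∀ i j, i ≠ j → b i ⊗ₜ[ZMod 2] b j ∈ W := fun i j hij => by
    rw [hW]; exact Submodule.subset_span ⟨(i, j), hij, hBapp i j⟩
  have hdiag : ∀ i, b i ⊗ₜ[ZMod 2] b i ∈ Δ := fun i => by
    rw [hΔ]; exact Submodule.subset_span ⟨(i, i), rfl, hBapp i i⟩
  have hNsW : Submodule.span (ZMod 2)
      (Set.range fun p : V × V => p.1 ⊗ₜ[ZMod 2] p.2 + p.2 ⊗ₜ[ZMod 2] p.1) ≤ W := by
    refine Submodule.span_le.mpr ?_
    rintro _ ⟨⟨x, y⟩, rfl⟩
    refine Groth.Agent.H23.TensorSq.symm_mem_of_span b b.span_eq W (fun i j => ?_) x y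
    by_cases hij : i = j
    · subst hij; rw [ZModModule.add_self]; exact zero_mem _
    · exact add_mem (hoff i j hij) (hoff j i (Ne.symm hij))
  refine ⟨W, ?_, ?_, ?_⟩
  · intro g w hw
    rw [hW] at hw
    induction hw using Submodule.span_induction with
    | mem x hx =>
      obtain ⟨⟨i, j⟩, hij, rfl⟩ := hx
      obtain ⟨i', hi'⟩ := hb g i
      obtain ⟨j', hj'⟩ := hb g j
      have hne : i' ≠ j' := by
        rintro rfl
        exact hij (b.injective (Groth.Agent.H23.TensorSq.rep_injective ρ g (hi'.trans hj'.symm)))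
      have : ρ.tprod ρ g (B (i, j)) = b i' ⊗ₜ[ZMod 2] b j' := by
        rw [hBapp, Representation.tprod_apply, TensorProduct.map_tmul, hi', hj']
      rw [this]
      exact hoff i' j' hne
    | zero => rw [map_zero]; exact zero_mem _
    | add x y _ _ hx hy => rw [map_add]; exact add_mem hx hy
    | smul c x _ hx => rw [map_smul]; exact Submodule.smul_mem _ _ hx
  · apply le_antisymm
    · rintro n ⟨hnW, hnNa⟩
      have hNa : Submodule.span (ZMod 2) (Set.range fun v : V => v ⊗ₜ[ZMod 2] v) ≤
          Submodule.span (ZMod 2)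
            (Set.range fun p : V × V => p.1 ⊗ₜ[ZMod 2] p.2 + p.2 ⊗ₜ[ZMod 2] p.1) ⊔ Δ := by
        refine Submodule.span_le.mpr ?_
        rintro _ ⟨v, rfl⟩
        exact Groth.Agent.H23.TensorSq.sq_mem_of_span b b.span_eq _
          (fun x y => Submodule.mem_sup_left (Submodule.subset_span (Set.mem_range_self (f := fun p : V × V => p.1 ⊗ₜ[ZMod 2] p.2 + p.2 ⊗ₜ[ZMod 2] p.1) (x, y))))
          (fun i => Submodule.mem_sup_right (hdiag i)) v
      obtain ⟨s, hs, d, hd, rfl⟩ := Submodule.mem_sup.mp (hNa hnNa)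
      have hdW : d ∈ W := by
        have : d = (s + d) - s := by abel
        rw [this]; exact sub_mem hnW (hNsW hs)
      have hdisj : Disjoint W Δ := by
        rw [hW, hΔ]
        exact B.linearIndependent.disjoint_span_image
          (Set.disjoint_left.mpr fun p hp hp' => hp hp')
      have hd0 : d = 0 := Submodule.disjoint_def.mp hdisj d hdW hd
      rw [hd0, add_zero]; exact hs
    · exact le_inf hNsW Groth.Agent.H23.TensorSq.Ns_le_Na
  · rw [eq_top_iff, ← B.span_eq, Submodule.span_le]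
    rintro _ ⟨⟨i, j⟩, rfl⟩
    by_cases hij : i = j
    · subst hij
      exact Submodule.mem_sup_right (Submodule.subset_span ⟨b i, (hBapp i i).symm⟩)
    · rw [hBapp]; exact Submodule.mem_sup_left (hoff i j hij)

end Groth.Agent.S18548
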