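import Groth.Statements.S18549
import Mathlib

set_option autoImplicit false
open scoped TensorProduct
universe u v
open GalCoh

namespace Groth.Agent.S18549


open TensorProduct

section Aux

theorem zadd_self {M : Type*} [AddCommGroup M] [Module (ZMod 2) M] (x : M) : x + x = 0 := by
  rw [← two_smul (ZMod 2) x]
  have h2 : (2 : ZMod 2) = 0 := by decide
  rw [h2, zero_smul]

theorem zmul_self (c : ZMod 2) : c * c = c := by
  revert c; decide

theorem perm_basis {V : Type v} [AddCommGroup V] [Module (ZMod 2) V]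
    (s : V →ₗ[ZMod 2] V) (hs : ∀ x, s (s x) = x) :
    ∃ (I : Type v) (b : Module.Basis I (ZMod 2) V) (τ : I → I), ∀ i, s (b i) = b (τ i) := by
  classical
  obtain ⟨N, hN⟩ : ∃ N : V →ₗ[ZMod 2] V, ∀ x, N x = s x + x :=
    ⟨s + LinearMap.id, fun x => rfl⟩
  have hNN : ∀ x, N (N x) = 0 := by
    intro x
    rw [hN (N x), hN x, map_add, hs]
    have h1 := zadd_self (x + s x)
    rw [add_comm (s x) x]
    exact h1
  obtain ⟨U₀, hUK⟩ := Submodule.exists_isCompl (LinearMap.ker N)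
  obtain ⟨C', hC'⟩ := Submodule.exists_isCompl (Submodule.map N U₀)
  have hNK : ∀ x, N x ∈ LinearMap.ker N := fun x => LinearMap.mem_ker.mpr (hNN x)
  obtain ⟨C, hCdef⟩ : ∃ C : Submodule (ZMod 2) V, C = LinearMap.ker N ⊓ C' := ⟨_, rfl⟩
  have hCK : ∀ c ∈ C, N c = 0 := fun c hc => by
    rw [hCdef] at hc; exact LinearMap.mem_ker.mp hc.1
  have hCC' : ∀ c ∈ C, c ∈ C' := fun c hc => by rw [hCdef] at hc; exact hc.2
  obtain ⟨bU, -⟩ : ∃ bU : Module.Basis (Module.Basis.ofVectorSpaceIndex (ZMod 2) ↥U₀) (ZMod 2) ↥U₀,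
      True := ⟨Module.Basis.ofVectorSpace (ZMod 2) ↥U₀, trivial⟩
  obtain ⟨bC, -⟩ : ∃ bC : Module.Basis (Module.Basis.ofVectorSpaceIndex (ZMod 2) ↥C) (ZMod 2) ↥C,
      True := ⟨Module.Basis.ofVectorSpace (ZMod 2) ↥C, trivial⟩
  obtain ⟨Ψ, hΨ⟩ : ∃ Ψ : ↥U₀ × (↥U₀ × ↥C) →ₗ[ZMod 2] V,
      ∀ z : ↥U₀ × (↥U₀ × ↥C), Ψ z = (z.1 : V) + (s (z.2.1 : V) + (z.2.2 : V)) :=
    ⟨U₀.subtype.coprod ((s ∘ₗ U₀.subtype).coprod C.subtype), fun z => rfl⟩
  have hinj : Function.Injective Ψ := by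
    rw [injective_iff_map_eq_zero]
    rintro ⟨x, y, c⟩ h
    rw [hΨ] at h
    simp only at h
    have hp : ((x : V) + y) + (N y + c) = 0 := by
      rw [hN]
      have h2 := zadd_self (y : V)
      calc (x : V) + y + (s y + y + c) = (x + (s y + c)) + (y + y) := by abel
        _ = 0 := by rw [h, h2, add_zero]
    have hq : N (y : V) + c ∈ LinearMap.ker N :=
      Submodule.add_mem _ (hNK _) (LinearMap.mem_ker.mpr (hCK c c.2))
    have hpU : (x : V) + y ∈ U₀ := Submodule.add_mem _ x.2 y.2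
    have hpK : (x : V) + y ∈ LinearMap.ker N := by
      have h3 : (x : V) + y = -(N (y : V) + c) := eq_neg_of_add_eq_zero_left hp
      rw [h3]; exact Submodule.neg_mem _ hq
    have hp0 : (x : V) + y = 0 := Submodule.disjoint_def.mp hUK.disjoint _ hpK hpU
    have hq0 : N (y : V) + c = 0 := by rw [hp0, zero_add] at hp; exact hp
    have hNy : N (y : V) = 0 := by
      refine Submodule.disjoint_def.mp hC'.disjoint _ (Submodule.mem_map_of_mem y.2) ?_
      have h3 : N (y : V) = -(c : V) := eq_neg_of_add_eq_zero_left hq0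
      rw [h3]; exact Submodule.neg_mem _ (hCC' c c.2)
    have hc0 : (c : V) = 0 := by rw [hNy, zero_add] at hq0; exact hq0
    have hy0 : (y : V) = 0 :=
      Submodule.disjoint_def.mp hUK.disjoint _ (LinearMap.mem_ker.mpr hNy) y.2
    have hx0 : (x : V) = 0 := by rw [hy0, add_zero] at hp0; exact hp0
    exact Prod.ext (Subtype.ext hx0) (Prod.ext (Subtype.ext hy0) (Subtype.ext hc0))
  have hsurj : Function.Surjective Ψ := by
    intro w
    have hw : w ∈ LinearMap.ker N ⊔ U₀ := by rw [hUK.sup_eq_top]; exact Submodule.mem_top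
    obtain ⟨k, hk, x₀, hx₀, rfl⟩ := Submodule.mem_sup.mp hw
    have hk' : k ∈ Submodule.map N U₀ ⊔ C' := by rw [hC'.sup_eq_top]; exact Submodule.mem_top
    obtain ⟨m, hm, c', hc', rfl⟩ := Submodule.mem_sup.mp hk'
    obtain ⟨y, hy, rfl⟩ := Submodule.mem_map.mp hm
    have hc'K : c' ∈ LinearMap.ker N := (Submodule.add_mem_iff_right _ (hNK y)).mp hk
    have hc'C : c' ∈ C := by rw [hCdef]; exact ⟨hc'K, hc'⟩
    refine ⟨(⟨x₀ + y, Submodule.add_mem _ hx₀ hy⟩, ⟨y, hy⟩, ⟨c', hc'C⟩), ?_⟩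
    rw [hΨ, hN]
    show x₀ + y + (s y + c') = s y + y + c' + x₀
    abel
  obtain ⟨b, hb⟩ : ∃ b : Module.Basis (Module.Basis.ofVectorSpaceIndex (ZMod 2) ↥U₀ ⊕
      (Module.Basis.ofVectorSpaceIndex (ZMod 2) ↥U₀ ⊕
        Module.Basis.ofVectorSpaceIndex (ZMod 2) ↥C)) (ZMod 2) V,
      ∀ i, b i = Ψ ((bU.prod (bU.prod bC)) i) :=
    ⟨(bU.prod (bU.prod bC)).map (LinearEquiv.ofBijective Ψ ⟨hinj, hsurj⟩), fun i => rfl⟩
  have h1 : ∀ a, (bU.prod (bU.prod bC)) (Sum.inl a) = (bU a, 0) := fun a =>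
    Prod.ext (Module.Basis.prod_apply_inl_fst _ _ a) (Module.Basis.prod_apply_inl_snd _ _ a)
  have h2i : ∀ a, (bU.prod bC) (Sum.inl a) = (bU a, 0) := fun a =>
    Prod.ext (Module.Basis.prod_apply_inl_fst _ _ a) (Module.Basis.prod_apply_inl_snd _ _ a)
  have h3i : ∀ l, (bU.prod bC) (Sum.inr l) = (0, bC l) := fun l =>
    Prod.ext (Module.Basis.prod_apply_inr_fst _ _ l) (Module.Basis.prod_apply_inr_snd _ _ l)
  have h2 : ∀ a, (bU.prod (bU.prod bC)) (Sum.inr (Sum.inl a)) = (0, (bU a, 0)) := fun a =>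
    Prod.ext (Module.Basis.prod_apply_inr_fst _ _ _)
      ((Module.Basis.prod_apply_inr_snd _ _ _).trans (h2i a))
  have h3 : ∀ l, (bU.prod (bU.prod bC)) (Sum.inr (Sum.inr l)) = (0, (0, bC l)) := fun l =>
    Prod.ext (Module.Basis.prod_apply_inr_fst _ _ _)
      ((Module.Basis.prod_apply_inr_snd _ _ _).trans (h3i l))
  have hv1 : ∀ a, b (Sum.inl a) = (bU a : V) := by
    intro a; rw [hb, h1, hΨ]; simp
  have hv2 : ∀ a, b (Sum.inr (Sum.inl a)) = s (bU a : V) := by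
    intro a; rw [hb, h2, hΨ]; simp
  have hv3 : ∀ l, b (Sum.inr (Sum.inr l)) = (bC l : V) := by
    intro l; rw [hb, h3, hΨ]; simp
  refine ⟨_, b, fun i => Sum.elim (fun a => Sum.inr (Sum.inl a))
    (Sum.elim (fun a => Sum.inl a) (fun l => Sum.inr (Sum.inr l))) i, ?_⟩
  rintro (a | a | l)
  · show s (b (Sum.inl a)) = b (Sum.inr (Sum.inl a))
    rw [hv1, hv2]
  · show s (b (Sum.inr (Sum.inl a))) = b (Sum.inl a)
    rw [hv2, hv1, hs]
  · show s (b (Sum.inr (Sum.inr l))) = b (Sum.inr (Sum.inr l))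
    rw [hv3]
    have h0 := hCK _ (bC l).2
    rw [hN] at h0
    have h4 := zadd_self ((bC l : ↥C) : V)
    calc s ((bC l : ↥C) : V) = s ((bC l : ↥C) : V) + (((bC l : ↥C) : V) + ((bC l : ↥C) : V)) := by
          rw [h4, add_zero]
      _ = (s ((bC l : ↥C) : V) + ((bC l : ↥C) : V)) + ((bC l : ↥C) : V) := by abel
      _ = ((bC l : ↥C) : V) := by rw [h0, zero_add]

theorem main (G : Type u) [Group G] (hG : Nat.card G = 2)
    (V : Type v) [AddCommGroup V] [Module (ZMod 2) V]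
    (ρ : Representation (ZMod 2) G V) :
    ∃ W : Submodule (ZMod 2) (V ⊗[ZMod 2] V),
      (∀ g : G, ∀ w ∈ W, ρ.tprod ρ g w ∈ W) ∧
      W ⊓ Submodule.span (ZMod 2) (Set.range fun v : V => v ⊗ₜ[ZMod 2] v) =
        Submodule.span (ZMod 2)
          (Set.range fun p : V × V => p.1 ⊗ₜ[ZMod 2] p.2 + p.2 ⊗ₜ[ZMod 2] p.1) ∧
      W ⊔ Submodule.span (ZMod 2) (Set.range fun v : V => v ⊗ₜ[ZMod 2] v) = ⊤ := by
  classical
  obtain ⟨σ, hσ1, hσu⟩ := (Nat.card_eq_two_iff' (1 : G)).mp hG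
  have hall : ∀ g : G, g = 1 ∨ g = σ := fun g => by
    by_cases h : g = 1
    · exact Or.inl h
    · exact Or.inr (hσu g h)
  have hσσ : σ * σ = 1 := by
    by_contra h
    have h2 := hσu _ h
    have h3 : σ * σ = σ * 1 := by rw [h2, mul_one]
    exact hσ1 (mul_left_cancel h3)
  obtain ⟨s, hsdef⟩ : ∃ s : V →ₗ[ZMod 2] V, s = ρ σ := ⟨_, rfl⟩
  have hs : ∀ x, s (s x) = x := by
    intro x
    rw [hsdef, ← Module.End.mul_apply, ← map_mul, hσσ, map_one, Module.End.one_apply]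
  obtain ⟨I, b, τ, hτ⟩ := perm_basis s hs
  have hτinj : Function.Injective τ := by
    intro i j hij
    have h1 : s (b i) = s (b j) := by rw [hτ, hτ, hij]
    have h2 : b i = b j := by rw [← hs (b i), h1, hs]
    exact b.injective h2
  obtain ⟨bT, hbT⟩ : ∃ bT : Module.Basis (I × I) (ZMod 2) (V ⊗[ZMod 2] V),
      ∀ i j, bT (i, j) = b i ⊗ₜ[ZMod 2] b j :=
    ⟨b.tensorProduct b, fun i j => Module.Basis.tensorProduct_apply b b i j⟩
  obtain ⟨r, hr⟩ : ∃ r : V ⊗[ZMod 2] V →ₗ[ZMod 2] V,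
      ∀ i j, r (b i ⊗ₜ[ZMod 2] b j) = if i = j then b i else 0 := by
    refine ⟨bT.constr (ZMod 2) (fun p => if p.1 = p.2 then b p.1 else 0), fun i j => ?_⟩
    rw [← hbT, Module.Basis.constr_basis]
  have hR2 : ∀ x y, r (x ⊗ₜ[ZMod 2] y) = r (y ⊗ₜ[ZMod 2] x) := by
    have h : r ∘ₗ (TensorProduct.comm (ZMod 2) V V).toLinearMap = r := by
      apply bT.ext
      rintro ⟨i, j⟩
      rw [hbT, LinearMap.comp_apply, LinearEquiv.coe_coe, TensorProduct.comm_tmul, hr, hr]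
      by_cases hij : i = j
      · subst hij; rfl
      · rw [if_neg hij, if_neg (Ne.symm hij)]
    intro x y
    have h2 := LinearMap.congr_fun h (y ⊗ₜ[ZMod 2] x)
    rw [LinearMap.comp_apply, LinearEquiv.coe_coe, TensorProduct.comm_tmul] at h2
    exact h2
  have hR3 : ∀ t, r (TensorProduct.map s s t) = s (r t) := by
    have h : r ∘ₗ TensorProduct.map s s = s ∘ₗ r := by
      apply bT.ext
      rintro ⟨i, j⟩
      rw [hbT, LinearMap.comp_apply, LinearMap.comp_apply, TensorProduct.map_tmul, hτ, hτ, hr, hr]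
      by_cases hij : i = j
      · subst hij; rw [if_pos rfl, if_pos rfl, hτ]
      · rw [if_neg hij, if_neg (fun h => hij (hτinj h)), map_zero]
    exact fun t => LinearMap.congr_fun h t
  have hR1 : ∀ v, r (v ⊗ₜ[ZMod 2] v) = v := by
    intro v
    have hv : v ∈ Submodule.span (ZMod 2) (Set.range b) := by
      rw [b.span_eq]; exact Submodule.mem_top
    induction hv using Submodule.span_induction with
    | mem x hx =>
      obtain ⟨i, rfl⟩ := hx
      rw [hr, if_pos rfl]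
    | zero => rw [TensorProduct.zero_tmul, map_zero]
    | add x y _ _ hx hy =>
      rw [TensorProduct.add_tmul, TensorProduct.tmul_add, TensorProduct.tmul_add, map_add,
        map_add, map_add, hx, hy, hR2 y x]
      have h2 := zadd_self (r (x ⊗ₜ[ZMod 2] y))
      calc x + r (x ⊗ₜ[ZMod 2] y) + (r (x ⊗ₜ[ZMod 2] y) + y)
          = x + y + (r (x ⊗ₜ[ZMod 2] y) + r (x ⊗ₜ[ZMod 2] y)) := by abel
        _ = x + y := by rw [h2, add_zero]
    | smul c x _ hx =>
      rw [TensorProduct.smul_tmul_smul, zmul_self, map_smul, hx]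
  have hNsW : Submodule.span (ZMod 2)
      (Set.range fun p : V × V => p.1 ⊗ₜ[ZMod 2] p.2 + p.2 ⊗ₜ[ZMod 2] p.1) ≤ LinearMap.ker r := by
    rw [Submodule.span_le]
    rintro _ ⟨⟨x, y⟩, rfl⟩
    show r (x ⊗ₜ[ZMod 2] y + y ⊗ₜ[ZMod 2] x) = 0
    rw [map_add, hR2 y x]
    exact zadd_self _
  have hNsNa : Submodule.span (ZMod 2)
      (Set.range fun p : V × V => p.1 ⊗ₜ[ZMod 2] p.2 + p.2 ⊗ₜ[ZMod 2] p.1) ≤
      Submodule.span (ZMod 2) (Set.range fun v : V => v ⊗ₜ[ZMod 2] v) := by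
    rw [Submodule.span_le]
    rintro _ ⟨⟨x, y⟩, rfl⟩
    show x ⊗ₜ[ZMod 2] y + y ⊗ₜ[ZMod 2] x ∈
      Submodule.span (ZMod 2) (Set.range fun v : V => v ⊗ₜ[ZMod 2] v)
    have e : x ⊗ₜ[ZMod 2] y + y ⊗ₜ[ZMod 2] x
        = (x + y) ⊗ₜ[ZMod 2] (x + y) - x ⊗ₜ[ZMod 2] x - y ⊗ₜ[ZMod 2] y := by
      rw [TensorProduct.add_tmul, TensorProduct.tmul_add, TensorProduct.tmul_add]; abel
    rw [e]
    exact sub_mem (sub_mem (Submodule.subset_span ⟨x + y, rfl⟩) (Submodule.subset_span ⟨x, rfl⟩))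
      (Submodule.subset_span ⟨y, rfl⟩)
  have hQ : ∀ t ∈ Submodule.span (ZMod 2) (Set.range fun v : V => v ⊗ₜ[ZMod 2] v),
      ∃ v : V, t - v ⊗ₜ[ZMod 2] v ∈ Submodule.span (ZMod 2)
        (Set.range fun p : V × V => p.1 ⊗ₜ[ZMod 2] p.2 + p.2 ⊗ₜ[ZMod 2] p.1) := by
    intro t ht
    induction ht using Submodule.span_induction with
    | mem x hx =>
      obtain ⟨v, rfl⟩ := hx
      exact ⟨v, by rw [sub_self]; exact zero_mem _⟩
    | zero => exact ⟨0, by rw [TensorProduct.zero_tmul, sub_zero]; exact zero_mem _⟩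
    | add x y _ _ hx hy =>
      obtain ⟨v₁, h₁⟩ := hx
      obtain ⟨v₂, h₂⟩ := hy
      refine ⟨v₁ + v₂, ?_⟩
      have e : x + y - (v₁ + v₂) ⊗ₜ[ZMod 2] (v₁ + v₂)
          = (x - v₁ ⊗ₜ[ZMod 2] v₁) + (y - v₂ ⊗ₜ[ZMod 2] v₂)
            - (v₁ ⊗ₜ[ZMod 2] v₂ + v₂ ⊗ₜ[ZMod 2] v₁) := by
        rw [TensorProduct.add_tmul, TensorProduct.tmul_add, TensorProduct.tmul_add]; abel
      rw [e]
      exact sub_mem (add_mem h₁ h₂) (Submodule.subset_span ⟨(v₁, v₂), rfl⟩)
    | smul c x _ hx =>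
      obtain ⟨v, h⟩ := hx
      refine ⟨c • v, ?_⟩
      rw [TensorProduct.smul_tmul_smul, zmul_self, ← smul_sub]
      exact Submodule.smul_mem _ c h
  refine ⟨LinearMap.ker r, ?_, ?_, ?_⟩
  · intro g w hw
    rw [LinearMap.mem_ker] at hw ⊢
    rcases hall g with rfl | rfl
    · rw [map_one, Module.End.one_apply]; exact hw
    · rw [Representation.tprod_apply, ← hsdef, hR3, hw, map_zero]
  · apply le_antisymm
    · rintro t ⟨htW, htNa⟩
      obtain ⟨v, hv⟩ := hQ t htNa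
      have h1 : r (t - v ⊗ₜ[ZMod 2] v) = 0 := LinearMap.mem_ker.mp (hNsW hv)
      have htW' : r t = 0 := LinearMap.mem_ker.mp htW
      rw [map_sub, htW', hR1, zero_sub, neg_eq_zero] at h1
      rw [h1, TensorProduct.zero_tmul, sub_zero] at hv
      exact hv
    · exact le_inf hNsW hNsNa
  · rw [eq_top_iff]
    intro t _
    refine Submodule.mem_sup.mpr ⟨t - r t ⊗ₜ[ZMod 2] r t, ?_, r t ⊗ₜ[ZMod 2] r t,
      Submodule.subset_span ⟨r t, rfl⟩, by abel⟩
    rw [LinearMap.mem_ker, map_sub, hR1, sub_self]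

end Aux


/-- Over the real numbers, that is for the group G = Gal(ℂ/ℝ) of order 2 acting linearly on a
finite-dimensional vector space V over the field 𝔽₂ with two elements, the short exact sequence of
G-modules 0 → V → S²V → Λ²V → 0 (v ↦ v·v, x·y ↦ x ∧ y) splits G-equivariantly. Here, for a vector
space V over the field with two elements carrying a linear action ρ of a group G, write N_a ⊆ V ⊗ V
for the span of the tensors v ⊗ v and N_s ⊆ N_a for the span of the tensors x ⊗ y + y ⊗ x, so that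
S²V = (V ⊗ V)/N_s, Λ²V = (V ⊗ V)/N_a and the surjection S²V → Λ²V, x·y ↦ x ∧ y, is G-equivariant for
the diagonal action; a G-equivariant linear section of this surjection is the same thing as a
G-stable subspace W of V ⊗ V with W ∩ N_a = N_s and W + N_a = V ⊗ V, which is how the splitting is
stated. (G is any group of order 2 here; V is taken finite-dimensional, the case covered by the
structure theory of finitely generated modules over 𝔽₂[G] that the argument uses.) -/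
theorem result (G : Type u) [Group G] (hG : Nat.card G = 2)
    (V : Type v) [AddCommGroup V] [Module (ZMod 2) V] [Module.Finite (ZMod 2) V]
    (ρ : Representation (ZMod 2) G V) :
    ∃ W : Submodule (ZMod 2) (V ⊗[ZMod 2] V),
      (∀ g : G, ∀ w ∈ W, ρ.tprod ρ g w ∈ W) ∧
      W ⊓ Submodule.span (ZMod 2) (Set.range fun v : V => v ⊗ₜ[ZMod 2] v) =
        Submodule.span (ZMod 2) (Set.range fun p : V × V => p.1 ⊗ₜ[ZMod 2] p.2 + p.2 ⊗ₜ[ZMod 2] p.1) ∧
      W ⊔ Submodule.span (ZMod 2) (Set.range fun v : V => v ⊗ₜ[ZMod 2] v) = ⊤ := by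
  exact main G hG V ρ

end Groth.Agent.S18549
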