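import Groth.Statements.S18561
import Mathlib
import Groth.Agent.S18560

set_option autoImplicit false
universe u v
open PtQuiv

namespace Groth.Agent.S18561

lemma mem_span_symm {K : Type u} [Field K] {x y : Fin 2 → K} (hx : x ≠ 0)
    (h : x ∈ K ∙ y) : y ∈ K ∙ x := by
  rw [Submodule.mem_span_singleton] at h ⊢
  obtain ⟨c, rfl⟩ := h
  have hc : c ≠ 0 := by
    rintro rfl
    simp at hx
  exact ⟨c⁻¹, by rw [smul_smul, inv_mul_cancel₀ hc, one_smul]⟩

lemma finrank_line {K : Type u} [Field K] {x : Fin 2 → K} (hx : x ≠ 0) :
    Module.finrank K (K ∙ x) = 1 := finrank_span_singleton hx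


/-- Let K be a field and s i ∈ K² (i in a finite index type) nonzero vectors, regarded as a
representation of the quiver with a central vertex carrying the plane and one vertex per i carrying
a line mapping to the plane by 1 ↦ s i. Then the representation is stable for some weight of the
hypersimplex (0 ≤ θ i ≤ 1, Σ θ i = 2, central weight -1) if and only if the s i fall into at least
three proportionality classes, i.e. three of them are pairwise non-proportional. (The published
statement is over an algebraically closed field and assumes semistability for some interior weight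
instead of s i ≠ 0; any field is allowed here. Its further assertions, that the set of semistability
weights is full-dimensional exactly in this case and is a wall otherwise, are not part of this row.) -/
theorem result (K : Type u) [Field K] (ι : Type v)
    [Fintype ι] (s : ι → (Fin 2 → K)) (hs : ∀ i, s i ≠ 0) :
    (∃ θ : ι → ℚ, (∀ i, 0 ≤ θ i) ∧ (∀ i, θ i ≤ 1) ∧ ∑ i, θ i = 2 ∧ PtQuiv.QStable (-1) θ s) ↔
      ∃ i j k : ι, s i ∉ K ∙ s j ∧ s j ∉ K ∙ s k ∧ s i ∉ K ∙ s k := by
  classical
  constructor
  · rintro ⟨θ, h0, h1, h2, hst⟩
    obtain ⟨hss, hstab⟩ := hst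
    -- every line has total weight < 1
    have hline : ∀ x : Fin 2 → K, x ≠ 0 →
        ∑ m ∈ Finset.univ.filter (fun m => s m ∈ K ∙ x), θ m < 1 := by
      intro x hx
      set I := Finset.univ.filter (fun m => s m ∈ K ∙ x) with hI
      have hsub : PtQuiv.QSubrep s (K ∙ x) I := by
        intro m hm
        exact (Finset.mem_filter.mp hm).2
      have hle := hss.2 (K ∙ x) I hsub
      have hne : PtQuiv.QWt K (-1) θ (K ∙ x) I ≠ 0 := by
        intro h0'
        rcases hstab (K ∙ x) I hsub h0' with ⟨hb, _⟩ | ⟨ht, _⟩
        · have := finrank_line hx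
          rw [hb] at this
          simp at this
        · have := finrank_line hx
          rw [ht] at this
          simp at this
      unfold PtQuiv.QWt at hle hne
      rw [finrank_line hx] at hle hne
      push_cast at hle hne
      have : ∑ m ∈ I, θ m ≠ 1 := by
        intro h
        apply hne
        rw [h]; norm_num
      have : ∑ m ∈ I, θ m ≤ 1 := by linarith
      exact lt_of_le_of_ne this ‹_›
    -- ι nonempty
    have hne : (Finset.univ : Finset ι).Nonempty := by
      by_contra hcon
      rw [Finset.not_nonempty_iff_eq_empty] at hcon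
      rw [hcon] at h2
      simp at h2
    obtain ⟨i, _⟩ := hne
    set I1 := Finset.univ.filter (fun m => s m ∈ K ∙ s i) with hI1
    have hI1lt := hline (s i) (hs i)
    have hj : ∃ j, s j ∉ K ∙ s i := by
      by_contra hcon
      push_neg at hcon
      have : I1 = Finset.univ := by
        apply Finset.eq_univ_of_forall
        intro m
        exact Finset.mem_filter.mpr ⟨Finset.mem_univ _, hcon m⟩
      rw [← hI1, this, h2] at hI1lt
      norm_num at hI1lt
    obtain ⟨j, hj⟩ := hj
    set I2 := Finset.univ.filter (fun m => s m ∈ K ∙ s j) with hI2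
    have hI2lt := hline (s j) (hs j)
    have hk : ∃ k, s k ∉ K ∙ s i ∧ s k ∉ K ∙ s j := by
      by_contra hcon
      push_neg at hcon
      have : I1 ∪ I2 = Finset.univ := by
        apply Finset.eq_univ_of_forall
        intro m
        rw [Finset.mem_union]
        by_cases hm : s m ∈ K ∙ s i
        · exact Or.inl (Finset.mem_filter.mpr ⟨Finset.mem_univ _, hm⟩)
        · exact Or.inr (Finset.mem_filter.mpr ⟨Finset.mem_univ _, hcon m hm⟩)
      have hle : ∑ m ∈ I1 ∪ I2, θ m ≤ ∑ m ∈ I1, θ m + ∑ m ∈ I2, θ m := by
        rw [← Finset.sum_union_inter]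
        have : 0 ≤ ∑ m ∈ I1 ∩ I2, θ m := Finset.sum_nonneg (fun m _ => h0 m)
        linarith
      rw [this, h2] at hle
      rw [← hI1] at hI1lt
      rw [← hI2] at hI2lt
      linarith
    obtain ⟨k, hki, hkj⟩ := hk
    refine ⟨i, j, k, ?_, ?_, ?_⟩
    · intro h
      exact hj (mem_span_symm (hs i) h)
    · intro h
      exact hkj (mem_span_symm (hs j) h)
    · intro h
      exact hki (mem_span_symm (hs i) h)
  · rintro ⟨i, j, k, hij, hjk, hik⟩
    have hij' : i ≠ j := by
      rintro rfl
      exact hij (Submodule.mem_span_singleton_self _)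
    have hjk' : j ≠ k := by
      rintro rfl
      exact hjk (Submodule.mem_span_singleton_self _)
    have hik' : i ≠ k := by
      rintro rfl
      exact hik (Submodule.mem_span_singleton_self _)
    set n : ℕ := Fintype.card ι with hn
    -- T = {i, j, k}
    set T : Finset ι := {i, j, k} with hT
    have hTcard : T.card = 3 := by
      rw [hT]
      rw [Finset.card_insert_of_notMem, Finset.card_insert_of_notMem, Finset.card_singleton]
      · simpa using hjk'
      · simp [hij', hik']
    have hn3 : 3 ≤ n := by
      rw [hn, ← hTcard, ← Finset.card_univ]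
      exact Finset.card_le_card (Finset.subset_univ T)
    have hnpos : (0 : ℚ) < n := by exact_mod_cast (by omega : 0 < n)
    set ε : ℚ := 1 / (2 * n) with hε
    have hεpos : 0 < ε := by positivity
    set a : ℚ := (2 - (n - 3) * ε) / 3 with ha
    have hnε : (n : ℚ) * ε = 1 / 2 := by
      rw [hε]; field_simp
    have ha_pos : 0 < a := by
      rw [ha]
      have : ((n : ℚ) - 3) * ε = 1 / 2 - 3 * ε := by rw [sub_mul, hnε]
      rw [this]
      have : ε ≤ 1 / 6 := by
        rw [hε, div_le_div_iff₀ (by positivity) (by norm_num)]
        have : (3 : ℚ) ≤ n := by exact_mod_cast hn3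
        linarith
      linarith
    have ha_le : a ≤ 2 / 3 := by
      rw [ha]
      have : 0 ≤ ((n : ℚ) - 3) * ε := by
        have : (3 : ℚ) ≤ n := by exact_mod_cast hn3
        have : 0 ≤ (n : ℚ) - 3 := by linarith
        positivity
      linarith
    have hε_le : ε ≤ 1 := by
      rw [hε, div_le_one (by positivity)]
      have : (3 : ℚ) ≤ n := by exact_mod_cast hn3
      linarith
    let θ : ι → ℚ := fun m => if m ∈ T then a else ε
    have hθpos : ∀ m, 0 < θ m := by
      intro m
      simp only [θ]
      split_ifs <;> assumption
    have hsum_univ : ∑ m, θ m = 2 := by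
      rw [← Finset.sum_add_sum_compl T]
      have h1 : ∑ m ∈ T, θ m = 3 * a := by
        rw [Finset.sum_congr rfl (fun m hm => by simp only [θ, if_pos hm] : ∀ m ∈ T, θ m = a)]
        rw [Finset.sum_const, hTcard]; simp
      have h2 : ∑ m ∈ Tᶜ, θ m = ((n : ℚ) - 3) * ε := by
        rw [Finset.sum_congr rfl (fun m hm => by
          simp only [θ, if_neg (Finset.mem_compl.mp hm)] : ∀ m ∈ Tᶜ, θ m = ε)]
        rw [Finset.sum_const, Finset.card_compl, hTcard, ← hn, nsmul_eq_mul]
        rw [Nat.cast_sub hn3]; simp
      rw [h1, h2, ha]; ring
    -- weight on any line < 1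
    have hline : ∀ (v : Fin 2 → K) (I : Finset ι), (∀ m ∈ I, s m ∈ K ∙ v) → ∑ m ∈ I, θ m < 1 := by
      intro v I hI
      -- at most one element of T in I
      have hTI : (I ∩ T).card ≤ 1 := by
        rw [Finset.card_le_one]
        intro x hx y hy
        by_contra hxy
        have hxI := hI x (Finset.mem_inter.mp hx).1
        have hyI := hI y (Finset.mem_inter.mp hy).1
        -- s x and s y proportional
        have hprop : s x ∈ K ∙ s y := by
          rw [Submodule.mem_span_singleton] at hxI hyI ⊢
          obtain ⟨c, hc⟩ := hxI
          obtain ⟨d, hd⟩ := hyI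
          have hd0 : d ≠ 0 := by
            rintro rfl
            rw [zero_smul] at hd
            exact hs y hd.symm
          refine ⟨c * d⁻¹, ?_⟩
          rw [← hd, smul_smul, mul_assoc, inv_mul_cancel₀ hd0, mul_one, hc]
        have hxT := (Finset.mem_inter.mp hx).2
        have hyT := (Finset.mem_inter.mp hy).2
        simp only [hT, Finset.mem_insert, Finset.mem_singleton] at hxT hyT
        rcases hxT with rfl | rfl | rfl <;> rcases hyT with rfl | rfl | rfl
        · exact hxy rfl
        · exact hij hprop
        · exact hik hprop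
        · exact hij (mem_span_symm (hs _) hprop)
        · exact hxy rfl
        · exact hjk hprop
        · exact hik (mem_span_symm (hs _) hprop)
        · exact hjk (mem_span_symm (hs _) hprop)
        · exact hxy rfl
      have hsplit : ∑ m ∈ I, θ m = ∑ m ∈ I ∩ T, θ m + ∑ m ∈ I \ T, θ m :=
        (Finset.sum_inter_add_sum_sdiff I T θ).symm
      have h1 : ∑ m ∈ I ∩ T, θ m ≤ a := by
        rw [Finset.sum_congr rfl (fun m hm => by
          simp only [θ, if_pos (Finset.mem_inter.mp hm).2] : ∀ m ∈ I ∩ T, θ m = a)]
        rw [Finset.sum_const, nsmul_eq_mul]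
        have : ((I ∩ T).card : ℚ) ≤ 1 := by exact_mod_cast hTI
        nlinarith
      have h2 : ∑ m ∈ I \ T, θ m ≤ ((n : ℚ) - 3) * ε := by
        rw [Finset.sum_congr rfl (fun m hm => by
          simp only [θ, if_neg (Finset.mem_sdiff.mp hm).2] : ∀ m ∈ I \ T, θ m = ε)]
        rw [Finset.sum_const, nsmul_eq_mul]
        have hc : (I \ T).card ≤ n - 3 := by
          have : (I \ T) ⊆ Tᶜ := by
            intro m hm
            exact Finset.mem_compl.mpr (Finset.mem_sdiff.mp hm).2
          calc (I \ T).card ≤ Tᶜ.card := Finset.card_le_card this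
            _ = n - 3 := by rw [Finset.card_compl, hTcard]
        have : ((I \ T).card : ℚ) ≤ (n : ℚ) - 3 := by
          have : ((I \ T).card : ℚ) ≤ ((n - 3 : ℕ) : ℚ) := by exact_mod_cast hc
          rwa [Nat.cast_sub hn3] at this
        nlinarith
      rw [hsplit]
      have : a + ((n : ℚ) - 3) * ε < 1 := by
        rw [ha]
        have : ((n : ℚ) - 3) * ε = 1 / 2 - 3 * ε := by rw [sub_mul, hnε]
        rw [this]
        linarith
      linarith
    refine ⟨θ, fun m => (hθpos m).le, ?_, hsum_univ, ?_⟩
    · intro m
      simp only [θ]
      split_ifs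
      · linarith
      · exact hε_le
    · have hss : PtQuiv.QSemistable (-1) θ s := by
        rw [Groth.Agent.S18560.result K ι s hs θ (fun m => (hθpos m).le) ?_ hsum_univ]
        · intro J v hJ
          exact (hline v J hJ).le
        · intro m
          simp only [θ]
          split_ifs
          · linarith
          · exact hε_le
      refine ⟨hss, ?_⟩
      intro L I hLI hw
      unfold PtQuiv.QWt at hw
      have hle : Module.finrank K L ≤ 2 := by
        have := Submodule.finrank_le L
        simpa using this
      interval_cases hL : Module.finrank K L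
      · left
        have hbot : L = ⊥ := Submodule.finrank_eq_zero.mp hL
        refine ⟨hbot, ?_⟩
        rw [Finset.eq_empty_iff_forall_notMem]
        intro m hm
        have := hLI m hm
        rw [hbot, Submodule.mem_bot] at this
        exact hs m this
      · exfalso
        obtain ⟨⟨v, hvL⟩, hv0, hv⟩ := finrank_eq_one_iff'.mp hL
        have hJ : ∀ m ∈ I, s m ∈ K ∙ v := by
          intro m hm
          obtain ⟨c, hc⟩ := hv ⟨s m, hLI m hm⟩
          rw [Submodule.mem_span_singleton]
          exact ⟨c, congrArg Subtype.val hc⟩
        have := hline v I hJ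
        push_cast at hw
        linarith
      · right
        have htop : L = ⊤ := by
          apply Submodule.eq_top_of_finrank_eq
          rw [hL]; simp
        refine ⟨htop, ?_⟩
        push_cast at hw
        have hI2 : ∑ m ∈ I, θ m = 2 := by linarith
        by_contra hIne
        obtain ⟨m, hm⟩ : ∃ m, m ∉ I := by
          by_contra hcon
          push_neg at hcon
          exact hIne (Finset.eq_univ_of_forall hcon)
        have : ∑ m ∈ I, θ m < ∑ m, θ m := by
          apply Finset.sum_lt_sum_of_subset (Finset.subset_univ I) (Finset.mem_univ m) hm (hθpos m)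
          intro x _ _
          exact (hθpos x).le
        rw [hI2, hsum_univ] at this
        exact lt_irrefl _ this

end Groth.Agent.S18561
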