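import Groth.Statements.S18579
import Mathlib

set_option autoImplicit false
universe u
open LogDiff

namespace Groth.Agent.S18579

open Finset in
/-- In a domain, if `a * a'` is a product of primes from the family `f`, then `a` is a unit times a
product of powers of the `f i`. -/
lemma exists_unit_mul_prod_pow {R : Type u} [CommRing R] [IsDomain R] {r : ℕ} (f : Fin r → R)
    (hf : ∀ i, Prime (f i)) :
    ∀ (l : List (Fin r)) (a a' : R), a * a' = (l.map f).prod →
      ∃ (v : Rˣ) (c : Fin r → ℕ), a = v * ∏ i, f i ^ c i := by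
  intro l
  induction l with
  | nil =>
    intro a a' h
    simp only [List.map_nil, List.prod_nil] at h
    exact ⟨Units.mkOfMulEqOne a a' h, fun _ => 0, by simp⟩
  | cons j l ih =>
    intro a a' h
    simp only [List.map_cons, List.prod_cons] at h
    have hdvd : f j ∣ a * a' := ⟨_, h⟩
    rcases (hf j).dvd_or_dvd hdvd with ⟨a₁, rfl⟩ | ⟨a₁', rfl⟩
    · have h1 : a₁ * a' = (l.map f).prod := by
        apply mul_left_cancel₀ (hf j).ne_zero
        rw [← h]; ring
      obtain ⟨v, c, hc⟩ := ih a₁ a' h1
      refine ⟨v, (c + Pi.single j 1 : Fin r → ℕ), ?_⟩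
      rw [hc]
      have : ∏ i, f i ^ ((c + Pi.single j 1 : Fin r → ℕ) i) = (∏ i, f i ^ c i) * f j := by
        simp only [Pi.add_apply, pow_add, Finset.prod_mul_distrib]
        congr 1
        rw [Finset.prod_eq_single j]
        · simp
        · intro b _ hb
          simp [Pi.single_eq_of_ne hb]
        · simp
      rw [this]; ring
    · have h1 : a * a₁' = (l.map f).prod := by
        apply mul_left_cancel₀ (hf j).ne_zero
        rw [← h]; ring
      exact ih a a₁' h1

lemma emultiplicity_unit_mul_prod_pow {R : Type u} [CommRing R] [IsDomain R] {r : ℕ} (f : Fin r → R)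
    (hf : ∀ i, Prime (f i)) (hfa : ∀ i j, Associated (f i) (f j) → i = j)
    (v : Rˣ) (e : Fin r → ℕ) (j : Fin r) :
    emultiplicity (f j) ((v : R) * ∏ i, f i ^ e i) = e j := by
  rw [emultiplicity_mul (hf j), Finset.emultiplicity_prod (hf j)]
  have h0 : emultiplicity (f j) (v : R) = 0 := by
    rw [emultiplicity_eq_zero]
    intro h
    exact (hf j).not_isUnit (isUnit_of_dvd_unit h v.isUnit)
  rw [h0, zero_add, Finset.sum_eq_single j]
  · exact emultiplicity_pow_self_of_prime (hf j) (e j)
  · intro b _ hb
    rw [emultiplicity_pow (hf j)]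
    have : emultiplicity (f j) (f b) = 0 := by
      rw [emultiplicity_eq_zero]
      intro h
      exact hb ((hfa j b (((hf j).dvd_prime_iff_associated (hf b)).mp h)).symm)
    rw [this, mul_zero]
  · simp


/-- The exact sequence for units (first Milnor K-groups) when every component of the divisor is removed.
Let k be a field, B a smooth k-algebra, R the localization of B at a prime ideal, K the fraction
field of R and f_1, …, f_r pairwise non-associate prime elements of R. If w is a unit of K such that
w and w⁻¹ both lie in R[1/(f_1⋯f_r)], i.e. each becomes an element of R after multiplication by a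
power of f_1⋯f_r, then there is exactly one pair (v, b) consisting of a unit v of R and integers
b_1, …, b_r with w = v · ∏ f_i^{b_i} in K. (This is the exactness of 0 → Γ(Spec R, O^×) → Γ(Spec R ∖
V(f_1⋯f_r), O^×) → ℤ^r → 0, the last map being the orders along the f_i. The published statement
takes the f_i to be local equations of the components of a normal crossings divisor, over a field of
characteristic zero; this row allows arbitrary pairwise non-associate prime elements and any field.) -/
theorem result
    {k B R K : Type u} [Field k] [CommRing B] [Algebra k B] [Algebra.Smooth k B]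
    (p : Ideal B) [p.IsPrime] [CommRing R] [Algebra B R] [IsLocalization.AtPrime R p]
    [Field K] [Algebra R K] [IsFractionRing R K]
    {r : ℕ} (f : Fin r → R) (hf : ∀ i, Prime (f i)) (hfa : ∀ i j, Associated (f i) (f j) → i = j)
    (w : Kˣ)
    (hw : ∃ (a : R) (n : ℕ), (w : K) * algebraMap R K ((∏ i, f i) ^ n) = algebraMap R K a)
    (hw' : ∃ (a : R) (n : ℕ), (w⁻¹ : Kˣ) * algebraMap R K ((∏ i, f i) ^ n) = algebraMap R K a) :
    ∃! vb : Rˣ × (Fin r → ℤ),
      (w : K) = algebraMap R K (vb.1 : R) * ∏ i, (algebraMap R K (f i)) ^ (vb.2 i) := by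
  classical
  have hinj : Function.Injective (algebraMap R K) := IsFractionRing.injective R K
  haveI : IsDomain R := hinj.isDomain (algebraMap R K)
  have hf0 : ∀ i, algebraMap R K (f i) ≠ 0 := fun i => by
    intro h
    exact (hf i).ne_zero (hinj (by rw [h, map_zero]))
  obtain ⟨a, n, ha⟩ := hw
  obtain ⟨a', m, ha'⟩ := hw'
  -- a * a' = F^(n+m)
  have haa' : a * a' = (∏ i, f i) ^ (n + m) := by
    apply hinj
    rw [map_mul, ← ha, ← ha', pow_add, map_mul]
    have : (w : K) * ((w⁻¹ : Kˣ) : K) = 1 := by simp
    calc (w : K) * algebraMap R K ((∏ i, f i) ^ n) * (((w⁻¹ : Kˣ) : K) * algebraMap R K ((∏ i, f i) ^ m))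
        = ((w : K) * ((w⁻¹ : Kˣ) : K)) * (algebraMap R K ((∏ i, f i) ^ n) * algebraMap R K ((∏ i, f i) ^ m)) := by ring
      _ = _ := by rw [this, one_mul]
  have hlist : (∏ i, f i) ^ (n + m) =
      (((List.replicate (n + m) (List.finRange r)).flatten).map f).prod := by
    rw [List.map_flatten, List.prod_flatten, List.map_replicate, List.map_replicate,
      List.prod_replicate, Fin.prod_univ_def]
  obtain ⟨v, c, hc⟩ := exists_unit_mul_prod_pow f hf _ a a' (haa'.trans hlist)
  -- uniqueness statement
  have huniq : ∀ (v v' : Rˣ) (b b' : Fin r → ℤ),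
      algebraMap R K (v : R) * ∏ i, (algebraMap R K (f i)) ^ (b i) =
        algebraMap R K (v' : R) * ∏ i, (algebraMap R K (f i)) ^ (b' i) → v = v' ∧ b = b' := by
    intro v v' b b' h
    let N : ℕ := ∑ i, ((b i).natAbs + (b' i).natAbs)
    have hN : ∀ i, 0 ≤ b i + N ∧ 0 ≤ b' i + N := by
      intro i
      have h1 : (b i).natAbs + (b' i).natAbs ≤ N :=
        Finset.single_le_sum (f := fun i => (b i).natAbs + (b' i).natAbs) (fun _ _ => Nat.zero_le _)
          (Finset.mem_univ i)
      have h2 : ((b i).natAbs : ℤ) + ((b' i).natAbs : ℤ) ≤ (N : ℤ) := by exact_mod_cast h1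
      have h3 := neg_abs_le (b i)
      have h4 := neg_abs_le (b' i)
      have h5 : ((b i).natAbs : ℤ) = |b i| := Int.natCast_natAbs _
      have h6 : ((b' i).natAbs : ℤ) = |b' i| := Int.natCast_natAbs _
      have h7 := abs_nonneg (b i)
      have h8 := abs_nonneg (b' i)
      constructor <;> linarith
    let e : Fin r → ℕ := fun i => (b i + N).toNat
    let e' : Fin r → ℕ := fun i => (b' i + N).toNat
    have key : ∀ (u : Rˣ) (d : Fin r → ℤ), (∀ i, 0 ≤ d i + N) →
        (algebraMap R K (u : R) * ∏ i, (algebraMap R K (f i)) ^ (d i)) *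
          ∏ i, (algebraMap R K (f i)) ^ N =
        algebraMap R K ((u : R) * ∏ i, f i ^ (d i + N).toNat) := by
      intro u d hd
      rw [mul_assoc, ← Finset.prod_mul_distrib, map_mul, map_prod]
      congr 1
      apply Finset.prod_congr rfl
      intro i _
      rw [map_pow, ← zpow_natCast (algebraMap R K (f i)) N, ← zpow_add₀ (hf0 i),
        ← zpow_natCast (algebraMap R K (f i)) (d i + N).toNat, Int.toNat_of_nonneg (hd i)]
    have hR : (v : R) * ∏ i, f i ^ e i = (v' : R) * ∏ i, f i ^ e' i := by
      apply hinj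
      rw [← key v b (fun i => (hN i).1), ← key v' b' (fun i => (hN i).2), h]
    have hee' : ∀ j, e j = e' j := by
      intro j
      have h1 := emultiplicity_unit_mul_prod_pow f hf hfa v e j
      have h2 := emultiplicity_unit_mul_prod_pow f hf hfa v' e' j
      rw [hR, h2] at h1
      exact_mod_cast h1.symm
    have hbb' : b = b' := by
      funext j
      have h1 : ((e j : ℕ) : ℤ) = b j + N := Int.toNat_of_nonneg (hN j).1
      have h2 : ((e' j : ℕ) : ℤ) = b' j + N := Int.toNat_of_nonneg (hN j).2
      have h3 := hee' j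
      have : (b j + N : ℤ) = b' j + N := by rw [← h1, ← h2, h3]
      linarith
    refine ⟨?_, hbb'⟩
    subst hbb'
    have hprod : (∏ i, (algebraMap R K (f i)) ^ (b i)) ≠ 0 :=
      Finset.prod_ne_zero_iff.mpr (fun i _ => zpow_ne_zero _ (hf0 i))
    have := mul_right_cancel₀ hprod h
    exact Units.ext (hinj this)
  -- existence
  have hF0 : algebraMap R K ((∏ i, f i) ^ n) ≠ 0 := by
    rw [map_pow, map_prod]
    exact pow_ne_zero _ (Finset.prod_ne_zero_iff.mpr (fun i _ => hf0 i))
  have hex : (w : K) = algebraMap R K (v : R) * ∏ i, (algebraMap R K (f i)) ^ ((c i : ℤ) - n) := by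
    have h1 : (w : K) = algebraMap R K a / algebraMap R K ((∏ i, f i) ^ n) := by
      rw [eq_div_iff hF0, ha]
    rw [h1, hc, map_mul, map_prod, map_pow, map_prod, mul_div_assoc, ← Finset.prod_pow,
      ← Finset.prod_div_distrib]
    congr 1
    apply Finset.prod_congr rfl
    intro i _
    rw [map_pow, zpow_sub₀ (hf0 i), zpow_natCast, zpow_natCast]
  refine ⟨(v, fun i => (c i : ℤ) - n), hex, ?_⟩
  rintro ⟨v', b'⟩ hvb'
  simp only at hvb'
  have := huniq v' v b' (fun i => (c i : ℤ) - n) (hvb'.symm.trans hex)
  exact Prod.ext this.1 this.2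

end Groth.Agent.S18579
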