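import Groth.Statements.S18580
import Mathlib

set_option autoImplicit false
universe u
open EtBase

namespace Groth.Agent.S18580

section Helpers
open AlgebraicGeometry CategoryTheory Limits TopologicalSpace



theorem sec_isOpenImmersion {X Y : Scheme.{u}} (f : X ⟶ Y) [FormallyUnramified f]
    [LocallyOfFiniteType f] (s : Y ⟶ X) (hs : s ≫ f = 𝟙 Y) : IsOpenImmersion s := by
  haveI : Etale (s ≫ f) := by rw [hs]; infer_instance
  haveI : Etale s := Etale.of_comp s f
  haveI : Mono s := by
    haveI : Mono (s ≫ f) := by rw [hs]; infer_instance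
    exact mono_of_mono s f
  exact IsOpenImmersion.of_flat_of_mono s

theorem sec_isClosedImmersion {X Y : Scheme.{u}} (f : X ⟶ Y) [IsSeparated f]
    (s : Y ⟶ X) (hs : s ≫ f = 𝟙 Y) : IsClosedImmersion s := by
  haveI : IsClosedImmersion (s ≫ f) := by rw [hs]; infer_instance
  exact IsClosedImmersion.of_comp s f

theorem range_sec_eq_connectedComponent {X Y : Scheme.{u}} (f : X ⟶ Y) [FormallyUnramified f]
    [LocallyOfFiniteType f] [IsSeparated f] [ConnectedSpace Y] (s : Y ⟶ X) (hs : s ≫ f = 𝟙 Y) :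
    ∃ x : X, Set.range s = connectedComponent x := by
  haveI := sec_isOpenImmersion f s hs
  haveI := sec_isClosedImmersion f s hs
  obtain ⟨y⟩ := (inferInstance : Nonempty Y)
  refine ⟨s y, ?_⟩
  have hclopen : IsClopen (Set.range s) :=
    ⟨s.isClosedEmbedding.isClosed_range, s.isOpenEmbedding.isOpen_range⟩
  have hpre : _root_.IsPreconnected (Set.range s) := isPreconnected_range s.continuous
  apply Set.Subset.antisymm
  · exact hpre.subset_connectedComponent ⟨y, rfl⟩
  · exact hclopen.connectedComponent_subset ⟨y, rfl⟩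

noncomputable def rangeOpen {X Y : Scheme.{u}} (f : X ⟶ Y) [FormallyUnramified f]
    [LocallyOfFiniteType f] (s : Y ⟶ X) (hs : s ≫ f = 𝟙 Y) : X.Opens :=
  @Scheme.Hom.opensRange _ _ s (sec_isOpenImmersion f s hs)

theorem coe_rangeOpen {X Y : Scheme.{u}} (f : X ⟶ Y) [FormallyUnramified f]
    [LocallyOfFiniteType f] (s : Y ⟶ X) (hs : s ≫ f = 𝟙 Y) :
    (rangeOpen f s hs : Set X) = Set.range s := rfl

theorem rangeOpen_ι_comp {X Y : Scheme.{u}} (f : X ⟶ Y) [FormallyUnramified f]
    [LocallyOfFiniteType f] (s : Y ⟶ X) (hs : s ≫ f = 𝟙 Y) :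
    (rangeOpen f s hs).ι ≫ f = (@Scheme.Hom.isoOpensRange _ _ s (sec_isOpenImmersion f s hs)).inv := by
  haveI := sec_isOpenImmersion f s hs
  rw [← Iso.hom_comp_eq_id]
  show s.isoOpensRange.hom ≫ (s.opensRange.ι ≫ f) = 𝟙 Y
  rw [← Category.assoc, Scheme.Hom.isoOpensRange_hom_ι, hs]

theorem rangeOpen_isIso {X Y : Scheme.{u}} (f : X ⟶ Y) [FormallyUnramified f]
    [LocallyOfFiniteType f] (s : Y ⟶ X) (hs : s ≫ f = 𝟙 Y) :
    IsIso ((rangeOpen f s hs).ι ≫ f) := by
  rw [rangeOpen_ι_comp]; infer_instance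

noncomputable def secOf {X Y : Scheme.{u}} (f : X ⟶ Y) (U : X.Opens) (h : IsIso (U.ι ≫ f)) :
    Y ⟶ X :=
  @inv _ _ _ _ (U.ι ≫ f) h ≫ U.ι

theorem secOf_comp {X Y : Scheme.{u}} (f : X ⟶ Y) (U : X.Opens) (h : IsIso (U.ι ≫ f)) :
    secOf f U h ≫ f = 𝟙 Y := by
  haveI := h
  show (inv (U.ι ≫ f) ≫ U.ι) ≫ f = 𝟙 Y
  rw [Category.assoc, IsIso.inv_hom_id]

theorem rangeOpen_secOf {X Y : Scheme.{u}} (f : X ⟶ Y) [FormallyUnramified f]
    [LocallyOfFiniteType f] (U : X.Opens) (h : IsIso (U.ι ≫ f)) :
    rangeOpen f (secOf f U h) (secOf_comp f U h) = U := by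
  haveI := h
  have h1 : rangeOpen f (secOf f U h) (secOf_comp f U h) = (inv (U.ι ≫ f) ≫ U.ι).opensRange := rfl
  rw [h1, Scheme.Hom.opensRange_comp_of_isIso, Scheme.Opens.opensRange_ι]

theorem secOf_rangeOpen {X Y : Scheme.{u}} (f : X ⟶ Y) [FormallyUnramified f]
    [LocallyOfFiniteType f] (s : Y ⟶ X) (hs : s ≫ f = 𝟙 Y) (h : IsIso ((rangeOpen f s hs).ι ≫ f)) :
    secOf f (rangeOpen f s hs) h = s := by
  haveI := sec_isOpenImmersion f s hs
  haveI := h
  have h0 := rangeOpen_ι_comp f s hs
  show inv ((rangeOpen f s hs).ι ≫ f) ≫ (rangeOpen f s hs).ι = s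
  have h2 : inv ((rangeOpen f s hs).ι ≫ f) = s.isoOpensRange.hom := by
    apply IsIso.inv_eq_of_hom_inv_id
    rw [h0]; exact s.isoOpensRange.inv_hom_id
  rw [h2]; exact Scheme.Hom.isoOpensRange_hom_ι s

noncomputable def secEquiv {X Y : Scheme.{u}} (f : X ⟶ Y) [FormallyUnramified f]
    [LocallyOfFiniteType f] [IsSeparated f] [ConnectedSpace Y] :
    {s : Y ⟶ X // s ≫ f = 𝟙 Y} ≃
      {U : X.Opens // (∃ x : X, (U : Set X) = connectedComponent x) ∧ IsIso (U.ι ≫ f)} where
  toFun s := ⟨rangeOpen f s.1 s.2, ⟨by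
      obtain ⟨x, hx⟩ := range_sec_eq_connectedComponent f s.1 s.2
      exact ⟨x, (coe_rangeOpen f s.1 s.2).trans hx⟩, rangeOpen_isIso f s.1 s.2⟩⟩
  invFun U := ⟨secOf f U.1 U.2.2, secOf_comp f U.1 U.2.2⟩
  left_inv s := Subtype.ext (secOf_rangeOpen f s.1 s.2 _)
  right_inv U := Subtype.ext (rangeOpen_secOf f U.1 U.2.2)

end Helpers

open AlgebraicGeometry CategoryTheory in
/-- Let Y be a connected scheme and f : X ⟶ Y a separated morphism that is unramified (locally of finite
type and formally unramified). Then the sections of f correspond bijectively to the connected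
components of X mapping isomorphically onto Y: there is a bijection from the set of sections s of f
to the set of open subschemes U of X whose underlying set is a connected component of X and for
which U ⟶ X ⟶ Y is an isomorphism, sending s to its image. In particular every section is an
isomorphism onto a connected component of X and is determined by its image. (A connected component
mapping isomorphically onto Y is the image of a section, hence open, so restricting to open
components loses nothing. The published statement also assumes Y Noetherian; that hypothesis plays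
no role and is omitted.) -/
theorem result {X Y : Scheme.{u}} (f : X ⟶ Y)
    [FormallyUnramified f] [LocallyOfFiniteType f] [IsSeparated f] [ConnectedSpace Y] :
    ∃ e : {s : Y ⟶ X // s ≫ f = 𝟙 Y} ≃
        {U : X.Opens // (∃ x : X, (U : Set X) = connectedComponent x) ∧ IsIso (U.ι ≫ f)},
      ∀ s : {s : Y ⟶ X // s ≫ f = 𝟙 Y}, ((e s).1 : Set X) = Set.range s.1 := by
  exact ⟨secEquiv f, fun s => coe_rangeOpen f s.1 s.2⟩

end Groth.Agent.S18580
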