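import Groth.Statements.S18587
import Mathlib
import Groth.Agent.Lib.Helper8.WittCyc

set_option autoImplicit false
universe u
open CAlg

namespace Groth.Agent.S18587

/-- Affine form with D = 0: let p be a prime, ℓ ≥ 1 an integer not divisible by p and n ≥ 1. Let A → B
be an injective ring homomorphism of integral domains of characteristic p such that B is spanned as
an A-module by finitely many elements y with y ^ ℓ in the image of A (a weakly ℓ-cyclic extension).
Then for every p-typical Witt vector ζ over B in the image of the n-fold Verschiebung there is a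
nonzero a in A such that the product of the Teichmüller representative of (the image of) a with ζ
lies in the ideal of W(B) generated by the images of the n-fold Verschiebungs of Witt vectors over
A. (This is the case D = 0 of the published statement, written for the coordinate rings; the
published statement allows a twist by a real Weil divisor D and assumes the rings excellent and
normal, hypotheses which the case D = 0 does not use.) -/
theorem result
    (p : ℕ) [Fact p.Prime] (ℓ n : ℕ) (hℓ : 0 < ℓ) (hpℓ : ¬ p ∣ ℓ) (hn : 0 < n)
    (A B : Type u) [CommRing A] [CommRing B] [IsDomain A] [IsDomain B] [Algebra A B]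
    [CharP A p] [CharP B p] (hinj : Function.Injective (algebraMap A B))
    (y : Finset B) (hspan : Submodule.span A (y : Set B) = ⊤)
    (hpow : ∀ b ∈ y, b ^ ℓ ∈ Set.range (algebraMap A B))
    (ζ : WittVector p B)
    (hζ : ∃ η : WittVector p B, (⇑(WittVector.verschiebung : WittVector p B →+ WittVector p B))^[n] η = ζ) :
    ∃ a : A, a ≠ 0 ∧ WittVector.teichmuller p (algebraMap A B a) * ζ ∈
      Ideal.span (Set.range (fun x : WittVector p A =>
        WittVector.map (algebraMap A B) ((⇑(WittVector.verschiebung : WittVector p A →+ WittVector p A))^[n] x))) := by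
  classical
  obtain ⟨η, rfl⟩ := hζ
  have hsp : ∀ b : B, ∃ a : B → A, ∑ z ∈ y.erase 0, algebraMap A B (a z) * z = b := by
    intro b
    have hb : b ∈ Submodule.span A (y : Set B) := by rw [hspan]; exact Submodule.mem_top
    obtain ⟨a, -, ha⟩ := Submodule.mem_span_finset.1 hb
    refine ⟨a, ?_⟩
    rw [Finset.sum_erase]
    · rw [← ha]
      exact Finset.sum_congr rfl fun z _ => (Algebra.smul_def _ _).symm
    · rw [mul_zero]
  obtain ⟨a, ha0, hmem⟩ := Groth.Agent.Helper8.WittCyc.main0 (p := p) (algebraMap A B) ℓ n hℓ hpℓ
    (y.erase 0) (fun z hz => (Finset.mem_erase.1 hz).1) hsp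
    (fun z hz => hpow z (Finset.mem_erase.1 hz).2) η
  refine ⟨a, ha0, ?_⟩
  have e1 : (⇑(WittVector.verschiebung : WittVector p B →+ WittVector p B))^[n] η =
      Groth.Agent.Helper8.WittCyc.Vk n η := (Groth.Agent.Helper8.WittCyc.Vk_apply n η).symm
  have e2 : (fun x : WittVector p A => WittVector.map (algebraMap A B)
      ((⇑(WittVector.verschiebung : WittVector p A →+ WittVector p A))^[n] x)) =
      fun x => WittVector.map (algebraMap A B) (Groth.Agent.Helper8.WittCyc.Vk n x) := by
    funext x
    rw [Groth.Agent.Helper8.WittCyc.Vk_apply]
  rw [e1, e2]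
  exact hmem

end Groth.Agent.S18587
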