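import Groth.Statements.S18589
import Mathlib
-- import your own Groth.Agent.* helpers here

set_option autoImplicit false
open CAlg

namespace Groth.Agent.S18589

/-- For a prime p and every natural number n, the n-th Witt addition polynomial over the integers (the
polynomial S_n with (x + y)_n = S_n(x_0, y_0, …, x_n, y_n) for p-typical Witt vectors x, y) is
weighted homogeneous of weighted degree p ^ n for the grading in which the variables x_i and y_i
have weight p ^ i. -/
theorem result (p : ℕ) [Fact p.Prime] (n : ℕ) :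
    MvPolynomial.IsWeightedHomogeneous (fun i : Fin 2 × ℕ => p ^ i.2) (WittVector.wittAdd p n) (p ^ n) := by
  induction n using Nat.strong_induction_on with
  | h n IH =>
  open MvPolynomial in
  set w : Fin 2 × ℕ → ℕ := fun i => p ^ i.2 with hw
  have hp : p ≠ 0 := (Fact.out : p.Prime).ne_zero
  have hprop := wittStructureInt_prop p (MvPolynomial.X (0 : Fin 2) + MvPolynomial.X 1) n
  have hL : MvPolynomial.bind₁ (wittStructureInt p (MvPolynomial.X (0 : Fin 2) + MvPolynomial.X 1))
      (wittPolynomial p ℤ n) =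
      ∑ i ∈ Finset.range (n + 1), MvPolynomial.C ((p : ℤ) ^ i) *
        (wittStructureInt p (MvPolynomial.X (0 : Fin 2) + MvPolynomial.X 1) i) ^ p ^ (n - i) := by
    simp only [wittPolynomial_eq_sum_C_mul_X_pow, map_sum, map_mul, map_pow,
      MvPolynomial.bind₁_C_right, MvPolynomial.bind₁_X_right]
  have hR : MvPolynomial.bind₁ (fun i : Fin 2 => MvPolynomial.rename (Prod.mk i) (wittPolynomial p ℤ n))
      (MvPolynomial.X (0 : Fin 2) + MvPolynomial.X 1) =
      ∑ i ∈ Finset.range (n + 1), MvPolynomial.C ((p : ℤ) ^ i) *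
          MvPolynomial.X ((0 : Fin 2), i) ^ p ^ (n - i) +
        ∑ i ∈ Finset.range (n + 1), MvPolynomial.C ((p : ℤ) ^ i) *
          MvPolynomial.X ((1 : Fin 2), i) ^ p ^ (n - i) := by
    simp only [map_add, MvPolynomial.bind₁_X_right, wittPolynomial_eq_sum_C_mul_X_pow, map_sum,
      map_mul, map_pow, MvPolynomial.rename_C, MvPolynomial.rename_X]
  rw [hL, hR, Finset.sum_range_succ, Nat.sub_self, pow_zero, pow_one] at hprop
  have hprop' : (∑ i ∈ Finset.range n, MvPolynomial.C ((p : ℤ) ^ i) *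
        (WittVector.wittAdd p i) ^ p ^ (n - i)) +
      MvPolynomial.C ((p : ℤ) ^ n) * WittVector.wittAdd p n =
      ∑ i ∈ Finset.range (n + 1), MvPolynomial.C ((p : ℤ) ^ i) *
          MvPolynomial.X ((0 : Fin 2), i) ^ p ^ (n - i) +
        ∑ i ∈ Finset.range (n + 1), MvPolynomial.C ((p : ℤ) ^ i) *
          MvPolynomial.X ((1 : Fin 2), i) ^ p ^ (n - i) := hprop
  have hpow : ∀ i ≤ n, p ^ (n - i) * p ^ i = p ^ n := fun i hi => by
    rw [← pow_add, Nat.sub_add_cancel hi]
  have hX : ∀ b : Fin 2, MvPolynomial.IsWeightedHomogeneous w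
      (∑ i ∈ Finset.range (n + 1), MvPolynomial.C ((p : ℤ) ^ i) *
        MvPolynomial.X ((b, i) : Fin 2 × ℕ) ^ p ^ (n - i)) (p ^ n) := by
    intro b
    refine MvPolynomial.IsWeightedHomogeneous.sum _ _ _ fun i hi => ?_
    have hi' : i ≤ n := Nat.lt_succ_iff.mp (Finset.mem_range.mp hi)
    have h1 := ((MvPolynomial.isWeightedHomogeneous_X ℤ w ((b, i) : Fin 2 × ℕ)).pow
      (p ^ (n - i))).C_mul ((p : ℤ) ^ i)
    rwa [show p ^ (n - i) • w (b, i) = p ^ n from by
      rw [smul_eq_mul]; exact hpow i hi'] at h1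
  have hS : MvPolynomial.IsWeightedHomogeneous w
      (∑ i ∈ Finset.range n, MvPolynomial.C ((p : ℤ) ^ i) *
        (WittVector.wittAdd p i) ^ p ^ (n - i)) (p ^ n) := by
    refine MvPolynomial.IsWeightedHomogeneous.sum _ _ _ fun i hi => ?_
    have hi' : i < n := Finset.mem_range.mp hi
    have h1 := ((IH i hi').pow (p ^ (n - i))).C_mul ((p : ℤ) ^ i)
    rwa [show p ^ (n - i) • p ^ i = p ^ n from by
      rw [smul_eq_mul]; exact hpow i hi'.le] at h1
  have hmain : MvPolynomial.IsWeightedHomogeneous w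
      (MvPolynomial.C ((p : ℤ) ^ n) * WittVector.wittAdd p n) (p ^ n) := by
    have e : MvPolynomial.C ((p : ℤ) ^ n) * WittVector.wittAdd p n =
        (∑ i ∈ Finset.range (n + 1), MvPolynomial.C ((p : ℤ) ^ i) *
          MvPolynomial.X ((0 : Fin 2), i) ^ p ^ (n - i) +
        ∑ i ∈ Finset.range (n + 1), MvPolynomial.C ((p : ℤ) ^ i) *
          MvPolynomial.X ((1 : Fin 2), i) ^ p ^ (n - i)) -
        ∑ i ∈ Finset.range n, MvPolynomial.C ((p : ℤ) ^ i) *
          (WittVector.wittAdd p i) ^ p ^ (n - i) := by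
      linear_combination hprop'
    rw [e]
    exact ((hX 0).add (hX 1)).sub hS
  intro d hd
  apply hmain
  rw [MvPolynomial.coeff_C_mul]
  exact mul_ne_zero (pow_ne_zero _ (by exact_mod_cast hp)) hd

end Groth.Agent.S18589
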