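import Groth.Statements.S18590
import Mathlib
import Groth.Agent.S18589
-- import your own Groth.Agent.* helpers here

set_option autoImplicit false
universe u
open CAlg

namespace Groth.Agent.S18590


/-- wittMul is weighted homogeneous for the weights (0 on x_i, p^i on y_i). -/
lemma wittMul_wh (p : ℕ) [Fact p.Prime] (n : ℕ) :
    MvPolynomial.IsWeightedHomogeneous (fun i : Fin 2 × ℕ => if i.1 = 1 then p ^ i.2 else 0)
      (WittVector.wittMul p n) (p ^ n) := by
  induction n using Nat.strong_induction_on with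
  | h n IH =>
  set w : Fin 2 × ℕ → ℕ := fun i => if i.1 = 1 then p ^ i.2 else 0 with hw
  have hp : p ≠ 0 := (Fact.out : p.Prime).ne_zero
  have hprop := wittStructureInt_prop p (MvPolynomial.X (0 : Fin 2) * MvPolynomial.X 1) n
  have hL : MvPolynomial.bind₁ (wittStructureInt p (MvPolynomial.X (0 : Fin 2) * MvPolynomial.X 1))
      (wittPolynomial p ℤ n) =
      ∑ i ∈ Finset.range (n + 1), MvPolynomial.C ((p : ℤ) ^ i) *
        (wittStructureInt p (MvPolynomial.X (0 : Fin 2) * MvPolynomial.X 1) i) ^ p ^ (n - i) := by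
    simp only [wittPolynomial_eq_sum_C_mul_X_pow, map_sum, map_mul, map_pow,
      MvPolynomial.bind₁_C_right, MvPolynomial.bind₁_X_right]
  have hR : MvPolynomial.bind₁ (fun i : Fin 2 => MvPolynomial.rename (Prod.mk i) (wittPolynomial p ℤ n))
      (MvPolynomial.X (0 : Fin 2) * MvPolynomial.X 1) =
      (∑ i ∈ Finset.range (n + 1), MvPolynomial.C ((p : ℤ) ^ i) *
          MvPolynomial.X ((0 : Fin 2), i) ^ p ^ (n - i)) *
        ∑ i ∈ Finset.range (n + 1), MvPolynomial.C ((p : ℤ) ^ i) *
          MvPolynomial.X ((1 : Fin 2), i) ^ p ^ (n - i) := by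
    simp only [map_mul, MvPolynomial.bind₁_X_right, wittPolynomial_eq_sum_C_mul_X_pow, map_sum,
      map_pow, MvPolynomial.rename_C, MvPolynomial.rename_X]
  rw [hL, hR, Finset.sum_range_succ, Nat.sub_self, pow_zero, pow_one] at hprop
  have hprop' : (∑ i ∈ Finset.range n, MvPolynomial.C ((p : ℤ) ^ i) *
        (WittVector.wittMul p i) ^ p ^ (n - i)) +
      MvPolynomial.C ((p : ℤ) ^ n) * WittVector.wittMul p n =
      (∑ i ∈ Finset.range (n + 1), MvPolynomial.C ((p : ℤ) ^ i) *
          MvPolynomial.X ((0 : Fin 2), i) ^ p ^ (n - i)) *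
        ∑ i ∈ Finset.range (n + 1), MvPolynomial.C ((p : ℤ) ^ i) *
          MvPolynomial.X ((1 : Fin 2), i) ^ p ^ (n - i) := hprop
  have hpow : ∀ i ≤ n, p ^ (n - i) * p ^ i = p ^ n := fun i hi => by
    rw [← pow_add, Nat.sub_add_cancel hi]
  have hX : ∀ (b : Fin 2) (c : ℕ), (∀ i, w (b, i) = c * p ^ i) →
      MvPolynomial.IsWeightedHomogeneous w
      (∑ i ∈ Finset.range (n + 1), MvPolynomial.C ((p : ℤ) ^ i) *
        MvPolynomial.X ((b, i) : Fin 2 × ℕ) ^ p ^ (n - i)) (c * p ^ n) := by
    intro b c hwb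
    refine MvPolynomial.IsWeightedHomogeneous.sum _ _ _ fun i hi => ?_
    have hi' : i ≤ n := Nat.lt_succ_iff.mp (Finset.mem_range.mp hi)
    have h1 := ((MvPolynomial.isWeightedHomogeneous_X ℤ w ((b, i) : Fin 2 × ℕ)).pow
      (p ^ (n - i))).C_mul ((p : ℤ) ^ i)
    rwa [show p ^ (n - i) • w (b, i) = c * p ^ n from by
      rw [smul_eq_mul, hwb i, mul_left_comm, hpow i hi']] at h1
  have hX0 := hX 0 0 (by intro i; simp [hw])
  have hX1 := hX 1 1 (by intro i; simp [hw])
  rw [zero_mul] at hX0
  rw [one_mul] at hX1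
  have hS : MvPolynomial.IsWeightedHomogeneous w
      (∑ i ∈ Finset.range n, MvPolynomial.C ((p : ℤ) ^ i) *
        (WittVector.wittMul p i) ^ p ^ (n - i)) (p ^ n) := by
    refine MvPolynomial.IsWeightedHomogeneous.sum _ _ _ fun i hi => ?_
    have hi' : i < n := Finset.mem_range.mp hi
    have h1 := ((IH i hi').pow (p ^ (n - i))).C_mul ((p : ℤ) ^ i)
    rwa [show p ^ (n - i) • p ^ i = p ^ n from by
      rw [smul_eq_mul]; exact hpow i hi'.le] at h1
  have hmain : MvPolynomial.IsWeightedHomogeneous w
      (MvPolynomial.C ((p : ℤ) ^ n) * WittVector.wittMul p n) (p ^ n) := by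
    have e : MvPolynomial.C ((p : ℤ) ^ n) * WittVector.wittMul p n =
        (∑ i ∈ Finset.range (n + 1), MvPolynomial.C ((p : ℤ) ^ i) *
          MvPolynomial.X ((0 : Fin 2), i) ^ p ^ (n - i)) *
        (∑ i ∈ Finset.range (n + 1), MvPolynomial.C ((p : ℤ) ^ i) *
          MvPolynomial.X ((1 : Fin 2), i) ^ p ^ (n - i)) -
        ∑ i ∈ Finset.range n, MvPolynomial.C ((p : ℤ) ^ i) *
          (WittVector.wittMul p i) ^ p ^ (n - i) := by
      linear_combination hprop'
    rw [e]
    have h01 := hX0.mul hX1
    rw [zero_add] at h01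
    exact h01.sub hS
  intro d hd
  apply hmain
  rw [MvPolynomial.coeff_C_mul]
  exact mul_ne_zero (pow_ne_zero _ (by exact_mod_cast hp)) hd

/-- multiplier predicate -/
def Good {A K : Type*} [CommRing A] [CommRing K] [Algebra A K] (M : ℕ → Submodule A K)
    (k : ℕ) (a : K) : Prop :=
  (∀ j, ∀ b ∈ M j, a * b ∈ M (j + k)) ∧ (0 < k → a ∈ M k)

lemma good_of_mem {A K : Type*} [CommRing A] [CommRing K] [Algebra A K] {M : ℕ → Submodule A K}
    (hmul : ∀ (i j : ℕ) (a b : K), a ∈ M i → b ∈ M j → a * b ∈ M (i + j))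
    {k : ℕ} {a : K} (ha : a ∈ M k) : Good M k a :=
  ⟨fun j b hb => by rw [add_comm]; exact hmul k j a b ha hb, fun _ => ha⟩

lemma good_algebraMap {A K : Type*} [CommRing A] [CommRing K] [Algebra A K]
    {M : ℕ → Submodule A K} (a : A) : Good M 0 (algebraMap A K a) :=
  ⟨fun j b hb => by rw [add_zero, ← Algebra.smul_def]; exact (M j).smul_mem a hb,
    fun h => absurd h (lt_irrefl 0)⟩

lemma good_one {A K : Type*} [CommRing A] [CommRing K] [Algebra A K]
    {M : ℕ → Submodule A K} : Good M 0 (1 : K) := by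
  simpa using good_algebraMap (M := M) (1 : A)

lemma good_mul {A K : Type*} [CommRing A] [CommRing K] [Algebra A K]
    {M : ℕ → Submodule A K} {k l : ℕ} {a a' : K} (h : Good M k a) (h' : Good M l a') :
    Good M (k + l) (a * a') := by
  refine ⟨fun j b hb => ?_, fun hpos => ?_⟩
  · have h1 := h'.1 j b hb
    have h2 := h.1 (j + l) (a' * b) h1
    rw [mul_assoc, show j + (k + l) = j + l + k by ring]
    exact h2
  · rcases Nat.eq_zero_or_pos l with hl | hl
    · subst hl
      have hk : 0 < k := by simpa using hpos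
      have h3 := h'.1 k a (h.2 hk)
      rw [mul_comm a a']; exact h3
    · have h3 := h.1 l a' (h'.2 hl)
      rw [add_comm k l]; exact h3

lemma good_pow {A K : Type*} [CommRing A] [CommRing K] [Algebra A K]
    {M : ℕ → Submodule A K} {k : ℕ} {a : K} (h : Good M k a) (r : ℕ) :
    Good M (r * k) (a ^ r) := by
  induction r with
  | zero => simpa using good_one (M := M)
  | succ r ih => rw [pow_succ, Nat.succ_mul]; exact good_mul ih h

lemma good_prod {A K : Type*} [CommRing A] [CommRing K] [Algebra A K]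
    {M : ℕ → Submodule A K} {σ : Type*} (T : Finset σ) (k : σ → ℕ) (a : σ → K)
    (h : ∀ s ∈ T, Good M (k s) (a s)) :
    Good M (∑ s ∈ T, k s) (∏ s ∈ T, a s) := by
  classical
  induction T using Finset.induction_on with
  | empty => simpa using good_one (M := M)
  | insert s T hs ih =>
    rw [Finset.sum_insert hs, Finset.prod_insert hs]
    exact good_mul (h s (Finset.mem_insert_self s T))
      (ih fun t ht => h t (Finset.mem_insert_of_mem ht))

lemma eval_mem {A K : Type*} [CommRing A] [CommRing K] [Algebra A K]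
    {M : ℕ → Submodule A K} {σ : Type*} (w : σ → ℕ) (P : MvPolynomial σ ℤ) (d : ℕ) (hd : 0 < d)
    (hP : MvPolynomial.IsWeightedHomogeneous w P d) (v : σ → K)
    (hv : ∀ s, Good M (w s) (v s)) :
    MvPolynomial.aeval v P ∈ M d := by
  rw [MvPolynomial.aeval_def, MvPolynomial.eval₂_eq]
  refine Submodule.sum_mem _ fun e he => ?_
  have hcoef : MvPolynomial.coeff e P ≠ 0 := MvPolynomial.mem_support_iff.mp he
  have hwe : Finsupp.weight w e = d := hP hcoef
  have hgood : Good M (∑ s ∈ e.support, e s * w s) (∏ s ∈ e.support, v s ^ e s) :=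
    good_prod e.support (fun s => e s * w s) (fun s => v s ^ e s)
      (fun s _ => good_pow (hv s) (e s))
  have hsum : ∑ s ∈ e.support, e s * w s = d := by
    rw [← hwe, Finsupp.weight_apply, Finsupp.sum]
    simp only [smul_eq_mul]
  rw [hsum] at hgood
  have hmem := hgood.2 hd
  rw [eq_intCast, ← zsmul_eq_mul]
  exact zsmul_mem hmem _

/-- Let p be a prime, A a commutative ring, K a commutative A-algebra of characteristic p and M_0, M_1,
M_2, … A-submodules of K with M_i · M_j ⊆ M_(i+j) for all i, j. Then the subset of the ring W(K) of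
p-typical Witt vectors consisting of the vectors whose n-th coordinate lies in M_(p^n) for every n
is closed under addition and under multiplication by the image of W(A) under W of the structure map;
in other words it is a W(A)-submodule of W(K). (The published statement is the case of an integral
normal noetherian scheme X of characteristic p with function field K, an affine open subset U with
coordinate ring A, and M_k the module of sections over U of the divisorial sheaf of k·D for a real
Weil divisor D on X; these form such a multiplicative family, and the subset is then the module of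
sections over U of the Witt divisorial sheaf of D inside W(K). Only the two stated properties of
that family enter.) -/
theorem result
    (p : ℕ) [Fact p.Prime] (A K : Type u) [CommRing A] [CommRing K] [Algebra A K] [CharP K p]
    (M : ℕ → Submodule A K)
    (hmul : ∀ (i j : ℕ) (a b : K), a ∈ M i → b ∈ M j → a * b ∈ M (i + j)) :
    (∀ φ ψ : WittVector p K, (∀ n : ℕ, φ.coeff n ∈ M (p ^ n)) → (∀ n : ℕ, ψ.coeff n ∈ M (p ^ n)) →
        ∀ n : ℕ, (φ + ψ).coeff n ∈ M (p ^ n)) ∧
      (∀ (x : WittVector p A) (φ : WittVector p K), (∀ n : ℕ, φ.coeff n ∈ M (p ^ n)) →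
        ∀ n : ℕ, (WittVector.map (algebraMap A K) x * φ).coeff n ∈ M (p ^ n)) := by
  have hadd := Groth.Agent.S18589.result p
  have hmulWH := wittMul_wh p
  have hpos : ∀ n, 0 < p ^ n := fun n => pow_pos (Fact.out : p.Prime).pos n
  refine ⟨fun φ ψ hφ hψ n => ?_, fun x φ hφ n => ?_⟩
  · rw [WittVector.add_coeff, WittVector.peval]
    refine eval_mem (M := M) (fun i : Fin 2 × ℕ => p ^ i.2) _ (p ^ n) (hpos n) (hadd n) _ ?_
    rintro ⟨b, i⟩
    refine good_of_mem hmul ?_
    fin_cases b
    · exact hφ i
    · exact hψ i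
  · rw [WittVector.mul_coeff, WittVector.peval]
    refine eval_mem (M := M) (fun i : Fin 2 × ℕ => if i.1 = 1 then p ^ i.2 else 0) _ (p ^ n)
      (hpos n) (hmulWH n) _ ?_
    rintro ⟨b, i⟩
    fin_cases b
    · show Good M 0 (algebraMap A K (x.coeff i))
      exact good_algebraMap _
    · show Good M (p ^ i) (φ.coeff i)
      exact good_of_mem hmul (hφ i)

end Groth.Agent.S18590
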