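import Groth.Statements.S18592
import Mathlib

set_option autoImplicit false
universe v u
open W4c5suslinpi1ab

namespace Groth.Agent.S18592


open CategoryTheory MonoidalCategory Functor.LaxMonoidal Functor.OplaxMonoidal

section Gen

variable {C : Type u} [Category.{v} C] {D : Type u} [Category.{v} D]

theorem map_homEquiv_counit {L : C ⥤ D} {R : D ⥤ C} (adj : L ⊣ R) {X : C} {Y : D}
    (f : L.obj X ⟶ Y) : L.map (adj.homEquiv X Y f) ≫ adj.counit.app Y = f :=
  (adj.homEquiv_counit (g := adj.homEquiv X Y f)).symm.trans (Equiv.symm_apply_apply _ f)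

theorem map_hom_inv_cancel (F : C ⥤ D) {X Y : C} (f : X ⟶ Y) [IsIso f] {W : D}
    (h : F.obj X ⟶ W) : F.map f ≫ F.map (inv f) ≫ h = h := by
  rw [← Functor.map_comp_assoc, IsIso.hom_inv_id, CategoryTheory.Functor.map_id, Category.id_comp]

theorem map_whiskerLeft_hom_inv_cancel [MonoidalCategory C] (F : C ⥤ D) (X : C) {Y Z : C}
    (f : Y ⟶ Z) [IsIso f] {W : D} (h : F.obj (X ⊗ Y) ⟶ W) :
    F.map (X ◁ f) ≫ F.map (X ◁ inv f) ≫ h = h := by
  rw [← Functor.map_comp_assoc, ← MonoidalCategory.whiskerLeft_comp, IsIso.hom_inv_id,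
    MonoidalCategory.whiskerLeft_id, CategoryTheory.Functor.map_id, Category.id_comp]

end Gen

section Aux

variable {C : Type u} [Category.{v} C] [MonoidalCategory C]
variable {D : Type u} [Category.{v} D] [MonoidalCategory D]

@[reassoc]
theorem cupShriek_counit {L : C ⥤ D} {R : D ⥤ C} {S : C ⥤ D} (adj : L ⊣ R) (adj' : R ⊣ S)
    [R.LaxMonoidal] [∀ (A : D) (B : C), IsIso (projR adj A B)] (A B : C) :
    R.map (cupShriek adj adj' A B) ≫ adj'.counit.app (A ⊗ B) =
      inv (projR adj (S.obj A) B) ≫ (adj'.counit.app A ▷ B) := by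
  unfold cupShriek
  rw [map_homEquiv_counit]

@[reassoc]
theorem projR_natural_right {L : C ⥤ D} {R : D ⥤ C} (adj : L ⊣ R) [R.LaxMonoidal] (A : D)
    {B B' : C} (g : B ⟶ B') :
    (R.obj A ◁ g) ≫ projR adj A B' = projR adj A B ≫ R.map (A ◁ L.map g) := by
  unfold projR
  have h := adj.unit_naturality g
  dsimp only [Functor.comp_obj, Functor.id_obj, Functor.comp_map, Functor.id_map] at h ⊢
  rw [← MonoidalCategory.whiskerLeft_comp_assoc, ← h, MonoidalCategory.whiskerLeft_comp,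
    Category.assoc, Category.assoc, μ_natural_right]

theorem cupShriek_natural_right {L : C ⥤ D} {R : D ⥤ C} {S : C ⥤ D} (adj : L ⊣ R)
    (adj' : R ⊣ S) [R.LaxMonoidal] [∀ (A : D) (B : C), IsIso (projR adj A B)] (A : C)
    {B B' : C} (g : B ⟶ B') :
    (S.obj A ◁ L.map g) ≫ cupShriek adj adj' A B' = cupShriek adj adj' A B ≫ S.map (A ◁ g) := by
  have key : inv (projR adj (S.obj A) B) ≫ (R.obj (S.obj A) ◁ g) =
      R.map (S.obj A ◁ L.map g) ≫ inv (projR adj (S.obj A) B') := by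
    rw [IsIso.inv_comp_eq, ← Category.assoc, IsIso.eq_comp_inv]
    exact projR_natural_right adj (S.obj A) g
  unfold cupShriek
  rw [← Adjunction.homEquiv_naturality_left, ← Adjunction.homEquiv_naturality_right]
  congr 1
  dsimp only [Functor.comp_obj, Functor.id_obj] at key ⊢
  rw [Category.assoc, ← whisker_exchange, reassoc_of% key]

end Aux

section Sq

variable {S₀ : Type u} [Category.{v} S₀] [MonoidalCategory S₀]
    {Y₁ : Type u} [Category.{v} Y₁] [MonoidalCategory Y₁]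
    {Y₂ : Type u} [Category.{v} Y₂]
    {X : Type u} [Category.{v} X] [MonoidalCategory X]
    {fL : S₀ ⥤ Y₁} {fR : Y₁ ⥤ S₀} (adjf : fL ⊣ fR) [fR.LaxMonoidal]
    {gR : Y₂ ⥤ S₀}
    {pL : Y₁ ⥤ X} {pR : X ⥤ Y₁} (adjp : pL ⊣ pR) [pR.LaxMonoidal]
    {qL : Y₂ ⥤ X} {qR : X ⥤ Y₂} (adjq : qL ⊣ qR)
    (ν : qR ⋙ gR ⟶ pR ⋙ fR)
    {fS : S₀ ⥤ Y₁} (adjf' : fR ⊣ fS) {gS : S₀ ⥤ Y₂} (adjg' : gR ⊣ gS)
    {pS : Y₁ ⥤ X} (adjp' : pR ⊣ pS)
    [∀ (A : Y₁) (B : S₀), IsIso (W4c5suslinpi1ab.projR adjf A B)]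
    [∀ (A : Y₁) (B : X), IsIso (W4c5suslinpi1ab.projL adjp A B)]
    [∀ B : Y₂, IsIso ((W4c5suslinpi1ab.bcMor adjf adjq ν).app B)]

/-- `extProd` followed by `fR` of the map of which `prodShriek` is the adjoint. -/
theorem extProd_comp_map_phi (A B : S₀) :
    extProd adjf adjp adjq ν (fS.obj A) (gS.obj B) ≫
      fR.map (inv (projL adjp (fS.obj A) (qL.obj (gS.obj B))) ≫
        (fS.obj A ◁ inv ((bcMor adjf adjq ν).app (gS.obj B))) ≫
        cupShriek adjf adjf' A (gR.obj (gS.obj B)) ≫ fS.map (A ◁ adjg'.counit.app B)) =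
    projR adjf (fS.obj A) (gR.obj (gS.obj B)) ≫
      fR.map (cupShriek adjf adjf' A (gR.obj (gS.obj B))) ≫
        fR.map (fS.map (A ◁ adjg'.counit.app B)) := by
  unfold extProd
  dsimp only [Functor.comp_obj, Functor.id_obj]
  simp only [Functor.map_comp, Category.assoc]
  rw [map_hom_inv_cancel, map_whiskerLeft_hom_inv_cancel]

theorem map_map_prodShriek_counit (A B : S₀) :
    pR.map (prodShriek adjf adjf' adjg' adjp adjp' adjq ν A B) ≫
      adjp'.counit.app (fS.obj (A ⊗ B)) =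
    inv (projL adjp (fS.obj A) (qL.obj (gS.obj B))) ≫
        (fS.obj A ◁ inv ((bcMor adjf adjq ν).app (gS.obj B))) ≫
        cupShriek adjf adjf' A (gR.obj (gS.obj B)) ≫ fS.map (A ◁ adjg'.counit.app B) := by
  unfold prodShriek
  rw [map_homEquiv_counit]

end Sq


open CategoryTheory MonoidalCategory Functor.LaxMonoidal Functor.OplaxMonoidal in
/-- In a square of adjunctions between monoidal categories — fL ⊣ fR from the base S₀ to Y₁, pL ⊣ pR
from Y₁ to X (both left adjoints oplax monoidal, right adjoints with the induced lax structure), qL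
⊣ qR from Y₂ to X, a functor gR : Y₂ ⥤ S₀ and a natural transformation ν : qR ⋙ gR ⟶ pR ⋙ fR from
which the base change fL gR ⟶ pR qL is built, with right adjoints fS of fR, gS of gR and pS of pR
(so fS ⋙ pS is right adjoint to pR ⋙ fR), and with the right projection morphisms of adjf, the left
projection morphisms of adjp and the base change all isomorphisms, the exterior product fR fS A ⊗ gR
gS B ⟶ fR pR (pL fS A ⊗ qL gS B) followed by the adjoint of the shriek product pL fS A ⊗ qL gS B ⟶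
pS fS (A ⊗ B) is the tensor product of the counits fR fS A ⟶ A and gR gS B ⟶ B. -/
theorem result {S₀ : Type u} [Category.{v} S₀] [MonoidalCategory S₀]
    {Y₁ : Type u} [Category.{v} Y₁] [MonoidalCategory Y₁]
    {Y₂ : Type u} [Category.{v} Y₂] [MonoidalCategory Y₂]
    {X : Type u} [Category.{v} X] [MonoidalCategory X]
    {fL : S₀ ⥤ Y₁} {fR : Y₁ ⥤ S₀} (adjf : fL ⊣ fR) [fL.OplaxMonoidal] [fR.LaxMonoidal]
    [adjf.IsMonoidal] {gR : Y₂ ⥤ S₀}
    {pL : Y₁ ⥤ X} {pR : X ⥤ Y₁} (adjp : pL ⊣ pR) [pL.OplaxMonoidal] [pR.LaxMonoidal]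
    [adjp.IsMonoidal] {qL : Y₂ ⥤ X} {qR : X ⥤ Y₂} (adjq : qL ⊣ qR)
    (ν : qR ⋙ gR ⟶ pR ⋙ fR)
    {fS : S₀ ⥤ Y₁} (adjf' : fR ⊣ fS) {gS : S₀ ⥤ Y₂} (adjg' : gR ⊣ gS)
    {pS : Y₁ ⥤ X} (adjp' : pR ⊣ pS)
    [∀ (A : Y₁) (B : S₀), IsIso (W4c5suslinpi1ab.projR adjf A B)]
    [∀ (A : Y₁) (B : X), IsIso (W4c5suslinpi1ab.projL adjp A B)]
    [∀ B : Y₂, IsIso ((W4c5suslinpi1ab.bcMor adjf adjq ν).app B)] (A B : S₀) :
    W4c5suslinpi1ab.extProd adjf adjp adjq ν (fS.obj A) (gS.obj B) ≫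
      ((adjp'.comp adjf').homEquiv _ _).symm
        (W4c5suslinpi1ab.prodShriek adjf adjf' adjg' adjp adjp' adjq ν A B) =
      (adjf'.counit.app A ⊗ₘ adjg'.counit.app B) := by
  rw [Adjunction.homEquiv_counit, Adjunction.comp_counit_app, Functor.comp_map,
    ← Functor.map_comp_assoc, map_map_prodShriek_counit, ← Category.assoc,
    extProd_comp_map_phi]
  dsimp only [Functor.comp_obj, Functor.id_obj]
  rw [Category.assoc, Category.assoc, adjf'.counit_naturality, cupShriek_counit_assoc,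
    IsIso.hom_inv_id_assoc, ← MonoidalCategory.tensorHom_def]

end Groth.Agent.S18592
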