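import Groth.Statements.S18598
import Mathlib

set_option autoImplicit false
universe u
open SSRed

namespace Groth.Agent.S18598

lemma nat_dvd_of_cast_dvd {O : Type*} [CommRing O] [IsDomain O] [CharZero O] (a b : ℕ) (hb : b ≠ 0)
    (hO : ∀ p : ℕ, p.Prime → p ∣ a → ¬ IsUnit (p : O)) (h : (a : O) ∣ (b : O)) : a ∣ b := by
  have hgp : 0 < Nat.gcd a b := Nat.gcd_pos_of_pos_right a (Nat.pos_of_ne_zero hb)
  obtain ⟨g, a', b', hg, hcop, ha', hb'⟩ := Nat.exists_coprime' hgp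
  have hg0 : (g : O) ≠ 0 := Nat.cast_ne_zero.2 hg.ne'
  have h' : (a' : O) ∣ (b' : O) := by
    rw [ha', hb', Nat.cast_mul, Nat.cast_mul] at h
    exact (mul_dvd_mul_iff_right hg0).1 h
  have hunit : IsUnit (a' : O) := by
    have hc : IsCoprime (a' : ℤ) (b' : ℤ) := Nat.isCoprime_iff_coprime.2 hcop
    have hc' : IsCoprime (a' : O) (b' : O) := by
      have := hc.map (Int.castRingHom O)
      simpa using this
    exact hc'.isUnit_of_dvd' dvd_rfl h'
  have ha'1 : a' = 1 := by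
    by_contra hne
    obtain ⟨p, hp, hpa'⟩ := Nat.exists_prime_and_dvd hne
    have hpa : p ∣ a := by rw [ha']; exact Dvd.dvd.mul_right hpa' g
    apply hO p hp hpa
    obtain ⟨c, hc⟩ := hpa'
    have hcast : (a' : O) = (p : O) * (c : O) := by rw [hc]; push_cast; ring
    rw [hcast] at hunit
    exact isUnit_of_mul_isUnit_left hunit
  rw [ha', ha'1, one_mul, hb']
  exact Dvd.intro_left b' rfl

lemma arith2 (n ℓ k : ℕ) (hℓ : ℓ.Prime) (hn2 : 2 ≤ n) (h : n ^ (ℓ ^ k * (ℓ - 1)) ∣ ℓ ^ 2) :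
    (n = 2 ∧ ℓ = 2 ∧ k ≤ 1) ∨ (n = 4 ∧ ℓ = 2 ∧ k = 0) ∨ (n = 3 ∧ ℓ = 3 ∧ k = 0) := by
  have hℓ2 : 2 ≤ ℓ := hℓ.two_le
  have hpk : 0 < ℓ ^ k := pow_pos (by omega) k
  have he : 0 < ℓ ^ k * (ℓ - 1) := Nat.mul_pos hpk (by omega)
  have hn_dvd : n ∣ ℓ ^ 2 := (dvd_pow_self n he.ne').trans h
  obtain ⟨a, ha2, rfl⟩ := (Nat.dvd_prime_pow hℓ).1 hn_dvd
  have ha1 : 1 ≤ a := by
    rcases Nat.eq_zero_or_pos a with h0 | h0
    · subst h0; simp at hn2
    · exact h0
  rw [← pow_mul] at h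
  have hle : a * (ℓ ^ k * (ℓ - 1)) ≤ 2 := (Nat.pow_dvd_pow_iff_le_right hℓ.one_lt).1 h
  have h3 : ℓ - 1 ≤ 2 := by
    calc ℓ - 1 ≤ ℓ ^ k * (ℓ - 1) := Nat.le_mul_of_pos_left _ hpk
      _ ≤ a * (ℓ ^ k * (ℓ - 1)) := Nat.le_mul_of_pos_left _ ha1
      _ ≤ 2 := hle
  have hℓ3 : ℓ ≤ 3 := by omega
  interval_cases ℓ
  · -- ℓ = 2
    simp only [Nat.add_one_sub_one, mul_one] at hle
    interval_cases a
    · -- a = 1
      left
      refine ⟨by norm_num, rfl, ?_⟩
      rw [one_mul] at hle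
      exact (Nat.pow_le_pow_iff_right (by norm_num : 1 < 2)).1 (by simpa using hle)
    · -- a = 2
      right; left
      refine ⟨by norm_num, rfl, ?_⟩
      rcases Nat.eq_zero_or_pos k with hk | hk
      · exact hk
      · exfalso
        have : 2 ^ 1 ≤ 2 ^ k := Nat.pow_le_pow_right (by norm_num) hk
        omega
  · -- ℓ = 3
    have h2 : (3 : ℕ) - 1 = 2 := rfl
    rw [h2] at hle
    right; right
    have ha : a = 1 := by
      by_contra hne
      have : 2 ≤ a := by omega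
      have : 2 * (3 ^ k * 2) ≤ a * (3 ^ k * 2) := Nat.mul_le_mul_right _ this
      omega
    subst ha
    refine ⟨by norm_num, rfl, ?_⟩
    rcases Nat.eq_zero_or_pos k with hk | hk
    · exact hk
    · exfalso
      have : 3 ^ 1 ≤ 3 ^ k := Nat.pow_le_pow_right (by norm_num) hk
      omega

/-- Let O be a commutative integral domain of characteristic zero, n a positive integer such that no
prime number dividing n is a unit in O, and α an element of O of finite multiplicative order such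
that (α − 1)² is divisible by n in O. Then α = 1 if n ≥ 5, α² = 1 if n = 4, α³ = 1 if n = 3, and α⁴
= 1 if n = 2. -/
theorem result (O : Type u) [CommRing O] [IsDomain O] [CharZero O]
    (n : ℕ) (hn : 0 < n) (hO : ∀ p : ℕ, p.Prime → p ∣ n → ¬ IsUnit (p : O))
    (α : O) (hα : IsOfFinOrder α) (h : (n : O) ∣ (α - 1) ^ 2) :
    (5 ≤ n → α = 1) ∧ (n = 4 → α ^ 2 = 1) ∧ (n = 3 → α ^ 3 = 1) ∧ (n = 2 → α ^ 4 = 1) := by
  classical
  have hmpos : 0 < orderOf α := hα.orderOf_pos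
  have hprim : IsPrimitiveRoot α (orderOf α) := IsPrimitiveRoot.orderOf α
  haveI : NeZero (orderOf α) := ⟨hmpos.ne'⟩
  have key : (1 - α) ^ (Nat.totient (orderOf α)) ∣
      (Polynomial.eval 1 (Polynomial.cyclotomic (orderOf α) O)) := by
    rw [Polynomial.cyclotomic_eq_prod_X_sub_primitiveRoots hprim, Polynomial.eval_prod]
    rw [← hprim.card_primitiveRoots, ← Finset.prod_const]
    apply Finset.prod_dvd_prod_of_dvd
    intro μ hμ
    rw [Polynomial.eval_sub, Polynomial.eval_X, Polynomial.eval_C]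
    have hμ' : IsPrimitiveRoot μ (orderOf α) := (mem_primitiveRoots hmpos).1 hμ
    obtain ⟨i, -, rfl⟩ := hprim.eq_pow_of_pow_eq_one hμ'.pow_eq_one
    have := sub_dvd_pow_sub_pow (1 : O) α i
    rwa [one_pow] at this
  have hd2 : (n : O) ∣ (1 - α) ^ 2 := by
    have : (α - 1) ^ 2 = (1 - α) ^ 2 := by ring
    rwa [this] at h
  have hφpos : 0 < Nat.totient (orderOf α) := Nat.totient_pos.2 hmpos
  have main : ∀ c : ℕ, c ≠ 0 →
      Polynomial.eval 1 (Polynomial.cyclotomic (orderOf α) O) = (c : O) →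
      n ^ (Nat.totient (orderOf α)) ∣ c ^ 2 := by
    intro c hc0 hc
    apply nat_dvd_of_cast_dvd (O := O) _ _ (pow_ne_zero 2 hc0)
    · intro p hp hpn
      exact hO p hp (hp.dvd_of_dvd_pow hpn)
    · push_cast
      calc (n : O) ^ (Nat.totient (orderOf α))
          ∣ ((1 - α) ^ 2) ^ (Nat.totient (orderOf α)) := pow_dvd_pow_of_dvd hd2 _
        _ = ((1 - α) ^ (Nat.totient (orderOf α))) ^ 2 := by
            rw [← pow_mul, ← pow_mul, mul_comm]
        _ ∣ (c : O) ^ 2 := pow_dvd_pow_of_dvd (hc ▸ key) 2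
  have hcases : 2 ≤ n → orderOf α = 1 ∨ ∃ (ℓ k : ℕ), ℓ.Prime ∧ orderOf α = ℓ ^ (k + 1) ∧
      n ^ (ℓ ^ k * (ℓ - 1)) ∣ ℓ ^ 2 := by
    intro hn2
    by_cases h1 : orderOf α = 1
    · exact Or.inl h1
    right
    by_cases hpp : ∃ (ℓ : ℕ) (k : ℕ), ℓ.Prime ∧ ℓ ^ k = orderOf α
    · obtain ⟨ℓ, k, hℓ, hk⟩ := hpp
      obtain ⟨k', rfl⟩ : ∃ k', k = k' + 1 := by
        cases k with
        | zero => exact absurd (by simpa using hk.symm) h1
        | succ k' => exact ⟨k', rfl⟩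
      refine ⟨ℓ, k', hℓ, hk.symm, ?_⟩
      haveI : Fact ℓ.Prime := ⟨hℓ⟩
      have hev : Polynomial.eval 1 (Polynomial.cyclotomic (orderOf α) O) = (ℓ : O) := by
        rw [← hk]; exact Polynomial.eval_one_cyclotomic_prime_pow k'
      have h2 := main ℓ hℓ.ne_zero hev
      rwa [← hk, Nat.totient_prime_pow_succ hℓ] at h2
    · exfalso
      have hev : Polynomial.eval 1 (Polynomial.cyclotomic (orderOf α) O) = ((1 : ℕ) : O) := by
        rw [Nat.cast_one]
        apply Polynomial.eval_one_cyclotomic_not_prime_pow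
        intro p hp k hk
        exact hpp ⟨p, k, hp, hk⟩
      have h2 := main 1 one_ne_zero hev
      rw [one_pow, Nat.dvd_one] at h2
      have hn1 : n = 1 := (Nat.pow_eq_one.1 h2).resolve_right hφpos.ne'
      omega
  have hfinal : 2 ≤ n → orderOf α = 1 ∨ (n = 2 ∧ orderOf α ∣ 4) ∨ (n = 4 ∧ orderOf α = 2) ∨
      (n = 3 ∧ orderOf α = 3) := by
    intro hn2
    rcases hcases hn2 with h1 | ⟨ℓ, k, hℓ, hm, hdvd⟩
    · exact Or.inl h1
    right
    rcases arith2 n ℓ k hℓ hn2 hdvd with ⟨h2, rfl, hk⟩ | ⟨h4, rfl, rfl⟩ | ⟨h3, rfl, rfl⟩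
    · left
      refine ⟨h2, ?_⟩
      rw [hm]
      interval_cases k
      · norm_num
      · norm_num
    · right; left
      exact ⟨h4, by rw [hm]; norm_num⟩
    · right; right
      exact ⟨h3, by rw [hm]; norm_num⟩
  refine ⟨?_, ?_, ?_, ?_⟩
  · intro h5
    rcases hfinal (by omega) with h1 | ⟨h2, -⟩ | ⟨h4, -⟩ | ⟨h3, -⟩
    · exact orderOf_eq_one_iff.1 h1
    all_goals omega
  · intro h4
    rcases hfinal (by omega) with h1 | ⟨h2, -⟩ | ⟨-, hm⟩ | ⟨h3, -⟩
    · rw [orderOf_eq_one_iff.1 h1, one_pow]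
    · omega
    · rw [← hm]; exact pow_orderOf_eq_one α
    · omega
  · intro h3
    rcases hfinal (by omega) with h1 | ⟨h2, -⟩ | ⟨h4, -⟩ | ⟨-, hm⟩
    · rw [orderOf_eq_one_iff.1 h1, one_pow]
    · omega
    · omega
    · rw [← hm]; exact pow_orderOf_eq_one α
  · intro h2
    rcases hfinal (by omega) with h1 | ⟨-, hm⟩ | ⟨h4, -⟩ | ⟨h3, -⟩
    · rw [orderOf_eq_one_iff.1 h1, one_pow]
    · exact orderOf_dvd_iff_pow_eq_one.1 hm
    · omega
    · omega

end Groth.Agent.S18598
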