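import Groth.Statements.S18615
import Groth.Agent.H25.LinTopDual

set_option autoImplicit false
universe u v
open LinTop

namespace Groth.Agent.S18615

/-- pure linear algebra: a functional on a subspace killing its intersection with `U` extends to a
functional on the whole space killing `U`. -/
theorem exists_extend_killing {k : Type u} {M : Type v} [Field k] [AddCommGroup M] [Module k M]
    (M₂ U : Submodule k M) (ψ : M₂ →ₗ[k] k) (hψ : ∀ m : M₂, (m : M) ∈ U → ψ m = 0) :
    ∃ φ : M →ₗ[k] k, U ≤ LinearMap.ker φ ∧ ∀ m : M₂, φ (m : M) = ψ m := by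
  let ι : M₂ →ₗ[k] M ⧸ U := U.mkQ ∘ₗ M₂.subtype
  have hker : LinearMap.ker ι ≤ LinearMap.ker ψ := by
    intro m hm
    rw [LinearMap.mem_ker] at hm ⊢
    have h1 : (m : M) ∈ U := by
      have h2 : U.mkQ (m : M) = 0 := hm
      rwa [Submodule.mkQ_apply, Submodule.Quotient.mk_eq_zero] at h2
    exact hψ m h1
  let ψbar : (M₂ ⧸ LinearMap.ker ι) →ₗ[k] k := (LinearMap.ker ι).liftQ ψ hker
  let ιbar : (M₂ ⧸ LinearMap.ker ι) →ₗ[k] M ⧸ U := (LinearMap.ker ι).liftQ ι le_rfl
  have hinj : LinearMap.ker ιbar = ⊥ := Submodule.ker_liftQ_eq_bot _ _ _ le_rfl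
  obtain ⟨g, hg⟩ := ιbar.exists_leftInverse_of_injective hinj
  refine ⟨ψbar ∘ₗ g ∘ₗ U.mkQ, ?_, ?_⟩
  · intro u hu
    rw [LinearMap.mem_ker, LinearMap.comp_apply, LinearMap.comp_apply, Submodule.mkQ_apply,
      (Submodule.Quotient.mk_eq_zero U).mpr hu, map_zero, map_zero]
  · intro m
    have h1 : U.mkQ (m : M) = ιbar (Submodule.Quotient.mk m) := rfl
    have h2 : g (ιbar (Submodule.Quotient.mk m)) = Submodule.Quotient.mk m :=
      LinearMap.congr_fun hg (Submodule.Quotient.mk m)
    rw [LinearMap.comp_apply, LinearMap.comp_apply, h1, h2]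
    rfl

/-- Let k be a field carrying the discrete topology and M a separated topological k-module with a
k-linear topology (open k-submodules form a basis of neighbourhoods of zero, M a topological
additive group). For closed submodules M₁ ⊆ M₂ there is a short exact sequence 0 → M₂^⊥ → M₁^⊥ →
(M₂/M₁)^* → 0 of plain k-modules, where ⊥ denotes the annihilator in the continuous dual of M and *
the continuous dual. Stated here as its one non-formal part, surjectivity on the right: every
continuous functional on M₂ (subspace topology) that vanishes on M₁ is the restriction of a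
continuous functional on M vanishing on M₁ (continuous functionals on M₂/M₁ being the continuous
functionals on M₂ that kill M₁). -/
theorem result (k : Type u) (M : Type v) [Field k]
    [TopologicalSpace k] [DiscreteTopology k] [AddCommGroup M] [Module k M] [TopologicalSpace M]
    [IsTopologicalAddGroup M] [IsLinearTopology k M] [T2Space M]
    (M₁ M₂ : Submodule k M) (h₁₂ : M₁ ≤ M₂) (hM₁ : IsClosed (M₁ : Set M))
    (hM₂ : IsClosed (M₂ : Set M)) (ψ : M₂ →L[k] k)
    (hψ : ∀ m : M₂, (m : M) ∈ M₁ → ψ m = 0) :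
    ∃ φ : M →L[k] k, (∀ m ∈ M₁, φ m = 0) ∧ ∀ m : M₂, φ (m : M) = ψ m := by
  have hopen : IsOpen (ψ ⁻¹' ({0} : Set k)) := (isOpen_discrete _).preimage ψ.continuous
  rw [isOpen_induced_iff] at hopen
  obtain ⟨W, hWopen, hW⟩ := hopen
  have h0W : (0 : M) ∈ W := by
    have h1 : (0 : M₂) ∈ ψ ⁻¹' ({0} : Set k) := by simp
    rw [← hW] at h1
    exact h1
  obtain ⟨U, hUopen, hU⟩ := Groth.Agent.H25.exists_open_submodule_add_subset (k := k)
    W hWopen 0 h0W
  have hUψ : ∀ m : M₂, (m : M) ∈ U → (ψ : M₂ →ₗ[k] k) m = 0 := by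
    intro m hm
    have h1 : (m : M) ∈ W := by
      have := hU _ hm
      rwa [zero_add] at this
    have h2 : m ∈ (Subtype.val ⁻¹' W : Set M₂) := h1
    rw [hW] at h2
    exact h2
  obtain ⟨φ, hφU, hφ⟩ := exists_extend_killing M₂ U (ψ : M₂ →ₗ[k] k) hUψ
  have hcont : Continuous φ := Groth.Agent.H25.continuous_of_open_le_ker φ U hUopen hφU
  refine ⟨⟨φ, hcont⟩, ?_, ?_⟩
  · intro m hm
    have h1 := hφ ⟨m, h₁₂ hm⟩
    have h2 := hψ ⟨m, h₁₂ hm⟩ hm
    show φ m = 0
    rw [h1]
    exact h2
  · intro m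
    exact hφ m

end Groth.Agent.S18615
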