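import Groth.Statements.S18617
import Mathlib.Tactic

set_option autoImplicit false
universe u
open LocRes

namespace Groth.Agent.S18617

open HahnSeries in
/-- antiderivative of a Laurent series (the coefficient of degree -1 is dropped) -/
noncomputable def antiD (k : Type u) [Field k] (g : LaurentSeries k) : LaurentSeries k :=
  HahnSeries.mk (fun n : ℤ => g.coeff (n - 1) / (n : k))
    ((single (1 : ℤ) (1 : k) * g).isPWO_support.mono (by
      intro n hn
      rw [Function.mem_support] at hn
      rw [HahnSeries.mem_support, HahnSeries.coeff_single_mul, one_mul]
      intro h
      apply hn
      rw [h, zero_div]))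

theorem antiD_coeff (k : Type u) [Field k] (g : LaurentSeries k) (n : ℤ) :
    (antiD k g).coeff n = g.coeff (n - 1) / (n : k) := rfl

/-- The published statement is that, for a complete separated linearly topologized commutative algebra K
over a field of characteristic zero, the separated de Rham complex of K tensored with the exterior
algebra on symbols α_1, ..., α_n maps quasi-isomorphically to the separated de Rham complex of the
iterated Laurent series ring K((t_1, ..., t_n)), α_i going to dlog t_i; this row is the case K = k
and n = 1, unpacked: over a field k of characteristic 0, a formal Laurent series f in k((t)) has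
term-by-term derivative zero if and only if it is the constant series on its coefficient of degree
0, and a Laurent series g is the derivative of some Laurent series if and only if its residue (the
coefficient of t⁻¹) vanishes; so H⁰ of the complex k((t)) → k((t)) dt is k and H¹ is the line
spanned by the class of dt/t, on which the residue is 1. -/
theorem result (k : Type u) [Field k] [CharZero k] :
    (∀ f : LaurentSeries k, LocRes.D k f = 0 ↔ f = HahnSeries.C (f.coeff 0)) ∧
      ∀ g : LaurentSeries k, (∃ f : LaurentSeries k, LocRes.D k f = g) ↔ LocRes.res k g = 0 := by
  refine ⟨?_, ?_⟩
  · intro f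
    constructor
    · intro h
      ext n
      rw [HahnSeries.C_apply, HahnSeries.coeff_single]
      split_ifs with hn
      · rw [hn]
      · have h1 := LocRes.D_coeff k f (n - 1)
        rw [h, HahnSeries.coeff_zero, sub_add_cancel, zsmul_eq_mul] at h1
        rcases mul_eq_zero.mp h1.symm with h2 | h2
        · exact absurd (by exact_mod_cast h2) hn
        · exact h2
    · intro h
      rw [h, LocRes.D_apply, LocRes.derivative_C]
  · intro g
    constructor
    · rintro ⟨f, rfl⟩
      rw [LocRes.res_apply, LocRes.D_coeff]
      norm_num
    · intro h
      rw [LocRes.res_apply] at h
      refine ⟨antiD k g, ?_⟩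
      ext n
      rw [LocRes.D_coeff, antiD_coeff, add_sub_cancel_right, zsmul_eq_mul]
      by_cases hn : n + 1 = 0
      · have hn' : n = -1 := by omega
        rw [hn, hn', h]
        simp
      · have hn' : (((n + 1 : ℤ)) : k) ≠ 0 := by exact_mod_cast hn
        rw [mul_div_cancel₀ _ hn']

end Groth.Agent.S18617
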