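import Groth.Statements.S1869
import Mathlib

set_option autoImplicit false
universe u v
open CycAlg

namespace Groth.Agent.S1869


open CycAlg Function

section Gen
variable {R : Type u} [CommRing R]

section Basic
variable {M N M' N' : Type v} [AddCommGroup M] [Module R M] [AddCommGroup N] [Module R N]
  [AddCommGroup M'] [Module R M'] [AddCommGroup N'] [Module R N']

/-- class of a cocycle -/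
def cls (φ : M →ₗ[R] N) (ψ : N →ₗ[R] M) (m : M) (hm : φ m = 0) : perH φ ψ :=
  Submodule.Quotient.mk ⟨m, LinearMap.mem_ker.mpr hm⟩

theorem cls_surj (φ : M →ₗ[R] N) (ψ : N →ₗ[R] M) (x : perH φ ψ) :
    ∃ (m : M) (hm : φ m = 0), x = cls φ ψ m hm := by
  obtain ⟨⟨m, hm⟩, rfl⟩ := Submodule.Quotient.mk_surjective _ x
  exact ⟨m, LinearMap.mem_ker.mp hm, rfl⟩

theorem cls_eq_zero (φ : M →ₗ[R] N) (ψ : N →ₗ[R] M) (m : M) (hm : φ m = 0) :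
    cls φ ψ m hm = 0 ↔ ∃ n, ψ n = m := by
  unfold cls
  rw [Submodule.Quotient.mk_eq_zero]
  exact Iff.rfl

theorem cls_eq_cls (φ : M →ₗ[R] N) (ψ : N →ₗ[R] M) (m m' : M) (hm : φ m = 0) (hm' : φ m' = 0) :
    cls φ ψ m hm = cls φ ψ m' hm' ↔ ∃ n, ψ n = m - m' := by
  unfold cls
  rw [Submodule.Quotient.eq]
  exact Iff.rfl

theorem cls_congr (φ : M →ₗ[R] N) (ψ : N →ₗ[R] M) (m m' : M) (hm : φ m = 0) (h : m = m') :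
    cls φ ψ m hm = cls φ ψ m' (h ▸ hm) := by
  subst h
  rfl

/-- induced map on cohomology -/
def hmap (φ : M →ₗ[R] N) (ψ : N →ₗ[R] M) (φ' : M' →ₗ[R] N') (ψ' : N' →ₗ[R] M')
    (f : M →ₗ[R] M') (g : N →ₗ[R] N') (cφ : φ' ∘ₗ f = g ∘ₗ φ) (cψ : ψ' ∘ₗ g = f ∘ₗ ψ) :
    perH φ ψ →ₗ[R] perH φ' ψ' :=
  Submodule.mapQ _ _ (f.restrict (p := LinearMap.ker φ) (q := LinearMap.ker φ') (fun x hx => by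
      rw [LinearMap.mem_ker] at hx ⊢
      have h := LinearMap.congr_fun cφ x
      simp only [LinearMap.comp_apply] at h
      rw [h, hx, map_zero]))
    (by
      intro x hx
      have hx' : ∃ n, ψ n = (x : M) := hx
      obtain ⟨n, hn⟩ := hx'
      show ∃ y, ψ' y = f (x : M)
      have h := LinearMap.congr_fun cψ n
      simp only [LinearMap.comp_apply] at h
      exact ⟨g n, by rw [h, hn]⟩)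

theorem hmap_cls (φ : M →ₗ[R] N) (ψ : N →ₗ[R] M) (φ' : M' →ₗ[R] N') (ψ' : N' →ₗ[R] M')
    (f : M →ₗ[R] M') (g : N →ₗ[R] N') (cφ : φ' ∘ₗ f = g ∘ₗ φ) (cψ : ψ' ∘ₗ g = f ∘ₗ ψ)
    (m : M) (hm : φ m = 0) (hfm : φ' (f m) = 0) :
    hmap φ ψ φ' ψ' f g cφ cψ (cls φ ψ m hm) = cls φ' ψ' (f m) hfm := rfl

theorem length_ker_range {A B : Type v} [AddCommGroup A] [Module R A] [AddCommGroup B] [Module R B]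
    (u : A →ₗ[R] B) :
    Module.length R A = Module.length R (LinearMap.ker u) + Module.length R (LinearMap.range u) := by
  have h := Module.length_eq_add_of_exact (LinearMap.ker u.rangeRestrict).subtype u.rangeRestrict
    (Submodule.subtype_injective _) u.surjective_rangeRestrict
    (LinearMap.exact_subtype_ker_map u.rangeRestrict)
  rwa [LinearMap.ker_rangeRestrict] at h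

/-- inverse of an injective linear map on its range -/
noncomputable def invOn {A B : Type v} [AddCommGroup A] [Module R A] [AddCommGroup B] [Module R B]
    (g : A →ₗ[R] B) (hg : Injective g) : LinearMap.range g →ₗ[R] A :=
  (LinearEquiv.ofInjective g hg).symm.toLinearMap

theorem g_invOn {A B : Type v} [AddCommGroup A] [Module R A] [AddCommGroup B] [Module R B]
    (g : A →ₗ[R] B) (hg : Injective g) (y : LinearMap.range g) : g (invOn g hg y) = y.1 := by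
  have h := (LinearEquiv.ofInjective g hg).apply_symm_apply y
  exact congrArg Subtype.val h

end Basic

section Half
variable {M₁ N₁ M₂ N₂ M₃ N₃ : Type v} [AddCommGroup M₁] [Module R M₁] [AddCommGroup N₁] [Module R N₁]
  [AddCommGroup M₂] [Module R M₂] [AddCommGroup N₂] [Module R N₂]
  [AddCommGroup M₃] [Module R M₃] [AddCommGroup N₃] [Module R N₃]

structure SES (φ₁ : M₁ →ₗ[R] N₁) (ψ₁ : N₁ →ₗ[R] M₁) (φ₂ : M₂ →ₗ[R] N₂) (ψ₂ : N₂ →ₗ[R] M₂)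
    (φ₃ : M₃ →ₗ[R] N₃) (ψ₃ : N₃ →ₗ[R] M₃) (f₁ : M₁ →ₗ[R] M₂) (g₁ : N₁ →ₗ[R] N₂)
    (f₂ : M₂ →ₗ[R] M₃) (g₂ : N₂ →ₗ[R] N₃) : Prop where
  h₁ : IsPeriodic φ₁ ψ₁
  h₂ : IsPeriodic φ₂ ψ₂
  h₃ : IsPeriodic φ₃ ψ₃
  cφ₁ : φ₂ ∘ₗ f₁ = g₁ ∘ₗ φ₁
  cψ₁ : ψ₂ ∘ₗ g₁ = f₁ ∘ₗ ψ₁
  cφ₂ : φ₃ ∘ₗ f₂ = g₂ ∘ₗ φ₂
  cψ₂ : ψ₃ ∘ₗ g₂ = f₂ ∘ₗ ψ₂
  hf₁ : Injective f₁
  hg₁ : Injective g₁
  hf₂ : Surjective f₂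
  hg₂ : Surjective g₂
  hM : LinearMap.range f₁ = LinearMap.ker f₂
  hN : LinearMap.range g₁ = LinearMap.ker g₂

variable {φ₁ : M₁ →ₗ[R] N₁} {ψ₁ : N₁ →ₗ[R] M₁} {φ₂ : M₂ →ₗ[R] N₂} {ψ₂ : N₂ →ₗ[R] M₂}
    {φ₃ : M₃ →ₗ[R] N₃} {ψ₃ : N₃ →ₗ[R] M₃} {f₁ : M₁ →ₗ[R] M₂} {g₁ : N₁ →ₗ[R] N₂}
    {f₂ : M₂ →ₗ[R] M₃} {g₂ : N₂ →ₗ[R] N₃}

theorem SES.swap (S : SES φ₁ ψ₁ φ₂ ψ₂ φ₃ ψ₃ f₁ g₁ f₂ g₂) :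
    SES ψ₁ φ₁ ψ₂ φ₂ ψ₃ φ₃ g₁ f₁ g₂ f₂ :=
  ⟨⟨S.h₁.2, S.h₁.1⟩, ⟨S.h₂.2, S.h₂.1⟩, ⟨S.h₃.2, S.h₃.1⟩, S.cψ₁, S.cφ₁, S.cψ₂, S.cφ₂,
    S.hg₁, S.hf₁, S.hg₂, S.hf₂, S.hN, S.hM⟩

namespace SES

theorem e_cφ₁ (S : SES φ₁ ψ₁ φ₂ ψ₂ φ₃ ψ₃ f₁ g₁ f₂ g₂) (m : M₁) : φ₂ (f₁ m) = g₁ (φ₁ m) := LinearMap.congr_fun S.cφ₁ m
theorem e_cψ₁ (S : SES φ₁ ψ₁ φ₂ ψ₂ φ₃ ψ₃ f₁ g₁ f₂ g₂) (n : N₁) : ψ₂ (g₁ n) = f₁ (ψ₁ n) := LinearMap.congr_fun S.cψ₁ n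
theorem e_cφ₂ (S : SES φ₁ ψ₁ φ₂ ψ₂ φ₃ ψ₃ f₁ g₁ f₂ g₂) (m : M₂) : φ₃ (f₂ m) = g₂ (φ₂ m) := LinearMap.congr_fun S.cφ₂ m
theorem e_cψ₂ (S : SES φ₁ ψ₁ φ₂ ψ₂ φ₃ ψ₃ f₁ g₁ f₂ g₂) (n : N₂) : ψ₃ (g₂ n) = f₂ (ψ₂ n) := LinearMap.congr_fun S.cψ₂ n
theorem e_φψ₁ (S : SES φ₁ ψ₁ φ₂ ψ₂ φ₃ ψ₃ f₁ g₁ f₂ g₂) (n : N₁) : φ₁ (ψ₁ n) = 0 := LinearMap.congr_fun S.h₁.1 n
theorem e_ψφ₁ (S : SES φ₁ ψ₁ φ₂ ψ₂ φ₃ ψ₃ f₁ g₁ f₂ g₂) (m : M₁) : ψ₁ (φ₁ m) = 0 := LinearMap.congr_fun S.h₁.2 m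
theorem e_φψ₂ (S : SES φ₁ ψ₁ φ₂ ψ₂ φ₃ ψ₃ f₁ g₁ f₂ g₂) (n : N₂) : φ₂ (ψ₂ n) = 0 := LinearMap.congr_fun S.h₂.1 n
theorem e_ψφ₂ (S : SES φ₁ ψ₁ φ₂ ψ₂ φ₃ ψ₃ f₁ g₁ f₂ g₂) (m : M₂) : ψ₂ (φ₂ m) = 0 := LinearMap.congr_fun S.h₂.2 m
theorem e_φψ₃ (S : SES φ₁ ψ₁ φ₂ ψ₂ φ₃ ψ₃ f₁ g₁ f₂ g₂) (n : N₃) : φ₃ (ψ₃ n) = 0 := LinearMap.congr_fun S.h₃.1 n
theorem e_ψφ₃ (S : SES φ₁ ψ₁ φ₂ ψ₂ φ₃ ψ₃ f₁ g₁ f₂ g₂) (m : M₃) : ψ₃ (φ₃ m) = 0 := LinearMap.congr_fun S.h₃.2 m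
theorem ff (S : SES φ₁ ψ₁ φ₂ ψ₂ φ₃ ψ₃ f₁ g₁ f₂ g₂) (m : M₁) : f₂ (f₁ m) = 0 := by
  have : f₁ m ∈ LinearMap.ker f₂ := S.hM ▸ LinearMap.mem_range_self f₁ m
  exact LinearMap.mem_ker.mp this
theorem gg (S : SES φ₁ ψ₁ φ₂ ψ₂ φ₃ ψ₃ f₁ g₁ f₂ g₂) (n : N₁) : g₂ (g₁ n) = 0 := by
  have : g₁ n ∈ LinearMap.ker g₂ := S.hN ▸ LinearMap.mem_range_self g₁ n
  exact LinearMap.mem_ker.mp this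
theorem exM (S : SES φ₁ ψ₁ φ₂ ψ₂ φ₃ ψ₃ f₁ g₁ f₂ g₂) (m : M₂) (h : f₂ m = 0) : ∃ m₁, f₁ m₁ = m := by
  have : m ∈ LinearMap.range f₁ := S.hM ▸ LinearMap.mem_ker.mpr h
  exact this
theorem exN (S : SES φ₁ ψ₁ φ₂ ψ₂ φ₃ ψ₃ f₁ g₁ f₂ g₂) (n : N₂) (h : g₂ n = 0) : ∃ n₁, g₁ n₁ = n := by
  have : n ∈ LinearMap.range g₁ := S.hN ▸ LinearMap.mem_ker.mpr h
  exact this

/-- H⁰₁ → H⁰₂ -/
def a0 (S : SES φ₁ ψ₁ φ₂ ψ₂ φ₃ ψ₃ f₁ g₁ f₂ g₂) : perH φ₁ ψ₁ →ₗ[R] perH φ₂ ψ₂ := hmap φ₁ ψ₁ φ₂ ψ₂ f₁ g₁ S.cφ₁ S.cψ₁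
/-- H⁰₂ → H⁰₃ -/
def b0 (S : SES φ₁ ψ₁ φ₂ ψ₂ φ₃ ψ₃ f₁ g₁ f₂ g₂) : perH φ₂ ψ₂ →ₗ[R] perH φ₃ ψ₃ := hmap φ₂ ψ₂ φ₃ ψ₃ f₂ g₂ S.cφ₂ S.cψ₂

theorem a0_cls (S : SES φ₁ ψ₁ φ₂ ψ₂ φ₃ ψ₃ f₁ g₁ f₂ g₂) (m : M₁) (hm : φ₁ m = 0) :
    S.a0 (cls φ₁ ψ₁ m hm) = cls φ₂ ψ₂ (f₁ m) (by rw [S.e_cφ₁, hm, map_zero]) := rfl
theorem b0_cls (S : SES φ₁ ψ₁ φ₂ ψ₂ φ₃ ψ₃ f₁ g₁ f₂ g₂) (m : M₂) (hm : φ₂ m = 0) :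
    S.b0 (cls φ₂ ψ₂ m hm) = cls φ₃ ψ₃ (f₂ m) (by rw [S.e_cφ₂, hm, map_zero]) := rfl

theorem exact_b0 (S : SES φ₁ ψ₁ φ₂ ψ₂ φ₃ ψ₃ f₁ g₁ f₂ g₂) : LinearMap.ker S.b0 = LinearMap.range S.a0 := by
  apply le_antisymm
  · intro x hx
    obtain ⟨m₂, hm₂, rfl⟩ := cls_surj φ₂ ψ₂ x
    rw [LinearMap.mem_ker, S.b0_cls, cls_eq_zero] at hx
    obtain ⟨n₃, hn₃⟩ := hx
    obtain ⟨n₂, rfl⟩ := S.hg₂ n₃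
    rw [S.e_cψ₂] at hn₃
    have h0 : f₂ (m₂ - ψ₂ n₂) = 0 := by rw [map_sub, hn₃, sub_self]
    obtain ⟨m₁, hm₁⟩ := S.exM _ h0
    have hφ : φ₁ m₁ = 0 := by
      apply S.hg₁
      rw [← S.e_cφ₁, hm₁, map_sub, hm₂, S.e_φψ₂, sub_zero, map_zero]
    refine ⟨cls φ₁ ψ₁ m₁ hφ, ?_⟩
    rw [S.a0_cls, cls_eq_cls]
    exact ⟨-n₂, by rw [map_neg, hm₁]; abel⟩
  · rintro _ ⟨x, rfl⟩
    obtain ⟨m₁, hm₁, rfl⟩ := cls_surj φ₁ ψ₁ x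
    rw [LinearMap.mem_ker, S.a0_cls, S.b0_cls, cls_eq_zero]
    exact ⟨0, by rw [map_zero, S.ff]⟩

/-- the submodule of `M₂` mapping to cocycles of the third complex -/
def Pm (S : SES φ₁ ψ₁ φ₂ ψ₂ φ₃ ψ₃ f₁ g₁ f₂ g₂) : Submodule R M₂ := (LinearMap.ker φ₃).comap f₂

theorem mem_Pm (S : SES φ₁ ψ₁ φ₂ ψ₂ φ₃ ψ₃ f₁ g₁ f₂ g₂) (m : M₂) : m ∈ S.Pm ↔ φ₃ (f₂ m) = 0 := Iff.rfl

/-- `Pm → H⁰₃` -/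
def pmap (S : SES φ₁ ψ₁ φ₂ ψ₂ φ₃ ψ₃ f₁ g₁ f₂ g₂) : S.Pm →ₗ[R] perH φ₃ ψ₃ :=
  (Submodule.mkQ _) ∘ₗ (f₂.restrict (p := S.Pm) (q := LinearMap.ker φ₃) (fun _ hx => hx))

theorem pmap_apply (S : SES φ₁ ψ₁ φ₂ ψ₂ φ₃ ψ₃ f₁ g₁ f₂ g₂) (x : S.Pm) : S.pmap x = cls φ₃ ψ₃ (f₂ x.1) ((S.mem_Pm x.1).mp x.2) := rfl

theorem pmap_surj (S : SES φ₁ ψ₁ φ₂ ψ₂ φ₃ ψ₃ f₁ g₁ f₂ g₂) : Surjective S.pmap := by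
  intro y
  obtain ⟨m₃, hm₃, rfl⟩ := cls_surj φ₃ ψ₃ y
  obtain ⟨m₂, rfl⟩ := S.hf₂ m₃
  exact ⟨⟨m₂, (S.mem_Pm m₂).mpr hm₃⟩, rfl⟩

theorem phi_mem_range (S : SES φ₁ ψ₁ φ₂ ψ₂ φ₃ ψ₃ f₁ g₁ f₂ g₂) (x : S.Pm) : (φ₂ ∘ₗ S.Pm.subtype) x ∈ LinearMap.range g₁ := by
  rw [S.hN, LinearMap.mem_ker]
  show g₂ (φ₂ x.1) = 0
  rw [← S.e_cφ₂]
  exact (S.mem_Pm x.1).mp x.2

/-- `θ x` is the unique element with `g₁ (θ x) = φ₂ x` -/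
noncomputable def theta (S : SES φ₁ ψ₁ φ₂ ψ₂ φ₃ ψ₃ f₁ g₁ f₂ g₂) : S.Pm →ₗ[R] N₁ :=
  (invOn g₁ S.hg₁) ∘ₗ LinearMap.codRestrict (LinearMap.range g₁) (φ₂ ∘ₗ S.Pm.subtype) S.phi_mem_range

theorem g_theta (S : SES φ₁ ψ₁ φ₂ ψ₂ φ₃ ψ₃ f₁ g₁ f₂ g₂) (x : S.Pm) : g₁ (S.theta x) = φ₂ x.1 := by
  unfold theta
  rw [LinearMap.comp_apply, g_invOn]
  rfl

theorem psi_theta (S : SES φ₁ ψ₁ φ₂ ψ₂ φ₃ ψ₃ f₁ g₁ f₂ g₂) (x : S.Pm) : ψ₁ (S.theta x) = 0 := by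
  apply S.hf₁
  rw [← S.e_cψ₁, S.g_theta, S.e_ψφ₂, map_zero]

/-- `Pm → H¹₁` -/
noncomputable def tmap (S : SES φ₁ ψ₁ φ₂ ψ₂ φ₃ ψ₃ f₁ g₁ f₂ g₂) : S.Pm →ₗ[R] perH ψ₁ φ₁ :=
  (Submodule.mkQ _) ∘ₗ LinearMap.codRestrict (LinearMap.ker ψ₁) S.theta
    (fun x => LinearMap.mem_ker.mpr (S.psi_theta x))

theorem tmap_apply (S : SES φ₁ ψ₁ φ₂ ψ₂ φ₃ ψ₃ f₁ g₁ f₂ g₂) (x : S.Pm) : S.tmap x = cls ψ₁ φ₁ (S.theta x) (S.psi_theta x) := rfl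

theorem ker_p_le (S : SES φ₁ ψ₁ φ₂ ψ₂ φ₃ ψ₃ f₁ g₁ f₂ g₂) : LinearMap.ker S.pmap ≤ LinearMap.ker S.tmap := by
  intro x hx
  rw [LinearMap.mem_ker, S.pmap_apply, cls_eq_zero] at hx
  obtain ⟨n₃, hn₃⟩ := hx
  obtain ⟨n₂, rfl⟩ := S.hg₂ n₃
  rw [S.e_cψ₂] at hn₃
  have h0 : f₂ (x.1 - ψ₂ n₂) = 0 := by rw [map_sub, hn₃, sub_self]
  obtain ⟨m₁, hm₁⟩ := S.exM _ h0
  rw [LinearMap.mem_ker, S.tmap_apply, cls_eq_zero]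
  refine ⟨m₁, ?_⟩
  apply S.hg₁
  rw [S.g_theta, ← S.e_cφ₁, hm₁, map_sub, S.e_φψ₂, sub_zero]

/-- the connecting map H⁰₃ → H¹₁ -/
noncomputable def dl (S : SES φ₁ ψ₁ φ₂ ψ₂ φ₃ ψ₃ f₁ g₁ f₂ g₂) : perH φ₃ ψ₃ →ₗ[R] perH ψ₁ φ₁ :=
  (Submodule.liftQ (LinearMap.ker S.pmap) S.tmap S.ker_p_le) ∘ₗ
    (S.pmap.quotKerEquivOfSurjective S.pmap_surj).symm.toLinearMap

theorem dl_pmap (S : SES φ₁ ψ₁ φ₂ ψ₂ φ₃ ψ₃ f₁ g₁ f₂ g₂) (x : S.Pm) : S.dl (S.pmap x) = S.tmap x := by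
  have h1 : (S.pmap.quotKerEquivOfSurjective S.pmap_surj).symm (S.pmap x) =
      Submodule.Quotient.mk x := by
    rw [LinearEquiv.symm_apply_eq]
    rfl
  unfold dl
  rw [LinearMap.comp_apply, LinearEquiv.coe_coe, h1]
  rfl

theorem exact_dl (S : SES φ₁ ψ₁ φ₂ ψ₂ φ₃ ψ₃ f₁ g₁ f₂ g₂) : LinearMap.ker S.dl = LinearMap.range S.b0 := by
  apply le_antisymm
  · intro y hy
    obtain ⟨x, rfl⟩ := S.pmap_surj y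
    rw [LinearMap.mem_ker, S.dl_pmap, S.tmap_apply, cls_eq_zero] at hy
    obtain ⟨m₁, hm₁⟩ := hy
    have hφ : φ₂ (x.1 - f₁ m₁) = 0 := by
      rw [map_sub, S.e_cφ₁, hm₁, S.g_theta, sub_self]
    refine ⟨cls φ₂ ψ₂ (x.1 - f₁ m₁) hφ, ?_⟩
    rw [S.b0_cls, S.pmap_apply, cls_eq_cls]
    exact ⟨0, by rw [map_zero, map_sub, S.ff, sub_zero, sub_self]⟩
  · rintro _ ⟨x, rfl⟩
    obtain ⟨m₂, hm₂, rfl⟩ := cls_surj φ₂ ψ₂ x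
    have hmem : m₂ ∈ S.Pm := by
      rw [S.mem_Pm, S.e_cφ₂, hm₂, map_zero]
    have h1 : S.b0 (cls φ₂ ψ₂ m₂ hm₂) = S.pmap ⟨m₂, hmem⟩ := rfl
    rw [LinearMap.mem_ker, h1, S.dl_pmap, S.tmap_apply, cls_eq_zero]
    refine ⟨0, ?_⟩
    apply S.hg₁
    rw [map_zero, map_zero, S.g_theta]
    exact hm₂.symm

theorem exact_a1 (S : SES φ₁ ψ₁ φ₂ ψ₂ φ₃ ψ₃ f₁ g₁ f₂ g₂) : LinearMap.ker S.swap.a0 = LinearMap.range S.dl := by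
  apply le_antisymm
  · intro z hz
    obtain ⟨n₁, hn₁, rfl⟩ := cls_surj ψ₁ φ₁ z
    rw [LinearMap.mem_ker, S.swap.a0_cls, cls_eq_zero] at hz
    obtain ⟨m₂, hm₂⟩ := hz
    have hmem : m₂ ∈ S.Pm := by
      rw [S.mem_Pm, S.e_cφ₂, hm₂, S.gg]
    refine ⟨S.pmap ⟨m₂, hmem⟩, ?_⟩
    rw [S.dl_pmap, S.tmap_apply, cls_eq_cls]
    refine ⟨0, ?_⟩
    rw [map_zero, eq_comm, sub_eq_zero]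
    apply S.hg₁
    rw [S.g_theta]
    exact hm₂
  · rintro _ ⟨y, rfl⟩
    obtain ⟨x, rfl⟩ := S.pmap_surj y
    rw [LinearMap.mem_ker, S.dl_pmap, S.tmap_apply, S.swap.a0_cls, cls_eq_zero]
    exact ⟨x.1, (S.g_theta x).symm⟩

end SES
end Half
end Gen


/-- Let 0 → (M₁, N₁, φ₁, ψ₁) → (M₂, N₂, φ₂, ψ₂) → (M₃, N₃, φ₃, ψ₃) → 0 be a short exact sequence of
2-periodic complexes over a ring R (so the maps f_i : M₁ → M₂ → M₃ and g_i : N₁ → N₂ → N₃ commute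
with the φ's and ψ's and both rows are short exact). If two of the three complexes have cohomology
modules of finite length then so does the third, and e_R of the middle one is the sum of e_R of the
outer ones. -/
theorem result {R : Type u} [CommRing R] {M₁ N₁ M₂ N₂ M₃ N₃ : Type v} [AddCommGroup M₁] [Module R M₁] [AddCommGroup N₁] [Module R N₁] [AddCommGroup M₂] [Module R M₂] [AddCommGroup N₂] [Module R N₂] [AddCommGroup M₃] [Module R M₃] [AddCommGroup N₃] [Module R N₃] (φ₁ : M₁ →ₗ[R] N₁) (ψ₁ : N₁ →ₗ[R] M₁) (φ₂ : M₂ →ₗ[R] N₂) (ψ₂ : N₂ →ₗ[R] M₂) (φ₃ : M₃ →ₗ[R] N₃) (ψ₃ : N₃ →ₗ[R] M₃) (h₁ : CycAlg.IsPeriodic φ₁ ψ₁) (h₂ : CycAlg.IsPeriodic φ₂ ψ₂) (h₃ : CycAlg.IsPeriodic φ₃ ψ₃) (f₁ : M₁ →ₗ[R] M₂) (g₁ : N₁ →ₗ[R] N₂) (f₂ : M₂ →ₗ[R] M₃) (g₂ : N₂ →ₗ[R]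 N₃) (cφ₁ : φ₂ ∘ₗ f₁ = g₁ ∘ₗ φ₁) (cψ₁ : ψ₂ ∘ₗ g₁ = f₁ ∘ₗ ψ₁) (cφ₂ : φ₃ ∘ₗ f₂ = g₂ ∘ₗ φ₂) (cψ₂ : ψ₃ ∘ₗ g₂ = f₂ ∘ₗ ψ₂) (hf₁ : Function.Injective f₁) (hg₁ : Function.Injective g₁) (hf₂ : Function.Surjective f₂) (hg₂ : Function.Surjective g₂) (hM : LinearMap.range f₁ = LinearMap.ker f₂) (hN : LinearMap.range g₁ = LinearMap.ker g₂) (htwo : (CycAlg.FinCoh R φ₁ ψ₁ ∧ CycAlg.FinCoh R φ₂ ψ₂) ∨ (CycAlg.FinCoh R φ₁ ψ₁ ∧ CycAlg.FinCoh R φ₃ ψ₃) ∨ (CycAlg.FinCoh R φ₂ ψ₂ ∧ CycAlg.FinCoh R φ₃ ψ₃)) : CycAlg.FinCoh R φ₁ ψ₁ ∧ CycAlg.FinCoh R φ₂ ψ₂ ∧ CycAlg.FinCoh R φ₃ ψ₃ ∧ CycAlg.herbrand R φ₂ ψ₂ = CycAlg.herbrand R φ₁ ψ₁ + CycAlg.herbrand R φ₃ ψ₃ := by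
  have S : SES φ₁ ψ₁ φ₂ ψ₂ φ₃ ψ₃ f₁ g₁ f₂ g₂ :=
    ⟨h₁, h₂, h₃, cφ₁, cψ₁, cφ₂, cψ₂, hf₁, hg₁, hf₂, hg₂, hM, hN⟩
  have e1 := length_ker_range S.a0
  have e2 := length_ker_range S.b0
  have e3 := length_ker_range S.dl
  have e4 := length_ker_range S.swap.a0
  have e5 := length_ker_range S.swap.b0
  have e6 := length_ker_range S.swap.dl
  have hx : LinearMap.ker S.a0 = LinearMap.range S.swap.dl := S.swap.exact_a1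
  rw [hx] at e1
  rw [S.exact_b0] at e2
  rw [S.exact_dl] at e3
  rw [S.exact_a1] at e4
  rw [S.swap.exact_b0] at e5
  rw [S.swap.exact_dl] at e6
  unfold CycAlg.FinCoh CycAlg.herbrand at *
  rw [e1, e2, e3, e4, e5, e6] at htwo ⊢
  generalize Module.length R (LinearMap.range S.a0) = A0 at *
  generalize Module.length R (LinearMap.range S.b0) = B0 at *
  generalize Module.length R (LinearMap.range S.dl) = D0 at *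
  generalize Module.length R (LinearMap.range S.swap.a0) = A1 at *
  generalize Module.length R (LinearMap.range S.swap.b0) = B1 at *
  generalize Module.length R (LinearMap.range S.swap.dl) = D1 at *
  have hfin : A0 < ⊤ ∧ B0 < ⊤ ∧ D0 < ⊤ ∧ A1 < ⊤ ∧ B1 < ⊤ ∧ D1 < ⊤ := by
    simp only [ENat.add_lt_top] at htwo
    rcases htwo with h | h | h <;> tauto
  obtain ⟨k1, k2, k3, k4, k5, k6⟩ := hfin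
  lift A0 to ℕ using k1.ne
  lift B0 to ℕ using k2.ne
  lift D0 to ℕ using k3.ne
  lift A1 to ℕ using k4.ne
  lift B1 to ℕ using k5.ne
  lift D1 to ℕ using k6.ne
  refine ⟨⟨?_, ?_⟩, ⟨?_, ?_⟩, ⟨?_, ?_⟩, ?_⟩
  · exact ENat.add_lt_top.mpr ⟨ENat.natCast_lt_top _, ENat.natCast_lt_top _⟩
  · exact ENat.add_lt_top.mpr ⟨ENat.natCast_lt_top _, ENat.natCast_lt_top _⟩
  · exact ENat.add_lt_top.mpr ⟨ENat.natCast_lt_top _, ENat.natCast_lt_top _⟩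
  · exact ENat.add_lt_top.mpr ⟨ENat.natCast_lt_top _, ENat.natCast_lt_top _⟩
  · exact ENat.add_lt_top.mpr ⟨ENat.natCast_lt_top _, ENat.natCast_lt_top _⟩
  · exact ENat.add_lt_top.mpr ⟨ENat.natCast_lt_top _, ENat.natCast_lt_top _⟩
  · simp only [← Nat.cast_add, ENat.toNat_natCast]
    push_cast
    ring

end Groth.Agent.S1869
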