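import Groth.Statements.S6464
import Mathlib

set_option autoImplicit false
universe u v
open CycAlg

namespace Groth.Agent.S6464

theorem length_sub_add_quot {R : Type u} [CommRing R] {M : Type v} [AddCommGroup M] [Module R M]
    (P : Submodule R M) : Module.length R M = Module.length R P + Module.length R (M ⧸ P) :=
  Module.length_eq_add_of_exact P.subtype P.mkQ (Submodule.subtype_injective _)
    (Submodule.mkQ_surjective _) (LinearMap.exact_subtype_mkQ P)

theorem length_ker_add_range {R : Type u} [CommRing R] {M N : Type v} [AddCommGroup M] [Module R M]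
    [AddCommGroup N] [Module R N] (φ : M →ₗ[R] N) :
    Module.length R M = Module.length R (LinearMap.ker φ) + Module.length R (LinearMap.range φ) := by
  rw [length_sub_add_quot (LinearMap.ker φ), (LinearMap.quotKerEquivRange φ).length_eq]

theorem length_ker_eq {R : Type u} [CommRing R] {M N : Type v} [AddCommGroup M] [Module R M]
    [AddCommGroup N] [Module R N] (φ : M →ₗ[R] N) (ψ : N →ₗ[R] M) (h : φ ∘ₗ ψ = 0) :
    Module.length R (LinearMap.ker φ) =
      Module.length R (LinearMap.range ψ) + Module.length R (CycAlg.perH φ ψ) := by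
  have hle : LinearMap.range ψ ≤ LinearMap.ker φ := by
    rintro _ ⟨n, rfl⟩
    exact LinearMap.congr_fun h n
  rw [length_sub_add_quot ((LinearMap.range ψ).submoduleOf (LinearMap.ker φ)),
    (Submodule.submoduleOfEquivOfLe hle).length_eq]

/-- Let (M, N, φ, ψ) be a 2-periodic complex over a ring R with M and N of finite length. Then its
cohomology modules have finite length and e_R(M, N, φ, ψ) = length_R(M) − length_R(N). (The case M =
N, where the conclusion reads e_R(M, φ, ψ) = 0, is the special case and is not restated.) -/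
theorem result {R : Type u} [CommRing R] {M N : Type v} [AddCommGroup M] [Module R M] [AddCommGroup N] [Module R N] (φ : M →ₗ[R] N) (ψ : N →ₗ[R] M) (h : CycAlg.IsPeriodic φ ψ) (hM : Module.length R M < ⊤) (hN : Module.length R N < ⊤) : CycAlg.FinCoh R φ ψ ∧ CycAlg.herbrand R φ ψ = ((Module.length R M).toNat : ℤ) - ((Module.length R N).toNat : ℤ) := by
  have e1 := length_ker_add_range φ
  have e2 := length_ker_add_range ψ
  have e3 := length_ker_eq φ ψ h.1
  have e4 := length_ker_eq ψ φ h.2
  unfold CycAlg.FinCoh CycAlg.herbrand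
  generalize Module.length R M = LM at *
  generalize Module.length R N = LN at *
  generalize Module.length R (LinearMap.ker φ) = a at *
  generalize Module.length R (LinearMap.range φ) = b at *
  generalize Module.length R (LinearMap.ker ψ) = c at *
  generalize Module.length R (LinearMap.range ψ) = d at *
  generalize Module.length R (CycAlg.perH φ ψ) = h0 at *
  generalize Module.length R (CycAlg.perH ψ φ) = h1 at *
  subst e1 e2
  have ha : a < ⊤ := lt_of_le_of_lt le_self_add hM
  have hb : b < ⊤ := lt_of_le_of_lt le_add_self hM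
  have hc : c < ⊤ := lt_of_le_of_lt le_self_add hN
  have hd : d < ⊤ := lt_of_le_of_lt le_add_self hN
  subst e3 e4
  have hh0 : h0 < ⊤ := lt_of_le_of_lt le_add_self ha
  have hh1 : h1 < ⊤ := lt_of_le_of_lt le_add_self hc
  refine ⟨⟨hh0, hh1⟩, ?_⟩
  lift b to ℕ using hb.ne
  lift d to ℕ using hd.ne
  lift h0 to ℕ using hh0.ne
  lift h1 to ℕ using hh1.ne
  have e5 : ((d : ℕ∞) + (h0 : ℕ∞) + (b : ℕ∞)).toNat = d + h0 + b := by
    rw [← Nat.cast_add, ← Nat.cast_add, ENat.toNat_coe]
  have e6 : ((b : ℕ∞) + (h1 : ℕ∞) + (d : ℕ∞)).toNat = b + h1 + d := by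
    rw [← Nat.cast_add, ← Nat.cast_add, ENat.toNat_coe]
  rw [e5, e6, ENat.toNat_coe, ENat.toNat_coe]
  push_cast
  ring

end Groth.Agent.S6464
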