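import Groth.Statements.S1870
import Mathlib
import Groth.Agent.S1869
import Groth.Agent.S6464

set_option autoImplicit false
universe u v
open CycAlg

namespace Groth.Agent.S1870



/-- A morphism of (2,1)-periodic complexes, both with finite-length cohomology, whose kernel and
cokernel have finite length does not change the additive Herbrand quotient: e_R(M, φ, ψ) = e_R(M',
φ', ψ'). -/
theorem result {R : Type u} [CommRing R] {M M' : Type v} [AddCommGroup M] [Module R M] [AddCommGroup M'] [Module R M'] (φ ψ : M →ₗ[R] M) (φ' ψ' : M' →ₗ[R] M') (h : CycAlg.IsPeriodic φ ψ) (h' : CycAlg.IsPeriodic φ' ψ') (f : M →ₗ[R] M') (cφ : φ' ∘ₗ f = f ∘ₗ φ) (cψ : ψ' ∘ₗ f = f ∘ₗ ψ) (hfin : CycAlg.FinCoh R φ ψ) (hfin' : CycAlg.FinCoh R φ' ψ') (hker : Module.length R (LinearMap.ker f) < ⊤) (hcoker : Module.length R (M' ⧸ LinearMap.range f) < ⊤) : CycAlg.herbrand R φ ψ = CycAlg.herbrand R φ' ψ' := by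
  have eφ : ∀ m, φ' (f m) = f (φ m) := fun m => LinearMap.congr_fun cφ m
  have eψ : ∀ m, ψ' (f m) = f (ψ m) := fun m => LinearMap.congr_fun cψ m
  have hφψ : ∀ m, φ (ψ m) = 0 := fun m => LinearMap.congr_fun h.1 m
  have hψφ : ∀ m, ψ (φ m) = 0 := fun m => LinearMap.congr_fun h.2 m
  have hφψ' : ∀ m, φ' (ψ' m) = 0 := fun m => LinearMap.congr_fun h'.1 m
  have hψφ' : ∀ m, ψ' (φ' m) = 0 := fun m => LinearMap.congr_fun h'.2 m
  -- kernel complex
  have hK1 : ∀ x ∈ LinearMap.ker f, φ x ∈ LinearMap.ker f := fun x hx => by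
    rw [LinearMap.mem_ker] at hx ⊢
    rw [← eφ, hx, map_zero]
  have hK2 : ∀ x ∈ LinearMap.ker f, ψ x ∈ LinearMap.ker f := fun x hx => by
    rw [LinearMap.mem_ker] at hx ⊢
    rw [← eψ, hx, map_zero]
  let φK : LinearMap.ker f →ₗ[R] LinearMap.ker f := φ.restrict hK1
  let ψK : LinearMap.ker f →ₗ[R] LinearMap.ker f := ψ.restrict hK2
  have perK : CycAlg.IsPeriodic φK ψK :=
    ⟨LinearMap.ext fun x => Subtype.ext (hφψ x.1), LinearMap.ext fun x => Subtype.ext (hψφ x.1)⟩
  -- image complex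
  have hI1 : ∀ y ∈ LinearMap.range f, φ' y ∈ LinearMap.range f := by
    rintro _ ⟨m, rfl⟩
    exact ⟨φ m, (eφ m).symm⟩
  have hI2 : ∀ y ∈ LinearMap.range f, ψ' y ∈ LinearMap.range f := by
    rintro _ ⟨m, rfl⟩
    exact ⟨ψ m, (eψ m).symm⟩
  let φI : LinearMap.range f →ₗ[R] LinearMap.range f := φ'.restrict hI1
  let ψI : LinearMap.range f →ₗ[R] LinearMap.range f := ψ'.restrict hI2
  have perI : CycAlg.IsPeriodic φI ψI :=
    ⟨LinearMap.ext fun x => Subtype.ext (hφψ' x.1), LinearMap.ext fun x => Subtype.ext (hψφ' x.1)⟩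
  -- cokernel complex
  let φC : (M' ⧸ LinearMap.range f) →ₗ[R] (M' ⧸ LinearMap.range f) :=
    Submodule.mapQ _ _ φ' (fun y hy => hI1 y hy)
  let ψC : (M' ⧸ LinearMap.range f) →ₗ[R] (M' ⧸ LinearMap.range f) :=
    Submodule.mapQ _ _ ψ' (fun y hy => hI2 y hy)
  have perC : CycAlg.IsPeriodic φC ψC := by
    constructor
    · apply LinearMap.ext
      intro x
      obtain ⟨y, rfl⟩ := Submodule.Quotient.mk_surjective _ x
      show Submodule.Quotient.mk (φ' (ψ' y)) = 0
      rw [hφψ', Submodule.Quotient.mk_zero]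
    · apply LinearMap.ext
      intro x
      obtain ⟨y, rfl⟩ := Submodule.Quotient.mk_surjective _ x
      show Submodule.Quotient.mk (ψ' (φ' y)) = 0
      rw [hψφ', Submodule.Quotient.mk_zero]
  have rK := Groth.Agent.S6464.result φK ψK perK hker hker
  have rC := Groth.Agent.S6464.result φC ψC perC hcoker hcoker
  have s1 := Groth.Agent.S1869.result φK ψK φ ψ φI ψI perK h perI
    (LinearMap.ker f).subtype (LinearMap.ker f).subtype f.rangeRestrict f.rangeRestrict
    (LinearMap.ext fun x => rfl) (LinearMap.ext fun x => rfl)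
    (LinearMap.ext fun m => Subtype.ext (eφ m)) (LinearMap.ext fun m => Subtype.ext (eψ m))
    (Submodule.subtype_injective _) (Submodule.subtype_injective _)
    f.surjective_rangeRestrict f.surjective_rangeRestrict
    (by rw [Submodule.range_subtype, LinearMap.ker_rangeRestrict])
    (by rw [Submodule.range_subtype, LinearMap.ker_rangeRestrict])
    (Or.inl ⟨rK.1, hfin⟩)
  have s2 := Groth.Agent.S1869.result φI ψI φ' ψ' φC ψC perI h' perC
    (LinearMap.range f).subtype (LinearMap.range f).subtype (LinearMap.range f).mkQ (LinearMap.range f).mkQ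
    (LinearMap.ext fun x => rfl) (LinearMap.ext fun x => rfl)
    (LinearMap.ext fun m => rfl) (LinearMap.ext fun m => rfl)
    (Submodule.subtype_injective _) (Submodule.subtype_injective _)
    (Submodule.mkQ_surjective _) (Submodule.mkQ_surjective _)
    (by rw [Submodule.range_subtype, Submodule.ker_mkQ])
    (by rw [Submodule.range_subtype, Submodule.ker_mkQ])
    (Or.inr (Or.inr ⟨hfin', rC.1⟩))
  have e1 := s1.2.2.2
  have e2 := s2.2.2.2
  have e3 := rK.2
  have e4 := rC.2
  rw [sub_self] at e3 e4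
  rw [e1, e2, e3, e4]
  ring

end Groth.Agent.S1870
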