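import Groth.Statements.S18700
import Mathlib

set_option autoImplicit false
universe u
open QGor CategoryTheory Abelian RingTheory.Sequence

namespace Groth.Agent.S18700

section aux

variable {A : Type u} [CommRing A]

/-- characterisation of `n ≤ idealDepth` -/
lemma le_idealDepth_iff (I : Ideal A) (M : Type u) [AddCommGroup M] [Module A M] (n : ℕ) :
    (n : ℕ∞) ≤ LocCoh.idealDepth I M ↔
      I • (⊤ : Submodule A M) = ⊤ ∨
        ∃ rs : List A, n ≤ rs.length ∧ IsWeaklyRegular M rs ∧ ∀ r ∈ rs, r ∈ I := by
  classical
  unfold LocCoh.idealDepth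
  split_ifs with h
  · simp [h]
  · simp only [h, false_or]
    constructor
    · intro hn
      by_contra hcon
      push Not at hcon
      rcases Nat.eq_zero_or_pos n with rfl | hpos
      · exact absurd (hcon [] (Nat.zero_le _) (IsWeaklyRegular.nil A M)) (by simp)
      · have hle : (⨆ (rs : List A) (_ : IsWeaklyRegular M rs ∧ ∀ r ∈ rs, r ∈ I),
            (rs.length : ℕ∞)) ≤ ((n - 1 : ℕ) : ℕ∞) := by
          apply iSup₂_le
          intro rs hrs
          have : ¬ n ≤ rs.length := fun hle => by
            obtain ⟨r, hr, hrI⟩ := hcon rs hle hrs.1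
            exact hrI (hrs.2 r hr)
          rw [Nat.cast_le]
          omega
        have := hn.trans hle
        rw [Nat.cast_le] at this
        omega
    · rintro ⟨rs, hn, hrs, hI⟩
      exact le_iSup₂_of_le rs ⟨hrs, hI⟩ (Nat.cast_le.mpr hn)

/-- if `I E = E` for a finite module `E`, then `I K = K` for every submodule `K` -/
lemma smul_top_eq_top_submodule (I : Ideal A) {E : Type u} [AddCommGroup E] [Module A E]
    [Module.Finite A E] (h : I • (⊤ : Submodule A E) = ⊤) (K : Submodule A E) :
    I • (⊤ : Submodule A K) = ⊤ := by
  obtain ⟨r, hr, hr0⟩ := Submodule.exists_sub_one_mem_and_smul_eq_zero_of_fg_of_le_smul I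
    (⊤ : Submodule A E) Module.Finite.fg_top (by rw [h])
  rw [eq_top_iff]
  intro k _
  have hk : k = (1 - r) • k := by
    apply Subtype.ext
    rw [Submodule.coe_smul, sub_smul, one_smul, hr0 _ Submodule.mem_top, sub_zero]
  rw [hk]
  apply Submodule.smul_mem_smul _ Submodule.mem_top
  have : 1 - r = -(r - 1) := by ring
  rw [this]
  exact I.neg_mem hr

/-- elements killed by `I` vanish when the depth is positive -/
lemma eq_zero_of_forall_smul_eq_zero (I : Ideal A) {E : Type u} [AddCommGroup E] [Module A E]
    [Module.Finite A E] (h : 1 ≤ LocCoh.idealDepth I E) (m : E) (hm : ∀ a ∈ I, a • m = 0) :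
    m = 0 := by
  have h' : ((1 : ℕ) : ℕ∞) ≤ LocCoh.idealDepth I E := by simpa using h
  rcases (le_idealDepth_iff I E 1).mp h' with h1 | ⟨rs, hlen, hrs, hI⟩
  · obtain ⟨r, hr, hr0⟩ := Submodule.exists_sub_one_mem_and_smul_eq_zero_of_fg_of_le_smul I
      (⊤ : Submodule A E) Module.Finite.fg_top (by rw [h1])
    have e1 : r • m = 0 := hr0 m Submodule.mem_top
    have e2 : (r - 1) • m = 0 := hm _ hr
    rw [sub_smul, one_smul, e1, zero_sub, neg_eq_zero] at e2
    exact e2
  · match rs, hlen, hrs, hI with
    | [], hlen, _, _ => simp at hlen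
    | r :: rs', _, hrs, hI =>
      have hreg : IsSMulRegular E r := ((isWeaklyRegular_cons_iff E r rs').mp hrs).1
      apply hreg
      simp only [smul_zero]
      exact hm r (hI r List.mem_cons_self)

end aux

set_option maxHeartbeats 400000 in
/-- Affine form. Let A be a Noetherian ring, I an ideal, and G the kernel of a linear map u : E⁰ → E¹ of
finite A-modules. If depth_I E⁰ ≥ 1 then depth_I G ≥ 1; if depth_I E⁰ ≥ 2 and depth_I E¹ ≥ 1 then
depth_I G ≥ 2. -/
theorem result (A : Type u) [CommRing A] [IsNoetherianRing A] (I : Ideal A)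
    (E0 E1 : Type u) [AddCommGroup E0] [Module A E0] [Module.Finite A E0] [AddCommGroup E1] [Module A E1]
    [Module.Finite A E1] (u : E0 →ₗ[A] E1) :
    (1 ≤ LocCoh.idealDepth I E0 → 1 ≤ LocCoh.idealDepth I (LinearMap.ker u)) ∧
    (2 ≤ LocCoh.idealDepth I E0 → 1 ≤ LocCoh.idealDepth I E1 → 2 ≤ LocCoh.idealDepth I (LinearMap.ker u)) := by
  classical
  constructor
  · intro h
    have h' : ((1 : ℕ) : ℕ∞) ≤ LocCoh.idealDepth I E0 := by simpa using h
    have goal : ((1 : ℕ) : ℕ∞) ≤ LocCoh.idealDepth I (LinearMap.ker u) := by
      rw [le_idealDepth_iff]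
      rcases (le_idealDepth_iff I E0 1).mp h' with h1 | ⟨rs, hlen, hrs, hI⟩
      · exact Or.inl (smul_top_eq_top_submodule I h1 _)
      · right
        match rs, hlen, hrs, hI with
        | [], hlen, _, _ => simp at hlen
        | r :: rs', _, hrs, hI =>
          have hreg : IsSMulRegular E0 r := ((isWeaklyRegular_cons_iff E0 r rs').mp hrs).1
          refine ⟨[r], by simp, ?_, ?_⟩
          · rw [isWeaklyRegular_singleton_iff]
            intro x y hxy
            apply Subtype.ext
            apply hreg
            have := congrArg Subtype.val hxy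
            simpa using this
          · intro r' hr'
            rw [List.mem_singleton] at hr'
            rw [hr']
            exact hI r List.mem_cons_self
    simpa using goal
  · intro h0 h1
    have h0' : ((2 : ℕ) : ℕ∞) ≤ LocCoh.idealDepth I E0 := by simpa using h0
    have goal : ((2 : ℕ) : ℕ∞) ≤ LocCoh.idealDepth I (LinearMap.ker u) := by
      rw [le_idealDepth_iff]
      by_cases hK : I • (⊤ : Submodule A (LinearMap.ker u)) = ⊤
      · exact Or.inl hK
      right
      have hE0 : I • (⊤ : Submodule A E0) ≠ ⊤ := fun h => hK (smul_top_eq_top_submodule I h _)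
      rcases (le_idealDepth_iff I E0 2).mp h0' with h | ⟨rs, hlen, hrs, hI⟩
      · exact absurd h hE0
      -- a regular sequence of length 2 on E0
      have hrs2 : IsWeaklyRegular E0 (rs.take 2) := by
        have := (isWeaklyRegular_append_iff E0 (rs.take 2) (rs.drop 2)).mp
          (by rw [List.take_append_drop]; exact hrs)
        exact this.1
      have hI2 : ∀ r ∈ rs.take 2, r ∈ I := fun r hr => hI r (List.mem_of_mem_take hr)
      have hlen2 : (rs.take 2).length = 2 := by
        rw [List.length_take]; omega
      have hreg2 : IsRegular E0 (rs.take 2) := by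
        refine ⟨hrs2, ?_⟩
        intro htop
        apply hE0
        have hle : Ideal.ofList (rs.take 2) ≤ I := by
          rw [Ideal.ofList, Ideal.span_le]
          exact fun r hr => hI2 r hr
        rw [eq_top_iff]
        calc (⊤ : Submodule A E0) = Ideal.ofList (rs.take 2) • ⊤ := htop
          _ ≤ I • ⊤ := Submodule.smul_mono_left hle
      -- the modules
      let M0 : ModuleCat.{u} A := ModuleCat.of A E0
      let N : ModuleCat.{u} A := ModuleCat.of A (Shrink.{u} (A ⧸ I))
      have : Module.Finite A M0 := inferInstanceAs (Module.Finite A E0)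
      have hlt0 : I • (⊤ : Submodule A M0) < ⊤ := lt_top_iff_ne_top.mpr hE0
      have hExt0 : ∀ i < 2, Subsingleton (Ext N M0 i) := by
        have tfae := ModuleCat.exists_isRegular_tfae I 2 M0 hlt0
        have h31 := tfae.out 3 1
        exact h31.mp ⟨rs.take 2, hlen2, hI2, hreg2⟩
      -- the short exact sequence
      have eq0 : u.rangeRestrict.comp (LinearMap.ker u).subtype = 0 := by
        ext x
        simp
      let S : ShortComplex (ModuleCat.{u} A) :=
        ModuleCat.shortComplexOfCompEqZero (LinearMap.ker u).subtype u.rangeRestrict eq0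
      have hS : S.ShortExact := by
        apply ModuleCat.shortComplex_shortExact
        · intro x
          show u.rangeRestrict x = 0 ↔ x ∈ Set.range (LinearMap.ker u).subtype
          rw [Submodule.coe_subtype, Subtype.range_coe_subtype, Subtype.ext_iff]
          rfl
        · exact (LinearMap.ker u).injective_subtype
        · exact u.surjective_rangeRestrict
      -- Hom(N, range u) = 0
      have hIN : ∀ (a : A) (_ : a ∈ I) (x : N), a • x = 0 := by
        intro a ha x
        apply (Shrink.linearEquiv A (A ⧸ I)).injective
        rw [map_smul, map_zero]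
        obtain ⟨b, hb⟩ := Ideal.Quotient.mk_surjective ((Shrink.linearEquiv A (A ⧸ I)) x)
        rw [← hb, Algebra.smul_def, Ideal.Quotient.algebraMap_eq, ← map_mul,
          Ideal.Quotient.eq_zero_iff_mem]
        exact I.mul_mem_right b ha
      have hHom : Subsingleton (N ⟶ S.X₃) := by
        refine ⟨fun f g => ?_⟩
        have key : ∀ f : N ⟶ S.X₃, f = 0 := by
          intro f
          ext x
          have hx : (f.hom x : LinearMap.range u) = 0 := by
            apply Subtype.ext
            apply eq_zero_of_forall_smul_eq_zero I h1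
            intro a ha
            have : a • (f.hom x) = 0 := by
              rw [← map_smul, hIN a ha x, map_zero]
            exact congrArg Subtype.val this
          rw [hx]
          rfl
        rw [key f, key g]
      have hExt3 : Subsingleton (Ext N S.X₃ 0) := Ext.addEquiv₀.subsingleton_congr.mpr hHom
      -- Ext vanishing for the kernel
      have hExtK : ∀ i < 2, Subsingleton (Ext N S.X₁ i) := by
        intro i hi
        interval_cases i
        · haveI : Mono S.f := hS.mono_f
          have := hExt0 0 (by norm_num)
          exact (Ext.postcomp_mk₀_injective_of_mono N S.f).subsingleton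
        · refine ⟨fun x y => ?_⟩
          have key : ∀ x : Ext N S.X₁ 1, x = 0 := by
            intro x
            have := hExt0 1 (by norm_num)
            obtain ⟨x₃, hx₃⟩ := Ext.covariant_sequence_exact₁ N hS x (Subsingleton.elim _ _)
              (zero_add 1)
            rw [← hx₃, Subsingleton.elim x₃ 0, Ext.zero_comp]
          rw [key x, key y]
      have : Module.Finite A S.X₁ := inferInstanceAs (Module.Finite A (LinearMap.ker u))
      have hltK : I • (⊤ : Submodule A S.X₁) < ⊤ := lt_top_iff_ne_top.mpr hK
      have tfaeK := ModuleCat.exists_isRegular_tfae I 2 S.X₁ hltK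
      have h13 := tfaeK.out 1 3
      obtain ⟨rsK, hlenK, hIK, hregK⟩ := h13.mp hExtK
      exact ⟨rsK, hlenK.ge, hregK.toIsWeaklyRegular, hIK⟩
    simpa using goal

end Groth.Agent.S18700
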