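import Groth.Statements.S18701
import Mathlib
import Groth.Agent.S18700
import Groth.Agent.H29.DepthLib

set_option autoImplicit false
universe u
open QGor

namespace Groth.Agent.S18701


section Aux18701

theorem sk_aux1 (σG σ0 : WithBot ℕ∞) (εG ε0 : ℕ∞) (hσ : σG ≤ σ0)
    (h0 : min ((1 : ℕ) : WithBot ℕ∞) σ0 ≤ (ε0 : WithBot ℕ∞))
    (hd : (1 : ℕ∞) ≤ ε0 → (1 : ℕ∞) ≤ εG) :
    min ((1 : ℕ) : WithBot ℕ∞) σG ≤ (εG : WithBot ℕ∞) := by
  by_cases c : (1 : ℕ∞) ≤ ε0
  · exact (min_le_left _ _).trans
      (show ((1 : ℕ∞) : WithBot ℕ∞) ≤ ↑εG from WithBot.coe_le_coe.mpr (hd c))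
  · rw [not_le, ENat.lt_one_iff_eq_zero] at c
    rw [c] at h0
    exact ((min_le_min le_rfl hσ).trans h0).trans (WithBot.coe_le_coe.mpr zero_le)

theorem sk_aux2 (σG σ0 σ1 : WithBot ℕ∞) (εG ε0 ε1 : ℕ∞) (hσ0 : σG ≤ σ0) (hσ1 : σG ≤ σ1)
    (h0 : min ((2 : ℕ) : WithBot ℕ∞) σ0 ≤ (ε0 : WithBot ℕ∞))
    (h1 : min ((1 : ℕ) : WithBot ℕ∞) σ1 ≤ (ε1 : WithBot ℕ∞))
    (hd1 : (1 : ℕ∞) ≤ ε0 → (1 : ℕ∞) ≤ εG)
    (hd2 : (2 : ℕ∞) ≤ ε0 → (1 : ℕ∞) ≤ ε1 → (2 : ℕ∞) ≤ εG) :
    min ((2 : ℕ) : WithBot ℕ∞) σG ≤ (εG : WithBot ℕ∞) := by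
  by_cases c2 : (2 : ℕ∞) ≤ ε0
  · by_cases c1 : (1 : ℕ∞) ≤ ε1
    · exact (min_le_left _ _).trans
        (show ((2 : ℕ∞) : WithBot ℕ∞) ≤ ↑εG from WithBot.coe_le_coe.mpr (hd2 c2 c1))
    · rw [not_le, ENat.lt_one_iff_eq_zero] at c1
      rw [c1] at h1
      have h3 : min ((1 : ℕ) : WithBot ℕ∞) σG ≤ ((0 : ℕ∞) : WithBot ℕ∞) :=
        (min_le_min le_rfl hσ1).trans h1
      have h4 : σG ≤ ((0 : ℕ∞) : WithBot ℕ∞) := by
        rcases min_le_iff.mp h3 with h | h
        · exfalso
          have h5 : ((1 : ℕ∞) : WithBot ℕ∞) ≤ ((0 : ℕ∞) : WithBot ℕ∞) := h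
          rw [WithBot.coe_le_coe] at h5
          simp at h5
        · exact h
      exact ((min_le_right _ _).trans h4).trans (WithBot.coe_le_coe.mpr zero_le)
  · by_cases c1 : (1 : ℕ∞) ≤ ε0
    · have hδ : ε0 ≤ 1 := by
        rw [not_le] at c2
        have h11 : (2 : ℕ∞) = 1 + 1 := by norm_num
        rw [h11] at c2
        exact (ENat.lt_add_one_iff (by simp)).mp c2
      exact ((min_le_min le_rfl hσ0).trans h0).trans
        (WithBot.coe_le_coe.mpr (hδ.trans (hd1 c1)))
    · rw [not_le, ENat.lt_one_iff_eq_zero] at c1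
      rw [c1] at h0
      exact ((min_le_min le_rfl hσ0).trans h0).trans (WithBot.coe_le_coe.mpr zero_le)

variable {A : Type u} [CommRing A] [IsNoetherianRing A]

theorem support_loc_subset {G E1 : Type u} [AddCommGroup G] [Module A G] [AddCommGroup E1]
    [Module A E1] (p : Ideal A) [p.IsPrime]
    (hsub : Module.support A G ⊆ Module.support A E1) :
    Module.support (Localization.AtPrime p) (LocalizedModule p.primeCompl G) ⊆
      Module.support (Localization.AtPrime p) (LocalizedModule p.primeCompl E1) := by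
  intro q' hq'
  rw [Module.mem_support_iff_exists_annihilator] at hq' ⊢
  obtain ⟨m, hm⟩ := hq'
  induction m using LocalizedModule.induction_on with
  | h g s =>
  let q : PrimeSpectrum A := PrimeSpectrum.comap (algebraMap A (Localization.AtPrime p)) q'
  have hqmem : ∀ x : A, x ∈ q.asIdeal ↔ algebraMap A (Localization.AtPrime p) x ∈ q'.asIdeal :=
    fun x => Iff.rfl
  have hq : q ∈ Module.support A G := by
    rw [Module.mem_support_iff_exists_annihilator]
    refine ⟨g, fun a ha => ?_⟩
    rw [Submodule.mem_annihilator_span_singleton] at ha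
    rw [hqmem]
    apply hm
    rw [Submodule.mem_annihilator_span_singleton, algebraMap_smul, LocalizedModule.smul'_mk, ha,
      LocalizedModule.zero_mk]
  obtain ⟨e, he⟩ := Module.mem_support_iff_exists_annihilator.mp (hsub hq)
  refine ⟨LocalizedModule.mkLinearMap p.primeCompl E1 e, fun z hz => ?_⟩
  obtain ⟨a, t, rfl⟩ := IsLocalization.exists_mk'_eq p.primeCompl z
  rw [Submodule.mem_annihilator_span_singleton] at hz
  have h1 : LocalizedModule.mkLinearMap p.primeCompl E1 (a • e) = 0 := by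
    have h2 : algebraMap A (Localization.AtPrime p) a =
        algebraMap A (Localization.AtPrime p) t * IsLocalization.mk' (Localization.AtPrime p) a t :=
      (IsLocalization.mk'_spec' _ a t).symm
    rw [map_smul, ← algebraMap_smul (Localization.AtPrime p) a, h2, mul_smul, hz, smul_zero]
  obtain ⟨t', ht'⟩ := (IsLocalizedModule.eq_zero_iff p.primeCompl
    (LocalizedModule.mkLinearMap p.primeCompl E1)).mp h1
  have h3 : (t' : A) * a ∈ q.asIdeal :=
    he ((Submodule.mem_annihilator_span_singleton _ _).mpr (by rw [mul_smul]; exact ht'))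
  have hqp : ∀ x ∈ q.asIdeal, x ∈ p := fun x hx => by
    by_contra hxp
    exact q'.isPrime.ne_top (Ideal.eq_top_of_isUnit_mem _ ((hqmem x).mp hx)
      (IsLocalization.map_units (Localization.AtPrime p) (⟨x, hxp⟩ : p.primeCompl)))
  have ha : a ∈ q.asIdeal := (q.isPrime.mem_or_mem h3).resolve_left (fun h => t'.2 (hqp _ h))
  exact IsLocalization.mk'_mem_iff.mpr ((hqmem a).mp ha)

theorem main18701 (E0 E1 : Type u) [AddCommGroup E0] [Module A E0] [Module.Finite A E0]
    [AddCommGroup E1] [Module A E1] [Module.Finite A E1] (u : E0 →ₗ[A] E1) (p : Ideal A)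
    [p.IsPrime] :
    (Module.supportDim (Localization.AtPrime p) (LocalizedModule p.primeCompl (LinearMap.ker u)) ≤
      Module.supportDim (Localization.AtPrime p) (LocalizedModule p.primeCompl E0)) ∧
    ((1 : ℕ∞) ≤ LocCoh.depth (Localization.AtPrime p) (LocalizedModule p.primeCompl E0) →
      (1 : ℕ∞) ≤ LocCoh.depth (Localization.AtPrime p)
        (LocalizedModule p.primeCompl (LinearMap.ker u))) ∧
    ((2 : ℕ∞) ≤ LocCoh.depth (Localization.AtPrime p) (LocalizedModule p.primeCompl E0) →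
      (1 : ℕ∞) ≤ LocCoh.depth (Localization.AtPrime p) (LocalizedModule p.primeCompl E1) →
      (2 : ℕ∞) ≤ LocCoh.depth (Localization.AtPrime p)
        (LocalizedModule p.primeCompl (LinearMap.ker u))) := by
  let up : LocalizedModule p.primeCompl E0 →ₗ[Localization.AtPrime p]
      LocalizedModule p.primeCompl E1 :=
    IsLocalizedModule.mapExtendScalars p.primeCompl (LocalizedModule.mkLinearMap p.primeCompl E0)
      (LocalizedModule.mkLinearMap p.primeCompl E1) (Localization.AtPrime p) u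
  let ιp : LocalizedModule p.primeCompl (LinearMap.ker u) →ₗ[Localization.AtPrime p]
      LocalizedModule p.primeCompl E0 :=
    IsLocalizedModule.mapExtendScalars p.primeCompl
      (LocalizedModule.mkLinearMap p.primeCompl (LinearMap.ker u))
      (LocalizedModule.mkLinearMap p.primeCompl E0) (Localization.AtPrime p) (LinearMap.ker u).subtype
  have hinj : Function.Injective ιp :=
    IsLocalizedModule.map_injective p.primeCompl
      (LocalizedModule.mkLinearMap p.primeCompl (LinearMap.ker u))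
      (LocalizedModule.mkLinearMap p.primeCompl E0) (LinearMap.ker u).subtype
      (Submodule.subtype_injective _)
  have hex : Function.Exact ιp up :=
    IsLocalizedModule.map_exact p.primeCompl
      (LocalizedModule.mkLinearMap p.primeCompl (LinearMap.ker u))
      (LocalizedModule.mkLinearMap p.primeCompl E0) (LocalizedModule.mkLinearMap p.primeCompl E1)
      (LinearMap.ker u).subtype u (LinearMap.exact_subtype_ker_map u)
  have hrange : LinearMap.range ιp = LinearMap.ker up := (LinearMap.exact_iff.mp hex).symm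
  let e : LocalizedModule p.primeCompl (LinearMap.ker u) ≃ₗ[Localization.AtPrime p]
      LinearMap.ker up :=
    (LinearEquiv.ofInjective ιp hinj).trans (LinearEquiv.ofEq _ _ hrange)
  have hdepth : LocCoh.depth (Localization.AtPrime p)
      (LocalizedModule p.primeCompl (LinearMap.ker u)) =
      LocCoh.depth (Localization.AtPrime p) (LinearMap.ker up) :=
    Groth.Agent.H29.idealDepth_congr _ e
  have hres := Groth.Agent.S18700.result (Localization.AtPrime p)
    (IsLocalRing.maximalIdeal (Localization.AtPrime p)) (LocalizedModule p.primeCompl E0)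
    (LocalizedModule p.primeCompl E1) up
  refine ⟨Module.supportDim_le_of_injective ιp hinj, ?_, ?_⟩
  · intro h
    rw [hdepth]
    exact hres.1 h
  · intro h h'
    rw [hdepth]
    exact hres.2 h h'

end Aux18701


/-- Affine form. Let A be a Noetherian ring and G the kernel of a linear map u : E⁰ → E¹ of finite
A-modules. If E⁰ has (S_1) then G has (S_1). If Supp G ⊆ Supp E¹, E¹ has (S_1) and E⁰ has (S_2),
then G has (S_2). -/
theorem result (A : Type u) [CommRing A] [IsNoetherianRing A]
    (E0 E1 : Type u) [AddCommGroup E0] [Module A E0] [Module.Finite A E0] [AddCommGroup E1] [Module A E1]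
    [Module.Finite A E1] (u : E0 →ₗ[A] E1) :
    (LocCoh.HasSk 1 A E0 → LocCoh.HasSk 1 A (LinearMap.ker u)) ∧
    (Module.support A (LinearMap.ker u) ⊆ Module.support A E1 → LocCoh.HasSk 1 A E1 → LocCoh.HasSk 2 A E0 →
      LocCoh.HasSk 2 A (LinearMap.ker u)) := by
  refine ⟨fun h0 => ?_, fun hsub h1 h0 => ?_⟩
  · intro p _
    obtain ⟨hσ, hd1, -⟩ := main18701 E0 E1 u p
    exact sk_aux1 _ _ _ _ hσ (h0 p) hd1
  · intro p _
    obtain ⟨hσ, hd1, hd2⟩ := main18701 E0 E1 u p
    have hσ1 : Module.supportDim (Localization.AtPrime p)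
        (LocalizedModule p.primeCompl (LinearMap.ker u)) ≤
        Module.supportDim (Localization.AtPrime p) (LocalizedModule p.primeCompl E1) :=
      Order.krullDim_le_of_strictMono
        (fun a => ⟨a.1, support_loc_subset p hsub a.2⟩) (fun {_ _} lt => lt)
    exact sk_aux2 _ _ _ _ _ _ hσ hσ1 (h0 p) (h1 p) hd1 hd2

end Groth.Agent.S18701
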