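import Groth.Statements.S18724
import Groth.Agent.H29.DepthMore

set_option autoImplicit false
universe u
open QGor

namespace Groth.Agent.S18724

/-- Affine form. Let A be a Noetherian ring, M a finite A-module and I an ideal. Then depth_I M ≤
codim(V(I) ∩ Supp M, Supp M): for every prime p ⊇ I in the support of M, depth_I M ≤ dim Supp(M_p). -/
theorem result (A : Type u) [CommRing A] [IsNoetherianRing A]
    (M : Type u) [AddCommGroup M] [Module A M] [Module.Finite A M] (I : Ideal A)
    (p : PrimeSpectrum A) (hIp : I ≤ p.asIdeal) (hp : p ∈ Module.support A M) :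
    ((LocCoh.idealDepth I M : ℕ∞) : WithBot ℕ∞) ≤
      Module.supportDim (Localization.AtPrime p.asIdeal) (LocalizedModule p.asIdeal.primeCompl M) := by
  have hIM : I • (⊤ : Submodule A M) ≠ ⊤ := by
    intro h
    have hp' : p ∈ Module.support A (M ⧸ I • (⊤ : Submodule A M)) := by
      rw [Module.support_quotient]
      exact ⟨hp, (PrimeSpectrum.mem_zeroLocus p _).mpr (SetLike.coe_subset_coe.mpr hIp)⟩
    haveI : Subsingleton (M ⧸ I • (⊤ : Submodule A M)) :=
      Submodule.Quotient.subsingleton_iff.mpr h
    rw [Module.support_eq_empty] at hp'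
    exact hp'
  haveI : Nontrivial (LocalizedModule p.asIdeal.primeCompl M) := Module.mem_support_iff.mp hp
  refine Groth.Agent.H29.withBot_coe_le_of_forall_natCast (fun n hn => ?_)
  obtain ⟨rs, hlen, hreg, hmem⟩ := (Groth.Agent.H29.le_idealDepth_iff I M hIM n).mp hn
  have h1 := Groth.Agent.H29.le_depth_localizedModule A M p hp rs (fun x hx => hIp (hmem x hx)) hreg
  have h2 := Groth.Agent.H29.depth_le_supportDim (Localization.AtPrime p.asIdeal)
    (LocalizedModule p.asIdeal.primeCompl M)
  rw [hlen] at h1
  calc (n : WithBot ℕ∞) = ((n : ℕ∞) : WithBot ℕ∞) := (WithBot.coe_natCast n).symm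
    _ ≤ _ := WithBot.coe_le_coe.mpr h1
    _ ≤ _ := h2

end Groth.Agent.S18724
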