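import Groth.Statements.S18704
import Mathlib
import Groth.Agent.H27.ReflLoc
import Groth.Agent.S18699
import Groth.Agent.S18724

set_option autoImplicit false
universe u
open QGor

namespace Groth.Agent.S18704

/-- Affine form. Let A be a Noetherian ring with Serre's condition (S_2), I an ideal with ht I ≥ 2
(every prime containing I has height ≥ 2), and G a finite A-module with G_p reflexive for every
prime p not containing I. Then the following are equivalent: (i) G has (S_2) and dim Supp(G_p) ≥ 2
for every prime p ⊇ I in Supp G; (ii) depth_I G ≥ 2; (iii) G is reflexive. -/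
theorem result (A : Type u) [CommRing A] [IsNoetherianRing A]
    (hA : LocCoh.HasSk 2 A A) (I : Ideal A) (hI : 2 ≤ I.height)
    (G : Type u) [AddCommGroup G] [Module A G] [Module.Finite A G]
    (hU : ∀ p : PrimeSpectrum A, ¬ I ≤ p.asIdeal →
      Module.IsReflexive (Localization.AtPrime p.asIdeal) (LocalizedModule p.asIdeal.primeCompl G)) :
    ((LocCoh.HasSk 2 A G ∧ ∀ p : PrimeSpectrum A, I ≤ p.asIdeal → p ∈ Module.support A G →
        (2 : WithBot ℕ∞) ≤ Module.supportDim (Localization.AtPrime p.asIdeal) (LocalizedModule p.asIdeal.primeCompl G)) ↔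
      2 ≤ LocCoh.idealDepth I G) ∧
    (2 ≤ LocCoh.idealDepth I G ↔ Module.IsReflexive A G) := by
  have h2A : ((2 : ℕ) : ℕ∞) ≤ LocCoh.idealDepth I A := by
    refine Groth.Agent.S18699.result 2 A A I hA ?_
    intro p hIp _
    let e0 : LocalizedModule p.asIdeal.primeCompl A ≃ₗ[A] Localization.AtPrime p.asIdeal :=
      IsLocalizedModule.linearEquiv p.asIdeal.primeCompl
        (LocalizedModule.mkLinearMap p.asIdeal.primeCompl A)
        (Algebra.linearMap A (Localization.AtPrime p.asIdeal))
    let e : LocalizedModule p.asIdeal.primeCompl A ≃ₗ[Localization.AtPrime p.asIdeal]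
        Localization.AtPrime p.asIdeal :=
      e0.extendScalarsOfIsLocalization p.asIdeal.primeCompl (Localization.AtPrime p.asIdeal)
    rw [Module.supportDim_eq_of_equiv e, Module.supportDim_self_eq_ringKrullDim,
      IsLocalization.AtPrime.ringKrullDim_eq_height p.asIdeal (Localization.AtPrime p.asIdeal)]
    have h1 : (2 : ℕ∞) ≤ p.asIdeal.height := hI.trans (Ideal.height_mono hIp)
    exact WithBot.coe_le_coe.mpr h1
  have h1A : 1 ≤ LocCoh.idealDepth I A := le_trans (by norm_num) h2A
  have h23 : 2 ≤ LocCoh.idealDepth I G → Module.IsReflexive A G := fun h =>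
    Groth.Agent.S18703.result A I h1A G hU h
  have h32 : Module.IsReflexive A G → 2 ≤ LocCoh.idealDepth I G := fun h => by
    haveI := h
    exact_mod_cast Groth.Agent.H27.ReflLoc.le_idealDepth_of_isReflexive I G 2 (Or.inr rfl) h2A
  refine ⟨⟨fun h => ?_, fun h => ⟨?_, ?_⟩⟩, ⟨h23, h32⟩⟩
  · exact_mod_cast Groth.Agent.S18699.result 2 A G I h.1 (by exact_mod_cast h.2)
  · haveI := h23 h
    exact Groth.Agent.H27.ReflLoc.hasSk_of_isReflexive 2 (Or.inr rfl) hA
  · intro p hIp hp
    have h3 := Groth.Agent.S18724.result A G I p hIp hp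
    refine le_trans ?_ h3
    exact WithBot.coe_le_coe.mpr h

end Groth.Agent.S18704
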