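import Groth.Statements.S18732
import Mathlib
import Groth.Agent.Lib.Helper4.CartierDense

set_option autoImplicit false
universe u
open CategoryTheory CategoryTheory.Limits AlgebraicGeometry TopologicalSpace
open ModPair

namespace Groth.Agent.S18732

/-- Let X be a scheme, I the quasi-coherent ideal sheaf of an effective Cartier divisor on X with open
complement U, and f : X' ⟶ X a morphism of schemes for which the open immersion of f⁻¹(U) into X'
has all of X' as its scheme-theoretic image. Then f⁻¹(U) is scheme-theoretically dense in X' (for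
every open W of X' the inclusion of f⁻¹(U) ∩ W into W is scheme-theoretically dominant), and the
closed subscheme of X' pulled back from the divisor of I is an effective Cartier divisor: I.comap f
is the ideal sheaf of an effective Cartier divisor. -/
theorem result {X X' : Scheme.{u}}
    (I : X.IdealSheafData) (hI : BlowUp.IsEffCartierIdeal I) (f : X' ⟶ X)
    [IsSchemeTheoreticallyDominant (f ⁻¹ᵁ ModPair.interior I).ι] :
    (∀ W : X'.Opens, IsSchemeTheoreticallyDominant
        (X'.homOfLE (inf_le_right : f ⁻¹ᵁ ModPair.interior I ⊓ W ≤ W))) ∧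
      BlowUp.IsEffCartierIdeal (I.comap f) := by
  have hVeq : f ⁻¹ᵁ ModPair.interior I = f ⁻¹ᵁ I.support.compl := rfl
  have hloc : ∀ x : X', ∃ U : X'.affineOpens, x ∈ U.1 ∧ ∃ g : Γ(X', U.1),
      U.1 ⊓ f ⁻¹ᵁ ModPair.interior I = X'.basicOpen g := by
    intro x'
    obtain ⟨V, hxV, g, hg, hgI⟩ := hI (f x')
    obtain ⟨_, ⟨W, hW, rfl⟩, hxW, hWV⟩ :=
      X'.isBasis_affineOpens.exists_subset_of_mem_open (show x' ∈ (f ⁻¹ᵁ V.1 : Set X') from hxV)
        (f ⁻¹ᵁ V.1).isOpen
    have hspan : (I.comap f).ideal ⟨W, hW⟩ = Ideal.span {(f.appLE V.1 W hWV).hom g} := by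
      rw [Groth.Agent.Helper4.EffCartierPull.ideal_comap_appLE f I ⟨W, hW⟩ V hWV, hgI,
        Ideal.map_span, Set.image_singleton]
    refine ⟨⟨W, hW⟩, hxW, (f.appLE V.1 W hWV).hom g, ?_⟩
    rw [← Groth.Agent.Helper4.CartierDense.inf_compl_eq_basicOpen (I.comap f) ⟨W, hW⟩ _ hspan]
    ext y
    constructor
    · rintro ⟨hyW, hy⟩
      refine ⟨hyW, ?_⟩
      intro hcon
      have hcon' : y ∈ (I.comap f).support := hcon
      rw [Scheme.IdealSheafData.support_comap] at hcon'
      exact hy hcon'
    · rintro ⟨hyW, hy⟩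
      refine ⟨hyW, ?_⟩
      intro hcon
      apply hy
      show y ∈ (I.comap f).support
      rw [Scheme.IdealSheafData.support_comap]
      exact hcon
  have haff : IsAffineHom (f ⁻¹ᵁ ModPair.interior I).ι :=
    Groth.Agent.Helper4.CartierDense.isAffineHom_ι_of_locally_basicOpen _ hloc
  have : QuasiCompact (f ⁻¹ᵁ ModPair.interior I).ι := inferInstance
  refine ⟨fun W => Groth.Agent.Helper4.CartierDense.dominant_homOfLE _ W, ?_⟩
  have : QuasiCompact (f ⁻¹ᵁ I.support.compl).ι := this
  have : IsSchemeTheoreticallyDominant (f ⁻¹ᵁ I.support.compl).ι :=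
    ‹IsSchemeTheoreticallyDominant (f ⁻¹ᵁ ModPair.interior I).ι›
  exact Groth.Agent.Helper4.CartierDense.isEffCartier_comap_of_dominant I hI f

end Groth.Agent.S18732
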