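import Groth.Statements.S18741
import Mathlib.CategoryTheory.Localization.CalculusOfFractions
import Mathlib.CategoryTheory.Comma.Over.Basic
import Mathlib.Tactic

set_option autoImplicit false
universe v₁ v₂ v₃ u₁ u₂ u₃
open CategoryTheory
open ModPair

namespace Groth.Agent.S18741


instance hasRCF {C : Type u₁} [Category.{v₁} C] {W : MorphismProperty C}
    [W.HasRightCalculusOfFractions] {S : C} :
    (W.inverseImage (Over.forget S)).HasRightCalculusOfFractions where
  exists_rightFraction := by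
    intro a b φ
    obtain ⟨ψ, hψ⟩ := MorphismProperty.HasRightCalculusOfFractions.exists_rightFraction
      (MorphismProperty.LeftFraction.mk φ.f.left φ.s.left φ.hs : W.LeftFraction a.left b.left)
    have hψ' : ψ.s ≫ φ.f.left = ψ.f ≫ φ.s.left := hψ
    have h1 : φ.s.left ≫ φ.Y'.hom = b.hom := Over.w φ.s
    have h2 : φ.f.left ≫ φ.Y'.hom = a.hom := Over.w φ.f
    have h3 : ψ.f ≫ b.hom = ψ.s ≫ a.hom := by
      rw [← h1, ← h2, ← Category.assoc, ← Category.assoc, hψ']
    refine ⟨MorphismProperty.RightFraction.mk (X' := Over.mk (ψ.s ≫ a.hom))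
      (Over.homMk ψ.s rfl) ψ.hs (Over.homMk ψ.f h3), ?_⟩
    apply Over.OverMorphism.ext
    exact hψ'
  ext := by
    intro a b b' f₁ f₂ s hs h
    obtain ⟨X', t, ht, ht'⟩ := MorphismProperty.HasRightCalculusOfFractions.ext (W := W)
      f₁.left f₂.left s.left hs (congrArg CommaMorphism.left h)
    exact ⟨Over.mk (t ≫ a.hom), Over.homMk t rfl, ht, Over.OverMorphism.ext ht'⟩

theorem lemA {C : Type u₁} [Category.{v₁} C] {S : C} {D : Type u₂} [Category.{v₂} D] {L : C ⥤ D}
    {E : Type u₃} [Category.{v₃} E] {L' : Over S ⥤ E}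
    {Φ : E ⥤ Over (L.obj S)} (e : L' ⋙ Φ ≅ Over.post L) {a b : Over S} (k : a ⟶ b) :
    Φ.map (L'.map k) = e.hom.app a ≫ (Over.post L).map k ≫ e.inv.app b := by
  calc Φ.map (L'.map k) = (L' ⋙ Φ).map k ≫ e.hom.app b ≫ e.inv.app b := by simp
    _ = (e.hom.app a ≫ (Over.post L).map k) ≫ e.inv.app b := by
        rw [← Category.assoc, e.hom.naturality k]
    _ = _ := Category.assoc _ _ _

theorem lemA' {C : Type u₁} [Category.{v₁} C] {S : C} {D : Type u₂} [Category.{v₂} D] {L : C ⥤ D}
    {E : Type u₃} [Category.{v₃} E] {L' : Over S ⥤ E}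
    {Φ : E ⥤ Over (L.obj S)} (e : L' ⋙ Φ ≅ Over.post L) {a b : Over S} (k : a ⟶ b) :
    (Over.post L).map k = e.inv.app a ≫ Φ.map (L'.map k) ≫ e.hom.app b := by
  rw [lemA e]; simp

theorem lemB {C : Type u₁} [Category.{v₁} C] (W : MorphismProperty C)
    [W.HasRightCalculusOfFractions] {S : C} {D : Type u₂} [Category.{v₂} D] {L : C ⥤ D}
    [L.IsLocalization W] {E : Type u₃} [Category.{v₃} E] {L' : Over S ⥤ E}
    [L'.IsLocalization (W.inverseImage (Over.forget S))]
    {Φ : E ⥤ Over (L.obj S)} (e : L' ⋙ Φ ≅ Over.post L)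
    {a b : Over S} (φ : (W.inverseImage (Over.forget S)).RightFraction a b) :
    (e.inv.app a ≫ Φ.map (φ.map L' (Localization.inverts _ _)) ≫ e.hom.app b).left =
      (MorphismProperty.RightFraction.mk φ.s.left φ.hs φ.f.left :
        W.RightFraction a.left b.left).map L (Localization.inverts L W) := by
  have h1 : L'.map φ.s ≫ φ.map L' (Localization.inverts _ _) = L'.map φ.f :=
    φ.map_s_comp_map L' _
  have h2 : (Over.post L).map φ.s ≫
      (e.inv.app a ≫ Φ.map (φ.map L' (Localization.inverts _ _)) ≫ e.hom.app b) =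
      (Over.post L).map φ.f := by
    rw [lemA' e φ.s, lemA' e φ.f]
    simp only [Category.assoc, Iso.hom_inv_id_app_assoc]
    rw [← Φ.map_comp_assoc, h1]
  have h3 : L.map φ.s.left ≫
      (e.inv.app a ≫ Φ.map (φ.map L' (Localization.inverts _ _)) ≫ e.hom.app b).left =
      L.map φ.f.left := congrArg CommaMorphism.left h2
  haveI : IsIso (L.map φ.s.left) := Localization.inverts L W _ φ.hs
  apply (cancel_epi (L.map φ.s.left)).mp
  exact h3.trans (MorphismProperty.RightFraction.map_s_comp_map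
    (MorphismProperty.RightFraction.mk φ.s.left φ.hs φ.f.left : W.RightFraction a.left b.left)
    L (Localization.inverts L W)).symm

theorem faithful_core {C : Type u₁} [Category.{v₁} C] (W : MorphismProperty C)
    [W.HasRightCalculusOfFractions] {S : C} {D : Type u₂} [Category.{v₂} D] {L : C ⥤ D}
    [L.IsLocalization W] {E : Type u₃} [Category.{v₃} E] {L' : Over S ⥤ E}
    [L'.IsLocalization (W.inverseImage (Over.forget S))]
    {Φ : E ⥤ Over (L.obj S)} (e : L' ⋙ Φ ≅ Over.post L)
    (a b : Over S) (f g : L'.obj a ⟶ L'.obj b) (h : Φ.map f = Φ.map g) :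
    f = g := by
  obtain ⟨φ, rfl⟩ := Localization.exists_rightFraction L' (W.inverseImage (Over.forget S)) f
  obtain ⟨ψ, rfl⟩ := Localization.exists_rightFraction L' (W.inverseImage (Over.forget S)) g
  refine (MorphismProperty.RightFraction.map_eq_iff L' _ φ ψ).mpr ?_
  have key : (MorphismProperty.RightFraction.mk φ.s.left φ.hs φ.f.left :
        W.RightFraction a.left b.left).map L (Localization.inverts L W) =
      (MorphismProperty.RightFraction.mk ψ.s.left ψ.hs ψ.f.left :
        W.RightFraction a.left b.left).map L (Localization.inverts L W) := by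
    rw [← lemB W e φ, ← lemB W e ψ, h]
  obtain ⟨Z, t₁, t₂, hst, hft, ht⟩ := (MorphismProperty.RightFraction.map_eq_iff L W _ _).mp key
  have hst' : t₁ ≫ φ.s.left = t₂ ≫ ψ.s.left := hst
  have hft' : t₁ ≫ φ.f.left = t₂ ≫ ψ.f.left := hft
  have hw : t₂ ≫ ψ.X'.hom = t₁ ≫ φ.X'.hom := by
    rw [← Over.w ψ.s, ← Over.w φ.s, ← Category.assoc, ← Category.assoc, hst']
  exact ⟨Over.mk (t₁ ≫ φ.X'.hom), Over.homMk t₁ rfl, Over.homMk t₂ hw,
    Over.OverMorphism.ext hst', Over.OverMorphism.ext hft', ht⟩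

theorem full_core {C : Type u₁} [Category.{v₁} C] (W : MorphismProperty C)
    [W.HasRightCalculusOfFractions] {S : C} {D : Type u₂} [Category.{v₂} D] {L : C ⥤ D}
    [L.IsLocalization W] {E : Type u₃} [Category.{v₃} E] {L' : Over S ⥤ E}
    [L'.IsLocalization (W.inverseImage (Over.forget S))]
    {Φ : E ⥤ Over (L.obj S)} (e : L' ⋙ Φ ≅ Over.post L)
    (a b : Over S) (hl : L.obj a.left ⟶ L.obj b.left) (hw : hl ≫ L.map b.hom = L.map a.hom) :
    ∃ f' : L'.obj a ⟶ L'.obj b, Φ.map f' = e.hom.app a ≫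
      (Over.homMk (U := (Over.post L).obj a) (V := (Over.post L).obj b) hl hw) ≫ e.inv.app b := by
  obtain ⟨φ₀, hφ₀⟩ := Localization.exists_rightFraction L W hl
  have h1 : L.map (φ₀.f ≫ b.hom) = L.map (φ₀.s ≫ a.hom) := by
    calc L.map (φ₀.f ≫ b.hom) = L.map φ₀.f ≫ L.map b.hom := L.map_comp _ _
      _ = (L.map φ₀.s ≫ φ₀.map L (Localization.inverts L W)) ≫ L.map b.hom := by
          rw [MorphismProperty.RightFraction.map_s_comp_map]
      _ = L.map φ₀.s ≫ (hl ≫ L.map b.hom) := by rw [Category.assoc, ← hφ₀]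
      _ = L.map φ₀.s ≫ L.map a.hom := by rw [hw]
      _ = L.map (φ₀.s ≫ a.hom) := (L.map_comp _ _).symm
  obtain ⟨X'', t, ht, htt⟩ := (MorphismProperty.map_eq_iff_precomp L W _ _).mp h1
  have hs1 : (t ≫ φ₀.s) ≫ a.hom = t ≫ φ₀.s ≫ a.hom := Category.assoc _ _ _
  have hs2 : (t ≫ φ₀.f) ≫ b.hom = t ≫ φ₀.s ≫ a.hom := by rw [Category.assoc]; exact htt
  let s' : Over.mk (t ≫ φ₀.s ≫ a.hom) ⟶ a := Over.homMk (t ≫ φ₀.s) hs1
  let f'' : Over.mk (t ≫ φ₀.s ≫ a.hom) ⟶ b := Over.homMk (t ≫ φ₀.f) hs2
  have hs' : (W.inverseImage (Over.forget S)) s' := W.comp_mem _ _ ht φ₀.hs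
  let φ : (W.inverseImage (Over.forget S)).RightFraction a b := ⟨s', hs', f''⟩
  refine ⟨φ.map L' (Localization.inverts _ _), ?_⟩
  haveI : IsIso (L'.map s') := Localization.inverts L' _ _ hs'
  have h2 : L'.map s' ≫ φ.map L' (Localization.inverts _ _) = L'.map f'' :=
    φ.map_s_comp_map L' _
  have h5 : (Over.post L).map f'' = (Over.post L).map s' ≫
      (Over.homMk (U := (Over.post L).obj a) (V := (Over.post L).obj b) hl hw) := by
    apply Over.OverMorphism.ext
    show L.map (t ≫ φ₀.f) = L.map (t ≫ φ₀.s) ≫ hl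
    rw [hφ₀, L.map_comp, L.map_comp, Category.assoc,
      MorphismProperty.RightFraction.map_s_comp_map]
  rw [← cancel_epi (Φ.map (L'.map s')), ← Φ.map_comp, h2, lemA e f'', lemA e s', h5]
  simp only [Category.assoc, Iso.inv_hom_id_app_assoc]

theorem essSurj_core {C : Type u₁} [Category.{v₁} C] (W : MorphismProperty C)
    [W.HasRightCalculusOfFractions] {S : C} {D : Type u₂} [Category.{v₂} D] {L : C ⥤ D}
    [L.IsLocalization W] {E : Type u₃} [Category.{v₃} E] {L' : Over S ⥤ E}
    {Φ : E ⥤ Over (L.obj S)} (e : L' ⋙ Φ ≅ Over.post L)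
    (z : Over (L.obj S)) : ∃ x : E, Nonempty (Φ.obj x ≅ z) := by
  haveI := Localization.essSurj L W
  obtain ⟨φ₀, hφ₀⟩ := Localization.exists_rightFraction L W
    ((L.objObjPreimageIso z.left).hom ≫ z.hom)
  haveI : IsIso (L.map φ₀.s) := Localization.inverts L W _ φ₀.hs
  let i0 : L.obj φ₀.X' ≅ z.left := asIso (L.map φ₀.s) ≪≫ L.objObjPreimageIso z.left
  have hcomp : i0.hom ≫ z.hom = ((Over.post L).obj (Over.mk φ₀.f)).hom := by
    show (L.map φ₀.s ≫ (L.objObjPreimageIso z.left).hom) ≫ z.hom = L.map φ₀.f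
    rw [Category.assoc, hφ₀, MorphismProperty.RightFraction.map_s_comp_map]
  exact ⟨L'.obj (Over.mk φ₀.f), ⟨e.app (Over.mk φ₀.f) ≪≫
    Over.isoMk (f := (Over.post L).obj (Over.mk φ₀.f)) (g := z) i0 hcomp⟩⟩



/-- Let C be a category, W a class of morphisms of C admitting a calculus of right fractions, and S an
object of C; let W_S be the class of morphisms of the slice category over S whose underlying
morphism lies in W. Then the canonical functor from the localization of the slice category C/S at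
W_S to the slice category over S of the localization of C at W is an equivalence: for every
localization functor L : C ⥤ D at W, every localization functor L' : C/S ⥤ E at W_S, and every
functor Φ : E ⥤ D/L(S) through which the functor C/S ⥤ D/L(S) induced by L factors up to
isomorphism, Φ is an equivalence of categories. -/
theorem result {C : Type u₁}
    [Category.{v₁} C] (W : MorphismProperty C) [W.HasRightCalculusOfFractions] (S : C)
    {D : Type u₂} [Category.{v₂} D] (L : C ⥤ D) [L.IsLocalization W]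
    {E : Type u₃} [Category.{v₃} E] (L' : Over S ⥤ E)
    [L'.IsLocalization (W.inverseImage (Over.forget S))]
    (Φ : E ⥤ Over (L.obj S)) (e : L' ⋙ Φ ≅ Over.post L) : Φ.IsEquivalence := by
  haveI : L'.EssSurj := Localization.essSurj L' (W.inverseImage (Over.forget S))
  refine { faithful := ⟨?_⟩, full := ⟨?_⟩, essSurj := ⟨?_⟩ }
  · intro x y f g h
    have h3 : Φ.map ((L'.objObjPreimageIso x).hom ≫ f ≫ (L'.objObjPreimageIso y).inv) =
        Φ.map ((L'.objObjPreimageIso x).hom ≫ g ≫ (L'.objObjPreimageIso y).inv) := by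
      simp only [Functor.map_comp, h]
    have := faithful_core W e _ _ _ _ h3
    simpa using this
  · intro x y h
    let h' : (Over.post L).obj (L'.objPreimage x) ⟶ (Over.post L).obj (L'.objPreimage y) :=
      e.inv.app _ ≫ Φ.map (L'.objObjPreimageIso x).hom ≫ h ≫
        Φ.map (L'.objObjPreimageIso y).inv ≫ e.hom.app _
    obtain ⟨f', hf'⟩ := full_core W e (L'.objPreimage x) (L'.objPreimage y) h'.left (Over.w h')
    have hh : Over.homMk (U := (Over.post L).obj (L'.objPreimage x))
        (V := (Over.post L).obj (L'.objPreimage y)) h'.left (Over.w h') = h' :=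
      Over.OverMorphism.ext rfl
    rw [hh] at hf'
    refine ⟨(L'.objObjPreimageIso x).inv ≫ f' ≫ (L'.objObjPreimageIso y).hom, ?_⟩
    rw [Φ.map_comp, Φ.map_comp, hf']
    simp [h']
  · intro z
    exact essSurj_core W e z

end Groth.Agent.S18741
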