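import Groth.Statements.S18743
import Mathlib
import Groth.Agent.Lib.Helper4.CartierDense
import Groth.Agent.Lib.Helper4.BlowupFormal

set_option autoImplicit false
universe u
open CategoryTheory CategoryTheory.Limits AlgebraicGeometry TopologicalSpace
open ModPair

namespace Groth.Agent.S18743

/-- Let (S, I_S), (T, I_T), (X, I_X) be schemes equipped with quasi-coherent ideal sheaves of effective
Cartier divisors, p : X ⟶ S a morphism with the modulus condition I_X ≤ I_S.comap p, and f : T ⟶ S a
minimal morphism (I_T = I_S.comap f) which is flat. Then the ambient product of (T, I_T) and (X,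
I_X) over (S, I_S) has total space all of X ×_S T with modulus pulled back from X: the open
pr₁⁻¹(X°) ∩ pr₂⁻¹(T°) (X°, T° the complements of the supports) is scheme-theoretically dominant in X
×_S T, the closed immersion of its scheme-theoretic image is an isomorphism, and I_X.comap pr₁ is
the ideal sheaf of an effective Cartier divisor. -/
theorem result {S T X : Scheme.{u}} (IS : S.IdealSheafData)
    (IT : T.IdealSheafData) (IX : X.IdealSheafData) (hS : BlowUp.IsEffCartierIdeal IS)
    (hT : BlowUp.IsEffCartierIdeal IT) (hX : BlowUp.IsEffCartierIdeal IX)
    (p : X ⟶ S) (hp : ModPair.IsAmbient IX IS p) (f : T ⟶ S) (hf : ModPair.IsMinimal IT IS f) [Flat f] :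
    IsSchemeTheoreticallyDominant (ModPair.prodInterior p f IX IT).ι ∧
      IsIso (ModPair.mprodι p f IX IT) ∧
      BlowUp.IsEffCartierIdeal (IX.comap (pullback.fst p f)) := by
  have hEff : BlowUp.IsEffCartierIdeal (IX.comap (pullback.fst p f)) :=
    Groth.Agent.Helper4.BlowupFormal.isEffCartier_comap_of_flat (pullback.fst p f) IX hX
  have hV : ModPair.prodInterior p f IX IT = (IX.comap (pullback.fst p f)).support.compl := by
    ext y
    constructor
    · rintro ⟨h1, -⟩
      intro hcon
      have hcon' : y ∈ (IX.comap (pullback.fst p f)).support := hcon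
      rw [Scheme.IdealSheafData.support_comap] at hcon'
      exact h1 hcon'
    · intro hy
      have h1 : (pullback.fst p f) y ∉ IX.support := by
        intro hcon
        apply hy
        show y ∈ (IX.comap (pullback.fst p f)).support
        rw [Scheme.IdealSheafData.support_comap]
        exact hcon
      refine ⟨h1, ?_⟩
      intro hcon
      apply h1
      have h2 : (pullback.snd p f) y ∈ IT.support := hcon
      rw [hf, Scheme.IdealSheafData.support_comap] at h2
      have h3 : f ((pullback.snd p f) y) ∈ IS.support := h2
      have h4 : f ((pullback.snd p f) y) = p ((pullback.fst p f) y) := by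
        rw [← Scheme.Hom.comp_apply, ← Scheme.Hom.comp_apply, pullback.condition]
      rw [h4] at h3
      have h5 : (pullback.fst p f) y ∈ (IS.comap p).support := by
        rw [Scheme.IdealSheafData.support_comap]; exact h3
      exact Scheme.IdealSheafData.support_antitone hp h5
  have hdom : IsSchemeTheoreticallyDominant (ModPair.prodInterior p f IX IT).ι := by
    rw [hV]
    exact Groth.Agent.Helper4.CartierDense.isSchemeTheoreticallyDominant_compl _ hEff
  refine ⟨hdom, ?_, hEff⟩
  exact (Scheme.isIso_subschemeι_iff_eq_bot _).mpr hdom.ker_eq_bot

end Groth.Agent.S18743
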