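import Groth.Statements.S1876
import Groth.Agent.H23.AltTrace

set_option autoImplicit false
universe u
open CategoryTheory
attribute [local instance] HasDerivedCategory.standard
open Trace

namespace Groth.Agent.S1876

/-- Commutative coefficient ring, finite free terms: let P and Q be bounded complexes of finite free
Λ-modules with chain endomorphisms f and g, and α : P ≅ Q an isomorphism in the derived category
D(Λ) with α ∘ f = g ∘ α there. Then Σ_i (−1)^i Tr(f^i | P^i) = Σ_i (−1)^i Tr(g^i | Q^i); that is,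
the trace of an endomorphism of a perfect object of D(Λ) is well defined. -/
theorem result (Λ : Type u) [CommRing Λ] (P Q : DRing.Cx Λ) (a b : ℤ) (hP : DRing.VanishesOutside P a b) (hQ : DRing.VanishesOutside Q a b) (hPf : DRing.TermwiseFiniteFree P) (hQf : DRing.TermwiseFiniteFree Q) (f : P ⟶ P) (g : Q ⟶ Q) (α : DRing.toD P ≅ DRing.toD Q) (h : α.hom ≫ DerivedCategory.Q.map g = DerivedCategory.Q.map f ≫ α.hom) : ∑ i ∈ Finset.Icc a b, ((i.negOnePow : ℤˣ) : ℤ) • LinearMap.trace Λ (P.X i) (f.f i).hom = ∑ i ∈ Finset.Icc a b, ((i.negOnePow : ℤˣ) : ℤ) • LinearMap.trace Λ (Q.X i) (g.f i).hom := by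
  have hP' : Groth.Agent.H23.AltTrace.FF P a b := ⟨hP, fun i => (hPf i).1, fun i => (hPf i).2⟩
  have hQ' : Groth.Agent.H23.AltTrace.FF Q a b := ⟨hQ, fun i => (hQf i).1, fun i => (hQf i).2⟩
  have key := Groth.Agent.H23.AltTrace.altTr_eq hP' hQ' f g α h
  rw [Groth.Agent.H23.AltTrace.altTr_eq_sum hP' f, Groth.Agent.H23.AltTrace.altTr_eq_sum hQ' g] at key
  exact key

end Groth.Agent.S1876
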