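import Groth.Statements.S18763
import Groth.Agent.H28.FpqcCov
import Groth.Agent.H28.ActShear

set_option autoImplicit false
universe u
open CategoryTheory CategoryTheory.Limits MonoidalCategory CartesianMonoidalCategory MonObj GrpObj AlgebraicGeometry
open AlgGrp

namespace Groth.Agent.S18763

theorem cov_of_locallyTrivial_fppf {X Y : Scheme.{u}} (p : X ⟶ Y)
    (h : NonAbH1.IsLocallyTrivialFor Scheme.fppfPrecoverage (Over.mk p)) :
    Groth.Agent.H28.FpqcCov.Cov p := by
  obtain ⟨R, hR, hsec⟩ := h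
  have h1 := Precoverage.generate_mem_toGrothendieck
    (Scheme.fppfPrecoverage_le_fpqcPrecoverage _ hR)
  refine Scheme.fpqcTopology.superset_covering ?_ h1
  intro T g hg
  obtain ⟨W, a, b, hb, rfl⟩ := hg
  obtain ⟨s, hs⟩ := hsec b hb
  exact ⟨_, a ≫ s, p, Presieve.singleton.mk, by
    rw [Category.assoc]; exact congrArg (a ≫ ·) hs⟩

/-- Let G be a finite group scheme over a field k and H a closed subgroup scheme of G, and let (Q, q₀)
with its G-action be the homogeneous space G/H for the fppf topology (the orbit map of q₀ is an fppf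
H-torsor onto Q). Let N be a closed subgroup scheme of G which is the kernel of the action of G on
Q: a point g of G with values in a k-scheme T factors through N exactly when g acts as the identity
on all points of Q with values in T-schemes. Then N (the core of H in G) is normal in G, is
contained in H, and contains every closed normal subgroup scheme of G which is contained in H. (The
published definition takes the core to be the kernel of the linear representation of G on the
coordinate ring of G/H; this is the same subgroup as the kernel of the action on G/H used here.) -/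
theorem result
    (k : Type u) [Field k]
    (G : Over (Spec (CommRingCat.of k))) [GrpObj G] [IsFinite G.hom]
    (H : Over (Spec (CommRingCat.of k))) [GrpObj H] (i : H ⟶ G) [IsMonHom i] [IsClosedImmersion i.left]
    (Q : Over (Spec (CommRingCat.of k))) (aQ : AlgGrp.Action G Q) (q₀ : 𝟙_ (Over (Spec (CommRingCat.of k))) ⟶ Q)
    (hQ : ChGrp.IsHomog Scheme.fppfPrecoverage i aQ q₀)
    (N : Over (Spec (CommRingCat.of k))) [GrpObj N] (n : N ⟶ G) [IsMonHom n] [IsClosedImmersion n.left]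
    (hN : ∀ (T : Over (Spec (CommRingCat.of k))) (g : T ⟶ G),
      (∃ g' : T ⟶ N, g' ≫ n = g) ↔
        ∀ (T' : Over (Spec (CommRingCat.of k))) (v : T' ⟶ T) (q : T' ⟶ Q), lift (v ≫ g) q ≫ aQ.act = q) :
    AlgGrp.IsNormalHom n ∧ (∃ m : N ⟶ H, m ≫ i = n) ∧
      ∀ (N' : Over (Spec (CommRingCat.of k))) [GrpObj N'] (n' : N' ⟶ G) [IsMonHom n'] [IsClosedImmersion n'.left],
        AlgGrp.IsNormalHom n' → (∃ m' : N' ⟶ H, m' ≫ i = n') → ∃ r : N' ⟶ N, r ≫ n = n' := by
  obtain ⟨hmon, hsq, hloc⟩ := hQ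
  have hcov : Groth.Agent.H28.FpqcCov.Cov (aQ.orbitMap q₀).left :=
    cov_of_locallyTrivial_fppf _ hloc
  have hπ : ∀ {T : Over (Spec (CommRingCat.of k))} (g : T ⟶ G),
      g ≫ aQ.orbitMap q₀ = lift g (toUnit T ≫ q₀) ≫ aQ.act := by
    intro T g
    unfold AlgGrp.Action.orbitMap
    rw [← Category.assoc]
    congr 1
    ext <;> simp
  have Q2 : ∀ {T : Over (Spec (CommRingCat.of k))} (g : T ⟶ G) (h : T ⟶ H),
      (g * (h ≫ i)) ≫ aQ.orbitMap q₀ = g ≫ aQ.orbitMap q₀ := by
    intro T g h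
    have h2 := congrArg (fun w => lift g h ≫ w) hsq.w
    beta_reduce at h2
    rw [← Category.assoc, lift_fst, ← Category.assoc, ← Category.assoc, lift_whiskerLeft,
      ← Hom.mul_def] at h2
    exact h2.symm
  have Q3 : ∀ {T : Over (Spec (CommRingCat.of k))} (g₁ g₂ : T ⟶ G),
      g₁ ≫ aQ.orbitMap q₀ = g₂ ≫ aQ.orbitMap q₀ → ∃ h : T ⟶ H, g₂ = g₁ * (h ≫ i) := by
    intro T g₁ g₂ hg
    refine ⟨hsq.lift g₁ g₂ hg ≫ snd G H, ?_⟩
    have h1 := hsq.lift_fst g₁ g₂ hg
    have h2 := hsq.lift_snd g₁ g₂ hg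
    generalize hsq.lift g₁ g₂ hg = w at h1 h2
    have h3 : lift (w ≫ fst G H) ((w ≫ snd G H) ≫ i) = w ≫ (G ◁ i) := by
      ext <;> simp
    rw [← h2, ← h1, Hom.mul_def, h3, Category.assoc]
  have hNid : ∀ {T : Over (Spec (CommRingCat.of k))} (m : T ⟶ N) (y : T ⟶ Q),
      lift (m ≫ n) y ≫ aQ.act = y := by
    intro T m y
    have := (hN T (m ≫ n)).mp ⟨m, rfl⟩ T (𝟙 T) y
    rwa [Category.id_comp] at this
  refine ⟨?_, ?_, ?_⟩
  · intro T g m
    suffices hsuff : ∃ m' : T ⟶ N, m' ≫ n = g * (m ≫ n) * g⁻¹ by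
      obtain ⟨m', hm'⟩ := hsuff
      exact ⟨m', hm'.symm⟩
    refine (hN T (g * (m ≫ n) * g⁻¹)).mpr ?_
    intro T' s x
    rw [MonObj.comp_mul, MonObj.comp_mul, GrpObj.comp_inv, ← Category.assoc,
      Groth.Agent.H28.ActShear.lift_mul_act, Groth.Agent.H28.ActShear.lift_mul_act, hNid,
      ← Groth.Agent.H28.ActShear.lift_mul_act, mul_inv_cancel,
      Groth.Agent.H28.ActShear.lift_one_act]
  · have h1 : (1 : N ⟶ G) ≫ aQ.orbitMap q₀ = n ≫ aQ.orbitMap q₀ := by
      rw [hπ, hπ, Groth.Agent.H28.ActShear.lift_one_act]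
      have := hNid (𝟙 N) (toUnit N ≫ q₀)
      rw [Category.id_comp] at this
      exact this.symm
    obtain ⟨h, hh⟩ := Q3 _ _ h1
    exact ⟨h, by rw [hh, _root_.one_mul]⟩
  · intro N' _ n' _ _ hN' hf
    obtain ⟨f, hf⟩ := hf
    refine (hN N' n').mpr ?_
    intro T' s x
    obtain ⟨T'', c, gm, hc, hcx⟩ := Groth.Agent.H28.FpqcCov.exists_lift (aQ.orbitMap q₀) hcov x
    rw [← cancel_epi c]
    obtain ⟨n'', hn''⟩ := hN' T'' gm⁻¹ (c ≫ s)
    rw [_root_.inv_inv] at hn''
    have h5 : (c ≫ s ≫ n') * gm = gm * ((n'' ≫ f) ≫ i) := by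
      rw [Category.assoc, hf, ← hn'', Category.assoc]
      group
    rw [← Category.assoc, comp_lift, hcx, hπ, ← Groth.Agent.H28.ActShear.lift_mul_act, ← hπ, h5,
      Q2, hπ]


end Groth.Agent.S18763
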