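import Groth.Statements.S18790
import Mathlib

set_option autoImplicit false
universe u v w
open TorusGr

namespace Groth.Agent.S18790

open DirectSum in
theorem result
    {k : Type u} [Field k] {M : Type v} [AddCommGroup M] [DecidableEq M]
    {A : Type w} [CommRing A] [Algebra k A] (𝒜 : M → Submodule k A) [GradedAlgebra 𝒜]
    (m : Ideal A) [m.IsMaximal] (hrat : Function.Surjective (algebraMap k (A ⧸ m)))
    (hfix : ∀ i : M, i ≠ 0 → ∀ a ∈ 𝒜 i, a ∈ m)
    (hred : ∀ a ∈ m, ∃ s ∉ m, s * a ∈ Ideal.span {b : A | ∃ i : M, i ≠ 0 ∧ b ∈ 𝒜 i})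
    {f : A} (hf0 : f ∈ 𝒜 0) (hfm : f ∈ m) : f ∈ m ^ 2 := by
  classical
  obtain ⟨s, hs, hsf⟩ := hred f hfm
  have key : ∀ x ∈ Ideal.span {b : A | ∃ i : M, i ≠ 0 ∧ b ∈ 𝒜 i}, ∀ a : A,
      (decompose 𝒜 (a * x) 0 : A) ∈ m ^ 2 := by
    intro x hx
    induction hx using Submodule.span_induction with
    | mem b hb =>
      obtain ⟨i, hi, hbi⟩ := hb
      intro a
      have h0 : (0 : M) = -i + i := by simp
      rw [h0, coe_decompose_mul_add_of_right_mem 𝒜 hbi, pow_two]
      exact Ideal.mul_mem_mul (hfix (-i) (by simpa using hi) _ (SetLike.coe_mem _)) (hfix i hi b hbi)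
    | zero => intro a; simp
    | add x y _ _ hx hy =>
      intro a
      rw [mul_add, decompose_add, DirectSum.add_apply, Submodule.coe_add]
      exact Ideal.add_mem _ (hx a) (hy a)
    | smul c x _ hx =>
      intro a
      rw [smul_eq_mul, ← mul_assoc]
      exact hx (a * c)
  have h1 := key _ hsf 1
  rw [one_mul, coe_decompose_mul_of_right_mem_zero 𝒜 hf0] at h1
  have hs0 : (decompose 𝒜 s 0 : A) ∉ m := by
    intro h
    apply hs
    rw [← DirectSum.sum_support_decompose 𝒜 s]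
    refine Ideal.sum_mem _ fun i _ => ?_
    by_cases hi : i = 0
    · rw [hi]; exact h
    · exact hfix i hi _ (SetLike.coe_mem _)
  obtain ⟨t, j, hj, htj⟩ := Ideal.IsMaximal.exists_inv ‹m.IsMaximal› hs0
  have : f = t * ((decompose 𝒜 s 0 : A) * f) + j * f := by
    rw [← mul_assoc, ← add_mul, htj, one_mul]
  rw [this]
  refine Ideal.add_mem _ (Ideal.mul_mem_left _ _ h1) ?_
  rw [pow_two]
  exact Ideal.mul_mem_mul hj hfm

end Groth.Agent.S18790
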