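import Groth.Statements.S18791
import Mathlib

set_option autoImplicit false
universe u v w x
open TorusGr

namespace Groth.Agent.S18791

open DirectSum

section
variable {k : Type u} [Field k] {M : Type v} [AddCommGroup M] [DecidableEq M]
    {A : Type w} [CommRing A] [Algebra k A] (𝒜 : M → Submodule k A) [GradedAlgebra 𝒜]

/-- degree-`d` component of a product, modulo `m`: only the degree zero part of `t` matters. -/
lemma decompose_mul_sub_mem (m : Ideal A) (hfix : ∀ i : M, i ≠ 0 → ∀ a ∈ 𝒜 i, a ∈ m)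
    (t x : A) (X : Ideal A) (hX : ∀ j, (decompose 𝒜 x j : A) ∈ X) (d : M) :
    (decompose 𝒜 (t * x) d : A) - (decompose 𝒜 t 0 : A) * (decompose 𝒜 x d : A) ∈ m * X := by
  classical
  set S' := (decompose 𝒜 t).support.erase 0 with hS'
  have ht : t = (decompose 𝒜 t 0 : A) + ∑ i ∈ S', (decompose 𝒜 t i : A) := by
    conv_lhs => rw [← DirectSum.sum_support_decompose 𝒜 t]
    rw [← Finset.sum_insert (f := fun i => (decompose 𝒜 t i : A)) (Finset.notMem_erase 0 _)]
    apply Finset.sum_subset
    · intro i hi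
      by_cases h0 : i = 0
      · simp [h0]
      · exact Finset.mem_insert_of_mem (Finset.mem_erase.mpr ⟨h0, hi⟩)
    · intro i _ hi
      simpa using hi
  have hcomp : ∀ i : M, (decompose 𝒜 ((decompose 𝒜 t i : A) * x) d : A) =
      (decompose 𝒜 t i : A) * (decompose 𝒜 x (d - i) : A) := by
    intro i
    have : d = i + (d - i) := by abel
    conv_lhs => rw [this]
    exact coe_decompose_mul_add_of_left_mem 𝒜 (SetLike.coe_mem _)
  have : (decompose 𝒜 (t * x) d : A) = (decompose 𝒜 t 0 : A) * (decompose 𝒜 x d : A) +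
      ∑ i ∈ S', (decompose 𝒜 t i : A) * (decompose 𝒜 x (d - i) : A) := by
    conv_lhs => rw [ht, add_mul, Finset.sum_mul]
    rw [decompose_add, DirectSum.add_apply, Submodule.coe_add, decompose_sum,
      DirectSum.sum_apply, AddSubmonoidClass.coe_finsetSum, hcomp 0, sub_zero]
    congr 1
    exact Finset.sum_congr rfl fun i _ => hcomp i
  rw [this, add_sub_cancel_left]
  refine Ideal.sum_mem _ fun i hi => ?_
  have hi0 : i ≠ 0 := (Finset.mem_erase.mp hi).1
  exact Ideal.mul_mem_mul (hfix i hi0 _ (SetLike.coe_mem _)) (hX _)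

/-- the kernel of localization at a fixed point is homogeneous -/
lemma exists_smul_component_eq_zero (m : Ideal A) [m.IsMaximal]
    (hfix : ∀ i : M, i ≠ 0 → ∀ a ∈ 𝒜 i, a ∈ m)
    (a s : A) (hs : s ∉ m) (hsa : s * a = 0) (j : M) :
    ∃ r : A, r ∉ m ∧ r * (decompose 𝒜 a j : A) = 0 := by
  classical
  set X : Ideal A := Ideal.span ((fun j => (decompose 𝒜 a j : A)) '' ((decompose 𝒜 a).support : Set M))
    with hXdef
  have hX : ∀ j, (decompose 𝒜 a j : A) ∈ X := by
    intro j
    by_cases hj : j ∈ (decompose 𝒜 a).support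
    · exact Ideal.subset_span ⟨j, hj, rfl⟩
    · have : (decompose 𝒜 a j : A) = 0 := by simpa using hj
      rw [this]; exact X.zero_mem
  have hXfg : X.FG := by
    rw [hXdef]
    exact Submodule.fg_span ((Finset.finite_toSet _).image _)
  have hs0 : (decompose 𝒜 s 0 : A) ∉ m := by
    intro h
    apply hs
    rw [← DirectSum.sum_support_decompose 𝒜 s]
    refine Ideal.sum_mem _ fun i _ => ?_
    by_cases hi : i = 0
    · rw [hi]; exact h
    · exact hfix i hi _ (SetLike.coe_mem _)
  have hkey : ∀ d, (decompose 𝒜 s 0 : A) * (decompose 𝒜 a d : A) ∈ m * X := by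
    intro d
    have := decompose_mul_sub_mem 𝒜 m hfix s a X hX d
    rw [hsa, decompose_zero, DirectSum.zero_apply, ZeroMemClass.coe_zero, zero_sub] at this
    exact (Ideal.neg_mem_iff _).mp this
  obtain ⟨t, y, hy, hty⟩ := Ideal.IsMaximal.exists_inv ‹m.IsMaximal› hs0
  have hle : X ≤ m * X := by
    rw [hXdef, Ideal.span_le]
    rintro _ ⟨d, -, rfl⟩
    change (decompose 𝒜 a d : A) ∈ m * X
    have : (decompose 𝒜 a d : A) = t * ((decompose 𝒜 s 0 : A) * (decompose 𝒜 a d : A)) +
        y * (decompose 𝒜 a d : A) := by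
      rw [← mul_assoc, ← add_mul, hty, one_mul]
    rw [this]
    exact Ideal.add_mem _ (Ideal.mul_mem_left _ _ (hkey d)) (Ideal.mul_mem_mul hy (hX d))
  obtain ⟨r, hr1, hr⟩ := Submodule.exists_sub_one_mem_and_smul_eq_zero_of_fg_of_le_smul m X hXfg
    (by rwa [Ideal.smul_eq_mul])
  refine ⟨r, ?_, ?_⟩
  · intro hrm
    have : (1 : A) ∈ m := by
      have := m.sub_mem hrm hr1
      simpa using this
    exact (Ideal.IsMaximal.ne_top ‹m.IsMaximal›) ((Ideal.eq_top_iff_one _).mpr this)
  · exact hr _ (hX j)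

end

theorem result
    {k : Type u} [Field k] {M : Type v} [AddCommGroup M] [DecidableEq M]
    {A : Type w} [CommRing A] [Algebra k A] (𝒜 : M → Submodule k A) [GradedAlgebra 𝒜]
    {B : Type x} [CommRing B] [Algebra k B] (ℬ : M → Submodule k B) [GradedAlgebra ℬ]
    (φ : B →ₐ[k] A) (hφ : ∀ i : M, ∀ b ∈ ℬ i, φ b ∈ 𝒜 i)
    (m : Ideal A) [m.IsMaximal] (hfix : ∀ i : M, i ≠ 0 → ∀ a ∈ 𝒜 i, a ∈ m) :
    (RingHom.ker ((algebraMap A (Localization.AtPrime m)).comp (φ : B →+* A))).IsHomogeneous ℬ := by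
  classical
  have hgr : ∀ (b : B) (j : M), (decompose 𝒜 (φ b) j : A) = φ (decompose ℬ b j : B) := by
    intro b j
    induction b using DirectSum.Decomposition.inductionOn ℬ with
    | zero => simp
    | @homogeneous i b =>
      by_cases hij : i = j
      · subst hij
        rw [decompose_of_mem_same ℬ b.2, decompose_of_mem_same 𝒜 (hφ _ _ b.2)]
      · rw [decompose_of_mem_ne ℬ b.2 hij, decompose_of_mem_ne 𝒜 (hφ _ _ b.2) hij, map_zero]
    | add b b' hb hb' =>
      rw [map_add, decompose_add, decompose_add, DirectSum.add_apply, DirectSum.add_apply,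
        Submodule.coe_add, Submodule.coe_add, map_add, hb, hb']
  intro j b hb
  rw [RingHom.mem_ker, RingHom.comp_apply,
    IsLocalization.map_eq_zero_iff m.primeCompl (Localization.AtPrime m)] at hb ⊢
  obtain ⟨s, hs⟩ := hb
  obtain ⟨r, hr, hr0⟩ := exists_smul_component_eq_zero 𝒜 m hfix (φ b) s s.2 hs j
  refine ⟨⟨r, hr⟩, ?_⟩
  change r * φ (decompose ℬ b j : B) = 0
  rw [← hgr]
  exact hr0

end Groth.Agent.S18791
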