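import Groth.Statements.S18792
import Mathlib

set_option autoImplicit false
universe u
open DefMod

namespace Groth.Agent.S18792

open Finset

theorem result {A : Type u} [Ring A] [Algebra ℚ A] (a b : A)
    (ha : IsNilpotent a) :
    IsNilpotent (LinearMap.mulLeft ℚ a - LinearMap.mulRight ℚ a) ∧
      IsNilpotent.exp a * b * IsNilpotent.exp (-a) =
        IsNilpotent.exp (LinearMap.mulLeft ℚ a - LinearMap.mulRight ℚ a) b := by
  obtain ⟨n, hn⟩ := ha
  have hL : (LinearMap.mulLeft ℚ a) ^ n = 0 := by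
    rw [LinearMap.pow_mulLeft, hn]; ext; simp
  have hna : (-a) ^ n = 0 := by
    rw [neg_pow, hn, mul_zero]
  have hR : (-LinearMap.mulRight ℚ a) ^ n = 0 := by
    have : -LinearMap.mulRight ℚ a = LinearMap.mulRight ℚ (-a) := by ext; simp
    rw [this, LinearMap.pow_mulRight, hna]; ext; simp
  have hLnil : IsNilpotent (LinearMap.mulLeft ℚ a) := ⟨n, hL⟩
  have hRnil : IsNilpotent (-LinearMap.mulRight ℚ a) := ⟨n, hR⟩
  have hcomm : Commute (LinearMap.mulLeft ℚ a) (-LinearMap.mulRight ℚ a) :=
    (LinearMap.commute_mulLeft_right (R := ℚ) a a).neg_right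
  have hsub : LinearMap.mulLeft ℚ a - LinearMap.mulRight ℚ a =
      LinearMap.mulLeft ℚ a + (-LinearMap.mulRight ℚ a) := sub_eq_add_neg _ _
  refine ⟨?_, ?_⟩
  · rw [hsub]
    exact hcomm.isNilpotent_add hLnil hRnil
  · rw [hsub, IsNilpotent.exp_add_of_commute hcomm hLnil hRnil]
    have hexpL : ∀ x : A, IsNilpotent.exp (LinearMap.mulLeft ℚ a) x = IsNilpotent.exp a * x := by
      intro x
      rw [IsNilpotent.exp_eq_sum hL, IsNilpotent.exp_eq_sum hn, Finset.sum_mul,
        LinearMap.sum_apply]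
      refine Finset.sum_congr rfl fun i _ => ?_
      rw [LinearMap.smul_apply, LinearMap.pow_mulLeft, LinearMap.mulLeft_apply, smul_mul_assoc]
    have hexpR : ∀ x : A, IsNilpotent.exp (-LinearMap.mulRight ℚ a) x = x * IsNilpotent.exp (-a) := by
      intro x
      have : -LinearMap.mulRight ℚ a = LinearMap.mulRight ℚ (-a) := by ext; simp
      rw [IsNilpotent.exp_eq_sum hR, IsNilpotent.exp_eq_sum hna, Finset.mul_sum,
        LinearMap.sum_apply]
      refine Finset.sum_congr rfl fun i _ => ?_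
      rw [LinearMap.smul_apply, this, LinearMap.pow_mulRight, LinearMap.mulRight_apply,
        mul_smul_comm]
    rw [Module.End.mul_apply, hexpL, hexpR, mul_assoc]

end Groth.Agent.S18792
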