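import Groth.Statements.S18793
import Groth.Agent.H28.ColonFlat
import Mathlib

set_option autoImplicit false
set_option linter.unusedSectionVars false
universe u v w w'
open DefMod

namespace Groth.Agent.S18793

open Groth.Agent.H28.ColonFlat

section
variable {K : Type u} [Field K]
    {D : Type v} [Ring D] [Algebra K D]
    {E : Type w} [AddCommGroup E] [Module K E] [Module D E] [IsScalarTower K D E] [Nontrivial E]
    (hE : ∀ ψ : E →ₗ[D] E, ∃ c : K, ∀ y : E, ψ y = c • y)
    (R : ArtFun.Art K K)
    {F : Type w'} [AddCommGroup F] [Module K F] [Module R F] [Module D F]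
    [IsScalarTower K R F] [IsScalarTower K D F] [SMulCommClass R D F] [Module.Flat R F]
    (θ : F →ₗ[D] E) (hθ : ∀ (r : R) (x : F), θ (r • x) = R.res r • θ x)
    (hsurj : Function.Surjective θ)
    (hker : ∀ x : F, θ x = 0 ↔ x ∈ IsLocalRing.maximalIdeal R • (⊤ : Submodule R F))

include hsurj hker in
/-- uniqueness: `F` is a faithful `R`-module -/
theorem faithful (a : R) (ha : ∀ x : F, a • x = 0) : a = 0 := by
  by_contra hne
  have hJ : ∀ b : R, a * b ∈ (⊥ : Ideal R) → b ∈ IsLocalRing.maximalIdeal R := by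
    intro b hb
    rw [IsLocalRing.mem_maximalIdeal]
    intro hbu
    apply hne
    rw [Ideal.mem_bot] at hb
    exact (hbu.mul_left_eq_zero).1 hb
  have h1 : ∀ y : F, θ y = 0 := by
    intro y
    rw [hker]
    refine colon_flat ⊥ _ a hJ y ?_
    rw [ha y]
    exact Submodule.zero_mem _
  obtain ⟨e, he⟩ := exists_ne (0 : E)
  obtain ⟨y, rfl⟩ := hsurj e
  exact he (h1 y)

/-- D-stability of `I F` -/
theorem smul_mem_of_mem (I : Ideal R) (d : D) (z : F) (hz : z ∈ I • (⊤ : Submodule R F)) :
    d • z ∈ I • (⊤ : Submodule R F) := by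
  refine Submodule.smul_induction_on hz (fun a ha z _ => ?_) (fun z z' hz hz' => ?_)
  · rw [← smul_comm a d z]
    exact Submodule.smul_mem_smul ha trivial
  · rw [smul_add]
    exact Submodule.add_mem _ hz hz'

include hE hθ hsurj hker in
/-- the descent step -/
theorem step (φ : F →ₗ[R] F) (hφ : ∀ (d : D) (x : F), φ (d • x) = d • φ x)
    (I : Ideal R) (hI : I ≠ ⊥) (r : R) (hr : ∀ x, φ x - r • x ∈ I • (⊤ : Submodule R F)) :
    ∃ I' : Ideal R, I' < I ∧ ∃ r' : R, ∀ x, φ x - r' • x ∈ I' • (⊤ : Submodule R F) := by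
  set 𝔪 := IsLocalRing.maximalIdeal R with h𝔪
  -- `𝔪 I < I`
  have hlt : 𝔪 * I < I := by
    refine lt_of_le_of_ne Ideal.mul_le_right ?_
    intro heq
    apply hI
    refine Submodule.eq_bot_of_le_smul_of_le_jacobson_bot 𝔪 I (IsNoetherian.noetherian I) ?_ ?_
    · rw [smul_eq_mul, heq]
    · rw [IsLocalRing.jacobson_eq_maximalIdeal ⊥ bot_ne_top]
  -- a maximal `I'` between
  obtain ⟨I', ⟨hI'1, hI'2⟩, hI'max⟩ := set_has_maximal_iff_noetherian.mpr
    (inferInstance : IsNoetherian R R) {J : Ideal R | 𝔪 * I ≤ J ∧ J < I} ⟨𝔪 * I, le_rfl, hlt⟩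
  obtain ⟨t, htI, htI'⟩ := SetLike.exists_of_lt hI'2
  have hsup : I' ⊔ Ideal.span {t} = I := by
    have h1 : I' ⊔ Ideal.span {t} ≤ I :=
      sup_le hI'2.le ((Ideal.span_singleton_le_iff_mem _).2 htI)
    by_contra hne
    have h2 : I' ⊔ Ideal.span {t} < I := lt_of_le_of_ne h1 hne
    apply hI'max (I' ⊔ Ideal.span {t}) ⟨hI'1.trans le_sup_left, h2⟩
    refine lt_of_le_of_ne le_sup_left ?_
    intro heq
    apply htI'
    rw [heq]
    exact Ideal.mem_sup_right (Ideal.mem_span_singleton_self t)
  have hcolon : ∀ a : R, t * a ∈ I' → a ∈ 𝔪 := by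
    intro a ha
    rw [h𝔪, IsLocalRing.mem_maximalIdeal]
    intro hau
    apply htI'
    obtain ⟨u, rfl⟩ := hau
    have := Ideal.mul_mem_right (↑u⁻¹ : R) I' ha
    rwa [mul_assoc, Units.mul_inv, mul_one] at this
  have h𝔪t : ∀ a ∈ 𝔪, a * t ∈ I' := fun a ha => hI'1 (Ideal.mul_mem_mul ha htI)
  -- ψ
  set ψ : F →ₗ[R] F := φ - r • LinearMap.id with hψ
  have hψx : ∀ x, ψ x = φ x - r • x := fun x => rfl
  have hψD : ∀ (d : D) (x : F), ψ (d • x) = d • ψ x := by
    intro d x
    rw [hψx, hψx, hφ, smul_sub, smul_comm r d x]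
  have hψI : ∀ x, ψ x ∈ I • (⊤ : Submodule R F) := fun x => hr x
  have hdecomp : ∀ x, ∃ y, ψ x - t • y ∈ I' • (⊤ : Submodule R F) := by
    intro x
    have h1 := hψI x
    rw [← hsup, Submodule.sup_smul, Submodule.ideal_span_singleton_smul, Submodule.mem_sup] at h1
    obtain ⟨w, hw, v, hv, hwv⟩ := h1
    rw [Submodule.mem_smul_pointwise_iff_exists] at hv
    obtain ⟨y, -, rfl⟩ := hv
    refine ⟨y, ?_⟩
    rw [← hwv, add_sub_cancel_right]
    exact hw
  have hψ𝔪 : ∀ x ∈ 𝔪 • (⊤ : Submodule R F), ψ x ∈ I' • (⊤ : Submodule R F) := by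
    intro x hx
    refine Submodule.smul_induction_on hx (fun a ha z _ => ?_) (fun z z' hz hz' => ?_)
    · rw [map_smul]
      have : a • ψ z ∈ (𝔪 * I) • (⊤ : Submodule R F) := by
        rw [Submodule.mul_smul]
        exact Submodule.smul_mem_smul ha (hψI z)
      exact Submodule.smul_mono hI'1 le_rfl this
    · rw [map_add]
      exact Submodule.add_mem _ hz hz'
  have ht𝔪 : ∀ x ∈ 𝔪 • (⊤ : Submodule R F), t • x ∈ I' • (⊤ : Submodule R F) := by
    intro x hx
    refine Submodule.smul_induction_on hx (fun a ha z _ => ?_) (fun z z' hz hz' => ?_)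
    · rw [smul_smul, mul_comm]
      exact Submodule.smul_mem_smul (h𝔪t a ha) trivial
    · rw [smul_add]
      exact Submodule.add_mem _ hz hz'
  -- key well-definedness lemma
  have key : ∀ x x' y y' : F, ψ x - t • y ∈ I' • (⊤ : Submodule R F) →
      ψ x' - t • y' ∈ I' • (⊤ : Submodule R F) → θ x = θ x' → θ y = θ y' := by
    intro x x' y y' h1 h2 h3
    have h4 : x - x' ∈ 𝔪 • (⊤ : Submodule R F) := by
      rw [← hker, map_sub, h3, sub_self]
    have h5 := hψ𝔪 _ h4
    have h6 : t • (y - y') ∈ I' • (⊤ : Submodule R F) := by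
      have : t • (y - y') = ψ (x - x') - (ψ x - t • y) + (ψ x' - t • y') := by
        rw [map_sub, smul_sub]; abel
      rw [this]
      exact Submodule.add_mem _ (Submodule.sub_mem _ h5 h1) h2
    have h7 := colon_flat I' 𝔪 t hcolon (y - y') h6
    rw [← hker, map_sub, sub_eq_zero] at h7
    exact h7
  -- the induced endomorphism of `E`
  choose X hX using hsurj
  choose Y hY using hdecomp
  let ψbar : E →ₗ[D] E :=
    { toFun := fun e => θ (Y (X e))
      map_add' := by
        intro e e'
        rw [← map_add]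
        refine key (X (e + e')) (X e + X e') _ _ (hY _) ?_ ?_
        · have : ψ (X e + X e') - t • (Y (X e) + Y (X e')) =
              (ψ (X e) - t • Y (X e)) + (ψ (X e') - t • Y (X e')) := by
            rw [map_add, smul_add]; abel
          rw [this]
          exact Submodule.add_mem _ (hY _) (hY _)
        · rw [hX, map_add, hX, hX]
      map_smul' := by
        intro d e
        rw [RingHom.id_apply, ← map_smul]
        refine key (X (d • e)) (d • X e) _ _ (hY _) ?_ ?_
        · have : ψ (d • X e) - t • (d • Y (X e)) = d • (ψ (X e) - t • Y (X e)) := by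
            rw [hψD, smul_sub, smul_comm t d]
          rw [this]
          exact smul_mem_of_mem R I' d _ (hY _)
        · rw [hX, map_smul, hX] }
  obtain ⟨c, hc⟩ := hE ψbar
  have hθK : ∀ (c : K) (x : F), θ (c • x) = c • θ x := by
    intro c x
    rw [← algebraMap_smul D c x, map_smul, algebraMap_smul]
  refine ⟨I', hI'2, r + t * algebraMap K R c, fun x => ?_⟩
  have h1 : θ (Y x) = θ (c • x) := by
    have := key x (X (θ x)) (Y x) (Y (X (θ x))) (hY x) (hY _) (hX (θ x)).symm
    rw [this, hθK]
    exact hc (θ x)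
  have h2 : Y x - c • x ∈ 𝔪 • (⊤ : Submodule R F) := by
    rw [← hker, map_sub, h1, sub_self]
  have h3 := ht𝔪 _ h2
  have h4 : φ x - (r + t * algebraMap K R c) • x = (ψ x - t • Y x) + t • (Y x - c • x) := by
    rw [hψx, add_smul, mul_smul, algebraMap_smul, smul_sub]; abel
  rw [h4]
  exact Submodule.add_mem _ (hY x) h3

end

/-- Let E be a nonzero left module over an associative algebra D over a field K of characteristic zero,
whose D-linear endomorphisms are exactly the scalars of K. Let R be an Artinian local K-algebra with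
residue field K, and let F carry commuting R- and D-module structures (a left module over R ⊗_K D)
with F flat over R, together with a D-linear map θ : F → E that is semilinear over the augmentation
R → K, surjective, and whose kernel is m_R F (so θ induces an isomorphism K ⊗_R F ≅ E; that is, (F,
θ) is a deformation of E over R). Then every endomorphism of F that is both R-linear and D-linear is
multiplication by a unique element of R. (The published statement adds that the automorphisms of (F,
θ) are then exactly the elements 1 + m_R of R; that consequence is stated separately.) -/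
theorem result
    {K : Type u} [Field K] [CharZero K]
    {D : Type v} [Ring D] [Algebra K D]
    {E : Type w} [AddCommGroup E] [Module K E] [Module D E] [IsScalarTower K D E] [Nontrivial E]
    (hE : ∀ ψ : E →ₗ[D] E, ∃ c : K, ∀ y : E, ψ y = c • y)
    (R : ArtFun.Art K K)
    {F : Type w'} [AddCommGroup F] [Module K F] [Module R F] [Module D F]
    [IsScalarTower K R F] [IsScalarTower K D F] [SMulCommClass R D F] [Module.Flat R F]
    (θ : F →ₗ[D] E) (hθ : ∀ (r : R) (x : F), θ (r • x) = R.res r • θ x)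
    (hsurj : Function.Surjective θ)
    (hker : ∀ x : F, θ x = 0 ↔ x ∈ IsLocalRing.maximalIdeal R • (⊤ : Submodule R F))
    (φ : F →ₗ[R] F) (hφ : ∀ (d : D) (x : F), φ (d • x) = d • φ x) :
    ∃! r : R, ∀ x : F, φ x = r • x := by
  obtain ⟨I, ⟨r, hr⟩, hmin⟩ := IsArtinian.set_has_minimal
    {I : Ideal R | ∃ r : R, ∀ x, φ x - r • x ∈ I • (⊤ : Submodule R F)}
    ⟨⊤, 0, fun x => by rw [Submodule.top_smul]; trivial⟩
  have hI : I = ⊥ := by
    by_contra hI
    obtain ⟨I', hlt, r', hr'⟩ := step hE R θ hθ hsurj hker φ hφ I hI r hr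
    exact hmin I' ⟨r', hr'⟩ hlt
  subst hI
  have hr2 : ∀ x, φ x = r • x := by
    intro x
    have := hr x
    rwa [Submodule.bot_smul, Submodule.mem_bot, sub_eq_zero] at this
  refine ⟨r, hr2, fun r' hr' => ?_⟩
  have h0 : r' - r = 0 := by
    apply faithful R θ hsurj hker
    intro x
    rw [sub_smul, ← hr' x, ← hr2 x, sub_self]
  exact sub_eq_zero.1 h0

end Groth.Agent.S18793
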