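import Groth.Statements.S18794
import Mathlib

set_option autoImplicit false
universe u v w
open scoped TensorProduct
open DefMod

namespace Groth.Agent.S18794

section
variable {K : Type u} [Field K]
    {D : Type v} [Ring D] [Algebra K D]
    {E : Type w} [AddCommGroup E] [Module K E] [Module D E] [IsScalarTower K D E]
    {L : Type*} [Field L] [Algebra K L] {P : Type*} [Field P] [Algebra K P]
    {Q : Type*} [Field Q] [Algebra K Q]
    (σ : L →ₐ[K] P)

/-- the map `σ ⊗ id` -/
noncomputable def mapE : L ⊗[K] E →ₗ[K] P ⊗[K] E := σ.toLinearMap.rTensor E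

theorem mapE_tmul (l : L) (e : E) : mapE (E := E) σ (l ⊗ₜ e) = σ l ⊗ₜ e := rfl

theorem mapE_smul (l : L) (x : L ⊗[K] E) : mapE σ (l • x) = σ l • mapE σ x := by
  induction x using TensorProduct.induction_on with
  | zero => simp
  | tmul a e => simp [mapE_tmul, TensorProduct.smul_tmul', map_mul]
  | add x y hx hy => simp [smul_add, hx, hy]

theorem mapE_comp (τ : P →ₐ[K] Q) (x : L ⊗[K] E) :
    mapE τ (mapE σ x) = mapE (τ.comp σ) x := by
  induction x using TensorProduct.induction_on with
  | zero => simp
  | tmul a e => simp [mapE_tmul]
  | add x y hx hy => simp [hx, hy]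

theorem mapE_act (d : D) (x : L ⊗[K] E) :
    mapE σ ((DistribSMul.toLinearMap K E d).baseChange L x) =
      (DistribSMul.toLinearMap K E d).baseChange P (mapE σ x) := by
  induction x using TensorProduct.induction_on with
  | zero => simp
  | tmul a e => simp [mapE_tmul]
  | add x y hx hy => simp [hx, hy]

theorem exists_retraction :
    ∃ π : P →ₗ[K] L, π 1 = 1 ∧ ∀ (l : L) (c : P), π (σ l * c) = l * π c := by
  let _ : Algebra L P := σ.toRingHom.toAlgebra
  have _ : IsScalarTower K L P := IsScalarTower.of_algebraMap_eq (fun x => (σ.commutes x).symm)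
  obtain ⟨π', hπ'⟩ := LinearMap.exists_leftInverse_of_injective (Algebra.linearMap L P)
    (LinearMap.ker_eq_bot.2 σ.toRingHom.injective)
  refine ⟨π'.restrictScalars K, ?_, ?_⟩
  · have := LinearMap.congr_fun hπ' 1
    simpa using this
  · intro l c
    have : σ l * c = l • c := by rw [Algebra.smul_def]; rfl
    simp [this]

theorem key (π : P →ₗ[K] L) (hπ : ∀ (l : L) (c : P), π (σ l * c) = l * π c) (c : P)
    (x : L ⊗[K] E) : π.rTensor E (c • mapE σ x) = π c • x := by
  induction x using TensorProduct.induction_on with
  | zero => simp
  | tmul a e =>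
    simp only [mapE_tmul, LinearMap.rTensor_tmul, TensorProduct.smul_tmul', smul_eq_mul]
    rw [mul_comm c, hπ, mul_comm]
  | add x y hx hy => simp [smul_add, hx, hy]

theorem mapE_injective : Function.Injective (mapE (E := E) σ) := by
  obtain ⟨π, hπ1, hπ⟩ := exists_retraction σ
  intro x y hxy
  have hx := key (E := E) σ π hπ 1 x
  have hy := key (E := E) σ π hπ 1 y
  rw [one_smul, hπ1, one_smul] at hx hy
  rw [← hx, ← hy, hxy]

include σ in
theorem nontrivial_iff : Nontrivial (L ⊗[K] E) ↔ Nontrivial (P ⊗[K] E) := by
  constructor
  · intro h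
    exact (mapE_injective (E := E) σ).nontrivial
  · intro hnt
    by_contra hns
    rw [not_nontrivial_iff_subsingleton] at hns
    have : ∀ y : P ⊗[K] E, y = 0 := by
      intro y
      induction y using TensorProduct.induction_on with
      | zero => rfl
      | tmul c e =>
        have h1 : (1 : L) ⊗ₜ[K] e = 0 := Subsingleton.elim _ _
        have h2 := congrArg (fun z => c • mapE σ z) h1
        simpa [mapE_tmul, TensorProduct.smul_tmul'] using h2
      | add x y hx hy => rw [hx, hy, add_zero]
    obtain ⟨a, b, hab⟩ := hnt
    exact hab ((this a).trans (this b).symm)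

end

section
variable {K : Type u} [Field K]
    {E : Type w} [AddCommGroup E] [Module K E]

theorem exists_fd (x : AlgebraicClosure K ⊗[K] E) :
    ∃ L : IntermediateField K (AlgebraicClosure K), FiniteDimensional K L ∧
      x ∈ LinearMap.range (mapE (E := E) L.val) := by
  induction x using TensorProduct.induction_on with
  | zero => exact ⟨⊥, inferInstance, 0, map_zero _⟩
  | tmul c e =>
    refine ⟨IntermediateField.adjoin K {c}, ?_,
      ⟨c, IntermediateField.mem_adjoin_simple_self K c⟩ ⊗ₜ e, rfl⟩
    exact IntermediateField.adjoin.finiteDimensional (Algebra.IsIntegral.isIntegral c)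
  | add x y hx hy =>
    obtain ⟨L₁, h₁, x', rfl⟩ := hx
    obtain ⟨L₂, h₂, y', rfl⟩ := hy
    refine ⟨L₁ ⊔ L₂, IntermediateField.finiteDimensional_sup L₁ L₂,
      mapE (IntermediateField.inclusion le_sup_left) x' +
        mapE (IntermediateField.inclusion le_sup_right) y', ?_⟩
    rw [map_add, mapE_comp, mapE_comp]
    rfl

end

/-- Let E be a left module over an associative algebra D over a field K of characteristic zero. For a
field extension L of K, the base change L ⊗_K E is a module over L ⊗_K D, i.e. an L-vector space
with a commuting action of D; call it irreducible when it is nonzero and its only L-subspaces stable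
under every element of D are 0 and the whole space. Then E is absolutely irreducible (its base
change to an algebraic closure of K is irreducible) if and only if L ⊗_K E is irreducible for every
finite extension L of K. (Finite extensions are taken in the universe of K.) -/
theorem result
    {K : Type u} [Field K] [CharZero K]
    {D : Type v} [Ring D] [Algebra K D]
    {E : Type w} [AddCommGroup E] [Module K E] [Module D E] [IsScalarTower K D E] :
    (Nontrivial (AlgebraicClosure K ⊗[K] E) ∧ ∀ N : Submodule (AlgebraicClosure K) (AlgebraicClosure K ⊗[K] E), (∀ (d : D) (x : AlgebraicClosure K ⊗[K] E), x ∈ N → (DistribSMul.toLinearMap K E d).baseChange (AlgebraicClosure K) x ∈ N) → N = ⊥ ∨ N = ⊤) ↔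
      ∀ (L : Type u) [Field L] [Algebra K L] [FiniteDimensional K L],
        (Nontrivial (L ⊗[K] E) ∧ ∀ N : Submodule (L) (L ⊗[K] E), (∀ (d : D) (x : L ⊗[K] E), x ∈ N → (DistribSMul.toLinearMap K E d).baseChange (L) x ∈ N) → N = ⊥ ∨ N = ⊤) := by
  constructor
  · rintro ⟨hnt, hirr⟩ L _ _ _
    let σ : L →ₐ[K] AlgebraicClosure K := IsAlgClosed.lift
    obtain ⟨π, hπ1, hπ⟩ := exists_retraction σ
    refine ⟨(nontrivial_iff (E := E) σ).2 hnt, ?_⟩
    intro N hN
    let N' : Submodule (AlgebraicClosure K) (AlgebraicClosure K ⊗[K] E) :=
      Submodule.span (AlgebraicClosure K) (mapE σ '' (N : Set (L ⊗[K] E)))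
    have hN' : ∀ (d : D) (y : AlgebraicClosure K ⊗[K] E), y ∈ N' →
        (DistribSMul.toLinearMap K E d).baseChange (AlgebraicClosure K) y ∈ N' := by
      intro d y hy
      induction hy using Submodule.span_induction with
      | mem y hy =>
        obtain ⟨n, hn, rfl⟩ := hy
        rw [← mapE_act]
        exact Submodule.subset_span ⟨_, hN d n hn, rfl⟩
      | zero => simp
      | add y z _ _ hy hz => rw [map_add]; exact Submodule.add_mem _ hy hz
      | smul c y _ hy => rw [map_smul]; exact Submodule.smul_mem _ c hy
    have hpull : ∀ y ∈ N', ∀ c : AlgebraicClosure K, π.rTensor E (c • y) ∈ N := by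
      intro y hy
      induction hy using Submodule.span_induction with
      | mem y hy =>
        obtain ⟨n, hn, rfl⟩ := hy
        intro c
        rw [key σ π hπ]
        exact N.smul_mem _ hn
      | zero => intro c; simp
      | add y z _ _ hy hz =>
        intro c; rw [smul_add, map_add]; exact N.add_mem (hy c) (hz c)
      | smul c' y _ hy => intro c; rw [smul_smul]; exact hy _
    rcases hirr N' hN' with h | h
    · left
      rw [Submodule.eq_bot_iff]
      intro n hn
      apply mapE_injective (E := E) σ
      have : mapE σ n ∈ N' := Submodule.subset_span ⟨n, hn, rfl⟩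
      rw [h, Submodule.mem_bot] at this
      rw [this, map_zero]
    · right
      rw [Submodule.eq_top_iff']
      intro x
      have h1 : mapE σ x ∈ N' := by rw [h]; trivial
      have h2 := hpull _ h1 1
      rwa [key σ π hπ, hπ1, one_smul] at h2
  · intro h
    refine ⟨(nontrivial_iff (E := E) (Algebra.ofId K (AlgebraicClosure K))).1 (h K).1, ?_⟩
    intro N hN
    by_cases hbot : N = ⊥
    · exact Or.inl hbot
    right
    obtain ⟨n, hn, hn0⟩ := Submodule.exists_mem_ne_zero_of_ne_bot hbot
    obtain ⟨L, hL, n', rfl⟩ := exists_fd n
    let NL : Submodule L (L ⊗[K] E) :=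
      { carrier := {x | mapE L.val x ∈ N}
        add_mem' := by
          intro a b ha hb
          simp only [Set.mem_ofPred_eq, map_add] at *
          exact N.add_mem ha hb
        zero_mem' := by simp
        smul_mem' := by
          intro c x hx
          simp only [Set.mem_ofPred_eq] at *
          rw [mapE_smul]
          exact N.smul_mem _ hx }
    have hNL : ∀ (d : D) (x : L ⊗[K] E), x ∈ NL →
        (DistribSMul.toLinearMap K E d).baseChange L x ∈ NL := by
      intro d x hx
      show mapE L.val _ ∈ N
      rw [mapE_act]
      exact hN d _ hx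
    rcases (h L).2 NL hNL with h0 | h1
    · exfalso
      have : n' ∈ NL := hn
      rw [h0, Submodule.mem_bot] at this
      apply hn0
      rw [this, map_zero]
    · rw [Submodule.eq_top_iff']
      intro y
      induction y using TensorProduct.induction_on with
      | zero => exact N.zero_mem
      | tmul c e =>
        have : (1 : L) ⊗ₜ[K] e ∈ NL := by rw [h1]; trivial
        have h2 : mapE L.val ((1 : L) ⊗ₜ[K] e) ∈ N := this
        have h3 := N.smul_mem c h2
        simpa [mapE_tmul, TensorProduct.smul_tmul'] using h3
      | add x y hx hy => exact N.add_mem hx hy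

end Groth.Agent.S18794
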