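import Groth.Statements.S18796
import Groth.Agent.H28.BaseChangeCoord
import Mathlib

set_option autoImplicit false
universe u v w w' u'
open scoped TensorProduct
open DefMod

namespace Groth.Agent.S18796

open Groth.Agent.H28.BaseChangeCoord

section
variable {K : Type u} [Field K]
    {D : Type v} [Ring D] [Algebra K D]
    {E : Type w} [AddCommGroup E] [Module K E] [Module D E] [IsScalarTower K D E]
    {F : Type w'} [AddCommGroup F] [Module K F] [Module D F] [IsScalarTower K D F]
    (P : Type u') [CommRing P] [Algebra K P]
    (Φ : P ⊗[K] (E →ₗ[D] F) →ₗ[P] (P ⊗[K] E →ₗ[P] P ⊗[K] F))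
    (hΦ : ∀ (p : P) (f : E →ₗ[D] F), Φ (p ⊗ₜ[K] f) = p • (f.restrictScalars K).baseChange P)

include hΦ in
/-- coordinates of `Φ z` -/
theorem proj_Φ (i : ι K P) (z : P ⊗[K] (E →ₗ[D] F)) (e : E) :
    (proj (E →ₗ[D] F) i z) e = proj F i (Φ z (1 ⊗ₜ[K] e)) := by
  induction z using TensorProduct.induction_on with
  | zero => simp
  | tmul p f =>
    rw [hΦ, proj_tmul, LinearMap.smul_apply, LinearMap.smul_apply, LinearMap.baseChange_tmul,
      TensorProduct.smul_tmul', smul_eq_mul, mul_one, proj_tmul]
    rfl
  | add z z' hz hz' =>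
    rw [map_add, map_add, LinearMap.add_apply, LinearMap.add_apply, map_add, hz, hz']

end

/-- Let K be a field of characteristic zero, D an associative K-algebra, E a left D-module that is
finitely presented over D, F a left D-module and P a commutative K-algebra. The canonical P-linear
map Φ : P ⊗_K Hom_D(E, F) → Hom_P(P ⊗_K E, P ⊗_K F), determined by p ⊗ f ↦ p · (1_P ⊗ f), is
injective, and its image consists exactly of the P-linear maps that commute with the action of every
element of D; in other words Φ identifies P ⊗_K Hom_D(E, F) with the module of homomorphisms P ⊗_K E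
→ P ⊗_K F over P ⊗_K D. The map Φ is pinned here by its values on pure tensors. -/
theorem result
    {K : Type u} [Field K] [CharZero K]
    {D : Type v} [Ring D] [Algebra K D]
    {E : Type w} [AddCommGroup E] [Module K E] [Module D E] [IsScalarTower K D E]
    [Module.FinitePresentation D E]
    {F : Type w'} [AddCommGroup F] [Module K F] [Module D F] [IsScalarTower K D F]
    (P : Type u') [CommRing P] [Algebra K P]
    (Φ : P ⊗[K] (E →ₗ[D] F) →ₗ[P] (P ⊗[K] E →ₗ[P] P ⊗[K] F))
    (hΦ : ∀ (p : P) (f : E →ₗ[D] F), Φ (p ⊗ₜ[K] f) = p • (f.restrictScalars K).baseChange P) :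
    Function.Injective Φ ∧
      ∀ g : P ⊗[K] E →ₗ[P] P ⊗[K] F,
        g ∈ LinearMap.range Φ ↔
          ∀ d : D, g ∘ₗ (DistribSMul.toLinearMap K E d).baseChange P =
            (DistribSMul.toLinearMap K F d).baseChange P ∘ₗ g := by
  classical
  refine ⟨?_, fun g => ⟨?_, ?_⟩⟩
  · -- injectivity
    rw [injective_iff_map_eq_zero]
    intro z hz
    apply eq_zero_of_proj
    intro i
    apply LinearMap.ext
    intro e
    rw [proj_Φ P Φ hΦ, hz]
    simp
  · -- range ⊆ commuting
    rintro ⟨z, rfl⟩ d
    induction z using TensorProduct.induction_on with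
    | zero => simp
    | tmul p f =>
      rw [hΦ]
      apply TensorProduct.AlgebraTensorModule.curry_injective
      ext e
      simp
    | add z z' hz hz' =>
      rw [map_add, LinearMap.add_comp, LinearMap.comp_add, hz, hz']
  · -- commuting ⊆ range
    intro hg
    have hg' : ∀ (d : D) (w : P ⊗[K] E),
        g ((DistribSMul.toLinearMap K E d).baseChange P w) =
          (DistribSMul.toLinearMap K F d).baseChange P (g w) :=
      fun d w => LinearMap.congr_fun (hg d) w
    -- coordinate maps
    let gi : ι K P → (E →ₗ[D] F) := fun i =>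
      { toFun := fun e => proj F i (g (1 ⊗ₜ[K] e))
        map_add' := by
          intro e e'
          rw [TensorProduct.tmul_add, map_add, map_add]
        map_smul' := by
          intro d e
          have h1 : (1 : P) ⊗ₜ[K] (d • e) =
              (DistribSMul.toLinearMap K E d).baseChange P (1 ⊗ₜ[K] e) := by
            rw [LinearMap.baseChange_tmul]; rfl
          rw [h1, hg', RingHom.id_apply]
          have h2 : ((DistribSMul.toLinearMap K F d).baseChange P (g (1 ⊗ₜ[K] e))) =
              (DistribSMul.toLinearMap K F d).lTensor P (g (1 ⊗ₜ[K] e)) := rfl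
          rw [h2, proj_lTensor]
          rfl }
    have hgi : ∀ i e, gi i e = proj F i (g (1 ⊗ₜ[K] e)) := fun i e => rfl
    -- generators
    obtain ⟨s, hs⟩ := (Module.Finite.fg_top : (⊤ : Submodule D E).FG)
    let S : Finset (ι K P) := s.biUnion fun e => supp (g (1 ⊗ₜ[K] e))
    have hS : ∀ i, i ∉ S → gi i = 0 := by
      intro i hi
      apply LinearMap.ext_on_range (v := fun e : (s : Set E) => (e : E))
      · rw [Subtype.range_coe]; exact hs
      · rintro ⟨e, he⟩
        rw [hgi, LinearMap.zero_apply]
        apply proj_eq_zero_of_not_mem_supp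
        intro hi'
        exact hi (Finset.mem_biUnion.2 ⟨e, he, hi'⟩)
    refine ⟨∑ i ∈ S, (bP K P i) ⊗ₜ[K] gi i, ?_⟩
    apply TensorProduct.AlgebraTensorModule.curry_injective
    ext e
    simp only [TensorProduct.AlgebraTensorModule.curry_apply, LinearMap.restrictScalars_apply,
      TensorProduct.curry_apply]
    apply eq_of_proj
    intro j
    rw [map_sum, LinearMap.sum_apply, map_sum]
    rw [← hgi]
    have h3 : ∀ i ∈ S, proj F j ((Φ (bP K P i ⊗ₜ[K] gi i)) (1 ⊗ₜ[K] e)) =
        if i = j then gi j e else 0 := by
      intro i _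
      rw [hΦ, LinearMap.smul_apply, LinearMap.baseChange_tmul, TensorProduct.smul_tmul',
        smul_eq_mul, mul_one, proj_tmul, Module.Basis.coord_apply, Module.Basis.repr_self,
        Finsupp.single_apply]
      split_ifs with h
      · subst h; rw [one_smul]; rfl
      · rw [zero_smul]
    rw [Finset.sum_congr rfl h3, Finset.sum_ite_eq']
    split_ifs with h
    · rfl
    · rw [hS j h]; rfl

end Groth.Agent.S18796
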