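import Groth.Statements.S18795
import Groth.Agent.S18796
import Mathlib

set_option autoImplicit false
universe u v w
open scoped TensorProduct
open DefMod

namespace Groth.Agent.S18795

section
variable {K : Type u} [Field K]
    {D : Type v} [Ring D] [Algebra K D]
    {E : Type w} [AddCommGroup E] [Module K E] [Module D E] [IsScalarTower K D E]
    (P : Type u) [Field P] [Algebra K P]

/-- the comparison map -/
noncomputable def Φ : P ⊗[K] (E →ₗ[D] E) →ₗ[P] (P ⊗[K] E →ₗ[P] P ⊗[K] E) :=
  (LinearMap.tensorProduct K P E E) ∘ₗ ((LinearMap.restrictScalarsₗ K D E E K).baseChange P)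

theorem hΦ (p : P) (f : E →ₗ[D] E) :
    Φ (K := K) (D := D) (E := E) P (p ⊗ₜ[K] f) = p • (f.restrictScalars K).baseChange P := by
  simp only [Φ, LinearMap.comp_apply, LinearMap.baseChange_tmul, LinearMap.restrictScalarsₗ_apply]
  rfl

end

/-- Let E be a left module over an associative algebra D over a field K of characteristic zero. Assume
that the D-linear endomorphisms of E form a finite-dimensional K-vector space, that E has a finite
presentation over D, and that E is absolutely irreducible: its base change K̄ ⊗_K E to an algebraic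
closure K̄ of K is nonzero and its only K̄-subspaces stable under every element of D are 0 and the
whole space. Then End_D(E) = K: every D-linear endomorphism of E is multiplication by a scalar from
K. -/
theorem result
    {K : Type u} [Field K] [CharZero K]
    {D : Type v} [Ring D] [Algebra K D]
    {E : Type w} [AddCommGroup E] [Module K E] [Module D E] [IsScalarTower K D E]
    [Module.Finite K (E →ₗ[D] E)] [Module.FinitePresentation D E]
    (habs : (Nontrivial (AlgebraicClosure K ⊗[K] E) ∧ ∀ N : Submodule (AlgebraicClosure K) (AlgebraicClosure K ⊗[K] E), (∀ (d : D) (x : AlgebraicClosure K ⊗[K] E), x ∈ N → (DistribSMul.toLinearMap K E d).baseChange (AlgebraicClosure K) x ∈ N) → N = ⊥ ∨ N = ⊤))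
    (φ : E →ₗ[D] E) : ∃ c : K, ∀ x : E, φ x = c • x := by
  obtain ⟨hnt, hirr⟩ := habs
  obtain ⟨hinj, hrange⟩ := Groth.Agent.S18796.result (K := K) (D := D) (E := E) (F := E)
    (AlgebraicClosure K) (Φ (AlgebraicClosure K)) (hΦ (AlgebraicClosure K))
  -- closure of the range under composition
  have hcomp : ∀ g h : AlgebraicClosure K ⊗[K] E →ₗ[AlgebraicClosure K] AlgebraicClosure K ⊗[K] E,
      g ∈ LinearMap.range (Φ (K := K) (D := D) (E := E) (AlgebraicClosure K)) →
      h ∈ LinearMap.range (Φ (K := K) (D := D) (E := E) (AlgebraicClosure K)) →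
      g ∘ₗ h ∈ LinearMap.range (Φ (K := K) (D := D) (E := E) (AlgebraicClosure K)) := by
    intro g h hg hh
    rw [hrange] at hg hh ⊢
    intro d
    rw [LinearMap.comp_assoc, hh d, ← LinearMap.comp_assoc, hg d, LinearMap.comp_assoc]
  have hid : (LinearMap.id : AlgebraicClosure K ⊗[K] E →ₗ[AlgebraicClosure K] AlgebraicClosure K ⊗[K] E) ∈
      LinearMap.range (Φ (K := K) (D := D) (E := E) (AlgebraicClosure K)) := by
    rw [hrange]
    intro d
    rw [LinearMap.id_comp, LinearMap.comp_id]
  -- Schur's lemma
  have schur : ∀ g ∈ LinearMap.range (Φ (K := K) (D := D) (E := E) (AlgebraicClosure K)),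
      ∃ μ : AlgebraicClosure K, ∀ x, g x = μ • x := by
    intro g hg
    let Lg : Module.End (AlgebraicClosure K)
        (LinearMap.range (Φ (K := K) (D := D) (E := E) (AlgebraicClosure K))) :=
      { toFun := fun h => ⟨g ∘ₗ h.1, hcomp g h.1 hg h.2⟩
        map_add' := by
          intro h h'
          apply Subtype.ext
          exact LinearMap.comp_add _ _ _
        map_smul' := by
          intro c h
          apply Subtype.ext
          exact LinearMap.comp_smul _ _ _ }
    have : Nontrivial (LinearMap.range (Φ (K := K) (D := D) (E := E) (AlgebraicClosure K))) := by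
      refine ⟨⟨⟨LinearMap.id, hid⟩, 0, ?_⟩⟩
      intro h
      have h1 : (LinearMap.id : AlgebraicClosure K ⊗[K] E →ₗ[AlgebraicClosure K] _) = 0 :=
        congrArg Subtype.val h
      obtain ⟨x, hx⟩ := exists_ne (0 : AlgebraicClosure K ⊗[K] E)
      exact hx (LinearMap.congr_fun h1 x)
    let _ : AddCommGroup (LinearMap.range (Φ (K := K) (D := D) (E := E) (AlgebraicClosure K))) :=
      @Submodule.addCommGroup (AlgebraicClosure K) (AlgebraicClosure K ⊗[K] E →ₗ[AlgebraicClosure K]
        AlgebraicClosure K ⊗[K] E) _ LinearMap.addCommGroup _ _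
    have hfin : Module.Finite (AlgebraicClosure K)
        (LinearMap.range (Φ (K := K) (D := D) (E := E) (AlgebraicClosure K))) :=
      inferInstanceAs (Module.Finite (AlgebraicClosure K)
        (LinearMap.range (Φ (K := K) (D := D) (E := E) (AlgebraicClosure K))))
    obtain ⟨μ, hμ⟩ := Module.End.exists_eigenvalue (K := AlgebraicClosure K)
      (V := LinearMap.range (Φ (K := K) (D := D) (E := E) (AlgebraicClosure K))) Lg
    obtain ⟨h, hh⟩ := hμ.exists_hasEigenvector
    have hh1 : g ∘ₗ h.1 = μ • h.1 := congrArg Subtype.val hh.apply_eq_smul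
    have hh2 : h.1 ≠ 0 := fun h0 => hh.2 (Subtype.ext h0)
    refine ⟨μ, ?_⟩
    have hgd := (hrange g).1 hg
    let N : Submodule (AlgebraicClosure K) (AlgebraicClosure K ⊗[K] E) :=
      LinearMap.ker (g - μ • LinearMap.id)
    have hNmem : ∀ x, x ∈ N ↔ g x = μ • x := by
      intro x
      simp only [N, LinearMap.mem_ker, LinearMap.sub_apply, LinearMap.smul_apply,
        LinearMap.id_apply, sub_eq_zero]
    have hNstable : ∀ (d : D) (x : AlgebraicClosure K ⊗[K] E), x ∈ N →
        (DistribSMul.toLinearMap K E d).baseChange (AlgebraicClosure K) x ∈ N := by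
      intro d x hx
      rw [hNmem] at hx ⊢
      have := LinearMap.congr_fun (hgd d) x
      simp only [LinearMap.comp_apply] at this
      rw [this, hx, map_smul]
    rcases hirr N hNstable with hN | hN
    · exfalso
      apply hh2
      apply LinearMap.ext
      intro x
      have hx : h.1 x ∈ N := by
        rw [hNmem]
        have := LinearMap.congr_fun hh1 x
        simpa using this
      rw [hN, Submodule.mem_bot] at hx
      rw [hx]; rfl
    · intro x
      rw [← hNmem, hN]
      trivial
  obtain ⟨μ, hμ⟩ := schur (Φ (AlgebraicClosure K) ((1 : AlgebraicClosure K) ⊗ₜ[K] φ)) ⟨_, rfl⟩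
  have h1 : Φ (K := K) (D := D) (E := E) (AlgebraicClosure K) ((1 : AlgebraicClosure K) ⊗ₜ[K] φ) =
      Φ (AlgebraicClosure K) (μ ⊗ₜ[K] (LinearMap.id : E →ₗ[D] E)) := by
    apply LinearMap.ext
    intro x
    rw [hμ, hΦ, LinearMap.smul_apply]
    congr 1
    have : ((LinearMap.id : E →ₗ[D] E).restrictScalars K).baseChange (AlgebraicClosure K) =
        LinearMap.id := by
      apply TensorProduct.AlgebraTensorModule.curry_injective
      ext e
      simp
    rw [this]; rfl
  have h2 := hinj h1
  obtain ⟨ℓ, hℓ⟩ := LinearMap.exists_leftInverse_of_injective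
    (Algebra.linearMap K (AlgebraicClosure K))
    (LinearMap.ker_eq_bot.2 (algebraMap K (AlgebraicClosure K)).injective)
  have h3 := congrArg (fun z => TensorProduct.lid K (E →ₗ[D] E) (ℓ.rTensor (E →ₗ[D] E) z)) h2
  simp only [LinearMap.rTensor_tmul, TensorProduct.lid_tmul] at h3
  have hℓ1 : ℓ 1 = 1 := by
    have := LinearMap.congr_fun hℓ 1
    simpa using this
  rw [hℓ1, one_smul] at h3
  refine ⟨ℓ μ, fun x => ?_⟩
  rw [h3]
  rfl

end Groth.Agent.S18795
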