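import Groth.Statements.S18797
import Mathlib

set_option autoImplicit false
universe u v w
open DefMod

namespace Groth.Agent.S18797

theorem result
    {K : Type u} [Field K] [CharZero K]
    {O : Type v} [CommRing O] [Algebra K O] (δ : Derivation K O O)
    {E : Type w} [AddCommGroup E] [Module O E] [Module K E] [IsScalarTower K O E]
    [Module.Free O E] [Module.Finite O E]
    (δE : E →ₗ[K] E) (hδE : ∀ (a : O) (e : E), δE (a • e) = δ a • e + a • δE e)
    (φ ψ : E →ₗ[O] E) (hψ : ∀ e : E, ψ e = δE (φ e) - φ (δE e)) :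
    LinearMap.trace O E ψ = δ (LinearMap.trace O E φ) := by
  classical
  let b := Module.Free.chooseBasis O E
  set Γ : Matrix (Module.Free.ChooseBasisIndex O E) (Module.Free.ChooseBasisIndex O E) O :=
    fun i j => b.repr (δE (b j)) i with hΓ
  set Φ := LinearMap.toMatrix b b φ with hΦ
  set Ψ := LinearMap.toMatrix b b ψ with hΨ
  -- Lemma 1
  have l1 : ∀ (e : E) k, b.repr (δE e) k = δ (b.repr e k) + ∑ i, Γ k i * b.repr e i := by
    intro e k
    conv_lhs => rw [← b.sum_repr e]
    rw [map_sum]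
    simp_rw [hδE]
    rw [map_sum, Finsupp.coe_finsetSum, Finset.sum_apply]
    simp_rw [map_add, map_smul, Finsupp.add_apply, Finsupp.smul_apply, b.repr_self,
      Finsupp.single_apply, smul_eq_mul]
    rw [Finset.sum_add_distrib]
    congr 1
    · simp
    · exact Finset.sum_congr rfl fun i _ => mul_comm _ _
  have l2 : ∀ (e : E) k, b.repr (φ e) k = ∑ i, Φ k i * b.repr e i := by
    intro e k
    have := congrFun (LinearMap.toMatrix_mulVec_repr b b φ e) k
    rw [← this]
    rfl
  have hΨeq : Ψ = Φ.map δ + Γ * Φ - Φ * Γ := by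
    ext k j
    have hΦ' : ∀ k j, b.repr (φ (b j)) k = Φ k j := by
      intro k j
      rw [hΦ, LinearMap.toMatrix_apply]
    have t1 : b.repr (δE (φ (b j))) k = δ (Φ k j) + ∑ i, Γ k i * Φ i j := by
      rw [l1]
      simp_rw [hΦ']
    have t2 : b.repr (φ (δE (b j))) k = ∑ i, Φ k i * Γ i j := by
      rw [l2]
    rw [hΨ, LinearMap.toMatrix_apply, hψ, map_sub, Finsupp.sub_apply, t1, t2]
    simp only [Matrix.sub_apply, Matrix.add_apply, Matrix.map_apply, Matrix.mul_apply]
  rw [LinearMap.trace_eq_matrix_trace O b ψ, LinearMap.trace_eq_matrix_trace O b φ, ← hΨ, ← hΦ,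
    hΨeq, Matrix.trace_sub, Matrix.trace_add, Matrix.trace_mul_comm Γ Φ, add_sub_cancel_right]
  simp only [Matrix.trace, Matrix.diag_apply, Matrix.map_apply, map_sum]

end Groth.Agent.S18797
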