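import Groth.Statements.S1880
import Mathlib
import Groth.Agent.Lib.Helper5.GrpdLib

set_option autoImplicit false
universe u
open CategoryTheory CategoryTheory.Limits AlgebraicGeometry
open Grpd

namespace Groth.Agent.S1880

section Alg
open TensorProduct

/-- copy of a ring, to carry a second algebra structure -/
def Cp (B : Type u) : Type u := B

noncomputable instance instCommRingCp (B : Type u) [CommRing B] : CommRing (Cp B) :=
  inferInstanceAs (CommRing B)

variable {A B D : Type u} [CommRing A] [CommRing B] [CommRing D]

lemma norm_bc (s u : A →+* B) (g h : B →+* D)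
    (hpo : IsPushout (CommRingCat.ofHom u) (CommRingCat.ofHom s) (CommRingCat.ofHom g)
      (CommRingCat.ofHom h))
    {ι : Type u} [Fintype ι] [DecidableEq ι]
    (b : letI := s.toAlgebra; Module.Basis ι A B) (y : B) :
    letI := s.toAlgebra
    letI : Algebra (Cp B) D := RingHom.toAlgebra (show Cp B →+* D from g)
    Algebra.norm (Cp B) (h y) = (show Cp B from u (Algebra.norm A y)) := by
  letI : Algebra A B := s.toAlgebra
  letI iACp : Algebra A (Cp B) := RingHom.toAlgebra (show A →+* Cp B from u)
  letI iCpD : Algebra (Cp B) D := RingHom.toAlgebra (show Cp B →+* D from g)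
  letI iBD : Algebra B D := h.toAlgebra
  letI iAD : Algebra A D := (h.comp s).toAlgebra
  haveI : IsScalarTower A B D := IsScalarTower.of_algebraMap_eq (fun _ => rfl)
  haveI : IsScalarTower A (Cp B) D := IsScalarTower.of_algebraMap_eq (fun a => by
    have := congrArg (fun φ => φ.hom a) hpo.w
    exact this.symm)
  have hP : Algebra.IsPushout A (Cp B) B D := CommRingCat.isPushout_iff_isPushout.mp hpo
  have hbD : ∀ i, hP.out.basis b i = h (b i) := fun i => by
    rw [IsBaseChange.basis_apply]; rfl
  have hM : Algebra.leftMulMatrix (hP.out.basis b) (h y) =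
      (Algebra.leftMulMatrix b y).map (show A →+* Cp B from u) := by
    ext i j
    rw [Algebra.leftMulMatrix_eq_repr_mul, Matrix.map_apply, Algebra.leftMulMatrix_eq_repr_mul,
      hbD, ← map_mul]
    exact IsBaseChange.basis_repr_comp_apply b hP.out (y * b j) i
  rw [Algebra.norm_eq_matrix_det (hP.out.basis b), hM, Algebra.norm_eq_matrix_det b]
  exact (RingHom.map_det (show A →+* Cp B from u) _).symm

theorem alg (s t : A →+* B) (f g c : B →+* D)
    (hpo1 : IsPushout (CommRingCat.ofHom t) (CommRingCat.ofHom s) (CommRingCat.ofHom g)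
      (CommRingCat.ofHom f))
    (hpo2 : IsPushout (CommRingCat.ofHom s) (CommRingCat.ofHom s) (CommRingCat.ofHom g)
      (CommRingCat.ofHom c))
    (hct : ∀ a, c (t a) = f (t a)) (x : A) :
    letI := s.toAlgebra
    s (Algebra.norm A (t x)) = t (Algebra.norm A (t x)) := by
  classical
  letI : Algebra A B := s.toAlgebra
  by_cases hb : ∃ s' : Finset B, Nonempty (Module.Basis s' A B)
  · obtain ⟨s', ⟨b⟩⟩ := hb
    have h1 := norm_bc s t g f hpo1 b (t x)
    have h2 := norm_bc s s g c hpo2 b (t x)
    rw [hct] at h2
    exact h2.symm.trans h1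
  · rw [Algebra.norm_eq_one_of_not_exists_basis _ hb, map_one, map_one]

end Alg

/-- Let (U, R, s, t, c) be a groupoid scheme with U, R affine and s, t finite locally free. For f ∈
Γ(U), the norm along s♯ of t♯(f) is an R-invariant function. (Mathlib's norm is the determinant when
Γ(R) is free over Γ(U) via s♯ and 1 otherwise; the content is the free case, e.g. after localizing
U.) (A groupoid scheme carries U, R, s, t, c, e, i over S with the groupoid axioms on T-points;
'finite locally free' is finite, flat and locally of finite presentation; C ⊂ Γ(U) is the ring of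
functions a with s♯(a) = t♯(a) and M = Spec C.) -/
theorem result (S : Scheme.{u}) (G : Grpd.GroupoidScheme S) [IsAffine G.U] [IsAffine G.R] [IsFinite G.s] [Flat G.s] [LocallyOfFinitePresentation G.s] [IsFinite G.t] [Flat G.t] [LocallyOfFinitePresentation G.t] (f : Γ(G.U, ⊤)) : G.normST f ∈ G.invariants := by
  have hpo1 : IsPushout (CommRingCat.ofHom G.t.appTop.hom) (CommRingCat.ofHom G.s.appTop.hom)
      (CommRingCat.ofHom (pullback.snd G.s G.t).appTop.hom)
      (CommRingCat.ofHom (pullback.fst G.s G.t).appTop.hom) :=
    (isPushout_appTop_of_isPullback (IsPullback.of_hasPullback G.s G.t)).flip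
  have hpo2 : IsPushout (CommRingCat.ofHom G.s.appTop.hom) (CommRingCat.ofHom G.s.appTop.hom)
      (CommRingCat.ofHom (pullback.snd G.s G.t).appTop.hom)
      (CommRingCat.ofHom G.c.appTop.hom) :=
    (isPushout_appTop_of_isPullback
      (Groth.Agent.Helper5.GrpdLib.isPullback_c_snd (G := G))).flip
  have hct : ∀ a, G.c.appTop.hom (G.t.appTop.hom a) =
      (pullback.fst G.s G.t).appTop.hom (G.t.appTop.hom a) := fun a => by
    have := congrArg (fun φ : pullback G.s G.t ⟶ G.U => φ.appTop.hom a)
      (Groth.Agent.Helper5.GrpdLib.c_t (G := G))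
    simpa using this
  exact alg G.s.appTop.hom G.t.appTop.hom (pullback.fst G.s G.t).appTop.hom
    (pullback.snd G.s G.t).appTop.hom G.c.appTop.hom hpo1 hpo2 hct f

end Groth.Agent.S1880
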