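import Groth.Statements.S18801
import Mathlib

set_option autoImplicit false
universe u v w w' w''
open CategoryTheory
open DefMod

namespace Groth.Agent.S18801


/-- Colon formula for flat modules: if `ε • y ∈ J F` then `y ∈ (J : ε) F`. -/
theorem flat_colon {R : Type*} [CommRing R] {F : Type*} [AddCommGroup F] [Module R F]
    [Module.Flat R F] (J : Ideal R) (ε : R) (y : F)
    (h : ε • y ∈ J • (⊤ : Submodule R F)) (I' : Ideal R) (hI' : ∀ a, ε * a ∈ J → a ∈ I') :
    y ∈ I' • (⊤ : Submodule R F) := by
  classical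
  have h' : ε • y ∈ J • Submodule.span R (Set.range (id : F → F)) := by
    rw [Set.range_id, Submodule.span_univ]; exact h
  obtain ⟨a, ha, hsum⟩ := (Submodule.mem_ideal_smul_span_iff_exists_sum J (id : F → F) (ε • y)).mp h'
  let f : Option a.support → R := fun o => Option.elim o ε (fun i => - a i)
  let x : Option a.support → F := fun o => Option.elim o y (fun i => (i : F))
  have hrel : ∑ o, f o • x o = 0 := by
    rw [Fintype.sum_option]
    simp only [f, x, Option.elim_none, Option.elim_some, neg_smul, Finset.sum_neg_distrib]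
    rw [← hsum, Finsupp.sum, ← Finset.sum_coe_sort a.support (fun i => a i • id i)]
    simp
  obtain ⟨k, A, w, hx, hA⟩ := Module.Flat.isTrivialRelation_of_sum_smul_eq_zero hrel
  have hy : y = ∑ j, A none j • w j := hx none
  rw [hy]
  refine Submodule.sum_mem _ fun j _ => Submodule.smul_mem_smul (hI' _ ?_) Submodule.mem_top
  have hj := hA j
  rw [Fintype.sum_option] at hj
  simp only [f, Option.elim_none, Option.elim_some, neg_mul, Finset.sum_neg_distrib] at hj
  rw [add_neg_eq_zero] at hj
  rw [hj]
  exact J.sum_mem fun i _ => J.mul_mem_right _ (ha i)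

/-- Endomorphisms of a deformation of a module with only scalar endomorphisms are scalars. -/
theorem endo_scalar {K : Type*} [Field K] {D : Type*} [Ring D]
    {E : Type*} [AddCommGroup E] [Module K E] [Module D E]
    (hE : ∀ ψ : E →ₗ[D] E, ∃ c : K, ∀ y : E, ψ y = c • y)
    {R : Type*} [CommRing R] [IsLocalRing R] [IsArtinianRing R]
    (res : R → K) (sec : K → R) (hsec : ∀ c, res (sec c) = c)
    (hres : ∀ a, a ∈ IsLocalRing.maximalIdeal R ↔ res a = 0)
    {F : Type*} [AddCommGroup F] [Module R F] [Module D F] [SMulCommClass R D F]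
    [Module.Flat R F]
    (θ : F →ₗ[D] E) (hθ : ∀ (r : R) (x : F), θ (r • x) = res r • θ x)
    (hθsurj : Function.Surjective θ)
    (hθker : ∀ x : F, θ x = 0 ↔ x ∈ IsLocalRing.maximalIdeal R • (⊤ : Submodule R F))
    (α : F →ₗ[R] F) (hαD : ∀ (d : D) (x : F), α (d • x) = d • α x) :
    ∃ r : R, ∀ x, α x = r • x := by
  classical
  haveI : IsNoetherianRing R := inferInstance
  have Dstable : ∀ (L : Ideal R) (d : D) (w : F), w ∈ L • (⊤ : Submodule R F) →
      d • w ∈ L • (⊤ : Submodule R F) := by
    intro L d w hw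
    refine Submodule.smul_induction_on hw (fun r hr n _ => ?_) (fun x y hx hy => ?_)
    · rw [← smul_comm r d n]
      exact Submodule.smul_mem_smul hr Submodule.mem_top
    · rw [smul_add]; exact Submodule.add_mem _ hx hy
  suffices H : ∀ J : Ideal R, ∃ r : R, ∀ x, α x - r • x ∈ J • (⊤ : Submodule R F) by
    obtain ⟨r, hr⟩ := H ⊥
    refine ⟨r, fun x => ?_⟩
    have := hr x
    rw [Submodule.bot_smul, Submodule.mem_bot, sub_eq_zero] at this
    exact this
  intro J
  refine IsNoetherian.induction (P := fun J : Submodule R R =>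
    ∃ r : R, ∀ x, α x - r • x ∈ (J : Ideal R) • (⊤ : Submodule R F)) ?_ J
  intro (J : Ideal R) ih
  by_cases hJ : J = ⊤
  · refine ⟨0, fun x => ?_⟩
    rw [hJ, Submodule.top_smul]
    exact Submodule.mem_top
  have hne : {L : Ideal R | J < L}.Nonempty := ⟨⊤, lt_top_iff_ne_top.mpr hJ⟩
  obtain ⟨J', hJ'gt, hmin⟩ := IsArtinian.set_has_minimal {L : Ideal R | J < L} hne
  have hJ'gt : J < J' := hJ'gt
  have hmin' : ∀ L : Ideal R, J < L → L ≤ J' → L = J' := fun L hL hLJ =>
    eq_of_le_of_not_lt hLJ (hmin L hL)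
  obtain ⟨ε, hεJ', hεJ⟩ := SetLike.exists_of_lt hJ'gt
  have hJ'eq : J' = J ⊔ Ideal.span {ε} := by
    refine (hmin' _ ?_ ?_).symm
    · refine lt_of_le_of_ne le_sup_left fun heq => hεJ ?_
      rw [heq]
      exact Ideal.mem_sup_right (Ideal.mem_span_singleton_self ε)
    · exact sup_le hJ'gt.le ((Ideal.span_singleton_le_iff_mem _).mpr hεJ')
  have hmε : ∀ a ∈ IsLocalRing.maximalIdeal R, a * ε ∈ J := by
    by_contra hcon
    push Not at hcon
    obtain ⟨a, ha, haε⟩ := hcon
    have hL : J ⊔ IsLocalRing.maximalIdeal R * Ideal.span {ε} = J' := by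
      refine hmin' _ ?_ ?_
      · refine lt_of_le_of_ne le_sup_left fun heq => haε ?_
        rw [heq]
        exact Ideal.mem_sup_right (Ideal.mul_mem_mul ha (Ideal.mem_span_singleton_self ε))
      · refine sup_le hJ'gt.le ?_
        exact (Ideal.mul_le_inf.trans inf_le_right).trans ((Ideal.span_singleton_le_iff_mem _).mpr hεJ')
    have hle : J' ≤ J ⊔ IsLocalRing.maximalIdeal R • J' := by
      conv_lhs => rw [← hL]
      refine sup_le_sup_left ?_ _
      rw [smul_eq_mul]
      exact Ideal.mul_mono_right ((Ideal.span_singleton_le_iff_mem _).mpr hεJ')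
    have := Submodule.le_of_le_smul_of_le_jacobson_bot (IsNoetherian.noetherian J')
      (IsLocalRing.maximalIdeal_le_jacobson ⊥) hle
    exact not_le_of_gt hJ'gt this
  have hcolon : ∀ a, ε * a ∈ J → a ∈ IsLocalRing.maximalIdeal R := by
    intro a ha
    by_contra hna
    obtain ⟨v, rfl⟩ := IsLocalRing.notMem_maximalIdeal.mp hna
    apply hεJ
    have := J.mul_mem_right (↑v⁻¹ : R) ha
    rwa [mul_assoc, Units.mul_inv, mul_one] at this
  have hmJ' : ∀ a ∈ IsLocalRing.maximalIdeal R, ∀ b ∈ J', a * b ∈ J := by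
    intro a ha b hb
    rw [hJ'eq] at hb
    obtain ⟨j, hj, e, he, rfl⟩ := Submodule.mem_sup.mp hb
    obtain ⟨c, rfl⟩ := Ideal.mem_span_singleton'.mp he
    rw [mul_add]
    refine J.add_mem (J.mul_mem_left _ hj) ?_
    rw [← mul_assoc, mul_comm a c, mul_assoc]
    exact J.mul_mem_left _ (hmε a ha)
  obtain ⟨r₀, hr₀⟩ := ih J' hJ'gt
  let γ : F →ₗ[R] F := α - r₀ • LinearMap.id
  have hγ : ∀ x, γ x = α x - r₀ • x := fun x => by
    simp [γ]
  have hγD : ∀ (d : D) (x : F), γ (d • x) = d • γ x := by
    intro d x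
    rw [hγ, hγ, hαD, smul_sub, smul_comm r₀ d x]
  have hγJ' : ∀ x, γ x ∈ J' • (⊤ : Submodule R F) := fun x => by rw [hγ]; exact hr₀ x
  have K1 : ∀ y, ε • y ∈ J • (⊤ : Submodule R F) → θ y = 0 := fun y hy =>
    (hθker y).mpr (flat_colon J ε y hy _ hcolon)
  have K2 : ∀ x, θ x = 0 → γ x ∈ J • (⊤ : Submodule R F) := by
    intro x hx
    have hx' := (hθker x).mp hx
    refine Submodule.smul_induction_on hx' (fun a ha n _ => ?_) (fun x y hx hy => ?_)
    · rw [map_smul]
      refine Submodule.smul_induction_on (hγJ' n) (fun b hb n' _ => ?_) (fun x y hx hy => ?_)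
      · rw [smul_smul]
        exact Submodule.smul_mem_smul (hmJ' a ha b hb) Submodule.mem_top
      · rw [smul_add]; exact Submodule.add_mem _ hx hy
    · rw [map_add]; exact Submodule.add_mem _ hx hy
  have K3 : ∀ x, ∃ y, γ x - ε • y ∈ J • (⊤ : Submodule R F) := by
    intro x
    have hx := hγJ' x
    rw [hJ'eq, Submodule.sup_smul] at hx
    obtain ⟨w₁, hw₁, w₂, hw₂, hw⟩ := Submodule.mem_sup.mp hx
    rw [Submodule.ideal_span_singleton_smul, Submodule.mem_smul_pointwise_iff_exists] at hw₂
    obtain ⟨y, -, rfl⟩ := hw₂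
    refine ⟨y, ?_⟩
    rw [← hw, add_sub_cancel_right]
    exact hw₁
  choose g hg using hθsurj
  choose h hh using K3
  have C : ∀ x y, γ x - ε • y ∈ J • (⊤ : Submodule R F) → θ y = θ (h (g (θ x))) := by
    intro x y hxy
    have h1 : θ (x - g (θ x)) = 0 := by rw [map_sub, hg, sub_self]
    have h2 := K2 _ h1
    have h3 := hh (g (θ x))
    have h4 : ε • (y - h (g (θ x))) ∈ J • (⊤ : Submodule R F) := by
      have : ε • (y - h (g (θ x))) =
          -(γ x - ε • y) + γ (x - g (θ x)) + (γ (g (θ x)) - ε • h (g (θ x))) := by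
        rw [map_sub, smul_sub]; abel
      rw [this]
      exact Submodule.add_mem _ (Submodule.add_mem _ (Submodule.neg_mem _ hxy) h2) h3
    have h5 := K1 _ h4
    rw [map_sub, sub_eq_zero] at h5
    exact h5
  let ψ : E →ₗ[D] E :=
    { toFun := fun e => θ (h (g e))
      map_add' := fun e₁ e₂ => by
        have := C (g e₁ + g e₂) (h (g e₁) + h (g e₂)) (by
          rw [map_add, smul_add, add_sub_add_comm]
          exact Submodule.add_mem _ (hh _) (hh _))
        rw [map_add, map_add, hg, hg] at this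
        exact this.symm
      map_smul' := fun d e => by
        have := C (d • g e) (d • h (g e)) (by
          have : γ (d • g e) - ε • d • h (g e) = d • (γ (g e) - ε • h (g e)) := by
            rw [hγD, smul_sub, smul_comm ε d]
          rw [this]; exact Dstable J d _ (hh _))
        rw [map_smul, map_smul, hg] at this
        simpa using this.symm }
  obtain ⟨c, hc⟩ := hE ψ
  refine ⟨r₀ + sec c * ε, fun x => ?_⟩
  have h1 : θ (h x) = θ (h (g (θ x))) := C x (h x) (hh x)
  have h2 : θ (h x - sec c • x) = 0 := by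
    rw [map_sub, hθ, hsec, h1]
    exact sub_eq_zero.mpr (hc (θ x))
  have h3 := (hθker _).mp h2
  have h4 : ε • (h x - sec c • x) ∈ J • (⊤ : Submodule R F) := by
    refine Submodule.smul_induction_on h3 (fun a ha n _ => ?_) (fun x y hx hy => ?_)
    · rw [smul_smul, mul_comm]
      exact Submodule.smul_mem_smul (hmε a ha) Submodule.mem_top
    · rw [smul_add]; exact Submodule.add_mem _ hx hy
  have h5 : α x - (r₀ + sec c * ε) • x = (γ x - ε • h x) + ε • (h x - sec c • x) := by
    rw [hγ, add_smul, mul_comm (sec c) ε, mul_smul, smul_sub]; abel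
  rw [h5]
  exact Submodule.add_mem _ (hh x) h4

/-- Fix a field K of characteristic zero and an associative K-algebra D, and suppose E is a nonzero left
D-module whose only D-linear endomorphisms are scalars from K. Take a surjection π : R' → R between
Artinian local K-algebras, each having residue field K. Suppose (F', θ') is a deformation of E over
R' and (F, θ) one over R (meaning: the ring and D-actions commute, the module is flat, and θ' resp.
θ is D-linear, semilinear with respect to the augmentation, onto, and has kernel m_{R'} F' resp. m_R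
F). Suppose further that u : F' → F is a morphism of deformations lying over π, i.e. u is D-linear,
π-semilinear, satisfies θ ∘ u = θ', is onto, and has kernel (ker π) F' (hence u induces R ⊗_{R'} F'
≅ F). Under these assumptions the map Aut(F', θ') → Aut(F, θ) is onto: given any bijection α of F
that is both R-linear and D-linear with θ ∘ α = θ, there exists an R'-linear, D-linear bijection α'
of F' satisfying θ' ∘ α' = θ' and u ∘ α' = α ∘ u. (The second assertion of the corollary, namely
that E has a prorepresentable deformation functor once Ext¹_D(E, E) is additionally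
finite-dimensional, is not formalized here.) -/
theorem result
    {K : Type u} [Field K] [CharZero K]
    {D : Type v} [Ring D] [Algebra K D]
    {E : Type w} [AddCommGroup E] [Module K E] [Module D E] [IsScalarTower K D E] [Nontrivial E]
    (hE : ∀ ψ : E →ₗ[D] E, ∃ c : K, ∀ y : E, ψ y = c • y)
    {R' R : ArtFun.Art K K} (π : R' ⟶ R) (hπ : Function.Surjective π)
    {F' : Type w''} [AddCommGroup F'] [Module K F'] [Module R' F'] [Module D F']
    [IsScalarTower K R' F'] [IsScalarTower K D F'] [SMulCommClass R' D F'] [Module.Flat R' F']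
    (θ' : F' →ₗ[D] E) (hθ' : ∀ (r : R') (x : F'), θ' (r • x) = R'.res r • θ' x)
    (hθ'surj : Function.Surjective θ')
    (hθ'ker : ∀ x : F', θ' x = 0 ↔ x ∈ IsLocalRing.maximalIdeal R' • (⊤ : Submodule R' F'))
    {F : Type w'} [AddCommGroup F] [Module K F] [Module R F] [Module D F]
    [IsScalarTower K R F] [IsScalarTower K D F] [SMulCommClass R D F] [Module.Flat R F]
    (θ : F →ₗ[D] E) (hθ : ∀ (r : R) (x : F), θ (r • x) = R.res r • θ x)
    (hθsurj : Function.Surjective θ)
    (hθker : ∀ x : F, θ x = 0 ↔ x ∈ IsLocalRing.maximalIdeal R • (⊤ : Submodule R F))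
    (u : F' →ₗ[D] F) (huπ : ∀ (r : R') (x : F'), u (r • x) = π r • u x)
    (huθ : ∀ x : F', θ (u x) = θ' x) (husurj : Function.Surjective u)
    (huker : ∀ x : F', u x = 0 ↔ x ∈ (RingHom.ker π.toAlgHom) • (⊤ : Submodule R' F'))
    (α : F →ₗ[R] F) (hαD : ∀ (d : D) (x : F), α (d • x) = d • α x) (hαθ : ∀ x : F, θ (α x) = θ x)
    (hαbij : Function.Bijective α) :
    ∃ α' : F' →ₗ[R'] F', (∀ (d : D) (x : F'), α' (d • x) = d • α' x) ∧ (∀ x : F', θ' (α' x) = θ' x) ∧
      Function.Bijective α' ∧ ∀ x : F', u (α' x) = α (u x) := by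
  classical
  obtain ⟨r, hr⟩ := endo_scalar hE (⇑R.res) (⇑(algebraMap K R)) (fun c => by simp)
    (fun a => ArtFun.Art.mem_maximalIdeal_iff R a) θ hθ hθsurj hθker α hαD
  -- res r = 1
  have hres1 : R.res r = 1 := by
    obtain ⟨e, he⟩ := exists_ne (0 : E)
    obtain ⟨x, rfl⟩ := hθsurj e
    have h1 : R.res r • θ x = θ x := by rw [← hθ, ← hr, hαθ]
    by_contra hne
    have hne' : R.res r - 1 ≠ 0 := sub_ne_zero.mpr hne
    have h2 : (R.res r - 1) • θ x = 0 := by rw [sub_smul, one_smul, h1, sub_self]
    have h3 := congrArg (fun z => (R.res r - 1)⁻¹ • z) h2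
    simp only [smul_smul, inv_mul_cancel₀ hne', one_smul, smul_zero] at h3
    exact he h3
  obtain ⟨r', hr'⟩ := hπ r
  have hres' : R'.res r' = 1 := by
    rw [← ArtFun.Art.res_app π r', hr', hres1]
  have hunit : IsUnit r' := by
    apply IsLocalRing.notMem_maximalIdeal.mp
    rw [ArtFun.Art.mem_maximalIdeal_iff, hres']
    exact one_ne_zero
  obtain ⟨v, hv⟩ := hunit
  refine ⟨r' • LinearMap.id, fun d x => ?_, fun x => ?_, ⟨fun x y hxy => ?_, fun y => ?_⟩, fun x => ?_⟩
  · simp only [LinearMap.smul_apply, LinearMap.id_apply]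
    exact smul_comm r' d x
  · simp only [LinearMap.smul_apply, LinearMap.id_apply]
    rw [hθ', hres', one_smul]
  · simp only [LinearMap.smul_apply, LinearMap.id_apply] at hxy
    have := congrArg (fun z => (↑v⁻¹ : R') • z) hxy
    simp only [smul_smul, ← hv, Units.inv_mul, one_smul] at this
    exact this
  · refine ⟨(↑v⁻¹ : R') • y, ?_⟩
    simp only [LinearMap.smul_apply, LinearMap.id_apply]
    rw [smul_smul, ← hv, Units.mul_inv, one_smul]
  · simp only [LinearMap.smul_apply, LinearMap.id_apply]
    rw [huπ, hr', hr]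

end Groth.Agent.S18801
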