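import Groth.Statements.S18802
import Mathlib

set_option autoImplicit false
universe u v w w' w''
open DefMod

namespace Groth.Agent.S18802

/-- Let K be a field of characteristic zero, D an associative K-algebra and E, F left D-modules. A
K-linear map s : D → Hom_K(E, F) with s(ab)(e) = a s(b)(e) + s(a)(b e) (a derivation into the
bimodule Hom_K(E, F), i.e. a Hochschild 1-cocycle) defines the twisted sum F ⊕_s E = F × E with a ·
(f, e) = (a f + s(a) e, a e), an extension of E by F. Every extension of left D-modules 0 → F → Q →
E → 0 arises this way: there are such an s and a D-linear isomorphism Q ≅ F ⊕_s E carrying the given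
map F → Q to the inclusion f ↦ (f, 0) and compatible with the two projections onto E. (Together with
the splitting criterion this identifies derivations modulo principal derivations with Ext¹_D(E, F);
the compatibility of that identification with addition and scalars is not restated.) -/
theorem result
    {K : Type u} [Field K] [CharZero K]
    {D : Type v} [Ring D] [Algebra K D]
    {E : Type w} [AddCommGroup E] [Module K E] [Module D E] [IsScalarTower K D E]
    {F : Type w'} [AddCommGroup F] [Module K F] [Module D F] [IsScalarTower K D F]
    {Q : Type w''} [AddCommGroup Q] [Module D Q]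
    (i : F →ₗ[D] Q) (p : Q →ₗ[D] E) (hi : Function.Injective i) (hp : Function.Surjective p)
    (hex : Function.Exact i p) :
    ∃ (s : D →ₗ[K] E →ₗ[K] F) (hs : W4c6defoisocp1.IsHomDerivation s) (Φ : Q ≃ₗ[D] W4c6defoisocp1.TwistExt s hs),
      (∀ f : F, Φ (i f) = W4c6defoisocp1.TwistExt.inl f) ∧ ∀ q : Q, W4c6defoisocp1.TwistExt.snd (Φ q) = p q := by
  open W4c6defoisocp1 in
  classical
  letI mKQ : Module K Q := Module.compHom Q (algebraMap K D)
  haveI towerQ : IsScalarTower K D Q := ⟨fun c a q => by
    show (c • a) • q = algebraMap K D c • (a • q)
    rw [Algebra.smul_def, mul_smul]⟩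
  -- K-linear section of p
  obtain ⟨t, ht⟩ := (p.restrictScalars K).exists_rightInverse_of_surjective
    (LinearMap.range_eq_top.mpr hp)
  have htp : ∀ e, p (t e) = e := fun e => LinearMap.congr_fun ht e
  have hker : LinearMap.ker p = LinearMap.range i := LinearMap.exact_iff.mp hex
  -- retraction from ker p to F
  let r : ↥(LinearMap.ker p) →ₗ[D] F :=
    (LinearEquiv.ofInjective i hi).symm.toLinearMap ∘ₗ (LinearEquiv.ofEq _ _ hker).toLinearMap
  have hr : ∀ x : ↥(LinearMap.ker p), i (r x) = x.1 := by
    intro x
    show i ((LinearEquiv.ofInjective i hi).symm (LinearEquiv.ofEq _ _ hker x)) = x.1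
    have := LinearEquiv.apply_symm_apply (LinearEquiv.ofInjective i hi) (LinearEquiv.ofEq _ _ hker x)
    have h2 := congrArg Subtype.val this
    rw [LinearEquiv.ofInjective_apply] at h2
    exact h2
  have hri : ∀ (f : F) (h : i f ∈ LinearMap.ker p), r ⟨i f, h⟩ = f := by
    intro f h
    apply hi
    rw [hr]
  have hmem : ∀ (a : D) (e : E), a • t e - t (a • e) ∈ LinearMap.ker p := by
    intro a e
    rw [LinearMap.mem_ker, map_sub, map_smul, htp, htp, sub_self]
  have hcQ : ∀ (c : K) (q : Q), c • q = algebraMap K D c • q := fun c q => rfl
  have htc : ∀ (c : K) (e : E), t (c • e) = algebraMap K D c • t e := fun c e => by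
    rw [map_smul]; rfl
  have hcF : ∀ (c : K) (f : F), c • f = algebraMap K D c • f := fun c f =>
    (algebraMap_smul D c f).symm
  have hcE : ∀ (c : K) (e : E), c • e = algebraMap K D c • e := fun c e =>
    (algebraMap_smul D c e).symm
  let s : D →ₗ[K] E →ₗ[K] F :=
    { toFun := fun a =>
        { toFun := fun e => r ⟨a • t e - t (a • e), hmem a e⟩
          map_add' := by
            intro e e'
            apply hi
            rw [hr, i.map_add, hr, hr]
            simp only [smul_add, map_add]
            abel
          map_smul' := by
            intro c e
            apply hi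
            rw [RingHom.id_apply, hcF, hr, i.map_smul, hr]
            simp only [smul_sub]
            rw [htc, hcE c e, ← mul_smul a, ← Algebra.commutes, mul_smul, ← mul_smul a,
              ← Algebra.commutes, mul_smul, ← hcE, htc] }
      map_add' := by
        intro a b
        ext e
        show r _ = r _ + r _
        apply hi
        rw [hr, i.map_add, hr, hr]
        simp only [add_smul, map_add]
        abel
      map_smul' := by
        intro c a
        ext e
        show r _ = c • r _
        apply hi
        rw [hcF, hr, i.map_smul, hr]
        simp only [smul_sub]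
        rw [Algebra.smul_def, mul_smul, mul_smul, ← hcE, htc] }
  have hsdef : ∀ a e, i (s a e) = a • t e - t (a • e) := fun a e => hr _
  have hs : IsHomDerivation s := by
    intro a b e
    apply hi
    rw [map_add, map_smul, hsdef, hsdef, hsdef, mul_smul, mul_smul, smul_sub]
    abel
  have hmem2 : ∀ q : Q, q - t (p q) ∈ LinearMap.ker p := by
    intro q
    rw [LinearMap.mem_ker, map_sub, htp, sub_self]
  let Φ : Q ≃ₗ[D] TwistExt s hs :=
    { toFun := fun q => TwistExt.mk (r ⟨q - t (p q), hmem2 q⟩, p q)
      map_add' := by
        intro q q'
        apply TwistExt.ext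
        · simp only [TwistExt.val_mk, TwistExt.val_add, Prod.fst_add]
          apply hi
          rw [hr, i.map_add, hr, hr]
          simp only [map_add]
          abel
        · simp
      map_smul' := by
        intro a q
        apply TwistExt.ext
        · simp only [TwistExt.val_mk, TwistExt.val_smul, RingHom.id_apply]
          apply hi
          rw [hr, i.map_add, i.map_smul, hr, hsdef]
          show a • q - t (p (a • q)) = a • (q - t (p q)) + (a • t (p q) - t (a • p q))
          rw [p.map_smul, smul_sub]
          abel
        · simp
      invFun := fun x => i (TwistExt.val x).1 + t (TwistExt.val x).2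
      left_inv := by
        intro q
        simp only [TwistExt.val_mk, hr]
        abel
      right_inv := by
        intro x
        apply TwistExt.ext
        · simp only [TwistExt.val_mk]
          apply hi
          rw [hr]
          have : p (i (TwistExt.val x).1) = 0 := hex.apply_apply_eq_zero _
          simp only [map_add, htp, this, zero_add]
          abel
        · simp only [TwistExt.val_mk, map_add, htp]
          have : p (i (TwistExt.val x).1) = 0 := hex.apply_apply_eq_zero _
          rw [this, zero_add] }
  refine ⟨s, hs, Φ, ?_, ?_⟩
  · intro f
    apply TwistExt.ext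
    · show r ⟨i f - t (p (i f)), hmem2 (i f)⟩ = f
      apply hi
      rw [hr]
      have : p (i f) = 0 := hex.apply_apply_eq_zero _
      simp [this]
    · show p (i f) = 0
      exact hex.apply_apply_eq_zero _
  · intro q
    rfl

end Groth.Agent.S18802
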