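import Groth.Statements.S18806
import Mathlib
import Groth.Agent.H29.Comod

set_option autoImplicit false
universe u v v' w w' x
open TensorProduct
open HopfRep

namespace Groth.Agent.S18806

/-- Let k be a field, i : C → D an injective morphism of k-coalgebras and V a right D-comodule with
coaction ρ : V → V ⊗ D. If ρ(v) lies in the image of V ⊗ C → V ⊗ D (induced by i) for every v, then
V comes from a C-comodule: there is a C-comodule structure on V whose coaction, followed by V ⊗ C →
V ⊗ D, is ρ. (The source states this for left comodules over the coordinate bialgebras of an affine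
monoid scheme over k and of its group of units, assumed open and schematically dense, and uses that
assumption only through the injectivity of the restriction map of coordinate rings; the row is the
right-comodule mirror image for any injective coalgebra map. The converse direction is immediate.) -/
theorem result (k : Type u) [Field k]
    (C : Type v) [AddCommGroup C] [Module k C] [Coalgebra k C]
    (D : Type v') [AddCommGroup D] [Module k D] [Coalgebra k D]
    (i : C →ₗc[k] D) (hi : Function.Injective i)
    (V : Type w) [AddCommGroup V] [Module k V] [HopfRep.Comod k D V]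
    (h : ∀ v : V, HopfRep.Comod.coact (k := k) (A := D) v ∈ LinearMap.range ((i : C →ₗ[k] D).lTensor V)) :
    ∃ c : HopfRep.Comod k C V,
      (i : C →ₗ[k] D).lTensor V ∘ₗ c.coact = HopfRep.Comod.coact (k := k) (A := D) := by
  have hi' : Function.Injective (i : C →ₗ[k] D) := fun a b h => hi h
  have hinj : Function.Injective ((i : C →ₗ[k] D).lTensor V) :=
    Module.Flat.lTensor_preserves_injective_linearMap _ hi'
  let e := LinearEquiv.ofInjective ((i : C →ₗ[k] D).lTensor V) hinj
  let ρ : V →ₗ[k] V ⊗[k] D := HopfRep.Comod.coact (k := k) (A := D)
  let c : V →ₗ[k] V ⊗[k] C := e.symm.toLinearMap ∘ₗ (ρ.codRestrict _ h)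
  have hc : (i : C →ₗ[k] D).lTensor V ∘ₗ c = ρ := by
    ext v
    simp only [c, LinearMap.comp_apply, LinearEquiv.coe_coe]
    have h3 := e.apply_symm_apply (ρ.codRestrict _ h v)
    exact congrArg Subtype.val h3
  have hinj2 : Function.Injective
      ((TensorProduct.map (i : C →ₗ[k] D) (i : C →ₗ[k] D)).lTensor V) :=
    Module.Flat.lTensor_preserves_injective_linearMap _
      (TensorProduct.map_injective_of_flat_flat _ _ hi' hi')
  refine ⟨{ coact := c, coassoc := ?_, counit_comp := ?_ }, hc⟩
  · ext v
    apply hinj2
    simp only [LinearMap.comp_apply, LinearEquiv.coe_coe]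
    rw [← Groth.Agent.H29.assoc_rTensor_lTensor, hc]
    have h1 : (i : C →ₗ[k] D).lTensor V (c v) = ρ v := LinearMap.congr_fun hc v
    rw [h1]
    have h2 := LinearMap.congr_fun (HopfRep.Comod.coassoc (k := k) (A := D) (V := V)) v
    simp only [LinearMap.comp_apply, LinearEquiv.coe_coe] at h2
    rw [h2, ← h1, ← LinearMap.lTensor_comp_apply, ← LinearMap.lTensor_comp_apply,
      CoalgHomClass.map_comp_comul i]
  · have h5 : (CoalgebraStruct.counit (R := k) (A := C)) =
        CoalgebraStruct.counit (R := k) (A := D) ∘ₗ (i : C →ₗ[k] D) :=
      (CoalgHomClass.counit_comp i).symm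
    rw [h5, LinearMap.lTensor_comp, LinearMap.comp_assoc, hc]
    exact HopfRep.Comod.counit_comp

end Groth.Agent.S18806
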