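import Groth.Statements.S18808
import Mathlib
import Groth.Agent.H29.TensorSub

set_option autoImplicit false
universe u v v' w w' x
open TensorProduct
open HopfRep

namespace Groth.Agent.S18808

/-- Let k be a field, i : C → D an injective morphism of k-coalgebras and V a right D-comodule with
coaction ρ. Call a D-subcomodule K of V admissible when the induced coaction of V/K, namely ρ
followed by the projection V ⊗ D → (V/K) ⊗ D, takes all its values in the image of (V/K) ⊗ C → (V/K)
⊗ D (so that V/K comes from a C-comodule). Then there is a least admissible D-subcomodule of V: V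
has a largest quotient D-comodule coming from C, through which every D-comodule map from V to a
comodule coming from C factors. (The source states this for left comodules over the coordinate
bialgebras of an affine monoid scheme and its open schematically dense group of units, as the
existence of a universal map from a representation of the unit group to a representation of the
monoid; it uses that assumption only through the injectivity of the restriction map.) -/
theorem result (k : Type u) [Field k]
    (C : Type v) [AddCommGroup C] [Module k C] [Coalgebra k C]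
    (D : Type v') [AddCommGroup D] [Module k D] [Coalgebra k D]
    (i : C →ₗc[k] D) (hi : Function.Injective i)
    (V : Type w) [AddCommGroup V] [Module k V] [HopfRep.Comod k D V] :
    ∃ K : Submodule k V, HopfRep.IsSubcomod (k := k) (A := D) K ∧
      (∀ v : V, K.mkQ.rTensor D (HopfRep.Comod.coact (k := k) (A := D) v) ∈
        LinearMap.range ((i : C →ₗ[k] D).lTensor (V ⧸ K))) ∧
      ∀ K' : Submodule k V, HopfRep.IsSubcomod (k := k) (A := D) K' →
        (∀ v : V, K'.mkQ.rTensor D (HopfRep.Comod.coact (k := k) (A := D) v) ∈
          LinearMap.range ((i : C →ₗ[k] D).lTensor (V ⧸ K'))) → K ≤ K' := by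
  classical
  set ρ : V →ₗ[k] V ⊗[k] D := HopfRep.Comod.coact (k := k) (A := D) with hρ
  set iL : C →ₗ[k] D := (i : C →ₗ[k] D) with hiL
  let π : D →ₗ[k] D ⧸ LinearMap.range iL := (LinearMap.range iL).mkQ
  let b := Module.Free.chooseBasis k D
  let b' := Module.Free.chooseBasis k (D ⧸ LinearMap.range iL)
  have hsub_iff : ∀ K : Submodule k V, HopfRep.IsSubcomod (k := k) (A := D) K ↔
      ∀ w ∈ K, ∀ j, TensorProduct.equivFinsuppOfBasisRight b (ρ w) j ∈ K := by
    intro K
    unfold HopfRep.IsSubcomod
    constructor
    · intro h w hw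
      exact (Groth.Agent.H29.mem_range_rTensor_subtype_iff K b _).mp (h w hw)
    · intro h w hw
      exact (Groth.Agent.H29.mem_range_rTensor_subtype_iff K b _).mpr (h w hw)
  have hadm_iff : ∀ K : Submodule k V,
      (∀ v : V, K.mkQ.rTensor D (ρ v) ∈ LinearMap.range (iL.lTensor (V ⧸ K))) ↔
      ∀ v : V, ∀ j, TensorProduct.equivFinsuppOfBasisRight b' (π.lTensor V (ρ v)) j ∈ K := by
    intro K
    have hex : Function.Exact iL π := LinearMap.exact_map_mkQ_range iL
    have hexK := lTensor_exact (V ⧸ K) hex (Submodule.mkQ_surjective _)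
    refine forall_congr' fun v => ?_
    rw [← Groth.Agent.H29.mem_range_rTensor_subtype_iff K b',
      Groth.Agent.H29.mem_range_rTensor_subtype_iff_mkQ, LinearMap.mem_range]
    show K.mkQ.rTensor D (ρ v) ∈ Set.range (iL.lTensor (V ⧸ K)) ↔ _
    rw [← hexK (K.mkQ.rTensor D (ρ v))]
    have e1 : (π.lTensor (V ⧸ K)) ((K.mkQ.rTensor D) (ρ v)) = TensorProduct.map K.mkQ π (ρ v) := by
      rw [← LinearMap.comp_apply, LinearMap.lTensor_comp_rTensor]
    have e2 : (K.mkQ.rTensor (D ⧸ LinearMap.range iL)) ((π.lTensor V) (ρ v)) =
        TensorProduct.map K.mkQ π (ρ v) := by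
      rw [← LinearMap.comp_apply, LinearMap.rTensor_comp_lTensor]
    rw [e1, e2]
  refine ⟨sInf {K' : Submodule k V | HopfRep.IsSubcomod (k := k) (A := D) K' ∧
      ∀ v : V, K'.mkQ.rTensor D (ρ v) ∈ LinearMap.range (iL.lTensor (V ⧸ K'))}, ?_, ?_, ?_⟩
  · rw [hsub_iff]
    intro w hw j
    rw [Submodule.mem_sInf] at hw ⊢
    intro K' hK'
    exact (hsub_iff K').mp hK'.1 w (hw K' hK') j
  · rw [hadm_iff]
    intro v j
    rw [Submodule.mem_sInf]
    intro K' hK'
    exact (hadm_iff K').mp hK'.2 v j
  · intro K' h1 h2
    exact sInf_le ⟨h1, h2⟩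

end Groth.Agent.S18808
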