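import Groth.Statements.S18810
import Mathlib
import Groth.Agent.H29.ComodDual

set_option autoImplicit false
universe u v v' w w' x
open TensorProduct
open HopfRep

namespace Groth.Agent.S18810

/-- Let k be a field, C a k-coalgebra, V a right C-comodule and (S_j) a family of simple C-comodules
which are pairwise non-isomorphic (for j ≠ j' no k-linear isomorphism S_j ≃ S_j' commutes with the
coactions). For each j let V[j] be the isotypic component of type S_j: the sum of the images of all
comodule maps S_j → V (equivalently of all simple subcomodules of V isomorphic to S_j, a nonzero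
such map being injective). Then the family j ↦ V[j] is independent, so that the socle of V is the
direct sum of its isotypic components. (The source states this for representations of an affine
monoid scheme over k, i.e. left comodules over its coordinate bialgebra; the row is the
right-comodule form over any coalgebra.) -/
theorem result (k : Type u) [Field k]
    (C : Type v) [AddCommGroup C] [Module k C] [Coalgebra k C]
    (V : Type w) [AddCommGroup V] [Module k V] [HopfRep.Comod k C V]
    {ι : Type x} (S : ι → Type w') [∀ j, AddCommGroup (S j)] [∀ j, Module k (S j)]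
    [∀ j, HopfRep.Comod k C (S j)] (hS : ∀ j, HopfRep.IsSimpleComod k C (S j))
    (hne : ∀ j j', j ≠ j' → ∀ e : S j ≃ₗ[k] S j', ¬ Hoch.IsComodHom C (e : S j →ₗ[k] S j')) :
    iSupIndep (fun j => ⨆ f : {f : S j →ₗ[k] V // Hoch.IsComodHom C f}, LinearMap.range f.1) := by
  classical
  let _ := Groth.Agent.H29.dualModule k C V
  let _ : ∀ j, Module (Groth.Agent.H29.DualAlg k C) (S j) :=
    fun j => Groth.Agent.H29.dualModule k C (S j)
  have hsimple : ∀ j, IsSimpleModule (Groth.Agent.H29.DualAlg k C) (S j) :=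
    fun j => Groth.Agent.H29.isSimpleModule_of_isSimpleComod k C (S j) (hS j)
  -- images of comodule maps from `S j'` lie in sums of copies of `S j'`
  have hrange : ∀ (j' : ι) (f : S j' →ₗ[k] V) (hf : Hoch.IsComodHom C f),
      Groth.Agent.H29.toDualHom (k := k) (C := C) f hf ≠ 0 →
      Nonempty (LinearMap.range (Groth.Agent.H29.toDualHom (k := k) (C := C) f hf)
        ≃ₗ[Groth.Agent.H29.DualAlg k C] S j') := by
    intro j' f hf hne0
    have := hsimple j'
    have hinj := (LinearMap.injective_or_eq_zero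
      (Groth.Agent.H29.toDualHom (k := k) (C := C) f hf)).resolve_right hne0
    exact ⟨(LinearEquiv.ofInjective _ hinj).symm⟩
  intro j
  rw [Submodule.disjoint_def]
  intro v hvA hvB
  -- the two ambient submodules over the dual algebra
  have hA : (⨆ f : {f : S j →ₗ[k] V // Hoch.IsComodHom C f}, LinearMap.range f.1) ≤
      Groth.Agent.H29.ofDualSub (isotypicComponent (Groth.Agent.H29.DualAlg k C) V (S j)) := by
    refine iSup_le fun f => ?_
    rintro _ ⟨s, rfl⟩
    rw [Groth.Agent.H29.mem_ofDualSub]
    by_cases h0 : Groth.Agent.H29.toDualHom (k := k) (C := C) f.1 f.2 = 0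
    · have h1 : f.1 s = 0 := congrArg (fun F => F s) h0
      rw [h1]
      exact Submodule.zero_mem _
    · have hmem : f.1 s ∈ LinearMap.range (Groth.Agent.H29.toDualHom (k := k) (C := C) f.1 f.2) :=
        ⟨s, rfl⟩
      have hs : LinearMap.range (Groth.Agent.H29.toDualHom (k := k) (C := C) f.1 f.2) ∈
          {m : Submodule (Groth.Agent.H29.DualAlg k C) V |
            Nonempty (m ≃ₗ[Groth.Agent.H29.DualAlg k C] S j)} := hrange j f.1 f.2 h0
      exact (le_sSup hs) hmem
  have hB : (⨆ (j') (_ : j' ≠ j), ⨆ f : {f : S j' →ₗ[k] V // Hoch.IsComodHom C f},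
        LinearMap.range f.1) ≤
      Groth.Agent.H29.ofDualSub (sSup {m : Submodule (Groth.Agent.H29.DualAlg k C) V |
        ∃ j', j' ≠ j ∧ Nonempty (m ≃ₗ[Groth.Agent.H29.DualAlg k C] S j')}) := by
    refine iSup_le fun j' => iSup_le fun hj' => iSup_le fun f => ?_
    rintro _ ⟨s, rfl⟩
    rw [Groth.Agent.H29.mem_ofDualSub]
    by_cases h0 : Groth.Agent.H29.toDualHom (k := k) (C := C) f.1 f.2 = 0
    · have h1 : f.1 s = 0 := congrArg (fun F => F s) h0
      rw [h1]
      exact Submodule.zero_mem _
    · have hmem : f.1 s ∈ LinearMap.range (Groth.Agent.H29.toDualHom (k := k) (C := C) f.1 f.2) :=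
        ⟨s, rfl⟩
      have hs : LinearMap.range (Groth.Agent.H29.toDualHom (k := k) (C := C) f.1 f.2) ∈
          {m : Submodule (Groth.Agent.H29.DualAlg k C) V |
            ∃ j', j' ≠ j ∧ Nonempty (m ≃ₗ[Groth.Agent.H29.DualAlg k C] S j')} :=
        ⟨j', hj', hrange j' f.1 f.2 h0⟩
      exact (le_sSup hs) hmem
  have hvA' : v ∈ isotypicComponent (Groth.Agent.H29.DualAlg k C) V (S j) := hA hvA
  have hvB' : v ∈ sSup {m : Submodule (Groth.Agent.H29.DualAlg k C) V |
        ∃ j', j' ≠ j ∧ Nonempty (m ≃ₗ[Groth.Agent.H29.DualAlg k C] S j')} := hB hvB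
  have hdisj : isotypicComponent (Groth.Agent.H29.DualAlg k C) V (S j) ⊓
      sSup {m : Submodule (Groth.Agent.H29.DualAlg k C) V |
        ∃ j', j' ≠ j ∧ Nonempty (m ≃ₗ[Groth.Agent.H29.DualAlg k C] S j')} = ⊥ := by
    by_contra ne
    have := hsimple j
    have hss : IsSemisimpleModule (Groth.Agent.H29.DualAlg k C)
        (isotypicComponent (Groth.Agent.H29.DualAlg k C) V (S j)) := inferInstance
    have hle : isotypicComponent (Groth.Agent.H29.DualAlg k C) V (S j) ⊓
          sSup {m : Submodule (Groth.Agent.H29.DualAlg k C) V |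
            ∃ j', j' ≠ j ∧ Nonempty (m ≃ₗ[Groth.Agent.H29.DualAlg k C] S j')} ≤
        isotypicComponent (Groth.Agent.H29.DualAlg k C) V (S j) := inf_le_left
    have hinj : Function.Injective (Submodule.inclusion hle) := Submodule.inclusion_injective hle
    have hss2 : IsSemisimpleModule (Groth.Agent.H29.DualAlg k C)
        ↥(isotypicComponent (Groth.Agent.H29.DualAlg k C) V (S j) ⊓
          sSup {m : Submodule (Groth.Agent.H29.DualAlg k C) V |
            ∃ j', j' ≠ j ∧ Nonempty (m ≃ₗ[Groth.Agent.H29.DualAlg k C] S j')}) :=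
      IsSemisimpleModule.of_injective (R := Groth.Agent.H29.DualAlg k C)
        (M := ↥(isotypicComponent (Groth.Agent.H29.DualAlg k C) V (S j)))
        (N := ↥(isotypicComponent (Groth.Agent.H29.DualAlg k C) V (S j) ⊓
          sSup {m : Submodule (Groth.Agent.H29.DualAlg k C) V |
            ∃ j', j' ≠ j ∧ Nonempty (m ≃ₗ[Groth.Agent.H29.DualAlg k C] S j')}))
        (Submodule.inclusion hle) hinj
    obtain ⟨N, le, hN⟩ := (IsSemisimpleModule.eq_bot_or_exists_simple_le _).resolve_left ne
    have hs1 : ∀ m : {m : Submodule (Groth.Agent.H29.DualAlg k C) V |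
        Nonempty (m ≃ₗ[Groth.Agent.H29.DualAlg k C] S j)},
        IsSimpleModule (Groth.Agent.H29.DualAlg k C) m := by
      rintro ⟨m, ⟨e⟩⟩
      exact IsSimpleModule.congr e
    have hs2 : ∀ m : {m : Submodule (Groth.Agent.H29.DualAlg k C) V |
        ∃ j', j' ≠ j ∧ Nonempty (m ≃ₗ[Groth.Agent.H29.DualAlg k C] S j')},
        IsSimpleModule (Groth.Agent.H29.DualAlg k C) m := by
      rintro ⟨m, j', -, ⟨e⟩⟩
      have := hsimple j'
      exact IsSimpleModule.congr e
    obtain ⟨m, ⟨e1⟩, ⟨e2⟩⟩ := N.linearEquiv_of_le_sSup _ (le.trans inf_le_left)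
    obtain ⟨m', ⟨j', hj', ⟨e3⟩⟩, ⟨e4⟩⟩ := N.linearEquiv_of_le_sSup _ (le.trans inf_le_right)
    obtain ⟨e', he'⟩ := Groth.Agent.H29.exists_comodIso_of_dualEquiv
      (e1.symm.trans (e2.symm.trans (e4.trans e3)))
    exact hne j j' hj'.symm e' he'
  have hv0 : v ∈ (⊥ : Submodule (Groth.Agent.H29.DualAlg k C) V) := by
    rw [← hdisj]
    exact ⟨hvA', hvB'⟩
  exact (Submodule.mem_bot _).mp hv0

end Groth.Agent.S18810
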