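import Groth.Statements.S18818
import Mathlib
import Groth.Agent.H29.ComodDual

set_option autoImplicit false
universe u v w
open TensorProduct
open HopfRep

namespace Groth.Agent.S18818

/-- Let k be a field, C a k-coalgebra and V a right C-comodule which is semisimple in the sense that
every subcomodule has a complementary subcomodule (equivalently every injective comodule map into V
splits). Then V is completely reducible: V is the sum of its simple subcomodules, the nonzero
subcomodules W whose only subcomodules are 0 and W. (The source states this for representations of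
an affine monoid scheme over k, i.e. left comodules over its coordinate bialgebra; the converse
implication and the stability of the class under subobjects and quotients are not part of this row.) -/
theorem result (k : Type u) [Field k]
    (C : Type v) [AddCommGroup C] [Module k C] [Coalgebra k C]
    (V : Type w) [AddCommGroup V] [Module k V] [HopfRep.Comod k C V] (hV : HopfRep.IsSemisimpleComod k C V) :
    (⨆ W : {W : Submodule k V // HopfRep.IsSubcomod (k := k) (A := C) W ∧ W ≠ ⊥ ∧
        ∀ W' : Submodule k V, HopfRep.IsSubcomod (k := k) (A := C) W' → W' ≤ W → W' = ⊥ ∨ W' = W},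
      (W.1 : Submodule k V)) = ⊤ := by
  letI := Groth.Agent.H29.dualModule k C V
  have hss := Groth.Agent.H29.isSemisimpleModule_of_isSemisimpleComod k C V hV
  have htop := IsSemisimpleModule.sSup_simples_eq_top (Groth.Agent.H29.DualAlg k C) V
  have hTsub : HopfRep.IsSubcomod (k := k) (A := C)
      (⨆ W : {W : Submodule k V // HopfRep.IsSubcomod (k := k) (A := C) W ∧ W ≠ ⊥ ∧
        ∀ W' : Submodule k V, HopfRep.IsSubcomod (k := k) (A := C) W' → W' ≤ W → W' = ⊥ ∨ W' = W},
      (W.1 : Submodule k V)) := by
    rw [Groth.Agent.H29.isSubcomod_iff]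
    intro φ w hw
    refine Submodule.iSup_induction _ (motive := fun w => Groth.Agent.H29.dualAct φ w ∈
      (⨆ W : {W : Submodule k V // HopfRep.IsSubcomod (k := k) (A := C) W ∧ W ≠ ⊥ ∧
        ∀ W' : Submodule k V, HopfRep.IsSubcomod (k := k) (A := C) W' → W' ≤ W → W' = ⊥ ∨ W' = W},
      (W.1 : Submodule k V))) hw ?_ ?_ ?_
    · intro W x hx
      exact (le_iSup (fun W : {W : Submodule k V // HopfRep.IsSubcomod (k := k) (A := C) W ∧ W ≠ ⊥ ∧
        ∀ W' : Submodule k V, HopfRep.IsSubcomod (k := k) (A := C) W' → W' ≤ W → W' = ⊥ ∨ W' = W} =>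
          (W.1 : Submodule k V)) W) ((Groth.Agent.H29.isSubcomod_iff W.1).mp W.2.1 φ x hx)
    · simp
    · intro x y hx hy
      rw [map_add]
      exact Submodule.add_mem _ hx hy
  have hle : sSup {m : Submodule (Groth.Agent.H29.DualAlg k C) V |
      IsSimpleModule (Groth.Agent.H29.DualAlg k C) m} ≤ Groth.Agent.H29.toDualSub _ hTsub := by
    apply sSup_le
    intro m hm
    have hatom : IsAtom m := isSimpleModule_iff_isAtom.mp hm
    have hmem : HopfRep.IsSubcomod (k := k) (A := C) (Groth.Agent.H29.ofDualSub m) ∧
        Groth.Agent.H29.ofDualSub m ≠ ⊥ ∧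
        ∀ W' : Submodule k V, HopfRep.IsSubcomod (k := k) (A := C) W' →
          W' ≤ Groth.Agent.H29.ofDualSub m → W' = ⊥ ∨ W' = Groth.Agent.H29.ofDualSub m := by
      refine ⟨Groth.Agent.H29.isSubcomod_ofDualSub m, ?_, ?_⟩
      · intro h
        apply hatom.1
        apply Groth.Agent.H29.ofDualSub_injective
        rw [h, Groth.Agent.H29.ofDualSub_bot]
      · intro W' hW' hle'
        have h1 : Groth.Agent.H29.toDualSub W' hW' ≤ m := fun v hv => hle' hv
        rcases eq_or_lt_of_le h1 with h2 | h2
        · right
          rw [← h2, Groth.Agent.H29.ofDualSub_toDualSub]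
        · left
          have h3 := hatom.2 _ h2
          rw [← Groth.Agent.H29.ofDualSub_toDualSub W' hW', h3, Groth.Agent.H29.ofDualSub_bot]
    intro v hv
    exact (le_iSup (fun W : {W : Submodule k V // HopfRep.IsSubcomod (k := k) (A := C) W ∧ W ≠ ⊥ ∧
        ∀ W' : Submodule k V, HopfRep.IsSubcomod (k := k) (A := C) W' → W' ≤ W → W' = ⊥ ∨ W' = W} =>
          (W.1 : Submodule k V)) ⟨Groth.Agent.H29.ofDualSub m, hmem⟩) hv
  rw [htop] at hle
  rw [eq_top_iff]
  intro v _
  exact hle Submodule.mem_top

end Groth.Agent.S18818
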