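import Groth.Statements.S18819
import Mathlib
import Groth.Agent.H29.ComodDual

set_option autoImplicit false
universe u v w w'
open TensorProduct
open HopfRep

namespace Groth.Agent.S18819

/-- Let k be a field, C a k-coalgebra and V a right C-comodule which is the sum of finitely many simple
subcomodules, given as the images of comodule maps g_i : K_i → V (i < n) from simple comodules K_i.
If S is a simple comodule and f : S → V a nonzero comodule map (so that its image is a simple
subcomodule of V), then S is isomorphic as a comodule to some K_i: there is a k-linear isomorphism S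
≃ K_i commuting with the coactions. (The source states this for representations of an affine monoid
scheme over k with the subrepresentations given as subspaces; here the simple subcomodules are
presented as images of maps from simple comodules.) -/
theorem result (k : Type u) [Field k]
    (C : Type v) [AddCommGroup C] [Module k C] [Coalgebra k C]
    (V : Type w) [AddCommGroup V] [Module k V] [HopfRep.Comod k C V]
    {n : ℕ} (K : Fin n → Type w') [∀ i, AddCommGroup (K i)] [∀ i, Module k (K i)] [∀ i, HopfRep.Comod k C (K i)]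
    (hK : ∀ i, HopfRep.IsSimpleComod k C (K i)) (g : ∀ i, K i →ₗ[k] V) (hg : ∀ i, Hoch.IsComodHom C (g i))
    (hsum : (⨆ i, LinearMap.range (g i)) = ⊤)
    (S : Type w') [AddCommGroup S] [Module k S] [HopfRep.Comod k C S] (hS : HopfRep.IsSimpleComod k C S)
    (f : S →ₗ[k] V) (hf : Hoch.IsComodHom C f) (hf0 : f ≠ 0) :
    ∃ (i : Fin n) (e : S ≃ₗ[k] K i), Hoch.IsComodHom C (e : S →ₗ[k] K i) := by
  let := Groth.Agent.H29.dualModule k C V
  let := Groth.Agent.H29.dualModule k C S
  let : ∀ i, Module (Groth.Agent.H29.DualAlg k C) (K i) :=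
    fun i => Groth.Agent.H29.dualModule k C (K i)
  have : IsSimpleModule (Groth.Agent.H29.DualAlg k C) S :=
    Groth.Agent.H29.isSimpleModule_of_isSimpleComod k C S hS
  have : ∀ i, IsSimpleModule (Groth.Agent.H29.DualAlg k C) (K i) :=
    fun i => Groth.Agent.H29.isSimpleModule_of_isSimpleComod k C (K i) (hK i)
  have hfinj : Function.Injective (Groth.Agent.H29.toDualHom (k := k) (C := C) f hf) := by
    refine (LinearMap.injective_or_eq_zero (Groth.Agent.H29.toDualHom (k := k) (C := C) f hf)).resolve_right ?_
    intro h
    apply hf0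
    ext s
    exact congrArg (fun F => F s) h
  have : IsSimpleModule (Groth.Agent.H29.DualAlg k C)
      (LinearMap.range (Groth.Agent.H29.toDualHom (k := k) (C := C) f hf)) :=
    IsSimpleModule.congr (LinearEquiv.ofInjective (Groth.Agent.H29.toDualHom (k := k) (C := C) f hf) hfinj).symm
  have hsimple : ∀ m : {m : Submodule (Groth.Agent.H29.DualAlg k C) V |
      ∃ i, Groth.Agent.H29.toDualHom (k := k) (C := C) (g i) (hg i) ≠ 0 ∧
        m = LinearMap.range (Groth.Agent.H29.toDualHom (k := k) (C := C) (g i) (hg i))},
      IsSimpleModule (Groth.Agent.H29.DualAlg k C) m := by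
    rintro ⟨m, i, hi, rfl⟩
    have hinj := (LinearMap.injective_or_eq_zero (Groth.Agent.H29.toDualHom (k := k) (C := C) (g i) (hg i))).resolve_right hi
    exact IsSimpleModule.congr (LinearEquiv.ofInjective (Groth.Agent.H29.toDualHom (k := k) (C := C) (g i) (hg i)) hinj).symm
  have htop : sSup {m : Submodule (Groth.Agent.H29.DualAlg k C) V |
      ∃ i, Groth.Agent.H29.toDualHom (k := k) (C := C) (g i) (hg i) ≠ 0 ∧
        m = LinearMap.range (Groth.Agent.H29.toDualHom (k := k) (C := C) (g i) (hg i))} = ⊤ := by
    rw [eq_top_iff]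
    intro v _
    have hv : v ∈ ⨆ i, LinearMap.range (g i) := by
      rw [hsum]
      trivial
    refine Submodule.iSup_induction _ (motive := fun v => v ∈ sSup {m : Submodule (Groth.Agent.H29.DualAlg k C) V |
      ∃ i, Groth.Agent.H29.toDualHom (k := k) (C := C) (g i) (hg i) ≠ 0 ∧
        m = LinearMap.range (Groth.Agent.H29.toDualHom (k := k) (C := C) (g i) (hg i))}) hv ?_
      (Submodule.zero_mem _) (fun x y hx hy => Submodule.add_mem _ hx hy)
    rintro i x ⟨y, rfl⟩
    by_cases hgi : Groth.Agent.H29.toDualHom (k := k) (C := C) (g i) (hg i) = 0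
    · have h0 : g i y = 0 := congrArg (fun F => F y) hgi
      rw [h0]
      exact Submodule.zero_mem _
    · have hmem : g i y ∈ LinearMap.range (Groth.Agent.H29.toDualHom (k := k) (C := C) (g i) (hg i)) :=
        ⟨y, rfl⟩
      have hs : LinearMap.range (Groth.Agent.H29.toDualHom (k := k) (C := C) (g i) (hg i)) ∈
          {m : Submodule (Groth.Agent.H29.DualAlg k C) V |
            ∃ i, Groth.Agent.H29.toDualHom (k := k) (C := C) (g i) (hg i) ≠ 0 ∧
              m = LinearMap.range (Groth.Agent.H29.toDualHom (k := k) (C := C) (g i) (hg i))} :=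
        ⟨i, hgi, rfl⟩
      exact (le_sSup hs) hmem
  obtain ⟨m, ⟨i, hi, rfl⟩, ⟨e⟩⟩ := Submodule.linearEquiv_of_le_sSup
    (LinearMap.range (Groth.Agent.H29.toDualHom (k := k) (C := C) f hf)) _ (le_of_le_of_eq le_top htop.symm)
  have hinj := (LinearMap.injective_or_eq_zero (Groth.Agent.H29.toDualHom (k := k) (C := C) (g i) (hg i))).resolve_right hi
  obtain ⟨e', he'⟩ := Groth.Agent.H29.exists_comodIso_of_dualEquiv
    ((LinearEquiv.ofInjective (Groth.Agent.H29.toDualHom (k := k) (C := C) f hf) hfinj).trans
      (e.trans (LinearEquiv.ofInjective (Groth.Agent.H29.toDualHom (k := k) (C := C) (g i) (hg i)) hinj).symm))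
  exact ⟨i, e', he'⟩

end Groth.Agent.S18819
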