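import Groth.Statements.S18820
import Groth.Agent.H28.CartPB

set_option autoImplicit false
universe u
open CategoryTheory MonoidalCategory CartesianMonoidalCategory AlgebraicGeometry
open AlgGrp

namespace Groth.Agent.S18820

/-- Let k be a field, M a k-scheme (in the source a monoid k-scheme) acting on a k-scheme X through a :
M ×_k X → X, and z : Z → X a closed immersion which is surjective (a closed subscheme defined by an
ideal all of whose sections are nilpotent, e.g. the reduction of X), stable under the action: a_Z :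
M ×_k Z → Z satisfies (id_M × z) followed by a = a_Z followed by z. For an open subset U of X the
following are equivalent: (i) U is stable, i.e. a maps M ×_k U into U; (ii) U ∩ Z is stable, i.e.
a_Z maps M ×_k (U ∩ Z) into U ∩ Z. (The monoid axioms of the source play no role and are not
assumed.) -/
theorem result (k : Type u) [Field k]
    (M X Z : Over (Spec (CommRingCat.of k))) (a : M ⊗ X ⟶ X) (aZ : M ⊗ Z ⟶ Z) (z : Z ⟶ X)
    [IsClosedImmersion z.left] [Surjective z.left] (hz : (M ◁ z) ≫ a = aZ ≫ z) (U : X.left.Opens) :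
    (CartesianMonoidalCategory.snd M X).left ⁻¹ᵁ U ≤ a.left ⁻¹ᵁ U ↔
      (CartesianMonoidalCategory.snd M Z).left ⁻¹ᵁ (z.left ⁻¹ᵁ U) ≤ aZ.left ⁻¹ᵁ (z.left ⁻¹ᵁ U) := by
  have sq : IsPullback (M ◁ z).left (snd M Z).left (snd M X).left z.left :=
    (Groth.Agent.H28.CartPB.isPullback_whiskerLeft M z).map (Over.forget _)
  have hsurj : Surjective (M ◁ z).left :=
    MorphismProperty.of_isPullback (P := @Surjective) sq.flip inferInstance
  have hz' : (M ◁ z).left ≫ a.left = aZ.left ≫ z.left := by
    rw [← Over.comp_left, hz, Over.comp_left]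
  have hsnd : (M ◁ z).left ≫ (snd M X).left = (snd M Z).left ≫ z.left := sq.w
  constructor
  · intro h y hy
    show z.left (aZ.left y) ∈ U
    rw [← Scheme.Hom.comp_apply, ← hz', Scheme.Hom.comp_apply]
    apply h
    show (snd M X).left ((M ◁ z).left y) ∈ U
    rw [← Scheme.Hom.comp_apply, hsnd, Scheme.Hom.comp_apply]
    exact hy
  · intro h y' hy'
    obtain ⟨y, rfl⟩ := (M ◁ z).left.surjective y'
    show a.left ((M ◁ z).left y) ∈ U
    rw [← Scheme.Hom.comp_apply, hz', Scheme.Hom.comp_apply]
    apply h
    show z.left ((snd M Z).left y) ∈ U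
    rw [← Scheme.Hom.comp_apply, ← hsnd, Scheme.Hom.comp_apply]
    exact hy'

end Groth.Agent.S18820
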