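import Groth.Statements.S18821

set_option autoImplicit false
universe u
open CategoryTheory MonoidalCategory CartesianMonoidalCategory MonObj AlgebraicGeometry
open AlgGrp

namespace Groth.Agent.S18821

/-- Let k be a commutative ring and M a monoid k-scheme (a monoid object in k-schemes). Then the group
k-functor of units T ↦ M(T)^× is representable by a k-scheme: there are a k-scheme G and a
monomorphism i : G → M such that, for every k-scheme T, a T-valued point of M factors through i if
and only if it is invertible in the monoid M(T). If moreover M is affine then G is affine. -/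
theorem result (k : Type u) [CommRing k]
    (M : Over (Spec (CommRingCat.of k))) [MonObj M] :
    ∃ (G : Over (Spec (CommRingCat.of k))) (i : G ⟶ M), Mono i ∧
      (∀ (T : Over (Spec (CommRingCat.of k))) (m : T ⟶ M), (∃ g : T ⟶ G, g ≫ i = m) ↔ IsUnit m) ∧
      (IsAffine M.left → IsAffine G.left) := by
  let φ : M ⊗ M ⟶ M ⊗ M := lift μ[M] (lift (snd M M) (fst M M) ≫ μ[M])
  let υ : 𝟙_ (Over (Spec (CommRingCat.of k))) ⟶ M ⊗ M := lift η[M] η[M]
  have hpt : ∀ {T : Over (Spec (CommRingCat.of k))} (p : T ⟶ M ⊗ M),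
      p ≫ φ = toUnit T ≫ υ ↔
        (p ≫ fst M M) * (p ≫ snd M M) = 1 ∧ (p ≫ snd M M) * (p ≫ fst M M) = 1 := by
    intro T p
    have e1 : p ≫ φ =
        lift ((p ≫ fst M M) * (p ≫ snd M M)) ((p ≫ snd M M) * (p ≫ fst M M)) := by
      show p ≫ lift μ[M] (lift (snd M M) (fst M M) ≫ μ[M]) = _
      rw [comp_lift, ← Category.assoc p, comp_lift, Hom.mul_def, Hom.mul_def, lift_comp_fst_snd]
    have e2 : toUnit T ≫ υ = lift 1 1 := by
      show toUnit T ≫ lift η[M] η[M] = _
      rw [comp_lift, ← Hom.one_def]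
    rw [e1, e2]
    constructor
    · intro h
      refine ⟨?_, ?_⟩
      · have := congrArg (fun q => q ≫ fst M M) h
        simpa using this
      · have := congrArg (fun q => q ≫ snd M M) h
        simpa using this
    · rintro ⟨h1, h2⟩
      rw [h1, h2]
  have hcond : ∀ {T : Over (Spec (CommRingCat.of k))} (g : T ⟶ Limits.pullback φ υ),
      (g ≫ Limits.pullback.fst φ υ) ≫ φ = toUnit T ≫ υ := by
    intro T g
    rw [Category.assoc, Limits.pullback.condition, ← Category.assoc]
    congr 1
    exact toUnit_unique _ _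
  refine ⟨Limits.pullback φ υ, Limits.pullback.fst φ υ ≫ fst M M, ?_, ?_, ?_⟩
  · constructor
    intro T g₁ g₂ h
    have c1 := (hpt _).mp (hcond g₁)
    have c2 := (hpt _).mp (hcond g₂)
    have hx : (g₁ ≫ Limits.pullback.fst φ υ) ≫ fst M M = (g₂ ≫ Limits.pullback.fst φ υ) ≫ fst M M := by
      simpa using h
    have hy : (g₁ ≫ Limits.pullback.fst φ υ) ≫ snd M M = (g₂ ≫ Limits.pullback.fst φ υ) ≫ snd M M := by
      calc (g₁ ≫ Limits.pullback.fst φ υ) ≫ snd M M
          = ((g₁ ≫ Limits.pullback.fst φ υ) ≫ snd M M) *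
              (((g₂ ≫ Limits.pullback.fst φ υ) ≫ fst M M) *
                ((g₂ ≫ Limits.pullback.fst φ υ) ≫ snd M M)) := by rw [c2.1, _root_.mul_one]
        _ = (((g₁ ≫ Limits.pullback.fst φ υ) ≫ snd M M) *
              ((g₁ ≫ Limits.pullback.fst φ υ) ≫ fst M M)) *
                ((g₂ ≫ Limits.pullback.fst φ υ) ≫ snd M M) := by rw [← hx, _root_.mul_assoc]
        _ = (g₂ ≫ Limits.pullback.fst φ υ) ≫ snd M M := by rw [c1.2, _root_.one_mul]
    apply Limits.pullback.hom_ext
    · apply CartesianMonoidalCategory.hom_ext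
      · exact hx
      · exact hy
    · exact toUnit_unique _ _
  · intro T m
    constructor
    · rintro ⟨g, rfl⟩
      have c := (hpt _).mp (hcond g)
      refine ⟨⟨(g ≫ Limits.pullback.fst φ υ) ≫ fst M M, (g ≫ Limits.pullback.fst φ υ) ≫ snd M M,
        c.1, c.2⟩, ?_⟩
      simp
    · rintro ⟨u, rfl⟩
      refine ⟨Limits.pullback.lift (lift (u : T ⟶ M) ((u⁻¹ : (T ⟶ M)ˣ) : T ⟶ M)) (toUnit T) ?_, ?_⟩
      · rw [hpt]
        simp
      · rw [← Category.assoc, Limits.pullback.lift_fst, lift_fst]
  · intro hM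
    have sq : IsPullback (Limits.pullback.fst φ υ).left (Limits.pullback.snd φ υ).left φ.left υ.left :=
      (IsPullback.of_hasPullback φ υ).map (Over.forget _)
    have h1 : IsAffine (M ⊗ M).left := by
      rw [Over.tensorObj_left]; infer_instance
    have h2 : IsAffine (𝟙_ (Over (Spec (CommRingCat.of k)))).left := by
      show IsAffine (Spec (CommRingCat.of k)); infer_instance
    have h3 : IsAffine (Limits.pullback φ.left υ.left) := inferInstance
    exact IsAffine.of_isIso sq.isoPullback.hom

end Groth.Agent.S18821
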