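import Groth.Statements.S18824
import Groth.Agent.H28.CartPB
import Groth.Agent.H28.ActShear

set_option autoImplicit false
universe u
open CategoryTheory MonoidalCategory CartesianMonoidalCategory MonObj AlgebraicGeometry
open AlgGrp

namespace Groth.Agent.S18824

/-- Let k be a field, G a locally algebraic group over k (a group k-scheme locally of finite type)
acting on a k-scheme X through a : G ×_k X → X, and U an open subset of X. Let G·U ⊆ X be the image
under a of G ×_k U (the preimage of U under the projection). Then G·U is open in X, contains U, is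
G-stable in the sense that a maps G ×_k (G·U) into G·U, and is the smallest such set: every G-stable
open subset of X containing U contains G·U. -/
theorem result (k : Type u) [Field k]
    (G X : Over (Spec (CommRingCat.of k))) [GrpObj G] [LocallyOfFiniteType G.hom] (a : AlgGrp.Action G X)
    (U : Set ↥X.left) (hU : IsOpen U) :
    IsOpen (a.act.left.base '' ((CartesianMonoidalCategory.snd G X).left.base ⁻¹' U)) ∧
      U ⊆ a.act.left.base '' ((CartesianMonoidalCategory.snd G X).left.base ⁻¹' U) ∧
      a.act.left.base '' ((CartesianMonoidalCategory.snd G X).left.base ⁻¹'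
          (a.act.left.base '' ((CartesianMonoidalCategory.snd G X).left.base ⁻¹' U))) ⊆
        a.act.left.base '' ((CartesianMonoidalCategory.snd G X).left.base ⁻¹' U) ∧
      ∀ W : Set ↥X.left, IsOpen W → U ⊆ W →
        a.act.left.base '' ((CartesianMonoidalCategory.snd G X).left.base ⁻¹' W) ⊆ W →
          a.act.left.base '' ((CartesianMonoidalCategory.snd G X).left.base ⁻¹' U) ⊆ W := by
  have h1 : a.act.left = (Groth.Agent.H28.ActShear.shearIso a).hom.left ≫ (snd G X).left := by
    rw [← Over.comp_left, Groth.Agent.H28.ActShear.shearIso_hom_snd]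
  have huo : UniversallyOpen (snd G X).left := by
    rw [Over.snd_left]; infer_instance
  have huo' : UniversallyOpen a.act.left := by
    rw [h1]; infer_instance
  have hopen : IsOpenMap a.act.left := a.act.left.isOpenMap
  refine ⟨?_, ?_, ?_, ?_⟩
  · exact hopen _ (hU.preimage (snd G X).left.continuous)
  · intro x hx
    refine ⟨(lift (toUnit X ≫ η[G]) (𝟙 X)).left x, ?_, ?_⟩
    · show (snd G X).left ((lift (toUnit X ≫ η[G]) (𝟙 X)).left x) ∈ U
      rw [← Scheme.Hom.comp_apply, ← Over.comp_left, lift_snd]
      exact hx
    · show a.act.left ((lift (toUnit X ≫ η[G]) (𝟙 X)).left x) = x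
      rw [← Scheme.Hom.comp_apply, ← Over.comp_left, ← Hom.one_def,
        Groth.Agent.H28.ActShear.lift_one_act]
      rfl
  · rintro _ ⟨w, ⟨y, hy, hyw⟩, rfl⟩
    have sq : IsPullback (G ◁ a.act).left (snd G (G ⊗ X)).left (snd G X).left a.act.left :=
      (Groth.Agent.H28.CartPB.isPullback_whiskerLeft G a.act).map (Over.forget _)
    obtain ⟨v, hv1, hv2⟩ := Groth.Agent.H28.CartPB.exists_preimage_of_isPullback sq w y hyw.symm
    refine ⟨((α_ G G X).inv ≫ (μ[G] ▷ X)).left v, ?_, ?_⟩
    · show (snd G X).left (((α_ G G X).inv ≫ (μ[G] ▷ X)).left v) ∈ U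
      rw [← Scheme.Hom.comp_apply, ← Over.comp_left, Category.assoc, whiskerRight_snd,
        associator_inv_snd, Over.comp_left, Scheme.Hom.comp_apply, hv2]
      exact hy
    · show a.act.left (((α_ G G X).inv ≫ (μ[G] ▷ X)).left v) = a.act.left w
      rw [← Scheme.Hom.comp_apply, ← Over.comp_left, Category.assoc, a.mul_act,
        Iso.inv_hom_id_assoc, Over.comp_left, Scheme.Hom.comp_apply, hv1]
  · intro W _ hUW hW
    refine subset_trans (Set.image_mono (Set.preimage_mono hUW)) hW

end Groth.Agent.S18824
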