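import Groth.Statements.S18826
import Groth.Agent.H28.CartPB
import Groth.Agent.H28.ActShear

set_option autoImplicit false
universe u
open CategoryTheory MonoidalCategory CartesianMonoidalCategory MonObj AlgebraicGeometry
open AlgGrp

namespace Groth.Agent.S18826

/-- Let k be a field, G a locally algebraic group over k (a group k-scheme locally of finite type)
acting on k-schemes X and Y, and f : X → Y a G-equivariant k-morphism. Let P be a property of
morphisms of schemes which is local on the target for the Zariski topology, stable under base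
change, and descends along flat surjective universally open morphisms (the published hypothesis is
descent along fpqc morphisms; the printed argument descends only along the restriction G ×_k U → G·U
of the action, which is flat, surjective and universally open). Then there is a largest open subset
V of Y such that the restriction f⁻¹(V) → V of f has P, and this V is G-stable: the action G ×_k Y →
Y maps G ×_k V into V. -/
theorem result (k : Type u) [Field k]
    (G X Y : Over (Spec (CommRingCat.of k))) [GrpObj G] [LocallyOfFiniteType G.hom]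
    (aX : AlgGrp.Action G X) (aY : AlgGrp.Action G Y) (f : X ⟶ Y) (hf : (G ◁ f) ≫ aY.act = aX.act ≫ f)
    (P : MorphismProperty Scheme.{u}) [IsZariskiLocalAtTarget P] [P.IsStableUnderBaseChange]
    [P.DescendsAlong (@Flat ⊓ @Surjective ⊓ @UniversallyOpen)] :
    ∃ V : Y.left.Opens, P (f.left ∣_ V) ∧ (∀ V' : Y.left.Opens, P (f.left ∣_ V') → V' ≤ V) ∧
      (CartesianMonoidalCategory.snd G Y).left ⁻¹ᵁ V ≤ aY.act.left ⁻¹ᵁ V := by
  -- Part A: the largest open over which `f` has `P`
  have hV : P (f.left ∣_ sSup {V' : Y.left.Opens | P (f.left ∣_ V')}) := by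
    apply IsZariskiLocalAtTarget.of_forall_exists_morphismRestrict
    intro x
    have hx : x.1 ∈ sSup {V' : Y.left.Opens | P (f.left ∣_ V')} := x.2
    obtain ⟨V', hV'S, hxV'⟩ : ∃ V' ∈ {V' : Y.left.Opens | P (f.left ∣_ V')}, x.1 ∈ V' :=
      TopologicalSpace.Opens.mem_sSup.mp hx
    refine ⟨(sSup {V' : Y.left.Opens | P (f.left ∣_ V')}).ι ⁻¹ᵁ V', hxV', ?_⟩
    rw [P.arrow_mk_iso_iff (morphismRestrictRestrict f.left _ _)]
    have heq : (sSup {V' : Y.left.Opens | P (f.left ∣_ V')}).ι ''ᵁ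
        ((sSup {V' : Y.left.Opens | P (f.left ∣_ V')}).ι ⁻¹ᵁ V') = V' := by
      rw [Scheme.Hom.image_preimage_eq_opensRange_inf, Scheme.Opens.opensRange_ι]
      exact inf_eq_right.mpr (le_sSup hV'S)
    rw [heq]
    exact hV'S
  obtain ⟨V, hVdef⟩ : ∃ V, V = sSup {V' : Y.left.Opens | P (f.left ∣_ V')} := ⟨_, rfl⟩
  rw [← hVdef] at hV
  have hmax : ∀ V' : Y.left.Opens, P (f.left ∣_ V') → V' ≤ V := fun V' h => by
    rw [hVdef]; exact le_sSup h
  refine ⟨V, hV, hmax, ?_⟩
  -- Part B: `V` is `G`-stable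
  have h1 : aY.act.left = (Groth.Agent.H28.ActShear.shearIso aY).hom.left ≫ (snd G Y).left := by
    rw [← Over.comp_left, Groth.Agent.H28.ActShear.shearIso_hom_snd]
  have hflatp : Flat (snd G Y).left := by rw [Over.snd_left]; infer_instance
  have huop : UniversallyOpen (snd G Y).left := by rw [Over.snd_left]; infer_instance
  have hflata : Flat aY.act.left := by rw [h1]; infer_instance
  have huoa : UniversallyOpen aY.act.left := by rw [h1]; infer_instance
  let V'' : Y.left.Opens := ⟨aY.act.left '' ((snd G Y).left ⁻¹ᵁ V : Set _),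
    aY.act.left.isOpenMap _ ((snd G Y).left ⁻¹ᵁ V).isOpen⟩
  have hle : (snd G Y).left ⁻¹ᵁ V ≤ aY.act.left ⁻¹ᵁ V'' := fun w hw => ⟨w, hw, rfl⟩
  -- the two pullback squares
  have sqO1 : IsPullback (G ◁ f) (snd G X) (snd G Y) f :=
    Groth.Agent.H28.CartPB.isPullback_whiskerLeft G f
  have hcomm : (Groth.Agent.H28.ActShear.shearIso aX).hom ≫ (G ◁ f) =
      (G ◁ f) ≫ (Groth.Agent.H28.ActShear.shearIso aY).hom := by
    apply CartesianMonoidalCategory.hom_ext
    · rw [Category.assoc, whiskerLeft_fst, Groth.Agent.H28.ActShear.shearIso_hom_fst,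
        Category.assoc, Groth.Agent.H28.ActShear.shearIso_hom_fst, whiskerLeft_fst]
    · rw [Category.assoc, whiskerLeft_snd, Groth.Agent.H28.ActShear.shearIso_hom_snd_assoc,
        Category.assoc, Groth.Agent.H28.ActShear.shearIso_hom_snd, hf]
  have sqO2 : IsPullback (G ◁ f) aX.act aY.act f :=
    sqO1.of_iso (Groth.Agent.H28.ActShear.shearIso aX).symm
      (Groth.Agent.H28.ActShear.shearIso aY).symm (Iso.refl _) (Iso.refl _)
      (by
        rw [Iso.symm_hom, Iso.symm_hom, Iso.comp_inv_eq, Category.assoc, ← hcomm,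
          Iso.inv_hom_id_assoc])
      (by
        rw [Iso.symm_hom, Iso.refl_hom, Category.comp_id, Iso.eq_inv_comp,
          Groth.Agent.H28.ActShear.shearIso_hom_snd])
      (by
        rw [Iso.symm_hom, Iso.refl_hom, Category.comp_id, Iso.eq_inv_comp,
          Groth.Agent.H28.ActShear.shearIso_hom_snd])
      (by simp)
  have sq1 : IsPullback (G ◁ f).left (snd G X).left (snd G Y).left f.left :=
    sqO1.map (Over.forget _)
  have sq2 : IsPullback (G ◁ f).left aX.act.left aY.act.left f.left :=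
    sqO2.map (Over.forget _)
  have hUY1 : (G ◁ f).left ⁻¹ᵁ ((snd G Y).left ⁻¹ᵁ V) =
      (G ◁ f).left ⁻¹ᵁ ((snd G Y).left ⁻¹ᵁ V) ⊓ (snd G X).left ⁻¹ᵁ (f.left ⁻¹ᵁ V) := by
    refine (inf_eq_left.mpr ?_).symm
    intro y hy
    show f.left ((snd G X).left y) ∈ V
    rw [← Scheme.Hom.comp_apply, ← sq1.w, Scheme.Hom.comp_apply]
    exact hy
  have hUY2 : (G ◁ f).left ⁻¹ᵁ ((snd G Y).left ⁻¹ᵁ V) =
      (G ◁ f).left ⁻¹ᵁ ((snd G Y).left ⁻¹ᵁ V) ⊓ aX.act.left ⁻¹ᵁ (f.left ⁻¹ᵁ V'') := by
    refine (inf_eq_left.mpr ?_).symm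
    intro y hy
    show f.left (aX.act.left y) ∈ V''
    rw [← Scheme.Hom.comp_apply, ← sq2.w, Scheme.Hom.comp_apply]
    exact ⟨_, hy, rfl⟩
  have RB := Scheme.Hom.isPullback_resLE sq1 (US := V) (UT := f.left ⁻¹ᵁ V)
    (UX := (snd G Y).left ⁻¹ᵁ V) le_rfl le_rfl hUY1
  have RA := Scheme.Hom.isPullback_resLE sq2 (US := V'') (UT := f.left ⁻¹ᵁ V'')
    (UX := (snd G Y).left ⁻¹ᵁ V) le_rfl hle hUY2
  have hPfst : P ((G ◁ f).left.resLE ((snd G Y).left ⁻¹ᵁ V)
      ((G ◁ f).left ⁻¹ᵁ ((snd G Y).left ⁻¹ᵁ V)) le_rfl) := by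
    refine P.of_isPullback RB.flip ?_
    rw [Scheme.Hom.resLE_eq_morphismRestrict]
    exact hV
  have hQ : (@Flat ⊓ @Surjective ⊓ @UniversallyOpen : MorphismProperty Scheme.{u})
      (aY.act.left.resLE V'' ((snd G Y).left ⁻¹ᵁ V) hle) := by
    refine ⟨⟨IsZariskiLocalAtSource.resLE hle hflata, ?_⟩, IsZariskiLocalAtSource.resLE hle huoa⟩
    constructor
    intro y
    obtain ⟨w, hw, hwy⟩ := y.2
    refine ⟨⟨w, hw⟩, ?_⟩
    apply Subtype.ext
    rw [Scheme.Hom.coe_resLE_apply]
    exact hwy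
  have hPV'' : P (f.left ∣_ V'') := by
    rw [← Scheme.Hom.resLE_eq_morphismRestrict]
    exact MorphismProperty.DescendsAlong.of_isPullback RA hQ hPfst
  have hV''V : V'' ≤ V := hmax V'' hPV''
  intro w hw
  exact hV''V ⟨w, hw, rfl⟩

end Groth.Agent.S18826
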