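import Groth.Statements.S18827
import Mathlib
import Groth.Agent.H29.ComodDual

set_option autoImplicit false
universe u v w
open TensorProduct
open HopfRep

namespace Groth.Agent.S18827

/-- Let k be a field, C a k-coalgebra, V a right C-comodule which is semisimple (every subcomodule has a
complementary subcomodule, which over a field is the same as being the sum of its simple
subcomodules) and W a subcomodule of V. Then the subcomodule W with its induced structure and the
quotient comodule V/W are again semisimple. (The source states this for representations of an affine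
monoid scheme over k.) -/
theorem result (k : Type u) [Field k]
    (C : Type v) [AddCommGroup C] [Module k C] [Coalgebra k C]
    (V : Type w) [AddCommGroup V] [Module k V] [c : HopfRep.Comod k C V] (hV : HopfRep.IsSemisimpleComod k C V)
    (W : Submodule k V) (hW : HopfRep.IsSubcomod (k := k) (A := C) W) :
    @HopfRep.IsSemisimpleComod k C _ _ _ _ ↥W _ _ (ComodSub.Comod.restr c W hW) ∧
      @HopfRep.IsSemisimpleComod k C _ _ _ _ (V ⧸ W) _ _ (ComodSub.Comod.quot c W hW) := by
  letI mV : Module (Groth.Agent.H29.DualAlg k C) V := Groth.Agent.H29.dualModule k C V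
  haveI hss : IsSemisimpleModule (Groth.Agent.H29.DualAlg k C) V :=
    Groth.Agent.H29.isSemisimpleModule_of_isSemisimpleComod k C V hV
  constructor
  · letI cW : HopfRep.Comod k C ↥W := ComodSub.Comod.restr c W hW
    letI mW : Module (Groth.Agent.H29.DualAlg k C) ↥W := Groth.Agent.H29.dualModule k C ↥W
    apply Groth.Agent.H29.isSemisimpleComod_of_isSemisimpleModule k C ↥W
    let f : ↥W →ₗ[Groth.Agent.H29.DualAlg k C] V :=
      Groth.Agent.H29.toDualHom (k := k) (C := C) W.subtype (ComodSub.isComodHom_subtype c W hW)
    exact IsSemisimpleModule.of_injective (R := Groth.Agent.H29.DualAlg k C) (M := V) (N := ↥W) f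
      Subtype.val_injective
  · letI cQ : HopfRep.Comod k C (V ⧸ W) := ComodSub.Comod.quot c W hW
    letI mQ : Module (Groth.Agent.H29.DualAlg k C) (V ⧸ W) := Groth.Agent.H29.dualModule k C (V ⧸ W)
    apply Groth.Agent.H29.isSemisimpleComod_of_isSemisimpleModule k C (V ⧸ W)
    let f : V →ₗ[Groth.Agent.H29.DualAlg k C] (V ⧸ W) :=
      Groth.Agent.H29.toDualHom (k := k) (C := C) W.mkQ (ComodSub.isComodHom_mkQ c W hW)
    exact IsSemisimpleModule.of_surjective (R := Groth.Agent.H29.DualAlg k C) (M := V) (N := V ⧸ W) f
      (Submodule.mkQ_surjective W)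

end Groth.Agent.S18827
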