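import Groth.Statements.S18830
import Groth.Agent.H28.UnitsRep
import Mathlib.AlgebraicGeometry.Noetherian
import Mathlib.AlgebraicGeometry.Morphisms.QuasiSeparated

set_option autoImplicit false
universe u
open CategoryTheory MonoidalCategory CartesianMonoidalCategory MonObj AlgebraicGeometry
open AlgGrp

namespace Groth.Agent.S18830

/-- Let k be a field and M an algebraic monoid over k (a monoid k-scheme of finite type). Let i : G → M
be its group of units: a monomorphism of k-schemes through which a T-valued point of M factors if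
and only if it is invertible in the monoid M(T). Then G is of finite type over k, i.e. the unit
group is an algebraic group. -/
theorem result (k : Type u) [Field k]
    (M G : Over (Spec (CommRingCat.of k))) [MonObj M] [LocallyOfFiniteType M.hom] [QuasiCompact M.hom]
    (i : G ⟶ M) [Mono i]
    (hi : ∀ (T : Over (Spec (CommRingCat.of k))) (m : T ⟶ M), (∃ g : T ⟶ G, g ≫ i = m) ↔ IsUnit m) :
    LocallyOfFiniteType G.hom ∧ QuasiCompact G.hom := by
  obtain ⟨e, he⟩ := Groth.Agent.H28.UnitsRep.exists_iso_of_rep M G i hi
  have hG : G.hom = e.hom.left ≫ (Limits.pullback.fst (Groth.Agent.H28.UnitsRep.φ M)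
      (Groth.Agent.H28.UnitsRep.υ M)).left ≫ (M ⊗ M).hom := by
    rw [Over.w, Over.w]
  have sq : IsPullback (Limits.pullback.fst (Groth.Agent.H28.UnitsRep.φ M)
        (Groth.Agent.H28.UnitsRep.υ M)).left
      (Limits.pullback.snd (Groth.Agent.H28.UnitsRep.φ M) (Groth.Agent.H28.UnitsRep.υ M)).left
      (Groth.Agent.H28.UnitsRep.φ M).left (Groth.Agent.H28.UnitsRep.υ M).left :=
    (IsPullback.of_hasPullback _ _).map (Over.forget _)
  have hυ : (Groth.Agent.H28.UnitsRep.υ M).left ≫ (M ⊗ M).hom = 𝟙 _ := by
    rw [Over.w]; rfl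
  have hMM : (M ⊗ M).hom = Limits.pullback.fst M.hom M.hom ≫ M.hom := Over.tensorObj_hom _ _
  have h1 : LocallyOfFiniteType (M ⊗ M).hom := by rw [hMM]; infer_instance
  have h2 : QuasiCompact (M ⊗ M).hom := by rw [hMM]; infer_instance
  have h3 : LocallyOfFiniteType (Groth.Agent.H28.UnitsRep.υ M).left := by
    have : LocallyOfFiniteType ((Groth.Agent.H28.UnitsRep.υ M).left ≫ (M ⊗ M).hom) := by
      rw [hυ]; infer_instance
    exact locallyOfFiniteType_of_comp _ (M ⊗ M).hom
  have h4 : QuasiCompact (Groth.Agent.H28.UnitsRep.υ M).left := by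
    have : TopologicalSpace.NoetherianSpace ((𝟙_ (Over (Spec (CommRingCat.of k)))).left) := by
      show TopologicalSpace.NoetherianSpace (Spec (CommRingCat.of k))
      infer_instance
    infer_instance
  have h5 : LocallyOfFiniteType (Limits.pullback.fst (Groth.Agent.H28.UnitsRep.φ M)
        (Groth.Agent.H28.UnitsRep.υ M)).left :=
    MorphismProperty.of_isPullback (P := @LocallyOfFiniteType) sq.flip h3
  have h6 : QuasiCompact (Limits.pullback.fst (Groth.Agent.H28.UnitsRep.φ M)
        (Groth.Agent.H28.UnitsRep.υ M)).left :=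
    MorphismProperty.of_isPullback (P := @QuasiCompact) sq.flip h4
  have h7 : IsIso e.hom.left := inferInstanceAs (IsIso ((Over.forget _).map e.hom))
  rw [hG]
  exact ⟨inferInstance, inferInstance⟩

end Groth.Agent.S18830
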