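import Groth.Statements.S18858
import Groth.Agent.H28.FpqcIso2
import Groth.Agent.H28.ActShear
import Groth.Agent.S8039

set_option autoImplicit false
universe u
open CategoryTheory MonoidalCategory CartesianMonoidalCategory MonObj GrpObj AlgebraicGeometry
open NonAbH1

namespace Groth.Agent.S18858

/-- Let S be a scheme, G a group scheme over S and X, X' two G-torsors over S for the fpqc topology
(pseudo-torsors under G acquiring sections on the members of some fpqc covering family of S). Then
every G-equivariant S-morphism f : X → X' is an isomorphism; so the category of G-torsors over S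
with equivariant morphisms is a groupoid. (The source takes for G the base change to a scheme over a
field of a group scheme over that field; the statement and its meaning are unchanged for an
arbitrary group scheme over the base.) -/
theorem result {S : Scheme.{u}} {G X X' : Over S} [GrpObj G]
    (a : AlgGrp.Action G X) (a' : AlgGrp.Action G X')
    (ha : NonAbH1.IsTorsorFor Scheme.fpqcPrecoverage a)
    (ha' : NonAbH1.IsTorsorFor Scheme.fpqcPrecoverage a')
    (f : X ⟶ X') (hf : AlgGrp.Action.IsEquivariant a a' f) : IsIso f := by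
  obtain ⟨hps, R, hR, hsec⟩ := ha
  obtain ⟨hps', -⟩ := ha'
  have heq : ∀ {T : Over S} (g : T ⟶ G) (x : T ⟶ X),
      (lift g x ≫ a.act) ≫ f = lift g (x ≫ f) ≫ a'.act := by
    intro T g x
    rw [Category.assoc, hf, ← Category.assoc, lift_whiskerLeft]
  have hmono : Mono f := by
    constructor
    intro T x₁ x₂ hx
    obtain ⟨g, hg⟩ := Groth.Agent.S8039.torsor_exists a hps x₁ x₂
    have h1 : lift g (x₂ ≫ f) ≫ a'.act = lift 1 (x₂ ≫ f) ≫ a'.act := by
      rw [← heq, hg, hx, Groth.Agent.H28.ActShear.lift_one_act]
    have h2 : g = 1 := Groth.Agent.S8039.torsor_free a' hps' _ _ _ h1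
    rw [← hg, h2, Groth.Agent.H28.ActShear.lift_one_act]
  have hmonol : Mono f.left := inferInstance
  have hS : (Sieve.generate R).pullback X'.hom ∈ Scheme.fpqcTopology X'.left :=
    Scheme.fpqcTopology.pullback_stable X'.hom (Precoverage.generate_mem_toGrothendieck hR)
  have hisol : IsIso f.left := by
    refine Groth.Agent.H28.FpqcIso2.isIso_of_mono_of_covering_sieve f.left _ hS ?_
    rintro T g ⟨W, h, r, hr, he⟩
    obtain ⟨σ, hσ⟩ := hsec r hr
    let T' : Over S := Over.mk (g ≫ X'.hom)
    let x' : T' ⟶ X' := Over.homMk g rfl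
    let x : T' ⟶ X := Over.homMk (h ≫ σ) (by
      show (h ≫ σ) ≫ X.hom = g ≫ X'.hom
      rw [Category.assoc, hσ, he])
    obtain ⟨gg, hgg⟩ := Groth.Agent.S8039.torsor_exists a' hps' x' (x ≫ f)
    refine ⟨(lift gg x ≫ a.act).left, ?_⟩
    rw [← Over.comp_left, heq, hgg]
    rfl
  have : IsIso ((Over.forget S).map f) := hisol
  exact isIso_of_reflects_iso f (Over.forget S)

end Groth.Agent.S18858
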