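import Groth.Statements.S18859
import Groth.Agent.H28.FpqcCov
import Groth.Agent.H28.FnDesc

set_option autoImplicit false
universe u
open CategoryTheory MonoidalCategory CartesianMonoidalCategory MonObj GrpObj AlgebraicGeometry
open NonAbH1

namespace Groth.Agent.S18859

/-- Let S be a scheme, G a group scheme over S and X → S a G-torsor for the fpqc topology (a
pseudo-torsor under G acquiring sections on the members of some fpqc covering family of S). Then the
functions on S are the G-invariant functions on X: the ring map Γ(S, O_S) → Γ(X, O_X) is injective,
and a global function s on X lies in its image if and only if the pullbacks of s to G ×_S X along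
the action morphism and along the second projection coincide. (The source works over a scheme of
finite type over a field with G the base change of an affine group scheme over that field and states
the equality O_S = (O_X)^G as sheaves on S; applied to the restriction of the torsor over each open
of S, the present global form is that equality.) -/
theorem result {S : Scheme.{u}} {G X : Over S}
    [GrpObj G] (a : AlgGrp.Action G X) (ha : NonAbH1.IsTorsorFor Scheme.fpqcPrecoverage a) :
    Function.Injective X.hom.appTop.hom ∧
      ∀ s : Γ(X.left, ⊤), s ∈ Set.range X.hom.appTop.hom ↔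
        a.act.left.appTop.hom s = (CartesianMonoidalCategory.snd G X).left.appTop.hom s := by
  obtain ⟨hpt, R, hR, hsec⟩ := ha
  have hcov : Groth.Agent.H28.FpqcCov.Cov X.hom := by
    have h1 := Precoverage.generate_mem_toGrothendieck hR
    refine Scheme.fpqcTopology.superset_covering ?_ h1
    intro T g hg
    obtain ⟨W, c, b, hb, rfl⟩ := hg
    obtain ⟨s, hs⟩ := hsec b hb
    exact ⟨_, c ≫ s, X.hom, Presieve.singleton.mk, by
      rw [Category.assoc]; exact congrArg (c ≫ ·) hs⟩
  have hee : EffectiveEpi X.hom := hcov.effectiveEpi
  have sq0 : IsPullback (fst X X).left (snd X X).left X.hom X.hom :=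
    IsPullback.of_hasPullback _ _
  have hiso : IsIso (lift a.act (snd G X)) := hpt
  let e : (G ⊗ X) ≅ (X ⊗ X) := asIso (lift a.act (snd G X))
  have he1 : e.inv ≫ a.act = fst X X := by
    rw [Iso.inv_comp_eq]; simp [e]
  have he2 : e.inv ≫ snd G X = snd X X := by
    rw [Iso.inv_comp_eq]; simp [e]
  have sq : IsPullback a.act.left (snd G X).left X.hom X.hom := by
    refine IsPullback.of_iso sq0 ((Over.forget _).mapIso e.symm) (Iso.refl _) (Iso.refl _)
      (Iso.refl _) ?_ ?_ (by simp) (by simp)
    · simp only [Iso.refl_hom, Category.comp_id, Functor.mapIso_hom, Iso.symm_hom,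
        Over.forget_map]
      rw [← Over.comp_left, he1]
    · simp only [Iso.refl_hom, Category.comp_id, Functor.mapIso_hom, Iso.symm_hom,
        Over.forget_map]
      rw [← Over.comp_left, he2]
  exact Groth.Agent.H28.FnDesc.fn_descent X.hom a.act.left (snd G X).left sq


end Groth.Agent.S18859
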