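import Groth.Statements.S1886
import Mathlib
import Groth.Agent.Lib.Helper5.GrpdLib

set_option autoImplicit false
universe u
open CategoryTheory CategoryTheory.Limits AlgebraicGeometry
open Grpd

namespace Groth.Agent.S1886

section Aux
open Groth.Agent.Helper5.GrpdLib

variable {S : Scheme.{u}} (G : Grpd.GroupoidScheme S)

lemma eq_of_cmp_i_eq {T : Scheme.{u}} (ρ₁ ρ₂ : T ⟶ G.R) (h : ρ₁ ≫ G.s = (ρ₂ ≫ G.i) ≫ G.t)
    (υ : T ⟶ G.U) (h1 : cmp G ρ₁ (ρ₂ ≫ G.i) h = υ ≫ G.e) (h2 : ρ₂ ≫ G.t = υ) : ρ₁ = ρ₂ := by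
  have h' : cmp G ρ₁ (ρ₂ ≫ G.i) h ≫ G.s = ρ₂ ≫ G.t := by rw [cmp_s, Category.assoc, G.i_s]
  have e1 := cmp_i_cmp' ρ₁ ρ₂ h h'
  have e2 : cmp G (cmp G ρ₁ (ρ₂ ≫ G.i) h) ρ₂ h' = ρ₂ :=
    e_cmp _ _ (by rw [h1, ← h2, Category.assoc]) _
  exact e1.symm.trans e2

lemma ht : pullback.fst G.j G.j ≫ G.t = pullback.snd G.j G.j ≫ G.t := by
  have := congrArg (fun x => x ≫ pullback.fst G.pU G.pU)
    (pullback.condition (f := G.j) (g := G.j))
  simpa only [Category.assoc, j_fst] using this

lemma hs : pullback.fst G.j G.j ≫ G.s = pullback.snd G.j G.j ≫ G.s := by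
  have := congrArg (fun x => x ≫ pullback.snd G.pU G.pU)
    (pullback.condition (f := G.j) (g := G.j))
  simpa only [Category.assoc, j_snd] using this

lemma hγ : pullback.fst G.j G.j ≫ G.s = (pullback.snd G.j G.j ≫ G.i) ≫ G.t := by
  rw [Category.assoc, G.i_t, hs]

lemma hstab : cmp G (pullback.fst G.j G.j) (pullback.snd G.j G.j ≫ G.i) (hγ G) ≫ G.j =
    (pullback.snd G.j G.j ≫ G.t) ≫ G.diag := by
  apply pullback.hom_ext
  · rw [Category.assoc, j_fst, Category.assoc, diag_fst, Category.comp_id, cmp_t, ht]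
  · rw [Category.assoc, j_snd, Category.assoc, diag_snd, Category.comp_id, cmp_s, Category.assoc,
      G.i_s]

/-- `(r₁, r₂) ↦ r₁ ∘ r₂⁻¹` as a point of the stabilizer -/
noncomputable def δ : pullback G.j G.j ⟶ pullback G.j G.diag :=
  pullback.lift _ _ (hstab G)

lemma δ_fst : δ G ≫ pullback.fst G.j G.diag =
    cmp G (pullback.fst G.j G.j) (pullback.snd G.j G.j ≫ G.i) (hγ G) := pullback.lift_fst _ _ _

lemma δ_snd : δ G ≫ pullback.snd G.j G.diag = pullback.snd G.j G.j ≫ G.t :=
  pullback.lift_snd _ _ _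

/-- the identity section of the stabilizer, typed into the pullback -/
noncomputable def eS : G.U ⟶ pullback G.j G.diag :=
  pullback.lift G.e (𝟙 G.U) (by
    apply pullback.hom_ext
    · simp only [Category.assoc, j_fst, diag_fst, G.e_t, Category.id_comp]
    · simp only [Category.assoc, j_snd, diag_snd, G.e_s, Category.id_comp])

lemma eS_fst : eS G ≫ pullback.fst G.j G.diag = G.e := pullback.lift_fst _ _ _

lemma eS_snd : eS G ≫ pullback.snd G.j G.diag = 𝟙 _ := pullback.lift_snd _ _ _

lemma isPullback_diag :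
    IsPullback (pullback.diagonal G.j) G.t (δ G) (eS G) := by
  have w : pullback.diagonal G.j ≫ δ G = G.t ≫ eS G := by
    apply pullback.hom_ext
    · rw [Category.assoc, δ_fst, Category.assoc, eS_fst, comp_cmp]
      exact (cmp_congr (pullback.diagonal_fst G.j)
        (by rw [← Category.assoc, pullback.diagonal_snd]) _).trans
        ((cmp_i (𝟙 G.R) (𝟙 G.R ≫ G.i) rfl _).trans (Category.id_comp _))
    · rw [Category.assoc, δ_snd, Category.assoc, eS_snd, ← Category.assoc,
        pullback.diagonal_snd, Category.id_comp, Category.comp_id]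
  have hk : ∀ k : PullbackCone (δ G) (eS G),
      k.fst ≫ pullback.fst G.j G.j = k.fst ≫ pullback.snd G.j G.j ∧
        k.fst ≫ pullback.snd G.j G.j ≫ G.t = k.snd := by
    intro k
    have c1 := congrArg (fun x => x ≫ pullback.fst G.j G.diag) k.condition
    have c2 := congrArg (fun x => x ≫ pullback.snd G.j G.diag) k.condition
    simp only [Category.assoc, δ_fst, δ_snd, eS_fst, eS_snd, Category.comp_id] at c1 c2
    rw [comp_cmp] at c1
    refine ⟨eq_of_cmp_i_eq G (k.fst ≫ pullback.fst G.j G.j) (k.fst ≫ pullback.snd G.j G.j) ?_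
      k.snd ?_ ((Category.assoc _ _ _).trans c2), c2⟩
    · simp only [Category.assoc, G.i_t, hs]
    · exact (cmp_congr rfl (Category.assoc _ _ _) _).trans c1
  refine ⟨⟨w⟩, ⟨PullbackCone.IsLimit.mk w (fun k => k.fst ≫ pullback.fst G.j G.j) ?_ ?_ ?_⟩⟩
  · intro k
    apply pullback.hom_ext
    · rw [Category.assoc, pullback.diagonal_fst, Category.comp_id]
    · rw [Category.assoc, pullback.diagonal_snd, Category.comp_id, (hk k).1]
  · intro k
    rw [Category.assoc, ht, (hk k).2]
  · intro k m hm1 hm2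
    rw [← hm1, Category.assoc, pullback.diagonal_fst, Category.comp_id]

end Aux

/-- Let (U, R, s, t, c) be a groupoid scheme over S with stabilizer group scheme G → U and identity
section e : U → G. Then j = (t, s) : R → U ×_S U is separated iff G → U is separated iff e is a
closed immersion; and j is quasi-separated iff G → U is quasi-separated iff e is quasi-compact. (A
groupoid scheme carries U, R, s, t, c, e, i over S with the groupoid axioms on T-points; 'finite
locally free' is finite, flat and locally of finite presentation; C ⊂ Γ(U) is the ring of functions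
a with s♯(a) = t♯(a) and M = Spec C.) -/
theorem result (S : Scheme.{u}) (G : Grpd.GroupoidScheme S) : ((IsSeparated G.j ↔ IsSeparated G.stabilizerToU) ∧ (IsSeparated G.stabilizerToU ↔ IsClosedImmersion G.eStab)) ∧ ((QuasiSeparated G.j ↔ QuasiSeparated G.stabilizerToU) ∧ (QuasiSeparated G.stabilizerToU ↔ QuasiCompact G.eStab)) := by
  have hpb := isPullback_diag G
  have hsec : G.eStab ≫ G.stabilizerToU = 𝟙 G.U := eS_snd G
  have h12 : IsSeparated G.j → IsSeparated G.stabilizerToU := fun h =>
    MorphismProperty.pullback_snd (P := @IsSeparated) G.j G.diag h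
  have h23 : IsSeparated G.stabilizerToU → IsClosedImmersion G.eStab := fun h => by
    haveI := h
    haveI : IsClosedImmersion (G.eStab ≫ G.stabilizerToU) := by rw [hsec]; infer_instance
    exact IsClosedImmersion.of_comp G.eStab G.stabilizerToU
  have h31 : IsClosedImmersion G.eStab → IsSeparated G.j := fun h =>
    ⟨MorphismProperty.of_isPullback (P := @IsClosedImmersion) hpb.flip h⟩
  have h12' : QuasiSeparated G.j → QuasiSeparated G.stabilizerToU := fun h =>
    MorphismProperty.pullback_snd (P := @QuasiSeparated) G.j G.diag h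
  have h23' : QuasiSeparated G.stabilizerToU → QuasiCompact G.eStab := fun h => by
    haveI := h
    haveI : QuasiCompact (G.eStab ≫ G.stabilizerToU) := by rw [hsec]; infer_instance
    exact QuasiCompact.of_comp G.eStab G.stabilizerToU
  have h31' : QuasiCompact G.eStab → QuasiSeparated G.j := fun h =>
    ⟨MorphismProperty.of_isPullback (P := @QuasiCompact) hpb.flip h⟩
  exact ⟨⟨⟨h12, fun h => h31 (h23 h)⟩, ⟨h23, fun h => h12 (h31 h)⟩⟩,
    ⟨⟨h12', fun h => h31' (h23' h)⟩, ⟨h23', fun h => h12' (h31' h)⟩⟩⟩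

end Groth.Agent.S1886
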