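import Groth.Statements.S6003
import Groth.Agent.H28.FpqcFam
import Groth.Agent.S8039

set_option autoImplicit false
universe u
open CategoryTheory AlgebraicGeometry
open SGA1

namespace Groth.Agent.S6003

section
open MonoidalCategory CartesianMonoidalCategory MonObj

/-- A pseudo-torsor with a `T`-point becomes isomorphic to `G` over `T`; so the projection
`X ×_S T ⟶ T` inherits the base-change stable properties of `G ⟶ S`. -/
theorem prop_of_section {S : Scheme.{u}} {G X : Over S} [GrpObj G] (a : AlgGrp.Action G X)
    (hps : IsIso (lift a.act (snd G X))) (P : MorphismProperty Scheme.{u}) [P.RespectsIso]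
    [P.IsStableUnderBaseChange] (hP : P G.hom) {Y : Scheme.{u}} (g : Y ⟶ S)
    (s : Y ⟶ X.left) (hs : s ≫ X.hom = g) : P (Limits.pullback.snd X.hom g) := by
  let T : Over S := Over.mk g
  let x : T ⟶ X := Over.homMk s hs
  obtain ⟨gm, hgm⟩ := Groth.Agent.S8039.torsor_exists a hps (fst X T) (snd X T ≫ x)
  let ψ : G ⊗ T ⟶ X ⊗ T := lift (lift (fst G T) (snd G T ≫ x) ≫ a.act) (snd G T)
  let ψinv : X ⊗ T ⟶ G ⊗ T := lift gm (snd X T)
  have h1 : ψinv ≫ ψ = 𝟙 _ := by
    apply CartesianMonoidalCategory.hom_ext
    · simp only [ψ, ψinv, Category.assoc, lift_fst, Category.id_comp]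
      rw [← Category.assoc, comp_lift, lift_fst, ← Category.assoc, lift_snd, hgm]
    · simp only [ψ, ψinv, Category.assoc, lift_snd, Category.id_comp]
  have h2 : ψ ≫ gm = fst G T := by
    apply Groth.Agent.S8039.torsor_free a hps _ _ (snd G T ≫ x)
    have h3 : ψ ≫ snd X T = snd G T := lift_snd _ _
    have h4 : lift (ψ ≫ gm) (snd G T ≫ x) = ψ ≫ lift gm (snd X T ≫ x) := by
      rw [comp_lift, ← Category.assoc, h3]
    rw [h4, Category.assoc, hgm]
    exact lift_fst _ _
  have h5 : ψ ≫ ψinv = 𝟙 _ := by
    apply CartesianMonoidalCategory.hom_ext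
    · simp only [ψinv, Category.assoc, lift_fst, Category.id_comp]
      exact h2
    · simp only [ψinv, Category.assoc, lift_snd, Category.id_comp]
      exact lift_snd _ _
  have hiso : IsIso ψinv := ⟨ψ, h1, h5⟩
  have hisol : IsIso ψinv.left := inferInstanceAs (IsIso ((Over.forget S).map ψinv))
  have h6 : (snd X T).left = ψinv.left ≫ (snd G T).left := by
    rw [← Over.comp_left]
    congr 1
    exact (lift_snd _ _).symm
  have h7 : (snd X T).left = Limits.pullback.snd X.hom g := Over.snd_left ..
  have h8 : (snd G T).left = Limits.pullback.snd G.hom g := Over.snd_left ..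
  rw [← h7, h6, P.cancel_left_of_respectsIso, h8]
  exact P.pullback_snd _ _ hP

theorem surjective_hom_of_grpObj {S : Scheme.{u}} (G : Over S) [GrpObj G] : Surjective G.hom := by
  have h1 : η[G].left ≫ G.hom = 𝟙 S := by
    simp
  have h2 : Surjective (η[G].left ≫ G.hom) := by
    rw [h1]
    exact ⟨fun x => ⟨x, rfl⟩⟩
  exact Surjective.of_comp η[G].left G.hom

end

/-- Let G be an S-group scheme which is flat and quasi-compact over S and let G act on the S-scheme X.
Then X is a principal homogeneous bundle under G (a pseudo-torsor which acquires sections on the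
members of some fpqc covering family of S) if and only if X is formally principal homogeneous (a
pseudo-torsor) and the structure morphism X → S is faithfully flat and quasi-compact. -/
theorem result {S : Scheme.{u}}
    (G X : Over S) [GrpObj G] [Flat G.hom] [QuasiCompact G.hom] (a : AlgGrp.Action G X) :
    NonAbH1.IsTorsorFor Scheme.fpqcPrecoverage a ↔
      (NonAbH1.IsPseudoTorsorSch a ∧ Surjective X.hom ∧ Flat X.hom ∧ QuasiCompact X.hom) := by
  constructor
  · rintro ⟨hps, R, hR, hsec⟩
    have hGs : Surjective G.hom := surjective_hom_of_grpObj G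
    refine ⟨hps, ?_, ?_, ?_⟩
    · refine Groth.Agent.H28.FpqcFam.of_fpqcPrecoverage @Surjective X.hom hR ?_
      intro Y g hg
      obtain ⟨s, hs⟩ := hsec g hg
      exact prop_of_section a hps @Surjective hGs g s hs
    · refine Groth.Agent.H28.FpqcFam.of_fpqcPrecoverage @Flat X.hom hR ?_
      intro Y g hg
      obtain ⟨s, hs⟩ := hsec g hg
      exact prop_of_section a hps @Flat inferInstance g s hs
    · refine Groth.Agent.H28.FpqcFam.of_fpqcPrecoverage @QuasiCompact X.hom hR ?_
      intro Y g hg
      obtain ⟨s, hs⟩ := hsec g hg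
      exact prop_of_section a hps @QuasiCompact inferInstance g s hs
  · rintro ⟨hps, hsj, hfl, hqc⟩
    refine ⟨hps, Presieve.singleton X.hom, Scheme.Hom.singleton_mem_fpqcPrecoverage X.hom, ?_⟩
    intro S' f hf
    cases hf
    exact ⟨𝟙 _, Category.id_comp _⟩


end Groth.Agent.S6003
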