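import Groth.Statements.S18861
import Mathlib
set_option linter.style.haveILetI false

set_option autoImplicit false
universe u
open CategoryTheory MonoidalCategory CartesianMonoidalCategory MonObj GrpObj AlgebraicGeometry
open AlgGrp

namespace Groth.Agent.S18861

section Aux
open CategoryTheory.Limits

namespace H26Act

variable {S : Scheme.{u}} {G X : Over S} [GrpObj G] (a : AlgGrp.Action G X)

theorem smul_mul {T : Over S} (g h : T ⟶ G) (x : T ⟶ X) :
    lift (g * h) x ≫ a.act = lift g (lift h x ≫ a.act) ≫ a.act := by
  have h1 := congrArg (fun m => lift (lift g h) x ≫ m) a.mul_act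
  simp only [lift_whiskerRight_assoc, lift_lift_associator_hom_assoc, lift_whiskerLeft_assoc] at h1
  rw [Hom.mul_def]
  exact h1

theorem one_smul' {T : Over S} (x : T ⟶ X) : lift (1 : T ⟶ G) x ≫ a.act = x := by
  have h1 := congrArg (fun m => lift (toUnit T) x ≫ m) a.one_act
  simp only [lift_whiskerRight_assoc, lift_leftUnitor_hom] at h1
  rw [Hom.one_def]
  exact h1

noncomputable def shear : G ⊗ X ⟶ G ⊗ X := lift (fst G X) a.act

noncomputable def shearInv : G ⊗ X ⟶ G ⊗ X := lift (fst G X) (lift (fst G X)⁻¹ (snd G X) ≫ a.act)

theorem e1 : shear a ≫ fst G X = fst G X := lift_fst _ _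
theorem e2 : shear a ≫ snd G X = a.act := lift_snd _ _
theorem e3 : shearInv a ≫ fst G X = fst G X := lift_fst _ _
theorem e4 : shearInv a ≫ snd G X = lift (fst G X)⁻¹ (snd G X) ≫ a.act := lift_snd _ _

theorem shear_inv : shear a ≫ shearInv a = 𝟙 _ := by
  apply CartesianMonoidalCategory.hom_ext
  · rw [Category.assoc, e3, e1, Category.id_comp]
  · rw [Category.assoc, e4, Category.id_comp, ← Category.assoc, comp_lift, GrpObj.comp_inv, e1, e2]
    have h : lift (fst G X)⁻¹ (lift (fst G X) (snd G X) ≫ a.act) ≫ a.act = snd G X := by
      rw [← smul_mul, _root_.inv_mul_cancel, one_smul']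
    rw [lift_fst_snd, Category.id_comp] at h
    exact h

theorem inv_shear : shearInv a ≫ shear a = 𝟙 _ := by
  apply CartesianMonoidalCategory.hom_ext
  · rw [Category.assoc, e1, e3, Category.id_comp]
  · rw [Category.assoc, e2, Category.id_comp]
    have h := lift_comp_fst_snd (shearInv a)
    rw [← h, e3, e4, ← smul_mul, _root_.mul_inv_cancel, one_smul']

theorem main_P (P : MorphismProperty Scheme.{u}) [P.IsStableUnderBaseChange] (h : P G.hom) :
    P a.act.left := by
  haveI : P.RespectsIso := MorphismProperty.IsStableUnderBaseChange.respectsIso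
  have e : a.act = shear a ≫ snd G X := (e2 a).symm
  haveI : IsIso (shear a) := ⟨shearInv a, shear_inv a, inv_shear a⟩
  have hl : a.act.left = (shear a).left ≫ pullback.snd G.hom X.hom := by
    rw [← Over.snd_left, ← Over.comp_left, ← e]
  rw [hl]
  haveI : IsIso (shear a).left := (Over.forget S).map_isIso (shear a)
  rw [P.cancel_left_of_respectsIso]
  exact P.pullback_snd _ _ h

end H26Act

end Aux

/-- Let S be a scheme and G a group scheme over S acting on an S-scheme X, with action morphism G ×_S X
→ X. If G → S is surjective, resp. flat, resp. affine, resp. proper, resp. finite, resp. smooth,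
then so is the action morphism. (The source works over a field, where G → S is automatically
faithfully flat, with G and X of finite type, and concludes that the action morphism is faithfully
flat, and smooth, affine, proper or finite when G is; the base and the finiteness conditions play no
role.) -/
theorem result {S : Scheme.{u}} {G X : Over S} [GrpObj G]
    (a : AlgGrp.Action G X) :
    (Surjective G.hom → Surjective a.act.left) ∧ (Flat G.hom → Flat a.act.left) ∧
      (IsAffineHom G.hom → IsAffineHom a.act.left) ∧ (IsProper G.hom → IsProper a.act.left) ∧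
      (IsFinite G.hom → IsFinite a.act.left) ∧ (Smooth G.hom → Smooth a.act.left) := by
  exact ⟨fun h => H26Act.main_P a @Surjective h, fun h => H26Act.main_P a @Flat h,
    fun h => H26Act.main_P a @IsAffineHom h, fun h => H26Act.main_P a @IsProper h,
    fun h => H26Act.main_P a @IsFinite h, fun h => H26Act.main_P a @Smooth h⟩

end Groth.Agent.S18861
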