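import Groth.Statements.S18864
import Mathlib
-- import your own Groth.Agent.* helpers here

set_option autoImplicit false
universe u v w
open HopfRep

namespace Groth.Agent.S18864

open TensorProduct

/-- Let k be a field and G = lim G_i a pro-algebraic group scheme over k, so that G = Spec A with A the
direct limit of the Hopf algebras A_i of the affine group schemes G_i of finite type; assume
moreover that the maps A_i → A are injective, so that A is the directed union of the A_i, here given
as injective bialgebra maps A_i → A with directed, jointly covering images. Then every homomorphism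
from G to an affine group scheme H = Spec B of finite type over k factors through some projection G
→ G_i: every bialgebra map f : B → A with B finitely generated as a k-algebra is the composite of
A_i → A with a bialgebra map B → A_i for some i. (The published statement allows arbitrary
transition maps in the system; this row assumes each A_i → A injective, the case the printed
argument treats. The source also states the pro-finite variant with H finite, which is the case of
finite-dimensional A_i and B; finite generation of the A_i is not used.) -/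
theorem result (k : Type u) [Field k]
    (A : Type v) [CommRing A] [HopfAlgebra k A] {ι : Type v} (Aι : ι → Type v)
    [∀ i, CommRing (Aι i)] [∀ i, HopfAlgebra k (Aι i)] (emb : ∀ i, Aι i →ₐc[k] A)
    (hinj : ∀ i, Function.Injective (emb i))
    (hdir : ∀ i j, ∃ l, Set.range (emb i) ⊆ Set.range (emb l) ∧ Set.range (emb j) ⊆ Set.range (emb l))
    (hcov : ∀ a : A, ∃ i, a ∈ Set.range (emb i))
    (B : Type w) [CommRing B] [HopfAlgebra k B] [Algebra.FiniteType k B] (f : B →ₐc[k] A) :
    ∃ (i : ι) (g : B →ₐc[k] Aι i), (emb i).comp g = f := by
  classical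
  obtain ⟨i0, -⟩ := hcov 0
  obtain ⟨s, hs⟩ := (Algebra.FiniteType.out : (⊤ : Subalgebra k B).FG)
  have hfin : ∀ t : Finset B, ∃ l, ∀ b ∈ t, f b ∈ Set.range (emb l) := by
    intro t
    induction t using Finset.induction_on with
    | empty => exact ⟨i0, fun b hb => absurd hb (Finset.notMem_empty b)⟩
    | insert b t hbt ih =>
      obtain ⟨l1, hl1⟩ := ih
      obtain ⟨l2, hl2⟩ := hcov (f b)
      obtain ⟨l, h1, h2⟩ := hdir l1 l2
      refine ⟨l, fun b' hb' => ?_⟩
      rcases Finset.mem_insert.mp hb' with rfl | hb'
      · exact h2 hl2
      · exact h1 (hl1 b' hb')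
  obtain ⟨l, hl⟩ := hfin s
  have hrange : ∀ b : B, ∃ a : Aι l, emb l a = f b := by
    intro b
    have hb : b ∈ Algebra.adjoin k (s : Set B) := by
      rw [hs]
      exact Algebra.mem_top
    have hle : Algebra.adjoin k (s : Set B) ≤
        ((emb l : Aι l →ₐ[k] A).range).comap (f : B →ₐ[k] A) := by
      apply Algebra.adjoin_le
      intro x hx
      obtain ⟨a, ha⟩ := hl x hx
      exact ⟨a, ha⟩
    obtain ⟨a, ha⟩ := hle hb
    exact ⟨a, ha⟩
  choose g0 hg0 using hrange
  obtain ⟨g, hg⟩ : ∃ g : B →ₐ[k] Aι l, ∀ b, emb l (g b) = f b :=
    ⟨{ toFun := g0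
       map_one' := hinj l (by rw [hg0, map_one, map_one])
       map_mul' := fun x y => hinj l (by rw [hg0, map_mul, map_mul, hg0, hg0])
       map_zero' := hinj l (by rw [hg0, map_zero, map_zero])
       map_add' := fun x y => hinj l (by rw [hg0, map_add, map_add, hg0, hg0])
       commutes' := fun r => hinj l (by
         rw [hg0, AlgHomClass.commutes, AlgHomClass.commutes]) }, hg0⟩
  have hcounit : (Bialgebra.counitAlgHom k (Aι l)).comp g = Bialgebra.counitAlgHom k B := by
    apply AlgHom.ext
    intro b
    show Coalgebra.counit (R := k) (g b) = Coalgebra.counit (R := k) b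
    rw [← CoalgHomClass.counit_comp_apply (emb l) (g b), hg,
      CoalgHomClass.counit_comp_apply f b]
  have hinj2 : Function.Injective
      (TensorProduct.map (emb l : Aι l →ₗ[k] A) (emb l : Aι l →ₗ[k] A)) :=
    TensorProduct.map_injective_of_flat_flat _ _ (hinj l) (hinj l)
  have e1 : ∀ t : B ⊗[k] B,
      TensorProduct.map (emb l : Aι l →ₗ[k] A) (emb l : Aι l →ₗ[k] A)
        (Algebra.TensorProduct.map g g t) =
      TensorProduct.map (f : B →ₗ[k] A) (f : B →ₗ[k] A) t := by
    intro t
    induction t using TensorProduct.induction_on with
    | zero => simp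
    | tmul x y =>
      rw [Algebra.TensorProduct.map_tmul, TensorProduct.map_tmul, TensorProduct.map_tmul]
      show emb l (g x) ⊗ₜ[k] emb l (g y) = f x ⊗ₜ[k] f y
      rw [hg, hg]
    | add s t hs ht => simp only [map_add, hs, ht]
  have hcomul : (Algebra.TensorProduct.map g g).comp (Bialgebra.comulAlgHom k B) =
      (Bialgebra.comulAlgHom k (Aι l)).comp g := by
    apply AlgHom.ext
    intro b
    show Algebra.TensorProduct.map g g (Coalgebra.comul (R := k) b) =
      Coalgebra.comul (R := k) (g b)
    apply hinj2
    rw [e1, CoalgHomClass.map_comp_comul_apply f b,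
      CoalgHomClass.map_comp_comul_apply (emb l) (g b), hg]
  exact ⟨l, BialgHom.ofAlgHom g hcounit hcomul, BialgHom.ext fun b => hg b⟩

end Groth.Agent.S18864
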