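import Groth.Statements.S18866
import Groth.Agent.H29.Unmixed

set_option autoImplicit false
universe u
open Liaison

namespace Groth.Agent.S18866

/-- Let K be a field, R = K[x_0, …, x_n] graded by degree, c ≥ 2, 𝔠 ⊂ R a homogeneous ideal of height c
such that R/𝔠 is a Gorenstein ring, and I, J ⊂ R homogeneous ideals that are directly linked by 𝔠,
that is 𝔠 : I = J and 𝔠 : J = I. If R/I and R/J have no associated prime in common, then I ∩ J = 𝔠,
so I and J are geometrically linked by 𝔠. -/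
theorem result (K : Type u) [Field K] (n c : ℕ) (hc : 2 ≤ c)
    (𝔠 I J : Ideal (MvPolynomial (Fin (n + 1)) K))
    (h𝔠 : 𝔠.IsHomogeneous (GrSyz.stdGr K (Fin (n + 1)))) (hI : I.IsHomogeneous (GrSyz.stdGr K (Fin (n + 1)))) (hJ : J.IsHomogeneous (GrSyz.stdGr K (Fin (n + 1))))
    [LocCoh.IsGorensteinRing (MvPolynomial (Fin (n + 1)) K ⧸ 𝔠)] (h𝔠c : 𝔠.height = c)
    (hIJ : 𝔠.colon (I : Set (MvPolynomial (Fin (n + 1)) K)) = J) (hJI : 𝔠.colon (J : Set (MvPolynomial (Fin (n + 1)) K)) = I)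
    (hdisj : Disjoint (associatedPrimes (MvPolynomial (Fin (n + 1)) K) (MvPolynomial (Fin (n + 1)) K ⧸ I)) (associatedPrimes (MvPolynomial (Fin (n + 1)) K) (MvPolynomial (Fin (n + 1)) K ⧸ J))) :
    I ⊓ J = 𝔠 := by
  classical
  have hCM := fun (P : Ideal (MvPolynomial (Fin (n + 1)) K ⧸ 𝔠)) (hP : P.IsPrime) =>
    @Groth.Agent.H29.cm_of_gorensteinRing (MvPolynomial (Fin (n + 1)) K ⧸ 𝔠) _ _ P hP
  have h𝔠I : 𝔠 ≤ I := by
    rw [← hJI]
    intro c hc
    rw [Submodule.mem_colon]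
    intro a _
    exact 𝔠.mul_mem_right a hc
  have h𝔠J : 𝔠 ≤ J := by
    rw [← hIJ]
    intro c hc
    rw [Submodule.mem_colon]
    intro a _
    exact 𝔠.mul_mem_right a hc
  apply le_antisymm
  · intro x hx
    obtain ⟨hxI, hxJ⟩ := Ideal.mem_inf.mp hx
    by_contra hxc
    have hne : (Ideal.Quotient.mk 𝔠 x) ≠ 0 := by
      rwa [Ne, Ideal.Quotient.eq_zero_iff_mem]
    obtain ⟨p, hpass, hle⟩ := exists_le_isAssociatedPrime_of_isNoetherianRing
      (MvPolynomial (Fin (n + 1)) K) (Ideal.Quotient.mk 𝔠 x) hne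
    have hpmin := Groth.Agent.H29.mem_minimalPrimes_of_mem_associatedPrimes_quotient
      (MvPolynomial (Fin (n + 1)) K) 𝔠 (fun P hP => hCM P hP) p hpass
    have hpprime : p.IsPrime := hpmin.1.1
    have hkill : ∀ a : MvPolynomial (Fin (n + 1)) K, a * x ∈ 𝔠 → a ∈ p := by
      intro a ha
      apply hle
      rw [Submodule.mem_colon_singleton, Submodule.mem_bot]
      show a • (Ideal.Quotient.mk 𝔠 x) = 0
      rw [← Ideal.Quotient.mk_eq_mk, ← Submodule.Quotient.mk_smul, Ideal.Quotient.mk_eq_mk,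
        Ideal.Quotient.eq_zero_iff_mem]
      exact ha
    have hIp : I ≤ p := by
      intro a ha
      apply hkill
      rw [← hIJ] at hxJ
      have := Submodule.mem_colon.mp hxJ a ha
      rwa [smul_eq_mul, mul_comm] at this
    have hJp : J ≤ p := by
      intro a ha
      apply hkill
      rw [← hJI] at hxI
      have := Submodule.mem_colon.mp hxI a ha
      rwa [smul_eq_mul, mul_comm] at this
    have hpI : p ∈ I.minimalPrimes :=
      ⟨⟨hpprime, hIp⟩, fun q hq hqp => hpmin.2 ⟨hq.1, h𝔠I.trans hq.2⟩ hqp⟩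
    have hpJ : p ∈ J.minimalPrimes :=
      ⟨⟨hpprime, hJp⟩, fun q hq hqp => hpmin.2 ⟨hq.1, h𝔠J.trans hq.2⟩ hqp⟩
    have hassI : p ∈ associatedPrimes (MvPolynomial (Fin (n + 1)) K)
        (MvPolynomial (Fin (n + 1)) K ⧸ I) :=
      Module.associatedPrimes.minimalPrimes_annihilator_subset_associatedPrimes
        (R := MvPolynomial (Fin (n + 1)) K) (M := MvPolynomial (Fin (n + 1)) K ⧸ I)
        (by rw [Ideal.annihilator_quotient]; exact hpI)
    have hassJ : p ∈ associatedPrimes (MvPolynomial (Fin (n + 1)) K)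
        (MvPolynomial (Fin (n + 1)) K ⧸ J) :=
      Module.associatedPrimes.minimalPrimes_annihilator_subset_associatedPrimes
        (R := MvPolynomial (Fin (n + 1)) K) (M := MvPolynomial (Fin (n + 1)) K ⧸ J)
        (by rw [Ideal.annihilator_quotient]; exact hpJ)
    exact Set.disjoint_left.mp hdisj hassI hassJ
  · exact le_inf h𝔠I h𝔠J

end Groth.Agent.S18866
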