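import Groth.Statements.S1888
import Mathlib
import Groth.Agent.Lib.Helper5.GrpdLib

set_option autoImplicit false
universe u
open CategoryTheory CategoryTheory.Limits AlgebraicGeometry
open Grpd

namespace Groth.Agent.S1888

section Aux
open Groth.Agent.Helper5.GrpdLib

lemma isIso_fromSpecResidueField_Spec (k : Type u) [Field k] (x : Spec (CommRingCat.of k)) :
    IsIso ((Spec (CommRingCat.of k)).fromSpecResidueField x) := by
  rw [← Scheme.Spec.map_residueFieldIso_inv_eq_fromSpecResidueField]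
  have : IsIso (CommRingCat.ofHom (algebraMap k x.asIdeal.ResidueField)) := by
    have e : CommRingCat.ofHom (algebraMap k x.asIdeal.ResidueField) =
        (Ideal.algEquivResidueFieldOfField x.asIdeal).toRingEquiv.toCommRingCatIso.hom := by
      ext a; rfl
    rw [e]; infer_instance
  infer_instance

theorem aux (S : Scheme.{u}) (G : Grpd.GroupoidScheme S) (k : Type u) [Field k]
    (eU : G.U ≅ Spec (CommRingCat.of k)) (r : G.R) (hs : IsIso (G.s.residueFieldMap r))
    (ht : IsIso (G.t.residueFieldMap r)) :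
    ∃ φ : G.R ≅ G.R, φ.hom (G.e (eU.inv (IsLocalRing.closedPoint k))) = r := by
  have hUiso : ∀ u : G.U, IsIso (G.U.fromSpecResidueField u) := by
    intro u
    have e := Scheme.Hom.SpecMap_residueFieldMap_fromSpecResidueField (f := eU.hom) u
    haveI := isIso_fromSpecResidueField_Spec k (eU.hom u)
    have h1 : IsIso (G.U.fromSpecResidueField u ≫ eU.hom) := by rw [← e]; infer_instance
    exact IsIso.of_isIso_comp_right _ eU.hom
  have hτ : IsIso (G.R.fromSpecResidueField r ≫ G.t) := by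
    rw [← Scheme.Hom.SpecMap_residueFieldMap_fromSpecResidueField]
    haveI := hUiso (G.t r)
    infer_instance
  have hσ : IsIso (G.R.fromSpecResidueField r ≫ G.s) := by
    rw [← Scheme.Hom.SpecMap_residueFieldMap_fromSpecResidueField]
    haveI := hUiso (G.s r)
    infer_instance
  obtain ⟨ρ, hρ⟩ : ∃ ρ : G.U ⟶ G.R,
    ρ = inv (G.R.fromSpecResidueField r ≫ G.t) ≫ G.R.fromSpecResidueField r := ⟨_, rfl⟩
  have hρt : ρ ≫ G.t = 𝟙 _ := by rw [hρ, Category.assoc, IsIso.inv_hom_id]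
  obtain ⟨θ, hθ⟩ : ∃ θ : G.U ⟶ G.U, θ = ρ ≫ G.s := ⟨_, rfl⟩
  have hθiso : IsIso θ := by rw [hθ, hρ, Category.assoc]; infer_instance
  have hρpt : ∀ x : G.U, ρ x = r := by
    intro x
    rw [hρ, Scheme.Hom.comp_apply, Scheme.fromSpecResidueField_apply]
  have hφc : (G.t ≫ inv θ ≫ ρ) ≫ G.s = 𝟙 G.R ≫ G.t := by
    rw [Category.id_comp, Category.assoc, Category.assoc, ← hθ, IsIso.inv_hom_id, Category.comp_id]
  have hψc : (G.t ≫ ρ ≫ G.i) ≫ G.s = 𝟙 G.R ≫ G.t := by
    rw [Category.id_comp, Category.assoc, Category.assoc, G.i_s, hρt, Category.comp_id]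
  obtain ⟨φ, hφ⟩ : ∃ φ : G.R ⟶ G.R, φ = cmp G (G.t ≫ inv θ ≫ ρ) (𝟙 G.R) hφc := ⟨_, rfl⟩
  obtain ⟨ψ, hψ⟩ : ∃ ψ : G.R ⟶ G.R, ψ = cmp G (G.t ≫ ρ ≫ G.i) (𝟙 G.R) hψc := ⟨_, rfl⟩
  have hφt : φ ≫ G.t = G.t ≫ inv θ := by
    rw [hφ, cmp_t]
    simp only [Category.assoc]
    rw [hρt, Category.comp_id]
  have hφt' : ∀ {Z : Scheme.{u}} (h : G.U ⟶ Z), φ ≫ G.t ≫ h = G.t ≫ inv θ ≫ h := by
    intro Z h
    rw [← Category.assoc, hφt, Category.assoc]
  have hψt : ψ ≫ G.t = G.t ≫ θ := by
    rw [hψ, cmp_t, Category.assoc, Category.assoc, G.i_t, hθ]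
  have hψt' : ∀ {Z : Scheme.{u}} (h : G.U ⟶ Z), ψ ≫ G.t ≫ h = G.t ≫ θ ≫ h := by
    intro Z h
    rw [← Category.assoc, hψt, Category.assoc]
  have h1 : φ ≫ ψ = 𝟙 _ := by
    rw [hψ, comp_cmp]
    refine (cmp_congr (α' := (G.t ≫ inv θ ≫ ρ) ≫ G.i)
      (β' := cmp G (G.t ≫ inv θ ≫ ρ) (𝟙 G.R) hφc) ?_ ?_ _).trans (i_cmp_cmp _ _ _ _)
    · simp only [Category.assoc]
      rw [hφt']
    · rw [Category.comp_id, hφ]
  have h2 : ψ ≫ φ = 𝟙 _ := by
    rw [hφ, comp_cmp]
    refine (cmp_congr (α' := G.t ≫ ρ)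
      (β' := cmp G ((G.t ≫ ρ) ≫ G.i) (𝟙 G.R) (by rw [Category.assoc]; exact hψc))
      ?_ ?_ _).trans (cmp_i_cmp _ _ _ _)
    · rw [hψt', IsIso.hom_inv_id_assoc]
    · rw [Category.comp_id, hψ]
      exact cmp_congr (Category.assoc _ _ _).symm rfl _
  refine ⟨⟨φ, ψ, h1, h2⟩, ?_⟩
  show φ (G.e (eU.inv (IsLocalRing.closedPoint k))) = r
  have he : G.e ≫ φ = inv θ ≫ ρ := by
    rw [hφ, comp_cmp]
    refine (cmp_e _ _ ?_ _).trans ?_
    · rw [Category.comp_id]
      simp only [Category.assoc]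
      rw [← Category.assoc G.e G.t, G.e_t, Category.id_comp, ← Category.assoc ρ, ← hθ,
        IsIso.inv_hom_id_assoc]
    · rw [← Category.assoc G.e G.t, G.e_t, Category.id_comp]
  have e1 : φ (G.e (eU.inv (IsLocalRing.closedPoint k))) =
      (G.e ≫ φ) (eU.inv (IsLocalRing.closedPoint k)) := by rw [Scheme.Hom.comp_apply]
  rw [e1, he, Scheme.Hom.comp_apply, hρpt]

end Aux

/-- Let (U, R, s, t, c) be a groupoid scheme over S with U the spectrum of a field k, and r a point of R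
such that both s and t induce isomorphisms from k to κ(r). Then there is an automorphism of the
scheme R carrying the identity point e to r. (The source's automorphism is x ↦ c(r, x); only the
existence of an automorphism moving e to r is stated here.) (A groupoid scheme carries U, R, s, t,
c, e, i over S with the groupoid axioms on T-points; 'finite locally free' is finite, flat and
locally of finite presentation; C ⊂ Γ(U) is the ring of functions a with s♯(a) = t♯(a) and M = Spec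
C.) -/
theorem result (S : Scheme.{u}) (G : Grpd.GroupoidScheme S) (k : Type u) [Field k] (eU : G.U ≅ Spec (CommRingCat.of k)) (r : G.R) (hs : IsIso (G.s.residueFieldMap r)) (ht : IsIso (G.t.residueFieldMap r)) : ∃ φ : G.R ≅ G.R, φ.hom (G.e (eU.inv (IsLocalRing.closedPoint k))) = r := by
  exact aux S G k eU r hs ht

end Groth.Agent.S1888
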