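import Groth.Statements.S18884
import Mathlib

set_option autoImplicit false
universe v u w
open CategoryTheory CategoryTheory.Limits
open Desc

namespace Groth.Agent.S18884

section Helpers

lemma cancel_surj {A' A B : AddCommGrpCat.{w}} (p : A' ⟶ A) (hp : Function.Surjective p.hom)
    {a b : A ⟶ B} (h : p ≫ a = p ≫ b) : a = b := by
  ext x
  obtain ⟨y, rfl⟩ := hp x
  exact ConcreteCategory.congr_hom h y

lemma exists_factor {A B M : AddCommGrpCat.{w}} (p : A ⟶ B) (hp : Function.Surjective p.hom)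
    (h : A ⟶ M) (hk : p.hom.ker ≤ h.hom.ker) : ∃ a : B ⟶ M, p ≫ a = h := by
  refine ⟨AddCommGrpCat.ofHom (AddMonoidHom.liftOfRightInverse p.hom (Function.surjInv hp)
    (Function.rightInverse_surjInv hp) ⟨h.hom, hk⟩), ?_⟩
  ext x
  exact AddMonoidHom.liftOfRightInverse_comp_apply p.hom (Function.surjInv hp)
    (Function.rightInverse_surjInv hp) ⟨h.hom, hk⟩ x

variable {C : Type u} [Category.{v} C] [HasPullbacks C] (W : MorphismProperty C)
  [W.IsStableUnderBaseChange] [W.IsStableUnderComposition]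
  (D : ObjectProperty C) (hD : ∀ X : C, ∃ (Y : C) (π : Y ⟶ X), W π ∧ D Y)

include hD in
theorem exists_app (F G : C ⥤ AddCommGrpCat.{w})
    (hF : ∀ ⦃Y X : C⦄ (π : Y ⟶ X), W π → Function.Surjective (F.map π).hom ∧
      (F.map π).hom.ker = ((F.map (pullback.fst π π)).hom - (F.map (pullback.snd π π)).hom).range)
    (γ : D.ι ⋙ F ⟶ D.ι ⋙ G) (X : C) :
    ∃ a : F.obj X ⟶ G.obj X, ∀ (Y : C) (hY : D Y) (π : Y ⟶ X), W π →
      F.map π ≫ a = γ.app ⟨Y, hY⟩ ≫ G.map π := by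
  have nat : ∀ {Z Y : C} (hZ : D Z) (hY : D Y) (q : Z ⟶ Y),
      F.map q ≫ γ.app ⟨Y, hY⟩ = γ.app ⟨Z, hZ⟩ ≫ G.map q := fun hZ hY q =>
    γ.naturality (ObjectProperty.homMk q : (⟨_, hZ⟩ : D.FullSubcategory) ⟶ ⟨_, hY⟩)
  obtain ⟨Y₀, π₀, hπ₀, hY₀⟩ := hD X
  obtain ⟨Z₀, ρ₀, hρ₀, hZ₀⟩ := hD (pullback π₀ π₀)
  have hker : (F.map π₀).hom.ker ≤ (γ.app ⟨Y₀, hY₀⟩ ≫ G.map π₀).hom.ker := by
    rw [(hF π₀ hπ₀).2]
    rintro _ ⟨z, rfl⟩
    obtain ⟨z', rfl⟩ := (hF ρ₀ hρ₀).1 z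
    rw [AddMonoidHom.mem_ker]
    have e1 : (F.map (pullback.fst π₀ π₀)).hom ((F.map ρ₀).hom z') =
        (F.map (ρ₀ ≫ pullback.fst π₀ π₀)).hom z' := by
      rw [F.map_comp]; rfl
    have e2 : (F.map (pullback.snd π₀ π₀)).hom ((F.map ρ₀).hom z') =
        (F.map (ρ₀ ≫ pullback.snd π₀ π₀)).hom z' := by
      rw [F.map_comp]; rfl
    rw [AddMonoidHom.sub_apply, e1, e2, map_sub, sub_eq_zero]
    have n1 := ConcreteCategory.congr_hom (nat hZ₀ hY₀ (ρ₀ ≫ pullback.fst π₀ π₀)) z'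
    have n2 := ConcreteCategory.congr_hom (nat hZ₀ hY₀ (ρ₀ ≫ pullback.snd π₀ π₀)) z'
    change (G.map π₀).hom ((γ.app ⟨Y₀, hY₀⟩).hom ((F.map (ρ₀ ≫ pullback.fst π₀ π₀)).hom z')) =
      (G.map π₀).hom ((γ.app ⟨Y₀, hY₀⟩).hom ((F.map (ρ₀ ≫ pullback.snd π₀ π₀)).hom z'))
    change (γ.app ⟨Y₀, hY₀⟩).hom ((F.map (ρ₀ ≫ pullback.fst π₀ π₀)).hom z') =
      (G.map (ρ₀ ≫ pullback.fst π₀ π₀)).hom ((γ.app ⟨Z₀, hZ₀⟩).hom z') at n1
    change (γ.app ⟨Y₀, hY₀⟩).hom ((F.map (ρ₀ ≫ pullback.snd π₀ π₀)).hom z') =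
      (G.map (ρ₀ ≫ pullback.snd π₀ π₀)).hom ((γ.app ⟨Z₀, hZ₀⟩).hom z') at n2
    rw [n1, n2]
    have e3 : ∀ (q : Z₀ ⟶ Y₀) (x : G.obj Z₀), (G.map π₀).hom ((G.map q).hom x) =
        (G.map (q ≫ π₀)).hom x := by
      intro q x; rw [G.map_comp]; rfl
    rw [e3, e3, Category.assoc, Category.assoc, pullback.condition]
  obtain ⟨a, ha⟩ := exists_factor (F.map π₀) (hF π₀ hπ₀).1 (γ.app ⟨Y₀, hY₀⟩ ≫ G.map π₀) hker
  refine ⟨a, ?_⟩
  intro Y hY π hπ
  obtain ⟨Z, ρ, hρ, hZ⟩ := hD (pullback π₀ π)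
  have hq : W (ρ ≫ pullback.snd π₀ π) :=
    W.comp_mem _ _ hρ (MorphismProperty.pullback_snd _ _ hπ₀)
  apply cancel_surj (F.map (ρ ≫ pullback.snd π₀ π)) (hF _ hq).1
  have c1 : (ρ ≫ pullback.snd π₀ π) ≫ π = (ρ ≫ pullback.fst π₀ π) ≫ π₀ := by
    rw [Category.assoc, Category.assoc, pullback.condition]
  calc F.map (ρ ≫ pullback.snd π₀ π) ≫ F.map π ≫ a
      = F.map ((ρ ≫ pullback.fst π₀ π) ≫ π₀) ≫ a := by
        rw [← Category.assoc, ← F.map_comp, c1]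
    _ = F.map (ρ ≫ pullback.fst π₀ π) ≫ γ.app ⟨Y₀, hY₀⟩ ≫ G.map π₀ := by
        rw [F.map_comp, Category.assoc, ha]
    _ = γ.app ⟨Z, hZ⟩ ≫ G.map ((ρ ≫ pullback.fst π₀ π) ≫ π₀) := by
        rw [← Category.assoc, nat hZ hY₀, Category.assoc, ← G.map_comp]
    _ = γ.app ⟨Z, hZ⟩ ≫ G.map (ρ ≫ pullback.snd π₀ π) ≫ G.map π := by
        rw [← c1, G.map_comp]
    _ = F.map (ρ ≫ pullback.snd π₀ π) ≫ γ.app ⟨Y, hY⟩ ≫ G.map π := by
        rw [← Category.assoc, ← nat hZ hY, Category.assoc]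

end Helpers

/-- Let C be a category with pullbacks equipped with a class W of morphisms, the covers, stable under
base change and under composition. An abelian cosheaf is a functor F : C ⥤ Ab such that for every
cover π : Y ⟶ X the map F(π) is surjective and its kernel is the image of F(p₁) − F(p₂), where p₁,
p₂ : Y ×_X Y ⟶ Y are the two projections. If D is a full subcategory of C such that every object of
C is the target of a cover whose source lies in D, then the restriction functor from the full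
subcategory of abelian cosheaves in C ⥤ Ab to D ⥤ Ab is full and faithful. -/
theorem result {C : Type u} [Category.{v} C]
    [HasPullbacks C] (W : MorphismProperty C) [W.IsStableUnderBaseChange] [W.IsStableUnderComposition]
    (D : ObjectProperty C) (hD : ∀ X : C, ∃ (Y : C) (π : Y ⟶ X), W π ∧ D Y) :
    (ObjectProperty.ι (fun F : C ⥤ AddCommGrpCat.{w} =>
        ∀ ⦃Y X : C⦄ (π : Y ⟶ X), W π → Function.Surjective (F.map π).hom ∧
          (F.map π).hom.ker = ((F.map (pullback.fst π π)).hom - (F.map (pullback.snd π π)).hom).range) ⋙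
      (Functor.whiskeringLeft D.FullSubcategory C AddCommGrpCat.{w}).obj D.ι).Full ∧
    (ObjectProperty.ι (fun F : C ⥤ AddCommGrpCat.{w} =>
        ∀ ⦃Y X : C⦄ (π : Y ⟶ X), W π → Function.Surjective (F.map π).hom ∧
          (F.map π).hom.ker = ((F.map (pullback.fst π π)).hom - (F.map (pullback.snd π π)).hom).range) ⋙
      (Functor.whiskeringLeft D.FullSubcategory C AddCommGrpCat.{w}).obj D.ι).Faithful := by
  constructor
  · refine ⟨fun {F G} γ => ?_⟩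
    have nat : ∀ {Z Y : C} (hZ : D Z) (hY : D Y) (q : Z ⟶ Y),
        F.obj.map q ≫ γ.app ⟨Y, hY⟩ = γ.app ⟨Z, hZ⟩ ≫ G.obj.map q := fun hZ hY q =>
      γ.naturality (ObjectProperty.homMk q : (⟨_, hZ⟩ : D.FullSubcategory) ⟶ ⟨_, hY⟩)
    choose a ha using exists_app W D hD F.obj G.obj F.property γ
    have hnat : ∀ {X' X : C} (f : X' ⟶ X), F.obj.map f ≫ a X = a X' ≫ G.obj.map f := by
      intro X' X f
      obtain ⟨Y', π', hπ', hY'⟩ := hD X'
      obtain ⟨Y, π, hπ, hY⟩ := hD X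
      obtain ⟨Z, ρ, hρ, hZ⟩ := hD (pullback (π' ≫ f) π)
      have hq' : W (ρ ≫ pullback.fst (π' ≫ f) π) :=
        W.comp_mem _ _ hρ (MorphismProperty.pullback_fst _ _ hπ)
      have hq'' : W ((ρ ≫ pullback.fst (π' ≫ f) π) ≫ π') := W.comp_mem _ _ hq' hπ'
      apply cancel_surj (F.obj.map ((ρ ≫ pullback.fst (π' ≫ f) π) ≫ π')) (F.property _ hq'').1
      have c1 : ((ρ ≫ pullback.fst (π' ≫ f) π) ≫ π') ≫ f =
          (ρ ≫ pullback.snd (π' ≫ f) π) ≫ π := by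
        simp only [Category.assoc]
        rw [pullback.condition]
      have r1 : F.obj.map ((ρ ≫ pullback.fst (π' ≫ f) π) ≫ π') ≫ F.obj.map f ≫ a X =
          γ.app ⟨Z, hZ⟩ ≫ G.obj.map ((ρ ≫ pullback.snd (π' ≫ f) π) ≫ π) := by
        rw [← Category.assoc, ← F.obj.map_comp, c1, F.obj.map_comp, Category.assoc,
          ha X Y hY π hπ, ← Category.assoc, nat hZ hY, Category.assoc, ← G.obj.map_comp]
      have r2 : F.obj.map ((ρ ≫ pullback.fst (π' ≫ f) π) ≫ π') ≫ a X' ≫ G.obj.map f =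
          γ.app ⟨Z, hZ⟩ ≫ G.obj.map (((ρ ≫ pullback.fst (π' ≫ f) π) ≫ π') ≫ f) := by
        rw [F.obj.map_comp, Category.assoc, ← Category.assoc (F.obj.map π'),
          ha X' Y' hY' π' hπ', Category.assoc, ← Category.assoc (F.obj.map _), nat hZ hY',
          Category.assoc, ← G.obj.map_comp, ← G.obj.map_comp, Category.assoc]
        simp only [Category.assoc]
      rw [r1, r2, c1]
    refine ⟨ObjectProperty.homMk ⟨fun X => a X, fun X' X f => hnat f⟩, ?_⟩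
    ext ⟨Y, hY⟩ : 2
    obtain ⟨Y₀, π₀, hπ₀, hY₀⟩ := hD Y
    apply cancel_surj (F.obj.map π₀) (F.property _ hπ₀).1
    change F.obj.map π₀ ≫ a Y = F.obj.map π₀ ≫ γ.app ⟨Y, hY⟩
    rw [ha Y Y₀ hY₀ π₀ hπ₀]
    exact (nat hY₀ hY π₀).symm
  · refine ⟨fun {F G} α β hαβ => ?_⟩
    apply ObjectProperty.hom_ext
    ext X : 2
    obtain ⟨Y, π, hπ, hY⟩ := hD X
    apply cancel_surj (F.obj.map π) (F.property _ hπ).1
    rw [α.hom.naturality, β.hom.naturality]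
    congr 1
    exact congrArg (fun k => k.app (⟨Y, hY⟩ : D.FullSubcategory)) hαβ

end Groth.Agent.S18884
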