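import Groth.Statements.S18887
import Mathlib

set_option autoImplicit false
universe u v
open DblCov

namespace Groth.Agent.S18887

theorem mat_identity {A : Type u} [CommRing A] (M N : Matrix (Fin 2) (Fin 2) A) :
    M * N + N * M - M.trace • N - N.trace • M +
      (M.trace * N.trace - (M * N).trace) • (1 : Matrix (Fin 2) (Fin 2) A) = 0 := by
  ext i j
  fin_cases i <;> fin_cases j <;>
    simp [Matrix.mul_apply, Fin.sum_univ_two, Matrix.trace_fin_two] <;> ring

theorem key {A : Type u} {B : Type v} [CommRing A] [CommRing B]
    [Algebra A B] [Nontrivial A] [Module.Free A B] [Module.Finite A B]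
    (hrk : Module.finrank A B = 2) (b c : B) :
    2 * (b * c) = algebraMap A B (Algebra.trace A B b) * c + algebraMap A B (Algebra.trace A B c) * b
      - algebraMap A B (Algebra.trace A B b * Algebra.trace A B c)
      + algebraMap A B (Algebra.trace A B (b * c)) := by
  classical
  let bas := Module.finBasisOfFinrankEq A B hrk
  apply Algebra.leftMulMatrix_injective bas
  have h := mat_identity (Algebra.leftMulMatrix bas b) (Algebra.leftMulMatrix bas c)
  rw [← map_mul (Algebra.leftMulMatrix bas), ← map_mul (Algebra.leftMulMatrix bas),
    ← Algebra.trace_eq_matrix_trace, ← Algebra.trace_eq_matrix_trace,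
    ← Algebra.trace_eq_matrix_trace, mul_comm c b] at h
  simp only [map_add, map_sub, map_mul, AlgHom.commutes, map_ofNat]
  simp only [Algebra.algebraMap_eq_smul_one, smul_mul_assoc, one_mul] at h ⊢
  rw [← map_mul (Algebra.leftMulMatrix bas)]
  rw [← sub_eq_zero, ← h]
  simp only [sub_smul, mul_smul, two_mul]
  abel

/-- Let A be a commutative ring in which 2 is invertible and B a commutative A-algebra which is free of
rank 2 as an A-module and whose trace form tr : B → A has kernel free of rank 1 over A. Then σ(b) =
tr(b) − b defines an A-algebra endomorphism σ of B with σ ≠ id and σ ∘ σ = id, and the elements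
fixed by σ are exactly the image of A in B. -/
theorem result {A : Type u} {B : Type v} [CommRing A] [CommRing B]
    [Algebra A B] (h2 : IsUnit (2 : A)) [Module.Free A B] [Module.Finite A B]
    (hrk : Module.finrank A B = 2)
    [Module.Free A (LinearMap.ker (Algebra.trace A B))]
    (hker : Module.finrank A (LinearMap.ker (Algebra.trace A B)) = 1) :
    ∃ σ : B →ₐ[A] B, (∀ b : B, σ b = algebraMap A B (Algebra.trace A B b) - b) ∧
      σ ≠ AlgHom.id A B ∧ σ.comp σ = AlgHom.id A B ∧
      ∀ b : B, σ b = b ↔ b ∈ Set.range (algebraMap A B) := by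
  classical
  have hnt : Nontrivial A := by
    rcases subsingleton_or_nontrivial A with hA | hA
    · rw [Module.finrank_subsingleton] at hrk
      omega
    · exact hA
  have htr1 : Algebra.trace A B 1 = 2 := by
    have := Algebra.trace_algebraMap (R := A) (S := B) (1 : A)
    rw [map_one, hrk] at this
    simpa using this
  have htrA : ∀ a : A, Algebra.trace A B (algebraMap A B a) = 2 * a := by
    intro a
    rw [Algebra.trace_algebraMap, hrk, two_mul, two_smul]
  obtain ⟨u, hu⟩ := h2
  have h2B : IsUnit (2 : B) := by
    have : (2 : B) = algebraMap A B (u : A) := by rw [hu]; exact (map_ofNat (algebraMap A B) 2).symm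
    rw [this]; exact (u.isUnit).map _
  let σl : B →ₗ[A] B := (Algebra.linearMap A B).comp (Algebra.trace A B) - LinearMap.id
  have hσl : ∀ b, σl b = algebraMap A B (Algebra.trace A B b) - b := fun b => rfl
  let σ : B →ₐ[A] B := AlgHom.ofLinearMap σl (by rw [hσl, htr1, map_ofNat]; norm_num) (by
    intro b c
    rw [hσl, hσl, hσl]
    have h := key hrk b c
    rw [map_mul] at h
    linear_combination -h)
  have hσ : ∀ b, σ b = algebraMap A B (Algebra.trace A B b) - b := fun b => rfl
  have hfix : ∀ b : B, σ b = b ↔ b ∈ Set.range (algebraMap A B) := by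
    intro b
    constructor
    · intro h
      rw [hσ] at h
      have h' : algebraMap A B (Algebra.trace A B b) = 2 * b := by rw [two_mul]; linear_combination h
      refine ⟨(↑u⁻¹ : A) * Algebra.trace A B b, ?_⟩
      rw [map_mul, h']
      have : algebraMap A B (↑u⁻¹ : A) * 2 = 1 := by
        have : (2 : B) = algebraMap A B (u : A) := by rw [hu]; exact (map_ofNat (algebraMap A B) 2).symm
        rw [this, ← map_mul]; simp
      rw [← mul_assoc, this, one_mul]
    · rintro ⟨a, rfl⟩
      rw [hσ, htrA, map_mul]
      simp only [map_ofNat]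
      ring
  refine ⟨σ, hσ, ?_, ?_, hfix⟩
  · intro hid
    have hall : ∀ y : LinearMap.ker (Algebra.trace A B), y = 0 := by
      intro y
      have h1 : σ (y : B) = y := by rw [hid]; rfl
      rw [hσ, y.2, map_zero, zero_sub] at h1
      have h2 : (2 : B) * (y : B) = 0 := by rw [two_mul]; linear_combination -h1
      have : (y : B) = 0 := by
        rcases h2B.exists_left_inv with ⟨w, hw⟩
        calc (y : B) = w * (2 * (y : B)) := by rw [← mul_assoc, hw, one_mul]
          _ = 0 := by rw [h2, mul_zero]
      exact Subtype.ext this
    have : Subsingleton (LinearMap.ker (Algebra.trace A B)) := ⟨fun a b => by rw [hall a, hall b]⟩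
    rw [Module.finrank_zero_of_subsingleton] at hker
    omega
  · ext b
    simp only [AlgHom.comp_apply, AlgHom.id_apply]
    rw [hσ, hσ, map_sub, htrA]
    simp only [map_sub, map_mul, map_ofNat]
    ring

end Groth.Agent.S18887
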