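import Groth.Statements.S18888
import Mathlib

set_option autoImplicit false
universe u v w
open CAlg

namespace Groth.Agent.S18888

open Polynomial in
/-- Let A be a unique factorisation domain in which 2 is invertible, with fraction field K, and let L ⊇
K be a quadratic extension field (of degree 2 over K) containing an element y ∉ K whose square is a
squarefree element d of A. Then the integral closure of A in L equals the A-subalgebra A[y]
generated by y. -/
theorem result {A : Type u} {K : Type v} {L : Type w}
    [CommRing A] [IsDomain A] [UniqueFactorizationMonoid A] [Field K] [Algebra A K] [IsFractionRing A K]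
    [Field L] [Algebra K L] [Algebra A L] [IsScalarTower A K L]
    (h2 : IsUnit (2 : A)) (hL : Module.finrank K L = 2)
    (d : A) (hd : Squarefree d) (y : L) (hy : y * y = algebraMap A L d)
    (hyK : y ∉ Set.range (algebraMap K L)) :
    integralClosure A L = Algebra.adjoin A {y} := by
  have hfd : FiniteDimensional K L := Module.finite_of_finrank_pos (by rw [hL]; norm_num)
  have hinjKL : Function.Injective (algebraMap K L) := (algebraMap K L).injective
  have hinjAK : Function.Injective (algebraMap A K) := IsFractionRing.injective A K
  have hyint : IsIntegral A y := by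
    apply IsIntegral.of_pow (n := 2) (by norm_num)
    rw [pow_two, hy]
    exact isIntegral_algebraMap
  have hymem : y ∈ Algebra.adjoin A {y} := Algebra.subset_adjoin (Set.mem_singleton y)
  apply le_antisymm
  · intro z hz
    have hzint : IsIntegral A z := hz
    have hli : LinearIndependent K ![(1 : L), y] := by
      rw [LinearIndependent.pair_iff]
      intro s t hst
      have h1 : algebraMap K L s + algebraMap K L t * y = 0 := by
        simpa [Algebra.smul_def] using hst
      have ht : t = 0 := by
        by_contra ht
        apply hyK
        refine ⟨-(s / t), ?_⟩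
        have ht' : algebraMap K L t ≠ 0 := (_root_.map_ne_zero _).mpr ht
        rw [map_neg, map_div₀]
        field_simp
        linear_combination -h1
      subst ht
      have hs : s = 0 := by
        apply hinjKL
        simpa using h1
      exact ⟨hs, rfl⟩
    have hspan := hli.span_eq_top_of_card_eq_finrank' (by simp [hL])
    have hzmem : z ∈ Submodule.span K (Set.range ![(1 : L), y]) := by rw [hspan]; trivial
    rw [Matrix.range_cons_cons_empty, Submodule.mem_span_pair] at hzmem
    obtain ⟨a, b, hab⟩ := hzmem
    have hz' : z = algebraMap K L a + algebraMap K L b * y := by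
      rw [← hab, Algebra.smul_def, Algebra.smul_def, mul_one]
    by_cases hb : b = 0
    · subst hb
      rw [map_zero, zero_mul, add_zero] at hz'
      rw [hz'] at hzint
      have haint : IsIntegral A a := (isIntegral_algebraMap_iff hinjKL).mp hzint
      obtain ⟨a0, ha0⟩ := IsIntegrallyClosed.isIntegral_iff.mp haint
      rw [hz', ← ha0, ← IsScalarTower.algebraMap_apply]
      exact Subalgebra.algebraMap_mem _ a0
    · have hb' : algebraMap K L b ≠ 0 := (_root_.map_ne_zero _).mpr hb
      have hznot : z ∉ (algebraMap K L).range := by
        rintro ⟨w, hw⟩
        apply hyK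
        refine ⟨(w - a) / b, ?_⟩
        rw [map_div₀, map_sub, hw, hz']
        field_simp
        ring
      set c : K := a ^ 2 - b ^ 2 * algebraMap A K d with hc
      set q : K[X] := C 1 * X ^ 2 + C (-(2 * a)) * X + C c with hq
      have hq_monic : q.Monic := leadingCoeff_quadratic one_ne_zero
      have hq_deg : q.natDegree = 2 := natDegree_quadratic one_ne_zero
      have hy' : y ^ 2 = algebraMap K L (algebraMap A K d) := by
        rw [pow_two, hy, ← IsScalarTower.algebraMap_apply]
      have hq_root : aeval z q = 0 := by
        simp only [hq, hc, map_add, map_mul, aeval_C, aeval_X, map_pow, map_one, map_neg,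
          map_sub, map_ofNat]
        rw [hz']
        linear_combination (algebraMap K L b) ^ 2 * hy'
      have hzintK : IsIntegral K z := hzint.tower_top
      have hmin_dvd : minpoly K z ∣ q := minpoly.dvd K z hq_root
      have hdeg : 2 ≤ (minpoly K z).natDegree := (minpoly.two_le_natDegree_iff hzintK).mpr hznot
      have heq : q = minpoly K z :=
        Polynomial.eq_of_monic_of_dvd_of_natDegree_le (minpoly.monic hzintK) hq_monic hmin_dvd
          (by rw [hq_deg]; exact hdeg)
      have hmap : minpoly K z = (minpoly A z).map (algebraMap A K) :=
        minpoly.isIntegrallyClosed_eq_field_fractions' K hzint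
      have h1 : -(2 * a) = algebraMap A K ((minpoly A z).coeff 1) := by
        have : q.coeff 1 = algebraMap A K ((minpoly A z).coeff 1) := by
          rw [heq, hmap, Polynomial.coeff_map]
        rw [← this]
        simp [hq, Polynomial.coeff_X, Polynomial.coeff_C, Polynomial.coeff_X_pow]
      have h0 : c = algebraMap A K ((minpoly A z).coeff 0) := by
        have : q.coeff 0 = algebraMap A K ((minpoly A z).coeff 0) := by
          rw [heq, hmap, Polynomial.coeff_map]
        rw [← this]
        simp [hq, Polynomial.coeff_X, Polynomial.coeff_C, Polynomial.coeff_X_pow]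
      obtain ⟨u, hu⟩ := h2.exists_right_inv
      have hu' : (2 : K) * algebraMap A K u = 1 := by
        have := congrArg (algebraMap A K) hu
        rw [map_mul, map_one, map_ofNat] at this
        exact this
      set c1 := (minpoly A z).coeff 1
      set c0 := (minpoly A z).coeff 0
      have ha0 : algebraMap A K (-c1 * u) = a := by
        rw [map_mul, map_neg]
        linear_combination (algebraMap A K u) * h1 + a * hu'
      have he0 : algebraMap A K ((-c1 * u) ^ 2 - c0) = b ^ 2 * algebraMap A K d := by
        rw [map_sub, map_pow, ha0, ← h0, hc]
        ring
      obtain ⟨m, n, hrel, hmk⟩ := IsFractionRing.exists_reduced_fraction A b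
      have hbn : b * algebraMap A K n = algebraMap A K m := by
        rw [← hmk]
        exact IsLocalization.mk'_spec K m n
      have hAeq : ((-c1 * u) ^ 2 - c0) * (n : A) ^ 2 = d * m ^ 2 := by
        apply hinjAK
        rw [map_mul, map_mul, he0, map_pow, map_pow, ← hbn]
        ring
      have hdvd : (n : A) ^ 2 ∣ d := by
        have hrel2 : IsRelPrime ((n : A) ^ 2) (m ^ 2) := hrel.symm.pow
        exact hrel2.dvd_of_dvd_mul_right ⟨(-c1 * u) ^ 2 - c0, by rw [← hAeq]; ring⟩
      have hnunit : IsUnit (n : A) := hd _ (by rw [← pow_two]; exact hdvd)
      obtain ⟨n', hn'⟩ := hnunit.exists_right_inv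
      have hn'K : algebraMap A K (n : A) * algebraMap A K n' = 1 := by
        rw [← map_mul, hn', map_one]
      have hb0 : algebraMap A K (m * n') = b := by
        rw [map_mul, ← hbn]
        linear_combination b * hn'K
      rw [hz', ← ha0, ← hb0, ← IsScalarTower.algebraMap_apply, ← IsScalarTower.algebraMap_apply]
      exact Subalgebra.add_mem _ (Subalgebra.algebraMap_mem _ _)
        (Subalgebra.mul_mem _ (Subalgebra.algebraMap_mem _ _) hymem)
  · apply Algebra.adjoin_le
    intro x hx
    rw [Set.mem_singleton_iff] at hx
    subst hx
    exact hyint

end Groth.Agent.S18888
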