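import Groth.Statements.S1889
import Mathlib
import Groth.Agent.Lib.Helper5.GrpdTrans

set_option autoImplicit false
universe u
open CategoryTheory CategoryTheory.Limits AlgebraicGeometry
open Grpd

namespace Groth.Agent.S1889

/-- Let (U, R, s, t, c) be a groupoid scheme over S with U the spectrum of a field, W ⊆ R open and a : Z
→ R a morphism. Then the image of Z ×_{s∘a, U, t} W → R ×_{s,U,t} R → R (composition) is open. (A
groupoid scheme carries U, R, s, t, c, e, i over S with the groupoid axioms on T-points; 'finite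
locally free' is finite, flat and locally of finite presentation; C ⊂ Γ(U) is the ring of functions
a with s♯(a) = t♯(a) and M = Spec C.) -/
theorem result (S : Scheme.{u}) (G : Grpd.GroupoidScheme S) (k : Type u) [Field k] (eU : G.U ≅ Spec (CommRingCat.of k)) (W : G.R.Opens) (Z : Scheme.{u}) (a : Z ⟶ G.R) : IsOpen (Set.range ⇑(pullback.lift (pullback.fst (a ≫ G.s) (W.ι ≫ G.t) ≫ a) (pullback.snd (a ≫ G.s) (W.ι ≫ G.t) ≫ W.ι) ((Category.assoc _ _ _).trans (pullback.condition.trans (Category.assoc _ _ _).symm)) ≫ G.c)) := by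
  haveI : Nonempty G.U := ⟨eU.inv (IsLocalRing.closedPoint k)⟩
  haveI : IsIntegral G.U := isIntegral_of_isOpenImmersion eU.hom
  haveI : Subsingleton (Spec (CommRingCat.of k)) :=
    (inferInstance : Subsingleton (PrimeSpectrum k))
  haveI : Subsingleton G.U := eU.hom.homeomorph.subsingleton
  -- the open immersion P₀ → Z ×_U R
  have hcond : pullback.fst (a ≫ G.s) (W.ι ≫ G.t) ≫ a ≫ G.s =
      (pullback.snd (a ≫ G.s) (W.ι ≫ G.t) ≫ W.ι) ≫ G.t := by
    rw [Category.assoc]; exact pullback.condition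
  have hout : IsPullback (pullback.lift (pullback.fst (a ≫ G.s) (W.ι ≫ G.t))
      (pullback.snd (a ≫ G.s) (W.ι ≫ G.t) ≫ W.ι) hcond ≫ pullback.fst (a ≫ G.s) G.t)
      (pullback.snd (a ≫ G.s) (W.ι ≫ G.t)) (a ≫ G.s) (W.ι ≫ G.t) := by
    rw [pullback.lift_fst]
    exact IsPullback.of_hasPullback _ _
  have hleft : IsPullback (pullback.lift (pullback.fst (a ≫ G.s) (W.ι ≫ G.t))
      (pullback.snd (a ≫ G.s) (W.ι ≫ G.t) ≫ W.ι) hcond)
      (pullback.snd (a ≫ G.s) (W.ι ≫ G.t)) (pullback.snd (a ≫ G.s) G.t) W.ι :=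
    IsPullback.of_right hout (pullback.lift_snd _ _ _) (IsPullback.of_hasPullback (a ≫ G.s) G.t)
  haveI h1 : IsOpenImmersion (pullback.lift (pullback.fst (a ≫ G.s) (W.ι ≫ G.t))
      (pullback.snd (a ≫ G.s) (W.ι ≫ G.t) ≫ W.ι) hcond) :=
    MorphismProperty.of_isPullback (P := @IsOpenImmersion) hleft.flip inferInstance
  haveI h2 : UniversallyOpen (a ≫ G.t) := inferInstance
  haveI h3 : UniversallyOpen (Groth.Agent.Helper5.GrpdTrans.transl (G := G) a) :=
    MorphismProperty.of_isPullback (P := @UniversallyOpen)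
      (Groth.Agent.Helper5.GrpdTrans.isPullback_transl (G := G) a).flip h2
  have hfac : pullback.lift (pullback.fst (a ≫ G.s) (W.ι ≫ G.t) ≫ a)
      (pullback.snd (a ≫ G.s) (W.ι ≫ G.t) ≫ W.ι)
      ((Category.assoc _ _ _).trans (pullback.condition.trans (Category.assoc _ _ _).symm)) ≫ G.c =
      pullback.lift (pullback.fst (a ≫ G.s) (W.ι ≫ G.t))
        (pullback.snd (a ≫ G.s) (W.ι ≫ G.t) ≫ W.ι) hcond ≫
      Groth.Agent.Helper5.GrpdTrans.transl (G := G) a := by
    rw [Groth.Agent.Helper5.GrpdTrans.transl_eq]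
    refine Eq.trans ?_ (Category.assoc _ _ _)
    congr 1
    apply pullback.hom_ext
    · rw [pullback.lift_fst, Category.assoc, pullback.lift_fst, ← Category.assoc,
        pullback.lift_fst]
    · rw [pullback.lift_snd, Category.assoc, pullback.lift_snd, pullback.lift_snd]
  rw [hfac]
  haveI : UniversallyOpen (pullback.lift (pullback.fst (a ≫ G.s) (W.ι ≫ G.t))
        (pullback.snd (a ≫ G.s) (W.ι ≫ G.t) ≫ W.ι) hcond ≫
      Groth.Agent.Helper5.GrpdTrans.transl (G := G) a) :=
    MorphismProperty.comp_mem _ _ _ inferInstance h3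
  exact (Scheme.Hom.isOpenMap _).isOpen_range

end Groth.Agent.S1889
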