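import Groth.Statements.S18890
import Mathlib

set_option autoImplicit false
universe u v w w'
open CAlg

namespace Groth.Agent.S18890

open scoped TensorProduct in
/-- Let R be a commutative ring, G a finite group whose order is invertible in R, M an R-module with an
R-linear action ρ of G and N an arbitrary R-module. Then the natural map M^G ⊗_R N → M ⊗_R N induced
by the inclusion of the invariants is injective, and its image is the submodule of invariants of M
⊗_R N under the action ρ ⊗ 1 (G acting on the first factor). (The source lets G be a group of
R-automorphisms of M; a possibly non-faithful linear action changes nothing.) -/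
theorem result {R : Type u} [CommRing R]
    {G : Type v} [Group G] [Finite G] (hG : IsUnit ((Nat.card G : ℕ) : R))
    {M : Type w} {N : Type w'} [AddCommGroup M] [Module R M] [AddCommGroup N] [Module R N]
    (ρ : Representation R G M) :
    Function.Injective (LinearMap.rTensor N ρ.invariants.subtype) ∧
      LinearMap.range (LinearMap.rTensor N ρ.invariants.subtype) =
        (ρ.tprod (Representation.trivial R G N)).invariants := by
  classical
  have : Fintype G := Fintype.ofFinite G
  obtain ⟨u, hu⟩ := hG
  set c : R := ((u⁻¹ : Rˣ) : R) with hc
  have hcard : c * ((Nat.card G : ℕ) : R) = 1 := by rw [← hu]; exact Units.inv_mul u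
  let e : M →ₗ[R] M := c • ∑ g : G, ρ g
  have he_apply : ∀ v, e v = c • ∑ g : G, ρ g v := fun v => by
    simp only [e, LinearMap.smul_apply, LinearMap.sum_apply]
  have he_inv : ∀ v, e v ∈ ρ.invariants := by
    intro v h
    rw [he_apply, map_smul, map_sum]
    congr 1
    have : ∀ g, ρ h (ρ g v) = ρ (h * g) v := fun g => by rw [map_mul]; rfl
    simp_rw [this]
    exact Fintype.sum_equiv (Equiv.mulLeft h) _ _ (fun g => rfl)
  have he_fix : ∀ v ∈ ρ.invariants, e v = v := by
    intro v hv
    rw [he_apply]
    have : ∀ g : G, ρ g v = v := hv
    simp_rw [this]
    rw [Finset.sum_const, Finset.card_univ, ← Nat.card_eq_fintype_card, ← Nat.cast_smul_eq_nsmul R,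
      smul_smul, hcard, one_smul]
  let p : M →ₗ[R] ρ.invariants := e.codRestrict ρ.invariants he_inv
  have hp : p ∘ₗ ρ.invariants.subtype = LinearMap.id := by
    ext v
    exact he_fix v v.2
  have hsp : ρ.invariants.subtype ∘ₗ p = e := by
    ext v
    rfl
  constructor
  · have h1 : (p.rTensor N) ∘ₗ (ρ.invariants.subtype.rTensor N) = LinearMap.id := by
      rw [← LinearMap.rTensor_comp, hp, LinearMap.rTensor_id]
    intro x y hxy
    have := congrArg (p.rTensor N) hxy
    rwa [← LinearMap.comp_apply, ← LinearMap.comp_apply, h1] at this
  · apply le_antisymm
    · rintro x ⟨y, rfl⟩ g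
      rw [Representation.tprod_apply]
      induction y using TensorProduct.induction_on with
      | zero => simp
      | tmul v n =>
        rw [LinearMap.rTensor_tmul, TensorProduct.map_tmul, Representation.trivial_apply]
        congr 1
        exact v.2 g
      | add y z hy hz => rw [map_add, map_add, hy, hz]
    · intro x hx
      have hx' : ∀ g : G, (ρ g).rTensor N x = x := by
        intro g
        have := hx g
        rw [Representation.tprod_apply] at this
        have h2 : (Representation.trivial R G N) g = LinearMap.id := by
          ext n; rfl
        rw [h2] at this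
        exact this
      have h3 : e.rTensor N x = x := by
        have h4 : e.rTensor N = c • ∑ g : G, (ρ g).rTensor N := by
          simp only [e, ← LinearMap.coe_rTensorHom, map_smul, map_sum]
        rw [h4, LinearMap.smul_apply, LinearMap.sum_apply]
        simp_rw [hx']
        rw [Finset.sum_const, Finset.card_univ, ← Nat.card_eq_fintype_card,
          ← Nat.cast_smul_eq_nsmul R, smul_smul, hcard, one_smul]
      rw [← h3, ← hsp, LinearMap.rTensor_comp]
      exact ⟨_, rfl⟩

end Groth.Agent.S18890
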