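import Groth.Statements.S18891
import Mathlib

set_option autoImplicit false
universe u
open CategoryTheory CategoryTheory.Limits AlgebraicGeometry
open Mor

namespace Groth.Agent.S18891

/-- Let f : X → Y be a morphism of schemes which is proper and formally unramified, and such that for
every algebraically closed field Ω the map X(Ω) → Y(Ω), g ↦ g ≫ f, is injective. Then f is a closed
immersion. -/
theorem result {X Y : Scheme.{u}} (f : X ⟶ Y)
    [IsProper f] [FormallyUnramified f]
    (hinj : ∀ (Ω : Type u) [Field Ω] [IsAlgClosed Ω],
      Function.Injective (fun g : Spec (CommRingCat.of Ω) ⟶ X => g ≫ f)) :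
    IsClosedImmersion f := by
  have hopen : IsOpenImmersion (pullback.diagonal f) := inferInstance
  have key : ∀ (Ω : Type u) [Field Ω] [IsAlgClosed Ω] (t : Spec (CommRingCat.of Ω) ⟶ pullback f f),
      t = (t ≫ pullback.fst f f) ≫ pullback.diagonal f := by
    intro Ω _ _ t
    have h12 : t ≫ pullback.fst f f = t ≫ pullback.snd f f := by
      apply hinj Ω
      show (t ≫ pullback.fst f f) ≫ f = (t ≫ pullback.snd f f) ≫ f
      rw [Category.assoc, Category.assoc, pullback.condition]
    apply pullback.hom_ext
    · rw [Category.assoc, pullback.diagonal_fst, Category.comp_id]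
    · rw [Category.assoc, pullback.diagonal_snd, Category.comp_id, h12]
  have hsurj : Surjective (pullback.diagonal f) := by
    refine ⟨fun z => ?_⟩
    obtain ⟨t, ht⟩ : ∃ t : Spec (CommRingCat.of (AlgebraicClosure ((pullback f f).residueField z))) ⟶
        pullback f f, t = Spec.map (CommRingCat.ofHom (algebraMap ((pullback f f).residueField z)
          (AlgebraicClosure ((pullback f f).residueField z)))) ≫
          (pullback f f).fromSpecResidueField z := ⟨_, rfl⟩
    obtain ⟨p⟩ : Nonempty (Spec (CommRingCat.of (AlgebraicClosure
      ((pullback f f).residueField z)))) := inferInstance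
    have hz : t.base p = z := by
      have : t.base p ∈ Set.range ((pullback f f).fromSpecResidueField z).base := by
        rw [ht]
        exact ⟨_, rfl⟩
      rw [Scheme.range_fromSpecResidueField] at this
      exact this
    refine ⟨(t ≫ pullback.fst f f).base p, ?_⟩
    rw [← Scheme.Hom.comp_apply, ← key _ t, hz]
  have hiso : IsIso (pullback.diagonal f) :=
    (isIso_iff_isOpenImmersion_and_surjective _).mpr ⟨hopen, hsurj⟩
  have hmono : Mono f := (pullback.isIso_diagonal_iff f).mp hiso
  exact (IsClosedImmersion.iff_isProper_and_mono f).mpr ⟨inferInstance, hmono⟩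

end Groth.Agent.S18891
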