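import Groth.Statements.S18899
import Mathlib

set_option autoImplicit false
universe u v w
open CAlg

namespace Groth.Agent.S18899

theorem exists_smul_eq {R S G : Type*} [CommRing R] [CommRing S] [IsDomain S] [Group G] [Fintype G]
    [MulSemiringAction G R] (F₁ F₂ : R →+* S)
    (h : ∀ r : R, (∀ g : G, g • r = r) → F₁ r = F₂ r) (r : R) : ∃ g : G, F₂ r = F₁ (g • r) := by
  have hmap : (MulSemiringAction.charpoly G r).map F₁ = (MulSemiringAction.charpoly G r).map F₂ := by
    ext n
    rw [Polynomial.coeff_map, Polynomial.coeff_map]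
    exact h _ (fun g => MulSemiringAction.smul_coeff_charpoly r n g)
  have h0 : ((MulSemiringAction.charpoly G r).map F₂).eval (F₂ r) = 0 := by
    rw [Polynomial.eval_map, Polynomial.eval₂_hom, MulSemiringAction.eval_charpoly, map_zero]
  rw [← hmap] at h0
  have h1 : (MulSemiringAction.charpoly G r).map F₁ =
      ∏ g : G, (Polynomial.X - Polynomial.C (F₁ (g • r))) := by
    simp [MulSemiringAction.charpoly_eq, Polynomial.map_prod]
  rw [h1, Polynomial.eval_prod] at h0
  obtain ⟨g, -, hg⟩ := Finset.prod_eq_zero_iff.mp h0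
  refine ⟨g, ?_⟩
  simpa [sub_eq_zero] using hg

/-- Let A be a commutative ring on which a finite group G acts by ring automorphisms, with ring of
invariants A^G, and let K be a field. If two ring homomorphisms f₁, f₂ : A → K have the same
restriction to A^G, then f₂ = f₁ ∘ γ for some γ ∈ G. -/
theorem result {A : Type u} [CommRing A] {G : Type v} [Group G] [Finite G]
    [MulSemiringAction G A] {K : Type w} [Field K] (f₁ f₂ : A →+* K)
    (h : ∀ a : A, (∀ g : G, g • a = a) → f₁ a = f₂ a) :
    ∃ γ : G, ∀ a : A, f₂ a = f₁ (γ • a) := by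
  classical
  have : Fintype G := Fintype.ofFinite G
  by_contra hcon
  push Not at hcon
  choose a ha using hcon
  let e : G ≃ Fin (Fintype.card G) := Fintype.equivFin G
  let p : Polynomial A := ∑ γ : G, Polynomial.monomial (e γ : ℕ) (a γ)
  have hp : ∀ γ : G, p.coeff (e γ : ℕ) = a γ := by
    intro γ
    simp only [p, Polynomial.finsetSum_coeff, Polynomial.coeff_monomial]
    rw [Finset.sum_eq_single γ]
    · simp
    · intro γ' _ hne
      rw [if_neg]
      intro heq
      exact hne (e.injective (Fin.ext heq))
    · intro hγ; exact absurd (Finset.mem_univ γ) hγ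
  have hinv : ∀ q : Polynomial A, (∀ g : G, g • q = q) →
      Polynomial.mapRingHom f₁ q = Polynomial.mapRingHom f₂ q := by
    intro q hq
    ext n
    rw [Polynomial.coe_mapRingHom, Polynomial.coe_mapRingHom, Polynomial.coeff_map,
      Polynomial.coeff_map]
    apply h
    intro g
    rw [← Polynomial.coeff_smul, hq g]
  obtain ⟨g, hg⟩ := exists_smul_eq (G := G) (Polynomial.mapRingHom f₁) (Polynomial.mapRingHom f₂)
    hinv p
  have h2 := congrArg (fun q : Polynomial K => q.coeff (e g : ℕ)) hg
  simp only [Polynomial.coe_mapRingHom, Polynomial.coeff_map, Polynomial.coeff_smul, hp] at h2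
  exact ha g h2

end Groth.Agent.S18899
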