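import Groth.Statements.S1890
import Mathlib

set_option autoImplicit false
universe u
open CategoryTheory CategoryTheory.Limits AlgebraicGeometry
open Grpd

namespace Groth.Agent.S1890

section Aux

open AlgebraicGeometry CategoryTheory Limits TopologicalSpace

theorem C1 {A : Type u} [CommRing A] {V : Scheme.{u}} (j : V ⟶ Spec (CommRingCat.of A)) (r : A) :
    V.basicOpen (j.appTop.hom ((Scheme.ΓSpecIso (CommRingCat.of A)).inv.hom r)) =
      j ⁻¹ᵁ PrimeSpectrum.basicOpen r := by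
  rw [← basicOpen_eq_of_affine (R := CommRingCat.of A) r]
  exact (Scheme.preimage_basicOpen j _).symm

theorem C3 {A : Type u} [CommRing A] {V : Scheme.{u}} (j : V ⟶ Spec (CommRingCat.of A))
    [IsImmersion j] (a : A)
    (ha : ∀ x : PrimeSpectrum A, x ∈ closure (Set.range ⇑j) \ Set.range ⇑j → a ∈ x.asIdeal) :
    IsAffineOpen (j ⁻¹ᵁ PrimeSpectrum.basicOpen a) := by
  obtain ⟨U, hU⟩ : ∃ U : (Spec (CommRingCat.of A)).Opens, U = PrimeSpectrum.basicOpen a := ⟨_, rfl⟩
  rw [← hU]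
  have hUaff : IsAffineOpen U := hU ▸ IsAffineOpen.Spec_basicOpen (R := CommRingCat.of A) a
  have hmem : ∀ x : PrimeSpectrum A, x ∈ U → a ∉ x.asIdeal := by
    intro x hx
    rw [hU] at hx
    exact hx
  have hrange : Set.range ⇑(j ∣_ U) = ⇑U.ι ⁻¹' closure (Set.range ⇑j) := by
    ext u
    constructor
    · rintro ⟨v, rfl⟩
      apply subset_closure
      refine ⟨(j ⁻¹ᵁ U).ι v, ?_⟩
      rw [← Scheme.Hom.comp_apply, ← Scheme.Hom.comp_apply, morphismRestrict_ι]
    · intro hu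
      have hu1 : U.ι u ∈ closure (Set.range ⇑j) := hu
      have hu2 : a ∉ PrimeSpectrum.asIdeal (U.ι u) := hmem _ u.2
      have hu3 : U.ι u ∈ Set.range ⇑j := by
        by_contra hcon
        exact hu2 (ha _ ⟨hu1, hcon⟩)
      obtain ⟨v, hv⟩ := hu3
      have hvU : v ∈ j ⁻¹ᵁ U := by
        show j v ∈ U
        rw [hv]; exact u.2
      refine ⟨⟨v, hvU⟩, ?_⟩
      apply U.ι.isOpenEmbedding.injective
      rw [← Scheme.Hom.comp_apply, morphismRestrict_ι, Scheme.Hom.comp_apply]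
      exact hv
  haveI : IsClosedImmersion (j ∣_ U) := IsClosedImmersion.of_isPreimmersion _ (by
    rw [hrange]; exact isClosed_closure.preimage U.ι.continuous)
  haveI : IsAffine U.toScheme := hUaff
  exact isAffine_of_isAffineHom (j ∣_ U)

theorem aux (A : Type u) [CommRing A] (V : Scheme.{u}) (j : V ⟶ Spec (CommRingCat.of A))
    [IsImmersion j] [QuasiCompact j] (f : A)
    (haff : IsAffineOpen (j ⁻¹ᵁ PrimeSpectrum.basicOpen f))
    (hcl : IsClosed (Set.range ⇑j ∩ PrimeSpectrum.zeroLocus {f})) : IsAffine V := by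
  classical
  have hlc : IsLocallyClosed (Set.range ⇑j) := j.isLocallyClosed_range
  obtain ⟨K, hKdef⟩ : ∃ K : Set (PrimeSpectrum A),
    K = closure (Set.range ⇑j) \ Set.range ⇑j := ⟨_, rfl⟩
  obtain ⟨T, hTdef⟩ : ∃ T : Set (PrimeSpectrum A),
    T = Set.range ⇑j ∩ PrimeSpectrum.zeroLocus {f} := ⟨_, rfl⟩
  have hKcl : IsClosed K := by
    have h1 : IsOpen (coborder (Set.range ⇑j)) := hlc.isOpen_coborder
    have h2 : K = (coborder (Set.range ⇑j))ᶜ := by rw [hKdef, coborder, compl_compl]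
    rw [h2]; exact h1.isClosed_compl
  have hTcl : IsClosed T := hTdef ▸ hcl
  have hKT : K ∩ T = ∅ := by
    ext x
    simp only [Set.mem_inter_iff, Set.mem_empty_iff_false, iff_false, not_and]
    intro hx hx'
    rw [hKdef] at hx; rw [hTdef] at hx'
    exact hx.2 hx'.1
  have htop : PrimeSpectrum.vanishingIdeal K ⊔ PrimeSpectrum.vanishingIdeal T = ⊤ := by
    rw [← PrimeSpectrum.zeroLocus_empty_iff_eq_top, PrimeSpectrum.zeroLocus_sup,
      PrimeSpectrum.zeroLocus_vanishingIdeal_eq_closure,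
      PrimeSpectrum.zeroLocus_vanishingIdeal_eq_closure,
      hKcl.closure_eq, hTcl.closure_eq, hKT]
  obtain ⟨a, ha, b, hb, hab⟩ := Submodule.mem_sup.mp (htop ▸ (Submodule.mem_top : (1 : A) ∈ ⊤))
  rw [PrimeSpectrum.mem_vanishingIdeal] at ha hb
  obtain ⟨φ, hφ⟩ : ∃ φ : A →+* Γ(V, ⊤),
    φ = (j.appTop.hom).comp (Scheme.ΓSpecIso (CommRingCat.of A)).inv.hom := ⟨_, rfl⟩
  have hD : ∀ r : A, V.basicOpen (φ r) = j ⁻¹ᵁ PrimeSpectrum.basicOpen r := by
    intro r; rw [hφ]; exact C1 j r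
  have hab' : φ a + φ b = 1 := by rw [← map_add, hab, map_one]
  have hC3 : IsAffineOpen (V.basicOpen (φ a)) := by
    rw [hD]
    exact C3 j a (fun x hx => ha x (hKdef ▸ hx))
  have hCf : IsAffineOpen (V.basicOpen (φ f)) := by rw [hD]; exact haff
  have hle : V.basicOpen (φ b) ≤ V.basicOpen (φ f) := by
    rw [hD, hD]
    intro v hv
    have hv' : b ∉ PrimeSpectrum.asIdeal (j v) := hv
    show f ∉ PrimeSpectrum.asIdeal (j v)
    intro hf
    refine hv' (hb (j v) ?_)
    rw [hTdef]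
    refine ⟨⟨v, rfl⟩, ?_⟩
    exact (PrimeSpectrum.mem_zeroLocus (j v) {f}).mpr (Set.singleton_subset_iff.mpr hf)
  have hcomp : IsCompact (⊤ : V.Opens).1 := by
    haveI : CompactSpace V := QuasiCompact.compactSpace_of_compactSpace j
    exact isCompact_univ
  have hqs : IsQuasiSeparated (⊤ : V.Opens).1 := by
    haveI : QuasiSeparatedSpace V := quasiSeparatedSpace_of_quasiSeparated j
    exact isQuasiSeparated_univ
  haveI hloc : IsLocalization.Away (φ b) Γ(V, V.basicOpen (φ b)) :=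
    isLocalization_basicOpen_of_qcqs hcomp hqs (φ b)
  have hunit : IsUnit (algebraMap Γ(V, ⊤) Γ(V, V.basicOpen (φ b)) (φ f)) := by
    rw [RingHom.algebraMap_toAlgebra]
    apply V.toRingedSpace.isUnit_of_isUnit_germ
    intro x hx
    have hx' : x ∈ V.basicOpen (φ f) := hle hx
    rw [Scheme.mem_basicOpen_top] at hx'
    convert hx' using 1
    exact V.presheaf.germ_res_apply _ _ _ _
  obtain ⟨w, hw⟩ := hunit.exists_right_inv
  obtain ⟨n, x, hx⟩ := IsLocalization.Away.surj (φ b) w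
  have h3 : algebraMap Γ(V, ⊤) Γ(V, V.basicOpen (φ b)) (φ f * x) =
      algebraMap Γ(V, ⊤) Γ(V, V.basicOpen (φ b)) ((φ b) ^ n) := by
    rw [map_mul, ← hx, ← mul_assoc, hw, one_mul, map_pow]
  obtain ⟨m, hm⟩ := IsLocalization.Away.exists_of_eq (φ b) h3
  have hspan : Ideal.span ({φ f, φ a} : Set Γ(V, ⊤)) = ⊤ := by
    rw [← Ideal.radical_eq_top, Ideal.eq_top_iff_one, ← hab', add_comm]
    apply Ideal.add_mem
    · refine ⟨m + n, ?_⟩
      rw [pow_add, ← hm]
      exact Ideal.mul_mem_left _ _ (Ideal.mul_mem_right _ _ (Ideal.subset_span (by simp)))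
    · exact Ideal.le_radical (Ideal.subset_span (by simp))
  refine isAffine_of_isAffineOpen_basicOpen _ hspan ?_
  intro i hi
  simp only [Set.mem_insert_iff, Set.mem_singleton_iff] at hi
  rcases hi with rfl | rfl
  · exact hCf
  · exact hC3

end Aux

/-- Take a quasi-compact immersion j : V → Spec A and an element f ∈ A such that j⁻¹(D(f)) is affine and
j(V) ∩ V(f) is closed in Spec A. Then V is affine. -/
theorem result (A : Type u) [CommRing A] (V : Scheme.{u}) (j : V ⟶ Spec (CommRingCat.of A)) [IsImmersion j] [QuasiCompact j] (f : A) (haff : IsAffineOpen (j ⁻¹ᵁ PrimeSpectrum.basicOpen f)) (hcl : IsClosed (Set.range ⇑j ∩ PrimeSpectrum.zeroLocus {f})) : IsAffine V := by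
  exact aux A V j f haff hcl

end Groth.Agent.S1890
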