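import Groth.Statements.S1891
import Mathlib
import Groth.Agent.Lib.Helper5.GrpdLib
import Groth.Agent.Lib.Helper5.GrpdTrans

set_option autoImplicit false
universe u
open CategoryTheory CategoryTheory.Limits AlgebraicGeometry
open Grpd

namespace Groth.Agent.S1891

section Aux
open Groth.Agent.Helper5.GrpdLib Groth.Agent.Helper5.GrpdTrans

variable {S : Scheme.{u}} {G₁ G₂ : Grpd.GroupoidScheme S}

lemma hom_cmp (a : Grpd.GroupoidScheme.Hom G₁ G₂) {T : Scheme.{u}} (α β : T ⟶ G₁.R)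
    (h : α ≫ G₁.s = β ≫ G₁.t) (h' : (α ≫ a.fR) ≫ G₂.s = (β ≫ a.fR) ≫ G₂.t) :
    cmp G₁ α β h ≫ a.fR = cmp G₂ (α ≫ a.fR) (β ≫ a.fR) h' := a.comm_c α β h

/-- an idempotent arrow is an identity -/
lemma eq_e_of_idem {G : Grpd.GroupoidScheme S} {T : Scheme.{u}} (x : T ⟶ G.R)
    (h : x ≫ G.s = x ≫ G.t) (hx : cmp G x x h = x) : x = x ≫ G.s ≫ G.e := by
  have h1 : (x ≫ G.i) ≫ G.s = cmp G x x h ≫ G.t := by rw [cmp_t, Category.assoc, G.i_s]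
  have h2 : (x ≫ G.i) ≫ G.s = x ≫ G.t := by rw [Category.assoc, G.i_s]
  calc x = cmp G (x ≫ G.i) (cmp G x x h) h1 := (i_cmp_cmp x x h h1).symm
    _ = cmp G (x ≫ G.i) x h2 := cmp_congr rfl hx h1
    _ = x ≫ G.s ≫ G.e := i_cmp _ _ rfl h2

lemma hom_e (a : Grpd.GroupoidScheme.Hom G₁ G₂) : G₁.e ≫ a.fR = a.fU ≫ G₂.e := by
  have hs : (G₁.e ≫ a.fR) ≫ G₂.s = a.fU := by
    rw [Category.assoc, a.comm_s, ← Category.assoc, G₁.e_s, Category.id_comp]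
  have ht : (G₁.e ≫ a.fR) ≫ G₂.t = a.fU := by
    rw [Category.assoc, a.comm_t, ← Category.assoc, G₁.e_t, Category.id_comp]
  have h : (G₁.e ≫ a.fR) ≫ G₂.s = (G₁.e ≫ a.fR) ≫ G₂.t := hs.trans ht.symm
  have h0 : G₁.e ≫ G₁.s = G₁.e ≫ G₁.t := by rw [G₁.e_s, G₁.e_t]
  have idem1 : cmp G₁ G₁.e G₁.e h0 = G₁.e :=
    cmp_e _ _ (by rw [← Category.assoc, G₁.e_s, Category.id_comp]) _
  have idem : cmp G₂ (G₁.e ≫ a.fR) (G₁.e ≫ a.fR) h = G₁.e ≫ a.fR := by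
    rw [← hom_cmp a G₁.e G₁.e h0 h, idem1]
  calc G₁.e ≫ a.fR = (G₁.e ≫ a.fR) ≫ G₂.s ≫ G₂.e := eq_e_of_idem _ h idem
    _ = a.fU ≫ G₂.e := by rw [← Category.assoc (G₁.e ≫ a.fR) G₂.s G₂.e, hs]

lemma hom_i (a : Grpd.GroupoidScheme.Hom G₁ G₂) : G₁.i ≫ a.fR = a.fR ≫ G₂.i := by
  have h0 : 𝟙 G₁.R ≫ G₁.s = G₁.i ≫ G₁.t := by rw [Category.id_comp, G₁.i_t]
  have hxy : a.fR ≫ G₂.s = (G₁.i ≫ a.fR) ≫ G₂.t := by
    rw [Category.assoc, a.comm_s, a.comm_t, ← Category.assoc, G₁.i_t]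
  have e0 : cmp G₁ (𝟙 G₁.R) G₁.i h0 = G₁.t ≫ G₁.e :=
    (cmp_i _ _ (Category.id_comp _).symm h0).trans (Category.id_comp _)
  have e1 : cmp G₂ a.fR (G₁.i ≫ a.fR) hxy = a.fR ≫ G₂.t ≫ G₂.e := by
    have hxy' : (𝟙 G₁.R ≫ a.fR) ≫ G₂.s = (G₁.i ≫ a.fR) ≫ G₂.t := by
      rw [Category.id_comp]; exact hxy
    calc cmp G₂ a.fR (G₁.i ≫ a.fR) hxy = cmp G₂ (𝟙 G₁.R ≫ a.fR) (G₁.i ≫ a.fR) hxy' :=
          cmp_congr (Category.id_comp _).symm rfl _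
      _ = cmp G₁ (𝟙 G₁.R) G₁.i h0 ≫ a.fR := (hom_cmp a _ _ h0 hxy').symm
      _ = (G₁.t ≫ G₁.e) ≫ a.fR := by rw [e0]
      _ = a.fR ≫ G₂.t ≫ G₂.e := by
        rw [Category.assoc, hom_e a, ← Category.assoc G₁.t a.fU, ← a.comm_t, Category.assoc]
  have h' : (a.fR ≫ G₂.i) ≫ G₂.s = cmp G₂ a.fR (G₁.i ≫ a.fR) hxy ≫ G₂.t := by
    rw [cmp_t, Category.assoc, G₂.i_s]
  have h'' : (a.fR ≫ G₂.i) ≫ G₂.s = (a.fR ≫ G₂.t ≫ G₂.e) ≫ G₂.t := by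
    rw [Category.assoc, G₂.i_s, Category.assoc, Category.assoc, G₂.e_t, Category.comp_id]
  calc G₁.i ≫ a.fR = cmp G₂ (a.fR ≫ G₂.i) (cmp G₂ a.fR (G₁.i ≫ a.fR) hxy) h' :=
        (i_cmp_cmp _ _ hxy h').symm
    _ = cmp G₂ (a.fR ≫ G₂.i) (a.fR ≫ G₂.t ≫ G₂.e) h'' := cmp_congr rfl e1 h'
    _ = a.fR ≫ G₂.i :=
        cmp_e _ _ (by rw [Category.assoc, ← Category.assoc G₂.i G₂.s, G₂.i_s]) h''

lemma mul_mem (a : Grpd.GroupoidScheme.Hom G₁ G₂) [Mono a.fU] {T : Scheme.{u}} (p : T)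
    (γ δ : T ⟶ G₂.R) (h : γ ≫ G₂.s = δ ≫ G₂.t) (hγ : γ p ∈ Set.range a.fR)
    (hδ : δ p ∈ Set.range a.fR) : (cmp G₂ γ δ h) p ∈ Set.range a.fR := by
  obtain ⟨z₁, hz₁⟩ := hγ
  obtain ⟨z₂, hz₂⟩ := hδ
  obtain ⟨p₁, hp₁a, hp₁b⟩ :=
    Scheme.Pullback.exists_preimage_pullback (f := a.fR) (g := γ) z₁ p hz₁
  have hz₂' : a.fR z₂ = (pullback.snd a.fR γ ≫ δ) p₁ := by
    rw [Scheme.Hom.comp_apply, hp₁b]; exact hz₂
  obtain ⟨p₂, hp₂a, hp₂b⟩ := Scheme.Pullback.exists_preimage_pullback (f := a.fR)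
    (g := pullback.snd a.fR γ ≫ δ) z₂ p₁ hz₂'
  obtain ⟨α₁, hα₁⟩ : ∃ α₁ : pullback a.fR (pullback.snd a.fR γ ≫ δ) ⟶ G₁.R,
    α₁ = pullback.snd _ _ ≫ pullback.fst a.fR γ := ⟨_, rfl⟩
  obtain ⟨α₂, hα₂⟩ : ∃ α₂ : pullback a.fR (pullback.snd a.fR γ ≫ δ) ⟶ G₁.R,
    α₂ = pullback.fst _ _ := ⟨_, rfl⟩
  obtain ⟨π, hπ⟩ : ∃ π : pullback a.fR (pullback.snd a.fR γ ≫ δ) ⟶ T,
    π = pullback.snd _ _ ≫ pullback.snd a.fR γ := ⟨_, rfl⟩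
  have e₁ : α₁ ≫ a.fR = π ≫ γ := by
    rw [hα₁, hπ, Category.assoc, Category.assoc, pullback.condition]
  have e₂ : α₂ ≫ a.fR = π ≫ δ := by
    rw [hα₂, hπ, pullback.condition, Category.assoc]
  have hcomp' : (α₁ ≫ a.fR) ≫ G₂.s = (α₂ ≫ a.fR) ≫ G₂.t := by
    rw [e₁, e₂, Category.assoc, Category.assoc, h]
  have hcomp : α₁ ≫ G₁.s = α₂ ≫ G₁.t := by
    rw [← cancel_mono a.fU, Category.assoc, Category.assoc, ← a.comm_s, ← a.comm_t,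
      ← Category.assoc α₁ a.fR, ← Category.assoc α₂ a.fR]
    exact hcomp'
  have key : cmp G₁ α₁ α₂ hcomp ≫ a.fR = π ≫ cmp G₂ γ δ h := by
    rw [hom_cmp a α₁ α₂ hcomp hcomp', comp_cmp]
    exact cmp_congr e₁ e₂ _
  refine ⟨(cmp G₁ α₁ α₂ hcomp) p₂, ?_⟩
  have hπp : π p₂ = p := by rw [hπ, Scheme.Hom.comp_apply, hp₂b, hp₁b]
  calc a.fR ((cmp G₁ α₁ α₂ hcomp) p₂) = (cmp G₁ α₁ α₂ hcomp ≫ a.fR) p₂ := by
        rw [Scheme.Hom.comp_apply]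
    _ = (π ≫ cmp G₂ γ δ h) p₂ := by rw [key]
    _ = (cmp G₂ γ δ h) p := by rw [Scheme.Hom.comp_apply, hπp]

theorem aux (S : Scheme.{u}) (G₁ G₂ : Grpd.GroupoidScheme S) (k : Type u) [Field k]
    (eU : G₂.U ≅ Spec (CommRingCat.of k)) (a : Grpd.GroupoidScheme.Hom G₁ G₂) [IsIso a.fU]
    (hopen : IsOpen (Set.range ⇑a.fR)) : IsClosed (Set.range ⇑a.fR) := by
  haveI : Subsingleton G₂.U := eU.hom.homeomorph.subsingleton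
  haveI : Nonempty G₂.U := ⟨eU.inv (IsLocalRing.closedPoint k)⟩
  haveI : IsIntegral G₂.U := isIntegral_of_isOpenImmersion eU.hom
  apply isClosed_of_closure_subset
  intro x hx
  obtain ⟨ι, hι⟩ : ∃ ι : Spec (G₂.R.residueField x) ⟶ G₂.R,
    ι = G₂.R.fromSpecResidueField x := ⟨_, rfl⟩
  have hιpt : ∀ q, ι q = x := by intro q; rw [hι, Scheme.fromSpecResidueField_apply]
  have hpb := isPullback_transl (G := G₂) ι
  have hUO : UniversallyOpen (transl (G := G₂) ι) :=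
    MorphismProperty.of_isPullback (P := @UniversallyOpen) hpb.flip inferInstance
  have hopenmap : IsOpenMap (transl (G := G₂) ι) := (transl ι).isOpenMap
  obtain ⟨O', hO'⟩ : ∃ O' : (pullback (ι ≫ G₂.s) G₂.t).Opens,
    O' = pullback.snd (ι ≫ G₂.s) G₂.t ⁻¹ᵁ ⟨_, hopen⟩ := ⟨_, rfl⟩
  have hN : IsOpen (transl (G := G₂) ι '' (O' : Set _)) := hopenmap _ O'.isOpen
  have hεc : 𝟙 _ ≫ (ι ≫ G₂.s) = (ι ≫ G₂.s ≫ G₂.e) ≫ G₂.t := by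
    rw [Category.id_comp, Category.assoc, Category.assoc, G₂.e_t, Category.comp_id]
  obtain ⟨ε₀, hε₀⟩ : ∃ ε₀ : Spec (G₂.R.residueField x) ⟶ pullback (ι ≫ G₂.s) G₂.t,
    ε₀ = pullback.lift (𝟙 _) (ι ≫ G₂.s ≫ G₂.e) hεc := ⟨_, rfl⟩
  have hε1 : ε₀ ≫ pullback.fst _ _ = 𝟙 _ := by rw [hε₀, pullback.lift_fst]
  have hε2 : ε₀ ≫ pullback.snd _ _ = ι ≫ G₂.s ≫ G₂.e := by rw [hε₀, pullback.lift_snd]
  have hεtr : ε₀ ≫ transl ι = ι := by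
    unfold transl
    rw [comp_cmp]
    exact (cmp_congr (by rw [← Category.assoc, hε1, Category.id_comp]) hε2 _).trans
      (cmp_e _ _ rfl _)
  have hxN : x ∈ transl (G := G₂) ι '' (O' : Set _) := by
    obtain ⟨q⟩ : Nonempty (Spec (G₂.R.residueField x)) := ⟨default⟩
    refine ⟨ε₀ q, ?_, ?_⟩
    · rw [hO']
      show pullback.snd (ι ≫ G₂.s) G₂.t (ε₀ q) ∈ Set.range a.fR
      have e1 : pullback.snd (ι ≫ G₂.s) G₂.t (ε₀ q) =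
          (ε₀ ≫ pullback.snd (ι ≫ G₂.s) G₂.t) q := by rw [Scheme.Hom.comp_apply]
      rw [e1, hε2]
      refine ⟨G₁.e (inv a.fU (G₂.s x)), ?_⟩
      have e2 : (ι ≫ G₂.s ≫ G₂.e) q = G₂.e (G₂.s x) := by
        rw [Scheme.Hom.comp_apply, Scheme.Hom.comp_apply, hιpt]
      have e3 : a.fR (G₁.e (inv a.fU (G₂.s x))) = (inv a.fU ≫ G₁.e ≫ a.fR) (G₂.s x) := by
        rw [Scheme.Hom.comp_apply, Scheme.Hom.comp_apply]
      rw [e2, e3, hom_e a, IsIso.inv_hom_id_assoc]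
    · have e1 : transl ι (ε₀ q) = (ε₀ ≫ transl ι) q := by rw [Scheme.Hom.comp_apply]
      rw [e1, hεtr, hιpt]
  obtain ⟨z, ⟨f, hfO, hfz⟩, hzZ⟩ := mem_closure_iff.mp hx _ hN hxN
  have hγδ : transl ι ≫ G₂.s = (pullback.snd (ι ≫ G₂.s) G₂.t ≫ G₂.i) ≫ G₂.t := by
    unfold transl; rw [cmp_s, Category.assoc, G₂.i_t]
  have hprod : cmp G₂ (transl ι) (pullback.snd (ι ≫ G₂.s) G₂.t ≫ G₂.i) hγδ =
      pullback.fst (ι ≫ G₂.s) G₂.t ≫ ι :=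
    cmp_cmp_i (pullback.fst (ι ≫ G₂.s) G₂.t ≫ ι) (pullback.snd (ι ≫ G₂.s) G₂.t) _ hγδ
  have hδ : (pullback.snd (ι ≫ G₂.s) G₂.t ≫ G₂.i) f ∈ Set.range a.fR := by
    have hf' : pullback.snd (ι ≫ G₂.s) G₂.t f ∈ Set.range a.fR := by
      rw [hO'] at hfO; exact hfO
    obtain ⟨y₁, hy₁⟩ := hf'
    refine ⟨G₁.i y₁, ?_⟩
    have e1 : a.fR (G₁.i y₁) = (G₁.i ≫ a.fR) y₁ := by rw [Scheme.Hom.comp_apply]
    rw [e1, hom_i a, Scheme.Hom.comp_apply, hy₁, Scheme.Hom.comp_apply]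
  have hγ : (transl ι) f ∈ Set.range a.fR := by rw [hfz]; exact hzZ
  have hres := mul_mem a f (transl ι) (pullback.snd _ _ ≫ G₂.i) hγδ hγ hδ
  rw [hprod, Scheme.Hom.comp_apply, hιpt] at hres
  exact hres

end Aux

/-- Let (U, R₁, s₁, t₁, c₁) and (U, R₂, s₂, t₂, c₂) be groupoid schemes over S on the same U = Spec k, k
a field, and a : R₁ → R₂ a morphism of groupoid schemes over the identity of U (here: over an
isomorphism on objects). If a(R₁) is open in R₂ then it is closed. (A groupoid scheme carries U, R,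
s, t, c, e, i over S with the groupoid axioms on T-points; 'finite locally free' is finite, flat and
locally of finite presentation; C ⊂ Γ(U) is the ring of functions a with s♯(a) = t♯(a) and M = Spec
C.) -/
theorem result (S : Scheme.{u}) (G₁ G₂ : Grpd.GroupoidScheme S) (k : Type u) [Field k] (eU : G₂.U ≅ Spec (CommRingCat.of k)) (a : Grpd.GroupoidScheme.Hom G₁ G₂) [IsIso a.fU] (hopen : IsOpen (Set.range ⇑a.fR)) : IsClosed (Set.range ⇑a.fR) := by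
  exact aux S G₁ G₂ k eU a hopen

end Groth.Agent.S1891
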