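import Groth.Statements.S7462
import Mathlib
import Groth.Agent.Lib.Helper5.GrpdLib
import Groth.Agent.Lib.Helper5.GrpdTrans
import Groth.Agent.S1891

set_option autoImplicit false
universe u
open CategoryTheory CategoryTheory.Limits AlgebraicGeometry
open Grpd

namespace Groth.Agent.S7462

section Aux
open Groth.Agent.Helper5.GrpdLib Groth.Agent.Helper5.GrpdTrans

variable {S : Scheme.{u}} {G₁ G₂ : Grpd.GroupoidScheme S}

lemma stepA' (a : Grpd.GroupoidScheme.Hom G₁ G₂) [Mono a.fU] [IsIntegral G₂.U]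
    [Subsingleton G₂.U] {T : Scheme.{u}} (γ δ : T ⟶ G₂.R) (h : γ ≫ G₂.s = δ ≫ G₂.t)
    (hγ : ∀ q : T, γ q ∈ Set.range a.fR) (p' : T) (hδ : δ p' ∈ closure (Set.range a.fR)) :
    (cmp G₂ γ δ h) p' ∈ closure (Set.range a.fR) := by
  have hopen : IsOpenMap (pullback.snd (γ ≫ G₂.s) G₂.t) :=
    (pullback.snd (γ ≫ G₂.s) G₂.t).isOpenMap
  have hLc : 𝟙 T ≫ (γ ≫ G₂.s) = δ ≫ G₂.t := by rw [Category.id_comp, h]
  obtain ⟨L, hL⟩ : ∃ L : T ⟶ pullback (γ ≫ G₂.s) G₂.t, L = pullback.lift (𝟙 T) δ hLc :=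
    ⟨_, rfl⟩
  have hL1 : L ≫ pullback.fst _ _ = 𝟙 T := by rw [hL, pullback.lift_fst]
  have hL2 : L ≫ pullback.snd _ _ = δ := by rw [hL, pullback.lift_snd]
  have hLtr : L ≫ transl γ = cmp G₂ γ δ h := by
    unfold transl
    rw [comp_cmp]
    exact cmp_congr (by rw [← Category.assoc, hL1, Category.id_comp]) hL2 _
  have hA : ∀ f' : ↑(pullback (γ ≫ G₂.s) G₂.t),
      pullback.snd (γ ≫ G₂.s) G₂.t f' ∈ Set.range a.fR → transl γ f' ∈ Set.range a.fR := by
    intro f' hf'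
    have hc : (pullback.fst (γ ≫ G₂.s) G₂.t ≫ γ) ≫ G₂.s =
        pullback.snd (γ ≫ G₂.s) G₂.t ≫ G₂.t := by
      rw [Category.assoc]; exact pullback.condition
    have := Groth.Agent.S1891.mul_mem a f' (pullback.fst (γ ≫ G₂.s) G₂.t ≫ γ)
      (pullback.snd (γ ≫ G₂.s) G₂.t) hc (by rw [Scheme.Hom.comp_apply]; exact hγ _) hf'
    exact this
  have h1 : L p' ∈ pullback.snd (γ ≫ G₂.s) G₂.t ⁻¹' closure (Set.range a.fR) := by
    show pullback.snd (γ ≫ G₂.s) G₂.t (L p') ∈ closure (Set.range a.fR)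
    have e : pullback.snd (γ ≫ G₂.s) G₂.t (L p') = (L ≫ pullback.snd (γ ≫ G₂.s) G₂.t) p' := by
      rw [Scheme.Hom.comp_apply]
    rw [e, hL2]; exact hδ
  have h2 := hopen.preimage_closure_subset_closure_preimage h1
  have h3 : transl γ (L p') ∈ closure (Set.range a.fR) := by
    have hcont : Continuous (transl γ) := (transl γ).continuous
    have := image_closure_subset_closure_image hcont ⟨_, h2, rfl⟩
    refine closure_mono ?_ this
    rintro _ ⟨f', hf', rfl⟩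
    exact hA f' hf'
  rw [← hLtr, Scheme.Hom.comp_apply]
  exact h3

lemma stepA (a : Grpd.GroupoidScheme.Hom G₁ G₂) [Mono a.fU] [IsIntegral G₂.U]
    [Subsingleton G₂.U] {T : Scheme.{u}} (γ δ : T ⟶ G₂.R) (h : γ ≫ G₂.s = δ ≫ G₂.t)
    (p' : T) (hγ : γ p' ∈ Set.range a.fR) (hδ : δ p' ∈ closure (Set.range a.fR)) :
    (cmp G₂ γ δ h) p' ∈ closure (Set.range a.fR) := by
  obtain ⟨ι, hι⟩ : ∃ ι : Spec (T.residueField p') ⟶ T, ∀ q, ι q = p' :=
    ⟨T.fromSpecResidueField p', fun q => Scheme.fromSpecResidueField_apply p' q⟩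
  have h' : (ι ≫ γ) ≫ G₂.s = (ι ≫ δ) ≫ G₂.t := by rw [Category.assoc, Category.assoc, h]
  obtain ⟨q⟩ : Nonempty (Spec (T.residueField p')) := ⟨default⟩
  have := stepA' a (ι ≫ γ) (ι ≫ δ) h'
    (fun q' => by rw [Scheme.Hom.comp_apply, hι]; exact hγ) q
    (by rw [Scheme.Hom.comp_apply, hι]; exact hδ)
  have e : cmp G₂ (ι ≫ γ) (ι ≫ δ) h' = ι ≫ cmp G₂ γ δ h := (comp_cmp ι γ δ h).symm
  rw [e, Scheme.Hom.comp_apply, hι] at this
  exact this

lemma stepB (a : Grpd.GroupoidScheme.Hom G₁ G₂) [Mono a.fU] [IsIntegral G₂.U]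
    [Subsingleton G₂.U] (p : ↑(pullback G₂.s G₂.t))
    (h₁ : pullback.fst G₂.s G₂.t p ∈ closure (Set.range a.fR))
    (h₂ : pullback.snd G₂.s G₂.t p ∈ closure (Set.range a.fR)) :
    G₂.c p ∈ closure (Set.range a.fR) := by
  obtain ⟨δ₀, hδ₀⟩ : ∃ δ₀ : Spec (G₂.R.residueField (pullback.snd G₂.s G₂.t p)) ⟶ G₂.R,
      ∀ q, δ₀ q = pullback.snd G₂.s G₂.t p :=
    ⟨G₂.R.fromSpecResidueField _, fun q => Scheme.fromSpecResidueField_apply _ q⟩
  obtain ⟨q⟩ : Nonempty (Spec (G₂.R.residueField (pullback.snd G₂.s G₂.t p))) := ⟨default⟩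
  have hopen : IsOpenMap (pullback.fst G₂.s (δ₀ ≫ G₂.t)) :=
    (pullback.fst G₂.s (δ₀ ≫ G₂.t)).isOpenMap
  have hc : pullback.fst G₂.s (δ₀ ≫ G₂.t) ≫ G₂.s =
      (pullback.snd G₂.s (δ₀ ≫ G₂.t) ≫ δ₀) ≫ G₂.t := by
    rw [Category.assoc]; exact pullback.condition
  obtain ⟨trr, htrr⟩ : ∃ trr : pullback G₂.s (δ₀ ≫ G₂.t) ⟶ G₂.R,
    trr = cmp G₂ (pullback.fst G₂.s (δ₀ ≫ G₂.t)) (pullback.snd G₂.s (δ₀ ≫ G₂.t) ≫ δ₀) hc :=
    ⟨_, rfl⟩
  obtain ⟨w, hw1, hw2⟩ := Scheme.Pullback.exists_preimage_pullback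
    (f := pullback.snd G₂.s G₂.t) (g := δ₀) p q (hδ₀ q).symm
  have hφc : (pullback.fst (pullback.snd G₂.s G₂.t) δ₀ ≫ pullback.fst G₂.s G₂.t) ≫ G₂.s =
      pullback.snd (pullback.snd G₂.s G₂.t) δ₀ ≫ δ₀ ≫ G₂.t := by
    rw [Category.assoc, pullback.condition,
      ← Category.assoc (pullback.fst (pullback.snd G₂.s G₂.t) δ₀), pullback.condition,
      Category.assoc]
  obtain ⟨φ, hφ⟩ : ∃ φ : pullback (pullback.snd G₂.s G₂.t) δ₀ ⟶ pullback G₂.s (δ₀ ≫ G₂.t),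
    φ = pullback.lift (pullback.fst _ _ ≫ pullback.fst G₂.s G₂.t) (pullback.snd _ _) hφc :=
    ⟨_, rfl⟩
  have hφ1 : φ ≫ pullback.fst _ _ = pullback.fst _ _ ≫ pullback.fst G₂.s G₂.t := by
    rw [hφ, pullback.lift_fst]
  have hφ2 : φ ≫ pullback.snd _ _ = pullback.snd _ _ := by rw [hφ, pullback.lift_snd]
  have hφtr : φ ≫ trr = pullback.fst _ _ ≫ G₂.c := by
    rw [htrr, comp_cmp, c_eq (G := G₂), comp_cmp]
    exact cmp_congr hφ1 (by rw [← Category.assoc, hφ2, pullback.condition]) _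
  have hf1 : pullback.fst G₂.s (δ₀ ≫ G₂.t) (φ w) = pullback.fst G₂.s G₂.t p := by
    have e : pullback.fst G₂.s (δ₀ ≫ G₂.t) (φ w) =
        (φ ≫ pullback.fst G₂.s (δ₀ ≫ G₂.t)) w := by rw [Scheme.Hom.comp_apply]
    rw [e, hφ1, Scheme.Hom.comp_apply, hw1]
  have hf2 : trr (φ w) = G₂.c p := by
    have e : trr (φ w) = (φ ≫ trr) w := by rw [Scheme.Hom.comp_apply]
    rw [e, hφtr, Scheme.Hom.comp_apply, hw1]
  have hA : ∀ f' : ↑(pullback G₂.s (δ₀ ≫ G₂.t)),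
      pullback.fst G₂.s (δ₀ ≫ G₂.t) f' ∈ Set.range a.fR →
      trr f' ∈ closure (Set.range a.fR) := by
    intro f' hf'
    rw [htrr]
    exact stepA a _ _ hc f' hf' (by rw [Scheme.Hom.comp_apply, hδ₀]; exact h₂)
  have h1 : φ w ∈ pullback.fst G₂.s (δ₀ ≫ G₂.t) ⁻¹' closure (Set.range a.fR) := by
    show pullback.fst G₂.s (δ₀ ≫ G₂.t) (φ w) ∈ closure (Set.range a.fR)
    rw [hf1]; exact h₁
  have h2 := hopen.preimage_closure_subset_closure_preimage h1
  have hcont : Continuous trr := trr.continuous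
  have h3 := image_closure_subset_closure_image hcont ⟨_, h2, rfl⟩
  have h4 : trr (φ w) ∈ closure (closure (Set.range a.fR)) := by
    refine closure_mono ?_ h3
    rintro _ ⟨f', hf', rfl⟩
    exact hA f' hf'
  rw [closure_closure, hf2] at h4
  exact h4

end Aux

/-- Consider two groupoid schemes (U, R_1, s_1, t_1, c_1) and (U, R_2, s_2, t_2, c_2) over S, where U is
the spectrum of a field, together with a map a : R_1 -> R_2 respecting source, target and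
composition (in the Lean: a morphism of groupoid schemes whose object-scheme component is an
isomorphism). Write Z for the closure in R_2 of the image of a. Then, as a map of sets, c_2 sends Z
x_(s_2,U,t_2) Z into Z: any point of R_2 x_(s_2,U,t_2) R_2 with both projections in Z has its
c_2-image in Z. (Here a groupoid scheme over S consists of U, R, s, t, c, e, i satisfying the
groupoid axioms on T-points; c lives on the fibre product of s and t and takes a pair (a, b) with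
s(a) = t(b) to the composite of a with b.) -/
theorem result (S : Scheme.{u}) (G₁ G₂ : Grpd.GroupoidScheme S) (f : Grpd.GroupoidScheme.Hom G₁ G₂) [IsIso f.fU] (k : Type u) [Field k] (eU : G₂.U ≅ Spec (CommRingCat.of k)) (p : ↑(pullback G₂.s G₂.t)) (h₁ : pullback.fst G₂.s G₂.t p ∈ closure (Set.range ⇑f.fR)) (h₂ : pullback.snd G₂.s G₂.t p ∈ closure (Set.range ⇑f.fR)) : G₂.c p ∈ closure (Set.range ⇑f.fR) := by
  haveI : Subsingleton G₂.U := eU.hom.homeomorph.subsingleton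
  haveI : Nonempty G₂.U := ⟨eU.inv (IsLocalRing.closedPoint k)⟩
  haveI : IsIntegral G₂.U := isIntegral_of_isOpenImmersion eU.hom
  exact stepB f p h₁ h₂

end Groth.Agent.S7462
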