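import Groth.Statements.S1892
import Mathlib
import Groth.Agent.Lib.Helper5.GrpdLib
import Groth.Agent.Lib.Helper5.GrpdTrans
import Groth.Agent.S1891
import Groth.Agent.S7462

set_option autoImplicit false
universe u
open CategoryTheory CategoryTheory.Limits AlgebraicGeometry
open Grpd

namespace Groth.Agent.S1892

section Aux
open Groth.Agent.Helper5.GrpdLib Groth.Agent.Helper5.GrpdTrans Groth.Agent.S1891

variable {S : Scheme.{u}} {G₁ G₂ : Grpd.GroupoidScheme S}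

lemma stepB_T (a : Grpd.GroupoidScheme.Hom G₁ G₂) [Mono a.fU] [IsIntegral G₂.U]
    [Subsingleton G₂.U] {T : Scheme.{u}} (p : T) (γ δ : T ⟶ G₂.R) (h : γ ≫ G₂.s = δ ≫ G₂.t)
    (hγ : γ p ∈ closure (Set.range a.fR)) (hδ : δ p ∈ closure (Set.range a.fR)) :
    (cmp G₂ γ δ h) p ∈ closure (Set.range a.fR) := by
  have e1 : pullback.fst G₂.s G₂.t ((pullback.lift γ δ h) p) = γ p := by
    rw [← Scheme.Hom.comp_apply, pullback.lift_fst]
  have e2 : pullback.snd G₂.s G₂.t ((pullback.lift γ δ h) p) = δ p := by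
    rw [← Scheme.Hom.comp_apply, pullback.lift_snd]
  have := Groth.Agent.S7462.stepB a ((pullback.lift γ δ h) p) (by rw [e1]; exact hγ)
    (by rw [e2]; exact hδ)
  have e : G₂.c ((pullback.lift γ δ h) p) = (cmp G₂ γ δ h) p := by
    show _ = (pullback.lift γ δ h ≫ G₂.c) p
    rw [Scheme.Hom.comp_apply]
  rw [e] at this
  exact this

lemma i_closure (a : Grpd.GroupoidScheme.Hom G₁ G₂) (x : G₂.R)
    (hx : x ∈ closure (Set.range a.fR)) : G₂.i x ∈ closure (Set.range a.fR) := by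
  have hcont : Continuous G₂.i := G₂.i.continuous
  have := image_closure_subset_closure_image hcont ⟨x, hx, rfl⟩
  refine closure_mono ?_ this
  rintro _ ⟨_, ⟨z, rfl⟩, rfl⟩
  refine ⟨G₁.i z, ?_⟩
  have e1 : a.fR (G₁.i z) = (G₁.i ≫ a.fR) z := by rw [Scheme.Hom.comp_apply]
  rw [e1, hom_i a, Scheme.Hom.comp_apply]

theorem aux (S : Scheme.{u}) (G₁ G₂ : Grpd.GroupoidScheme S) (k : Type u) [Field k]
    (eU : G₂.U ≅ Spec (CommRingCat.of k)) (a : Grpd.GroupoidScheme.Hom G₁ G₂) [IsIso a.fU]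
    (hlc : IsLocallyClosed (Set.range ⇑a.fR)) : IsClosed (Set.range ⇑a.fR) := by
  haveI : Subsingleton G₂.U := eU.hom.homeomorph.subsingleton
  haveI : Nonempty G₂.U := ⟨eU.inv (IsLocalRing.closedPoint k)⟩
  haveI : IsIntegral G₂.U := isIntegral_of_isOpenImmersion eU.hom
  obtain ⟨O, C, hO, hC, hZ⟩ := hlc
  have hZO : Set.range ⇑a.fR ⊆ O := by rw [hZ]; exact Set.inter_subset_left
  have hZC : closure (Set.range ⇑a.fR) ⊆ C := by
    apply closure_minimal _ hC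
    rw [hZ]; exact Set.inter_subset_right
  have hOZ : ∀ y, y ∈ O → y ∈ closure (Set.range ⇑a.fR) → y ∈ Set.range ⇑a.fR := by
    intro y hy1 hy2
    rw [hZ]
    exact ⟨hy1, hZC hy2⟩
  apply isClosed_of_closure_subset
  intro x hx
  obtain ⟨ι, hι⟩ : ∃ ι : Spec (G₂.R.residueField x) ⟶ G₂.R,
    ι = G₂.R.fromSpecResidueField x := ⟨_, rfl⟩
  have hιpt : ∀ q, ι q = x := by intro q; rw [hι, Scheme.fromSpecResidueField_apply]
  have hpb := isPullback_transl (G := G₂) ι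
  have hUO : UniversallyOpen (transl (G := G₂) ι) :=
    MorphismProperty.of_isPullback (P := @UniversallyOpen) hpb.flip inferInstance
  have hopenmap : IsOpenMap (transl (G := G₂) ι) := (transl ι).isOpenMap
  obtain ⟨O', hO'⟩ : ∃ O' : (pullback (ι ≫ G₂.s) G₂.t).Opens,
    O' = pullback.snd (ι ≫ G₂.s) G₂.t ⁻¹ᵁ ⟨O, hO⟩ := ⟨_, rfl⟩
  have hN : IsOpen (transl (G := G₂) ι '' (O' : Set _)) := hopenmap _ O'.isOpen
  have hεc : 𝟙 _ ≫ (ι ≫ G₂.s) = (ι ≫ G₂.s ≫ G₂.e) ≫ G₂.t := by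
    rw [Category.id_comp, Category.assoc, Category.assoc, G₂.e_t, Category.comp_id]
  obtain ⟨ε₀, hε₀⟩ : ∃ ε₀ : Spec (G₂.R.residueField x) ⟶ pullback (ι ≫ G₂.s) G₂.t,
    ε₀ = pullback.lift (𝟙 _) (ι ≫ G₂.s ≫ G₂.e) hεc := ⟨_, rfl⟩
  have hε1 : ε₀ ≫ pullback.fst _ _ = 𝟙 _ := by rw [hε₀, pullback.lift_fst]
  have hε2 : ε₀ ≫ pullback.snd _ _ = ι ≫ G₂.s ≫ G₂.e := by rw [hε₀, pullback.lift_snd]
  have hεtr : ε₀ ≫ transl ι = ι := by
    unfold transl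
    rw [comp_cmp]
    exact (cmp_congr (by rw [← Category.assoc, hε1, Category.id_comp]) hε2 _).trans
      (cmp_e _ _ rfl _)
  have hxN : x ∈ transl (G := G₂) ι '' (O' : Set _) := by
    obtain ⟨q⟩ : Nonempty (Spec (G₂.R.residueField x)) := ⟨default⟩
    refine ⟨ε₀ q, ?_, ?_⟩
    · rw [hO']
      show pullback.snd (ι ≫ G₂.s) G₂.t (ε₀ q) ∈ O
      apply hZO
      have e1 : pullback.snd (ι ≫ G₂.s) G₂.t (ε₀ q) =
          (ε₀ ≫ pullback.snd (ι ≫ G₂.s) G₂.t) q := by rw [Scheme.Hom.comp_apply]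
      rw [e1, hε2]
      refine ⟨G₁.e (inv a.fU (G₂.s x)), ?_⟩
      have e2 : (ι ≫ G₂.s ≫ G₂.e) q = G₂.e (G₂.s x) := by
        rw [Scheme.Hom.comp_apply, Scheme.Hom.comp_apply, hιpt]
      have e3 : a.fR (G₁.e (inv a.fU (G₂.s x))) = (inv a.fU ≫ G₁.e ≫ a.fR) (G₂.s x) := by
        rw [Scheme.Hom.comp_apply, Scheme.Hom.comp_apply]
      rw [e2, e3, hom_e a, IsIso.inv_hom_id_assoc]
    · have e1 : transl ι (ε₀ q) = (ε₀ ≫ transl ι) q := by rw [Scheme.Hom.comp_apply]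
      rw [e1, hεtr, hιpt]
  obtain ⟨z, ⟨f, hfO, hfz⟩, hzZ⟩ := mem_closure_iff.mp hx _ hN hxN
  have hγ : (transl ι) f ∈ Set.range a.fR := by rw [hfz]; exact hzZ
  -- snd f lies in the closure
  have hc0 : (pullback.fst (ι ≫ G₂.s) G₂.t ≫ ι) ≫ G₂.s = pullback.snd (ι ≫ G₂.s) G₂.t ≫ G₂.t := by
    rw [Category.assoc]; exact pullback.condition
  have hc1 : ((pullback.fst (ι ≫ G₂.s) G₂.t ≫ ι) ≫ G₂.i) ≫ G₂.s = transl ι ≫ G₂.t := by
    unfold transl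
    rw [cmp_t, Category.assoc, G₂.i_s]
  have hsnd : cmp G₂ ((pullback.fst (ι ≫ G₂.s) G₂.t ≫ ι) ≫ G₂.i) (transl ι) hc1 =
      pullback.snd (ι ≫ G₂.s) G₂.t :=
    i_cmp_cmp (pullback.fst (ι ≫ G₂.s) G₂.t ≫ ι) (pullback.snd (ι ≫ G₂.s) G₂.t) hc0 hc1
  have hsndcl : pullback.snd (ι ≫ G₂.s) G₂.t f ∈ closure (Set.range a.fR) := by
    have h1 : ((pullback.fst (ι ≫ G₂.s) G₂.t ≫ ι) ≫ G₂.i) f ∈ closure (Set.range a.fR) := by
      rw [Scheme.Hom.comp_apply, Scheme.Hom.comp_apply, hιpt]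
      exact i_closure a x hx
    have h2 := stepB_T a f _ _ hc1 h1 (subset_closure hγ)
    rw [hsnd] at h2
    exact h2
  have hf' : pullback.snd (ι ≫ G₂.s) G₂.t f ∈ Set.range a.fR := by
    apply hOZ _ _ hsndcl
    rw [hO'] at hfO; exact hfO
  have hγδ : transl ι ≫ G₂.s = (pullback.snd (ι ≫ G₂.s) G₂.t ≫ G₂.i) ≫ G₂.t := by
    unfold transl; rw [cmp_s, Category.assoc, G₂.i_t]
  have hprod : cmp G₂ (transl ι) (pullback.snd (ι ≫ G₂.s) G₂.t ≫ G₂.i) hγδ =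
      pullback.fst (ι ≫ G₂.s) G₂.t ≫ ι :=
    cmp_cmp_i (pullback.fst (ι ≫ G₂.s) G₂.t ≫ ι) (pullback.snd (ι ≫ G₂.s) G₂.t) _ hγδ
  have hδ : (pullback.snd (ι ≫ G₂.s) G₂.t ≫ G₂.i) f ∈ Set.range a.fR := by
    obtain ⟨y₁, hy₁⟩ := hf'
    refine ⟨G₁.i y₁, ?_⟩
    have e1 : a.fR (G₁.i y₁) = (G₁.i ≫ a.fR) y₁ := by rw [Scheme.Hom.comp_apply]
    rw [e1, hom_i a, Scheme.Hom.comp_apply, hy₁, Scheme.Hom.comp_apply]
  have hres := mul_mem a f (transl ι) (pullback.snd _ _ ≫ G₂.i) hγδ hγ hδ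
  rw [hprod, Scheme.Hom.comp_apply, hιpt] at hres
  exact hres

end Aux

/-- Let (U₁, R₁, s, t, c) and (U₂, R₂, s, t, c) be groupoid schemes over S with U₂ isomorphic to Spec k
for a field k, and a : R₁ → R₂ a morphism of groupoid schemes which is an isomorphism on objects. If
a(R₁) is locally closed in R₂ then it is closed. (A groupoid scheme carries U, R, s, t, c, e, i over
S satisfying the groupoid axioms on T-points.) -/
theorem result (S : Scheme.{u}) (G₁ G₂ : Grpd.GroupoidScheme S) (k : Type u) [Field k] (eU : G₂.U ≅ Spec (CommRingCat.of k)) (a : Grpd.GroupoidScheme.Hom G₁ G₂) [IsIso a.fU] (hlc : IsLocallyClosed (Set.range ⇑a.fR)) : IsClosed (Set.range ⇑a.fR) := by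
  exact aux S G₁ G₂ k eU a hlc

end Groth.Agent.S1892
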