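import Groth.Statements.S18920
import Mathlib.Tactic

set_option autoImplicit false
universe u
open CAlg

namespace Groth.Agent.S18920

/-- Let M be a commutative monoid, s ≥ 1, and ξ_1, …, ξ_s elements of M with ξ_i ^ (s!/i) = 1 for 1 ≤ i
≤ s (an (s!/i)-th root of unity for each i). Suppose that for every finitely supported function d on
{1, …, s} with Σ_i i · d_i = s! the product ∏_i ξ_i ^ d_i equals 1. Then ξ_1 ^ j = ξ_j for every 1 ≤
j ≤ s. (The source works with roots of unity in the complex numbers.) -/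
theorem result
    {M : Type u} [CommMonoid M] (s : ℕ) (hs : 1 ≤ s) (ξ : ℕ → M)
    (hξ : ∀ i : ℕ, 1 ≤ i → i ≤ s → ξ i ^ (s.factorial / i) = 1)
    (hprod : ∀ d : ℕ →₀ ℕ, (∀ i ∈ d.support, 1 ≤ i ∧ i ≤ s) →
      (d.sum fun i n => i * n) = s.factorial → (d.prod fun i n => ξ i ^ n) = 1)
    (j : ℕ) (hj : 1 ≤ j) (hjs : j ≤ s) :
    ξ 1 ^ j = ξ j := by
  classical
  have hdvd : j ∣ s.factorial := Nat.dvd_factorial hj hjs
  obtain ⟨k, hk⟩ := hdvd
  have hkpos : 0 < k := by
    rcases Nat.eq_zero_or_pos k with h | h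
    · rw [h, mul_zero] at hk
      exact absurd hk (Nat.factorial_ne_zero s)
    · exact h
  have hdiv : s.factorial / j = k := by
    rw [hk]; exact Nat.mul_div_cancel_left k hj
  have hξj : ξ j ^ k = 1 := by rw [← hdiv]; exact hξ j hj hjs
  let d : ℕ →₀ ℕ := Finsupp.single j (k - 1) + Finsupp.single 1 j
  have hsupp : ∀ i ∈ d.support, 1 ≤ i ∧ i ≤ s := by
    intro i hi
    have := Finsupp.support_add hi
    rw [Finset.mem_union] at this
    rcases this with h | h
    · have := Finsupp.support_single_subset h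
      rw [Finset.mem_singleton] at this
      subst this; exact ⟨hj, hjs⟩
    · have := Finsupp.support_single_subset h
      rw [Finset.mem_singleton] at this
      subst this; exact ⟨le_refl 1, hs⟩
  have hsum : (d.sum fun i n => i * n) = s.factorial := by
    rw [Finsupp.sum_add_index' (by simp) (by intros; ring)]
    rw [Finsupp.sum_single_index (by simp), Finsupp.sum_single_index (by simp)]
    rw [hk, one_mul]
    have : j * (k - 1) + j = j * k := by
      obtain ⟨k', rfl⟩ : ∃ k', k = k' + 1 := ⟨k - 1, by omega⟩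
      simp; ring
    exact this
  have h1 := hprod d hsupp hsum
  rw [Finsupp.prod_add_index' (by simp) (by intros; rw [pow_add])] at h1
  rw [Finsupp.prod_single_index (by simp), Finsupp.prod_single_index (by simp)] at h1
  calc ξ 1 ^ j = ξ j ^ k * ξ 1 ^ j := by rw [hξj, one_mul]
    _ = ξ j ^ (k - 1 + 1) * ξ 1 ^ j := by rw [Nat.sub_add_cancel hkpos]
    _ = ξ j * (ξ j ^ (k - 1) * ξ 1 ^ j) := by rw [pow_succ]; simp only [mul_comm, mul_left_comm]
    _ = ξ j := by rw [h1, mul_one]

end Groth.Agent.S18920
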