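import Groth.Statements.S18927
import Mathlib

set_option autoImplicit false
universe u v
open W4c6secantcecovers

namespace Groth.Agent.S18927


open TensorProduct

section Aux

variable (R : Type u) [CommRing R] (r : ℕ)

theorem P_eq (l : List (Fin r → R)) :
    (l.map (ExteriorAlgebra.ι R)).prod
      = ExteriorAlgebra.ιMulti R l.length (fun i : Fin l.length => l[(i : ℕ)]) :=
  (congrArg List.prod (List.ofFn_getElem_eq_map l (ExteriorAlgebra.ι R))).symm

theorem ιMulti_eq_P {n : ℕ} (v : Fin n → (Fin r → R)) :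
    ExteriorAlgebra.ιMulti R n v = ((List.ofFn v).map (ExteriorAlgebra.ι R)).prod :=
  (congrArg List.prod (List.map_ofFn (f := v) (g := ExteriorAlgebra.ι R))).symm

theorem ιMulti_top (v : Fin (r + 1) → (Fin r → R)) :
    ExteriorAlgebra.ιMulti R (r + 1) v = 0 := by
  have hempty : IsEmpty (Set.powersetCard (Fin r) (r + 1)) := by
    refine ⟨fun s => ?_⟩
    have h1 : s.1.card = r + 1 := s.2
    have h2 := Finset.card_le_univ s.1
    rw [Fintype.card_fin] at h2
    omega
  let B := (Pi.basisFun R (Fin r)).exteriorPower (r + 1)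
  have hz : exteriorPower.ιMulti R (r + 1) v = 0 := by
    apply B.repr.injective
    exact Finsupp.ext fun i => (hempty.false i).elim
  exact congrArg Subtype.val hz

theorem ιMulti_top' (n : ℕ) (hn : n = r + 1) (v : Fin n → (Fin r → R)) :
    ExteriorAlgebra.ιMulti R n v = 0 := by
  subst hn
  exact ιMulti_top R r v

theorem P_zero (l : List (Fin r → R)) (hl : l.length = r + 1) :
    (l.map (ExteriorAlgebra.ι R)).prod = 0 := by
  rw [P_eq]
  exact ιMulti_top' R r _ hl _

theorem leibniz (j : Fin r) (l : List (Fin r → R)) (η : SSLam R r) :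
    ssContr R r j ((l.map (ExteriorAlgebra.ι R)).prod * η) =
      ssContr R r j ((l.map (ExteriorAlgebra.ι R)).prod) * η
        + ((-1 : R) ^ l.length) • ((l.map (ExteriorAlgebra.ι R)).prod * ssContr R r j η) := by
  induction l with
  | nil =>
    have h1 : ssContr R r j (1 : SSLam R r) = 0 := CliffordAlgebra.contractLeft_one _ _
    simp only [List.map_nil, List.prod_nil, one_mul, List.length_nil, pow_zero, one_smul, h1,
      zero_mul, zero_add]
  | cons a l ih =>
    have hc : ∀ b : SSLam R r, ssContr R r j (ExteriorAlgebra.ι R a * b)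
        = a j • b - ExteriorAlgebra.ι R a * ssContr R r j b := by
      intro b
      exact CliffordAlgebra.contractLeft_ι_mul _ a b
    rw [List.map_cons, List.prod_cons, mul_assoc, hc, hc, ih, List.length_cons, pow_succ]
    simp only [mul_add, sub_mul, smul_mul_assoc, mul_smul_comm, mul_assoc, mul_neg, mul_one,
      neg_smul]
    abel

theorem key3 (j : Fin r) (l l' : List (Fin r → R)) (k : ℕ) (hl : l.length = k + 1)
    (hll : l.length + l'.length = r + 1) :
    ssContr R r j ((l.map (ExteriorAlgebra.ι R)).prod) * (l'.map (ExteriorAlgebra.ι R)).prod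
      = ((-1 : R) ^ k) • ((l.map (ExteriorAlgebra.ι R)).prod *
          ssContr R r j ((l'.map (ExteriorAlgebra.ι R)).prod)) := by
  have h0 : (l.map (ExteriorAlgebra.ι R)).prod * (l'.map (ExteriorAlgebra.ι R)).prod = 0 := by
    rw [← List.prod_append, ← List.map_append]
    apply P_zero
    rw [List.length_append]
    exact hll
  have h1 := leibniz R r j l ((l'.map (ExteriorAlgebra.ι R)).prod)
  rw [h0, map_zero, hl, pow_succ] at h1
  have h2 := eq_neg_of_add_eq_zero_left h1.symm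
  rw [h2, mul_neg, mul_one, neg_smul, neg_neg]

variable (N : Type v) [AddCommGroup N] [Module R N]

theorem delta_tmul (φ : Fin r → (N →ₗ[R] N)) (ω : SSLam R r) (s : MvPolynomial (Fin r) R)
    (n : N) :
    ssDelta R r N φ ((ω ⊗ₜ[R] s) ⊗ₜ[R] n) =
      ∑ j : Fin r, (((ssContr R r j ω) ⊗ₜ[R] (MvPolynomial.X j * s)) ⊗ₜ[R] n
        + (-1 : R) • (((ssContr R r j ω) ⊗ₜ[R] s) ⊗ₜ[R] (φ j n))) := by
  unfold ssDelta
  rw [LinearMap.sum_apply]
  refine Finset.sum_congr rfl fun j _ => ?_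
  rw [LinearMap.add_apply, LinearMap.smul_apply]
  simp only [ssDKoszul, ssDAct, TensorProduct.map_tmul, LinearMap.mulLeft_apply,
    LinearMap.id_coe, id_eq]

theorem pair_tmul (β : N →ₗ[R] N →ₗ[R] R) (k : ℕ) (a b : SSB R r) (n m : N) :
    ssPair R r N β k (a ⊗ₜ[R] n) (b ⊗ₜ[R] m)
      = ((-1 : R) ^ (k.choose 2)) • (β n m • (a * b)) := by
  simp only [ssPair, ssPairAux, LinearMap.smul_apply, TensorProduct.curry_apply,
    LinearMap.comp_apply, LinearEquiv.coe_coe, TensorProduct.tensorTensorTensorComm_tmul,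
    TensorProduct.map_tmul, TensorProduct.lift.tmul, LinearMap.mul'_apply,
    TensorProduct.rid_tmul]

theorem main (φ : Fin r → (N →ₗ[R] N)) (β : N →ₗ[R] N →ₗ[R] R)
    (hβ : ∀ (j : Fin r) (n m : N), β (φ j n) m = β n (φ j m))
    (k : ℕ) (ω η : SSLam R r) (s t : MvPolynomial (Fin r) R) (n m : N)
    (hkey : ∀ j, ssContr R r j ω * η = ((-1 : R) ^ k) • (ω * ssContr R r j η)) :
    ssPair R r N β k (ssDelta R r N φ ((ω ⊗ₜ[R] s) ⊗ₜ[R] n)) ((η ⊗ₜ[R] t) ⊗ₜ[R] m) =
      ssPair R r N β (k + 1) ((ω ⊗ₜ[R] s) ⊗ₜ[R] n)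
        (ssDelta R r N φ ((η ⊗ₜ[R] t) ⊗ₜ[R] m)) := by
  have hc : (k + 1).choose 2 = k.choose 2 + k := by
    show (k + 1).choose (1 + 1) = k.choose (1 + 1) + k
    rw [Nat.choose_succ_succ', Nat.choose_one_right]
    omega
  simp only [delta_tmul, map_sum, LinearMap.sum_apply, map_add, LinearMap.add_apply, map_smul,
    LinearMap.smul_apply, pair_tmul, Algebra.TensorProduct.tmul_mul_tmul]
  refine Finset.sum_congr rfl fun j _ => ?_
  rw [hkey j, hβ j n m, hc, pow_add, show MvPolynomial.X j * s * t = s * (MvPolynomial.X j * t) by ring,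
    ← TensorProduct.smul_tmul', ← TensorProduct.smul_tmul']
  module

end Aux


open TensorProduct in
/-- Let R be a commutative ring, E = R^r the free module with its coordinate basis, S = R[X_1, …, X_r]
(the symmetric algebra of E), and N an R-module carrying R-linear operators φ_j (the action of the
j-th basis vector of E) and an R-bilinear form β with β(φ_j n, m) = β(n, φ_j m) for every j. On (ΛE
⊗ S) ⊗ N — all terms Λ^k(S ⊗ E) ⊗ N of the Scheja–Storch complex at once — let δ be the differential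
sending (e_1 ∧ ⋯ ∧ e_k) ⊗ s ⊗ n to Σ_i (-1)^(i-1) (e_1 ∧ ⋯ ê_i ⋯ ∧ e_k) ⊗ x(e_i) s ⊗ n + Σ_i (-1)^i
(e_1 ∧ ⋯ ê_i ⋯ ∧ e_k) ⊗ s ⊗ e_i · n, and pair a term u = ω ⊗ s ⊗ n of degree k with v = η ⊗ t ⊗ m by
⟨u, v⟩_k = (-1)^(k choose 2) β(n, m) · (ω ∧ η) ⊗ s t. Then the differential is adjoint to itself for
this pairing in complementary degrees: for u = (e_0 ∧ ⋯ ∧ e_k) ⊗ s ⊗ n of degree k + 1 ≤ r and v =
(f_1 ∧ ⋯ ∧ f_(r-k)) ⊗ t ⊗ m of degree r - k, ⟨δ u, v⟩_k = ⟨u, δ v⟩_(k+1). (The source takes E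
finitely generated projective and N a module over the ambient algebra with a pairing satisfying ⟨f,
g h⟩ = ⟨g f, h⟩; the proof runs on a basis, which is the form stated here, with the action of E
recorded by the operators φ_j.) -/
theorem result
    (R : Type u) [CommRing R] (r : ℕ) (N : Type v) [AddCommGroup N] [Module R N]
    (φ : Fin r → (N →ₗ[R] N)) (β : N →ₗ[R] N →ₗ[R] R)
    (hβ : ∀ (j : Fin r) (n m : N), β (φ j n) m = β n (φ j m))
    (k : ℕ) (hk : k < r)
    (e : Fin (k + 1) → (Fin r → R)) (f : Fin (r - k) → (Fin r → R))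
    (s t : MvPolynomial (Fin r) R) (n m : N) :
    W4c6secantcecovers.ssPair R r N β k
        (W4c6secantcecovers.ssDelta R r N φ ((ExteriorAlgebra.ιMulti R (k + 1) e ⊗ₜ[R] s) ⊗ₜ[R] n))
        ((ExteriorAlgebra.ιMulti R (r - k) f ⊗ₜ[R] t) ⊗ₜ[R] m) =
      W4c6secantcecovers.ssPair R r N β (k + 1)
        ((ExteriorAlgebra.ιMulti R (k + 1) e ⊗ₜ[R] s) ⊗ₜ[R] n)
        (W4c6secantcecovers.ssDelta R r N φ ((ExteriorAlgebra.ιMulti R (r - k) f ⊗ₜ[R] t) ⊗ₜ[R] m)) := by
  apply main R r N φ β hβ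
  intro j
  rw [ιMulti_eq_P, ιMulti_eq_P]
  refine key3 R r j (List.ofFn e) (List.ofFn f) k ?_ ?_
  · rw [List.length_ofFn]
  · rw [List.length_ofFn, List.length_ofFn]
    omega

end Groth.Agent.S18927
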