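import Groth.Statements.S18928
import Mathlib
-- import your own Groth.Agent.* helpers here

set_option autoImplicit false
universe u
open DPow

namespace Groth.Agent.S18928

/-- Let B be a commutative ring, I an ideal of B with a divided power structure, p a prime, r a natural
number, b an element of B and δ an element of I. Then (b + δ)^(p^r) − b^(p^r) lies in the ideal p^r
I. (The source states this for a divided power thickening over the Witt vectors of length n and 0 ≤
r ≤ n; neither restriction is used.) -/
theorem result {B : Type u} [CommRing B] {I : Ideal B}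
    (hI : DividedPowers I) (p : ℕ) [Fact p.Prime] (r : ℕ) (b δ : B) (hδ : δ ∈ I) :
    (b + δ) ^ (p ^ r) - b ^ (p ^ r) ∈ Ideal.span {((p : B) ^ r)} * I := by
  classical
  set n := p ^ r with hn
  have hdvd : ∀ k : ℕ, n ∣ n.descFactorial (k + 1) := by
    intro k
    induction k with
    | zero => simp
    | succ k ih => rw [Nat.descFactorial_succ]; exact Dvd.dvd.mul_left ih _
  have hnB : (n : B) = (p : B) ^ r := by rw [hn]; push_cast; rfl
  have hterm : ∀ m : ℕ, δ ^ (m + 1) * b ^ (n - (m + 1)) * (n.choose (m + 1) : B) ∈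
      Ideal.span {(p : B) ^ r} * I := by
    intro m
    obtain ⟨c, hc⟩ := hdvd m
    have h1 : δ ^ (m + 1) = ((m + 1).factorial : B) * hI.dpow (m + 1) δ :=
      (hI.factorial_mul_dpow_eq_pow hδ).symm
    have h2 : ((m + 1).factorial : B) * (n.choose (m + 1) : B) = (n : B) * (c : B) := by
      rw [← Nat.cast_mul, ← Nat.descFactorial_eq_factorial_mul_choose, hc, Nat.cast_mul]
    have h3 : δ ^ (m + 1) * b ^ (n - (m + 1)) * (n.choose (m + 1) : B) =
        (p : B) ^ r * (hI.dpow (m + 1) δ * ((c : B) * b ^ (n - (m + 1)))) := by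
      rw [h1, ← hnB]
      linear_combination (hI.dpow (m + 1) δ * b ^ (n - (m + 1))) * h2
    rw [h3]
    exact Ideal.mul_mem_mul (Ideal.mem_span_singleton_self _)
      (I.mul_mem_right _ (hI.dpow_mem (Nat.succ_ne_zero m) hδ))
  have hexp : (b + δ) ^ n - b ^ n =
      ∑ m ∈ Finset.range n, δ ^ (m + 1) * b ^ (n - (m + 1)) * (n.choose (m + 1) : B) := by
    rw [add_comm b δ, add_pow, Finset.sum_range_succ']
    simp
  rw [hexp]
  exact Ideal.sum_mem _ (fun m _ => hterm m)

end Groth.Agent.S18928
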