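import Groth.Statements.S18929
import Groth.Agent.H2.DPow

set_option autoImplicit false
universe u
open DPow

namespace Groth.Agent.S18929

/-- Let p be a prime, n a natural number, B a commutative ring in which p^n = 0, and I an ideal of B
equipped with divided powers. There is a ring homomorphism θ from the truncated Witt vectors
W_n(B/I) to B such that, for every Witt vector x over B, θ applied to the truncation of the image of
x in W_n(B/I) equals Σ_{i<n} p^i x_i^(p^(n−i)); in particular this sum depends only on the residues
of x_0, …, x_{n−1} modulo I. (The source works with a divided power thickening of an algebra over a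
perfect field and also checks linearity over the Witt vectors of that field; only the ring
homomorphism is asserted here. θ is unique, the truncation-of-reduction map being surjective.) -/
theorem result (p : ℕ) [Fact p.Prime] (n : ℕ)
    {B : Type u} [CommRing B] (hp : (p : B) ^ n = 0) {I : Ideal B} (hI : DividedPowers I) :
    ∃ θ : TruncatedWittVector p n (B ⧸ I) →+* B, ∀ x : WittVector p B, θ (WittVector.truncate n (WittVector.map (Ideal.Quotient.mk I) x)) =
        ∑ i : Fin n, (p : B) ^ (i : ℕ) * (x.coeff i) ^ (p ^ (n - i)) := by
  classical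
  have hG : ∀ x : WittVector p B, WittVector.ghostComponent n x =
      ∑ i : Fin n, (p : B) ^ (i : ℕ) * (x.coeff i) ^ (p ^ (n - i)) := by
    intro x
    rw [WittVector.ghostComponent_apply, wittPolynomial_eq_sum_C_mul_X_pow, map_sum,
      Finset.sum_range_succ, ← Finset.sum_range (fun i => (p : B) ^ i * (x.coeff i) ^ (p ^ (n - i)))]
    simp [hp]
  let π : WittVector p B →+* TruncatedWittVector p n (B ⧸ I) :=
    (WittVector.truncate n).comp (WittVector.map (Ideal.Quotient.mk I))
  have hπ : Function.Surjective π := by
    intro a
    exact ⟨Groth.Agent.H2.DPow.liftW I n a, Groth.Agent.H2.DPow.trunc_liftW I n a⟩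
  have hker : RingHom.ker π ≤ RingHom.ker (WittVector.ghostComponent n : WittVector p B →+* B) := by
    intro x hx
    rw [RingHom.mem_ker] at hx ⊢
    rw [hG]
    apply Finset.sum_eq_zero
    intro i _
    have hxi : x.coeff i ∈ I := by
      have := congrArg (TruncatedWittVector.coeff i) hx
      rw [TruncatedWittVector.coeff_zero] at this
      change (WittVector.truncate n (WittVector.map (Ideal.Quotient.mk I) x)).coeff i = 0 at this
      rwa [WittVector.coeff_truncate, WittVector.map_coeff, Ideal.Quotient.eq_zero_iff_mem] at this
    rw [← hI.factorial_mul_dpow_eq_pow hxi]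
    have hdvd : p ^ (n - i) ∣ (p ^ (n - i)).factorial :=
      Nat.dvd_factorial (pow_pos (Fact.out : p.Prime).pos _) le_rfl
    obtain ⟨q, hq⟩ := hdvd
    rw [hq, Nat.cast_mul, Nat.cast_pow]
    have hpow : (p : B) ^ (i : ℕ) * (p : B) ^ (n - i) = (p : B) ^ n := by
      rw [← pow_add]; congr 1; omega
    have : (p : B) ^ (i : ℕ) * ((p : B) ^ (n - i) * (q : B) * hI.dpow (p ^ (n - i)) (x.coeff i)) =
        ((p : B) ^ (i : ℕ) * (p : B) ^ (n - i)) * ((q : B) * hI.dpow (p ^ (n - i)) (x.coeff i)) := by
      ring
    rw [this, hpow, hp, zero_mul]
  refine ⟨π.liftOfRightInverse (Function.surjInv hπ) (Function.rightInverse_surjInv hπ)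
    ⟨WittVector.ghostComponent n, hker⟩, ?_⟩
  intro x
  have := RingHom.liftOfRightInverse_comp_apply π (Function.surjInv hπ)
    (Function.rightInverse_surjInv hπ) ⟨WittVector.ghostComponent n, hker⟩ x
  rw [← hG x]
  exact this

end Groth.Agent.S18929
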