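import Groth.Statements.S1893
import Mathlib
import Groth.Agent.Lib.Helper5.GrpdPts

set_option autoImplicit false
universe u
open CategoryTheory CategoryTheory.Limits AlgebraicGeometry
open Grpd

namespace Groth.Agent.S1893

/-- Let (U, R, s, t, c) be a groupoid scheme over S with s, t quasi-compact and flat and U
quasi-separated, and W ⊆ U a quasi-compact open. Then the saturation t(s⁻¹(W)) can be written as an
intersection of quasi-compact opens of U, indexed by a nonempty set. (A groupoid scheme carries U,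
R, s, t, c, e, i over S with the groupoid axioms on T-points; 'finite locally free' is finite, flat
and locally of finite presentation; C ⊂ Γ(U) is the ring of functions a with s♯(a) = t♯(a) and M =
Spec C.) -/
theorem result (S : Scheme.{u}) (G : Grpd.GroupoidScheme S) [QuasiCompact G.s] [Flat G.s] [QuasiCompact G.t] [Flat G.t] [QuasiSeparatedSpace G.U] (W : G.U.Opens) (hW : IsCompact (W : Set G.U)) : ∃ (ι : Type u) (_ : Nonempty ι) (V : ι → G.U.Opens), (∀ i, IsCompact (V i : Set G.U)) ∧ ⇑G.t '' (⇑G.s ⁻¹' (W : Set G.U)) = ⋂ i, (V i : Set G.U) := by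
  classical
  have hEc := Groth.Agent.Helper5.GrpdPts.sat_compact G W hW
  have hEg := Groth.Agent.Helper5.GrpdPts.sat_genStable G (W : Set G.U) W.2
  obtain ⟨V₀, hV₀c, hV₀⟩ := Groth.Agent.Helper5.GrpdPts.exists_qc_open_ge _ hEc
  refine ⟨{V : G.U.Opens // IsCompact (V : Set G.U) ∧
      Groth.Agent.Helper5.GrpdPts.sat G (W : Set G.U) ⊆ V}, ⟨⟨V₀, hV₀c, hV₀⟩⟩,
    fun i => i.1, fun i => i.2.1, ?_⟩
  show Groth.Agent.Helper5.GrpdPts.sat G (W : Set G.U) = _
  apply Set.Subset.antisymm
  · intro x hx
    rw [Set.mem_iInter]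
    intro i
    exact i.2.2 hx
  · intro x hx
    by_contra hxE
    obtain ⟨V, hVc, hEV, hxV⟩ := Groth.Agent.Helper5.GrpdPts.exists_qc_open_avoid _ hEc x
      (fun e he hxe => hxE (hEg e he x hxe))
    rw [Set.mem_iInter] at hx
    exact hxV (hx ⟨V, hVc, hEV⟩)

end Groth.Agent.S1893
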