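import Groth.Statements.S18931
import Groth.Agent.H2.DPow

set_option autoImplicit false
universe u
open DPow

namespace Groth.Agent.S18931

/-- Let p be a prime, n ≥ 1, B a commutative ring with p^n = 0 and A = B/pB, and assume that the p-th
power map of A is surjective. Let θ : W_n(A) → B be the ring homomorphism which sends the reduction
of a Witt vector (x_0, …, x_{n−1}) over B to Σ_{i<n} p^i x_i^(p^(n−i)). Then every a in W_n(A) with
a_0^(p^n) = 0 lies in ker θ + (p); together with the reverse inclusion, ker θ + (p) is exactly the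
set of such a. (In the source B is the ring of global sections of a scheme over the Witt vectors of
length n of a perfect field. The printed argument subtracts a single correction term, which suffices
for n ≤ 2; in general one corrects the components one at a time.) -/
theorem result (p : ℕ) [Fact p.Prime]
    (n : ℕ) (hn : 0 < n) {B : Type u} [CommRing B] (hp : (p : B) ^ n = 0)
    (hF : Function.Surjective (fun y : B ⧸ (Ideal.span {(p : B)}) => y ^ p))
    (θ : TruncatedWittVector p n (B ⧸ (Ideal.span {(p : B)})) →+* B)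
    (hθ : ∀ x : WittVector p B, θ (WittVector.truncate n (WittVector.map (Ideal.Quotient.mk (Ideal.span {(p : B)})) x)) =
        ∑ i : Fin n, (p : B) ^ (i : ℕ) * (x.coeff i) ^ (p ^ (n - i)))
    (a : TruncatedWittVector p n (B ⧸ (Ideal.span {(p : B)}))) (ha : (TruncatedWittVector.coeff ⟨0, hn⟩ a) ^ (p ^ n) = 0) :
    a ∈ RingHom.ker θ ⊔ Ideal.span {(p : TruncatedWittVector p n (B ⧸ (Ideal.span {(p : B)})))} := by
  classical
  rcases subsingleton_or_nontrivial (B ⧸ (Ideal.span {(p : B)})) with hsub | hnt
  · have : a = 0 := TruncatedWittVector.ext (fun i => Subsingleton.elim _ _)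
    rw [this]; exact Ideal.zero_mem _
  haveI : CharP (B ⧸ (Ideal.span {(p : B)})) p := by
    apply CharP.quotient
    rw [mem_nonunits_iff]
    intro hu
    have : Ideal.span {(p : B)} = ⊤ := Ideal.span_singleton_eq_top.mpr hu
    exact (Ideal.Quotient.nontrivial_iff.mp hnt) this
  have hx0 : Ideal.Quotient.mk (Ideal.span {(p : B)})
      (((Groth.Agent.H2.DPow.liftW (p := p) (Ideal.span {(p : B)}) n a).coeff 0) ^ (p ^ n)) = 0 := by
    rw [map_pow, Groth.Agent.H2.DPow.mk_coeff_liftW _ n a 0 hn, ha]
  rw [Ideal.Quotient.eq_zero_iff_mem, Ideal.mem_span_singleton'] at hx0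
  obtain ⟨c₁, hc₁⟩ := hx0
  obtain ⟨x', c', hx', hb⟩ := Groth.Agent.H2.DPow.approx (p := p) n hF 0 1 hn
    (fun _ => (Groth.Agent.H2.DPow.liftW (p := p) (Ideal.span {(p : B)}) n a).coeff 0) (-c₁) (by
      rw [Finset.sum_range_one]
      simp only [pow_zero, one_mul, Nat.sub_zero, pow_one]
      linear_combination hc₁)
  have hθu : θ (WittVector.truncate n (WittVector.map (Ideal.Quotient.mk (Ideal.span {(p : B)}))
      (WittVector.mk p x'))) = 0 := by
    rw [hθ]
    have : ∑ i : Fin n, (p : B) ^ (i : ℕ) * ((WittVector.mk p x').coeff i) ^ (p ^ (n - i)) =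
        ∑ i ∈ Finset.range n, (p : B) ^ i * (x' i) ^ (p ^ (n - i)) := by
      rw [Finset.sum_range]; simp [WittVector.coeff_mk]
    rw [this]
    rw [hp, zero_mul, add_zero] at hb
    exact hb.symm
  have hδ0 : (WittVector.map (Ideal.Quotient.mk (Ideal.span {(p : B)}))
        (Groth.Agent.H2.DPow.liftW (p := p) (Ideal.span {(p : B)}) n a) -
      WittVector.map (Ideal.Quotient.mk (Ideal.span {(p : B)})) (WittVector.mk p x')).coeff 0 = 0 := by
    have h1 : ∀ δ : WittVector p (B ⧸ (Ideal.span {(p : B)})),
        δ.coeff 0 = WittVector.constantCoeff δ := fun _ => rfl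
    rw [h1, map_sub, ← h1, ← h1, WittVector.map_coeff, WittVector.map_coeff, WittVector.coeff_mk,
      hx' 0 Nat.one_pos, sub_self]
  obtain ⟨β, hβ⟩ := Groth.Agent.H2.DPow.exists_mul_p_of_coeff_zero hF _ hδ0
  have h1 := congrArg (WittVector.truncate n) hβ
  rw [map_sub, Groth.Agent.H2.DPow.trunc_liftW, map_mul, map_natCast] at h1
  have ha_eq : a = WittVector.truncate n (WittVector.map (Ideal.Quotient.mk (Ideal.span {(p : B)}))
      (WittVector.mk p x')) + WittVector.truncate n β * (p : TruncatedWittVector p n _) := by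
    rw [← h1]; ring
  rw [ha_eq]
  exact Submodule.add_mem_sup (RingHom.mem_ker.mpr hθu) (Ideal.mem_span_singleton'.mpr ⟨_, rfl⟩)

end Groth.Agent.S18931
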