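import Groth.Statements.S18934
import Mathlib

set_option autoImplicit false
universe u
open Synt

namespace Groth.Agent.S18934


open Polynomial TensorProduct

section Aux

noncomputable def phiF (κ : Type u) [Field κ] {F : Type u} [CommRing F] [Algebra κ F] (ρ : F) :
    MvPolynomial (Fin 1) κ →ₐ[κ] F := MvPolynomial.aeval (fun _ => ρ)

noncomputable def psi (κ : Type u) [Field κ] : κ[X] →ₐ[κ] MvPolynomial (Fin 1) κ :=
  Polynomial.aeval (MvPolynomial.X 0)

theorem phiF_psi (κ : Type u) [Field κ] {F : Type u} [CommRing F] [Algebra κ F] (ρ : F) (Q : κ[X]) :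
    phiF κ ρ (psi κ Q) = Polynomial.aeval ρ Q := by
  have h : (phiF κ ρ).comp (psi κ) = Polynomial.aeval ρ := by
    apply Polynomial.algHom_ext
    simp [phiF, psi]
  rw [← h]; rfl

theorem psi_surj (κ : Type u) [Field κ] : Function.Surjective (psi κ) := by
  have h : (⊤ : Subalgebra κ (MvPolynomial (Fin 1) κ)) ≤ (psi κ).range := by
    rw [← MvPolynomial.adjoin_range_X]
    refine Algebra.adjoin_le ?_
    rintro _ ⟨i, rfl⟩
    have hi : i = 0 := Subsingleton.elim _ _
    subst hi
    exact (AlgHom.mem_range _).mpr ⟨Polynomial.X, by simp [psi]⟩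
  intro P
  exact (AlgHom.mem_range _).mp (h (Algebra.mem_top : P ∈ ⊤))

theorem ci_aux {κ : Type u} [Field κ] {F F' : Type u} [CommRing F] [Algebra κ F] [CommRing F']
    [Algebra κ F'] (e : F ≃ₐ[κ] F') (g : κ[X]) (hg : g.Monic) (d : ℕ) (hd : g.natDegree = d)
    (hd0 : 0 < d) (ρ : F) (hρ : Polynomial.aeval ρ g = 0) (b : Module.Basis (Fin d) κ F)
    (hb : ∀ i, b i = ρ ^ (i : ℕ)) : Synt.IsGlobalCI κ F' := by
  right
  refine ⟨1, 1, le_refl _, e.toAlgHom.comp (phiF κ ρ), fun _ => psi κ g, ?_, ?_, ?_⟩
  · intro y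
    obtain ⟨x, rfl⟩ := e.surjective y
    refine ⟨∑ i, MvPolynomial.C (b.repr x i) * MvPolynomial.X 0 ^ (i : ℕ), ?_⟩
    have hx : phiF κ ρ (∑ i, MvPolynomial.C (b.repr x i) * MvPolynomial.X 0 ^ (i : ℕ)) = x := by
      conv_rhs => rw [← b.sum_repr x]
      simp only [phiF, map_sum, map_mul, map_pow, MvPolynomial.aeval_C, MvPolynomial.aeval_X, hb,
        Algebra.smul_def]
    show e (phiF κ ρ _) = e x
    rw [hx]
  · ext P
    rw [RingHom.mem_ker]
    constructor
    · intro hP
      have hP' : phiF κ ρ P = 0 := by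
        have h0 : e (phiF κ ρ P) = 0 := hP
        exact (map_eq_zero_iff e e.injective).mp h0
      obtain ⟨Q, rfl⟩ := psi_surj κ P
      rw [phiF_psi] at hP'
      have hdiv := Polynomial.modByMonic_add_div Q g
      have hR : Polynomial.aeval ρ (Q %ₘ g) = 0 := by
        have h1 : Polynomial.aeval ρ Q = Polynomial.aeval ρ (Q %ₘ g)
            + Polynomial.aeval ρ g * Polynomial.aeval ρ (Q /ₘ g) := by
          conv_lhs => rw [← hdiv]
          rw [map_add, map_mul]
        rw [hP', hρ, zero_mul, add_zero] at h1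
        exact h1.symm
      have hdeg : (Q %ₘ g).natDegree < d := by
        rw [← hd]
        refine Polynomial.natDegree_modByMonic_lt Q hg ?_
        intro h1
        rw [h1, Polynomial.natDegree_one] at hd
        omega
      have hR0 : Q %ₘ g = 0 := by
        rw [Polynomial.aeval_eq_sum_range' hdeg, Finset.sum_range] at hR
        have hR' : ∑ i : Fin d, (Q %ₘ g).coeff (i : ℕ) • b i = 0 := by
          simpa only [hb] using hR
        have hli := Fintype.linearIndependent_iff.mp b.linearIndependent _ hR'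
        ext n
        by_cases hn : n < d
        · simpa using hli ⟨n, hn⟩
        · rw [Polynomial.coeff_zero]
          exact Polynomial.coeff_eq_zero_of_natDegree_lt (by omega)
      have hQ : Q = g * (Q /ₘ g) := by
        rw [hR0, zero_add] at hdiv; exact hdiv.symm
      rw [hQ, map_mul]
      exact Ideal.mul_mem_right _ _ (Ideal.subset_span ⟨0, rfl⟩)
    · intro hP
      have hle : Ideal.span (Set.range fun _ : Fin 1 => psi κ g)
          ≤ RingHom.ker (e.toAlgHom.comp (phiF κ ρ)).toRingHom := by
        rw [Ideal.span_le]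
        rintro _ ⟨i, rfl⟩
        rw [SetLike.mem_coe, RingHom.mem_ker]
        show e (phiF κ ρ (psi κ g)) = 0
        rw [phiF_psi, hρ, map_zero]
      exact RingHom.mem_ker.mp (hle hP)
  · haveI : Module.Finite κ F := Module.Finite.of_basis b
    haveI : Module.Finite κ F' := Module.Finite.equiv e.toLinearEquiv
    haveI : IsArtinianRing F' := IsArtinianRing.of_finite κ F'
    haveI : Nontrivial F := ⟨⟨b ⟨0, hd0⟩, 0, b.ne_zero _⟩⟩
    haveI : Nontrivial F' := e.symm.surjective.nontrivial
    have h0 : ringKrullDim F' = 0 :=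
      ringKrullDimZero_iff_ringKrullDim_eq_zero.mp inferInstance
    rw [h0]; simp

theorem syn_aux {A : Type u} [CommRing A] (f : A[X]) (hf : f.Monic) (hd0 : Nontrivial A → 0 < f.natDegree) :
    Synt.IsSyntomic A (AdjoinRoot f) ∧ Module.FaithfullyFlat A (AdjoinRoot f) := by
  obtain ⟨pb, hpb⟩ : ∃ pb : PowerBasis A (AdjoinRoot f), pb = AdjoinRoot.powerBasis' hf :=
    ⟨_, rfl⟩
  have hdim : pb.dim = f.natDegree := by rw [hpb]; exact AdjoinRoot.powerBasis'_dim hf
  have hgen : pb.gen = AdjoinRoot.root f := by rw [hpb]; exact AdjoinRoot.powerBasis'_gen hf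
  haveI : Module.Free A (AdjoinRoot f) := Module.Free.of_basis pb.basis
  haveI : Module.Finite A (AdjoinRoot f) := Module.Finite.of_basis pb.basis
  refine ⟨⟨inferInstance, inferInstance, ?_⟩, ?_⟩
  · intro p
    have hA : Nontrivial A := ⟨⟨0, 1, fun h => p.isPrime.ne_top
      ((Ideal.eq_top_iff_one _).mpr (h ▸ p.asIdeal.zero_mem))⟩⟩
    have hd0' := hd0 hA
    refine ⟨inferInstance, fun q => ⟨1, ?_, ?_⟩⟩
    · intro h1
      exact q.isPrime.ne_top ((Ideal.eq_top_iff_one _).mpr h1)
    · have e0 := IsLocalization.atOne (p.asIdeal.Fiber (AdjoinRoot f))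
        (Localization.Away (1 : p.asIdeal.Fiber (AdjoinRoot f)))
      refine ci_aux (e0.restrictScalars p.asIdeal.ResidueField)
        (f.map (algebraMap A p.asIdeal.ResidueField)) (hf.map _) pb.dim ?_ ?_
        ((1 : p.asIdeal.ResidueField) ⊗ₜ[A] AdjoinRoot.root f) ?_
        (Algebra.TensorProduct.basis p.asIdeal.ResidueField pb.basis) ?_
      · rw [hf.natDegree_map, hdim]
      · omega
      · rw [Polynomial.aeval_map_algebraMap]
        have h1 : ((1 : p.asIdeal.ResidueField) ⊗ₜ[A] AdjoinRoot.root f)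
            = (Algebra.TensorProduct.includeRight :
                AdjoinRoot f →ₐ[A] p.asIdeal.ResidueField ⊗[A] AdjoinRoot f)
                (AdjoinRoot.root f) := rfl
        rw [h1, Polynomial.aeval_algHom_apply, AdjoinRoot.aeval_eq, AdjoinRoot.mk_self, map_zero]
      · intro i
        rw [Algebra.TensorProduct.basis_apply, pb.basis_eq_pow, hgen,
          Algebra.TensorProduct.tmul_pow, one_pow]
  · by_cases hA : Nontrivial A
    · have hd0' := hd0 hA
      haveI : Nontrivial (AdjoinRoot f) :=
        ⟨⟨pb.basis ⟨0, by omega⟩, 0, pb.basis.ne_zero _⟩⟩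
      infer_instance
    · haveI : Subsingleton A := not_nontrivial_iff_subsingleton.mp hA
      refine ⟨fun m hm => ?_⟩
      exfalso
      refine hm.ne_top ((Ideal.eq_top_iff_one _).mpr ?_)
      rw [Subsingleton.elim (1 : A) 0]
      exact m.zero_mem

end Aux


open Polynomial in
/-- Let p be a prime, A a commutative ring and a an element of A. Then the A-algebra A[T]/(T^p − a) is
syntomic and faithfully flat over A. This is the step of the source's proof showing that adjoining a
p-th root of any element is a covering for the syntomic topology. -/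
theorem result (p : ℕ) [Fact p.Prime]
    (A : Type u) [CommRing A] (a : A) :
    Synt.IsSyntomic A (AdjoinRoot (X ^ p - C a)) ∧ Module.FaithfullyFlat A (AdjoinRoot (X ^ p - C a)) := by
  have hm : (X ^ p - C a : A[X]).Monic :=
    Polynomial.monic_X_pow_sub_C a (Fact.out : p.Prime).ne_zero
  refine syn_aux _ hm (fun hA => ?_)
  rw [Polynomial.natDegree_X_pow_sub_C]
  exact (Fact.out : p.Prime).pos

end Groth.Agent.S18934
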