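import Groth.Statements.S18936
import Mathlib.Tactic

set_option autoImplicit false
universe u
open CAlg

namespace Groth.Agent.S18936

/-- Let A be a Noetherian commutative ring, q a prime ideal of A and f an element of A whose image in
the localization A_q is a non-zero-divisor. Then there is an element b of A not in q such that the
image of f in A[1/b] is a non-zero-divisor. -/
theorem result {A : Type u} [CommRing A] [IsNoetherianRing A]
    (q : Ideal A) [q.IsPrime] (f : A)
    (hf : algebraMap A (Localization.AtPrime q) f ∈ nonZeroDivisors (Localization.AtPrime q)) :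
    ∃ b : A, b ∉ q ∧ algebraMap A (Localization.Away b) f ∈ nonZeroDivisors (Localization.Away b) := by
  classical
  let K : Ideal A := (Ideal.span {f}).annihilator
  have hK : ∀ k : A, k ∈ K ↔ k * f = 0 := fun k => by
    simp only [K, Submodule.mem_annihilator_span_singleton, smul_eq_mul]
  have hloc : ∀ k ∈ K, ∃ s : A, s ∉ q ∧ s * k = 0 := by
    intro k hk
    have h1 : algebraMap A (Localization.AtPrime q) k * algebraMap A (Localization.AtPrime q) f = 0 := by
      rw [← map_mul, (hK k).mp hk, map_zero]
    have h2 := (mul_right_mem_nonZeroDivisors_eq_zero_iff hf).mp h1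
    rw [IsLocalization.map_eq_zero_iff q.primeCompl] at h2
    obtain ⟨s, hs⟩ := h2
    exact ⟨s, s.2, hs⟩
  have hfg : K.FG := IsNoetherian.noetherian K
  obtain ⟨S, hS⟩ := hfg
  -- choose s for each generator
  have hgen : ∀ k ∈ S, ∃ s : A, s ∉ q ∧ s * k = 0 := fun k hk => hloc k (hS ▸ Submodule.subset_span hk)
  choose! sfun hsq hsk using hgen
  let b : A := ∏ k ∈ S, sfun k
  have hbq : b ∉ q := by
    intro hb
    rw [Ideal.IsPrime.prod_mem_iff] at hb
    obtain ⟨k, hk, hkq⟩ := hb
    exact hsq k hk hkq
  have hbK : ∀ k ∈ K, b * k = 0 := by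
    intro k hk
    rw [← hS] at hk
    refine Submodule.span_induction ?_ ?_ ?_ ?_ hk
    · intro x hx
      have : sfun x ∣ b := Finset.dvd_prod_of_mem sfun hx
      obtain ⟨c, hc⟩ := this
      rw [hc, mul_comm (sfun x) c, mul_assoc, hsk x hx, mul_zero]
    · simp
    · intro x y _ _ hx hy; rw [mul_add, hx, hy, add_zero]
    · intro a x _ hx; rw [smul_eq_mul, mul_left_comm, hx, mul_zero]
  refine ⟨b, hbq, ?_⟩
  rw [mem_nonZeroDivisors_iff_right]
  intro x hx
  obtain ⟨a, m, rfl⟩ := IsLocalization.exists_mk'_eq (Submonoid.powers b) x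
  rw [mul_comm, IsLocalization.mul_mk'_eq_mk'_of_mul, IsLocalization.mk'_eq_zero_iff] at hx
  obtain ⟨c, hc⟩ := hx
  rw [IsLocalization.mk'_eq_zero_iff]
  have hcK : (c : A) * a ∈ K := by
    rw [hK]
    rw [← hc]; ring
  have := hbK _ hcK
  refine ⟨⟨b, Submonoid.mem_powers b⟩ * c, ?_⟩
  simp only [Submonoid.coe_mul]
  rw [mul_assoc]; exact this

end Groth.Agent.S18936
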