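import Groth.Statements.S18939
import Mathlib
import Groth.Agent.H19.KosSES
import Groth.Agent.S15821
-- import your own Groth.Agent.* helpers here

set_option autoImplicit false
universe u
open LCI

namespace Groth.Agent.S18939

open Groth.Agent.H19.Kos CategoryTheory CategoryTheory.Limits HomologicalComplex MonoidalCategory
open scoped Pointwise

section Main

variable {A : Type u} [CommRing A]

theorem KCmap_zero' (L : List A) (M N : Type u) [AddCommGroup M] [Module A M] [AddCommGroup N]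
    [Module A N] : KCmap L (0 : M →ₗ[A] N) = 0 := by
  ext n : 1
  apply ModuleCat.hom_ext
  show ((KCmap L (0 : M →ₗ[A] N)).f n).hom = _
  rw [KCmap_f]
  have key : LinearMap.lTensor ((Koszul.koszul A L).X n) (0 : M →ₗ[A] N) = 0 :=
    LinearMap.lTensor_zero _
  rw [key]
  rfl

theorem KH_smul_zero (L : List A) (M : Type u) [AddCommGroup M] [Module A M] (a : A)
    (ha : ∀ m : M, a • m = 0) (n : ℤ) (y : KH L M n) : a • y = 0 := by
  have h1 : LinearMap.lsmul A M a = 0 := by
    ext m; exact ha m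
  have h2 := KHmap_lsmul L M a n
  rw [h1] at h2
  have h3 : KHmap L (0 : M →ₗ[A] M) n = 0 := by
    unfold KHmap
    rw [KCmap_zero', HomologicalComplex.homologyMap_zero]
    rfl
  rw [h3] at h2
  have h4 : (0 : KH L M n →ₗ[A] KH L M n) y = (LinearMap.lsmul A (KH L M n) a) y :=
    congrArg (fun φ => φ y) h2
  exact h4.symm

theorem annQ (I : Ideal A) (a : A) (ha : a ∈ I) (m : A ⧸ I) : a • m = 0 := by
  rw [Algebra.smul_def, Ideal.Quotient.algebraMap_eq, Ideal.Quotient.eq_zero_iff_mem.2 ha, zero_mul]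

theorem kill (I : Ideal A) (L : List A) (n : ℤ) (a : A) (ha : a ∈ I) (y : KH L (A ⧸ I) n) :
    a • y = 0 :=
  KH_smul_zero L (A ⧸ I) a (annQ I a ha) n y

/-- `H⁰` of the Koszul complex is `M/(l)M`, in the form of a surjection with known kernel. -/
theorem H0 (l : List A) : ∀ (M : Type u) [AddCommGroup M] [Module A M],
    ∃ π : M →ₗ[A] KH l M 0, Function.Surjective π ∧
      LinearMap.ker π = (Ideal.ofList l • ⊤ : Submodule A M) := by
  induction l with
  | nil =>
    intro M _ _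
    refine ⟨(KH_nil_zero M).symm.toLinearMap, (KH_nil_zero M).symm.surjective, ?_⟩
    rw [Ideal.ofList_nil, Submodule.bot_smul]
    exact LinearMap.ker_eq_bot.2 (KH_nil_zero M).symm.injective
  | cons f l ih =>
    intro M _ _
    obtain ⟨π, hπ, hk⟩ := ih M
    obtain ⟨α, δ, h₁, h₂, h₃⟩ := KH_cons_les f l M 0 1 rfl
    haveI : Subsingleton (KH l M 1) := Groth.Agent.S15821.KH_pos l M 1 one_pos
    have hα : Function.Surjective α := fun x => (h₂ x).1 (Subsingleton.elim _ _)
    refine ⟨α ∘ₗ π, hα.comp hπ, ?_⟩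
    rw [Ideal.ofList_cons_smul, ← hk]
    ext x
    rw [LinearMap.mem_ker, LinearMap.comp_apply, Submodule.mem_sup]
    constructor
    · intro hx
      obtain ⟨y, hy⟩ := (h₁ (π x)).1 hx
      obtain ⟨m, rfl⟩ := hπ y
      refine ⟨f • m, Submodule.smul_mem_pointwise_smul m f ⊤ Submodule.mem_top, x - f • m, ?_,
        by abel⟩
      rw [LinearMap.mem_ker, map_sub, map_smul, ← hy, LinearMap.lsmul_apply, sub_self]
    · rintro ⟨y, hy, z, hz, rfl⟩
      obtain ⟨m, -, rfl⟩ := (Submodule.mem_smul_pointwise_iff_exists _ _ _).1 hy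
      rw [map_add, LinearMap.mem_ker.1 hz, add_zero, map_smul]
      exact (h₁ _).2 ⟨π m, LinearMap.lsmul_apply _ _⟩

theorem ses_conn (l : List A) {M₁ M₂ M₃ : Type u} [AddCommGroup M₁] [Module A M₁]
    [AddCommGroup M₂] [Module A M₂] [AddCommGroup M₃] [Module A M₃]
    (f : M₁ →ₗ[A] M₂) (g : M₂ →ₗ[A] M₃) (hf : Function.Injective f) (hg : Function.Surjective g)
    (hfg : Function.Exact f g) (n₀ n₁ : ℤ) (h : n₀ + 1 = n₁) :
    ∃ c : KH l M₃ n₀ →ₗ[A] KH l M₁ n₁,
      Function.Exact (KHmap l g n₀) c ∧ Function.Exact c (KHmap l f n₁) := by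
  subst h
  obtain ⟨c, -, E2, E3⟩ := KH_ses_les l f g hf hg hfg
  exact ⟨c n₀, E2 n₀, E3 n₀⟩

/-- `H⁰(K(l) ⊗ A/I) ≅ A/I` when `l ⊆ I`. -/
theorem pN (I : Ideal A) (l : List A) (hl : ∀ a ∈ l, a ∈ I) :
    Nonempty ((A ⧸ I) ≃ₗ[A] KH l (A ⧸ I) 0) := by
  obtain ⟨π, hπ, hk⟩ := H0 l (A ⧸ I)
  have hbot : (Ideal.ofList l • ⊤ : Submodule A (A ⧸ I)) = ⊥ := by
    rw [eq_bot_iff, Submodule.smul_le]
    intro a ha m _
    rw [Submodule.mem_bot]
    have haI : a ∈ I := (Ideal.span_le.2 (fun b hb => hl b hb) : Ideal.ofList l ≤ I) ha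
    exact annQ I a haI m
  have hπi : Function.Injective π := LinearMap.ker_eq_bot.1 (hk.trans hbot)
  exact ⟨LinearEquiv.ofBijective π ⟨hπi, hπ⟩⟩

/-- `H^{-1}(K(l) ⊗ A/I) ≅ (A/I)^r` when `l ⊆ I`. -/
theorem E (I : Ideal A) (l : List A) : (∀ a ∈ l, a ∈ I) →
    Nonempty (KH l (A ⧸ I) (-1) ≃ₗ[A] (Fin l.length → A ⧸ I)) := by
  induction l with
  | nil =>
    intro _
    haveI := KH_nil_subsingleton (A := A) (A ⧸ I) (-1) (by norm_num)
    show Nonempty (_ ≃ₗ[A] (Fin 0 → A ⧸ I))
    exact ⟨LinearEquiv.ofSubsingleton _ _⟩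
  | cons f l ih =>
    intro hl
    have hfI : f ∈ I := hl f (List.mem_cons_self ..)
    have hl' : ∀ a ∈ l, a ∈ I := fun a ha => hl a (List.mem_cons_of_mem _ ha)
    obtain ⟨e⟩ := ih hl'
    obtain ⟨α, δ, h₁, h₂, h₃⟩ := KH_cons_les f l (A ⧸ I) (-1) 0 (by norm_num)
    obtain ⟨p⟩ := pN I l hl'
    have hαi : Function.Injective α := by
      rw [injective_iff_map_eq_zero]
      intro x hx
      obtain ⟨y, hy⟩ := (h₁ x).1 hx
      rw [← hy, LinearMap.lsmul_apply]
      exact kill I l (-1) f hfI y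
    have hδs : Function.Surjective δ := fun z => (h₃ z).1 (kill I l 0 f hfI z)
    obtain ⟨x₀, hx₀⟩ := hδs (p 1)
    let s₀ : (A ⧸ I) →ₗ[A] KH (f :: l) (A ⧸ I) (-1) :=
      Submodule.liftQ I (LinearMap.toSpanSingleton A _ x₀) (fun a ha => by
        rw [LinearMap.mem_ker, LinearMap.toSpanSingleton_apply]
        exact kill I (f :: l) (-1) a ha x₀)
    have hs : δ ∘ₗ (s₀ ∘ₗ p.symm.toLinearMap) = LinearMap.id := by
      refine LinearMap.ext fun z => ?_
      obtain ⟨n, rfl⟩ := p.surjective z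
      obtain ⟨r, rfl⟩ := Ideal.Quotient.mk_surjective n
      have h1 : s₀ (Ideal.Quotient.mk I r) = r • x₀ := by
        show Submodule.liftQ I _ _ (Submodule.Quotient.mk r) = _
        rw [Submodule.liftQ_apply, LinearMap.toSpanSingleton_apply]
      have h2 : Ideal.Quotient.mk I r = r • (1 : A ⧸ I) := by
        rw [Algebra.smul_def, mul_one]; rfl
      simp only [LinearMap.comp_apply, LinearEquiv.coe_coe, LinearEquiv.symm_apply_apply,
        LinearMap.id_apply]
      rw [h1, map_smul, hx₀, ← map_smul, ← h2]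
    let sp := (Function.Exact.splitSurjectiveEquiv h₂ hαi ⟨s₀ ∘ₗ p.symm.toLinearMap, hs⟩).1
    show Nonempty (_ ≃ₗ[A] (Fin (l.length + 1) → A ⧸ I))
    exact ⟨sp.trans ((LinearEquiv.prodComm A _ _).trans ((LinearEquiv.prodCongr p.symm e).trans
      (Fin.consLinearEquiv A (fun _ : Fin (l.length + 1) => A ⧸ I))))⟩

theorem theta (I : Ideal A) (l : List A) (hlI : Ideal.ofList l = I)
    (hneg : Subsingleton (KH l A (-1))) :
    Nonempty (I.Cotangent ≃ₗ[A] (Fin l.length → A ⧸ I)) := by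
  subst hlI
  have hmem : ∀ a ∈ l, a ∈ Ideal.ofList l := fun a ha => Ideal.subset_span ha
  obtain ⟨e⟩ := E (Ideal.ofList l) l hmem
  obtain ⟨p⟩ := pN (Ideal.ofList l) l hmem
  obtain ⟨c, E1, E2, -⟩ := KH_ses_les l (Submodule.subtype (Ideal.ofList l))
    (Submodule.mkQ (Ideal.ofList l)) (Submodule.injective_subtype _)
    (Submodule.mkQ_surjective _) (LinearMap.exact_subtype_mkQ _)
  obtain ⟨c', F2, F3⟩ := ses_conn l (Submodule.subtype (Ideal.ofList l))
    (Submodule.mkQ (Ideal.ofList l)) (Submodule.injective_subtype _)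
    (Submodule.mkQ_surjective _) (LinearMap.exact_subtype_mkQ _) (-1) 0 (by norm_num)
  -- `g₀` is surjective
  haveI : Subsingleton (KH l (Ideal.ofList l) (0 + 1)) :=
    Groth.Agent.S15821.KH_pos l _ (0 + 1) (by norm_num)
  have hg₀s : Function.Surjective (KHmap l (Submodule.mkQ (Ideal.ofList l)) 0) :=
    fun x => ((E2 0) x).1 (Subsingleton.elim _ _)
  -- abstract identification of `H⁰(K(l))`
  obtain ⟨πR, hπR, hkR⟩ := H0 l A
  have hkR' : LinearMap.ker πR = LinearMap.ker (Submodule.mkQ (Ideal.ofList l)) := by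
    rw [hkR, Submodule.ker_mkQ]
    first | simp | (rw [Ideal.smul_eq_mul, Ideal.mul_top])
  let a : KH l A 0 ≃ₗ[A] A ⧸ Ideal.ofList l :=
    (πR.quotKerEquivOfSurjective hπR).symm ≪≫ₗ (Submodule.quotEquivOfEq _ _ hkR') ≪≫ₗ
      ((Submodule.mkQ (Ideal.ofList l)).quotKerEquivOfSurjective (Submodule.mkQ_surjective _))
  let φ : (A ⧸ Ideal.ofList l) →ₗ[A] (A ⧸ Ideal.ofList l) :=
    p.symm.toLinearMap ∘ₗ KHmap l (Submodule.mkQ (Ideal.ofList l)) 0 ∘ₗ a.symm.toLinearMap
  have hφs : Function.Surjective φ := p.symm.surjective.comp (hg₀s.comp a.symm.surjective)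
  have hφi : Function.Injective φ := OrzechProperty.injective_of_surjective_endomorphism φ hφs
  have hg₀i : ∀ x, KHmap l (Submodule.mkQ (Ideal.ofList l)) 0 x = 0 → x = 0 := by
    intro x hx
    have h1 : φ (a x) = 0 := by
      simp only [φ, LinearMap.comp_apply, LinearEquiv.coe_coe, LinearEquiv.symm_apply_apply]
      rw [hx, map_zero]
    have h2 : a x = 0 := hφi (h1.trans (map_zero φ).symm)
    exact a.injective (h2.trans (map_zero a).symm)
  have hsub0 : ∀ y, KHmap l (Submodule.subtype (Ideal.ofList l)) 0 y = 0 :=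
    fun y => hg₀i _ ((E1 0).apply_apply_eq_zero y)
  have hc'i : Function.Injective c' := by
    rw [injective_iff_map_eq_zero]
    intro x hx
    obtain ⟨y, hy⟩ := (F2 x).1 hx
    rw [← hy, Subsingleton.elim y 0, map_zero]
  have hc's : Function.Surjective c' := fun y => (F3 y).1 (hsub0 y)
  let cE : KH l (A ⧸ Ideal.ofList l) (-1) ≃ₗ[A] KH l (Ideal.ofList l) 0 :=
    LinearEquiv.ofBijective c' ⟨hc'i, hc's⟩
  obtain ⟨πI, hπI, hkI⟩ := H0 l (Ideal.ofList l)
  have hk1 : LinearMap.ker (Ideal.ofList l).toCotangent = LinearMap.ker πI := by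
    rw [hkI]
    exact Submodule.ker_mkQ _
  let d : (Ideal.ofList l).Cotangent ≃ₗ[A] KH l (Ideal.ofList l) 0 :=
    ((Ideal.ofList l).toCotangent.quotKerEquivOfSurjective
      (Ideal.ofList l).toCotangent_surjective).symm ≪≫ₗ
      (Submodule.quotEquivOfEq _ _ hk1) ≪≫ₗ (πI.quotKerEquivOfSurjective hπI)
  exact ⟨d ≪≫ₗ cE.symm ≪≫ₗ e⟩

end Main


/-- Let R be a commutative ring, I a proper ideal of R and f_1, …, f_r a Koszul-regular sequence of
elements of I generating I. Then I/I² is a free R/I-module of rank r, with basis the classes of f_1,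
…, f_r. -/
theorem result {R : Type u} [CommRing R] {I : Ideal R} (hI : I ≠ ⊤)
    (r : ℕ) (f : Fin r → I) (hf : LCI.IsKoszulRegularSeq R (List.ofFn (fun i => (f i : R))))
    (hfI : Ideal.span (Set.range (fun i => (f i : R))) = I) :
    ∃ b : Module.Basis (Fin r) (R ⧸ I) I.Cotangent, ∀ i, b i = I.toCotangent (f i) := by
  classical
  have hlen : (List.ofFn (fun i => (f i : R))).length = r := List.length_ofFn
  have hlI : Ideal.ofList (List.ofFn (fun i => (f i : R))) = I := by
    refine Eq.trans ?_ hfI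
    show Ideal.span _ = Ideal.span _
    congr 1
    ext a
    simp [List.mem_ofFn']
  have hz : Limits.IsZero ((Koszul.koszul R (List.ofFn (fun i => (f i : R)))).homology (-1)) :=
    hf (-1) (by norm_num)
  have hz' : Limits.IsZero (KH (List.ofFn (fun i => (f i : R))) R (-1)) :=
    Limits.IsZero.of_iso hz
      (HomologicalComplex.homologyMapIso (Groth.Agent.S15821.KC_self_iso _) (-1))
  haveI hneg : Subsingleton (KH (List.ofFn (fun i => (f i : R))) R (-1)) :=
    ModuleCat.subsingleton_of_isZero hz'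
  obtain ⟨θ₀⟩ := theta I _ hlI hneg
  let θ : I.Cotangent ≃ₗ[R] (Fin r → R ⧸ I) :=
    θ₀ ≪≫ₗ LinearEquiv.funCongrLeft R (R ⧸ I) (finCongr hlen.symm)
  let v : Fin r → I.Cotangent := fun i => I.toCotangent (f i)
  let ψ' : (Fin r → R ⧸ I) →ₗ[R ⧸ I] I.Cotangent := Fintype.linearCombination (R ⧸ I) v
  have hψs : Function.Surjective ψ' := by
    intro y
    obtain ⟨x, rfl⟩ := I.toCotangent_surjective y
    have hx : (x : R) ∈ Ideal.span (Set.range (fun i => (f i : R))) := by
      rw [hfI]; exact x.2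
    obtain ⟨c, hc⟩ := (Ideal.mem_span_range_iff_exists_fun).1 hx
    refine ⟨fun i => Ideal.Quotient.mk I (c i), ?_⟩
    have hx' : x = ∑ i, c i • f i := by
      apply Subtype.ext
      rw [← hc]
      simp
    show Fintype.linearCombination (R ⧸ I) v _ = _
    rw [Fintype.linearCombination_apply, hx', map_sum]
    refine Finset.sum_congr rfl fun i _ => ?_
    rw [map_smul]
    exact algebraMap_smul (R ⧸ I) (c i) (v i)
  let ψ : (Fin r → R ⧸ I) →ₗ[R] I.Cotangent := ψ'.restrictScalars R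
  have hendo : Function.Injective (θ.toLinearMap ∘ₗ ψ) :=
    OrzechProperty.injective_of_surjective_endomorphism _ (θ.surjective.comp hψs)
  have hψi : Function.Injective ψ' := by
    intro x y h
    apply hendo
    show θ (ψ' x) = θ (ψ' y)
    rw [h]
  have hli : LinearIndependent (R ⧸ I) v := by
    rw [Fintype.linearIndependent_iff]
    intro g hg i
    have h0 : ψ' g = ψ' 0 := by
      rw [map_zero]
      exact hg
    rw [hψi h0]
    rfl
  have hsp : ⊤ ≤ Submodule.span (R ⧸ I) (Set.range v) := by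
    rw [← Fintype.range_linearCombination, LinearMap.range_eq_top.2 hψs]
  exact ⟨Module.Basis.mk hli hsp, fun i => Module.Basis.mk_apply hli hsp i⟩

end Groth.Agent.S18939
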