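import Groth.Statements.S5133
import Mathlib

set_option autoImplicit false
open CategoryTheory CategoryTheory.Limits AlgebraicGeometry
universe u
open SGA1

namespace Groth.Agent.S5133

section Helpers
open AlgebraicGeometry CategoryTheory TopologicalSpace Limits

theorem exists_specializes_of_mem_closure_image {X Y : Scheme.{u}} (f : X ⟶ Y) [QuasiCompact f]
    (Z : Set X) (hZ : IsClosed Z) (y : Y) (hy : y ∈ closure (f '' Z)) :
    ∃ z ∈ Z, f z ⤳ y := by
  obtain ⟨V, hV, hyV, -⟩ := exists_isAffineOpen_mem_and_subset (TopologicalSpace.Opens.mem_top y)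
  have hc : IsCompact ((f ⁻¹ᵁ V : X.Opens) : Set X) := f.isCompact_preimage hV.isCompact
  obtain ⟨R, g, hg⟩ := isCompact_iff_exists.mp hc
  have hgmem : ∀ r : Spec R, f (g r) ∈ V := by
    intro r
    have h1 : g r ∈ ((f ⁻¹ᵁ V : X.Opens) : Set X) := hg ▸ Set.mem_range_self r
    exact h1
  have hrange : Set.range (g ≫ f) ⊆ Set.range hV.fromSpec := by
    rw [hV.range_fromSpec]
    rintro _ ⟨r, rfl⟩
    rw [Scheme.Hom.comp_apply]
    exact hgmem r
  obtain ⟨l, hl⟩ : ∃ l : Spec R ⟶ Spec Γ(Y, V), l ≫ hV.fromSpec = g ≫ f :=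
    ⟨IsOpenImmersion.lift hV.fromSpec (g ≫ f) hrange, IsOpenImmersion.lift_fac _ _ _⟩
  obtain ⟨φ, hφ⟩ : ∃ φ : Γ(Y, V) ⟶ R, Spec.map φ = l := ⟨Spec.preimage l, Spec.map_preimage l⟩
  obtain ⟨p, hp⟩ : ∃ p : Spec Γ(Y, V), hV.fromSpec p = y :=
    ⟨hV.primeIdealOf ⟨y, hyV⟩, hV.fromSpec_primeIdealOf ⟨y, hyV⟩⟩
  have hZ' : IsClosed ((g : Spec R → X) ⁻¹' Z) := hZ.preimage g.continuous
  obtain ⟨I, hI⟩ : ∃ I : Ideal R, ((g : Spec R → X) ⁻¹' Z : Set (PrimeSpectrum R)) =
      PrimeSpectrum.zeroLocus (I : Set R) :=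
    (PrimeSpectrum.isClosed_iff_zeroLocus_ideal _).mp hZ'
  have hy1 : y ∈ closure ((g ≫ f : Spec R ⟶ Y) '' ((g : Spec R → X) ⁻¹' Z)) := by
    have hr : (g ≫ f : Spec R ⟶ Y) '' ((g : Spec R → X) ⁻¹' Z) = (V : Set Y) ∩ f '' Z := by
      ext w
      constructor
      · rintro ⟨r, hr, rfl⟩
        rw [Scheme.Hom.comp_apply]
        exact ⟨hgmem r, ⟨g r, hr, rfl⟩⟩
      · rintro ⟨hw, x, hx, rfl⟩
        have h1 : x ∈ Set.range g := by
          rw [hg]
          exact hw
        obtain ⟨r, rfl⟩ := h1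
        exact ⟨r, hx, Scheme.Hom.comp_apply g f r⟩
    rw [hr]
    exact V.isOpen.inter_closure ⟨hyV, hy⟩
  have hp_cl : p ∈ closure (Spec.map φ '' ((g : Spec R → X) ⁻¹' Z)) := by
    rw [hV.fromSpec.isOpenEmbedding.isInducing.closure_eq_preimage_closure_image]
    change hV.fromSpec p ∈ closure (hV.fromSpec '' (Spec.map φ '' ((g : Spec R → X) ⁻¹' Z)))
    rw [hp, ← Set.image_comp]
    have h1 : (hV.fromSpec : _ → _) ∘ (Spec.map φ : _ → _) = ((g ≫ f : Spec R ⟶ Y) : _ → _) := by
      rw [← hl, ← hφ]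
      rfl
    rw [h1]
    exact hy1
  have hker : I.comap φ.hom ≤ p.asIdeal := by
    have h1 : (show PrimeSpectrum Γ(Y, V) from p) ∈
        closure (PrimeSpectrum.comap φ.hom '' PrimeSpectrum.zeroLocus (I : Set R)) := by
      rw [← hI]
      exact hp_cl
    rw [PrimeSpectrum.closure_image_comap_zeroLocus] at h1
    exact (PrimeSpectrum.mem_zeroLocus _ _).mp h1
  haveI := p.isPrime
  obtain ⟨q, hIq, hq, hqp⟩ := Ideal.exists_ideal_comap_le_prime p.asIdeal I hker
  obtain ⟨q', hq'⟩ : ∃ q' : Spec R, q'.asIdeal = q := ⟨⟨q, hq⟩, rfl⟩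
  have hq'Z : g q' ∈ Z := by
    have h1 : (show PrimeSpectrum R from q') ∈ PrimeSpectrum.zeroLocus (I : Set R) := by
      rw [PrimeSpectrum.mem_zeroLocus, hq']
      exact hIq
    rw [← hI] at h1
    exact h1
  refine ⟨g q', hq'Z, ?_⟩
  have h2 : Spec.map φ q' ⤳ p := by
    refine (PrimeSpectrum.le_iff_specializes (Spec.map φ q') p).mp ?_
    change q'.asIdeal.comap φ.hom ≤ p.asIdeal
    rw [hq']
    exact hqp
  have h3 : hV.fromSpec (Spec.map φ q') ⤳ hV.fromSpec p := h2.map hV.fromSpec.continuous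
  rw [hp, ← Scheme.Hom.comp_apply, hφ, hl, Scheme.Hom.comp_apply] at h3
  exact h3

theorem main {X Y Y' : Scheme.{u}} (f : X ⟶ Y)
    (g : Y' ⟶ Y) [QuasiCompact f] [Flat g] [Surjective g]
    (h : Topology.IsEmbedding (pullback.snd f g).base) : Topology.IsEmbedding f.base := by
  have hpre : ∀ (x : X) (y' : Y'), f x = g y' →
      ∃ a : ↑(pullback f g), pullback.fst f g a = x ∧ pullback.snd f g a = y' :=
    fun x y' e => Scheme.Pullback.exists_preimage_pullback x y' e
  refine ⟨⟨?_⟩, ?_⟩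
  · refine TopologicalSpace.ext_isClosed fun Z => ?_
    rw [isClosed_induced_iff']
    constructor
    · intro hZ x hx
      obtain ⟨z, hzZ, hz⟩ := exists_specializes_of_mem_closure_image f Z hZ (f x) hx
      obtain ⟨y', hy'⟩ := g.surjective (f x)
      rw [← hy'] at hz
      obtain ⟨w', hw', hgw'⟩ := (Flat.generalizingMap g) hz
      obtain ⟨a, ha1, ha2⟩ := hpre z w' hgw'.symm
      obtain ⟨b, hb1, hb2⟩ := hpre x y' hy'.symm
      have hab : a ⤳ b := by
        rw [← h.isInducing.specializes_iff]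
        change pullback.snd f g a ⤳ pullback.snd f g b
        rw [ha2, hb2]
        exact hw'
      have hzx : z ⤳ x := by
        have h4 := hab.map (pullback.fst f g).continuous
        rwa [ha1, hb1] at h4
      exact hzx.mem_closed hZ hzZ
    · intro H
      have h5 : Z = (f : X → Y) ⁻¹' closure (f '' Z) := by
        ext x
        exact ⟨fun hx => subset_closure ⟨x, hx, rfl⟩, fun hx => H x hx⟩
      rw [h5]
      exact isClosed_closure.preimage f.continuous
  · intro x1 x2 e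
    obtain ⟨y', hy'⟩ := g.surjective (f x1)
    obtain ⟨a, ha1, ha2⟩ := hpre x1 y' hy'.symm
    obtain ⟨b, hb1, hb2⟩ := hpre x2 y' (by rw [hy']; exact e.symm)
    have hab : a = b := h.injective (by
      change pullback.snd f g a = pullback.snd f g b
      rw [ha2, hb2])
    rw [← ha1, ← hb1, hab]

end Helpers

/-- For a quasi-compact morphism f : X ⟶ Y and a flat surjective base change g : Y' ⟶ Y, with no
quasi-compactness asked of g, if the base change of f along g is a homeomorphism onto its image then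
f is a homeomorphism onto its image. -/
theorem result {X Y Y' : Scheme.{u}} (f : X ⟶ Y)
    (g : Y' ⟶ Y) [QuasiCompact f] [Flat g] [Surjective g]
    (h : Topology.IsEmbedding (pullback.snd f g).base) : Topology.IsEmbedding f.base := by
  exact main f g h

end Groth.Agent.S5133
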