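import Groth.Statements.S1894
import Mathlib
import Groth.Agent.Lib.Helper5.GrpdPts
import Groth.Agent.S5133

set_option autoImplicit false
universe u
open CategoryTheory CategoryTheory.Limits AlgebraicGeometry
open Grpd

namespace Groth.Agent.S1894

/-- Let (U, R, s, t, c) be a groupoid scheme over S with s, t quasi-compact and flat and U
quasi-separated, and W ⊆ U a quasi-compact open. Then there are an R-invariant open V (s⁻¹V = t⁻¹V)
and a quasi-compact open W' with W ⊆ V ⊆ W'. (A groupoid scheme carries U, R, s, t, c, e, i over S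
with the groupoid axioms on T-points; 'finite locally free' is finite, flat and locally of finite
presentation; C ⊂ Γ(U) is the ring of functions a with s♯(a) = t♯(a) and M = Spec C.) -/
theorem result (S : Scheme.{u}) (G : Grpd.GroupoidScheme S) [QuasiCompact G.s] [Flat G.s] [QuasiCompact G.t] [Flat G.t] [QuasiSeparatedSpace G.U] (W : G.U.Opens) (hW : IsCompact (W : Set G.U)) : ∃ V W' : G.U.Opens, G.s ⁻¹ᵁ V = G.t ⁻¹ᵁ V ∧ IsCompact (W' : Set G.U) ∧ W ≤ V ∧ V ≤ W' := by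
  classical
  have hEc := Groth.Agent.Helper5.GrpdPts.sat_compact G W hW
  have hEg := Groth.Agent.Helper5.GrpdPts.sat_genStable G (W : Set G.U) W.2
  obtain ⟨W', hW'c, hEW'⟩ := Groth.Agent.Helper5.GrpdPts.exists_qc_open_ge _ hEc
  have hZcl : IsClosed (⇑G.s ⁻¹' ((W' : Set G.U)ᶜ)) := (W'.2.isClosed_compl).preimage G.s.continuous
  have hTinv := Groth.Agent.Helper5.GrpdPts.sat_invariant G ((W' : Set G.U)ᶜ)
  have hEinv := Groth.Agent.Helper5.GrpdPts.sat_invariant G (W : Set G.U)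
  -- E and T are disjoint
  have hET : ∀ ξ, ξ ∈ Groth.Agent.Helper5.GrpdPts.sat G (W : Set G.U) →
      ξ ∉ Groth.Agent.Helper5.GrpdPts.sat G ((W' : Set G.U)ᶜ) := by
    rintro _ hE ⟨z, hz, rfl⟩
    have h1 : z ∈ ⇑G.t ⁻¹' (Groth.Agent.Helper5.GrpdPts.sat G (W : Set G.U)) := hE
    rw [← hEinv] at h1
    exact hz (hEW' h1)
  have hdisj : ∀ ξ, ξ ∈ Groth.Agent.Helper5.GrpdPts.sat G (W : Set G.U) →
      ξ ∉ closure (Groth.Agent.Helper5.GrpdPts.sat G ((W' : Set G.U)ᶜ)) := by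
    intro ξ hξ hcl
    obtain ⟨z, hz, hzξ⟩ := Groth.Agent.S5133.exists_specializes_of_mem_closure_image G.t _ hZcl ξ hcl
    exact hET _ (hEg ξ hξ _ hzξ) ⟨z, hz, rfl⟩
  have hA : ∀ r : G.R, G.s r ∈ closure (Groth.Agent.Helper5.GrpdPts.sat G ((W' : Set G.U)ᶜ)) →
      G.t r ∈ closure (Groth.Agent.Helper5.GrpdPts.sat G ((W' : Set G.U)ᶜ)) := by
    intro r hr
    obtain ⟨z, hz, hzr⟩ := Groth.Agent.S5133.exists_specializes_of_mem_closure_image G.t _ hZcl _ hr
    obtain ⟨r', hr', hr'z⟩ := @Flat.generalizingMap _ _ G.s _ r (G.t z) hzr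
    have hr'' : r' ⤳ r := hr'
    have h1 : r' ∈ ⇑G.s ⁻¹' (Groth.Agent.Helper5.GrpdPts.sat G ((W' : Set G.U)ᶜ)) := by
      show G.s r' ∈ Groth.Agent.Helper5.GrpdPts.sat G ((W' : Set G.U)ᶜ)
      rw [hr'z]; exact ⟨z, hz, rfl⟩
    rw [hTinv] at h1
    exact (hr''.map G.t.continuous).mem_closed isClosed_closure (subset_closure h1)
  have hB : ∀ r : G.R, G.t r ∈ closure (Groth.Agent.Helper5.GrpdPts.sat G ((W' : Set G.U)ᶜ)) →
      G.s r ∈ closure (Groth.Agent.Helper5.GrpdPts.sat G ((W' : Set G.U)ᶜ)) := by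
    intro r hr
    obtain ⟨z, hz, hzr⟩ := Groth.Agent.S5133.exists_specializes_of_mem_closure_image G.t _ hZcl _ hr
    obtain ⟨r', hr', hr'z⟩ := @Flat.generalizingMap _ _ G.t _ r (G.t z) hzr
    have hr'' : r' ⤳ r := hr'
    have h1 : r' ∈ ⇑G.t ⁻¹' (Groth.Agent.Helper5.GrpdPts.sat G ((W' : Set G.U)ᶜ)) := by
      show G.t r' ∈ Groth.Agent.Helper5.GrpdPts.sat G ((W' : Set G.U)ᶜ)
      rw [hr'z]; exact ⟨z, hz, rfl⟩
    rw [← hTinv] at h1
    exact (hr''.map G.s.continuous).mem_closed isClosed_closure (subset_closure h1)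
  refine ⟨⟨(closure (Groth.Agent.Helper5.GrpdPts.sat G ((W' : Set G.U)ᶜ)))ᶜ,
    isClosed_closure.isOpen_compl⟩, W', ?_, hW'c, ?_, ?_⟩
  · apply TopologicalSpace.Opens.ext
    ext r
    exact ⟨fun h h' => h (hB r h'), fun h h' => h (hA r h')⟩
  · intro x hx
    exact hdisj x (Groth.Agent.Helper5.GrpdPts.subset_sat G _ hx)
  · intro x hx
    by_contra hxW'
    exact hx (subset_closure (Groth.Agent.Helper5.GrpdPts.subset_sat G _ hxW'))

end Groth.Agent.S1894
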