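import Groth.Statements.S18942
import Groth.Agent.H2.DPow

set_option autoImplicit false
universe u
open DPow

namespace Groth.Agent.S18942

/-- Let p be a prime, k a perfect field of characteristic p, n a natural number and x an element of
W_n(k), written here as the truncation of a Witt vector x over k. For any Witt vectors y_0, …,
y_{n−1} over k lifting the components of x under the map y ↦ (y_0)^(p^n) (that is, (y_i)_0^(p^n) =
x_i), one has x = Σ_{i<n} p^i y_i^(p^(n−i)) in W_n(k). -/
theorem result (p : ℕ) [Fact p.Prime]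
    (k : Type u) [Field k] [CharP k p] [PerfectRing k p] (n : ℕ) (x : WittVector p k)
    (y : Fin n → WittVector p k) (hy : ∀ i : Fin n, ((y i).coeff 0) ^ (p ^ n) = x.coeff i) :
    WittVector.truncate n x =
      WittVector.truncate n (∑ i : Fin n, (p : WittVector p k) ^ (i : ℕ) * (y i) ^ (p ^ (n - i))) := by
  classical
  rcases Nat.eq_zero_or_pos n with rfl | hn
  · exact TruncatedWittVector.ext (fun i => i.elim0)
  obtain ⟨m, rfl⟩ : ∃ m, n = m + 1 := ⟨n - 1, (Nat.sub_add_cancel hn).symm⟩
  have symm_pow_apply_pow : ∀ (i : ℕ) (z : k),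
      ((_root_.frobeniusEquiv k p).symm ^ i) (z ^ p ^ i) = z := by
    intro i
    induction i with
    | zero => intro z; simp [RingAut.one_apply]
    | succ i ih =>
      intro z
      rw [pow_succ, RingAut.mul_apply, pow_succ p i, pow_mul, frobeniusEquiv_symm_pow, ih]
  have h1 := WittVector.dvd_sub_sum_teichmuller_iterateFrobeniusEquiv_coeff x m
  have hsum : ∑ i ∈ Finset.Iic m, (WittVector.teichmuller p
        (((_root_.frobeniusEquiv k p).symm ^ i) (x.coeff i)) * (p : WittVector p k) ^ i) =
      ∑ i : Fin (m+1), WittVector.teichmuller p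
        (((_root_.frobeniusEquiv k p).symm ^ (i : ℕ)) (x.coeff i)) * (p : WittVector p k) ^ (i : ℕ) := by
    rw [← Nat.range_succ_eq_Iic, Finset.sum_range]
  have hterm : ∀ i : Fin (m+1), (p : WittVector p k) ^ (m+1) ∣
      (p : WittVector p k) ^ (i : ℕ) * (y i) ^ (p ^ (m + 1 - i)) -
        WittVector.teichmuller p (((_root_.frobeniusEquiv k p).symm ^ (i : ℕ)) (x.coeff i)) *
          (p : WittVector p k) ^ (i : ℕ) := by
    intro i
    have hd : (p : WittVector p k) ∣ y i - WittVector.teichmuller p ((y i).coeff 0) := by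
      rw [← Ideal.mem_span_singleton, ← pow_one (p : WittVector p k),
        WittVector.mem_span_p_pow_iff_le_coeff_eq_zero]
      intro j hj
      have : j = 0 := by omega
      subst this
      have h1 : ∀ δ : WittVector p k, δ.coeff 0 = WittVector.constantCoeff δ := fun _ => rfl
      rw [h1, map_sub, ← h1, ← h1, WittVector.teichmuller_coeff_zero, sub_self]
    have hd2 := dvd_sub_pow_of_dvd_sub hd (m + 1 - i)
    have he : (y i).coeff 0 ^ p ^ (m + 1 - i) =
        ((_root_.frobeniusEquiv k p).symm ^ (i : ℕ)) (x.coeff i) := by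
      rw [← hy i]
      have : p ^ (m + 1) = p ^ (m + 1 - i) * p ^ (i : ℕ) := by rw [← pow_add]; congr 1; omega
      rw [this, pow_mul, symm_pow_apply_pow]
    rw [← he, map_pow]
    have : (p : WittVector p k) ^ (i : ℕ) * y i ^ p ^ (m + 1 - i) -
        WittVector.teichmuller p ((y i).coeff 0) ^ p ^ (m + 1 - i) * (p : WittVector p k) ^ (i : ℕ)
        = (p : WittVector p k) ^ (i : ℕ) * (y i ^ p ^ (m + 1 - i) -
          WittVector.teichmuller p ((y i).coeff 0) ^ p ^ (m + 1 - i)) := by ring
    rw [this]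
    have h3 : (p : WittVector p k) ^ (m + 1) ∣
        (p : WittVector p k) ^ (i : ℕ) * (p : WittVector p k) ^ (m + 1 - i + 1) := by
      rw [← pow_add]; exact pow_dvd_pow _ (by omega)
    exact h3.trans (mul_dvd_mul_left _ hd2)
  have hall : (p : WittVector p k) ^ (m + 1) ∣
      x - ∑ i : Fin (m + 1), (p : WittVector p k) ^ (i : ℕ) * (y i) ^ (p ^ (m + 1 - i)) := by
    have e : x - ∑ i : Fin (m + 1), (p : WittVector p k) ^ (i : ℕ) * (y i) ^ (p ^ (m + 1 - i)) =
        (x - ∑ i ∈ Finset.Iic m, (WittVector.teichmuller p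
          (((_root_.frobeniusEquiv k p).symm ^ i) (x.coeff i)) * (p : WittVector p k) ^ i)) -
        ∑ i : Fin (m + 1), ((p : WittVector p k) ^ (i : ℕ) * (y i) ^ (p ^ (m + 1 - i)) -
          WittVector.teichmuller p (((_root_.frobeniusEquiv k p).symm ^ (i : ℕ)) (x.coeff i)) *
            (p : WittVector p k) ^ (i : ℕ)) := by
      rw [hsum, Finset.sum_sub_distrib]; ring
    rw [e]
    exact dvd_sub h1 (Finset.dvd_sum (fun i _ => hterm i))
  obtain ⟨w, hw⟩ := hall
  rw [← sub_eq_zero, ← map_sub, hw, map_mul, map_pow, map_natCast,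
    Groth.Agent.H2.DPow.p_pow_trunc_eq_zero, zero_mul]

end Groth.Agent.S18942
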