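import Groth.Statements.S18943
import Mathlib
import Mathlib

set_option autoImplicit false
open scoped ContDiff
open CInfGerm

namespace Groth.Agent.S18943

open MeasureTheory in
/-- the Hadamard integral -/
noncomputable def hadG (h : ℝ → ℝ) (m : ℕ) (x : ℝ) : ℝ := ∫ t in (0:ℝ)..1, t ^ m * h (t * x)

open MeasureTheory in
theorem hadG_hasDerivAt (h : ℝ → ℝ) (hh : ContDiff ℝ ∞ h) (m : ℕ) (x : ℝ) :
    HasDerivAt (hadG h m) (hadG (deriv h) (m + 1) x) x := by
  have hdh : Differentiable ℝ h := (contDiff_infty_iff_deriv.mp hh).1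
  have hh' : ContDiff ℝ ∞ (deriv h) := (contDiff_infty_iff_deriv.mp hh).2
  have hcd : Continuous (deriv h) := hh'.continuous
  -- bound on compact
  obtain ⟨C, hC⟩ : ∃ C, ∀ y ∈ Set.Icc (-(|x| + 1)) (|x| + 1), ‖deriv h y‖ ≤ C :=
    (isCompact_Icc.exists_bound_of_continuousOn hcd.continuousOn)
  have key := intervalIntegral.hasDerivAt_integral_of_dominated_loc_of_deriv_le
    (μ := volume) (a := (0:ℝ)) (b := 1)
    (F := fun y t => t ^ m * h (t * y)) (F' := fun y t => t ^ (m + 1) * deriv h (t * y))
    (x₀ := x) (s := Metric.ball x 1) (bound := fun _ => C)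
    (Metric.ball_mem_nhds x one_pos) ?_ ?_ ?_ ?_ ?_ ?_
  · exact key.2
  · refine Filter.Eventually.of_forall fun y => ?_
    exact (Continuous.aestronglyMeasurable (by fun_prop))
  · exact Continuous.intervalIntegrable (by fun_prop) _ _
  · exact (Continuous.aestronglyMeasurable (by fun_prop))
  · refine Filter.Eventually.of_forall fun t ht y hy => ?_
    rw [Set.uIoc_of_le zero_le_one] at ht
    have hy' : |y - x| < 1 := by
      rw [Metric.mem_ball, Real.dist_eq] at hy; exact hy
    have hyb : |y| ≤ |x| + 1 := by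
      have := abs_sub_abs_le_abs_sub y x
      linarith
    have hty : t * y ∈ Set.Icc (-(|x| + 1)) (|x| + 1) := by
      rw [Set.mem_Icc, ← abs_le, abs_mul, abs_of_pos ht.1]
      calc t * |y| ≤ 1 * |y| := mul_le_mul_of_nonneg_right ht.2 (abs_nonneg _)
        _ = |y| := one_mul _
        _ ≤ _ := hyb
    rw [norm_mul, norm_pow, Real.norm_eq_abs, abs_of_pos ht.1]
    calc t ^ (m + 1) * ‖deriv h (t * y)‖ ≤ 1 * C := by
          apply mul_le_mul (pow_le_one₀ ht.1.le ht.2) (hC _ hty) (norm_nonneg _) zero_le_one
      _ = C := one_mul _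
  · exact intervalIntegrable_const
  · refine Filter.Eventually.of_forall fun t _ y _ => ?_
    have h1 : HasDerivAt (fun y => t * y) t y := by
      simpa using (hasDerivAt_id y).const_mul t
    have h2 : HasDerivAt (fun y => h (t * y)) (deriv h (t * y) * t) y :=
      (hdh (t * y)).hasDerivAt.comp y h1
    have h3 := h2.const_mul (t ^ m)
    have e : t ^ m * (deriv h (t * y) * t) = t ^ (m + 1) * deriv h (t * y) := by ring
    rw [e] at h3
    exact h3

theorem hadG_contDiff_nat (n : ℕ) : ∀ (h : ℝ → ℝ), ContDiff ℝ ∞ h → ∀ m : ℕ,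
    ContDiff ℝ n (hadG h m) := by
  induction n with
  | zero =>
    intro h hh m
    rw [Nat.cast_zero, contDiff_zero]
    exact continuous_iff_continuousAt.mpr fun x => (hadG_hasDerivAt h hh m x).continuousAt
  | succ n ih =>
    intro h hh m
    rw [Nat.cast_succ, contDiff_succ_iff_deriv]
    refine ⟨fun x => (hadG_hasDerivAt h hh m x).differentiableAt, ?_, ?_⟩
    · intro hn
      exact absurd hn (by simp)
    · have : deriv (hadG h m) = hadG (deriv h) (m + 1) := by
        funext x
        exact (hadG_hasDerivAt h hh m x).deriv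
      rw [this]
      exact ih _ (contDiff_infty_iff_deriv.mp hh).2 _

theorem hadG_contDiff (h : ℝ → ℝ) (hh : ContDiff ℝ ∞ h) (m : ℕ) : ContDiff ℝ ∞ (hadG h m) :=
  contDiff_infty.mpr fun n => hadG_contDiff_nat n h hh m

theorem hadG_eq (f : ℝ → ℝ) (hf : ContDiff ℝ ∞ f) (h0 : f 0 = 0) (x : ℝ) :
    f x = x * hadG (deriv f) 0 x := by
  have hdf : Differentiable ℝ f := (contDiff_infty_iff_deriv.mp hf).1
  have hcd : Continuous (deriv f) := (contDiff_infty_iff_deriv.mp hf).2.continuous
  have h1 : ∀ t ∈ Set.uIcc (0:ℝ) 1, HasDerivAt (fun t => f (t * x)) (x * deriv f (t * x)) t := by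
    intro t _
    have h1 : HasDerivAt (fun t => t * x) x t := by
      simpa using (hasDerivAt_id t).mul_const x
    have h2 := (hdf (t * x)).hasDerivAt.comp t h1
    have e : deriv f (t * x) * x = x * deriv f (t * x) := mul_comm _ _
    rw [e] at h2
    exact h2
  have h2 := intervalIntegral.integral_eq_sub_of_hasDerivAt h1
    (Continuous.intervalIntegrable (by fun_prop) _ _)
  rw [intervalIntegral.integral_const_mul] at h2
  simp only [one_mul, zero_mul, h0, sub_zero] at h2
  rw [← h2]
  unfold hadG
  simp

/-- Let f be an infinitely differentiable real-valued function on the real line with f(0) = 0. Then f(x)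
= x·g(x) for an infinitely differentiable function g. (The source phrases this for germs at 0: the
maximal ideal of the local ring of germs of smooth functions at the origin is generated by the
coordinate t; the global form stated here is what its argument, smooth extension of f(x)/x across 0,
gives.) -/
theorem result (f : ℝ → ℝ) (hf : ContDiff ℝ ∞ f) (h0 : f 0 = 0) :
    ∃ g : ℝ → ℝ, ContDiff ℝ ∞ g ∧ ∀ x : ℝ, f x = x * g x := by
  exact ⟨Groth.Agent.S18943.hadG (deriv f) 0,
    Groth.Agent.S18943.hadG_contDiff _ (contDiff_infty_iff_deriv.mp hf).2 0,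
    Groth.Agent.S18943.hadG_eq f hf h0⟩

end Groth.Agent.S18943
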