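import Groth.Statements.S18946
import Mathlib

set_option autoImplicit false
universe u
open scoped BigOperators
open InvQ

namespace Groth.Agent.S18946

open MvPolynomial in
theorem coeff_scale {k : Type u} [Field k] {ι : Type} [Fintype ι] [DecidableEq ι]
    (s : ι → k) (f : MvPolynomial ι k) (d : ι →₀ ℕ) :
    MvPolynomial.coeff d (MvPolynomial.aeval (fun i => MvPolynomial.C (s i) * MvPolynomial.X i) f)
      = (∏ i, s i ^ d i) * MvPolynomial.coeff d f := by
  refine MvPolynomial.induction_on' f (fun u a => ?_) (fun p q hp hq => ?_)
  · have e1 : (u.prod fun i e => (C (s i) * X i : MvPolynomial ι k) ^ e)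
        = C (∏ i, s i ^ u i) * u.prod fun i e => (X i : MvPolynomial ι k) ^ e := by
      simp only [mul_pow, Finsupp.prod_mul]
      congr 1
      rw [Finsupp.prod_fintype _ _ (fun i => pow_zero _), map_prod]
      simp only [map_pow]
    rw [aeval_monomial, e1, MvPolynomial.algebraMap_eq, ← mul_assoc, ← C_mul, ← monomial_eq,
      coeff_monomial, coeff_monomial]
    split_ifs with h
    · subst h; ring
    · rw [mul_zero]
  · rw [map_add, coeff_add, coeff_add, hp, hq, mul_add]

/-- Let k be an algebraically closed field of characteristic zero and n a natural number, and let the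
torus of (n+1)-tuples of units of k with product 1 act on the polynomial ring k[t_0, ..., t_n] by
rescaling each variable t_i by the i-th unit. A polynomial is fixed by every such rescaling if and
only if it lies in the k-subalgebra generated by the product t_0 t_1 ... t_n. (This is the
computation of the ring of functions on affine (n+1)-space invariant under the maximal diagonal
torus of the special linear group, identified with the polynomial ring in the single coordinate t =
t_0 ... t_n of the line it maps to by the product map; invariance is tested on k-valued points of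
the torus, which over an infinite field is the same as invariance under the group scheme.) -/
theorem result
    (k : Type u) [Field k] [IsAlgClosed k] [CharZero k] (n : ℕ)
    (f : MvPolynomial (Fin (n + 1)) k) :
    (∀ σ : Fin (n + 1) → kˣ, ∏ i, (σ i : k) = 1 →
        MvPolynomial.aeval (fun i => MvPolynomial.C (σ i : k) * MvPolynomial.X i) f = f) ↔
      f ∈ Algebra.adjoin k ({∏ i : Fin (n + 1), MvPolynomial.X i} : Set (MvPolynomial (Fin (n + 1)) k)) := by
  constructor
  · intro h
    have hd : ∀ d ∈ f.support, ∀ i j : Fin (n + 1), d i = d j := by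
      intro d hdm i j
      by_cases hij : i = j
      · rw [hij]
      obtain ⟨t, ht⟩ : ∃ t : kˣ, (t : k) = 2 := ⟨Units.mk0 2 two_ne_zero, rfl⟩
      let σ : Fin (n + 1) → kˣ := fun l => if l = i then t else if l = j then t⁻¹ else 1
      have hσi : σ i = t := if_pos rfl
      have hσj : σ j = t⁻¹ := by
        show (if j = i then t else if j = j then t⁻¹ else 1) = t⁻¹
        rw [if_neg (Ne.symm hij), if_pos rfl]
      have hσo : ∀ l, l ≠ i → l ≠ j → σ l = 1 := by
        intro l h1 h2
        show (if l = i then t else if l = j then t⁻¹ else 1) = 1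
        rw [if_neg h1, if_neg h2]
      have hp1 : ∏ l, (σ l : k) = (σ i : k) * (σ j : k) :=
        Finset.prod_eq_mul i j hij
          (fun l _ hl => by rw [hσo l hl.1 hl.2, Units.val_one])
          (fun hi => absurd (Finset.mem_univ _) hi) (fun hj => absurd (Finset.mem_univ _) hj)
      have hprod : ∏ l, (σ l : k) = 1 := by
        rw [hp1, hσi, hσj, ← Units.val_mul, mul_inv_cancel, Units.val_one]
      have h1 := h σ hprod
      have h2 : (∏ l, ((σ l : k)) ^ d l) * MvPolynomial.coeff d f = MvPolynomial.coeff d f :=
        (coeff_scale (fun l => (σ l : k)) f d).symm.trans (congrArg (MvPolynomial.coeff d) h1)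
      have hc : MvPolynomial.coeff d f ≠ 0 := MvPolynomial.mem_support_iff.mp hdm
      have h3 : ∏ l, ((σ l : k)) ^ d l = 1 := mul_right_cancel₀ hc (h2.trans (one_mul _).symm)
      have hp2 : ∏ l, ((σ l : k)) ^ d l = (σ i : k) ^ d i * (σ j : k) ^ d j :=
        Finset.prod_eq_mul i j hij
          (fun l _ hl => by rw [hσo l hl.1 hl.2, Units.val_one, one_pow])
          (fun hi => absurd (Finset.mem_univ _) hi) (fun hj => absurd (Finset.mem_univ _) hj)
      rw [hp2, hσi, hσj, ht, Units.val_inv_eq_inv_val, ht, inv_pow,
        mul_inv_eq_one₀ (pow_ne_zero _ two_ne_zero)] at h3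
      have h4 : ((2 ^ d i : ℕ) : k) = ((2 ^ d j : ℕ) : k) := by exact_mod_cast h3
      exact Nat.pow_right_injective (le_refl 2) (Nat.cast_injective h4)
    have hmem : ∑ v ∈ f.support, MvPolynomial.monomial v (MvPolynomial.coeff v f) ∈
        Algebra.adjoin k ({∏ i : Fin (n + 1), MvPolynomial.X i} :
          Set (MvPolynomial (Fin (n + 1)) k)) := by
      refine Subalgebra.sum_mem _ (fun v hv => ?_)
      have e : MvPolynomial.monomial v (MvPolynomial.coeff v f) =
          MvPolynomial.C (MvPolynomial.coeff v f) *
            (∏ i : Fin (n + 1), (MvPolynomial.X i : MvPolynomial (Fin (n + 1)) k)) ^ (v 0) := by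
        rw [MvPolynomial.monomial_eq, Finsupp.prod_fintype _ _ (fun i => pow_zero _),
          ← Finset.prod_pow]
        congr 1
        exact Finset.prod_congr rfl (fun i _ => by rw [hd v hv i 0])
      rw [e]
      refine Subalgebra.mul_mem _ ?_
        (Subalgebra.pow_mem _ (Algebra.subset_adjoin (Set.mem_singleton _)) _)
      rw [← MvPolynomial.algebraMap_eq]
      exact Subalgebra.algebraMap_mem _ _
    rwa [MvPolynomial.support_sum_monomial_coeff] at hmem
  · intro hf σ hσ
    have hle : Algebra.adjoin k ({∏ i : Fin (n + 1), MvPolynomial.X i} :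
          Set (MvPolynomial (Fin (n + 1)) k))
        ≤ AlgHom.equalizer
          (MvPolynomial.aeval (fun i => MvPolynomial.C (σ i : k) * MvPolynomial.X i))
          (AlgHom.id k (MvPolynomial (Fin (n + 1)) k)) := by
      refine Algebra.adjoin_le ?_
      intro x hx
      rw [Set.mem_singleton_iff] at hx
      subst hx
      rw [SetLike.mem_coe, AlgHom.mem_equalizer, map_prod]
      simp only [MvPolynomial.aeval_X, AlgHom.id_apply]
      rw [Finset.prod_mul_distrib, ← map_prod, hσ, map_one, one_mul]
    exact hle hf

end Groth.Agent.S18946
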