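import Groth.Statements.S18948
import Mathlib.Tactic

set_option autoImplicit false
universe u v
open CExt

namespace Groth.Agent.S18948

/-- Let f : E → G be a surjective homomorphism of groups whose kernel is central in E, and let x ∈ E.
Then f maps the conjugacy class of x bijectively onto the conjugacy class of f(x) if and only if
every element of G commuting with f(x) is the image of some element of E commuting with x. (In the
source E → G is the central extension, with kernel the roots of unity, attached to a Brauer class of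
the classifying stack of a finite tame étale group scheme, and a conjugacy class of E mapping
bijectively onto a given class of G is a marking; the equivalence is stated here for an arbitrary
central extension of abstract groups.) -/
theorem result {E : Type u} {G : Type v} [Group E] [Group G]
    (f : E →* G) (hf : Function.Surjective f) (hker : f.ker ≤ Subgroup.center E) (x : E) :
    Set.BijOn f (MulAction.orbit (ConjAct E) x) (MulAction.orbit (ConjAct G) (f x)) ↔
      ∀ g : G, g * f x = f x * g → ∃ e : E, f e = g ∧ e * x = x * e := by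
  constructor
  · intro hb g hg
    obtain ⟨e0, rfl⟩ := hf g
    refine ⟨e0, rfl, ?_⟩
    have h1 : e0 * x * e0⁻¹ ∈ MulAction.orbit (ConjAct E) x :=
      ⟨ConjAct.toConjAct e0, by simp [ConjAct.smul_def]⟩
    have h2 : x ∈ MulAction.orbit (ConjAct E) x := MulAction.mem_orbit_self x
    have h3 : f (e0 * x * e0⁻¹) = f x := by
      rw [map_mul, map_mul, hg, map_inv]; group
    have := hb.injOn h1 h2 h3
    calc e0 * x = e0 * x * e0⁻¹ * e0 := by group
      _ = x * e0 := by rw [this]
  · intro h
    refine ⟨?_, ?_, ?_⟩
    · rintro _ ⟨a, rfl⟩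
      refine ⟨ConjAct.toConjAct (f (ConjAct.ofConjAct a)), ?_⟩
      simp [ConjAct.smul_def]
    · rintro _ ⟨a, rfl⟩ _ ⟨b, rfl⟩ hab
      simp only [ConjAct.smul_def, map_mul, map_inv] at hab ⊢
      set a' := ConjAct.ofConjAct a
      set b' := ConjAct.ofConjAct b
      have hc : f (b'⁻¹ * a') * f x = f x * f (b'⁻¹ * a') := by
        simp only [map_mul, map_inv]
        calc (f b')⁻¹ * f a' * f x = (f b')⁻¹ * (f a' * f x * (f a')⁻¹) * f a' := by group
          _ = (f b')⁻¹ * (f b' * f x * (f b')⁻¹) * f a' := by rw [hab]
          _ = f x * ((f b')⁻¹ * f a') := by group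
      obtain ⟨e, he, hex⟩ := h _ hc
      have hz : e⁻¹ * (b'⁻¹ * a') ∈ f.ker := by
        rw [MonoidHom.mem_ker, map_mul, map_inv, he]; group
      have hzc := hker hz
      rw [Subgroup.mem_center_iff] at hzc
      have hzx := hzc x
      have hex' : e * x * e⁻¹ = x := by rw [hex]; group
      have key : (b'⁻¹ * a') * x * (b'⁻¹ * a')⁻¹ = x := by
        have : b'⁻¹ * a' = e * (e⁻¹ * (b'⁻¹ * a')) := by group
        rw [this]
        set z := e⁻¹ * (b'⁻¹ * a')
        calc e * z * x * (e * z)⁻¹ = e * (z * x) * z⁻¹ * e⁻¹ := by group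
          _ = e * (x * z) * z⁻¹ * e⁻¹ := by rw [hzx]
          _ = e * x * e⁻¹ := by group
          _ = x := hex'
      calc a' * x * a'⁻¹ = b' * ((b'⁻¹ * a') * x * (b'⁻¹ * a')⁻¹) * b'⁻¹ := by group
        _ = b' * x * b'⁻¹ := by rw [key]
    · rintro _ ⟨g, rfl⟩
      obtain ⟨e, he⟩ := hf (ConjAct.ofConjAct g)
      refine ⟨e * x * e⁻¹, ⟨ConjAct.toConjAct e, by simp [ConjAct.smul_def]⟩, ?_⟩
      simp [ConjAct.smul_def, he]

end Groth.Agent.S18948
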