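import Groth.Statements.S18950
import Mathlib

set_option autoImplicit false
universe u v
open CExt

namespace Groth.Agent.S18950

/-- Let f : E → G be a homomorphism of groups whose kernel is central in E, let α be an endomorphism of
E with f ∘ α = f which is the identity on the kernel, and let S ⊆ E be a subset fixed pointwise by α
such that f(S) generates G. Then α is the identity. (In the source S is the marking of a marked
central extension of finite tame étale group schemes and the hypothesis is that the marked conjugacy
classes generate G; the conclusion there is that a morphism of marked extensions inducing the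
identity on the kernel and on G is unique.) -/
theorem result {E : Type u} {G : Type v} [Group E] [Group G]
    (f : E →* G) (hker : f.ker ≤ Subgroup.center E) (α : E →* E) (hα : f.comp α = f)
    (hαA : ∀ a ∈ f.ker, α a = a) (S : Set E) (hS : Subgroup.closure (f '' S) = ⊤)
    (hαS : ∀ s ∈ S, α s = s) : α = MonoidHom.id E := by
  ext x
  simp only [MonoidHom.id_apply]
  let H : Subgroup E :=
    { carrier := {x | α x = x}
      mul_mem' := fun {a b} ha hb => by
        simp only [Set.mem_setOf_eq] at *
        rw [map_mul, ha, hb]
      one_mem' := map_one α
      inv_mem' := fun {a} ha => by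
        simp only [Set.mem_setOf_eq] at *
        rw [map_inv, ha] }
  have hSH : Subgroup.closure S ≤ H := (Subgroup.closure_le H).mpr (fun s hs => hαS s hs)
  have hkH : f.ker ≤ H := fun a ha => hαA a ha
  have hx : f x ∈ Subgroup.closure (f '' S) := by
    rw [hS]
    trivial
  rw [← MonoidHom.map_closure] at hx
  obtain ⟨h, hh, hfh⟩ := Subgroup.mem_map.mp hx
  have h1 : x * h⁻¹ ∈ f.ker := by
    rw [MonoidHom.mem_ker, map_mul, map_inv, hfh, mul_inv_cancel]
  have h2 : x = (x * h⁻¹) * h := by group
  have h3 : x ∈ H := by
    rw [h2]
    exact H.mul_mem (hkH h1) (hSH hh)
  exact h3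

end Groth.Agent.S18950
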