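import Groth.Statements.S18951
import Mathlib

set_option autoImplicit false
universe u
open OrbPic

namespace Groth.Agent.S18951

theorem mem_picOrb {G : Type*} [Group G] (C : Set G)
    (p : (Additive G →+ W4c6brauerbgmalle.QmodZ) × (G → ℚ)) :
    p ∈ W4c6brauerbgmalle.picOrb G C ↔ (p.2 1 = 0 ∧ (∀ g : G, g ∉ C → p.2 g = 0) ∧
      (∀ g h : G, p.2 (h * g * h⁻¹) = p.2 g) ∧
      ∀ g : G, g ∈ C → W4c6brauerbgmalle.toQmodZ (p.2 g) = p.1 (Additive.ofMul g)) := Iff.rfl

/-- Let G be a group and C ⊆ G a subset that generates G. Then the projection (χ, w) ↦ w from the group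
of geometric partial orbifold line bundles with respect to C to functions G → ℚ is injective, its
image contains every conjugation-invariant integer-valued function vanishing at 1 and outside C, and
the group is torsion-free. (The source works with the geometric points of a tame finite étale group
scheme, characters with values in roots of unity and weights on conjugacy classes of the Tate twist;
here these are identified with a group, homomorphisms to ℚ/ℤ and class functions as the source does
after choosing roots of unity. The case C = G ∖ {1} is the statement for full orbifold line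
bundles.) -/
theorem result (G : Type u) [Group G] (C : Set G)
    (hC : Subgroup.closure C = ⊤) :
    Set.InjOn (fun p : (Additive G →+ W4c6brauerbgmalle.QmodZ) × (G → ℚ) => p.2) (W4c6brauerbgmalle.picOrb G C) ∧
      (∀ w ∈ W4c6brauerbgmalle.intWeights G C, ((0 : Additive G →+ W4c6brauerbgmalle.QmodZ), w) ∈ W4c6brauerbgmalle.picOrb G C) ∧
      ∀ (n : ℕ) (p : (Additive G →+ W4c6brauerbgmalle.QmodZ) × (G → ℚ)), p ∈ W4c6brauerbgmalle.picOrb G C → n ≠ 0 →
        n • p = 0 → p = 0 := by
  have key : ∀ p q : (Additive G →+ W4c6brauerbgmalle.QmodZ) × (G → ℚ),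
      p ∈ W4c6brauerbgmalle.picOrb G C → q ∈ W4c6brauerbgmalle.picOrb G C → p.2 = q.2 → p = q := by
    intro p q hp hq h2
    rw [mem_picOrb] at hp hq
    have h1 : p.1 = q.1 := by
      let H : Subgroup G :=
        { carrier := {g | p.1 (Additive.ofMul g) = q.1 (Additive.ofMul g)}
          mul_mem' := fun {a b} ha hb => by
            have ha' : p.1 (Additive.ofMul a) = q.1 (Additive.ofMul a) := ha
            have hb' : p.1 (Additive.ofMul b) = q.1 (Additive.ofMul b) := hb
            show p.1 (Additive.ofMul (a * b)) = q.1 (Additive.ofMul (a * b))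
            rw [ofMul_mul, map_add, map_add, ha', hb']
          one_mem' := by
            show p.1 (Additive.ofMul 1) = q.1 (Additive.ofMul 1)
            rw [ofMul_one, map_zero, map_zero]
          inv_mem' := fun {a} ha => by
            have ha' : p.1 (Additive.ofMul a) = q.1 (Additive.ofMul a) := ha
            show p.1 (Additive.ofMul a⁻¹) = q.1 (Additive.ofMul a⁻¹)
            rw [ofMul_inv, map_neg, map_neg, ha'] }
      have hCH : C ⊆ (H : Set G) := fun g hg => by
        show p.1 (Additive.ofMul g) = q.1 (Additive.ofMul g)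
        rw [← hp.2.2.2 g hg, ← hq.2.2.2 g hg, h2]
      have hH : ∀ g : G, g ∈ H := fun g =>
        (Subgroup.closure_le H).mpr hCH (by rw [hC]; exact Subgroup.mem_top g)
      refine AddMonoidHom.ext (fun x => ?_)
      have hx : Additive.toMul x ∈ H := hH _
      exact hx
    exact Prod.ext h1 h2
  refine ⟨fun p hp q hq h => key p q hp hq h, fun w hw => ?_, fun n p hp hn hnp => ?_⟩
  · obtain ⟨hw1, hw2, hw3, hw4⟩ := hw
    rw [mem_picOrb]
    refine ⟨hw1, hw2, hw3, fun g _ => ?_⟩
    obtain ⟨m, hm⟩ := hw4 g
    show W4c6brauerbgmalle.toQmodZ (w g) =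
      (0 : Additive G →+ W4c6brauerbgmalle.QmodZ) (Additive.ofMul g)
    rw [AddMonoidHom.zero_apply, hm]
    exact (QuotientAddGroup.eq_zero_iff _).mpr
      (AddSubgroup.mem_zmultiples_iff.mpr ⟨m, by rw [zsmul_eq_mul, mul_one]⟩)
  · have h2 : p.2 = 0 := by
      have h' : n • p.2 = 0 := congrArg Prod.snd hnp
      funext g
      have hg : n • (p.2 g) = 0 := congrFun h' g
      rw [nsmul_eq_mul] at hg
      rcases mul_eq_zero.mp hg with h0 | h0
      · exact absurd (Nat.cast_eq_zero.mp h0) hn
      · exact h0
    exact key p 0 hp (zero_mem _) h2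

end Groth.Agent.S18951
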