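import Groth.Statements.S18952
import Mathlib

set_option autoImplicit false
universe u
open OrbPic

namespace Groth.Agent.S18952

theorem mem_picOrb {G : Type*} [Group G] (C : Set G)
    (p : (Additive G →+ W4c6brauerbgmalle.QmodZ) × (G → ℚ)) :
    p ∈ W4c6brauerbgmalle.picOrb G C ↔ (p.2 1 = 0 ∧ (∀ g : G, g ∉ C → p.2 g = 0) ∧
      (∀ g h : G, p.2 (h * g * h⁻¹) = p.2 g) ∧
      ∀ g : G, g ∈ C → W4c6brauerbgmalle.toQmodZ (p.2 g) = p.1 (Additive.ofMul g)) := Iff.rfl

/-- Let G be a group and C ⊆ G a subset stable under conjugation. Then (χ, w) ↦ χ maps the group of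
geometric partial orbifold line bundles with respect to C onto all characters G → ℚ/ℤ, and a pair in
its kernel (χ trivial) has w a conjugation-invariant integer-valued function vanishing at 1 and
outside C: with the inclusion of such functions this is the exact sequence 0 → Hom(C/conj, ℤ) → Pic
→ Hom(G, ℚ/ℤ) → 0 over a separably closed field. (As in the source after a choice of roots of unity,
the group G stands for the geometric points of a tame finite étale group scheme, characters are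
homomorphisms to ℚ/ℤ and weights are class functions on G.) -/
theorem result (G : Type u) [Group G] (C : Set G)
    (hC : ∀ g h : G, g ∈ C → h * g * h⁻¹ ∈ C) :
    (∀ χ : Additive G →+ W4c6brauerbgmalle.QmodZ, ∃ w : G → ℚ, (χ, w) ∈ W4c6brauerbgmalle.picOrb G C) ∧
      (∀ p : (Additive G →+ W4c6brauerbgmalle.QmodZ) × (G → ℚ), p ∈ W4c6brauerbgmalle.picOrb G C → p.1 = 0 →
        p.2 ∈ W4c6brauerbgmalle.intWeights G C) := by
  classical
  refine ⟨fun χ => ?_, fun p hp h0 => ?_⟩
  · obtain ⟨rep, hrep⟩ : ∃ rep : W4c6brauerbgmalle.QmodZ → ℚ,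
        ∀ q, W4c6brauerbgmalle.toQmodZ (rep q) = q :=
      ⟨Function.surjInv (QuotientAddGroup.mk'_surjective _), Function.surjInv_eq _⟩
    have hconj : ∀ g h : G, χ (Additive.ofMul (h * g * h⁻¹)) = χ (Additive.ofMul g) := by
      intro g h
      rw [ofMul_mul, ofMul_mul, ofMul_inv, map_add, map_add, map_neg]
      abel
    have hCiff : ∀ g h : G, h * g * h⁻¹ ∈ C ↔ g ∈ C := by
      intro g h
      refine ⟨fun hg => ?_, fun hg => hC g h hg⟩
      have h1 := hC (h * g * h⁻¹) h⁻¹ hg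
      have e : h⁻¹ * (h * g * h⁻¹) * h⁻¹⁻¹ = g := by group
      rwa [e] at h1
    have h1iff : ∀ g h : G, h * g * h⁻¹ = 1 ↔ g = 1 := by
      intro g h
      constructor
      · intro hg
        have e : g = h⁻¹ * (h * g * h⁻¹) * h := by group
        rw [e, hg]
        group
      · rintro rfl
        group
    refine ⟨fun g => if g ∈ C ∧ g ≠ 1 then rep (χ (Additive.ofMul g)) else 0, ?_⟩
    rw [mem_picOrb]
    refine ⟨?_, fun g hg => ?_, fun g h => ?_, fun g hg => ?_⟩
    · show (if (1 : G) ∈ C ∧ (1 : G) ≠ 1 then _ else _) = (0 : ℚ)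
      rw [if_neg (fun h => h.2 rfl)]
    · show (if g ∈ C ∧ g ≠ 1 then _ else _) = (0 : ℚ)
      rw [if_neg (fun h => hg h.1)]
    · show (if h * g * h⁻¹ ∈ C ∧ h * g * h⁻¹ ≠ 1 then
          rep (χ (Additive.ofMul (h * g * h⁻¹))) else 0)
        = (if g ∈ C ∧ g ≠ 1 then rep (χ (Additive.ofMul g)) else 0)
      rw [hconj g h]
      by_cases hc : g ∈ C ∧ g ≠ 1
      · rw [if_pos hc, if_pos ⟨(hCiff g h).mpr hc.1, fun h1 => hc.2 ((h1iff g h).mp h1)⟩]
      · rw [if_neg hc, if_neg (fun hc' => hc ⟨(hCiff g h).mp hc'.1,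
          fun h1 => hc'.2 ((h1iff g h).mpr h1)⟩)]
    · show W4c6brauerbgmalle.toQmodZ
          (if g ∈ C ∧ g ≠ 1 then rep (χ (Additive.ofMul g)) else 0) = χ (Additive.ofMul g)
      by_cases h1 : g = 1
      · rw [if_neg (fun h => h.2 h1), map_zero, h1, ofMul_one, map_zero]
      · rw [if_pos ⟨hg, h1⟩, hrep]
  · rw [mem_picOrb] at hp
    obtain ⟨hp1, hp2, hp3, hp4⟩ := hp
    refine ⟨hp1, hp2, hp3, fun g => ?_⟩
    by_cases hg : g ∈ C
    · have h := hp4 g hg
      rw [h0, AddMonoidHom.zero_apply] at h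
      have h' : p.2 g ∈ AddSubgroup.zmultiples (1 : ℚ) := (QuotientAddGroup.eq_zero_iff _).mp h
      obtain ⟨n, hn⟩ := AddSubgroup.mem_zmultiples_iff.mp h'
      exact ⟨n, by rw [← hn, zsmul_eq_mul, mul_one]⟩
    · exact ⟨0, by rw [hp2 g hg, Int.cast_zero]⟩

end Groth.Agent.S18952
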