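import Groth.Statements.S18953
import Mathlib

set_option autoImplicit false
universe u v
open OrbPic

namespace Groth.Agent.S18953

theorem mem_picOrb {G : Type*} [Group G] (C : Set G)
    (p : (Additive G →+ W4c6brauerbgmalle.QmodZ) × (G → ℚ)) :
    p ∈ W4c6brauerbgmalle.picOrb G C ↔ (p.2 1 = 0 ∧ (∀ g : G, g ∉ C → p.2 g = 0) ∧
      (∀ g h : G, p.2 (h * g * h⁻¹) = p.2 g) ∧
      ∀ g : G, g ∈ C → W4c6brauerbgmalle.toQmodZ (p.2 g) = p.1 (Additive.ofMul g)) := Iff.rfl

/-- Let G₁ and G₂ be groups with subsets C₁ ⊆ G₁ and C₂ ⊆ G₂, and let C ⊆ G₁ × G₂ be the union of C₁ ×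
{1} and {1} × C₂. Restricting the character and the weight along the two inclusions G₁ → G₁ × G₂ and
G₂ → G₁ × G₂ is a bijection from the geometric partial orbifold line bundles of G₁ × G₂ with respect
to C onto pairs of geometric partial orbifold line bundles of G₁ with respect to C₁ and of G₂ with
respect to C₂. (As in the source after a choice of roots of unity, each group stands for the
geometric points of a tame finite étale group scheme, characters are homomorphisms to ℚ/ℤ and
weights are class functions; the source states the Galois-equivariant version, which follows by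
taking invariants.) -/
theorem result (G₁ : Type u) (G₂ : Type v) [Group G₁] [Group G₂] (C₁ : Set G₁) (C₂ : Set G₂) :
    Set.BijOn
      (fun p : (Additive (G₁ × G₂) →+ W4c6brauerbgmalle.QmodZ) × (G₁ × G₂ → ℚ) =>
        ((p.1.comp (MonoidHom.toAdditive (MonoidHom.inl G₁ G₂)), fun g => p.2 (g, 1)),
          (p.1.comp (MonoidHom.toAdditive (MonoidHom.inr G₁ G₂)), fun g => p.2 (1, g))))
      (W4c6brauerbgmalle.picOrb (G₁ × G₂) ((fun g => (g, (1 : G₂))) '' C₁ ∪ (fun g => ((1 : G₁), g)) '' C₂))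
      ((W4c6brauerbgmalle.picOrb G₁ C₁ : Set _) ×ˢ (W4c6brauerbgmalle.picOrb G₂ C₂ : Set _)) := by
  have hconj1 : ∀ g h : G₁, h * g * h⁻¹ = 1 ↔ g = 1 := by
    intro g h
    constructor
    · intro hg
      have e : g = h⁻¹ * (h * g * h⁻¹) * h := by group
      rw [e, hg]
      group
    · rintro rfl
      group
  have hconj2 : ∀ g h : G₂, h * g * h⁻¹ = 1 ↔ g = 1 := by
    intro g h
    constructor
    · intro hg
      have e : g = h⁻¹ * (h * g * h⁻¹) * h := by group
      rw [e, hg]
      group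
    · rintro rfl
      group
  refine ⟨fun p hp => ?_, fun p hp q hq h => ?_, fun t ht => ?_⟩
  · rw [SetLike.mem_coe, mem_picOrb] at hp
    obtain ⟨hp1, hp2, hp3, hp4⟩ := hp
    refine Set.mem_prod.mpr ⟨?_, ?_⟩
    · rw [SetLike.mem_coe, mem_picOrb]
      refine ⟨hp1, fun g hg => ?_, fun g h => ?_, fun g hg => ?_⟩
      · show p.2 (g, 1) = 0
        by_cases h1 : g = 1
        · rw [h1]; exact hp1
        · refine hp2 (g, 1) ?_
          rintro (⟨a, ha, hae⟩ | ⟨b, hb, hbe⟩)
          · have hag : a = g := congrArg Prod.fst hae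
            exact hg (hag ▸ ha)
          · have h1g : (1 : G₁) = g := congrArg Prod.fst hbe
            exact h1 h1g.symm
      · show p.2 (h * g * h⁻¹, 1) = p.2 (g, 1)
        have e : ((h, (1 : G₂)) * (g, 1) * (h, (1 : G₂))⁻¹ : G₁ × G₂) = (h * g * h⁻¹, 1) := by
          ext <;> simp
        have h3 := hp3 (g, 1) (h, 1)
        rw [e] at h3
        exact h3
      · exact hp4 (g, 1) (Or.inl ⟨g, hg, rfl⟩)
    · rw [SetLike.mem_coe, mem_picOrb]
      refine ⟨hp1, fun g hg => ?_, fun g h => ?_, fun g hg => ?_⟩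
      · show p.2 (1, g) = 0
        by_cases h1 : g = 1
        · rw [h1]; exact hp1
        · refine hp2 (1, g) ?_
          rintro (⟨a, ha, hae⟩ | ⟨b, hb, hbe⟩)
          · have h1g : (1 : G₂) = g := congrArg Prod.snd hae
            exact h1 h1g.symm
          · have hbg : b = g := congrArg Prod.snd hbe
            exact hg (hbg ▸ hb)
      · show p.2 (1, h * g * h⁻¹) = p.2 (1, g)
        have e : (((1 : G₁), h) * (1, g) * ((1 : G₁), h)⁻¹ : G₁ × G₂) = (1, h * g * h⁻¹) := by
          ext <;> simp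
        have h3 := hp3 (1, g) (1, h)
        rw [e] at h3
        exact h3
      · exact hp4 (1, g) (Or.inr ⟨g, hg, rfl⟩)
  · rw [SetLike.mem_coe, mem_picOrb] at hp hq
    obtain ⟨hp1, hp2, hp3, hp4⟩ := hp
    obtain ⟨hq1, hq2, hq3, hq4⟩ := hq
    have h11 : p.1.comp (MonoidHom.toAdditive (MonoidHom.inl G₁ G₂)) =
        q.1.comp (MonoidHom.toAdditive (MonoidHom.inl G₁ G₂)) := congrArg (fun t => t.1.1) h
    have h12 : (fun g => p.2 (g, 1)) = (fun g => q.2 (g, 1)) := congrArg (fun t => t.1.2) h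
    have h21 : p.1.comp (MonoidHom.toAdditive (MonoidHom.inr G₁ G₂)) =
        q.1.comp (MonoidHom.toAdditive (MonoidHom.inr G₁ G₂)) := congrArg (fun t => t.2.1) h
    have h22 : (fun g => p.2 (1, g)) = (fun g => q.2 (1, g)) := congrArg (fun t => t.2.2) h
    refine Prod.ext ?_ ?_
    · refine AddMonoidHom.ext (fun x => ?_)
      obtain ⟨⟨a, b⟩, rfl⟩ : ∃ y : G₁ × G₂, Additive.ofMul y = x :=
        ⟨Additive.toMul x, ofMul_toMul x⟩
      have e : ((a, b) : G₁ × G₂) = (a, 1) * (1, b) := by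
        ext <;> simp
      have e1 : p.1 (Additive.ofMul (a, (1 : G₂))) = q.1 (Additive.ofMul (a, (1 : G₂))) :=
        DFunLike.congr_fun h11 (Additive.ofMul a)
      have e2 : p.1 (Additive.ofMul ((1 : G₁), b)) = q.1 (Additive.ofMul ((1 : G₁), b)) :=
        DFunLike.congr_fun h21 (Additive.ofMul b)
      rw [e, ofMul_mul, map_add, map_add, e1, e2]
    · funext y
      obtain ⟨a, b⟩ := y
      by_cases hmem : (a, b) ∈ ((fun g => (g, (1 : G₂))) '' C₁ ∪ (fun g => ((1 : G₁), g)) '' C₂)
      · rcases hmem with ⟨g, hg, hge⟩ | ⟨g, hg, hge⟩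
        · rw [← hge]; exact congrFun h12 g
        · rw [← hge]; exact congrFun h22 g
      · rw [hp2 _ hmem, hq2 _ hmem]
  · classical
    obtain ⟨⟨χ₁, w₁⟩, ⟨χ₂, w₂⟩⟩ := t
    obtain ⟨h1, h2⟩ := Set.mem_prod.mp ht
    rw [SetLike.mem_coe, mem_picOrb] at h1 h2
    have a1 : w₁ 1 = 0 := h1.1
    have a2 : ∀ g : G₁, g ∉ C₁ → w₁ g = 0 := h1.2.1
    have a3 : ∀ g h : G₁, w₁ (h * g * h⁻¹) = w₁ g := h1.2.2.1
    have a4 : ∀ g : G₁, g ∈ C₁ → W4c6brauerbgmalle.toQmodZ (w₁ g) = χ₁ (Additive.ofMul g) :=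
      h1.2.2.2
    have b1 : w₂ 1 = 0 := h2.1
    have b2 : ∀ g : G₂, g ∉ C₂ → w₂ g = 0 := h2.2.1
    have b3 : ∀ g h : G₂, w₂ (h * g * h⁻¹) = w₂ g := h2.2.2.1
    have b4 : ∀ g : G₂, g ∈ C₂ → W4c6brauerbgmalle.toQmodZ (w₂ g) = χ₂ (Additive.ofMul g) :=
      h2.2.2.2
    let χ : Additive (G₁ × G₂) →+ W4c6brauerbgmalle.QmodZ :=
      χ₁.comp (MonoidHom.toAdditive (MonoidHom.fst G₁ G₂)) +
        χ₂.comp (MonoidHom.toAdditive (MonoidHom.snd G₁ G₂))
    let w : G₁ × G₂ → ℚ := fun x => if x.2 = 1 then w₁ x.1 else if x.1 = 1 then w₂ x.2 else 0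
    have hχ : ∀ (a : G₁) (b : G₂),
        χ (Additive.ofMul (a, b)) = χ₁ (Additive.ofMul a) + χ₂ (Additive.ofMul b) :=
      fun a b => rfl
    have hw : ∀ (a : G₁) (b : G₂),
        w (a, b) = if b = 1 then w₁ a else if a = 1 then w₂ b else 0 := fun a b => rfl
    refine ⟨(χ, w), ?_, ?_⟩
    · rw [SetLike.mem_coe, mem_picOrb]
      refine ⟨?_, ?_, ?_, ?_⟩
      · show w ((1 : G₁), (1 : G₂)) = 0
        rw [hw, if_pos rfl, a1]
      · rintro ⟨a, b⟩ hab
        show w (a, b) = 0
        rw [hw]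
        by_cases hb : b = 1
        · rw [if_pos hb]
          refine a2 a (fun ha => hab (Or.inl ⟨a, ha, ?_⟩))
          rw [hb]
        · rw [if_neg hb]
          by_cases ha : a = 1
          · rw [if_pos ha]
            refine b2 b (fun hb' => hab (Or.inr ⟨b, hb', ?_⟩))
            rw [ha]
          · rw [if_neg ha]
      · rintro ⟨a, b⟩ ⟨c, d⟩
        show w (c * a * c⁻¹, d * b * d⁻¹) = w (a, b)
        rw [hw, hw, a3 a c, b3 b d]
        by_cases hb : b = 1
        · rw [if_pos ((hconj2 b d).mpr hb), if_pos hb]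
        · rw [if_neg (fun h => hb ((hconj2 b d).mp h)), if_neg hb]
          by_cases ha : a = 1
          · rw [if_pos ((hconj1 a c).mpr ha), if_pos ha]
          · rw [if_neg (fun h => ha ((hconj1 a c).mp h)), if_neg ha]
      · rintro ⟨a, b⟩ hab
        show W4c6brauerbgmalle.toQmodZ (w (a, b)) = χ (Additive.ofMul (a, b))
        rw [hχ, hw]
        rcases hab with ⟨g, hg, hge⟩ | ⟨g, hg, hge⟩
        · have hga : g = a := congrArg Prod.fst hge
          have hb1 : (1 : G₂) = b := congrArg Prod.snd hge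
          subst hga
          subst hb1
          rw [if_pos rfl, ofMul_one, map_zero, add_zero]
          exact a4 g hg
        · have ha1 : (1 : G₁) = a := congrArg Prod.fst hge
          have hgb : g = b := congrArg Prod.snd hge
          subst ha1
          subst hgb
          by_cases hg1 : g = 1
          · rw [if_pos hg1, a1, map_zero, ofMul_one, map_zero, zero_add, hg1, ofMul_one,
              map_zero]
          · rw [if_neg hg1, if_pos rfl, ofMul_one, map_zero, zero_add]
            exact b4 g hg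
    · refine Prod.ext (Prod.ext ?_ ?_) (Prod.ext ?_ ?_)
      · refine AddMonoidHom.ext (fun x => ?_)
        obtain ⟨a, rfl⟩ : ∃ a : G₁, Additive.ofMul a = x := ⟨Additive.toMul x, ofMul_toMul x⟩
        show χ (Additive.ofMul (a, (1 : G₂))) = χ₁ (Additive.ofMul a)
        rw [hχ, ofMul_one, map_zero, add_zero]
      · funext g
        show w (g, (1 : G₂)) = w₁ g
        rw [hw, if_pos rfl]
      · refine AddMonoidHom.ext (fun x => ?_)
        obtain ⟨b, rfl⟩ : ∃ b : G₂, Additive.ofMul b = x := ⟨Additive.toMul x, ofMul_toMul x⟩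
        show χ (Additive.ofMul ((1 : G₁), b)) = χ₂ (Additive.ofMul b)
        rw [hχ, ofMul_one, map_zero, zero_add]
      · funext g
        show w ((1 : G₁), g) = w₂ g
        rw [hw]
        by_cases hg : g = 1
        · rw [if_pos hg, a1, hg, b1]
        · rw [if_neg hg, if_pos rfl]

end Groth.Agent.S18953
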