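import Groth.Statements.S18954
import Mathlib

set_option autoImplicit false
universe u v w
open Classical
open BGCount

namespace Groth.Agent.S18954

theorem result {G : Type u} {X : Type v} (𝕜 : Type w)
    [Group G] [Fintype G] [MulAction G X] [Fintype X] [Field 𝕜] [CharZero 𝕜]
    (W : Finset (MulAction.orbitRel.Quotient G X)) (f : MulAction.orbitRel.Quotient G X → 𝕜) :
    (∑ O ∈ W, f O / (Nat.card (MulAction.stabilizer G O.out) : 𝕜)) =
      (Fintype.card G : 𝕜)⁻¹ *
        ∑ x ∈ Finset.univ.filter (fun x : X => (Quotient.mk (MulAction.orbitRel G X) x) ∈ W),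
          f (Quotient.mk (MulAction.orbitRel G X) x) := by
  have hfib : ∑ x ∈ Finset.univ.filter (fun x : X => (Quotient.mk (MulAction.orbitRel G X) x) ∈ W),
      f (Quotient.mk (MulAction.orbitRel G X) x) =
      ∑ O ∈ W, ∑ x ∈ (Finset.univ.filter
        (fun x : X => (Quotient.mk (MulAction.orbitRel G X) x) ∈ W)).filter
          (fun x => Quotient.mk (MulAction.orbitRel G X) x = O),
        f (Quotient.mk (MulAction.orbitRel G X) x) := by
    rw [Finset.sum_fiberwise_of_maps_to]
    intro x hx
    exact (Finset.mem_filter.mp hx).2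
  rw [hfib, Finset.mul_sum]
  apply Finset.sum_congr rfl
  intro O hO
  have hG : (Fintype.card G : 𝕜) ≠ 0 := by
    exact_mod_cast Fintype.card_ne_zero
  -- the fibre over `O` is the orbit of `O.out`
  have hfilter : (Finset.univ.filter
        (fun x : X => (Quotient.mk (MulAction.orbitRel G X) x) ∈ W)).filter
          (fun x => Quotient.mk (MulAction.orbitRel G X) x = O) =
      (MulAction.orbit G O.out).toFinset := by
    ext x
    simp only [Finset.mem_filter, Finset.mem_univ, true_and, Set.mem_toFinset]
    constructor
    · rintro ⟨_, h⟩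
      have : Quotient.mk (MulAction.orbitRel G X) x = Quotient.mk (MulAction.orbitRel G X) O.out := by
        rw [h, Quotient.out_eq]
      exact Quotient.exact this
    · intro h
      have : Quotient.mk (MulAction.orbitRel G X) x = O := by
        have h' : Quotient.mk (MulAction.orbitRel G X) x =
            Quotient.mk (MulAction.orbitRel G X) O.out := Quotient.sound h
        rw [h', Quotient.out_eq]
      exact ⟨this ▸ hO, this⟩
  rw [hfilter]
  have hsum : ∑ x ∈ (MulAction.orbit G O.out).toFinset, f (Quotient.mk (MulAction.orbitRel G X) x) =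
      (Fintype.card (MulAction.orbit G O.out) : 𝕜) * f O := by
    rw [← Set.toFinset_card, ← nsmul_eq_mul, ← Finset.sum_const]
    apply Finset.sum_congr rfl
    intro x hx
    rw [Set.mem_toFinset] at hx
    have h' : Quotient.mk (MulAction.orbitRel G X) x =
        Quotient.mk (MulAction.orbitRel G X) O.out := Quotient.sound hx
    rw [h', Quotient.out_eq]
  rw [hsum]
  have hos := MulAction.card_orbit_mul_card_stabilizer_eq_card_group G O.out
  have hst : (Nat.card (MulAction.stabilizer G O.out) : 𝕜) ≠ 0 := by
    rw [Nat.card_eq_fintype_card]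
    exact_mod_cast Fintype.card_ne_zero
  rw [div_eq_iff hst]
  have hos' : (Fintype.card (MulAction.orbit G O.out) : 𝕜) *
      (Nat.card (MulAction.stabilizer G O.out) : 𝕜) = (Fintype.card G : 𝕜) := by
    rw [Nat.card_eq_fintype_card]
    exact_mod_cast hos
  field_simp
  rw [← hos']
  ring

end Groth.Agent.S18954
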