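import Groth.Statements.S18957
import Groth.Agent.H28.CartPB

set_option autoImplicit false
universe u
open CategoryTheory MonoidalCategory CartesianMonoidalCategory MonObj AlgebraicGeometry Opposite
open Magnet

namespace Groth.Agent.S18957

/-- Let k be a field, M a monoid k-scheme with an action a on a k-scheme X, G a group k-scheme and i : G
→ M a homomorphism of monoids which is a quasi-compact open immersion with scheme-theoretically
dense image. Let j : Z → X be a closed immersion and b an action of G on Z for which j is
equivariant, G acting on X through i and a (a closed G-stable subscheme). Then the G-action on Z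
extends to an M-action making j equivariant: there is an action c of M on Z such that j is
equivariant for c and a and the restriction of c along i is b. (The published statement takes G to
be the group of units of M, schematically dense in M; here it is assumed only that i is a
homomorphism of monoids and a quasi-compact, scheme-theoretically dominant open immersion.) -/
theorem result (k : Type u) [Field k]
    (M G X Z : Over (Spec (CommRingCat.of k))) [MonObj M] [GrpObj G]
    (i : G ⟶ M) [IsMonHom i] [IsOpenImmersion i.left] [QuasiCompact i.left]
    [IsSchemeTheoreticallyDominant i.left]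
    (a : Magnet.MonAct M X) (b : AlgGrp.Action G Z) (j : Z ⟶ X) [IsClosedImmersion j.left]
    (hj : Magnet.MonAct.IsEquivariant (Magnet.MonAct.ofAction b) (a.restrict i) j) :
    ∃ c : Magnet.MonAct M Z, Magnet.MonAct.IsEquivariant c a j ∧ c.restrict i = Magnet.MonAct.ofAction b := by
  set f : M ⊗ Z ⟶ X := (M ◁ j) ≫ a.act with hf
  have hkey : (i ▷ Z) ≫ f = b.act ≫ j := by
    have h := hj
    unfold Magnet.MonAct.IsEquivariant at h
    rw [Magnet.MonAct.ofAction_act, Magnet.MonAct.restrict_act] at h
    rw [h, hf, ← whisker_exchange_assoc]
  have hpb : IsPullback (i ▷ Z).left (fst G Z).left (fst M Z).left i.left :=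
    (Groth.Agent.H28.CartPB.isPullback_whiskerRight i Z).map (Over.forget _)
  have hflat : Flat (fst M Z).left := by
    rw [Over.fst_left]; infer_instance
  have hSD : IsSchemeTheoreticallyDominant (i ▷ Z).left :=
    IsSchemeTheoreticallyDominant.of_isPullback hpb.flip
  have hker : j.left.ker ≤ f.left.ker := by
    have h1 : ((i ▷ Z).left ≫ f.left).ker = f.left.ker := by
      rw [Scheme.Hom.ker_comp, (i ▷ Z).left.ker_eq_bot, Scheme.IdealSheafData.map_bot]
    rw [← h1, ← Over.comp_left, hkey, Over.comp_left]
    exact Scheme.Hom.le_ker_comp _ _
  let cl : (M ⊗ Z).left ⟶ Z.left := IsClosedImmersion.lift j.left f.left hker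
  have hcl : cl ≫ j.left = f.left := IsClosedImmersion.lift_fac _ _ _
  have hmonol : Mono j.left := inferInstance
  have hmono : Mono j := Over.mono_of_mono_left j
  let cact : M ⊗ Z ⟶ Z := Over.homMk cl (by
    rw [← Over.w j, ← Category.assoc, hcl, Over.w f])
  have hcact : cact ≫ j = f := by
    ext
    exact hcl
  have hf' : ∀ (T : Over (Spec (CommRingCat.of k))) (g : T ⟶ M) (x : T ⟶ Z),
      lift g x ≫ cact ≫ j = lift g (x ≫ j) ≫ a.act := by
    intro T g x
    rw [hcact, hf, lift_whiskerLeft_assoc]
  let c : Magnet.MonAct M Z := Magnet.MonAct.mk' cact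
    (fun T x => by
      rw [← cancel_mono j, Category.assoc, hf', a.lift_one_act])
    (fun T g h x => by
      rw [← cancel_mono j, Category.assoc, hf', a.lift_mul_act, Category.assoc, hf', Category.assoc, hf'])
  refine ⟨c, ?_, ?_⟩
  · show cact ≫ j = (M ◁ j) ≫ a.act
    exact hcact
  · apply Magnet.MonAct.ext'
    rw [Magnet.MonAct.restrict_act, Magnet.MonAct.ofAction_act]
    show (i ▷ Z) ≫ cact = b.act
    rw [← cancel_mono j, Category.assoc, hcact, hkey]


end Groth.Agent.S18957
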