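import Groth.Statements.S18958
import Groth.Agent.H28.CartPB

set_option autoImplicit false
universe u
open CategoryTheory MonoidalCategory CartesianMonoidalCategory MonObj AlgebraicGeometry Opposite
open Magnet

namespace Groth.Agent.S18958

/-- Let k be a field, G a group k-scheme and M a monoid k-scheme with a homomorphism of monoids i : G →
M and a zero o : Spec k → M (m·o = o = o·m for every point m of M). Assume that for every k-scheme T
whose underlying scheme is the spectrum of a field K, every open subset of M ×_k T which is stable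
under G acting by left multiplication through i on the first factor and which contains the zero
section T → M ×_k T is the whole of M ×_k T. Let X be a k-scheme with an action aX of G and j : U →
X an open immersion, G-equivariant for an action aU of G on U (an open G-stable subscheme). For a
G-scheme W write D_W for the functor on k-schemes whose value at Y is the set of k-morphisms M ×_k Y
→ W that are G-equivariant for G acting on M ×_k Y by left multiplication through i on the first
factor. Then the square of presheaves formed by D_U → D_X (composition with j), the restrictions D_U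
→ U and D_X → X to the zero section of M, and j is cartesian. (In the source M is a Kempf monoid
with G its group of units, and the restriction to the zero section is viewed as the retraction of
D_X onto the fixed points X^G; the displayed property of the open G-stable subsets of M over field
extensions is what the argument uses about M, and the square over X^G is cartesian exactly when the
one over X is, U^G being X^G ×_X U.) -/
theorem result (k : Type u) [Field k]
    (M G X U : Over (Spec (CommRingCat.of k))) [MonObj M] [GrpObj G] (i : G ⟶ M) [IsMonHom i]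
    (o : 𝟙_ (Over (Spec (CommRingCat.of k))) ⟶ M)
    (ho : ∀ (T : Over (Spec (CommRingCat.of k))) (m : T ⟶ M), m * (toUnit T ≫ o) = toUnit T ≫ o ∧ (toUnit T ≫ o) * m = toUnit T ≫ o)
    (hM : ∀ (T : Over (Spec (CommRingCat.of k))) (K : Type u) [Field K] (eT : T.left ≅ Spec (CommRingCat.of K))
      (W : (M ⊗ T).left.Opens),
      (CartesianMonoidalCategory.snd G (M ⊗ T)).left ⁻¹ᵁ W ≤
          ((((Magnet.MonAct.regular M).restrict i).prod (Magnet.MonAct.trivial G T)).act).left ⁻¹ᵁ W →
      (CartesianMonoidalCategory.lift (toUnit T ≫ o) (𝟙 T)).left ⁻¹ᵁ W = ⊤ → W = ⊤)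
    (aX : AlgGrp.Action G X) (aU : AlgGrp.Action G U) (j : U ⟶ X) [IsOpenImmersion j.left]
    (hj : Magnet.MonAct.IsEquivariant (Magnet.MonAct.ofAction aU) (Magnet.MonAct.ofAction aX) j) :
    IsPullback
      (Magnet.MonAct.eqvHom.postcomp ((Magnet.MonAct.regular M).restrict i) j hj)
      (Magnet.MonAct.eqvHom.evalAt ((Magnet.MonAct.regular M).restrict i) (Magnet.MonAct.ofAction aU) o)
      (Magnet.MonAct.eqvHom.evalAt ((Magnet.MonAct.regular M).restrict i) (Magnet.MonAct.ofAction aX) o)
      (yoneda.map j) := by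
  have hmonol : Mono j.left := inferInstance
  have hmono : Mono j := Over.mono_of_mono_left j
  -- the open `V = range j` of `X` is `G`-stable
  have hV : (snd G X).left ⁻¹ᵁ j.left.opensRange ≤ aX.act.left ⁻¹ᵁ j.left.opensRange := by
    intro y hy
    obtain ⟨u, hu⟩ := hy
    have sqU : IsPullback (G ◁ j).left (snd G U).left (snd G X).left j.left :=
      (Groth.Agent.H28.CartPB.isPullback_whiskerLeft G j).map (Over.forget _)
    obtain ⟨y', hy1, hy2⟩ := Groth.Agent.H28.CartPB.exists_preimage_of_isPullback sqU y u hu.symm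
    show aX.act.left y ∈ j.left.opensRange
    have e0 : (G ◁ j) ≫ aX.act = aU.act ≫ j := hj.symm
    rw [← hy1, ← Scheme.Hom.comp_apply, ← Over.comp_left, e0, Over.comp_left,
      Scheme.Hom.comp_apply]
    exact ⟨_, rfl⟩
  -- for every equivariant family, the preimage of `V` is `G`-stable
  have hstab : ∀ (T₀ : Over (Spec (CommRingCat.of k)))
      (χ₀ : (Magnet.MonAct.eqvHom ((Magnet.MonAct.regular M).restrict i)
        (Magnet.MonAct.ofAction aX)).obj (op T₀)),
      (snd G (M ⊗ T₀)).left ⁻¹ᵁ (χ₀.1.left ⁻¹ᵁ j.left.opensRange) ≤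
        ((((Magnet.MonAct.regular M).restrict i).prod (Magnet.MonAct.trivial G T₀)).act).left ⁻¹ᵁ
          (χ₀.1.left ⁻¹ᵁ j.left.opensRange) := by
    intro T₀ χ₀ y hy
    show χ₀.1.left (((((Magnet.MonAct.regular M).restrict i).prod
      (Magnet.MonAct.trivial G T₀)).act).left y) ∈ j.left.opensRange
    have e1 : (((Magnet.MonAct.regular M).restrict i).prod (Magnet.MonAct.trivial G T₀)).act ≫ χ₀.1 =
        (G ◁ χ₀.1) ≫ aX.act := χ₀.2
    have e2 : (G ◁ χ₀.1) ≫ snd G X = snd G (M ⊗ T₀) ≫ χ₀.1 := whiskerLeft_snd _ _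
    rw [← Scheme.Hom.comp_apply, ← Over.comp_left, e1, Over.comp_left, Scheme.Hom.comp_apply]
    apply hV
    show (snd G X).left ((G ◁ χ₀.1).left y) ∈ j.left.opensRange
    rw [← Scheme.Hom.comp_apply, ← Over.comp_left, e2, Over.comp_left, Scheme.Hom.comp_apply]
    exact hy
  apply IsPullback.of_forall_isPullback_app
  intro T
  rw [CategoryTheory.Limits.Types.isPullback_iff]
  refine ⟨?_, ?_, ?_⟩
  · ext φ
    show lift (toUnit (unop T) ≫ o) (𝟙 (unop T)) ≫ (φ.1 ≫ j) =
      (lift (toUnit (unop T) ≫ o) (𝟙 (unop T)) ≫ φ.1) ≫ j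
    rw [Category.assoc]
  · rintro φ₁ φ₂ ⟨h1, -⟩
    apply Subtype.ext
    have h2 : φ₁.1 ≫ j = φ₂.1 ≫ j := congrArg Subtype.val h1
    exact (cancel_mono j).mp h2
  · intro χ z hχz
    have hχz' : lift (toUnit (unop T) ≫ o) (𝟙 (unop T)) ≫ χ.1 = z ≫ j := hχz
    have hrange : Set.range χ.1.left ⊆ Set.range j.left := by
      rintro _ ⟨x, rfl⟩
      -- the residue field point below `x`
      let t₀ : (unop T).left := (snd M (unop T)).left x
      let T₀ : Over (Spec (CommRingCat.of k)) :=
        Over.mk ((unop T).left.fromSpecResidueField t₀ ≫ (unop T).hom)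
      let τ : T₀ ⟶ unop T := Over.homMk ((unop T).left.fromSpecResidueField t₀) rfl
      let χ₀ := (Magnet.MonAct.eqvHom ((Magnet.MonAct.regular M).restrict i)
        (Magnet.MonAct.ofAction aX)).map τ.op χ
      have hχ₀ : χ₀.1 = (M ◁ τ) ≫ χ.1 := rfl
      have hzero : (lift (toUnit T₀ ≫ o) (𝟙 T₀)).left ⁻¹ᵁ (χ₀.1.left ⁻¹ᵁ j.left.opensRange) = ⊤ := by
        rw [eq_top_iff]
        intro s _
        show χ₀.1.left ((lift (toUnit T₀ ≫ o) (𝟙 T₀)).left s) ∈ j.left.opensRange
        have e3 : lift (toUnit T₀ ≫ o) (𝟙 T₀) ≫ χ₀.1 = (τ ≫ z) ≫ j := by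
          rw [hχ₀, lift_whiskerLeft_assoc, Category.id_comp, Category.assoc, ← hχz',
            ← Category.assoc, comp_lift, Category.comp_id, ← Category.assoc,
            toUnit_unique (τ ≫ toUnit (unop T)) (toUnit T₀)]
        rw [← Scheme.Hom.comp_apply, ← Over.comp_left, e3, Over.comp_left, Scheme.Hom.comp_apply]
        exact ⟨_, rfl⟩
      have htop := hM T₀ ((unop T).left.residueField t₀) (Iso.refl _)
        (χ₀.1.left ⁻¹ᵁ j.left.opensRange) (hstab T₀ χ₀) hzero
      have sqτ : IsPullback (M ◁ τ).left (snd M T₀).left (snd M (unop T)).left τ.left :=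
        (Groth.Agent.H28.CartPB.isPullback_whiskerLeft M τ).map (Over.forget _)
      obtain ⟨s⟩ : Nonempty (Spec ((unop T).left.residueField t₀)) := inferInstance
      obtain ⟨x₀, hx1, hx2⟩ := Groth.Agent.H28.CartPB.exists_preimage_of_isPullback sqτ x s
        ((Scheme.fromSpecResidueField_apply t₀ s).symm)
      have hx₀ : x₀ ∈ χ₀.1.left ⁻¹ᵁ j.left.opensRange := by rw [htop]; trivial
      have hx₀' : χ₀.1.left x₀ ∈ j.left.opensRange := hx₀
      rw [hχ₀, Over.comp_left, Scheme.Hom.comp_apply, hx1] at hx₀'
      exact hx₀'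
    let cl : (M ⊗ unop T).left ⟶ U.left := IsOpenImmersion.lift j.left χ.1.left hrange
    have hcl : cl ≫ j.left = χ.1.left := IsOpenImmersion.lift_fac _ _ _
    let φ : M ⊗ unop T ⟶ U := Over.homMk cl (by
      rw [← Over.w j, ← Category.assoc, hcl, Over.w χ.1])
    have hφ : φ ≫ j = χ.1 := by
      ext
      exact hcl
    have hφeq : Magnet.MonAct.IsEquivariant
        (((Magnet.MonAct.regular M).restrict i).prod (Magnet.MonAct.trivial G (unop T)))
        (Magnet.MonAct.ofAction aU) φ := by
      have h3 := χ.2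
      unfold Magnet.MonAct.IsEquivariant at h3 hj ⊢
      rw [← cancel_mono j, Category.assoc, hφ, h3, Category.assoc, hj, ← hφ,
        MonoidalCategory.whiskerLeft_comp, Category.assoc]
    refine ⟨⟨φ, hφeq⟩, Subtype.ext hφ, ?_⟩
    show lift (toUnit (unop T) ≫ o) (𝟙 (unop T)) ≫ φ = z
    rw [← cancel_mono j, Category.assoc, hφ, hχz']

end Groth.Agent.S18958
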