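import Groth.Statements.S18960
import Mathlib

set_option autoImplicit false
universe w' w v u
open CategoryTheory Limits
open CatLim

namespace Groth.Agent.S18960

variable {C : Type u} [Category.{v} C] (T : C ⥤ C)
  {J : Type w} [Category.{w'} J] [PreservesColimitsOfShape J T]

/-- the property "the structure map is an isomorphism" -/
abbrev P : ObjectProperty (Endofunctor.Algebra T) := fun A => IsIso A.str

/-- the forgetful functor -/
abbrev G : (P T).FullSubcategory ⥤ C := (P T).ι ⋙ Endofunctor.Algebra.forget T

section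
variable {T}
variable (K : J ⥤ (P T).FullSubcategory) (c : Cocone (K ⋙ G T)) (t : IsColimit c)

/-- carrier of `K j` -/
abbrev Kobj (j : J) : C := (K.obj j).obj.a
/-- structure map of `K j` -/
abbrev Kstr (j : J) : T.obj (Kobj K j) ⟶ Kobj K j := (K.obj j).obj.str
/-- underlying map of `K f` -/
abbrev Kmap {j j' : J} (f : j ⟶ j') : Kobj K j ⟶ Kobj K j' := (K.map f).hom.f
/-- legs of the cocone -/
abbrev cι (j : J) : Kobj K j ⟶ c.pt := c.ι.app j

omit [PreservesColimitsOfShape J T] in
lemma Kstr_isIso (j : J) : IsIso (Kstr K j) := (K.obj j).property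

omit [PreservesColimitsOfShape J T] in
lemma Kmap_h {j j' : J} (f : j ⟶ j') : T.map (Kmap K f) ≫ Kstr K j' = Kstr K j ≫ Kmap K f :=
  (K.map f).hom.h

omit [PreservesColimitsOfShape J T] in
lemma cι_w {j j' : J} (f : j ⟶ j') : Kmap K f ≫ cι K c j' = cι K c j := c.w f

/-- the cocone inducing the structure morphism on the colimit -/
def strCocone : Cocone ((K ⋙ G T) ⋙ T) where
  pt := c.pt
  ι :=
    { app := fun j => Kstr K j ≫ cι K c j
      naturality := fun j j' f => by
        show T.map (Kmap K f) ≫ Kstr K j' ≫ cι K c j' = (Kstr K j ≫ cι K c j) ≫ 𝟙 _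
        rw [Category.comp_id, ← Category.assoc, Kmap_h, Category.assoc, cι_w] }

/-- the structure map on the colimit -/
noncomputable def colimStr : T.obj c.pt ⟶ c.pt :=
  (isColimitOfPreserves T t).desc (strCocone K c)

lemma map_ι_colimStr (j : J) :
    T.map (cι K c j) ≫ colimStr K c t = Kstr K j ≫ cι K c j :=
  (isColimitOfPreserves T t).fac (strCocone K c) j

/-- inverse of the structure map of `K j` -/
noncomputable abbrev Kinv (j : J) : Kobj K j ⟶ T.obj (Kobj K j) :=
  @inv _ _ _ _ (Kstr K j) (Kstr_isIso K j)

/-- the cocone inducing the inverse of the structure morphism -/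
noncomputable def invCocone : Cocone (K ⋙ G T) where
  pt := T.obj c.pt
  ι :=
    { app := fun j => Kinv K j ≫ T.map (cι K c j)
      naturality := fun j j' f => by
        haveI := Kstr_isIso K j
        haveI := Kstr_isIso K j'
        show Kmap K f ≫ inv (Kstr K j') ≫ T.map (cι K c j') =
          (inv (Kstr K j) ≫ T.map (cι K c j)) ≫ 𝟙 _
        rw [Category.comp_id, IsIso.eq_inv_comp, ← Category.assoc, ← Kmap_h, Category.assoc,
          IsIso.hom_inv_id_assoc, ← T.map_comp, cι_w] }

/-- the inverse of the structure map -/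
noncomputable def invMap : c.pt ⟶ T.obj c.pt := t.desc (invCocone K c)

omit [PreservesColimitsOfShape J T] in
lemma invMap_fac (j : J) :
    cι K c j ≫ invMap K c t = Kinv K j ≫ T.map (cι K c j) :=
  t.fac (invCocone K c) j

lemma colimStr_isIso : IsIso (colimStr K c t) := by
  refine ⟨invMap K c t, ?_, ?_⟩
  · apply (isColimitOfPreserves T t).hom_ext
    intro j
    haveI := Kstr_isIso K j
    show T.map (cι K c j) ≫ colimStr K c t ≫ invMap K c t = T.map (cι K c j) ≫ 𝟙 _
    rw [← Category.assoc, map_ι_colimStr, Category.assoc, invMap_fac]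
    show Kstr K j ≫ inv (Kstr K j) ≫ T.map (cι K c j) = _
    rw [IsIso.hom_inv_id_assoc, Category.comp_id]
  · apply t.hom_ext
    intro j
    haveI := Kstr_isIso K j
    show cι K c j ≫ invMap K c t ≫ colimStr K c t = cι K c j ≫ 𝟙 _
    rw [← Category.assoc, invMap_fac, Category.assoc, map_ι_colimStr]
    show inv (Kstr K j) ≫ Kstr K j ≫ cι K c j = _
    rw [IsIso.inv_hom_id_assoc, Category.comp_id]

/-- the lifted colimit algebra -/
noncomputable def liftPt : (P T).FullSubcategory :=
  ⟨⟨c.pt, colimStr K c t⟩, colimStr_isIso K c t⟩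

/-- the lifted cocone -/
noncomputable def liftCocone : Cocone K where
  pt := liftPt K c t
  ι :=
    { app := fun j => ObjectProperty.homMk ⟨cι K c j, map_ι_colimStr K c t j⟩
      naturality := fun j j' f => by
        apply ObjectProperty.hom_ext
        apply Endofunctor.Algebra.Hom.ext
        show Kmap K f ≫ cι K c j' = cι K c j ≫ 𝟙 _
        rw [Category.comp_id, cι_w] }

/-- the underlying map of the descent morphism -/
noncomputable def descMap (s : Cocone K) : c.pt ⟶ s.pt.obj.a := t.desc ((G T).mapCocone s)

omit [PreservesColimitsOfShape J T] in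
lemma desc_fac (s : Cocone K) (j : J) :
    cι K c j ≫ descMap K c t s = (s.ι.app j).hom.f :=
  t.fac ((G T).mapCocone s) j

/-- the lifted cocone is a colimit -/
noncomputable def liftIsColimit : IsColimit (liftCocone K c t) where
  desc := fun s => ObjectProperty.homMk
    ⟨descMap K c t s, by
      apply (isColimitOfPreserves T t).hom_ext
      intro j
      have h3 : T.map (s.ι.app j).hom.f ≫ s.pt.obj.str = Kstr K j ≫ (s.ι.app j).hom.f :=
        (s.ι.app j).hom.h
      show T.map (cι K c j) ≫ T.map (descMap K c t s) ≫ s.pt.obj.str =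
        T.map (cι K c j) ≫ colimStr K c t ≫ descMap K c t s
      rw [← Category.assoc, ← T.map_comp, desc_fac, h3, ← Category.assoc, map_ι_colimStr,
        Category.assoc, desc_fac]⟩
  fac := fun s j => by
    apply ObjectProperty.hom_ext
    apply Endofunctor.Algebra.Hom.ext
    exact desc_fac K c t s j
  uniq := fun s m hm => by
    apply ObjectProperty.hom_ext
    apply Endofunctor.Algebra.Hom.ext
    apply t.hom_ext
    intro j
    have h3 : cι K c j ≫ m.hom.f = (s.ι.app j).hom.f := congrArg (fun φ => φ.hom.f) (hm j)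
    show cι K c j ≫ m.hom.f = cι K c j ≫ descMap K c t s
    rw [desc_fac, h3]

end

theorem result {C : Type u} [Category.{v} C] (T : C ⥤ C)
    (J : Type w) [Category.{w'} J] [PreservesColimitsOfShape J T] :
    Nonempty (CreatesColimitsOfShape J
      ((ObjectProperty.ι (fun A : Endofunctor.Algebra T => IsIso A.str)) ⋙ Endofunctor.Algebra.forget T)) := by
  refine ⟨⟨fun {K} => ?_⟩⟩
  exact createsColimitOfReflectsIso (fun c t =>
    { liftedCocone := liftCocone K c t
      validLift := Cocone.ext (Iso.refl _) (fun j => by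
        show cι K c j ≫ 𝟙 _ = c.ι.app j
        rw [Category.comp_id])
      makesColimit := liftIsColimit K c t })

end Groth.Agent.S18960
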