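import Groth.Statements.S18974
import Mathlib

set_option autoImplicit false
universe u
open CAlg

namespace Groth.Agent.S18974


open Polynomial

section Aux
variable {A : Type u} [CommRing A] [Algebra ℚ A] (D : Derivation ℚ A A)

/-- iterated derivation -/
def dn (n : ℕ) (x : A) : A := ((D : A →ₗ[ℚ] A) ^ n) x

theorem dn_zero (x : A) : dn D 0 x = x := by
  unfold dn
  rw [pow_zero]
  rfl

theorem dn_succ (n : ℕ) (x : A) : dn D (n + 1) x = D (dn D n x) := by
  unfold dn
  rw [pow_succ', Module.End.mul_apply]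
  rfl

theorem dn_succ' (n : ℕ) (x : A) : dn D (n + 1) x = dn D n (D x) := by
  unfold dn
  rw [pow_succ, Module.End.mul_apply]
  rfl

theorem dn_add (n : ℕ) (x y : A) : dn D n (x + y) = dn D n x + dn D n y := by
  unfold dn
  exact map_add _ _ _

theorem dn_map_zero (n : ℕ) : dn D n 0 = 0 := by
  unfold dn
  exact map_zero _

theorem dn_add_eq_zero {N : ℕ} {x : A} (hx : dn D N x = 0) (m : ℕ) : dn D (N + m) x = 0 := by
  induction m with
  | zero => exact hx
  | succ m ih => rw [← add_assoc, dn_succ, ih, map_zero]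

theorem dn_eq_zero_of_le {N n : ℕ} {x : A} (hx : dn D N x = 0) (h : N ≤ n) : dn D n x = 0 := by
  obtain ⟨m, rfl⟩ := Nat.exists_eq_add_of_le h
  exact dn_add_eq_zero D hx m

theorem mk_smul_rat (I : Ideal A) (c : ℚ) (y : A) :
    Ideal.Quotient.mk I (c • y) = c • Ideal.Quotient.mk I y := rfl

theorem cancel_nat (n : ℕ) (u v : A) (h : u * ((n : A) + 1) = v * ((n : A) + 1)) : u = v := by
  have h0 : ((n : ℚ) + 1) ≠ 0 := by positivity
  have h1 : ((n : A) + 1) * algebraMap ℚ A (((n : ℚ) + 1)⁻¹) = 1 := by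
    rw [show ((n : A) + 1) = algebraMap ℚ A ((n : ℚ) + 1) by rw [map_add, map_natCast, map_one],
      ← map_mul, mul_inv_cancel₀ h0, map_one]
  calc u = u * (((n : A) + 1) * algebraMap ℚ A (((n : ℚ) + 1)⁻¹)) := by rw [h1, mul_one]
    _ = v * (((n : A) + 1) * algebraMap ℚ A (((n : ℚ) + 1)⁻¹)) := by rw [← mul_assoc, h, mul_assoc]
    _ = v := by rw [h1, mul_one]

theorem eval_eq_sum_range_of_coeff (P : A[X]) (N : ℕ) (h : ∀ n, N ≤ n → P.coeff n = 0) (b : A) :
    P.eval b = ∑ n ∈ Finset.range N, P.coeff n * b ^ n := by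
  have hP : P = ∑ n ∈ Finset.range N, monomial n (P.coeff n) := by
    ext m
    rw [finset_sum_coeff]
    simp only [coeff_monomial]
    rw [Finset.sum_ite_eq']
    split_ifs with hm
    · rfl
    · rw [Finset.mem_range, not_lt] at hm
      exact h m hm
  conv_lhs => rw [hP]
  rw [eval_finset_sum]
  simp only [eval_monomial]

theorem term_eq (c : ℚ) (y b : A) (n : ℕ) :
    (c • y) * (-b) ^ n = (((-1 : ℚ) ^ n * c)) • (y * b ^ n) := by
  rw [neg_pow, Algebra.smul_def, Algebra.smul_def, map_mul, map_pow, map_neg, map_one]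
  ring

theorem c_rel (M : ℕ) : ((-1 : ℚ) ^ M * (M.factorial : ℚ)⁻¹) =
    -(((M : ℚ) + 1)) * ((-1 : ℚ) ^ (M + 1) * ((M + 1).factorial : ℚ)⁻¹) := by
  have hf : ((M.factorial : ℚ)) ≠ 0 := Nat.cast_ne_zero.mpr (Nat.factorial_ne_zero M)
  have hn : ((M : ℚ) + 1) ≠ 0 := by positivity
  rw [pow_succ, Nat.factorial_succ, Nat.cast_mul, Nat.cast_add, Nat.cast_one]
  first
    | (field_simp; ring)
    | field_simp

variable (hnil : ∀ x : A, ∃ n : ℕ, dn D n x = 0)

/-- the exponential of the derivation -/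
noncomputable def E (x : A) : A[X] :=
  ∑ n ∈ Finset.range (Classical.choose (hnil x)), monomial n (((n.factorial : ℚ)⁻¹) • dn D n x)

theorem coeff_E (x : A) (n : ℕ) : (E D hnil x).coeff n = ((n.factorial : ℚ)⁻¹) • dn D n x := by
  unfold E
  rw [finset_sum_coeff]
  simp only [coeff_monomial]
  rw [Finset.sum_ite_eq']
  split_ifs with h
  · rfl
  · rw [Finset.mem_range, not_lt] at h
    rw [dn_eq_zero_of_le D (Classical.choose_spec (hnil x)) h, smul_zero]

theorem E_add (x y : A) : E D hnil (x + y) = E D hnil x + E D hnil y := by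
  ext n
  rw [coeff_add, coeff_E, coeff_E, coeff_E, dn_add, smul_add]

theorem E_zero : E D hnil 0 = 0 := by
  ext n
  rw [coeff_E, dn_map_zero, smul_zero, coeff_zero]

theorem E_one : E D hnil 1 = 1 := by
  ext n
  rw [coeff_E]
  rcases n with _ | m
  · rw [dn_zero, Nat.factorial_zero, Nat.cast_one, inv_one, one_smul, coeff_one_zero]
  · rw [dn_succ', Derivation.map_one_eq_zero, dn_map_zero, smul_zero, coeff_one,
      if_neg (Nat.succ_ne_zero m)]

theorem derivative_E (x : A) : derivative (E D hnil x) = E D hnil (D x) := by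
  ext n
  rw [coeff_derivative, coeff_E, coeff_E, dn_succ']
  have h1 : ((n : A) + 1) = algebraMap ℚ A ((n : ℚ) + 1) := by
    rw [map_add, map_natCast, map_one]
  rw [h1, mul_comm, ← Algebra.smul_def, smul_smul]
  congr 1
  have hf : ((n.factorial : ℚ)) ≠ 0 := Nat.cast_ne_zero.mpr (Nat.factorial_ne_zero n)
  have hn : ((n : ℚ) + 1) ≠ 0 := by positivity
  rw [Nat.factorial_succ, Nat.cast_mul, Nat.cast_add, Nat.cast_one]
  first
    | (field_simp; ring)
    | field_simp

theorem coeff_E_mul : ∀ (n : ℕ) (x y : A),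
    (E D hnil (x * y)).coeff n = (E D hnil x * E D hnil y).coeff n := by
  intro n
  induction n with
  | zero =>
    intro x y
    rw [mul_coeff_zero, coeff_E, coeff_E, coeff_E, dn_zero, dn_zero, dn_zero, Nat.factorial_zero,
      Nat.cast_one, inv_one, one_smul, one_smul, one_smul]
  | succ n ih =>
    intro x y
    apply cancel_nat n
    rw [← coeff_derivative, ← coeff_derivative, derivative_E, derivative_mul, derivative_E,
      derivative_E, Derivation.leibniz, smul_eq_mul, smul_eq_mul, E_add, coeff_add, coeff_add,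
      ih, ih, mul_comm (E D hnil y) (E D hnil (D x))]
    exact add_comm _ _

theorem E_mul (x y : A) : E D hnil (x * y) = E D hnil x * E D hnil y :=
  Polynomial.ext fun n => coeff_E_mul D hnil n x y

/-- the exponential as a ring hom -/
noncomputable def Ehom : A →+* A[X] where
  toFun := E D hnil
  map_one' := E_one D hnil
  map_mul' := E_mul D hnil
  map_zero' := E_zero D hnil
  map_add' := E_add D hnil

variable (a : A)

noncomputable def chi0 : A →+* (A ⧸ Ideal.span ({a} : Set A))[X] :=
  (mapRingHom (Ideal.Quotient.mk (Ideal.span ({a} : Set A)))).comp (Ehom D hnil)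

theorem coeff_chi0 (x : A) (n : ℕ) : (chi0 D hnil a x).coeff n =
    Ideal.Quotient.mk (Ideal.span ({a} : Set A)) (((n.factorial : ℚ)⁻¹) • dn D n x) := by
  show ((E D hnil x).map _).coeff n = _
  rw [coeff_map, coeff_E]

noncomputable def pi0 : A →+* A := (evalRingHom (-a)).comp (Ehom D hnil)

theorem pi0_apply (x : A) : pi0 D hnil a x = (E D hnil x).eval (-a) := rfl

theorem pi0_sum (x : A) (N : ℕ) (hN : dn D N x = 0) :
    pi0 D hnil a x =
      ∑ n ∈ Finset.range N, (((-1 : ℚ) ^ n * (n.factorial : ℚ)⁻¹)) • (dn D n x * a ^ n) := by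
  rw [pi0_apply, eval_eq_sum_range_of_coeff (E D hnil x) N
    (fun n hn => by rw [coeff_E, dn_eq_zero_of_le D hN hn, smul_zero])]
  refine Finset.sum_congr rfl fun n _ => ?_
  rw [coeff_E, term_eq]

theorem sum_D_term (ha : D a = 1) (x : A) (M : ℕ) :
    ∑ n ∈ Finset.range (M + 1),
        D ((((-1 : ℚ) ^ n * (n.factorial : ℚ)⁻¹)) • (dn D n x * a ^ n)) =
      (((-1 : ℚ) ^ M * (M.factorial : ℚ)⁻¹)) • (dn D (M + 1) x * a ^ M) := by
  induction M with
  | zero =>
    simp only [Finset.sum_range_one, Derivation.map_smul, Derivation.leibniz, pow_zero,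
      Derivation.map_one_eq_zero, smul_zero, zero_add, one_smul, mul_one, dn_succ, dn_zero]
  | succ M ih =>
    rw [Finset.sum_range_succ, ih, Derivation.map_smul, Derivation.leibniz, Derivation.leibniz_pow, ha,
      Nat.add_sub_cancel, c_rel M, dn_succ D (M + 1) x]
    simp only [smul_eq_mul, nsmul_eq_mul]
    simp only [Algebra.smul_def, map_mul, map_neg, map_add, map_natCast, map_one]
    push_cast
    ring

theorem D_pi0 (ha : D a = 1) (x : A) : D (pi0 D hnil a x) = 0 := by
  obtain ⟨N, hN⟩ := hnil x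
  rw [pi0_sum D hnil a x N hN, map_sum]
  rcases N with _ | M
  · rw [Finset.sum_range_zero]
  · rw [sum_D_term D a ha x M, hN, zero_mul, smul_zero]

theorem pi0_of_D_eq_zero (w : A) (hw : D w = 0) : pi0 D hnil a w = w := by
  have h1 : dn D 1 w = 0 := by rw [dn_succ, dn_zero, hw]
  rw [pi0_sum D hnil a w 1 h1]
  simp only [Finset.sum_range_one, pow_zero, Nat.factorial_zero, Nat.cast_one, inv_one, mul_one,
    one_smul, dn_zero]

theorem pi0_a (ha : D a = 1) : pi0 D hnil a a = 0 := by
  have h1 : dn D 1 a = 1 := by rw [dn_succ, dn_zero, ha]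
  have h2 : dn D 2 a = 0 := by rw [dn_succ, h1, Derivation.map_one_eq_zero]
  rw [pi0_sum D hnil a a 2 h2, Finset.sum_range_succ, Finset.sum_range_one]
  simp only [pow_zero, pow_one, Nat.factorial_zero, Nat.factorial_one, Nat.cast_one, inv_one,
    mul_one, one_smul, dn_zero, h1, one_mul, neg_smul, add_neg_cancel]

theorem mk_pi0 (x : A) : Ideal.Quotient.mk (Ideal.span ({a} : Set A)) (pi0 D hnil a x) =
    Ideal.Quotient.mk (Ideal.span ({a} : Set A)) x := by
  have h := Polynomial.hom_eval₂ (E D hnil x) (RingHom.id A)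
    (Ideal.Quotient.mk (Ideal.span ({a} : Set A))) (-a)
  have h0 : Ideal.Quotient.mk (Ideal.span ({a} : Set A)) (-a) = 0 := by
    rw [map_neg, Ideal.Quotient.eq_zero_iff_mem.mpr (Ideal.mem_span_singleton_self a), neg_zero]
  rw [h0, RingHom.comp_id, Polynomial.eval₂_at_zero, coeff_E, dn_zero, Nat.factorial_zero,
    Nat.cast_one, inv_one, one_smul] at h
  exact h

noncomputable def pibar (ha : D a = 1) : (A ⧸ Ideal.span ({a} : Set A)) →+* A :=
  Ideal.Quotient.lift (Ideal.span ({a} : Set A)) (pi0 D hnil a) (by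
    intro z hz
    obtain ⟨r, rfl⟩ := Ideal.mem_span_singleton'.mp hz
    rw [map_mul, pi0_a D hnil a ha, mul_zero])

theorem pibar_mk (ha : D a = 1) (x : A) :
    pibar D hnil a ha (Ideal.Quotient.mk (Ideal.span ({a} : Set A)) x) = pi0 D hnil a x :=
  Ideal.Quotient.lift_mk _ _ _

noncomputable def psi (ha : D a = 1) : (A ⧸ Ideal.span ({a} : Set A))[X] →+* A :=
  eval₂RingHom (pibar D hnil a ha) a

theorem psi_C (ha : D a = 1) (c : A ⧸ Ideal.span ({a} : Set A)) :
    psi D hnil a ha (C c) = pibar D hnil a ha c := eval₂_C _ _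

theorem psi_X (ha : D a = 1) : psi D hnil a ha X = a := eval₂_X _ _

theorem chi0_pi0 (ha : D a = 1) (x : A) :
    chi0 D hnil a (pi0 D hnil a x) = C (Ideal.Quotient.mk (Ideal.span ({a} : Set A)) x) := by
  ext n
  rw [coeff_chi0, coeff_C]
  rcases n with _ | m
  · rw [if_pos rfl, dn_zero, Nat.factorial_zero, Nat.cast_one, inv_one, one_smul, mk_pi0]
  · rw [if_neg (Nat.succ_ne_zero m), dn_succ', D_pi0 D hnil a ha, dn_map_zero, smul_zero, map_zero]

theorem chi0_a (ha : D a = 1) : chi0 D hnil a a = X := by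
  ext n
  rw [coeff_chi0, coeff_X]
  rcases n with _ | _ | m
  · rw [if_neg (by norm_num), dn_zero, Nat.factorial_zero, Nat.cast_one, inv_one, one_smul,
      Ideal.Quotient.eq_zero_iff_mem.mpr (Ideal.mem_span_singleton_self a)]
  · rw [if_pos rfl, dn_succ, dn_zero, ha, Nat.factorial_one, Nat.cast_one, inv_one, one_smul,
      map_one]
  · rw [if_neg (by omega), dn_succ', dn_succ', ha, Derivation.map_one_eq_zero, dn_map_zero,
      smul_zero, map_zero]

theorem chi0_psi (ha : D a = 1) (p : (A ⧸ Ideal.span ({a} : Set A))[X]) :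
    chi0 D hnil a (psi D hnil a ha p) = p := by
  have h : (chi0 D hnil a).comp (psi D hnil a ha) = RingHom.id _ := by
    apply Polynomial.ringHom_ext
    · intro c
      obtain ⟨x, rfl⟩ := Ideal.Quotient.mk_surjective c
      rw [RingHom.comp_apply, psi_C, pibar_mk, chi0_pi0 D hnil a ha, RingHom.id_apply]
    · rw [RingHom.comp_apply, psi_X, chi0_a D hnil a ha, RingHom.id_apply]
  exact RingHom.congr_fun h p

theorem chi0_D (x : A) : chi0 D hnil a (D x) = derivative (chi0 D hnil a x) := by
  show (E D hnil (D x)).map _ = derivative ((E D hnil x).map _)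
  rw [derivative_map, derivative_E]

theorem chi0_injective (ha : D a = 1) : Function.Injective (chi0 D hnil a) := by
  rw [injective_iff_map_eq_zero]
  have key : ∀ N : ℕ, ∀ x : A, dn D N x = 0 → chi0 D hnil a x = 0 → x = 0 := by
    intro N
    induction N with
    | zero =>
      intro x hx _
      rwa [dn_zero] at hx
    | succ N ih =>
      intro x hx hχ
      have hDx : D x = 0 := by
        apply ih (D x)
        · rw [← dn_succ']
          exact hx
        · rw [chi0_D, hχ, derivative_zero]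
      have h1 : pi0 D hnil a x = x := pi0_of_D_eq_zero D hnil a x hDx
      have h2 : Ideal.Quotient.mk (Ideal.span ({a} : Set A)) x = 0 := by
        have h3 := coeff_chi0 D hnil a x 0
        rw [hχ, coeff_zero, dn_zero, Nat.factorial_zero, Nat.cast_one, inv_one, one_smul] at h3
        exact h3.symm
      rw [← h1, ← pibar_mk D hnil a ha, h2, map_zero]
  intro x hx
  obtain ⟨N, hN⟩ := hnil x
  exact key N x hN hx

theorem chi0_sum (x : A) (N : ℕ) (hN : dn D N x = 0) :
    chi0 D hnil a x = ∑ n ∈ Finset.range N,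
      (((n.factorial : ℚ)⁻¹) • C (Ideal.Quotient.mk (Ideal.span ({a} : Set A)) (dn D n x))) *
        X ^ n := by
  ext m
  rw [coeff_chi0, finset_sum_coeff]
  have hterm : ∀ n ∈ Finset.range N,
      ((((n.factorial : ℚ)⁻¹) • C (Ideal.Quotient.mk (Ideal.span ({a} : Set A)) (dn D n x))) *
        X ^ n).coeff m =
      if n = m then Ideal.Quotient.mk (Ideal.span ({a} : Set A)) (((n.factorial : ℚ)⁻¹) • dn D n x)
        else 0 := by
    intro n _
    rw [smul_C, C_mul_X_pow_eq_monomial, coeff_monomial, mk_smul_rat]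
  rw [Finset.sum_congr rfl hterm, Finset.sum_ite_eq']
  split_ifs with hm
  · rfl
  · rw [Finset.mem_range, not_lt] at hm
    rw [dn_eq_zero_of_le D hN hm, smul_zero, map_zero]

end Aux


/-- Let A be a commutative algebra over the rationals, D a locally nilpotent derivation of A and a an
element with D a = 1; write A' for the quotient of A by the ideal generated by a. Then there is a
ring isomorphism from A onto the polynomial ring A'[Y] which sends every x to the (finite) sum over
n of (1/n!) (class of D^n x) Y^n; its inverse sends Y to a and the constant polynomial on the class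
of x to the sum over n of ((-1)^n/n!) (D^n x) a^n, and under it D corresponds to the derivative
d/dY. (The source says only that A is a ring, in a setting over a field of characteristic zero; the
rational coefficients 1/n! require an algebra over the rationals, which is the hypothesis taken
here. Both sums are written over any range beyond which the iterates of D vanish at x.) -/
theorem result
    (A : Type u) [CommRing A] [Algebra ℚ A] (D : Derivation ℚ A A)
    (hnil : ∀ x : A, ∃ n : ℕ, ((D : A →ₗ[ℚ] A) ^ n) x = 0) (a : A) (ha : D a = 1) :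
    ∃ χ : A ≃+* Polynomial (A ⧸ Ideal.span ({a} : Set A)),
      (∀ (x : A) (N : ℕ), ((D : A →ₗ[ℚ] A) ^ N) x = 0 →
        χ x = ∑ n ∈ Finset.range N,
          ((n.factorial : ℚ)⁻¹ • Polynomial.C (Ideal.Quotient.mk (Ideal.span ({a} : Set A)) (((D : A →ₗ[ℚ] A) ^ n) x))) *
            Polynomial.X ^ n) ∧
      χ.symm Polynomial.X = a ∧
      (∀ (x : A) (N : ℕ), ((D : A →ₗ[ℚ] A) ^ N) x = 0 →
        χ.symm (Polynomial.C (Ideal.Quotient.mk (Ideal.span ({a} : Set A)) x)) =
          ∑ n ∈ Finset.range N, (((-1 : ℚ) ^ n * (n.factorial : ℚ)⁻¹) • ((((D : A →ₗ[ℚ] A) ^ n) x) * a ^ n))) ∧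
      ∀ p : Polynomial (A ⧸ Ideal.span ({a} : Set A)), χ (D (χ.symm p)) = Polynomial.derivative p := by
  have hnil' : ∀ x : A, ∃ n : ℕ, dn D n x = 0 := hnil
  let χ : A ≃+* Polynomial (A ⧸ Ideal.span ({a} : Set A)) :=
    RingEquiv.ofBijective (chi0 D hnil' a)
      ⟨chi0_injective D hnil' a ha, fun p => ⟨psi D hnil' a ha p, chi0_psi D hnil' a ha p⟩⟩
  have hχ : ∀ x, χ x = chi0 D hnil' a x := fun x => rfl
  have hsymm : ∀ p, χ.symm p = psi D hnil' a ha p := by
    intro p
    rw [RingEquiv.symm_apply_eq, hχ, chi0_psi]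
  refine ⟨χ, ?_, ?_, ?_, ?_⟩
  · intro x N hN
    rw [hχ]
    exact chi0_sum D hnil' a x N hN
  · rw [hsymm, psi_X]
  · intro x N hN
    rw [hsymm, psi_C, pibar_mk]
    exact pi0_sum D hnil' a x N hN
  · intro p
    rw [hχ, chi0_D, ← hχ, RingEquiv.apply_symm_apply]

end Groth.Agent.S18974
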