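import Groth.Statements.S18983
import Mathlib

set_option autoImplicit false
universe u v w
open CAlg

namespace Groth.Agent.S18983


open Module

section Aux

variable {k : Type*} [Field k]

def eOpt {ι' : Type*} (m : ℕ) (n' : ι' → ℕ) :
    (Fin (m + 1) ⊕ Σ i : ι', Fin (n' i + 1)) ≃ Σ o : Option ι', Fin (Option.elim o m n' + 1) where
  toFun := Sum.elim (fun l => ⟨none, l⟩) (fun x => ⟨some x.1, x.2⟩)
  invFun := fun x => match x with
    | ⟨none, l⟩ => Sum.inl l
    | ⟨some i, l⟩ => Sum.inr ⟨i, l⟩
  left_inv := by rintro (l | ⟨i, l⟩) <;> rfl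
  right_inv := by rintro ⟨(_ | i), l⟩ <;> rfl

lemma li_pow {V : Type*} [AddCommGroup V] [Module k V] (A : Module.End k V) (v : V) (m : ℕ)
    (h1 : (A ^ m) v ≠ 0) (h2 : (A ^ (m + 1)) v = 0) :
    LinearIndependent k (fun j : Fin (m + 1) => (A ^ (j : ℕ)) v) := by
  rw [Fintype.linearIndependent_iff]
  intro g hg
  have hbig : ∀ s : ℕ, m < s → (A ^ s) v = 0 := by
    intro s hs
    obtain ⟨t, rfl⟩ : ∃ t, s = t + (m + 1) := ⟨s - (m + 1), by omega⟩
    rw [pow_add, Module.End.mul_apply, h2, map_zero]
  have key : ∀ n : ℕ, ∀ j : Fin (m + 1), (j : ℕ) = n → g j = 0 := by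
    intro n
    induction n using Nat.strong_induction_on with
    | _ n ih =>
      intro j hj
      have h3 := congrArg (fun x => (A ^ (m - (j : ℕ))) x) hg
      simp only [map_sum, map_smul, map_zero] at h3
      rw [Finset.sum_eq_single j] at h3
      · rw [← Module.End.mul_apply, ← pow_add, Nat.sub_add_cancel (Nat.lt_succ_iff.mp j.2)] at h3
        exact (smul_eq_zero.mp h3).resolve_right h1
      · intro i _ hij
        rcases lt_or_gt_of_ne hij with hlt | hgt
        · rw [ih (i : ℕ) (by rw [← hj]; exact Fin.lt_def.mp hlt) i rfl, zero_smul]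
        · rw [← Module.End.mul_apply, ← pow_add,
            hbig _ (by have := Fin.lt_def.mp hgt; have := j.2; omega), smul_zero]
      · intro h
        exact absurd (Finset.mem_univ _) h
  intro j
  exact key j j rfl

lemma exists_dual_last {V : Type*} [AddCommGroup V] [Module k V] {n : ℕ} (c : Fin (n + 1) → V)
    (hc : LinearIndependent k c) :
    ∃ f : V →ₗ[k] k, ∀ j : Fin (n + 1), f (c j) = if (j : ℕ) = n then 1 else 0 := by
  classical
  obtain ⟨g, hg⟩ := LinearMap.exists_extend
    ((Basis.span hc).constr k (fun j : Fin (n + 1) => if (j : ℕ) = n then (1 : k) else 0))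
  refine ⟨g, fun j => ?_⟩
  have h1 : g (c j) = (g ∘ₗ (Submodule.span k (Set.range c)).subtype) ((Basis.span hc) j) := by
    rw [LinearMap.comp_apply, Submodule.subtype_apply, Basis.span_apply]
  rw [h1, hg, Basis.constr_basis]

lemma jordan_aux {Λ : Type*} [AddCommGroup Λ] {V : Type w} [AddCommGroup V] [Module k V]
    [FiniteDimensional k V] (𝒱 : Λ → Submodule k V) (π : Λ → V →ₗ[k] V)
    (hπ_mem : ∀ μ v, π μ v ∈ 𝒱 μ) (hπ_same : ∀ μ v, v ∈ 𝒱 μ → π μ v = v)
    (hπ_ne : ∀ μ ν v, v ∈ 𝒱 μ → ν ≠ μ → π ν v = 0)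
    (hπ_sum : ∀ v, ∃ s : Finset Λ, v = ∑ μ ∈ s, π μ v)
    (A : Module.End k V) (χ : Λ) (hhom : ∀ μ v, v ∈ 𝒱 μ → A v ∈ 𝒱 (μ + χ)) :
    ∀ (d : ℕ) (W : Submodule k V), Module.finrank k W = d → (∀ w ∈ W, A w ∈ W) →
      (∀ w ∈ W, ∀ μ, π μ w ∈ W) → (∃ N, ∀ w ∈ W, (A ^ N) w = 0) →
      ∃ (ι : Type w) (_ : Finite ι) (n : ι → ℕ) (b : (Σ i : ι, Fin (n i + 1)) → V),
        LinearIndependent k b ∧ Submodule.span k (Set.range b) = W ∧
        (∀ (i : ι) (l : Fin (n i + 1)), ∃ μ, b ⟨i, l⟩ ∈ 𝒱 μ) ∧ (∀ i, A (b ⟨i, 0⟩) = 0) ∧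
        ∀ (i : ι) (l : Fin (n i)), A (b ⟨i, l.succ⟩) = b ⟨i, l.castSucc⟩ := by
  classical
  have hhom_pow : ∀ (l : ℕ) μ v, v ∈ 𝒱 μ → (A ^ l) v ∈ 𝒱 (μ + l • χ) := by
    intro l
    induction l with
    | zero =>
      intro μ v hv
      rw [pow_zero, zero_smul, add_zero]
      exact hv
    | succ l ih =>
      intro μ v hv
      rw [pow_succ', Module.End.mul_apply, succ_nsmul, ← add_assoc]
      exact hhom _ _ (ih μ v hv)
  have hπ_idem : ∀ μ ν v, π ν (π μ v) = if ν = μ then π μ v else 0 := by
    intro μ ν v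
    split_ifs with h
    · rw [h]
      exact hπ_same _ _ (hπ_mem _ _)
    · exact hπ_ne μ ν _ (hπ_mem _ _) h
  have hπA : ∀ μ v, A (π μ v) = π (μ + χ) (A v) := by
    intro μ v
    obtain ⟨s, hs⟩ := hπ_sum v
    have h1 : ∀ ν, π (μ + χ) (A (π ν v)) = if ν = μ then A (π μ v) else 0 := by
      intro ν
      split_ifs with h
      · rw [h]
        exact hπ_same _ _ (hhom _ _ (hπ_mem _ _))
      · exact hπ_ne (ν + χ) (μ + χ) _ (hhom _ _ (hπ_mem ν v))
          (fun h' => h (add_right_cancel h').symm)
    have h2 : π (μ + χ) (A v) = if μ ∈ s then A (π μ v) else 0 := by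
      have h3 := congrArg (fun x => π (μ + χ) (A x)) hs
      simp only [map_sum] at h3
      rw [h3, Finset.sum_congr rfl (fun ν _ => h1 ν), Finset.sum_ite_eq']
    by_cases hμ : μ ∈ s
    · rw [h2, if_pos hμ]
    · have h5 : π μ v = ∑ ν ∈ s, π μ (π ν v) := by
        have h3 := congrArg (fun x => π μ x) hs
        simpa only [map_sum] using h3
      have h6 : π μ v = 0 := by
        rw [h5]
        apply Finset.sum_eq_zero
        intro ν hν
        rw [hπ_idem, if_neg]
        rintro rfl
        exact hμ hν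
      rw [h6, map_zero, h2, if_neg hμ]
  have hπA_pow : ∀ (l : ℕ) μ v, (A ^ l) (π μ v) = π (μ + l • χ) ((A ^ l) v) := by
    intro l
    induction l with
    | zero =>
      intro μ v
      rw [pow_zero, zero_smul, add_zero]
      rfl
    | succ l ih =>
      intro μ v
      rw [pow_succ', Module.End.mul_apply, Module.End.mul_apply, ih, hπA, succ_nsmul, ← add_assoc]
  intro d
  induction d using Nat.strong_induction_on with
  | _ d ih =>
    intro W hd hAW hgr hnil
    by_cases hW : W = ⊥
    · refine ⟨PEmpty, inferInstance, PEmpty.elim, fun x => x.1.elim, linearIndependent_empty_type,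
        ?_, fun i => i.elim, fun i => i.elim, fun i => i.elim⟩
      rw [hW, Set.range_eq_empty, Submodule.span_empty]
    · have hne0 : Nat.find hnil ≠ 0 := by
        intro h0
        have h1 := Nat.find_spec hnil
        rw [h0] at h1
        apply hW
        rw [Submodule.eq_bot_iff]
        intro w hw
        have h2 := h1 w hw
        rwa [pow_zero, Module.End.one_apply] at h2
      obtain ⟨m, hm⟩ := Nat.exists_eq_succ_of_ne_zero hne0
      have hmW : ∀ w ∈ W, (A ^ (m + 1)) w = 0 := by
        have h1 := Nat.find_spec hnil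
        rw [hm] at h1
        exact h1
      have hmin : ¬ ∀ w ∈ W, (A ^ m) w = 0 :=
        Nat.find_min hnil (by rw [hm]; exact Nat.lt_succ_self m)
      push Not at hmin
      obtain ⟨w0, hw0W, hw0⟩ := hmin
      obtain ⟨s, hs⟩ := hπ_sum w0
      have h2 : (A ^ m) w0 = ∑ μ ∈ s, (A ^ m) (π μ w0) := by
        have h3 := congrArg (fun x => (A ^ m) x) hs
        simpa only [map_sum] using h3
      obtain ⟨μ0, hμ0s, hμ0⟩ : ∃ μ ∈ s, (A ^ m) (π μ w0) ≠ 0 := by
        by_contra hcon
        push Not at hcon
        apply hw0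
        rw [h2]
        exact Finset.sum_eq_zero hcon
      obtain ⟨v, hv⟩ : ∃ v, v = π μ0 w0 := ⟨_, rfl⟩
      rw [← hv] at hμ0
      have hvW : v ∈ W := by rw [hv]; exact hgr w0 hw0W μ0
      have hvμ : v ∈ 𝒱 μ0 := by rw [hv]; exact hπ_mem μ0 w0
      have hbig : ∀ t : ℕ, m < t → (A ^ t) v = 0 := by
        intro t ht
        obtain ⟨u, rfl⟩ : ∃ u, t = u + (m + 1) := ⟨t - (m + 1), by omega⟩
        rw [pow_add, Module.End.mul_apply, hmW v hvW, map_zero]
      have hli := li_pow A v m hμ0 (hmW v hvW)
      obtain ⟨f, hf⟩ := exists_dual_last _ hli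
      obtain ⟨φ, hφ⟩ : ∃ φ : V →ₗ[k] k, φ = f ∘ₗ π (μ0 + m • χ) := ⟨_, rfl⟩
      have hK : ∀ t : ℕ, φ ((A ^ t) v) = if t = m then 1 else 0 := by
        intro t
        by_cases htm : t ≤ m
        · have hdeg : (A ^ t) v ∈ 𝒱 (μ0 + t • χ) := hhom_pow t μ0 v hvμ
          by_cases hdeg2 : μ0 + t • χ = μ0 + m • χ
          · rw [hφ, LinearMap.comp_apply, hπ_same (μ0 + m • χ) _ (hdeg2 ▸ hdeg)]
            exact hf ⟨t, Nat.lt_succ_of_le htm⟩
          · rw [hφ, LinearMap.comp_apply, hπ_ne _ (μ0 + m • χ) _ hdeg (Ne.symm hdeg2), map_zero,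
              if_neg]
            intro htm2
            apply hdeg2
            rw [htm2]
        · rw [hbig t (not_le.mp htm), map_zero, if_neg (by omega)]
      obtain ⟨W', hW'mem⟩ : ∃ W' : Submodule k V,
          ∀ w, w ∈ W' ↔ w ∈ W ∧ ∀ l : ℕ, φ ((A ^ l) w) = 0 :=
        ⟨W ⊓ ⨅ l : ℕ, LinearMap.ker (φ ∘ₗ (A ^ l)), fun w => by
          simp only [Submodule.mem_inf, Submodule.mem_iInf, LinearMap.mem_ker,
            LinearMap.comp_apply]⟩
      have hW'le : W' ≤ W := fun w hw => ((hW'mem w).mp hw).1
      have hvW' : v ∉ W' := by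
        intro h
        have h3 := ((hW'mem v).mp h).2 m
        rw [hK m, if_pos rfl] at h3
        exact one_ne_zero h3
      have hlt : W' < W := lt_of_le_of_ne hW'le (fun h => hvW' (h ▸ hvW))
      have hfr : Module.finrank k W' < d := by
        rw [← hd]
        exact Submodule.finrank_lt_finrank_of_lt hlt
      have hAW' : ∀ w ∈ W', A w ∈ W' := by
        intro w hw
        obtain ⟨h1, h3⟩ := (hW'mem w).mp hw
        refine (hW'mem _).mpr ⟨hAW w h1, fun l => ?_⟩
        have h4 := h3 (l + 1)
        rwa [pow_succ, Module.End.mul_apply] at h4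
      have hgr' : ∀ w ∈ W', ∀ μ, π μ w ∈ W' := by
        intro w hw μ
        obtain ⟨h1, h3⟩ := (hW'mem w).mp hw
        refine (hW'mem _).mpr ⟨hgr w h1 μ, fun l => ?_⟩
        rw [hπA_pow, hφ, LinearMap.comp_apply, hπ_idem]
        split_ifs with h
        · have h4 := h3 l
          rw [hφ, LinearMap.comp_apply] at h4
          rw [← h]
          exact h4
        · exact map_zero f
      obtain ⟨ι', hfin', n', b', hli', hspan', hhomog', hbot', hchain'⟩ :=
        ih (Module.finrank k W') hfr W' rfl hAW' hgr' ⟨m + 1, fun w hw => hmW w (hW'le hw)⟩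
      haveI := hfin'
      obtain ⟨c', hc'⟩ : ∃ c' : Fin (m + 1) → V, ∀ l, c' l = (A ^ (m - (l : ℕ))) v := ⟨_, fun _ => rfl⟩
      have hc'li : LinearIndependent k c' := by
        have h3 : c' = (fun j : Fin (m + 1) => (A ^ (j : ℕ)) v) ∘ Fin.rev := by
          funext l
          rw [hc', Function.comp_apply]
          show (A ^ (m - (l : ℕ))) v = (A ^ ((Fin.rev l : Fin (m + 1)) : ℕ)) v
          rw [Fin.val_rev]
          have h4 : m + 1 - ((l : ℕ) + 1) = m - (l : ℕ) := by omega
          rw [h4]
        rw [h3]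
        exact hli.comp _ Fin.rev_injective
      have hK' : ∀ (t : ℕ) (l : Fin (m + 1)), φ ((A ^ t) (c' l)) = if t = (l : ℕ) then 1 else 0 := by
        intro t l
        rw [hc', ← Module.End.mul_apply, ← pow_add, hK]
        have hl := l.2
        by_cases h : t = (l : ℕ)
        · rw [if_pos h, if_pos (by omega)]
        · rw [if_neg h, if_neg (by omega)]
      have hdisj : Disjoint (Submodule.span k (Set.range c')) (Submodule.span k (Set.range b')) := by
        rw [hspan', Submodule.disjoint_def]
        intro x hx1 hx2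
        obtain ⟨a, rfl⟩ := (Submodule.mem_span_range_iff_exists_fun k).mp hx1
        have ha : ∀ l : Fin (m + 1), a l = 0 := by
          intro l
          have h1 := ((hW'mem _).mp hx2).2 (l : ℕ)
          rw [map_sum, map_sum] at h1
          simp only [map_smul, hK', smul_eq_mul] at h1
          rw [Finset.sum_eq_single l] at h1
          · rwa [if_pos rfl, mul_one] at h1
          · intro j _ hj
            rw [if_neg (fun h => hj (Fin.ext h.symm)), mul_zero]
          · intro h
            exact absurd (Finset.mem_univ _) h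
        simp [ha]
      have hpowW : ∀ t : ℕ, (A ^ t) v ∈ W := by
        intro t
        induction t with
        | zero =>
          rw [pow_zero, Module.End.one_apply]
          exact hvW
        | succ t iht =>
          rw [pow_succ', Module.End.mul_apply]
          exact hAW _ iht
      have hc'W : ∀ l, c' l ∈ W := fun l => by rw [hc']; exact hpowW _
      have hspan0 : Submodule.span k (Set.range c') ⊔ W' = W := by
        apply le_antisymm
        · refine sup_le ?_ hW'le
          rw [Submodule.span_le]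
          rintro _ ⟨l, rfl⟩
          exact hc'W l
        · intro w hw
          have hP : ∑ l : Fin (m + 1), φ ((A ^ (l : ℕ)) w) • c' l
              ∈ Submodule.span k (Set.range c') :=
            Submodule.sum_mem _ fun l _ =>
              Submodule.smul_mem _ _ (Submodule.subset_span ⟨l, rfl⟩)
          have hQ : w - ∑ l : Fin (m + 1), φ ((A ^ (l : ℕ)) w) • c' l ∈ W' := by
            refine (hW'mem _).mpr ⟨W.sub_mem hw (W.sum_mem fun l _ => W.smul_mem _ (hc'W l)),
              fun t => ?_⟩
            rw [map_sub, map_sub, map_sum, map_sum]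
            simp only [map_smul, hK', smul_eq_mul]
            by_cases ht : t < m + 1
            · rw [Finset.sum_eq_single (⟨t, ht⟩ : Fin (m + 1))]
              · simp
              · intro j _ hj
                rw [if_neg (fun h => hj (Fin.ext h.symm)), mul_zero]
              · intro h
                exact absurd (Finset.mem_univ _) h
            · have h0 : (A ^ t) w = 0 := by
                obtain ⟨u, rfl⟩ : ∃ u, t = u + (m + 1) := ⟨t - (m + 1), by omega⟩
                rw [pow_add, Module.End.mul_apply, hmW w hw, map_zero]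
              rw [h0, map_zero, zero_sub, neg_eq_zero]
              apply Finset.sum_eq_zero
              intro j _
              rw [if_neg (by have := j.2; omega), mul_zero]
          have h5 : w = ∑ l : Fin (m + 1), φ ((A ^ (l : ℕ)) w) • c' l
              + (w - ∑ l : Fin (m + 1), φ ((A ^ (l : ℕ)) w) • c' l) := by abel
          rw [h5]
          exact Submodule.add_mem_sup hP hQ
      have hb0li : LinearIndependent k (Sum.elim c' b') :=
        LinearIndependent.sum_type hc'li hli' hdisj
      have hb0span : Submodule.span k (Set.range (Sum.elim c' b')) = W := by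
        rw [Set.Sum.elim_range, Submodule.span_union, hspan', hspan0]
      refine ⟨Option ι', inferInstance, fun o => Option.elim o m n',
        Sum.elim c' b' ∘ (eOpt m n').symm, hb0li.comp _ (eOpt m n').symm.injective, ?_, ?_, ?_, ?_⟩
      · rw [(eOpt m n').symm.surjective.range_comp]
        exact hb0span
      · rintro (_ | i) l
        · refine ⟨μ0 + (m - (l : ℕ)) • χ, ?_⟩
          show c' l ∈ _
          rw [hc']
          exact hhom_pow _ μ0 v hvμ
        · exact hhomog' i l
      · rintro (_ | i)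
        · show A (c' (0 : Fin (m + 1))) = 0
          have h0 : ((0 : Fin (m + 1)) : ℕ) = 0 := rfl
          rw [hc', h0, Nat.sub_zero, ← Module.End.mul_apply, ← pow_succ']
          exact hmW v hvW
        · exact hbot' i
      · rintro (_ | i) l
        · have hl : (l : ℕ) < m := l.2
          show A (c' (Fin.succ (n := m) l)) = c' (Fin.castSucc (n := m) l)
          rw [hc', hc', Fin.val_succ, Fin.coe_castSucc, ← Module.End.mul_apply, ← pow_succ']
          have h4 : m - ((l : ℕ) + 1) + 1 = m - (l : ℕ) := by omega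
          rw [h4]
        · exact hchain' i l

end Aux


/-- Let k be a field, Λ an additive commutative group, V a finite-dimensional k-vector space which is
the internal direct sum of subspaces V_μ indexed by Λ (a representation of a torus with character
group Λ), and A a nilpotent endomorphism of V mapping each V_μ into V_{μ+χ} for a fixed χ (the
infinitesimal generator of an action of the additive group on which the torus acts through the
character χ). Then V has a basis consisting of homogeneous vectors e_{i,l}, 0 ≤ l ≤ n_i, with A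
e_{i,0} = 0 and A e_{i,l+1} = e_{i,l}: a weight basis bringing A into Jordan normal form. (The
source states this, over an algebraically closed field of characteristic zero, as a decomposition of
every representation of the semidirect product of the additive group with a torus into twists of
symmetric powers of the standard two-dimensional representation by characters; the first line of its
proof reduces that to the present statement, which is what is proved, and which holds over any
field.) -/
theorem result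
    (k : Type u) [Field k] (Λ : Type v) [AddCommGroup Λ] [DecidableEq Λ]
    (V : Type w) [AddCommGroup V] [Module k V] [FiniteDimensional k V]
    (𝒱 : Λ → Submodule k V) (h𝒱 : DirectSum.IsInternal 𝒱)
    (A : Module.End k V) (hA : IsNilpotent A) (χ : Λ)
    (hhom : ∀ (μ : Λ) (v : V), v ∈ 𝒱 μ → A v ∈ 𝒱 (μ + χ)) :
    ∃ (ι : Type w) (_ : Finite ι) (n : ι → ℕ) (b : Module.Basis (Σ i : ι, Fin (n i + 1)) k V),
      (∀ (i : ι) (l : Fin (n i + 1)), ∃ μ : Λ, b ⟨i, l⟩ ∈ 𝒱 μ) ∧
      (∀ i : ι, A (b ⟨i, 0⟩) = 0) ∧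
      ∀ (i : ι) (l : Fin (n i)), A (b ⟨i, l.succ⟩) = b ⟨i, l.castSucc⟩ := by
  classical
  letI : DirectSum.Decomposition 𝒱 := h𝒱.chooseDecomposition
  let π : Λ → V →ₗ[k] V := fun μ => (𝒱 μ).subtype ∘ₗ
    (DirectSum.component k Λ (fun i => ↥(𝒱 i)) μ) ∘ₗ (DirectSum.decomposeLinearEquiv 𝒱).toLinearMap
  have hπ : ∀ μ v, π μ v = ((DirectSum.decompose 𝒱 v) μ : V) := fun μ v => rfl
  have hπ_mem : ∀ μ v, π μ v ∈ 𝒱 μ := fun μ v => by
    rw [hπ]
    exact Submodule.coe_mem _
  have hπ_same : ∀ μ v, v ∈ 𝒱 μ → π μ v = v := fun μ v hv => by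
    rw [hπ]
    exact DirectSum.decompose_of_mem_same 𝒱 hv
  have hπ_ne : ∀ μ ν v, v ∈ 𝒱 μ → ν ≠ μ → π ν v = 0 := fun μ ν v hv hne => by
    rw [hπ]
    exact DirectSum.decompose_of_mem_ne 𝒱 hv (Ne.symm hne)
  have hπ_sum : ∀ v, ∃ s : Finset Λ, v = ∑ μ ∈ s, π μ v := fun v =>
    ⟨(DirectSum.decompose 𝒱 v).support, by
      simp only [hπ]
      exact (DirectSum.sum_support_decompose 𝒱 v).symm⟩
  obtain ⟨N, hN⟩ := hA
  obtain ⟨ι, hfin, n, b, hli, hspan, hh, hb0, hbc⟩ := jordan_aux 𝒱 π hπ_mem hπ_same hπ_ne hπ_sum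
    A χ hhom (Module.finrank k (⊤ : Submodule k V)) ⊤ rfl (fun _ _ => Submodule.mem_top)
    (fun _ _ _ => Submodule.mem_top) ⟨N, fun w _ => by simp [hN]⟩
  refine ⟨ι, hfin, n, Basis.mk hli hspan.ge, ?_, ?_, ?_⟩
  · intro i l
    rw [Basis.mk_apply]
    exact hh i l
  · intro i
    rw [Basis.mk_apply]
    exact hb0 i
  · intro i l
    rw [Basis.mk_apply, Basis.mk_apply]
    exact hbc i l

end Groth.Agent.S18983
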