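import Groth.Statements.S18994
import Mathlib

set_option autoImplicit false
universe u
open TernForm

namespace Groth.Agent.S18994


section Aux
variable {R : Type u} [CommRing R]

theorem deg3 (s : Fin 3 →₀ ℕ) : s.degree = s 0 + s 1 + s 2 := by
  rw [Finsupp.degree_eq_sum, Fin.sum_univ_three]

theorem eq_single (s : Fin 3 →₀ ℕ) (j : Fin 3) (hd : s.degree = 2) (hj : 2 ≤ s j) :
    s = Finsupp.single j 2 := by
  rw [deg3] at hd
  ext i
  fin_cases j <;> fin_cases i <;> simp at hj ⊢ <;> omega

theorem keyK (j : Fin 3) (q : MvPolynomial (Fin 3) R) (hq : q.IsHomogeneous 2)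
    (hqj : IsUnit (q.coeff (Finsupp.single j 2))) (G E : MvPolynomial (Fin 3) R)
    (hE : ∀ m : Fin 3 →₀ ℕ, 2 ≤ m j → E.coeff m = 0) (h : q * G = E) : G = 0 := by
  classical
  have hN : ∀ b : Fin 3 →₀ ℕ, G.degreeOf j + 1 ≤ b j → G.coeff b = 0 := by
    intro b hb
    by_contra hne
    have := MvPolynomial.monomial_le_degreeOf j (MvPolynomial.mem_support_iff.mpr hne)
    omega
  have key : ∀ i : ℕ, ∀ b : Fin 3 →₀ ℕ, G.degreeOf j + 1 ≤ b j + i → G.coeff b = 0 := by
    intro i
    induction i with
    | zero =>
      intro b hb
      exact hN b (by omega)
    | succ i ih =>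
      intro b hb
      by_cases hb' : G.degreeOf j + 1 ≤ b j + i
      · exact ih b hb'
      · have hgt : ∀ b' : Fin 3 →₀ ℕ, b j < b' j → G.coeff b' = 0 := fun b' hlt => ih b' (by omega)
        have hc := congrArg (MvPolynomial.coeff (Finsupp.single j 2 + b)) h
        have h2 : 2 ≤ (Finsupp.single j 2 + b : Fin 3 →₀ ℕ) j := by
          rw [Finsupp.add_apply, Finsupp.single_eq_same]
          omega
        rw [hE _ h2, MvPolynomial.coeff_mul] at hc
        rw [Finset.sum_eq_single (Finsupp.single j 2, b)] at hc
        · exact (hqj.mul_right_eq_zero).mp hc
        · rintro ⟨s, b'⟩ hmem hne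
          rw [Finset.HasAntidiagonal.mem_antidiagonal] at hmem
          simp only at hmem ⊢
          by_cases hs : s.degree = 2
          · have hsj : s j < 2 := by
              by_contra hcon
              push_neg at hcon
              have hss := eq_single s j hs hcon
              subst hss
              apply hne
              rw [add_left_cancel hmem]
            have hb'j : b j < b' j := by
              have h3 := DFunLike.congr_fun hmem j
              simp only [Finsupp.add_apply, Finsupp.single_eq_same] at h3
              omega
            rw [hgt b' hb'j, mul_zero]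
          · rw [hq.coeff_eq_zero hs, zero_mul]
        · intro hnm
          exfalso
          apply hnm
          rw [Finset.HasAntidiagonal.mem_antidiagonal]
  ext b
  rw [MvPolynomial.coeff_zero]
  exact key (G.degreeOf j + 1) b (by omega)

/-- polynomials all of whose monomials have `X_j`-exponent `< 2` -/
def Ej (j : Fin 3) : Submodule R (MvPolynomial (Fin 3) R) where
  carrier := {E | ∀ m : Fin 3 →₀ ℕ, 2 ≤ m j → E.coeff m = 0}
  add_mem' := by
    intro a b ha hb m hm
    rw [MvPolynomial.coeff_add, ha m hm, hb m hm, add_zero]
  zero_mem' := by
    intro m _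
    exact MvPolynomial.coeff_zero m
  smul_mem' := by
    intro c a ha m hm
    rw [MvPolynomial.coeff_smul, ha m hm, smul_zero]

theorem span_ge [Nontrivial R] (j : Fin 3) (q : MvPolynomial (Fin 3) R)
    (hq : q.IsHomogeneous 2) (hqj : IsUnit (q.coeff (Finsupp.single j 2))) (n : ℕ)
    (W : Submodule R (MvPolynomial (Fin 3) R))
    (h1 : ∀ m : Fin 3 →₀ ℕ, m.degree = n → m j < 2 → MvPolynomial.monomial m (1 : R) ∈ W)
    (h2 : ∀ m : Fin 3 →₀ ℕ, m.degree + 2 = n → q * MvPolynomial.monomial m (1 : R) ∈ W) :
    MvPolynomial.homogeneousSubmodule (Fin 3) R n ≤ W := by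
  classical
  have hmono : ∀ k : ℕ, ∀ m : Fin 3 →₀ ℕ, m.degree = n → m j = k →
      MvPolynomial.monomial m (1 : R) ∈ W := by
    intro k
    induction k using Nat.strong_induction_on with
    | _ k ih =>
      intro m hm hk
      by_cases hk2 : k < 2
      · exact h1 m hm (hk ▸ hk2)
      · push_neg at hk2
        set m' : Fin 3 →₀ ℕ := m - Finsupp.single j 2 with hm'
        have hmm : Finsupp.single j 2 + m' = m := by
          ext i
          rw [Finsupp.add_apply, hm', Finsupp.tsub_apply]
          by_cases hi : i = j
          · subst hi
            rw [Finsupp.single_eq_same]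
            omega
          · rw [Finsupp.single_eq_of_ne hi]
            omega
        have hdeg' : m'.degree + 2 = n := by
          have h3 := congrArg Finsupp.degree hmm
          rw [map_add, Finsupp.degree_single, hm] at h3
          omega
        have hm'j : m' j + 2 = k := by
          have h3 := DFunLike.congr_fun hmm j
          rw [Finsupp.add_apply, Finsupp.single_eq_same, hk] at h3
          omega
        have hexp : q * MvPolynomial.monomial m' (1 : R) =
            ∑ s ∈ q.support, MvPolynomial.monomial (s + m') (q.coeff s) := by
          conv_lhs => rw [q.as_sum]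
          rw [Finset.sum_mul]
          apply Finset.sum_congr rfl
          intro s _
          rw [MvPolynomial.monomial_mul, mul_one]
        have hs₀ : Finsupp.single j 2 ∈ q.support := MvPolynomial.mem_support_iff.mpr hqj.ne_zero
        rw [← Finset.add_sum_erase _ _ hs₀, hmm] at hexp
        have hrest : ∑ s ∈ q.support.erase (Finsupp.single j 2),
            MvPolynomial.monomial (s + m') (q.coeff s) ∈ W := by
          apply Submodule.sum_mem
          intro s hs
          rw [Finset.mem_erase] at hs
          have hsd : s.degree = 2 := by
            by_contra hne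
            exact (MvPolynomial.mem_support_iff.mp hs.2) (hq.coeff_eq_zero hne)
          have hsj : s j < 2 := by
            by_contra hcon
            push_neg at hcon
            exact hs.1 (eq_single s j hsd hcon)
          have hsm : MvPolynomial.monomial (s + m') (q.coeff s) =
              q.coeff s • MvPolynomial.monomial (s + m') (1 : R) := by
            rw [MvPolynomial.smul_monomial, smul_eq_mul, mul_one]
          rw [hsm]
          apply Submodule.smul_mem
          apply ih ((s + m') j) ?_ (s + m') ?_ rfl
          · rw [Finsupp.add_apply]
            omega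
          · rw [map_add, hsd]
            omega
        have hu : MvPolynomial.monomial m (q.coeff (Finsupp.single j 2)) ∈ W := by
          have hq' := h2 m' hdeg'
          rw [hexp] at hq'
          exact (Submodule.add_mem_iff_left _ hrest).mp hq'
        obtain ⟨v, hv⟩ := hqj.exists_left_inv
        have hmv : MvPolynomial.monomial m (1 : R) =
            v • MvPolynomial.monomial m (q.coeff (Finsupp.single j 2)) := by
          rw [MvPolynomial.smul_monomial, smul_eq_mul, hv]
        rw [hmv]
        exact Submodule.smul_mem _ _ hu
  intro φ hφ
  rw [MvPolynomial.mem_homogeneousSubmodule] at hφ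
  rw [φ.as_sum]
  apply Submodule.sum_mem
  intro m hm
  have hmd : m.degree = n := by
    by_contra hne
    exact (MvPolynomial.mem_support_iff.mp hm) (hφ.coeff_eq_zero hne)
  have hsm : MvPolynomial.monomial m (φ.coeff m) = φ.coeff m • MvPolynomial.monomial m (1 : R) := by
    rw [MvPolynomial.smul_monomial, smul_eq_mul, mul_one]
  rw [hsm]
  exact Submodule.smul_mem _ _ (hmono (m j) m hmd rfl)

end Aux


/-- Let R be a commutative ring, j ∈ {0, 1, 2}, q a homogeneous polynomial of degree 2 in R[X_0, X_1,
X_2] whose coefficient of X_j^2 is a unit, and n a natural number. Then the family consisting of the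
monomials of degree n not divisible by X_j^2 (exponent of X_j at most 1) together with the products
q · m, m running over the monomials of degree n − 2 (indexed by exponents m with |m| + 2 = n), is
linearly independent over R and spans exactly the homogeneous polynomials of degree n; in particular
it is a basis of that module and the two parts are disjoint. (The published lemma is stated over a
field with the coefficient nonzero, the special case of a field R here; the version over a ring with
the coefficient invertible is what its change-of-basis argument gives — ordering monomials by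
decreasing exponent of X_j makes the matrix triangular with diagonal entries 1 and that coefficient
— and is the form used to trivialise the bundle of degree-n forms modulo multiples of q over the
locus where the coefficient is invertible. The published lemma also allows an arbitrary monomial of
degree 2 in place of X_j^2; for the mixed monomial X_1X_2, the form q = X_1^2 + X_1X_2 + X_2^2 and n
= 3 give the linear relation q·X_1 − q·X_2 = X_1^3 − X_2^3 among members of the family, so the claim
fails there and is stated here for the square of a variable.) -/
theorem result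
    (R : Type u) [CommRing R] (j : Fin 3) (q : MvPolynomial (Fin 3) R)
    (hq : q.IsHomogeneous 2) (hqj : IsUnit (q.coeff (Finsupp.single j 2))) (n : ℕ) :
    LinearIndependent R (Sum.elim (fun m : {m : Fin 3 →₀ ℕ // m.degree = n ∧ m j < 2} => MvPolynomial.monomial m.1 (1 : R)) (fun m : {m : Fin 3 →₀ ℕ // m.degree + 2 = n} => q * MvPolynomial.monomial m.1 (1 : R))) ∧
      Submodule.span R (Set.range (Sum.elim (fun m : {m : Fin 3 →₀ ℕ // m.degree = n ∧ m j < 2} => MvPolynomial.monomial m.1 (1 : R)) (fun m : {m : Fin 3 →₀ ℕ // m.degree + 2 = n} => q * MvPolynomial.monomial m.1 (1 : R)))) = MvPolynomial.homogeneousSubmodule (Fin 3) R n := by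
  classical
  rcases subsingleton_or_nontrivial R with hsub | hnt
  · have hz : ∀ x : MvPolynomial (Fin 3) R, x = 0 := fun x =>
      MvPolynomial.ext _ _ (fun m => Subsingleton.elim _ _)
    constructor
    · exact linearIndependent_of_subsingleton
    · ext x
      rw [hz x]
      constructor <;> intro _ <;> exact Submodule.zero_mem _
  constructor
  · -- linear independence
    have hb : LinearIndependent R (fun s : Fin 3 →₀ ℕ => MvPolynomial.monomial s (1 : R)) := by
      have h := (MvPolynomial.basisMonomials (Fin 3) R).linearIndependent
      rwa [MvPolynomial.coe_basisMonomials] at h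
    have hli1 := hb.comp (fun m : {m : Fin 3 →₀ ℕ // m.degree = n ∧ m j < 2} => m.1)
      Subtype.val_injective
    have hli2' := hb.comp (fun m : {m : Fin 3 →₀ ℕ // m.degree + 2 = n} => m.1)
      Subtype.val_injective
    have hker : LinearMap.ker (LinearMap.mulLeft R q) = ⊥ := by
      rw [LinearMap.ker_eq_bot']
      intro G hG
      exact keyK j q hq hqj G 0 (fun m _ => MvPolynomial.coeff_zero m) hG
    have hli2 := hli2'.map' (LinearMap.mulLeft R q) hker
    refine LinearIndependent.sum_type hli1 hli2 ?_
    rw [Submodule.disjoint_def]
    intro x hx1 hx2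
    have h1 : x ∈ Ej (R := R) j := by
      refine (Submodule.span_le.mpr ?_) hx1
      rintro _ ⟨a, rfl⟩ m hm
      simp only [Function.comp_apply]
      rw [MvPolynomial.coeff_monomial, if_neg]
      rintro rfl
      exact absurd a.2.2 (by omega)
    have h2 : x ∈ LinearMap.range (LinearMap.mulLeft R q) := by
      refine (Submodule.span_le.mpr ?_) hx2
      rintro _ ⟨b, rfl⟩
      exact ⟨MvPolynomial.monomial b.1 (1 : R), rfl⟩
    obtain ⟨G, rfl⟩ := h2
    have hG := keyK j q hq hqj G _ h1 rfl
    rw [hG, map_zero]
  · -- span
    apply le_antisymm
    · rw [Submodule.span_le]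
      rintro _ ⟨a | b, rfl⟩
      · exact (MvPolynomial.mem_homogeneousSubmodule n _).mpr
          (MvPolynomial.isHomogeneous_monomial (1 : R) a.2.1)
      · have h := hq.mul (MvPolynomial.isHomogeneous_monomial (1 : R) (rfl : b.1.degree = b.1.degree))
        rw [add_comm, b.2] at h
        exact (MvPolynomial.mem_homogeneousSubmodule n _).mpr h
    · apply span_ge j q hq hqj n
      · intro m hm hmj
        exact Submodule.subset_span ⟨Sum.inl ⟨m, hm, hmj⟩, rfl⟩
      · intro m hm
        exact Submodule.subset_span ⟨Sum.inr ⟨m, hm⟩, rfl⟩

end Groth.Agent.S18994
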