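import Groth.Statements.S19004
import Mathlib

set_option autoImplicit false
open GIT

namespace Groth.Agent.S19004

/-- For the group PGL(n) acting on the space of n × n matrices the T-quotient is (P^{n−1})^n with Chow
ring ℚ[t_1,…,t_n]/(t_1^n,…,t_n^n), the class c_top(g/t) is the product of all roots t_i − t_j (i ≠
j), and the computation in the proof shows that this product equals n!·t_1^{n−1}⋯t_n^{n−1} in that
ring. Stated here as the equivalent coefficient identity in ℤ[t_1,…,t_n]: the coefficient of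
t_1^{n−1}⋯t_n^{n−1} in the product over ordered pairs i ≠ j of (t_i − t_j) is n!. -/
theorem result (n : ℕ) :
    MvPolynomial.coeff (Finsupp.equivFunOnFinite.symm (fun _ : Fin n => n - 1))
      (∏ i : Fin n, ∏ j ∈ Finset.univ.erase i, (MvPolynomial.X i - MvPolynomial.X j : MvPolynomial (Fin n) ℤ)) = (n.factorial : ℤ) := by
  classical
  have hdx : ∀ x : Fin n, (Finsupp.equivFunOnFinite.symm (fun _ : Fin n => n - 1)) x = n - 1 :=
    fun x => rfl
  let Xv : Fin n → MvPolynomial (Fin n) ℤ := fun i => MvPolynomial.X i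
  let E : Equiv.Perm (Fin n) → (Fin n → ℕ) → (Fin n →₀ ℕ) :=
    fun σ e => ∑ i, Finsupp.single (σ i) (e i)
  have hE : ∀ (σ : Equiv.Perm (Fin n)) (e : Fin n → ℕ) (x : Fin n), E σ e x = e (σ.symm x) := by
    intro σ e x
    change (∑ i, Finsupp.single (σ i) (e i)) x = e (σ.symm x)
    rw [Finsupp.finsetSum_apply, Finset.sum_eq_single (σ.symm x)]
    · rw [Finsupp.single_apply, if_pos (σ.apply_symm_apply x)]
    · intro i _ hi
      rw [Finsupp.single_apply, if_neg]
      intro h
      apply hi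
      rw [← h, σ.symm_apply_apply]
    · intro h
      exact absurd (Finset.mem_univ _) h
  have hmon : ∀ (σ : Equiv.Perm (Fin n)) (e : Fin n → ℕ),
      ∏ i, (MvPolynomial.X (σ i) : MvPolynomial (Fin n) ℤ) ^ e i =
        MvPolynomial.monomial (E σ e) 1 := by
    intro σ e
    change _ = MvPolynomial.monomial (∑ i, Finsupp.single (σ i) (e i)) 1
    rw [MvPolynomial.monomial_sum_one]
    refine Finset.prod_congr rfl fun i _ => ?_
    rw [MvPolynomial.X_pow_eq_monomial]
  have hcast : ∀ z : ℤ, ((z : ℤ) : MvPolynomial (Fin n) ℤ) = MvPolynomial.C z :=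
    fun z => (eq_intCast (MvPolynomial.C : ℤ →+* MvPolynomial (Fin n) ℤ) z).symm
  have hV : (Matrix.vandermonde Xv).det = ∑ σ : Equiv.Perm (Fin n),
      MvPolynomial.monomial (E σ (fun i => (i : ℕ))) (((Equiv.Perm.sign σ : ℤˣ) : ℤ)) := by
    rw [Matrix.det_apply']
    refine Finset.sum_congr rfl fun σ _ => ?_
    have h0 : ∏ i, Matrix.vandermonde Xv (σ i) i =
        ∏ i, (MvPolynomial.X (σ i) : MvPolynomial (Fin n) ℤ) ^ (i : ℕ) := rfl
    rw [h0, hmon, hcast, MvPolynomial.C_mul_monomial, mul_one]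
  have hW : (Matrix.projVandermonde (1 : Fin n → MvPolynomial (Fin n) ℤ) Xv).det =
      ∑ τ : Equiv.Perm (Fin n),
        MvPolynomial.monomial (E τ (fun i => (i.rev : ℕ))) (((Equiv.Perm.sign τ : ℤˣ) : ℤ)) := by
    rw [Matrix.det_apply']
    refine Finset.sum_congr rfl fun τ _ => ?_
    have h0 : ∏ i, Matrix.projVandermonde (1 : Fin n → MvPolynomial (Fin n) ℤ) Xv (τ i) i =
        ∏ i, (MvPolynomial.X (τ i) : MvPolynomial (Fin n) ℤ) ^ (i.rev : ℕ) := by
      refine Finset.prod_congr rfl fun i _ => ?_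
      rw [Matrix.projVandermonde_apply, Pi.one_apply, one_pow, one_mul]
    rw [h0, hmon, hcast, MvPolynomial.C_mul_monomial, mul_one]
  have hVprod := Matrix.det_vandermonde Xv
  have hWprod : (Matrix.projVandermonde (1 : Fin n → MvPolynomial (Fin n) ℤ) Xv).det =
      ∏ i : Fin n, ∏ j ∈ Finset.Ioi i, (Xv i - Xv j) := by
    rw [Matrix.det_projVandermonde]
    refine Finset.prod_congr rfl fun i _ => Finset.prod_congr rfl fun j _ => ?_
    rw [Pi.one_apply, Pi.one_apply, one_mul, one_mul]
  have hP : (∏ i : Fin n, ∏ j ∈ Finset.univ.erase i,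
      (MvPolynomial.X i - MvPolynomial.X j : MvPolynomial (Fin n) ℤ)) =
      (Matrix.vandermonde Xv).det *
        (Matrix.projVandermonde (1 : Fin n → MvPolynomial (Fin n) ℤ) Xv).det := by
    rw [hVprod, hWprod]
    have herase : ∀ i : Fin n, Finset.univ.erase i = Finset.Iio i ∪ Finset.Ioi i := by
      intro i
      ext j
      simp only [Finset.mem_erase, Finset.mem_univ, and_true, Finset.mem_union, Finset.mem_Iio,
        Finset.mem_Ioi]
      exact lt_or_lt_iff_ne.symm
    have hdisj : ∀ i : Fin n, Disjoint (Finset.Iio i) (Finset.Ioi i) := by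
      intro i
      rw [Finset.disjoint_left]
      intro j h1 h2
      rw [Finset.mem_Iio] at h1
      rw [Finset.mem_Ioi] at h2
      exact lt_asymm h1 h2
    have h1 : (∏ i : Fin n, ∏ j ∈ Finset.univ.erase i,
        (MvPolynomial.X i - MvPolynomial.X j : MvPolynomial (Fin n) ℤ)) =
        (∏ i : Fin n, ∏ j ∈ Finset.Iio i, (Xv i - Xv j)) *
          ∏ i : Fin n, ∏ j ∈ Finset.Ioi i, (Xv i - Xv j) := by
      rw [← Finset.prod_mul_distrib]
      refine Finset.prod_congr rfl fun i _ => ?_
      rw [herase, Finset.prod_union (hdisj i)]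
    have h2 : (∏ i : Fin n, ∏ j ∈ Finset.Iio i, (Xv i - Xv j)) =
        ∏ j : Fin n, ∏ i ∈ Finset.Ioi j, (Xv i - Xv j) := by
      refine Finset.prod_comm' ?_
      intro i j
      simp only [Finset.mem_univ, true_and, and_true, Finset.mem_Iio, Finset.mem_Ioi]
    rw [h1, h2]
  have hcond : ∀ σ τ : Equiv.Perm (Fin n),
      (E σ (fun i => (i : ℕ)) + E τ (fun i => (i.rev : ℕ)) =
        Finsupp.equivFunOnFinite.symm (fun _ : Fin n => n - 1)) ↔ σ = τ := by
    intro σ τ
    constructor
    · intro h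
      have h1 : ∀ x, σ.symm x = τ.symm x := by
        intro x
        have hx := DFunLike.congr_fun h x
        rw [Finsupp.add_apply, hE, hE, hdx] at hx
        have h2 : ((τ.symm x).rev : ℕ) = n - ((τ.symm x : ℕ) + 1) := Fin.val_rev _
        have h3 := (τ.symm x).2
        have h4 := (σ.symm x).2
        apply Fin.ext
        omega
      have h5 : σ.symm = τ.symm := Equiv.ext h1
      calc σ = σ.symm.symm := (Equiv.symm_symm σ).symm
        _ = τ.symm.symm := by rw [h5]
        _ = τ := Equiv.symm_symm τ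
    · rintro rfl
      ext x
      rw [Finsupp.add_apply, hE, hE, hdx]
      have h2 : ((σ.symm x).rev : ℕ) = n - ((σ.symm x : ℕ) + 1) := Fin.val_rev _
      have h3 := (σ.symm x).2
      omega
  rw [hP, hV, hW, Finset.sum_mul_sum]
  simp_rw [MvPolynomial.coeff_sum, MvPolynomial.monomial_mul, MvPolynomial.coeff_monomial, hcond]
  simp_rw [Finset.sum_ite_eq, Finset.mem_univ, if_true]
  have hsq : ∀ σ : Equiv.Perm (Fin n),
      (((Equiv.Perm.sign σ : ℤˣ) : ℤ)) * (((Equiv.Perm.sign σ : ℤˣ) : ℤ)) = 1 := by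
    intro σ
    rw [← Units.val_mul, Int.units_mul_self, Units.val_one]
  simp_rw [hsq]
  rw [Finset.sum_const, Finset.card_univ, Fintype.card_perm, Fintype.card_fin, nsmul_eq_mul, mul_one]

end Groth.Agent.S19004
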