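import Groth.Statements.S19005
-- import your own Groth.Agent.* helpers here

set_option autoImplicit false
open scoped TensorProduct
open K2Cent

namespace Groth.Agent.S19005

/-- For abelian groups X and M and ε in M with 2ε = 0 (in the source X is the character group of a split
torus and ε is the class of −1 among the units), the map x ↦ (x ⊗ x, −(x ⊗ ε)) into (X ⊗ X) × (X ⊗
M) is quadratic over ℤ, i.e. it underlies an integer quadratic map with exactly these values. -/
theorem result (X M : Type*) [AddCommGroup X]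
    [AddCommGroup M] (ε : M) (hε : 2 • ε = 0) :
    ∃ R : QuadraticMap ℤ X (TensorProduct ℤ X X × TensorProduct ℤ X M),
      ∀ x : X, R x = (x ⊗ₜ[ℤ] x, -(x ⊗ₜ[ℤ] ε)) := by
  have hε2 : ∀ x : X, (2 : ℤ) • (x ⊗ₜ[ℤ] ε) = 0 := by
    intro x
    rw [← TensorProduct.tmul_smul]
    have : (2 : ℤ) • ε = 0 := by
      rw [show (2 : ℤ) = ((2 : ℕ) : ℤ) from rfl, natCast_zsmul]; exact hε
    rw [this, TensorProduct.tmul_zero]
  have hpar : ∀ (a : ℤ) (x : X), (a * a) • (x ⊗ₜ[ℤ] ε) = a • (x ⊗ₜ[ℤ] ε) := by
    intro a x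
    obtain ⟨c, hc⟩ := (Int.even_mul_pred_self a).two_dvd
    have h1 : a * a = a + c * 2 := by linarith
    rw [h1, add_smul, mul_smul, hε2, smul_zero, add_zero]
  refine ⟨{ toFun := fun x => (x ⊗ₜ[ℤ] x, -(x ⊗ₜ[ℤ] ε))
            toFun_smul := ?_
            exists_companion' := ?_ }, fun x => rfl⟩
  · intro a x
    ext
    · simp only [Prod.smul_fst]
      rw [TensorProduct.smul_tmul_smul]
    · simp only [Prod.smul_snd, smul_neg]
      rw [hpar, TensorProduct.smul_tmul']
  · refine ⟨LinearMap.mk₂ ℤ (fun x y => (x ⊗ₜ[ℤ] y + y ⊗ₜ[ℤ] x, 0)) ?_ ?_ ?_ ?_, ?_⟩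
    · intro m₁ m₂ n
      ext
      · simp only [Prod.fst_add, TensorProduct.add_tmul, TensorProduct.tmul_add]; abel
      · simp
    · intro c m n
      ext
      · simp only [Prod.smul_fst, smul_add, TensorProduct.smul_tmul', TensorProduct.tmul_smul]
      · simp
    · intro m n₁ n₂
      ext
      · simp only [Prod.fst_add, TensorProduct.add_tmul, TensorProduct.tmul_add]; abel
      · simp
    · intro c m n
      ext
      · simp only [Prod.smul_fst, smul_add, TensorProduct.smul_tmul', TensorProduct.tmul_smul]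
      · simp
    · intro x y
      ext
      · simp only [LinearMap.mk₂_apply, Prod.fst_add, TensorProduct.add_tmul,
          TensorProduct.tmul_add]; abel
      · simp only [LinearMap.mk₂_apply, Prod.snd_add, TensorProduct.add_tmul, add_zero, neg_add]

end Groth.Agent.S19005
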