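import Groth.Statements.S19007
import Mathlib

set_option autoImplicit false
universe u v w x
open RootD

namespace Groth.Agent.S19007

/-- Let P be a finite reduced crystallographic root pairing over an integral domain of characteristic
zero, b a base of P (a system of simple roots) and Q a quadratic form on the coweight module with
polar form B. Then Q is invariant under all root reflections (equivalently under the Weyl group) on
the span of the coroots if and only if for all pairs of distinct simple roots α_i ≠ α_j one has
B(α_i^∨, α_j^∨) = ⟨α_j, α_i^∨⟩ Q(α_j^∨). (In the source the form is integer-valued on the lattice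
spanned by the coroots and the condition says that the bilinear form lies in the kernel of the last
map of a three-term complex built from the Bruhat cells of codimension at most two; here the form
takes values in the base ring.) -/
theorem result {ι : Type u} {R : Type v} {M : Type w} {N : Type x} [CommRing R] [IsDomain R] [CharZero R]
    [AddCommGroup M] [Module R M] [AddCommGroup N] [Module R N] (P : RootPairing ι R M N)
    [Finite ι] [P.IsCrystallographic] [P.IsReduced] (b : P.Base) (Q : QuadraticMap R N R) :
    (∀ i : ι, ∀ y ∈ Submodule.span R (Set.range P.coroot), Q (P.coreflection i y) = Q y) ↔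
      ∀ i ∈ b.support, ∀ j ∈ b.support, i ≠ j →
        QuadraticMap.polar Q (P.coroot i) (P.coroot j) = P.pairing j i * Q (P.coroot j) := by
  classical
  have hA : ∀ (j : ι) (y : N), Q (P.coreflection j y) =
      Q y + P.root' j y *
        (P.root' j y * Q (P.coroot j) - QuadraticMap.polar Q y (P.coroot j)) := by
    intro j y
    rw [P.coreflection_apply, sub_eq_add_neg, ← neg_smul, QuadraticMap.map_add (⇑Q),
      QuadraticMap.map_smul, QuadraticMap.polar_smul_right, smul_eq_mul, smul_eq_mul]
    ring
  have h22 : ∀ j : ι, P.root' j (P.coroot j) = 2 := fun j => P.root_coroot_two j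
  constructor
  · intro hinv i _ j _ _
    have hmem1 : P.coroot i ∈ Submodule.span R (Set.range P.coroot) :=
      Submodule.subset_span ⟨i, rfl⟩
    have hmem2 : P.coroot i + P.coroot j ∈ Submodule.span R (Set.range P.coroot) :=
      add_mem hmem1 (Submodule.subset_span ⟨j, rfl⟩)
    have e1 := hinv j _ hmem1
    have e2 := hinv j _ hmem2
    rw [hA] at e1 e2
    have e1' : P.root' j (P.coroot i) * (P.root' j (P.coroot i) * Q (P.coroot j) -
        QuadraticMap.polar Q (P.coroot i) (P.coroot j)) = 0 := by
      linear_combination e1
    have hc2 : P.root' j (P.coroot i + P.coroot j) = P.root' j (P.coroot i) + 2 := by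
      rw [map_add, h22]
    have hB2 : QuadraticMap.polar Q (P.coroot i + P.coroot j) (P.coroot j) =
        QuadraticMap.polar Q (P.coroot i) (P.coroot j) + 2 * Q (P.coroot j) := by
      rw [QuadraticMap.polar_add_left, QuadraticMap.polar_self, two_smul, two_mul]
    have e2' : (P.root' j (P.coroot i) + 2) * (P.root' j (P.coroot i) * Q (P.coroot j) -
        QuadraticMap.polar Q (P.coroot i) (P.coroot j)) = 0 := by
      rw [hc2, hB2] at e2
      linear_combination e2
    change QuadraticMap.polar Q (P.coroot i) (P.coroot j) =
      P.root' j (P.coroot i) * Q (P.coroot j)
    have h2 : (2 : R) * (P.root' j (P.coroot i) * Q (P.coroot j) -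
        QuadraticMap.polar Q (P.coroot i) (P.coroot j)) = 0 := by
      linear_combination e2' - e1'
    have h3 := (mul_eq_zero.1 h2).resolve_left two_ne_zero
    linear_combination -h3
  · intro hsimple
    have hL : ∀ j ∈ b.support, ∀ y ∈ Submodule.span R (Set.range P.coroot),
        P.root' j y * Q (P.coroot j) - QuadraticMap.polar Q y (P.coroot j) = 0 := by
      intro j hj y hy
      let L : N →ₗ[R] R :=
        Q (P.coroot j) • P.root' j - (QuadraticMap.polarBilin Q).flip (P.coroot j)
      have hLy : ∀ y, L y =
          P.root' j y * Q (P.coroot j) - QuadraticMap.polar Q y (P.coroot j) := by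
        intro y
        simp only [L, LinearMap.sub_apply, LinearMap.smul_apply, LinearMap.flip_apply,
          QuadraticMap.polarBilin_apply_apply, smul_eq_mul]
        ring
      have hspan : Submodule.span R (Set.range P.coroot) =
          Submodule.span R (P.coroot '' b.support) := by
        rw [b.span_coroot_support]
      rw [hspan] at hy
      have hker : Submodule.span R (P.coroot '' b.support) ≤ LinearMap.ker L := by
        rw [Submodule.span_le]
        rintro _ ⟨i, hi, rfl⟩
        rw [SetLike.mem_coe, LinearMap.mem_ker, hLy]
        by_cases hij : i = j
        · subst hij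
          rw [QuadraticMap.polar_self, two_smul, h22]
          ring
        · rw [hsimple i hi j hj hij]
          exact sub_self _
      have h0 := hker hy
      rw [LinearMap.mem_ker, hLy] at h0
      exact h0
    have hstable : ∀ (i : ι) (y : N), y ∈ Submodule.span R (Set.range P.coroot) →
        P.coreflection i y ∈ Submodule.span R (Set.range P.coroot) := by
      intro i y hy
      have hle : Submodule.map (P.coreflection i).toLinearMap
          (Submodule.span R (Set.range P.coroot)) ≤ Submodule.span R (Set.range P.coroot) := by
        rw [Submodule.map_span, Submodule.span_le]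
        exact (P.mapsTo_coreflection_coroot i).image_subset.trans Submodule.subset_span
      exact hle (Submodule.mem_map_of_mem hy)
    have hneg : ∀ i : ι, P.coreflection (P.reflectionPerm i i) = P.coreflection i := by
      intro i
      ext x
      rw [P.coreflection_apply, P.coreflection_apply, P.coroot_reflectionPerm,
        P.coreflection_apply_self]
      have h1 : P.root' (P.reflectionPerm i i) x = - P.root' i x := by
        change P.toLinearMap (P.root (P.reflectionPerm i i)) x = - P.toLinearMap (P.root i) x
        rw [P.root_reflectionPerm, P.reflection_apply_self, map_neg, LinearMap.neg_apply]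
      rw [h1, neg_smul_neg]
    have hsimple_inv : ∀ j ∈ b.support, ∀ z ∈ Submodule.span R (Set.range P.coroot),
        Q (P.coreflection j z) = Q z := by
      intro j hj z hz
      rw [hA, hL j hj z hz, mul_zero, add_zero]
    intro i
    refine b.induction_reflect i
      (p := fun i => ∀ y ∈ Submodule.span R (Set.range P.coroot), Q (P.coreflection i y) = Q y)
      ?_ ?_ ?_
    · intro i hi y hy
      rw [hneg]
      exact hi y hy
    · intro j hj y hy
      exact hsimple_inv j hj y hy
    · intro i j hi hj y hy
      have hconj : P.coreflection (P.reflectionPerm j i) =
          P.coreflection j * P.coreflection i * P.coreflection j :=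
        P.flip.reflection_reflectionPerm
      have happ : P.coreflection (P.reflectionPerm j i) y =
          P.coreflection j (P.coreflection i (P.coreflection j y)) := by
        rw [hconj]
        rfl
      rw [happ, hsimple_inv j hj _ (hstable i _ (hstable j _ hy)), hi _ (hstable j _ hy),
        hsimple_inv j hj _ hy]

end Groth.Agent.S19007
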