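import Groth.Statements.S19009
import Mathlib

set_option autoImplicit false
universe u v w x
open RootD

namespace Groth.Agent.S19009

/-- Let P be a root pairing over an integral domain R of characteristic zero (roots α acting on the
coweight module N through reflections y ↦ y − ⟨α, y⟩ α^∨), D ⊆ N a submodule containing every coroot
and such that every element of D has a positive integer multiple in the span of the coroots (the
derived part), and Y₀ a complement of D in N. Let Q_d be a quadratic form on N whose restriction to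
D is invariant under all root reflections. Then there is a quadratic form on N, invariant under all
root reflections and agreeing with Q_d on D, if and only if there is an R-bilinear form Φ on N with
Φ(y₀, α^∨) = ⟨α, y₀⟩ Q_d(α^∨) for all y₀ in Y₀ and all roots α. (In the source R = ℤ, N = Y₀ ⊕ Y_der
is the cocharacter lattice of a split reductive group, and the condition is phrased as integrality
on Y₀ × Y_der of the pairing y₀, y ↦ B(q(y₀), y) deduced from the polar form B of Q_d; that pairing
is characterised by the displayed values on coroots, only the values of Φ on Y₀ × D matter, and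
forms take values in R here.) -/
theorem result {ι : Type u} {R : Type v} {M : Type w} {N : Type x} [CommRing R] [IsDomain R] [CharZero R]
    [AddCommGroup M] [Module R M] [AddCommGroup N] [Module R N] (P : RootPairing ι R M N)
    (D Y₀ : Submodule R N) (hD : ∀ i : ι, P.coroot i ∈ D)
    (hDsat : ∀ y ∈ D, ∃ n : ℕ, 0 < n ∧ n • y ∈ Submodule.span R (Set.range P.coroot))
    (hc : IsCompl Y₀ D)
    (Qd : QuadraticMap R N R) (hQd : ∀ i : ι, ∀ y ∈ D, Qd (P.coreflection i y) = Qd y) :
    (∃ Q : QuadraticMap R N R, (∀ (i : ι) (y : N), Q (P.coreflection i y) = Q y) ∧ ∀ y ∈ D, Q y = Qd y) ↔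
      ∃ Φ : N →ₗ[R] N →ₗ[R] R, ∀ y₀ ∈ Y₀, ∀ i : ι,
        Φ y₀ (P.coroot i) = P.root' i y₀ * Qd (P.coroot i) := by
  classical
  have hE : ∀ (Q : QuadraticMap R N R) (c : R) (y v : N),
      Q (y - c • v) = Q y + c * c * Q v - c * QuadraticMap.polar Q y v := by
    intro Q c y v
    rw [sub_eq_add_neg, ← neg_smul, QuadraticMap.map_add (⇑Q),
      QuadraticMap.map_smul, QuadraticMap.polar_smul_right, smul_eq_mul, smul_eq_mul]
    ring
  have h22 : ∀ j : ι, P.root' j (P.coroot j) = 2 := fun j => P.root_coroot_two j
  have hL : ∀ (Q : QuadraticMap R N R) (S : Submodule R N), (∀ i, P.coroot i ∈ S) →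
      (∀ (i : ι), ∀ y ∈ S, Q (P.coreflection i y) = Q y) →
      ∀ (j : ι), ∀ y ∈ S,
      QuadraticMap.polar Q y (P.coroot j) = P.root' j y * Q (P.coroot j) := by
    intro Q S hS hQ j y hy
    have e1 := hQ j y hy
    have e2 := hQ j (y + P.coroot j) (S.add_mem hy (hS j))
    have hc2 : P.root' j (y + P.coroot j) = P.root' j y + 2 := by
      rw [map_add, h22]
    have hB2 : QuadraticMap.polar Q (y + P.coroot j) (P.coroot j) =
        QuadraticMap.polar Q y (P.coroot j) + 2 * Q (P.coroot j) := by
      rw [QuadraticMap.polar_add_left, QuadraticMap.polar_self, two_smul, two_mul]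
    rw [P.coreflection_apply, hE] at e1
    rw [P.coreflection_apply, hE, hc2, hB2] at e2
    have e1' : P.root' j y * (P.root' j y * Q (P.coroot j) -
        QuadraticMap.polar Q y (P.coroot j)) = 0 := by
      linear_combination e1
    have e2' : (P.root' j y + 2) * (P.root' j y * Q (P.coroot j) -
        QuadraticMap.polar Q y (P.coroot j)) = 0 := by
      linear_combination e2
    have h2 : (2 : R) * (P.root' j y * Q (P.coroot j) -
        QuadraticMap.polar Q y (P.coroot j)) = 0 := by
      linear_combination e2' - e1'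
    have h3 := (mul_eq_zero.1 h2).resolve_left two_ne_zero
    linear_combination -h3
  constructor
  · rintro ⟨Q, hQ, hQD⟩
    refine ⟨Q.polarBilin, fun y₀ _ i => ?_⟩
    rw [QuadraticMap.polarBilin_apply_apply,
      hL Q ⊤ (fun _ => Submodule.mem_top) (fun i y _ => hQ i y) i y₀ Submodule.mem_top,
      hQD _ (hD i)]
  · rintro ⟨Φ, hΦ⟩
    obtain ⟨p₀, pD, h0mem, hDmem, hsum, h0D, hDD⟩ : ∃ p₀ pD : N →ₗ[R] N, (∀ x, p₀ x ∈ Y₀) ∧
        (∀ x, pD x ∈ D) ∧ (∀ x, p₀ x + pD x = x) ∧ (∀ d ∈ D, p₀ d = 0) ∧ (∀ d ∈ D, pD d = d) :=
      ⟨Y₀.projection D hc, D.projection Y₀ hc.symm,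
        fun x => Submodule.projection_apply_mem hc x,
        fun x => Submodule.projection_apply_mem hc.symm x,
        fun x => Submodule.projection_add_projection_eq_self hc x,
        fun d hd => Submodule.projection_apply_of_mem_right hc hd,
        fun d hd => Submodule.projection_apply_of_mem_left hc.symm hd⟩
    have hLD := hL Qd D hD hQd
    have hQx : ∀ x : N, (Qd.comp pD + LinearMap.BilinMap.toQuadraticMap (Φ.compl₁₂ p₀ pD)) x =
        Qd (pD x) + Φ (p₀ x) (pD x) := fun x => rfl
    refine ⟨Qd.comp pD + LinearMap.BilinMap.toQuadraticMap (Φ.compl₁₂ p₀ pD), ?_, ?_⟩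
    · intro i x
      have hv := hD i
      have hp0 : p₀ (P.coreflection i x) = p₀ x := by
        rw [P.coreflection_apply, map_sub, map_smul, h0D _ hv, smul_zero, sub_zero]
      have hpD : pD (P.coreflection i x) = pD x - P.root' i x • P.coroot i := by
        rw [P.coreflection_apply, map_sub, map_smul, hDD _ hv]
      have hcx : P.root' i x = P.root' i (p₀ x) + P.root' i (pD x) := by
        rw [← map_add, hsum]
      have hk := hLD i (pD x) (hDmem x)
      have hΦ' := hΦ (p₀ x) (h0mem x) i
      rw [hQx, hQx, hp0, hpD, hE, map_sub, map_smul, smul_eq_mul, hk, hΦ', hcx]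
      ring
    · intro y hy
      rw [hQx, h0D y hy, hDD y hy, map_zero, LinearMap.zero_apply, add_zero]

end Groth.Agent.S19009
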