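import Groth.Statements.S19010
import Mathlib

set_option autoImplicit false
universe u v w x
open RootD

namespace Groth.Agent.S19010

/-- Let P be a root pairing over an integral domain R of characteristic zero (roots α acting on the
coweight module N through reflections y ↦ y − ⟨α, y⟩ α^∨), D ⊆ N a submodule containing every coroot
and such that every element of D has a positive integer multiple in the span of the coroots (the
derived part), and Y₀ a complement of D in N. Let Q' be a quadratic form on N invariant under all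
root reflections. Then restriction to Y₀ is a bijection from the set of quadratic forms on N that
are invariant under all root reflections and agree with Q' on D onto the set of all quadratic forms
on Y₀. (In the source R = ℤ and N = Y₀ ⊕ Y_der is the cocharacter lattice of a split reductive
group; forms take values in R here.) -/
theorem result {ι : Type u} {R : Type v} {M : Type w} {N : Type x} [CommRing R] [IsDomain R] [CharZero R]
    [AddCommGroup M] [Module R M] [AddCommGroup N] [Module R N] (P : RootPairing ι R M N)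
    (D Y₀ : Submodule R N) (hD : ∀ i : ι, P.coroot i ∈ D)
    (hDsat : ∀ y ∈ D, ∃ n : ℕ, 0 < n ∧ n • y ∈ Submodule.span R (Set.range P.coroot))
    (hc : IsCompl Y₀ D)
    (Q' : QuadraticMap R N R) (hQ' : ∀ (i : ι) (y : N), Q' (P.coreflection i y) = Q' y) :
    Set.BijOn (fun Q : QuadraticMap R N R => Q.comp Y₀.subtype)
      {Q | (∀ (i : ι) (y : N), Q (P.coreflection i y) = Q y) ∧ ∀ y ∈ D, Q y = Q' y} Set.univ := by
  classical
  have hA : ∀ (Q : QuadraticMap R N R) (j : ι) (y : N), Q (P.coreflection j y) =
      Q y + P.root' j y *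
        (P.root' j y * Q (P.coroot j) - QuadraticMap.polar Q y (P.coroot j)) := by
    intro Q j y
    rw [P.coreflection_apply, sub_eq_add_neg, ← neg_smul, QuadraticMap.map_add (⇑Q),
      QuadraticMap.map_smul, QuadraticMap.polar_smul_right, smul_eq_mul, smul_eq_mul]
    ring
  have h22 : ∀ j : ι, P.root' j (P.coroot j) = 2 := fun j => P.root_coroot_two j
  have hL : ∀ (Q : QuadraticMap R N R), (∀ (i : ι) (y : N), Q (P.coreflection i y) = Q y) →
      ∀ (j : ι) (y : N),
      QuadraticMap.polar Q y (P.coroot j) = P.root' j y * Q (P.coroot j) := by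
    intro Q hQ j y
    have e1 := hQ j y
    have e2 := hQ j (y + P.coroot j)
    rw [hA] at e1 e2
    have e1' : P.root' j y * (P.root' j y * Q (P.coroot j) -
        QuadraticMap.polar Q y (P.coroot j)) = 0 := by
      linear_combination e1
    have hc2 : P.root' j (y + P.coroot j) = P.root' j y + 2 := by
      rw [map_add, h22]
    have hB2 : QuadraticMap.polar Q (y + P.coroot j) (P.coroot j) =
        QuadraticMap.polar Q y (P.coroot j) + 2 * Q (P.coroot j) := by
      rw [QuadraticMap.polar_add_left, QuadraticMap.polar_self, two_smul, two_mul]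
    have e2' : (P.root' j y + 2) * (P.root' j y * Q (P.coroot j) -
        QuadraticMap.polar Q y (P.coroot j)) = 0 := by
      rw [hc2, hB2] at e2
      linear_combination e2
    have h2 : (2 : R) * (P.root' j y * Q (P.coroot j) -
        QuadraticMap.polar Q y (P.coroot j)) = 0 := by
      linear_combination e2' - e1'
    have h3 := (mul_eq_zero.1 h2).resolve_left two_ne_zero
    linear_combination -h3
  refine ⟨fun _ _ => Set.mem_univ _, ?_, ?_⟩
  · rintro Q₁ ⟨h1inv, h1D⟩ Q₂ ⟨h2inv, h2D⟩ h
    ext x
    have hx : x ∈ Y₀ ⊔ D := by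
      rw [hc.sup_eq_top]
      exact Submodule.mem_top
    obtain ⟨y₀, hy₀, d, hd, rfl⟩ := Submodule.mem_sup.1 hx
    have e1 : Q₁ y₀ = Q₂ y₀ := DFunLike.congr_fun h ⟨y₀, hy₀⟩
    have e2 : Q₁ d = Q₂ d := by rw [h1D d hd, h2D d hd]
    have e3 : QuadraticMap.polar Q₁ y₀ d = QuadraticMap.polar Q₂ y₀ d := by
      let L : N →ₗ[R] R := Q₁.polarBilin y₀ - Q₂.polarBilin y₀
      have hLapp : ∀ z, L z = QuadraticMap.polar Q₁ y₀ z - QuadraticMap.polar Q₂ y₀ z := by
        intro z
        simp [L]
      have hspan : Submodule.span R (Set.range P.coroot) ≤ LinearMap.ker L := by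
        rw [Submodule.span_le]
        rintro _ ⟨j, rfl⟩
        rw [SetLike.mem_coe, LinearMap.mem_ker, hLapp, hL Q₁ h1inv, hL Q₂ h2inv,
          h1D _ (hD j), h2D _ (hD j), sub_self]
      obtain ⟨n, hn, hnd⟩ := hDsat d hd
      have h0 : L (n • d) = 0 := LinearMap.mem_ker.1 (hspan hnd)
      rw [map_nsmul, nsmul_eq_mul] at h0
      have hn' : (n : R) ≠ 0 := Nat.cast_ne_zero.2 hn.ne'
      have h1 := (mul_eq_zero.1 h0).resolve_left hn'
      rw [hLapp] at h1
      exact sub_eq_zero.1 h1
    rw [QuadraticMap.map_add (⇑Q₁), QuadraticMap.map_add (⇑Q₂), e1, e2, e3]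
  · intro q₀ _
    obtain ⟨π₀, hπl, hπr⟩ : ∃ π₀ : N →ₗ[R] Y₀, (∀ y : Y₀, π₀ y = y) ∧ (∀ d ∈ D, π₀ d = 0) :=
      ⟨Y₀.projectionOnto D hc, fun y => Submodule.projectionOnto_apply_left hc y,
        fun d hd => Submodule.projectionOnto_apply_of_mem_right hc hd⟩
    have hπ : ∀ (i : ι) (y : N), π₀ (P.coreflection i y) = π₀ y := by
      intro i y
      rw [P.coreflection_apply, map_sub, map_smul, hπr _ (hD i), smul_zero, sub_zero]
    have hQx : ∀ y : N, (Q' + (q₀ - Q'.comp Y₀.subtype).comp π₀) y =
        Q' y + (q₀ (π₀ y) - Q' (π₀ y : N)) := fun y => rfl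
    refine ⟨Q' + (q₀ - Q'.comp Y₀.subtype).comp π₀, ⟨?_, ?_⟩, ?_⟩
    · intro i y
      rw [hQx, hQx, hπ, hQ']
    · intro y hy
      rw [hQx, hπr y hy]
      simp
    · ext y
      change (Q' + (q₀ - Q'.comp Y₀.subtype).comp π₀) (y : N) = q₀ y
      rw [hQx, hπl]
      ring

end Groth.Agent.S19010
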