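import Groth.Statements.S19012
import Mathlib

set_option autoImplicit false
universe u v w x
open RootD

namespace Groth.Agent.S19012

/-- Let P be a finite reduced crystallographic root pairing over a field of characteristic zero which is
irreducible, and b a base. A quadratic form on the coweight module that is invariant under all root
reflections and vanishes on some simple coroot is zero; in other words an invariant form is
determined by its value on a single simple coroot. (The source proves, component by component of the
Dynkin diagram, that an invariant integer-valued form on the coroot lattice with prescribed value on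
the first simple coroot of each component is unique; here the system is irreducible, the coroots
span the coweight module, and forms take values in the base field.) -/
theorem result {ι : Type u} {K : Type v} {M : Type w} {N : Type x} [Field K] [CharZero K]
    [AddCommGroup M] [Module K M] [AddCommGroup N] [Module K N] (P : RootPairing ι K M N)
    [Finite ι] [P.IsCrystallographic] [P.IsReduced] [P.IsIrreducible] (b : P.Base)
    (Q : QuadraticMap K N K) (hQ : ∀ (i : ι) (y : N), Q (P.coreflection i y) = Q y)
    (i₀ : ι) (hi₀ : i₀ ∈ b.support) (h0 : Q (P.coroot i₀) = 0) : Q = 0 := by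
  classical
  have hA : ∀ (j : ι) (y : N), Q (P.coreflection j y) =
      Q y + P.root' j y *
        (P.root' j y * Q (P.coroot j) - QuadraticMap.polar Q y (P.coroot j)) := by
    intro j y
    rw [P.coreflection_apply, sub_eq_add_neg, ← neg_smul, QuadraticMap.map_add (⇑Q),
      QuadraticMap.map_smul, QuadraticMap.polar_smul_right, smul_eq_mul, smul_eq_mul]
    ring
  have h22 : ∀ j : ι, P.root' j (P.coroot j) = 2 := fun j => P.root_coroot_two j
  have hL : ∀ (j : ι) (y : N),
      QuadraticMap.polar Q y (P.coroot j) = P.root' j y * Q (P.coroot j) := by
    intro j y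
    have e1 := hQ j y
    have e2 := hQ j (y + P.coroot j)
    rw [hA] at e1 e2
    have e1' : P.root' j y * (P.root' j y * Q (P.coroot j) -
        QuadraticMap.polar Q y (P.coroot j)) = 0 := by
      linear_combination e1
    have hc2 : P.root' j (y + P.coroot j) = P.root' j y + 2 := by
      rw [map_add, h22]
    have hB2 : QuadraticMap.polar Q (y + P.coroot j) (P.coroot j) =
        QuadraticMap.polar Q y (P.coroot j) + 2 * Q (P.coroot j) := by
      rw [QuadraticMap.polar_add_left, QuadraticMap.polar_self, two_smul, two_mul]
    have e2' : (P.root' j y + 2) * (P.root' j y * Q (P.coroot j) -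
        QuadraticMap.polar Q y (P.coroot j)) = 0 := by
      rw [hc2, hB2] at e2
      linear_combination e2
    have h2 : (2 : K) * (P.root' j y * Q (P.coroot j) -
        QuadraticMap.polar Q y (P.coroot j)) = 0 := by
      linear_combination e2' - e1'
    have h3 := (mul_eq_zero.1 h2).resolve_left two_ne_zero
    linear_combination -h3
  let Rad : Submodule K N :=
    { carrier := {x | Q x = 0 ∧ ∀ y, QuadraticMap.polar Q y x = 0}
      zero_mem' := ⟨QuadraticMap.map_zero Q, fun y => QuadraticMap.polar_zero_right Q y⟩
      add_mem' := by
        rintro x₁ x₂ ⟨h1, h1'⟩ ⟨h2, h2'⟩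
        refine ⟨?_, fun y => ?_⟩
        · rw [QuadraticMap.map_add (⇑Q), h1, h2, h2' x₁, add_zero, add_zero]
        · rw [QuadraticMap.polar_add_right, h1' y, h2' y, add_zero]
      smul_mem' := by
        rintro t x ⟨h1, h1'⟩
        refine ⟨?_, fun y => ?_⟩
        · rw [QuadraticMap.map_smul, h1, smul_zero]
        · rw [QuadraticMap.polar_smul_right, h1' y, smul_zero] }
  have hRadmem : ∀ x, x ∈ Rad ↔ (Q x = 0 ∧ ∀ y, QuadraticMap.polar Q y x = 0) :=
    fun x => Iff.rfl
  have hinv : ∀ i, Rad ∈ Module.End.invtSubmodule (P.coreflection i : Module.End K N) := by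
    intro i
    rw [Module.End.mem_invtSubmodule_iff_forall_mem_of_mem]
    intro x hx
    obtain ⟨h1, h1'⟩ := (hRadmem x).1 hx
    refine (hRadmem _).2 ⟨?_, fun y => ?_⟩
    · change Q (P.coreflection i x) = 0
      rw [hQ, h1]
    · change QuadraticMap.polar Q y (P.coreflection i x) = 0
      have hy : y = P.coreflection i (P.coreflection i y) := (P.coreflection_same i y).symm
      rw [hy]
      unfold QuadraticMap.polar
      rw [← map_add, hQ i (P.coreflection i y + x), hQ i (P.coreflection i y), hQ i x]
      exact h1' _
  have hv : P.coroot i₀ ∈ Rad := (hRadmem _).2 ⟨h0, fun y => by rw [hL, h0, mul_zero]⟩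
  have hne : Rad ≠ ⊥ := by
    intro h
    have hmem : P.coroot i₀ ∈ (⊥ : Submodule K N) := h ▸ hv
    rw [Submodule.mem_bot] at hmem
    exact P.ne_zero' i₀ hmem
  have htop := RootPairing.IsIrreducible.eq_top_of_invtSubmodule_coreflection (P := P) Rad hinv hne
  ext x
  have hx : x ∈ Rad := htop ▸ Submodule.mem_top
  rw [zero_apply]
  exact ((hRadmem x).1 hx).1

end Groth.Agent.S19012
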