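import Groth.Statements.S19013
import Mathlib
import Groth.Agent.S13279
import Groth.Agent.Lib.Helper5.MilKGen
import Groth.Agent.Lib.Helper4.MilKAux

set_option autoImplicit false
universe u v
open MilnorK

namespace Groth.Agent.S19013

/-- Let A ⊆ B be discrete valuation rings, the inclusion being a local homomorphism, with fraction
fields E ⊆ F compatibly, with the induced homomorphism of residue fields κ(A) → κ(B), and with
ramification index e, the natural number such that the maximal ideal of A generates the e-th power
of the maximal ideal of B. Let ∂_A : K_{n+1}(E) → K_n(κ(A)) and ∂_B : K_{n+1}(F) → K_n(κ(B)) be the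
residue maps (tame symbols) on Milnor K-groups. Then for every x in K_{n+1}(E) one has ∂_B(x_F) = e
· (∂_A x)_{κ(B)}, where the subscripts denote the change-of-fields maps along E → F and κ(A) → κ(B).
(The published statement concerns discrete valuations of geometric type on fields finitely generated
over a base field; it is stated here for an arbitrary pair of discrete valuation rings, which is all
the printed computation uses.) -/
theorem result
    (A B : Type u) [CommRing A] [IsDomain A] [IsDiscreteValuationRing A]
    [CommRing B] [IsDomain B] [IsDiscreteValuationRing B] [Algebra A B] [IsLocalHom (algebraMap A B)]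
    (E F : Type v) [Field E] [Field F] [Algebra A E] [IsFractionRing A E] [Algebra B F] [IsFractionRing B F]
    [Algebra E F] [Algebra A F] [IsScalarTower A E F] [IsScalarTower A B F]
    (e : ℕ) (he : Ideal.map (algebraMap A B) (IsLocalRing.maximalIdeal A) = IsLocalRing.maximalIdeal B ^ e)
    (n : ℕ) (dA : MilK.K E (n + 1) →+ MilK.K (IsLocalRing.ResidueField A) n) (hdA : MilK.IsTameSymbol A E n dA)
    (dB : MilK.K F (n + 1) →+ MilK.K (IsLocalRing.ResidueField B) n) (hdB : MilK.IsTameSymbol B F n dB)
    (x : MilK.K E (n + 1)) :
    dB (MilK.map (algebraMap E F) (n + 1) x) =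
      e • MilK.map (IsLocalRing.ResidueField.map (algebraMap A B)) n (dA x) := by
  classical
  obtain ⟨ϖB, hϖB⟩ := IsDiscreteValuationRing.exists_irreducible B
  have hkerB := (Groth.Agent.S13279.result B F n dB hdB).2
  -- unit symbols are killed by dB
  have hunit : ∀ v : Fin (n + 1) → Bˣ,
      dB (MilK.symbol fun i => MilK.unitToFrac B F (v i)) = 0 := by
    intro v
    rw [← AddMonoidHom.mem_ker, hkerB]
    exact AddSubgroup.subset_closure ⟨v, rfl⟩
  set D : MilK.K E (n + 1) →+ MilK.K (IsLocalRing.ResidueField B) n :=
    dB.comp (MilK.map (algebraMap E F) (n + 1)) -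
      (nsmulAddMonoidHom e).comp
        ((MilK.map (IsLocalRing.ResidueField.map (algebraMap A B)) n).comp dA) with hD
  have hD0 : D = 0 := by
    apply Groth.Agent.Helper5.hom_eq_zero_of_tame_vanish A E n D
    intro ϖ hϖ us
    -- the image of the uniformizer
    obtain ⟨w, hw⟩ : ∃ w : Bˣ, algebraMap A B ϖ = ϖB ^ e * (w : B) := by
      have h1 : Ideal.span {algebraMap A B ϖ} = Ideal.span {ϖB ^ e} := by
        have ha : IsLocalRing.maximalIdeal A = Ideal.span {ϖ} := hϖ.maximalIdeal_eq
        have hb : IsLocalRing.maximalIdeal B = Ideal.span {ϖB} := hϖB.maximalIdeal_eq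
        rw [ha, hb, Ideal.map_span, Set.image_singleton, Ideal.span_singleton_pow] at he
        exact he
      rw [Ideal.span_singleton_eq_span_singleton] at h1
      obtain ⟨w, hw⟩ := h1.symm
      exact ⟨w, hw.symm⟩
    have hϖ_map : Units.map ((algebraMap E F : E →+* F) : E →* F)
        (MilK.unitFrac A E ϖ hϖ.ne_zero) =
        MilK.unitFrac B F ϖB hϖB.ne_zero ^ e * MilK.unitToFrac B F w := by
      apply Units.ext
      simp only [Units.coe_map, MonoidHom.coe_coe, MilK.coe_unitFrac, Units.val_mul,
        Units.val_pow_eq_pow_val, MilK.unitToFrac]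
      rw [← IsScalarTower.algebraMap_apply A E F, IsScalarTower.algebraMap_apply A B F, hw,
        map_mul, map_pow]
    have hu_map : ∀ i, Units.map ((algebraMap E F : E →+* F) : E →* F)
        (MilK.unitToFrac A E (us i)) =
        MilK.unitToFrac B F (Units.map (algebraMap A B : A →* B) (us i)) := by
      intro i
      apply Units.ext
      simp only [Units.coe_map, MonoidHom.coe_coe, MilK.unitToFrac]
      rw [← IsScalarTower.algebraMap_apply A E F, IsScalarTower.algebraMap_apply A B F]
    have hres : ∀ i, Units.map
        ((IsLocalRing.ResidueField.map (algebraMap A B) :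
          IsLocalRing.ResidueField A →+* IsLocalRing.ResidueField B) :
          IsLocalRing.ResidueField A →* IsLocalRing.ResidueField B)
        (MilK.unitResidue A (us i)) =
        MilK.unitResidue B (Units.map (algebraMap A B : A →* B) (us i)) := by
      intro i
      apply Units.ext
      simp only [Units.coe_map, MonoidHom.coe_coe, MilK.unitResidue]
      exact IsLocalRing.ResidueField.map_residue _ _
    -- the image of the symbol in K F (n+1)
    have h1 : MilK.map (algebraMap E F) (n + 1)
        (MilK.symbol (Fin.cons (MilK.unitFrac A E ϖ hϖ.ne_zero)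
          fun i => MilK.unitToFrac A E (us i))) =
        e • MilK.symbol (Fin.cons (MilK.unitFrac B F ϖB hϖB.ne_zero)
          fun i => MilK.unitToFrac B F (Units.map (algebraMap A B : A →* B) (us i))) +
        MilK.symbol (fun i => MilK.unitToFrac B F
          ((Fin.cons w (fun i => Units.map (algebraMap A B : A →* B) (us i)) :
            Fin (n + 1) → Bˣ) i)) := by
      rw [MilK.map_symbol]
      have h2 : (fun i => Units.map ((algebraMap E F : E →+* F) : E →* F)
          ((Fin.cons (MilK.unitFrac A E ϖ hϖ.ne_zero)
            (fun i => MilK.unitToFrac A E (us i)) : Fin (n + 1) → Eˣ) i)) =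
          Fin.cons (MilK.unitFrac B F ϖB hϖB.ne_zero ^ e * MilK.unitToFrac B F w)
            (fun i => MilK.unitToFrac B F (Units.map (algebraMap A B : A →* B) (us i))) := by
        funext i
        refine Fin.cases ?_ (fun j => ?_) i
        · simp only [Fin.cons_zero]; exact hϖ_map
        · simp only [Fin.cons_succ]; exact hu_map j
      have h3 : (fun i => MilK.unitToFrac B F
          ((Fin.cons w (fun i => Units.map (algebraMap A B : A →* B) (us i)) :
            Fin (n + 1) → Bˣ) i)) =
          Fin.cons (MilK.unitToFrac B F w)
            (fun i => MilK.unitToFrac B F (Units.map (algebraMap A B : A →* B) (us i))) := by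
        funext i
        refine Fin.cases ?_ (fun j => ?_) i <;> simp
      rw [h2, h3, Groth.Agent.Helper5.symbol_cons_mul, Groth.Agent.Helper4.symbol_cons_pow']
    have h4 : (fun i => MilK.unitResidue B (Units.map (algebraMap A B : A →* B) (us i))) =
        fun i => Units.map
          ((IsLocalRing.ResidueField.map (algebraMap A B) :
            IsLocalRing.ResidueField A →+* IsLocalRing.ResidueField B) :
            IsLocalRing.ResidueField A →* IsLocalRing.ResidueField B)
          (MilK.unitResidue A (us i)) := funext fun i => (hres i).symm
    simp only [hD, AddMonoidHom.sub_apply, AddMonoidHom.comp_apply, nsmulAddMonoidHom_apply]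
    rw [h1, map_add, map_nsmul,
      hunit (Fin.cons w (fun i => Units.map (algebraMap A B : A →* B) (us i))), add_zero,
      hdB ϖB hϖB (fun i => Units.map (algebraMap A B : A →* B) (us i)), hdA ϖ hϖ us,
      MilK.map_symbol, sub_eq_zero, h4]
  have h := DFunLike.congr_fun hD0 x
  simp only [hD, AddMonoidHom.sub_apply, AddMonoidHom.comp_apply, nsmulAddMonoidHom_apply,
    AddMonoidHom.zero_apply, sub_eq_zero] at h
  exact h

end Groth.Agent.S19013
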