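import Groth.Statements.S19016
import Mathlib
import Groth.Agent.Lib.Helper5.MilKGen
import Groth.Agent.Lib.Helper4.MilKAux

set_option autoImplicit false
universe u v
open MilnorK

namespace Groth.Agent.S19016

/-- Let B be a discrete valuation ring with fraction field F and residue field κ, let u be a unit of B
with residue class ū, and let ∂ denote the residue maps (tame symbols) K_{n+1}(F) → K_n(κ) and
K_{n+2}(F) → K_{n+1}(κ) on Milnor K-groups. Then ∂({u} · ρ) = −{ū} · ∂(ρ) for every ρ in K_{n+1}(F),
the products {u} · ρ in K_{1+(n+1)}(F) and {ū} · ∂ρ in K_{1+n}(κ) being regarded in K_{n+2}(F) and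
K_{n+1}(κ). (The published statement concerns discrete valuations of geometric type on fields
finitely generated over a base field; it is stated here for an arbitrary discrete valuation ring,
which is all the printed computation uses.) -/
theorem result
    (B : Type u) [CommRing B] [IsDomain B] [IsDiscreteValuationRing B]
    (F : Type v) [Field F] [Algebra B F] [IsFractionRing B F] (n : ℕ)
    (d : MilK.K F (n + 1) →+ MilK.K (IsLocalRing.ResidueField B) n) (hd : MilK.IsTameSymbol B F n d)
    (d' : MilK.K F (n + 1 + 1) →+ MilK.K (IsLocalRing.ResidueField B) (n + 1))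
    (hd' : MilK.IsTameSymbol B F (n + 1) d')
    (u : Bˣ) (ρ : MilK.K F (n + 1)) :
    d' (MilK.cast F (Nat.add_comm 1 (n + 1)) (MilK.mul F 1 (n + 1) (MilK.symbol ![MilK.unitToFrac B F u]) ρ)) =
      -(MilK.cast (IsLocalRing.ResidueField B) (Nat.add_comm 1 n)
          (MilK.mul (IsLocalRing.ResidueField B) 1 n (MilK.symbol ![MilK.unitResidue B u]) (d ρ))) := by
  classical
  set D : MilK.K F (n + 1) →+ MilK.K (IsLocalRing.ResidueField B) (n + 1) :=
    d'.comp ((MilK.cast F (Nat.add_comm 1 (n + 1))).toAddMonoidHom.comp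
      (MilK.mul F 1 (n + 1) (MilK.symbol ![MilK.unitToFrac B F u]))) +
    ((MilK.cast (IsLocalRing.ResidueField B) (Nat.add_comm 1 n)).toAddMonoidHom.comp
      (MilK.mul (IsLocalRing.ResidueField B) 1 n (MilK.symbol ![MilK.unitResidue B u]))).comp d
    with hD
  have hD0 : D = 0 := by
    apply Groth.Agent.Helper5.hom_eq_zero_of_tame_vanish B F n D
    intro ϖ' hϖ' us
    have h3 := hd' ϖ' hϖ' (Fin.cons u us)
    have h4 := hd ϖ' hϖ' us
    have h6 : (fun i => MilK.unitToFrac B F ((Fin.cons u us : Fin (n + 1) → Bˣ) i)) =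
        Fin.cons (MilK.unitToFrac B F u) (fun i => MilK.unitToFrac B F (us i)) := by
      funext i
      refine Fin.cases ?_ (fun j => ?_) i <;> simp
    have h7 : (fun i => MilK.unitResidue B ((Fin.cons u us : Fin (n + 1) → Bˣ) i)) =
        Fin.cons (MilK.unitResidue B u) (fun i => MilK.unitResidue B (us i)) := by
      funext i
      refine Fin.cases ?_ (fun j => ?_) i <;> simp
    rw [h6, h7] at h3
    simp only [hD, AddMonoidHom.add_apply, AddMonoidHom.comp_apply, AddEquiv.coe_toAddMonoidHom]
    rw [Groth.Agent.Helper4.cast_mul_symbol_one, h4, Groth.Agent.Helper4.cast_mul_symbol_one,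
      Groth.Agent.Helper4.cons_cons_eq_comp_swap,
      Groth.Agent.Helper5.symbol_comp_swap _ _ _ (by simp), map_neg, h3]
    exact neg_add_cancel _
  have h := DFunLike.congr_fun hD0 ρ
  simp only [hD, AddMonoidHom.add_apply, AddMonoidHom.comp_apply, AddEquiv.coe_toAddMonoidHom,
    AddMonoidHom.zero_apply] at h
  exact eq_neg_of_add_eq_zero_left h

end Groth.Agent.S19016
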