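import Groth.Statements.S19018
import Mathlib

set_option autoImplicit false
universe u
open TensorProduct
open SymTen

namespace Groth.Agent.S19018

open scoped Pointwise

lemma main (k R : Type u) [Field k] [NeZero (2 : k)] [CommRing R] [Algebra k R]
    (τ : R ⊗[k] R →ₐ[k] R ⊗[k] R) (hτ : ∀ a b : R, τ (a ⊗ₜ[k] b) = b ⊗ₜ[k] a) :
    Ideal.comap (AlgHom.equalizer τ (AlgHom.id k (R ⊗[k] R))).val
        (KaehlerDifferential.ideal k R ^ 4) =
      (Ideal.comap (AlgHom.equalizer τ (AlgHom.id k (R ⊗[k] R))).val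
        (KaehlerDifferential.ideal k R ^ 2)) ^ 2 := by
  classical
  have hττ : ∀ y, τ (τ y) = y := by
    intro y
    induction y using TensorProduct.induction_on with
    | zero => rw [map_zero, map_zero]
    | tmul a b => rw [hτ, hτ]
    | add x y hx hy => rw [map_add, map_add, hx, hy]
  let δ : R → R ⊗[k] R := fun r => (1 : R) ⊗ₜ[k] r - r ⊗ₜ[k] (1 : R)
  have hτδ : ∀ r, τ (δ r) = - δ r := by
    intro r
    change τ ((1 : R) ⊗ₜ[k] r - r ⊗ₜ[k] (1 : R)) = -((1 : R) ⊗ₜ[k] r - r ⊗ₜ[k] (1 : R))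
    rw [map_sub, hτ, hτ, neg_sub]
  have hIspan : Ideal.span (Set.range δ) = KaehlerDifferential.ideal k R :=
    KaehlerDifferential.span_range_eq_ideal k R
  let G2 : Set (R ⊗[k] R) := Set.range δ * Set.range δ
  have hI2 : KaehlerDifferential.ideal k R ^ 2 = Ideal.span G2 := by
    rw [pow_two, ← hIspan, Ideal.span_mul_span']
  have hI4 : KaehlerDifferential.ideal k R ^ 4 = Ideal.span (G2 * G2) := by
    have h22 : KaehlerDifferential.ideal k R ^ 4 =
        KaehlerDifferential.ideal k R ^ 2 * KaehlerDifferential.ideal k R ^ 2 := by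
      rw [← pow_add]
    rw [h22, hI2, Ideal.span_mul_span']
  have hG2τ : ∀ p ∈ G2, τ p = p := by
    intro p hp
    obtain ⟨x, ⟨a, rfl⟩, y, ⟨b, rfl⟩, rfl⟩ := Set.mem_mul.1 hp
    rw [map_mul, hτδ, hτδ, neg_mul_neg]
  have hG2I : ∀ p ∈ G2, p ∈ KaehlerDifferential.ideal k R ^ 2 := fun p hp => by
    rw [hI2]
    exact Ideal.subset_span hp
  let c : k := (2 : k)⁻¹
  let sym : R ⊗[k] R → R ⊗[k] R := fun y => c • (y + τ y)
  have hsymdef : ∀ y, sym y = c • (y + τ y) := fun y => rfl
  have hsymτ : ∀ y, τ (sym y) = sym y := by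
    intro y
    rw [hsymdef, map_smul, map_add, hττ, add_comm]
  have hsym_fix : ∀ y, τ y = y → sym y = y := by
    intro y hy
    rw [hsymdef, hy, ← two_smul k y, smul_smul]
    have hc2 : c * 2 = 1 := inv_mul_cancel₀ two_ne_zero
    rw [hc2, one_smul]
  have hmemSub : ∀ y, τ y = y → y ∈ AlgHom.equalizer τ (AlgHom.id k (R ⊗[k] R)) :=
    fun y hy => hy
  have key : ∀ y ∈ KaehlerDifferential.ideal k R ^ 4, ∀ t : R ⊗[k] R,
      (⟨sym (t * y), hmemSub _ (hsymτ _)⟩ : AlgHom.equalizer τ (AlgHom.id k (R ⊗[k] R))) ∈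
        (Ideal.comap (AlgHom.equalizer τ (AlgHom.id k (R ⊗[k] R))).val
          (KaehlerDifferential.ideal k R ^ 2)) ^ 2 := by
    intro y hy
    rw [hI4] at hy
    refine Submodule.span_induction
      (p := fun y _ => ∀ t : R ⊗[k] R,
        (⟨sym (t * y), hmemSub _ (hsymτ _)⟩ : AlgHom.equalizer τ (AlgHom.id k (R ⊗[k] R))) ∈
          (Ideal.comap (AlgHom.equalizer τ (AlgHom.id k (R ⊗[k] R))).val
            (KaehlerDifferential.ideal k R ^ 2)) ^ 2) ?_ ?_ ?_ ?_ hy
    · intro g hg t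
      obtain ⟨p, hp, q, hq, rfl⟩ := Set.mem_mul.1 hg
      have hpS := hmemSub p (hG2τ p hp)
      have hqS := hmemSub q (hG2τ q hq)
      have hpJ : (⟨p, hpS⟩ : AlgHom.equalizer τ (AlgHom.id k (R ⊗[k] R))) ∈
          Ideal.comap (AlgHom.equalizer τ (AlgHom.id k (R ⊗[k] R))).val
            (KaehlerDifferential.ideal k R ^ 2) := Ideal.mem_comap.2 (hG2I p hp)
      have hqJ : (⟨q, hqS⟩ : AlgHom.equalizer τ (AlgHom.id k (R ⊗[k] R))) ∈
          Ideal.comap (AlgHom.equalizer τ (AlgHom.id k (R ⊗[k] R))).val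
            (KaehlerDifferential.ideal k R ^ 2) := Ideal.mem_comap.2 (hG2I q hq)
      have heq : (⟨sym (t * (p * q)), hmemSub _ (hsymτ _)⟩ :
          AlgHom.equalizer τ (AlgHom.id k (R ⊗[k] R))) =
          ⟨sym t, hmemSub _ (hsymτ _)⟩ * (⟨p, hpS⟩ * ⟨q, hqS⟩) := by
        apply Subtype.ext
        change sym (t * (p * q)) = sym t * (p * q)
        rw [hsymdef, hsymdef, map_mul, map_mul, hG2τ p hp, hG2τ q hq, smul_mul_assoc, add_mul]
      rw [heq, pow_two]
      exact Ideal.mul_mem_left _ _ (Ideal.mul_mem_mul hpJ hqJ)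
    · intro t
      have h0 : (⟨sym (t * 0), hmemSub _ (hsymτ _)⟩ :
          AlgHom.equalizer τ (AlgHom.id k (R ⊗[k] R))) = 0 := by
        apply Subtype.ext
        change sym (t * 0) = 0
        rw [hsymdef, mul_zero, map_zero, add_zero, smul_zero]
      rw [h0]
      exact zero_mem _
    · intro y₁ y₂ _ _ h₁ h₂ t
      have h0 : (⟨sym (t * (y₁ + y₂)), hmemSub _ (hsymτ _)⟩ :
          AlgHom.equalizer τ (AlgHom.id k (R ⊗[k] R))) =
          ⟨sym (t * y₁), hmemSub _ (hsymτ _)⟩ + ⟨sym (t * y₂), hmemSub _ (hsymτ _)⟩ := by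
        apply Subtype.ext
        change sym (t * (y₁ + y₂)) = sym (t * y₁) + sym (t * y₂)
        rw [hsymdef, hsymdef, hsymdef, mul_add, map_add, ← smul_add]
        congr 1
        abel
      rw [h0]
      exact add_mem (h₁ t) (h₂ t)
    · intro a y _ h t
      have h0 : (⟨sym (t * (a • y)), hmemSub _ (hsymτ _)⟩ :
          AlgHom.equalizer τ (AlgHom.id k (R ⊗[k] R))) =
          ⟨sym ((t * a) * y), hmemSub _ (hsymτ _)⟩ := by
        apply Subtype.ext
        change sym (t * (a • y)) = sym ((t * a) * y)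
        rw [smul_eq_mul, mul_assoc]
      rw [h0]
      exact h (t * a)
  apply le_antisymm
  · intro x hx
    have hx4 : (x : R ⊗[k] R) ∈ KaehlerDifferential.ideal k R ^ 4 := Ideal.mem_comap.1 hx
    have hxτ : τ (x : R ⊗[k] R) = x := x.2
    have h := key _ hx4 1
    have heq : (⟨sym (1 * (x : R ⊗[k] R)), hmemSub _ (hsymτ _)⟩ :
        AlgHom.equalizer τ (AlgHom.id k (R ⊗[k] R))) = x := by
      apply Subtype.ext
      change sym (1 * (x : R ⊗[k] R)) = x
      rw [one_mul]
      exact hsym_fix _ hxτ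
    rw [heq] at h
    exact h
  · have h1 := Ideal.le_comap_pow (AlgHom.equalizer τ (AlgHom.id k (R ⊗[k] R))).val
      (K := KaehlerDifferential.ideal k R ^ 2) 2
    have h2 : (KaehlerDifferential.ideal k R ^ 2) ^ 2 = KaehlerDifferential.ideal k R ^ 4 :=
      (pow_mul (KaehlerDifferential.ideal k R) 2 2).symm
    rw [h2] at h1
    exact h1

/-- Suppose k is a field in which 2 ≠ 0 and R is a commutative k-algebra. Write I for the ideal of the
diagonal, i.e. the kernel of multiplication R ⊗_k R → R, and write S for the subalgebra of R ⊗_k R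
consisting of elements invariant under interchanging the two tensor factors. Then, viewed as ideals
of S, the swap-invariant elements of I^4 form precisely the square of the ideal of swap-invariant
elements of I^2. (The source is stated over the complex numbers; the proof needs only that 2 is
invertible.) -/
theorem result
    (k R : Type u) [Field k] [NeZero (2 : k)] [CommRing R] [Algebra k R] :
    Ideal.comap
        (AlgHom.equalizer ((Algebra.TensorProduct.comm k R R : R ⊗[k] R ≃ₐ[k] R ⊗[k] R) : R ⊗[k] R →ₐ[k] R ⊗[k] R)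
          (AlgHom.id k (R ⊗[k] R))).val
        (KaehlerDifferential.ideal k R ^ 4) =
      (Ideal.comap
        (AlgHom.equalizer ((Algebra.TensorProduct.comm k R R : R ⊗[k] R ≃ₐ[k] R ⊗[k] R) : R ⊗[k] R →ₐ[k] R ⊗[k] R)
          (AlgHom.id k (R ⊗[k] R))).val
        (KaehlerDifferential.ideal k R ^ 2)) ^ 2 := by
  exact main k R _ (fun a b => Algebra.TensorProduct.comm_tmul k a b)

end Groth.Agent.S19018
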