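import Groth.Statements.S19019
import Mathlib

set_option autoImplicit false
open scoped ComplexOrder
open Toeplitz

namespace Groth.Agent.S19019

/-- Let A be an m × m complex Hermitian Toeplitz matrix, with entries A i j = t (j - i) constant along
diagonals, and let f(y) = Σ_{-m < k < m} t k · exp(i k y) be the trigonometric polynomial attached
to it. If f has positive real part at every real y outside a countable set, then A is positive
definite (hence nondegenerate). (The source also states the mirror case: f negative off a countable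
set gives A negative definite, which is this statement for -A.) -/
theorem result
    (m : ℕ) (t : ℤ → ℂ) (A : Matrix (Fin m) (Fin m) ℂ)
    (hA : ∀ i j : Fin m, A i j = t ((j : ℤ) - (i : ℤ))) (hH : A.IsHermitian)
    (hpos : Set.Countable {y : ℝ | ¬ 0 < (∑ k ∈ Finset.Ioo (-(m : ℤ)) (m : ℤ),
        t k * Complex.exp (Complex.I * (k : ℂ) * (y : ℂ))).re}) :
    A.PosDef := by
  classical
  refine Matrix.PosDef.of_dotProduct_mulVec_pos hH fun x hx => ?_
  obtain ⟨i₀, hi₀⟩ : ∃ i, x i ≠ 0 := by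
    by_contra hcon
    push_neg at hcon
    exact hx (funext hcon)
  have hm : 0 < m := Fin.pos i₀
  obtain ⟨N, hN⟩ : ∃ N : ℕ, N = 2 * m := ⟨_, rfl⟩
  have hN0 : N ≠ 0 := by omega
  have hNpos : 0 < N := by omega
  have hNC : (N : ℂ) ≠ 0 := Nat.cast_ne_zero.2 hN0
  obtain ⟨ω, hω⟩ : ∃ ω : ℂ, ω = Complex.exp (2 * (Real.pi : ℂ) * Complex.I / (N : ℂ)) := ⟨_, rfl⟩
  have hprim : IsPrimitiveRoot ω N := by
    rw [hω]
    exact Complex.isPrimitiveRoot_exp N hN0
  have hO : ∀ (c : ℂ), c ≠ 0 → ∀ n : ℤ, -(N : ℤ) < n → n < (N : ℤ) →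
      ∑ l ∈ Finset.range N, (c * ω ^ l) ^ n = if n = 0 then (N : ℂ) else 0 := by
    intro c hc n hn1 hn2
    have hterm : ∀ l : ℕ, (c * ω ^ l) ^ n = c ^ n * (ω ^ n) ^ l := by
      intro l
      rw [mul_zpow, ← zpow_natCast ω l, ← zpow_mul, mul_comm (l : ℤ) n, zpow_mul, zpow_natCast]
    simp_rw [hterm]
    rw [← Finset.mul_sum]
    split_ifs with h0
    · subst h0
      simp
    · have hne : ω ^ n ≠ 1 := by
        intro h1
        rw [hprim.zpow_eq_one_iff_dvd] at h1
        obtain ⟨q, hq⟩ := h1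
        have hq0 : q = 0 := by
          by_contra hq0
          have hNq : (N : ℤ) ≤ |n| := by
            rw [hq, abs_mul, abs_of_nonneg (by positivity : (0 : ℤ) ≤ (N : ℤ))]
            have h1 : (1 : ℤ) ≤ |q| := Int.one_le_abs hq0
            calc (N : ℤ) = N * 1 := (mul_one _).symm
              _ ≤ N * |q| := mul_le_mul_of_nonneg_left h1 (by positivity)
          have hlt : |n| < (N : ℤ) := abs_lt.2 ⟨hn1, hn2⟩
          omega
        apply h0
        rw [hq, hq0, mul_zero]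
      rw [geom_sum_eq hne, ← zpow_natCast (ω ^ n) N, ← zpow_mul, mul_comm n (N : ℤ), zpow_mul,
        zpow_natCast, hprim.pow_eq_one, one_zpow, sub_self, zero_div, mul_zero]
  obtain ⟨θ, hθ⟩ : ∃ θ : ℝ, ∀ l : ℕ, 0 < (∑ k ∈ Finset.Ioo (-(m : ℤ)) (m : ℤ),
      t k * Complex.exp (Complex.I * (k : ℂ) * ((θ + 2 * Real.pi * l / N : ℝ) : ℂ))).re := by
    by_contra hcon
    have hcount : (⋃ l : ℕ, (fun θ : ℝ => θ + 2 * Real.pi * l / N) ⁻¹'
        {y : ℝ | ¬ 0 < (∑ k ∈ Finset.Ioo (-(m : ℤ)) (m : ℤ),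
          t k * Complex.exp (Complex.I * (k : ℂ) * (y : ℂ))).re}).Countable :=
      Set.countable_iUnion fun l => hpos.preimage (add_left_injective _)
    apply Set.not_countable_univ (α := ℝ)
    refine hcount.mono fun θ _ => ?_
    by_contra hθ
    apply hcon
    refine ⟨θ, fun l => ?_⟩
    by_contra hl
    exact hθ (Set.mem_iUnion.2 ⟨l, hl⟩)
  obtain ⟨c, hc⟩ : ∃ c : ℂ, c = Complex.exp (Complex.I * (θ : ℂ)) := ⟨_, rfl⟩
  have hc0 : c ≠ 0 := by
    rw [hc]
    exact Complex.exp_ne_zero _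
  have hω0 : ω ≠ 0 := by
    rw [hω]
    exact Complex.exp_ne_zero _
  have hz : ∀ l : ℕ,
      Complex.exp (Complex.I * ((θ + 2 * Real.pi * l / N : ℝ) : ℂ)) = c * ω ^ l := by
    intro l
    rw [hc, hω, ← Complex.exp_nat_mul, ← Complex.exp_add]
    congr 1
    push_cast
    field_simp
  obtain ⟨z, hzd⟩ : ∃ z : ℕ → ℂ, ∀ l, z l = c * ω ^ l := ⟨_, fun _ => rfl⟩
  have hz0 : ∀ l, z l ≠ 0 := by
    intro l
    rw [hzd l]
    exact mul_ne_zero hc0 (pow_ne_zero _ hω0)
  have hzstar : ∀ l : ℕ, star (z l) = (z l)⁻¹ := by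
    intro l
    rw [hzd l, ← hz l, ← starRingEnd_apply, ← Complex.exp_conj, map_mul, Complex.conj_I,
      Complex.conj_ofReal, neg_mul, Complex.exp_neg]
  have hOz : ∀ n : ℤ, -(N : ℤ) < n → n < (N : ℤ) →
      ∑ l ∈ Finset.range N, (z l) ^ n = if n = 0 then (N : ℂ) else 0 := by
    intro n h1 h2
    simp_rw [hzd]
    exact hO c hc0 n h1 h2
  obtain ⟨Fz, hFzd⟩ : ∃ Fz : ℕ → ℂ, ∀ l, Fz l =
      ∑ k ∈ Finset.Ioo (-(m : ℤ)) (m : ℤ), t k * (z l) ^ k := ⟨_, fun _ => rfl⟩
  obtain ⟨Pz, hPzd⟩ : ∃ Pz : ℕ → ℂ, ∀ l, Pz l =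
      ∑ j : Fin m, x j * (z l) ^ (-((j : ℕ) : ℤ)) := ⟨_, fun _ => rfl⟩
  have hFz : ∀ l : ℕ, 0 < (Fz l).re := by
    intro l
    rw [hFzd l, hzd l]
    have h := hθ l
    have e : ∀ k : ℤ, Complex.exp (Complex.I * (k : ℂ) * ((θ + 2 * Real.pi * l / N : ℝ) : ℂ))
        = (c * ω ^ l) ^ k := by
      intro k
      rw [← hz l, ← Complex.exp_int_mul]
      congr 1
      ring
    simp_rw [e] at h
    exact h
  -- Fourier inversion for t
  have hT : ∀ n : ℤ, -(m : ℤ) < n → n < (m : ℤ) →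
      ∑ l ∈ Finset.range N, Fz l * (z l) ^ (-n) = (N : ℂ) * t n := by
    intro n hn1 hn2
    have h1 : ∀ l ∈ Finset.range N, Fz l * (z l) ^ (-n) =
        ∑ k ∈ Finset.Ioo (-(m : ℤ)) (m : ℤ), t k * (z l) ^ (k - n) := by
      intro l _
      rw [hFzd l, Finset.sum_mul]
      refine Finset.sum_congr rfl fun k _ => ?_
      rw [mul_assoc, ← zpow_add₀ (hz0 l), sub_eq_add_neg]
    rw [Finset.sum_congr rfl h1, Finset.sum_comm]
    have h2 : ∀ k ∈ Finset.Ioo (-(m : ℤ)) (m : ℤ),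
        ∑ l ∈ Finset.range N, t k * (z l) ^ (k - n) = if k = n then (N : ℂ) * t n else 0 := by
      intro k hk
      rw [Finset.mem_Ioo] at hk
      rw [← Finset.mul_sum, hOz (k - n) (by omega) (by omega)]
      by_cases hkn : k = n
      · rw [if_pos hkn, if_pos (show k - n = 0 by omega), hkn, mul_comm]
      · rw [if_neg hkn, if_neg (show ¬ (k - n = 0) by omega), mul_zero]
    rw [Finset.sum_congr rfl h2, Finset.sum_eq_single n, if_pos rfl]
    · intro k _ hkn
      rw [if_neg hkn]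
    · intro hn
      exact absurd (Finset.mem_Ioo.2 ⟨hn1, hn2⟩) hn
  -- Fourier inversion for x
  have hX : ∀ j' : Fin m,
      ∑ l ∈ Finset.range N, Pz l * (z l) ^ (((j' : ℕ) : ℤ)) = (N : ℂ) * x j' := by
    intro j'
    have h1 : ∀ l ∈ Finset.range N, Pz l * (z l) ^ (((j' : ℕ) : ℤ)) =
        ∑ j : Fin m, x j * (z l) ^ (((j' : ℕ) : ℤ) - ((j : ℕ) : ℤ)) := by
      intro l _
      rw [hPzd l, Finset.sum_mul]
      refine Finset.sum_congr rfl fun j _ => ?_
      rw [mul_assoc, ← zpow_add₀ (hz0 l), neg_add_eq_sub]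
    rw [Finset.sum_congr rfl h1, Finset.sum_comm]
    have h2 : ∀ j ∈ (Finset.univ : Finset (Fin m)),
        ∑ l ∈ Finset.range N, x j * (z l) ^ (((j' : ℕ) : ℤ) - ((j : ℕ) : ℤ)) =
          if j = j' then (N : ℂ) * x j' else 0 := by
      intro j _
      have hj := j.2
      have hj' := j'.2
      rw [← Finset.mul_sum, hOz _ (by omega) (by omega)]
      by_cases hjj : j = j'
      · rw [if_pos hjj, hjj, if_pos (sub_self _), mul_comm]
      · have hne : ((j' : ℕ) : ℤ) - ((j : ℕ) : ℤ) ≠ 0 := by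
          intro h
          apply hjj
          apply Fin.ext
          omega
        rw [if_neg hjj, if_neg hne, mul_zero]
    rw [Finset.sum_congr rfl h2, Finset.sum_eq_single j', if_pos rfl]
    · intro j _ hj
      rw [if_neg hj]
    · intro h
      exact absurd (Finset.mem_univ _) h
  obtain ⟨l₀, hl₀mem, hl₀⟩ : ∃ l ∈ Finset.range N, Pz l ≠ 0 := by
    by_contra hcon
    push_neg at hcon
    have h0 : ∑ l ∈ Finset.range N, Pz l * (z l) ^ (((i₀ : ℕ) : ℤ)) = 0 :=
      Finset.sum_eq_zero fun l hl => by rw [hcon l hl, zero_mul]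
    rw [hX i₀] at h0
    rcases mul_eq_zero.1 h0 with h | h
    · exact hNC h
    · exact hi₀ h
  have hPP : ∀ l : ℕ, star (Pz l) * Pz l =
      ∑ i : Fin m, ∑ j : Fin m,
        star (x i) * x j * (z l) ^ (((i : ℕ) : ℤ) - ((j : ℕ) : ℤ)) := by
    intro l
    have hs : star (Pz l) = ∑ i : Fin m, star (x i) * (z l) ^ (((i : ℕ) : ℤ)) := by
      rw [hPzd l, star_sum]
      refine Finset.sum_congr rfl fun i _ => ?_
      rw [star_mul', star_zpow₀, hzstar l, inv_zpow', neg_neg]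
    rw [hs, hPzd l, Finset.sum_mul_sum]
    refine Finset.sum_congr rfl fun i _ => Finset.sum_congr rfl fun j _ => ?_
    rw [sub_eq_add_neg, zpow_add₀ (hz0 l)]
    ring
  have hS : dotProduct (star x) (A.mulVec x) = ∑ i : Fin m, ∑ j : Fin m,
      star (x i) * t (((j : ℕ) : ℤ) - ((i : ℕ) : ℤ)) * x j := by
    simp only [dotProduct, Matrix.mulVec, Pi.star_apply, Finset.mul_sum]
    refine Finset.sum_congr rfl fun i _ => Finset.sum_congr rfl fun j _ => ?_
    rw [hA, mul_assoc]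
  obtain ⟨S', hS'⟩ : ∃ S' : ℂ, S' = ∑ i : Fin m, ∑ j : Fin m,
      star (x i) * t (((j : ℕ) : ℤ) - ((i : ℕ) : ℤ)) * x j := ⟨_, rfl⟩
  have key : (N : ℂ) * S' = ∑ l ∈ Finset.range N, Fz l * (star (Pz l) * Pz l) := by
    have hR : ∀ l ∈ Finset.range N, Fz l * (star (Pz l) * Pz l) =
        ∑ i : Fin m, ∑ j : Fin m,
          Fz l * (star (x i) * x j * (z l) ^ (((i : ℕ) : ℤ) - ((j : ℕ) : ℤ))) := by
      intro l _
      rw [hPP l, Finset.mul_sum]
      refine Finset.sum_congr rfl fun i _ => ?_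
      rw [Finset.mul_sum]
    have hRHS : ∑ l ∈ Finset.range N, Fz l * (star (Pz l) * Pz l) =
        ∑ i : Fin m, ∑ j : Fin m, ∑ l ∈ Finset.range N,
          Fz l * (star (x i) * x j * (z l) ^ (((i : ℕ) : ℤ) - ((j : ℕ) : ℤ))) := by
      rw [Finset.sum_congr rfl hR, Finset.sum_comm (s := Finset.range N)]
      refine Finset.sum_congr rfl fun i _ => ?_
      rw [Finset.sum_comm (s := Finset.range N)]
    rw [hRHS, hS', Finset.mul_sum]
    refine Finset.sum_congr rfl fun i _ => ?_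
    rw [Finset.mul_sum]
    refine Finset.sum_congr rfl fun j _ => ?_
    have hi := i.2
    have hj := j.2
    have hij1 : -(m : ℤ) < ((j : ℕ) : ℤ) - ((i : ℕ) : ℤ) := by omega
    have hij2 : ((j : ℕ) : ℤ) - ((i : ℕ) : ℤ) < (m : ℤ) := by omega
    have hTij := hT _ hij1 hij2
    calc (N : ℂ) * (star (x i) * t (((j : ℕ) : ℤ) - ((i : ℕ) : ℤ)) * x j)
        = star (x i) * ((N : ℂ) * t (((j : ℕ) : ℤ) - ((i : ℕ) : ℤ))) * x j := by ring
      _ = star (x i) * (∑ l ∈ Finset.range N,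
            Fz l * (z l) ^ (-(((j : ℕ) : ℤ) - ((i : ℕ) : ℤ)))) * x j := by rw [hTij]
      _ = ∑ l ∈ Finset.range N,
            Fz l * (star (x i) * x j * (z l) ^ (((i : ℕ) : ℤ) - ((j : ℕ) : ℤ))) := by
          rw [Finset.mul_sum, Finset.sum_mul]
          refine Finset.sum_congr rfl fun l _ => ?_
          rw [neg_sub]
          ring
  have hstar : star S' = S' := by
    have e1 : star S' = ∑ i : Fin m, ∑ j : Fin m,
        star (x j) * t (((i : ℕ) : ℤ) - ((j : ℕ) : ℤ)) * x i := by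
      rw [hS', star_sum]
      refine Finset.sum_congr rfl fun i _ => ?_
      rw [star_sum]
      refine Finset.sum_congr rfl fun j _ => ?_
      rw [star_mul', star_mul', star_star, ← hA i j, ← hA j i, hH.apply j i]
      ring
    rw [e1, hS']
    exact Finset.sum_comm
  have him : S'.im = 0 := Complex.conj_eq_iff_im.1 ((starRingEnd_apply S').trans hstar)
  have hterm : ∀ l, (Fz l * (star (Pz l) * Pz l)).re = (Fz l).re * Complex.normSq (Pz l) := by
    intro l
    have h1 : star (Pz l) * Pz l = ((Complex.normSq (Pz l) : ℝ) : ℂ) := by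
      rw [Complex.normSq_eq_conj_mul_self, starRingEnd_apply]
    rw [h1, Complex.re_mul_ofReal]
  have hre1 : (N : ℝ) * S'.re = ∑ l ∈ Finset.range N, (Fz l).re * Complex.normSq (Pz l) := by
    have h := congrArg Complex.re key
    rw [Complex.mul_re, Complex.natCast_re, Complex.natCast_im, zero_mul, sub_zero,
      Complex.re_sum] at h
    rw [h]
    exact Finset.sum_congr rfl fun l _ => hterm l
  have hsumpos : 0 < ∑ l ∈ Finset.range N, (Fz l).re * Complex.normSq (Pz l) := by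
    refine Finset.sum_pos' (fun l _ => mul_nonneg (hFz l).le (Complex.normSq_nonneg _)) ?_
    exact ⟨l₀, hl₀mem, mul_pos (hFz l₀) (Complex.normSq_pos.2 hl₀)⟩
  have hre : 0 < S'.re := by
    rw [← hre1] at hsumpos
    exact (mul_pos_iff_of_pos_left (Nat.cast_pos.2 hNpos)).1 hsumpos
  rw [hS, ← hS']
  exact Complex.pos_iff.2 ⟨hre, him.symm⟩

end Groth.Agent.S19019
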