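import Groth.Statements.S19020
import Mathlib
-- import your own Groth.Agent.* helpers here

set_option autoImplicit false
open Toeplitz

namespace Groth.Agent.S19020


/-- truncated binomial entry -/
def g (n i k : ℕ) : ℕ := if i ≤ k then n.choose (k - i) else 0

lemma vand (n d K : ℕ) (hK : n ≤ K) :
    ∑ t ∈ Finset.range (K + 1), n.choose (t + d) * n.choose t = (2 * n).choose (n + d) := by
  have h1 : (2 * n).choose (n + d) =
      ∑ a ∈ Finset.range (n + d + 1), n.choose a * n.choose (n + d - a) := by
    rw [two_mul, Nat.add_choose_eq,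
      Finset.Nat.sum_antidiagonal_eq_sum_range_succ (fun a b => n.choose a * n.choose b)]
  have h2 : ∑ a ∈ Finset.range (n + d + 1), n.choose a * n.choose (n + d - a) =
      ∑ a ∈ Finset.range (n + 1), n.choose a * n.choose (n + d - a) := by
    symm
    refine Finset.sum_subset (Finset.range_mono (by omega)) ?_
    intro a _ ha
    rw [Finset.mem_range, not_lt] at ha
    rw [Nat.choose_eq_zero_of_lt (by omega), zero_mul]
  have h3 : ∑ a ∈ Finset.range (n + 1), n.choose a * n.choose (n + d - a) =
      ∑ t ∈ Finset.range (n + 1), n.choose (t + d) * n.choose t := by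
    rw [← Finset.sum_range_reflect]
    refine Finset.sum_congr rfl fun t ht => ?_
    have ht' : t ≤ n := Nat.lt_succ_iff.mp (Finset.mem_range.mp ht)
    rw [show n + 1 - 1 - t = n - t by omega, Nat.choose_symm ht',
      show n + d - (n - t) = t + d by omega, mul_comm]
  have h4 : ∑ t ∈ Finset.range (n + 1), n.choose (t + d) * n.choose t =
      ∑ t ∈ Finset.range (K + 1), n.choose (t + d) * n.choose t := by
    refine Finset.sum_subset (Finset.range_mono (by omega)) ?_
    intro t _ ht
    rw [Finset.mem_range, not_lt] at ht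
    rw [Nat.choose_eq_zero_of_lt (show n < t by omega), mul_zero]
  rw [h1, h2, h3, h4]

lemma toep_sum (n i d K : ℕ) (hK : n ≤ K) :
    ∑ k ∈ Finset.range (i + d + (K + 1)), g n i k * g n (i + d) k = (2 * n).choose (n + d) := by
  rw [Finset.sum_range_add]
  have hz : ∑ k ∈ Finset.range (i + d), g n i k * g n (i + d) k = 0 := by
    refine Finset.sum_eq_zero fun k hk => ?_
    have hk' := Finset.mem_range.mp hk
    unfold g
    rw [if_neg (by omega : ¬ i + d ≤ k), mul_zero]
  rw [hz, zero_add, ← vand n d K hK]
  refine Finset.sum_congr rfl fun t _ => ?_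
  unfold g
  rw [if_pos (by omega : i ≤ i + d + t), if_pos (by omega : i + d ≤ i + d + t),
    show i + d + t - i = t + d by omega, show i + d + t - (i + d) = t by omega]

lemma toep_sum' (n m a b : ℕ) (hab : a ≤ b) (hb : b < m) :
    ∑ k ∈ Finset.range (m + n), g n a k * g n b k = (2 * n).choose (n + (b - a)) := by
  have h := toep_sum n a (b - a) (m + n - b - 1) (by omega)
  rw [show a + (b - a) + (m + n - b - 1 + 1) = m + n by omega] at h
  rw [show a + (b - a) = b by omega] at h
  exact h

/-- For natural numbers n and m, the m × m real Toeplitz matrix with (i, j) entry (-1)^(i+j) · C(2n, n +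
|i - j|), i.e. with t_k = (-1)^k C(2n, n + k) on the k-th diagonal for |k| ≤ n and zero beyond, is
positive definite; in particular it is nondegenerate, which is the printed assertion (positive
definiteness is what the printed proof establishes; m = 0 is the empty matrix). -/
theorem result (n m : ℕ) :
    (Matrix.of fun i j : Fin m =>
        (-1 : ℝ) ^ ((i : ℕ) + (j : ℕ)) * (Nat.choose (2 * n) (n + Nat.dist i j) : ℝ)).PosDef := by
  set B : Matrix (Fin (m + n)) (Fin m) ℝ :=
    Matrix.of fun k i => (-1 : ℝ) ^ (i : ℕ) * (g n i k : ℝ) with hB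
  have hBapp : ∀ k i, B k i = (-1 : ℝ) ^ (i : ℕ) * (g n i k : ℝ) := fun k i => rfl
  have hBapp' : ∀ (a : ℕ) (ha : a < m + n) (j : Fin m),
      B ⟨a, ha⟩ j = (-1 : ℝ) ^ (j : ℕ) * (g n j a : ℝ) := fun _ _ _ => rfl
  have hBapp'' : ∀ (a : ℕ) (ha : a < m + n) (b : ℕ) (hb : b < m),
      B ⟨a, ha⟩ ⟨b, hb⟩ = (-1 : ℝ) ^ b * (g n b a : ℝ) := fun _ _ _ _ => rfl
  have hinj : Function.Injective B.mulVec := by
    intro v w h
    obtain ⟨u, hu⟩ : ∃ u, u = v - w := ⟨_, rfl⟩
    have h0 : B.mulVec u = 0 := by rw [hu, Matrix.mulVec_sub, h, sub_self]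
    have hu0 : ∀ (a : ℕ) (ha : a < m), u ⟨a, ha⟩ = 0 := by
      intro a
      induction a using Nat.strong_induction_on with
      | h a IH =>
        intro ha
        have ha' : a < m + n := by omega
        have hrow : ∑ j : Fin m, B ⟨a, ha'⟩ j * u j = 0 := congrFun h0 ⟨a, ha'⟩
        rw [Finset.sum_eq_single (⟨a, ha⟩ : Fin m)] at hrow
        · rw [hBapp''] at hrow
          have hg : g n a a = 1 := by simp [g]
          rw [hg, Nat.cast_one, mul_one] at hrow
          rcases mul_eq_zero.mp hrow with h1 | h1
          · exact absurd h1 (pow_ne_zero _ (by norm_num))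
          · exact h1
        · intro j _ hja
          have hne : (j : ℕ) ≠ a := fun hh => hja (Fin.ext hh)
          rcases lt_or_gt_of_ne hne with hlt | hgt
          · have h2 := IH j hlt j.2
            rw [Fin.eta] at h2
            rw [h2, mul_zero]
          · rw [hBapp']
            have hg : g n j a = 0 := by
              show (if (j : ℕ) ≤ a then _ else 0) = 0
              exact if_neg (not_le.mpr hgt)
            rw [hg, Nat.cast_zero, mul_zero, zero_mul]
        · intro h; exact absurd (Finset.mem_univ _) h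
    have hu' : u = 0 := funext fun i => hu0 i i.2
    rw [hu] at hu'
    exact sub_eq_zero.mp hu'
  have hsum : ∀ i j : Fin m, ∑ k ∈ Finset.range (m + n), g n i k * g n j k =
      (2 * n).choose (n + Nat.dist i j) := by
    intro i j
    rcases le_total (i : ℕ) (j : ℕ) with h | h
    · rw [toep_sum' n m i j h j.2, Nat.dist_eq_sub_of_le h]
    · rw [Nat.dist_comm, Nat.dist_eq_sub_of_le h, ← toep_sum' n m j i h i.2]
      exact Finset.sum_congr rfl fun k _ => mul_comm _ _
  have hM : (Matrix.of fun i j : Fin m =>
      (-1 : ℝ) ^ ((i : ℕ) + (j : ℕ)) * (Nat.choose (2 * n) (n + Nat.dist i j) : ℝ)) = B.conjTranspose * B := by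
    ext i j
    rw [Matrix.mul_apply, Matrix.of_apply]
    have e1 : ∀ k : Fin (m + n), B.conjTranspose i k * B k j =
        (-1 : ℝ) ^ ((i : ℕ) + (j : ℕ)) * ((g n i k * g n j k : ℕ) : ℝ) := by
      intro k
      rw [Matrix.conjTranspose_apply, star_trivial, hBapp, hBapp, pow_add]
      push_cast; ring
    rw [Finset.sum_congr rfl (fun k _ => e1 k), ← Finset.mul_sum,
      Fin.sum_univ_eq_sum_range (fun k => ((g n i k * g n j k : ℕ) : ℝ)) (m + n),
      ← Nat.cast_sum, hsum i j]
  rw [hM]
  exact Matrix.PosDef.conjTranspose_mul_self B hinj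

end Groth.Agent.S19020
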