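import Groth.Statements.S19021
import Mathlib
import Groth.Agent.S19020
-- import your own Groth.Agent.* helpers here

set_option autoImplicit false
open Toeplitz

namespace Groth.Agent.S19021

/-- For natural numbers n and m, the m × m integer Toeplitz matrix with (i, j) entry (-1)^(i+j) ·
C(2n+1, n+1+i-j) (the binomial coefficient being 0 outside the range 0 ≤ n+1+i-j ≤ 2n+1;
equivalently s_k = (-1)^k C(2n+1, n+k+1) on the diagonal i - j = k for -n-1 ≤ k ≤ n and zero beyond)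
is nondegenerate: its determinant is nonzero (m = 0 is the empty matrix, of determinant 1). -/
theorem result (n m : ℕ) :
    (Matrix.of fun i j : Fin m =>
        (-1 : ℤ) ^ ((i : ℕ) + (j : ℕ)) *
          (if (j : ℕ) ≤ (i : ℕ) then (Nat.choose (2 * n + 1) (n + 1 + ((i : ℕ) - (j : ℕ))) : ℤ)
            else (Nat.choose (2 * n + 1) (n + ((j : ℕ) - (i : ℕ))) : ℤ))).det ≠ 0 := by
  set T : Matrix (Fin m) (Fin m) ℤ := Matrix.of fun i j : Fin m =>
        (-1 : ℤ) ^ ((i : ℕ) + (j : ℕ)) *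
          (if (j : ℕ) ≤ (i : ℕ) then (Nat.choose (2 * n + 1) (n + 1 + ((i : ℕ) - (j : ℕ))) : ℤ)
            else (Nat.choose (2 * n + 1) (n + ((j : ℕ) - (i : ℕ))) : ℤ)) with hT
  intro hdet
  set Tr : Matrix (Fin m) (Fin m) ℝ := (Int.castRingHom ℝ).mapMatrix T with hTr
  have hdetr : Tr.det = 0 := by
    rw [hTr, ← RingHom.map_det, hdet, map_zero]
  obtain ⟨x, hx0, hx⟩ := Matrix.exists_mulVec_eq_zero_iff.mpr hdetr
  have hP := Groth.Agent.S19020.result (n + 1) m
  have hTij : ∀ a b : Fin m, T a b = (-1 : ℤ) ^ ((a : ℕ) + (b : ℕ)) *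
      (if (b : ℕ) ≤ (a : ℕ) then (Nat.choose (2 * n + 1) (n + 1 + ((a : ℕ) - (b : ℕ))) : ℤ)
        else (Nat.choose (2 * n + 1) (n + ((b : ℕ) - (a : ℕ))) : ℤ)) := fun a b => rfl
  have pascal : ∀ d : ℕ, ((2 * n + 1).choose (n + 1 + d) : ℤ) + ((2 * n + 1).choose (n + d) : ℤ) =
      ((2 * (n + 1)).choose (n + 1 + d) : ℤ) := by
    intro d
    have h := Nat.choose_succ_succ (2 * n + 1) (n + d)
    rw [show 2 * (n + 1) = 2 * n + 1 + 1 by ring, show n + 1 + d = n + d + 1 by ring, h]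
    push_cast; ring
  have hentry : ∀ i j : Fin m, T i j + T j i = (-1 : ℤ) ^ ((i : ℕ) + (j : ℕ)) *
      ((Nat.choose (2 * (n + 1)) (n + 1 + Nat.dist i j) : ℕ) : ℤ) := by
    intro i j
    rw [hTij i j, hTij j i, add_comm (j : ℕ) (i : ℕ)]
    rcases lt_trichotomy (i : ℕ) (j : ℕ) with h | h | h
    · rw [if_neg (not_le.mpr h), if_pos h.le, Nat.dist_eq_sub_of_le h.le, ← pascal]; ring
    · rw [if_pos h.ge, if_pos h.le, h, Nat.dist_self, Nat.sub_self, ← pascal]
      simp only [add_zero]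
      rw [Nat.choose_symm_half]; ring
    · rw [if_pos h.le, if_neg (not_le.mpr h), Nat.dist_comm, Nat.dist_eq_sub_of_le h.le, ← pascal]
      ring
  have hsum : Tr + Tr.transpose = Matrix.of fun i j : Fin m =>
      (-1 : ℝ) ^ ((i : ℕ) + (j : ℕ)) * (Nat.choose (2 * (n + 1)) (n + 1 + Nat.dist i j) : ℝ) := by
    ext i j
    have hTr_app : ∀ a b, Tr a b = ((T a b : ℤ) : ℝ) := fun a b => rfl
    rw [Matrix.add_apply, Matrix.transpose_apply, hTr_app, hTr_app, ← Int.cast_add, hentry i j,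
      Matrix.of_apply]
    simp only [Int.cast_mul, Int.cast_pow, Int.cast_neg, Int.cast_one, Int.cast_natCast]
  have hpos := hP.dotProduct_mulVec_pos hx0
  rw [← hsum] at hpos
  have h1 : star x ⬝ᵥ ((Tr + Tr.transpose).mulVec x) = 0 := by
    rw [star_trivial, Matrix.add_mulVec, dotProduct_add, hx, dotProduct_zero, zero_add,
      Matrix.dotProduct_mulVec, Matrix.vecMul_transpose, hx, zero_dotProduct]
  rw [h1] at hpos
  exact lt_irrefl _ hpos

end Groth.Agent.S19021
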