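import Groth.Statements.S19025
import Mathlib

set_option autoImplicit false
universe u
open HigherRestr

namespace Groth.Agent.S19025

/-- In abstract form, the estimate its proof establishes. Let S be a commutative ring, I an ideal of S,
g₀ and g₁ elements with g₁ - g₀ ∈ I, N a natural number and y a sequence in S such that, for 1 ≤ i ≤
N, the (N-i)-fold unit-step forward difference of y taken at i lies in I^(N-i). Then g₀^N times the
N-fold forward difference of y at 0, minus the N-fold forward difference at 0 of the twisted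
sequence j ↦ g₀^(N-j) g₁^j y_j, lies in I^N. (In the source S is the ring of functions on an affine
chart of X^n, I the ideal of a pairwise diagonal, g₀ and g₁ the two pullbacks of a transition unit
of L, and y_j the components x_λ along the compositions a₀^(N-j) a₁^j μ; the estimate is what makes
the higher order restrictions D^l_L well defined on ker D^(l-1)_L independently of the
trivialisation.) -/
theorem result
    (S : Type u) [CommRing S] (I : Ideal S) (g₀ g₁ : S) (hg : g₁ - g₀ ∈ I)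
    (N : ℕ) (y : ℕ → S)
    (hy : ∀ i : ℕ, 1 ≤ i → i ≤ N → (fwdDiff (1 : ℕ))^[N - i] y i ∈ I ^ (N - i)) :
    g₀ ^ N * (fwdDiff (1 : ℕ))^[N] y 0 -
        (fwdDiff (1 : ℕ))^[N] (fun j : ℕ => g₀ ^ (N - j) * g₁ ^ j * y j) 0 ∈ I ^ N := by
  classical
  -- shift operator and difference operator
  let E : Module.End S (ℕ → S) :=
    { toFun := fun w j => w (j + 1)
      map_add' := fun _ _ => rfl
      map_smul' := fun _ _ => rfl }
  have hE1 : ∀ (w : ℕ → S) (j : ℕ), E w j = w (j + 1) := fun _ _ => rfl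
  have hE : ∀ (m : ℕ) (w : ℕ → S) (j : ℕ), (E ^ m) w j = w (j + m) := by
    intro m
    induction m with
    | zero => intro w j; simp
    | succ m ih =>
      intro w j
      rw [pow_succ, Module.End.mul_apply, ih, hE1, add_assoc]
  let D : Module.End S (ℕ → S) := E - 1
  have hDfun : (⇑D : (ℕ → S) → (ℕ → S)) = fwdDiff (1 : ℕ) := by
    funext w j
    rfl
  have hD : ∀ (n : ℕ) (w : ℕ → S), (D ^ n) w = (fwdDiff (1 : ℕ))^[n] w := by
    intro n w
    rw [Module.End.pow_apply, hDfun]
  -- evaluation of a general monomial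
  have hmono : ∀ (a c : S) (m l n : ℕ) (w : ℕ → S),
      (((a • E) ^ m * (c • D) ^ l * (n : Module.End S (ℕ → S))) w) 0 =
        (n : S) * a ^ m * c ^ l * ((D ^ l) w) m := by
    intro a c m l n w
    rw [smul_pow, smul_pow, Module.End.mul_apply, Module.End.mul_apply, Module.End.natCast_apply,
      LinearMap.smul_apply, Pi.smul_apply, hE, LinearMap.smul_apply, Pi.smul_apply, map_nsmul,
      Pi.smul_apply, zero_add, smul_eq_mul, smul_eq_mul, nsmul_eq_mul]
    ring
  have hmono' : ∀ (a c : S) (m l n : ℕ) (w : ℕ → S),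
      (((a • E) ^ m * (c • (1 : Module.End S (ℕ → S))) ^ l * (n : Module.End S (ℕ → S))) w) 0 =
        (n : S) * a ^ m * c ^ l * w m := by
    intro a c m l n w
    rw [smul_pow, smul_pow, one_pow, Module.End.mul_apply, Module.End.mul_apply,
      Module.End.natCast_apply,
      LinearMap.smul_apply, Pi.smul_apply, hE, LinearMap.smul_apply, Pi.smul_apply,
      Module.End.one_apply, Pi.smul_apply, zero_add, smul_eq_mul, smul_eq_mul, nsmul_eq_mul]
    ring
  set h := g₁ - g₀ with hh
  have hop : g₁ • E + (-g₀) • (1 : Module.End S (ℕ → S)) = h • E + g₀ • D := by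
    have : g₁ = h + g₀ := by rw [hh]; ring
    rw [this]
    refine LinearMap.ext fun w => funext fun j => ?_
    change (h + g₀) * w (j + 1) + (-g₀) * w j = h * w (j + 1) + g₀ * (w (j + 1) - w j)
    ring
  have hc1 : Commute (g₁ • E) ((-g₀) • (1 : Module.End S (ℕ → S))) :=
    ((Commute.one_right E).smul_right _).smul_left _
  have hc2 : Commute (h • E) (g₀ • D) :=
    (((Commute.refl E).sub_right (Commute.one_right E)).smul_right _).smul_left _
  -- two expansions of the same operator power, evaluated at `y` and `0`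
  have hexp1 : ((g₁ • E + (-g₀) • (1 : Module.End S (ℕ → S))) ^ N) y 0 =
      ∑ m ∈ Finset.range (N + 1), (N.choose m : S) * g₁ ^ m * (-g₀) ^ (N - m) * y m := by
    rw [hc1.add_pow, LinearMap.sum_apply, Finset.sum_apply]
    exact Finset.sum_congr rfl fun m _ => hmono' g₁ (-g₀) m (N - m) (N.choose m) y
  have hexp2 : ((h • E + g₀ • D) ^ N) y 0 =
      ∑ m ∈ Finset.range (N + 1),
        (N.choose m : S) * h ^ m * g₀ ^ (N - m) * ((fwdDiff (1 : ℕ))^[N - m] y m) := by
    rw [hc2.add_pow, LinearMap.sum_apply, Finset.sum_apply]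
    refine Finset.sum_congr rfl fun m _ => ?_
    rw [hmono h g₀ m (N - m) (N.choose m) y, hD]
  -- the twisted difference via the sum formula
  have htw : (fwdDiff (1 : ℕ))^[N] (fun j : ℕ => g₀ ^ (N - j) * g₁ ^ j * y j) 0 =
      ∑ m ∈ Finset.range (N + 1), (N.choose m : S) * g₁ ^ m * (-g₀) ^ (N - m) * y m := by
    rw [fwdDiff_iter_eq_sum_shift]
    refine Finset.sum_congr rfl fun m _ => ?_
    rw [zsmul_eq_mul, neg_pow g₀]
    simp only [zero_add, smul_eq_mul, mul_one]
    push_cast
    ring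
  rw [htw, ← hexp1, hop, hexp2, Finset.sum_range_succ']
  have h0 : (N.choose 0 : S) * h ^ 0 * g₀ ^ (N - 0) * ((fwdDiff (1 : ℕ))^[N - 0] y 0) =
      g₀ ^ N * (fwdDiff (1 : ℕ))^[N] y 0 := by
    simp
  rw [h0]
  have hsum : ∑ m ∈ Finset.range N, (N.choose (m + 1) : S) * h ^ (m + 1) * g₀ ^ (N - (m + 1)) *
      ((fwdDiff (1 : ℕ))^[N - (m + 1)] y (m + 1)) ∈ I ^ N := by
    refine Ideal.sum_mem _ fun m hm => ?_
    have hmN : m + 1 ≤ N := Finset.mem_range.1 hm
    have h1 : h ^ (m + 1) ∈ I ^ (m + 1) := Ideal.pow_mem_pow hg _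
    have h2 := hy (m + 1) (Nat.le_add_left 1 m) hmN
    have h3 : h ^ (m + 1) * ((fwdDiff (1 : ℕ))^[N - (m + 1)] y (m + 1)) ∈ I ^ N := by
      have h4 : I ^ N = I ^ (m + 1) * I ^ (N - (m + 1)) := by
        rw [← pow_add]
        congr 1
        omega
      rw [h4]
      exact Ideal.mul_mem_mul h1 h2
    have h5 : (N.choose (m + 1) : S) * h ^ (m + 1) * g₀ ^ (N - (m + 1)) *
        ((fwdDiff (1 : ℕ))^[N - (m + 1)] y (m + 1)) =
        ((N.choose (m + 1) : S) * g₀ ^ (N - (m + 1))) *
          (h ^ (m + 1) * ((fwdDiff (1 : ℕ))^[N - (m + 1)] y (m + 1))) := by ring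
    rw [h5]
    exact Ideal.mul_mem_left _ _ h3
  have hfin : g₀ ^ N * (fwdDiff (1 : ℕ))^[N] y 0 -
      (∑ m ∈ Finset.range N, (N.choose (m + 1) : S) * h ^ (m + 1) * g₀ ^ (N - (m + 1)) *
        ((fwdDiff (1 : ℕ))^[N - (m + 1)] y (m + 1)) + g₀ ^ N * (fwdDiff (1 : ℕ))^[N] y 0) =
      -(∑ m ∈ Finset.range N, (N.choose (m + 1) : S) * h ^ (m + 1) * g₀ ^ (N - (m + 1)) *
        ((fwdDiff (1 : ℕ))^[N - (m + 1)] y (m + 1))) := by ring
  rw [hfin]
  exact Ideal.neg_mem_iff _ |>.2 hsum

end Groth.Agent.S19025
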