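import Groth.Statements.S19034
import Mathlib
import Groth.Agent.Lib.Helper7.BI2
-- import your own Groth.Agent.* helpers here

set_option autoImplicit false
universe u
open LabGraph

namespace Groth.Agent.S19034


open Groth.Agent.Helper7.BI


open LabGraph in
/-- Let σ : Z → X be the contraction of some exceptional components of a quasi-wp-stable curve Z of
genus g ≥ 2 onto a quasi-wp-stable curve X, and d a properly balanced multidegree on X; then the
pull-back d̃ of d to Z (d̃_W = d_{σ(W)} when σ(W) is a curve, d̃ = 0 on contracted components) is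
balanced. Encode Z by its weighted multigraph (vertices = irreducible components, weight plus number
of loops = arithmetic genus of the component, one edge per node and two per tacnode joining distinct
components; canDeg Y = deg_Y ω_Z, cut Y = k_Y, K = canDeg of all vertices = 2g − 2; exceptional
vertex = exceptional component), and let S be the set of contracted components, each an exceptional
vertex. The components of X are the vertices outside S; for a set W of them, the subcurve σ(W) of X
has deg ω_X equal to canDeg Ŵ and k equal to cut Ŵ, where Ŵ is W together with the vertices of S all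
of whose edges end in W, and the exceptional components of X are the exceptional vertices outside S.
So the hypotheses below say that d̃ vanishes on S and that d = d̃|_{V∖S} is properly balanced on X
(Basic Inequality 2·|K·d_W − D·canDeg Ŵ| ≤ cut Ŵ·K for every W disjoint from S, D the total degree,
and value 1 on exceptional vertices outside S); the conclusion is the Basic Inequality for d̃ on Z,
for every set of vertices. -/
theorem result {V E : Type u} [Fintype V] [Fintype E]
    [DecidableEq V] [DecidableEq E] (ends : E → V × V) (w : V → ℕ) (hZ : IsQuasistableGraph ends w)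
    (hg : 2 ≤ genus ends w) (S : Finset V) (hS : ∀ v ∈ S, IsExceptional ends w v)
    (dt : V → ℤ) (hzero : ∀ v ∈ S, dt v = 0)
    (hBI : ∀ W : Finset V, Disjoint W S →
      2 * |canDeg ends w Finset.univ * (∑ v ∈ W, dt v) - (∑ v, dt v) * canDeg ends w (Finset.univ.filter (fun v : V => v ∈ W ∨ (v ∈ S ∧ ∀ e : E, ((ends e).1 = v → (ends e).2 ∈ W) ∧ ((ends e).2 = v → (ends e).1 ∈ W))))|
        ≤ (cut ends (Finset.univ.filter (fun v : V => v ∈ W ∨ (v ∈ S ∧ ∀ e : E, ((ends e).1 = v → (ends e).2 ∈ W) ∧ ((ends e).2 = v → (ends e).1 ∈ W)))) : ℤ) * canDeg ends w Finset.univ)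
    (hone : ∀ v : V, v ∉ S → IsExceptional ends w v → dt v = 1) :
    SatisfiesBI ends w dt := by
  intro Y
  have hK : 0 < canDeg ends w Finset.univ := by rw [canDeg_univ]; linarith
  have hq : ∀ e : E, ¬ ((ends e).1 ∈ S ∧ (ends e).2 ∈ S) := by
    rintro e ⟨h1, h2⟩
    by_cases heq : (ends e).1 = (ends e).2
    · exact (hS _ h1).2.1 e (Prod.ext rfl heq.symm)
    · exact hZ.2 e heq ⟨hS _ h1, hS _ h2⟩
  have h := hBI (Y \ S) Finset.sdiff_disjoint
  generalize hWh : (Finset.univ.filter (fun v : V => v ∈ Y \ S ∨ (v ∈ S ∧ ∀ e : E,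
    ((ends e).1 = v → (ends e).2 ∈ Y \ S) ∧ ((ends e).2 = v → (ends e).1 ∈ Y \ S)))) = Wh at h
  have hmem : ∀ v, v ∈ Wh ↔ v ∈ Y \ S ∨ (v ∈ S ∧ ∀ e : E,
      ((ends e).1 = v → (ends e).2 ∈ Y \ S) ∧ ((ends e).2 = v → (ends e).1 ∈ Y \ S)) := by
    intro v; rw [← hWh]; simp only [Finset.mem_filter, Finset.mem_univ, true_and]
  have hagW : ∀ x, x ∉ S → (x ∈ Wh ↔ x ∈ Y \ S) := by
    intro x hx; rw [hmem]; constructor
    · rintro (h | ⟨h, _⟩)
      · exact h
      · exact absurd h hx
    · exact Or.inl
  have hagree : ∀ x, x ∉ S → (x ∈ Wh ↔ x ∈ Y) := by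
    intro x hx; rw [hagW x hx, Finset.mem_sdiff]; exact ⟨fun h => h.1, fun h => ⟨h, hx⟩⟩
  have hcut : cut ends Wh ≤ cut ends Y := by
    refine cut_le_of_exc ends w S Y Wh hS hq hagree ?_ ?_
    · intro v hvS hvW e
      rcases (hmem v).1 hvW with h' | ⟨_, h'⟩
      · exact absurd hvS (Finset.mem_sdiff.1 h').2
      · exact ⟨fun c => (hmem _).2 (Or.inl ((h' e).1 c)),
          fun c => (hmem _).2 (Or.inl ((h' e).2 c))⟩
    · intro v hvS hvW
      by_contra hcon
      apply hvW
      refine (hmem v).2 (Or.inr ⟨hvS, fun e => ⟨fun c => ?_, fun c => ?_⟩⟩)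
      · by_contra hx
        exact hcon ⟨e, Or.inl ⟨c, fun hw => hx ((hagW _
          (fun h' => hq e ⟨by rw [c]; exact hvS, h'⟩)).1 hw)⟩⟩
      · by_contra hx
        exact hcon ⟨e, Or.inr ⟨c, fun hw => hx ((hagW _
          (fun h' => hq e ⟨h', by rw [c]; exact hvS⟩)).1 hw)⟩⟩
  have hsub : ∀ x, x ∈ Y → x ∉ Y \ S → x ∈ S := by
    intro x hx hx'
    by_contra hxs
    exact hx' (Finset.mem_sdiff.2 ⟨hx, hxs⟩)
  have hsumY : ∑ v ∈ Y, dt v = ∑ v ∈ Y \ S, dt v :=
    (Finset.sum_subset Finset.sdiff_subset (fun x hx hx' => hzero x (hsub x hx hx'))).symm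
  have h_a : canDeg ends w (Y \ S) = canDeg ends w Y := by
    unfold LabGraph.canDeg
    exact Finset.sum_subset Finset.sdiff_subset
      (fun x hx hx' => canDeg_exc ends (hS x (hsub x hx hx')))
  have h_b : canDeg ends w (Y \ S) = canDeg ends w Wh := by
    unfold LabGraph.canDeg
    exact Finset.sum_subset (fun x hx => (hmem x).2 (Or.inl hx))
      (fun x hx hx' => canDeg_exc ends (hS x (((hmem x).1 hx).resolve_left hx').1))
  rw [hsumY, ← h_a, h_b]
  exact h.trans (mul_le_mul_of_nonneg_right (by exact_mod_cast hcut) hK.le)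

end Groth.Agent.S19034
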