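import Groth.Statements.S19035
import Mathlib.Tactic
import Mathlib.Data.Finset.Order
import Mathlib.RingTheory.FiniteType
import Mathlib.RingTheory.Polynomial.Basic

set_option autoImplicit false
universe u v w x
open CAlg

namespace Groth.Agent.S19035

/-- Let p be a prime and k a perfect field of characteristic p. Let (A_i) be a directed system of
finitely generated commutative k-algebras, indexed by a nonempty directed preorder, with compatible
k-algebra transition maps, and let B be a finitely generated k-algebra with compatible k-algebra
maps A_i → B which present B as the direct limit of the system (every element of B is the image of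
an element of some A_i, and two elements of some A_i with the same image in B have the same image in
some A_j). Then the p-typical Witt vectors commute with this direct limit: every Witt vector over B
is the image of a Witt vector over some A_i, and two Witt vectors over some A_i with the same image
over B already have the same image over some A_j. (Both finiteness hypotheses matter: for an
arbitrary filtered direct limit of commutative rings either assertion can fail.) -/
theorem result
    (p : ℕ) [Fact p.Prime] (k : Type u) [Field k] [CharP k p] [PerfectRing k p]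
    {ι : Type v} [Preorder ι] [IsDirected ι (· ≤ ·)] [Nonempty ι]
    (A : ι → Type w) [∀ i, CommRing (A i)] [∀ i, Algebra k (A i)]
    [∀ i, Algebra.FiniteType k (A i)]
    (f : ∀ i j, i ≤ j → (A i →ₐ[k] A j))
    (hf : ∀ i j l (hij : i ≤ j) (hjl : j ≤ l) (x : A i),
      f j l hjl (f i j hij x) = f i l (hij.trans hjl) x)
    (B : Type x) [CommRing B] [Algebra k B] [Algebra.FiniteType k B]
    (g : ∀ i, A i →ₐ[k] B)
    (hfg : ∀ i j (hij : i ≤ j) (x : A i), g j (f i j hij x) = g i x)
    (hsurj : ∀ b : B, ∃ i, ∃ x : A i, g i x = b)
    (hinj : ∀ i (x y : A i), g i x = g i y → ∃ j, ∃ hij : i ≤ j, f i j hij x = f i j hij y) :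
    (∀ w : WittVector p B, ∃ i, ∃ v : WittVector p (A i),
        WittVector.map (g i).toRingHom v = w) ∧
    (∀ i (v v' : WittVector p (A i)),
        WittVector.map (g i).toRingHom v = WittVector.map (g i).toRingHom v' →
        ∃ j, ∃ hij : i ≤ j,
          WittVector.map (f i j hij).toRingHom v = WittVector.map (f i j hij).toRingHom v') := by
  classical
  -- Step 1: some `g i0` is surjective
  obtain ⟨s, hs⟩ := (Algebra.FiniteType.out : (⊤ : Subalgebra k B).FG)
  choose ib xb hxb using hsurj
  obtain ⟨i0, hi0⟩ := Finset.exists_le (s.image ib)
  have hrange : ∀ b ∈ s, b ∈ (g i0).range := by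
    intro b hb
    have hle : ib b ≤ i0 := hi0 _ (Finset.mem_image_of_mem _ hb)
    exact ⟨f (ib b) i0 hle (xb b), (hfg _ _ hle (xb b)).trans (hxb b)⟩
  have hsurj0 : Function.Surjective (g i0) := by
    rw [← AlgHom.range_eq_top]
    apply top_le_iff.1
    rw [← hs]
    exact Algebra.adjoin_le hrange
  constructor
  · intro w
    refine ⟨i0, WittVector.mk p (fun n => (hsurj0 (w.coeff n)).choose), ?_⟩
    ext n
    rw [WittVector.map_coeff]
    exact (hsurj0 (w.coeff n)).choose_spec
  · intro i v v' hvv'
    have hnoeth : IsNoetherianRing (A i) := Algebra.FiniteType.isNoetherianRing k (A i)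
    obtain ⟨t, ht⟩ := (isNoetherianRing_iff_ideal_fg (A i)).1 hnoeth (RingHom.ker (g i).toRingHom)
    have hex : ∀ x : A i, ∃ j, ∃ hij : i ≤ j, x ∈ t → f i j hij x = 0 := by
      intro x
      by_cases hx : x ∈ t
      · have hx' : x ∈ RingHom.ker (g i).toRingHom := by
          rw [← ht]; exact Ideal.subset_span hx
        have hx'' : g i x = g i 0 := by
          rw [map_zero]; exact hx'
        obtain ⟨j, hij, hj⟩ := hinj i x 0 hx''
        exact ⟨j, hij, fun _ => by rw [hj, map_zero]⟩
      · exact ⟨i, le_refl i, fun h => absurd h hx⟩
    choose jx hjx hjx' using hex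
    obtain ⟨j, hj⟩ := Finset.exists_le (t.image jx ∪ {i})
    have hij : i ≤ j := hj i (by simp)
    refine ⟨j, hij, ?_⟩
    have hker : Ideal.span (t : Set (A i)) ≤ RingHom.ker (f i j hij).toRingHom := by
      rw [Ideal.span_le]
      intro x hx
      have hle : jx x ≤ j := hj _ (by simp [Finset.mem_image_of_mem jx hx])
      have := hf i (jx x) j (hjx x) hle x
      rw [hjx' x hx, map_zero] at this
      exact this.symm
    ext n
    rw [WittVector.map_coeff, WittVector.map_coeff]
    have h1 : v.coeff n - v'.coeff n ∈ RingHom.ker (g i).toRingHom := by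
      rw [RingHom.mem_ker, map_sub, sub_eq_zero]
      have := congrArg (fun w => w.coeff n) hvv'
      simpa [WittVector.map_coeff] using this
    rw [← ht] at h1
    have h2 := hker h1
    rwa [RingHom.mem_ker, map_sub, sub_eq_zero] at h2

end Groth.Agent.S19035
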