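import Groth.Statements.S19037
import Mathlib.Tactic

set_option autoImplicit false
universe u v
open scoped Polynomial LaurentPolynomial
open Instab

namespace Groth.Agent.S19037

/-- Affine form over a ring R. Let A be a commutative ℤ-graded R-algebra and t an element of degree −1
(so A is a graded algebra over R[t] with t in degree −1), and let ψ : A[1/t] → R[T, T⁻¹] be an
R-algebra map sending t to T which is graded, in the sense that each homogeneous element of degree n
of A goes to an element of R times T^(−n). Then ψ is obtained by inverting t from an R-algebra map χ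
: A → R[T] (compared through the inclusion of R[T] in R[T, T⁻¹]) if and only if ψ kills t·a for
every homogeneous a of degree 1; such a χ is unique. (The source states this for quasi-coherent
graded algebras over an arbitrary base scheme; the statement is local on the base and is given here
over an affine base.) -/
theorem result
    {R : Type u} {A : Type v} [CommRing R] [CommRing A] [Algebra R A]
    (𝒜 : ℤ → Submodule R A) [GradedAlgebra 𝒜] (t : A) (ht : t ∈ 𝒜 (-1))
    (ψ : Localization.Away t →ₐ[R] R[T;T⁻¹])
    (hψt : ψ (algebraMap A (Localization.Away t) t) = LaurentPolynomial.T 1)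
    (hψ : ∀ (n : ℤ) (a : A), a ∈ 𝒜 n →
      ∃ r : R, ψ (algebraMap A (Localization.Away t) a) = LaurentPolynomial.C r * LaurentPolynomial.T (-n)) :
    (∃! χ : A →ₐ[R] R[X], ∀ a : A,
        ψ (algebraMap A (Localization.Away t) a) = Polynomial.toLaurentAlg (χ a)) ↔
      ∀ a ∈ 𝒜 1, ψ (algebraMap A (Localization.Away t) (t * a)) = 0 := by
  classical
  set φ : A →ₐ[R] R[T;T⁻¹] := ψ.comp (IsScalarTower.toAlgHom R A (Localization.Away t)) with hφ
  have hφa : ∀ a, φ a = ψ (algebraMap A (Localization.Away t) a) := fun a => rfl
  have hφt : φ t = LaurentPolynomial.T 1 := hψt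
  constructor
  · rintro ⟨χ, hχ, -⟩ a ha
    obtain ⟨r, hr⟩ := hψ 1 a ha
    have h1 := hχ a
    rw [hr] at h1
    have hr0 : r = 0 := by
      by_contra hne
      have h2 := LaurentPolynomial.support_coeff_C_mul_T_of_ne_zero hne (-1)
      rw [h1, Polynomial.toLaurentAlg_apply, LaurentPolynomial.support_coeff_toLaurent] at h2
      have h3 : (-1 : ℤ) ∈ Finset.map Nat.castEmbedding (χ a).support := by
        rw [h2]; simp
      rw [Finset.mem_map] at h3
      obtain ⟨n, -, hn⟩ := h3
      simp only [Nat.castEmbedding_apply] at hn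
      omega
    rw [map_mul, map_mul, hr, hr0]
    simp
  · intro h
    have hmem : ∀ a : A, φ a ∈ (Polynomial.toLaurentAlg : R[X] →ₐ[R] R[T;T⁻¹]).range := by
      intro a
      induction a using DirectSum.Decomposition.inductionOn 𝒜 with
      | zero => rw [map_zero]; exact Subalgebra.zero_mem _
      | @homogeneous n a =>
        obtain ⟨a, ha⟩ := a
        obtain ⟨r, hr⟩ := hψ n a ha
        rw [hφa]
        dsimp only
        rw [hr]
        by_cases hn : n ≤ 0
        · obtain ⟨m, hm⟩ : ∃ m : ℕ, -n = (m : ℤ) := ⟨(-n).toNat, by omega⟩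
          refine ⟨Polynomial.monomial m r, ?_⟩
          rw [hm]
          change Polynomial.toLaurentAlg (Polynomial.monomial m r) = _
          rw [Polynomial.toLaurentAlg_apply, Polynomial.toLaurent_C_mul_T]
        · obtain ⟨m, hm⟩ : ∃ m : ℕ, n = (m : ℤ) + 1 := ⟨(n - 1).toNat, by omega⟩
          have htm : t ^ m * a ∈ 𝒜 1 := by
            have h1 := SetLike.mul_mem_graded (SetLike.pow_mem_graded m ht) ha
            have h2 : m • (-1 : ℤ) + n = 1 := by
              rw [hm]; simp
            rwa [h2] at h1
          have h3 := h _ htm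
          rw [← hφa, map_mul, map_mul, map_pow, hφt, hφa a, hr] at h3
          have hu : IsUnit ((LaurentPolynomial.T 1 : R[T;T⁻¹]) * LaurentPolynomial.T 1 ^ m) :=
            (LaurentPolynomial.isUnit_T 1).mul ((LaurentPolynomial.isUnit_T 1).pow m)
          rw [← mul_assoc] at h3
          have h4 := (hu.mul_right_eq_zero).1 h3
          rw [h4]
          exact Subalgebra.zero_mem _
      | add a b ha hb => rw [map_add]; exact Subalgebra.add_mem _ ha hb
    have hinj : Function.Injective (Polynomial.toLaurentAlg : R[X] →ₐ[R] R[T;T⁻¹]) := by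
      rw [Polynomial.coe_toLaurentAlg]; exact Polynomial.toLaurent_injective
    let e := AlgEquiv.ofInjective (Polynomial.toLaurentAlg : R[X] →ₐ[R] R[T;T⁻¹]) hinj
    refine ⟨e.symm.toAlgHom.comp (φ.codRestrict _ hmem), ?_, ?_⟩
    · intro a
      have : (Polynomial.toLaurentAlg : R[X] →ₐ[R] R[T;T⁻¹])
          (e.symm (φ.codRestrict _ hmem a)) = (e (e.symm (φ.codRestrict _ hmem a)) : R[T;T⁻¹]) := rfl
      change _ = Polynomial.toLaurentAlg (e.symm (φ.codRestrict _ hmem a))
      rw [this, AlgEquiv.apply_symm_apply]
      rfl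
    · intro χ' hχ'
      ext a : 1
      apply hinj
      rw [← hχ' a]
      have : (Polynomial.toLaurentAlg : R[X] →ₐ[R] R[T;T⁻¹])
          (e.symm (φ.codRestrict _ hmem a)) = (e (e.symm (φ.codRestrict _ hmem a)) : R[T;T⁻¹]) := rfl
      change _ = Polynomial.toLaurentAlg (e.symm (φ.codRestrict _ hmem a))
      rw [this, AlgEquiv.apply_symm_apply]
      rfl

end Groth.Agent.S19037
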