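import Groth.Statements.S19043
import Mathlib
import Groth.Agent.H3.GcMod

set_option autoImplicit false
universe u
open Dieu

namespace Groth.Agent.S19043
open W4c6eohyperellchar2 Groth.Agent.H3.GcMod

/-- Let `k` be a perfect field of characteristic `2` and `c` a natural number, and let `M` be the
explicit `2c`-dimensional `k`-space on `X_1, …, X_c, Y_1, …, Y_c` with its operators `F` and `V` (`F
Y_j = 0`; `F X_j = X_{j/2}` for `j` even and `Y_{c-(j-1)/2}` for `j` odd; `V Y_j = Y_{2j}` when `2j
≤ c`, else `0`; `V X_j = Y_{2c-2j+1}` when `2j > c`, else `0`). The classes of the `X_j` with `c <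
2j ≤ 2c` in the quotient of `M` by the `k`-span of `F(M) ∪ V(M)` are linearly independent and span
that quotient. (Stated over any perfect field of characteristic `2`; the source works over an
algebraically closed one.) -/
theorem result (c : ℕ) (k : Type u) [Field k] [CharP k 2] [PerfectRing k 2] :
    LinearIndependent k (fun j : {j : ℕ // c < 2 * j ∧ j ≤ c} =>
        Submodule.mkQ (Submodule.span k (Set.range (W4c6eohyperellchar2.F c k) ∪ Set.range (W4c6eohyperellchar2.V c k))) (W4c6eohyperellchar2.X c k j.1)) ∧
      Submodule.span k (Set.range (fun j : {j : ℕ // c < 2 * j ∧ j ≤ c} =>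
        Submodule.mkQ (Submodule.span k (Set.range (W4c6eohyperellchar2.F c k) ∪ Set.range (W4c6eohyperellchar2.V c k))) (W4c6eohyperellchar2.X c k j.1))) = ⊤ := by
  set W : Submodule k (GcMod c k) := Submodule.span k (Set.range (F c k) ∪ Set.range (V c k)) with hW
  have hFW : ∀ v, F c k v ∈ W := fun v => Submodule.subset_span (Or.inl ⟨v, rfl⟩)
  have hVW : ∀ v, V c k v ∈ W := fun v => Submodule.subset_span (Or.inr ⟨v, rfl⟩)
  have hker : ∀ i : Fin c, c < 2 * (i.val + 1) → ∀ w ∈ W, w.1 i = 0 := by
    intro i hi w hw
    refine Submodule.span_induction (p := fun w _ => w.1 i = 0) ?_ ?_ ?_ ?_ hw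
    · rintro w (⟨v, rfl⟩ | ⟨v, rfl⟩)
      · rw [F_fst]
        unfold coefX
        rw [dif_neg (by omega)]
        exact zero_pow two_ne_zero
      · rfl
    · rfl
    · intro a b _ _ ha hb
      show a.1 i + b.1 i = 0
      rw [ha, hb, add_zero]
    · intro r a _ ha
      show r * a.1 i = 0
      rw [ha, mul_zero]
  constructor
  · rw [linearIndependent_iff']
    intro s g hg j hj
    have h1 : (∑ i ∈ s, g i • X c k i.1) ∈ W := by
      rw [← Submodule.Quotient.mk_eq_zero W]
      have h0 : W.mkQ (∑ i ∈ s, g i • X c k i.1) = 0 := by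
        rw [map_sum]
        simp_rw [map_smul]
        exact hg
      exact h0
    have hj1 := j.2.1
    have hj2 := j.2.2
    have h2 := hker ⟨j.1 - 1, by omega⟩ (by show c < 2 * (j.1 - 1 + 1); omega) _ h1
    rw [Prod.fst_sum, Finset.sum_apply, Finset.sum_eq_single j] at h2
    · have e : (g j • X c k j.1).1 ⟨j.1 - 1, by omega⟩ = g j := by
        show g j * (if (j.1 - 1) + 1 = j.1 then 1 else 0) = g j
        rw [if_pos (by omega), mul_one]
      rw [e] at h2
      exact h2
    · intro b _ hb
      show g b * (if (j.1 - 1) + 1 = b.1 then 1 else 0) = 0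
      rw [if_neg (fun h => hb (Subtype.ext (by omega))), mul_zero]
    · intro h
      exact absurd hj h
  · rw [eq_top_iff]
    rintro x -
    obtain ⟨v, rfl⟩ := Submodule.mkQ_surjective W x
    rw [decomp c k v, map_sum]
    refine Submodule.sum_mem _ fun i _ => ?_
    have hi := i.isLt
    rw [map_add, map_smul, map_smul]
    refine Submodule.add_mem _ (Submodule.smul_mem _ _ ?_) (Submodule.smul_mem _ _ ?_)
    · by_cases h : c < 2 * (i.val + 1)
      · exact Submodule.subset_span ⟨⟨i.val + 1, h, by omega⟩, rfl⟩
      · have hmem : X c k (i.val + 1) ∈ W := by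
          rw [← F_X_even c k (i.val + 1) (by omega)]
          exact hFW _
        have h0 : W.mkQ (X c k (i.val + 1)) = 0 := (Submodule.Quotient.mk_eq_zero W).mpr hmem
        rw [h0]
        exact Submodule.zero_mem _
    · have hmem : Y c k (i.val + 1) ∈ W := by
        rcases Nat.even_or_odd' (i.val + 1) with ⟨t, ht | ht⟩
        · rw [ht, ← V_Y c k t (by omega)]
          exact hVW _
        · have e : 2 * c - 2 * (c - t) + 1 = i.val + 1 := by omega
          rw [← e, ← V_X c k (c - t) (by omega) (by omega)]
          exact hVW _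
      have h0 : W.mkQ (Y c k (i.val + 1)) = 0 := (Submodule.Quotient.mk_eq_zero W).mpr hmem
      rw [h0]
      exact Submodule.zero_mem _

end Groth.Agent.S19043
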