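import Groth.Statements.S19106
import Mathlib

set_option autoImplicit false
open HilbD

namespace Groth.Agent.S19106

/-- Let μ be a non-empty Young diagram, V the number of its cells, E the number of unordered pairs of
cells sharing a side (a cell together with the cell immediately below it, or immediately to its
right, both in μ) and Q the number of 2 × 2 blocks of cells of μ (cells c such that the cell
diagonally below-right of c is in μ, the other two corners being in μ automatically). Then V − E + Q
− 1 = 0, stated as V + Q = E + 1 in the naturals. (The empty diagram, for which the count reads 0 −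
0 + 0 − 1, is excluded.) -/
theorem result (μ : YoungDiagram) (hμ : μ ≠ ⊥) :
    μ.cells.card + (μ.cells.filter (fun c => (c.1 + 1, c.2 + 1) ∈ μ)).card =
      (μ.cells.filter (fun c => (c.1 + 1, c.2) ∈ μ)).card + (μ.cells.filter (fun c => (c.1, c.2 + 1) ∈ μ)).card + 1 := by
  have h00 : ((0, 0) : ℕ × ℕ) ∈ μ := by
    have hne : μ.cells.Nonempty := by
      rw [Finset.nonempty_iff_ne_empty]
      intro h
      apply hμ
      exact le_bot_iff.mp (YoungDiagram.cells_subset_iff.mp (by rw [h]; exact Finset.empty_subset _))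
    obtain ⟨⟨i, j⟩, hc⟩ := hne
    exact μ.up_left_mem (Nat.zero_le i) (Nat.zero_le j) ((YoungDiagram.mem_cells _).mp hc)
  have h00' : ((0, 0) : ℕ × ℕ) ∈ μ.cells := (YoungDiagram.mem_cells _).mpr h00
  have hAB := Finset.card_union_add_card_inter (μ.cells.filter (fun c => 1 ≤ c.1))
    (μ.cells.filter (fun c => 1 ≤ c.2))
  have hU : μ.cells.filter (fun c => 1 ≤ c.1) ∪ μ.cells.filter (fun c => 1 ≤ c.2) =
      μ.cells.erase (0, 0) := by
    ext ⟨i, j⟩
    simp only [Finset.mem_union, Finset.mem_filter, Finset.mem_erase, ne_eq, Prod.mk.injEq]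
    constructor
    · rintro (⟨h, h1⟩ | ⟨h, h1⟩)
      · exact ⟨fun hh => by omega, h⟩
      · exact ⟨fun hh => by omega, h⟩
    · rintro ⟨hne, h⟩
      by_cases hi : 1 ≤ i
      · exact Or.inl ⟨h, hi⟩
      · refine Or.inr ⟨h, ?_⟩
        by_contra hj
        exact hne ⟨by omega, by omega⟩
  have hUcard : (μ.cells.filter (fun c => 1 ≤ c.1) ∪ μ.cells.filter (fun c => 1 ≤ c.2)).card =
      μ.cells.card - 1 := by
    rw [hU, Finset.card_erase_of_mem h00']
  have hCpos : 1 ≤ μ.cells.card := Finset.card_pos.mpr ⟨_, h00'⟩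
  have hA : (μ.cells.filter (fun c => (c.1 + 1, c.2) ∈ μ)).card =
      (μ.cells.filter (fun c => 1 ≤ c.1)).card := by
    refine Finset.card_bij' (fun c _ => (c.1 + 1, c.2)) (fun c _ => (c.1 - 1, c.2)) ?_ ?_ ?_ ?_
    · intro c hc
      rw [Finset.mem_filter] at hc
      simp only [Finset.mem_filter, YoungDiagram.mem_cells]
      exact ⟨hc.2, by omega⟩
    · intro c hc
      simp only [Finset.mem_filter, YoungDiagram.mem_cells] at hc ⊢
      refine ⟨μ.up_left_mem (Nat.sub_le _ _) le_rfl hc.1, ?_⟩
      rw [Nat.sub_add_cancel hc.2]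
      exact hc.1
    · intro c _
      simp
    · intro c hc
      simp only [Finset.mem_filter] at hc
      ext
      · simp only; omega
      · rfl
  have hB : (μ.cells.filter (fun c => (c.1, c.2 + 1) ∈ μ)).card =
      (μ.cells.filter (fun c => 1 ≤ c.2)).card := by
    refine Finset.card_bij' (fun c _ => (c.1, c.2 + 1)) (fun c _ => (c.1, c.2 - 1)) ?_ ?_ ?_ ?_
    · intro c hc
      rw [Finset.mem_filter] at hc
      simp only [Finset.mem_filter, YoungDiagram.mem_cells]
      exact ⟨hc.2, by omega⟩
    · intro c hc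
      simp only [Finset.mem_filter, YoungDiagram.mem_cells] at hc ⊢
      refine ⟨μ.up_left_mem le_rfl (Nat.sub_le _ _) hc.1, ?_⟩
      rw [Nat.sub_add_cancel hc.2]
      exact hc.1
    · intro c _
      simp
    · intro c hc
      simp only [Finset.mem_filter] at hc
      ext
      · rfl
      · simp only; omega
  have hD : (μ.cells.filter (fun c => (c.1 + 1, c.2 + 1) ∈ μ)).card =
      (μ.cells.filter (fun c => 1 ≤ c.1) ∩ μ.cells.filter (fun c => 1 ≤ c.2)).card := by
    refine Finset.card_bij' (fun c _ => (c.1 + 1, c.2 + 1)) (fun c _ => (c.1 - 1, c.2 - 1))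
      ?_ ?_ ?_ ?_
    · intro c hc
      rw [Finset.mem_filter] at hc
      simp only [Finset.mem_inter, Finset.mem_filter, YoungDiagram.mem_cells]
      exact ⟨⟨hc.2, by omega⟩, ⟨hc.2, by omega⟩⟩
    · intro c hc
      simp only [Finset.mem_inter, Finset.mem_filter, YoungDiagram.mem_cells] at hc ⊢
      refine ⟨μ.up_left_mem (Nat.sub_le _ _) (Nat.sub_le _ _) hc.1.1, ?_⟩
      rw [Nat.sub_add_cancel hc.1.2, Nat.sub_add_cancel hc.2.2]
      exact hc.1.1
    · intro c _
      simp
    · intro c hc
      simp only [Finset.mem_inter, Finset.mem_filter] at hc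
      ext
      · simp only; omega
      · simp only; omega
  omega

end Groth.Agent.S19106
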