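import Groth.Statements.S19132
import Groth.Agent.Lib.Helper6.ExtFin3

set_option autoImplicit false
universe u
open CategoryTheory
attribute [local instance] HasDerivedCategory.standard
open Dual

namespace Groth.Agent.S19132

/-- In the case of a local ring whose dualizing complex is normalized, let A be a Noetherian local ring
with residue field k and ω a normalized dualizing complex over A (Hom(k, ω[i]) = 0 in D(A) for i ≠
0), and let N be an object of D(A) which is bounded with finitely generated cohomology modules and
concentrated in nonnegative degrees (H^i(N) = 0 for i < 0). Then RHom_A(N, ω) is concentrated in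
nonpositive degrees: the group of morphisms N → ω[i] in D(A) vanishes for every i > 0. (For the
local ring at a point x of a scheme of finite type over the base, whose dualizing complex is
normalized only up to the shift by the integer d(x), the corresponding bound is degree −d(x); that
case is this statement applied to the shifted complex.) -/
theorem result
    (A : Type u) [CommRing A] [IsLocalRing A] [IsNoetherianRing A]
    (ω : Dual.D A) (hω : Dual.IsDualizing A ω) (hn : Dual.IsNormalized A ω)
    (N : Dual.D A) (hfin : ∀ i : ℤ, Module.Finite A (Dual.HD A N i))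
    (b : ℤ) (hb : ∀ i : ℤ, b < i → Subsingleton (Dual.HD A N i))
    (hge : ∀ i : ℤ, i < 0 → Subsingleton (Dual.HD A N i))
    (i : ℤ) (hi : 0 < i) :
    Subsingleton (N ⟶ ω⟦i⟧) := by
  classical
  obtain ⟨a, b', hab⟩ := hω.finite_injective_dimension
  obtain ⟨hGE, hLE⟩ := Groth.Agent.Helper6.ExtFin.isGE_isLE_of_hom_subsingleton ω a b'
    (fun i hi => hab A i hi)
  haveI := hGE
  haveI := hLE
  have hfinω : ∀ (X : ModuleCat.{u} A) [Module.Finite A X] (i : ℤ),
      IsNoetherian A (Groth.Agent.Helper6.ExtFin.sg X ⟶ ω⟦i⟧) :=
    fun X _ i => Groth.Agent.Helper6.ExtFin.noeth_hom_of_bounded ω a b' hω.finite_cohomology X i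
  have hκ : ∀ i : ℤ, 0 < i → Subsingleton (Groth.Agent.Helper6.ExtFin.sg
      (ModuleCat.of A (A ⧸ IsLocalRing.maximalIdeal A)) ⟶ ω⟦i⟧) :=
    fun i hi => hn i hi.ne'
  have hvan := Groth.Agent.Helper6.ExtFin.ext_vanish_of_residue ω 0 hfinω hκ
  haveI : N.IsGE 0 := (DerivedCategory.isGE_iff N 0).2 (fun j hj => by
    haveI := hge j hj
    exact ModuleCat.isZero_of_subsingleton _)
  haveI : N.IsLE b := (DerivedCategory.isLE_iff N b).2 (fun j hj => by
    haveI := hb j hj
    exact ModuleCat.isZero_of_subsingleton _)
  have key := Groth.Agent.Helper6.FlatAmp.prop_of_bounded_homology (R := A)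
    (fun (m : ℤ) (K : DerivedCategory (ModuleCat.{u} A)) =>
      ∀ i : ℤ, 0 < i + m → Subsingleton (K ⟶ ω⟦i⟧))
    (fun m K hK i _ => Groth.Agent.Helper6.ExtFin.subsingleton_of_isZero_left hK)
    (@fun m K L e h i hi => Groth.Agent.Helper6.ExtFin.subsingleton_of_iso_left e (h i hi))
    (fun m m' K n hm h i hi => Groth.Agent.Helper6.ExtFin.subsingleton_shift_transfer (-n)
        (((shiftFunctorCompIsoId (DerivedCategory (ModuleCat.{u} A)) n (-n)
          (add_neg_cancel n)).app K).symm)
        (((shiftFunctorAdd' (DerivedCategory (ModuleCat.{u} A)) i (-n) (i - n)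
          (by omega)).app ω).symm) (h (i - n) (by omega)))
    (fun m T hT h1 h3 i hi =>
      Groth.Agent.Helper6.ExtFin.subsingleton_mid T hT _ (h1 i hi) (h3 i hi))
    0 (b - 0 + 1).toNat N 0 b inferInstance inferInstance (by omega)
    (fun j i hi => by
      by_cases hj : j < 0
      · haveI := hge j hj
        exact Groth.Agent.Helper6.ExtFin.subsingleton_of_isZero_left
          (Functor.map_isZero _ (ModuleCat.isZero_of_subsingleton _))
      · haveI := hfin j
        exact hvan ((DerivedCategory.homologyFunctor (ModuleCat.{u} A) j).obj N) i (by omega))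
  exact key i (by omega)

end Groth.Agent.S19132
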