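import Groth.Statements.S19136
-- import your own Groth.Agent.* helpers here

set_option autoImplicit false
universe u
open Instab

namespace Groth.Agent.S19136

/-- Let p be a seminorm and ℓ a linear form on a real vector space, let y₀ and y₁ be vectors at which p
is positive and ℓ is non-negative, and let y = t y₀ + (1 - t) y₁ with 0 < t < 1 be a point of the
open segment at which p is positive. Then ℓ(y)/p(y) is at least the smaller of ℓ(y₀)/p(y₀) and
ℓ(y₁)/p(y₁), and if it equals that smaller value then ℓ(y₀)/p(y₀) = ℓ(y₁)/p(y₁). (The published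
lemma concerns the numerical invariant attached to a degree-two cohomology class and a semi-norm on
graded points of a stack; restricted to one rational simplex that invariant is the quotient of a
linear form by a semi-norm on the non-negative orthant of a real coordinate space, and local
quasi-concavity there amounts to this inequality with its equality clause, the set where the linear
form is non-negative being automatically convex; the lemma's further assertion, that the invariant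
is positive at no pair of antipodal points, is not stated here. The vector space is arbitrary here.) -/
theorem result {E : Type u} [AddCommGroup E] [Module ℝ E]
    (p : Seminorm ℝ E) (ℓ : E →ₗ[ℝ] ℝ) (y₀ y₁ : E) (h₀ : 0 < p y₀) (h₁ : 0 < p y₁)
    (hℓ₀ : 0 ≤ ℓ y₀) (hℓ₁ : 0 ≤ ℓ y₁) (t : ℝ) (ht₀ : 0 < t) (ht₁ : t < 1)
    (hy : 0 < p (t • y₀ + (1 - t) • y₁)) :
    min (ℓ y₀ / p y₀) (ℓ y₁ / p y₁) ≤ ℓ (t • y₀ + (1 - t) • y₁) / p (t • y₀ + (1 - t) • y₁) ∧
      (ℓ (t • y₀ + (1 - t) • y₁) / p (t • y₀ + (1 - t) • y₁) = min (ℓ y₀ / p y₀) (ℓ y₁ / p y₁) →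
        ℓ y₀ / p y₀ = ℓ y₁ / p y₁) := by
  set p₀ := p y₀ with hp₀
  set p₁ := p y₁ with hp₁
  set y := t • y₀ + (1 - t) • y₁ with hy_def
  have h1t : 0 < 1 - t := by linarith
  have hpy : p y ≤ t * p₀ + (1 - t) * p₁ := by
    calc p y ≤ p (t • y₀) + p ((1 - t) • y₁) := map_add_le_add p _ _
      _ = t * p₀ + (1 - t) * p₁ := by
        rw [map_smul_eq_mul, map_smul_eq_mul, Real.norm_of_nonneg ht₀.le,
          Real.norm_of_nonneg h1t.le]
  have hℓy : ℓ y = t * ℓ y₀ + (1 - t) * ℓ y₁ := by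
    simp [hy_def, map_add, map_smul, smul_eq_mul]
  set a₀ := ℓ y₀ / p₀ with ha₀
  set a₁ := ℓ y₁ / p₁ with ha₁
  have hℓ0 : ℓ y₀ = a₀ * p₀ := by rw [ha₀, div_mul_cancel₀ _ h₀.ne']
  have hℓ1 : ℓ y₁ = a₁ * p₁ := by rw [ha₁, div_mul_cancel₀ _ h₁.ne']
  have ha₀nn : 0 ≤ a₀ := div_nonneg hℓ₀ h₀.le
  have ha₁nn : 0 ≤ a₁ := div_nonneg hℓ₁ h₁.le
  have hm0 : min a₀ a₁ ≤ a₀ := min_le_left _ _
  have hm1 : min a₀ a₁ ≤ a₁ := min_le_right _ _
  have hmnn : 0 ≤ min a₀ a₁ := le_min ha₀nn ha₁nn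
  have key : min a₀ a₁ * p y ≤ ℓ y := by
    calc min a₀ a₁ * p y ≤ min a₀ a₁ * (t * p₀ + (1 - t) * p₁) :=
          mul_le_mul_of_nonneg_left hpy hmnn
      _ = t * (min a₀ a₁ * p₀) + (1 - t) * (min a₀ a₁ * p₁) := by ring
      _ ≤ t * (a₀ * p₀) + (1 - t) * (a₁ * p₁) := by
          have e0 : min a₀ a₁ * p₀ ≤ a₀ * p₀ := mul_le_mul_of_nonneg_right hm0 h₀.le
          have e1 : min a₀ a₁ * p₁ ≤ a₁ * p₁ := mul_le_mul_of_nonneg_right hm1 h₁.le
          have := mul_le_mul_of_nonneg_left e0 ht₀.le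
          have := mul_le_mul_of_nonneg_left e1 h1t.le
          linarith
      _ = ℓ y := by rw [hℓy, hℓ0, hℓ1]
  refine ⟨(le_div_iff₀ hy).mpr key, fun heq => ?_⟩
  have heq' : ℓ y = min a₀ a₁ * p y := by
    rw [← heq, div_mul_cancel₀ _ hy.ne']
  by_contra hne
  rcases lt_or_gt_of_ne hne with hlt | hgt
  · -- a₀ < a₁, min = a₀
    have hmin : min a₀ a₁ = a₀ := min_eq_left hlt.le
    rw [hmin] at heq'
    have h3 : a₀ * p y ≤ a₀ * (t * p₀ + (1 - t) * p₁) := mul_le_mul_of_nonneg_left hpy ha₀nn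
    have h4 : 0 < (1 - t) * p₁ * (a₁ - a₀) := by
      have : 0 < a₁ - a₀ := by linarith
      positivity
    have h5 : ℓ y = t * (a₀ * p₀) + (1 - t) * (a₁ * p₁) := by rw [hℓy, hℓ0, hℓ1]
    nlinarith
  · have hmin : min a₀ a₁ = a₁ := min_eq_right hgt.le
    rw [hmin] at heq'
    have h3 : a₁ * p y ≤ a₁ * (t * p₀ + (1 - t) * p₁) := mul_le_mul_of_nonneg_left hpy ha₁nn
    have h4 : 0 < t * p₀ * (a₀ - a₁) := by
      have : 0 < a₀ - a₁ := by linarith
      positivity
    have h5 : ℓ y = t * (a₀ * p₀) + (1 - t) * (a₁ * p₁) := by rw [hℓy, hℓ0, hℓ1]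
    nlinarith

end Groth.Agent.S19136
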