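import Groth.Statements.S19137
-- import your own Groth.Agent.* helpers here

set_option autoImplicit false
universe u
open Instab

namespace Groth.Agent.S19137

/-- Let p be a seminorm on a real vector space whose unit ball is strictly convex in the sense that p(a
+ b) < p(a) + p(b) whenever p(a) and p(b) are non-zero and b is not a positive multiple of a; let ℓ
be a linear form, y₀ and y₁ vectors with p and ℓ positive at both and y₁ not a positive multiple of
y₀, and y = t y₀ + (1 - t) y₁ with 0 < t < 1 a point at which p is positive. Then ℓ(y)/p(y) is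
strictly greater than the smaller of ℓ(y₀)/p(y₀) and ℓ(y₁)/p(y₁). (The published lemma says that
when the norm on graded points is locally a norm with strictly convex unit balls, the numerical
invariant attached to a degree-two class and that norm is strictly quasi-concave on each cone and is
positive at no pair of antipodal points; on one rational simplex the first property is this strict
form of the quasi-concavity inequality for the quotient of a linear form by the norm, at points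
where the linear form is positive, and the second property is not stated here. The vector space is
arbitrary here.) -/
theorem result {E : Type u} [AddCommGroup E] [Module ℝ E]
    (p : Seminorm ℝ E)
    (hp : ∀ a b : E, p a ≠ 0 → p b ≠ 0 → (¬ ∃ c : ℝ, 0 < c ∧ b = c • a) → p (a + b) < p a + p b)
    (ℓ : E →ₗ[ℝ] ℝ) (y₀ y₁ : E) (h₀ : 0 < p y₀) (h₁ : 0 < p y₁)
    (hℓ₀ : 0 < ℓ y₀) (hℓ₁ : 0 < ℓ y₁) (hne : ¬ ∃ c : ℝ, 0 < c ∧ y₁ = c • y₀)
    (t : ℝ) (ht₀ : 0 < t) (ht₁ : t < 1) (hy : 0 < p (t • y₀ + (1 - t) • y₁)) :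
    min (ℓ y₀ / p y₀) (ℓ y₁ / p y₁) < ℓ (t • y₀ + (1 - t) • y₁) / p (t • y₀ + (1 - t) • y₁) := by
  set p₀ := p y₀ with hp₀
  set p₁ := p y₁ with hp₁
  have h1t : 0 < 1 - t := by linarith
  have hpa : p (t • y₀) = t * p₀ := by rw [map_smul_eq_mul, Real.norm_of_nonneg ht₀.le]
  have hpb : p ((1 - t) • y₁) = (1 - t) * p₁ := by
    rw [map_smul_eq_mul, Real.norm_of_nonneg h1t.le]
  have hnm : ¬ ∃ c : ℝ, 0 < c ∧ (1 - t) • y₁ = c • (t • y₀) := by
    rintro ⟨c, hc, hcy⟩
    apply hne
    refine ⟨c * t / (1 - t), by positivity, ?_⟩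
    have : y₁ = (1 - t)⁻¹ • ((1 - t) • y₁) := by
      rw [smul_smul, inv_mul_cancel₀ h1t.ne', one_smul]
    rw [this, hcy, smul_smul, smul_smul]
    congr 1
    field_simp
  have hstrict : p (t • y₀ + (1 - t) • y₁) < t * p₀ + (1 - t) * p₁ := by
    have := hp (t • y₀) ((1 - t) • y₁) (by rw [hpa]; positivity) (by rw [hpb]; positivity) hnm
    rwa [hpa, hpb] at this
  set y := t • y₀ + (1 - t) • y₁ with hy_def
  have hℓy : ℓ y = t * ℓ y₀ + (1 - t) * ℓ y₁ := by
    simp [hy_def, map_add, map_smul, smul_eq_mul]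
  set a₀ := ℓ y₀ / p₀ with ha₀
  set a₁ := ℓ y₁ / p₁ with ha₁
  have hℓ0 : ℓ y₀ = a₀ * p₀ := by rw [ha₀, div_mul_cancel₀ _ h₀.ne']
  have hℓ1 : ℓ y₁ = a₁ * p₁ := by rw [ha₁, div_mul_cancel₀ _ h₁.ne']
  have ha₀pos : 0 < a₀ := div_pos hℓ₀ h₀
  have ha₁pos : 0 < a₁ := div_pos hℓ₁ h₁
  have hm0 : min a₀ a₁ ≤ a₀ := min_le_left _ _
  have hm1 : min a₀ a₁ ≤ a₁ := min_le_right _ _
  have hmpos : 0 < min a₀ a₁ := lt_min ha₀pos ha₁pos
  have key : min a₀ a₁ * p y < ℓ y := by
    calc min a₀ a₁ * p y < min a₀ a₁ * (t * p₀ + (1 - t) * p₁) :=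
          mul_lt_mul_of_pos_left hstrict hmpos
      _ = t * (min a₀ a₁ * p₀) + (1 - t) * (min a₀ a₁ * p₁) := by ring
      _ ≤ t * (a₀ * p₀) + (1 - t) * (a₁ * p₁) := by
          have e0 : min a₀ a₁ * p₀ ≤ a₀ * p₀ := mul_le_mul_of_nonneg_right hm0 h₀.le
          have e1 : min a₀ a₁ * p₁ ≤ a₁ * p₁ := mul_le_mul_of_nonneg_right hm1 h₁.le
          have := mul_le_mul_of_nonneg_left e0 ht₀.le
          have := mul_le_mul_of_nonneg_left e1 h1t.le
          linarith
      _ = ℓ y := by rw [hℓy, hℓ0, hℓ1]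
  exact (lt_div_iff₀ hy).mpr key

end Groth.Agent.S19137
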