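import Groth.Statements.S19148
import Mathlib

set_option autoImplicit false
open scoped TensorProduct
universe u v
open FiltMod

namespace Groth.Agent.S19148

open scoped TensorProduct

section

variable {R : Type u} [CommRing R] {M : Type v} [AddCommGroup M] [Module R M]

/-- linear functionals separate the points of a projective module -/
theorem eq_zero_of_forall_dual [Module.Projective R M] (m : M)
    (h : ∀ χ : M →ₗ[R] R, χ m = 0) : m = 0 := by
  obtain ⟨s, hs⟩ := Module.projective_def'.1 (inferInstance : Module.Projective R M)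
  have h0 : s m = 0 := by
    ext b
    exact h ((Finsupp.lapply b).comp s)
  have h1 := LinearMap.congr_fun hs m
  rw [LinearMap.comp_apply, h0, map_zero, LinearMap.id_apply] at h1
  exact h1.symm

/-- the product functional `m ↦ ∏ ψ i (m i)` on the tensor power -/
noncomputable def Phi (k : ℕ) (ψ : Fin k → (M →ₗ[R] R)) : (⨂[R] _ : Fin k, M) →ₗ[R] R :=
  PiTensorProduct.lift ((MultilinearMap.mkPiAlgebra R (Fin k) R).compLinearMap ψ)

theorem Phi_tprod (k : ℕ) (ψ : Fin k → (M →ₗ[R] R)) (x : Fin k → M) :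
    Phi k ψ (PiTensorProduct.tprod R x) = ∏ i, ψ i (x i) := by
  rw [Phi, PiTensorProduct.lift.tprod, MultilinearMap.compLinearMap_apply,
    MultilinearMap.mkPiAlgebra_apply]

theorem Phi_map_eq_zero (n : ℕ) (F : Submodule R M) (ψ : Fin (n + 1) → (M →ₗ[R] R))
    (h0 : ∀ a ∈ F, ψ 0 a = 0) (t : ⨂[R] _ : Fin (n + 1), F) :
    Phi (n + 1) ψ (PiTensorProduct.map (R := R) (fun _ : Fin (n + 1) => F.subtype) t) = 0 := by
  induction t using PiTensorProduct.induction_on with
  | smul_tprod r f =>
    rw [map_smul, map_smul, PiTensorProduct.map_tprod, Phi_tprod,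
      Finset.prod_eq_zero (i := (0 : Fin (n + 1))) (Finset.mem_univ _) (h0 _ (f 0).2), smul_zero]
  | add x y hx hy => rw [map_add, map_add, hx, hy, add_zero]

theorem le_of_range_le [Module.Projective R M] (n : ℕ) (F₁ F₂ C₁ C₂ : Submodule R M)
    (h₁ : IsCompl F₁ C₁) (h₂ : IsCompl F₂ C₂)
    (hrange : LinearMap.range (PiTensorProduct.map (R := R) (fun _ : Fin (n + 1) => F₁.subtype)) ≤
      LinearMap.range (PiTensorProduct.map (R := R) (fun _ : Fin (n + 1) => F₂.subtype))) :
    F₁ ≤ F₂ := by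
  classical
  intro y hy
  rw [← Submodule.projection_apply_eq_zero_iff h₂.symm]
  apply eq_zero_of_forall_dual (R := R)
  intro χ
  obtain ⟨ψ₀, hψ₀⟩ : ∃ ψ₀ : M →ₗ[R] R, ψ₀ = χ.comp (C₂.projection F₂ h₂.symm) := ⟨_, rfl⟩
  have h0 : ∀ a ∈ F₂, ψ₀ a = 0 := by
    intro a ha
    rw [hψ₀, LinearMap.comp_apply, (Submodule.projection_apply_eq_zero_iff h₂.symm).2 ha, map_zero]
  suffices h : ψ₀ y = 0 by rw [hψ₀, LinearMap.comp_apply] at h; exact h
  obtain ⟨s, hs⟩ := Module.projective_def'.1 (inferInstance : Module.Projective R M)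
  -- expansion of an element of `F₁`
  have hexp : ∀ z ∈ F₁, ψ₀ z = ∑ b ∈ (s z).support, (s z b) * ψ₀ (F₁.projection C₁ h₁ b) := by
    intro z hz
    have h1 : Finsupp.linearCombination R id (s z) = z := LinearMap.congr_fun hs z
    have h2 : F₁.projection C₁ h₁ z = z := Submodule.projection_apply_of_mem_left h₁ hz
    calc ψ₀ z = ψ₀ (F₁.projection C₁ h₁ (Finsupp.linearCombination R id (s z))) := by
          rw [h1, h2]
      _ = ∑ b ∈ (s z).support, (s z b) * ψ₀ (F₁.projection C₁ h₁ b) := by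
          rw [Finsupp.linearCombination_apply, Finsupp.sum, map_sum, map_sum]
          refine Finset.sum_congr rfl fun b _ => ?_
          rw [map_smul, map_smul, smul_eq_mul]
          rfl
  -- the family of vanishing statements
  have hstep : ∀ j : ℕ,
      (∀ (p : Fin (j + 1) → (M →ₗ[R] R) × M), (∀ i, (p i).2 ∈ F₁) → ∀ z ∈ F₁,
        ψ₀ z * ∏ i, (p i).1 (p i).2 = 0) →
      (∀ (p : Fin j → (M →ₗ[R] R) × M), (∀ i, (p i).2 ∈ F₁) → ∀ z ∈ F₁,
        ψ₀ z * ∏ i, (p i).1 (p i).2 = 0) := by
    intro j hj p hp z hz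
    rw [hexp z hz, Finset.sum_mul]
    refine Finset.sum_eq_zero fun b _ => ?_
    have h3 := hj (Fin.cons ((Finsupp.lapply b).comp s, z) p) (by
      intro i
      refine Fin.cases ?_ (fun l => ?_) i
      · simpa using hz
      · simpa using hp l) (F₁.projection C₁ h₁ b) (Submodule.projection_apply_mem h₁ b)
    rw [Fin.prod_univ_succ] at h3
    simp only [Fin.cons_zero, Fin.cons_succ, LinearMap.comp_apply, Finsupp.lapply_apply] at h3
    linear_combination h3
  have htop : ∀ (p : Fin n → (M →ₗ[R] R) × M), (∀ i, (p i).2 ∈ F₁) → ∀ z ∈ F₁,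
      ψ₀ z * ∏ i, (p i).1 (p i).2 = 0 := by
    intro p hp z hz
    obtain ⟨x, hxdef⟩ : ∃ x : Fin (n + 1) → M, x = Fin.cons z (fun i => (p i).2) := ⟨_, rfl⟩
    obtain ⟨ψ, hψdef⟩ : ∃ ψ : Fin (n + 1) → (M →ₗ[R] R), ψ = Fin.cons ψ₀ (fun i => (p i).1) :=
      ⟨_, rfl⟩
    have hx : ∀ i, x i ∈ F₁ := by
      intro i
      rw [hxdef]
      refine Fin.cases ?_ (fun l => ?_) i
      · simpa using hz
      · simpa using hp l
    have hmem : PiTensorProduct.tprod R x ∈
        LinearMap.range (PiTensorProduct.map (R := R) (fun _ : Fin (n + 1) => F₁.subtype)) := by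
      refine ⟨PiTensorProduct.tprod R (fun i => (⟨x i, hx i⟩ : F₁)), ?_⟩
      rw [PiTensorProduct.map_tprod]
      rfl
    obtain ⟨t, ht⟩ := hrange hmem
    have h4 := Phi_map_eq_zero n F₂ ψ (by rw [hψdef]; simpa using h0) t
    rw [ht, Phi_tprod, Fin.prod_univ_succ, hxdef, hψdef] at h4
    simpa using h4
  -- descend to the empty family
  have hall : ∀ j : ℕ, (∀ (p : Fin j → (M →ₗ[R] R) × M), (∀ i, (p i).2 ∈ F₁) → ∀ z ∈ F₁,
        ψ₀ z * ∏ i, (p i).1 (p i).2 = 0) → ψ₀ y = 0 := by
    intro j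
    induction j with
    | zero =>
      intro h
      have := h (fun i => i.elim0) (fun i => i.elim0) y hy
      simpa using this
    | succ j ih =>
      intro h
      exact ih (hstep j h)
  exact hall n htop

end

/-- In affine form, let R be a commutative ring, M a finitely generated projective R-module (a finite
locally free sheaf on Spec R), F₁ and F₂ direct summands of M and k ≥ 1. Then the images of F₁^{⊗k}
and F₂^{⊗k} in the k-th tensor power M^{⊗k} are equal if and only if F₁ = F₂. (The source states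
this for local direct factors of a finite locally free sheaf on a scheme; equality of subsheaves
being local, this is the affine case with global direct summands, to which it reduces.) -/
theorem result {R : Type u} [CommRing R] {M : Type v} [AddCommGroup M] [Module R M]
    [Module.Finite R M] [Module.Projective R M] (F₁ F₂ : Submodule R M)
    (h₁ : ∃ C : Submodule R M, IsCompl F₁ C) (h₂ : ∃ C : Submodule R M, IsCompl F₂ C) (k : ℕ) (hk : 1 ≤ k) :
    LinearMap.range (PiTensorProduct.map (R := R) (fun _ : Fin k => F₁.subtype)) =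
      LinearMap.range (PiTensorProduct.map (R := R) (fun _ : Fin k => F₂.subtype)) ↔ F₁ = F₂ := by
  constructor
  · intro h
    obtain ⟨C₁, hC₁⟩ := h₁
    obtain ⟨C₂, hC₂⟩ := h₂
    obtain ⟨n, rfl⟩ : ∃ n, k = n + 1 := ⟨k - 1, by omega⟩
    exact le_antisymm (le_of_range_le n F₁ F₂ C₁ C₂ hC₁ hC₂ h.le)
      (le_of_range_le n F₂ F₁ C₂ C₁ hC₂ hC₁ h.ge)
  · rintro rfl
    rfl

end Groth.Agent.S19148
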