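import Groth.Statements.S19156
import Groth.Agent.Lib.Helper7.RootDom
-- import your own Groth.Agent.* helpers here

set_option autoImplicit false
open RootPairing
open RootD

namespace Groth.Agent.S19156

/-- Let P be a root datum (root pairing over ℤ with finitely many roots indexed by ι), S a system of
positive roots, Γ a non-trivial totally ordered commutative group and f : M → Γ additive. Then f is
dominant (non-negative on the positive roots) if and only if, for every w in the Weyl group, f − f ∘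
w is a combination m ↦ Σ_{α ∈ S} ⟨m, α∨⟩ c_α of the positive coroots with coefficients c_α ≥ 0 in Γ
(f ∘ w is strongly dominated by f); and f is dominant if and only if f(w m) ≤ f(m) for every w ∈ W
and every dominant weight m (weak dominance). -/
theorem result {ι M N : Type*} [AddCommGroup M] [AddCommGroup N]
    (P : RootPairing ι ℤ M N) [Fintype ι] (S : Set ι) (hS : RootD.IsPosSys P S)
    {Γ : Type*} [AddCommGroup Γ] [LinearOrder Γ] [IsOrderedAddMonoid Γ] [Nontrivial Γ] (f : M →+ Γ) :
    ((∀ i ∈ S, 0 ≤ f (P.root i)) ↔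
      ∀ g : P.Aut, g ∈ P.weylGroup → ∃ c : ι → Γ, (∀ i, 0 ≤ c i) ∧ (∀ i, i ∉ S → c i = 0) ∧
        ∀ m : M, f m - f (RootPairing.Equiv.weightHom P g m) = ∑ i, (P.coroot' i m) • c i) ∧
    ((∀ i ∈ S, 0 ≤ f (P.root i)) ↔
      ∀ g : P.Aut, g ∈ P.weylGroup → ∀ m : M, (∀ i ∈ S, 0 ≤ P.coroot' i m) →
        f (RootPairing.Equiv.weightHom P g m) ≤ f m) := by
  have hfin : Finite ι := Finite.of_fintype ι
  obtain ⟨m₀, hm₀⟩ := Helper7.RootDom.exists_regular hS
  refine ⟨⟨?_, ?_⟩, ⟨?_, ?_⟩⟩
  · intro hf g hg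
    exact Helper7.RootDom.dom_decomp hS f hf hg
  · intro h i hi
    obtain ⟨c, hc, hcS, heq⟩ := h (Equiv.reflection P i) (P.reflection_mem_weylGroup i)
    have h1 := heq m₀
    have h2 : f (RootPairing.Equiv.weightHom P (Equiv.reflection P i) m₀) =
        f m₀ - (P.coroot' i m₀) • f (P.root i) := Helper7.RootDom.refl_eval f i m₀
    rw [h2, sub_sub_cancel] at h1
    have h3 : 0 ≤ ∑ j, (P.coroot' j m₀) • c j :=
      Helper7.RootDom.sum_nonneg_of hc hcS (fun j hj => (hm₀ j hj).le)
    rw [← h1] at h3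
    exact Helper7.RootDom.nonneg_of_zsmul_nonneg (hm₀ i hi) h3
  · intro hf g hg m hm
    exact Helper7.RootDom.dom_le hS f hf hg hm
  · intro h i hi
    have h1 := h (Equiv.reflection P i) (P.reflection_mem_weylGroup i) m₀
      (fun j hj => (hm₀ j hj).le)
    have h2 : f (RootPairing.Equiv.weightHom P (Equiv.reflection P i) m₀) =
        f m₀ - (P.coroot' i m₀) • f (P.root i) := Helper7.RootDom.refl_eval f i m₀
    rw [h2, sub_le_self_iff] at h1
    exact Helper7.RootDom.nonneg_of_zsmul_nonneg (hm₀ i hi) h1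

end Groth.Agent.S19156
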