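import Groth.Statements.S19158
import Mathlib
-- import your own Groth.Agent.* helpers here

set_option autoImplicit false
universe u v w
open FiltMod

namespace Groth.Agent.S19158

/-- In affine form, let Γ be a non-trivial totally ordered commutative group, R a commutative ring and
(M_a) a finite family of finitely generated projective R-modules, each carrying a non-increasing
Γ-indexed family of submodules F_a; give M = Π_a M_a the family F^γ = Π_a F_a^γ. Then F is split by
a Γ-grading of M (an internal direct sum decomposition M = ⊕_γ G_γ with F^γ = Σ_{η ≥ γ} G_η for all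
γ) if and only if each F_a is split by a Γ-grading of M_a. (The published statement is for finite
locally free sheaves on a scheme, where a filtration counts as split when it is split by a grading
locally on the scheme; this row is the affine case, in which that is the same as being split by one
global grading.) -/
theorem result
    {Γ : Type w} [AddCommGroup Γ] [LinearOrder Γ] [IsOrderedAddMonoid Γ] [Nontrivial Γ]
    {R : Type u} [CommRing R] {A : Type v} [Fintype A] (M : A → Type v) [∀ a, AddCommGroup (M a)] [∀ a, Module R (M a)]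
    [∀ a, Module.Finite R (M a)] [∀ a, Module.Projective R (M a)]
    (F : ∀ a, Γ → Submodule R (M a)) (hF : ∀ a, Antitone (F a)) :
    (∃ G : Γ → Submodule R (∀ a, M a), DirectSum.IsInternal G ∧
        ∀ γ, Submodule.pi Set.univ (fun a => F a γ) = ⨆ η ∈ Set.Ici γ, G η) ↔
    ∀ a, ∃ G : Γ → Submodule R (M a), DirectSum.IsInternal G ∧ ∀ γ, F a γ = ⨆ η ∈ Set.Ici γ, G η := by
  have helper : ∀ (s : Set Γ) (Ga : ∀ a, Γ → Submodule R (M a)),
      Submodule.pi Set.univ (fun a => ⨆ η ∈ s, Ga a η) ≤
        ⨆ η ∈ s, Submodule.pi Set.univ (fun a => Ga a η) := by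
    classical
    intro s Ga
    rw [← Submodule.iSup_map_single]
    refine iSup_le fun a => ?_
    rw [Submodule.map_iSup]
    refine iSup_le fun η => ?_
    rw [Submodule.map_iSup]
    refine iSup_le fun hη => ?_
    refine le_trans ?_ (le_biSup (fun η => Submodule.pi Set.univ (fun a => Ga a η)) hη)
    exact Submodule.map_le_iff_le_comap.2 (Submodule.le_comap_single_pi (fun a => Ga a η))
  constructor
  · rintro ⟨G, hG, hform⟩ a
    classical
    obtain ⟨hind, htop⟩ := (DirectSum.isInternal_submodule_iff_iSupIndep_and_iSup_eq_top _).1 hG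
    obtain ⟨π, hπ⟩ : ∃ π : (∀ b, M b) →ₗ[R] M a, π = LinearMap.proj a := ⟨_, rfl⟩
    obtain ⟨ι, hι⟩ : ∃ ι : M a →ₗ[R] (∀ b, M b), ι = LinearMap.single R M a := ⟨_, rfl⟩
    have hπapp : ∀ x, π x = x a := fun x => by rw [hπ]; rfl
    have hπι : ∀ y, π (ι y) = y := fun y => by rw [hπ, hι]; simp
    have hιpi : ∀ (p : ∀ b, Submodule R (M b)) (y : M a), y ∈ p a →
        ι y ∈ Submodule.pi Set.univ p :=
      fun p y hy => by rw [hι]; exact Submodule.le_comap_single_pi p hy
    obtain ⟨FP, hFPdef⟩ : ∃ FP : Γ → Submodule R (∀ b, M b),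
        ∀ η, FP η = ⨆ η' ∈ Set.Ioi η, G η' := ⟨_, fun _ => rfl⟩
    obtain ⟨Ga, hGadef⟩ : ∃ Ga : Γ → Submodule R (M a),
        ∀ η, Ga η = Submodule.map π (G η ⊓ (FP η ⊔ LinearMap.range ι)) := ⟨_, fun _ => rfl⟩
    have hF1 : ∀ η, G η ≤ Submodule.pi Set.univ (fun b => F b η) := fun η => by
      rw [hform η]; exact le_biSup G (Set.mem_Ici.2 le_rfl)
    have hIci : ∀ η, (⨆ η' ∈ Set.Ici η, G η') = G η ⊔ FP η := fun η => by
      rw [hFPdef, ← Set.Ioi_insert, iSup_insert]
    have hdisjG : ∀ η, Disjoint (G η) (FP η) := fun η => by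
      rw [hFPdef]
      exact (iSupIndep_def.1 hind η).mono_right (biSup_mono fun η' h => (ne_of_lt h).symm)
    have hpiFP : ∀ η η', η < η' → Submodule.pi Set.univ (fun b => F b η') ≤ FP η :=
      fun η η' h => by
        rw [hform η', hFPdef]
        exact biSup_mono fun η'' h'' => Set.mem_Ioi.2 (lt_of_lt_of_le h (Set.mem_Ici.1 h''))
    have hstab : ∀ η, Submodule.map (ι ∘ₗ π) (FP η) ≤ FP η := fun η => by
      have h1 : FP η ≤ ⨆ η' ∈ Set.Ioi η, Submodule.pi Set.univ (fun b => F b η') := by
        rw [hFPdef]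
        exact iSup₂_mono fun η' _ => hF1 η'
      refine (Submodule.map_mono h1).trans ?_
      rw [Submodule.map_iSup]
      refine iSup_le fun η' => ?_
      rw [Submodule.map_iSup]
      refine iSup_le fun h' => ?_
      refine le_trans ?_ (hpiFP η η' h')
      rintro _ ⟨x, hx, rfl⟩
      rw [LinearMap.comp_apply, hπapp]
      exact hιpi _ _ ((Submodule.mem_pi.1 hx) a (Set.mem_univ a))
    have hC1 : ∀ η, Ga η ≤ F a η := fun η => by
      rw [hGadef]
      rintro _ ⟨g, hg, rfl⟩
      rw [hπapp]
      exact (Submodule.mem_pi.1 (hF1 η (Submodule.mem_inf.1 hg).1)) a (Set.mem_univ a)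
    have hC2 : ∀ η, Disjoint (Ga η) (Submodule.map π (FP η)) := fun η => by
      rw [hGadef, Submodule.disjoint_def]
      rintro _ ⟨g, hg, rfl⟩ ⟨f', hf', hff'⟩
      obtain ⟨hgG, hgS⟩ := Submodule.mem_inf.1 hg
      obtain ⟨f, hf, _, ⟨y, rfl⟩, rfl⟩ := Submodule.mem_sup.1 hgS
      have hy : y = π (f' - f) := by
        rw [map_sub, hff', map_add, hπι]; abel
      have hgFP : f + ι y ∈ FP η := by
        rw [hy]
        exact (FP η).add_mem hf (hstab η ⟨f' - f, (FP η).sub_mem hf' hf, rfl⟩)
      have h0 : f + ι y = 0 := Submodule.disjoint_def.1 (hdisjG η) _ hgG hgFP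
      rw [h0, map_zero]
    have hC3 : ∀ η, F a η ≤ Ga η ⊔ Submodule.map π (FP η) := fun η => by
      intro x hx
      have h1 : ι x ∈ Submodule.pi Set.univ (fun b => F b η) := hιpi _ _ hx
      rw [hform η, hIci η] at h1
      obtain ⟨g, hg, f, hf, hgf⟩ := Submodule.mem_sup.1 h1
      have hg' : g ∈ FP η ⊔ LinearMap.range ι := by
        have : g = -f + ι x := by rw [← hgf]; abel
        rw [this]
        exact Submodule.add_mem_sup ((FP η).neg_mem hf) (LinearMap.mem_range_self ι x)
      have hx' : x = π g + π f := by rw [← map_add, hgf, hπι]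
      rw [hx', hGadef]
      exact Submodule.add_mem_sup (Submodule.mem_map_of_mem (Submodule.mem_inf.2 ⟨hg, hg'⟩))
        (Submodule.mem_map_of_mem hf)
    have hC4 : ∀ η₀ η, η₀ < η → Ga η ≤ Submodule.map π (FP η₀) := fun η₀ η h => by
      rw [hGadef]
      refine Submodule.map_mono (inf_le_left.trans ?_)
      rw [hFPdef]
      exact le_biSup G (Set.mem_Ioi.2 h)
    obtain ⟨T, hT⟩ : ∃ T : Finset Γ, ∀ η, η ∉ T → G η = ⊥ := by
      obtain ⟨s, hs⟩ := (Module.Finite.fg_top : (⊤ : Submodule R (∀ a, M a)).FG)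
      have hx : ∀ x : (∀ a, M a), ∃ t : Finset Γ, x ∈ ⨆ i ∈ t, G i := fun x =>
        Submodule.mem_iSup_iff_exists_finset.1 (by rw [htop]; trivial)
      choose t ht using hx
      refine ⟨s.biUnion t, fun η hη => ?_⟩
      have htop' : (⊤ : Submodule R (∀ a, M a)) ≤ ⨆ i ∈ s.biUnion t, G i := by
        rw [← hs, Submodule.span_le]
        intro x hx
        refine (biSup_mono ?_ : (⨆ i ∈ t x, G i) ≤ _) (ht x)
        intro i hi; exact Finset.mem_biUnion.2 ⟨x, Finset.mem_coe.1 hx, hi⟩
      have hle : G η ≤ ⨆ (i) (_ : i ≠ η), G i := by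
        refine le_trans le_top (htop'.trans (biSup_mono fun i hi => ?_))
        rintro rfl; exact hη hi
      exact (iSupIndep_def.1 hind η).eq_bot_of_le hle
    have key : ∀ n : ℕ, ∀ η, (T.filter (fun η' => η < η')).card = n →
        Submodule.map π (G η) ≤ ⨆ η' ∈ Set.Ici η, Ga η' := by
      intro n
      induction n using Nat.strong_induction_on with
      | _ n ih =>
        intro η hcard
        have h1 : Submodule.map π (G η) ≤ F a η := by
          rintro _ ⟨x, hx, rfl⟩
          rw [hπapp]
          exact (Submodule.mem_pi.1 (hF1 η hx)) a (Set.mem_univ a)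
        refine h1.trans ((hC3 η).trans (sup_le ?_ ?_))
        · exact le_biSup Ga (Set.mem_Ici.2 le_rfl)
        · rw [hFPdef, Submodule.map_iSup]
          refine iSup_le fun η' => ?_
          rw [Submodule.map_iSup]
          refine iSup_le fun hη' => ?_
          by_cases hT' : η' ∈ T
          · have hlt : (T.filter (fun η'' => η' < η'')).card < n := by
              rw [← hcard]
              apply Finset.card_lt_card
              rw [Finset.ssubset_iff_of_subset]
              · exact ⟨η', Finset.mem_filter.2 ⟨hT', hη'⟩,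
                  fun h => lt_irrefl _ (Finset.mem_filter.1 h).2⟩
              · intro x hx
                rw [Finset.mem_filter] at hx ⊢
                exact ⟨hx.1, lt_trans hη' hx.2⟩
            refine (ih _ hlt η' rfl).trans (biSup_mono fun η'' h'' => ?_)
            exact Set.mem_Ici.2 (le_trans (le_of_lt hη') (Set.mem_Ici.1 h''))
          · rw [hT η' hT', Submodule.map_bot]; exact bot_le
    have hmapG : ∀ η, Submodule.map π (G η) ≤ ⨆ η' ∈ Set.Ici η, Ga η' := fun η => key _ η rfl
    have htopa : iSup Ga = ⊤ := by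
      rw [eq_top_iff]
      intro x _
      have h1 : ι x ∈ iSup G := by rw [htop]; trivial
      have h2 : π (ι x) ∈ Submodule.map π (iSup G) := Submodule.mem_map_of_mem h1
      rw [hπι, Submodule.map_iSup] at h2
      refine (iSup_le fun η => ?_ : (⨆ η, Submodule.map π (G η)) ≤ iSup Ga) h2
      exact (hmapG η).trans (iSup₂_le fun η' _ => le_iSup Ga η')
    have hindepa : iSupIndep Ga := by
      apply iSupIndep_of_dfinsupp_lsum_injective
      rw [injective_iff_map_eq_zero]
      intro v hv
      by_contra hne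
      have hsupp : v.support.Nonempty := by
        rw [Finset.nonempty_iff_ne_empty, Ne, DFinsupp.support_eq_empty]; exact hne
      obtain ⟨η₀, hη₀⟩ : ∃ η₀, η₀ = v.support.min' hsupp := ⟨_, rfl⟩
      have hmem₀ : η₀ ∈ v.support := hη₀ ▸ Finset.min'_mem _ _
      have hsum : ((v η₀ : Ga η₀) : M a) =
          - ∑ η ∈ v.support.erase η₀, ((v η : Ga η) : M a) := by
        rw [DFinsupp.lsum_apply_apply, DFinsupp.sumAddHom_apply, DFinsupp.sum,
          ← Finset.add_sum_erase _ _ hmem₀] at hv
        exact eq_neg_of_add_eq_zero_left hv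
      have hmemFP : ((v η₀ : Ga η₀) : M a) ∈ Submodule.map π (FP η₀) := by
        rw [hsum]
        refine Submodule.neg_mem _ (Submodule.sum_mem _ fun η hη => ?_)
        have hle : η₀ ≤ η := hη₀ ▸ Finset.min'_le _ _ (Finset.mem_of_mem_erase hη)
        have hlt : η₀ < η := lt_of_le_of_ne hle (Finset.ne_of_mem_erase hη).symm
        exact hC4 η₀ η hlt (v η).2
      have hz : ((v η₀ : Ga η₀) : M a) = 0 :=
        Submodule.disjoint_def.1 (hC2 η₀) _ (v η₀).2 hmemFP
      exact (DFinsupp.mem_support_iff.1 hmem₀) (Submodule.coe_eq_zero.1 hz)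
    refine ⟨Ga, (DirectSum.isInternal_submodule_iff_iSupIndep_and_iSup_eq_top _).2
      ⟨hindepa, htopa⟩, fun γ => le_antisymm ?_ ?_⟩
    · intro x hx
      have h1 : ι x ∈ Submodule.pi Set.univ (fun b => F b γ) := hιpi _ _ hx
      rw [hform γ] at h1
      have h2 : π (ι x) ∈ Submodule.map π (⨆ η ∈ Set.Ici γ, G η) := Submodule.mem_map_of_mem h1
      rw [hπι, Submodule.map_iSup] at h2
      refine (iSup_le fun η => ?_ :
        (⨆ η, Submodule.map π (⨆ (_ : η ∈ Set.Ici γ), G η)) ≤ ⨆ η ∈ Set.Ici γ, Ga η) h2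
      rw [Submodule.map_iSup]
      refine iSup_le fun hη => ?_
      refine (hmapG η).trans (biSup_mono fun η' h' => ?_)
      exact Set.mem_Ici.2 (le_trans (Set.mem_Ici.1 hη) (Set.mem_Ici.1 h'))
    · exact iSup₂_le fun η hη => (hC1 η).trans (hF a (Set.mem_Ici.1 hη))
  · intro h
    choose Ga hGa using h
    have hint : ∀ a, iSupIndep (Ga a) ∧ iSup (Ga a) = ⊤ := fun a =>
      (DirectSum.isInternal_submodule_iff_iSupIndep_and_iSup_eq_top _).1 (hGa a).1
    refine ⟨fun η => Submodule.pi Set.univ (fun a => Ga a η), ?_, ?_⟩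
    · rw [DirectSum.isInternal_submodule_iff_iSupIndep_and_iSup_eq_top]
      constructor
      · rw [iSupIndep_def]
        intro γ
        rw [Submodule.disjoint_def]
        intro x hx hx'
        funext a
        have h1 : x a ∈ Ga a γ := (Submodule.mem_pi.1 hx) a (Set.mem_univ a)
        have h2 : x a ∈ ⨆ (η) (_ : η ≠ γ), Ga a η := by
          have h3 : Submodule.map (LinearMap.proj a : (∀ b, M b) →ₗ[R] M a)
              (⨆ (η) (_ : η ≠ γ), Submodule.pi Set.univ (fun a => Ga a η)) ≤
              ⨆ (η) (_ : η ≠ γ), Ga a η := by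
            rw [Submodule.map_iSup]
            refine iSup_le fun η => ?_
            rw [Submodule.map_iSup]
            refine iSup_le fun hη => ?_
            refine le_trans ?_ (le_iSup₂ (f := fun η (_ : η ≠ γ) => Ga a η) η hη)
            rintro _ ⟨y, hy, rfl⟩
            exact (Submodule.mem_pi.1 hy) a (Set.mem_univ a)
          exact h3 (Submodule.mem_map_of_mem hx')
        exact (Submodule.disjoint_def.1 ((iSupIndep_def.1 (hint a).1) γ)) _ h1 h2
      · rw [eq_top_iff]
        have h1 := helper Set.univ Ga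
        have h2 : Submodule.pi Set.univ (fun a => ⨆ η ∈ (Set.univ : Set Γ), Ga a η) = ⊤ := by
          have h3 : (fun a => ⨆ η ∈ (Set.univ : Set Γ), Ga a η) =
              fun a => (⊤ : Submodule R (M a)) := by
            funext a; rw [← (hint a).2]; simp only [Set.mem_univ, iSup_pos]
          rw [h3, Submodule.pi_top]
        rw [h2] at h1
        exact h1.trans (iSup₂_le fun η _ =>
          le_iSup (fun η => Submodule.pi Set.univ (fun a => Ga a η)) η)
    · intro γ
      apply le_antisymm
      · have h3 : (fun a => F a γ) = fun a => ⨆ η ∈ Set.Ici γ, Ga a η := by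
          funext a; exact (hGa a).2 γ
        rw [h3]
        exact helper (Set.Ici γ) Ga
      · refine iSup₂_le fun η hη => Submodule.pi_mono fun a _ => ?_
        rw [(hGa a).2 γ]
        exact le_biSup (Ga a) hη

end Groth.Agent.S19158
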