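import Groth.Statements.S19160
import Mathlib
-- import your own Groth.Agent.* helpers here

set_option autoImplicit false
open scoped TensorProduct
universe u
open PureMod

namespace Groth.Agent.S19160

/-- (2) ⇒ (3): in affine form, let R be a commutative ring and i : A → B an R-linear map such that for
every commutative R-algebra R' the base change R' ⊗ A → R' ⊗ B is injective (the pull-back of i to
every affine scheme over Spec R is a monomorphism). Then F ⊗ A → F ⊗ B is injective for every
R-module F, i.e. i is universally injective (pure). (Modules and algebras are taken in the universe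
of R.) -/
theorem result (R : Type u) [CommRing R]
    (A B : Type u) [AddCommGroup A] [Module R A] [AddCommGroup B] [Module R B] (i : A →ₗ[R] B)
    (h : ∀ (R' : Type u) [CommRing R'] [Algebra R R'], Function.Injective (i.baseChange R'))
    (F : Type u) [AddCommGroup F] [Module R F] :
    Function.Injective (i.lTensor F) := by
  letI : Module Rᵐᵒᵖ F := Module.compHom F ((RingHom.id R).fromOpposite mul_comm)
  haveI : IsCentralScalar R F := ⟨fun r m => rfl⟩
  let R' := TrivSqZeroExt R F
  letI : CommRing R' := inferInstanceAs (CommRing (TrivSqZeroExt R F))
  letI : Algebra R R' := inferInstanceAs (Algebra R (TrivSqZeroExt R F))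
  have hR' := h R'
  -- the split injection F → R'
  let ι : F →ₗ[R] R' := TrivSqZeroExt.inrHom R F
  let ρ : R' →ₗ[R] F := TrivSqZeroExt.sndHom R F
  have hρι : ρ ∘ₗ ι = LinearMap.id := by
    ext x; rfl
  have hinjA : Function.Injective (ι.rTensor A) := by
    have : (ρ.rTensor A) ∘ₗ (ι.rTensor A) = LinearMap.id := by
      rw [← LinearMap.rTensor_comp, hρι, LinearMap.rTensor_id]
    exact Function.LeftInverse.injective (g := ρ.rTensor A) (fun x => LinearMap.congr_fun this x)
  have hcomm : (i.lTensor R') ∘ₗ (ι.rTensor A) = (ι.rTensor B) ∘ₗ (i.lTensor F) := by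
    ext x a
    simp
  have hinj' : Function.Injective (i.lTensor R') := by
    have : ⇑(i.lTensor R') = ⇑(i.baseChange R') := by
      ext x; rfl
    rw [this]; exact hR'
  have hcomp : Function.Injective ((ι.rTensor B) ∘ₗ (i.lTensor F)) := by
    rw [← hcomm]
    exact hinj'.comp hinjA
  exact Function.Injective.of_comp hcomp

end Groth.Agent.S19160
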