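import Groth.Statements.S19169
import Groth.Agent.Lib.Helper7.LCTDGroup
-- import your own Groth.Agent.* helpers here

set_option autoImplicit false
universe u
open ProCompl

namespace Groth.Agent.S19169

/-- Let B be a Hausdorff, locally compact, totally disconnected topological abelian group which is
compactly generated, i.e. generated as a group by a compact subset. Then the open subgroups of
finite index of B have trivial intersection: every nonzero b lies outside some open subgroup of
finite index. Equivalently, the natural map from B to its completion with respect to open subgroups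
of finite index is injective. -/
theorem result
    {B : Type u} [AddCommGroup B] [TopologicalSpace B] [IsTopologicalAddGroup B]
    [T2Space B] [LocallyCompactSpace B] [TotallyDisconnectedSpace B]
    (hcg : ∃ K : Set B, IsCompact K ∧ AddSubgroup.closure K = ⊤) (b : B) (hb : b ≠ 0) :
    ∃ B' : AddSubgroup B, IsOpen (B' : Set B) ∧ B'.FiniteIndex ∧ b ∉ B' := by
  classical
  obtain ⟨K, hK, hgen⟩ := hcg
  have hnb : ({b}ᶜ : Set B) ∈ nhds (0 : B) :=
    isOpen_compl_singleton.mem_nhds (by simpa using hb.symm)
  obtain ⟨V, hVo, hVc, hVsub⟩ := Groth.Agent.Helper7.exists_compact_open_addSubgroup_subset hnb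
  have hbV : b ∉ V := fun h => hVsub h rfl
  have hopen : ∀ q : B ⧸ V, IsOpen ((QuotientAddGroup.mk' V) ⁻¹' {q}) := by
    intro q
    induction q using QuotientAddGroup.induction_on with
    | H b' =>
      have : (QuotientAddGroup.mk' V) ⁻¹' {(b' : B ⧸ V)} = (fun x => x - b') ⁻¹' (V : Set B) := by
        ext x
        simp only [Set.mem_preimage, Set.mem_singleton_iff, QuotientAddGroup.mk'_apply,
          SetLike.mem_coe]
        rw [QuotientAddGroup.eq, ← neg_mem_iff (H := V)]
        simp [sub_eq_add_neg, add_comm]
      rw [this]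
      exact hVo.preimage (continuous_id.sub continuous_const)
  have hfinK : ((QuotientAddGroup.mk' V) '' K).Finite := by
    obtain ⟨t, ht⟩ := hK.elim_finite_subcover (fun q : B ⧸ V => (QuotientAddGroup.mk' V) ⁻¹' {q})
      hopen (fun k _ => Set.mem_iUnion.2 ⟨QuotientAddGroup.mk' V k, rfl⟩)
    refine (t.finite_toSet).subset ?_
    rintro _ ⟨k, hk, rfl⟩
    have := ht hk
    simp only [Set.mem_iUnion, Set.mem_preimage, Set.mem_singleton_iff] at this
    obtain ⟨q, hq, hkq⟩ := this
    rw [hkq]
    exact hq
  have hQfg : AddGroup.FG (B ⧸ V) := by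
    rw [AddGroup.fg_iff]
    refine ⟨(QuotientAddGroup.mk' V) '' K, ?_, hfinK⟩
    rw [← AddMonoidHom.map_closure, hgen, ← AddMonoidHom.range_eq_map,
      AddMonoidHom.range_eq_top.2 (QuotientAddGroup.mk'_surjective V)]
  have hq0 : (QuotientAddGroup.mk' V) b ≠ 0 := by
    intro h
    exact hbV ((QuotientAddGroup.eq_zero_iff b).1 h)
  obtain ⟨H, hHfi, hqH⟩ := Groth.Agent.Helper7.exists_finiteIndex_not_mem_of_fg _ hq0
  refine ⟨H.comap (QuotientAddGroup.mk' V), ?_, ?_, hqH⟩
  · apply AddSubgroup.isOpen_of_mem_nhds (g := 0)
    refine Filter.mem_of_superset (hVo.mem_nhds V.zero_mem) ?_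
    intro v hv
    show (QuotientAddGroup.mk' V) v ∈ H
    have : (QuotientAddGroup.mk' V) v = 0 := (QuotientAddGroup.eq_zero_iff v).2 hv
    rw [this]
    exact H.zero_mem
  · refine ⟨?_⟩
    rw [AddSubgroup.index_comap_of_surjective _ (QuotientAddGroup.mk'_surjective V)]
    exact hHfi.index_ne_zero

end Groth.Agent.S19169
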