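import Groth.Statements.S19170
import Mathlib
-- import your own Groth.Agent.* helpers here

set_option autoImplicit false
universe u
open ProCompl

namespace Groth.Agent.S19170

/-- Let B be a topological abelian group generated as a group by a compact subset. Then every character
χ : B → ℚ/ℤ with open kernel (a continuous character for discrete ℚ/ℤ) has kernel of finite index;
consequently each such character factors through B^∧, the completion of B taken along its
finite-index open subgroups, i.e. (B^∧)^D = B^D. (The published statement assumes moreover that B is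
Hausdorff, locally compact and totally disconnected; only compact generation is needed for this
assertion, so those assumptions are dropped here.) -/
theorem result
    {B : Type u} [AddCommGroup B] [TopologicalSpace B] [IsTopologicalAddGroup B]
    (hcg : ∃ K : Set B, IsCompact K ∧ AddSubgroup.closure K = ⊤)
    (χ : B →+ ℚ ⧸ AddSubgroup.zmultiples (1 : ℚ)) (hχ : IsOpen (χ.ker : Set B)) : χ.ker.FiniteIndex := by
  classical
  obtain ⟨K, hK, hgen⟩ := hcg
  have hopen : ∀ q : ℚ ⧸ AddSubgroup.zmultiples (1 : ℚ), IsOpen (χ ⁻¹' {q}) := by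
    intro q
    by_cases hq : ∃ b, χ b = q
    · obtain ⟨b, rfl⟩ := hq
      have : χ ⁻¹' {χ b} = (fun x => x - b) ⁻¹' (χ.ker : Set B) := by
        ext x
        simp only [Set.mem_preimage, Set.mem_singleton_iff, SetLike.mem_coe, AddMonoidHom.mem_ker,
          map_sub, sub_eq_zero]
      rw [this]
      exact hχ.preimage (continuous_id.sub continuous_const)
    · have : χ ⁻¹' {q} = ∅ := by
        ext x
        simp only [Set.mem_preimage, Set.mem_singleton_iff, Set.mem_empty_iff_false, iff_false]
        exact fun h => hq ⟨x, h⟩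
      rw [this]
      exact isOpen_empty
  have hfin : (χ '' K).Finite := by
    obtain ⟨t, ht⟩ := hK.elim_finite_subcover (fun q : ℚ ⧸ AddSubgroup.zmultiples (1 : ℚ) => χ ⁻¹' {q})
      hopen (fun k _ => Set.mem_iUnion.2 ⟨χ k, rfl⟩)
    refine (t.finite_toSet).subset ?_
    rintro _ ⟨k, hk, rfl⟩
    have := ht hk
    simp only [Set.mem_iUnion, Set.mem_preimage, Set.mem_singleton_iff] at this
    obtain ⟨q, hq, hkq⟩ := this
    rw [hkq]
    exact hq
  have hrange : χ.range = AddSubgroup.closure (χ '' K) := by
    rw [← AddMonoidHom.map_closure, hgen, AddMonoidHom.range_eq_map]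
  have hfg : AddGroup.FG χ.range :=
    (AddGroup.fg_iff_addSubgroup_fg _).2 ((AddSubgroup.fg_iff _).2 ⟨χ '' K, hrange.symm, hfin⟩)
  have htorQ : ∀ q : ℚ ⧸ AddSubgroup.zmultiples (1 : ℚ), ∃ n : ℕ, 0 < n ∧ n • q = 0 := by
    intro q
    induction q using QuotientAddGroup.induction_on with
    | H r =>
      refine ⟨r.den, r.den_pos, ?_⟩
      rw [← QuotientAddGroup.mk_nsmul, QuotientAddGroup.eq_zero_iff]
      refine ⟨r.num, ?_⟩
      simp [Rat.mul_den_eq_num, mul_comm]
  have htor : IsAddTorsion χ.range := by
    intro x
    obtain ⟨n, hn, hnx⟩ := htorQ x.1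
    rw [isOfFinAddOrder_iff_nsmul_eq_zero]
    refine ⟨n, hn, ?_⟩
    apply Subtype.ext
    simpa using hnx
  have hfinite : Finite χ.range := AddCommGroup.finite_of_fg_isAddTorsion _ htor
  have : Finite (B ⧸ χ.ker) :=
    Finite.of_equiv _ (QuotientAddGroup.quotientKerEquivRange χ).symm.toEquiv
  exact AddSubgroup.finiteIndex_of_finite_quotient

end Groth.Agent.S19170
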