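import Groth.Statements.S19171
import Groth.Agent.Lib.Helper7.LCTDGroup
-- import your own Groth.Agent.* helpers here

set_option autoImplicit false
universe u v
open ProCompl

namespace Groth.Agent.S19171

open Topology in
/-- Let B be a Hausdorff, locally compact, totally disconnected topological abelian group generated as a
group by a compact subset, and let i : A → B be an injective continuous homomorphism inducing the
topology of A from that of B (a strict injection) whose image is closed. Then every character χ : A
→ ℚ/ℤ with open kernel extends along i to a character ψ : B → ℚ/ℤ with open kernel; with ℚ/ℤ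
discrete this says that restriction B^D → A^D of continuous characters is surjective, i.e. the dual
of a topological exact sequence 0 → A → B → C → 0 with such B, strict closed i and open p is a short
exact sequence 0 → C^D → B^D → A^D → 0. -/
theorem result
    {A : Type u} {B : Type v} [AddCommGroup A] [TopologicalSpace A] [IsTopologicalAddGroup A]
    [AddCommGroup B] [TopologicalSpace B] [IsTopologicalAddGroup B]
    [T2Space B] [LocallyCompactSpace B] [TotallyDisconnectedSpace B]
    (hcg : ∃ K : Set B, IsCompact K ∧ AddSubgroup.closure K = ⊤)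
    (i : A →+ B) (hi : Continuous i) (hinj : Function.Injective i) (hind : IsInducing i)
    (hcl : IsClosed (Set.range i))
    (χ : A →+ ℚ ⧸ AddSubgroup.zmultiples (1 : ℚ)) (hχ : IsOpen (χ.ker : Set A)) :
    ∃ ψ : B →+ ℚ ⧸ AddSubgroup.zmultiples (1 : ℚ), IsOpen (ψ.ker : Set B) ∧ ψ.comp i = χ := by
  obtain ⟨N, hN, hNeq⟩ := hind.isOpen_iff.1 hχ
  have h0N : (0 : B) ∈ N := by
    have : (0 : A) ∈ i ⁻¹' N := by rw [hNeq]; exact χ.ker.zero_mem
    simpa using this
  obtain ⟨V, hVo, hVc, hVN⟩ :=
    Groth.Agent.Helper7.exists_compact_open_addSubgroup_subset (hN.mem_nhds h0N)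
  have hA₀ : V.comap i ≤ χ.ker := by
    intro a ha
    have : a ∈ i ⁻¹' N := hVN ha
    rw [hNeq] at this
    exact this
  let j : A ⧸ V.comap i →+ B ⧸ V := QuotientAddGroup.map (V.comap i) V i le_rfl
  have hj : Function.Injective j := by
    rw [injective_iff_map_eq_zero]
    intro x
    induction x using QuotientAddGroup.induction_on with
    | H a =>
      intro h
      have h' : ((i a : B) : B ⧸ V) = 0 := h
      rw [QuotientAddGroup.eq_zero_iff] at h'
      exact (QuotientAddGroup.eq_zero_iff a).2 h'
  let χbar : A ⧸ V.comap i →+ ℚ ⧸ AddSubgroup.zmultiples (1 : ℚ) :=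
    QuotientAddGroup.lift (V.comap i) χ hA₀
  obtain ⟨ψbar, hψbar⟩ := (Module.Baer.of_divisible
    (ℚ ⧸ AddSubgroup.zmultiples (1 : ℚ))).extension_property_addMonoidHom j hj χbar
  refine ⟨ψbar.comp (QuotientAddGroup.mk' V), ?_, ?_⟩
  · apply AddSubgroup.isOpen_of_mem_nhds (g := 0)
    refine Filter.mem_of_superset (hVo.mem_nhds V.zero_mem) ?_
    intro v hv
    show ψbar ((QuotientAddGroup.mk' V) v) = 0
    have : (QuotientAddGroup.mk' V) v = 0 := (QuotientAddGroup.eq_zero_iff v).2 hv
    rw [this, map_zero]
  · ext a
    have h1 : ψbar (j (a : A ⧸ V.comap i)) = χbar (a : A ⧸ V.comap i) :=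
      DFunLike.congr_fun hψbar _
    exact h1

end Groth.Agent.S19171
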