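import Groth.Statements.S19172
import Groth.Agent.Lib.Helper7.FIComplTop
-- import your own Groth.Agent.* helpers here

set_option autoImplicit false
universe u v w
open ProCompl

namespace Groth.Agent.S19172

open W4c61motalbduality in
/-- Let i : A → B and p : B → C be continuous homomorphisms of topological abelian groups with p
surjective and open and with the kernel of p equal to the image of i. Then the induced sequence of
completions with respect to open subgroups of finite index, A^∧ → B^∧ → C^∧ → 0, is exact: the map
B^∧ → C^∧ is surjective and its kernel is the image of A^∧. The completion is the group of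
compatible families of residues modulo all open subgroups of finite index. (The published statement
takes i injective, as the first map of an exact sequence 0 → A → B → C → 0 of topological abelian
groups; here it is only assumed that the image of i is the kernel of p, which is all the proof
uses.) -/
theorem result
    {A : Type u} {B : Type v} {C : Type w}
    [AddCommGroup A] [TopologicalSpace A] [IsTopologicalAddGroup A]
    [AddCommGroup B] [TopologicalSpace B] [IsTopologicalAddGroup B]
    [AddCommGroup C] [TopologicalSpace C] [IsTopologicalAddGroup C]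
    (i : A →+ B) (hi : Continuous i) (p : B →+ C) (hp : Continuous p)
    (hpo : IsOpenMap p) (hps : Function.Surjective p) (hex : p.ker = i.range) :
    Function.Surjective (FICompl.map p hp) ∧ (FICompl.map p hp).ker = (FICompl.map i hi).range := by
  open Groth.Agent.Helper7.FIC in
  constructor
  · intro z
    have hcl := isClosed_image_mapFun p hp
    have hsub : Set.range (fun c : C => (toFICompl C c).1) ⊆
        mapFun p hp '' ((FICompl B : AddSubgroup ((U : OpenFI B) → B ⧸ U.toAddSubgroup)) :
          Set ((U : OpenFI B) → B ⧸ U.toAddSubgroup)) := by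
      rintro _ ⟨c, rfl⟩
      obtain ⟨b, rfl⟩ := hps c
      exact ⟨(toFICompl B b).1, (toFICompl B b).2, rfl⟩
    obtain ⟨y, hy, hyz⟩ := closure_minimal hsub hcl (dense_toFICompl z)
    exact ⟨⟨y, hy⟩, Subtype.ext hyz⟩
  · apply le_antisymm
    · intro y hy
      rw [AddMonoidHom.mem_ker] at hy
      have hcl := isClosed_image_mapFun i hi
      suffices h : y.1 ∈ closure (mapFun i hi ''
          ((FICompl A : AddSubgroup ((U : OpenFI A) → A ⧸ U.toAddSubgroup)) :
            Set ((U : OpenFI A) → A ⧸ U.toAddSubgroup))) by
        rw [hcl.closure_eq] at h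
        obtain ⟨x, hx, hxy⟩ := h
        exact ⟨⟨x, hx⟩, Subtype.ext hxy⟩
      apply mem_closure_of_forall_finset
      intro I
      obtain ⟨V, hV⟩ := exists_le_finset I
      obtain ⟨b, hb⟩ := QuotientAddGroup.mk_surjective (y.1 V)
      have hVfi := V.finiteIndex'
      let W : OpenFI C := ⟨V.toAddSubgroup.map p, hpo _ V.isOpen', ⟨fun h0 => by
        have hdvd := AddSubgroup.index_map_dvd V.toAddSubgroup hps
        rw [h0, zero_dvd_iff] at hdvd
        exact AddSubgroup.FiniteIndex.index_ne_zero hdvd⟩⟩
      have h1 : (FICompl.map p hp y).1 W = 0 := by rw [hy]; rfl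
      have hVW : V.toAddSubgroup ≤ (W.comap p hp).toAddSubgroup := fun v hv => ⟨v, hv, rfl⟩
      have h2 := y.2 V (W.comap p hp) hVW
      have h3 : ((p b : C) : C ⧸ W.toAddSubgroup) = 0 := by
        have h6 : (FICompl.map p hp y).1 W = QuotientAddGroup.map _ _ p (W.comap_le p)
            (y.1 (W.comap p hp)) := rfl
        rw [h6, ← h2, ← hb] at h1
        exact h1
      rw [QuotientAddGroup.eq_zero_iff] at h3
      obtain ⟨v, hv, hvb⟩ := h3
      have h4 : b - v ∈ p.ker := by rw [AddMonoidHom.mem_ker, map_sub, hvb, sub_self]
      rw [hex] at h4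
      obtain ⟨a, ha⟩ := h4
      refine ⟨mapFun i hi (toFICompl A a).1, ⟨_, (toFICompl A a).2, rfl⟩, fun j hj => ?_⟩
      have h5 := y.2 V j (hV j hj)
      rw [← h5, ← hb]
      change ((i a : B) : B ⧸ j.toAddSubgroup) = ((b : B) : B ⧸ j.toAddSubgroup)
      rw [ha, QuotientAddGroup.eq]
      have : -(b - v) + b = v := by abel
      rw [this]
      exact hV j hj hv
    · rintro _ ⟨x, rfl⟩
      rw [AddMonoidHom.mem_ker]
      apply Subtype.ext
      funext W
      obtain ⟨a, ha⟩ := QuotientAddGroup.mk_surjective (x.1 ((W.comap p hp).comap i hi))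
      change QuotientAddGroup.map _ _ p _ (QuotientAddGroup.map _ _ i _
        (x.1 ((W.comap p hp).comap i hi))) = 0
      rw [← ha]
      change ((p (i a) : C) : C ⧸ W.toAddSubgroup) = 0
      have h0 : p (i a) = 0 := by
        have : i a ∈ p.ker := hex ▸ ⟨a, rfl⟩
        exact this
      rw [h0]
      rfl

end Groth.Agent.S19172
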