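import Groth.Statements.S19173
import Groth.Agent.Lib.Helper7.LCTDGroup2
-- import your own Groth.Agent.* helpers here

set_option autoImplicit false
universe u v
open ProCompl

namespace Groth.Agent.S19173

open W4c61motalbduality Topology in
/-- Let B be a Hausdorff, locally compact, totally disconnected topological abelian group generated as a
group by a compact subset, and let i : A → B be an injective continuous homomorphism inducing the
topology of A from that of B (a strict injection) with closed image. Then the map induced by i on
completions with respect to open subgroups of finite index is injective; together with right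
exactness for open surjections this makes 0 → A^∧ → B^∧ → C^∧ → 0 exact for a topological exact
sequence 0 → A → B → C → 0 with such B, strict closed i and open p. -/
theorem result
    {A : Type u} {B : Type v} [AddCommGroup A] [TopologicalSpace A] [IsTopologicalAddGroup A]
    [AddCommGroup B] [TopologicalSpace B] [IsTopologicalAddGroup B]
    [T2Space B] [LocallyCompactSpace B] [TotallyDisconnectedSpace B]
    (hcg : ∃ K : Set B, IsCompact K ∧ AddSubgroup.closure K = ⊤)
    (i : A →+ B) (hi : Continuous i) (hinj : Function.Injective i) (hind : IsInducing i)
    (hcl : IsClosed (Set.range i)) :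
    Function.Injective (FICompl.map i hi) := by
  rw [injective_iff_map_eq_zero]
  intro x hx
  apply Subtype.ext
  funext U
  have := U.finiteIndex'
  obtain ⟨V, hVo, hVfi, hVU⟩ :=
    Groth.Agent.Helper7.exists_openFI_comap_le hcg i hind U.toAddSubgroup U.isOpen'
  let V' : W4c61motalbduality.OpenFI B := ⟨V, hVo, hVfi⟩
  -- the component of x at i⁻¹(V) vanishes
  have h1 : (W4c61motalbduality.FICompl.map i hi x).1 V' = 0 := by
    rw [hx]; rfl
  have h2 : x.1 (V'.comap i hi) = 0 := by
    obtain ⟨a, ha⟩ := QuotientAddGroup.mk_surjective (x.1 (V'.comap i hi))
    have h1' : QuotientAddGroup.map (V'.comap i hi).toAddSubgroup V'.toAddSubgroup i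
        (V'.comap_le i) (x.1 (V'.comap i hi)) = 0 := h1
    rw [← ha] at h1'
    have h1'' : ((i a : B) : B ⧸ V) = 0 := h1'
    rw [QuotientAddGroup.eq_zero_iff] at h1''
    rw [← ha]
    exact (QuotientAddGroup.eq_zero_iff a).2 h1''
  have h3 := x.2 (V'.comap i hi) U hVU
  rw [h2, map_zero] at h3
  exact h3.symm

end Groth.Agent.S19173
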