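import Groth.Statements.S19177
import Mathlib
-- import your own Groth.Agent.* helpers here

set_option autoImplicit false
universe u
open CAlg

namespace Groth.Agent.S19177

/-- Let S → R be a homomorphism of commutative rings making R a finitely generated projective S-module
of rank 2 at every prime of S (the affine form of a finite locally free morphism of degree 2). Then
the cokernel of the (injective) structure map S → R, the S-module R/S, is a projective S-module of
rank 1 at every prime of S (locally free of rank 1). -/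
theorem result
    (S R : Type u) [CommRing S] [CommRing R] [Algebra S R] [Module.Finite S R] [Module.Projective S R]
    (h2 : ∀ p : PrimeSpectrum S, Module.rankAtStalk (R := S) R p = 2) :
    Module.Projective S (R ⧸ LinearMap.range (Algebra.linearMap S R)) ∧
      ∀ p : PrimeSpectrum S,
        Module.rankAtStalk (R := S) (R ⧸ LinearMap.range (Algebra.linearMap S R)) p = 1 := by
  classical
  have hpos : ∀ p : PrimeSpectrum S, 0 < Module.rankAtStalk (R := S) R p := fun p => by
    rw [h2 p]; norm_num
  have hsurj : Function.Surjective (PrimeSpectrum.comap (algebraMap S R)) :=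
    PrimeSpectrum.rankAtStalk_pos_iff_comap_surjective.mp hpos
  obtain ⟨s, hs⟩ := Module.projective_def'.mp (inferInstance : Module.Projective S R)
  obtain ⟨c, hc⟩ : ∃ c : R →₀ S, c = s 1 := ⟨_, rfl⟩
  have h1 : (1 : R) = c.sum (fun q a => a • q) := by
    have := LinearMap.congr_fun hs (1 : R)
    simp only [LinearMap.comp_apply, LinearMap.id_apply] at this
    rw [Finsupp.linearCombination_apply, ← hc] at this
    exact this.symm
  have htop : Ideal.span (Set.range c) = ⊤ := by
    by_contra hne
    obtain ⟨m, hm, hle⟩ := Ideal.exists_le_maximal _ hne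
    obtain ⟨Q, hQ⟩ := hsurj ⟨m, hm.isPrime⟩
    have hQm : ∀ a ∈ m, algebraMap S R a ∈ Q.asIdeal := by
      intro a ha
      have h' : a ∈ (PrimeSpectrum.comap (algebraMap S R) Q).asIdeal := by rw [hQ]; exact ha
      exact h'
    have h1Q : (1 : R) ∈ Q.asIdeal := by
      rw [h1]
      refine Ideal.sum_mem _ (fun q _ => ?_)
      show c q • q ∈ Q.asIdeal
      rw [Algebra.smul_def]
      exact Ideal.mul_mem_right _ _ (hQm _ (hle (Ideal.subset_span ⟨q, rfl⟩)))
    exact Q.isPrime.ne_top ((Ideal.eq_top_iff_one _).mpr h1Q)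
  obtain ⟨t, ht⟩ := Finsupp.mem_ideal_span_range_iff_exists_finsupp.mp
    (htop ▸ Submodule.mem_top : (1 : S) ∈ Ideal.span (Set.range c))
  obtain ⟨φ, hφ1⟩ : ∃ φ : R →ₗ[S] S, φ 1 = 1 := by
    refine ⟨t.sum (fun q a => a • (Finsupp.lapply q ∘ₗ s)), ?_⟩
    rw [Finsupp.sum, LinearMap.sum_apply]
    simp only [LinearMap.smul_apply, LinearMap.comp_apply, Finsupp.lapply_apply, smul_eq_mul]
    rw [← hc]
    exact ht
  obtain ⟨N, hN⟩ : ∃ N : Submodule S R, N = LinearMap.range (Algebra.linearMap S R) := ⟨_, rfl⟩
  rw [← hN]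
  have hφi : ∀ r : R, φ (r - φ r • (1:R)) = 0 := by
    intro r
    rw [map_sub, map_smul, hφ1, smul_eq_mul, mul_one, sub_self]
  have hπ1 : ∀ a : S, N.mkQ (a • (1:R)) = 0 := by
    intro a
    rw [Submodule.mkQ_apply, Submodule.Quotient.mk_eq_zero, hN]
    exact ⟨a, by rw [Algebra.linearMap_apply, Algebra.algebraMap_eq_smul_one]⟩
  obtain ⟨i, hi⟩ : ∃ i : (R ⧸ N) →ₗ[S] R,
      ∀ r : R, i (Submodule.Quotient.mk r) = r - φ r • (1 : R) := by
    refine ⟨N.liftQ (LinearMap.id - (LinearMap.toSpanSingleton S R 1) ∘ₗ φ) ?_, fun r => ?_⟩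
    · rw [hN]
      rintro _ ⟨a, rfl⟩
      rw [LinearMap.mem_ker]
      simp only [LinearMap.sub_apply, LinearMap.id_apply, LinearMap.comp_apply,
        LinearMap.toSpanSingleton_apply, Algebra.linearMap_apply]
      rw [Algebra.algebraMap_eq_smul_one, map_smul, hφ1, smul_eq_mul, mul_one, sub_self]
    · rw [Submodule.liftQ_apply]
      simp only [LinearMap.sub_apply, LinearMap.id_apply, LinearMap.comp_apply,
        LinearMap.toSpanSingleton_apply]
  have hπi : N.mkQ ∘ₗ i = LinearMap.id := by
    apply LinearMap.ext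
    intro x
    obtain ⟨r, rfl⟩ := Submodule.Quotient.mk_surjective N x
    rw [LinearMap.comp_apply, hi, LinearMap.id_apply, map_sub, hπ1, sub_zero]
    rfl
  have hproj : Module.Projective S (R ⧸ N) := Module.Projective.of_split i N.mkQ hπi
  refine ⟨hproj, fun p => ?_⟩
  haveI := hproj
  haveI : Nontrivial S := PrimeSpectrum.nonempty_iff_nontrivial.mp ⟨p⟩
  have e : R ≃ₗ[S] S × (R ⧸ N) := by
    refine LinearEquiv.ofLinear (φ.prod N.mkQ) ((LinearMap.toSpanSingleton S R 1).coprod i) ?_ ?_
    · apply LinearMap.ext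
      rintro ⟨a, x⟩
      obtain ⟨r, rfl⟩ := Submodule.Quotient.mk_surjective N x
      refine Prod.ext ?_ ?_
      · show φ (a • (1:R) + i (Submodule.Quotient.mk r)) = a
        rw [hi, map_add, map_smul, hφ1, hφi, add_zero, smul_eq_mul, mul_one]
      · show N.mkQ (a • (1:R) + i (Submodule.Quotient.mk r)) = Submodule.Quotient.mk r
        rw [hi, map_add, hπ1, zero_add, map_sub, hπ1, sub_zero]
        rfl
    · apply LinearMap.ext
      intro r
      show (φ r) • (1:R) + i (N.mkQ r) = r
      rw [Submodule.mkQ_apply, hi]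
      abel
  have h := Module.rankAtStalk_eq_of_equiv e
  rw [Module.rankAtStalk_prod, Module.rankAtStalk_self] at h
  have h3 := congrFun h p
  rw [Pi.add_apply, Pi.one_apply, h2 p] at h3
  omega

end Groth.Agent.S19177
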