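import Groth.Statements.S19182
import Mathlib
import Groth.Agent.Lib.Helper4.SmoothHypersurface

set_option autoImplicit false
universe u
open CAlg

namespace Groth.Agent.S19182

open MvPolynomial in
/-- Let R be a commutative ring and a₁, a₂ ∈ R. The two affine charts of the blow-up of the plane curve
y² + a₁xy = x³ + a₂x² at the section x = y = 0, with coordinate rings R[y, α]/(1 + a₁α − yα³ − a₂α²)
and R[x, β]/(β² + a₁β − x − a₂) (variables indexed 0 and 1 in this order), are smooth R-algebras
(formally smooth of finite presentation). This is the local computation behind the statement that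
the blow-up of a Weierstrass curve along a section through its singular locus is a smooth proper
curve of genus 0. -/
theorem result (R : Type u) [CommRing R] (a₁ a₂ : R) :
    Algebra.Smooth R (MvPolynomial (Fin 2) R ⧸
      Ideal.span ({1 + C a₁ * X 1 - X 0 * X 1 ^ 3 - C a₂ * X 1 ^ 2} : Set (MvPolynomial (Fin 2) R))) ∧
    Algebra.Smooth R (MvPolynomial (Fin 2) R ⧸
      Ideal.span ({X 1 ^ 2 + C a₁ * X 1 - X 0 - C a₂} : Set (MvPolynomial (Fin 2) R))) := by
  constructor
  · apply Groth.Agent.Helper4.smooth_quotient_span_singleton _ (0 : Fin 2)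
    have hd : pderiv (0 : Fin 2) (1 + C a₁ * X 1 - X 0 * X 1 ^ 3 - C a₂ * X 1 ^ 2 :
        MvPolynomial (Fin 2) R) = - X 1 ^ 3 := by
      simp [pderiv_X, Derivation.leibniz, Derivation.leibniz_pow]
    rw [hd]
    set g : MvPolynomial (Fin 2) R := 1 + C a₁ * X 1 - X 0 * X 1 ^ 3 - C a₂ * X 1 ^ 2 with hg
    have hg0 : Ideal.Quotient.mk (Ideal.span ({g} : Set (MvPolynomial (Fin 2) R))) g = 0 :=
      Ideal.Quotient.eq_zero_iff_mem.mpr (Ideal.subset_span rfl)
    have h1 : Ideal.Quotient.mk (Ideal.span ({g} : Set (MvPolynomial (Fin 2) R))) (X 1) *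
        Ideal.Quotient.mk _ (X 0 * X 1 ^ 2 + C a₂ * X 1 - C a₁) = 1 := by
      rw [← map_mul]
      have e : (X 1 * (X 0 * X 1 ^ 2 + C a₂ * X 1 - C a₁) : MvPolynomial (Fin 2) R) = 1 - g := by
        rw [hg]; ring
      rw [e, map_sub, hg0, sub_zero, map_one]
    have hu : IsUnit (Ideal.Quotient.mk (Ideal.span ({g} : Set (MvPolynomial (Fin 2) R))) (X 1)) :=
      IsUnit.of_mul_eq_one _ h1
    rw [map_neg, map_pow]
    exact (hu.pow 3).neg
  · apply Groth.Agent.Helper4.smooth_quotient_span_singleton _ (0 : Fin 2)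
    have hd : pderiv (0 : Fin 2) (X 1 ^ 2 + C a₁ * X 1 - X 0 - C a₂ :
        MvPolynomial (Fin 2) R) = - 1 := by
      simp [pderiv_X, Derivation.leibniz, Derivation.leibniz_pow]
    rw [hd, map_neg, map_one]
    exact ⟨⟨-1, -1, by ring, by ring⟩, rfl⟩

end Groth.Agent.S19182
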