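import Groth.Statements.S19183
import Mathlib
-- import your own Groth.Agent.* helpers here

set_option autoImplicit false
universe u
open CAlg

namespace Groth.Agent.S19183

/-- Let A be a non-zero commutative ring and f ∈ A a non-zero-divisor. The fibre product A ×_{A/(f)} A
of two copies of A over A/(f) — the A-submodule of A × A of pairs (x, y) with x − y ∈ (f), which is
the coordinate ring of two copies of Spec A glued along the Cartier divisor f = 0 — is a free
A-module of rank 2. (This is what makes the gluing of two copies of a curve along an effective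
Cartier divisor finite locally free of degree 2 over the curve.) -/
theorem result (A : Type u) [CommRing A] [Nontrivial A]
    (f : A) (hf : f ∈ nonZeroDivisors A) :
    Module.Free A (Submodule.comap (LinearMap.fst A A A - LinearMap.snd A A A) (Ideal.span ({f} : Set A))) ∧
      Module.finrank A (Submodule.comap (LinearMap.fst A A A - LinearMap.snd A A A) (Ideal.span ({f} : Set A))) = 2 := by
  set P := Submodule.comap (LinearMap.fst A A A - LinearMap.snd A A A)
    (Ideal.span ({f} : Set A)) with hP
  have hmemP : ∀ z : A × A, z ∈ P ↔ z.1 - z.2 ∈ Ideal.span ({f} : Set A) := by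
    intro z
    rw [hP, Submodule.mem_comap]
    simp
  -- the linear map A × A → P, (a, b) ↦ (a + f b, a)
  let φ : (A × A) →ₗ[A] P :=
    { toFun := fun z => ⟨(z.1 + f * z.2, z.1), by
        rw [hmemP]
        exact Ideal.mem_span_singleton'.mpr ⟨z.2, by ring⟩⟩
      map_add' := by
        intro x y
        apply Subtype.ext
        ext <;> simp <;> ring
      map_smul' := by
        intro c x
        apply Subtype.ext
        ext <;> simp <;> ring }
  have hφ : ∀ z : A × A, ((φ z : P) : A × A) = (z.1 + f * z.2, z.1) := fun z => rfl
  have hbij : Function.Bijective φ := by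
    constructor
    · intro x y hxy
      have h1 := congrArg (fun w : P => (w : A × A)) hxy
      simp only [hφ, Prod.mk.injEq] at h1
      obtain ⟨h2, h3⟩ := h1
      have h4 : f * x.2 = f * y.2 := by rw [h3] at h2; exact add_left_cancel h2
      have h5 : (x.2 - y.2) * f = 0 := by linear_combination h4
      have h6 : x.2 - y.2 = 0 := (mem_nonZeroDivisors_iff_right.mp hf) _ h5
      exact Prod.ext h3 (sub_eq_zero.mp h6)
    · rintro ⟨z, hz⟩
      obtain ⟨c, hc⟩ := Ideal.mem_span_singleton'.mp ((hmemP z).mp hz)
      refine ⟨(z.2, c), ?_⟩
      apply Subtype.ext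
      rw [hφ]
      ext
      · simp only; linear_combination hc
      · rfl
  let e : (A × A) ≃ₗ[A] P := LinearEquiv.ofBijective φ hbij
  refine ⟨Module.Free.of_equiv e, ?_⟩
  rw [← LinearEquiv.finrank_eq e, Module.finrank_prod, Module.finrank_self]

end Groth.Agent.S19183
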