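import Groth.Statements.S19184
import Mathlib
-- import your own Groth.Agent.* helpers here

set_option autoImplicit false
universe u
open CAlg

namespace Groth.Agent.S19184


open Polynomial in
theorem main (S : Type u) [CommRing S] [Nontrivial S] (a b : S) :
    Module.Free S ((⊥ : Subalgebra S (S[X] ⧸ Ideal.span ({X ^ 2 + C a * X + C b} : Set S[X]))).comap
        (Ideal.Quotient.mkₐ S (Ideal.span ({X ^ 2 + C a * X + C b} : Set S[X])))) ∧
      Module.Finite ((⊥ : Subalgebra S (S[X] ⧸ Ideal.span ({X ^ 2 + C a * X + C b} : Set S[X]))).comap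
        (Ideal.Quotient.mkₐ S (Ideal.span ({X ^ 2 + C a * X + C b} : Set S[X])))) S[X] := by
  classical
  set f : S[X] := X ^ 2 + C a * X + C b with hfdef
  set I : Ideal S[X] := Ideal.span ({f} : Set S[X]) with hI
  set A' : Subalgebra S S[X] := (⊥ : Subalgebra S (S[X] ⧸ I)).comap (Ideal.Quotient.mkₐ S I) with hA'
  have hlin : degree (C a * X + C b) < ((2 : ℕ) : WithBot ℕ) :=
    lt_of_le_of_lt degree_linear_le (by exact_mod_cast (by norm_num : (1 : ℕ) < 2))
  have hf : f.Monic := by rw [hfdef, add_assoc]; exact monic_X_pow_add hlin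
  have hdeg : f.degree = ((2 : ℕ) : WithBot ℕ) := by
    rw [hfdef, add_assoc, degree_add_eq_left_of_degree_lt, degree_X_pow]
    rw [degree_X_pow]; exact hlin
  have hfI : f ∈ I := Ideal.subset_span rfl
  have hmem : ∀ (c : S) (q : S[X]), C c + q * f ∈ A' := by
    intro c q
    show Ideal.Quotient.mk I (C c + q * f) ∈ (⊥ : Subalgebra S (S[X] ⧸ I))
    have h0 : Ideal.Quotient.mk I (q * f) = 0 :=
      Ideal.Quotient.eq_zero_iff_mem.2 (Ideal.mul_mem_left _ _ hfI)
    exact Algebra.mem_bot.2 ⟨c, by rw [map_add, h0, add_zero]; rfl⟩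
  constructor
  · let g : S × S[X] →ₗ[S] A' :=
      { toFun := fun cq => ⟨C cq.1 + cq.2 * f, hmem cq.1 cq.2⟩
        map_add' := fun x y => by
          apply Subtype.ext
          show C (x.1 + y.1) + (x.2 + y.2) * f = (C x.1 + x.2 * f) + (C y.1 + y.2 * f)
          rw [C_add]; ring
        map_smul' := fun s x => by
          apply Subtype.ext
          show C (s * x.1) + (s • x.2) * f = s • (C x.1 + x.2 * f)
          rw [C_mul, smul_eq_C_mul, smul_eq_C_mul]; ring }
    have hginj : Function.Injective g := by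
      rw [injective_iff_map_eq_zero]
      intro cq h
      have h1 : C cq.1 + cq.2 * f = 0 := congrArg Subtype.val h
      have h2 := div_modByMonic_unique (f := (0 : S[X])) cq.2 (C cq.1) hf
        ⟨by rw [mul_comm]; exact h1, by
          rw [hdeg]; exact lt_of_le_of_lt degree_C_le (by exact_mod_cast (by norm_num : (0 : ℕ) < 2))⟩
      rw [zero_divByMonic, zero_modByMonic] at h2
      have h3 : cq.1 = 0 := C_eq_zero.1 h2.2.symm
      exact Prod.ext h3 h2.1.symm
    have hgsurj : Function.Surjective g := by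
      rintro ⟨p, hp⟩
      obtain ⟨c, hc⟩ := Algebra.mem_bot.1 (show Ideal.Quotient.mk I p ∈ (⊥ : Subalgebra S (S[X] ⧸ I)) from hp)
      have h1 : Ideal.Quotient.mk I (C c) = Ideal.Quotient.mk I p := hc
      have h2 : C c - p ∈ I := Ideal.Quotient.eq.1 h1
      obtain ⟨t, ht⟩ := Ideal.mem_span_singleton.1 h2
      refine ⟨(c, -t), Subtype.ext ?_⟩
      show C c + (-t) * f = p
      linear_combination ht
    exact Module.Free.of_equiv (LinearEquiv.ofBijective g ⟨hginj, hgsurj⟩)
  · refine Module.finite_def.2 (Submodule.fg_def.2 ⟨{1, X}, by simp, ?_⟩)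
    rw [eq_top_iff]
    intro p _
    rw [Submodule.mem_span_pair]
    have hlt : (p %ₘ f).degree < f.degree := degree_modByMonic_lt p hf
    have hr1 : (p %ₘ f).degree ≤ 1 := by
      by_cases h0 : p %ₘ f = 0
      · rw [h0, degree_zero]; exact bot_le
      · have h2 : (p %ₘ f).natDegree < 2 := (natDegree_lt_iff_degree_lt h0).2 (by rw [← hdeg]; exact hlt)
        exact_mod_cast degree_le_of_natDegree_le (Nat.le_of_lt_succ h2)
    have hr := eq_X_add_C_of_degree_le_one hr1
    have hp := modByMonic_add_div p f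
    refine ⟨⟨C ((p %ₘ f).coeff 0) + (p /ₘ f) * f, hmem _ _⟩, ⟨C ((p %ₘ f).coeff 1) + 0 * f, hmem _ _⟩, ?_⟩
    show (C ((p %ₘ f).coeff 0) + (p /ₘ f) * f) * 1 + (C ((p %ₘ f).coeff 1) + 0 * f) * X = p
    linear_combination hp - hr


open Polynomial in
/-- Let S be a commutative ring, a, b ∈ S, f = x² + ax + b ∈ S[x] and R = S[x]/(f), a free S-algebra of
rank 2. Let A ⊂ S[x] be the S-subalgebra of polynomials whose class in R lies in the image of S → R;
it is the fibre product S[x] ×_R S, the coordinate ring of the affine line over S with the degree-2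
subscheme Spec R collapsed onto Spec S. Then A is a free S-module and S[x] is a finitely generated
A-module. -/
theorem result (S : Type u) [CommRing S] (a b : S) :
    Module.Free S ((⊥ : Subalgebra S (S[X] ⧸ Ideal.span ({X ^ 2 + C a * X + C b} : Set S[X]))).comap
        (Ideal.Quotient.mkₐ S (Ideal.span ({X ^ 2 + C a * X + C b} : Set S[X])))) ∧
      Module.Finite ((⊥ : Subalgebra S (S[X] ⧸ Ideal.span ({X ^ 2 + C a * X + C b} : Set S[X]))).comap
        (Ideal.Quotient.mkₐ S (Ideal.span ({X ^ 2 + C a * X + C b} : Set S[X])))) S[X] := by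
  classical
  rcases subsingleton_or_nontrivial S with hS | hS
  · have h1 : Subsingleton S[X] := inferInstance
    exact ⟨Module.Free.of_subsingleton' S _, ⟨⟨∅, Subsingleton.elim _ _⟩⟩⟩
  · exact main S a b

end Groth.Agent.S19184
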