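import Groth.Statements.S19186
import Mathlib
-- import your own Groth.Agent.* helpers here

set_option autoImplicit false
universe u
open OneMot

namespace Groth.Agent.S19186

theorem bez {G : Type*} [AddCommGroup G] (m k : ℕ) (h : Nat.Coprime m k) :
    ∃ u v : ℤ, ∀ x : G, x = u • (m • x) + v • (k • x) := by
  obtain ⟨u, v, huv⟩ := Nat.isCoprime_iff_coprime.2 h
  refine ⟨u, v, fun x => ?_⟩
  rw [← natCast_zsmul x m, ← natCast_zsmul x k, smul_smul, smul_smul, ← add_smul, huv, one_smul]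

/-- Let p and ℓ be distinct prime numbers, r and n natural numbers, and f : A → B a homomorphism of
abelian groups whose kernel and cokernel are annihilated by p^r (f a = 0 implies p^r • a = 0, and
every p^r • b lies in the image of f). Then f induces a bijection between the ℓ^n-torsion subgroups
of A and B and a bijection A/ℓ^n A → B/ℓ^n B. Spelled out without quotients: every ℓ^n-torsion
element of B has exactly one ℓ^n-torsion preimage; an element of A whose image is an ℓ^n-multiple is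
itself an ℓ^n-multiple; and every element of B is the sum of an image and an ℓ^n-multiple. -/
theorem result {A B : Type u} [AddCommGroup A] [AddCommGroup B] (f : A →+ B) (p ℓ r n : ℕ) (hp : p.Prime) (hl : ℓ.Prime) (hne : ℓ ≠ p) (hker : ∀ a : A, f a = 0 → p ^ r • a = 0) (hcoker : ∀ b : B, ∃ a : A, f a = p ^ r • b) : (∀ b : B, ℓ ^ n • b = 0 → ∃! a : A, ℓ ^ n • a = 0 ∧ f a = b) ∧ (∀ a : A, (∃ b' : B, f a = ℓ ^ n • b') → ∃ a' : A, a = ℓ ^ n • a') ∧ (∀ b : B, ∃ (a : A) (b' : B), b = f a + ℓ ^ n • b') := by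
  have hcop : Nat.Coprime (ℓ ^ n) (p ^ r) := Nat.Coprime.pow _ _ ((Nat.coprime_primes hl hp).2 hne)
  have hcop2 : Nat.Coprime (ℓ ^ n) (p ^ r * p ^ r) := Nat.Coprime.mul_right hcop hcop
  obtain ⟨u, v, hA⟩ := bez (G := A) _ _ hcop
  obtain ⟨uB, vB, hB⟩ := bez (G := B) _ _ hcop
  obtain ⟨u', v', hA'⟩ := bez (G := A) _ _ hcop2
  refine ⟨?_, ?_, ?_⟩
  · intro b hb
    obtain ⟨a₀, ha₀⟩ := hcoker b
    obtain ⟨a₁, ha₁⟩ : ∃ a₁, a₁ = vB • a₀ := ⟨_, rfl⟩
    have hb1 : b = f a₁ := by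
      conv_lhs => rw [hB b, hb, smul_zero, zero_add, ← ha₀]
      rw [ha₁, map_zsmul]
    have ht : p ^ r • (ℓ ^ n • a₁) = 0 := by
      apply hker
      rw [map_nsmul, ← hb1, hb]
    have hmain : a₁ = u • (ℓ ^ n • a₁) + v • (p ^ r • a₁) := hA a₁
    refine ⟨v • (p ^ r • a₁), ⟨?_, ?_⟩, ?_⟩
    · rw [smul_comm (ℓ ^ n) v, smul_comm (ℓ ^ n) (p ^ r), ht, smul_zero]
    · have : v • (p ^ r • a₁) = a₁ - u • (ℓ ^ n • a₁) := by
        rw [eq_sub_iff_add_eq]; rw [add_comm]; exact hmain.symm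
      rw [this, map_sub, map_zsmul, map_nsmul, ← hb1, hb, smul_zero, sub_zero]
    · rintro a' ⟨ha'1, ha'2⟩
      have hd1 : ℓ ^ n • (a' - v • (p ^ r • a₁)) = 0 := by
        rw [smul_sub, ha'1, smul_comm (ℓ ^ n) v, smul_comm (ℓ ^ n) (p ^ r), ht, smul_zero, sub_zero]
      have hd2 : p ^ r • (a' - v • (p ^ r • a₁)) = 0 := by
        apply hker
        have : v • (p ^ r • a₁) = a₁ - u • (ℓ ^ n • a₁) := by
          rw [eq_sub_iff_add_eq]; rw [add_comm]; exact hmain.symm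
        rw [map_sub, ha'2, this, map_sub, map_zsmul, map_nsmul, ← hb1, hb, smul_zero, sub_zero,
          sub_self]
      have := hA (a' - v • (p ^ r • a₁))
      rw [hd1, hd2, smul_zero, smul_zero, add_zero] at this
      exact sub_eq_zero.1 this
  · rintro a ⟨b', hb'⟩
    obtain ⟨a₀, ha₀⟩ := hcoker b'
    have h1 : p ^ r • (p ^ r • a - ℓ ^ n • a₀) = 0 := by
      apply hker
      rw [map_sub, map_nsmul, map_nsmul, hb', ha₀, smul_comm, sub_self]
    have h2 : (p ^ r * p ^ r) • a = ℓ ^ n • (p ^ r • a₀) := by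
      rw [smul_sub, sub_eq_zero] at h1
      rw [mul_smul, h1, smul_comm]
    refine ⟨u' • a + v' • (p ^ r • a₀), ?_⟩
    conv_lhs => rw [hA' a, h2]
    rw [smul_add, smul_comm (ℓ ^ n) u', smul_comm (ℓ ^ n) v']
  · intro b
    obtain ⟨a₀, ha₀⟩ := hcoker b
    refine ⟨vB • a₀, uB • b, ?_⟩
    conv_lhs => rw [hB b]
    rw [map_zsmul, ha₀, smul_comm (ℓ ^ n) uB, add_comm]

end Groth.Agent.S19186
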