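import Groth.Statements.S19187
import Mathlib

set_option autoImplicit false
universe u
open Cpct

namespace Groth.Agent.S19187

open CategoryTheory AlgebraicGeometry in
theorem main {k : Type u} [Field k] {X Y Xb Yb : Scheme.{u}} (a : Xb ⟶ Spec (CommRingCat.of k))
    (b : Yb ⟶ Spec (CommRingCat.of k)) [IsProper a] [IsProper b] (j : X ⟶ Xb) [IsOpenImmersion j]
    (hj : Dense (Set.range j.base)) (v : Y ⟶ Yb) [IsOpenImmersion v] (f : X ⟶ Y) [IsProper f]
    (fb : Xb ⟶ Yb) (hfb : fb ≫ b = a) (hsq : j ≫ fb = f ≫ v) :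
    fb ⁻¹ᵁ v.opensRange = j.opensRange := by
  apply le_antisymm
  swap
  · rintro _ ⟨x, rfl⟩
    show fb (j x) ∈ v.opensRange
    rw [← Scheme.Hom.comp_apply, hsq, Scheme.Hom.comp_apply]
    exact ⟨f x, rfl⟩
  · have hjP : Set.range j ⊆ Set.range (fb ⁻¹ᵁ v.opensRange).ι := by
      rw [Scheme.Opens.range_ι]
      rintro _ ⟨x, rfl⟩
      show fb (j x) ∈ v.opensRange
      rw [← Scheme.Hom.comp_apply, hsq, Scheme.Hom.comp_apply]
      exact ⟨f x, rfl⟩
    have hPv : Set.range ((fb ⁻¹ᵁ v.opensRange).ι ≫ fb) ⊆ Set.range v := by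
      rintro _ ⟨p, rfl⟩
      rw [Scheme.Hom.comp_apply]
      exact p.2
    have hj' : IsOpenImmersion.lift (fb ⁻¹ᵁ v.opensRange).ι j hjP ≫ (fb ⁻¹ᵁ v.opensRange).ι = j :=
      IsOpenImmersion.lift_fac _ _ _
    have hq : IsOpenImmersion.lift v ((fb ⁻¹ᵁ v.opensRange).ι ≫ fb) hPv ≫ v =
        (fb ⁻¹ᵁ v.opensRange).ι ≫ fb := IsOpenImmersion.lift_fac _ _ _
    have hjq : IsOpenImmersion.lift (fb ⁻¹ᵁ v.opensRange).ι j hjP ≫
        IsOpenImmersion.lift v ((fb ⁻¹ᵁ v.opensRange).ι ≫ fb) hPv = f := by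
      rw [← cancel_mono v, Category.assoc, hq, ← Category.assoc, hj', hsq]
    have hsepq : IsSeparated (IsOpenImmersion.lift v ((fb ⁻¹ᵁ v.opensRange).ι ≫ fb) hPv) := by
      have : IsSeparated (IsOpenImmersion.lift v ((fb ⁻¹ᵁ v.opensRange).ι ≫ fb) hPv ≫ v ≫ b) := by
        rw [← Category.assoc, hq, Category.assoc, hfb]; infer_instance
      exact IsSeparated.of_comp _ (v ≫ b)
    have hprop : IsProper (IsOpenImmersion.lift (fb ⁻¹ᵁ v.opensRange).ι j hjP) := by
      have : IsProper (IsOpenImmersion.lift (fb ⁻¹ᵁ v.opensRange).ι j hjP ≫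
          IsOpenImmersion.lift v ((fb ⁻¹ᵁ v.opensRange).ι ≫ fb) hPv) := by
        rw [hjq]; infer_instance
      exact IsProper.of_comp _ (IsOpenImmersion.lift v ((fb ⁻¹ᵁ v.opensRange).ι ≫ fb) hPv)
    have hpt : ∀ x, (fb ⁻¹ᵁ v.opensRange).ι
        (IsOpenImmersion.lift (fb ⁻¹ᵁ v.opensRange).ι j hjP x) = j x := fun x => by
      rw [← Scheme.Hom.comp_apply, hj']
    have hcl : IsClosed (Set.range (IsOpenImmersion.lift (fb ⁻¹ᵁ v.opensRange).ι j hjP)) :=
      (Scheme.Hom.isClosedMap _).isClosed_range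
    have hd : Dense (Set.range (IsOpenImmersion.lift (fb ⁻¹ᵁ v.opensRange).ι j hjP)) := by
      rw [(fb ⁻¹ᵁ v.opensRange).ι.isOpenEmbedding.isInducing.dense_iff]
      intro p
      have himg : (fb ⁻¹ᵁ v.opensRange).ι ''
          Set.range (IsOpenImmersion.lift (fb ⁻¹ᵁ v.opensRange).ι j hjP) = Set.range j := by
        ext z
        constructor
        · rintro ⟨_, ⟨x, rfl⟩, rfl⟩
          exact ⟨x, (hpt x).symm⟩
        · rintro ⟨x, rfl⟩
          exact ⟨_, ⟨x, rfl⟩, hpt x⟩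
      rw [himg]
      exact hj _
    have huniv : Set.range (IsOpenImmersion.lift (fb ⁻¹ᵁ v.opensRange).ι j hjP) = Set.univ := by
      rw [← hcl.closure_eq]; exact hd.closure_eq
    intro p hp
    obtain ⟨x, hx⟩ : (⟨p, hp⟩ : (fb ⁻¹ᵁ v.opensRange).toScheme) ∈
        Set.range (IsOpenImmersion.lift (fb ⁻¹ᵁ v.opensRange).ι j hjP) := huniv ▸ Set.mem_univ _
    refine ⟨x, ?_⟩
    rw [← hpt x, hx]; rfl

open CategoryTheory AlgebraicGeometry in
/-- Let k be a field, X̄ and Ȳ schemes proper over Spec k, j : X → X̄ an open immersion with dense image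
and v : Y → Ȳ an open immersion (compactifications of X and Y), f : X → Y a proper morphism and f̄ :
X̄ → Ȳ a morphism over Spec k with f̄ ∘ j = v ∘ f. Then the preimage under f̄ of the open v(Y) is
the open j(X); equivalently, the complement of X in X̄ is the preimage of the complement of Y in Ȳ.
(The base field k is arbitrary: no perfectness assumption is needed.) -/
theorem result {k : Type u} [Field k] {X Y Xb Yb : Scheme.{u}} (a : Xb ⟶ Spec (CommRingCat.of k)) (b : Yb ⟶ Spec (CommRingCat.of k)) [IsProper a] [IsProper b] (j : X ⟶ Xb) [IsOpenImmersion j] (hj : Dense (Set.range j.base)) (v : Y ⟶ Yb) [IsOpenImmersion v] (f : X ⟶ Y) [IsProper f] (fb : Xb ⟶ Yb) (hfb : fb ≫ b = a) (hsq : j ≫ fb = f ≫ v) : fb ⁻¹ᵁ v.opensRange = j.opensRange := by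
  exact main a b j hj v f fb hfb hsq

end Groth.Agent.S19187
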