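import Groth.Statements.S19191
import Mathlib
-- import your own Groth.Agent.* helpers here

set_option autoImplicit false
universe w v u v' u'
open CategoryTheory CategoryTheory.Limits CategoryTheory.Pretriangulated CategoryTheory.Triangulated
open CohDer

namespace Groth.Agent.S19191


section
open ZeroObject

variable {T : Type u} [Category.{v} T] [Preadditive T] [HasZeroObject T] [HasShift T ℤ]
    [∀ n : ℤ, (shiftFunctor T n).Additive]
    [Pretriangulated T] [IsTriangulated T]
    (U : ObjectProperty T) [U.IsTriangulated] [U.IsClosedUnderIsomorphisms] [U.IsStableUnderRetracts]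
    {E : Type u'} [Category.{v'} E] [Preadditive E]
    (Q : T ⥤ E) [Q.Additive] [Q.IsLocalization U.trW] (X : T)

theorem map_id_eq_zero_of_mem (hX : U X) : 𝟙 (Q.obj X) = 0 := by
  have h2 : Q.map (𝟙 X) = Q.map (0 : X ⟶ X) := by
    rw [MorphismProperty.map_eq_iff_precomp Q U.trW]
    refine ⟨0, 0, ?_, by simp⟩
    exact (U.trW_iff _).2 ⟨X, 𝟙 X, 0, contractible_distinguished₁ X, hX⟩
  rw [Q.map_id, Q.map_zero] at h2
  exact h2

theorem mem_of_map_id_eq_zero (h : 𝟙 (Q.obj X) = 0) : U X := by
  have h2 : Q.map (𝟙 X) = Q.map (0 : X ⟶ X) := by rw [Q.map_id, h, Q.map_zero]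
  rw [MorphismProperty.map_eq_iff_precomp Q U.trW] at h2
  obtain ⟨Z, s, hs, eq⟩ := h2
  rw [Category.comp_id, comp_zero] at eq
  subst eq
  obtain ⟨C, g, k, hT, hC⟩ := (U.trW_iff _).1 hs
  have hmono : Mono g := Triangle.mono₂ (Triangle.mk (0 : Z ⟶ X) g k) hT rfl
  haveI := isSplitMono_of_mono g
  exact U.prop_of_retract ⟨g, retraction g, IsSplitMono.id g⟩ hC

end


/-- Let `A` be a commutative ring, `T` an `A`-linear triangulated category (octahedron axiom included;
shift functors `A`-linear), `U` a thick subcategory of `T` (a property of objects containing zero,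
stable under shifts, extensions, isomorphisms and direct factors), and `Q : T ⥤ E` a localization of
`T` at the morphisms whose cone lies in `U` (the Verdier quotient `T/U`), where `E` is preadditive
and `A`-linear and `Q` is `A`-linear. For an object `X` of `T` the following two conditions are
equivalent: (i) `X` lies in `U`; (ii) for every maximal ideal `m` of `A` the image of `X` in the
category obtained from `T/U` by tensoring the morphism modules with `A_m` is zero, i.e. some element
of `A` outside `m` annihilates the identity of `Q X`. (The published statement also lists a third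
equivalent condition, phrased with idempotent completions of the localized categories; it is not
asserted here.) -/
theorem result
    {A : Type w} [CommRing A]
    {T : Type u} [Category.{v} T] [Preadditive T] [Linear A T] [HasZeroObject T] [HasShift T ℤ]
    [∀ n : ℤ, (shiftFunctor T n).Additive] [∀ n : ℤ, (shiftFunctor T n).Linear A]
    [Pretriangulated T] [IsTriangulated T]
    (U : ObjectProperty T) [U.IsTriangulated] [U.IsClosedUnderIsomorphisms] [U.IsStableUnderRetracts]
    {E : Type u'} [Category.{v'} E] [Preadditive E] [Linear A E]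
    (Q : T ⥤ E) [Q.Additive] [Q.Linear A] [Q.IsLocalization U.trW] (X : T) :
    U X ↔ ∀ m : Ideal A, m.IsMaximal → ∃ s : A, s ∉ m ∧ s • 𝟙 (Q.obj X) = 0 := by
  constructor
  · intro hX m hm
    refine ⟨1, fun h => hm.ne_top ((Ideal.eq_top_iff_one m).2 h), ?_⟩
    rw [one_smul]
    exact map_id_eq_zero_of_mem U Q X hX
  · intro h
    let I : Ideal A :=
      { carrier := {s | s • 𝟙 (Q.obj X) = 0}
        add_mem' := fun {a b} (ha : a • 𝟙 (Q.obj X) = 0) (hb : b • 𝟙 (Q.obj X) = 0) =>
          show (a + b) • 𝟙 (Q.obj X) = 0 by rw [add_smul, ha, hb, add_zero]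
        zero_mem' := show (0 : A) • 𝟙 (Q.obj X) = 0 by rw [zero_smul]
        smul_mem' := fun c a (ha : a • 𝟙 (Q.obj X) = 0) =>
          show (c * a) • 𝟙 (Q.obj X) = 0 by rw [mul_smul, ha, smul_zero] }
    have hI : I = ⊤ := by
      by_contra hne
      obtain ⟨m, hm, hIm⟩ := Ideal.exists_le_maximal I hne
      obtain ⟨s, hs, hs0⟩ := h m hm
      exact hs (hIm hs0)
    have h1 : (1 : A) ∈ I := hI ▸ Submodule.mem_top
    have h1' : (1 : A) • 𝟙 (Q.obj X) = 0 := h1
    rw [one_smul] at h1'
    exact mem_of_map_id_eq_zero U Q X h1'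

end Groth.Agent.S19191
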