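import Groth.Statements.S19193
import Mathlib
-- import your own Groth.Agent.* helpers here

set_option autoImplicit false
universe u
open CategoryTheory Opposite TopologicalSpace
open CohTop

namespace Groth.Agent.S19193

open W4c6blochformula0cyc

section
variable {X : Type u} [TopologicalSpace X]

theorem res_res (F : (Opens X)ᵒᵖ ⥤ AddCommGrpCat.{u}) {V W Z : Opens X} (h1 : W ≤ V) (h2 : Z ≤ W)
    (x : F.obj (op V)) : res F h2 (res F h1 x) = res F (h2.trans h1) x := by
  have e : F.map (homOfLE (h2.trans h1)).op = F.map (homOfLE h1).op ≫ F.map (homOfLE h2).op := by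
    rw [← F.map_comp]; rfl
  show (F.map (homOfLE h2).op).hom ((F.map (homOfLE h1).op).hom x) =
    (F.map (homOfLE (h2.trans h1)).op).hom x
  rw [e]; rfl

theorem res_self (F : (Opens X)ᵒᵖ ⥤ AddCommGrpCat.{u}) {V : Opens X} (h : V ≤ V)
    (x : F.obj (op V)) : res F h x = x := by
  have e : (homOfLE h).op = 𝟙 (op V) := rfl
  show (F.map (homOfLE h).op).hom x = x
  rw [e, F.map_id]; rfl

theorem f_congr (F : (Opens X)ᵒᵖ ⥤ AddCommGrpCat.{u}) {ι : Type u} (U : ι → Opens X) {m : ℕ}
    (f : Cochain F U m) {s₁ s₂ : Fin m → ι} (h : s₁ = s₂) {W : Opens X}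
    (h1 : W ≤ cechOpen U s₁) (h2 : W ≤ cechOpen U s₂) : res F h1 (f s₁) = res F h2 (f s₂) := by
  subst h; rfl

theorem cons_comp {ι : Type u} {n : ℕ} (α : ι) (t : Fin (n + 1) → ι) (l : Fin (n + 1)) :
    (Fin.cons α t : Fin (n + 1 + 1) → ι) ∘ l.succ.succAbove = Fin.cons α (t ∘ l.succAbove) := by
  funext i
  refine Fin.cases ?_ (fun i => ?_) i
  · simp
  · simp

theorem open_eq {ι : Type u} (U : ι → Opens X) {n : ℕ} (t : Fin (n + 1) → ι) (l : Fin (n + 1)) :
    cechOpen U (t ∘ l.succAbove) ⊓ U (t l) = cechOpen U t := by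
  apply le_antisymm
  · refine le_iInf fun j => ?_
    rcases Fin.eq_self_or_eq_succAbove l j with rfl | ⟨i, rfl⟩
    · exact inf_le_right
    · exact inf_le_left.trans (iInf_le (fun i => U ((t ∘ l.succAbove) i)) i)
  · exact le_inf (cechOpen_le_comp U t l) (iInf_le (fun i => U (t i)) l)

theorem E_transport (F : (Opens X)ᵒᵖ ⥤ AddCommGrpCat.{u}) {ι : Type u} (U : ι → Opens X)
    (E : ∀ (V : Opens X) (α : ι), F.obj (op (V ⊓ U α)) →+ F.obj (op V)) {V W : Opens X} (h : V = W)
    (α : ι) (x : F.obj (op (V ⊓ U α))) :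
    res F (le_of_eq h.symm) (E V α x) = E W α (res F (le_of_eq (by rw [h])) x) := by
  subst h
  rw [res_self, res_self]

theorem E_comp (F : (Opens X)ᵒᵖ ⥤ AddCommGrpCat.{u}) {ι : Type u} (U : ι → Opens X)
    (E : ∀ (V : Opens X) (α : ι), F.obj (op (V ⊓ U α)) →+ F.obj (op V))
    (h3 : ∀ (m : ℕ) (t : Fin (m + 1) → ι) (α β : ι) (g : F.obj (op (cechOpen U t ⊓ U α))),
      res F inf_le_left (E (cechOpen U t) α g) =
        E (cechOpen U t ⊓ U β) α (res F (inf_le_inf_right (U α) inf_le_left) g))
    {n : ℕ} (t : Fin (n + 2) → ι) (l : Fin (n + 2)) (α : ι)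
    (g : F.obj (op (cechOpen U (t ∘ l.succAbove) ⊓ U α))) :
    res F (cechOpen_le_comp U t l) (E (cechOpen U (t ∘ l.succAbove)) α g) =
      E (cechOpen U t) α (res F (inf_le_inf_right (U α) (cechOpen_le_comp U t l)) g) := by
  have hV : cechOpen U (t ∘ l.succAbove) ⊓ U (t l) = cechOpen U t := open_eq U t l
  have h3' := h3 n (t ∘ l.succAbove) α (t l) g
  have step1 : res F (cechOpen_le_comp U t l) (E (cechOpen U (t ∘ l.succAbove)) α g) =
      res F (le_of_eq hV.symm) (res F inf_le_left (E (cechOpen U (t ∘ l.succAbove)) α g)) :=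
    (res_res F inf_le_left (le_of_eq hV.symm) _).symm
  rw [step1, h3', E_transport F U E hV α, res_res]

end


open W4c6blochformula0cyc in
/-- Let `F` be a presheaf of abelian groups on a topological space `X`, `U` a family of opens of `X`
indexed by a finite type, and suppose given, for every open `V` and every index `α`, an additive map
`E V α : F(V ∩ U_α) → F(V)` such that for every nonempty tuple of indices `t`, with `V = U_{t_0} ∩ ⋯
∩ U_{t_m}`: (i) `∑_α E V α (f|_{V ∩ U_α}) = f` for all `f ∈ F(V)`, and (ii) `(E V α g)|_{V ∩ U_β} =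
E (V ∩ U_β) α (g|_{V ∩ U_β ∩ U_α})` for all indices `α, β` and all `g ∈ F(V ∩ U_α)`. Then the
operator `H` on ordered Čech cochains, `(H f)_t = ∑_α E (U_t) α (f_{(α, t)})`, satisfies `H (δ f) +
δ (H f) = f` for every Čech cochain `f` on tuples of length at least `2`, i.e. in every Čech degree
`≥ 1`. (The published statement takes a flasque sheaf on an open cover and extension maps attached
to pairs of finite intersections; this row takes any presheaf, any finite family of opens, and maps
that may depend on the index, none of which the printed argument needs. The published statement also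
asserts the identity in every degree of the Čech complex without augmentation term, and allows an
infinite index set with finitely supported sums; in Čech degree `0`, where that complex has no term
below and the identity reads `H (δ f) = f`, it fails in general — for the one-member cover of a
point and the constant presheaf `ℤ` with `E` the identity, `δ f` vanishes on the pair while `f` need
not — so it is stated here from degree `1` on, i.e. for cochains on tuples of length at least `2`
(the whole-space term on the empty tuple carried by the cochain groups used here plays no role), and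
for a finite index type.) -/
theorem result {X : Type u} [TopologicalSpace X]
    {ι : Type u} [Fintype ι] (F : (Opens X)ᵒᵖ ⥤ AddCommGrpCat.{u}) (U : ι → Opens X)
    (E : ∀ (V : Opens X) (α : ι), F.obj (op (V ⊓ U α)) →+ F.obj (op V))
    (h2 : ∀ (m : ℕ) (t : Fin (m + 1) → ι) (f : F.obj (op (cechOpen U t))),
      ∑ α, E (cechOpen U t) α (res F inf_le_left f) = f)
    (h3 : ∀ (m : ℕ) (t : Fin (m + 1) → ι) (α β : ι) (g : F.obj (op (cechOpen U t ⊓ U α))),
      res F inf_le_left (E (cechOpen U t) α g) =
        E (cechOpen U t ⊓ U β) α (res F (inf_le_inf_right (U α) inf_le_left) g))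
    (n : ℕ) (f : Cochain F U (n + 2)) :
    homotopy F U E (n + 2) (delta F U (n + 2) f) + delta F U (n + 1) (homotopy F U E (n + 1) f) = f := by
  classical
  funext t
  have hδ : ∀ s : Fin (n + 2 + 1) → ι, (delta F U (n + 2) f) s =
      ∑ j : Fin (n + 2 + 1), ((-1 : ℤ) ^ (j : ℕ)) •
        res F (cechOpen_le_comp U s j) (f (s ∘ j.succAbove)) := fun s => rfl
  have hH1 : ∀ s : Fin (n + 1) → ι, (homotopy F U E (n + 1) f) s =
      ∑ α, E (cechOpen U s) α (res F (inf_le_cechOpen_cons U s α) (f (Fin.cons α s))) :=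
    fun s => rfl
  have hh : ∀ (α : ι) (l : Fin (n + 2)),
      cechOpen U t ⊓ U α ≤ cechOpen U (Fin.cons α (t ∘ l.succAbove) : Fin (n + 1 + 1) → ι) :=
    fun α l => (inf_le_inf_right _ (cechOpen_le_comp U t l)).trans
      (inf_le_cechOpen_cons U (t ∘ l.succAbove) α)
  -- Claim A1
  have claimA1 : ∀ α, res F (inf_le_cechOpen_cons U t α) ((delta F U (n + 2) f) (Fin.cons α t)) =
      res F inf_le_left (f t) - ∑ l : Fin (n + 2), ((-1 : ℤ) ^ (l : ℕ)) •
        res F (hh α l) (f (Fin.cons α (t ∘ l.succAbove))) := by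
    intro α
    let G : Fin (n + 2 + 1) → F.obj (op (cechOpen U t ⊓ U α)) := fun j =>
      res F (inf_le_cechOpen_cons U t α) (((-1 : ℤ) ^ (j : ℕ)) •
        res F (cechOpen_le_comp U (Fin.cons α t) j) (f ((Fin.cons α t : Fin (n + 2 + 1) → ι) ∘ j.succAbove)))
    have h1 : res F (inf_le_cechOpen_cons U t α) ((delta F U (n + 2) f) (Fin.cons α t)) = ∑ j, G j := by
      rw [hδ, map_sum]
    have e0 : G 0 = res F inf_le_left (f t) := by
      show res F (inf_le_cechOpen_cons U t α) (((-1 : ℤ) ^ ((0 : Fin (n + 2 + 1)) : ℕ)) •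
        res F (cechOpen_le_comp U (Fin.cons α t) 0)
          (f ((Fin.cons α t : Fin (n + 2 + 1) → ι) ∘ (0 : Fin (n + 2 + 1)).succAbove))) = _
      rw [map_zsmul, res_res, Fin.val_zero, pow_zero, one_smul]
      exact f_congr F U f (by funext i; simp) _ _
    have es : ∀ l : Fin (n + 2), G l.succ =
        - (((-1 : ℤ) ^ (l : ℕ)) • res F (hh α l) (f (Fin.cons α (t ∘ l.succAbove)))) := by
      intro l
      show res F (inf_le_cechOpen_cons U t α) (((-1 : ℤ) ^ ((l.succ : Fin (n + 2 + 1)) : ℕ)) •
        res F (cechOpen_le_comp U (Fin.cons α t) l.succ)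
          (f ((Fin.cons α t : Fin (n + 2 + 1) → ι) ∘ (l.succ : Fin (n + 2 + 1)).succAbove))) = _
      rw [map_zsmul, res_res, Fin.val_succ, pow_succ, mul_neg_one, neg_smul]
      exact congrArg (fun y => -(((-1 : ℤ) ^ (l : ℕ)) • y))
        (f_congr F U f (cons_comp α t l) _ _)
    rw [h1, Fin.sum_univ_succ, e0, Finset.sum_congr rfl (fun l _ => es l),
      Finset.sum_neg_distrib, sub_eq_add_neg]
  -- Claim B
  have claimB : ∀ l : Fin (n + 2),
      res F (cechOpen_le_comp U t l) ((homotopy F U E (n + 1) f) (t ∘ l.succAbove)) =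
      ∑ α, E (cechOpen U t) α (res F (hh α l) (f (Fin.cons α (t ∘ l.succAbove)))) := by
    intro l
    rw [hH1, map_sum]
    refine Finset.sum_congr rfl (fun α _ => ?_)
    rw [E_comp F U E h3 t l α, res_res]
  calc (homotopy F U E (n + 2) (delta F U (n + 2) f) +
        delta F U (n + 1) (homotopy F U E (n + 1) f)) t
      = (∑ α, E (cechOpen U t) α (res F (inf_le_cechOpen_cons U t α)
            ((delta F U (n + 2) f) (Fin.cons α t)))) +
          ∑ l : Fin (n + 2), ((-1 : ℤ) ^ (l : ℕ)) • res F (cechOpen_le_comp U t l)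
            ((homotopy F U E (n + 1) f) (t ∘ l.succAbove)) := rfl
    _ = (∑ α, (E (cechOpen U t) α (res F inf_le_left (f t)) -
            ∑ l : Fin (n + 2), ((-1 : ℤ) ^ (l : ℕ)) •
              E (cechOpen U t) α (res F (hh α l) (f (Fin.cons α (t ∘ l.succAbove)))))) +
          ∑ l : Fin (n + 2), ((-1 : ℤ) ^ (l : ℕ)) •
            ∑ α, E (cechOpen U t) α (res F (hh α l) (f (Fin.cons α (t ∘ l.succAbove)))) := by
        congr 1
        · refine Finset.sum_congr rfl (fun α _ => ?_)
          rw [claimA1 α, map_sub, map_sum]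
          congr 1
          refine Finset.sum_congr rfl (fun l _ => ?_)
          rw [map_zsmul]
        · refine Finset.sum_congr rfl (fun l _ => ?_)
          rw [claimB l]
    _ = f t := by
        rw [Finset.sum_sub_distrib, h2 (n + 1) t (f t)]
        have hc : ∑ l : Fin (n + 2), ((-1 : ℤ) ^ (l : ℕ)) •
            ∑ α, E (cechOpen U t) α (res F (hh α l) (f (Fin.cons α (t ∘ l.succAbove)))) =
            ∑ α, ∑ l : Fin (n + 2), ((-1 : ℤ) ^ (l : ℕ)) •
              E (cechOpen U t) α (res F (hh α l) (f (Fin.cons α (t ∘ l.succAbove)))) := by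
          simp only [Finset.smul_sum]
          exact Finset.sum_comm
        rw [hc, sub_add_cancel]

end Groth.Agent.S19193
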