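import Groth.Statements.S19196
import Mathlib
-- import your own Groth.Agent.* helpers here

set_option autoImplicit false
universe u
open RelS1

namespace Groth.Agent.S19196

/-- Let R be a Noetherian commutative ring and N a finitely generated R-module which fails Serre's
condition (S_1), in the sense that some associated prime of N is not a minimal prime of the
annihilator of N. Then there exist an element a of R lying in no minimal prime of the annihilator of
N and a nonzero element b of N with a • b = 0; thus the basic open set D(a) meets the support of N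
densely while restriction to it is not injective on N. -/
theorem result (R N : Type u) [CommRing R] [IsNoetherianRing R]
    [AddCommGroup N] [Module R N] [Module.Finite R N]
    (h : ¬ associatedPrimes R N ⊆ (Module.annihilator R N).minimalPrimes) :
    ∃ (a : R) (b : N), (∀ P ∈ (Module.annihilator R N).minimalPrimes, a ∉ P) ∧ b ≠ 0 ∧ a • b = 0 := by
  classical
  rw [Set.not_subset] at h
  obtain ⟨P, hPass, hPmin⟩ := h
  obtain ⟨hPprime, b, hb⟩ := (isAssociatedPrime_iff (I := P) (M := N)).1 hPass
  have hfin : (Module.annihilator R N).minimalPrimes.Finite :=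
    Ideal.finite_minimalPrimes_of_isNoetherianRing R _
  have hmemP : ∀ a : R, a ∈ P ↔ a • b = 0 := by
    intro a; rw [hb, Submodule.mem_colon_singleton, Submodule.mem_bot]
  have hAnnP : Module.annihilator R N ≤ P := by
    intro a ha
    rw [hmemP]
    exact Module.mem_annihilator.1 ha b
  have hnot : ¬ ((P : Set R) ⊆ ⋃ Q ∈ (hfin.toFinset : Set (Ideal R)), ((fun Q : Ideal R => Q) Q : Set R)) := by
    intro hsub
    obtain ⟨Q, hQs, hPQ⟩ := (Ideal.subset_union_prime (s := hfin.toFinset) (f := fun Q : Ideal R => Q) ⊤ ⊤
      (fun Q hQ _ _ => (hfin.mem_toFinset.1 hQ).1.1)).1 hsub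
    have hQ : Q ∈ (Module.annihilator R N).minimalPrimes := hfin.mem_toFinset.1 hQs
    have hQP : Q ≤ P := hQ.2 ⟨hPprime, hAnnP⟩ hPQ
    have : P = Q := le_antisymm hPQ hQP
    exact hPmin (this ▸ hQ)
  obtain ⟨a, haP, hau⟩ := Set.not_subset.1 hnot
  refine ⟨a, b, ?_, ?_, (hmemP a).1 haP⟩
  · intro Q hQ haQ
    apply hau
    simp only [Set.mem_iUnion]
    exact ⟨Q, by simpa using hQ, haQ⟩
  · rintro rfl
    apply hPprime.ne_top
    rw [Ideal.eq_top_iff_one, hmemP, smul_zero]

end Groth.Agent.S19196
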