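import Mathlib
import Groth.Statements.S19202
import Groth.Agent.S18266
-- import your own Groth.Agent.* helpers here

set_option autoImplicit false
universe u
open CategoryTheory AlgebraicGeometry
open FlatMor

namespace Groth.Agent.S19202


open CategoryTheory.Limits
open Groth.Agent.S18266 (eq_zero_of_mul_eq_zero_of_basicOpen)

theorem flat_of_dedekind {V B : Type u} [CommRing V] [IsDedekindDomain V]
    [CommRing B] (β : V →+* B) (h : ∀ v : V, v ≠ 0 → ∀ b : B, β v * b = 0 → b = 0) : β.Flat := by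
  algebraize [β]
  have : Module.Flat V B := by
    rw [IsDedekindDomain.flat_iff_torsion_eq_bot, eq_bot_iff]
    intro a ha
    rw [Submodule.mem_torsion_iff] at ha
    obtain ⟨⟨r, hr⟩, h0⟩ := ha
    have h' : β r * a = 0 := by
      have : r • a = 0 := h0
      rwa [Algebra.smul_def] at this
    have hr0 : r ≠ 0 := nonZeroDivisors.ne_zero hr
    rw [h r hr0 a h']
    exact Submodule.zero_mem _
  exact RingHom.flat_algebraMap_iff.mpr this

/-- The closure of the generic fibre is flat, and contains (scheme-theoretically) every flat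
scheme mapping to `X`. -/
theorem flat_closure (A : Type u) [CommRing A] [IsDedekindDomain A] {X : Scheme.{u}}
    (f : X ⟶ Spec (CommRingCat.of A))
    (η : ↥(Spec (CommRingCat.of A))) (hη : η.asIdeal = ⊥) :
    Flat ((f.fiberι η).imageι ≫ f) ∧
      ∀ (Z : Scheme.{u}) (i : Z ⟶ X), Flat (i ≫ f) → (f.fiberι η).ker ≤ i.ker := by
  obtain ⟨e, he⟩ : ∃ e : Spec ((Spec (CommRingCat.of A)).residueField η) ⟶ Spec (CommRingCat.of A),
      e = (Spec (CommRingCat.of A)).fromSpecResidueField η := ⟨_, rfl⟩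
  haveI hqce : QuasiCompact e := by rw [he]; infer_instance
  obtain ⟨ι, hι⟩ : ∃ ι : f.fiber η ⟶ X, ι = f.fiberι η := ⟨_, rfl⟩
  rw [← hι]
  haveI hqc : QuasiCompact ι := by
    rw [hι]
    show QuasiCompact (pullback.fst f ((Spec (CommRingCat.of A)).fromSpecResidueField η))
    rw [← he]
    infer_instance
  have hιpt : ∀ pt, f.base (ι.base pt) = η := by
    intro pt
    have h1 : ι.base pt ∈ Set.range (f.fiberι η) := ⟨pt, by rw [hι]⟩
    rw [Scheme.Hom.range_fiberι] at h1
    exact h1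
  constructor
  · rw [IsZariskiLocalAtSource.iff_of_openCover (P := @Flat) ι.ker.subschemeCover.openCover]
    change ∀ U : X.affineOpens, Flat (ι.ker.subschemeCover.f U ≫ ι.ker.subschemeι ≫ f)
    intro U
    obtain ⟨φ, hφ⟩ := Spec.map_surjective (U.2.fromSpec ≫ f)
    have e1 : ι.ker.subschemeCover.f U ≫ ι.ker.subschemeι ≫ f =
        Spec.map (φ ≫ CommRingCat.ofHom (Ideal.Quotient.mk (ι.ker.ideal U))) := by
      rw [Spec.map_comp, hφ, ← Category.assoc, ← Category.assoc,
        Scheme.IdealSheafData.subschemeCover_map_subschemeι,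
        Scheme.IdealSheafData.glueDataObjι_ι]
      rfl
    suffices hsuff : Flat (Spec.map (φ ≫ CommRingCat.ofHom (Ideal.Quotient.mk (ι.ker.ideal U)))) by
      rw [e1]; exact hsuff
    rw [HasRingHomProperty.Spec_iff (P := @Flat)]
    apply flat_of_dedekind
    intro v hv b hb
    obtain ⟨b₀, rfl⟩ := Ideal.Quotient.mk_surjective b
    have hb' : φ.hom v * b₀ ∈ ι.ker.ideal U := by
      rw [← Ideal.Quotient.eq_zero_iff_mem, map_mul]
      exact hb
    rw [Scheme.Hom.ker_apply, RingHom.mem_ker, map_mul] at hb'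
    rw [Ideal.Quotient.eq_zero_iff_mem, Scheme.Hom.ker_apply, RingHom.mem_ker]
    apply eq_zero_of_mul_eq_zero_of_basicOpen _ _ hb'
    intro pt hptU
    obtain ⟨x', hx'def⟩ : ∃ x' : X, x' = ι.base pt := ⟨_, rfl⟩
    have hx'U : x' ∈ U.1 := by rw [hx'def]; exact hptU
    have hx' : f.base x' = η := by rw [hx'def]; exact hιpt pt
    have hp' : U.2.fromSpec.base (U.2.primeIdealOf ⟨x', hx'U⟩) = x' :=
      U.2.fromSpec_primeIdealOf ⟨x', hx'U⟩
    have hφv : φ.hom v ∉ (U.2.primeIdealOf ⟨x', hx'U⟩).asIdeal := by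
      intro hmem
      have h1 : v ∈ ((Spec.map φ).base (U.2.primeIdealOf ⟨x', hx'U⟩)).asIdeal := hmem
      rw [hφ, Scheme.Hom.comp_apply, hp', hx', hη] at h1
      exact hv ((Ideal.mem_bot).mp h1)
    have h2 : U.2.primeIdealOf ⟨x', hx'U⟩ ∈ U.2.fromSpec ⁻¹ᵁ X.basicOpen (φ.hom v) := by
      rw [U.2.fromSpec_preimage_basicOpen]
      exact hφv
    have h3 : x' ∈ X.basicOpen (φ.hom v) := by
      have : U.2.fromSpec.base (U.2.primeIdealOf ⟨x', hx'U⟩) ∈ X.basicOpen (φ.hom v) := h2
      rwa [hp'] at this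
    have h4 : pt ∈ ι ⁻¹ᵁ X.basicOpen (φ.hom v) := by
      show ι.base pt ∈ X.basicOpen (φ.hom v)
      rw [← hx'def]; exact h3
    rw [Scheme.preimage_basicOpen] at h4
    exact h4
  · intro Z i hfl
    haveI := hfl
    haveI hdom : IsDominant e := by
      constructor
      rw [he, DenseRange, Scheme.range_fromSpecResidueField, dense_iff_closure_eq]
      ext y
      simp only [Set.mem_univ, iff_true]
      rw [← specializes_iff_mem_closure]
      refine (PrimeSpectrum.le_iff_specializes (R := A) η y).mp ?_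
      show η.asIdeal ≤ PrimeSpectrum.asIdeal (R := A) y
      rw [hη]; exact bot_le
    haveI : IsSchemeTheoreticallyDominant e := IsSchemeTheoreticallyDominant.of_isDominant e
    haveI : IsSchemeTheoreticallyDominant (pullback.fst (i ≫ f) e) := inferInstance
    obtain ⟨θ, hθ⟩ : ∃ θ : pullback (i ≫ f) e ⟶ f.fiber η, θ ≫ ι = pullback.fst (i ≫ f) e ≫ i := by
      refine ⟨pullback.lift (pullback.fst (i ≫ f) e ≫ i) (pullback.snd (i ≫ f) e)
        (by rw [Category.assoc, pullback.condition, he]), ?_⟩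
      rw [hι]
      exact pullback.lift_fst _ _ _
    calc ι.ker ≤ (θ ≫ ι).ker := Scheme.Hom.le_ker_comp θ ι
      _ = (pullback.fst (i ≫ f) e ≫ i).ker := by rw [hθ]
      _ = i.ker := by
        rw [Scheme.Hom.ker_comp, Scheme.Hom.ker_eq_bot, Scheme.IdealSheafData.map_bot]

/-- Let R be a Dedekind domain, X and Y schemes over Spec R with X flat over Spec R, and f : X → Y a
morphism over Spec R. Then the scheme-theoretic image of f, i.e. the closed subscheme of Y cut out
by the kernel ideal sheaf of f, is flat over Spec R. (The published statement takes the base to be a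
non-singular curve and f proper; this row takes the spectrum of any Dedekind domain and any morphism
f over it.) -/
theorem result (R : Type u) [CommRing R] [IsDedekindDomain R]
    {X Y : Scheme.{u}} (p : X ⟶ Spec (CommRingCat.of R)) (q : Y ⟶ Spec (CommRingCat.of R))
    (f : X ⟶ Y) (w : f ≫ q = p) [Flat p] : Flat (f.imageι ≫ q) := by
  obtain ⟨η, hη⟩ : ∃ η : ↥(Spec (CommRingCat.of R)), η.asIdeal = ⊥ :=
    ⟨⟨⊥, Ideal.isPrime_bot⟩, rfl⟩
  obtain ⟨pZ, hpZ⟩ : ∃ pZ, pZ = f.imageι ≫ q := ⟨_, rfl⟩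
  rw [← hpZ]
  obtain ⟨hfl, hmax⟩ := flat_closure R pZ η hη
  have htp : f.toImage ≫ pZ = p := by rw [hpZ, ← Category.assoc, f.toImage_imageι, w]
  have h1 : (pZ.fiberι η).ker ≤ f.toImage.ker := by
    apply hmax
    rw [htp]; infer_instance
  obtain ⟨c', hc'⟩ : ∃ c', c' = (pZ.fiberι η).imageι := ⟨_, rfl⟩
  rw [← hc'] at hfl
  haveI : IsClosedImmersion c' := by rw [hc']; infer_instance
  have hc'ker : c'.ker = (pZ.fiberι η).ker := by
    rw [hc']; exact Scheme.IdealSheafData.ker_subschemeι _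
  obtain ⟨l, hl⟩ : ∃ l, l ≫ c' = f.toImage :=
    ⟨IsClosedImmersion.lift c' f.toImage (hc'ker ▸ h1), IsClosedImmersion.lift_fac _ _ _⟩
  have hιker : f.imageι.ker = f.ker := Scheme.IdealSheafData.ker_subschemeι _
  have hfac : l ≫ c' ≫ f.imageι = f := by rw [← Category.assoc, hl, f.toImage_imageι]
  have h2 : (c' ≫ f.imageι).ker ≤ f.imageι.ker := by
    rw [hιker]
    calc (c' ≫ f.imageι).ker ≤ (l ≫ c' ≫ f.imageι).ker := Scheme.Hom.le_ker_comp _ _
      _ = f.ker := by rw [hfac]
  obtain ⟨m, hm⟩ : ∃ m, m ≫ c' ≫ f.imageι = f.imageι :=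
    ⟨IsClosedImmersion.lift (c' ≫ f.imageι) f.imageι h2, IsClosedImmersion.lift_fac _ _ _⟩
  have hmc : m ≫ c' = 𝟙 _ := by
    rw [← cancel_mono f.imageι, Category.assoc, hm, Category.id_comp]
  have hcm : c' ≫ m = 𝟙 _ := by
    rw [← cancel_mono (c' ≫ f.imageι), Category.assoc, hm, Category.id_comp]
  haveI : IsIso m := ⟨c', hmc, hcm⟩
  have hfin : pZ = m ≫ (c' ≫ pZ) := by rw [← Category.assoc, hmc, Category.id_comp]
  rw [hfin]
  haveI := hfl
  infer_instance

end Groth.Agent.S19202
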