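import Groth.Statements.S19209
import Mathlib

set_option autoImplicit false
universe u
open Curves

namespace Groth.Agent.S19209

/-- Let n ≥ 1 and let p_0 ≥ p_1 ≥ … ≥ p_n = 0 be real numbers. Then some chain 0 = s_0 < s_1 < … < s_l =
n satisfies Σ_{k<l} (p_{s_k} − p_{s_{k+1}})·(s_k + s_{k+1}) ≤ (2n/(n+1))·(p_0 + p_1 + … + p_n).
Equivalently the minimum of these sums over all chains, which is twice the area under the Newton
polygon (lower convex hull) of the points (k, p_k), is at most 2n/(n+1) times the sum of the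
weights. -/
theorem result (n : ℕ) (hn : 1 ≤ n) (p : ℕ → ℝ)
    (hp : ∀ i j : ℕ, i ≤ j → j ≤ n → p j ≤ p i) (hpn : p n = 0) :
    ∃ (l : ℕ) (s : ℕ → ℕ), s 0 = 0 ∧ s l = n ∧ (∀ k : ℕ, k < l → s k < s (k + 1)) ∧
      (∑ k ∈ Finset.range l, (p (s k) - p (s (k + 1))) * ((s k : ℝ) + (s (k + 1) : ℝ))) ≤
        2 * (n : ℝ) / ((n : ℝ) + 1) * ∑ i ∈ Finset.range (n + 1), p i := by
  have hn0 : (0 : ℝ) < (n : ℝ) := by exact_mod_cast hn
  have hn1 : (0 : ℝ) < (n : ℝ) + 1 := by linarith
  set Sp : ℝ := ∑ i ∈ Finset.range (n + 1), p i with hSp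
  -- Abel summation for the full chain
  have hT : ∀ k : ℕ, (∑ j ∈ Finset.range k, (p j - p (j + 1)) * ((j : ℝ) + ((j + 1 : ℕ) : ℝ))) =
      2 * (∑ j ∈ Finset.range k, p j) - p 0 - (2 * (k : ℝ) - 1) * p k := by
    intro k
    induction k with
    | zero => simp
    | succ k ih =>
      rw [Finset.sum_range_succ, ih, Finset.sum_range_succ]
      push_cast
      ring
  rcases le_total (2 * Sp / ((n : ℝ) + 1)) (p 0) with hcase | hcase
  · -- full chain
    refine ⟨n, fun k => k, rfl, rfl, fun k _ => Nat.lt_succ_self k, ?_⟩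
    have h1 := hT n
    rw [hpn, mul_zero, sub_zero] at h1
    have h2 : Sp = (∑ j ∈ Finset.range n, p j) := by
      rw [hSp, Finset.sum_range_succ, hpn, add_zero]
    rw [h1, ← h2]
    have h3 : 2 * Sp ≤ p 0 * ((n : ℝ) + 1) := by
      rwa [div_le_iff₀ hn1] at hcase
    rw [div_mul_eq_mul_div, le_div_iff₀ hn1]
    nlinarith
  · -- trivial chain
    refine ⟨1, fun k => if k = 0 then 0 else n, by simp, by simp, ?_, ?_⟩
    · intro k hk
      have hk0 : k = 0 := by omega
      subst hk0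
      simp
      omega
    · simp only [Finset.range_one, Finset.sum_singleton, if_true, zero_add, one_ne_zero, if_false,
        Nat.cast_zero, hpn, sub_zero]
      have h3 : p 0 * ((n : ℝ) + 1) ≤ 2 * Sp := by
        rwa [le_div_iff₀ hn1] at hcase
      rw [div_mul_eq_mul_div, le_div_iff₀ hn1]
      nlinarith

end Groth.Agent.S19209
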