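import Groth.Statements.S19210
import Mathlib

set_option autoImplicit false
universe u
open LocAlg

namespace Groth.Agent.S19210

open Finset

lemma pow_succ_lower (m : ℕ) (x : ℝ) (hx : 0 ≤ x) :
    x ^ (m + 1) + ((m : ℝ) + 1) * x ^ m ≤ (x + 1) ^ (m + 1) := by
  induction m with
  | zero => simp
  | succ m ih =>
    have h1 : (x + 1) ^ (m + 1 + 1) = (x + 1) * (x + 1) ^ (m + 1) := by ring
    have h2 : (x + 1) * (x ^ (m + 1) + ((m : ℝ) + 1) * x ^ m) ≤ (x + 1) * (x + 1) ^ (m + 1) :=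
      mul_le_mul_of_nonneg_left ih (by linarith)
    have h3 : 0 ≤ x ^ m := pow_nonneg hx m
    have h4 : 0 ≤ ((m : ℝ) + 1) * x ^ m := by positivity
    have e1 : x ^ (m + 1 + 1) = x * x * x ^ m := by ring
    have e2 : x ^ (m + 1) = x * x ^ m := by ring
    rw [h1, e1]
    rw [e2] at h2 ⊢
    push_cast
    generalize x ^ m = A at *
    generalize (x + 1) ^ (m + 1) = Y at *
    nlinarith [h2, h3, h4]

lemma pow_succ_upper (m : ℕ) (x : ℝ) (hx : 0 ≤ x) :
    (x + 1) ^ (m + 1) ≤ x ^ (m + 1) + ((m : ℝ) + 1) * (x + 1) ^ m := by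
  induction m with
  | zero => simp
  | succ m ih =>
    have h1 : (x + 1) ^ (m + 1 + 1) = (x + 1) * (x + 1) ^ (m + 1) := by ring
    have h2 : (x + 1) * (x + 1) ^ (m + 1) ≤ (x + 1) * (x ^ (m + 1) + ((m : ℝ) + 1) * (x + 1) ^ m) :=
      mul_le_mul_of_nonneg_left ih (by linarith)
    have h3 : x ^ (m + 1) ≤ (x + 1) ^ (m + 1) := pow_le_pow_left₀ hx (by linarith) _
    have e1 : (x + 1) ^ (m + 1) = (x + 1) * (x + 1) ^ m := by ring
    have e2 : x ^ (m + 1 + 1) = x * x ^ (m + 1) := by ring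
    rw [h1, e2]
    push_cast
    generalize (x + 1) ^ (m + 1) = Y at *
    generalize x ^ (m + 1) = Z at *
    generalize (x + 1) ^ m = W at *
    nlinarith [h2, h3]

lemma powsum_bounds (m n : ℕ) :
    (∑ i ∈ range n, (i : ℝ) ^ m) ≤ (n : ℝ) ^ (m + 1) / ((m : ℝ) + 1) ∧
      (n : ℝ) ^ (m + 1) / ((m : ℝ) + 1) ≤ (∑ i ∈ range n, (i : ℝ) ^ m) + (n : ℝ) ^ m := by
  have hm : (0 : ℝ) < (m : ℝ) + 1 := by positivity
  induction n with
  | zero =>
    constructor
    · simp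
    · simp
  | succ n ih =>
    obtain ⟨ih1, ih2⟩ := ih
    have hn : (0 : ℝ) ≤ (n : ℝ) := Nat.cast_nonneg n
    have hl := pow_succ_lower m (n : ℝ) hn
    have hu := pow_succ_upper m (n : ℝ) hn
    rw [sum_range_succ]
    push_cast
    constructor
    · rw [le_div_iff₀ hm]
      rw [le_div_iff₀ hm] at ih1
      nlinarith [ih1, hl]
    · rw [div_le_iff₀ hm]
      rw [div_le_iff₀ hm] at ih2
      nlinarith [ih2, hu]

lemma powsum_abs (m n : ℕ) :
    |(∑ i ∈ range n, (i : ℝ) ^ m) - (n : ℝ) ^ (m + 1) / ((m : ℝ) + 1)| ≤ (n : ℝ) ^ m := by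
  obtain ⟨h1, h2⟩ := powsum_bounds m n
  rw [abs_le]
  constructor <;> linarith

lemma beta_id (a : ℕ) : ∀ b : ℕ,
    ∑ m ∈ range (a + 1), (a.choose m : ℝ) * (-1) ^ m / ((m : ℝ) + b + 1) =
      (a.factorial : ℝ) * (b.factorial : ℝ) / ((a + b + 1).factorial : ℝ) := by
  induction a with
  | zero =>
    intro b
    simp only [zero_add, range_one, sum_singleton, Nat.choose_self, Nat.cast_one, pow_zero, mul_one,
      Nat.factorial_zero, Nat.cast_zero, one_mul]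
    rw [Nat.factorial_succ]
    push_cast
    have h1 : ((b.factorial : ℕ) : ℝ) ≠ 0 := by positivity
    have h2 : ((b : ℝ) + 1) ≠ 0 := by positivity
    field_simp
  | succ a ih =>
    intro b
    rw [sum_range_succ']
    have h1 : ∀ m ∈ range (a + 1), ((a + 1).choose (m + 1) : ℝ) * (-1) ^ (m + 1) / (((m + 1 : ℕ) : ℝ) + b + 1) =
        (a.choose (m + 1) : ℝ) * (-1) ^ (m + 1) / (((m + 1 : ℕ) : ℝ) + b + 1)
          - (a.choose m : ℝ) * (-1) ^ m / ((m : ℝ) + (b + 1 : ℕ) + 1) := by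
      intro m _
      rw [Nat.choose_succ_succ]
      push_cast
      ring
    rw [sum_congr rfl h1, sum_sub_distrib, ih (b + 1)]
    have h2 : ∑ m ∈ range (a + 1), (a.choose (m + 1) : ℝ) * (-1) ^ (m + 1) / (((m + 1 : ℕ) : ℝ) + b + 1)
        + ((a + 1).choose 0 : ℝ) * (-1) ^ 0 / (((0 : ℕ) : ℝ) + b + 1) =
        ∑ m ∈ range (a + 1), (a.choose m : ℝ) * (-1) ^ m / ((m : ℝ) + b + 1) := by
      have h3 := sum_range_succ' (fun m => (a.choose m : ℝ) * (-1) ^ m / ((m : ℝ) + b + 1)) (a + 1)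
      rw [sum_range_succ] at h3
      simp only [Nat.choose_succ_self, Nat.cast_zero, zero_mul, zero_div, add_zero] at h3
      rw [h3]
      simp
    have h4 : ∑ m ∈ range (a + 1), (a.choose (m + 1) : ℝ) * (-1) ^ (m + 1) / (((m + 1 : ℕ) : ℝ) + b + 1)
        - (a.factorial : ℝ) * ((b + 1).factorial : ℝ) / ((a + (b + 1) + 1).factorial : ℝ)
        + ((a + 1).choose 0 : ℝ) * (-1) ^ 0 / (((0 : ℕ) : ℝ) + b + 1) =
        (a.factorial : ℝ) * (b.factorial : ℝ) / ((a + b + 1).factorial : ℝ)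
        - (a.factorial : ℝ) * ((b + 1).factorial : ℝ) / ((a + (b + 1) + 1).factorial : ℝ) := by
      rw [← ih b, ← h2]
      ring
    rw [h4]
    have e1 : a + (b + 1) + 1 = (a + b + 1) + 1 := by ring
    have e2 : a + 1 + b + 1 = (a + b + 1) + 1 := by ring
    rw [e1, e2, Nat.factorial_succ (a + b + 1), Nat.factorial_succ a, Nat.factorial_succ b]
    push_cast
    have h5 : ((a + b + 1).factorial : ℝ) ≠ 0 := by positivity
    have h6 : ((a : ℝ) + b + 1 + 1) ≠ 0 := by positivity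
    field_simp
    ring

/-- For natural numbers j ≤ r, the sums Σ_{i=0}^{n−1} (n − i)^{r−j} i^j equal n^{r+1}·(r − j)!·j!/(r +
1)! up to O(n^r): there is a real constant C with |Σ_{i<n} (n − i)^{r−j} i^j − ((r − j)!·j!/(r +
1)!)·n^{r+1}| ≤ C·n^r for all n ≥ 1. -/
theorem result (r j : ℕ) (hj : j ≤ r) :
    ∃ C : ℝ, ∀ n : ℕ, 1 ≤ n →
      |(∑ i ∈ Finset.range n, ((n : ℝ) - (i : ℝ)) ^ (r - j) * (i : ℝ) ^ j) -
          ((r - j).factorial : ℝ) * (j.factorial : ℝ) / ((r + 1).factorial : ℝ) * (n : ℝ) ^ (r + 1)| ≤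
        C * (n : ℝ) ^ r := by
  obtain ⟨a, rfl⟩ := Nat.exists_eq_add_of_le hj
  have haj : j + a - j = a := by omega
  rw [haj]
  refine ⟨2 ^ a, fun n hn => ?_⟩
  -- binomial expansion
  have hexp : ∀ i : ℕ, ((n : ℝ) - (i : ℝ)) ^ a * (i : ℝ) ^ j =
      ∑ m ∈ range (a + 1), (a.choose m : ℝ) * (-1) ^ m * (n : ℝ) ^ (a - m) * (i : ℝ) ^ (m + j) := by
    intro i
    have h1 : ((n : ℝ) - (i : ℝ)) = (-(i : ℝ)) + (n : ℝ) := by ring
    rw [h1, add_pow, sum_mul]
    refine sum_congr rfl fun m _ => ?_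
    rw [neg_pow, pow_add]
    ring
  have hsum : (∑ i ∈ range n, ((n : ℝ) - (i : ℝ)) ^ a * (i : ℝ) ^ j) =
      ∑ m ∈ range (a + 1), (a.choose m : ℝ) * (-1) ^ m * (n : ℝ) ^ (a - m) *
        ∑ i ∈ range n, (i : ℝ) ^ (m + j) := by
    rw [sum_congr rfl (fun i _ => hexp i), sum_comm]
    refine sum_congr rfl fun m _ => ?_
    rw [mul_sum]
  have hmain : (a.factorial : ℝ) * (j.factorial : ℝ) / ((j + a + 1).factorial : ℝ) * (n : ℝ) ^ (j + a + 1) =
      ∑ m ∈ range (a + 1), (a.choose m : ℝ) * (-1) ^ m * (n : ℝ) ^ (a - m) *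
        ((n : ℝ) ^ (m + j + 1) / (((m + j : ℕ) : ℝ) + 1)) := by
    have e : j + a + 1 = a + j + 1 := by ring
    rw [e, ← beta_id a j, sum_mul]
    refine sum_congr rfl fun m hm => ?_
    have hm' : m ≤ a := Nat.lt_succ_iff.mp (mem_range.mp hm)
    have h2 : (n : ℝ) ^ (a + j + 1) = (n : ℝ) ^ (a - m) * (n : ℝ) ^ (m + j + 1) := by
      rw [← pow_add]
      congr 1
      omega
    rw [h2]
    push_cast
    ring
  rw [hsum, hmain, ← sum_sub_distrib]
  calc |∑ m ∈ range (a + 1), ((a.choose m : ℝ) * (-1) ^ m * (n : ℝ) ^ (a - m) *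
          ∑ i ∈ range n, (i : ℝ) ^ (m + j) -
        (a.choose m : ℝ) * (-1) ^ m * (n : ℝ) ^ (a - m) *
          ((n : ℝ) ^ (m + j + 1) / (((m + j : ℕ) : ℝ) + 1)))|
      ≤ ∑ m ∈ range (a + 1), |(a.choose m : ℝ) * (-1) ^ m * (n : ℝ) ^ (a - m) *
          ∑ i ∈ range n, (i : ℝ) ^ (m + j) -
        (a.choose m : ℝ) * (-1) ^ m * (n : ℝ) ^ (a - m) *
          ((n : ℝ) ^ (m + j + 1) / (((m + j : ℕ) : ℝ) + 1))| := abs_sum_le_sum_abs _ _
    _ ≤ ∑ m ∈ range (a + 1), (a.choose m : ℝ) * (n : ℝ) ^ (j + a) := by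
        refine sum_le_sum fun m hm => ?_
        have hm' : m ≤ a := Nat.lt_succ_iff.mp (mem_range.mp hm)
        rw [← mul_sub, abs_mul, abs_mul, abs_mul, abs_pow, abs_neg, abs_one, one_pow, mul_one,
          abs_of_nonneg (by positivity : (0 : ℝ) ≤ (a.choose m : ℝ)),
          abs_of_nonneg (by positivity : (0 : ℝ) ≤ (n : ℝ) ^ (a - m))]
        have h3 := powsum_abs (m + j) n
        have h4 : (n : ℝ) ^ (j + a) = (n : ℝ) ^ (a - m) * (n : ℝ) ^ (m + j) := by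
          rw [← pow_add]
          congr 1
          omega
        rw [h4, mul_assoc]
        exact mul_le_mul_of_nonneg_left (mul_le_mul_of_nonneg_left h3 (by positivity)) (by positivity)
    _ = 2 ^ a * (n : ℝ) ^ (j + a) := by
        rw [← sum_mul]
        congr 1
        have := Nat.sum_range_choose a
        exact_mod_cast this

end Groth.Agent.S19210
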