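import Groth.Statements.S19212
import Mathlib
import Groth.Agent.Lib.Helper8.DiagSq
import Groth.Agent.Lib.Helper8.DiagSym3

set_option autoImplicit false
universe u v
open TensorProduct
open DiagIdeal

namespace Groth.Agent.S19212

/-- Let k be an algebraically closed field of characteristic zero and A a smooth k-algebra which is a
domain. Let the symmetric group on three letters permute the factors of A ⊗ A ⊗ A (it is generated
by the swap of the first two factors and the swap of the last two), let r : A ⊗ (A ⊗ A) → A ⊗ A be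
the k-linear map a ⊗ b ⊗ c ↦ ab ⊗ c, and let D : A ⊗ A → Ω_{A/k} be the k-linear map a ⊗ b ↦ 2a·db −
b·da. Then an element y of A ⊗ A satisfies D y = 0 if and only if y = r x for some x fixed by both
swaps, and D is surjective. (This is exactness at the last two places of the four-term right
resolution of the invariants of the ideal of the big diagonal on the symmetric cube of X = Spec A,
namely invariant functions on X³, then functions on X × X through restriction to a diagonal, then
one-forms on X; exactness at the first two places is immediate. The published statement is the sheaf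
version on the symmetric cube of a smooth complex variety of any dimension; an algebraically closed
field of characteristic zero is used here.) -/
theorem result (k : Type u) [Field k] [IsAlgClosed k] [CharZero k]
    (A : Type v) [CommRing A] [Algebra k A] [Algebra.Smooth k A] [IsDomain A]
    (r : A ⊗[k] (A ⊗[k] A) →ₗ[k] A ⊗[k] A)
    (hr : ∀ a b c : A, r (a ⊗ₜ[k] (b ⊗ₜ[k] c)) = (a * b) ⊗ₜ[k] c)
    (D : A ⊗[k] A →ₗ[k] Ω[A⁄k])
    (hD : ∀ a b : A, D (a ⊗ₜ[k] b) = (2 : A) • (a • KaehlerDifferential.D k A b) - b • KaehlerDifferential.D k A a) :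
    (∀ y : A ⊗[k] A, D y = 0 ↔ ∃ x : A ⊗[k] (A ⊗[k] A),
        TensorProduct.leftComm k A A A x = x ∧
        LinearMap.lTensor A (TensorProduct.comm k A A).toLinearMap x = x ∧ r x = y) ∧
    Function.Surjective D := by
  classical
  have h3k : (3 : k) ≠ 0 := by norm_num
  have h6k : (6 : k) ≠ 0 := by norm_num
  have h2k : (2 : k) ≠ 0 := by norm_num
  -- a formula for `D`
  have hDf : ∀ y : A ⊗[k] A, D y = (3 : k) • (KaehlerDifferential.D k A).tensorProductTo y -
      KaehlerDifferential.D k A (Algebra.TensorProduct.lmul' k y) := by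
    intro y
    induction y using TensorProduct.induction_on with
    | zero => simp
    | tmul p q =>
      rw [hD, Derivation.tensorProductTo_tmul, Algebra.TensorProduct.lmul'_apply_tmul,
        Derivation.leibniz]
      rw [show (3 : k) • p • (KaehlerDifferential.D k A) q =
        (3 : A) • p • (KaehlerDifferential.D k A) q by
          rw [← algebraMap_smul A (3 : k), map_ofNat]]
      module
    | add x y hx hy =>
      simp only [map_add, hx, hy, smul_add]
      abel
  -- `D` kills the image of the symmetric tensors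
  have hDrS : ∀ x, D (r (Groth.Agent.Helper8.DiagSym3.Sym k A x)) = 0 := by
    have h : D ∘ₗ r ∘ₗ Groth.Agent.Helper8.DiagSym3.Sym k A = 0 := by
      refine Groth.Agent.Helper8.DiagSym3.ext3 k A _ _ fun a b c => ?_
      simp only [LinearMap.comp_apply, LinearMap.zero_apply,
        Groth.Agent.Helper8.DiagSym3.r_Sym_tmul k A r hr, map_smul, map_add, hD,
        Derivation.leibniz]
      refine smul_eq_zero_of_right _ ?_
      module
    intro x
    exact LinearMap.congr_fun h x
  refine ⟨fun y => ⟨fun hy => ?_, ?_⟩, ?_⟩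
  · -- `y` is, up to an explicit symmetric term, in the square of the diagonal ideal
    set g : A := Algebra.TensorProduct.lmul' k y with hg
    have hθ : (3 : k) • (KaehlerDifferential.D k A).tensorProductTo y = KaehlerDifferential.D k A g := by
      have h := hDf y
      rw [hy] at h
      exact (sub_eq_zero.mp h.symm)
    set x₀ : A ⊗[k] (A ⊗[k] A) := (6 : k)⁻¹ • (g ⊗ₜ[k] ((1 : A) ⊗ₜ[k] (1 : A))) with hx₀
    have hrx₀ : r (Groth.Agent.Helper8.DiagSym3.Sym k A x₀) =
        (3 : k)⁻¹ • ((2 : k) • (g ⊗ₜ[k] (1 : A)) + (1 : A) ⊗ₜ[k] g) := by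
      rw [hx₀, map_smul, map_smul, Groth.Agent.Helper8.DiagSym3.r_Sym_tmul k A r hr]
      simp only [mul_one, smul_smul]
      rw [show (6 : k)⁻¹ * 2 = (3 : k)⁻¹ by field_simp; norm_num, two_smul]
    set h' : A ⊗[k] A := y - r (Groth.Agent.Helper8.DiagSym3.Sym k A x₀) with hh'
    have h1 : Algebra.TensorProduct.lmul' k h' = 0 := by
      rw [hh', hrx₀]
      simp only [map_sub, map_smul, map_add, Algebra.TensorProduct.lmul'_apply_tmul, mul_one,
        one_mul, ← hg]
      rw [show (2 : k) • g + g = (3 : k) • g by
        rw [show (3 : k) = 2 + 1 by norm_num, add_smul, one_smul], smul_smul,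
        inv_mul_cancel₀ h3k, one_smul, sub_self]
    have h2 : (KaehlerDifferential.D k A).tensorProductTo h' = 0 := by
      rw [hh', hrx₀]
      simp only [map_sub, map_add, LinearMap.map_smul_of_tower, Derivation.tensorProductTo_tmul,
        Derivation.map_one_eq_zero, smul_zero, zero_add, one_smul]
      rw [← hθ, smul_smul, inv_mul_cancel₀ h3k, one_smul, sub_self]
    have h3 := Groth.Agent.Helper8.DiagSq.mem_span_w k A h' h1 h2
    have hle : Submodule.span k (Set.range fun abc : A × A × A =>
        Groth.Agent.Helper8.DiagSq.w k A abc.1 abc.2.1 abc.2.2) ≤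
        LinearMap.range (r ∘ₗ Groth.Agent.Helper8.DiagSym3.Sym k A) := by
      rw [Submodule.span_le]
      rintro _ ⟨⟨a, b, c⟩, rfl⟩
      refine ⟨(2 : k)⁻¹ • (a ⊗ₜ[k] ((b * c) ⊗ₜ[k] (1 : A)) - a ⊗ₜ[k] (b ⊗ₜ[k] c)), ?_⟩
      simp only [LinearMap.comp_apply, map_smul, map_sub,
        Groth.Agent.Helper8.DiagSym3.r_Sym_tmul k A r hr, mul_one, one_mul]
      rw [← smul_sub, smul_smul, inv_mul_cancel₀ h2k, one_smul, Groth.Agent.Helper8.DiagSq.w]
      rw [show a * (b * c) = a * b * c by ring]
      abel
    obtain ⟨x₁, hx₁⟩ := hle h3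
    refine ⟨Groth.Agent.Helper8.DiagSym3.Sym k A (x₁ + x₀), ?_, ?_, ?_⟩
    · exact Groth.Agent.Helper8.DiagSym3.s1_Sym k A _
    · exact Groth.Agent.Helper8.DiagSym3.s2_Sym k A _
    · rw [map_add, map_add]
      rw [LinearMap.comp_apply] at hx₁
      rw [hx₁, hh']
      abel
  · rintro ⟨x, hx1, hx2, rfl⟩
    have hS := Groth.Agent.Helper8.DiagSym3.Sym_of_fixed k A x hx1 hx2
    have hx : x = (6 : k)⁻¹ • Groth.Agent.Helper8.DiagSym3.Sym k A x := by
      rw [hS, smul_smul, inv_mul_cancel₀ h6k, one_smul]
    rw [hx, map_smul, map_smul, hDrS, smul_zero]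
  · intro ω
    obtain ⟨t, rfl⟩ := KaehlerDifferential.tensorProductTo_surjective k A ω
    refine ⟨(3 : k)⁻¹ • (t - (Algebra.TensorProduct.lmul' k t) ⊗ₜ[k] (1 : A)), ?_⟩
    rw [hDf, LinearMap.map_smul_of_tower, smul_smul, mul_inv_cancel₀ h3k, one_smul]
    simp only [map_smul, map_sub, Algebra.TensorProduct.lmul'_apply_tmul, mul_one, sub_self,
      smul_zero, map_zero, sub_zero, Derivation.tensorProductTo_tmul, Derivation.map_one_eq_zero]

end Groth.Agent.S19212
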