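import Groth.Statements.S19213
import Mathlib
import Groth.Agent.Lib.Helper8.DiagSq
import Groth.Agent.Lib.Helper8.DiagSym3

set_option autoImplicit false
universe u v
open TensorProduct
open DiagIdeal

namespace Groth.Agent.S19213

/-- Let k be an algebraically closed field of characteristic zero and A a smooth k-algebra which is a
domain. Let r₁₂, r₂₃ : A ⊗ (A ⊗ A) → A ⊗ A be the k-linear maps a ⊗ u ⊗ v ↦ au ⊗ v and a ⊗ u ⊗ v ↦
uv ⊗ a (restriction to the diagonal of factors 1, 2, resp. 2, 3, the repeated coordinate written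
first), let m : A ⊗ A → A be multiplication, and let ψ : (A ⊗ A) × (A ⊗ A) → Ω_{A/k} be the k-linear
map with ψ(a ⊗ u, b ⊗ v) = 2a·du − v·db. Then for p, q in A ⊗ A with m p = m q one has ψ(p, q) = 0
if and only if (p, q) = (r₁₂ x, r₂₃ x) for some x fixed by the swap of the last two tensor factors;
and every element of Ω_{A/k} is ψ(p, q) for some pair with m p = m q. (This is exactness at the last
two places of the right resolution, on the symmetric cube of X = Spec A, of the invariants of the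
ideal of the big diagonal under the transposition of the last two factors; exactness at the first
two places is immediate. The published statement is the sheaf version for a smooth complex variety
of any dimension; an algebraically closed field of characteristic zero is used here.) -/
theorem result (k : Type u) [Field k] [IsAlgClosed k] [CharZero k]
    (A : Type v) [CommRing A] [Algebra k A] [Algebra.Smooth k A] [IsDomain A]
    (r₁₂ r₂₃ : A ⊗[k] (A ⊗[k] A) →ₗ[k] A ⊗[k] A)
    (h₁₂ : ∀ a u v : A, r₁₂ (a ⊗ₜ[k] (u ⊗ₜ[k] v)) = (a * u) ⊗ₜ[k] v)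
    (h₂₃ : ∀ a u v : A, r₂₃ (a ⊗ₜ[k] (u ⊗ₜ[k] v)) = (u * v) ⊗ₜ[k] a)
    (ψ : (A ⊗[k] A) × (A ⊗[k] A) →ₗ[k] Ω[A⁄k])
    (hψ : ∀ a u b v : A, ψ (a ⊗ₜ[k] u, b ⊗ₜ[k] v) =
      (2 : A) • (a • KaehlerDifferential.D k A u) - v • KaehlerDifferential.D k A b) :
    (∀ p q : A ⊗[k] A, LinearMap.mul' k A p = LinearMap.mul' k A q →
      (ψ (p, q) = 0 ↔ ∃ x : A ⊗[k] (A ⊗[k] A),
        LinearMap.lTensor A (TensorProduct.comm k A A).toLinearMap x = x ∧ r₁₂ x = p ∧ r₂₃ x = q)) ∧
    (∀ ω : Ω[A⁄k], ∃ p q : A ⊗[k] A, LinearMap.mul' k A p = LinearMap.mul' k A q ∧ ψ (p, q) = ω) := by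
  classical
  have h2k : (2 : k) ≠ 0 := by norm_num
  -- formulas for `ψ`
  have hψ1 : ∀ p : A ⊗[k] A, ψ (p, 0) = (2 : k) • (KaehlerDifferential.D k A).tensorProductTo p := by
    intro p
    induction p using TensorProduct.induction_on with
    | zero => rw [Prod.mk_zero_zero, map_zero, map_zero, smul_zero]
    | tmul a u =>
      have h := hψ a u 0 0
      rw [TensorProduct.zero_tmul] at h
      rw [h, Derivation.tensorProductTo_tmul, map_zero, smul_zero, sub_zero,
        ← algebraMap_smul A (2 : k), map_ofNat]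
    | add x y hx hy =>
      have : ((x + y, 0) : (A ⊗[k] A) × (A ⊗[k] A)) = (x, 0) + (y, 0) := by simp
      rw [this, map_add, hx, hy, map_add, smul_add]
  have hψ2 : ∀ q : A ⊗[k] A, ψ (0, q) =
      - (KaehlerDifferential.D k A).tensorProductTo (TensorProduct.comm k A A q) := by
    intro q
    induction q using TensorProduct.induction_on with
    | zero => rw [Prod.mk_zero_zero, map_zero, map_zero, map_zero, neg_zero]
    | tmul b v =>
      have h := hψ 0 0 b v
      rw [TensorProduct.zero_tmul] at h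
      rw [h, TensorProduct.comm_tmul, Derivation.tensorProductTo_tmul, map_zero, smul_zero,
        smul_zero, zero_sub]
    | add x y hx hy =>
      have : ((0, x + y) : (A ⊗[k] A) × (A ⊗[k] A)) = (0, x) + (0, y) := by simp
      rw [this, map_add, hx, hy, map_add, map_add, neg_add]
  have hψf : ∀ p q : A ⊗[k] A, ψ (p, q) =
      (2 : k) • (KaehlerDifferential.D k A).tensorProductTo p -
        (KaehlerDifferential.D k A).tensorProductTo (TensorProduct.comm k A A q) := by
    intro p q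
    have : ((p, q) : (A ⊗[k] A) × (A ⊗[k] A)) = (p, 0) + (0, q) := by simp
    rw [this, map_add, hψ1, hψ2, sub_eq_add_neg]
  -- symmetrisation in the last two factors
  set S₂ : A ⊗[k] (A ⊗[k] A) →ₗ[k] A ⊗[k] (A ⊗[k] A) :=
    LinearMap.id + Groth.Agent.Helper8.DiagSym3.s2 k A with hS₂
  have hS₂t : ∀ a u v : A, S₂ (a ⊗ₜ[k] (u ⊗ₜ[k] v)) =
      a ⊗ₜ[k] (u ⊗ₜ[k] v) + a ⊗ₜ[k] (v ⊗ₜ[k] u) := by
    intro a u v
    simp [hS₂]
  have hs2S₂ : ∀ x, LinearMap.lTensor A (TensorProduct.comm k A A).toLinearMap (S₂ x) = S₂ x := by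
    have h : Groth.Agent.Helper8.DiagSym3.s2 k A ∘ₗ S₂ = S₂ := by
      refine Groth.Agent.Helper8.DiagSym3.ext3 k A _ _ fun a b c => ?_
      simp only [LinearMap.comp_apply, hS₂t, map_add, Groth.Agent.Helper8.DiagSym3.s2_tmul]
      abel
    intro x
    exact LinearMap.congr_fun h x
  have hS₂fix : ∀ x, LinearMap.lTensor A (TensorProduct.comm k A A).toLinearMap x = x →
      S₂ x = (2 : k) • x := by
    intro x hx
    have hx' : Groth.Agent.Helper8.DiagSym3.s2 k A x = x := hx
    simp only [hS₂, LinearMap.add_apply, LinearMap.id_apply, hx', two_smul]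
  have h12 : ∀ a u v : A, r₁₂ (S₂ (a ⊗ₜ[k] (u ⊗ₜ[k] v))) = (a * u) ⊗ₜ[k] v + (a * v) ⊗ₜ[k] u := by
    intro a u v
    rw [hS₂t, map_add, h₁₂, h₁₂]
  have h23 : ∀ a u v : A, r₂₃ (S₂ (a ⊗ₜ[k] (u ⊗ₜ[k] v))) = (2 : k) • ((u * v) ⊗ₜ[k] a) := by
    intro a u v
    rw [hS₂t, map_add, h₂₃, h₂₃, mul_comm v u, two_smul]
  -- `ψ` kills the image of the symmetric tensors
  have hZ : ∀ x, ψ (r₁₂ (S₂ x), r₂₃ (S₂ x)) = 0 := by
    have h : (2 : k) • (((KaehlerDifferential.D k A).tensorProductTo.restrictScalars k) ∘ₗ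
        r₁₂ ∘ₗ S₂) - ((KaehlerDifferential.D k A).tensorProductTo.restrictScalars k) ∘ₗ
        (TensorProduct.comm k A A).toLinearMap ∘ₗ r₂₃ ∘ₗ S₂ = 0 := by
      refine Groth.Agent.Helper8.DiagSym3.ext3 k A _ _ fun a u v => ?_
      simp only [LinearMap.sub_apply, LinearMap.smul_apply, LinearMap.comp_apply,
        LinearMap.zero_apply, LinearMap.restrictScalars_apply, LinearEquiv.coe_coe, h12,
        h23, map_add, map_smul, TensorProduct.comm_tmul, Derivation.tensorProductTo_tmul,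
        Derivation.leibniz]
      rw [← algebraMap_smul A (2 : k), ← algebraMap_smul A (2 : k), map_ofNat]
      module
    intro x
    rw [hψf]
    exact LinearMap.congr_fun h x
  have hmul : ∀ t : A ⊗[k] A, LinearMap.mul' k A t = Algebra.TensorProduct.lmul' k t := by
    intro t
    rw [← Algebra.TensorProduct.lmul'_toLinearMap]
    rfl
  refine ⟨fun p q hpq => ⟨fun hy => ?_, ?_⟩, ?_⟩
  · set T : A ⊗[k] A →ₗ[k] A ⊗[k] (A ⊗[k] A) :=
      (2 : k)⁻¹ • (LinearMap.lTensor A ((TensorProduct.mk k A A).flip 1) ∘ₗ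
        (TensorProduct.comm k A A).toLinearMap) with hT
    have hTt : ∀ u a : A, T (u ⊗ₜ[k] a) = (2 : k)⁻¹ • (a ⊗ₜ[k] (u ⊗ₜ[k] (1 : A))) := by
      intro u a
      simp [hT]
    have hT1 : ∀ q, r₂₃ (S₂ (T q)) = q := by
      have h : r₂₃ ∘ₗ S₂ ∘ₗ T = LinearMap.id := by
        refine TensorProduct.ext' fun u a => ?_
        simp only [LinearMap.comp_apply, hTt, map_smul, h23, LinearMap.id_apply, mul_one,
          smul_smul]
        rw [inv_mul_cancel₀ h2k, one_smul]
      intro q
      exact LinearMap.congr_fun h q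
    have hT2 : ∀ q, Algebra.TensorProduct.lmul' k (r₁₂ (S₂ (T q))) =
        Algebra.TensorProduct.lmul' k q := by
      have h : (Algebra.TensorProduct.lmul' k : A ⊗[k] A →ₐ[k] A).toLinearMap ∘ₗ r₁₂ ∘ₗ S₂ ∘ₗ T =
          (Algebra.TensorProduct.lmul' k : A ⊗[k] A →ₐ[k] A).toLinearMap := by
        refine TensorProduct.ext' fun u a => ?_
        simp only [LinearMap.comp_apply, hTt, map_smul, h12, map_add, AlgHom.toLinearMap_apply,
          Algebra.TensorProduct.lmul'_apply_tmul, mul_one]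
        rw [← two_smul k (a * u), smul_smul, inv_mul_cancel₀ h2k, one_smul, mul_comm]
      intro q
      exact LinearMap.congr_fun h q
    set p' : A ⊗[k] A := p - r₁₂ (S₂ (T q)) with hp'
    have h1 : Algebra.TensorProduct.lmul' k p' = 0 := by
      rw [hp', map_sub, hT2, ← hmul, ← hmul, hpq, sub_self]
    have h2 : (KaehlerDifferential.D k A).tensorProductTo p' = 0 := by
      have ha := hZ (T q)
      rw [hT1, hψf] at ha
      have hb := hy
      rw [hψf] at hb
      have hc : (2 : k) • (KaehlerDifferential.D k A).tensorProductTo p' = 0 := by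
        rw [hp', map_sub, smul_sub]
        rw [sub_eq_zero] at ha hb
        rw [ha, hb, sub_self]
      have hd := congrArg (fun z => (2 : k)⁻¹ • z) hc
      simpa [smul_smul, inv_mul_cancel₀ h2k] using hd
    have h3 := Groth.Agent.Helper8.DiagSq.mem_span_w k A p' h1 h2
    have hle : Submodule.span k (Set.range fun abc : A × A × A =>
        Groth.Agent.Helper8.DiagSq.w k A abc.1 abc.2.1 abc.2.2) ≤
        Submodule.map (r₁₂ ∘ₗ S₂) (LinearMap.ker (r₂₃ ∘ₗ S₂)) := by
      rw [Submodule.span_le]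
      rintro _ ⟨⟨a, b, c⟩, rfl⟩
      refine ⟨a ⊗ₜ[k] ((b * c) ⊗ₜ[k] (1 : A)) - a ⊗ₜ[k] (b ⊗ₜ[k] c), ?_, ?_⟩
      · simp only [SetLike.mem_coe, LinearMap.mem_ker, LinearMap.comp_apply, map_sub, h23, mul_one,
          sub_self]
      · simp only [LinearMap.comp_apply, map_sub, h12, mul_one, Groth.Agent.Helper8.DiagSq.w]
        rw [show a * (b * c) = a * b * c by ring]
        abel
    obtain ⟨x₁, hx₁k, hx₁⟩ := hle h3
    rw [SetLike.mem_coe, LinearMap.mem_ker, LinearMap.comp_apply] at hx₁k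
    rw [LinearMap.comp_apply] at hx₁
    refine ⟨S₂ (x₁ + T q), hs2S₂ _, ?_, ?_⟩
    · rw [map_add, map_add, hx₁, hp']
      abel
    · rw [map_add, map_add, hx₁k, hT1, zero_add]
  · rintro ⟨x, hx, rfl, rfl⟩
    have hx' : x = (2 : k)⁻¹ • S₂ x := by
      rw [hS₂fix x hx, smul_smul, inv_mul_cancel₀ h2k, one_smul]
    rw [hx', map_smul, map_smul, ← Prod.smul_mk, map_smul, hZ, smul_zero]
  · intro ω
    obtain ⟨t, rfl⟩ := KaehlerDifferential.tensorProductTo_surjective k A ω
    refine ⟨(2 : k)⁻¹ • (t - (Algebra.TensorProduct.lmul' k t) ⊗ₜ[k] (1 : A)), 0, ?_, ?_⟩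
    · rw [hmul, hmul]
      simp
    · rw [hψ1, LinearMap.map_smul_of_tower, smul_smul, mul_inv_cancel₀ h2k, one_smul]
      simp only [map_sub, Derivation.tensorProductTo_tmul, Derivation.map_one_eq_zero, smul_zero,
        sub_zero]

end Groth.Agent.S19213
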