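import Groth.Statements.S19216
import Mathlib

set_option autoImplicit false
universe u
open SymRep

namespace Groth.Agent.S19216

/-- Let k be a field of characteristic zero and r, s ≥ 1. Realise the standard representation of the
symmetric group on a finite set T as the hyperplane of functions T → k with sum zero, the group
acting by precomposition with the inverse. Then the standard representation of the symmetric group
of Fin r ⊕ Fin s, restricted to the subgroup S_r × S_s, is isomorphic to the direct sum of the
standard representations of S_r and of S_s and of a one-dimensional trivial representation: there is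
a k-linear map E from functions on Fin r ⊕ Fin s to triples (function on Fin r, function on Fin s,
scalar), compatible with the actions of S_r × S_s (trivial on the scalar), which maps the sum-zero
hyperplane bijectively onto the product of the two sum-zero hyperplanes and k. (The published
statement is over the complex numbers; a field of characteristic zero is used here. The published
statement also gives the analogous decomposition for any number of blocks, which follows by
induction; only the two-block case is stated here.) -/
theorem result (k : Type u) [Field k] [CharZero k]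
    (r s : ℕ) (hr : 1 ≤ r) (hs : 1 ≤ s) :
    ∃ E : (Fin r ⊕ Fin s → k) →ₗ[k] (Fin r → k) × (Fin s → k) × k,
      (∀ (σ : Equiv.Perm (Fin r)) (τ : Equiv.Perm (Fin s)) (f : Fin r ⊕ Fin s → k),
        E (f ∘ ⇑(Equiv.sumCongr σ τ).symm) = ((E f).1 ∘ ⇑σ.symm, (E f).2.1 ∘ ⇑τ.symm, (E f).2.2)) ∧
      Set.BijOn E {f | ∑ i, f i = 0}
        ({g : Fin r → k | ∑ i, g i = 0} ×ˢ ({h : Fin s → k | ∑ i, h i = 0} ×ˢ Set.univ)) := by
  classical
  have hr0 : (r : k) ≠ 0 := Nat.cast_ne_zero.mpr (by omega)
  have hs0 : (s : k) ≠ 0 := Nat.cast_ne_zero.mpr (by omega)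
  -- means
  let A : (Fin r ⊕ Fin s → k) →ₗ[k] k :=
    { toFun := fun f => (r : k)⁻¹ * ∑ i, f (Sum.inl i)
      map_add' := fun f g => by simp [Finset.sum_add_distrib, mul_add]
      map_smul' := fun c f => by simp [Finset.mul_sum, mul_left_comm] }
  let B : (Fin r ⊕ Fin s → k) →ₗ[k] k :=
    { toFun := fun f => (s : k)⁻¹ * ∑ j, f (Sum.inr j)
      map_add' := fun f g => by simp [Finset.sum_add_distrib, mul_add]
      map_smul' := fun c f => by simp [Finset.mul_sum, mul_left_comm] }
  let E : (Fin r ⊕ Fin s → k) →ₗ[k] (Fin r → k) × (Fin s → k) × k :=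
    { toFun := fun f => (fun i => f (Sum.inl i) - A f, fun j => f (Sum.inr j) - B f, A f)
      map_add' := fun f g => by
        ext <;> simp [map_add] <;> ring
      map_smul' := fun c f => by
        ext <;> simp [map_smul, mul_sub] }
  have hA : ∀ f, A f = (r : k)⁻¹ * ∑ i, f (Sum.inl i) := fun f => rfl
  have hB : ∀ f, B f = (s : k)⁻¹ * ∑ j, f (Sum.inr j) := fun f => rfl
  have hE : ∀ f, E f = (fun i => f (Sum.inl i) - A f, fun j => f (Sum.inr j) - B f, A f) :=
    fun f => rfl
  have hsumA : ∀ f, ∑ i, f (Sum.inl i) = (r : k) * A f := by
    intro f; rw [hA, ← mul_assoc, mul_inv_cancel₀ hr0, one_mul]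
  have hsumB : ∀ f, ∑ j, f (Sum.inr j) = (s : k) * B f := by
    intro f; rw [hB, ← mul_assoc, mul_inv_cancel₀ hs0, one_mul]
  have htot : ∀ f : Fin r ⊕ Fin s → k, ∑ x, f x = (r : k) * A f + (s : k) * B f := by
    intro f
    rw [Fintype.sum_sum_type, hsumA, hsumB]
  refine ⟨E, ?_, ?_⟩
  · intro σ τ f
    have hAeq : A (f ∘ ⇑(Equiv.sumCongr σ τ).symm) = A f := by
      rw [hA, hA]
      congr 1
      exact Fintype.sum_equiv σ.symm _ _ (fun i => by simp)
    have hBeq : B (f ∘ ⇑(Equiv.sumCongr σ τ).symm) = B f := by
      rw [hB, hB]
      congr 1
      exact Fintype.sum_equiv τ.symm _ _ (fun i => by simp)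
    rw [hE, hE, hAeq, hBeq]
    ext <;> simp
  · refine ⟨?_, ?_, ?_⟩
    · intro f hf
      simp only [Set.mem_setOf_eq] at hf
      simp only [Set.mem_prod, Set.mem_setOf_eq, Set.mem_univ, and_true, hE]
      refine ⟨?_, ?_⟩
      · rw [Finset.sum_sub_distrib, hsumA]; simp
      · rw [Finset.sum_sub_distrib, hsumB]; simp
    · intro f hf f' hf' hEq
      simp only [Set.mem_setOf_eq] at hf hf'
      rw [hE, hE] at hEq
      have h1 := congrArg Prod.fst hEq
      have h2 := congrArg (fun p => p.2.1) hEq
      have h3 : A f = A f' := congrArg (fun p => p.2.2) hEq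
      have hBB : B f = B f' := by
        have e1 := htot f
        have e2 := htot f'
        rw [hf] at e1
        rw [hf'] at e2
        have : (s : k) * B f = (s : k) * B f' := by
          have e3 : (s : k) * B f = -((r : k) * A f) := by linear_combination -e1
          have e4 : (s : k) * B f' = -((r : k) * A f') := by linear_combination -e2
          rw [e3, e4, h3]
        exact mul_left_cancel₀ hs0 this
      funext x
      rcases x with i | j
      · have := congrFun h1 i
        simp only at this
        rw [h3] at this
        exact sub_left_injective this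
      · have := congrFun h2 j
        simp only at this
        rw [hBB] at this
        exact sub_left_injective this
    · rintro ⟨g, h, c⟩ hgh
      simp only [Set.mem_prod, Set.mem_setOf_eq, Set.mem_univ, and_true] at hgh
      obtain ⟨hg, hh⟩ := hgh
      let b : k := -((r : k) * c) / (s : k)
      let f : Fin r ⊕ Fin s → k := Sum.elim (fun i => g i + c) (fun j => h j + b)
      have hAf : A f = c := by
        rw [hA]
        simp only [f, Sum.elim_inl, Finset.sum_add_distrib, hg, zero_add, Finset.sum_const,
          Finset.card_univ, Fintype.card_fin, nsmul_eq_mul]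
        rw [← mul_assoc, inv_mul_cancel₀ hr0, one_mul]
      have hBf : B f = b := by
        rw [hB]
        simp only [f, Sum.elim_inr, Finset.sum_add_distrib, hh, zero_add, Finset.sum_const,
          Finset.card_univ, Fintype.card_fin, nsmul_eq_mul]
        rw [← mul_assoc, inv_mul_cancel₀ hs0, one_mul]
      refine ⟨f, ?_, ?_⟩
      · simp only [Set.mem_setOf_eq]
        rw [htot, hAf, hBf]
        simp only [b]
        field_simp
        ring
      · rw [hE, hAf, hBf]
        ext <;> simp [f]

end Groth.Agent.S19216
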