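import Groth.Statements.S19223
import Mathlib
import Groth.Agent.H10.GCoh

set_option autoImplicit false
attribute [local instance] Units.mulDistribMulActionRight
open GalCoh

namespace Groth.Agent.S19223

open CategoryTheory groupCohomology

theorem shortExact_gen (k : Type) [CommRing k] (G : Type) [Group G] {A B C : Rep.{0} k G}
    (f : A ⟶ B) (g : B ⟶ C) (w : f ≫ g = 0)
    (hf : Function.Injective f.hom) (hg : Function.Surjective g.hom)
    (hex : ∀ y : B, g.hom y = 0 → ∃ x : A, f.hom x = y) :
    (ShortComplex.mk f g w).ShortExact := by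
  refine { exact := ?_, mono_f := ?_, epi_g := ?_ }
  · rw [← ShortComplex.exact_map_iff_of_faithful _ (forget₂ (Rep.{0} k G) (ModuleCat.{0} k))]
    rw [ShortComplex.moduleCat_exact_iff]
    intro y hy
    exact hex y hy
  · exact (Rep.mono_iff_injective f).2 hf
  · exact (Rep.epi_iff_surjective g).2 hg

theorem exists_inv_of_bijective (k : Type) [CommRing k] (G : Type) [Group G] (A : Rep.{0} k G)
    (N : ℕ) (hb : Function.Bijective (fun x : A => N • x)) : ∃ ψ : A ⟶ A, N • ψ = 𝟙 A := by
  let L : A.V →ₗ[k] A.V := N • LinearMap.id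
  have hL : Function.Bijective L := hb
  let e := LinearEquiv.ofBijective L hL
  have he : ∀ x : A.V, e x = N • x := fun x => rfl
  have hint : ∀ g : G, e.symm.toLinearMap ∘ₗ A.ρ g = A.ρ g ∘ₗ e.symm.toLinearMap := by
    intro g
    ext x
    apply e.injective
    simp only [LinearMap.comp_apply, LinearEquiv.coe_coe, LinearEquiv.apply_symm_apply]
    rw [he, ← map_nsmul, ← he, LinearEquiv.apply_symm_apply]
  refine ⟨Rep.ofHom ⟨e.symm.toLinearMap, hint⟩, ?_⟩
  ext x
  show N • (e.symm x) = x
  rw [← he, LinearEquiv.apply_symm_apply]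

open Polynomial in
theorem exists_root (R : Type) [CommRing R] [HenselianLocalRing R] (N : ℕ) (hN0 : N ≠ 0)
    (hNu : IsUnit ((N : ℕ) : R)) (u : R) (hu : IsLocalRing.residue R u = 1) :
    ∃ a : R, a ^ N = u ∧ IsLocalRing.residue R a = 1 := by
  have hmon : (X ^ N - C u : R[X]).Monic := Polynomial.monic_X_pow_sub_C u hN0
  obtain ⟨a, ha, ha1⟩ := HenselianLocalRing.is_henselian (X ^ N - C u) hmon 1 (by
      simp only [eval_sub, eval_pow, eval_X, eval_C, one_pow]
      rw [← IsLocalRing.residue_eq_zero_iff, map_sub, map_one, hu, sub_self]) (by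
      have h0 : Polynomial.eval 1 (derivative (X ^ N - C u : R[X])) = ((N : ℕ) : R) := by
        rw [derivative_sub, derivative_C, sub_zero, derivative_X_pow, eval_mul, eval_pow, eval_X,
          one_pow, mul_one, eval_C]
      rw [h0]; exact hNu)
  refine ⟨a, ?_, ?_⟩
  · have : a ^ N - u = 0 := by simpa [Polynomial.IsRoot] using ha
    exact sub_eq_zero.mp this
  · rw [← sub_eq_zero, ← map_one (IsLocalRing.residue R), ← map_sub,
      IsLocalRing.residue_eq_zero_iff]
    exact ha1

theorem eq_one_of_pow (R : Type) [CommRing R] [IsLocalRing R] (N : ℕ)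
    (hNk : ((N : ℕ) : IsLocalRing.ResidueField R) ≠ 0) (a : R)
    (ha : IsLocalRing.residue R a = 1) (haN : a ^ N = 1) : a = 1 := by
  have h1 := geom_sum_mul a N
  rw [haN, sub_self] at h1
  have hS : IsUnit (∑ i ∈ Finset.range N, a ^ i) := by
    rw [← IsLocalRing.notMem_maximalIdeal, ← IsLocalRing.residue_eq_zero_iff, map_sum]
    simp only [map_pow, ha, one_pow, Finset.sum_const, Finset.card_range, nsmul_eq_mul, mul_one]
    exact hNk
  exact sub_eq_zero.mp ((hS.mul_right_eq_zero).mp h1)

noncomputable def K1 (R : Type) [CommRing R] [IsLocalRing R] : Subgroup Rˣ :=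
  (Units.map (IsLocalRing.residue R).toMonoidHom).ker

theorem mem_K1 {R : Type} [CommRing R] [IsLocalRing R] (u : Rˣ) :
    u ∈ K1 R ↔ IsLocalRing.residue R (u : R) = 1 := by
  rw [K1, MonoidHom.mem_ker, Units.ext_iff]; rfl

noncomputable instance kerAction (R : Type) [CommRing R] [IsLocalRing R] (G : Type) [Group G]
    [MulSemiringAction G R] : MulDistribMulAction G (K1 R) where
  smul g u := ⟨g • (u : Rˣ), by
    rw [mem_K1, Units.coe_smul, IsLocalRing.ResidueField.residue_smul, (mem_K1 _).mp u.2, smul_one]⟩
  one_smul u := Subtype.ext (one_smul G (u : Rˣ))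
  mul_smul g h u := Subtype.ext (mul_smul g h (u : Rˣ))
  smul_mul g u v := Subtype.ext (smul_mul' g (u : Rˣ) (v : Rˣ))
  smul_one g := Subtype.ext (smul_one g)

noncomputable def incl (R : Type) [CommRing R] [IsLocalRing R] (G : Type) [Group G]
    [MulSemiringAction G R] :
    Rep.ofMulDistribMulAction G (K1 R) ⟶ Rep.ofMulDistribMulAction G Rˣ :=
  Rep.ofHom (ρ := Representation.ofMulDistribMulAction G (K1 R))
    (σ := Representation.ofMulDistribMulAction G Rˣ)
    ⟨(MonoidHom.toAdditive (K1 R).subtype).toIntLinearMap, fun g => LinearMap.ext fun x => rfl⟩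

theorem incl_apply (R : Type) [CommRing R] [IsLocalRing R] (G : Type) [Group G]
    [MulSemiringAction G R] (x : Additive (K1 R)) :
    (incl R G).hom x = Additive.ofMul ((x.toMul : K1 R) : Rˣ) := rfl

theorem main (R : Type) [CommRing R]
    [HenselianLocalRing R] (p : ℕ) [CharP (IsLocalRing.ResidueField R) p]
    (G : Type) [Group G] [Finite G] [MulSemiringAction G R] (hp : ¬ p ∣ Nat.card G)
    (φ : Rep.ofMulDistribMulAction G Rˣ ⟶ Rep.ofMulDistribMulAction G (IsLocalRing.ResidueField R)ˣ)
    (hφ : ∀ x : Rˣ, Additive.toMul (φ.hom (Additive.ofMul x)) =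
      Units.map (IsLocalRing.residue R).toMonoidHom x)
    (n : ℕ) (hn : 1 ≤ n) :
    Function.Bijective ((groupCohomology.functor ℤ G n).map φ).hom := by
  classical
  haveI : Fintype G := Fintype.ofFinite G
  obtain ⟨N, hN⟩ : ∃ N : ℕ, N = Fintype.card G := ⟨_, rfl⟩
  have hcard : Nat.card G = N := by rw [hN]; exact Nat.card_eq_fintype_card
  have hN0 : N ≠ 0 := by rw [hN]; exact Fintype.card_ne_zero
  have hNk : ((N : ℕ) : IsLocalRing.ResidueField R) ≠ 0 := by
    rw [Ne, CharP.cast_eq_zero_iff _ p, ← hcard]; exact hp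
  have hNR : IsUnit ((N : ℕ) : R) := by
    rw [← IsLocalRing.notMem_maximalIdeal, ← IsLocalRing.residue_eq_zero_iff, map_natCast]
    exact hNk
  -- divisibility in K1
  have hzero : ∀ x : Additive (K1 R), N • x = 0 → x = 0 := by
    intro x hx
    have h1 : (x.toMul : K1 R) ^ N = 1 := by
      rw [← toMul_nsmul, hx]; rfl
    have h2 : (((x.toMul : K1 R) : Rˣ) : R) ^ N = 1 := by
      have := congrArg (fun w : K1 R => ((w : Rˣ) : R)) h1
      simpa using this
    have h3 := eq_one_of_pow R N hNk _ ((mem_K1 _).mp (x.toMul : K1 R).2) h2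
    have h4 : (x.toMul : K1 R) = 1 := Subtype.ext (Units.ext h3)
    exact congrArg Additive.ofMul h4
  have hbij : Function.Bijective
      (fun x : (Rep.ofMulDistribMulAction G (K1 R) : Rep.{0} ℤ G) => N • x) := by
    constructor
    · intro x y hxy
      have h1 : N • (x - y) = 0 := by
        rw [smul_sub]; exact sub_eq_zero.mpr hxy
      exact sub_eq_zero.mp (hzero (x - y) h1)
    · intro y
      obtain ⟨a, haN, ha1⟩ := exists_root R N hN0 hNR (((Additive.toMul y : K1 R) : Rˣ) : R)
        ((mem_K1 _).mp (Additive.toMul y : K1 R).2)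
      have hau : IsUnit a := by
        rw [← isUnit_pow_iff hN0, haN]; exact Units.isUnit _
      have hmem : hau.unit ∈ K1 R := by rw [mem_K1]; exact ha1
      refine ⟨Additive.ofMul (⟨hau.unit, hmem⟩ : K1 R), ?_⟩
      show Additive.ofMul ((⟨hau.unit, hmem⟩ : K1 R) ^ N) = y
      have : (⟨hau.unit, hmem⟩ : K1 R) ^ N = Additive.toMul y := by
        apply Subtype.ext
        apply Units.ext
        show ((hau.unit ^ N : Rˣ) : R) = _
        rw [Units.val_pow_eq_pow_val, IsUnit.unit_spec]
        exact haN
      rw [this]; rfl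
  obtain ⟨ψ, hψ⟩ := exists_inv_of_bijective ℤ G (Rep.ofMulDistribMulAction G (K1 R)) N hbij
  have hA : ∀ (j : ℕ) (x : groupCohomology (Rep.ofMulDistribMulAction G (K1 R)) (j + 1)),
      x = 0 := by
    intro j x
    have h1 : (groupCohomology.map (MonoidHom.id G)
        (𝟙 (Rep.ofMulDistribMulAction G (K1 R))) (j + 1)) x = x := by
      rw [groupCohomology.map_id]; rfl
    rw [← hψ, Groth.Agent.H10.gc_map_nsmul] at h1
    rw [← h1]
    show N • ((groupCohomology.map (MonoidHom.id G) ψ (j + 1)) x) = 0
    rw [hN]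
    exact Groth.Agent.H10.card_smul_groupCohomology_eq_zero _ j _
  -- the short exact sequence
  have hw : incl R G ≫ φ = 0 := by
    ext x
    let x' : Additive (K1 R) := x
    show φ.hom (Additive.ofMul ((Additive.toMul x' : K1 R) : Rˣ)) = 0
    apply Additive.toMul.injective
    refine (hφ _).trans ?_
    exact (Additive.toMul x' : K1 R).2
  have hS := shortExact_gen ℤ G (incl R G) φ hw
    (by
      intro x y hxy
      have h1 : ((Additive.toMul (x : Additive (K1 R)) : K1 R) : Rˣ)
          = ((Additive.toMul (y : Additive (K1 R)) : K1 R) : Rˣ) :=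
        Additive.ofMul.injective hxy
      exact Additive.toMul.injective (Subtype.ext h1))
    (by
      intro y
      obtain ⟨u, hu⟩ := IsLocalRing.surjective_units_map_of_local_ringHom
        (IsLocalRing.residue R) IsLocalRing.residue_surjective inferInstance (Additive.toMul y)
      refine ⟨Additive.ofMul u, ?_⟩
      apply Additive.toMul.injective
      rw [hφ]
      exact hu)
    (by
      intro y hy
      have h1 : Units.map (IsLocalRing.residue R).toMonoidHom (Additive.toMul y) = 1 := by
        rw [← hφ]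
        show (Additive.toMul (φ.hom y : Additive (IsLocalRing.ResidueField R)ˣ) :
          (IsLocalRing.ResidueField R)ˣ) = 1
        rw [hy]; rfl
      exact ⟨Additive.ofMul (⟨Additive.toMul y, h1⟩ : K1 R), rfl⟩)
  obtain ⟨j, rfl⟩ : ∃ j, n = j + 1 := ⟨n - 1, by omega⟩
  rw [groupCohomology.functor_map]
  constructor
  · rw [injective_iff_map_eq_zero]
    intro x hx
    have ha := mapShortComplex₂_exact hS (j + 1)
    rw [ShortComplex.moduleCat_exact_iff] at ha
    obtain ⟨a, ha'⟩ := ha x hx
    rw [← ha', hA j a]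
    exact map_zero _
  · intro y
    have hb := mapShortComplex₃_exact hS (i := j + 1) (j := j + 1 + 1) rfl
    rw [ShortComplex.moduleCat_exact_iff] at hb
    obtain ⟨x, hx⟩ := hb y (hA (j + 1) _)
    exact ⟨x, hx⟩

/-- For a strictly henselian local ring R whose residue field k has characteristic p ≥ 0, and a finite
group G of order prime to p acting on R by ring automorphisms (hence on the unit groups R^× and
k^×), consider the homomorphism H^n(G, R^×) → H^n(G, k^×) induced by the reduction map. It is
bijective for every n ≥ 2; it is also bijective for n = 1 provided that p = 0 or the only p-power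
root of unity in R is 1. (The reduction map on cohomology is pinned by its values on units; groups,
rings and modules are taken in the lowest universe, as integral coefficients in the group-cohomology
library require.) -/
theorem result (R : Type) [CommRing R]
    [HenselianLocalRing R] [IsSepClosed (IsLocalRing.ResidueField R)] (p : ℕ) [CharP (IsLocalRing.ResidueField R) p]
    (G : Type) [Group G] [Finite G] [MulSemiringAction G R] (hp : ¬ p ∣ Nat.card G)
    (φ : Rep.ofMulDistribMulAction G Rˣ ⟶ Rep.ofMulDistribMulAction G (IsLocalRing.ResidueField R)ˣ)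
    (hφ : ∀ x : Rˣ, Additive.toMul (φ.hom (Additive.ofMul x)) = Units.map (IsLocalRing.residue R).toMonoidHom x)
    (n : ℕ) (hn : 1 ≤ n) (h1 : n = 1 → p ≠ 0 → ∀ (ζ : Rˣ) (m : ℕ), ζ ^ p ^ m = 1 → ζ = 1) :
    Function.Bijective ((groupCohomology.functor ℤ G n).map φ).hom := by
  exact main R p G hp φ hφ n hn

end Groth.Agent.S19223
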