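import Groth.Statements.S19224
import Mathlib
import Groth.Agent.H10.GCoh

set_option autoImplicit false
open GalCoh

namespace Groth.Agent.S19224

open CategoryTheory groupCohomology

/-- Morphism of trivial representations induced by a linear map. -/
noncomputable def trivHomK (k : Type) [CommRing k] (Q : Type) [Group Q] {V W : Type}
    [AddCommGroup V] [Module k V] [AddCommGroup W] [Module k W]
    (f : V →ₗ[k] W) : Rep.trivial k Q V ⟶ Rep.trivial k Q W :=
  Rep.ofHom ⟨f, fun _ => rfl⟩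

theorem shortExact_trivK (k : Type) [CommRing k] (Q : Type) [Group Q] {V1 V2 V3 : Type}
    [AddCommGroup V1] [Module k V1] [AddCommGroup V2] [Module k V2] [AddCommGroup V3] [Module k V3]
    (f : V1 →ₗ[k] V2) (g : V2 →ₗ[k] V3) (hgf : g ∘ₗ f = 0) (hf : Function.Injective f)
    (hg : Function.Surjective g) (hex : ∀ y, g y = 0 → ∃ x, f x = y) :
    (ShortComplex.mk (trivHomK k Q f) (trivHomK k Q g)
      (by
        have h1 : trivHomK k Q f ≫ trivHomK k Q g = trivHomK k Q (g ∘ₗ f) := rfl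
        rw [h1, hgf]; rfl)).ShortExact := by
  refine { exact := ?_, mono_f := ?_, epi_g := ?_ }
  · rw [← ShortComplex.exact_map_iff_of_faithful _ (forget₂ (Rep.{0} k Q) (ModuleCat.{0} k))]
    rw [ShortComplex.moduleCat_exact_iff]
    intro y hy
    exact hex y hy
  · exact (Rep.mono_iff_injective (trivHomK k Q f)).2 hf
  · exact (Rep.epi_iff_surjective (trivHomK k Q g)).2 hg

/-- Morphism of trivial representations induced by a linear map. -/
noncomputable abbrev trivHom (Q : Type) [Group Q] {V W : Type} [AddCommGroup V] [AddCommGroup W]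
    (f : V →ₗ[ℤ] W) : Rep.trivial ℤ Q V ⟶ Rep.trivial ℤ Q W :=
  trivHomK ℤ Q f

theorem trivHom_comp (Q : Type) [Group Q] {V W U : Type} [AddCommGroup V] [AddCommGroup W]
    [AddCommGroup U] (f : V →ₗ[ℤ] W) (g : W →ₗ[ℤ] U) :
    trivHom Q f ≫ trivHom Q g = trivHom Q (g ∘ₗ f) := rfl

theorem trivHom_nsmul (Q : Type) [Group Q] {V W : Type} [AddCommGroup V] [AddCommGroup W]
    (n : ℕ) (f : V →ₗ[ℤ] W) : trivHom Q (n • f) = n • trivHom Q f := rfl

theorem shortExact_triv (Q : Type) [Group Q] {V1 V2 V3 : Type} [AddCommGroup V1]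
    [AddCommGroup V2] [AddCommGroup V3]
    (f : V1 →ₗ[ℤ] V2) (g : V2 →ₗ[ℤ] V3) (hgf : g ∘ₗ f = 0) (hf : Function.Injective f)
    (hg : Function.Surjective g) (hex : ∀ y, g y = 0 → ∃ x, f x = y) :
    (ShortComplex.mk (trivHom Q f) (trivHom Q g)
      (by
        have h1 : trivHom Q f ≫ trivHom Q g = trivHom Q (g ∘ₗ f) := rfl
        rw [h1, hgf]; rfl)).ShortExact :=
  shortExact_trivK ℤ Q f g hgf hf hg hex

theorem main (Q : Type) [Group Q] [Finite Q]
    (hQ : Subsingleton (groupCohomology (Rep.trivial ℤ Q ℤ) 3)) (k : Type) [Field k] [IsSepClosed k]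
    (p : ℕ) [CharP k p] (hp : ¬ p ∣ Nat.card Q) :
    Subsingleton (groupCohomology (Rep.trivial ℤ Q (Additive kˣ)) 2) := by
  classical
  haveI : Fintype Q := Fintype.ofFinite Q
  obtain ⟨n, hn⟩ : ∃ n : ℕ, n = Fintype.card Q := ⟨_, rfl⟩
  have hcard : Nat.card Q = n := by rw [hn]; exact Nat.card_eq_fintype_card
  have hn0 : (n : k) ≠ 0 := by
    rw [Ne, CharP.cast_eq_zero_iff k p, ← hcard]; exact hp
  have : NeZero (n : k) := ⟨hn0⟩
  haveI hnz : NeZero n := NeZero.of_neZero_natCast k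
  obtain ⟨ζ, hζ⟩ := HasEnoughRootsOfUnity.exists_primitiveRoot k n
  have hζu : IsUnit ζ := hζ.isUnit (NeZero.ne n)
  obtain ⟨ζu, rfl⟩ := hζu
  rw [IsPrimitiveRoot.coe_units_iff] at hζ
  have hroot : ∀ u : kˣ, ∃ w : kˣ, w ^ n = u := by
    intro u
    obtain ⟨z, hz⟩ := IsSepClosed.exists_pow_nat_eq (u : k) n
    have hz0 : z ≠ 0 := by
      rintro rfl
      rw [zero_pow (NeZero.ne n)] at hz
      exact u.ne_zero hz.symm
    exact ⟨Units.mk0 z hz0, Units.ext (by simpa using hz)⟩
  obtain ⟨ξ, hξ⟩ := hroot ζu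
  -- linear maps
  have hζn : (zmultiplesHom (Additive kˣ) (Additive.ofMul ζu)) (n : ℤ) = 0 := by
    rw [zmultiplesHom_apply, natCast_zsmul, ← ofMul_pow, hζ.pow_eq_one]; rfl
  obtain ⟨ι, hι⟩ : ∃ ι : ZMod n →ₗ[ℤ] Additive kˣ,
      ∀ a : ℤ, ι (a : ZMod n) = Additive.ofMul (ζu ^ a) := by
    refine ⟨(ZMod.lift n ⟨zmultiplesHom (Additive kˣ) (Additive.ofMul ζu), hζn⟩).toIntLinearMap,
      fun a => ?_⟩
    rw [AddMonoidHom.coe_toIntLinearMap, ZMod.lift_coe]
    show (zmultiplesHom (Additive kˣ) (Additive.ofMul ζu)) a = _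
    rw [zmultiplesHom_apply, ofMul_zpow]
  obtain ⟨red, hred⟩ : ∃ red : ℤ →ₗ[ℤ] ZMod n, ∀ a : ℤ, red a = (a : ZMod n) :=
    ⟨(Int.castAddHom (ZMod n)).toIntLinearMap, fun a => rfl⟩
  obtain ⟨ψ, hψ⟩ : ∃ ψ : ℤ →ₗ[ℤ] Additive kˣ, ψ 1 = Additive.ofMul ξ :=
    ⟨(zmultiplesHom (Additive kˣ) (Additive.ofMul ξ)).toIntLinearMap, by
      rw [AddMonoidHom.coe_toIntLinearMap, zmultiplesHom_apply, one_smul]⟩
  have hφ : ι ∘ₗ red = n • ψ := by
    apply LinearMap.ext_ring
    rw [LinearMap.comp_apply, hred, hι, LinearMap.smul_apply, hψ, zpow_one, ← ofMul_pow, hξ]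
  -- first short exact sequence
  have hS1 := shortExact_triv Q (n • (LinearMap.id : ℤ →ₗ[ℤ] ℤ)) red
    (by
      apply LinearMap.ext
      intro x
      rw [LinearMap.comp_apply, LinearMap.smul_apply, LinearMap.id_apply, hred,
        LinearMap.zero_apply, nsmul_eq_mul, Int.cast_mul, Int.cast_natCast, ZMod.natCast_self,
        zero_mul])
    (by
      intro x y h
      simp only [LinearMap.smul_apply, LinearMap.id_apply, nsmul_eq_mul] at h
      exact mul_left_cancel₀ (by exact_mod_cast NeZero.ne n) h)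
    (by
      intro y
      obtain ⟨a, rfl⟩ := ZMod.intCast_surjective y
      exact ⟨a, hred a⟩)
    (by
      intro y hy
      rw [hred, ZMod.intCast_zmod_eq_zero_iff_dvd] at hy
      obtain ⟨c, rfl⟩ := hy
      exact ⟨c, by simp⟩)
  -- second short exact sequence
  have hS2 := shortExact_triv Q ι (n • (LinearMap.id : Additive kˣ →ₗ[ℤ] Additive kˣ))
    (by
      apply LinearMap.ext
      intro x
      rw [LinearMap.comp_apply, LinearMap.smul_apply, LinearMap.id_apply, LinearMap.zero_apply,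
        ← map_nsmul, nsmul_eq_mul, ZMod.natCast_self, zero_mul, map_zero])
    (by
      rw [injective_iff_map_eq_zero]
      intro x hx
      obtain ⟨a, rfl⟩ := ZMod.intCast_surjective x
      rw [hι] at hx
      have h1 : ζu ^ a = 1 := hx
      rw [hζ.zpow_eq_one_iff_dvd] at h1
      exact (ZMod.intCast_zmod_eq_zero_iff_dvd a n).mpr h1)
    (by
      intro y
      obtain ⟨w, hw⟩ := hroot y.toMul
      refine ⟨Additive.ofMul w, ?_⟩
      rw [LinearMap.smul_apply, LinearMap.id_apply, ← ofMul_pow, hw]; rfl)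
    (by
      intro y hy
      rw [LinearMap.smul_apply, LinearMap.id_apply] at hy
      have h1 : y.toMul ^ n = 1 := hy
      have hζ' : IsPrimitiveRoot (ζu : k) n := IsPrimitiveRoot.coe_units_iff.mpr hζ
      have h2 : ((y.toMul : kˣ) : k) ^ n = 1 := by
        rw [← Units.val_pow_eq_pow_val, h1]; rfl
      obtain ⟨i, -, hi⟩ := hζ'.eq_pow_of_pow_eq_one h2
      refine ⟨((i : ℤ) : ZMod n), ?_⟩
      rw [hι, zpow_natCast]
      have : ζu ^ i = y.toMul := Units.ext (by rw [Units.val_pow_eq_pow_val]; exact hi)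
      rw [this]; rfl)
  refine ⟨fun x y => ?_⟩
  suffices h : ∀ x : groupCohomology (Rep.trivial ℤ Q (Additive kˣ)) 2, x = 0 by rw [h x, h y]
  intro x
  have hkill : ∀ w : groupCohomology (Rep.trivial ℤ Q (Additive kˣ)) 2, n • w = 0 := by
    intro w
    rw [hn]
    exact Groth.Agent.H10.card_smul_groupCohomology_eq_zero _ 1 w
  -- step a
  have ha := mapShortComplex₂_exact hS2 2
  rw [ShortComplex.moduleCat_exact_iff] at ha
  have hx0 : (groupCohomology.map (MonoidHom.id Q)
      (trivHom Q (n • (LinearMap.id : Additive kˣ →ₗ[ℤ] Additive kˣ))) 2) x = 0 := by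
    have h1 : trivHom Q (n • (LinearMap.id : Additive kˣ →ₗ[ℤ] Additive kˣ))
        = n • 𝟙 (Rep.trivial ℤ Q (Additive kˣ)) := rfl
    rw [h1, Groth.Agent.H10.gc_map_nsmul, groupCohomology.map_id]
    exact hkill x
  obtain ⟨y, hy⟩ : ∃ y : groupCohomology (Rep.trivial ℤ Q (ZMod n)) 2,
      (groupCohomology.map (MonoidHom.id Q) (trivHom Q ι) 2) y = x := ha x hx0
  -- step b
  have hb := mapShortComplex₃_exact hS1 (i := 2) (j := 3) rfl
  rw [ShortComplex.moduleCat_exact_iff] at hb
  haveI : Subsingleton ((mapShortComplex₃ hS1 (i := 2) (j := 3) rfl).X₃) := hQ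
  obtain ⟨z, hz⟩ : ∃ z : groupCohomology (Rep.trivial ℤ Q ℤ) 2,
      (groupCohomology.map (MonoidHom.id Q) (trivHom Q red) 2) z = y :=
    hb y (Subsingleton.elim _ _)
  -- step c
  have e : trivHom Q red ≫ trivHom Q ι = n • trivHom Q ψ := by
    rw [trivHom_comp, hφ, trivHom_nsmul]
  have hc : x = (groupCohomology.map (MonoidHom.id Q) (trivHom Q red ≫ trivHom Q ι) 2) z := by
    rw [groupCohomology.map_id_comp]
    rw [← hy, ← hz]
    rfl
  rw [e, Groth.Agent.H10.gc_map_nsmul] at hc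
  rw [hc]
  exact hkill _

/-- Let Q be a finite group such that H^3(Q, ℤ) = 0 for the trivial action, and let k be a separably
closed field of characteristic p ≥ 0 with p not dividing the order of Q. Then H^2(Q, k^×) = 0, where
Q acts trivially on the units of k. (Groups and fields are taken in the lowest universe, as integral
coefficients in the group-cohomology library require.) -/
theorem result (Q : Type) [Group Q] [Finite Q]
    (hQ : Subsingleton (groupCohomology (Rep.trivial ℤ Q ℤ) 3)) (k : Type) [Field k] [IsSepClosed k]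
    (p : ℕ) [CharP k p] (hp : ¬ p ∣ Nat.card Q) :
    Subsingleton (groupCohomology (Rep.trivial ℤ Q (Additive kˣ)) 2) := by
  exact main Q hQ k p hp

end Groth.Agent.S19224
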