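import Groth.Statements.S19229
import Mathlib

set_option autoImplicit false
universe u v
open SigmaLin

namespace Groth.Agent.S19229

/-- Let k be a field with a ring endomorphism σ, V a finite-dimensional k-vector space and T : V → V an
additive map with T (c • v) = σ c • T v. If some iterate of T sends v to 0 and v lies in the
k-linear span of the image of every iterate of T, then v = 0. In other words the union of the
kernels of the iterates of T and the intersection of the spans of their images meet only in 0. -/
theorem result
    (k : Type u) [Field k] (σ : k →+* k)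
    (V : Type v) [AddCommGroup V] [Module k V] [FiniteDimensional k V] (T : V →ₛₗ[σ] V) (v : V)
    (hnil : ∃ n : ℕ, (⇑T)^[n] v = 0)
    (hss : ∀ n : ℕ, v ∈ Submodule.span k (Set.range ((⇑T)^[n]))) : v = 0 := by
  classical
  set W : ℕ → Submodule k V := fun n => Submodule.span k (Set.range ((⇑T)^[n])) with hW
  have hanti : ∀ n, W (n+1) ≤ W n := by
    intro n
    apply Submodule.span_mono
    rintro _ ⟨x, rfl⟩
    exact ⟨T x, by rw [Function.iterate_succ_apply]⟩
  have hantitone : Antitone W := antitone_nat_of_succ_le hanti
  -- T maps W n into W (n+1)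
  have hTW : ∀ n, ∀ w ∈ W n, T w ∈ W (n+1) := by
    intro n w hw
    induction hw using Submodule.span_induction with
    | mem x hx =>
      obtain ⟨y, rfl⟩ := hx
      exact Submodule.subset_span ⟨y, by rw [Function.iterate_succ_apply']⟩
    | zero => simp
    | add x y _ _ hx hy => rw [map_add]; exact add_mem hx hy
    | smul c x _ hx => rw [LinearMap.map_smulₛₗ]; exact Submodule.smul_mem _ _ hx
  -- stabilization
  obtain ⟨N, hN⟩ : ∃ N, ∀ m, N ≤ m → W N = W m := by
    have := IsArtinian.monotone_stabilizes (R := k) (M := V)
      ⟨fun n => OrderDual.toDual (W n), fun a b h => hantitone h⟩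
    obtain ⟨N, hN⟩ := this
    exact ⟨N, fun m hm => by simpa using hN m hm⟩
  have hWN1 : W (N+1) = W N := (hN (N+1) (Nat.le_succ N)).symm
  -- basis of W N
  let b := Module.finBasis k (W N)
  set d := Module.finrank k (W N) with hd
  let c : Fin d → V := fun i => T (b i : V)
  have hc_mem : ∀ i, c i ∈ W N := fun i => hWN1 ▸ hTW N _ (b i).2
  have hTexp : ∀ w : W N, T (w : V) = ∑ i, σ (b.repr w i) • c i := by
    intro w
    have hw : (w : V) = ∑ i, b.repr w i • (b i : V) := by
      have := congrArg Subtype.val (b.sum_repr w)
      rw [← this, Submodule.coe_sum]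
      exact Finset.sum_congr rfl fun i _ => by rw [Submodule.coe_smul]
    conv_lhs => rw [hw]
    rw [map_sum]
    exact Finset.sum_congr rfl fun i _ => by rw [LinearMap.map_smulₛₗ]
  have hspan : Submodule.span k (Set.range c) = W N := by
    apply le_antisymm
    · rw [Submodule.span_le]
      rintro _ ⟨i, rfl⟩
      exact hc_mem i
    · rw [← hWN1]
      apply Submodule.span_le.mpr
      rintro _ ⟨y, rfl⟩
      rw [Function.iterate_succ_apply']
      have hy : (⇑T)^[N] y ∈ W N := Submodule.subset_span ⟨y, rfl⟩
      rw [show (⇑T)^[N] y = ((⟨(⇑T)^[N] y, hy⟩ : W N) : V) from rfl, hTexp]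
      exact Submodule.sum_mem _ fun i _ => Submodule.smul_mem _ _ (Submodule.subset_span ⟨i, rfl⟩)
  have hli : LinearIndependent k c := by
    rw [linearIndependent_iff_card_eq_finrank_span, Set.finrank, hspan]
    simp [hd]
  have hσinj : Function.Injective σ := σ.injective
  have hTinj : ∀ w ∈ W N, T w = 0 → w = 0 := by
    intro w hw hTw
    have h1 := hTexp ⟨w, hw⟩
    rw [show ((⟨w, hw⟩ : W N) : V) = w from rfl, hTw] at h1
    have h2 := (Fintype.linearIndependent_iff.mp hli) _ h1.symm
    have h3 : b.repr ⟨w, hw⟩ = 0 := by
      ext i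
      have := h2 i
      rw [← map_zero σ] at this
      simpa using hσinj this
    have h4 : (⟨w, hw⟩ : W N) = 0 := by
      simpa using h3
    exact congrArg Subtype.val h4
  have hTWN : ∀ w ∈ W N, T w ∈ W N := fun w hw => hWN1 ▸ hTW N w hw
  have key : ∀ n : ℕ, ∀ w ∈ W N, (⇑T)^[n] w = 0 → w = 0 := by
    intro n
    induction n with
    | zero => intro w _ h; simpa using h
    | succ n ih =>
      intro w hw h
      rw [Function.iterate_succ_apply] at h
      exact hTinj w hw (ih (T w) (hTWN w hw) h)
  obtain ⟨n, hn⟩ := hnil
  exact key n v (hss N) hn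

end Groth.Agent.S19229
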