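import Groth.Statements.S19230
import Mathlib
import Groth.Agent.Lib.Helper8.SigmaLin
import Groth.Agent.S19229

set_option autoImplicit false
universe u v
open SigmaLin

namespace Groth.Agent.S19230

open Groth.Agent.Helper8.SigmaLin

/-- Let k be a field, σ a surjective ring endomorphism of k, V a finite-dimensional k-vector space and T
: V → V additive with T (c • v) = σ c • T v. Then the set of vectors killed by some iterate of T is
a k-subspace on which a single iterate of T vanishes, it is a complement of the intersection over n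
of the k-spans of the images of the n-th iterates, and T restricts to a bijection of that
intersection onto itself. -/
theorem result
    (k : Type u) [Field k] (σ : k →+* k) (hσ : Function.Surjective σ)
    (V : Type v) [AddCommGroup V] [Module k V] [FiniteDimensional k V] (T : V →ₛₗ[σ] V) :
    (∃ W : Submodule k V, (W : Set V) = {v : V | ∃ n : ℕ, (⇑T)^[n] v = 0} ∧
      (∃ N : ℕ, ∀ v ∈ W, (⇑T)^[N] v = 0) ∧
      IsCompl W (⨅ n : ℕ, Submodule.span k (Set.range ((⇑T)^[n])))) ∧
    Set.BijOn (⇑T) (⋂ n : ℕ, (Submodule.span k (Set.range ((⇑T)^[n])) : Set V))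
      (⋂ n : ℕ, (Submodule.span k (Set.range ((⇑T)^[n])) : Set V)) := by
  classical
  obtain ⟨N1, hN1⟩ := exists_spanRange_stable T
  obtain ⟨N2, hN2⟩ := exists_iterKer_stable T
  set M := max N1 N2 with hM
  have hM1 : N1 ≤ M := le_max_left _ _
  have hM2 : N2 ≤ M := le_max_right _ _
  have hS : ∀ m, M ≤ m → spanRange T M = spanRange T m := fun m hm => by
    rw [← hN1 M hM1, hN1 m (hM1.trans hm)]
  have hK : ∀ m, iterKer T m ≤ iterKer T M := by
    intro m
    rcases le_total m M with h | h
    · exact iterKer_mono T h
    · rw [← hN2 M hM2, hN2 m (hM2.trans h)]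
  have hI : (⨅ n : ℕ, Submodule.span k (Set.range ((⇑T)^[n]))) = spanRange T M := by
    apply le_antisymm
    · exact iInf_le _ M
    · apply le_iInf
      intro n
      rcases le_total n M with h | h
      · exact spanRange_antitone T h
      · rw [hS n h]
        exact le_rfl
  have hmemI : ∀ v ∈ spanRange T M, ∀ n : ℕ, v ∈ Submodule.span k (Set.range ((⇑T)^[n])) := by
    intro v hv n
    have h' : v ∈ ⨅ n : ℕ, Submodule.span k (Set.range ((⇑T)^[n])) := by rw [hI]; exact hv
    exact (Submodule.mem_iInf _).mp h' n
  have hIset : (⋂ n : ℕ, (Submodule.span k (Set.range ((⇑T)^[n])) : Set V)) =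
      (spanRange T M : Set V) := by
    rw [← hI]
    simp
  refine ⟨⟨iterKer T M, ?_, ⟨M, fun v hv => hv⟩, ?_⟩, ?_⟩
  · ext v
    constructor
    · intro hv
      exact ⟨M, hv⟩
    · rintro ⟨n, hn⟩
      exact hK n hn
  · rw [hI]
    constructor
    · rw [Submodule.disjoint_def]
      intro v hv1 hv2
      exact Groth.Agent.S19229.result k σ V T v ⟨M, hv1⟩ (hmemI v hv2)
    · rw [codisjoint_iff, eq_top_iff]
      intro v _
      have h1 : (⇑T)^[M] v ∈ spanRange T (M + M) := by
        rw [← hS (M + M) (Nat.le_add_right M M)]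
        exact Submodule.subset_span ⟨v, rfl⟩
      have h2 : (⇑T)^[M] v ∈ Set.range ((⇑T)^[M + M]) := by
        rw [← coe_spanRange_of_surjective hσ T (M + M)]
        exact h1
      obtain ⟨u, hu⟩ := h2
      rw [Function.iterate_add_apply] at hu
      have hdecomp : v = (v - (⇑T)^[M] u) + (⇑T)^[M] u := by abel
      rw [hdecomp]
      apply Submodule.add_mem_sup
      · rw [mem_iterKer, iterate_sub, hu, sub_self]
      · exact Submodule.subset_span ⟨u, rfl⟩
  · rw [hIset]
    refine ⟨?_, ?_, ?_⟩
    · intro w hw
      have h := map_mem_spanRange T M w hw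
      rw [← hS (M + 1) (Nat.le_succ M)] at h
      exact h
    · intro a ha b hb hab
      have hsub : a - b ∈ spanRange T M := sub_mem ha hb
      have h0 : T (a - b) = 0 := by rw [map_sub, hab, sub_self]
      have hz : a - b = 0 :=
        Groth.Agent.S19229.result k σ V T (a - b) ⟨1, by simpa using h0⟩ (hmemI _ hsub)
      exact sub_eq_zero.mp hz
    · intro w hw
      have hw' : w ∈ spanRange T (M + 1) := by
        rw [← hS (M + 1) (Nat.le_succ M)]
        exact hw
      have hr : w ∈ Set.range ((⇑T)^[M + 1]) := by
        rw [← coe_spanRange_of_surjective hσ T (M + 1)]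
        exact hw'
      obtain ⟨u, hu⟩ := hr
      rw [Function.iterate_succ_apply'] at hu
      exact ⟨(⇑T)^[M] u, Submodule.subset_span ⟨u, rfl⟩, hu⟩

end Groth.Agent.S19230
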