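import Groth.Statements.S19232
import Mathlib

set_option autoImplicit false
universe u v
open SigmaLin

namespace Groth.Agent.S19232

/-- Let k be a field with a ring endomorphism σ, and assume that for every n and every tuple (b_0, …,
b_n) of elements of k, not all zero, the equation x = Σ_{i=0}^{n} σ^{i+1}(x) σ^{i}(b_{n-i}) has a
nonzero solution x in k. Let V be a finite-dimensional k-vector space, T : V → V additive with T (c
• v) = σ c • T v, and e ∈ V a vector no iterate of T sends to 0. Then the k-span of the orbit e, T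
e, T² e, … contains a nonzero vector v with T v = v. -/
theorem result
    (k : Type u) [Field k] (σ : k →+* k)
    (V : Type v) [AddCommGroup V] [Module k V] [FiniteDimensional k V] (T : V →ₛₗ[σ] V)
    (h2 : ∀ (n : ℕ) (b : Fin (n + 1) → k), b ≠ 0 →
      ∃ x : k, x ≠ 0 ∧ x = ∑ i : Fin (n + 1), (⇑σ)^[i.val + 1] x * (⇑σ)^[i.val] (b (Fin.rev i)))
    (e : V) (he : ∀ m : ℕ, (⇑T)^[m] e ≠ 0) :
    ∃ v ∈ Submodule.span k (Set.range (fun m : ℕ => (⇑T)^[m] e)), v ≠ 0 ∧ T v = v := by
  classical
  set E : ℕ → V := fun m => (⇑T)^[m] e with hE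
  have hTE : ∀ m, T (E m) = E (m + 1) := fun m => (Function.iterate_succ_apply' (⇑T) m e).symm
  -- the chain of spans of initial segments of the orbit
  let S : ℕ → Submodule k V := fun n => Submodule.span k (Set.range (fun i : Fin n => E i))
  have hSmono : Monotone S := by
    apply monotone_nat_of_le_succ
    intro n
    apply Submodule.span_mono
    rintro _ ⟨i, rfl⟩
    exact ⟨Fin.castSucc i, rfl⟩
  have hSmem : ∀ n i, i < n → E i ∈ S n := fun n i hi => Submodule.subset_span ⟨⟨i, hi⟩, rfl⟩
  have hex : ∃ n, E n ∈ S n := by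
    obtain ⟨N, hN⟩ := (monotone_stabilizes_iff_noetherian (R := k) (M := V)).mpr inferInstance
      ⟨S, hSmono⟩
    refine ⟨N, ?_⟩
    have h1 : S N = S (N + 1) := hN (N + 1) (Nat.le_succ N)
    have h2 : E N ∈ S (N + 1) := hSmem (N + 1) N (Nat.lt_succ_self N)
    rw [← h1] at h2
    exact h2
  have h0 : ¬ E 0 ∈ S 0 := by
    intro h
    have hS0 : S 0 = ⊥ := by
      simp [S]
    rw [hS0, Submodule.mem_bot] at h
    exact he 0 h
  have hn1_spec : E (Nat.find hex) ∈ S (Nat.find hex) := Nat.find_spec hex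
  have hn1_pos : Nat.find hex ≠ 0 := by
    intro h
    rw [h] at hn1_spec
    exact h0 hn1_spec
  obtain ⟨n, hn⟩ : ∃ n, Nat.find hex = n + 1 := Nat.exists_eq_succ_of_ne_zero hn1_pos
  have hn_min : ¬ E n ∈ S n := Nat.find_min hex (by omega)
  rw [hn] at hn1_spec
  obtain ⟨a, ha⟩ := (Submodule.mem_span_range_iff_exists_fun k).mp hn1_spec
  have ha0 : a ≠ 0 := by
    rintro rfl
    have hz : E (n + 1) = 0 := by
      rw [← ha]
      simp
    exact he (n + 1) hz
  obtain ⟨y, hy0, hy⟩ := h2 n a ha0
  let a' : ℕ → k := fun m => if h : m < n + 1 then a ⟨m, h⟩ else 0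
  have ha' : ∀ i : Fin (n + 1), a' i = a i := by
    intro i
    have hi := i.2
    simp only [a']
    rw [dif_pos hi]
  let x : ℕ → k := fun j => ∑ i ∈ Finset.range (j + 1), (⇑σ)^[i + 1] y * (⇑σ)^[i] (a' (j - i))
  have hx0 : x 0 = σ y * a' 0 := by
    simp [x]
  have hxs : ∀ j, x (j + 1) = σ (x j) + σ y * a' (j + 1) := by
    intro j
    have e1 : x (j + 1) = ∑ i ∈ Finset.range (j + 1),
        (⇑σ)^[i + 1 + 1] y * (⇑σ)^[i + 1] (a' (j + 1 - (i + 1))) +
          (⇑σ)^[0 + 1] y * (⇑σ)^[0] (a' (j + 1 - 0)) :=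
      Finset.sum_range_succ' (fun i => (⇑σ)^[i + 1] y * (⇑σ)^[i] (a' (j + 1 - i))) (j + 1)
    have e2 : σ (x j) = ∑ i ∈ Finset.range (j + 1),
        σ ((⇑σ)^[i + 1] y * (⇑σ)^[i] (a' (j - i))) := map_sum σ _ _
    rw [e1, e2]
    congr 1
    · apply Finset.sum_congr rfl
      intro i _
      rw [Nat.add_sub_add_right, map_mul, Function.iterate_succ_apply' (⇑σ) (i + 1) y,
        Function.iterate_succ_apply' (⇑σ) i (a' (j - i))]
  have hxn : x n = y := by
    refine Eq.trans ?_ hy.symm
    simp only [x]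
    rw [Finset.sum_range]
    apply Finset.sum_congr rfl
    intro i _
    have hi : n - (i : ℕ) = ((Fin.rev i : Fin (n + 1)) : ℕ) := by
      rw [Fin.val_rev]
      omega
    rw [hi, ha']
  let v : V := ∑ j ∈ Finset.range (n + 1), x j • E j
  refine ⟨v, ?_, ?_, ?_⟩
  · apply Submodule.sum_mem
    intro j _
    exact Submodule.smul_mem _ _ (Submodule.subset_span ⟨j, rfl⟩)
  · intro hv
    apply hn_min
    have hv' : (∑ j ∈ Finset.range n, x j • E j) + y • E n = 0 := by
      rw [← hxn, ← Finset.sum_range_succ (fun j => x j • E j) n]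
      exact hv
    have hyE : y • E n = -(∑ j ∈ Finset.range n, x j • E j) := eq_neg_of_add_eq_zero_right hv'
    have hmem : y • E n ∈ S n := by
      rw [hyE]
      apply Submodule.neg_mem
      apply Submodule.sum_mem
      intro j hj
      exact Submodule.smul_mem _ _ (hSmem n j (Finset.mem_range.mp hj))
    have h3 := Submodule.smul_mem (S n) y⁻¹ hmem
    rwa [smul_smul, inv_mul_cancel₀ hy0, one_smul] at h3
  · have hTv : T v = (∑ j ∈ Finset.range n, σ (x j) • E (j + 1)) + σ y • E (n + 1) := by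
      have e1 : T v = ∑ j ∈ Finset.range (n + 1), T (x j • E j) := map_sum T _ _
      rw [e1, Finset.sum_range_succ, hxn]
      congr 1
      · apply Finset.sum_congr rfl
        intro j _
        rw [LinearMap.map_smulₛₗ, hTE]
      · rw [LinearMap.map_smulₛₗ, hTE]
    have hEn : E (n + 1) = ∑ i ∈ Finset.range (n + 1), a' i • E i := by
      refine ha.symm.trans ?_
      rw [Finset.sum_range]
      apply Finset.sum_congr rfl
      intro i _
      rw [ha']
    have hv : v = (∑ j ∈ Finset.range n, x (j + 1) • E (j + 1)) + x 0 • E 0 :=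
      Finset.sum_range_succ' (fun j => x j • E j) n
    calc T v = (∑ j ∈ Finset.range n, σ (x j) • E (j + 1)) + σ y • E (n + 1) := hTv
      _ = (∑ j ∈ Finset.range n, σ (x j) • E (j + 1)) +
            σ y • ((∑ j ∈ Finset.range n, a' (j + 1) • E (j + 1)) + a' 0 • E 0) := by
          rw [hEn, Finset.sum_range_succ' (fun i => a' i • E i) n]
      _ = (∑ j ∈ Finset.range n, x (j + 1) • E (j + 1)) + x 0 • E 0 := by
          rw [smul_add, Finset.smul_sum, ← add_assoc, ← Finset.sum_add_distrib, hx0, smul_smul]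
          congr 1
          apply Finset.sum_congr rfl
          intro j _
          rw [hxs, add_smul, smul_smul]
      _ = v := hv.symm

end Groth.Agent.S19232
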