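import Groth.Statements.S19233
import Mathlib
import Groth.Agent.Lib.Helper8.SigmaLin
import Groth.Agent.S19229
import Groth.Agent.S19232

set_option autoImplicit false
universe u v
open SigmaLin

namespace Groth.Agent.S19233

open Groth.Agent.Helper8.SigmaLin

/-- Let k be a field with a ring endomorphism σ such that (i) for every n and every tuple (b_0, …, b_n)
in k, not all zero, the equation x = Σ_{i=0}^{n} σ^{i+1}(x) σ^{i}(b_{n-i}) has a nonzero solution x
in k, and (ii) for every c in k there is y in k with σ(y) − y + c = 0. Let V be a finite-dimensional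
k-vector space and T : V → V additive with T (c • v) = σ c • T v, such that the image of T spans V
over k. Then V admits a k-basis consisting of vectors fixed by T, and the map v ↦ v − T v is
surjective. -/
theorem result
    (k : Type u) [Field k] (σ : k →+* k)
    (V : Type v) [AddCommGroup V] [Module k V] [FiniteDimensional k V] (T : V →ₛₗ[σ] V)
    (h1 : Submodule.span k (Set.range ⇑T) = ⊤)
    (h2 : ∀ (n : ℕ) (b : Fin (n + 1) → k), b ≠ 0 →
      ∃ x : k, x ≠ 0 ∧ x = ∑ i : Fin (n + 1), (⇑σ)^[i.val + 1] x * (⇑σ)^[i.val] (b (Fin.rev i)))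
    (h3 : ∀ c : k, ∃ y : k, σ y - y + c = 0) :
    (∃ b : Module.Basis (Fin (Module.finrank k V)) k V, ∀ i, T (b i) = b i) ∧
    Function.Surjective (fun v : V => v - T v) := by
  classical
  set F : Submodule k V := Submodule.span k {v | T v = v} with hF
  have hTF : ∀ v ∈ F, T v ∈ F := by
    intro v hv
    induction hv using Submodule.span_induction with
    | mem x hx =>
      rw [show T x = x from hx]
      exact Submodule.subset_span hx
    | zero =>
      rw [map_zero]
      exact zero_mem _
    | add x y _ _ hx hy =>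
      rw [map_add]
      exact add_mem hx hy
    | smul c x _ hx =>
      rw [LinearMap.map_smulₛₗ]
      exact Submodule.smul_mem _ _ hx
  -- `1 - T` is surjective on `F`
  have hsurjF : ∀ g ∈ F, ∃ f ∈ F, f - T f = g := by
    intro g hg
    induction hg using Submodule.closure_induction with
    | zero => exact ⟨0, zero_mem _, by simp⟩
    | add x y _ _ hx hy =>
      obtain ⟨f1, hf1, h1'⟩ := hx
      obtain ⟨f2, hf2, h2'⟩ := hy
      exact ⟨f1 + f2, add_mem hf1 hf2, by rw [map_add, ← h1', ← h2']; abel⟩
    | smul_mem r x hx =>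
      obtain ⟨y, hy⟩ := h3 r
      refine ⟨y • x, Submodule.smul_mem _ _ (Submodule.subset_span hx), ?_⟩
      rw [LinearMap.map_smulₛₗ, show T x = x from hx, ← sub_smul]
      congr 1
      linear_combination -hy
  have hFtop : F = ⊤ := by
    by_contra hne
    obtain ⟨w, hw⟩ : ∃ w, w ∉ F := by
      by_contra hall
      push Not at hall
      exact hne (eq_top_iff.mpr fun v _ => hall v)
    let Tbar : V ⧸ F →ₛₗ[σ] V ⧸ F := F.mapQ F T (fun v hv => hTF v hv)
    have hTbar : ∀ v, Tbar (F.mkQ v) = F.mkQ (T v) := fun v => rfl
    have h1bar : Submodule.span k (Set.range ⇑Tbar) = ⊤ := by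
      rw [eq_top_iff]
      rintro q -
      obtain ⟨v, rfl⟩ := F.mkQ_surjective q
      have hv : v ∈ Submodule.span k (Set.range ⇑T) := by
        rw [h1]
        trivial
      induction hv using Submodule.span_induction with
      | mem x hx =>
        obtain ⟨u, rfl⟩ := hx
        exact Submodule.subset_span ⟨F.mkQ u, hTbar u⟩
      | zero =>
        rw [map_zero]
        exact zero_mem _
      | add x y _ _ hx hy =>
        rw [map_add]
        exact add_mem hx hy
      | smul c x _ hx =>
        rw [map_smul]
        exact Submodule.smul_mem _ _ hx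
    have htop : ∀ n, Submodule.span k (Set.range ((⇑Tbar)^[n])) = ⊤ :=
      fun n => spanRange_eq_top_of_one Tbar h1bar n
    have hnz : ∀ m, (⇑Tbar)^[m] (F.mkQ w) ≠ 0 := by
      intro m hm
      have hz : F.mkQ w = 0 :=
        Groth.Agent.S19229.result k σ (V ⧸ F) Tbar (F.mkQ w) ⟨m, hm⟩
          (fun n => by rw [htop n]; trivial)
      rw [Submodule.mkQ_apply, Submodule.Quotient.mk_eq_zero] at hz
      exact hw hz
    obtain ⟨vbar, -, hv0, hvfix⟩ := Groth.Agent.S19232.result k σ (V ⧸ F) Tbar h2 (F.mkQ w) hnz
    obtain ⟨u, rfl⟩ := F.mkQ_surjective vbar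
    have huF : u ∉ F := by
      intro hu
      apply hv0
      rw [Submodule.mkQ_apply, Submodule.Quotient.mk_eq_zero]
      exact hu
    have hdiff : T u - u ∈ F := by
      rw [hTbar] at hvfix
      rw [Submodule.mkQ_apply, Submodule.mkQ_apply, Submodule.Quotient.eq] at hvfix
      exact hvfix
    obtain ⟨f, hf, hfe⟩ := hsurjF _ hdiff
    have hfix : T (u + f) = u + f := by
      rw [map_add]
      rw [sub_eq_sub_iff_add_eq_add] at hfe
      rw [add_comm u f]
      exact hfe.symm
    have huf : u + f ∈ F := Submodule.subset_span hfix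
    exact huF (by simpa using sub_mem huf hf)
  constructor
  · obtain ⟨b, hbs, hbspan, hbli⟩ := exists_linearIndependent k {v : V | T v = v}
    have hsp : ⊤ ≤ Submodule.span k (Set.range ((↑) : b → V)) := by
      rw [Subtype.range_coe, hbspan]
      exact hFtop.ge
    let B : Module.Basis b k V := Module.Basis.mk hbli hsp
    haveI : Fintype b := FiniteDimensional.fintypeBasisIndex B
    let e : b ≃ Fin (Module.finrank k V) :=
      Fintype.equivFinOfCardEq (Module.finrank_eq_card_basis B).symm
    refine ⟨B.reindex e, fun i => ?_⟩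
    rw [Module.Basis.reindex_apply, Module.Basis.mk_apply]
    exact hbs (e.symm i).2
  · intro g
    obtain ⟨f, -, hf⟩ := hsurjF g (by rw [hFtop]; trivial)
    exact ⟨f, hf⟩

end Groth.Agent.S19233
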