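import Groth.Statements.S19234
import Mathlib
import Groth.Agent.Lib.Helper8.SigmaLin
import Groth.Agent.S19230
import Groth.Agent.S19233

set_option autoImplicit false
universe u v
open SigmaLin

namespace Groth.Agent.S19234

/-- Let k be a field with a surjective ring endomorphism σ such that (i) for every n and every tuple
(b_0, …, b_n) in k, not all zero, the equation x = Σ_{i=0}^{n} σ^{i+1}(x) σ^{i}(b_{n-i}) has a
nonzero solution x in k, and (ii) for every c in k there is y with σ(y) − y + c = 0. Let V be a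
finite-dimensional k-vector space and T : V → V additive with T (c • v) = σ c • T v (no further
condition on T). Then v ↦ v − T v is surjective on V, and the intersection over n of the k-spans of
the images of the iterates of T (the part of V on which T is bijective) admits a k-basis of vectors
fixed by T; in particular the fixed vectors of T span that intersection over k. -/
theorem result
    (k : Type u) [Field k] (σ : k →+* k) (hσ : Function.Surjective σ)
    (V : Type v) [AddCommGroup V] [Module k V] [FiniteDimensional k V] (T : V →ₛₗ[σ] V)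
    (h2 : ∀ (n : ℕ) (b : Fin (n + 1) → k), b ≠ 0 →
      ∃ x : k, x ≠ 0 ∧ x = ∑ i : Fin (n + 1), (⇑σ)^[i.val + 1] x * (⇑σ)^[i.val] (b (Fin.rev i)))
    (h3 : ∀ c : k, ∃ y : k, σ y - y + c = 0) :
    Function.Surjective (fun v : V => v - T v) ∧
    ∃ b : Module.Basis (Fin (Module.finrank k ↥(⨅ n : ℕ, Submodule.span k (Set.range ((⇑T)^[n]))))) k ↥(⨅ n : ℕ, Submodule.span k (Set.range ((⇑T)^[n]))),
      ∀ i, T (b i : V) = (b i : V) := by
  classical
  obtain ⟨⟨W, -, ⟨N, hN⟩, hcompl⟩, hbij⟩ := Groth.Agent.S19230.result k σ hσ V T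
  set I : Submodule k V := ⨅ n : ℕ, Submodule.span k (Set.range ((⇑T)^[n])) with hI
  have hIset : (⋂ n : ℕ, (Submodule.span k (Set.range ((⇑T)^[n])) : Set V)) = (I : Set V) := by
    rw [hI]
    simp
  rw [hIset] at hbij
  have hTI : ∀ w : I, T (w : V) ∈ I := fun w => hbij.mapsTo w.2
  let TI : I →ₛₗ[σ] I := (T.domRestrict I).codRestrict I hTI
  have hTIapp : ∀ w : I, ((TI w : I) : V) = T (w : V) := fun w => rfl
  have h1I : Submodule.span k (Set.range ⇑TI) = ⊤ := by
    rw [eq_top_iff]
    rintro ⟨w, hw⟩ -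
    obtain ⟨u, hu, hTu⟩ := hbij.surjOn hw
    exact Submodule.subset_span ⟨⟨u, hu⟩, Subtype.ext hTu⟩
  obtain ⟨⟨b, hb⟩, hsurjI⟩ := Groth.Agent.S19233.result k σ I TI h1I h2 h3
  refine ⟨?_, ⟨b, fun i => ?_⟩⟩
  · intro v
    have hv : v ∈ W ⊔ I := by
      rw [hcompl.sup_eq_top]
      trivial
    obtain ⟨w, hw, i, hi, rfl⟩ := Submodule.mem_sup.mp hv
    obtain ⟨i', hi'⟩ := hsurjI ⟨i, hi⟩
    have hi'' : (i' : V) - T (i' : V) = i := congrArg Subtype.val hi'
    have htel : (∑ j ∈ Finset.range N, (⇑T)^[j] w) - T (∑ j ∈ Finset.range N, (⇑T)^[j] w) = w := by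
      have h1 : T (∑ j ∈ Finset.range N, (⇑T)^[j] w) = ∑ j ∈ Finset.range N, (⇑T)^[j + 1] w := by
        rw [map_sum]
        apply Finset.sum_congr rfl
        intro j _
        rw [Function.iterate_succ_apply']
      rw [h1, ← Finset.sum_sub_distrib, Finset.sum_range_sub' (fun j => (⇑T)^[j] w) N, hN w hw]
      simp
    refine ⟨(∑ j ∈ Finset.range N, (⇑T)^[j] w) + (i' : V), ?_⟩
    show (∑ j ∈ Finset.range N, (⇑T)^[j] w) + (i' : V) -
      T ((∑ j ∈ Finset.range N, (⇑T)^[j] w) + (i' : V)) = w + i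
    rw [map_add, add_sub_add_comm, htel, hi'']
  · exact congrArg Subtype.val (hb i)

end Groth.Agent.S19234
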