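import Groth.Statements.S19235
import Mathlib
import Groth.Agent.Lib.Helper8.SigmaLinLocal
import Groth.Agent.S19234

set_option autoImplicit false
universe u v
open SigmaLin

namespace Groth.Agent.S19235

open Groth.Agent.Helper8.SigmaLinLocal IsLocalRing

/-- Let p be a prime number and R a local ring whose maximal ideal is generated by p and in which p^n =
0 for some n. Let σ be a ring endomorphism of R and σ̄ the induced endomorphism of the residue field
k = R/(p); assume σ̄ is surjective, that for every m and every tuple (b_0, …, b_m) in k, not all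
zero, the equation x = Σ_{i=0}^{m} σ̄^{i+1}(x) σ̄^{i}(b_{m-i}) has a nonzero solution x in k, and
that for every c in k there is y with σ̄(y) − y + c = 0. Let M be a finitely generated R-module and
T : M → M additive with T (r • m) = σ r • T m. Then the map m ↦ m − T m is surjective on M. -/
theorem result
    (p : ℕ) [Fact p.Prime] (R : Type u) [CommRing R] [IsLocalRing R]
    (hmax : IsLocalRing.maximalIdeal R = Ideal.span {(p : R)}) (n : ℕ) (hn : (p : R) ^ n = 0)
    (σ : R →+* R) (σbar : IsLocalRing.ResidueField R →+* IsLocalRing.ResidueField R)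
    (hσbar : ∀ r : R, σbar (IsLocalRing.residue R r) = IsLocalRing.residue R (σ r))
    (hsurj : Function.Surjective σbar)
    (h2 : ∀ (n : ℕ) (b : Fin (n + 1) → IsLocalRing.ResidueField R), b ≠ 0 →
      ∃ x : IsLocalRing.ResidueField R, x ≠ 0 ∧ x = ∑ i : Fin (n + 1), (⇑σbar)^[i.val + 1] x * (⇑σbar)^[i.val] (b (Fin.rev i)))
    (h3 : ∀ c : IsLocalRing.ResidueField R, ∃ y : IsLocalRing.ResidueField R, σbar y - y + c = 0)
    (M : Type v) [AddCommGroup M] [Module R M] [Module.Finite R M] (T : M →ₛₗ[σ] M) :
    Function.Surjective (fun m : M => m - T m) := by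
  classical
  have hsurjV := (Groth.Agent.S19234.result (ResidueField R) σbar hsurj
    (M ⧸ (maximalIdeal R • ⊤ : Submodule R M)) (residueMap hσbar T) h2 h3).1
  have hpN : ∀ x : M, x ∈ (maximalIdeal R • ⊤ : Submodule R M) ↔ ∃ m' : M, x = (p : R) • m' := by
    intro x
    rw [hmax, Submodule.ideal_span_singleton_smul, Submodule.mem_smul_pointwise_iff_exists]
    constructor
    · rintro ⟨b, -, rfl⟩
      exact ⟨b, rfl⟩
    · rintro ⟨b, rfl⟩
      exact ⟨b, trivial, rfl⟩
  have hσp : ∀ j : ℕ, σ ((p : R) ^ j) = (p : R) ^ j := by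
    intro j
    rw [map_pow, map_natCast]
  have key : ∀ j : ℕ, ∀ m : M, ∃ u m' : M, m - (u - T u) = (p : R) ^ j • m' := by
    intro j
    induction j with
    | zero =>
      intro m
      exact ⟨0, m, by simp⟩
    | succ j ih =>
      intro m
      obtain ⟨u, m', hum⟩ := ih m
      obtain ⟨vbar, hvbar⟩ := hsurjV (Submodule.Quotient.mk m')
      obtain ⟨u', rfl⟩ := Submodule.Quotient.mk_surjective _ vbar
      have hvbar' : (Submodule.Quotient.mk u' - residueMap hσbar T (Submodule.Quotient.mk u') :
          M ⧸ (maximalIdeal R • ⊤ : Submodule R M)) = Submodule.Quotient.mk m' := hvbar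
      have hmem : m' - (u' - T u') ∈ (maximalIdeal R • ⊤ : Submodule R M) := by
        rw [← Submodule.Quotient.mk_eq_zero, Submodule.Quotient.mk_sub, Submodule.Quotient.mk_sub,
          ← hvbar', residueMap_mk, sub_self]
      obtain ⟨m'', hm''⟩ := (hpN _).mp hmem
      refine ⟨u + (p : R) ^ j • u', m'', ?_⟩
      rw [map_add, LinearMap.map_smulₛₗ, hσp, pow_succ, mul_smul, ← hm'', smul_sub, smul_sub, ← hum]
      abel
  intro m
  obtain ⟨u, m', h⟩ := key n m
  rw [hn, zero_smul, sub_eq_zero] at h
  exact ⟨u, h.symm⟩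

end Groth.Agent.S19235
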