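import Groth.Statements.S19236
import Mathlib
import Groth.Agent.Lib.Helper8.SigmaLinLocal
import Groth.Agent.S19234
import Groth.Agent.S19235

set_option autoImplicit false
universe u v
open SigmaLin

namespace Groth.Agent.S19236

open Groth.Agent.Helper8.SigmaLinLocal IsLocalRing

/-- the reduction of `M` modulo the maximal ideal -/
abbrev Quo (R : Type u) [CommRing R] [IsLocalRing R] (M : Type v) [AddCommGroup M] [Module R M] :
    Type v := M ⧸ (maximalIdeal R • ⊤ : Submodule R M)

theorem aux (p : ℕ) [Fact p.Prime] (R : Type u) [CommRing R] [IsLocalRing R]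
    (hmax : IsLocalRing.maximalIdeal R = Ideal.span {(p : R)}) (n : ℕ) (hn : (p : R) ^ n = 0)
    (σ : R →+* R) (σbar : IsLocalRing.ResidueField R →+* IsLocalRing.ResidueField R)
    (hσbar : ∀ r : R, σbar (IsLocalRing.residue R r) = IsLocalRing.residue R (σ r))
    (hsurj : Function.Surjective σbar)
    (h2 : ∀ (n : ℕ) (b : Fin (n + 1) → IsLocalRing.ResidueField R), b ≠ 0 →
      ∃ x : IsLocalRing.ResidueField R, x ≠ 0 ∧ x = ∑ i : Fin (n + 1), (⇑σbar)^[i.val + 1] x * (⇑σbar)^[i.val] (b (Fin.rev i)))
    (h3 : ∀ c : IsLocalRing.ResidueField R, ∃ y : IsLocalRing.ResidueField R, σbar y - y + c = 0)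
    (hlift : ∀ x : IsLocalRing.ResidueField R, σbar x = x → ∃ r : R, σ r = r ∧ IsLocalRing.residue R r = x)
    (j : ℕ) :
    ∀ (M : Type v) [AddCommGroup M] [Module R M] [Module.Finite R M] (T : M →ₛₗ[σ] M),
      (∀ m : M, (p : R) ^ j • m = 0) →
      ∃ s : Finset M, (∀ m ∈ s, T m = m) ∧
        ∀ m : M, T m = m → m ∈ Submodule.span (RingHom.eqLocus σ (RingHom.id R)) (s : Set M) := by
  classical
  induction j with
  | zero =>
    intro M _ _ _ T hM
    refine ⟨∅, by simp, fun m _ => ?_⟩
    have h0 : m = 0 := by simpa using hM m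
    rw [h0]
    exact zero_mem _
  | succ j ih =>
    intro M _ _ _ T hM
    let f : M →ₗ[R] M := LinearMap.lsmul R M (p : R)
    let M' : Submodule R M := LinearMap.range f
    have : Module.Finite R M' := Module.Finite.range f
    have hM'mem : ∀ x : M, x ∈ M' ↔ ∃ m', x = (p : R) • m' := by
      intro x
      constructor
      · rintro ⟨m', rfl⟩
        exact ⟨m', rfl⟩
      · rintro ⟨m', rfl⟩
        exact ⟨m', rfl⟩
    have hTM' : ∀ w : M', T (w : M) ∈ M' := by
      rintro ⟨w, hw⟩
      obtain ⟨m', rfl⟩ := (hM'mem w).mp hw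
      show T ((p : R) • m') ∈ M'
      rw [LinearMap.map_smulₛₗ, map_natCast]
      exact (hM'mem _).mpr ⟨T m', rfl⟩
    let T' : M' →ₛₗ[σ] M' := (T.domRestrict M').codRestrict M' hTM'
    have hT'app : ∀ w : M', ((T' w : M') : M) = T (w : M) := fun w => rfl
    have hM'kill : ∀ w : M', (p : R) ^ j • w = 0 := by
      rintro ⟨w, hw⟩
      obtain ⟨m', rfl⟩ := (hM'mem w).mp hw
      apply Subtype.ext
      show (p : R) ^ j • ((p : R) • m') = 0
      rw [smul_smul, ← pow_succ]
      exact hM m'
    obtain ⟨s', hs'fix, hs'gen⟩ := ih M' T' hM'kill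
    have hN : (maximalIdeal R • ⊤ : Submodule R M) = M' := by
      ext x
      rw [hmax, Submodule.ideal_span_singleton_smul, Submodule.mem_smul_pointwise_iff_exists, hM'mem]
      constructor
      · rintro ⟨b, -, rfl⟩
        exact ⟨b, rfl⟩
      · rintro ⟨b, rfl⟩
        exact ⟨b, trivial, rfl⟩
    obtain ⟨-, b, hb⟩ := Groth.Agent.S19234.result (ResidueField R) σbar hsurj (Quo R M)
      (residueMap hσbar T) h2 h3
    have hsurjM' := Groth.Agent.S19235.result p R hmax n hn σ σbar hσbar hsurj h2 h3 M' T'
    have hlift_b : ∀ i, ∃ e : M, T e = e ∧ (Submodule.Quotient.mk e : Quo R M) = (b i : Quo R M) := by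
      intro i
      obtain ⟨v, hv⟩ := Submodule.Quotient.mk_surjective _ ((b i : Quo R M))
      have hdiff : T v - v ∈ M' := by
        rw [← hN, ← Submodule.Quotient.mk_eq_zero, Submodule.Quotient.mk_sub,
          ← residueMap_mk hσbar T, hv, hb i, sub_self]
      obtain ⟨u, hu⟩ := hsurjM' ⟨T v - v, hdiff⟩
      have hu' : (u : M) - T (u : M) = T v - v := congrArg Subtype.val hu
      refine ⟨v + u, ?_, ?_⟩
      · rw [map_add]
        rw [sub_eq_sub_iff_add_eq_add] at hu'
        rw [← hu', add_comm]
      · rw [Submodule.Quotient.mk_add, hv]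
        have hz : (Submodule.Quotient.mk (u : M) : Quo R M) = 0 := by
          rw [Submodule.Quotient.mk_eq_zero, hN]
          exact u.2
        rw [hz, add_zero]
    choose e he_fix he_mk using hlift_b
    refine ⟨Finset.image e Finset.univ ∪ Finset.image (Subtype.val) s', ?_, ?_⟩
    · intro m hm
      rcases Finset.mem_union.mp hm with h | h
      · obtain ⟨i, -, rfl⟩ := Finset.mem_image.mp h
        exact he_fix i
      · obtain ⟨w, hw, rfl⟩ := Finset.mem_image.mp h
        exact congrArg Subtype.val (hs'fix w hw)
    · intro m hm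
      have hmkfix : residueMap hσbar T (Submodule.Quotient.mk m) = (Submodule.Quotient.mk m : Quo R M) := by
        rw [residueMap_mk, hm]
      have hmkI : (Submodule.Quotient.mk m : Quo R M) ∈
          ⨅ n : ℕ, Submodule.span (ResidueField R) (Set.range ((⇑(residueMap hσbar T))^[n])) := by
        rw [Submodule.mem_iInf]
        intro n
        apply Submodule.subset_span
        exact ⟨Submodule.Quotient.mk m, Function.iterate_fixed hmkfix n⟩
      obtain ⟨a, hsum⟩ : ∃ a : _ → ResidueField R,
          (Submodule.Quotient.mk m : Quo R M) = ∑ i, a i • (b i : Quo R M) := by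
        refine ⟨fun i => b.repr ⟨Submodule.Quotient.mk m, hmkI⟩ i, ?_⟩
        have h1 := congrArg Subtype.val (b.sum_repr ⟨Submodule.Quotient.mk m, hmkI⟩)
        rw [Submodule.coe_sum] at h1
        refine (h1.symm : (Submodule.Quotient.mk m : Quo R M) = _).trans ?_
        exact Finset.sum_congr rfl fun i _ => by rw [Submodule.coe_smul]
      have hli : LinearIndependent (ResidueField R) (fun i => (b i : Quo R M)) :=
        b.linearIndependent.map' (Submodule.subtype _) (Submodule.ker_subtype _)
      have hafix : ∀ i, σbar (a i) = a i := by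
        have h1 : (∑ i, σbar (a i) • (b i : Quo R M)) = ∑ i, a i • (b i : Quo R M) := by
          rw [← hsum]
          conv_rhs => rw [← hmkfix, hsum]
          rw [map_sum]
          apply Finset.sum_congr rfl
          intro i _
          rw [LinearMap.map_smulₛₗ, hb i]
        have h2' := Fintype.linearIndependent_iff.mp hli (fun i => σbar (a i) - a i)
          (by simp only [sub_smul, Finset.sum_sub_distrib, h1, sub_self])
        intro i
        exact sub_eq_zero.mp (h2' i)
      choose r hr_fix hr_res using fun i => hlift _ (hafix i)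
      have hm0fix : T (m - ∑ i, r i • e i) = m - ∑ i, r i • e i := by
        rw [map_sub, map_sum, hm]
        congr 1
        apply Finset.sum_congr rfl
        intro i _
        rw [LinearMap.map_smulₛₗ, hr_fix, he_fix]
      have hm0mem : m - ∑ i, r i • e i ∈ M' := by
        rw [← hN, ← Submodule.Quotient.mk_eq_zero, Submodule.Quotient.mk_sub, sub_eq_zero]
        conv_lhs => rw [hsum]
        rw [← Submodule.mkQ_apply, map_sum]
        apply Finset.sum_congr rfl
        intro i _
        rw [Submodule.mkQ_apply, Submodule.Quotient.mk_smul, he_mk, ← hr_res, residue_smul]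
      have hm0span := hs'gen ⟨m - ∑ i, r i • e i, hm0mem⟩ (Subtype.ext hm0fix)
      have hm_eq : m = ∑ i, r i • e i + (m - ∑ i, r i • e i) := by abel
      rw [hm_eq]
      apply add_mem
      · apply Submodule.sum_mem
        intro i _
        have hri : r i • e i = (⟨r i, hr_fix i⟩ : RingHom.eqLocus σ (RingHom.id R)) • e i := rfl
        rw [hri]
        apply Submodule.smul_mem
        apply Submodule.subset_span
        rw [Finset.coe_union]
        left
        rw [Finset.coe_image]
        exact ⟨i, Finset.mem_coe.mpr (Finset.mem_univ i), rfl⟩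
      · have h1 := Submodule.mem_map_of_mem
          (f := (M'.subtype.restrictScalars (RingHom.eqLocus σ (RingHom.id R)))) hm0span
        rw [Submodule.map_span] at h1
        refine Submodule.span_mono ?_ h1
        rintro _ ⟨w, hw, rfl⟩
        rw [Finset.coe_union]
        right
        rw [Finset.coe_image]
        exact ⟨w, hw, rfl⟩

/-- Let p be a prime number and R a local ring whose maximal ideal is generated by p and in which p^n =
0 for some n. Let σ be a ring endomorphism of R and σ̄ the induced endomorphism of the residue field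
k = R/(p); assume σ̄ is surjective, that for every m and every tuple (b_0, …, b_m) in k, not all
zero, the equation x = Σ_{i=0}^{m} σ̄^{i+1}(x) σ̄^{i}(b_{m-i}) has a nonzero solution x in k, that
for every c in k there is y with σ̄(y) − y + c = 0, and that every element of k fixed by σ̄ is the
residue of an element of R fixed by σ. Let M be a finitely generated R-module and T : M → M additive
with T (r • m) = σ r • T m. Then the T-fixed elements of M form a finitely generated module over the
ring of σ-fixed elements of R: there are finitely many T-fixed elements such that every T-fixed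
element is a linear combination of them with σ-fixed coefficients. -/
theorem result
    (p : ℕ) [Fact p.Prime] (R : Type u) [CommRing R] [IsLocalRing R]
    (hmax : IsLocalRing.maximalIdeal R = Ideal.span {(p : R)}) (n : ℕ) (hn : (p : R) ^ n = 0)
    (σ : R →+* R) (σbar : IsLocalRing.ResidueField R →+* IsLocalRing.ResidueField R)
    (hσbar : ∀ r : R, σbar (IsLocalRing.residue R r) = IsLocalRing.residue R (σ r))
    (hsurj : Function.Surjective σbar)
    (h2 : ∀ (n : ℕ) (b : Fin (n + 1) → IsLocalRing.ResidueField R), b ≠ 0 →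
      ∃ x : IsLocalRing.ResidueField R, x ≠ 0 ∧ x = ∑ i : Fin (n + 1), (⇑σbar)^[i.val + 1] x * (⇑σbar)^[i.val] (b (Fin.rev i)))
    (h3 : ∀ c : IsLocalRing.ResidueField R, ∃ y : IsLocalRing.ResidueField R, σbar y - y + c = 0)
    (M : Type v) [AddCommGroup M] [Module R M] [Module.Finite R M] (T : M →ₛₗ[σ] M)
    (hlift : ∀ x : IsLocalRing.ResidueField R, σbar x = x → ∃ r : R, σ r = r ∧ IsLocalRing.residue R r = x) :
    ∃ s : Finset M, (∀ m ∈ s, T m = m) ∧
      ∀ m : M, T m = m → ∃ c : M → R, (∀ x ∈ s, σ (c x) = c x) ∧ m = ∑ x ∈ s, c x • x := by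
  classical
  obtain ⟨s, hsfix, hsgen⟩ := aux p R hmax n hn σ σbar hσbar hsurj h2 h3 hlift n M T
    (fun m => by rw [hn, zero_smul])
  refine ⟨s, hsfix, fun m hm => ?_⟩
  obtain ⟨f, -, hf⟩ := Submodule.mem_span_finset.mp (hsgen m hm)
  refine ⟨fun x => (f x : R), fun x _ => (f x).2, ?_⟩
  rw [← hf]
  rfl

end Groth.Agent.S19236
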