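import Groth.Statements.S19237
import Mathlib
import Groth.Agent.Lib.Helper8.TruncWitt
import Groth.Agent.Lib.Helper8.FrobSolv
import Groth.Agent.S19235

set_option autoImplicit false
universe u v
open SigmaLin

namespace Groth.Agent.S19237

open Groth.Agent.Helper8 Groth.Agent.Helper8.TruncWitt Groth.Agent.Helper8.FrobSolv

/-- Let k be an algebraically closed field of characteristic p > 0 and n a natural number; let M be a
finitely generated module over the ring W_n(k) of truncated Witt vectors and T : M → M an additive
map with T (c • m) = σ(c) • T m, where σ is either the Frobenius endomorphism of W_n(k) (induced by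
the p-th power map of k) or its inverse (induced by the inverse of the p-th power map). Then m ↦ T m
− m is surjective on M. (The printed statement takes k perfect and separably closed, which is the
same as algebraically closed.) -/
theorem result
    (p : ℕ) [Fact p.Prime] (k : Type u) [Field k] [CharP k p] [IsAlgClosed k] (n : ℕ)
    (σ : TruncatedWittVector p n k →+* TruncatedWittVector p n k)
    (hσ : σ = WittGrp.truncMap p n (frobenius k p) ∨
      σ = WittGrp.truncMap p n (frobeniusEquiv k p).symm.toRingHom)
    (M : Type v) [AddCommGroup M] [Module (TruncatedWittVector p n k) M] [Module.Finite (TruncatedWittVector p n k) M]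
    (T : M →ₛₗ[σ] M) :
    Function.Surjective (fun m : M => T m - m) := by
  classical
  rcases n with _ | n
  · have h1 : Subsingleton (TruncatedWittVector p 0 k) :=
      ⟨fun a b => TruncatedWittVector.ext fun i => i.elim0⟩
    have h2 : Subsingleton M := Module.subsingleton (TruncatedWittVector p 0 k) M
    intro g
    exact ⟨0, Subsingleton.elim _ _⟩
  · have key : ∀ (f : k →+* k), Function.Bijective f → H2 k f → H3 k f →
        ∀ (T : M →ₛₗ[WittGrp.truncMap p (n + 1) f] M), Function.Surjective (fun m : M => T m - m) := by
      intro f hf h2 h3 T
      have hs := Groth.Agent.S19235.result p (TruncatedWittVector p (n + 1) k)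
        (maximalIdeal_eq p k n) (n + 1) (natCast_p_pow_eq_zero p k (n + 1))
        (WittGrp.truncMap p (n + 1) f) (sigmaBar p k n f) (sigmaBar_residue p k n f)
        (sigmaBar_surjective p k n f hf)
        (H2.transport (resHom p k n) (resHom_bijective p k n) (sigmaBar p k n f) f
          (resHom_sigmaBar p k n f) h2)
        (H3.transport (resHom p k n) (resHom_bijective p k n) (sigmaBar p k n f) f
          (resHom_sigmaBar p k n f) h3) M T
      intro g
      obtain ⟨m, hm⟩ := hs (-g)
      refine ⟨m, ?_⟩
      have hm' : m - T m = -g := hm
      show T m - m = g
      rw [← neg_sub, hm', neg_neg]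
    rcases hσ with rfl | rfl
    · exact key (frobenius k p) (bijective_frobenius k p) (h2_frobenius p k) (h3_frobenius p k) T
    · exact key _ (frobeniusEquiv k p).symm.bijective (h2_frobeniusEquiv_symm p k)
        (h3_frobeniusEquiv_symm p k) T

end Groth.Agent.S19237
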