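import Groth.Statements.S19238
import Mathlib
import Groth.Agent.Lib.Helper8.TruncWitt
import Groth.Agent.Lib.Helper8.FrobSolv
import Groth.Agent.S19236

set_option autoImplicit false
universe u v
open SigmaLin

namespace Groth.Agent.S19238

open Groth.Agent.Helper8 Groth.Agent.Helper8.TruncWitt Groth.Agent.Helper8.FrobSolv IsLocalRing

/-- Let k be an algebraically closed field of characteristic p > 0 and n a natural number; let M be a
finitely generated module over the ring W_n(k) of truncated Witt vectors and T : M → M an additive
map with T (c • m) = σ(c) • T m, where σ is either the Frobenius endomorphism of W_n(k) or its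
inverse. Then the set of T-fixed elements of M is finite. (The printed statement says that the
T-fixed elements form a finitely generated module over the σ-fixed subring of W_n(k), which is the
finite ring of integers modulo p^n.) -/
theorem result
    (p : ℕ) [Fact p.Prime] (k : Type u) [Field k] [CharP k p] [IsAlgClosed k] (n : ℕ)
    (σ : TruncatedWittVector p n k →+* TruncatedWittVector p n k)
    (hσ : σ = WittGrp.truncMap p n (frobenius k p) ∨
      σ = WittGrp.truncMap p n (frobeniusEquiv k p).symm.toRingHom)
    (M : Type v) [AddCommGroup M] [Module (TruncatedWittVector p n k) M] [Module.Finite (TruncatedWittVector p n k) M]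
    (T : M →ₛₗ[σ] M) :
    {m : M | T m = m}.Finite := by
  classical
  have hp1 : 1 < p := (Fact.out : p.Prime).one_lt
  rcases n with _ | n
  · have h1 : Subsingleton (TruncatedWittVector p 0 k) :=
      ⟨fun a b => TruncatedWittVector.ext fun i => i.elim0⟩
    have h2 : Subsingleton M := Module.subsingleton (TruncatedWittVector p 0 k) M
    exact Set.toFinite _
  · have hA : {a : k | a ^ p = a}.Finite := by
      have hne : (Polynomial.X ^ p - Polynomial.X : Polynomial k) ≠ 0 := by
        apply Polynomial.ne_zero_of_natDegree_gt (n := 0)
        have hlt : (Polynomial.X : Polynomial k).natDegree < (Polynomial.X ^ p : Polynomial k).natDegree := by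
          rw [Polynomial.natDegree_X_pow, Polynomial.natDegree_X]
          exact hp1
        rw [Polynomial.natDegree_sub_eq_left_of_natDegree_lt hlt, Polynomial.natDegree_X_pow]
        omega
      refine (Polynomial.finite_setOfPred_isRoot hne).subset ?_
      intro a ha
      show (Polynomial.X ^ p - Polynomial.X : Polynomial k).IsRoot a
      rw [Polynomial.IsRoot.def, Polynomial.eval_sub, Polynomial.eval_pow, Polynomial.eval_X]
      exact sub_eq_zero.mpr ha
    have key : ∀ (f : k →+* k), Function.Bijective f → H2 k f → H3 k f →
        (∀ a : k, f a = a → a ^ p = a) →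
        ∀ (T : M →ₛₗ[WittGrp.truncMap p (n + 1) f] M), {m : M | T m = m}.Finite := by
      intro f hf h2 h3 hfa T
      have hlift : ∀ x : ResidueField (TruncatedWittVector p (n + 1) k), sigmaBar p k n f x = x →
          ∃ r : TruncatedWittVector p (n + 1) k,
            WittGrp.truncMap p (n + 1) f r = r ∧ residue _ r = x := by
        intro x hx
        have ha : f (resHom p k n x) = resHom p k n x := by
          rw [← resHom_sigmaBar, hx]
        refine ⟨TruncatedWittVector.mk p fun _ => resHom p k n x, ?_, ?_⟩
        · apply TruncatedWittVector.ext
          intro i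
          rw [WittGrp.coeff_truncMap, TruncatedWittVector.coeff_mk, ha]
        · apply (resHom_bijective p k n).1
          rw [resHom_residue, TruncatedWittVector.coeff_mk]
      obtain ⟨s, hsfix, hsgen⟩ := Groth.Agent.S19236.result p (TruncatedWittVector p (n + 1) k)
        (maximalIdeal_eq p k n) (n + 1) (natCast_p_pow_eq_zero p k (n + 1))
        (WittGrp.truncMap p (n + 1) f) (sigmaBar p k n f) (sigmaBar_residue p k n f)
        (sigmaBar_surjective p k n f hf)
        (H2.transport (resHom p k n) (resHom_bijective p k n) (sigmaBar p k n f) f
          (resHom_sigmaBar p k n f) h2)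
        (H3.transport (resHom p k n) (resHom_bijective p k n) (sigmaBar p k n f) f
          (resHom_sigmaBar p k n f) h3) M T hlift
      have hfin : {r : TruncatedWittVector p (n + 1) k | WittGrp.truncMap p (n + 1) f r = r}.Finite := by
        have hpi : (Set.univ.pi (fun _ : Fin (n + 1) => {a : k | a ^ p = a})).Finite :=
          Set.Finite.pi (fun _ => hA)
        apply Set.Finite.of_finite_image (f := fun r i => TruncatedWittVector.coeff i r)
        · apply hpi.subset
          rintro _ ⟨r, hr, rfl⟩
          intro i _
          apply hfa
          have h1 := congrArg (TruncatedWittVector.coeff i) hr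
          rwa [WittGrp.coeff_truncMap] at h1
        · intro r1 _ r2 _ h
          exact TruncatedWittVector.ext fun i => congrFun h i
      have hfin' : Finite {r : TruncatedWittVector p (n + 1) k // WittGrp.truncMap p (n + 1) f r = r} :=
        Set.finite_coe_iff.mpr hfin
      let Φ : (s → {r : TruncatedWittVector p (n + 1) k // WittGrp.truncMap p (n + 1) f r = r}) → M :=
        fun c => ∑ x ∈ s.attach, (c x : TruncatedWittVector p (n + 1) k) • (x : M)
      apply (Set.finite_range Φ).subset
      intro m hm
      obtain ⟨c, hc, hmc⟩ := hsgen m hm
      refine ⟨fun x => ⟨c x, hc x x.2⟩, ?_⟩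
      simp only [Φ]
      rw [hmc]
      exact Finset.sum_attach s (fun x => c x • x)
    rcases hσ with rfl | rfl
    · refine key (frobenius k p) (bijective_frobenius k p) (h2_frobenius p k) (h3_frobenius p k) ?_ T
      intro a ha
      rw [← frobenius_def, ha]
    · refine key _ (frobeniusEquiv k p).symm.bijective (h2_frobeniusEquiv_symm p k)
        (h3_frobeniusEquiv_symm p k) ?_ T
      intro a ha
      have h1 : (frobeniusEquiv k p).symm a = a := ha
      have h2 := congrArg (frobeniusEquiv k p) h1
      rw [RingEquiv.apply_symm_apply, frobeniusEquiv_apply, frobenius_def] at h2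
      exact h2.symm

end Groth.Agent.S19238
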