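import Groth.Statements.S19239
import Mathlib
import Groth.Agent.Lib.Helper8.AlgClosedRoot
import Groth.Agent.S19234

set_option autoImplicit false
universe u v
open SigmaLin

namespace Groth.Agent.S19239

open Polynomial

/-- Let k be an algebraically closed field of characteristic p > 0, V a finite-dimensional k-vector
space and T : V → V an additive map with T (c • v) = σ(c) • T v for σ the inverse of the p-th power
map of k. Then v ↦ v − T v is surjective on V, and the intersection over n of the k-spans of the
images of the iterates of T admits a k-basis consisting of vectors fixed by T. (A special case of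
the statement for a surjective field endomorphism satisfying two solvability conditions.) -/
theorem result
    (p : ℕ) [Fact p.Prime] (k : Type u) [Field k] [CharP k p] [IsAlgClosed k]
    (V : Type v) [AddCommGroup V] [Module k V] [FiniteDimensional k V]
    (T : V →ₛₗ[(frobeniusEquiv k p).symm.toRingHom] V) :
    Function.Surjective (fun v : V => v - T v) ∧
    ∃ b : Module.Basis (Fin (Module.finrank k ↥(⨅ n : ℕ, Submodule.span k (Set.range ((⇑T)^[n]))))) k ↥(⨅ n : ℕ, Submodule.span k (Set.range ((⇑T)^[n]))),
      ∀ i, T (b i : V) = (b i : V) := by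
  classical
  have hp1 : 1 < p := (Fact.out : p.Prime).one_lt
  have hp2 : 2 ≤ p := hp1
  have hp0 : 0 < p := by omega
  have hσpow : ∀ w : k, (frobeniusEquiv k p).symm.toRingHom (w ^ p) = w := by
    intro w
    show (frobeniusEquiv k p).symm (w ^ p) = w
    rw [← frobenius_def, frobeniusEquiv_symm_apply_frobenius]
  have hσsurj : Function.Surjective (frobeniusEquiv k p).symm.toRingHom :=
    (frobeniusEquiv k p).symm.surjective
  have hσinj : Function.Injective (frobeniusEquiv k p).symm.toRingHom :=
    (frobeniusEquiv k p).symm.injective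
  have hσiter : ∀ (j m : ℕ) (z : k),
      (⇑(frobeniusEquiv k p).symm.toRingHom)^[j] (z ^ (p ^ (j + m))) = z ^ (p ^ m) := by
    intro j
    induction j with
    | zero => intro m z; simp
    | succ j ih =>
      intro m z
      rw [Function.iterate_succ_apply, show j + 1 + m = (j + m) + 1 by ring, pow_succ p, pow_mul,
        hσpow, ih]
  have h3 : ∀ c : k, ∃ y : k, (frobeniusEquiv k p).symm.toRingHom y - y + c = 0 := by
    intro c
    have hdeg : (X ^ p - (X + C c) : k[X]).degree ≠ 0 := by
      have hlt : (X + C c : k[X]).degree < (X ^ p : k[X]).degree := by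
        rw [degree_X_pow, degree_X_add_C]
        exact_mod_cast hp1
      rw [degree_sub_eq_left_of_degree_lt hlt, degree_X_pow]
      exact_mod_cast hp0.ne'
    obtain ⟨z, hz⟩ := IsAlgClosed.exists_root _ hdeg
    refine ⟨z ^ p, ?_⟩
    rw [hσpow]
    simp only [IsRoot.def, eval_sub, eval_pow, eval_X, eval_add, eval_C] at hz
    linear_combination -hz
  have h2 : ∀ (n : ℕ) (b : Fin (n + 1) → k), b ≠ 0 →
      ∃ x : k, x ≠ 0 ∧ x = ∑ i : Fin (n + 1),
        (⇑(frobeniusEquiv k p).symm.toRingHom)^[i.val + 1] x *
          (⇑(frobeniusEquiv k p).symm.toRingHom)^[i.val] (b (Fin.rev i)) := by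
    intro n b hb
    let c : Fin (n + 1) → k := fun i => (⇑(frobeniusEquiv k p).symm.toRingHom)^[i.val] (b (Fin.rev i))
    have hc : ∀ i, c i = (⇑(frobeniusEquiv k p).symm.toRingHom)^[i.val] (b (Fin.rev i)) := fun i => rfl
    let S : k[X] := ∑ i : Fin (n + 1), C (c i) * X ^ (p ^ (n - i.val))
    let P : k[X] := X ^ (p ^ (n + 1)) - S
    have hSdeg : S.natDegree ≤ p ^ n := by
      apply natDegree_sum_le_of_forall_le
      intro i _
      refine (natDegree_C_mul_X_pow_le _ _).trans ?_
      exact Nat.pow_le_pow_right hp0 (Nat.sub_le _ _)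
    have hlt : p ^ n < p ^ (n + 1) := Nat.pow_lt_pow_right hp1 (Nat.lt_succ_self n)
    have hPdeg : P.natDegree = p ^ (n + 1) := by
      have hlt' : S.natDegree < (X ^ (p ^ (n + 1)) : k[X]).natDegree := by
        rw [natDegree_X_pow]
        exact lt_of_le_of_lt hSdeg hlt
      simp only [P]
      rw [natDegree_sub_eq_left_of_natDegree_lt hlt', natDegree_X_pow]
    obtain ⟨i0, hci0⟩ : ∃ i0, c i0 ≠ 0 := by
      obtain ⟨j, hj⟩ : ∃ j, b j ≠ 0 := by
        by_contra hall
        push Not at hall
        exact hb (funext hall)
      refine ⟨Fin.rev j, ?_⟩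
      intro h
      apply hj
      have hinj : Function.Injective ((⇑(frobeniusEquiv k p).symm.toRingHom)^[(Fin.rev j).val]) :=
        hσinj.iterate _
      apply hinj
      have h' : (⇑(frobeniusEquiv k p).symm.toRingHom)^[(Fin.rev j).val] (b (Fin.rev (Fin.rev j))) = 0 := h
      rw [Fin.rev_rev] at h'
      rw [h', iterate_map_zero]
    have hcoeff : P.coeff (p ^ (n - i0.val)) = - c i0 := by
      have h1 : (X ^ (p ^ (n + 1)) : k[X]).coeff (p ^ (n - i0.val)) = 0 := by
        rw [coeff_X_pow, if_neg]
        intro h
        have h' := Nat.pow_right_injective hp2 h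
        omega
      have h2 : S.coeff (p ^ (n - i0.val)) = c i0 := by
        simp only [S]
        rw [finsetSum_coeff, Finset.sum_eq_single i0]
        · rw [coeff_C_mul_X_pow, if_pos rfl]
        · intro i _ hi
          rw [coeff_C_mul_X_pow, if_neg]
          intro h
          have h' := Nat.pow_right_injective hp2 h
          apply hi
          ext
          have h1 := i.2
          have h2 := i0.2
          omega
        · intro h
          exact absurd (Finset.mem_univ _) h
      simp only [P]
      rw [coeff_sub, h1, h2, zero_sub]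
    obtain ⟨z, hz0, hz⟩ := Groth.Agent.Helper8.exists_ne_zero_root_of_coeff_ne_zero P
      (p ^ (n - i0.val))
      (by rw [hPdeg]; exact Nat.pow_lt_pow_right hp1 (by omega))
      (by rw [hcoeff]; exact neg_ne_zero.mpr hci0)
    have heval : z ^ (p ^ (n + 1)) = ∑ i : Fin (n + 1), c i * z ^ (p ^ (n - i.val)) := by
      simp only [P, S, eval_sub, eval_pow, eval_X, eval_finsetSum, eval_mul, eval_C] at hz
      exact sub_eq_zero.mp hz
    refine ⟨z ^ (p ^ (n + 1)), pow_ne_zero _ hz0, heval.trans ?_⟩
    apply Finset.sum_congr rfl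
    intro i _
    have hi := i.2
    have hexp : z ^ (p ^ (n + 1)) = z ^ (p ^ ((i.val + 1) + (n - i.val))) := by
      congr 2
      omega
    rw [hexp, hσiter, hc, mul_comm]
  exact Groth.Agent.S19234.result k _ hσsurj V T h2 h3

end Groth.Agent.S19239
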