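import Groth.Statements.S19244
import Mathlib
open CategoryTheory CategoryTheory.Limits

set_option autoImplicit false
universe v v' u u'
open HomAlg3

namespace Groth.Agent.S19244

open CategoryTheory in
/-- Let A be an abelian category and let P be the class of bounded-torsion objects of A, those X with n
• 𝟙_X = 0 for some nonzero integer n; assume P is a Serre class. Let L : A ⥤ D be an additive
functor to a preadditive category exhibiting D as the localization of A at the morphisms whose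
kernel and cokernel are in P (so D is the quotient category A_ℚ = A ⧸ A_{b-tor}; the source assumes
A well-powered, which guarantees that this quotient exists). Then for all objects X, Y of A: (1) for
every nonzero integer n, multiplication by n is bijective on Hom_D(L X, L Y), so that this group is
naturally a ℚ-vector space; (2) a morphism f : X ⟶ Y satisfies L f = 0 if and only if n • f = 0 for
some nonzero integer n; (3) for every g : L X ⟶ L Y there are a nonzero integer n and f : X ⟶ Y with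
n • g = L f. Equivalently, the natural map Hom_A(X, Y) ⊗_ℤ ℚ → Hom_D(L X, L Y) is an isomorphism. -/
theorem result
    {A : Type u} [Category.{v} A] [Abelian A] {D : Type u'} [Category.{v'} D] [Preadditive D]
    (P : ObjectProperty A) (hP : ∀ X : A, P X ↔ ∃ n : ℤ, n ≠ 0 ∧ n • (𝟙 X) = 0) [P.IsSerreClass]
    (L : A ⥤ D) [L.Additive] [L.IsLocalization P.isoModSerre] (X Y : A) :
    (∀ n : ℤ, n ≠ 0 → Function.Bijective (fun g : L.obj X ⟶ L.obj Y => n • g)) ∧
    (∀ f : X ⟶ Y, L.map f = 0 ↔ ∃ n : ℤ, n ≠ 0 ∧ n • f = 0) ∧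
    (∀ g : L.obj X ⟶ L.obj Y, ∃ (n : ℤ) (f : X ⟶ Y), n ≠ 0 ∧ n • g = L.map f) := by
  -- multiplication by `n` is inverted by `L`
  have hker : ∀ (Z : A) (n : ℤ), n ≠ 0 → P (kernel (n • 𝟙 Z)) := by
    intro Z n hn
    rw [hP]
    refine ⟨n, hn, ?_⟩
    rw [← cancel_mono (kernel.ι (n • 𝟙 Z)), zero_comp, Preadditive.zsmul_comp, Category.id_comp]
    have := kernel.condition (n • 𝟙 Z)
    rw [Preadditive.comp_zsmul, Category.comp_id] at this
    exact this
  have hcoker : ∀ (Z : A) (n : ℤ), n ≠ 0 → P (cokernel (n • 𝟙 Z)) := by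
    intro Z n hn
    rw [hP]
    refine ⟨n, hn, ?_⟩
    rw [← cancel_epi (cokernel.π (n • 𝟙 Z)), comp_zero, Preadditive.comp_zsmul, Category.comp_id]
    have := cokernel.condition (n • 𝟙 Z)
    rw [Preadditive.zsmul_comp, Category.id_comp] at this
    exact this
  have hW : ∀ (Z : A) (n : ℤ), n ≠ 0 → P.isoModSerre (n • 𝟙 Z) :=
    fun Z n hn => ⟨hker Z n hn, hcoker Z n hn⟩
  have hiso : ∀ (Z : A) (n : ℤ), n ≠ 0 → IsIso (L.map (n • 𝟙 Z)) :=
    fun Z n hn => Localization.inverts L P.isoModSerre _ (hW Z n hn)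
  have hsmul : ∀ (n : ℤ) (g : L.obj X ⟶ L.obj Y), n • g = g ≫ L.map (n • 𝟙 Y) := by
    intro n g
    rw [CategoryTheory.Functor.map_zsmul, CategoryTheory.Functor.map_id,
      Preadditive.comp_zsmul, Category.comp_id]
  have h1 : ∀ n : ℤ, n ≠ 0 → Function.Bijective (fun g : L.obj X ⟶ L.obj Y => n • g) := by
    intro n hn
    have := hiso Y n hn
    constructor
    · intro g g' hgg'
      have h : g ≫ L.map (n • 𝟙 Y) = g' ≫ L.map (n • 𝟙 Y) := by
        rw [← hsmul, ← hsmul]; exact hgg'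
      exact (cancel_mono _).1 h
    · intro g
      refine ⟨g ≫ inv (L.map (n • 𝟙 Y)), ?_⟩
      show n • (g ≫ inv (L.map (n • 𝟙 Y))) = g
      rw [hsmul, Category.assoc, IsIso.inv_hom_id, Category.comp_id]
  have h2 : ∀ f : X ⟶ Y, L.map f = 0 ↔ ∃ n : ℤ, n ≠ 0 ∧ n • f = 0 := by
    intro f
    rw [ObjectProperty.SerreClassLocalization.map_eq_zero_iff L P f, hP]
    have hfac : Abelian.factorThruImage f ≫ Abelian.image.ι f = f := Abelian.image.fac f
    constructor
    · rintro ⟨n, hn, h⟩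
      refine ⟨n, hn, ?_⟩
      rw [← hfac, ← Category.id_comp (Abelian.image.ι f), ← Preadditive.comp_zsmul,
        ← Preadditive.zsmul_comp, h, zero_comp, comp_zero]
    · rintro ⟨n, hn, h⟩
      refine ⟨n, hn, ?_⟩
      rw [← cancel_mono (Abelian.image.ι f), ← cancel_epi (Abelian.factorThruImage f),
        zero_comp, comp_zero, Preadditive.zsmul_comp, Category.id_comp, Preadditive.comp_zsmul,
        hfac]
      exact h
  refine ⟨h1, h2, ?_⟩
  intro g
  obtain ⟨φ, hφ⟩ := Localization.exists_leftFraction L P.isoModSerre g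
  obtain ⟨Y', f', s, hs, rfl⟩ : ∃ (Y' : A) (f' : X ⟶ Y') (s : Y ⟶ Y') (hs : P.isoModSerre s),
      φ = ⟨f', s, hs⟩ := ⟨φ.Y', φ.f, φ.s, φ.hs, rfl⟩
  obtain ⟨n₁, hn₁, hk⟩ := (hP _).1 hs.1
  obtain ⟨n₂, hn₂, hc⟩ := (hP _).1 hs.2
  -- `u : Y' ⟶ image s` with `u ≫ ι = n₂`
  have hu0 : (n₂ • 𝟙 Y') ≫ cokernel.π s = 0 := by
    rw [Preadditive.zsmul_comp, Category.id_comp, ← Category.comp_id (cokernel.π s),
      ← Preadditive.comp_zsmul, hc, comp_zero]
  obtain ⟨u, hu⟩ : ∃ u : Y' ⟶ Abelian.image s, u ≫ Abelian.image.ι s = n₂ • 𝟙 Y' :=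
    ⟨kernel.lift (cokernel.π s) (n₂ • 𝟙 Y') hu0, kernel.lift_ι _ _ _⟩
  -- `v : coimage s ⟶ Y` with `π ≫ v = n₁`
  have hv0 : kernel.ι s ≫ (n₁ • 𝟙 Y) = 0 := by
    rw [Preadditive.comp_zsmul, Category.comp_id, ← Category.id_comp (kernel.ι s),
      ← Preadditive.zsmul_comp, hk, zero_comp]
  obtain ⟨v, hv⟩ : ∃ v : Abelian.coimage s ⟶ Y, Abelian.coimage.π s ≫ v = n₁ • 𝟙 Y :=
    ⟨cokernel.desc (kernel.ι s) (n₁ • 𝟙 Y) hv0, cokernel.π_desc _ _ _⟩
  have hsu : s ≫ u = n₂ • (Abelian.coimage.π s ≫ Abelian.coimageImageComparison s) := by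
    rw [← cancel_mono (Abelian.image.ι s), Category.assoc, hu, Preadditive.comp_zsmul,
      Category.comp_id, Preadditive.zsmul_comp, Category.assoc,
      Abelian.coimage_image_factorisation]
  have hst : s ≫ (u ≫ inv (Abelian.coimageImageComparison s) ≫ v) = (n₂ * n₁) • 𝟙 Y := by
    rw [← Category.assoc, hsu, Preadditive.zsmul_comp, Category.assoc, IsIso.hom_inv_id_assoc,
      hv, smul_smul]
  refine ⟨n₂ * n₁, f' ≫ u ≫ inv (Abelian.coimageImageComparison s) ≫ v,
    mul_ne_zero hn₂ hn₁, ?_⟩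
  have := Localization.inverts L P.isoModSerre s hs
  have hLt : L.map (u ≫ inv (Abelian.coimageImageComparison s) ≫ v) =
      inv (L.map s) ≫ L.map ((n₂ * n₁) • 𝟙 Y) := by
    rw [← hst, L.map_comp s, IsIso.inv_hom_id_assoc]
  rw [hφ, hsmul, CategoryTheory.Functor.map_comp, hLt]
  simp [MorphismProperty.LeftFraction.map]

end Groth.Agent.S19244
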