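import Mathlib
import Groth.Statements.S19258
-- import your own Groth.Agent.* helpers here

set_option autoImplicit false
universe u
open PontDual

namespace Groth.Agent.S19258

lemma exists_finset_ker_le (G G' : Type u) [AddCommGroup G] [AddCommGroup G']
    (β : G' →+ (G →+ AddCircle (1 : ℚ))) (χ : G →+ AddCircle (1 : ℚ))
    (hχ : @Continuous G (AddCircle (1 : ℚ))
      (⨅ f' : G', TopologicalSpace.induced (fun x : G => β f' x) ⊥) ⊥ χ) :
    ∃ T : Finset G', ∀ x : G, (∀ f ∈ T, β f x = 0) → χ x = 0 := by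
  generalize hτ : (⨅ f' : G', TopologicalSpace.induced (fun x : G => β f' x) ⊥) = τ at hχ
  have hopen : @IsOpen G τ (χ ⁻¹' {0}) :=
    @Continuous.isOpen_preimage G _ τ ⊥ χ hχ {0} trivial
  have hmem : χ ⁻¹' {0} ∈ @nhds G τ 0 :=
    @IsOpen.mem_nhds G τ 0 (χ ⁻¹' {0}) hopen (by simp)
  rw [← hτ, nhds_iInf] at hmem
  simp only [nhds_induced] at hmem
  rw [Filter.mem_iInf_finite] at hmem
  obtain ⟨T, hT⟩ := hmem
  rw [Filter.mem_iInf_finset] at hT
  obtain ⟨P, hP, hPeq⟩ := hT
  refine ⟨T, fun x hx => ?_⟩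
  have hx' : x ∈ χ ⁻¹' {0} := by
    rw [hPeq]
    simp only [Set.mem_iInter]
    intro a ha
    obtain ⟨t, ht, hsub⟩ := Filter.mem_comap.mp (hP a ha)
    apply hsub
    have h0 : β a 0 ∈ t := @mem_of_mem_nhds _ ⊥ _ _ ht
    change β a x ∈ t
    rw [hx a ha, ← map_zero (β a)]
    exact h0
  exact hx'

lemma torsion_hom {n : ℕ} (hn : 0 < n) (ψ : AddCircle (1 : ℚ) →+ AddCircle (1 : ℚ)) :
    ∃ m : ℤ, ∀ y : AddCircle (1 : ℚ), n • y = 0 → ψ y = m • y := by
  have hnQ : (n : ℚ) ≠ 0 := Nat.cast_ne_zero.mpr hn.ne'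
  have key : ∀ y : AddCircle (1 : ℚ), n • y = 0 →
      ∃ k : ℤ, y = k • ((1 / (n : ℚ) : ℚ) : AddCircle (1 : ℚ)) := by
    intro y hy
    obtain ⟨q, rfl⟩ := QuotientAddGroup.mk_surjective y
    have h : ((n • q : ℚ) : AddCircle (1 : ℚ)) = 0 := hy
    rw [AddCircle.coe_eq_zero_iff] at h
    obtain ⟨k, hk⟩ := h
    refine ⟨k, ?_⟩
    have hq : q = k • (1 / (n : ℚ)) := by
      simp only [zsmul_eq_mul, mul_one, nsmul_eq_mul] at hk
      rw [zsmul_eq_mul]
      field_simp
      rw [hk]; ring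
    change ((q : ℚ) : AddCircle (1 : ℚ)) = _
    rw [hq, AddCircle.coe_zsmul]
  have hg : n • ((1 / (n : ℚ) : ℚ) : AddCircle (1 : ℚ)) = 0 := by
    rw [← AddCircle.coe_nsmul, nsmul_eq_mul, mul_one_div_cancel hnQ]
    exact AddCircle.coe_period 1
  obtain ⟨m, hm⟩ := key (ψ ((1 / (n : ℚ) : ℚ) : AddCircle (1 : ℚ)))
    (by rw [← map_nsmul, hg, map_zero])
  refine ⟨m, fun y hy => ?_⟩
  obtain ⟨k, rfl⟩ := key y hy
  rw [map_zsmul, hm, smul_comm]


/-- Let G and G' be abelian groups such that every element of G' has finite order, and let β : G' →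
Hom(G, ℚ/ℤ) be an injective homomorphism (equivalently a pairing G' × G → ℚ/ℤ with no left kernel).
Endow G with the weak topology defined by G': the coarsest topology for which every character β(f),
f ∈ G', is continuous when ℚ/ℤ carries the discrete topology. Then every homomorphism χ : G → ℚ/ℤ
that is continuous for this topology on G and the discrete topology on ℚ/ℤ equals β(f) for some f ∈
G', so that β is a bijection from G' onto the group of continuous characters of G. -/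
theorem result
    (G : Type u) (G' : Type u) [AddCommGroup G] [AddCommGroup G'] (hG' : IsAddTorsion G')
    (β : G' →+ (G →+ AddCircle (1 : ℚ))) (hβ : Function.Injective β)
    (χ : G →+ AddCircle (1 : ℚ))
    (hχ : @Continuous G (AddCircle (1 : ℚ)) (⨅ f' : G', TopologicalSpace.induced (fun x : G => β f' x) ⊥) ⊥ χ) :
    ∃ f' : G', β f' = χ := by
  classical
  obtain ⟨T, hT⟩ := exists_finset_ker_le G G' β χ hχ
  let Φ : G →+ (T → AddCircle (1 : ℚ)) := AddMonoidHom.pi (fun i : T => β i.1)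
  have hker : Φ.ker ≤ χ.ker := by
    intro x hx
    rw [AddMonoidHom.mem_ker] at hx ⊢
    apply hT
    intro f hf
    exact congrFun hx ⟨f, hf⟩
  let χbar : G ⧸ Φ.ker →+ AddCircle (1 : ℚ) := QuotientAddGroup.lift Φ.ker χ hker
  let ι : G ⧸ Φ.ker →+ (T → AddCircle (1 : ℚ)) := QuotientAddGroup.kerLift Φ
  have hι : Function.Injective ι := QuotientAddGroup.kerLift_injective Φ
  obtain ⟨ψ, hψ⟩ := CharacterModule.dual_surjective_of_injective (R := ℤ) ι.toIntLinearMap hι χbar
  have hψ' : ∀ x : G, ψ (Φ x) = χ x := by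
    intro x
    have := DFunLike.congr_fun hψ (QuotientAddGroup.mk x)
    exact this
  have hord : ∀ i : T, ∃ n : ℕ, 0 < n ∧ n • i.1 = 0 := fun i =>
    isOfFinAddOrder_iff_nsmul_eq_zero.mp (hG' i.1)
  choose n hn hn0 using hord
  have hcomp : ∀ i : T, ∃ m : ℤ, ∀ y : AddCircle (1 : ℚ), n i • y = 0 →
      ψ (Pi.single i y) = m • y := fun i =>
    torsion_hom (hn i) ((show (T → AddCircle (1 : ℚ)) →+ AddCircle (1 : ℚ) from ψ).comp
      (AddMonoidHom.single (fun _ : T => AddCircle (1 : ℚ)) i))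
  choose m hm using hcomp
  refine ⟨∑ i : T, m i • i.1, ?_⟩
  ext x
  rw [← hψ']
  have hΦ : Φ x = ∑ i : T, Pi.single i (β i.1 x) := (Finset.univ_sum_single (Φ x)).symm
  rw [hΦ, map_sum, map_sum, AddMonoidHom.finsetSum_apply]
  apply Finset.sum_congr rfl
  intro i _
  have h0 : n i • (β i.1 x) = 0 := by
    rw [← AddMonoidHom.smul_apply, ← map_nsmul, hn0 i, map_zero, AddMonoidHom.zero_apply]
  rw [hm i _ h0, map_zsmul, AddMonoidHom.smul_apply]

end Groth.Agent.S19258
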