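import Mathlib
import Groth.Statements.S19264
import Groth.Agent.Lib.Helper9.WittFilLib
-- import your own Groth.Agent.* helpers here

set_option autoImplicit false
universe u
open WittFil

namespace Groth.Agent.S19264

open Groth.Agent.Helper9.WittFilLib

/-- Let A be a unique factorisation domain of characteristic p, x_1, …, x_r pairwise non-associate prime
elements of A, B = A[1/(x_1⋯x_r)] with u_i the unit of B defined by x_i, n ∈ ℤ^r and m ≥ 0. The
restriction map from truncated p-typical Witt vectors of length m+1 to those of length m over B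
(forgetting the last coordinate) maps the filtered piece cut out by ∏ u_i ^ n_i onto the filtered
piece cut out by ∏ u_i ^ ⌊n_i / p⌋; that is, the image is exactly that piece. (The other parts of
the exact sequence, injectivity of the (m-fold) Verschiebung from the fractional ideal generated by
(∏ u_i ^ n_i)⁻¹ and exactness in the middle, are immediate from the definition and are not restated.
The published setting is a regular local ring; only unique factorisation is used.) -/
theorem result (p : ℕ) [Fact p.Prime] {A B : Type u} [CommRing A] [IsDomain A]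
    [UniqueFactorizationMonoid A] [CharP A p] [CommRing B] [Algebra A B] {r : ℕ} (x : Fin r → A)
    (hx : ∀ i, Prime (x i)) (hxa : ∀ i j, Associated (x i) (x j) → i = j)
    [IsLocalization.Away (∏ i, x i) B] (u : Fin r → Bˣ)
    (hu : ∀ i, (u i : B) = algebraMap A B (x i)) (n : Fin r → ℤ) (m : ℕ) :
    (TruncatedWittVector.truncate (Nat.le_succ m)) '' WittFil.fil p (m + 1) (A := A) (WittFil.zmon u n) =
      WittFil.fil p m (A := A) (WittFil.zmon u (fun i => n i / (p : ℤ))) := by
  have hp : p.Prime := Fact.out
  have hp0 : (0 : ℤ) < (p : ℤ) := by exact_mod_cast hp.pos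
  let e : Fin r → ℕ := fun i => (n i % (p : ℤ)).toNat
  have he : ∀ i, ((e i : ℕ) : ℤ) = n i % (p : ℤ) :=
    fun i => Int.toNat_of_nonneg (Int.emod_nonneg _ hp0.ne')
  have he1 : ∀ i, e i < p := by
    intro i
    have h1 := he i
    have h2 := Int.emod_lt_of_pos (n i) hp0
    omega
  have hc : WittFil.zmon u n =
      (WittFil.zmon u (fun i => n i / (p : ℤ))) ^ p * algebraMap A B (∏ i, x i ^ e i) := by
    rw [← zmon_natCast x u hu e, ← zmon_mul_nat, ← zmon_add]
    congr 1
    funext i
    simp only [Pi.add_apply, he i]
    exact (Int.mul_ediv_add_emod (n i) p).symm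
  -- key equivalence
  have key : ∀ y : B, y ^ p * WittFil.zmon u n ∈ (algebraMap A B).range ↔
      y * WittFil.zmon u (fun i => n i / (p : ℤ)) ∈ (algebraMap A B).range := by
    intro y
    have e1 : y ^ p * WittFil.zmon u n =
        (y * WittFil.zmon u (fun i => n i / (p : ℤ))) ^ p * algebraMap A B (∏ i, x i ^ e i) := by
      rw [hc]; ring
    rw [e1]
    constructor
    · intro h
      exact mem_range_of_pow_mul x hx hxa p e he1 _ h
    · intro h
      exact mul_mem (pow_mem h p) ⟨_, rfl⟩
  have hexp : ∀ j : Fin m, p ^ (m + 1 - 1 - (j : ℕ)) = p ^ (m - 1 - (j : ℕ)) * p := by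
    intro j
    rw [← pow_succ]
    congr 1
    have := j.2
    omega
  ext b
  constructor
  · rintro ⟨a, ha, rfl⟩ j
    rw [TruncatedWittVector.coeff_truncate]
    have h := ha (Fin.castLE (Nat.le_succ m) j)
    have hj : ((Fin.castLE (Nat.le_succ m) j : Fin (m + 1)) : ℕ) = (j : ℕ) := rfl
    rw [hj, hexp j, pow_mul, key] at h
    exact h
  · intro hb
    refine ⟨TruncatedWittVector.mk p
      (fun j : Fin (m + 1) => if h : (j : ℕ) < m then TruncatedWittVector.coeff ⟨j, h⟩ b else 0),
      ?_, ?_⟩
    · intro j
      rw [TruncatedWittVector.coeff_mk]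
      by_cases hj : (j : ℕ) < m
      · rw [dif_pos hj]
        have h := hb ⟨j, hj⟩
        have := hexp ⟨j, hj⟩
        simp only at this
        rw [this, pow_mul, key]
        exact h
      · rw [dif_neg hj, zero_pow (pow_ne_zero _ hp.ne_zero), zero_mul]
        exact zero_mem _
    · ext j
      rw [TruncatedWittVector.coeff_truncate, TruncatedWittVector.coeff_mk]
      have hj : ((Fin.castLE (Nat.le_succ m) j : Fin (m + 1)) : ℕ) < m := j.2
      rw [dif_pos hj]
      rfl

end Groth.Agent.S19264
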