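import Mathlib
import Groth.Statements.S19267
import Groth.Agent.Lib.Helper9.WittFilLib
-- import your own Groth.Agent.* helpers here

set_option autoImplicit false
universe u
open WittFil

namespace Groth.Agent.S19267

open Groth.Agent.Helper9.WittFilLib

/-- Let A → B be a homomorphism of commutative rings, u a unit of B, m ≥ 0 and n, l integers. For an
element c of B call the filtered piece cut out by c the set of truncated p-typical Witt vectors of
length m over B whose j-th coordinate y_j satisfies: y_j ^ (p ^ (m-1-j)) · c lies in the image of A,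
for every j < m. Then the piece cut out by u ^ (n − p^(m−1)·l) is exactly the image of the piece cut
out by u ^ n under multiplication by the truncated Teichmüller representative [u ^ l]. (The
published case is B = S[[π]][1/π] over A = S[[π]] with u = π; the computation is the same in
general.) -/
theorem result (p : ℕ) [Fact p.Prime] {A B : Type u}
    [CommRing A] [CommRing B] [Algebra A B] (m : ℕ) (u : Bˣ) (n l : ℤ) :
    WittFil.fil p m (A := A) ((u ^ (n - (p : ℤ) ^ (m - 1) * l) : Bˣ) : B) =
      (fun a => WittVector.truncate m (WittVector.teichmuller p ((u ^ l : Bˣ) : B)) * a) ''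
        WittFil.fil p m (A := A) ((u ^ n : Bˣ) : B) := by
  have hp : p.Prime := Fact.out
  -- key equivalence
  have key : ∀ a : TruncatedWittVector p m B,
      WittVector.truncate m (WittVector.teichmuller p ((u ^ l : Bˣ) : B)) * a ∈
        WittFil.fil p m (A := A) ((u ^ (n - (p : ℤ) ^ (m - 1) * l) : Bˣ) : B) ↔
      a ∈ WittFil.fil p m (A := A) ((u ^ n : Bˣ) : B) := by
    intro a
    unfold WittFil.fil
    simp only [Set.mem_ofPred_eq]
    refine forall_congr' fun j => ?_
    rw [coeff_truncate_teichmuller_mul]
    have e : (((u ^ l : Bˣ) : B) ^ p ^ (j : ℕ) * TruncatedWittVector.coeff j a) ^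
        p ^ (m - 1 - (j : ℕ)) * ((u ^ (n - (p : ℤ) ^ (m - 1) * l) : Bˣ) : B) =
        (TruncatedWittVector.coeff j a) ^ p ^ (m - 1 - (j : ℕ)) * ((u ^ n : Bˣ) : B) := by
      rw [mul_pow, ← pow_mul, mul_comm (p ^ (j : ℕ)), ← pow_eq_aux]
      have e2 : ((u ^ l : Bˣ) : B) ^ p ^ (m - 1) * ((u ^ (n - (p : ℤ) ^ (m - 1) * l) : Bˣ) : B) =
          ((u ^ n : Bˣ) : B) := by
        rw [← Units.val_pow_eq_pow_val, ← Units.val_mul]
        congr 1
        rw [← zpow_natCast, ← zpow_mul, ← zpow_add]
        congr 1
        push_cast
        ring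
      rw [← e2]
      ring
    rw [e]
  have hunit : WittVector.truncate m (WittVector.teichmuller p ((u ^ l : Bˣ) : B)) *
      WittVector.truncate m (WittVector.teichmuller p ((u ^ (-l) : Bˣ) : B)) = 1 := by
    rw [← map_mul, ← map_mul, ← Units.val_mul, ← zpow_add]
    simp
  ext w
  constructor
  · intro hw
    refine ⟨WittVector.truncate m (WittVector.teichmuller p ((u ^ (-l) : Bˣ) : B)) * w, ?_, ?_⟩
    · rw [← key, ← mul_assoc, hunit, one_mul]
      exact hw
    · show _ * (_ * w) = w
      rw [← mul_assoc, hunit, one_mul]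
  · rintro ⟨a, ha, rfl⟩
    exact (key a).mpr ha

end Groth.Agent.S19267
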