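import Mathlib
import Groth.Statements.S19268
import Groth.Agent.Lib.Helper9.WittFilLib
-- import your own Groth.Agent.* helpers here

set_option autoImplicit false
universe u
open WittFil

namespace Groth.Agent.S19268

open Groth.Agent.Helper9.WittFilLib WittVector

section Helpers

variable {p : ℕ} [hp : Fact p.Prime] {S B : Type u} [CommRing S]
    [IsDomain S] [CharP S p] [CommRing B] [Algebra (PowerSeries S) B] [Algebra S B]
    [IsScalarTower S (PowerSeries S) B] [IsLocalization.Away (PowerSeries.X : PowerSeries S) B]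
    (u : Bˣ) (hu : (u : B) = algebraMap (PowerSeries S) B PowerSeries.X)

omit [IsDomain S] [CharP S p] [Algebra (PowerSeries S) B] [IsScalarTower S (PowerSeries S) B]
  [IsLocalization.Away (PowerSeries.X : PowerSeries S) B] in
theorem coeffΦ_lt (m s : ℕ) (v : B) (c : WittVector p S) (j : Fin m) (hj : (j : ℕ) < s) :
    TruncatedWittVector.coeff j (WittFil.vShiftTeich p m s v c) = 0 := by
  unfold WittFil.vShiftTeich
  rw [coeff_truncate, iterate_verschiebung_coeff_eq_zero _ hj]

omit [IsDomain S] [CharP S p] [Algebra (PowerSeries S) B] [IsScalarTower S (PowerSeries S) B]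
  [IsLocalization.Away (PowerSeries.X : PowerSeries S) B] in
theorem coeffΦ_ge (m s : ℕ) (v : B) (c : WittVector p S) (k : ℕ) (hk : k + s < m) :
    TruncatedWittVector.coeff ⟨k + s, hk⟩ (WittFil.vShiftTeich p m s v c) =
      algebraMap S B (c.coeff k) * v ^ p ^ k := by
  unfold WittFil.vShiftTeich
  rw [coeff_truncate]
  show (verschiebung^[s] _).coeff (k + s) = _
  rw [iterate_verschiebung_coeff, coeff_mul_teichmuller, map_coeff]

omit [IsDomain S] [CharP S p] [Algebra S B] [IsScalarTower S (PowerSeries S) B]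
  [IsLocalization.Away (PowerSeries.X : PowerSeries S) B] in
theorem U_neg_mul (k : ℤ) : ((u ^ (-k) : Bˣ) : B) * ((u ^ k : Bˣ) : B) = 1 := by
  rw [← zpow_val_add]
  simp

include hu in
omit [CharP S p] in
/-- `e/X ∈ S[[X]]` forces `e = 0`. -/
theorem eq_zero_of_mul_inv_mem (e : S)
    (h : algebraMap S B e * ((u ^ (-1 : ℤ) : Bˣ) : B) ∈ (algebraMap (PowerSeries S) B).range) :
    e = 0 := by
  obtain ⟨f, hf⟩ := h
  have hinjA : Function.Injective (algebraMap (PowerSeries S) B) :=
    single_injective PowerSeries.X PowerSeries.X_prime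
  have h1 : algebraMap (PowerSeries S) B (f * PowerSeries.X) =
      algebraMap (PowerSeries S) B (PowerSeries.C e) := by
    rw [map_mul, hf, ← hu, mul_assoc]
    have : ((u ^ (-1 : ℤ) : Bˣ) : B) * (u : B) = 1 := by
      have := U_neg_mul u 1
      simpa using this
    rw [this, mul_one, IsScalarTower.algebraMap_apply S (PowerSeries S) B]
    rfl
  have h2 := hinjA h1
  have h3 := congrArg (PowerSeries.coeff 0) h2
  rw [PowerSeries.coeff_zero_mul_X, PowerSeries.coeff_zero_C] at h3
  exact h3.symm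

include hu in
omit [IsDomain S] [CharP S p] [IsLocalization.Away (PowerSeries.X : PowerSeries S) B] in
theorem coord_eq (m s : ℕ) (i : ℤ) (e : S) (k : ℕ) (hk : k + s < m) :
    (algebraMap S B e * ((u ^ i : Bˣ) : B) ^ p ^ k) ^ p ^ (m - 1 - (k + s)) *
        ((u ^ (-(i * ((p ^ (m - 1 - s) : ℕ) : ℤ))) : Bˣ) : B) =
      algebraMap S B (e ^ p ^ (m - 1 - (k + s))) := by
  have hQ : p ^ k * p ^ (m - 1 - (k + s)) = p ^ (m - 1 - s) := by
    rw [← pow_add]; congr 1; omega
  rw [mul_pow, ← pow_mul, hQ, ← zpow_val_mul, map_pow]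
  have h := U_neg_mul u (i * ((p ^ (m - 1 - s) : ℕ) : ℤ))
  linear_combination (algebraMap S B e ^ p ^ (m - 1 - (k + s))) * h

include hu in
omit [IsDomain S] [CharP S p] in
theorem part1 (m s : ℕ) (i : ℤ) (c : WittVector p S) :
    WittFil.vShiftTeich p m s ((u ^ i : Bˣ) : B) c ∈
      WittFil.fil p m (A := PowerSeries S)
        ((u ^ (-(i * ((p ^ (m - 1 - s) : ℕ) : ℤ))) : Bˣ) : B) := by
  intro j
  by_cases hj : (j : ℕ) < s
  · rw [coeffΦ_lt _ _ _ _ _ hj, zero_pow (pow_ne_zero _ hp.out.ne_zero), zero_mul]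
    exact zero_mem _
  · obtain ⟨k, hk⟩ : ∃ k, (j : ℕ) = k + s := ⟨j - s, by omega⟩
    obtain ⟨j, hjm⟩ := j
    simp only at hk
    subst hk
    rw [coeffΦ_ge, coord_eq u hu m s i _ k hjm, IsScalarTower.algebraMap_apply S (PowerSeries S) B]
    exact ⟨_, rfl⟩

include hu in
theorem part2 (m s : ℕ) (i : ℤ) (c : WittVector p S) :
    WittFil.vShiftTeich p m s ((u ^ i : Bˣ) : B) c ∈
      WittFil.fil p m (A := PowerSeries S)
        ((u ^ (-(i * ((p ^ (m - 1 - s) : ℕ) : ℤ)) - 1) : Bˣ) : B) ↔
    WittVector.truncate (m - s) c = 0 := by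
  have key : ∀ (e : S) (k : ℕ) (hk : k + s < m),
      (algebraMap S B e * ((u ^ i : Bˣ) : B) ^ p ^ k) ^ p ^ (m - 1 - (k + s)) *
        ((u ^ (-(i * ((p ^ (m - 1 - s) : ℕ) : ℤ)) - 1) : Bˣ) : B) =
      algebraMap S B (e ^ p ^ (m - 1 - (k + s))) * ((u ^ (-1 : ℤ) : Bˣ) : B) := by
    intro e k hk
    rw [sub_eq_add_neg, zpow_val_add, ← mul_assoc, coord_eq u hu m s i e k hk]
  constructor
  · intro h
    ext ⟨k, hk⟩
    rw [coeff_truncate, TruncatedWittVector.coeff_zero]
    have hk' : k + s < m := by omega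
    have h1 := h ⟨k + s, hk'⟩
    simp only at h1
    rw [coeffΦ_ge, key _ k hk'] at h1
    have := eq_zero_of_mul_inv_mem u hu _ h1
    exact (pow_eq_zero_iff (pow_ne_zero _ hp.out.ne_zero)).mp this
  · intro h j
    have hc : ∀ k, k < m - s → c.coeff k = 0 := by
      intro k hk
      have := congrArg (TruncatedWittVector.coeff ⟨k, hk⟩) h
      rwa [coeff_truncate, TruncatedWittVector.coeff_zero] at this
    by_cases hj : (j : ℕ) < s
    · rw [coeffΦ_lt _ _ _ _ _ hj, zero_pow (pow_ne_zero _ hp.out.ne_zero), zero_mul]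
      exact zero_mem _
    · obtain ⟨k, hk⟩ : ∃ k, (j : ℕ) = k + s := ⟨j - s, by omega⟩
      obtain ⟨j, hjm⟩ := j
      simp only at hk
      subst hk
      rw [coeffΦ_ge, hc k (by omega), map_zero, zero_mul,
        zero_pow (pow_ne_zero _ hp.out.ne_zero), zero_mul]
      exact zero_mem _

include hu in
theorem part3 (i : ℤ) : ∀ (s m : ℕ), s < m → (s = 0 ∨ ¬ ((p : ℤ) ∣ i)) →
    ∀ y ∈ WittFil.fil p m (A := PowerSeries S)
        ((u ^ (-(i * ((p ^ (m - 1 - s) : ℕ) : ℤ))) : Bˣ) : B),
      ∃ c : WittVector p S,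
        y - WittFil.vShiftTeich p m s ((u ^ i : Bˣ) : B) c ∈
          WittFil.fil p m (A := PowerSeries S)
            ((u ^ (-(i * ((p ^ (m - 1 - s) : ℕ) : ℤ)) - 1) : Bˣ) : B) := by
  have hX : Prime (PowerSeries.X : PowerSeries S) := PowerSeries.X_prime
  have hinjA := single_injective (B := B) PowerSeries.X hX
  have hinjS : Function.Injective (algebraMap S B) := by
    rw [IsScalarTower.algebraMap_eq S (PowerSeries S) B]
    exact hinjA.comp PowerSeries.C_injective
  have : CharP B p := charP_of_injective_algebraMap hinjS p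
  have hN : ∀ (y : B) (k : ℕ), 0 < k → y ^ k ∈ (algebraMap (PowerSeries S) B).range →
      y ∈ (algebraMap (PowerSeries S) B).range :=
    fun y k hk h => single_normal PowerSeries.X hX y k hk h
  intro s
  induction s with
  | zero =>
    intro m hm _ y hy
    simp only [Nat.sub_zero] at hy ⊢
    have e1 : ((u ^ (-(i * ((p ^ (m - 1) : ℕ) : ℤ))) : Bˣ) : B) =
        ((u ^ (-i) : Bˣ) : B) ^ p ^ (m - 1) := by
      rw [← zpow_val_mul, neg_mul]
    rw [e1, mem_fil_pow_iff hN, inA_iff] at hy
    obtain ⟨f, hf⟩ := hy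
    let ε : PowerSeries S →+* S := PowerSeries.constantCoeff
    let c : WittVector p S := WittVector.map ε f
    let g : WittVector p (PowerSeries S) := f - WittVector.map (PowerSeries.C) c
    have hg0 : WittVector.map ε g = 0 := by
      have : WittVector.map ε (WittVector.map PowerSeries.C c) = c := by
        ext n
        simp [map_coeff, ε]
      show WittVector.map ε (f - WittVector.map (PowerSeries.C) c) = 0
      rw [map_sub, this, sub_self]
    have hgX : ∀ n, PowerSeries.X ∣ g.coeff n := by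
      intro n
      rw [PowerSeries.X_dvd_iff]
      have := congrArg (fun w => w.coeff n) hg0
      simpa [map_coeff, ε] using this
    refine ⟨c, ?_⟩
    have hT : truncate m (teichmuller p ((u ^ (-i) : Bˣ) : B)) *
        truncate m (teichmuller p ((u ^ i : Bˣ) : B)) = 1 := by
      rw [← map_mul, ← map_mul, U_neg_mul]
      simp
    have hy2 : y = truncate m (WittVector.map (algebraMap (PowerSeries S) B) f) *
        truncate m (teichmuller p ((u ^ i : Bˣ) : B)) := by
      rw [hf, mul_assoc, hT, mul_one]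
    have hΦ : WittFil.vShiftTeich p m 0 ((u ^ i : Bˣ) : B) c =
        truncate m (WittVector.map (algebraMap (PowerSeries S) B)
          (WittVector.map PowerSeries.C c)) *
        truncate m (teichmuller p ((u ^ i : Bˣ) : B)) := by
      unfold WittFil.vShiftTeich
      rw [Function.iterate_zero, id_eq, map_mul]
      congr 2
      ext n
      simp only [map_coeff]
      rw [IsScalarTower.algebraMap_apply S (PowerSeries S) B]
      rfl
    have hdiff : y - WittFil.vShiftTeich p m 0 ((u ^ i : Bˣ) : B) c =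
        truncate m (WittVector.map (algebraMap (PowerSeries S) B) g) *
          truncate m (teichmuller p ((u ^ i : Bˣ) : B)) := by
      rw [hy2, hΦ, ← sub_mul, ← map_sub, ← map_sub]
    rw [hdiff]
    intro j
    rw [coeff_mul_truncate_teichmuller, coeff_truncate, map_coeff]
    obtain ⟨h, hh⟩ := hgX j
    rw [hh]
    obtain ⟨q1, hq1⟩ : ∃ q1, p ^ (m - 1 - (j : ℕ)) = q1 + 1 :=
      ⟨p ^ (m - 1 - (j : ℕ)) - 1, (Nat.sub_add_cancel (Nat.one_le_pow _ _ hp.out.pos)).symm⟩
    have hQ : p ^ (j : ℕ) * (q1 + 1) = p ^ (m - 1) := by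
      rw [← hq1, mul_comm, ← pow_eq_aux]
    rw [hq1]
    have h1 := U_neg_mul u (i * ((p ^ (m - 1) : ℕ) : ℤ))
    have h2 : ((u ^ (-1 : ℤ) : Bˣ) : B) * algebraMap (PowerSeries S) B PowerSeries.X = 1 := by
      rw [← hu]
      have := U_neg_mul u 1
      simpa using this
    have hfin : (algebraMap (PowerSeries S) B (PowerSeries.X * h) *
        ((u ^ i : Bˣ) : B) ^ p ^ (j : ℕ)) ^ (q1 + 1) *
        ((u ^ (-(i * ((p ^ (m - 1) : ℕ) : ℤ)) - 1) : Bˣ) : B) =
        algebraMap (PowerSeries S) B (PowerSeries.X ^ q1 * h ^ (q1 + 1)) := by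
      rw [mul_pow, ← pow_mul, hQ, ← zpow_val_mul, sub_eq_add_neg, zpow_val_add, map_mul, map_mul,
        map_pow, map_pow, mul_pow]
      rw [pow_succ (algebraMap (PowerSeries S) B PowerSeries.X)]
      linear_combination
        ((algebraMap (PowerSeries S) B PowerSeries.X) ^ q1 *
          (algebraMap (PowerSeries S) B h) ^ (q1 + 1) *
          ((u ^ (i * ((p ^ (m - 1) : ℕ) : ℤ)) : Bˣ) : B) *
          ((u ^ (-(i * ((p ^ (m - 1) : ℕ) : ℤ))) : Bˣ) : B)) * h2 +
        ((algebraMap (PowerSeries S) B PowerSeries.X) ^ q1 *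
          (algebraMap (PowerSeries S) B h) ^ (q1 + 1)) * h1
    rw [hfin]
    exact ⟨_, rfl⟩
  | succ s ih =>
    intro m hm hsi y hy
    have hpi : ¬ ((p : ℤ) ∣ i) := hsi.resolve_left (Nat.succ_ne_zero s)
    obtain ⟨m', rfl⟩ : ∃ m', m = m' + 1 := ⟨m - 1, by omega⟩
    have hsm' : s < m' := by omega
    have hexp : m' + 1 - 1 - (s + 1) = m' - 1 - s := by omega
    rw [hexp] at hy ⊢
    have hndvd : ¬ ((p : ℤ) ^ m' ∣ -(i * ((p ^ (m' - 1 - s) : ℕ) : ℤ))) := by
      intro h
      rw [dvd_neg] at h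
      have e : (p : ℤ) ^ m' = ((p ^ (m' - 1 - s) : ℕ) : ℤ) * (p : ℤ) ^ (s + 1) := by
        push_cast
        rw [← pow_add]
        congr 1
        omega
      rw [e, mul_comm i] at h
      have hQ0 : ((p ^ (m' - 1 - s) : ℕ) : ℤ) ≠ 0 := by
        exact_mod_cast (pow_pos hp.out.pos _).ne'
      have h2 := (mul_dvd_mul_iff_left hQ0).mp h
      exact hpi (dvd_trans (dvd_pow_self _ (Nat.succ_ne_zero s)) h2)
    obtain ⟨b, hb, y1, hy1, hyeq⟩ :=
      single_decomp PowerSeries.X hX u hu m' _ hndvd y hy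
    obtain ⟨c, hc⟩ := ih m' hsm' (Or.inr hpi) (truncate m' y1) hy1
    refine ⟨c, ?_⟩
    set z := WittVector.map (algebraMap S B) c * teichmuller p ((u ^ i : Bˣ) : B) with hz
    have hΦs : WittFil.vShiftTeich p m' s ((u ^ i : Bˣ) : B) c =
        truncate m' (verschiebung^[s] z) := rfl
    have hΦs1 : WittFil.vShiftTeich p (m' + 1) (s + 1) ((u ^ i : Bˣ) : B) c =
        truncate (m' + 1) (verschiebung (verschiebung^[s] z)) := by
      unfold WittFil.vShiftTeich
      rw [Function.iterate_succ_apply']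
    rw [hΦs, ← map_sub] at hc
    have h3 := verschiebung_mem_fil (A := PowerSeries S) _ m' _ hc
    have : y - WittFil.vShiftTeich p (m' + 1) (s + 1) ((u ^ i : Bˣ) : B) c =
        b + truncate (m' + 1) (verschiebung (y1 - verschiebung^[s] z)) := by
      rw [hyeq, hΦs1, map_sub, map_sub]
      ring
    rw [this]
    exact add_mem_fil_of_normal hN _ _ hb h3

end Helpers


/-- Let S be an integral domain of characteristic p, A = S[[π]] the power series ring, B = A[1/π] with u
the unit of B given by π, and let m > s ≥ 0 and i be an integer with s = 0 or p ∤ i; put n = p ^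
(m−1−s) · i. For e in B write fil(e) for the set of truncated p-typical Witt vectors of length m
over B whose j-th coordinate y_j satisfies y_j ^ (p ^ (m−1−j)) · e ∈ A for all j, and for a Witt
vector c over S let Φ(c) ∈ W_m(B) be the length-m truncation of V^s(c · [u ^ i]) (V the
Verschiebung, [ ] the Teichmüller map, c mapped to B). Then Φ induces a bijection from the
length-(m−s) truncated Witt vectors of S onto the graded piece fil(u^(−n)) / fil(u^(−n−1)): (1) Φ(c)
lies in fil(u^(−n)) for every c; (2) Φ(c) lies in fil(u^(−n−1)) exactly when the length-(m−s)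
truncation of c is zero; (3) every element of fil(u^(−n)) is congruent to some Φ(c) modulo
fil(u^(−n−1)). (Published for S a regular local Noetherian F-finite F_p-algebra; the argument uses
only that S is a domain.) -/
theorem result (p : ℕ) [Fact p.Prime] {S B : Type u} [CommRing S]
    [IsDomain S] [CharP S p] [CommRing B] [Algebra (PowerSeries S) B] [Algebra S B]
    [IsScalarTower S (PowerSeries S) B] [IsLocalization.Away (PowerSeries.X : PowerSeries S) B]
    (u : Bˣ) (hu : (u : B) = algebraMap (PowerSeries S) B PowerSeries.X) (m s : ℕ) (hs : s < m)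
    (i : ℤ) (hsi : s = 0 ∨ ¬ ((p : ℤ) ∣ i)) :
    (∀ c : WittVector p S,
        WittFil.vShiftTeich p m s ((u ^ i : Bˣ) : B) c ∈
          WittFil.fil p m (A := PowerSeries S) ((u ^ (-((p : ℤ) ^ (m - 1 - s) * i)) : Bˣ) : B)) ∧
      (∀ c : WittVector p S,
        WittFil.vShiftTeich p m s ((u ^ i : Bˣ) : B) c ∈
            WittFil.fil p m (A := PowerSeries S) ((u ^ (-((p : ℤ) ^ (m - 1 - s) * i) - 1) : Bˣ) : B) ↔
          WittVector.truncate (m - s) c = 0) ∧
      (∀ y ∈ WittFil.fil p m (A := PowerSeries S) ((u ^ (-((p : ℤ) ^ (m - 1 - s) * i)) : Bˣ) : B),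
        ∃ c : WittVector p S,
          y - WittFil.vShiftTeich p m s ((u ^ i : Bˣ) : B) c ∈
            WittFil.fil p m (A := PowerSeries S)
              ((u ^ (-((p : ℤ) ^ (m - 1 - s) * i) - 1) : Bˣ) : B)) := by
  have hNQ : (p : ℤ) ^ (m - 1 - s) * i = i * ((p ^ (m - 1 - s) : ℕ) : ℤ) := by
    push_cast
    ring
  rw [hNQ]
  exact ⟨fun c => part1 u hu m s i c, fun c => part2 u hu m s i c, part3 u hu i s m hs hsi⟩

end Groth.Agent.S19268
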