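import Groth.Statements.S19270
import Mathlib
import Groth.Agent.H27.FieldSmooth

set_option autoImplicit false
universe u
open CAlg

namespace Groth.Agent.S19270

open IsLocalRing TensorProduct KaehlerDifferential in
theorem ker_inj (p : ℕ) [Fact p.Prime] {A : Type u} [CommRing A] [IsLocalRing A] [CharP A p] :
    Function.Injective (KaehlerDifferential.kerCotangentToTensor ℤ A (ResidueField A)) := by
  letI alg : Algebra (ZMod p) A := ZMod.algebra A p
  haveI : Algebra.FormallySmooth (ZMod p) (ResidueField A) :=
    Groth.Agent.H27.FieldSmooth.formallySmooth_zmod p _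
  have hf : Function.Surjective (algebraMap A (ResidueField A)) := IsLocalRing.residue_surjective
  obtain ⟨g₁, hg₁⟩ : ∃ g₁ : (A ⧸ RingHom.ker (IsScalarTower.toAlgHom ℤ A
      (ResidueField A)).toRingHom ^ 2) →ₐ[ZMod p] ResidueField A,
      ∀ z, g₁ z = (IsScalarTower.toAlgHom ℤ A (ResidueField A)).kerSquareLift z :=
    ⟨⟨(IsScalarTower.toAlgHom ℤ A (ResidueField A)).kerSquareLift.toRingHom,
      fun r => RingHom.congr_fun (Subsingleton.elim
        ((IsScalarTower.toAlgHom ℤ A (ResidueField A)).kerSquareLift.toRingHom.comp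
          (algebraMap (ZMod p) _)) (algebraMap (ZMod p) (ResidueField A))) r⟩, fun z => rfl⟩
  have hsurj : Function.Surjective g₁ := fun y => by
    obtain ⟨a, rfl⟩ := hf y
    exact ⟨Ideal.Quotient.mk _ a, (hg₁ _).trans rfl⟩
  have hker : RingHom.ker g₁.toRingHom ^ 2 = ⊥ := by
    have h1 : RingHom.ker g₁.toRingHom =
        (RingHom.ker (IsScalarTower.toAlgHom ℤ A (ResidueField A)).toRingHom).cotangentIdeal := by
      rw [← AlgHom.ker_kerSquareLift]
      ext z
      rw [RingHom.mem_ker, RingHom.mem_ker]
      change g₁ z = 0 ↔ (IsScalarTower.toAlgHom ℤ A (ResidueField A)).kerSquareLift z = 0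
      rw [hg₁ z]
    rw [h1, Ideal.cotangentIdeal_square]
  have hσ : ∀ y, g₁ (Algebra.FormallySmooth.liftOfSurjective (AlgHom.id (ZMod p) (ResidueField A))
      g₁ hsurj ⟨2, hker⟩ y) = y :=
    Algebra.FormallySmooth.liftOfSurjective_apply _ g₁ hsurj _
  obtain ⟨σ, hσ'⟩ : ∃ σ : ResidueField A →+* (A ⧸ RingHom.ker (IsScalarTower.toAlgHom ℤ A
      (ResidueField A)).toRingHom ^ 2), ∀ y, g₁ (σ y) = y :=
    ⟨(Algebra.FormallySmooth.liftOfSurjective (AlgHom.id (ZMod p) (ResidueField A))
      g₁ hsurj ⟨2, hker⟩).toRingHom, hσ⟩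
  obtain ⟨l, hl⟩ := (retractionKerCotangentToTensorEquivSection (R := ℤ) (P := A)
    (S := ResidueField A) hf).symm
      ⟨σ.toIntAlgHom, AlgHom.ext fun y => (hg₁ _).symm.trans (hσ' y)⟩
  exact Function.LeftInverse.injective (g := l) (fun z => LinearMap.congr_fun hl z)

open TensorProduct KaehlerDifferential


open IsLocalRing in
/-- Let A be a regular local ring of prime characteristic p, of Krull dimension N, with maximal ideal
generated by x_1, …, x_N, and assume that the module Ω_A of absolute Kähler differentials of A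
(differentials relative to ℤ, equivalently relative to the prime field) is a free A-module of finite
rank. Then dx_1, …, dx_N are part of a basis of Ω_A: there exist a basis b of Ω_A and an injection e
of the indices 1, …, N into the index type of b with b (e i) = d(x_i) for all i. (In the published
statement A is a regular local F-finite algebra over the prime field and the freeness and finiteness
of Ω_A form the first assertion, taken there from the literature; here they are hypotheses.) -/
theorem result (p : ℕ) [Fact p.Prime]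
    {A : Type u} [CommRing A] [IsRegularLocalRing A] [CharP A p]
    [Module.Free A (KaehlerDifferential ℤ A)] [Module.Finite A (KaehlerDifferential ℤ A)]
    {N : ℕ} (x : Fin N → A) (hx : Ideal.span (Set.range x) = maximalIdeal A)
    (hN : ringKrullDim A = (N : WithBot ℕ∞)) :
    ∃ (ι : Type u) (b : Module.Basis ι A (KaehlerDifferential ℤ A)) (e : Fin N ↪ ι),
      ∀ i : Fin N, b (e i) = KaehlerDifferential.D ℤ A (x i) := by
  classical
  have hinj := ker_inj p (A := A)
  have hf : Function.Surjective (algebraMap A (ResidueField A)) := IsLocalRing.residue_surjective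
  have hI : RingHom.ker (algebraMap A (ResidueField A)) = maximalIdeal A := IsLocalRing.ker_residue
  have hxm : ∀ i, x i ∈ maximalIdeal A := fun i => hx ▸ Ideal.subset_span (Set.mem_range_self i)
  have star : ∀ y : A, y ∈ maximalIdeal A →
      (1 : ResidueField A) ⊗ₜ[A] KaehlerDifferential.D ℤ A y = 0 → y ∈ maximalIdeal A ^ 2 := by
    intro y hy h0
    have hy' : y ∈ RingHom.ker (algebraMap A (ResidueField A)) := by rw [hI]; exact hy
    have h1 : KaehlerDifferential.kerCotangentToTensor ℤ A (ResidueField A)
        (Ideal.toCotangent _ ⟨y, hy'⟩) = 0 := by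
      rw [KaehlerDifferential.kerCotangentToTensor_toCotangent]; exact h0
    have h2 : Ideal.toCotangent _ (⟨y, hy'⟩ : RingHom.ker (algebraMap A (ResidueField A))) = 0 :=
      hinj (by rw [h1, map_zero])
    have h3 : y ∈ RingHom.ker (algebraMap A (ResidueField A)) ^ 2 :=
      (Ideal.toCotangent_eq_zero _ _).mp h2
    rwa [hI] at h3
  have hfin : Module.finrank (ResidueField A) (CotangentSpace A) = N := by
    have h1 := (IsRegularLocalRing.iff_finrank_cotangentSpace A).mp inferInstance
    rw [hN] at h1
    exact_mod_cast h1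
  let xm : Fin N → maximalIdeal A := fun i => ⟨x i, hxm i⟩
  have hspan : Submodule.span A (Set.range xm) = ⊤ := by
    apply Submodule.map_injective_of_injective (maximalIdeal A).injective_subtype
    rw [Submodule.map_span, Submodule.map_subtype_top, ← Set.range_comp]
    exact hx
  have hu : LinearIndependent (ResidueField A)
      (fun i => (maximalIdeal A).toCotangent (xm i)) := by
    apply linearIndependent_of_top_le_span_of_card_eq_finrank
    · rw [top_le_iff, show Set.range (fun i => (maximalIdeal A).toCotangent (xm i)) =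
        (maximalIdeal A).toCotangent '' Set.range xm from
          Set.range_comp (⇑(maximalIdeal A).toCotangent) xm]
      exact CotangentSpace.span_image_eq_top_iff.mpr hspan
    · rw [Fintype.card_fin, hfin]
  let w : Fin N → (ResidueField A) ⊗[A] Ω[A⁄ℤ] :=
    fun i => (1 : ResidueField A) ⊗ₜ[A] KaehlerDifferential.D ℤ A (x i)
  have hw : LinearIndependent (ResidueField A) w := by
    rw [Fintype.linearIndependent_iff]
    intro g hg i
    have hsurj : ∀ j, ∃ a : A, algebraMap A (ResidueField A) a = g j := fun j => hf (g j)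
    choose a ha using hsurj
    have hmem : ∑ j, a j * x j ∈ maximalIdeal A :=
      Ideal.sum_mem _ fun j _ => Ideal.mul_mem_left _ _ (hxm j)
    have h0 : (1 : ResidueField A) ⊗ₜ[A] KaehlerDifferential.D ℤ A (∑ j, a j * x j) = 0 := by
      refine Eq.trans ?_ hg
      rw [map_sum, TensorProduct.tmul_sum]
      refine Finset.sum_congr rfl fun j _ => ?_
      rw [Derivation.leibniz, TensorProduct.tmul_add, TensorProduct.tmul_smul,
        TensorProduct.tmul_smul]
      have hxz : algebraMap A (ResidueField A) (x j) = 0 :=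
        (IsLocalRing.residue_eq_zero_iff (x j)).mpr (hxm j)
      have hz : x j • ((1 : ResidueField A) ⊗ₜ[A] KaehlerDifferential.D ℤ A (a j)) = 0 := by
        rw [← algebraMap_smul (ResidueField A) (x j), hxz, zero_smul]
      rw [hz, add_zero, ← ha j, algebraMap_smul]
    have h1 := star _ hmem h0
    have h2 : (maximalIdeal A).toCotangent ⟨∑ j, a j * x j, hmem⟩ = 0 :=
      (Ideal.toCotangent_eq_zero _ _).mpr h1
    have h3 : ∑ j, g j • (maximalIdeal A).toCotangent (xm j) = 0 := by
      rw [← h2]
      have h4 : (⟨∑ j, a j * x j, hmem⟩ : maximalIdeal A) = ∑ j, a j • xm j := by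
        ext; simp [xm]
      rw [h4, map_sum]
      refine Finset.sum_congr rfl fun j _ => ?_
      rw [map_smul, ← ha j, algebraMap_smul]
    exact Fintype.linearIndependent_iff.mp hu g h3 i
  obtain ⟨b, -, hwb, hspanb, hbli⟩ := exists_linearIndepOn_id_extension
    (K := ResidueField A) (hw.linearIndepOn_id) (Set.subset_univ _)
  have hmk : ∀ z : (ResidueField A) ⊗[A] Ω[A⁄ℤ], ∃ m : Ω[A⁄ℤ],
      (1 : ResidueField A) ⊗ₜ[A] m = z :=
    fun z => TensorProduct.mk_surjective (R := A) (S := ResidueField A) (M := Ω[A⁄ℤ]) hf z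
  have hwinj : Function.Injective w := hw.injective
  let v : b → Ω[A⁄ℤ] := fun z =>
    if h : (z : (ResidueField A) ⊗[A] Ω[A⁄ℤ]) ∈ Set.range w then
      KaehlerDifferential.D ℤ A (x (Classical.choose h))
    else Classical.choose (hmk z)
  have hv : ∀ z : b, (1 : ResidueField A) ⊗ₜ[A] v z = (z : (ResidueField A) ⊗[A] Ω[A⁄ℤ]) := by
    intro z
    by_cases h : (z : (ResidueField A) ⊗[A] Ω[A⁄ℤ]) ∈ Set.range w
    · simp only [v, dif_pos h]; exact Classical.choose_spec h
    · simp only [v, dif_neg h]; exact Classical.choose_spec (hmk z)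
  have hcomp : (TensorProduct.mk A (ResidueField A) Ω[A⁄ℤ] 1 ∘ v) =
      ((↑) : b → (ResidueField A) ⊗[A] Ω[A⁄ℤ]) := funext hv
  have hli : LinearIndependent (ResidueField A)
      (TensorProduct.mk A (ResidueField A) Ω[A⁄ℤ] 1 ∘ v) := by
    rw [hcomp]; exact hbli
  have hsp : Submodule.span (ResidueField A)
      (Set.range (TensorProduct.mk A (ResidueField A) Ω[A⁄ℤ] 1 ∘ v)) = ⊤ := by
    rw [hcomp, Subtype.range_coe, eq_top_iff]; exact fun z _ => hspanb (Set.mem_univ z)
  have H : Function.Injective ((maximalIdeal A).subtype.rTensor Ω[A⁄ℤ]) :=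
    Module.Flat.rTensor_preserves_injective_linearMap _ Subtype.val_injective
  haveI : Module.FinitePresentation A Ω[A⁄ℤ] := Module.finitePresentation_of_finite A _
  obtain ⟨bb, hbb⟩ := Module.exists_basis_of_basis_baseChange v hli hsp H
  refine ⟨b, bb, ⟨fun i => ⟨w i, hwb (Set.mem_range_self i)⟩,
    fun i j hij => hwinj (Subtype.ext_iff.mp hij)⟩, fun i => ?_⟩
  rw [hbb]
  have h : (w i) ∈ Set.range w := Set.mem_range_self i
  show v ⟨w i, _⟩ = _
  simp only [v, dif_pos h]
  rw [hwinj (Classical.choose_spec h)]

end Groth.Agent.S19270
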