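import Mathlib
import Groth.Statements.S19272
import Groth.Agent.Lib.Helper9.WittFilLib
-- import your own Groth.Agent.* helpers here

set_option autoImplicit false
universe u
open WittFil

namespace Groth.Agent.S19272

open Groth.Agent.Helper9.WittFilLib

/-- Let A be a unique factorisation domain of characteristic p, x_1, …, x_r pairwise non-associate prime
elements of A, B = A[1/(x_1⋯x_r)] with u_i the unit of B defined by x_i, m ≥ 0, and n ∈ ℤ^r with n_i
< 0 for every i. Then every truncated p-typical Witt vector of length m over B lying in the filtered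
piece cut out by ∏ u_i ^ n_i (every coordinate y_j has y_j ^ (p ^ (m−1−j)) · ∏ u_i ^ n_i in the
image of A) has all its coordinates in the image of the ideal (x_1⋯x_r)·A. (The published item,
stated for the filtered de Rham–Witt pieces in all degrees over a regular local ring, says only that
such vectors have all coordinates in A; this row states the divisibility of every coordinate by
x_1⋯x_r that its proof establishes, in degree zero, for a unique factorisation domain in place of a
regular local ring.) -/
theorem result (p : ℕ) [Fact p.Prime] {A B : Type u} [CommRing A] [IsDomain A]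
    [UniqueFactorizationMonoid A] [CharP A p] [CommRing B] [Algebra A B] {r : ℕ} (x : Fin r → A)
    (hx : ∀ i, Prime (x i)) (hxa : ∀ i j, Associated (x i) (x j) → i = j)
    [IsLocalization.Away (∏ i, x i) B] (u : Fin r → Bˣ)
    (hu : ∀ i, (u i : B) = algebraMap A B (x i)) (m : ℕ) (n : Fin r → ℤ) (hn : ∀ i, n i < 0)
    (a : TruncatedWittVector p m B) (ha : a ∈ WittFil.fil p m (A := A) (WittFil.zmon u n))
    (j : Fin m) :
    ∃ b : A, TruncatedWittVector.coeff j a = algebraMap A B ((∏ i, x i) * b) := by
  have hp : p.Prime := Fact.out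
  have hinj := algebraMap_injective (B := B) x hx
  obtain ⟨a', ha'⟩ := ha j
  set y := TruncatedWittVector.coeff j a with hy
  set q := p ^ (m - 1 - (j : ℕ)) with hq
  have hqpos : 0 < q := pow_pos hp.pos _
  let e : Fin r → ℕ := fun i => (-(n i)).toNat
  have he : ∀ i, ((e i : ℕ) : ℤ) = -(n i) := fun i => Int.toNat_of_nonneg (by have := hn i; omega)
  have he1 : ∀ i, 1 ≤ e i := by
    intro i
    have h1 := he i
    have h2 := hn i
    omega
  have hz : WittFil.zmon u n * WittFil.zmon u (fun i => (e i : ℤ)) = 1 := by
    rw [← zmon_add]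
    have : n + (fun i => (e i : ℤ)) = 0 := by
      funext i
      simp only [Pi.add_apply, Pi.zero_apply, he i]
      ring
    rw [this]
    unfold WittFil.zmon
    simp
  have h1 : y ^ q = algebraMap A B (a' * ∏ i, x i ^ e i) := by
    rw [map_mul, ha', ← zmon_natCast x u hu e, mul_assoc, hz, mul_one]
  obtain ⟨a'', ha''⟩ := mem_range_of_pow_mem x hx hxa y q hqpos ⟨_, h1.symm⟩
  have h2 : a'' ^ q = a' * ∏ i, x i ^ e i := by
    apply hinj
    rw [map_pow, ha'', h1]
  have hdvd : ∀ k, x k ∣ a'' := by
    intro k
    apply (hx k).dvd_of_dvd_pow (n := q)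
    rw [h2]
    apply Dvd.dvd.mul_left
    exact dvd_trans (dvd_pow_self (x k) (by have := he1 k; omega))
      (Finset.dvd_prod_of_mem (fun i => x i ^ e i) (Finset.mem_univ k))
  obtain ⟨b, hb⟩ := prod_dvd_of_forall_dvd x hx hxa hdvd
  exact ⟨b, by rw [← hb, ha'']⟩

end Groth.Agent.S19272
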