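import Mathlib
import Groth.Statements.S19273
-- import your own Groth.Agent.* helpers here

set_option autoImplicit false
universe u
open CAlg

namespace Groth.Agent.S19273


open KaehlerDifferential in
/-- Let A be an integral domain of prime characteristic p, x_1, …, x_N elements of A, r ≤ N, B =
A[1/(x_1⋯x_r)] with u_i the unit of B defined by x_i for i ≤ r, and suppose that the module Ω_A of
absolute Kähler differentials of A is free with a basis b indexed by {1, …, N} ⊔ ι whose i-th vector
is d(x_i) for i ≤ N. Then the module of logarithmic 1-forms — the A-submodule of Ω_B spanned by the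
image of Ω_A and the forms u_i⁻¹ · d(x_i), i ≤ r — is a free A-module: it has a basis indexed by {1,
…, N} ⊔ ι whose vector at i ≤ r is u_i⁻¹ · d(x_i), at r < i ≤ N is d(x_i), and at k ∈ ι is the image
of b_k. (In the published statement A is a regular local F-finite algebra over the prime field with
maximal ideal (x_1, …, x_N), the basis of Ω_A comes from the preceding lemma, and the assertion
covers the logarithmic q-forms for all q together with their identification with the log de Rham
complex of the log ring; only the degree-one freeness is stated here, from the properties of A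
actually used.) -/
theorem result (p : ℕ) [Fact p.Prime]
    {A B : Type u} [CommRing A] [IsDomain A] [CharP A p] [CommRing B] [Algebra A B] {r N : ℕ}
    (hr : r ≤ N) (x : Fin N → A) [IsLocalization.Away (∏ i : Fin r, x (Fin.castLE hr i)) B]
    (u : Fin r → Bˣ) (hu : ∀ i, (u i : B) = algebraMap A B (x (Fin.castLE hr i)))
    {ι : Type u} (b : Module.Basis (Fin N ⊕ ι) A (Ω[A⁄ℤ])) (hb : ∀ i, b (Sum.inl i) = D ℤ A (x i)) :
    ∃ e : Module.Basis (Fin N ⊕ ι) A
        (W4c6katofilta.logForms1 (fun i : Fin r => x (Fin.castLE hr i)) u),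
      (∀ i : Fin r, (e (Sum.inl (Fin.castLE hr i)) : Ω[B⁄ℤ]) =
          ((u i)⁻¹ : Bˣ) • KaehlerDifferential.map ℤ ℤ A B (D ℤ A (x (Fin.castLE hr i)))) ∧
      (∀ i : Fin N, r ≤ (i : ℕ) →
          (e (Sum.inl i) : Ω[B⁄ℤ]) = KaehlerDifferential.map ℤ ℤ A B (D ℤ A (x i))) ∧
      (∀ k : ι, (e (Sum.inr k) : Ω[B⁄ℤ]) = KaehlerDifferential.map ℤ ℤ A B (b (Sum.inr k))) := by
  classical
  set φ := KaehlerDifferential.map ℤ ℤ A B with hφ
  set π := ∏ i : Fin r, x (Fin.castLE hr i) with hπ
  have hπ0 : π ≠ 0 := by
    rw [hπ, Finset.prod_ne_zero_iff]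
    intro i _ h0
    have := b.ne_zero (Sum.inl (Fin.castLE hr i))
    rw [hb, h0, map_zero] at this
    exact this rfl
  have hinj : Function.Injective (algebraMap A B) :=
    IsLocalization.injective B (M := Submonoid.powers π)
      (powers_le_nonZeroDivisors_of_noZeroDivisors hπ0)
  let β : Module.Basis (Fin N ⊕ ι) B (Ω[B⁄ℤ]) :=
    b.ofIsLocalizedModule B (Submonoid.powers π) φ
  have hβ : ∀ j, β j = φ (b j) := fun j =>
    Module.Basis.ofIsLocalizedModule_apply B (Submonoid.powers π) φ b j
  let w : Fin N ⊕ ι → Bˣ :=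
    Sum.elim (fun j => if h : (j : ℕ) < r then (u ⟨j, h⟩)⁻¹ else 1) (fun _ => 1)
  let v := β.unitsSMul w
  have hv : ∀ j, v j = w j • β j := fun j => Module.Basis.unitsSMul_apply j
  have hli : LinearIndependent A v :=
    LinearIndependent.restrict_scalars (K := B)
      (by simpa [Algebra.smul_def] using hinj) v.linearIndependent
  have hcast : ∀ (j : Fin N) (h : (j : ℕ) < r), Fin.castLE hr ⟨j, h⟩ = j := fun j h => Fin.ext rfl
  have hwl : ∀ i : Fin r, w (Sum.inl (Fin.castLE hr i)) = (u i)⁻¹ := by
    intro i
    have h : ((Fin.castLE hr i : Fin N) : ℕ) < r := i.2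
    simp only [w, Sum.elim_inl, dif_pos h]
    rfl
  have hwr : ∀ j : Fin N, r ≤ (j : ℕ) → w (Sum.inl j) = 1 := by
    intro j hj
    simp only [w, Sum.elim_inl, dif_neg (not_lt.mpr hj)]
  have hwk : ∀ k : ι, w (Sum.inr k) = 1 := fun k => rfl
  have hvl : ∀ i : Fin r, v (Sum.inl (Fin.castLE hr i)) =
      ((u i)⁻¹ : Bˣ) • φ (KaehlerDifferential.D ℤ A (x (Fin.castLE hr i))) := by
    intro i
    rw [hv, hwl, hβ, hb]
  have hvr : ∀ j : Fin N, r ≤ (j : ℕ) → v (Sum.inl j) = φ (KaehlerDifferential.D ℤ A (x j)) := by
    intro j hj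
    rw [hv, hwr j hj, one_smul, hβ, hb]
  have hvk : ∀ k : ι, v (Sum.inr k) = φ (b (Sum.inr k)) := by
    intro k
    rw [hv, hwk, one_smul, hβ]
  have hspan : Submodule.span A (Set.range v) =
      W4c6katofilta.logForms1 (fun i : Fin r => x (Fin.castLE hr i)) u := by
    unfold W4c6katofilta.logForms1
    apply le_antisymm
    · rw [Submodule.span_le]
      rintro _ ⟨j, rfl⟩
      rcases j with j | k
      · by_cases h : (j : ℕ) < r
        · have := hvl ⟨j, h⟩
          rw [hcast j h] at this
          rw [this]
          refine Submodule.subset_span (Or.inr ⟨⟨j, h⟩, ?_⟩)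
          simp only [hcast j h]
          rfl
        · rw [hvr j (not_lt.mp h)]
          exact Submodule.subset_span (Or.inl ⟨_, rfl⟩)
      · rw [hvk]
        exact Submodule.subset_span (Or.inl ⟨_, rfl⟩)
    · rw [Submodule.span_le]
      rintro _ (⟨ω, rfl⟩ | ⟨i, rfl⟩)
      · have h1 : LinearMap.range φ ≤ Submodule.span A (Set.range v) := by
          rw [← Module.Basis.ofIsLocalizedModule_span B (Submonoid.powers π) φ b, Submodule.span_le]
          rintro _ ⟨j, rfl⟩
          show β j ∈ Submodule.span A (Set.range v)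
          rcases j with j | k
          · by_cases h : (j : ℕ) < r
            · have h2 : β (Sum.inl j) = x j • v (Sum.inl j) := by
                have h3 := hv (Sum.inl (Fin.castLE hr ⟨j, h⟩))
                rw [hwl, hcast j h] at h3
                have hu' : ((u ⟨j, h⟩ : Bˣ) : B) = algebraMap A B (x j) := by
                  rw [hu, hcast j h]
                rw [h3, ← algebraMap_smul B (x j), ← hu', ← Units.smul_def, smul_smul,
                  mul_inv_cancel, one_smul]
              rw [h2]
              exact Submodule.smul_mem _ _ (Submodule.subset_span ⟨_, rfl⟩)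
            · have h2 : β (Sum.inl j) = v (Sum.inl j) := by
                rw [hv, hwr j (not_lt.mp h), one_smul]
              rw [h2]
              exact Submodule.subset_span ⟨_, rfl⟩
          · have h2 : β (Sum.inr k) = v (Sum.inr k) := by
              rw [hv, hwk, one_smul]
            rw [h2]
            exact Submodule.subset_span ⟨_, rfl⟩
        exact h1 ⟨ω, rfl⟩
      · show ((u i)⁻¹ : Bˣ) • φ (KaehlerDifferential.D ℤ A (x (Fin.castLE hr i))) ∈ _
        rw [← hvl i]
        exact Submodule.subset_span ⟨_, rfl⟩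
  let e0 := Module.Basis.span hli
  refine ⟨e0.map (LinearEquiv.ofEq _ _ hspan), ?_, ?_, ?_⟩
  · intro i
    rw [Module.Basis.map_apply, LinearEquiv.coe_ofEq_apply, Module.Basis.coe_span_apply, hvl]
  · intro j hj
    rw [Module.Basis.map_apply, LinearEquiv.coe_ofEq_apply, Module.Basis.coe_span_apply, hvr j hj]
  · intro k
    rw [Module.Basis.map_apply, LinearEquiv.coe_ofEq_apply, Module.Basis.coe_span_apply, hvk]

end Groth.Agent.S19273
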