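import Mathlib
import Groth.Statements.S19274
import Groth.Agent.Lib.Helper9.WittFilLib
-- import your own Groth.Agent.* helpers here

set_option autoImplicit false
universe u
open WittFil

namespace Groth.Agent.S19274

open Groth.Agent.Helper9.WittFilLib

/-- Let A be a unique factorisation domain of characteristic p, x a prime element of A, B = A[1/x] with
u the unit of B defined by x, m ≥ 1, and n an integer NOT divisible by p^m. For e in B and k ≥ 0
write fil_k(e) for the set of truncated p-typical Witt vectors of length k over B whose j-th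
coordinate y_j satisfies y_j ^ (p ^ (k−1−j)) · e ∈ A for all j < k (the filtered piece; fil_k(u^n)
is the piece of index n). Then fil_{m+1}(u^n) is contained in fil_{m+1}(u^(n−1)) + V(fil_m(u^n))
(the reverse inclusion is immediate): every a in fil_{m+1}(u^n) can be written a = b + V(y) with b
in fil_{m+1}(u^(n−1)) and y a Witt vector over B whose length-m truncation lies in fil_m(u^n), V(y)
being truncated to length m+1. (In the source A is a henselian discrete valuation ring, n = p^r·l >
1 with p not dividing l, and the condition reads m ≥ r + 1.) -/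
theorem result (p : ℕ) [Fact p.Prime]
    {A B : Type u} [CommRing A] [IsDomain A] [UniqueFactorizationMonoid A] [CharP A p]
    [CommRing B] [Algebra A B] (x : A) (hx : Prime x) [IsLocalization.Away x B] (u : Bˣ)
    (hu : (u : B) = algebraMap A B x) (m : ℕ) (hm : 0 < m) (n : ℤ) (hn : ¬ ((p : ℤ) ^ m ∣ n)) :
    ∀ a ∈ WittFil.fil p (m + 1) (A := A) ((u ^ n : Bˣ) : B),
      ∃ b ∈ WittFil.fil p (m + 1) (A := A) ((u ^ (n - 1) : Bˣ) : B),
        ∃ y : WittVector p B,
          WittVector.truncate m y ∈ WittFil.fil p m (A := A) ((u ^ n : Bˣ) : B) ∧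
            a = b + WittVector.truncate (m + 1) (WittVector.verschiebung y) := by
  have hp : p.Prime := Fact.out
  -- family of one prime
  let x' : Fin 1 → A := fun _ => x
  have hx' : ∀ i, Prime (x' i) := fun _ => hx
  have hxa' : ∀ i j, Associated (x' i) (x' j) → i = j := fun i j _ => Subsingleton.elim i j
  have hprod : (∏ i, x' i) = x := by simp [x']
  have : IsLocalization.Away (∏ i, x' i) B := by rw [hprod]; infer_instance
  have hinj := algebraMap_injective (B := B) x' hx'
  have : CharP B p := charP_of_injective_algebraMap hinj p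
  have hN : ∀ (y : B) (k : ℕ), 0 < k → y ^ k ∈ (algebraMap A B).range →
      y ∈ (algebraMap A B).range := fun y k hk h => mem_range_of_pow_mem x' hx' hxa' y k hk h
  have hKL : ∀ (q e : ℕ), e < q → ∀ z : B, z ^ q * algebraMap A B (x ^ e) ∈ (algebraMap A B).range →
      z ∈ (algebraMap A B).range := by
    intro q e he z h
    apply mem_range_of_pow_mul x' hx' hxa' q (fun _ => e) (fun _ => he) z
    simpa [x'] using h
  -- notation for powers of u
  have hUadd : ∀ k l : ℤ, ((u ^ (k + l) : Bˣ) : B) = ((u ^ k : Bˣ) : B) * ((u ^ l : Bˣ) : B) := by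
    intro k l
    rw [zpow_add, Units.val_mul]
  have hUmul : ∀ (k : ℤ) (q : ℕ), ((u ^ (k * (q : ℤ)) : Bˣ) : B) = ((u ^ k : Bˣ) : B) ^ q := by
    intro k q
    rw [zpow_mul, zpow_natCast, Units.val_pow_eq_pow_val]
  have hUnat : ∀ s : ℕ, ((u ^ (s : ℤ) : Bˣ) : B) = algebraMap A B (x ^ s) := by
    intro s
    rw [zpow_natCast, Units.val_pow_eq_pow_val, hu, map_pow]
  have hmono : ∀ (t : B) (k : ℤ), t * ((u ^ (k - 1) : Bˣ) : B) ∈ (algebraMap A B).range →
      t * ((u ^ k : Bˣ) : B) ∈ (algebraMap A B).range := by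
    intro t k h
    have : ((u ^ k : Bˣ) : B) = ((u ^ (k - 1) : Bˣ) : B) * algebraMap A B (x ^ 1) := by
      rw [← hUnat 1, ← hUadd]
      congr 2
      ring
    rw [this, ← mul_assoc]
    exact mul_mem h ⟨_, rfl⟩
  intro a ha
  obtain ⟨wa, rfl⟩ := WittVector.truncate_surjective p (m + 1) B a
  set a0 := wa.coeff 0 with ha0
  -- Step 1
  set q : ℕ := p ^ m with hq
  have hqz : ((q : ℕ) : ℤ) = (p : ℤ) ^ m := by rw [hq]; push_cast; rfl
  have hq0 : (0 : ℤ) < (q : ℤ) := by rw [hqz]; exact pow_pos (by exact_mod_cast hp.pos) _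
  have hn' : ¬ ((q : ℤ) ∣ n) := by rw [hqz]; exact hn
  have hspos : 0 < n % (q : ℤ) := (Int.emod_pos_of_not_dvd hn').resolve_left hq0.ne'
  have hslt : n % (q : ℤ) < q := Int.emod_lt_of_pos n hq0
  obtain ⟨s', hs'⟩ : ∃ s' : ℕ, ((s' : ℕ) : ℤ) + 1 = n % (q : ℤ) :=
    ⟨(n % (q : ℤ) - 1).toNat, by rw [Int.toNat_of_nonneg (by omega)]; ring⟩
  have hs'lt : s' + 1 < q := by omega
  have hndecomp : n = (n / (q : ℤ)) * (q : ℤ) + ((s' + 1 : ℕ) : ℤ) := by
    push_cast
    rw [hs', mul_comm]
    exact (Int.mul_ediv_add_emod n q).symm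
  have h0 : a0 ^ q * ((u ^ n : Bˣ) : B) ∈ (algebraMap A B).range := by
    have := ha 0
    simpa [WittVector.coeff_truncate] using this
  set z := a0 * ((u ^ (n / (q : ℤ)) : Bˣ) : B) with hz
  have hz1 : z ^ q * algebraMap A B (x ^ (s' + 1)) = a0 ^ q * ((u ^ n : Bˣ) : B) := by
    conv_rhs => rw [hndecomp, hUadd, hUmul, hUnat]
    rw [hz]; ring
  obtain ⟨z', hz'⟩ := hKL q (s' + 1) hs'lt z (by rw [hz1]; exact h0)
  have h1 : a0 ^ q * ((u ^ (n - 1) : Bˣ) : B) ∈ (algebraMap A B).range := by
    have hdec : n - 1 = (n / (q : ℤ)) * (q : ℤ) + ((s' : ℕ) : ℤ) := by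
      have h := hndecomp
      push_cast at h
      linarith
    have : a0 ^ q * ((u ^ (n - 1) : Bˣ) : B) = z ^ q * algebraMap A B (x ^ s') := by
      conv_lhs => rw [hdec, hUadd, hUmul, hUnat]
      rw [hz]; ring
    rw [this, ← hz', ← map_pow, ← map_mul]
    exact ⟨_, rfl⟩
  -- Step 2
  have hb : WittVector.truncate (m + 1) (WittVector.teichmuller p a0) ∈
      WittFil.fil p (m + 1) (A := A) ((u ^ (n - 1) : Bˣ) : B) := by
    intro j
    rw [WittVector.coeff_truncate]
    obtain ⟨j, hj⟩ := j
    cases j with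
    | zero =>
      simpa using h1
    | succ j =>
      rw [WittVector.teichmuller_coeff_pos p a0 (j + 1) (Nat.succ_pos j),
        zero_pow (pow_ne_zero _ hp.ne_zero), zero_mul]
      exact zero_mem _
  have hb' : WittVector.truncate (m + 1) (WittVector.teichmuller p a0) ∈
      WittFil.fil p (m + 1) (A := A) ((u ^ n : Bˣ) : B) := fun j => hmono _ _ (hb j)
  -- Step 3
  set w := wa - WittVector.teichmuller p a0 with hw
  have hw0 : w.coeff 0 = 0 := by
    have : WittVector.constantCoeff w = WittVector.constantCoeff wa -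
        WittVector.constantCoeff (WittVector.teichmuller p a0) := by rw [hw, map_sub]
    simp only [WittVector.constantCoeff_apply, WittVector.teichmuller_coeff_zero] at this
    rw [this, ha0, sub_self]
  let y : WittVector p B := WittVector.mk p (fun k => w.coeff (k + 1))
  have hVy : WittVector.verschiebung y = w := by
    ext k
    cases k with
    | zero => rw [WittVector.verschiebung_coeff_zero, hw0]
    | succ k => rw [WittVector.verschiebung_coeff_succ, WittVector.coeff_mk]
  have hwfil : WittVector.truncate (m + 1) w ∈ WittFil.fil p (m + 1) (A := A) ((u ^ n : Bˣ) : B) := by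
    rw [hw, map_sub]
    exact sub_mem_fil_of_normal hN (m + 1) _ ha hb'
  refine ⟨_, hb, y, ?_, ?_⟩
  · intro j
    rw [WittVector.coeff_truncate, WittVector.coeff_mk]
    have h := hwfil ⟨(j : ℕ) + 1, Nat.succ_lt_succ j.2⟩
    rw [WittVector.coeff_truncate] at h
    have e : m + 1 - 1 - ((j : ℕ) + 1) = m - 1 - (j : ℕ) := by omega
    simp only at h
    rw [e] at h
    exact h
  · rw [hVy, hw, map_sub]
    ring

end Groth.Agent.S19274
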