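import Mathlib
import Groth.Statements.S19277
import Groth.Agent.Lib.Helper9.CycUnit
-- import your own Groth.Agent.* helpers here

set_option autoImplicit false
universe u v
open GrpAlg

namespace Groth.Agent.S19277

open W4c6equivkfinstab Groth.Agent.Helper9.CycUnit

/-- Let `M` be a commutative group, `B ≠ B'` subgroups of finite index with `M ⧸ B` and `M ⧸ B'` cyclic,
and `Λ` a commutative ring in which both indices are invertible. Then the localization of the
`Λ[M]`-module `Λ[M ⧸ B]/(Φ_{|M/B|})` at the multiplicative subset of `Λ[M]` of elements with image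
`1` in `Λ[M ⧸ B']/(Φ_{|M/B'|})` is zero. (In terms of group schemes: for two distinct dual cyclic
subgroups σ, σ' of the diagonalizable group with character group `M`, the ring R̃(σ) with
coefficients in `Λ` vanishes after localization at σ'. The published statement has a split torus,
i.e. `M` free of finite rank, and `Λ = ℤ[1/N]` for `N` the order of the subgroup generated by σ and
σ'; here `M` is any commutative group and `Λ` any commutative ring in which the orders of σ and σ'
are invertible.) -/
theorem result (Λ : Type u) [CommRing Λ] (M : Type v)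
    [AddCommGroup M] (B B' : AddSubgroup M) [B.FiniteIndex] [B'.FiniteIndex]
    [IsAddCyclic (M ⧸ B)] [IsAddCyclic (M ⧸ B')] (hne : B ≠ B')
    (hu : IsUnit ((B.index * B'.index : ℕ) : Λ)) :
    Subsingleton (LocalizedModule (W4c6equivkfinstab.locSubmonoid Λ M B')
      (W4c6equivkfinstab.CycQuot Λ (M ⧸ B))) := by
  classical
  rw [LocalizedModule.subsingleton_iff]
  have hidx : IsUnit ((B.index : ℕ) : Λ) ∧ IsUnit ((B'.index : ℕ) : Λ) := by
    rw [Nat.cast_mul] at hu; exact IsUnit.mul_iff.mp hu
  by_cases hle : B ≤ B'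
  · have hle' : ¬ B' ≤ B := fun h => hne (le_antisymm hle h)
    obtain ⟨b, hb', hb⟩ := SetLike.not_le_iff_exists.mp hle'
    have hunit := isUnit_cycQuotMap_single_sub_one Λ M B hidx.1 b hb
    obtain ⟨w, hw⟩ := hunit.exists_right_inv
    obtain ⟨v, hv⟩ := cycQuotMap_surjective Λ M B w
    intro y
    refine ⟨1 - (AddMonoidAlgebra.single b 1 - 1) * v, ?_, ?_⟩
    · show cycQuotMap Λ M B' (1 - (AddMonoidAlgebra.single b 1 - 1) * v) = 1
      rw [map_sub, map_one, map_mul, cycQuotMap_single_sub_one_eq_zero Λ M B' b hb', zero_mul,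
        sub_zero]
    · rw [smul_cycQuot, map_sub, map_one, map_mul, hv, hw, sub_self, zero_mul]
  · obtain ⟨b, hb, hb'⟩ := SetLike.not_le_iff_exists.mp hle
    have hunit := isUnit_cycQuotMap_single_sub_one Λ M B' hidx.2 b hb'
    obtain ⟨w, hw⟩ := hunit.exists_right_inv
    obtain ⟨v, hv⟩ := cycQuotMap_surjective Λ M B' w
    intro y
    refine ⟨(AddMonoidAlgebra.single b 1 - 1) * v, ?_, ?_⟩
    · show cycQuotMap Λ M B' ((AddMonoidAlgebra.single b 1 - 1) * v) = 1
      rw [map_mul, hv, hw]
    · rw [smul_cycQuot, map_mul, cycQuotMap_single_sub_one_eq_zero Λ M B b hb, zero_mul, zero_mul]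

end Groth.Agent.S19277
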