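import Mathlib
import Groth.Statements.S19288
-- import your own Groth.Agent.* helpers here

set_option autoImplicit false
universe u
open CategoryTheory CategoryTheory.Limits MonoidalCategory CartesianMonoidalCategory MonObj AlgebraicGeometry
open AbSch

namespace Groth.Agent.S19288


/-- Let S be a scheme, X a commutative S-group scheme which is etale and separated over S (hence locally
of finite presentation), and P a commutative S-group scheme of finite presentation over S all of
whose fibres are connected. Then every homomorphism of S-group schemes from P to X is trivial (it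
factors through the unit section). -/
theorem result {S : Scheme.{u}} (P X : Over S)
    [GrpObj P] [IsCommMonObj P] [GrpObj X] [IsCommMonObj X]
    [Etale X.hom] [IsSeparated X.hom]
    [QuasiCompact P.hom] [QuasiSeparated P.hom] [LocallyOfFinitePresentation P.hom]
    (hP : ∀ s : S, ConnectedSpace ↥(P.hom.fiber s))
    (f : P ⟶ X) [IsMonHom f] : f = 1 := by
  obtain ⟨e, he⟩ : ∃ e : S ⟶ X.left, e = η[X].left := ⟨_, rfl⟩
  have hsec : e ≫ X.hom = 𝟙 S := by
    rw [he]; exact Over.w η[X]
  haveI : Etale (e ≫ X.hom) := by rw [hsec]; infer_instance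
  haveI : Etale e := Etale.of_comp e X.hom
  haveI : Mono e := mono_of_mono_fac hsec
  haveI : IsOpenImmersion e := IsOpenImmersion.of_flat_of_mono e
  haveI : IsClosedImmersion (e ≫ X.hom) := by rw [hsec]; infer_instance
  haveI : IsClosedImmersion e := IsClosedImmersion.of_comp e X.hom
  have hclopen : IsClopen (Set.range e) :=
    ⟨e.isClosedEmbedding.isClosed_range, e.isOpenEmbedding.isOpen_range⟩
  obtain ⟨eP, heP⟩ : ∃ eP : S ⟶ P.left, eP = η[P].left := ⟨_, rfl⟩
  have hunit : eP ≫ f.left = e := by
    rw [he, heP, ← Over.comp_left, IsMonHom.one_hom]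
  have hsecP : eP ≫ P.hom = 𝟙 S := by
    rw [heP]; exact Over.w η[P]
  have hrange : Set.range f.left ⊆ Set.range e := by
    rintro _ ⟨p, rfl⟩
    obtain ⟨s, hs⟩ : ∃ s, s = P.hom p := ⟨_, rfl⟩
    haveI := hP s
    have hW : IsClopen ((P.hom.fiberι s) ⁻¹' (f.left ⁻¹' Set.range e)) :=
      (hclopen.preimage f.left.continuous).preimage (P.hom.fiberι s).continuous
    have hne : ((P.hom.fiberι s) ⁻¹' (f.left ⁻¹' Set.range e)).Nonempty := by
      have hu : eP s ∈ Set.range (P.hom.fiberι s) := by
        rw [Scheme.Hom.range_fiberι]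
        have h0 : (eP ≫ P.hom) s = s := by rw [hsecP]; rfl
        rw [Scheme.Hom.comp_apply] at h0
        exact h0
      obtain ⟨z, hz⟩ := hu
      refine ⟨z, ?_⟩
      show f.left (P.hom.fiberι s z) ∈ Set.range e
      rw [hz]
      have h0 : (eP ≫ f.left) s = e s := by rw [hunit]
      rw [Scheme.Hom.comp_apply] at h0
      rw [h0]
      exact ⟨s, rfl⟩
    have huniv := hW.eq_univ hne
    have hp : p ∈ Set.range (P.hom.fiberι s) := by
      rw [Scheme.Hom.range_fiberι]; exact hs.symm
    obtain ⟨z', hz'⟩ := hp
    have hz'' : z' ∈ (P.hom.fiberι s) ⁻¹' (f.left ⁻¹' Set.range e) := huniv ▸ Set.mem_univ z'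
    rw [← hz']
    exact hz''
  obtain ⟨g, hg⟩ : ∃ g, g ≫ e = f.left :=
    ⟨IsOpenImmersion.lift e f.left hrange, IsOpenImmersion.lift_fac _ _ _⟩
  have hgP : g = P.hom := by
    have hw := Over.w f
    rw [← hw, ← hg, Category.assoc, hsec, Category.comp_id]
  apply Over.OverMorphism.ext
  rw [← hg, hgP, he]
  rfl

end Groth.Agent.S19288
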