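import Groth.Statements.S19310
import Mathlib
import Groth.Agent.H10.FibreDense

set_option autoImplicit false
universe u
open TensorProduct
open CAlg

namespace Groth.Agent.S19310

/-- Let k be an algebraically closed field, A a finitely generated k-algebra which is an integral domain
(X = Spec A an affine variety), R a commutative k-algebra, possibly non-reduced, and U an open
subset of X_R = Spec (R ⊗_k A) meeting every fibre of X_R → Spec R (a very dense open subset). Then
a regular function on X_R whose restriction to U vanishes is zero: if f ∈ R ⊗_k A maps to 0 in the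
localisation (R ⊗_k A)[1/g] for every g with D(g) ⊆ U, then f = 0. (The published statement is that
automorphisms of a torsor under a smooth affine group scheme over X_R which are the identity over a
very dense open subset are the identity, for X a smooth projective curve; its proof reduces this to
the present assertion about functions, for quasi-projective X; this row is the affine case.) -/
theorem result
    (k : Type u) [Field k] [IsAlgClosed k]
    (A : Type u) [CommRing A] [Algebra k A] [IsDomain A] [Algebra.FiniteType k A]
    (R : Type u) [CommRing R] [Algebra k R]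
    (U : TopologicalSpace.Opens (PrimeSpectrum (TensorProduct k R A)))
    (hsurj : ∀ q : PrimeSpectrum R, ∃ P ∈ U,
      PrimeSpectrum.comap (Algebra.TensorProduct.includeLeftRingHom : R →+* TensorProduct k R A) P = q)
    (f : TensorProduct k R A)
    (hf : ∀ g : TensorProduct k R A, (PrimeSpectrum.basicOpen g : Set (PrimeSpectrum (TensorProduct k R A))) ⊆ U →
      algebraMap (TensorProduct k R A) (Localization.Away g) f = 0) :
    f = 0 := by
  classical
  by_contra hne
  have h𝔞 : ∀ s, s ∈ LinearMap.ker (LinearMap.toSpanSingleton R (TensorProduct k R A) f) ↔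
      s • f = 0 := fun s => by
    rw [LinearMap.mem_ker, LinearMap.toSpanSingleton_apply]
  have h𝔞top : (LinearMap.ker (LinearMap.toSpanSingleton R (TensorProduct k R A) f) : Ideal R)
      ≠ ⊤ := by
    intro h
    have h1 : (1 : R) ∈ LinearMap.ker (LinearMap.toSpanSingleton R (TensorProduct k R A) f) :=
      h ▸ Submodule.mem_top
    rw [h𝔞, one_smul] at h1
    exact hne h1
  obtain ⟨𝔪, h𝔪max, h𝔪le⟩ := Ideal.exists_le_maximal _ h𝔞top
  haveI := h𝔪max
  obtain ⟨P, hPU, hPq⟩ := hsurj ⟨𝔪, h𝔪max.isPrime⟩
  obtain ⟨_, ⟨g, rfl⟩, hPg, hgU⟩ :=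
    PrimeSpectrum.isTopologicalBasis_basic_opens.exists_subset_of_mem_open hPU U.isOpen
  have h1 := hf g hgU
  obtain ⟨⟨_, N, rfl⟩, hN⟩ :=
    (IsLocalization.map_eq_zero_iff (Submonoid.powers g) (Localization.Away g) f).mp h1
  have hgP : g ^ N ∉ P.asIdeal := fun h => hPg (P.isPrime.mem_of_pow_mem N h)
  refine Groth.Agent.H10.FibreDense.star R 𝔪 (g ^ N) f hN ?_ ?_
  · by_contra! hall
    apply hgP
    rw [Groth.Agent.H10.FibreDense.coef_sum (g ^ N)]
    refine Ideal.sum_mem _ fun i _ => ?_
    have h2 : Groth.Agent.H10.FibreDense.coef k A R (g ^ N) i ⊗ₜ[k]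
        Groth.Agent.H10.FibreDense.eb k A i =
        Algebra.TensorProduct.includeLeftRingHom (Groth.Agent.H10.FibreDense.coef k A R (g ^ N) i)
          * ((1 : R) ⊗ₜ[k] Groth.Agent.H10.FibreDense.eb k A i) := by
      simp [Algebra.TensorProduct.tmul_mul_tmul]
    rw [h2]
    apply Ideal.mul_mem_right
    have h3 : Groth.Agent.H10.FibreDense.coef k A R (g ^ N) i ∈
        (PrimeSpectrum.comap (Algebra.TensorProduct.includeLeftRingHom :
          R →+* TensorProduct k R A) P).asIdeal := by
      rw [hPq]; exact hall i
    exact h3
  · intro s hs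
    exact h𝔪le ((h𝔞 s).mpr hs)

end Groth.Agent.S19310
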