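import Groth.Statements.S3544
import Mathlib

set_option autoImplicit false
universe u
open HomAlg3

namespace Groth.Agent.S3544

section helpers
open CategoryTheory CategoryTheory.Limits

variable {A : Type u} [Ring A]

theorem length_decomp {M₁ M₂ M₃ : Type*} [AddCommGroup M₁] [Module A M₁] [AddCommGroup M₂]
    [Module A M₂] [AddCommGroup M₃] [Module A M₃] (f : M₁ →ₗ[A] M₂) (g : M₂ →ₗ[A] M₃)
    (f' : M₁ →ₗ[A] LinearMap.ker g) (hf' : ∀ x, (f' x : M₂) = f x) :
    Module.length A M₂ = Module.length A (LinearMap.range f) +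
      Module.length A (LinearMap.ker g ⧸ LinearMap.range f') +
      Module.length A (LinearMap.range g) := by
  have h1 : Module.length A M₂ =
      Module.length A (LinearMap.ker g) + Module.length A (M₂ ⧸ LinearMap.ker g) :=
    Module.length_eq_add_of_exact (LinearMap.ker g).subtype (LinearMap.ker g).mkQ
      (Submodule.injective_subtype _) (Submodule.mkQ_surjective _)
      (LinearMap.exact_subtype_mkQ _)
  have h2 : Module.length A (M₂ ⧸ LinearMap.ker g) = Module.length A (LinearMap.range g) :=
    g.quotKerEquivRange.length_eq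
  have h3 : Module.length A (LinearMap.ker g) = Module.length A (LinearMap.range f') +
      Module.length A (LinearMap.ker g ⧸ LinearMap.range f') :=
    Module.length_eq_add_of_exact (LinearMap.range f').subtype (LinearMap.range f').mkQ
      (Submodule.injective_subtype _) (Submodule.mkQ_surjective _)
      (LinearMap.exact_subtype_mkQ _)
  have h4 : Module.length A (LinearMap.range f') = Module.length A (LinearMap.range f) := by
    have hcomp : f = (LinearMap.ker g).subtype.comp f' := by
      ext x
      exact (hf' x).symm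
    have : LinearMap.range f = (LinearMap.range f').map (LinearMap.ker g).subtype := by
      rw [hcomp, LinearMap.range_comp]
    rw [this]
    exact (Submodule.equivMapOfInjective (LinearMap.ker g).subtype
      (Submodule.injective_subtype _) (LinearMap.range f')).length_eq
  rw [h1, h2, h3, h4]

theorem enat_aux (a b c d : ℕ∞) (h : a = b + c + d) (ha : a ≠ ⊤) :
    (a.toNat : ℤ) = b.toNat + c.toNat + d.toNat ∧ c ≠ ⊤ := by
  subst h
  have hb : b ≠ ⊤ := by rintro rfl; simp at ha
  have hc : c ≠ ⊤ := by rintro rfl; simp at ha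
  have hd : d ≠ ⊤ := by rintro rfl; simp at ha
  lift b to ℕ using hb
  lift c to ℕ using hc
  lift d to ℕ using hd
  refine ⟨?_, by simp⟩
  norm_cast

theorem sc_length (S : ShortComplex (ModuleCat.{u} A)) (h : Module.length A S.X₂ ≠ ⊤) :
    ((Module.length A S.X₂).toNat : ℤ) =
      ((Module.length A (LinearMap.range S.f.hom)).toNat : ℤ) +
      ((Module.length A S.homology).toNat : ℤ) +
      ((Module.length A (LinearMap.range S.g.hom)).toNat : ℤ) ∧
    Module.length A S.homology ≠ ⊤ := by
  have h1 := length_decomp S.f.hom S.g.hom S.moduleCatToCycles (fun x => rfl)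
  have h2 : Module.length A S.homology = Module.length A
      (LinearMap.ker S.g.hom ⧸ LinearMap.range S.moduleCatToCycles) :=
    S.moduleCatHomologyIso.toLinearEquiv.length_eq
  rw [← h2] at h1
  exact enat_aux _ _ _ _ h1 h

abbrev sgn (pq : ℤ × ℤ) : ℤ := (((pq.1 + pq.2).negOnePow : ℤˣ) : ℤ)

noncomputable abbrev L (M : ModuleCat.{u} A) : ℤ := ((Module.length A M).toNat : ℤ)

noncomputable def ρ {ι : Type*} {c : ComplexShape ι} (K : HomologicalComplex (ModuleCat.{u} A) c)
    (i j : ι) : ℤ := ((Module.length A (LinearMap.range (K.d i j).hom)).toNat : ℤ)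

theorem rho_zero {ι : Type*} {c : ComplexShape ι} (K : HomologicalComplex (ModuleCat.{u} A) c)
    (i j : ι) (h : K.d i j = 0) : ρ K i j = 0 := by
  unfold ρ
  rw [h, ModuleCat.hom_zero, LinearMap.range_zero]
  simp

theorem K_length {ι : Type*} {c : ComplexShape ι} (K : HomologicalComplex (ModuleCat.{u} A) c)
    (i : ι) (h : Module.length A (K.X i) ≠ ⊤) :
    L (K.X i) = ρ K (c.prev i) i + L (K.homology i) + ρ K i (c.next i) ∧
      Module.length A (K.homology i) ≠ ⊤ :=
  sc_length (K.sc i) h

theorem euler_step (s : Finset (ℤ × ℤ)) (v : ℤ × ℤ) (hv : v.1 + v.2 = 1) (f : ℤ × ℤ → ℤ)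
    (h1 : ∀ pq, pq ∉ s → f pq = 0) (h2 : ∀ pq, pq + v ∉ s → f pq = 0) :
    s.sum (fun pq => sgn pq * (f (pq - v) + f pq)) = 0 := by
  have key : s.sum (fun pq => sgn pq * f (pq - v)) = s.sum (fun pq => -(sgn pq * f pq)) := by
    refine Finset.sum_bij_ne_zero (fun a _ _ => a - v) ?_ ?_ ?_ ?_
    · intro a ha hne
      by_contra hmem
      exact hne (by rw [h1 _ hmem, mul_zero])
    · intro a₁ _ _ a₂ _ _ h
      exact sub_left_injective h
    · intro b hb hne
      have hfb : f b ≠ 0 := by
        intro h0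
        exact hne (by rw [h0, mul_zero, neg_zero])
      have hbv : b + v ∈ s := by
        by_contra hmem
        exact hfb (h2 _ hmem)
      refine ⟨b + v, hbv, ?_, add_sub_cancel_right b v⟩
      rw [add_sub_cancel_right]
      exact mul_ne_zero (Units.ne_zero _) hfb
    · intro a ha hne
      have h3 : (a - v).1 + (a - v).2 = (a.1 + a.2) - 1 := by
        simp only [Prod.fst_sub, Prod.snd_sub]
        lia
      have h4 : (((a - v).1 + (a - v).2).negOnePow : ℤˣ) = -((a.1 + a.2).negOnePow) := by
        rw [h3, Int.negOnePow_sub, Int.negOnePow_one, mul_neg, mul_one]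
      show sgn a * f (a - v) = -(sgn (a - v) * f (a - v))
      unfold sgn
      rw [h4, Units.val_neg, neg_mul, neg_neg]
  simp only [mul_add, Finset.sum_add_distrib, key, Finset.sum_neg_distrib]
  exact neg_add_cancel _

theorem step (v : ℤ × ℤ) (hv : v.1 + v.2 = 1)
    (K : HomologicalComplex (ModuleCat.{u} A) (ComplexShape.up' v)) (s : Finset (ℤ × ℤ))
    (hs : ∀ pq, pq ∉ s → IsZero (K.X pq)) (hfl : ∀ pq, Module.length A (K.X pq) ≠ ⊤) :
    (∀ pq, pq ∉ s → IsZero (K.homology pq)) ∧
    (∀ pq, Module.length A (K.homology pq) ≠ ⊤) ∧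
    s.sum (fun pq => sgn pq * L (K.homology pq)) = s.sum (fun pq => sgn pq * L (K.X pq)) := by
  refine ⟨fun pq hpq => ShortComplex.isZero_homology_of_isZero_X₂ _ (hs pq hpq),
    fun pq => (K_length K pq (hfl pq)).2, ?_⟩
  have hnext : ∀ pq, (ComplexShape.up' v).next pq = pq + v :=
    fun pq => (ComplexShape.up' v).next_eq' (by simp)
  have hprev : ∀ pq, (ComplexShape.up' v).prev pq = pq - v :=
    fun pq => (ComplexShape.up' v).prev_eq' (by simp)
  have hpt : ∀ pq, L (K.X pq) = ρ K (pq - v) pq + L (K.homology pq) + ρ K pq (pq + v) := by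
    intro pq
    have := (K_length K pq (hfl pq)).1
    rw [hprev, hnext] at this
    exact this
  have hz : s.sum (fun pq => sgn pq * (ρ K (pq - v) (pq - v + v) + ρ K pq (pq + v))) = 0 :=
    euler_step s v hv (fun pq => ρ K pq (pq + v))
      (fun pq h => rho_zero K _ _ ((hs pq h).eq_of_src _ _))
      (fun pq h => rho_zero K _ _ ((hs _ h).eq_of_tgt _ _))
  have hf : ∀ pq, ρ K (pq - v) (pq - v + v) = ρ K (pq - v) pq := fun pq => by
    rw [sub_add_cancel]
  have hterm : ∀ pq, sgn pq * L (K.homology pq) = sgn pq * L (K.X pq) -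
      sgn pq * (ρ K (pq - v) (pq - v + v) + ρ K pq (pq + v)) := by
    intro pq
    rw [hf, hpt pq]
    ring
  rw [Finset.sum_congr rfl (fun pq _ => hterm pq), Finset.sum_sub_distrib, hz, sub_zero]

theorem main (E : E₂CohomologicalSpectralSequence (ModuleCat.{u} A)) (s : Finset (ℤ × ℤ))
    (hs : ∀ pq : ℤ × ℤ, pq ∉ s → IsZero ((E.page 2).X pq))
    (hfl : ∀ pq : ℤ × ℤ, IsFiniteLength A ((E.page 2).X pq)) (r : ℤ) (hr : 2 ≤ r) :
    (s.sum fun pq => (((pq.1 + pq.2).negOnePow : ℤˣ) : ℤ) *
        ((Module.length A ((E.page r hr).X pq)).toNat : ℤ)) =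
      s.sum fun pq => (((pq.1 + pq.2).negOnePow : ℤˣ) : ℤ) *
        ((Module.length A ((E.page 2).X pq)).toNat : ℤ) := by
  have key : ∀ (r : ℤ) (hr : 2 ≤ r), (∀ pq, pq ∉ s → IsZero ((E.page r hr).X pq)) ∧
      (∀ pq, Module.length A ((E.page r hr).X pq) ≠ ⊤) ∧
      (s.sum fun pq => sgn pq * L ((E.page r hr).X pq)) =
        s.sum fun pq => sgn pq * L ((E.page 2).X pq) := by
    intro r hr
    induction r, hr using Int.le_induction with
    | base => exact ⟨hs, fun pq => Module.length_ne_top_iff.mpr (hfl pq), rfl⟩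
    | succ n hn ih =>
      obtain ⟨ih1, ih2, ih3⟩ := ih
      obtain ⟨st1, st2, st3⟩ := step (n, 1 - n) (by show n + (1 - n) = 1; ring)
        (E.page n hn) s ih1 ih2
      refine ⟨?_, ?_, ?_⟩
      · intro pq hpq
        exact IsZero.of_iso (st1 pq hpq) (E.iso n (n + 1) pq rfl hn).symm
      · intro pq
        rw [← (E.iso n (n + 1) pq rfl hn).toLinearEquiv.length_eq]
        exact st2 pq
      · refine Eq.trans ?_ ih3
        refine Eq.trans ?_ st3
        refine Finset.sum_congr rfl (fun pq _ => ?_)
        exact congrArg (fun x : ℕ∞ => sgn pq * (x.toNat : ℤ))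
          (E.iso n (n + 1) pq rfl hn).toLinearEquiv.length_eq.symm
  exact (key r hr).2.2

end helpers

open CategoryTheory CategoryTheory.Limits in
/-- Let E be a cohomological spectral sequence of modules over a ring A, starting at page 2, such that
the E₂ terms have finite length and only finitely many of them (all inside the finite set s of
bidegrees) are nonzero. Then for every r ≥ 2 the Euler–Poincaré characteristic of page r, the
alternating sum over s of (-1)^{p+q} times the length of E_r^{pq}, equals that of page 2. -/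
theorem result {A : Type u} [Ring A]
    (E : E₂CohomologicalSpectralSequence (ModuleCat.{u} A)) (s : Finset (ℤ × ℤ))
    (hs : ∀ pq : ℤ × ℤ, pq ∉ s → IsZero ((E.page 2).X pq))
    (hfl : ∀ pq : ℤ × ℤ, IsFiniteLength A ((E.page 2).X pq)) (r : ℤ) (hr : 2 ≤ r) :
    (s.sum fun pq => (((pq.1 + pq.2).negOnePow : ℤˣ) : ℤ) * ((Module.length A ((E.page r hr).X pq)).toNat : ℤ)) =
      s.sum fun pq => (((pq.1 + pq.2).negOnePow : ℤˣ) : ℤ) * ((Module.length A ((E.page 2).X pq)).toNat : ℤ) := by
  exact Groth.Agent.S3544.main E s hs hfl r hr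

end Groth.Agent.S3544
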