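import Groth.Statements.S19322
import Mathlib
import Groth.Agent.S3544
import Groth.Agent.S6792

set_option autoImplicit false
universe v u
open CategoryTheory CategoryTheory.Limits
open SpSeq

namespace Groth.Agent.S19322

section helpers
open CategoryTheory CategoryTheory.Limits

variable {K : Type u} [Field K]

theorem sc_length' (S : ShortComplex (ModuleCat.{v} K)) :
    Module.length K S.X₂ = Module.length K (LinearMap.range S.f.hom) +
      Module.length K S.homology + Module.length K (LinearMap.range S.g.hom) := by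
  have h1 := Groth.Agent.S3544.length_decomp S.f.hom S.g.hom S.moduleCatToCycles (fun x => rfl)
  have h2 : Module.length K S.homology = Module.length K
      (LinearMap.ker S.g.hom ⧸ LinearMap.range S.moduleCatToCycles) :=
    S.moduleCatHomologyIso.toLinearEquiv.length_eq
  rw [← h2] at h1
  exact h1

noncomputable def rho {ι : Type*} {c : ComplexShape ι}
    (X : HomologicalComplex (ModuleCat.{v} K) c) (i j : ι) : ℕ∞ :=
  Module.length K (LinearMap.range (X.d i j).hom)

theorem d_eq_zero_of_rho {ι : Type*} {c : ComplexShape ι}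
    (X : HomologicalComplex (ModuleCat.{v} K) c) (i j : ι) (h : rho X i j = 0) :
    X.d i j = 0 := by
  unfold rho at h
  rw [Module.length_eq_zero_iff] at h
  apply ModuleCat.hom_ext
  apply LinearMap.ext
  intro x
  have h0 : (⟨(X.d i j).hom x, LinearMap.mem_range_self _ x⟩ :
      LinearMap.range (X.d i j).hom) = 0 := Subsingleton.elim _ _
  rw [ModuleCat.hom_zero, LinearMap.zero_apply]
  exact congrArg Subtype.val h0

theorem hc_length (w : ℤ × ℤ) (X : HomologicalComplex (ModuleCat.{v} K) (ComplexShape.up' w))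
    (pq : ℤ × ℤ) :
    Module.length K (X.X pq) =
      rho X (pq - w) pq + Module.length K (X.homology pq) + rho X pq (pq + w) := by
  have h : Module.length K (X.X pq) = rho X ((ComplexShape.up' w).prev pq) pq +
      Module.length K (X.homology pq) + rho X pq ((ComplexShape.up' w).next pq) :=
    sc_length' (X.sc pq)
  have hnext : (ComplexShape.up' w).next pq = pq + w := (ComplexShape.up' w).next_eq' (by simp)
  have hprev : (ComplexShape.up' w).prev pq = pq - w := (ComplexShape.up' w).prev_eq' (by simp)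
  rw [hprev, hnext] at h
  exact h

theorem enat_aux2 (a b c d : ℕ∞) (h : a = b + c + d) (ha : a ≠ ⊤) (hc : a ≤ c) :
    b = 0 ∧ d = 0 := by
  subst h
  have hb : b ≠ ⊤ := by rintro rfl; simp at ha
  have hc' : c ≠ ⊤ := by rintro rfl; simp at ha
  have hd : d ≠ ⊤ := by rintro rfl; simp at ha
  lift b to ℕ using hb
  lift c to ℕ using hc'
  lift d to ℕ using hd
  norm_cast at hc ⊢
  omega

theorem enat_sum_squeeze {ι : Type*} (s : Finset ι) (f g : ι → ℕ∞) (hle : ∀ i ∈ s, f i ≤ g i)
    (hfin : ∀ i ∈ s, g i ≠ ⊤) (hsum : ∑ i ∈ s, g i ≤ ∑ i ∈ s, f i) : ∀ i ∈ s, f i = g i := by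
  have hf : ∀ i ∈ s, f i = ((f i).toNat : ℕ∞) := fun i hi =>
    (ENat.coe_toNat (ne_top_of_le_ne_top (hfin i hi) (hle i hi))).symm
  have hg : ∀ i ∈ s, g i = ((g i).toNat : ℕ∞) := fun i hi => (ENat.coe_toNat (hfin i hi)).symm
  rw [Finset.sum_congr rfl hf, Finset.sum_congr rfl hg, ← Nat.cast_sum, ← Nat.cast_sum,
    Nat.cast_le] at hsum
  have hle' : ∀ i ∈ s, (f i).toNat ≤ (g i).toNat := fun i hi =>
    ENat.toNat_le_toNat (hle i hi) (hfin i hi)
  have := (Finset.sum_eq_sum_iff_of_le hle').mp (le_antisymm (Finset.sum_le_sum hle') hsum)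
  intro i hi
  calc f i = ((f i).toNat : ℕ∞) := hf i hi
    _ = ((g i).toNat : ℕ∞) := by rw [this i hi]
    _ = g i := (hg i hi).symm

theorem length_subquot {X : ModuleCat.{v} K} (Z B : Subobject X) (h : B ≤ Z) :
    Module.length K ((Z : ModuleCat.{v} K)) =
      Module.length K ((B : ModuleCat.{v} K)) + Module.length K ((SpSeq.subquot Z B h : ModuleCat.{v} K)) := by
  let S : ShortComplex (ModuleCat.{v} K) :=
    ShortComplex.mk (B.ofLE Z h) (cokernel.π (B.ofLE Z h)) (cokernel.condition _)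
  have hS : S.Exact := ShortComplex.exact_of_g_is_cokernel (S := S) (cokernelIsCokernel (B.ofLE Z h))
  have hex : Function.Exact (B.ofLE Z h).hom (cokernel.π (B.ofLE Z h)).hom :=
    (ShortComplex.ShortExact.moduleCat_exact_iff_function_exact S).mp hS
  have hinj : Function.Injective (B.ofLE Z h).hom := (ModuleCat.mono_iff_injective _).mp inferInstance
  have hsurj : Function.Surjective (cokernel.π (B.ofLE Z h)).hom :=
    (ModuleCat.epi_iff_surjective _).mp inferInstance
  exact Module.length_eq_add_of_exact (B.ofLE Z h).hom (cokernel.π (B.ofLE Z h)).hom hinj hsurj hex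

noncomputable def lam {X : ModuleCat.{v} K} (F : ℤ → Subobject X) (p : ℤ) : ℕ∞ :=
  Module.length K ((F p : ModuleCat.{v} K))

noncomputable def lgr {X : ModuleCat.{v} K} (F : ℤ → Subobject X) (hF : Antitone F) (p : ℤ) : ℕ∞ :=
  Module.length K ((SpSeq.grPiece F hF p : ModuleCat.{v} K))

theorem lam_step {X : ModuleCat.{v} K} (F : ℤ → Subobject X) (hF : Antitone F) (p : ℤ) :
    lam F p = lam F (p + 1) + lgr F hF p :=
  length_subquot (F p) (F (p + 1)) _

theorem lam_top {X : ModuleCat.{v} K} (F : ℤ → Subobject X) (p : ℤ) (h : F p = ⊤) :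
    lam F p = Module.length K X := by
  haveI : IsIso (F p).arrow := (Subobject.isIso_arrow_iff_eq_top _).2 h
  exact (asIso (F p).arrow).toLinearEquiv.length_eq

theorem lam_bot {X : ModuleCat.{v} K} (F : ℤ → Subobject X) (p : ℤ) (h : F p = ⊥) :
    lam F p = 0 := by
  have h0 : (F p).arrow = 0 := Groth.Agent.S6792.arrow_eq_zero_of_eq_bot _ h
  have hz : IsZero ((F p : ModuleCat.{v} K)) := IsZero.of_mono_eq_zero _ h0
  have := ModuleCat.subsingleton_of_isZero hz
  exact Module.length_eq_zero_iff.mpr this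

theorem lam_tel {X : ModuleCat.{v} K} (F : ℤ → Subobject X) (hF : Antitone F) (a : ℤ) (j : ℕ) :
    lam F a = lam F (a + j) + ∑ i ∈ Finset.range j, lgr F hF (a + i) := by
  induction j with
  | zero =>
    have : a + ((0 : ℕ) : ℤ) = a := by simp
    rw [this, Finset.range_zero, Finset.sum_empty, add_zero]
  | succ j ih =>
    have e : a + ((j + 1 : ℕ) : ℤ) = a + (j : ℤ) + 1 := by push_cast; ring
    rw [Finset.sum_range_succ, e, ih, lam_step F hF (a + j)]
    ring

theorem fil_length_sum {X : ModuleCat.{v} K} (F : ℤ → Subobject X) (hF : Antitone F) (a : ℤ)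
    (k : ℕ) (ha : F a = ⊤) (hb : F (a + k) = ⊥) :
    Module.length K X = ∑ i ∈ Finset.range k, lgr F hF (a + i) := by
  rw [← lam_top F a ha, lam_tel F hF a k, lam_bot F _ hb, zero_add]

variable {r₀ : ℤ} (E : CohomologicalSpectralSequence (ModuleCat.{v} K) r₀)

noncomputable def ell (r : ℤ) (hr : r₀ ≤ r) (pq : ℤ × ℤ) : ℕ∞ :=
  Module.length K ((E.page r hr).X pq)

theorem page_step (r : ℤ) (hr : r₀ ≤ r) (pq : ℤ × ℤ) :
    ell E r hr pq = rho (E.page r hr) (pq - (r, 1 - r)) pq +
      ell E (r + 1) (hr.trans (Int.le_add_one le_rfl)) pq +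
      rho (E.page r hr) pq (pq + (r, 1 - r)) := by
  have h := hc_length (r, 1 - r) (E.page r hr) pq
  have hiso : Module.length K ((E.page r hr).homology pq) =
      Module.length K ((E.page (r + 1) (hr.trans (Int.le_add_one le_rfl))).X pq) :=
    (E.iso r (r + 1) pq rfl hr).toLinearEquiv.length_eq
  rw [hiso] at h
  exact h

theorem len_mono (pq : ℤ × ℤ) (r : ℤ) (hr : r₀ ≤ r) (r' : ℤ) (hrr' : r ≤ r') :
    ell E r' (hr.trans hrr') pq ≤ ell E r hr pq := by
  induction r', hrr' using Int.le_induction with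
  | base => exact le_rfl
  | succ k hk ih =>
    refine le_trans ?_ ih
    rw [page_step E k (hr.trans hk) pq]
    exact le_trans le_add_self le_self_add

theorem isZero_of_ell_eq_zero (r : ℤ) (hr : r₀ ≤ r) (pq : ℤ × ℤ) (h : ell E r hr pq = 0) :
    IsZero ((E.page r hr).X pq) := by
  unfold ell at h
  rw [Module.length_eq_zero_iff] at h
  exact ModuleCat.isZero_of_subsingleton _

theorem ell_eq_zero_of_isZero (r : ℤ) (hr : r₀ ≤ r) (pq : ℤ × ℤ)
    (h : IsZero ((E.page r hr).X pq)) : ell E r hr pq = 0 := by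
  have := ModuleCat.subsingleton_of_isZero h
  exact Module.length_eq_zero_iff.mpr this

theorem main
    (E : CohomologicalSpectralSequence (ModuleCat.{v} K) r₀) (H : ℤ → ModuleCat.{v} K)
    (a : SpSeq.Abutment E H) (n : ℤ) (hfin : a.IsFinite n)
    (hquad : ∀ pq : ℤ × ℤ, pq.1 < 0 ∨ pq.2 < 0 → IsZero ((E.page r₀ le_rfl).X pq))
    (hfd : ∀ pq : ℤ × ℤ, Module.Finite K ((E.page r₀ le_rfl).X pq))
    (hH : Module.Finite K (H n))
    (hsum : ∑ s ∈ Finset.Icc (0 : ℤ) n, Module.finrank K ((E.page r₀ le_rfl).X (s, n - s)) =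
      Module.finrank K (H n)) :
    ∀ s : ℤ, SpSeq.StationaryAt E (s, n - s) r₀ := by
  have hrk : ∀ pq, r₀ ≤ a.rk pq := fun pq => (a.stat pq).1
  have hfg : ∀ s : ℤ, ell E (a.rk (s, n - s)) (hrk _) (s, n - s) ≤ ell E r₀ le_rfl (s, n - s) :=
    fun s => len_mono E (s, n - s) r₀ le_rfl _ (hrk _)
  have hg_top : ∀ s : ℤ, ell E r₀ le_rfl (s, n - s) ≠ ⊤ := by
    intro s
    haveI := hfd (s, n - s)
    unfold ell
    rw [Module.length_eq_finrank]
    exact ENat.coe_ne_top _
  have hg0 : ∀ s : ℤ, s ∉ Finset.Icc (0 : ℤ) n → ell E r₀ le_rfl (s, n - s) = 0 := by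
    intro s hs
    apply ell_eq_zero_of_isZero
    apply hquad
    rw [Finset.mem_Icc, not_and_or, not_le, not_le] at hs
    rcases hs with h | h
    · exact Or.inl h
    · exact Or.inr (by show n - s < 0; omega)
  have hf0 : ∀ s : ℤ, s ∉ Finset.Icc (0 : ℤ) n →
      ell E (a.rk (s, n - s)) (hrk _) (s, n - s) = 0 :=
    fun s hs => le_antisymm ((hfg s).trans (hg0 s hs).le) zero_le
  have hβ : ∀ s : ℤ, ell E (a.rk (s, n - s)) (hrk _) (s, n - s) =
      lgr (a.fil n) (a.anti n) s := by
    intro s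
    have h := (a.β (s, n - s)).toLinearEquiv.length_eq
    have e : s + (n - s) = n := by ring
    dsimp only at h
    rw [e] at h
    unfold ell lgr
    exact h
  obtain ⟨⟨a₀, ha₀⟩, ⟨b₀, hb₀⟩⟩ := hfin
  obtain ⟨a₁, ha₁le, ha₁top⟩ : ∃ a₁ : ℤ, a₁ ≤ 0 ∧ a.fil n a₁ = ⊤ := by
    refine ⟨min a₀ 0, min_le_right _ _, top_le_iff.mp ?_⟩
    have h := a.anti n (min_le_left a₀ 0)
    change a.fil n a₀ = ⊤ at ha₀
    rwa [ha₀] at h
  obtain ⟨k, hk, hkbot⟩ : ∃ k : ℕ, n < a₁ + k ∧ a.fil n (a₁ + k) = ⊥ := by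
    have hb1 : a₁ ≤ max (max b₀ (n + 1)) a₁ := le_max_right _ _
    have hb2 : b₀ ≤ max (max b₀ (n + 1)) a₁ := (le_max_left _ _).trans (le_max_left _ _)
    have hb3 : n + 1 ≤ max (max b₀ (n + 1)) a₁ := (le_max_right _ _).trans (le_max_left _ _)
    generalize max (max b₀ (n + 1)) a₁ = b₁ at hb1 hb2 hb3
    have e : a₁ + ((b₁ - a₁).toNat : ℤ) = b₁ := by omega
    refine ⟨(b₁ - a₁).toNat, by omega, le_bot_iff.mp ?_⟩
    rw [e]
    have h := a.anti n hb2
    change a.fil n b₀ = ⊥ at hb₀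
    rwa [hb₀] at h
  have hHlen : Module.length K (H n) =
      ∑ s ∈ Finset.Icc (0 : ℤ) n, ell E (a.rk (s, n - s)) (hrk _) (s, n - s) := by
    refine (fil_length_sum (a.fil n) (a.anti n) a₁ k ha₁top hkbot).trans ?_
    refine (Finset.sum_congr rfl (fun (i : ℕ) _ => (hβ (a₁ + (i : ℤ))).symm)).trans ?_
    refine Finset.sum_bij_ne_zero (fun i _ _ => a₁ + (i : ℤ)) ?_ ?_ ?_ ?_
    · intro i _ hne
      by_contra hmem
      exact hne (hf0 _ hmem)
    · intro i _ _ j _ _ h
      have : (i : ℤ) = j := add_left_cancel h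
      exact_mod_cast this
    · intro s hs hne
      rw [Finset.mem_Icc] at hs
      obtain ⟨i, hi⟩ : ∃ i : ℕ, s = a₁ + (i : ℤ) := ⟨(s - a₁).toNat, by omega⟩
      subst hi
      exact ⟨i, Finset.mem_range.mpr (by omega), hne, rfl⟩
    · intro i _ _
      rfl
  have hsum' : ∑ s ∈ Finset.Icc (0 : ℤ) n, ell E r₀ le_rfl (s, n - s) =
      Module.length K (H n) := by
    have h := congrArg (Nat.cast : ℕ → ℕ∞) hsum
    rw [Nat.cast_sum] at h
    rw [Module.length_eq_finrank K (H n), ← h]
    refine Finset.sum_congr rfl (fun s _ => ?_)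
    haveI := hfd (s, n - s)
    exact Module.length_eq_finrank K _
  have heq : ∀ s ∈ Finset.Icc (0 : ℤ) n,
      ell E (a.rk (s, n - s)) (hrk _) (s, n - s) = ell E r₀ le_rfl (s, n - s) :=
    enat_sum_squeeze (Finset.Icc (0 : ℤ) n)
      (fun s => ell E (a.rk (s, n - s)) (hrk _) (s, n - s))
      (fun s => ell E r₀ le_rfl (s, n - s)) (fun s _ => hfg s) (fun s _ => hg_top s)
      (le_of_eq (hsum'.trans hHlen))
  intro s
  refine ⟨le_rfl, fun r' h₀ _ => ?_⟩
  by_cases hs : s ∈ Finset.Icc (0 : ℤ) n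
  · by_cases hR : a.rk (s, n - s) ≤ r'
    · exact (a.stat (s, n - s)).2 r' h₀ hR
    · have hR' : r' + 1 ≤ a.rk (s, n - s) := by omega
      have h₁ : r₀ ≤ r' + 1 := by omega
      have h1 : ell E (a.rk (s, n - s)) (hrk _) (s, n - s) ≤ ell E (r' + 1) h₁ (s, n - s) :=
        len_mono E (s, n - s) (r' + 1) h₁ _ hR'
      have h2 : ell E r' h₀ (s, n - s) ≤ ell E r₀ le_rfl (s, n - s) :=
        len_mono E (s, n - s) r₀ le_rfl r' h₀
      have h4 : ell E r' h₀ (s, n - s) ≤ ell E (r' + 1) h₁ (s, n - s) :=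
        h2.trans ((heq s hs).symm.le.trans h1)
      have htop : ell E r' h₀ (s, n - s) ≠ ⊤ := ne_top_of_le_ne_top (hg_top s) h2
      obtain ⟨hb, hd⟩ := enat_aux2 _ _ _ _ (page_step E r' h₀ (s, n - s)) htop h4
      exact ⟨d_eq_zero_of_rho _ _ _ hb, d_eq_zero_of_rho _ _ _ hd⟩
  · have hz : ell E r' h₀ (s, n - s) = 0 :=
      le_antisymm ((len_mono E (s, n - s) r₀ le_rfl r' h₀).trans (hg0 s hs).le) zero_le
    have hZ := isZero_of_ell_eq_zero E r' h₀ (s, n - s) hz
    exact ⟨hZ.eq_of_tgt _ _, hZ.eq_of_src _ _⟩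

end helpers

/-- Let K be a field and E a cohomological spectral sequence of K-vector spaces, pages from r₀,
concentrated in the first quadrant on page r₀ and with all terms of page r₀ finite-dimensional, and
let H be abutment data for E whose filtration in degree n is finite, H n finite-dimensional. If the
dimensions of the page-r₀ terms E^{s, n-s}, 0 ≤ s ≤ n, add up to the dimension of H n, then every
position of total degree n is stationary from page r₀ on: all differentials into and out of it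
vanish on every page. (The printed statement takes r₀ a positive integer and n ≥ 0; neither
restriction is needed.) -/
theorem result
    {K : Type u} [Field K] {r₀ : ℤ}
    (E : CohomologicalSpectralSequence (ModuleCat.{v} K) r₀) (H : ℤ → ModuleCat.{v} K)
    (a : SpSeq.Abutment E H) (n : ℤ) (hfin : a.IsFinite n)
    (hquad : ∀ pq : ℤ × ℤ, pq.1 < 0 ∨ pq.2 < 0 → IsZero ((E.page r₀ le_rfl).X pq))
    (hfd : ∀ pq : ℤ × ℤ, Module.Finite K ((E.page r₀ le_rfl).X pq))
    (hH : Module.Finite K (H n))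
    (hsum : ∑ s ∈ Finset.Icc (0 : ℤ) n, Module.finrank K ((E.page r₀ le_rfl).X (s, n - s)) =
      Module.finrank K (H n)) :
    ∀ s : ℤ, SpSeq.StationaryAt E (s, n - s) r₀ := by
  exact Groth.Agent.S19322.main E H a n hfin hquad hfd hH hsum

end Groth.Agent.S19322
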