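import Groth.Statements.S19323
import Mathlib

set_option autoImplicit false
universe v u
open CategoryTheory CategoryTheory.Limits
open SpSeq

namespace Groth.Agent.S19323

theorem mono_homologyMap_of_mono {C : Type u} [Category.{v} C] [Abelian C] {ι : Type*}
    {c : ComplexShape ι} {K K' : HomologicalComplex C c} (ψ : K ⟶ K') (i : ι) [Mono (ψ.f i)]
    (h : ∀ j, K'.d j i = 0) : Mono (HomologicalComplex.homologyMap ψ i) := by
  haveI : IsIso (K'.homologyπ i) := K'.isIso_homologyπ (c.prev i) i rfl (h _)
  haveI : Mono (HomologicalComplex.cyclesMap ψ i) := by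
    have : Mono (HomologicalComplex.cyclesMap ψ i ≫ K'.iCycles i) := by
      rw [HomologicalComplex.cyclesMap_i]; infer_instance
    exact mono_of_mono _ (K'.iCycles i)
  have h1 : Mono (K.homologyπ i ≫ HomologicalComplex.homologyMap ψ i) := by
    rw [HomologicalComplex.homologyπ_naturality]; infer_instance
  haveI : Mono (K.homologyπ i) := mono_of_mono _ (HomologicalComplex.homologyMap ψ i)
  haveI : IsIso (K.homologyπ i) := isIso_of_mono_of_epi _
  have : HomologicalComplex.homologyMap ψ i =
      inv (K.homologyπ i) ≫ (K.homologyπ i ≫ HomologicalComplex.homologyMap ψ i) := by simp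
  rw [this]
  infer_instance


/-- In an abelian category let E and E' be first-quadrant E₂ cohomological spectral sequences and φ : E
⟶ E' a morphism of spectral sequences such that (i) every differential of E' leaving a position
whose first coordinate is nonzero vanishes, (ii) on every page the map φ at each position followed
by the outgoing differential of E' is zero, and (iii) φ is a monomorphism at every position of page
2. Then E degenerates at page 2. -/
theorem result
    {C : Type u} [Category.{v} C] [Abelian C]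
    (E E' : E₂CohomologicalSpectralSequence C) (φ : E ⟶ E')
    (hE : ∀ pq : ℤ × ℤ, pq.1 < 0 ∨ pq.2 < 0 → IsZero ((E.page 2 le_rfl).X pq))
    (hE' : ∀ pq : ℤ × ℤ, pq.1 < 0 ∨ pq.2 < 0 → IsZero ((E'.page 2 le_rfl).X pq))
    (hd' : ∀ (r : ℤ) (hr : 2 ≤ r) (pq : ℤ × ℤ), pq.1 ≠ 0 →
      (E'.page r hr).d pq (pq + (r, 1 - r)) = 0)
    (hφd : ∀ (r : ℤ) (hr : 2 ≤ r) (pq : ℤ × ℤ),
      (φ.hom r hr).f pq ≫ (E'.page r hr).d pq (pq + (r, 1 - r)) = 0)
    (hmono : ∀ pq : ℤ × ℤ, Mono ((φ.hom 2 le_rfl).f pq)) :
    SpSeq.Degenerates E 2 := by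
  refine ⟨le_rfl, ?_⟩
  have claim : ∀ (r : ℤ) (hr : 2 ≤ r),
      (∀ pq : ℤ × ℤ, pq.1 < 0 ∨ pq.2 < 0 → IsZero ((E.page r hr).X pq)) ∧
      (∀ pq : ℤ × ℤ, r ≤ pq.1 → Mono ((φ.hom r hr).f pq)) := by
    intro r hr
    induction r, hr using Int.le_induction with
    | base => exact ⟨hE, fun pq _ => hmono pq⟩
    | succ r hr ih =>
      obtain ⟨ih1, ih2⟩ := ih
      constructor
      · intro pq hpq
        have hz : IsZero ((E.page r hr).homology pq) :=
          ShortComplex.isZero_homology_of_isZero_X₂ _ (ih1 pq hpq)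
        exact IsZero.of_iso hz (E.iso r (r+1) pq rfl hr).symm
      · intro pq hpq
        haveI : Mono ((φ.hom r hr).f pq) := ih2 pq (by omega)
        have hd0 : ∀ j, (E'.page r hr).d j pq = 0 := by
          intro j
          by_cases hrel : (ComplexShape.up' (⟨r, 1 - r⟩ : ℤ × ℤ)).Rel j pq
          · have hj : j + (r, 1 - r) = pq := hrel
            subst hj
            apply hd' r hr j
            simp at hpq
            omega
          · exact (E'.page r hr).shape _ _ hrel
        haveI := mono_homologyMap_of_mono (φ.hom r hr) pq hd0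
        have hcomm := φ.comm r (r+1) pq rfl hr
        have : (φ.hom (r+1) (by omega)).f pq = (E.iso r (r+1) pq rfl hr).inv ≫
            HomologicalComplex.homologyMap (φ.hom r hr) pq ≫ (E'.iso r (r+1) pq rfl hr).hom := by
          rw [hcomm]; simp
        rw [this]
        infer_instance
  intro r' h₀ _ pq pq'
  obtain ⟨c1, c2⟩ := claim r' h₀
  by_cases hrel : (ComplexShape.up' (⟨r', 1 - r'⟩ : ℤ × ℤ)).Rel pq pq'
  · have hj : pq + (r', 1 - r') = pq' := hrel
    subst hj
    by_cases hneg : pq.1 < 0
    · exact (c1 pq (Or.inl hneg)).eq_of_src _ _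
    · haveI : Mono ((φ.hom r' h₀).f (pq + (r', 1 - r'))) := c2 _ (by simp; omega)
      rw [← cancel_mono ((φ.hom r' h₀).f (pq + (r', 1 - r'))), zero_comp,
        ← (φ.hom r' h₀).comm]
      exact hφd r' h₀ pq
  · exact (E.page r' h₀).shape _ _ hrel

end Groth.Agent.S19323
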