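import Groth.Statements.S19326
import Mathlib
import Groth.Agent.Lib.Helper4.LinRed
-- import your own Groth.Agent.* helpers here

set_option autoImplicit false
universe u
open TensorProduct
open GLin

namespace Groth.Agent.S19326


open TensorProduct Groth.Agent.H29 Groth.Agent.Helper4.LinRed

section

variable {k : Type u} [Field k] {M : Type u} [AddCommGroup M]

/-- The coefficient at `a`. -/
noncomputable def chi (a : M) : AddMonoidAlgebra k M →ₗ[k] k :=
  Finsupp.lapply a ∘ₗ (AddMonoidAlgebra.coeffLinearEquiv k).toLinearMap

lemma chi_single [DecidableEq M] (a b : M) (r : k) :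
    chi a (AddMonoidAlgebra.single b r) = if b = a then r else 0 := by
  show (Finsupp.single b r : M →₀ k) a = _
  rw [Finsupp.single_apply]

lemma eq_sum_chi [Fintype M] (ψ : AddMonoidAlgebra k M →ₗ[k] k) :
    ψ = ∑ a : M, ψ (AddMonoidAlgebra.single a 1) • chi (k := k) a := by
  classical
  apply AddMonoidAlgebra.lhom_ext'
  intro x
  apply LinearMap.ext_ring
  simp only [LinearMap.comp_apply, AddMonoidAlgebra.lsingle_apply, LinearMap.sum_apply,
    LinearMap.smul_apply, chi_single, smul_eq_mul, mul_ite, mul_one, mul_zero]
  simp [Finset.sum_ite_eq]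

lemma rAct_chi_comul (a : M) (c : AddMonoidAlgebra k M) :
    rAct (AddMonoidAlgebra k M) (chi a) (CoalgebraStruct.comul (R := k) c) =
      chi a c • AddMonoidAlgebra.single a (1 : k) := by
  classical
  have h : rAct (AddMonoidAlgebra k M) (chi (k := k) a) ∘ₗ CoalgebraStruct.comul (R := k) =
      LinearMap.smulRight (chi (k := k) a) (AddMonoidAlgebra.single a (1 : k)) := by
    apply AddMonoidAlgebra.lhom_ext'
    intro x
    apply LinearMap.ext_ring
    simp only [LinearMap.comp_apply, AddMonoidAlgebra.lsingle_apply, LinearMap.smulRight_apply]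
    rw [AddMonoidAlgebra.comul_single, CommSemiring.comul_apply, TensorProduct.map_tmul,
      AddMonoidAlgebra.lsingle_apply, rAct_tmul, chi_single]
    by_cases hx : x = a
    · subst hx
      rfl
    · rw [if_neg hx, zero_smul, zero_smul]
  exact LinearMap.congr_fun h c

variable {R : Type u} [CommRing R] [Algebra k R] [HopfRep.Comod k (AddMonoidAlgebra k M) R]

lemma rAct_assoc_symm' (J : AddMonoidAlgebra k M →ₗ[k] k) (x : R)
    (t : AddMonoidAlgebra k M ⊗[k] AddMonoidAlgebra k M) :
    rAct (R ⊗[k] AddMonoidAlgebra k M) J
        ((TensorProduct.assoc k R (AddMonoidAlgebra k M) (AddMonoidAlgebra k M)).symm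
          (x ⊗ₜ[k] t)) =
      x ⊗ₜ[k] (rAct (AddMonoidAlgebra k M) J t) := by
  induction t using TensorProduct.induction_on with
  | zero => simp
  | tmul b c => simp [TensorProduct.tmul_smul]
  | add s t hs ht => simp only [TensorProduct.tmul_add, map_add, hs, ht]

lemma comp_mem_eigenspace (a : M) (f : R) :
    dualAct (chi (k := k) a) f ∈
      HopfRep.eigenspace k (AddMonoidAlgebra k M) R (AddMonoidAlgebra.single a 1) := by
  show HopfRep.Comod.coact (k := k) (A := AddMonoidAlgebra k M) (dualAct (chi (k := k) a) f) =
    dualAct (chi (k := k) a) f ⊗ₜ[k] AddMonoidAlgebra.single a (1 : k)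
  have hco := LinearMap.congr_fun
    (HopfRep.Comod.coassoc (k := k) (A := AddMonoidAlgebra k M) (V := R)) f
  simp only [LinearMap.comp_apply, LinearEquiv.coe_coe] at hco
  have h1 : ∀ z : R ⊗[k] AddMonoidAlgebra k M,
      rAct (R ⊗[k] AddMonoidAlgebra k M) (chi (k := k) a)
        ((TensorProduct.assoc k R (AddMonoidAlgebra k M) (AddMonoidAlgebra k M)).symm
          ((CoalgebraStruct.comul (R := k) (A := AddMonoidAlgebra k M)).lTensor R z)) =
      rAct R (chi (k := k) a) z ⊗ₜ[k] AddMonoidAlgebra.single a (1 : k) := by
    intro z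
    induction z using TensorProduct.induction_on with
    | zero => simp
    | tmul r c =>
      rw [LinearMap.lTensor_tmul, rAct_assoc_symm', rAct_chi_comul, rAct_tmul,
        TensorProduct.tmul_smul, TensorProduct.smul_tmul']
    | add s t hs ht => simp only [map_add, TensorProduct.add_tmul, hs, ht]
  rw [dualAct_apply, rAct_natural (chi (k := k) a)
    (HopfRep.Comod.coact (k := k) (A := AddMonoidAlgebra k M) (V := R)), ← h1, ← hco,
    LinearEquiv.symm_apply_apply]

end


/-- Let k be a field, M a finite abelian group and D = Spec k[M] the finite diagonalizable group scheme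
it defines, acting on an affine k-scheme U = Spec R through a multiplicative coaction R → R ⊗ k[M];
write R_a for the weight space of a ∈ M (elements with coaction f ⊗ a). For an ideal J of R the
induced action of D on the closed subscheme V(J) is trivial, meaning that the coaction followed by
reduction modulo J equals f ↦ (f mod J) ⊗ 1, exactly when J contains the ideal generated by the
weight spaces R_a for a ≠ 0; in other words that ideal defines the largest closed subscheme of U on
which D acts trivially. (The printed setting has U smooth, which plays no role here and is not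
assumed; the further assertion that the construction commutes with flat base change on U/D is not
part of this statement.) -/
theorem result
    {k : Type u} [Field k] {M : Type u} [AddCommGroup M] [Finite M]
    {R : Type u} [CommRing R] [Algebra k R] [HopfRep.Comod k (AddMonoidAlgebra k M) R]
    [GLin.IsCoactAlg k (AddMonoidAlgebra k M) R] (J : Ideal R) :
    (∀ f : R, LinearMap.rTensor (AddMonoidAlgebra k M) (Ideal.Quotient.mkₐ k J).toLinearMap
        (HopfRep.Comod.coact (k := k) (A := AddMonoidAlgebra k M) f) =
        (Ideal.Quotient.mk J f) ⊗ₜ[k] (1 : AddMonoidAlgebra k M)) ↔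
      Ideal.span (⋃ (a : M) (_ : a ≠ 0),
        (HopfRep.eigenspace k (AddMonoidAlgebra k M) R (AddMonoidAlgebra.single a 1) : Set R)) ≤ J := by
  constructor
  · intro h
    classical
    rw [Ideal.span_le]
    intro g hg
    simp only [Set.mem_iUnion] at hg
    obtain ⟨a, ha, hga⟩ := hg
    have hga' : HopfRep.Comod.coact (k := k) (A := AddMonoidAlgebra k M) g =
        g ⊗ₜ[k] AddMonoidAlgebra.single a (1 : k) := hga
    have h1 := h g
    rw [hga', LinearMap.rTensor_tmul] at h1
    have h2 := congrArg (rAct (R ⧸ J) (chi (k := k) a)) h1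
    rw [rAct_tmul, rAct_tmul, chi_single, if_pos rfl, one_smul, AddMonoidAlgebra.one_def,
      chi_single, if_neg (Ne.symm ha), zero_smul] at h2
    exact Ideal.Quotient.eq_zero_iff_mem.mp h2
  · intro hle f
    classical
    cases nonempty_fintype M
    apply tensor_ext_rAct
    intro ψ
    obtain ⟨Φ, hΦ⟩ : ∃ Φ : (AddMonoidAlgebra k M →ₗ[k] k) →ₗ[k] R, ∀ φ, Φ φ = dualAct φ f :=
      ⟨{ toFun := fun φ => dualAct φ f
         map_add' := fun φ φ' => rAct_add φ φ' _
         map_smul' := fun c φ => rAct_smul c φ _ }, fun φ => rfl⟩
    have hdec : ∀ φ : AddMonoidAlgebra k M →ₗ[k] k, dualAct φ f =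
        ∑ a : M, φ (AddMonoidAlgebra.single a 1) • dualAct (chi (k := k) a) f := by
      intro φ
      have h0 := congrArg Φ (eq_sum_chi φ)
      rw [map_sum] at h0
      simp only [map_smul] at h0
      simp only [hΦ] at h0
      exact h0
    have hπ : ∀ a : M, a ≠ 0 →
        (Ideal.Quotient.mkₐ k J).toLinearMap (dualAct (chi (k := k) a) f) = 0 := by
      intro a ha
      show Ideal.Quotient.mk J (dualAct (chi (k := k) a) f) = 0
      rw [Ideal.Quotient.eq_zero_iff_mem]
      apply hle
      apply Ideal.subset_span
      simp only [Set.mem_iUnion]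
      exact ⟨a, ha, comp_mem_eigenspace a f⟩
    have hsum : ∀ φ : AddMonoidAlgebra k M →ₗ[k] k,
        (Ideal.Quotient.mkₐ k J).toLinearMap (dualAct φ f) =
          φ (AddMonoidAlgebra.single (0 : M) 1) •
            (Ideal.Quotient.mkₐ k J).toLinearMap (dualAct (chi (k := k) (0 : M)) f) := by
      intro φ
      rw [hdec φ, map_sum, Finset.sum_eq_single (0 : M)]
      · rw [map_smul]
      · intro a _ ha
        rw [map_smul, hπ a ha, smul_zero]
      · intro h
        exact absurd (Finset.mem_univ _) h
    have h3 : Ideal.Quotient.mk J f =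
        (Ideal.Quotient.mkₐ k J).toLinearMap (dualAct (chi (k := k) (0 : M)) f) := by
      have h4 := hsum (Coalgebra.counit (R := k) (A := AddMonoidAlgebra k M))
      rw [dualAct_counit, AddMonoidAlgebra.counit_single, CommSemiring.counit_apply,
        one_smul] at h4
      exact h4
    rw [← rAct_natural, ← dualAct_apply, rAct_tmul, hsum ψ, h3, AddMonoidAlgebra.one_def]

end Groth.Agent.S19326
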