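import Groth.Statements.S19328
import Mathlib
-- import your own Groth.Agent.* helpers here

set_option autoImplicit false
universe u
open CategoryTheory CategoryTheory.Limits AlgebraicGeometry
open ModPair

namespace Groth.Agent.S19328


theorem aux1 (A : Type u) [CommRing A] [Nontrivial A]
    (hloc : ∀ (X : Scheme.{u}) (R : Presieve X),
      R ∈ Scheme.precoverage (@Flat ⊓ @LocallyOfFinitePresentation ⊓ @QuasiCompact ⊓ @QuasiSeparated) X →
      ∀ g : Spec (CommRingCat.of A) ⟶ X,
        ∃ (Y : Scheme.{u}) (v : Y ⟶ X) (h : Spec (CommRingCat.of A) ⟶ Y), R v ∧ h ≫ v = g)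
    (F : Polynomial A) (hF : F.Monic) (hd : 0 < F.natDegree) : ∃ a : A, F.eval a = 0 := by
  classical
  haveI : Module.Free A (AdjoinRoot F) := hF.free_adjoinRoot
  haveI : Module.Finite A (AdjoinRoot F) := hF.finite_adjoinRoot
  haveI : Nontrivial (AdjoinRoot F) := by
    have hdim : 0 < (AdjoinRoot.powerBasis' hF).dim := by
      rw [AdjoinRoot.powerBasis'_dim]; exact hd
    exact ⟨⟨(AdjoinRoot.powerBasis' hF).basis ⟨0, hdim⟩, 0,
      (AdjoinRoot.powerBasis' hF).basis.ne_zero _⟩⟩
  haveI : Module.FaithfullyFlat A (AdjoinRoot F) := inferInstance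
  let φ : CommRingCat.of A ⟶ CommRingCat.of (AdjoinRoot F) :=
    CommRingCat.ofHom (algebraMap A (AdjoinRoot F))
  have hsurj : Function.Surjective (Spec.map φ).base := by
    intro x
    obtain ⟨y, hy⟩ :=
      PrimeSpectrum.comap_surjective_of_faithfullyFlat (A := A) (B := AdjoinRoot F) x
    exact ⟨y, hy⟩
  have hflat : Flat (Spec.map φ) := by
    rw [Flat.SpecMap_iff]
    exact RingHom.flat_algebraMap_iff.mpr inferInstance
  have hlfp : LocallyOfFinitePresentation (Spec.map φ) := by
    rw [LocallyOfFinitePresentation.SpecMap_iff]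
    exact RingHom.finitePresentation_algebraMap.mpr inferInstance
  have hmem : Presieve.singleton (Spec.map φ) ∈ Scheme.precoverage
      (@Flat ⊓ @LocallyOfFinitePresentation ⊓ @QuasiCompact ⊓ @QuasiSeparated)
      (Spec (CommRingCat.of A)) := by
    rw [Scheme.singleton_mem_precoverage_iff]
    refine ⟨hsurj, ?_⟩
    exact ⟨⟨⟨hflat, hlfp⟩, inferInstance⟩, inferInstance⟩
  obtain ⟨Y, v, h, hv, hh⟩ := hloc _ _ hmem (𝟙 _)
  cases hv
  let ψ := Spec.preimage h
  have hψ : Spec.map ψ = h := Spec.map_preimage h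
  have hcomp : φ ≫ ψ = 𝟙 _ := by
    apply Spec.map_injective
    rw [Spec.map_comp, hψ, Spec.map_id]; exact hh
  have hcomp' : ψ.hom.comp (algebraMap A (AdjoinRoot F)) = RingHom.id A := by
    have := congrArg CommRingCat.Hom.hom hcomp
    simpa [φ] using this
  refine ⟨ψ.hom (AdjoinRoot.root F), ?_⟩
  have h0 : Polynomial.eval₂ (algebraMap A (AdjoinRoot F)) (AdjoinRoot.root F) F = 0 := by
    rw [AdjoinRoot.algebraMap_eq]; exact AdjoinRoot.eval₂_root F
  have h1 := congrArg ψ.hom h0
  rw [Polynomial.hom_eval₂, hcomp', map_zero, Polynomial.eval₂_id] at h1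
  exact h1

theorem aux2 (A : Type u) [CommRing A] (p : Ideal A) [p.IsPrime]
    (H : ∀ F : Polynomial A, F.Monic → 0 < F.natDegree → ∃ a : A, F.eval a = 0) :
    IsAlgClosed p.ResidueField := by
  classical
  apply IsAlgClosed.of_exists_root
  intro f hfm hfi
  have hdeg : 0 < f.natDegree :=
    Polynomial.natDegree_pos_iff_degree_pos.mpr (Polynomial.degree_pos_of_irreducible hfi)
  obtain ⟨b, hb⟩ := IsLocalization.exist_integer_multiples (R := A ⧸ p)
    (nonZeroDivisors (A ⧸ p)) (Finset.range (f.natDegree + 1)) (fun i => f.coeff i)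
  let σ : p.ResidueField := algebraMap (A ⧸ p) p.ResidueField (b : A ⧸ p)
  have hσ : σ ≠ 0 := by
    intro h
    have := (IsFractionRing.injective (A ⧸ p) p.ResidueField) (h.trans (map_zero _).symm)
    exact nonZeroDivisors.ne_zero b.2 this
  let T : Subring p.ResidueField := (algebraMap A p.ResidueField).range
  have hT : ∀ x : A ⧸ p, algebraMap (A ⧸ p) p.ResidueField x ∈ T := by
    intro x
    obtain ⟨a, rfl⟩ := Ideal.Quotient.mk_surjective x
    exact ⟨a, rfl⟩
  have hσT : σ ∈ T := hT _
  have hcoef : ∀ i, i < f.natDegree → f.coeff i * σ ∈ T := by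
    intro i hi
    obtain ⟨c, hc⟩ := RingHom.mem_rangeS.mp (hb i (Finset.mem_range.mpr (by omega)))
    have : f.coeff i * σ = algebraMap (A ⧸ p) p.ResidueField c := by
      rw [hc, Algebra.smul_def, mul_comm]
    rw [this]; exact hT c
  have hlift : f.scaleRoots σ ∈ Polynomial.lifts (algebraMap A p.ResidueField) := by
    rw [Polynomial.lifts_iff_coeff_lifts]
    intro i
    rw [Polynomial.coeff_scaleRoots]
    change _ ∈ T
    rcases lt_or_ge i f.natDegree with hi | hi
    · have : f.natDegree - i = (f.natDegree - i - 1) + 1 := by omega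
      rw [this, pow_succ', ← mul_assoc]
      exact T.mul_mem (hcoef i hi) (T.pow_mem hσT _)
    · rw [Nat.sub_eq_zero_of_le hi, pow_zero, mul_one]
      rcases eq_or_lt_of_le hi with h | h
      · rw [← h, hfm.coeff_natDegree]; exact T.one_mem
      · rw [Polynomial.coeff_eq_zero_of_natDegree_lt h]; exact T.zero_mem
  obtain ⟨G, hG, hGd, hGm⟩ := Polynomial.lifts_and_natDegree_eq_and_monic hlift
    ((Polynomial.monic_scaleRoots_iff σ).mpr hfm)
  have hGd' : 0 < G.natDegree := by
    rw [hGd, Polynomial.natDegree_scaleRoots]; exact hdeg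
  obtain ⟨a, ha⟩ := H G hGm hGd'
  have h1 : (f.scaleRoots σ).eval (algebraMap A p.ResidueField a) = 0 := by
    rw [← hG, Polynomial.eval_map, Polynomial.eval₂_at_apply, ha, map_zero]
  have h2 := Polynomial.scaleRoots_eval₂_mul (p := f) (RingHom.id p.ResidueField)
    (σ⁻¹ * algebraMap A p.ResidueField a) σ
  simp only [RingHom.id_apply, Polynomial.eval₂_id] at h2
  rw [← mul_assoc, mul_inv_cancel₀ hσ, one_mul, h1] at h2
  refine ⟨σ⁻¹ * algebraMap A p.ResidueField a, ?_⟩
  exact (mul_eq_zero.mp h2.symm).resolve_left (pow_ne_zero _ hσ)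

/-- Let A be a commutative ring such that Spec A is local for fppf coverings, in the sense that for
every scheme X, every jointly surjective family of morphisms to X each of which is flat and of
finite presentation (locally of finite presentation, quasi-compact and quasi-separated), and every
morphism Spec A ⟶ X, the morphism factors through a member of the family. Then the residue field of
A at every prime ideal is algebraically closed. -/
theorem result (A : Type u) [CommRing A]
    (hloc : ∀ (X : Scheme.{u}) (R : Presieve X),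
      R ∈ Scheme.precoverage (@Flat ⊓ @LocallyOfFinitePresentation ⊓ @QuasiCompact ⊓ @QuasiSeparated) X →
      ∀ g : Spec (CommRingCat.of A) ⟶ X,
        ∃ (Y : Scheme.{u}) (v : Y ⟶ X) (h : Spec (CommRingCat.of A) ⟶ Y), R v ∧ h ≫ v = g)
    (p : Ideal A) [p.IsPrime] : IsAlgClosed p.ResidueField := by
  haveI : Nontrivial A :=
    nontrivial_of_ne (0 : A) 1 (fun h => (‹p.IsPrime›.ne_top)
      (by rw [Ideal.eq_top_iff_one, ← h]; exact p.zero_mem))
  exact aux2 A p (aux1 A hloc)

end Groth.Agent.S19328
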