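import Groth.Statements.S19333
import Mathlib

set_option autoImplicit false
universe u
open ModPair

namespace Groth.Agent.S19333

/-- Let A → B be any homomorphism of commutative rings. An element x of B is integral over A if and only
if for every field K, every valuation subring R of K and every ring homomorphism φ : B → K which
sends the image of A into R, the element φ(x) lies in R. In other words the integral closure of A in
B is the intersection of the subrings R ×_K B taken over all commutative squares A → R ⊆ K ← B with
R a valuation ring of the field K. -/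
theorem result {A B : Type u} [CommRing A]
    [CommRing B] [Algebra A B] (x : B) :
    x ∈ integralClosure A B ↔
      ∀ (K : Type u) [Field K] (R : ValuationSubring K) (φ : B →+* K),
        (∀ a : A, φ (algebraMap A B a) ∈ R) → φ x ∈ R := by
  classical
  constructor
  · intro hx K _ R φ hφ
    have hxi : IsIntegral A x := hx
    let φ₀ : A →+* R := (φ.comp (algebraMap A B)).codRestrict R.toSubring hφ
    have h1 : IsIntegral R (φ x) :=
      IsIntegral.map_of_comp_eq (R := A) (S := B) (T := R) (U := K) φ₀ φ (by ext a; rfl) hxi
    obtain ⟨y, hy⟩ := IsIntegrallyClosed.algebraMap_eq_of_integral h1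
    rw [← hy]
    exact y.2
  · intro h
    by_contra hx
    have hx' : ¬ IsIntegral A x := hx
    -- multiplicative set of monic values
    let T : Submonoid B :=
      { carrier := {b | ∃ p : Polynomial A, p.Monic ∧ Polynomial.eval₂ (algebraMap A B) x p = b}
        one_mem' := ⟨1, Polynomial.monic_one, by simp⟩
        mul_mem' := by
          rintro _ _ ⟨p, hp, rfl⟩ ⟨q, hq, rfl⟩
          exact ⟨p * q, hp.mul hq, Polynomial.eval₂_mul _ _⟩ }
    have hdisj : Disjoint ((⊥ : Ideal B) : Set B) (T : Set B) := by
      rw [Set.disjoint_left]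
      rintro b hb ⟨p, hp, hpb⟩
      have hb0 : b = 0 := hb
      exact hx' ⟨p, hp, by rw [hpb, hb0]⟩
    obtain ⟨q, hqp, -, hqT⟩ := Ideal.exists_le_prime_disjoint (⊥ : Ideal B) T hdisj
    let K := FractionRing (B ⧸ q)
    let φ : B →+* K := (algebraMap (B ⧸ q) K).comp (Ideal.Quotient.mk q)
    have hφker : ∀ b : B, φ b = 0 → b ∈ q := by
      intro b hb
      have h2 : Ideal.Quotient.mk q b = 0 :=
        (IsFractionRing.injective (B ⧸ q) K) (by rw [map_zero]; exact hb)
      exact Ideal.Quotient.eq_zero_iff_mem.mp h2
    let ψ : A →+* K := φ.comp (algebraMap A B)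
    have hmem : φ x ∈ ⨅ V : {V : ValuationSubring K // (ψ.range : Set K) ⊆ V.toSubring},
        V.1.toSubring := by
      rw [Subring.mem_iInf]
      rintro ⟨V, hV⟩
      exact h K V φ (fun a => hV ⟨a, rfl⟩)
    rw [iInf_valuationSubring_superset, Subring.closure_eq] at hmem
    obtain ⟨p, hpm, hp0⟩ : IsIntegral ψ.range (φ x) := hmem
    -- push p to K[X], then lift to A[X]
    let P : Polynomial K := p.map ψ.range.subtype
    have hPm : P.Monic := hpm.map _
    have hP0 : Polynomial.eval (φ x) P = 0 := by
      rw [Polynomial.eval_map]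
      exact hp0
    have hPl : P ∈ Polynomial.lifts ψ := by
      rw [Polynomial.lifts_iff_coeff_lifts]
      intro n
      rw [Polynomial.coeff_map]
      obtain ⟨a, ha⟩ := (p.coeff n).2
      exact ⟨a, ha⟩
    obtain ⟨Q, hQP, -, hQm⟩ := Polynomial.lifts_and_natDegree_eq_and_monic hPl hPm
    have h3 : φ (Polynomial.eval₂ (algebraMap A B) x Q) = 0 := by
      rw [Polynomial.hom_eval₂, ← Polynomial.eval_map]
      change Polynomial.eval (φ x) (Polynomial.map ψ Q) = 0
      rw [hQP]
      exact hP0
    have h4 := hφker _ h3
    exact (Set.disjoint_left.mp hqT) h4 ⟨Q, hQm, rfl⟩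

end Groth.Agent.S19333
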