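import Groth.Statements.S19334
import Mathlib
import Groth.Agent.Lib.Helper4.ValCartier

set_option autoImplicit false
universe u
open CategoryTheory CategoryTheory.Limits AlgebraicGeometry TopologicalSpace
open ModPair

namespace Groth.Agent.S19334

/-- Let (X, I) be a modulus pair, i.e. a scheme X with the quasi-coherent ideal sheaf I of an effective
Cartier divisor. Suppose that for every valuation ring R and every morphism p : Spec R ⟶ X along
which the divisor of I pulls back to an effective Cartier divisor on Spec R (so that p is a minimal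
morphism of modulus pairs for the pulled-back modulus), the pulled-back divisor is empty, I.comap p
= ⊤. Then the divisor of I is empty: I = ⊤. -/
theorem result {X : Scheme.{u}}
    (I : X.IdealSheafData) (hI : BlowUp.IsEffCartierIdeal I)
    (h : ∀ (R : Type u) [CommRing R] [IsDomain R] [ValuationRing R]
      (p : Spec (CommRingCat.of R) ⟶ X), BlowUp.IsEffCartierIdeal (I.comap p) → I.comap p = ⊤) :
    I = ⊤ := by
  by_contra hne
  have hsup : I.support ≠ ⊥ := fun h0 => hne ((Scheme.IdealSheafData.support_eq_bot_iff I).mp h0)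
  have hex : ∃ x : X, x ∈ I.support := by
    by_contra hcon
    push Not at hcon
    apply hsup
    apply TopologicalSpace.Closeds.ext
    ext x
    simp only [TopologicalSpace.Closeds.coe_bot, Set.mem_empty_iff_false, iff_false]
    exact hcon x
  obtain ⟨x, hx⟩ := hex
  obtain ⟨⟨V, hV0⟩, hxV, a, ha, hIa⟩ := hI x
  have hV : IsAffineOpen V := hV0
  have hxa : x ∉ X.basicOpen a := by
    have := (Scheme.IdealSheafData.mem_support_iff_of_mem (I := I) (U := ⟨V, hV⟩) hxV).mp hx
    rw [Scheme.mem_zeroLocus_iff] at this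
    exact this a (by rw [hIa]; exact Ideal.mem_span_singleton_self a)
  have hgu : ¬ IsUnit (X.presheaf.germ V x hxV a) := by
    intro hu
    exact hxa ((Scheme.mem_basicOpen X a x hxV).mpr hu)
  have hgnzd : X.presheaf.germ V x hxV a ∈ nonZeroDivisors (X.presheaf.stalk x) :=
    Groth.Agent.Helper4.BlowupIso.germ_mem_nonZeroDivisors hV a ha x hxV
  have hgnil : ¬ IsNilpotent (X.presheaf.germ V x hxV a) := by
    intro hn
    obtain ⟨n, hn⟩ := hn
    have hpow : (X.presheaf.germ V x hxV a) ^ n ∈ nonZeroDivisors (X.presheaf.stalk x) :=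
      pow_mem hgnzd n
    rw [hn] at hpow
    have h10 : (1 : X.presheaf.stalk x) = 0 :=
      (mem_nonZeroDivisors_iff_right.mp hpow) 1 (by rw [mul_zero])
    exact one_ne_zero h10
  obtain ⟨R, iR, iD, iV, φ, hφ0, hφu⟩ :=
    Groth.Agent.Helper4.ValCartier.exists_valuationRing (X.presheaf.stalk x)
      (X.presheaf.germ V x hxV a) hgnil hgu
  let ψ : Γ(X, V) ⟶ CommRingCat.of R := X.presheaf.germ V x hxV ≫ CommRingCat.ofHom φ
  let p : Spec (CommRingCat.of R) ⟶ X := Spec.map ψ ≫ hV.fromSpec
  let b' : Γ(Spec (CommRingCat.of R), ⊤) :=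
    (ψ ≫ (Scheme.ΓSpecIso (CommRingCat.of R)).inv).hom a
  have hb'eq : b' = (Scheme.ΓSpecIso (CommRingCat.of R)).inv.hom (φ (X.presheaf.germ V x hxV a)) := rfl
  have hbij : Function.Bijective (Scheme.ΓSpecIso (CommRingCat.of R)).inv.hom :=
    ConcreteCategory.bijective_of_isIso (Scheme.ΓSpecIso (CommRingCat.of R)).inv
  have hideal : (I.comap p).ideal ⟨⊤, isAffineOpen_top _⟩ = Ideal.span {b'} := by
    rw [Groth.Agent.Helper4.ValCartier.comap_SpecMap_fromSpec_ideal I hV (CommRingCat.of R) ψ,
      hIa, Ideal.map_span, Set.image_singleton]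
  have hcart : BlowUp.IsEffCartierIdeal (I.comap p) := by
    intro z
    refine ⟨⟨⊤, isAffineOpen_top _⟩, trivial, b', ?_, hideal⟩
    rw [hb'eq]
    exact Groth.Agent.Helper4.BlowupIso.map_mem_nonZeroDivisors_of_bijective _ hbij
      (mem_nonZeroDivisors_of_ne_zero hφ0)
  have htop := h R p hcart
  have h1 : (I.comap p).ideal ⟨⊤, isAffineOpen_top _⟩ = ⊤ := by rw [htop]; rfl
  rw [hideal, Ideal.span_singleton_eq_top] at h1
  apply hφu
  rw [hb'eq] at h1
  obtain ⟨c, hc⟩ := isUnit_iff_exists_inv.mp h1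
  obtain ⟨c', rfl⟩ := hbij.2 c
  rw [← map_mul, ← map_one (Scheme.ΓSpecIso (CommRingCat.of R)).inv.hom] at hc
  exact isUnit_iff_exists_inv.mpr ⟨c', hbij.1 hc⟩

end Groth.Agent.S19334
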