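import Groth.Statements.S19335
import Mathlib
import Groth.Agent.Lib.Helper4.ValCartier
import Groth.Agent.Lib.Helper4.CartierMul

set_option autoImplicit false
universe u
open CategoryTheory CategoryTheory.Limits AlgebraicGeometry TopologicalSpace
open ModPair

namespace Groth.Agent.S19335

/-- Let X be a scheme and I, J quasi-coherent ideal sheaves of effective Cartier divisors D_I ≤ D_J on
X, i.e. J ≤ I. Suppose that for every valuation ring R and every morphism p : Spec R ⟶ X such that
I.comap p is the ideal sheaf of an effective Cartier divisor on Spec R (so p is a minimal morphism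
of modulus pairs for (X, I)) whose open complement consists of the generic point of Spec R only, the
two divisors agree after pull-back, I.comap p = J.comap p. Then I = J. -/
theorem result {X : Scheme.{u}} (I J : X.IdealSheafData)
    (hI : BlowUp.IsEffCartierIdeal I) (hJ : BlowUp.IsEffCartierIdeal J) (hJI : J ≤ I)
    (h : ∀ (R : Type u) [CommRing R] [IsDomain R] [ValuationRing R]
      (p : Spec (CommRingCat.of R) ⟶ X), BlowUp.IsEffCartierIdeal (I.comap p) →
        (∀ x : Spec (CommRingCat.of R),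
          x ∈ (ModPair.interior (I.comap p) : Set (Spec (CommRingCat.of R))) ↔ x.asIdeal = ⊥) →
        I.comap p = J.comap p) :
    I = J := by
  apply le_antisymm _ hJI
  have hWex : ∀ x : X, ∃ W : X.affineOpens, x ∈ W.1 ∧ I.ideal W ≤ J.ideal W := by
    intro x
    obtain ⟨N₁, hx1, h1⟩ := Groth.Agent.Helper4.CartierMul.exists_nhd_principal' I hI x
    obtain ⟨N₂, hx2, h2⟩ := Groth.Agent.Helper4.CartierMul.exists_nhd_principal' J hJ x
    obtain ⟨_, ⟨W, hW0, rfl⟩, hxW, hWN⟩ :=
      X.isBasis_affineOpens.exists_subset_of_mem_open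
        (show x ∈ ((N₁ ⊓ N₂ : X.Opens) : Set X) from ⟨hx1, hx2⟩) (N₁ ⊓ N₂).2
    have hW : IsAffineOpen W := hW0
    refine ⟨⟨W, hW⟩, hxW, ?_⟩
    obtain ⟨a, ha, hIa⟩ := h1 ⟨W, hW⟩ (fun y hy => (hWN hy).1)
    obtain ⟨c, hc, hJc⟩ := h2 ⟨W, hW⟩ (fun y hy => (hWN hy).2)
    have hca : c ∈ Ideal.span {a} := by
      rw [← hIa]
      exact hJI ⟨W, hW⟩ (by rw [hJc]; exact Ideal.mem_span_singleton_self c)
    obtain ⟨v, hv⟩ := Ideal.mem_span_singleton'.mp hca
    suffices hvu : IsUnit v by
      rw [hIa, hJc, Ideal.span_singleton_le_span_singleton]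
      obtain ⟨w, hw⟩ := isUnit_iff_exists_inv.mp hvu
      refine ⟨w, ?_⟩
      rw [← hv]
      calc a = (v * w) * a := by rw [hw, one_mul]
        _ = v * a * w := by ring
    by_contra hvu
    obtain ⟨y, hyW, hvy⟩ : ∃ y, ∃ hy : y ∈ W, ¬ IsUnit (X.presheaf.germ W y hy v) := by
      by_contra hcon
      push Not at hcon
      exact hvu (RingedSpace.isUnit_of_isUnit_germ X.toRingedSpace W v (fun y hy => hcon y hy))
    have hcy : X.presheaf.germ W y hyW c ∈ nonZeroDivisors (X.presheaf.stalk y) :=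
      Groth.Agent.Helper4.BlowupIso.germ_mem_nonZeroDivisors hW c hc y hyW
    have hcv : X.presheaf.germ W y hyW c =
        X.presheaf.germ W y hyW a * X.presheaf.germ W y hyW v := by
      rw [← hv, map_mul, mul_comm]
    have hnil : ¬ IsNilpotent (X.presheaf.germ W y hyW a * X.presheaf.germ W y hyW v) := by
      rw [← hcv]
      rintro ⟨n, hn⟩
      have hpow : (X.presheaf.germ W y hyW c) ^ n ∈ nonZeroDivisors (X.presheaf.stalk y) :=
        pow_mem hcy n
      rw [hn] at hpow
      have h10 : (1 : X.presheaf.stalk y) = 0 :=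
        (mem_nonZeroDivisors_iff_right.mp hpow) 1 (by rw [mul_zero])
      exact one_ne_zero h10
    obtain ⟨R, iR, iD, iV, φ, hφa, hφv, hφP⟩ :=
      Groth.Agent.Helper4.ValCartier.exists_valuationRing_rankOne (X.presheaf.stalk y)
        (X.presheaf.germ W y hyW a) (X.presheaf.germ W y hyW v) hnil hvy
    let ψ : Γ(X, W) ⟶ CommRingCat.of R := X.presheaf.germ W y hyW ≫ CommRingCat.ofHom φ
    let p : Spec (CommRingCat.of R) ⟶ X := Spec.map ψ ≫ hW.fromSpec
    let ι : Γ(X, W) →+* Γ(Spec (CommRingCat.of R), ⊤) :=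
      (ψ ≫ (Scheme.ΓSpecIso (CommRingCat.of R)).inv).hom
    have hιeq : ∀ s : Γ(X, W), ι s =
        (Scheme.ΓSpecIso (CommRingCat.of R)).inv.hom (φ (X.presheaf.germ W y hyW s)) :=
      fun s => rfl
    have hbij : Function.Bijective (Scheme.ΓSpecIso (CommRingCat.of R)).inv.hom :=
      ConcreteCategory.bijective_of_isIso (Scheme.ΓSpecIso (CommRingCat.of R)).inv
    have hIp : (I.comap p).ideal ⟨⊤, isAffineOpen_top _⟩ = Ideal.span {ι a} := by
      rw [Groth.Agent.Helper4.ValCartier.comap_SpecMap_fromSpec_ideal I hW (CommRingCat.of R) ψ,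
        hIa, Ideal.map_span, Set.image_singleton]
    have hJp : (J.comap p).ideal ⟨⊤, isAffineOpen_top _⟩ = Ideal.span {ι c} := by
      rw [Groth.Agent.Helper4.ValCartier.comap_SpecMap_fromSpec_ideal J hW (CommRingCat.of R) ψ,
        hJc, Ideal.map_span, Set.image_singleton]
    have hιa : ι a ∈ nonZeroDivisors Γ(Spec (CommRingCat.of R), ⊤) := by
      rw [hιeq]
      exact Groth.Agent.Helper4.BlowupIso.map_mem_nonZeroDivisors_of_bijective _ hbij
        (mem_nonZeroDivisors_of_ne_zero hφa)
    have hcart : BlowUp.IsEffCartierIdeal (I.comap p) :=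
      fun z => ⟨⟨⊤, isAffineOpen_top _⟩, trivial, ι a, hιa, hIp⟩
    have hint : ∀ z : Spec (CommRingCat.of R),
        z ∈ (ModPair.interior (I.comap p) : Set (Spec (CommRingCat.of R))) ↔ z.asIdeal = ⊥ := by
      intro z
      show ¬ (z ∈ (I.comap p).support) ↔ _
      rw [Groth.Agent.Helper4.ValCartier.mem_support_comap_iff I hW (CommRingCat.of R) ψ a hIa z]
      show ¬ (φ (X.presheaf.germ W y hyW a) ∈ z.asIdeal) ↔ _
      constructor
      · intro hz
        by_contra hne
        exact hz (hφP z.asIdeal z.isPrime hne)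
      · intro hz hmem
        rw [hz] at hmem
        exact hφa (Ideal.mem_bot.mp hmem)
    have heq := h R p hcart hint
    have h1 : Ideal.span {ι a} = Ideal.span {ι c} := by rw [← hIp, ← hJp, heq]
    have hιc : ι c = ι v * ι a := by rw [← hv, map_mul]
    have hmem : ι a ∈ Ideal.span {ι c} := h1 ▸ Ideal.mem_span_singleton_self _
    obtain ⟨w, hw⟩ := Ideal.mem_span_singleton'.mp hmem
    have h2 : (w * ι v) * ι a = 1 * ι a := by
      rw [one_mul]
      calc (w * ι v) * ι a = w * (ι v * ι a) := by ring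
        _ = w * ι c := by rw [hιc]
        _ = ι a := hw
    have h3 : w * ι v = 1 := (mul_cancel_right_mem_nonZeroDivisors hιa).mp h2
    apply hφv
    rw [hιeq] at h3
    obtain ⟨w', rfl⟩ := hbij.2 w
    rw [← map_mul, ← map_one (Scheme.ΓSpecIso (CommRingCat.of R)).inv.hom] at h3
    exact isUnit_iff_exists_inv'.mpr ⟨w', hbij.1 h3⟩
  choose Wf hWf1 hWf2 using hWex
  refine Scheme.IdealSheafData.le_of_iSup_eq_top (ι := X) Wf ?_ hWf2
  rw [eq_top_iff]
  intro x _
  exact TopologicalSpace.Opens.mem_iSup.mpr ⟨x, hWf1 x⟩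

end Groth.Agent.S19335
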