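import Groth.Statements.S19338
import Mathlib

set_option autoImplicit false
universe w v u
open CategoryTheory
open ModPair

namespace Groth.Agent.S19338

/-- Let C be a category and S a class of morphisms which contains the identities, is closed under
composition, admits a right calculus of fractions, and consists of monomorphisms. Then the sieves
containing a morphism of S are the covering sieves of a Grothendieck topology on C, and for every
such topology J a presheaf of types F on C is a J-sheaf if and only if it is S-local, i.e. F sends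
every morphism of S to a bijection. -/
theorem result {C : Type u} [Category.{v} C]
    (S : MorphismProperty C) [S.HasRightCalculusOfFractions]
    (hmono : ∀ ⦃X Y : C⦄ (s : X ⟶ Y), S s → Mono s) :
    (∃ J : GrothendieckTopology C, ∀ (X : C) (T : Sieve X),
        T ∈ J X ↔ ∃ (Y : C) (s : Y ⟶ X), S s ∧ T s) ∧
      ∀ J : GrothendieckTopology C, (∀ (X : C) (T : Sieve X),
          T ∈ J X ↔ ∃ (Y : C) (s : Y ⟶ X), S s ∧ T s) →
        ∀ F : Cᵒᵖ ⥤ Type w,
          Presheaf.IsSheaf J F ↔ ∀ ⦃X Y : C⦄ (s : X ⟶ Y), S s → IsIso (F.map s.op) := by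
  have hJ : ∃ J : GrothendieckTopology C, ∀ (X : C) (T : Sieve X),
      T ∈ J X ↔ ∃ (Y : C) (s : Y ⟶ X), S s ∧ T s := by
    refine ⟨{ sieves := fun X => {T | ∃ (Y : C) (s : Y ⟶ X), S s ∧ T s}
              top_mem' := fun X => ⟨X, 𝟙 X, S.id_mem X, trivial⟩
              pullback_stable' := ?_
              transitive' := ?_ }, fun X T => Iff.rfl⟩
    · rintro X Z T f ⟨Y, s, hs, hTs⟩
      obtain ⟨ψ, hψ⟩ := (MorphismProperty.LeftFraction.mk f s hs).exists_rightFraction
      dsimp at hψ
      refine ⟨ψ.X', ψ.s, ψ.hs, ?_⟩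
      show T (ψ.s ≫ f)
      rw [hψ]
      exact T.downward_closed hTs ψ.f
    · rintro X T ⟨Y, s, hs, hTs⟩ R hR
      obtain ⟨Z, t, ht, hRt⟩ := hR hTs
      exact ⟨Z, t ≫ s, S.comp_mem _ _ ht hs, hRt⟩
  refine ⟨hJ, ?_⟩
  intro J hJ F
  rw [isSheaf_iff_isSheaf_of_type]
  constructor
  · intro hF X Y s hs
    rw [isIso_iff_bijective]
    haveI := hmono s hs
    have hcov : Sieve.generate (Presieve.singleton s) ∈ J Y := by
      rw [hJ]
      exact ⟨X, s, hs, Sieve.le_generate _ _ _ (Presieve.singleton_self s)⟩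
    have hsh : Presieve.IsSheafFor F (Presieve.singleton s) := hF.isSheafFor _ hcov
    constructor
    · intro y₁ y₂ h
      apply hsh.isSeparatedFor.ext
      rintro _ _ ⟨⟩
      exact h
    · intro x
      let fam : Presieve.FamilyOfElements F (Presieve.singleton s) :=
        (Presieve.FamilyOfElements.singletonEquiv (P := F) s).symm x
      have hfam : fam s (Presieve.singleton_self s) = x :=
        (Presieve.FamilyOfElements.singletonEquiv (P := F) s).apply_symm_apply x
      have hcomp : fam.Compatible := by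
        rintro Y₁ Y₂ Z g₁ g₂ f₁ f₂ ⟨⟩ ⟨⟩ h
        have : g₁ = g₂ := (cancel_mono s).mp h
        rw [this]
      obtain ⟨t, ht, _⟩ := hsh fam hcomp
      exact ⟨t, (ht s (Presieve.singleton_self s)).trans hfam⟩
  · intro hF X T hT
    rw [hJ] at hT
    obtain ⟨Y, s, hs, hTs⟩ := hT
    intro x hx
    have bij := (isIso_iff_bijective _).mp (hF s hs)
    obtain ⟨y, hy⟩ := bij.2 (x s hTs)
    refine ⟨y, ?_, ?_⟩
    · intro Z f hf
      obtain ⟨ψ, hψ⟩ := (MorphismProperty.LeftFraction.mk f s hs).exists_rightFraction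
      dsimp at hψ
      apply ((isIso_iff_bijective _).mp (hF ψ.s ψ.hs)).1
      have e1 : F.map ψ.s.op (F.map f.op y) = F.map ψ.f.op (F.map s.op y) := by
        rw [← Functor.map_comp_apply, ← Functor.map_comp_apply, ← op_comp, ← op_comp,
          hψ]
      rw [e1, hy]
      exact (hx ψ.s ψ.f hf hTs hψ).symm
    · intro y' hy'
      apply bij.1
      rw [hy, hy' s hTs]

end Groth.Agent.S19338
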