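import Groth.Statements.S19340
import Mathlib

set_option autoImplicit false
universe v v' u u'
open CategoryTheory
open ModPair

namespace Groth.Agent.S19340

/-- Let C be a category, S a class of morphisms of C containing the identities, closed under composition
and admitting a right calculus of fractions, and L : C ⥤ D a localization functor for S. Then for
every object X of C the comma category of L under X, whose objects are pairs (Y, L(X) ⟶ L(Y)) and
whose morphisms are morphisms Y ⟶ Y' of C compatible with the structure maps, is cofiltered. The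
published statement calls this category filtered; its proof verifies, and this row states,
cofilteredness. -/
theorem result {C : Type u}
    [Category.{v} C] {D : Type u'} [Category.{v'} D] (S : MorphismProperty C)
    [S.HasRightCalculusOfFractions] (L : C ⥤ D) [L.IsLocalization S] (X : C) :
    IsCofiltered (StructuredArrow (L.obj X) L) := by
  have hinv := Localization.inverts L S
  have key : ∀ (A : StructuredArrow (L.obj X) L), ∃ (X' : C) (s : X' ⟶ X) (_ : S s)
      (a : X' ⟶ A.right), L.map s ≫ A.hom = L.map a := by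
    intro A
    obtain ⟨φ, hφ⟩ := Localization.exists_rightFraction L S A.hom
    refine ⟨φ.X', φ.s, φ.hs, φ.f, ?_⟩
    rw [hφ, MorphismProperty.RightFraction.map_s_comp_map]
  refine { cone_objs := ?_, cone_maps := ?_, nonempty := ⟨StructuredArrow.mk (𝟙 (L.obj X))⟩ }
  · intro A B
    obtain ⟨X₁, s₁, hs₁, a₁, h₁⟩ := key A
    obtain ⟨X₂, s₂, hs₂, a₂, h₂⟩ := key B
    obtain ⟨ψ, hψ⟩ := (MorphismProperty.LeftFraction.mk s₁ s₂ hs₂).exists_rightFraction
    dsimp at hψ
    have ht : S (ψ.s ≫ s₁) := S.comp_mem _ _ ψ.hs hs₁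
    haveI : IsIso (L.map (ψ.s ≫ s₁)) := hinv _ ht
    have w1 : inv (L.map (ψ.s ≫ s₁)) ≫ L.map (ψ.s ≫ a₁) = A.hom := by
      rw [IsIso.inv_comp_eq, L.map_comp, L.map_comp, Category.assoc, h₁]
    have w2 : inv (L.map (ψ.s ≫ s₁)) ≫ L.map (ψ.f ≫ a₂) = B.hom := by
      rw [IsIso.inv_comp_eq]
      have : L.map (ψ.s ≫ s₁) = L.map (ψ.f ≫ s₂) := by rw [hψ]
      rw [this, L.map_comp, L.map_comp, Category.assoc, h₂]
    exact ⟨StructuredArrow.mk (inv (L.map (ψ.s ≫ s₁))),
      StructuredArrow.homMk (ψ.s ≫ a₁) w1, StructuredArrow.homMk (ψ.f ≫ a₂) w2, trivial⟩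
  · intro A B f g
    obtain ⟨X₁, s₁, hs₁, a₁, h₁⟩ := key A
    have e : L.map (a₁ ≫ f.right) = L.map (a₁ ≫ g.right) := by
      rw [L.map_comp, L.map_comp, ← h₁, Category.assoc, Category.assoc,
        StructuredArrow.w f, StructuredArrow.w g]
    obtain ⟨Z, t, ht, htf⟩ := (MorphismProperty.map_eq_iff_precomp L S _ _).mp e
    have ht' : S (t ≫ s₁) := S.comp_mem _ _ ht hs₁
    haveI : IsIso (L.map (t ≫ s₁)) := hinv _ ht'
    have w1 : inv (L.map (t ≫ s₁)) ≫ L.map (t ≫ a₁) = A.hom := by
      rw [IsIso.inv_comp_eq, L.map_comp, L.map_comp, Category.assoc, h₁]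
    refine ⟨StructuredArrow.mk (inv (L.map (t ≫ s₁))), StructuredArrow.homMk (t ≫ a₁) w1, ?_⟩
    apply StructuredArrow.hom_ext
    simp only [StructuredArrow.comp_right, StructuredArrow.homMk_right, Category.assoc]
    exact htf

end Groth.Agent.S19340
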