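import Groth.Statements.S19356
import Mathlib
import Groth.Agent.Lib.Lead.Moment
-- import your own Groth.Agent.* helpers here

set_option autoImplicit false
universe u
open AbVar

namespace Groth.Agent.S19356


open Polynomial in
lemma star_aeval {R : Type u} [Ring R] [Algebra ℚ R] [StarRing R] [StarModule ℚ R] (x : R)
    (p : ℚ[X]) : star (aeval x p) = aeval (star x) p := by
  induction p using Polynomial.induction_on' with
  | add p q hp hq => rw [map_add, star_add, hp, hq, map_add]
  | monomial k a =>
    rw [aeval_monomial, aeval_monomial, star_mul, star_pow, ← algebraMap_star_comm, star_trivial a]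
    exact (Algebra.commutes a _).symm

/-- Let R be a finite-dimensional ℚ-algebra with a ℚ-linear involution x ↦ x† (an anti-automorphism of
order two) and a ℚ-linear functional σ with σ(x x†) > 0 for every x ≠ 0; this is the positivity of
the involution, σ being the trace of R over ℚ in the case of the endomorphism algebra of an abelian
variety with a Rosati involution, and the trace on a cohomology group in the case of an algebra of
correspondences with the adjoint for a Weil form. Let α ∈ R with α α† = q for a rational number q.
Then α† lies in the subalgebra ℚ[α], and for every ℚ-algebra homomorphism ρ : ℚ[α] → ℂ one has ρ(α†)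
= the complex conjugate of ρ(α) and |ρ(α)|² = q. (The published statement is for the endomorphism
algebra of an abelian variety with a Rosati involution, with σ its trace over ℚ and q an integer;
the form given here, for an arbitrary ℚ-linear functional σ positive on every x x† with x ≠ 0 and
rational q, is what its proof establishes.) -/
theorem result (R : Type u) [Ring R] [Algebra ℚ R]
    [Module.Finite ℚ R] [StarRing R] [StarModule ℚ R]
    (σ : R →ₗ[ℚ] ℚ) (hpos : ∀ x : R, x ≠ 0 → 0 < σ (x * star x))
    (α : R) (q : ℚ) (hα : α * star α = algebraMap ℚ R q) :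
    ∃ hmem : star α ∈ Algebra.adjoin ℚ ({α} : Set R),
      ∀ ρ : Algebra.adjoin ℚ ({α} : Set R) →ₐ[ℚ] ℂ,
        ρ ⟨star α, hmem⟩ = starRingEnd ℂ (ρ ⟨α, Algebra.self_mem_adjoin_singleton ℚ α⟩) ∧
          ‖ρ ⟨α, Algebra.self_mem_adjoin_singleton ℚ α⟩‖ ^ 2 = (q : ℝ) := by
  have hint : ∀ y : R, IsIntegral ℚ y := fun y => Algebra.IsIntegral.isIntegral y
  have symroot : ∀ s : R, star s = s → ∀ z : ℂ,
      Polynomial.aeval z (minpoly ℚ s) = 0 → z.im = 0 := by
    intro s hs z hz
    refine Groth.Agent.Lib.Lead.Moment.roots_real (σ ∘ₗ (Polynomial.aeval s).toLinearMap)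
      (minpoly ℚ s) (minpoly.ne_zero (hint s)) ?_ ?_ z hz
    · intro p
      simp [minpoly.aeval]
    · intro p hp
      have hne : Polynomial.aeval s p ≠ 0 := fun h0 => hp (minpoly.dvd ℚ s h0)
      have h := hpos _ hne
      rw [star_aeval, hs] at h
      simpa using h
  have posroot : ∀ d : R, star d = -d → ∀ z : ℂ,
      Polynomial.aeval z (minpoly ℚ (-(d * d))) = 0 → 0 ≤ z.re := by
    intro d hd z hz
    have hy : star (-(d * d)) = -(d * d) := by
      rw [star_neg, star_mul, hd]; simp
    refine Groth.Agent.Lib.Lead.Moment.roots_nonneg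
      (σ ∘ₗ (Polynomial.aeval (-(d * d))).toLinearMap)
      (minpoly ℚ (-(d * d))) (minpoly.ne_zero (hint _)) ?_ ?_ ?_ z hz
    · intro p
      simp [minpoly.aeval]
    · intro p hp
      have hne : Polynomial.aeval (-(d * d)) p ≠ 0 := fun h0 => hp (minpoly.dvd ℚ _ h0)
      have h := hpos _ hne
      rw [star_aeval, hy] at h
      simpa using h
    · intro p
      have hYs : star (Polynomial.aeval (-(d * d)) p) = Polynomial.aeval (-(d * d)) p := by
        rw [star_aeval, hy]
      have hcomm : Polynomial.aeval (-(d * d)) p * (-(d * d))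
          = (-(d * d)) * Polynomial.aeval (-(d * d)) p := by
        have h1 : Polynomial.aeval (-(d * d)) p * (-(d * d))
            = Polynomial.aeval (-(d * d)) (p * Polynomial.X) := by
          rw [map_mul, Polynomial.aeval_X]
        have h2 : (-(d * d)) * Polynomial.aeval (-(d * d)) p
            = Polynomial.aeval (-(d * d)) (Polynomial.X * p) := by
          rw [map_mul, Polynomial.aeval_X]
        rw [h1, h2, mul_comm]
      have hW : (Polynomial.aeval (-(d * d)) p * d) * star (Polynomial.aeval (-(d * d)) p * d)
          = (-(d * d)) * (Polynomial.aeval (-(d * d)) p * Polynomial.aeval (-(d * d)) p) := by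
        rw [star_mul, hd, hYs]
        calc Polynomial.aeval (-(d * d)) p * d * (-d * Polynomial.aeval (-(d * d)) p)
            = (Polynomial.aeval (-(d * d)) p * (-(d * d))) * Polynomial.aeval (-(d * d)) p := by
              noncomm_ring
          _ = _ := by rw [hcomm, mul_assoc]
      show 0 ≤ (σ ∘ₗ (Polynomial.aeval (-(d * d))).toLinearMap) (Polynomial.X * (p * p))
      simp only [LinearMap.comp_apply, AlgHom.toLinearMap_apply, map_mul, Polynomial.aeval_X]
      rw [← hW]
      by_cases hW0 : Polynomial.aeval (-(d * d)) p * d = 0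
      · rw [hW0, zero_mul, map_zero]
      · exact (hpos _ hW0).le
  have hmem : star α ∈ Algebra.adjoin ℚ ({α} : Set R) := by
    by_cases hq : q = 0
    · have hα0 : α = 0 := by
        by_contra hne
        have h := hpos α hne
        rw [hα, hq, map_zero, map_zero] at h
        exact lt_irrefl _ h
      rw [hα0, star_zero]
      exact zero_mem _
    · have hμ0 : minpoly ℚ α ≠ 0 := minpoly.ne_zero (hint α)
      have E1 : Polynomial.aeval α (minpoly ℚ α).divX * α
          + algebraMap ℚ R ((minpoly ℚ α).coeff 0) = 0 := by
        have h := congrArg (Polynomial.aeval α) (Polynomial.divX_mul_X_add (minpoly ℚ α))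
        rw [map_add, map_mul, Polynomial.aeval_X, Polynomial.aeval_C, minpoly.aeval] at h
        exact h
      have E2 : q • Polynomial.aeval α (minpoly ℚ α).divX
          + ((minpoly ℚ α).coeff 0) • star α = 0 := by
        have h := congrArg (· * star α) E1
        simp only [add_mul, zero_mul, mul_assoc, hα] at h
        rw [Algebra.smul_def, Algebra.smul_def, Algebra.commutes q]
        exact h
      have hm0 : (minpoly ℚ α).coeff 0 ≠ 0 := by
        intro h0
        rw [h0, zero_smul, add_zero] at E2
        have hN0 : Polynomial.aeval α (minpoly ℚ α).divX = 0 := by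
          have h := congrArg (fun t => q⁻¹ • t) E2
          simpa [smul_smul, inv_mul_cancel₀ hq] using h
        have hdvd : minpoly ℚ α ∣ (minpoly ℚ α).divX := minpoly.dvd ℚ α hN0
        have hdx : (minpoly ℚ α).divX = 0 :=
          Polynomial.eq_zero_of_dvd_of_degree_lt hdvd (Polynomial.degree_divX_lt hμ0)
        apply hμ0
        rw [← Polynomial.divX_mul_X_add (minpoly ℚ α), hdx, h0]
        simp
      rw [Algebra.adjoin_singleton_eq_range_aeval]
      refine (AlgHom.mem_range _).mpr
        ⟨Polynomial.C (-(((minpoly ℚ α).coeff 0)⁻¹ * q)) * (minpoly ℚ α).divX, ?_⟩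
      rw [map_mul, Polynomial.aeval_C, ← Algebra.smul_def]
      have h5 : star α = ((minpoly ℚ α).coeff 0)⁻¹ • (((minpoly ℚ α).coeff 0) • star α) := by
        rw [smul_smul, inv_mul_cancel₀ hm0, one_smul]
      rw [h5, eq_neg_of_add_eq_zero_right E2, smul_neg, smul_smul, neg_smul]
  refine ⟨hmem, fun ρ => ?_⟩
  set a : Algebra.adjoin ℚ ({α} : Set R) := ⟨α, Algebra.self_mem_adjoin_singleton ℚ α⟩ with ha
  set b : Algebra.adjoin ℚ ({α} : Set R) := ⟨star α, hmem⟩ with hb
  have hab : ρ a * ρ b = (q : ℂ) := by
    have h1 : a * b = algebraMap ℚ _ q := Subtype.ext hα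
    rw [← map_mul, h1, AlgHom.commutes]
    simp
  have hroot : ∀ t : Algebra.adjoin ℚ ({α} : Set R),
      Polynomial.aeval (ρ t) (minpoly ℚ (t : R)) = 0 := by
    intro t
    rw [Polynomial.aeval_algHom_apply]
    have h0 : Polynomial.aeval t (minpoly ℚ (t : R)) = 0 := by
      have h := Polynomial.aeval_algHom_apply (Algebra.adjoin ℚ ({α} : Set R)).val t
        (minpoly ℚ (t : R))
      rw [Subalgebra.coe_val, minpoly.aeval] at h
      exact Subtype.ext h.symm
    rw [h0, map_zero]
  have h1 : (ρ a + ρ b).im = 0 := by
    have h := hroot (a + b)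
    have hS : ((a + b : Algebra.adjoin ℚ ({α} : Set R)) : R) = α + star α := rfl
    rw [hS, map_add] at h
    exact symroot (α + star α) (by rw [star_add, star_star, add_comm]) _ h
  have h2 : (ρ a - ρ b).re = 0 := by
    have h := hroot (-((a - b) * (a - b)))
    have hS : ((-((a - b) * (a - b)) : Algebra.adjoin ℚ ({α} : Set R)) : R)
        = -((α - star α) * (α - star α)) := rfl
    rw [hS] at h
    have hd : star (α - star α) = -(α - star α) := by rw [star_sub, star_star, neg_sub]
    have hre := posroot (α - star α) hd _ h
    have hy : star (-((α - star α) * (α - star α))) = -((α - star α) * (α - star α)) := by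
      rw [star_neg, star_mul, hd, neg_mul_neg]
    have him := symroot _ hy _ h
    rw [map_neg, map_mul, map_sub] at hre him
    generalize ρ a - ρ b = c at hre him ⊢
    simp only [Complex.neg_re, Complex.neg_im, Complex.mul_re, Complex.mul_im] at hre him
    by_contra hne
    have hcim : c.im = 0 := by
      have h6 : c.re * c.im = 0 := by linarith
      exact (mul_eq_zero.mp h6).resolve_left hne
    rw [hcim] at hre
    have h7 : c.re * c.re ≤ 0 := by linarith
    exact hne (mul_self_eq_zero.mp (le_antisymm h7 (mul_self_nonneg _)))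
  have hconj : ρ b = starRingEnd ℂ (ρ a) := by
    simp only [Complex.sub_re] at h2
    simp only [Complex.add_im] at h1
    apply Complex.ext
    · rw [Complex.conj_re]; linarith
    · rw [Complex.conj_im]; linarith
  refine ⟨hconj, ?_⟩
  have h3 : (((‖ρ a‖ ^ 2 : ℝ)) : ℂ) = (q : ℂ) := by
    rw [← Complex.normSq_eq_norm_sq, ← Complex.mul_conj, ← hconj, hab]
  exact_mod_cast h3

end Groth.Agent.S19356
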