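import Mathlib
import Groth.Agent.H11.FanLib
import Groth.Statements.S19374

set_option autoImplicit false
universe u
open CategoryTheory Opposite Instab
open Instab Instab.Fan

namespace Groth.Agent.S19374

/-- Let F be a formal fan and U ⊆ P F. Then U is locally convex in the simplex-wise sense — for every
rational simplex, a ray lying strictly between two rays that map into U also maps into U — if and
only if, for every n-cone ξ of F, the set of nonzero nonnegative vectors v of ℝ^n whose point of the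
rational simplex of ξ lies in U is a convex subset of ℝ^n (convexity of the preimage of U in each
punctured cone of the affine realization). -/
theorem result (F : Fan.{u}) (U : Set (Fan.P F)) :
    Fan.IsLocallyConvex U ↔
      ∀ (n : ICone) (ξ : F.obj (op n)),
        Convex ℝ {v : Fin n.dim → ℝ | ∃ h : (∀ i, 0 ≤ v i) ∧ v ≠ 0, Fan.P.mk ξ (⟨v, h⟩ : Fan.Orth n) ∈ U} := by
  constructor
  · intro hU n ξ v₀ hv₀ v₂ hv₂ a b ha hb hab
    obtain ⟨h₀, hv₀⟩ := hv₀
    obtain ⟨h₂, hv₂⟩ := hv₂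
    rcases ha.eq_or_lt with rfl | ha'
    · rw [zero_add] at hab
      subst hab
      rw [zero_smul, zero_add, one_smul]
      exact ⟨h₂, hv₂⟩
    rcases hb.eq_or_lt with rfl | hb'
    · rw [add_zero] at hab
      subst hab
      rw [zero_smul, add_zero, one_smul]
      exact ⟨h₀, hv₀⟩
    have hnn : ∀ i, 0 ≤ (a • v₀ + b • v₂) i := by
      intro i
      simp only [Pi.add_apply, Pi.smul_apply, smul_eq_mul]
      exact add_nonneg (mul_nonneg ha (h₀.1 i)) (mul_nonneg hb (h₂.1 i))
    have hne : a • v₀ + b • v₂ ≠ 0 := by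
      intro h
      apply h₀.2
      funext i
      have hi := congr_fun h i
      simp only [Pi.add_apply, Pi.smul_apply, smul_eq_mul, Pi.zero_apply] at hi
      have h1 : 0 ≤ a * v₀ i := mul_nonneg ha (h₀.1 i)
      have h2 : 0 ≤ b * v₂ i := mul_nonneg hb (h₂.1 i)
      have h3 : a * v₀ i = 0 := by linarith
      rcases mul_eq_zero.1 h3 with h4 | h4
      · exact absurd h4 ha'.ne'
      · exact h4
    exact ⟨⟨hnn, hne⟩, hU n ξ ⟨v₀, h₀⟩ ⟨_, hnn, hne⟩ ⟨v₂, h₂⟩ hv₀ hv₂ ⟨a, b, ha', hb', rfl⟩⟩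
  · intro hC n ξ v₀ v₁ v₂ h₀ h₂ hex
    obtain ⟨a, b, ha, hb, hv⟩ := hex
    have hab : 0 < a + b := add_pos ha hb
    have hmem := hC n ξ (x := v₀.1) ⟨v₀.2, h₀⟩ (y := v₂.1) ⟨v₂.2, h₂⟩ (a := a / (a + b))
      (b := b / (a + b)) (div_nonneg ha.le hab.le) (div_nonneg hb.le hab.le)
      (by field_simp)
    obtain ⟨h', hmem⟩ := hmem
    rw [Groth.Agent.H11.FanLib.mk_smul ξ ⟨_, h'⟩ v₁ (a + b) hab ?_] at hmem
    · exact hmem
    · show v₁.1 = (a + b) • ((a / (a + b)) • v₀.1 + (b / (a + b)) • v₂.1)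
      rw [hv, smul_add, smul_smul, smul_smul, mul_div_cancel₀ _ hab.ne', mul_div_cancel₀ _ hab.ne']

end Groth.Agent.S19374
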