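import Groth.Statements.S4756
import Groth.Agent.H29.FibTransport

set_option autoImplicit false
universe u
open EGA4

namespace Groth.Agent.S4756

/-- Let A → B be a normal homomorphism of Noetherian rings (flat, with geometrically normal fibres) and
S a multiplicative subset of A. Then the induced homomorphism S⁻¹A → S⁻¹B (arbitrary localizations
at S and at its image) is normal. -/
theorem result (A B : Type u) [CommRing A] [CommRing B] [IsNoetherianRing A] [IsNoetherianRing B]
    [Algebra A B] (h : EGA4.IsNormalHom A B) (S : Submonoid A)
    (A' B' : Type u) [CommRing A'] [CommRing B'] [Algebra A A'] [Algebra B B'] [Algebra A' B'] [Algebra A B']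
    [IsScalarTower A A' B'] [IsScalarTower A B B'] [IsLocalization S A']
    [IsLocalization (Algebra.algebraMapSubmonoid B S) B'] :
    EGA4.IsNormalHom A' B' := by
  haveI hpo : Algebra.IsPushout A B A' B' := Algebra.isPushout_of_isLocalization S A' B B'
  have hs : (algebraMap A A').SurjectiveOnStalks := RingHom.surjectiveOnStalks_of_isLocalization S A'
  haveI := h.1
  refine ⟨Module.Flat.isBaseChange A A' B B' hpo.symm.out, fun p' hp' => ?_⟩
  haveI : (p'.comap (algebraMap A A')).IsPrime := Ideal.comap_isPrime _ _
  obtain ⟨e, φ, hφ⟩ := Groth.Agent.H29.FibTransport.fiber_iso (C := B) (C' := B') hs p'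
    (p'.comap (algebraMap A A')) rfl
  exact Groth.Agent.H29.FibTransport.geomNormal e φ hφ (h.2 _)

end Groth.Agent.S4756
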