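import Groth.Statements.S19378
import Groth.Agent.H29.OnePlus
import Groth.Agent.H29.FFDescent
import Groth.Agent.S19474
import Groth.Agent.S4756
import Groth.Agent.Helper1.NormalCpl

set_option autoImplicit false
universe u
open EGA4

namespace Groth.Agent.S19378

/-- Let A be a Noetherian ring, J a proper ideal of A, Â the J-adic completion and A_T the localization
of A at T = 1 + J. If the canonical map A → Â is a normal homomorphism (flat with geometrically
normal fibres), then A_T is a normal ring (all local rings integrally closed domains) if and only if
Â is. (The case of the henselization of the pair and of the weak completion is not stated here.) -/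
theorem result
    (A : Type u) [CommRing A] [IsNoetherianRing A] (J : Ideal A) (hJ : J ≠ ⊤)
    (hf : EGA4.IsNormalHom A (AdicCompletion J A))
    (T : Submonoid A) (hT : T = MonoidHom.mker (Ideal.Quotient.mk J)) :
    EGA4.IsNormalRing (Localization T) ↔ EGA4.IsNormalRing (AdicCompletion J A) := by
  subst hT
  haveI : IsNoetherianRing (AdicCompletion J A) :=
    Groth.Agent.S19474.isNoetherianRing_adicCompletion A J
  obtain ⟨alg, tower, hff, hloc⟩ := Groth.Agent.H29.OnePlus.main A J
  constructor
  · intro hN
    obtain ⟨hflat, hfib⟩ := Groth.Agent.S4756.result A (AdicCompletion J A) hf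
      (MonoidHom.mker (Ideal.Quotient.mk J))
      (Localization (MonoidHom.mker (Ideal.Quotient.mk J))) (AdicCompletion J A)
    haveI := hflat
    exact Groth.Agent.Helper1.NormalCpl.isNormalRing_of_flat _ _ hN
      (fun p hp => Groth.Agent.Helper1.NormalCpl.isNormalRing_of_isGeomNormal _ _ (hfib p))
  · intro hN
    exact Groth.Agent.H29.FFDescent.isNormalRing_descent
      (Localization (MonoidHom.mker (Ideal.Quotient.mk J))) (AdicCompletion J A) hN

end Groth.Agent.S19378
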