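import Mathlib
import Groth.Statements.S19383

set_option autoImplicit false
universe u
open CAlg

namespace Groth.Agent.S19383

/-- Over a discrete valuation ring, let V be a henselian discrete valuation ring with maximal ideal 𝔪
and B a Noetherian V-algebra, B̂ its 𝔪B-adic completion. Then B is flat over V if and only if B̂ is
flat over V. (The published lemma takes V an excellent normal ring with an ideal I such that (V,
V/I) is a henselian pair and B of finite type; in that generality it fails: for V = ℤ_p[[x]], I =
(p) and B = V[y]/(x, py − 1) ≅ ℚ_p one has IB = B, so B̂ = 0 is flat while B is not flat over V.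
Over a discrete valuation ring flatness is torsion-freeness and the statement holds for every
Noetherian B.) -/
theorem result
    (V : Type u) [CommRing V] [IsDomain V] [IsDiscreteValuationRing V] [HenselianLocalRing V]
    (B : Type u) [CommRing B] [Algebra V B] [IsNoetherianRing B] :
    Module.Flat V B ↔
      Module.Flat V (AdicCompletion ((IsLocalRing.maximalIdeal V).map (algebraMap V B)) B) := by
  constructor
  · intro hflat
    exact Module.Flat.trans V B _
  · intro hflat
    rw [Module.Flat.flat_iff_torsion_eq_bot_of_isBezout] at hflat ⊢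
    rw [eq_bot_iff]
    intro b hb
    rw [Submodule.mem_bot]
    rw [Submodule.mem_torsion_iff] at hb
    obtain ⟨⟨r, hr⟩, hrb⟩ := hb
    have hr0 : r ≠ 0 := nonZeroDivisors.ne_zero hr
    have hrb' : r • b = 0 := hrb
    obtain ⟨I, hI⟩ : ∃ I : Ideal B, I = (IsLocalRing.maximalIdeal V).map (algebraMap V B) :=
      ⟨_, rfl⟩
    rw [← hI] at hflat
    -- the image of `b` in the completion is torsion, hence zero
    have hof : AdicCompletion.of I B b = 0 := by
      have hmem : AdicCompletion.of I B b ∈ Submodule.torsion V (AdicCompletion I B) := by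
        rw [Submodule.mem_torsion_iff]
        refine ⟨⟨r, hr⟩, ?_⟩
        show r • AdicCompletion.of I B b = 0
        rw [← algebraMap_smul B r (AdicCompletion.of I B b), ← map_smul, algebraMap_smul, hrb',
          map_zero]
      rw [hflat] at hmem
      exact hmem
    have hbmem : b ∈ (⨅ i : ℕ, I ^ i • ⊤ : Submodule B B) := by
      rw [Submodule.mem_iInf]
      intro n
      have := congrArg (fun x => x.1 n) hof
      simp only [AdicCompletion.of_apply] at this
      exact (Submodule.Quotient.mk_eq_zero _).1 this
    obtain ⟨⟨a, ha⟩, hab⟩ := (Ideal.mem_iInf_smul_pow_eq_bot_iff I b).1 hbmem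
    obtain ⟨ϖ, hϖ⟩ := IsDiscreteValuationRing.exists_irreducible V
    have hIspan : I = Ideal.span {algebraMap V B ϖ} := by
      rw [hI, hϖ.maximalIdeal_eq, Ideal.map_span, Set.image_singleton]
    rw [hIspan, Ideal.mem_span_singleton'] at ha
    obtain ⟨c, rfl⟩ := ha
    obtain ⟨n, u, hu⟩ := IsDiscreteValuationRing.eq_unit_mul_pow_irreducible hr0 hϖ
    have hpow : ∀ m : ℕ, b = c ^ m * (algebraMap V B ϖ) ^ m * b := by
      intro m
      induction m with
      | zero => simp
      | succ m ih =>
        have hab' : c * algebraMap V B ϖ * b = b := hab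
        calc b = c ^ m * (algebraMap V B ϖ) ^ m * b := ih
          _ = c ^ m * (algebraMap V B ϖ) ^ m * (c * algebraMap V B ϖ * b) := by rw [hab']
          _ = c ^ (m + 1) * (algebraMap V B ϖ) ^ (m + 1) * b := by ring
    have hϖb : (algebraMap V B ϖ) ^ n * b = 0 := by
      have h1 : (u : V) • (ϖ ^ n • b) = 0 := by
        rw [smul_smul, ← hu]; exact hrb'
      have h2 : ϖ ^ n • b = 0 := by
        have := congrArg (fun x => ((u⁻¹ : Vˣ) : V) • x) h1
        simpa [smul_smul] using this
      rw [← map_pow, ← Algebra.smul_def]
      exact h2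
    rw [hpow n, mul_assoc, hϖb, mul_zero]

end Groth.Agent.S19383
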