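import Mathlib
import Groth.Agent.H11.Quartic
import Groth.Statements.S19392

set_option autoImplicit false
universe u
open InvQ

namespace Groth.Agent.S19392

/-- Over a field of characteristic different from 2 and 3, a nonzero binary quartic f has P(f) = Q(f) =
0 for the two basic invariants P, Q if and only if f has a triple zero. Stated for f = ∏_i (μ_i X₀ −
λ_i X₁) given by four root points (λ_i, μ_i) ≠ (0, 0) (over an algebraically closed field every
nonzero quartic form is of this shape), with the integral invariants I = 6P and J = 72Q of the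
coefficients of f; a triple zero means that three of the four root points are pairwise proportional. -/
theorem result (k : Type u) [Field k]
    (h2 : (2 : k) ≠ 0) (h3 : (3 : k) ≠ 0) (la mu : Fin 4 → k) (hne : ∀ i, la i ≠ 0 ∨ mu i ≠ 0) :
    (W4c6intromoduli.invI (W4c6intromoduli.coef la mu) = 0 ∧
        W4c6intromoduli.invJ (W4c6intromoduli.coef la mu) = 0) ↔
      ∃ i j l : Fin 4, i ≠ j ∧ j ≠ l ∧ i ≠ l ∧
        la i * mu j = la j * mu i ∧ la j * mu l = la l * mu j := by
  have hs := Groth.Agent.H11.qA_add_qB_add_qC la mu
  have hI2 := Groth.Agent.H11.two_mul_invI la mu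
  have hJ2 := Groth.Agent.H11.invJ_eq la mu
  constructor
  · rintro ⟨hI, hJ⟩
    rw [hI, mul_zero] at hI2
    rw [hJ] at hJ2
    obtain ⟨hA, hB, -⟩ := Groth.Agent.H11.all_zero_of_invariants h2 h3 hs hI2.symm hJ2.symm
    simp only [Groth.Agent.H11.qA] at hA
    simp only [Groth.Agent.H11.qB] at hB
    rcases mul_eq_zero.1 hA with h01 | h23
    · rcases mul_eq_zero.1 hB with h02 | h31
      · exact ⟨1, 0, 2, by decide, by decide, by decide, by linear_combination -h01,
          by linear_combination h02⟩
      · exact ⟨0, 1, 3, by decide, by decide, by decide, by linear_combination h01,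
          by linear_combination -h31⟩
    · rcases mul_eq_zero.1 hB with h02 | h31
      · exact ⟨3, 2, 0, by decide, by decide, by decide, by linear_combination -h23,
          by linear_combination -h02⟩
      · exact ⟨2, 3, 1, by decide, by decide, by decide, by linear_combination h23,
          by linear_combination h31⟩
  · rintro ⟨i, j, l, hij, hjl, hil, e1, e2⟩
    have e3 : la i * mu l = la l * mu i := by
      rcases hne j with hj | hj
      · apply mul_left_cancel₀ hj
        linear_combination la i * e2 + la l * e1
      · apply mul_left_cancel₀ hj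
        linear_combination mu l * e1 + mu i * e2
    have hS : ∀ x y : Fin 4, (x = i ∨ x = j ∨ x = l) → (y = i ∨ y = j ∨ y = l) →
        la x * mu y = la y * mu x := by
      rintro x y (rfl | rfl | rfl) (rfl | rfl | rfl)
      · rfl
      · exact e1
      · exact e3
      · exact e1.symm
      · rfl
      · exact e2
      · exact e3.symm
      · exact e2.symm
      · rfl
    have comb : ∀ i j l : Fin 4, i ≠ j → j ≠ l → i ≠ l → ∀ a b c d : Fin 4,
        a ≠ b → a ≠ c → a ≠ d → b ≠ c → b ≠ d → c ≠ d →
        (((a = i ∨ a = j ∨ a = l) ∧ (b = i ∨ b = j ∨ b = l)) ∨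
          ((c = i ∨ c = j ∨ c = l) ∧ (d = i ∨ d = j ∨ d = l))) := by decide
    have hA : Groth.Agent.H11.qA la mu = 0 := by
      simp only [Groth.Agent.H11.qA]
      rcases comb i j l hij hjl hil 0 1 2 3 (by decide) (by decide) (by decide) (by decide)
        (by decide) (by decide) with ⟨h, h'⟩ | ⟨h, h'⟩
      · rw [hS 0 1 h h', sub_self, zero_mul]
      · rw [hS 2 3 h h', sub_self, mul_zero]
    have hB : Groth.Agent.H11.qB la mu = 0 := by
      simp only [Groth.Agent.H11.qB]
      rcases comb i j l hij hjl hil 0 2 3 1 (by decide) (by decide) (by decide) (by decide)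
        (by decide) (by decide) with ⟨h, h'⟩ | ⟨h, h'⟩
      · rw [hS 0 2 h h', sub_self, zero_mul]
      · rw [hS 3 1 h h', sub_self, mul_zero]
    have hC : Groth.Agent.H11.qC la mu = 0 := by
      simp only [Groth.Agent.H11.qC]
      rcases comb i j l hij hjl hil 0 3 1 2 (by decide) (by decide) (by decide) (by decide)
        (by decide) (by decide) with ⟨h, h'⟩ | ⟨h, h'⟩
      · rw [hS 0 3 h h', sub_self, zero_mul]
      · rw [hS 1 2 h h', sub_self, mul_zero]
    rw [hA, hB, hC] at hI2 hJ2
    refine ⟨?_, ?_⟩
    · have : (2 : k) * W4c6intromoduli.invI (W4c6intromoduli.coef la mu) = 0 := by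
        rw [hI2]; ring
      rcases mul_eq_zero.1 this with h | h
      · exact absurd h h2
      · exact h
    · rw [hJ2]; ring

end Groth.Agent.S19392
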