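import Groth.Statements.S19396
import Groth.Agent.Lib.Helper17.FF19
-- import your own Groth.Agent.* helpers here

set_option autoImplicit false
universe u v
open FunFld

namespace Groth.Agent.S19396

/-- On an elliptic curve with base point 0, if f has a double pole at 0 and no other pole and g a triple
pole at 0 and no other pole, then for n ≥ 2 the functions 1, f, …, f^[n/2], g, fg, …, f^[(n−3)/2] g
form a basis of the space of functions with at most an n-fold pole at 0. Stated for a function field
K/k of one variable of genus 1 with a place P of degree 1 in the role of the curve and its base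
point: the family indexed by Fin (n/2 + 1) ⊕ Fin ((n − 1)/2), sending i on the left to f^i and i on
the right to f^i g, is linearly independent over k and spans L(nP). -/
theorem result (k : Type u) (K : Type v) [Field k] [Field K]
    [Algebra k K] (hK : FunFld.IsFunctionField k K) (hgen : FunFld.genus k K = 1)
    (P : FunFld.Place k K) (hP : P.deg = 1) (f g : K)
    (hf : f ∈ FunFld.L (Finsupp.single P 2)) (hf2 : P.ord f = -2)
    (hg : g ∈ FunFld.L (Finsupp.single P 3)) (hg3 : P.ord g = -3) (n : ℕ) (hn : 2 ≤ n) :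
    LinearIndependent k
        (Sum.elim (fun i : Fin (n / 2 + 1) => f ^ (i : ℕ)) (fun i : Fin ((n - 1) / 2) => f ^ (i : ℕ) * g)) ∧
      Submodule.span k (Set.range
        (Sum.elim (fun i : Fin (n / 2 + 1) => f ^ (i : ℕ)) (fun i : Fin ((n - 1) / 2) => f ^ (i : ℕ) * g))) =
        FunFld.L (Finsupp.single P (n : ℤ)) := by
  classical
  have hf0 : f ≠ 0 := by
    rintro rfl
    rw [Groth.Agent.Helper17.FF.ord_zero] at hf2
    omega
  have hg0 : g ≠ 0 := by
    rintro rfl
    rw [Groth.Agent.Helper17.FF.ord_zero] at hg3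
    omega
  obtain ⟨z, hz⟩ : ∃ z : Fin (n / 2 + 1) ⊕ Fin ((n - 1) / 2) → K,
      z = Sum.elim (fun i : Fin (n / 2 + 1) => f ^ (i : ℕ))
        (fun i : Fin ((n - 1) / 2) => f ^ (i : ℕ) * g) := ⟨_, rfl⟩
  rw [← hz]
  have hzl : ∀ i, z (Sum.inl i) = f ^ (i : ℕ) := fun i => by rw [hz]; rfl
  have hzr : ∀ i, z (Sum.inr i) = f ^ (i : ℕ) * g := fun i => by rw [hz]; rfl
  have hz0 : ∀ e, z e ≠ 0 := by
    intro e
    cases e with
    | inl i => rw [hzl]; exact pow_ne_zero _ hf0
    | inr i => rw [hzr]; exact mul_ne_zero (pow_ne_zero _ hf0) hg0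
  have hol : ∀ i : Fin (n / 2 + 1), P.ord (z (Sum.inl i)) = -2 * (i.val : ℤ) := by
    intro i
    rw [hzl, Groth.Agent.Helper17.FF.ord_pow, hf2]; ring
  have hor : ∀ i : Fin ((n - 1) / 2), P.ord (z (Sum.inr i)) = -2 * (i.val : ℤ) - 3 := by
    intro i
    rw [hzr, Groth.Agent.Helper17.FF.ord_mul P (pow_ne_zero _ hf0) hg0,
      Groth.Agent.Helper17.FF.ord_pow, hf2, hg3]; ring
  have hinj : Function.Injective (fun e => P.ord (z e)) := by
    intro a b hab
    simp only at hab
    cases a with
    | inl i =>
      cases b with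
      | inl j =>
        rw [hol, hol] at hab
        congr 1
        apply Fin.ext
        omega
      | inr j =>
        rw [hol, hor] at hab
        omega
    | inr i =>
      cases b with
      | inl j =>
        rw [hol, hor] at hab
        omega
      | inr j =>
        rw [hor, hor] at hab
        congr 1
        apply Fin.ext
        omega
  have hli : LinearIndependent k z :=
    Fintype.linearIndependent_iff.mpr (fun c hc =>
      Groth.Agent.Helper17.FF.coeff_eq_zero_of_ord_injective P z hz0 hinj c hc)
  refine ⟨hli, ?_⟩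
  have hfQ : ∀ Q : FunFld.Place k K, Q ≠ P → Q.1 f ≤ 1 := by
    intro Q hQ
    have := (Groth.Agent.Helper17.FF.mem_L.mp hf) Q
    rwa [Finsupp.single_apply, if_neg (Ne.symm hQ), WithZero.exp_zero] at this
  have hgQ : ∀ Q : FunFld.Place k K, Q ≠ P → Q.1 g ≤ 1 := by
    intro Q hQ
    have := (Groth.Agent.Helper17.FF.mem_L.mp hg) Q
    rwa [Finsupp.single_apply, if_neg (Ne.symm hQ), WithZero.exp_zero] at this
  have hmem : ∀ e, z e ∈ FunFld.L (Finsupp.single P (n : ℤ)) := by
    intro e
    rw [Groth.Agent.Helper17.FF.mem_L]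
    intro Q
    by_cases hQ : Q = P
    · rw [hQ, Finsupp.single_eq_same, Groth.Agent.Helper17.FF.val_le_exp_iff P (hz0 e)]
      cases e with
      | inl i => rw [hol]; have := i.isLt; omega
      | inr i => rw [hor]; have := i.isLt; omega
    · rw [Finsupp.single_apply, if_neg (Ne.symm hQ), WithZero.exp_zero]
      cases e with
      | inl i => rw [hzl, map_pow]; exact pow_le_one' (hfQ Q hQ) _
      | inr i =>
        rw [hzr, map_mul, map_pow]
        calc Q.1 f ^ (i : ℕ) * Q.1 g ≤ 1 * 1 := mul_le_mul' (pow_le_one' (hfQ Q hQ) _) (hgQ Q hQ)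
          _ = 1 := one_mul _
  have hle : Submodule.span k (Set.range z) ≤ FunFld.L (Finsupp.single P (n : ℤ)) := by
    rw [Submodule.span_le]
    rintro _ ⟨e, rfl⟩
    exact hmem e
  haveI := Groth.Agent.Helper17.FF.L_finite hK (Finsupp.single P (n : ℤ))
  have hell := Groth.Agent.Helper17.FF.g1_ell_single hK hgen P hP n (by omega)
  unfold FunFld.ell at hell
  apply Submodule.eq_of_le_of_finrank_eq hle
  rw [finrank_span_eq_card hli, hell, Fintype.card_sum, Fintype.card_fin, Fintype.card_fin]
  omega

end Groth.Agent.S19396
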