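import Groth.Statements.S19397
import Groth.Agent.H16.EA5
-- import your own Groth.Agent.* helpers here

set_option autoImplicit false
universe u v
open FunFld

namespace Groth.Agent.S19397

open Classical in
/-- Over an algebraically closed field of characteristic different from 2 and 3, the automorphism group
of an elliptic curve (automorphisms fixing the base point) with invariant j has order 2 if j ≠ 0,
12³, order 4 if j = 12³ and order 6 if j = 0. Stated for the function field K/k of the curve: K of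
genus 1 generated by x, y with y² = x³ + a x + b and 4a³ + 27b² ≠ 0, P the place where x has its
double and y its triple pole (and no other poles), so that j = 12³ · 4a³/(4a³ + 27b²) and the three
cases are a, b ≠ 0; b = 0; a = 0; the automorphisms are the k-algebra automorphisms of K preserving
the valuation of P. -/
theorem result (k : Type u) (K : Type v) [Field k]
    [IsAlgClosed k] [Field K] [Algebra k K] (h2 : (2 : k) ≠ 0) (h3 : (3 : k) ≠ 0)
    (hK : FunFld.IsFunctionField k K) (hgen : FunFld.genus k K = 1) (P : FunFld.Place k K)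
    (a b : k) (hdisc : 4 * a ^ 3 + 27 * b ^ 2 ≠ 0) (x y : K)
    (heq : y ^ 2 = x ^ 3 + algebraMap k K a * x + algebraMap k K b)
    (hxy : IntermediateField.adjoin k ({x, y} : Set K) = ⊤)
    (hx : x ∈ FunFld.L (Finsupp.single P 2)) (hx2 : P.ord x = -2)
    (hy : y ∈ FunFld.L (Finsupp.single P 3)) (hy3 : P.ord y = -3) :
    Nat.card {σ : K ≃ₐ[k] K // ∀ z : K, P.1 (σ z) = P.1 z} =
      if a = 0 then 6 else if b = 0 then 4 else 2 := by
  classical
  have hx0 := Groth.Agent.Helper16.Ell.x_ne_zero P x hx2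
  have hy0 := Groth.Agent.Helper16.Ell.y_ne_zero P y hy3
  have hU0 : ∀ u : k, u ^ 4 * a = a ∧ u ^ 6 * b = b → u ≠ 0 := by
    rintro u ⟨h1, h2⟩ rfl
    have ha : a = 0 := by
      rw [zero_pow (by norm_num), zero_mul] at h1; exact h1.symm
    have hb : b = 0 := by
      rw [zero_pow (by norm_num), zero_mul] at h2; exact h2.symm
    apply hdisc
    rw [ha, hb]; ring
  have hex : ∀ u : {u : k // u ^ 4 * a = a ∧ u ^ 6 * b = b}, ∃ σ : K ≃ₐ[k] K,
      σ x = algebraMap k K (u.1 ^ 2) * x ∧ σ y = algebraMap k K (u.1 ^ 3) * y ∧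
        ∀ z, P.1 (σ z) = P.1 z := fun u =>
    Groth.Agent.Helper16.Ell.construct hK P a b x y heq hxy hx hx2 hy3 u.1 (hU0 u.1 u.2) u.2.1 u.2.2
  choose f hfx hfy hfP using hex
  obtain ⟨F, hF⟩ : ∃ F : {u : k // u ^ 4 * a = a ∧ u ^ 6 * b = b} →
      {σ : K ≃ₐ[k] K // ∀ z : K, P.1 (σ z) = P.1 z}, F = fun u => ⟨f u, hfP u⟩ := ⟨_, rfl⟩
  have hbij : Function.Bijective F := by
    constructor
    · intro u v huv
      rw [hF] at huv
      have h1 : f u = f v := congrArg Subtype.val huv
      have hx' : algebraMap k K (u.1 ^ 2) * x = algebraMap k K (v.1 ^ 2) * x := by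
        rw [← hfx u, ← hfx v, h1]
      have hy' : algebraMap k K (u.1 ^ 3) * y = algebraMap k K (v.1 ^ 3) * y := by
        rw [← hfy u, ← hfy v, h1]
      have e2 : u.1 ^ 2 = v.1 ^ 2 := (algebraMap k K).injective (mul_right_cancel₀ hx0 hx')
      have e3 : u.1 ^ 3 = v.1 ^ 3 := (algebraMap k K).injective (mul_right_cancel₀ hy0 hy')
      apply Subtype.ext
      have hu0 := hU0 u.1 u.2
      have h2 : (u.1 - v.1) * u.1 ^ 2 = 0 := by linear_combination e3 - v.1 * e2
      rcases mul_eq_zero.mp h2 with h | h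
      · exact sub_eq_zero.mp h
      · exact absurd (pow_eq_zero_iff (by norm_num) |>.mp h) hu0
    · rintro ⟨σ, hσ⟩
      obtain ⟨u, hux, huy, hua, hub⟩ := Groth.Agent.Helper16.Ell.analysis hK hgen P h2 h3 a b x y
        heq hx hx2 hy hy3 σ hσ
      refine ⟨⟨u, hua, hub⟩, ?_⟩
      rw [hF]
      apply Subtype.ext
      apply AlgEquiv.coe_algHom_injective
      apply Groth.Agent.Helper16.Ell.algHom_ext_adjoin hxy
      intro z hz
      rcases hz with rfl | hz
      · show f ⟨u, hua, hub⟩ z = σ z
        rw [hfx, hux]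
      · rw [Set.mem_singleton_iff] at hz
        rw [hz]
        show f ⟨u, hua, hub⟩ y = σ y
        rw [hfy, huy]
  rw [← Nat.card_eq_of_bijective F hbij]
  have h6 : ((6 : ℕ) : k) ≠ 0 := by
    have : ((6 : ℕ) : k) = 2 * 3 := by norm_num
    rw [this]; exact mul_ne_zero h2 h3
  have h4 : ((4 : ℕ) : k) ≠ 0 := by
    have : ((4 : ℕ) : k) = 2 * 2 := by norm_num
    rw [this]; exact mul_ne_zero h2 h2
  have h2' : ((2 : ℕ) : k) ≠ 0 := by
    have : ((2 : ℕ) : k) = 2 := by norm_num
    rw [this]; exact h2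
  by_cases ha : a = 0
  · rw [if_pos ha]
    have hb : b ≠ 0 := by
      rintro rfl
      apply hdisc; rw [ha]; ring
    haveI : NeZero ((6 : ℕ) : k) := ⟨h6⟩
    refine (Nat.card_congr (Equiv.subtypeEquivRight fun u => ?_)).trans
      (Groth.Agent.Helper16.Ell.card_pow_eq_one k 6)
    rw [ha, mul_zero]
    constructor
    · rintro ⟨-, h⟩
      exact mul_right_cancel₀ hb (by rw [h, one_mul])
    · intro h
      exact ⟨rfl, by rw [h, one_mul]⟩
  · rw [if_neg ha]
    by_cases hb : b = 0
    · rw [if_pos hb]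
      haveI : NeZero ((4 : ℕ) : k) := ⟨h4⟩
      refine (Nat.card_congr (Equiv.subtypeEquivRight fun u => ?_)).trans
        (Groth.Agent.Helper16.Ell.card_pow_eq_one k 4)
      rw [hb, mul_zero]
      constructor
      · rintro ⟨h, -⟩
        exact mul_right_cancel₀ ha (by rw [h, one_mul])
      · intro h
        exact ⟨by rw [h, one_mul], rfl⟩
    · rw [if_neg hb]
      haveI : NeZero ((2 : ℕ) : k) := ⟨h2'⟩
      refine (Nat.card_congr (Equiv.subtypeEquivRight fun u => ?_)).trans
        (Groth.Agent.Helper16.Ell.card_pow_eq_one k 2)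
      constructor
      · rintro ⟨h4', h6'⟩
        have e4 : u ^ 4 = 1 := mul_right_cancel₀ ha (by rw [h4', one_mul])
        have e6 : u ^ 6 = 1 := mul_right_cancel₀ hb (by rw [h6', one_mul])
        calc u ^ 2 = u ^ 4 * u ^ 2 := by rw [e4, one_mul]
          _ = u ^ 6 := by ring
          _ = 1 := e6
      · intro h
        have e4 : u ^ 4 = 1 := by
          calc u ^ 4 = (u ^ 2) ^ 2 := by ring
            _ = 1 := by rw [h, one_pow]
        have e6 : u ^ 6 = 1 := by
          calc u ^ 6 = (u ^ 2) ^ 3 := by ring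
            _ = 1 := by rw [h, one_pow]
        exact ⟨by rw [e4, one_mul], by rw [e6, one_mul]⟩

end Groth.Agent.S19397
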