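import Groth.Statements.S19398
import Mathlib
import Groth.Agent.Lib.Helper7.Reyn7
-- import your own Groth.Agent.* helpers here

set_option autoImplicit false
universe u
open GIT

namespace Groth.Agent.S19398


open TensorProduct Groth.Agent.H29 Groth.Agent.Helper4.LinRed Groth.Agent.Helper7.Reyn7

attribute [local instance] Groth.Agent.H29.dualModule

theorem hom_to_invariants_zero' {k : Type u} [Field k] {A : Type u} [CommRing A] [HopfAlgebra k A]
    {V : Type u} [AddCommGroup V] [Module k V] [HopfRep.Comod k A V]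
    {V' : Type u} [AddCommGroup V'] [Module k V'] [HopfRep.Comod k A V']
    (hss : IsSemisimpleModule (DualAlg k A) V) (D : V →ₗ[k] V')
    (hD : Hoch.IsComodHom A D) (hDinv : ∀ x, D x ∈ HopfRep.fixedPts k A V')
    (W : Submodule k V) (hW : HopfRep.IsSubcomod (k := k) (A := A) W)
    (hW0 : ∀ x ∈ W, x ∈ HopfRep.fixedPts k A V → x = 0) : ∀ w ∈ W, D w = 0 := by
  have hDlin := (isComodHom_iff D).mp hD
  have hWst := (isSubcomod_iff W).mp hW
  let K : Submodule (DualAlg k A) V :=
    { carrier := {x | x ∈ W ∧ D x = 0}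
      add_mem' := by
        rintro a b ⟨ha, ha'⟩ ⟨hb, hb'⟩
        exact ⟨W.add_mem ha hb, by rw [map_add, ha', hb', add_zero]⟩
      zero_mem' := ⟨W.zero_mem, map_zero D⟩
      smul_mem' := by
        rintro ψ x ⟨hx, hx'⟩
        refine ⟨hWst ψ.ofConv x hx, ?_⟩
        show D (dualAct ψ.ofConv x) = 0
        rw [hDlin, hx', map_zero] }
  obtain ⟨K', hK'⟩ := exists_isCompl K
  intro w hw
  have hwtop : w ∈ K ⊔ K' := by rw [hK'.sup_eq_top]; exact Submodule.mem_top
  obtain ⟨a, ha, b, hb, hab⟩ := Submodule.mem_sup.mp hwtop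
  have hbW : b ∈ W := by
    have hb' : b = w - a := by rw [← hab]; abel
    rw [hb']
    exact W.sub_mem hw ha.1
  have hbinv : b ∈ HopfRep.fixedPts k A V := by
    rw [mem_fixedPts_iff]
    intro φ
    let ψ : DualAlg k A := WithConv.toConv (φ + (-(φ 1)) • Coalgebra.counit (R := k) (A := A))
    have h1 : ψ • b ∈ K' := K'.smul_mem ψ hb
    have h2 : ψ • b = dualAct φ b - φ 1 • b := dualAct_aug φ b
    have h3 : ψ • b ∈ K := by
      refine ⟨?_, ?_⟩
      · rw [h2]
        exact W.sub_mem (hWst φ b hbW) (W.smul_mem _ hbW)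
      · rw [h2, map_sub, map_smul, hDlin, (mem_fixedPts_iff (D b)).mp (hDinv b) φ, sub_self]
    have h4 : ψ • b ∈ K ⊓ K' := ⟨h3, h1⟩
    rw [hK'.inf_eq_bot, Submodule.mem_bot] at h4
    rw [h2] at h4
    exact sub_eq_zero.mp h4
  have hb0 : b = 0 := hW0 b hbW hbinv
  rw [← hab, hb0, add_zero]
  exact ha.2


/-- For a reductive group G (here: every finite-dimensional representation completely reducible, i.e.
linearly reductive) acting linearly on vector spaces V and V′ of any dimension, with Reynolds
operators E and E′ (the projections onto the invariants along the unique invariant complement),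
every G-linear map u : V → V′ satisfies E′ ∘ u = u ∘ E. Stated for comodules over a commutative Hopf
algebra A whose finite-dimensional comodules are semisimple; a Reynolds operator is a comodule
endomorphism that is idempotent and fixes exactly the invariant vectors (such an operator is the
projection onto the invariants along an invariant complement, which is unique). -/
theorem result (k : Type u) [Field k] (A : Type u) [CommRing A] [HopfAlgebra k A]
    (hG : HopfRep.IsLinearlyReductive k A)
    (V W : Type u) [AddCommGroup V] [Module k V] [HopfRep.Comod k A V]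
    [AddCommGroup W] [Module k W] [HopfRep.Comod k A W]
    (E : V →ₗ[k] V) (hE₁ : Hoch.IsComodHom A E) (hE₂ : E ∘ₗ E = E)
    (hE₃ : ∀ x : V, E x = x ↔ x ∈ HopfRep.fixedPts k A V)
    (E' : W →ₗ[k] W) (hE'₁ : Hoch.IsComodHom A E') (hE'₂ : E' ∘ₗ E' = E')
    (hE'₃ : ∀ y : W, E' y = y ↔ y ∈ HopfRep.fixedPts k A W)
    (u : V →ₗ[k] W) (hu : Hoch.IsComodHom A u) :
    E' ∘ₗ u = u ∘ₗ E := by
  have hssC : HopfRep.IsSemisimpleComod k A V := isSemisimpleComod_of_linRed hG V
  have hss : IsSemisimpleModule (DualAlg k A) V := isSemisimpleModule_of_isSemisimpleComod k A V hssC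
  have hEE : ∀ z, E (E z) = E z := fun z => LinearMap.congr_fun hE₂ z
  have hE'E' : ∀ z, E' (E' z) = E' z := fun z => LinearMap.congr_fun hE'₂ z
  have hE'mem : ∀ z, E' z ∈ HopfRep.fixedPts k A W := fun z => (hE'₃ (E' z)).mp (hE'E' z)
  let D : V →ₗ[k] W := E' ∘ₗ u
  have hD : Hoch.IsComodHom A D := isComodHom_comp u E' hu hE'₁
  have hDinv : ∀ z, D z ∈ HopfRep.fixedPts k A W := fun z => hE'mem _
  have hker : HopfRep.IsSubcomod (k := k) (A := A) (LinearMap.ker E) := isSubcomod_ker E hE₁
  have hker0 : ∀ z ∈ LinearMap.ker E, z ∈ HopfRep.fixedPts k A V → z = 0 := by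
    intro z hz hz'
    rw [← (hE₃ z).mpr hz']
    exact LinearMap.mem_ker.mp hz
  have hzero := hom_to_invariants_zero' hss D hD hDinv _ hker hker0
  apply LinearMap.ext
  intro x
  show E' (u x) = u (E x)
  have hx1 : x - E x ∈ LinearMap.ker E := by
    rw [LinearMap.mem_ker, map_sub, hEE, sub_self]
  have h5 : E' (u (x - E x)) = 0 := hzero _ hx1
  have h6 : u (E x) ∈ HopfRep.fixedPts k A W := by
    rw [mem_fixedPts_iff]
    intro φ
    rw [← (isComodHom_iff u).mp hu, (mem_fixedPts_iff (E x)).mp ((hE₃ (E x)).mp (hEE x)) φ, map_smul]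
  have h7 : E' (u (E x)) = u (E x) := (hE'₃ _).mpr h6
  calc E' (u x) = E' (u (E x + (x - E x))) := by rw [add_sub_cancel]
    _ = E' (u (E x)) + E' (u (x - E x)) := by rw [map_add, map_add]
    _ = u (E x) := by rw [h5, add_zero, h7]

end Groth.Agent.S19398
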