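import Mathlib
import Groth.Statements.S19399

set_option autoImplicit false
universe u
open Curves

namespace Groth.Agent.S19399

/-- Over a field of characteristic different from 2 and 3, the invariant j(λ) = 256 (λ² − λ + 1)³ / (λ²
(λ − 1)²) of the cubic Y²Z = X(X − Z)(X − λZ), λ ≠ 0, 1, takes the same value at λ and μ exactly
when μ is one of the six values λ, 1 − λ, 1/λ, (λ − 1)/λ, λ/(λ − 1), 1/(1 − λ) obtained by
reordering the branch points. This is the step, in the proof of the published corollary (over an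
algebraically closed field, j gives a bijection between the isomorphism classes of elliptic curves
and the elements of the field), that identifies the fibres of λ ↦ j(λ) on the complement of {0, 1};
the bijection itself is not stated here. -/
theorem result (k : Type u) [Field k] (h2 : (2 : k) ≠ 0) (h3 : (3 : k) ≠ 0)
    (s t : k) (hs0 : s ≠ 0) (hs1 : s ≠ 1) (ht0 : t ≠ 0) (ht1 : t ≠ 1) :
    256 * (s ^ 2 - s + 1) ^ 3 / (s ^ 2 * (s - 1) ^ 2) = 256 * (t ^ 2 - t + 1) ^ 3 / (t ^ 2 * (t - 1) ^ 2) ↔
      (t = s ∨ t = 1 - s ∨ t = 1 / s ∨ t = (s - 1) / s ∨ t = s / (s - 1) ∨ t = 1 / (1 - s)) := by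
  have hs1' : s - 1 ≠ 0 := sub_ne_zero.2 hs1
  have ht1' : t - 1 ≠ 0 := sub_ne_zero.2 ht1
  have h1s : 1 - s ≠ 0 := sub_ne_zero.2 (Ne.symm hs1)
  have hds : s ^ 2 * (s - 1) ^ 2 ≠ 0 := mul_ne_zero (pow_ne_zero 2 hs0) (pow_ne_zero 2 hs1')
  have hdt : t ^ 2 * (t - 1) ^ 2 ≠ 0 := mul_ne_zero (pow_ne_zero 2 ht0) (pow_ne_zero 2 ht1')
  have h256 : (256 : k) ≠ 0 := by
    have : (256 : k) = 2 ^ 8 := by norm_num
    rw [this]
    exact pow_ne_zero 8 h2
  have key : (s ^ 2 - s + 1) ^ 3 * (t ^ 2 * (t - 1) ^ 2) - (t ^ 2 - t + 1) ^ 3 * (s ^ 2 * (s - 1) ^ 2) =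
      -((t - s) * (t + s - 1) * (s * t - 1) * (s * t - s + 1) * (s * t - t - s) * (s * t - t + 1)) := by
    ring
  rw [div_eq_div_iff hds hdt]
  constructor
  · intro h
    have h0 : (s ^ 2 - s + 1) ^ 3 * (t ^ 2 * (t - 1) ^ 2) -
        (t ^ 2 - t + 1) ^ 3 * (s ^ 2 * (s - 1) ^ 2) = 0 := by
      have := mul_left_cancel₀ h256 (by linear_combination h :
        256 * ((s ^ 2 - s + 1) ^ 3 * (t ^ 2 * (t - 1) ^ 2)) =
          256 * ((t ^ 2 - t + 1) ^ 3 * (s ^ 2 * (s - 1) ^ 2)))
      exact sub_eq_zero.2 this
    rw [key, neg_eq_zero] at h0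
    rcases mul_eq_zero.1 h0 with h0 | h6
    · rcases mul_eq_zero.1 h0 with h0 | h5
      · rcases mul_eq_zero.1 h0 with h0 | h4
        · rcases mul_eq_zero.1 h0 with h0 | h3
          · rcases mul_eq_zero.1 h0 with h1 | h2'
            · left; exact sub_eq_zero.1 h1
            · right; left; linear_combination h2'
          · right; right; left
            rw [eq_div_iff hs0]; linear_combination h3
        · right; right; right; left
          rw [eq_div_iff hs0]; linear_combination h4
      · right; right; right; right; left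
        rw [eq_div_iff hs1']; linear_combination h5
    · right; right; right; right; right
      rw [eq_div_iff h1s]; linear_combination -h6
  · intro h
    have h0 : (s ^ 2 - s + 1) ^ 3 * (t ^ 2 * (t - 1) ^ 2) -
        (t ^ 2 - t + 1) ^ 3 * (s ^ 2 * (s - 1) ^ 2) = 0 := by
      rw [key, neg_eq_zero]
      rcases h with h | h | h | h | h | h
      · rw [h, sub_self]; ring
      · rw [h]; ring
      · rw [eq_div_iff hs0] at h
        have : s * t - 1 = 0 := by linear_combination h
        rw [this]; ring
      · rw [eq_div_iff hs0] at h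
        have : s * t - s + 1 = 0 := by linear_combination h
        rw [this]; ring
      · rw [eq_div_iff hs1'] at h
        have : s * t - t - s = 0 := by linear_combination h
        rw [this]; ring
      · rw [eq_div_iff h1s] at h
        have : s * t - t + 1 = 0 := by linear_combination -h
        rw [this]; ring
    linear_combination 256 * h0

end Groth.Agent.S19399
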