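import Groth.Statements.S19414
import Mathlib
import Groth.Agent.H19.WeilCohDim

set_option autoImplicit false
universe u v
open CategoryTheory AlgebraicGeometry
open WeilCoh

namespace Groth.Agent.S19414

section Helpers
open Groth.Agent.H19.WeilCohPt Groth.Agent.H19.WeilCohLib Groth.Agent.H19.WeilCohGraph
open Groth.Agent.H19.WeilCohCorr Groth.Agent.H19.WeilCohDim

variable {k : Type u} [Field k] [IsAlgClosed k] {K : Type v} [Field K] [CharZero K]
variable (T : WeilCoh.Theory k K)

theorem cl_comm (X : WeilCoh.Var k) (ξ : ↥X.obj.left) (a : T.H X) (i : ℤ) (ha : a ∈ T.gr X i) :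
    T.cl X ξ * a = a * T.cl X ξ := by
  have hc := T.gradedComm X _ i (T.cl X ξ) a (T.cl_mem X ξ) ha
  have hev : Even ((2 * (WeilCoh.codim X.obj.left ξ : ℤ)).natAbs * i.natAbs) := by
    have : (2 * (WeilCoh.codim X.obj.left ξ : ℤ)).natAbs = 2 * WeilCoh.codim X.obj.left ξ := by
      omega
    rw [this]
    exact (even_two_mul _).mul_right _
  rw [hev.neg_one_pow, one_smul] at hc
  exact hc

end Helpers

/-- Let H be a Weil cohomology theory with coefficients in a field K of characteristic zero on
nonsingular connected projective varieties over an algebraically closed field k, X such a variety, P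
= X × X with its projections p and q, and d : X → P the diagonal (the section of p and of q). For a
closed irreducible subset Z ⊆ X with generic point η and a class α ∈ H^i(X), the cohomological
correspondence given by the class of the diagonal image d(Z) ⊆ P acts on α as cup product with the
class of Z: q_*(p^*(α) · cl_P(d(Z))) = α · cl_X(Z) in the total cohomology ring of X. The
push-forward q_* (Gysin map, defined through Poincaré duality) is taken on the homogeneous component
of degree i + 2 codim_P(d(Z)) that contains p^*(α) · cl_P(d(Z)). The published statement takes Z to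
be a smooth hyperplane section, in which case cup product with cl_X(Z) is the Lefschetz operator L
and the identity says that L is given by an algebraic correspondence; it is stated here for every
closed irreducible Z, which is what the argument establishes. -/
theorem result (k : Type u) [Field k] [IsAlgClosed k]
    (K : Type v) [Field K] [CharZero K] (T : WeilCoh.Theory k K) (X P : WeilCoh.Var k)
    (p q : P ⟶ X) (hP : WeilCoh.IsProd p q) (d : X ⟶ P) (hdp : d ≫ p = 𝟙 X) (hdq : d ≫ q = 𝟙 X)
    (η : ↥X.obj.left) (i : ℤ) (a : ↥(T.gr X i)) :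
    (T.push q (i + 2 * (WeilCoh.codim P.obj.left (WeilCoh.sm d η) : ℤ))
        ⟨T.pull p (a : T.H X) * T.cl P (WeilCoh.sm d η),
          SetLike.mul_mem_graded (T.pull_mem p i a a.2) (T.cl_mem P (WeilCoh.sm d η))⟩ : T.H X) =
      (a : T.H X) * T.cl X η := by
  have hdim := Groth.Agent.H19.WeilCohGraph.dim_prod T p q hP
  have hcP := Groth.Agent.H19.WeilCohDim.codim_add_pdim P (WeilCoh.sm d η)
  have hcX := Groth.Agent.H19.WeilCohDim.codim_add_pdim X η
  have hpd := Groth.Agent.H19.WeilCohDim.pdim_section d p hdp η
  rw [hpd] at hcP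
  refine Groth.Agent.H19.WeilCohLib.eq_of_tr_mul_eq T X _
    (2 * (WeilCoh.dim P.obj.left : ℤ) - (i + 2 * (WeilCoh.codim P.obj.left (WeilCoh.sm d η) : ℤ)))
    (by ring) _ _ (Subtype.property _)
    (Groth.Agent.H19.WeilCohLib.mem_gr_of_eq T X (by omega)
      (SetLike.mul_mem_graded a.2 (T.cl_mem X η))) ?_
  intro b hb
  rw [Groth.Agent.H19.WeilCohLib.push_spec T q _ _ b hb]
  simp only []
  have hsec : WeilCoh.sm d ≫ WeilCoh.sm p = 𝟙 _ := congrArg (fun φ ↦ φ.hom.left) hdp
  have hmem : T.pull p (a : T.H X) * T.pull q b ∈ T.gr P (2 * (WeilCoh.pdim X.obj.left η : ℤ)) :=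
    Groth.Agent.H19.WeilCohLib.mem_gr_of_eq T P (by omega)
      (SetLike.mul_mem_graded (T.pull_mem p _ _ a.2) (T.pull_mem q _ _ hb))
  have h := T.cl_push d η _ hmem
  rw [Groth.Agent.H19.WeilCohPt.residueDegree_of_section _ _ hsec, Nat.cast_one, one_mul,
    map_mul (T.pull d), Groth.Agent.H19.WeilCohGraph.pull_comp_apply,
    Groth.Agent.H19.WeilCohGraph.pull_comp_apply, hdp, hdq,
    Groth.Agent.H19.WeilCohGraph.pull_id_apply, Groth.Agent.H19.WeilCohGraph.pull_id_apply] at h
  rw [← Groth.Agent.S19414.cl_comm T P _ _ i (T.pull_mem p _ _ a.2), mul_assoc, ← h,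
    ← mul_assoc, Groth.Agent.S19414.cl_comm T X η _ i a.2]

end Groth.Agent.S19414
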