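import Groth.Statements.S19415
import Mathlib
import Groth.Agent.H19.WeilCohCorr

set_option autoImplicit false
universe u v
open CategoryTheory AlgebraicGeometry
open WeilCoh

namespace Groth.Agent.S19415

/-- Let H be a Weil cohomology theory with coefficients in a field K of characteristic zero on
nonsingular connected projective varieties over an algebraically closed field k, X such a variety of
dimension n, P = X × X with its projections p, q, and F : X → X an endomorphism such that the
characteristic polynomials of F^* on the cohomology groups H^i(X), i ∈ ℤ, are pairwise coprime in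
K[T]. Then for every i the i-th Künneth projector of X is given by an algebraic correspondence with
coefficients in K: there is a class u in H^{2n}(P), lying in the K-linear span of the classes of
closed irreducible subsets of P, whose action β ↦ q_*(p^*(β) · u) is the identity on H^i(X) and zero
on H^j(X) for every j ≠ i (push-forward q_* taken on the homogeneous piece of degree j + 2n). The
published statement has rational coefficients, X defined over a finite field and F its Frobenius
endomorphism, the coprimality of the characteristic polynomials being deduced there from the Riemann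
hypothesis over finite fields and from the independence of these polynomials of the cohomology
theory; here that coprimality is the hypothesis and F is any endomorphism. -/
theorem result (k : Type u) [Field k]
    [IsAlgClosed k] (K : Type v) [Field K] [CharZero K] (T : WeilCoh.Theory k K)
    (X P : WeilCoh.Var k) (p q : P ⟶ X) (hP : WeilCoh.IsProd p q) (F : X ⟶ X)
    (hF : ∀ i j : ℤ, i ≠ j → IsCoprime (T.pullDeg F i).charpoly (T.pullDeg F j).charpoly)
    (i : ℤ) :
    ∃ u : ↥(T.gr P (2 * (WeilCoh.dim X.obj.left : ℤ))),
      (u : T.H P) ∈ Submodule.span K (Set.range (T.cl P)) ∧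
        ∀ (j : ℤ) (b : ↥(T.gr X j)),
          (T.push q (j + 2 * (WeilCoh.dim X.obj.left : ℤ))
              ⟨T.pull p (b : T.H X) * (u : T.H P),
                SetLike.mul_mem_graded (T.pull_mem p j b b.2) u.2⟩ : T.H X) =
            if j = i then (b : T.H X) else 0 := by
  classical
  let S : Finset ℤ :=
    ((Finset.range (2 * WeilCoh.dim X.obj.left + 1)).image (fun m : ℕ ↦ (m : ℤ))).erase i
  let R : Polynomial K := ∏ l ∈ S, (T.pullDeg F l).charpoly
  have hcop : IsCoprime (T.pullDeg F i).charpoly R :=
    IsCoprime.prod_right (fun l hl ↦ hF i l (Finset.ne_of_mem_erase hl).symm)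
  obtain ⟨a, c, hac⟩ := hcop
  obtain ⟨u, hu, hact⟩ := Groth.Agent.H19.WeilCohCorr.act_poly T p q hP F (c * R)
  refine ⟨u, hu, fun j b ↦ ?_⟩
  refine Eq.trans (hact j b) ?_
  by_cases hji : j = i
  · subst hji
    rw [if_pos rfl]
    have h1 : c * R = 1 - a * (T.pullDeg F j).charpoly := by rw [← hac]; ring
    rw [h1, map_sub, map_one, map_mul, LinearMap.aeval_self_charpoly, mul_zero]
    simp
  · rw [if_neg hji]
    by_cases hj : j < 0 ∨ 2 * (WeilCoh.dim X.obj.left : ℤ) < j
    · have hb0 : b = 0 := by
        apply Subtype.ext
        rcases hj with hj | hj
        · exact Groth.Agent.H19.WeilCohGraph.gr_neg_eq_zero T X hj b.2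
        · exact Groth.Agent.H19.WeilCohGraph.gr_big_eq_zero T X hj b.2
      subst hb0
      simp
    · have hjS : j ∈ S := by
        refine Finset.mem_erase.2 ⟨hji, Finset.mem_image.2 ⟨j.toNat, Finset.mem_range.2 (by omega), by omega⟩⟩
      obtain ⟨w, hw⟩ := Finset.dvd_prod_of_mem (fun l ↦ (T.pullDeg F l).charpoly) hjS
      have hR : R = (T.pullDeg F j).charpoly * w := hw
      rw [hR, map_mul, map_mul, LinearMap.aeval_self_charpoly, zero_mul, mul_zero]
      rfl

end Groth.Agent.S19415
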