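import Groth.Statements.S19422
import Mathlib
-- import your own Groth.Agent.* helpers here

set_option autoImplicit false
universe u
open TensorProduct LaurentPolynomial
open GIT

namespace Groth.Agent.S19422

open TensorProduct LaurentPolynomial

section

variable {k : Type u} [Field k] {ι : Type u} [Fintype ι]

lemma pos_case (v : ι → k) (g : MvPolynomial ι k →ₐ[k] k[T;T⁻¹]) (ρ' : ι → ℤ)
    (hg : ∀ i, g (MvPolynomial.X i) = v i • (T (ρ' i) : k[T;T⁻¹]))
    (hpos : ∀ i, v i ≠ 0 → 0 < ρ' i) (F : MvPolynomial ι k) (d : ℕ) (hd : 0 < d)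
    (hF : F.IsHomogeneous d) (hgF : g F = C (MvPolynomial.eval v F)) :
    MvPolynomial.eval v F = 0 := by
  classical
  obtain ⟨h, hh⟩ : ∃ h : MvPolynomial ι k →ₐ[k] Polynomial k,
      h = MvPolynomial.aeval (fun i => if v i = 0 then 0 else
        Polynomial.C (v i) * Polynomial.X ^ (ρ' i).toNat) := ⟨_, rfl⟩
  have h1 : (Polynomial.toLaurentAlg (R := k)).comp h = g := by
    apply MvPolynomial.algHom_ext
    intro i
    rw [AlgHom.comp_apply, hh, MvPolynomial.aeval_X, hg, Polynomial.toLaurentAlg_apply]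
    by_cases hi : v i = 0
    · rw [if_pos hi, map_zero, hi, zero_smul]
    · rw [if_neg hi, map_mul, Polynomial.toLaurent_C, Polynomial.toLaurent_X_pow,
        LaurentPolynomial.smul_eq_C_mul, Int.toNat_of_nonneg (le_of_lt (hpos i hi))]
  have h2 : h F = Polynomial.C (MvPolynomial.eval v F) := by
    apply Polynomial.toLaurent_injective
    rw [Polynomial.toLaurent_C, ← hgF, ← h1, AlgHom.comp_apply, Polynomial.toLaurentAlg_apply]
  have h3 : (Polynomial.aeval (0 : k)).comp h = MvPolynomial.aeval (fun _ => (0 : k)) := by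
    apply MvPolynomial.algHom_ext
    intro i
    rw [AlgHom.comp_apply, hh, MvPolynomial.aeval_X, MvPolynomial.aeval_X]
    by_cases hi : v i = 0
    · rw [if_pos hi, map_zero]
    · rw [if_neg hi]
      have hn : (ρ' i).toNat ≠ 0 := by
        have h0 := hpos i hi
        omega
      simp [hn]
  have h4 : Polynomial.aeval (0 : k) (h F) = MvPolynomial.aeval (fun _ => (0 : k)) F := by
    rw [← h3, AlgHom.comp_apply]
  have h5 : MvPolynomial.eval v F = MvPolynomial.constantCoeff F := by
    rw [h2, Polynomial.aeval_C, MvPolynomial.aeval_zero'] at h4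
    exact h4
  rw [h5, MvPolynomial.constantCoeff_eq]
  apply hF.coeff_eq_zero
  rw [map_zero]
  exact Nat.ne_of_lt hd

end


/-- Over an algebraically closed field k, let the multiplicative group, whose coordinate Hopf algebra is
the Laurent polynomial ring, act diagonally on affine ι-space, ι finite: the coaction on the
polynomial ring is multiplicative and sends the coordinate function X_i to X_i ⊗ T^(r_i) for
integers r_i. Then a vector v is semistable (some invariant homogeneous polynomial of positive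
degree does not vanish at v) if and only if there are indices i and j, possibly equal, with v_i ≠ 0,
v_j ≠ 0 and r_i ≤ 0 ≤ r_j, i.e. the origin lies in the convex hull of the weights of v. (Stated for
the ambient projective space on its affine cone; the published statement is for a point of a closed
invariant subvariety, whose semistability is that of the point in the ambient space.) -/
theorem result (k : Type u) [Field k] [IsAlgClosed k]
    (ι : Type u) [Fintype ι] [HopfRep.Comod k k[T;T⁻¹] (MvPolynomial ι k)] [GLin.IsCoactAlg k k[T;T⁻¹] (MvPolynomial ι k)]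
    (r : ι → ℤ)
    (hr : ∀ i : ι, HopfRep.Comod.coact (k := k) (A := k[T;T⁻¹]) (MvPolynomial.X i : MvPolynomial ι k) =
      (MvPolynomial.X i : MvPolynomial ι k) ⊗ₜ[k] (T (r i) : k[T;T⁻¹]))
    (v : ι → k) :
    GLin.IsSemistableVec k k[T;T⁻¹] v ↔ ∃ i j : ι, v i ≠ 0 ∧ v j ≠ 0 ∧ r i ≤ 0 ∧ 0 ≤ r j := by
  classical
  obtain ⟨g, hgdef⟩ : ∃ g : MvPolynomial ι k →ₐ[k] k[T;T⁻¹],
      g = GLin.orbitHom k k[T;T⁻¹] (GLin.vecPt k ι v) := ⟨_, rfl⟩
  have hgX : ∀ i, g (MvPolynomial.X i) = v i • (T (r i) : k[T;T⁻¹]) := by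
    intro i
    rw [hgdef]
    show Algebra.TensorProduct.lid k k[T;T⁻¹]
      (Algebra.TensorProduct.map (GLin.vecPt k ι v) (AlgHom.id k k[T;T⁻¹])
        (HopfRep.Comod.coact (k := k) (A := k[T;T⁻¹])
          (MvPolynomial.X i : MvPolynomial ι k))) = _
    rw [hr i, Algebra.TensorProduct.map_tmul, Algebra.TensorProduct.lid_tmul, AlgHom.id_apply]
    have h2 : GLin.vecPt k ι v (MvPolynomial.X i) = v i := MvPolynomial.aeval_X v i
    rw [h2]
  have hginv : ∀ F ∈ GLin.invariants k k[T;T⁻¹] (MvPolynomial ι k),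
      g F = C (MvPolynomial.eval v F) := by
    intro F hF
    have hF' : HopfRep.Comod.coact (k := k) (A := k[T;T⁻¹]) F =
        F ⊗ₜ[k] (1 : k[T;T⁻¹]) := hF
    rw [hgdef]
    show Algebra.TensorProduct.lid k k[T;T⁻¹]
      (Algebra.TensorProduct.map (GLin.vecPt k ι v) (AlgHom.id k k[T;T⁻¹])
        (HopfRep.Comod.coact (k := k) (A := k[T;T⁻¹]) F)) = _
    rw [hF', Algebra.TensorProduct.map_tmul, Algebra.TensorProduct.lid_tmul, AlgHom.id_apply,
      LaurentPolynomial.smul_eq_C_mul, mul_one]
    rfl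
  constructor
  · intro hss
    by_contra hno
    apply hss
    intro F hF d hd hFd
    by_cases hc : ∃ i0, v i0 ≠ 0 ∧ r i0 ≤ 0
    · obtain ⟨i0, hi0, hri0⟩ := hc
      have hneg : ∀ j, v j ≠ 0 → r j < 0 := by
        intro j hj
        by_contra hge
        exact hno ⟨i0, j, hi0, hj, hri0, not_lt.mp hge⟩
      refine pos_case v ((LaurentPolynomial.invert (R := k)).toAlgHom.comp g)
        (fun i => - r i) ?_ ?_ F d hd hFd ?_
      · intro i
        simp [hgX]
      · intro i hi
        have h0 := hneg i hi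
        show 0 < - r i
        omega
      · simp [hginv F hF]
    · have hc' : ∀ i, v i ≠ 0 → 0 < r i :=
        fun i hi => not_le.mp (fun hle => hc ⟨i, hi, hle⟩)
      exact pos_case v g r hgX hc' F d hd hFd (hginv F hF)
  · rintro ⟨i, j, hi, hj, hri, hrj⟩
    intro hnull
    have hinvX : ∀ l : ι, r l = 0 → (MvPolynomial.X l : MvPolynomial ι k) ∈
        GLin.invariants k k[T;T⁻¹] (MvPolynomial ι k) := by
      intro l hl
      show HopfRep.Comod.coact (k := k) (A := k[T;T⁻¹]) (MvPolynomial.X l : MvPolynomial ι k) =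
        (MvPolynomial.X l : MvPolynomial ι k) ⊗ₜ[k] (1 : k[T;T⁻¹])
      rw [hr l, hl, LaurentPolynomial.T_zero]
    by_cases hi0 : r i = 0
    · have h1 := hnull _ (hinvX i hi0) 1 Nat.one_pos (MvPolynomial.isHomogeneous_X k i)
      rw [MvPolynomial.eval_X] at h1
      exact hi h1
    by_cases hj0 : r j = 0
    · have h1 := hnull _ (hinvX j hj0) 1 Nat.one_pos (MvPolynomial.isHomogeneous_X k j)
      rw [MvPolynomial.eval_X] at h1
      exact hj h1
    obtain ⟨a, ha⟩ : ∃ a : ℕ, (a : ℤ) = r j := ⟨(r j).toNat, Int.toNat_of_nonneg hrj⟩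
    obtain ⟨b, hb⟩ : ∃ b : ℕ, (b : ℤ) = - r i := ⟨(- r i).toNat, Int.toNat_of_nonneg (by omega)⟩
    have ha0 : 0 < a := by omega
    have hFinv : (MvPolynomial.X i ^ a * MvPolynomial.X j ^ b : MvPolynomial ι k) ∈
        GLin.invariants k k[T;T⁻¹] (MvPolynomial ι k) := by
      show HopfRep.Comod.coact (k := k) (A := k[T;T⁻¹])
          (MvPolynomial.X i ^ a * MvPolynomial.X j ^ b : MvPolynomial ι k) =
        (MvPolynomial.X i ^ a * MvPolynomial.X j ^ b : MvPolynomial ι k) ⊗ₜ[k] (1 : k[T;T⁻¹])
      have hco : ∀ p : MvPolynomial ι k, HopfRep.Comod.coact (k := k) (A := k[T;T⁻¹]) p =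
          GLin.coactAlgHom k k[T;T⁻¹] (MvPolynomial ι k) p := fun p => rfl
      rw [hco, map_mul, map_pow, map_pow]
      simp only [GLin.coactAlgHom_apply]
      rw [hr i, hr j, Algebra.TensorProduct.tmul_pow, Algebra.TensorProduct.tmul_pow,
        Algebra.TensorProduct.tmul_mul_tmul, LaurentPolynomial.T_pow, LaurentPolynomial.T_pow,
        ← LaurentPolynomial.T_add]
      have h0 : (a : ℤ) * r i + (b : ℤ) * r j = 0 := by rw [ha, hb]; ring
      rw [h0, LaurentPolynomial.T_zero]
    have h1 := hnull _ hFinv (1 * a + 1 * b) (by omega)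
      (((MvPolynomial.isHomogeneous_X k i).pow a).mul ((MvPolynomial.isHomogeneous_X k j).pow b))
    rw [map_mul, map_pow, map_pow, MvPolynomial.eval_X, MvPolynomial.eval_X] at h1
    exact mul_ne_zero (pow_ne_zero _ hi) (pow_ne_zero _ hj) h1

end Groth.Agent.S19422
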