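import Groth.Statements.S19423
import Mathlib
-- import your own Groth.Agent.* helpers here

set_option autoImplicit false
universe u
open TensorProduct LaurentPolynomial
open GIT

namespace Groth.Agent.S19423

section

variable {k : Type u} [Field k] {ι : Type u} [Fintype ι]

lemma closed_of_mixed (v : ι → k) (r : ι → ℤ) (g : MvPolynomial ι k →ₐ[k] k[T;T⁻¹])
    (hgX : ∀ i, g (MvPolynomial.X i) = v i • (T (r i) : k[T;T⁻¹]))
    (i j : ι) (hi : v i ≠ 0) (hj : v j ≠ 0) (hri : r i < 0) (hrj : 0 < r j) :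
    IsClosed (Set.range (PrimeSpectrum.comap g.toRingHom)) := by
  letI : Algebra (MvPolynomial ι k) k[T;T⁻¹] := g.toRingHom.toAlgebra
  have hmap : ∀ F : MvPolynomial ι k, IsIntegral (MvPolynomial ι k) (g F) := fun F =>
    isIntegral_algebraMap (R := MvPolynomial ι k) (A := k[T;T⁻¹]) (x := F)
  have hT : ∀ l, v l ≠ 0 → IsIntegral (MvPolynomial ι k) (T (r l) : k[T;T⁻¹]) := by
    intro l hl
    have h1 : (T (r l) : k[T;T⁻¹]) = g ((v l)⁻¹ • MvPolynomial.X l) := by
      rw [map_smul, hgX, smul_smul, inv_mul_cancel₀ hl, one_smul]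
    rw [h1]; exact hmap _
  have hT1 : IsIntegral (MvPolynomial ι k) (T 1 : k[T;T⁻¹]) := by
    refine IsIntegral.of_pow (n := (r j).toNat) (by omega) ?_
    rw [T_pow, mul_one, Int.toNat_of_nonneg hrj.le]
    exact hT j hj
  have hTm1 : IsIntegral (MvPolynomial ι k) (T (-1) : k[T;T⁻¹]) := by
    refine IsIntegral.of_pow (n := (- r i).toNat) (by omega) ?_
    rw [T_pow, Int.toNat_of_nonneg (by omega), neg_mul_neg, mul_one]
    exact hT i hi
  have hall : ∀ a : k[T;T⁻¹], IsIntegral (MvPolynomial ι k) a := by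
    intro a
    induction a using LaurentPolynomial.induction_on' with
    | add p q hp hq => exact hp.add hq
    | C_mul_T n c =>
      refine IsIntegral.mul ?_ ?_
      · have h1 : (C c : k[T;T⁻¹]) = g (algebraMap k (MvPolynomial ι k) c) := by
          rw [AlgHom.commutes, LaurentPolynomial.algebraMap_apply, Algebra.algebraMap_self_apply]
        rw [h1]; exact hmap _
      · rcases le_total 0 n with hn | hn
        · have h1 : (T n : k[T;T⁻¹]) = (T 1)^n.toNat := by
            rw [T_pow, mul_one, Int.toNat_of_nonneg hn]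
          rw [h1]; exact hT1.pow _
        · have h1 : (T n : k[T;T⁻¹]) = (T (-1))^(-n).toNat := by
            rw [T_pow, Int.toNat_of_nonneg (by omega), neg_mul_neg, mul_one]
          rw [h1]; exact hTm1.pow _
  have hint : g.toRingHom.IsIntegral := fun a => hall a
  have hcm := PrimeSpectrum.isClosedMap_comap_of_isIntegral g.toRingHom hint
  have h0 := hcm Set.univ isClosed_univ
  rwa [Set.image_univ] at h0

lemma finite_of_mixed (v : ι → k) (r : ι → ℤ) (g : MvPolynomial ι k →ₐ[k] k[T;T⁻¹])
    (x : MvPolynomial ι k →ₐ[k] k)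
    (hgX : ∀ i, g (MvPolynomial.X i) = v i • (T (r i) : k[T;T⁻¹]))
    (hxX : ∀ i, x (MvPolynomial.X i) = v i)
    (i j : ι) (hi : v i ≠ 0) (hj : v j ≠ 0) (hri : r i < 0) (hrj : 0 < r j) :
    Module.Finite k (k[T;T⁻¹] ⧸ Ideal.map g (RingHom.ker x)) := by
  obtain ⟨I, hI⟩ : ∃ I : Ideal k[T;T⁻¹], I = Ideal.map g (RingHom.ker x) := ⟨_, rfl⟩
  rw [← hI]
  have hmemI : ∀ l, v l ≠ 0 → (T (r l) - 1 : k[T;T⁻¹]) ∈ I := by
    intro l hl
    have h1 : (MvPolynomial.X l - algebraMap k (MvPolynomial ι k) (v l) : MvPolynomial ι k) ∈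
        RingHom.ker x := by
      rw [RingHom.mem_ker, map_sub, AlgHom.commutes, hxX, Algebra.algebraMap_self_apply, sub_self]
    have h4 : g (MvPolynomial.X l - algebraMap k (MvPolynomial ι k) (v l)) ∈ I := by
      rw [hI]; exact Ideal.mem_map_of_mem _ h1
    have h5 : (T (r l) - 1 : k[T;T⁻¹]) =
        (v l)⁻¹ • g (MvPolynomial.X l - algebraMap k (MvPolynomial ι k) (v l)) := by
      rw [map_sub, hgX, AlgHom.commutes, Algebra.algebraMap_eq_smul_one, smul_sub, smul_smul,
        smul_smul, inv_mul_cancel₀ hl, one_smul, one_smul]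
    rw [h5]; exact Submodule.smul_of_tower_mem I _ h4
  obtain ⟨π, hπ⟩ : ∃ π : k[T;T⁻¹] →ₐ[k] k[T;T⁻¹] ⧸ I, π = Ideal.Quotient.mkₐ k I := ⟨_, rfl⟩
  have hπsurj : Function.Surjective π := by rw [hπ]; exact Ideal.Quotient.mkₐ_surjective k I
  have hπT : ∀ l, v l ≠ 0 → π (T (r l)) = 1 := by
    intro l hl
    have h1 : π (T (r l) - 1) = 0 := by
      rw [hπ]; exact Ideal.Quotient.eq_zero_iff_mem.mpr (hmemI l hl)
    rwa [map_sub, map_one, sub_eq_zero] at h1
  have hint1 : IsIntegral k (π (T 1)) := by
    refine IsIntegral.of_pow (n := (r j).toNat) (by omega) ?_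
    rw [← map_pow, T_pow, mul_one, Int.toNat_of_nonneg hrj.le, hπT j hj]
    exact isIntegral_one
  have hintm1 : IsIntegral k (π (T (-1))) := by
    refine IsIntegral.of_pow (n := (- r i).toNat) (by omega) ?_
    rw [← map_pow, T_pow, Int.toNat_of_nonneg (by omega), neg_mul_neg, mul_one, hπT i hi]
    exact isIntegral_one
  have hadj : Algebra.adjoin k ({π (T 1), π (T (-1))} : Set (k[T;T⁻¹] ⧸ I)) = ⊤ := by
    rw [eq_top_iff]
    rintro b -
    obtain ⟨a, rfl⟩ := hπsurj b
    induction a using LaurentPolynomial.induction_on' with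
    | add p q hp hq => rw [map_add]; exact Subalgebra.add_mem _ hp hq
    | C_mul_T n c =>
      rw [← LaurentPolynomial.smul_eq_C_mul, map_smul]
      refine Subalgebra.smul_mem _ ?_ c
      rcases le_total 0 n with hn | hn
      · have h1 : (T n : k[T;T⁻¹]) = (T 1)^n.toNat := by
          rw [T_pow, mul_one, Int.toNat_of_nonneg hn]
        rw [h1, map_pow]
        exact Subalgebra.pow_mem _ (Algebra.subset_adjoin (Set.mem_insert _ _)) _
      · have h1 : (T n : k[T;T⁻¹]) = (T (-1))^(-n).toNat := by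
          rw [T_pow, Int.toNat_of_nonneg (by omega), neg_mul_neg, mul_one]
        rw [h1, map_pow]
        exact Subalgebra.pow_mem _
          (Algebra.subset_adjoin (Set.mem_insert_of_mem _ (Set.mem_singleton _))) _
  have hfg := fg_adjoin_of_finite (R := k)
    (Set.toFinite ({π (T 1), π (T (-1))} : Set (k[T;T⁻¹] ⧸ I))) (by
      intro y hy
      rcases hy with rfl | rfl
      · exact hint1
      · exact hintm1)
  rw [hadj, Algebra.top_toSubmodule] at hfg
  exact Module.finite_def.mpr hfg

lemma not_closed (A : Type u) [CommRing A] [Algebra k A] (jj : Polynomial k →ₐ[k] A)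
    (hinj : Function.Injective jj) (hu : IsUnit (jj Polynomial.X)) (v : ι → k) (n : ι → ℕ)
    (g : MvPolynomial ι k →ₐ[k] A)
    (hg : ∀ i, g (MvPolynomial.X i) = jj (Polynomial.C (v i) * Polynomial.X ^ n i))
    (i0 : ι) (hv : v i0 ≠ 0) (hn : n i0 ≠ 0) :
    ¬ IsClosed (Set.range (PrimeSpectrum.comap g.toRingHom)) := by
  classical
  intro hcl
  obtain ⟨h, hh⟩ : ∃ h : MvPolynomial ι k →ₐ[k] Polynomial k,
      h = MvPolynomial.aeval (fun i => Polynomial.C (v i) * Polynomial.X ^ n i) := ⟨_, rfl⟩
  have hgh : jj.comp h = g := by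
    apply MvPolynomial.algHom_ext
    intro i
    rw [AlgHom.comp_apply, hh, MvPolynomial.aeval_X, hg]
  obtain ⟨y, hy⟩ : ∃ y : MvPolynomial ι k →ₐ[k] k, y = (Polynomial.aeval (0 : k)).comp h :=
    ⟨_, rfl⟩
  have hker : RingHom.ker g.toRingHom ≤ RingHom.ker y := by
    intro F hF
    rw [RingHom.mem_ker] at hF ⊢
    have h1 : jj (h F) = 0 := by rw [← AlgHom.comp_apply, hgh]; exact hF
    have h2 : h F = 0 := hinj (by rw [h1, map_zero])
    rw [hy, AlgHom.comp_apply, h2, map_zero]
  have hprime : (RingHom.ker y).IsPrime := RingHom.ker_isPrime y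
  have hP : (⟨RingHom.ker y, hprime⟩ : PrimeSpectrum (MvPolynomial ι k)) ∈
      Set.range (PrimeSpectrum.comap g.toRingHom) := by
    rw [← hcl.closure_eq, PrimeSpectrum.closure_range_comap, PrimeSpectrum.mem_zeroLocus]
    exact fun F hF => hker hF
  obtain ⟨Q, hQ⟩ := hP
  have hX : (MvPolynomial.X i0 : MvPolynomial ι k) ∈
      (PrimeSpectrum.comap g.toRingHom Q).asIdeal := by
    rw [hQ]
    show MvPolynomial.X i0 ∈ RingHom.ker y
    rw [RingHom.mem_ker, hy, AlgHom.comp_apply, hh, MvPolynomial.aeval_X, map_mul,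
      Polynomial.aeval_C, map_pow, Polynomial.aeval_X, zero_pow hn, mul_zero]
  have hmem : g (MvPolynomial.X i0) ∈ Q.asIdeal := hX
  have hunit : IsUnit (g (MvPolynomial.X i0)) := by
    rw [hg, map_mul, map_pow]
    refine IsUnit.mul ?_ (hu.pow _)
    rw [Polynomial.C_eq_algebraMap, AlgHom.commutes]
    exact (IsUnit.mk0 _ hv).map (algebraMap k A)
  exact Q.isPrime.ne_top (Ideal.eq_top_of_isUnit_mem _ hmem hunit)

lemma not_finite_of_zero (x : MvPolynomial ι k →ₐ[k] k) (g : MvPolynomial ι k →ₐ[k] k[T;T⁻¹])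
    (hg : ∀ i, g (MvPolynomial.X i) = algebraMap k k[T;T⁻¹] (x (MvPolynomial.X i))) :
    ¬ Module.Finite k (k[T;T⁻¹] ⧸ Ideal.map g (RingHom.ker x)) := by
  intro hfin
  have hgx : g = (Algebra.ofId k k[T;T⁻¹]).comp x := by
    apply MvPolynomial.algHom_ext
    intro i
    rw [hg, AlgHom.comp_apply]
    rfl
  have hbot : Ideal.map g (RingHom.ker x) = ⊥ := by
    rw [Ideal.map_eq_bot_iff_le_ker]
    intro F hF
    rw [RingHom.mem_ker] at hF ⊢
    rw [hgx, AlgHom.comp_apply, hF, map_zero]
  have hinj : Function.Injective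
      (Ideal.Quotient.mkₐ k (Ideal.map g (RingHom.ker x))).toLinearMap := by
    intro a b hab
    have h1 : Ideal.Quotient.mk (Ideal.map g (RingHom.ker x)) (a - b) = 0 := by
      rw [map_sub, sub_eq_zero]; exact hab
    have h2 := Ideal.Quotient.eq_zero_iff_mem.mp h1
    rw [hbot, Ideal.mem_bot] at h2
    exact sub_eq_zero.mp h2
  have hA : Module.Finite k k[T;T⁻¹] := Module.Finite.of_injective _ hinj
  exact Module.not_finite_of_infinite_basis (AddMonoidAlgebra.basis ℤ k) hA

end


/-- Over an algebraically closed field k, let the multiplicative group, whose coordinate Hopf algebra is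
the Laurent polynomial ring, act diagonally on affine ι-space, ι finite: the coaction on the
polynomial ring is multiplicative and sends the coordinate function X_i to X_i ⊗ T^(r_i) for
integers r_i. Then a vector v is stable (the orbit of the point v of affine space is closed and its
stabiliser is a finite group scheme) if and only if there are indices i and j with v_i ≠ 0, v_j ≠ 0
and r_i < 0 < r_j, i.e. the origin is an interior point of the convex hull of the weights of v.
(Stated for the ambient projective space on its affine cone, where stability means a closed orbit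
with finite stabiliser in the cone.) -/
theorem result (k : Type u) [Field k] [IsAlgClosed k]
    (ι : Type u) [Fintype ι] [HopfRep.Comod k k[T;T⁻¹] (MvPolynomial ι k)] [GLin.IsCoactAlg k k[T;T⁻¹] (MvPolynomial ι k)]
    (r : ι → ℤ)
    (hr : ∀ i : ι, HopfRep.Comod.coact (k := k) (A := k[T;T⁻¹]) (MvPolynomial.X i : MvPolynomial ι k) =
      (MvPolynomial.X i : MvPolynomial ι k) ⊗ₜ[k] (T (r i) : k[T;T⁻¹]))
    (v : ι → k) :
    GLin.IsStableVec k k[T;T⁻¹] v ↔ ∃ i j : ι, v i ≠ 0 ∧ v j ≠ 0 ∧ r i < 0 ∧ 0 < r j := by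
  classical
  obtain ⟨g, hgdef⟩ : ∃ g : MvPolynomial ι k →ₐ[k] k[T;T⁻¹],
      g = GLin.orbitHom k k[T;T⁻¹] (GLin.vecPt k ι v) := ⟨_, rfl⟩
  have hgX : ∀ i, g (MvPolynomial.X i) = v i • (T (r i) : k[T;T⁻¹]) := by
    intro i
    rw [hgdef]
    show Algebra.TensorProduct.lid k k[T;T⁻¹]
      (Algebra.TensorProduct.map (GLin.vecPt k ι v) (AlgHom.id k k[T;T⁻¹])
        (HopfRep.Comod.coact (k := k) (A := k[T;T⁻¹])
          (MvPolynomial.X i : MvPolynomial ι k))) = _
    rw [hr i, Algebra.TensorProduct.map_tmul, Algebra.TensorProduct.lid_tmul, AlgHom.id_apply]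
    have h2 : GLin.vecPt k ι v (MvPolynomial.X i) = v i := MvPolynomial.aeval_X v i
    rw [h2]
  have hxX : ∀ i, GLin.vecPt k ι v (MvPolynomial.X i) = v i := fun i => MvPolynomial.aeval_X v i
  have hstab : GLin.IsStableVec k k[T;T⁻¹] v ↔
      (IsClosed (Set.range (PrimeSpectrum.comap g.toRingHom)) ∧
        Module.Finite k (k[T;T⁻¹] ⧸ Ideal.map g (RingHom.ker (GLin.vecPt k ι v)))) := by
    subst hgdef
    exact Iff.rfl
  rw [hstab]
  constructor
  · rintro ⟨hcl, hfin⟩
    by_contra hno
    by_cases hA1 : ∀ i, v i ≠ 0 → r i = 0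
    · refine not_finite_of_zero (GLin.vecPt k ι v) g ?_ hfin
      intro i
      rw [hgX, hxX]
      by_cases hi : v i = 0
      · rw [hi, zero_smul, map_zero]
      · rw [hA1 i hi, T_zero, Algebra.algebraMap_eq_smul_one]
    · push_neg at hA1
      obtain ⟨i0, hi0, hri0⟩ := hA1
      rcases lt_or_gt_of_ne hri0 with hlt | hgt
      · have hnonpos : ∀ j, v j ≠ 0 → r j ≤ 0 := by
          intro j hj
          by_contra hpos
          exact hno ⟨i0, j, hi0, hj, hlt, not_le.mp hpos⟩
        refine not_closed k[T;T⁻¹]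
          ((LaurentPolynomial.invert (R := k)).toAlgHom.comp (Polynomial.toLaurentAlg (R := k)))
          ?_ ?_ v (fun i => (- r i).toNat) g ?_ i0 hi0 ?_ hcl
        · intro a b hab
          have h1 : Polynomial.toLaurentAlg a = Polynomial.toLaurentAlg b :=
            (LaurentPolynomial.invert (R := k)).injective hab
          rw [Polynomial.toLaurentAlg_apply, Polynomial.toLaurentAlg_apply] at h1
          exact Polynomial.toLaurent_injective h1
        · rw [AlgHom.comp_apply, Polynomial.toLaurentAlg_apply, Polynomial.toLaurent_X]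
          show IsUnit (LaurentPolynomial.invert (T 1 : k[T;T⁻¹]))
          rw [LaurentPolynomial.invert_T]
          exact LaurentPolynomial.isUnit_T _
        · intro i
          rw [hgX, AlgHom.comp_apply, Polynomial.toLaurentAlg_apply, map_mul,
            Polynomial.toLaurent_C, Polynomial.toLaurent_X_pow]
          show _ = LaurentPolynomial.invert (C (v i) * T ((- r i).toNat : ℤ))
          rw [map_mul, LaurentPolynomial.invert_C, LaurentPolynomial.invert_T,
            LaurentPolynomial.smul_eq_C_mul]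
          by_cases hi : v i = 0
          · rw [hi, map_zero, zero_mul, zero_mul]
          · rw [Int.toNat_of_nonneg (by have := hnonpos i hi; omega), neg_neg]
        · show (- r i0).toNat ≠ 0
          omega
      · have hnonneg : ∀ j, v j ≠ 0 → 0 ≤ r j := by
          intro j hj
          by_contra hneg
          exact hno ⟨j, i0, hj, hi0, not_le.mp hneg, hgt⟩
        refine not_closed k[T;T⁻¹] (Polynomial.toLaurentAlg (R := k))
          ?_ ?_ v (fun i => (r i).toNat) g ?_ i0 hi0 ?_ hcl
        · intro a b hab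
          rw [Polynomial.toLaurentAlg_apply, Polynomial.toLaurentAlg_apply] at hab
          exact Polynomial.toLaurent_injective hab
        · rw [Polynomial.toLaurentAlg_apply, Polynomial.toLaurent_X]
          exact LaurentPolynomial.isUnit_T _
        · intro i
          rw [hgX, Polynomial.toLaurentAlg_apply, map_mul, Polynomial.toLaurent_C,
            Polynomial.toLaurent_X_pow, LaurentPolynomial.smul_eq_C_mul]
          by_cases hi : v i = 0
          · rw [hi, map_zero, zero_mul, zero_mul]
          · rw [Int.toNat_of_nonneg (hnonneg i hi)]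
        · show (r i0).toNat ≠ 0
          omega
  · rintro ⟨i, j, hi, hj, hri, hrj⟩
    exact ⟨closed_of_mixed v r g hgX i j hi hj hri hrj,
      finite_of_mixed v r g _ hgX hxX i j hi hj hri hrj⟩

end Groth.Agent.S19423
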