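import Groth.Statements.S19427
import Mathlib
import Groth.Agent.Lib.Helper5.MilK

set_option autoImplicit false
universe u
open MilnorK

namespace Groth.Agent.S19427

/-- For a field F and nonzero b, c with b + c ≠ 0, in the Milnor K-group K_2(F) one has {b, c} + {b + c,
-b/c} = 0, that is {b, c} = -{b + c, -b/c} = {b + c, -c/b}. (The identity as displayed in the source
is {b, c} = {b + c, -b/c}, which differs from this by a sign and fails in general: for b = 3, c = 5
over the rationals the tame symbol at 5 takes the values 3 and 1/3 on the two sides; the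
accompanying derivation from the Steinberg relation b/(b+c) + c/(b+c) = 1 gives exactly the identity
stated here.) -/
theorem result (F : Type u) [Field F] (b c : Fˣ)
    (h : (b : F) + (c : F) ≠ 0) :
    (MilK.symbol ![b, c] : MilK.K F 2) + MilK.symbol ![Units.mk0 ((b : F) + (c : F)) h, -(b / c)] = 0 := by
  classical
  obtain ⟨B, hBdef⟩ : ∃ B : Fˣ → Fˣ → MilK.K F 2, B = fun x y => MilK.symbol ![x, y] := ⟨_, rfl⟩
  have hB : Groth.Agent.Helper5.IsStSymb B := by
    rw [hBdef]; exact Groth.Agent.Helper5.isStSymb_pair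
  obtain ⟨s, hs⟩ : ∃ s : Fˣ, s = Units.mk0 ((b : F) + (c : F)) h := ⟨_, rfl⟩
  have hsv : (s : F) = (b : F) + (c : F) := by rw [hs]; rfl
  have hsum : ((b * s⁻¹ : Fˣ) : F) + ((c * s⁻¹ : Fˣ) : F) = 1 := by
    rw [Units.val_mul, Units.val_mul, ← add_mul, Units.val_inv_eq_inv_val, hsv]
    exact mul_inv_cancel₀ h
  have hrel := hB.rel (b * s⁻¹) (c * s⁻¹) hsum
  simp only [hB.mul_left, hB.mul_right, hB.inv_left, hB.inv_right] at hrel
  have e : -(b / c) = -1 * (b * c⁻¹) := by rw [neg_one_mul, div_eq_mul_inv]
  have h1 := hB.swap_eq_neg s b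
  have h2 := hB.self_eq s
  rw [h1, h2] at hrel
  have goal' : B b c + B s (-(b / c)) = 0 := by
    rw [e, hB.mul_right, hB.mul_right, hB.inv_right, ← hrel]
    abel
  subst hBdef
  subst hs
  exact goal'

end Groth.Agent.S19427
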