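import Groth.Statements.S19436
import Groth.Agent.Lib.Helper12.Chain

set_option autoImplicit false
universe u
open CAlg

namespace Groth.Agent.S19436

/-- For a Noetherian local commutative algebra R over a field k, with maximal ideal M, and an ideal I of
R whose quotient R/I is finite-dimensional over k of dimension n, the power M^n lies in I. -/
theorem result (k : Type u) [Field k] (R : Type u) [CommRing R]
    [Algebra k R] [IsNoetherianRing R] [IsLocalRing R] (I : Ideal R) [Module.Finite k (R ⧸ I)] (n : ℕ)
    (hn : Module.finrank k (R ⧸ I) = n) : IsLocalRing.maximalIdeal R ^ n ≤ I := by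
  set M := IsLocalRing.maximalIdeal R with hM
  let π : R →ₗ[k] R ⧸ I := (Ideal.Quotient.mkₐ k I).toLinearMap
  set U : ℕ → Submodule k (R ⧸ I) := fun d => Submodule.map π ((M ^ d).restrictScalars k) with hU
  have hanti : Antitone U := by
    intro a b hab
    apply Submodule.map_mono
    intro x hx
    exact Ideal.pow_le_pow_right hab hx
  obtain ⟨d, hd, hdd⟩ := Groth.Agent.Helper12.exists_eq_succ_of_antitone U hanti
  have hle : M ^ d ≤ I ⊔ M • (M ^ d) := by
    intro x hx
    have hxU : π x ∈ U d := ⟨x, hx, rfl⟩
    rw [hdd] at hxU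
    obtain ⟨y, hy, hxy⟩ := hxU
    have hy' : y ∈ M ^ (d + 1) := hy
    have hxyI : x - y ∈ I := by
      rw [← Ideal.Quotient.eq]
      exact hxy.symm
    have : x = (x - y) + y := by ring
    rw [this]
    refine Submodule.add_mem_sup hxyI ?_
    rw [smul_eq_mul, ← pow_succ']
    exact hy'
  have hdI : M ^ d ≤ I :=
    Submodule.le_of_le_smul_of_le_jacobson_bot (IsNoetherian.noetherian _)
      (IsLocalRing.maximalIdeal_le_jacobson ⊥) hle
  exact (Ideal.pow_le_pow_right (hn ▸ hd)).trans hdI

end Groth.Agent.S19436
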