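import Groth.Statements.S19438
import Mathlib

set_option autoImplicit false
universe u
open CAlg

namespace Groth.Agent.S19438

/-- First assertion: let A be a Noetherian local commutative algebra over a field k with maximal ideal
M, residue field k (the map from k to A/M is onto) and embedding dimension dim M/M^2 at least 2, and
let I be a proper ideal with A/I finite-dimensional over k. If A/I is generated as a k-algebra by
one element, then some element of I does not lie in M^2; that is, the finite closed subscheme
defined by I lies on a smooth hypersurface germ (it is curvilinear). (The published statement is for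
the local ring of a smooth surface at a closed point; only a Noetherian local algebra with residue
field k and embedding dimension at least 2 is assumed here, which is what the published argument
uses.) -/
theorem result (k : Type u) [Field k]
    (A : Type u) [CommRing A] [Algebra k A] [IsNoetherianRing A] [IsLocalRing A]
    (hres : Function.Surjective (algebraMap k (IsLocalRing.ResidueField A)))
    (hemb : 2 ≤ Module.finrank (IsLocalRing.ResidueField A) (IsLocalRing.CotangentSpace A))
    (I : Ideal A) (hI : I ≠ ⊤) [Module.Finite k (A ⧸ I)]
    (f : A ⧸ I) (hf : Algebra.adjoin k {f} = ⊤) :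
    ∃ g ∈ I, g ∉ IsLocalRing.maximalIdeal A ^ 2 := by
  classical
  by_contra hcon
  push_neg at hcon
  set M := IsLocalRing.maximalIdeal A with hM
  obtain ⟨f₀, rfl⟩ := Ideal.Quotient.mk_surjective f
  obtain ⟨c, hc⟩ := hres (IsLocalRing.residue A f₀)
  obtain ⟨n, hn_def⟩ : ∃ n, n = f₀ - algebraMap k A c := ⟨_, rfl⟩
  have hn : n ∈ M := by
    rw [hn_def, hM, ← IsLocalRing.residue_eq_zero_iff, map_sub, sub_eq_zero, ← hc,
      IsScalarTower.algebraMap_apply k A (IsLocalRing.ResidueField A),
      IsLocalRing.ResidueField.algebraMap_eq]
  have hn2 : n * n ∈ M ^ 2 := by rw [pow_two]; exact Ideal.mul_mem_mul hn hn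
  let W : Subalgebra k A :=
    { carrier := {a | ∃ α β : k, a - algebraMap k A α - algebraMap k A β * n ∈ M ^ 2}
      mul_mem' := by
        rintro a a' ⟨α, β, h⟩ ⟨α', β', h'⟩
        refine ⟨α * α', α * β' + β * α', ?_⟩
        have key : a * a' - algebraMap k A (α * α') - algebraMap k A (α * β' + β * α') * n =
            (a - algebraMap k A α - algebraMap k A β * n) * a' +
            (algebraMap k A α + algebraMap k A β * n) *
              (a' - algebraMap k A α' - algebraMap k A β' * n) +
            algebraMap k A β * algebraMap k A β' * (n * n) := by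
          rw [map_mul, map_add, map_mul, map_mul]; ring
        rw [key]
        exact add_mem (add_mem (Ideal.mul_mem_right _ _ h) (Ideal.mul_mem_left _ _ h'))
          (Ideal.mul_mem_left _ _ hn2)
      add_mem' := by
        rintro a a' ⟨α, β, h⟩ ⟨α', β', h'⟩
        refine ⟨α + α', β + β', ?_⟩
        have key : a + a' - algebraMap k A (α + α') - algebraMap k A (β + β') * n =
            (a - algebraMap k A α - algebraMap k A β * n) +
              (a' - algebraMap k A α' - algebraMap k A β' * n) := by
          rw [map_add, map_add]; ring
        rw [key]; exact add_mem h h'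
      algebraMap_mem' := by
        intro r
        refine ⟨r, 0, ?_⟩
        simp }
  have hf₀W : f₀ ∈ W := by
    refine ⟨c, 1, ?_⟩
    have : f₀ - algebraMap k A c - algebraMap k A 1 * n = 0 := by
      rw [hn_def, map_one, one_mul, sub_self]
    rw [this]; exact zero_mem _
  have hWtop : ∀ a : A, a ∈ W := by
    intro a
    have h1 : (⊤ : Subalgebra k (A ⧸ I)) ≤ W.map (Ideal.Quotient.mkₐ k I) := by
      rw [← hf]
      apply Algebra.adjoin_le
      rintro _ rfl
      exact ⟨f₀, hf₀W, rfl⟩
    obtain ⟨w, hw, hwa⟩ := h1 (Algebra.mem_top : Ideal.Quotient.mkₐ k I a ∈ ⊤)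
    have h2 : w - a ∈ I := Ideal.Quotient.eq.mp hwa
    obtain ⟨α, β, h⟩ := hw
    refine ⟨α, β, ?_⟩
    have h3 : w - a ∈ M ^ 2 := hcon _ h2
    have key : a - algebraMap k A α - algebraMap k A β * n =
        (w - algebraMap k A α - algebraMap k A β * n) - (w - a) := by ring
    rw [key]; exact sub_mem h h3
  have hMn : ∀ x ∈ M, ∃ β : k, x - algebraMap k A β * n ∈ M ^ 2 := by
    intro x hx
    obtain ⟨α, β, h⟩ := hWtop x
    have hα : α = 0 := by
      by_contra hα
      have hu : IsUnit (algebraMap k A α) := (isUnit_iff_ne_zero.mpr hα).map (algebraMap k A)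
      have hmem : algebraMap k A α ∈ M := by
        have h4 : x - algebraMap k A α - algebraMap k A β * n ∈ M :=
          Ideal.pow_le_self two_ne_zero h
        have key : algebraMap k A α = x - algebraMap k A β * n -
            (x - algebraMap k A α - algebraMap k A β * n) := by ring
        rw [key]
        exact sub_mem (sub_mem hx (Ideal.mul_mem_left _ _ hn)) h4
      exact (IsLocalRing.mem_maximalIdeal _).mp hmem hu
    refine ⟨β, ?_⟩
    rw [hα, map_zero, sub_zero] at h
    exact h
  have hle : Module.finrank (IsLocalRing.ResidueField A) (IsLocalRing.CotangentSpace A) ≤ 1 := by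
    apply finrank_le_one (M.toCotangent ⟨n, hn⟩)
    intro w
    obtain ⟨⟨x, hx⟩, rfl⟩ := Ideal.toCotangent_surjective M w
    obtain ⟨β, hβ⟩ := hMn x hx
    refine ⟨IsLocalRing.residue A (algebraMap k A β), ?_⟩
    rw [← IsLocalRing.ResidueField.algebraMap_eq, algebraMap_smul, ← map_smul,
      Ideal.toCotangent_eq]
    show algebraMap k A β * n - x ∈ M ^ 2
    rw [← neg_sub]; exact neg_mem hβ
  omega

end Groth.Agent.S19438
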