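import Groth.Statements.S19439
import Groth.Agent.Lib.Helper12.Chain

set_option autoImplicit false
universe u
open CAlg

namespace Groth.Agent.S19439

open MvPolynomial in
/-- the images of the bounded-degree polynomials in a quotient of a polynomial ring -/
private theorem degree_chain_stab {k : Type*} [Field k] {N : ℕ} (I : Ideal (MvPolynomial (Fin N) k))
    (d : ℕ)
    (h : Submodule.map (Ideal.Quotient.mkₐ k I).toLinearMap (restrictTotalDegree (Fin N) k d) =
      Submodule.map (Ideal.Quotient.mkₐ k I).toLinearMap (restrictTotalDegree (Fin N) k (d + 1))) :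
    Submodule.map (Ideal.Quotient.mkₐ k I).toLinearMap (restrictTotalDegree (Fin N) k (d + 1)) =
      Submodule.map (Ideal.Quotient.mkₐ k I).toLinearMap (restrictTotalDegree (Fin N) k (d + 2)) := by
  classical
  apply le_antisymm
  · apply Submodule.map_mono
    intro p hp
    rw [mem_restrictTotalDegree] at hp ⊢
    omega
  · rintro _ ⟨p, hp, rfl⟩
    rw [SetLike.mem_coe, mem_restrictTotalDegree] at hp
    rw [p.as_sum, map_sum]
    refine Submodule.sum_mem _ fun s hs => ?_
    have hsdeg : (s.sum fun _ e => e) ≤ d + 2 := (le_totalDegree hs).trans hp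
    by_cases hle : (s.sum fun _ e => e) ≤ d + 1
    · refine ⟨monomial s (coeff s p), ?_, rfl⟩
      rw [SetLike.mem_coe, mem_restrictTotalDegree]
      exact (totalDegree_monomial_le _ _).trans hle
    · have hseq : (s.sum fun _ e => e) = d + 2 := by omega
      have hsne : s ≠ 0 := by
        rintro rfl
        simp at hseq
      obtain ⟨i, hi⟩ := Finsupp.ne_iff.mp hsne
      have hi' : 1 ≤ s i := Nat.one_le_iff_ne_zero.mpr (by simpa using hi)
      -- `s = single i 1 + s'`
      set s' : Fin N →₀ ℕ := s - Finsupp.single i 1 with hs'
      have hss' : s = Finsupp.single i 1 + s' := by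
        ext j
        by_cases hj : j = i
        · subst hj; simp [hs']; omega
        · simp [hs', Ne.symm hj]
      have hs'deg : (s'.sum fun _ e => e) = d + 1 := by
        have : (s.sum fun _ e => e) = (Finsupp.single i 1).sum (fun _ e => e) + s'.sum fun _ e => e := by
          conv_lhs => rw [hss']
          exact Finsupp.sum_add_index' (fun _ => rfl) (fun _ _ _ => rfl)
        rw [Finsupp.sum_single_index rfl] at this
        omega
      have hmon : ∀ c : k, monomial s c = X i * monomial s' c := by
        intro c
        conv_lhs => rw [hss']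
        rw [monomial_single_add, pow_one]
      -- the image of `monomial s'` lies in `W (d+1) = W d`
      have h1 : (Ideal.Quotient.mkₐ k I).toLinearMap (monomial s' (coeff s p)) ∈
          Submodule.map (Ideal.Quotient.mkₐ k I).toLinearMap (restrictTotalDegree (Fin N) k d) := by
        rw [h]
        refine ⟨_, ?_, rfl⟩
        rw [SetLike.mem_coe, mem_restrictTotalDegree]
        exact (totalDegree_monomial_le _ _).trans hs'deg.le
      obtain ⟨q, hq, hq'⟩ := h1
      rw [SetLike.mem_coe, mem_restrictTotalDegree] at hq
      refine ⟨X i * q, ?_, ?_⟩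
      · rw [SetLike.mem_coe, mem_restrictTotalDegree]
        refine (totalDegree_mul _ _).trans ?_
        have : (X i : MvPolynomial (Fin N) k).totalDegree = 1 := totalDegree_X i
        omega
      · simp only [AlgHom.toLinearMap_apply, map_mul] at hq' ⊢
        rw [hmon, map_mul, hq']

open MvPolynomial in
/-- Affine form: for all n and N there is an integer d, that depends only on n and N, such that for
every algebraically closed field k and every ideal I of the polynomial ring in N variables over k
whose quotient has finite dimension n over k, the polynomials of total degree at most d map onto the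
quotient. -/
theorem result (n N : ℕ) :
    ∃ d : ℕ, ∀ (k : Type u) [Field k] [IsAlgClosed k] (I : Ideal (MvPolynomial (Fin N) k))
      [Module.Finite k (MvPolynomial (Fin N) k ⧸ I)],
      Module.finrank k (MvPolynomial (Fin N) k ⧸ I) = n →
      Submodule.map (Ideal.Quotient.mkₐ k I).toLinearMap (MvPolynomial.restrictTotalDegree (Fin N) k d) = ⊤ := by
  refine ⟨n, ?_⟩
  intro k _ _ I _ hn
  set W : ℕ → Submodule k (MvPolynomial (Fin N) k ⧸ I) := fun d =>
    Submodule.map (Ideal.Quotient.mkₐ k I).toLinearMap (restrictTotalDegree (Fin N) k d) with hWdef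
  have hmono : Monotone W := by
    intro a b hab
    apply Submodule.map_mono
    intro p hp
    rw [mem_restrictTotalDegree] at hp ⊢
    omega
  obtain ⟨d₀, hd₀, hd₀'⟩ := Groth.Agent.Helper12.exists_eq_succ_of_monotone W hmono
  have hstab := Groth.Agent.Helper12.eq_add_of_eq_succ W (fun d h => degree_chain_stab I d h) d₀ hd₀'
  show W n = ⊤
  rw [eq_top_iff]
  rintro q -
  obtain ⟨p, rfl⟩ := Ideal.Quotient.mk_surjective q
  have hp : (Ideal.Quotient.mk I p) ∈ W p.totalDegree :=
    ⟨p, by rw [SetLike.mem_coe, mem_restrictTotalDegree], rfl⟩
  rcases le_total p.totalDegree n with hle | hge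
  · exact hmono hle hp
  · have hd₀n : d₀ ≤ n := hn ▸ hd₀
    have : W p.totalDegree = W d₀ := by
      have := hstab (p.totalDegree - d₀)
      rwa [Nat.add_sub_cancel' (hd₀n.trans hge)] at this
    rw [this] at hp
    exact hmono hd₀n hp

end Groth.Agent.S19439
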