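import Groth.Statements.S19440
import Mathlib

set_option autoImplicit false
universe u
open LinAlg

namespace Groth.Agent.S19440

/-- Let U, V be commuting n × n matrices over a field k and e a vector which is cyclic for them (the
vectors U^p V^q e span k^n). An invertible matrix T which commutes with U and V and fixes e is the
identity: the general linear group acts freely by simultaneous conjugation on commuting pairs with a
cyclic vector. -/
theorem result (k : Type u) [Field k] (n : ℕ)
    (U V : Matrix (Fin n) (Fin n) k) (hUV : U * V = V * U) (e : Fin n → k)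
    (he : Submodule.span k (Set.range fun p : ℕ × ℕ => (U ^ p.1 * V ^ p.2).mulVec e) = ⊤)
    (T : Matrix.GeneralLinearGroup (Fin n) k)
    (hTU : (T : Matrix (Fin n) (Fin n) k) * U = U * T) (hTV : (T : Matrix (Fin n) (Fin n) k) * V = V * T)
    (hTe : (T : Matrix (Fin n) (Fin n) k).mulVec e = e) : T = 1 := by
  set M : Matrix (Fin n) (Fin n) k := (T : Matrix (Fin n) (Fin n) k) with hM
  have hcU : Commute M U := hTU
  have hcV : Commute M V := hTV
  have hfix : ∀ p : ℕ × ℕ, M.mulVec ((U ^ p.1 * V ^ p.2).mulVec e) = (U ^ p.1 * V ^ p.2).mulVec e := by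
    intro p
    have hc : Commute M (U ^ p.1 * V ^ p.2) := (hcU.pow_right _).mul_right (hcV.pow_right _)
    rw [Matrix.mulVec_mulVec, hc.eq, ← Matrix.mulVec_mulVec, hTe]
  have hall : ∀ v : Fin n → k, M.mulVec v = v := by
    intro v
    have hv : v ∈ Submodule.span k (Set.range fun p : ℕ × ℕ => (U ^ p.1 * V ^ p.2).mulVec e) := by
      rw [he]; trivial
    refine Submodule.span_induction ?_ ?_ ?_ ?_ hv
    · rintro _ ⟨p, rfl⟩; exact hfix p
    · simp
    · intro x y _ _ hx hy; rw [Matrix.mulVec_add, hx, hy]
    · intro c x _ hx; rw [Matrix.mulVec_smul, hx]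
  have hM1 : M = 1 := by
    apply Matrix.toLin'.injective
    apply LinearMap.ext
    intro v
    rw [Matrix.toLin'_apply, hall, Matrix.toLin'_one, LinearMap.id_apply]
  apply Units.ext
  exact hM1

end Groth.Agent.S19440
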