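import Groth.Statements.S19443
import Mathlib

set_option autoImplicit false
universe u
open LinAlg

namespace Groth.Agent.S19443

/-- Algebraic form: let G be a finite group with order invertible in the field k, ρ a linear
representation of G on a k-vector space V, and ω a nondegenerate bilinear form on V invariant under
G. Then ω restricted to the fixed subspace V^G is nondegenerate (for a finite group of symplectic
automorphisms, the fixed subspace is a symplectic subspace). -/
theorem result (k : Type u) [Field k]
    (G : Type u) [Group G] [Finite G] (hG : (Nat.card G : k) ≠ 0)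
    (V : Type u) [AddCommGroup V] [Module k V] (ρ : Representation k G V)
    (ω : LinearMap.BilinForm k V) (hω : ω.Nondegenerate)
    (hinv : ∀ (g : G) (v w : V), ω (ρ g v) (ρ g w) = ω v w) :
    (ω.restrict ρ.invariants).Nondegenerate := by
  classical
  have : Fintype G := Fintype.ofFinite G
  have hcard : (Fintype.card G : k) ≠ 0 := by rwa [← Nat.card_eq_fintype_card]
  -- the averaging operator
  let avg : V → V := fun w => (Fintype.card G : k)⁻¹ • ∑ g : G, ρ g w
  have havg_mem : ∀ w, avg w ∈ ρ.invariants := by
    intro w h
    simp only [avg, map_smul, map_sum]
    congr 1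
    conv_rhs => rw [← Equiv.sum_comp (Equiv.mulLeft h) (fun g => ρ g w)]
    refine Finset.sum_congr rfl fun g _ => ?_
    simp [map_mul]
  have hleft : ∀ v ∈ ρ.invariants, ∀ w, ω v (avg w) = ω v w := by
    intro v hv w
    simp only [avg, map_smul, map_sum, smul_eq_mul]
    have : ∀ g : G, ω v (ρ g w) = ω v w := by
      intro g
      conv_lhs => rw [← hv g]
      exact hinv g v w
    simp only [this, Finset.sum_const, Finset.card_univ, nsmul_eq_mul]
    field_simp
  have hright : ∀ v ∈ ρ.invariants, ∀ w, ω (avg w) v = ω w v := by
    intro v hv w
    simp only [avg, map_smul, map_sum, smul_eq_mul, LinearMap.smul_apply, LinearMap.sum_apply]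
    have : ∀ g : G, ω (ρ g w) v = ω w v := by
      intro g
      conv_lhs => rw [← hv g]
      exact hinv g w v
    simp only [this, Finset.sum_const, Finset.card_univ, nsmul_eq_mul]
    field_simp
  constructor
  · rintro ⟨v, hv⟩ h
    have : v = 0 := by
      apply hω.1
      intro w
      have := h ⟨avg w, havg_mem w⟩
      simp only [LinearMap.BilinForm.restrict_apply, LinearMap.domRestrict_apply] at this
      rw [← hleft v hv w]
      exact this
    exact Subtype.ext this
  · rintro ⟨v, hv⟩ h
    have : v = 0 := by
      apply hω.2
      intro w
      have := h ⟨avg w, havg_mem w⟩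
      simp only [LinearMap.BilinForm.restrict_apply, LinearMap.domRestrict_apply] at this
      rw [← hright v hv w]
      exact this
    exact Subtype.ext this

end Groth.Agent.S19443
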