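import Groth.Statements.S19448
import Mathlib

set_option autoImplicit false
universe u
open CAlg

namespace Groth.Agent.S19448

/-- Let k be a field, A a Noetherian local k-algebra with maximal ideal M and residue field k, and G a
finite group with |G| ≠ 0 in k acting on A by k-algebra automorphisms. An element of G which acts
trivially on M/M^2 acts trivially on A; in other words the stabilizer acts faithfully on the
cotangent space whenever it acts faithfully on the local ring. -/
theorem result (k : Type u) [Field k] (A : Type u) [CommRing A]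
    [Algebra k A] [IsLocalRing A] [IsNoetherianRing A]
    (hres : Function.Surjective (algebraMap k (IsLocalRing.ResidueField A)))
    (G : Type u) [Group G] [Finite G] [MulSemiringAction G A] [SMulCommClass G k A]
    (hG : (Nat.card G : k) ≠ 0) (g : G)
    (hg : ∀ a ∈ IsLocalRing.maximalIdeal A, g • a - a ∈ IsLocalRing.maximalIdeal A ^ 2) (a : A) :
    g • a = a := by
  classical
  obtain ⟨m, hm⟩ : ∃ m : Ideal A, m = IsLocalRing.maximalIdeal A := ⟨_, rfl⟩
  rw [← hm] at hg
  have hgc : ∀ c : k, g • (algebraMap k A c) = algebraMap k A c := by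
    intro c
    rw [Algebra.algebraMap_eq_smul_one, smul_comm, smul_one]
  -- N a := g • a - a
  have hN_mul : ∀ x y : A, g • (x * y) - x * y =
      x * (g • y - y) + (g • x - x) * y + (g • x - x) * (g • y - y) := by
    intro x y
    rw [smul_mul']; ring
  have hN_add : ∀ x y : A, g • (x + y) - (x + y) = (g • x - x) + (g • y - y) := by
    intro x y
    rw [smul_add]; ring
  have hNA : ∀ a : A, g • a - a ∈ m ^ 2 := by
    intro a
    obtain ⟨c, hc⟩ := hres (IsLocalRing.residue A a)
    have h1 : a - algebraMap k A c ∈ m := by
      rw [hm, ← IsLocalRing.residue_eq_zero_iff, map_sub, ← hc]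
      exact sub_eq_zero.mpr rfl
    have h2 := hg _ h1
    rw [smul_sub, hgc] at h2
    have : g • a - a = g • a - algebraMap k A c - (a - algebraMap k A c) := by ring
    rw [this]; exact h2
  have hpow_le : ∀ {i j : ℕ}, i ≤ j → m ^ j ≤ m ^ i := fun h => Ideal.pow_le_pow_right h
  have hNpow : ∀ i : ℕ, ∀ x ∈ m ^ i, g • x - x ∈ m ^ (i + 1) := by
    intro i
    induction i with
    | zero => intro x _; exact hpow_le (by omega) (hNA x)
    | succ i ih =>
      intro x hx
      rw [pow_succ] at hx
      refine Submodule.mul_induction_on hx ?_ ?_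
      · intro y hy z hz
        rw [hN_mul]
        have hz2 : g • z - z ∈ m ^ 2 := hNA z
        have hy1 := ih y hy
        refine Ideal.add_mem _ (Ideal.add_mem _ ?_ ?_) ?_
        · have := Ideal.mul_mem_mul hy hz2
          rw [← pow_add] at this
          exact this
        · have := Ideal.mul_mem_mul hy1 hz
          rw [← pow_succ] at this
          exact this
        · have := Ideal.mul_mem_mul hy1 hz2
          rw [← pow_add] at this
          exact hpow_le (by omega) this
      · intro y z hy hz
        rw [hN_add]
        exact Ideal.add_mem _ hy hz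
  have hgpow : ∀ j i : ℕ, ∀ x ∈ m ^ i, g ^ j • x - x ∈ m ^ (i + 1) := by
    intro j
    induction j with
    | zero => intro i x _; rw [pow_zero, one_smul, sub_self]; exact Ideal.zero_mem _
    | succ j ih =>
      intro i x hx
      have h1 : g ^ (j + 1) • x - x = (g • (g ^ j • x - x) - (g ^ j • x - x)) + (g ^ j • x - x)
          + (g • x - x) := by
        rw [pow_succ', mul_smul, smul_sub]; ring
      rw [h1]
      have h2 := ih i x hx
      refine Ideal.add_mem _ (Ideal.add_mem _ ?_ h2) (hNpow i x hx)
      exact hpow_le (by omega) (hNpow (i + 1) _ h2)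
  have hd : (Nat.card G : k) ≠ 0 := hG
  have main : ∀ n : ℕ, ∀ a : A, g • a - a ∈ m ^ n := by
    intro n
    induction n with
    | zero => intro a; rw [pow_zero, Ideal.one_eq_top]; trivial
    | succ n ih =>
      intro a
      obtain ⟨b, hb⟩ : ∃ b : A, b = g • a - a := ⟨_, rfl⟩
      rw [← hb]
      have hbn : b ∈ m ^ n := hb ▸ ih a
      have hS : ∑ j ∈ Finset.range (Nat.card G), g ^ j • b = 0 := by
        have h1 : ∀ j, g ^ j • b = g ^ (j + 1) • a - g ^ j • a := by
          intro j
          rw [hb, smul_sub, pow_succ, mul_smul]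
        rw [Finset.sum_congr rfl (fun j _ => h1 j), Finset.sum_range_sub (fun j => g ^ j • a),
          pow_card_eq_one', one_smul, pow_zero, one_smul, sub_self]
      have h2 : (Nat.card G : A) * b = - ∑ j ∈ Finset.range (Nat.card G), (g ^ j • b - b) := by
        rw [Finset.sum_sub_distrib, hS, Finset.sum_const, Finset.card_range, nsmul_eq_mul]
        ring
      have h3 : (Nat.card G : A) * b ∈ m ^ (n + 1) := by
        rw [h2]
        exact Ideal.neg_mem_iff _ |>.mpr (Ideal.sum_mem _ fun j _ => hgpow j n b hbn)
      have h4 : b = algebraMap k A ((Nat.card G : k)⁻¹) * ((Nat.card G : A) * b) := by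
        rw [← mul_assoc, ← map_natCast (algebraMap k A), ← map_mul, inv_mul_cancel₀ hd, map_one,
          one_mul]
      rw [h4]
      exact Ideal.mul_mem_left _ _ h3
  have hbot : g • a - a ∈ (⊥ : Ideal A) := by
    rw [← Ideal.iInf_pow_eq_bot_of_isLocalRing m (hm ▸ Ideal.IsPrime.ne_top inferInstance)]
    exact Ideal.mem_iInf.mpr fun n => main n a
  exact sub_eq_zero.mp hbot

end Groth.Agent.S19448
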