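import Groth.Statements.S19449
import Mathlib

set_option autoImplicit false
universe u
open SymRep

namespace Groth.Agent.S19449


open MvPolynomial

section Aux
variable {k : Type u} [Field k] {n : ℕ}

noncomputable def mono (i : Fin n) (e : ℕ × ℕ) : MvPolynomial (Fin n × Fin 2) k :=
  X (i, 0) ^ e.1 * X (i, 1) ^ e.2

noncomputable def Δ (p : Fin n → ℕ × ℕ) : MvPolynomial (Fin n × Fin 2) k :=
  (Matrix.of fun i j : Fin n => mono (k := k) i (p j)).det

theorem rename_mono (σ : Equiv.Perm (Fin n)) (i : Fin n) (e : ℕ × ℕ) :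
    rename (fun v : Fin n × Fin 2 => (σ v.1, v.2)) (mono (k := k) i e) = mono (σ i) e := by
  show rename _ (X (i, 0) ^ e.1 * X (i, 1) ^ e.2) = X (σ i, 0) ^ e.1 * X (σ i, 1) ^ e.2
  simp only [map_mul, map_pow, rename_X]

theorem rename_Δ (σ : Equiv.Perm (Fin n)) (p : Fin n → ℕ × ℕ) :
    rename (fun v : Fin n × Fin 2 => (σ v.1, v.2)) (Δ (k := k) p)
      = ((Equiv.Perm.sign σ : ℤˣ) : ℤ) • Δ (k := k) p := by
  unfold Δ
  rw [AlgHom.map_det, zsmul_eq_mul, ← Matrix.det_permute]
  congr 1
  refine Matrix.ext fun i j => ?_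
  simp only [AlgHom.mapMatrix_apply, Matrix.map_apply, Matrix.of_apply, Matrix.submatrix_apply,
    rename_mono, id_eq]

theorem alt_of_mem_span (f : MvPolynomial (Fin n × Fin 2) k)
    (hf : f ∈ Submodule.span k (Set.range fun p : Fin n → ℕ × ℕ => Δ (k := k) p))
    (σ : Equiv.Perm (Fin n)) :
    rename (fun v : Fin n × Fin 2 => (σ v.1, v.2)) f = ((Equiv.Perm.sign σ : ℤˣ) : ℤ) • f := by
  induction hf using Submodule.span_induction with
  | mem x hx =>
    obtain ⟨p, rfl⟩ := hx
    exact rename_Δ σ p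
  | zero => rw [map_zero, smul_zero]
  | add x y _ _ hx hy => rw [map_add, hx, hy, smul_add]
  | smul c x _ hx => rw [map_smul, hx, smul_comm]

noncomputable def Alt (f : MvPolynomial (Fin n × Fin 2) k) : MvPolynomial (Fin n × Fin 2) k :=
  ∑ σ : Equiv.Perm (Fin n),
    ((Equiv.Perm.sign σ : ℤˣ) : ℤ) • rename (fun v : Fin n × Fin 2 => (σ v.1, v.2)) f

theorem Alt_sum {ι : Type*} (s : Finset ι) (g : ι → MvPolynomial (Fin n × Fin 2) k) :
    Alt (∑ m ∈ s, g m) = ∑ m ∈ s, Alt (g m) := by
  unfold Alt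
  simp only [map_sum, Finset.smul_sum]
  rw [Finset.sum_comm]

theorem monomial_eq_prod (m : (Fin n × Fin 2) →₀ ℕ) :
    (monomial m (1 : k)) = ∏ i : Fin n, mono (k := k) i (m (i, 0), m (i, 1)) := by
  rw [monomial_eq, C_1, one_mul, Finsupp.prod_fintype _ _ (fun i => pow_zero _),
    Fintype.prod_prod_type]
  refine Finset.prod_congr rfl fun i _ => ?_
  rw [Fin.prod_univ_two]
  rfl

theorem Alt_monomial (m : (Fin n × Fin 2) →₀ ℕ) (c : k) :
    Alt (monomial m c) = c • Δ (k := k) (fun j => (m (j, 0), m (j, 1))) := by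
  have h1 : monomial m c = c • ∏ i : Fin n, mono (k := k) i (m (i, 0), m (i, 1)) := by
    rw [← monomial_eq_prod, smul_monomial, smul_eq_mul, mul_one]
  unfold Alt Δ
  rw [h1, Matrix.det_apply', Finset.smul_sum]
  refine Finset.sum_congr rfl fun σ _ => ?_
  rw [map_smul, map_prod, zsmul_eq_mul, mul_smul_comm]
  simp only [rename_mono, Matrix.of_apply]

theorem Alt_of_alt (f : MvPolynomial (Fin n × Fin 2) k)
    (hf : ∀ σ : Equiv.Perm (Fin n),
      rename (fun v : Fin n × Fin 2 => (σ v.1, v.2)) f = ((Equiv.Perm.sign σ : ℤˣ) : ℤ) • f) :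
    Alt f = ((n.factorial : ℕ) : k) • f := by
  unfold Alt
  have h : ∀ σ : Equiv.Perm (Fin n),
      ((Equiv.Perm.sign σ : ℤˣ) : ℤ) • rename (fun v : Fin n × Fin 2 => (σ v.1, v.2)) f = f := by
    intro σ
    rw [hf σ, smul_smul, Int.units_coe_mul_self, one_smul]
  rw [Finset.sum_congr rfl (fun σ _ => h σ), Finset.sum_const, Finset.card_univ,
    Fintype.card_perm, Fintype.card_fin, Nat.cast_smul_eq_nsmul]

theorem mem_span_of_alt [CharZero k] (f : MvPolynomial (Fin n × Fin 2) k)
    (hf : ∀ σ : Equiv.Perm (Fin n),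
      rename (fun v : Fin n × Fin 2 => (σ v.1, v.2)) f = ((Equiv.Perm.sign σ : ℤˣ) : ℤ) • f) :
    f ∈ Submodule.span k (Set.range fun p : Fin n → ℕ × ℕ => Δ (k := k) p) := by
  have h1 : Alt f = ((n.factorial : ℕ) : k) • f := Alt_of_alt f hf
  have hs : Alt f = ∑ m ∈ f.support, Alt (monomial m (coeff m f)) :=
    (congrArg Alt f.as_sum).trans (Alt_sum _ _)
  have h2 : Alt f ∈ Submodule.span k (Set.range fun p : Fin n → ℕ × ℕ => Δ (k := k) p) := by
    rw [hs]
    refine Submodule.sum_mem _ fun m _ => ?_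
    rw [Alt_monomial]
    exact Submodule.smul_mem _ _ (Submodule.subset_span ⟨_, rfl⟩)
  have h3 : ((n.factorial : ℕ) : k) ≠ 0 := Nat.cast_ne_zero.mpr (Nat.factorial_ne_zero n)
  have h4 : f = ((n.factorial : ℕ) : k)⁻¹ • Alt f := by
    rw [h1, smul_smul, inv_mul_cancel₀ h3, one_smul]
  rw [h4]
  exact Submodule.smul_mem _ _ h2

noncomputable def expo (e : Fin n → ℕ × ℕ) : (Fin n × Fin 2) →₀ ℕ :=
  Finsupp.equivFunOnFinite.symm (fun v => if v.2 = 0 then (e v.1).1 else (e v.1).2)

theorem expo_apply (e : Fin n → ℕ × ℕ) (v : Fin n × Fin 2) :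
    expo e v = if v.2 = 0 then (e v.1).1 else (e v.1).2 := rfl

theorem expo_zero (e : Fin n → ℕ × ℕ) (i : Fin n) : expo e (i, 0) = (e i).1 := by
  rw [expo_apply]
  exact if_pos rfl

theorem expo_one (e : Fin n → ℕ × ℕ) (i : Fin n) : expo e (i, 1) = (e i).2 := by
  rw [expo_apply]
  exact if_neg (show ¬ ((1 : Fin 2) = 0) by decide)

theorem expo_injective {e e' : Fin n → ℕ × ℕ} (h : expo e = expo e') : e = e' := by
  funext i
  have h0 := expo_zero e i
  have h1 := expo_one e i
  rw [h, expo_zero] at h0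
  rw [h, expo_one] at h1
  exact Prod.ext h0.symm h1.symm

theorem monomial_expo (e : Fin n → ℕ × ℕ) :
    monomial (expo e) (1 : k) = ∏ i : Fin n, mono (k := k) i (e i) := by
  rw [monomial_eq_prod]
  refine Finset.prod_congr rfl fun i _ => ?_
  show mono i (expo e (i, 0), expo e (i, 1)) = mono i ((e i).1, (e i).2)
  rw [expo_zero, expo_one]

theorem prod_mono_perm (σ : Equiv.Perm (Fin n)) (e : Fin n → ℕ × ℕ) :
    ∏ i : Fin n, mono (k := k) (σ i) (e i) = monomial (expo fun i => e (σ.symm i)) 1 := by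
  rw [monomial_expo]
  have h := Equiv.prod_comp σ (fun i => mono (k := k) i (e (σ.symm i)))
  simp only [Equiv.symm_apply_apply] at h
  exact h

theorem perm_eq_of_comp {p q : Fin n → ℕ ×ₗ ℕ} (hp : StrictMono p) (hq : StrictMono q)
    (σ : Equiv.Perm (Fin n)) (h : ∀ i, p (σ.symm i) = q i) : p = q ∧ σ = 1 := by
  have hσ : StrictMono (σ.symm : Fin n → Fin n) := by
    intro i j hij
    have := hq hij
    rw [← h i, ← h j] at this
    exact hp.lt_iff_lt.mp this
  have hid : ∀ i, σ.symm i = i := fun i => le_antisymm (hσ.le_id i) (hσ.id_le i)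
  refine ⟨funext fun i => ?_, Equiv.ext fun i => ?_⟩
  · rw [← h i, hid i]
  · have := hid (σ i)
    rw [Equiv.symm_apply_apply] at this
    exact this.symm

theorem coeff_term {p q : Fin n → ℕ ×ₗ ℕ} (hp : StrictMono p) (hq : StrictMono q)
    (σ : Equiv.Perm (Fin n)) :
    coeff (expo fun j => ofLex (q j))
      ((((Equiv.Perm.sign σ : ℤˣ) : ℤ) : MvPolynomial (Fin n × Fin 2) k) *
        ∏ i, mono (k := k) (σ i) (ofLex (p i)))
      = if p = q ∧ σ = 1 then 1 else 0 := by
  have hprod : ∏ i, mono (k := k) (σ i) (ofLex (p i))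
      = monomial (expo fun i => ofLex (p (σ.symm i))) 1 :=
    prod_mono_perm σ (fun j => ofLex (p j))
  have hz : (((Equiv.Perm.sign σ : ℤˣ) : ℤ) : MvPolynomial (Fin n × Fin 2) k)
      = C ((((Equiv.Perm.sign σ : ℤˣ) : ℤ)) : k) := (map_intCast (C : k →+* MvPolynomial (Fin n × Fin 2) k) _).symm
  rw [hprod, hz, coeff_C_mul, coeff_monomial]
  by_cases h : p = q ∧ σ = 1
  · have hexp : expo (fun i => ofLex (p (σ.symm i))) = expo (fun j => ofLex (q j)) := by
      obtain ⟨rfl, rfl⟩ := h
      rfl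
    have hsign : (((Equiv.Perm.sign σ : ℤˣ) : ℤ) : k) = 1 := by
      rw [h.2, Equiv.Perm.sign_one, Units.val_one, Int.cast_one]
    rw [if_pos hexp, if_pos h, hsign, mul_one]
  · have hne : ¬ (expo (fun i => ofLex (p (σ.symm i))) = expo (fun j => ofLex (q j))) := by
      intro heq
      apply h
      apply perm_eq_of_comp hp hq σ
      intro i
      have := congrFun (expo_injective heq) i
      exact ofLex.injective this
    rw [if_neg hne, if_neg h, mul_zero]

theorem coeff_Δ {p q : Fin n → ℕ ×ₗ ℕ} (hp : StrictMono p) (hq : StrictMono q) :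
    coeff (expo fun j => ofLex (q j)) (Δ (k := k) fun j => ofLex (p j))
      = if p = q then 1 else 0 := by
  unfold Δ
  rw [Matrix.det_apply', coeff_sum]
  refine (Finset.sum_congr rfl (fun σ _ => coeff_term hp hq σ)).trans ?_
  by_cases hpq : p = q
  · rw [if_pos hpq, Finset.sum_eq_single (1 : Equiv.Perm (Fin n))]
    · rw [if_pos ⟨hpq, rfl⟩]
    · intro σ _ hσ
      rw [if_neg (fun h => hσ h.2)]
    · intro h
      exact absurd (Finset.mem_univ _) h
  · rw [if_neg hpq]
    refine Finset.sum_eq_zero fun σ _ => ?_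
    rw [if_neg (fun h => hpq h.1)]

theorem linIndep : LinearIndependent k
    (fun p : {p : Fin n → ℕ ×ₗ ℕ // StrictMono p} => Δ (k := k) fun j => ofLex (p.1 j)) := by
  rw [linearIndependent_iff']
  intro s c hc q hq
  have h := congrArg (coeff (expo fun j => ofLex (q.1 j))) hc
  rw [coeff_sum, coeff_zero] at h
  have h2 : ∑ p ∈ s, coeff (expo fun j => ofLex (q.1 j))
      (c p • Δ (k := k) fun j => ofLex (p.1 j)) = c q := by
    rw [Finset.sum_eq_single q]
    · rw [coeff_smul, coeff_Δ q.2 q.2, if_pos rfl, smul_eq_mul, mul_one]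
    · intro p _ hpq
      rw [coeff_smul, coeff_Δ p.2 q.2, if_neg (fun h' => hpq (Subtype.ext h')), smul_zero]
    · intro hq'
      exact absurd hq hq'
  exact h2.symm.trans h

end Aux


/-- Over a field k of characteristic zero, let the symmetric group S_n act on the polynomial ring in the
2n variables x_i, y_i (i < n; the variable (i, 0) is x_i and (i, 1) is y_i) by permuting the index
i, and for an n-tuple p of pairs (p_j, q_j) of exponents let Δ_p be the determinant det(x_i^{p_j}
y_i^{q_j}). A polynomial is alternating — each permutation acts on it by its sign — exactly when it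
is a k-linear combination of the Δ_p; and the Δ_p for p strictly increasing in the lexicographic
order on pairs (one for each n-element set of exponent pairs) are linearly independent. Hence these
Δ_p form a basis of the space of alternating polynomials. -/
theorem result (k : Type u) [Field k] [CharZero k] (n : ℕ) :
    (∀ f : MvPolynomial (Fin n × Fin 2) k,
      (∀ σ : Equiv.Perm (Fin n),
          MvPolynomial.rename (fun v : Fin n × Fin 2 => (σ v.1, v.2)) f = ((Equiv.Perm.sign σ : ℤˣ) : ℤ) • f) ↔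
        f ∈ Submodule.span k (Set.range fun p : Fin n → ℕ × ℕ =>
          (Matrix.of fun i j : Fin n =>
            (MvPolynomial.X (i, 0) : MvPolynomial (Fin n × Fin 2) k) ^ (p j).1 * MvPolynomial.X (i, 1) ^ (p j).2).det)) ∧
    LinearIndependent k (fun p : {p : Fin n → ℕ ×ₗ ℕ // StrictMono p} =>
      (Matrix.of fun i j : Fin n =>
        (MvPolynomial.X (i, 0) : MvPolynomial (Fin n × Fin 2) k) ^ (ofLex (p.1 j)).1 *
          MvPolynomial.X (i, 1) ^ (ofLex (p.1 j)).2).det) := by
  refine ⟨fun f => ⟨fun hf => mem_span_of_alt f hf, fun hf σ => alt_of_mem_span f hf σ⟩, linIndep⟩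

end Groth.Agent.S19449
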