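import Groth.Statements.S19453
import Mathlib

set_option autoImplicit false
universe u
open CAlg

namespace Groth.Agent.S19453

/-- Converse direction: let k be a field, A a regular local k-algebra of Krull dimension 2 with maximal
ideal M and residue field k, and I an ideal with A/I of finite dimension n ≥ 1 over k. If some
element of I does not lie in M^2, then A/I is isomorphic as a k-algebra to k[x]/(x^n): a cluster
lying on a smooth curve germ of a smooth surface is curvilinear, with coordinate ring generated by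
one element. -/
theorem result (k : Type u) [Field k]
    (A : Type u) [CommRing A] [Algebra k A] [IsRegularLocalRing A] (hdim : ringKrullDim A = 2)
    (hres : Function.Surjective (algebraMap k (IsLocalRing.ResidueField A)))
    (I : Ideal A) [Module.Finite k (A ⧸ I)] (n : ℕ) (hn : Module.finrank k (A ⧸ I) = n) (h1 : 1 ≤ n)
    (g : A) (hgI : g ∈ I) (hg : g ∉ IsLocalRing.maximalIdeal A ^ 2) :
    Nonempty ((A ⧸ I) ≃ₐ[k] (Polynomial k ⧸ Ideal.span {(Polynomial.X : Polynomial k) ^ n})) := by
  classical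
  have hI : I ≠ ⊤ := by
    rintro rfl
    have : Subsingleton (A ⧸ (⊤ : Ideal A)) := Ideal.Quotient.subsingleton_iff.mpr rfl
    rw [Module.finrank_zero_of_subsingleton] at hn
    omega
  have hIm : I ≤ IsLocalRing.maximalIdeal A := IsLocalRing.le_maximalIdeal hI
  have hgm : g ∈ IsLocalRing.maximalIdeal A := hIm hgI
  have hfg : (IsLocalRing.maximalIdeal A).FG := IsNoetherian.noetherian _
  have hsf : (IsLocalRing.maximalIdeal A).spanFinrank = 2 := by
    have := IsRegularLocalRing.spanFinrank_maximalIdeal (R := A)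
    rw [hdim] at this
    exact_mod_cast this
  have hgen := Submodule.FG.generators_ncard hfg
  rw [hsf] at hgen
  obtain ⟨x, y, -, hxy⟩ := Set.ncard_eq_two.mp hgen
  have hspan : Ideal.span {x, y} = IsLocalRing.maximalIdeal A := by
    rw [← hxy]; exact Submodule.span_generators _
  have hx : x ∈ IsLocalRing.maximalIdeal A := hspan ▸ Ideal.subset_span (by simp)
  have hy : y ∈ IsLocalRing.maximalIdeal A := hspan ▸ Ideal.subset_span (by simp)
  obtain ⟨a, b, hab⟩ := Ideal.mem_span_pair.mp (hspan.symm ▸ hgm : g ∈ Ideal.span {x, y})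
  have hunit : IsUnit a ∨ IsUnit b := by
    by_contra hcon
    rw [not_or] at hcon
    apply hg
    rw [← hab, pow_two]
    exact add_mem (Ideal.mul_mem_mul ((IsLocalRing.mem_maximalIdeal a).mpr hcon.1) hx)
      (Ideal.mul_mem_mul ((IsLocalRing.mem_maximalIdeal b).mpr hcon.2) hy)
  obtain ⟨t, htm, hmt⟩ : ∃ t ∈ IsLocalRing.maximalIdeal A,
      IsLocalRing.maximalIdeal A ≤ Ideal.span {g, t} := by
    rcases hunit with ha | hb
    · refine ⟨y, hy, ?_⟩
      rw [← hspan, Ideal.span_le]
      intro z hz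
      rcases hz with hz | hz
      · obtain ⟨u, hu⟩ := ha
        have hinv : (↑u⁻¹ : A) * ↑u = 1 := Units.inv_mul u
        refine Ideal.mem_span_pair.mpr ⟨↑u⁻¹, -(↑u⁻¹ * b), ?_⟩
        rw [hz]
        rw [← hu] at hab
        linear_combination (-(↑u⁻¹ : A)) * hab + x * hinv
      · rw [Set.mem_singleton_iff.mp hz]
        exact Ideal.subset_span (by simp)
    · refine ⟨x, hx, ?_⟩
      rw [← hspan, Ideal.span_le]
      intro z hz
      rcases hz with hz | hz
      · rw [hz]
        exact Ideal.subset_span (by simp)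
      · obtain ⟨v, hv⟩ := hb
        have hinv : (↑v⁻¹ : A) * ↑v = 1 := Units.inv_mul v
        refine Ideal.mem_span_pair.mpr ⟨↑v⁻¹, -(↑v⁻¹ * a), ?_⟩
        rw [Set.mem_singleton_iff.mp hz]
        rw [← hv] at hab
        linear_combination (-(↑v⁻¹ : A)) * hab + y * hinv
  have hg0 : Ideal.Quotient.mk I g = 0 := Ideal.Quotient.eq_zero_iff_mem.mpr hgI
  have hdecomp : ∀ b : A ⧸ I, ∃ c : k, ∃ b' : A ⧸ I,
      b = algebraMap k (A ⧸ I) c + Ideal.Quotient.mk I t * b' := by
    intro b
    obtain ⟨a', rfl⟩ := Ideal.Quotient.mk_surjective b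
    obtain ⟨c, hc⟩ := hres (IsLocalRing.residue A a')
    have hmem : a' - algebraMap k A c ∈ IsLocalRing.maximalIdeal A := by
      rw [← IsLocalRing.residue_eq_zero_iff, map_sub, sub_eq_zero, ← hc,
        IsScalarTower.algebraMap_apply k A (IsLocalRing.ResidueField A),
        IsLocalRing.ResidueField.algebraMap_eq]
    obtain ⟨α, β, hαβ⟩ := Ideal.mem_span_pair.mp (hmt hmem)
    refine ⟨c, Ideal.Quotient.mk I β, ?_⟩
    have h2 : a' = algebraMap k A c + (α * g + β * t) := by rw [hαβ]; ring
    rw [h2, map_add, map_add, map_mul, map_mul, hg0, mul_zero, zero_add,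
      Ideal.Quotient.mk_algebraMap, mul_comm]
  have hiter : ∀ j : ℕ, ∀ b : A ⧸ I, ∃ p : Polynomial k, ∃ b' : A ⧸ I,
      b = Polynomial.aeval (Ideal.Quotient.mk I t) p + (Ideal.Quotient.mk I t) ^ j * b' := by
    intro j
    induction j with
    | zero => intro b; exact ⟨0, b, by simp⟩
    | succ j ih =>
      intro b
      obtain ⟨p, b', hb⟩ := ih b
      obtain ⟨c, b'', hb'⟩ := hdecomp b'
      refine ⟨p + Polynomial.C c * Polynomial.X ^ j, b'', ?_⟩
      rw [hb, hb', map_add, map_mul, map_pow, Polynomial.aeval_X, Polynomial.aeval_C]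
      ring
  haveI : IsArtinianRing (A ⧸ I) := IsArtinianRing.of_finite k (A ⧸ I)
  have hjac : Ideal.Quotient.mk I t ∈ Ideal.jacobson (⊥ : Ideal (A ⧸ I)) := by
    rw [Ideal.mem_jacobson_bot]
    intro y
    obtain ⟨y', rfl⟩ := Ideal.Quotient.mk_surjective y
    have hrw : Ideal.Quotient.mk I t * Ideal.Quotient.mk I y' + 1 =
        Ideal.Quotient.mk I (t * y' + 1) := by
      rw [map_add, map_mul, map_one]
    rw [hrw]
    apply IsUnit.map
    by_contra hnu
    have h3 : t * y' + 1 ∈ IsLocalRing.maximalIdeal A := (IsLocalRing.mem_maximalIdeal _).mpr hnu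
    have h4 : (1 : A) ∈ IsLocalRing.maximalIdeal A := by
      have := sub_mem h3 (Ideal.mul_mem_right y' _ htm)
      simpa using this
    exact (Ideal.ne_top_iff_one _).mp (IsLocalRing.maximalIdeal.isMaximal A).ne_top h4
  obtain ⟨N, hN⟩ := IsArtinianRing.isNilpotent_jacobson_bot (R := A ⧸ I)
  have hτN : (Ideal.Quotient.mk I t) ^ N = 0 := by
    have := Ideal.pow_mem_pow hjac N
    rw [hN, Ideal.zero_eq_bot, Ideal.mem_bot] at this
    exact this
  have hsurj : Function.Surjective (Polynomial.aeval (R := k) (Ideal.Quotient.mk I t)) := by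
    intro b
    obtain ⟨p, b', hb⟩ := hiter N b
    exact ⟨p, by rw [hb, hτN, zero_mul, add_zero]⟩
  have hXN : (Polynomial.X : Polynomial k) ^ N ∈
      RingHom.ker (Polynomial.aeval (R := k) (Ideal.Quotient.mk I t)) := by
    rw [RingHom.mem_ker, map_pow, Polynomial.aeval_X, hτN]
  obtain ⟨q, hq⟩ : ∃ q, RingHom.ker (Polynomial.aeval (R := k) (Ideal.Quotient.mk I t)) =
      Ideal.span {q} := ⟨_, (Ideal.span_singleton_generator _).symm⟩
  rw [hq] at hXN
  obtain ⟨i, -, hi⟩ := (dvd_prime_pow Polynomial.prime_X N).mp (Ideal.mem_span_singleton.mp hXN)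
  have hker : RingHom.ker (Polynomial.aeval (R := k) (Ideal.Quotient.mk I t)) =
      Ideal.span {(Polynomial.X : Polynomial k) ^ i} := by
    rw [hq]; exact Ideal.span_singleton_eq_span_singleton.mpr hi
  let e1 := Ideal.quotientKerAlgEquivOfSurjective hsurj
  let e2 := Ideal.quotientEquivAlgOfEq k hker
  have hfin : Module.finrank k
      (Polynomial k ⧸ Ideal.span {(Polynomial.X : Polynomial k) ^ i}) = n := by
    rw [← hn]
    exact (e2.symm.trans e1).toLinearEquiv.finrank_eq
  rw [finrank_quotient_span_eq_natDegree, Polynomial.natDegree_X_pow] at hfin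
  subst hfin
  exact ⟨e1.symm.trans e2⟩

end Groth.Agent.S19453
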