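import Groth.Statements.S19461
import Mathlib
import Groth.Agent.Lib.Helper4.FlatTower

set_option autoImplicit false
universe u
open CAlg

namespace Groth.Agent.S19461

/-- The implication from isomorphic completions to flat and unramified. Let A → B be a local
homomorphism of Noetherian local rings and ψ a ring map from the completion of A at its maximal
ideal to that of B whose composite with A → A^ is A → B → B^. If ψ is bijective, then A → B is flat
and the maximal ideal of A generates the maximal ideal of B. (The published statement is the
implication, for a morphism of algebraic varieties over an algebraically closed field, from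
isomorphic induced maps of completed local rings at every point to flat and unramified; its proof is
this local-ring argument, valid for any Noetherian local rings. The converse implication is a
separate result.) -/
theorem result (A B : Type u) [CommRing A]
    [CommRing B] [IsLocalRing A] [IsLocalRing B] [IsNoetherianRing A] [IsNoetherianRing B]
    [Algebra A B] [IsLocalHom (algebraMap A B)]
    (ψ : AdicCompletion (IsLocalRing.maximalIdeal A) A →+* AdicCompletion (IsLocalRing.maximalIdeal B) B)
    (hψ : ψ.comp (algebraMap A (AdicCompletion (IsLocalRing.maximalIdeal A) A)) =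
      (algebraMap B (AdicCompletion (IsLocalRing.maximalIdeal B) B)).comp (algebraMap A B))
    (hbij : Function.Bijective ψ) :
    Module.Flat A B ∧
      Ideal.map (algebraMap A B) (IsLocalRing.maximalIdeal A) = IsLocalRing.maximalIdeal B := by
  have hψa : ∀ a : A, ψ (algebraMap A (AdicCompletion (IsLocalRing.maximalIdeal A) A) a) =
      algebraMap A (AdicCompletion (IsLocalRing.maximalIdeal B) B) a := by
    intro a
    have h1 := congrArg (fun φ => φ a) hψ
    simp only [RingHom.comp_apply] at h1
    rw [h1]
    rfl
  have htower : IsScalarTower A B (AdicCompletion (IsLocalRing.maximalIdeal B) B) :=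
    IsScalarTower.of_algebraMap_eq fun a => rfl
  have hff : Module.FaithfullyFlat B (AdicCompletion (IsLocalRing.maximalIdeal B) B) :=
    Module.FaithfullyFlat.of_flat_of_isLocalHom
  -- the completion of `B` is `A`-flat, being isomorphic to the completion of `A`
  let e : AdicCompletion (IsLocalRing.maximalIdeal A) A ≃ₗ[A]
      AdicCompletion (IsLocalRing.maximalIdeal B) B :=
    { (RingEquiv.ofBijective ψ hbij).toAddEquiv with
      map_smul' := by
        intro a x
        change ψ (a • x) = a • ψ x
        rw [Algebra.smul_def, Algebra.smul_def, map_mul, hψa] }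
  have hflat : Module.Flat A (AdicCompletion (IsLocalRing.maximalIdeal B) B) :=
    Module.Flat.of_linearEquiv e.symm
  refine ⟨Groth.Agent.Helper4.flat_of_faithfullyFlat_tower A B
    (AdicCompletion (IsLocalRing.maximalIdeal B) B), ?_⟩
  -- the maximal ideals
  have hmapψ : (IsLocalRing.maximalIdeal (AdicCompletion (IsLocalRing.maximalIdeal A) A)).map ψ =
      IsLocalRing.maximalIdeal (AdicCompletion (IsLocalRing.maximalIdeal B) B) := by
    apply le_antisymm
    · rw [Ideal.map_le_iff_le_comap]
      intro x hx
      rw [Ideal.mem_comap, IsLocalRing.mem_maximalIdeal, mem_nonunits_iff]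
      intro hu
      apply (IsLocalRing.mem_maximalIdeal _).mp hx
      have h1 : IsUnit ((RingEquiv.ofBijective ψ hbij).symm (ψ x)) :=
        hu.map (RingEquiv.ofBijective ψ hbij).symm
      have h2 : (RingEquiv.ofBijective ψ hbij).symm (ψ x) = x :=
        (RingEquiv.ofBijective ψ hbij).symm_apply_apply x
      rw [h2] at h1
      exact h1
    · intro y hy
      obtain ⟨x, rfl⟩ := hbij.2 y
      apply Ideal.mem_map_of_mem
      rw [IsLocalRing.mem_maximalIdeal, mem_nonunits_iff]
      intro hu
      exact (IsLocalRing.mem_maximalIdeal _).mp hy (hu.map ψ)
  have h1 : ((IsLocalRing.maximalIdeal A).map (algebraMap A B)).map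
      (algebraMap B (AdicCompletion (IsLocalRing.maximalIdeal B) B)) =
      (IsLocalRing.maximalIdeal B).map
        (algebraMap B (AdicCompletion (IsLocalRing.maximalIdeal B) B)) := by
    rw [Ideal.map_map, ← hψ, ← Ideal.map_map, ← AdicCompletion.maximalIdeal_eq_map, hmapψ,
      AdicCompletion.maximalIdeal_eq_map]
  have h2 := congrArg (Ideal.comap (algebraMap B (AdicCompletion (IsLocalRing.maximalIdeal B) B))) h1
  rw [Ideal.comap_map_eq_self_of_faithfullyFlat, Ideal.comap_map_eq_self_of_faithfullyFlat] at h2
  exact h2

end Groth.Agent.S19461
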