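import Groth.Statements.S19475
import Mathlib
import Groth.Agent.Lib.Helper4.TensorComplMax

set_option autoImplicit false
universe u
open CAlg

namespace Groth.Agent.S19475

open IsLocalRing in
/-- Let A be a Noetherian ring, B an A-algebra, q a prime ideal of B and p its preimage in A; let A_p
and B_q be the local rings at p and q and Â_p the completion of A_p at its maximal ideal pA_p. Then
the ideal generated by qB_q in B_q ⊗ Â_p is maximal. (The tensor product is formed over A; since A_p
is a localization of A it agrees with the tensor product over A_p used in the published statement.) -/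
theorem result (A B : Type u) [CommRing A] [CommRing B]
    [Algebra A B] [IsNoetherianRing A] (q : Ideal B) [q.IsPrime] :
    ((maximalIdeal (Localization.AtPrime q)).map
      (Algebra.TensorProduct.includeLeftRingHom :
        Localization.AtPrime q →+* TensorProduct A (Localization.AtPrime q)
          (AdicCompletion (maximalIdeal (Localization.AtPrime (q.under A)))
            (Localization.AtPrime (q.under A))))).IsMaximal := by
  classical
  have hpprime : (q.under A).IsPrime := inferInstance
  -- H1
  have H1 : ∀ s : A, s ∉ q.under A → IsUnit (algebraMap A (Localization.AtPrime q) s) := by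
    intro s hs
    rw [IsScalarTower.algebraMap_apply A B (Localization.AtPrime q)]
    exact IsLocalization.map_units (Localization.AtPrime q)
      (⟨algebraMap A B s, hs⟩ : q.primeCompl)
  -- H2
  have H2 : ∀ a ∈ q.under A, algebraMap A (Localization.AtPrime q) a ∈
      IsLocalRing.maximalIdeal (Localization.AtPrime q) := by
    intro a ha
    rw [IsScalarTower.algebraMap_apply A B (Localization.AtPrime q)]
    exact (IsLocalization.AtPrime.to_map_mem_maximal_iff (Localization.AtPrime q) q _).mpr ha
  -- H3
  have hmpmap : (IsLocalRing.maximalIdeal (Localization.AtPrime (q.under A))).map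
      (algebraMap (Localization.AtPrime (q.under A))
        (AdicCompletion (IsLocalRing.maximalIdeal (Localization.AtPrime (q.under A)))
          (Localization.AtPrime (q.under A)))) =
      (q.under A).map (algebraMap A
        (AdicCompletion (IsLocalRing.maximalIdeal (Localization.AtPrime (q.under A)))
          (Localization.AtPrime (q.under A)))) := by
    rw [← Localization.AtPrime.map_eq_maximalIdeal (I := q.under A), Ideal.map_map,
      ← IsScalarTower.algebraMap_eq]
  have hfg : (IsLocalRing.maximalIdeal (Localization.AtPrime (q.under A))).FG :=
    (isNoetherianRing_iff_ideal_fg _).mp inferInstance _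
  have H3 : ∀ α : AdicCompletion (IsLocalRing.maximalIdeal (Localization.AtPrime (q.under A)))
        (Localization.AtPrime (q.under A)),
      ∃ (a₀ s : A) (σ : AdicCompletion (IsLocalRing.maximalIdeal (Localization.AtPrime (q.under A)))
        (Localization.AtPrime (q.under A))), s ∉ q.under A ∧ s • σ = 1 ∧
      α - a₀ • σ ∈ (q.under A).map (algebraMap A _) := by
    intro α
    obtain ⟨a, ha⟩ := Ideal.Quotient.mk_surjective
      (AdicCompletion.evalₐ (IsLocalRing.maximalIdeal (Localization.AtPrime (q.under A))) 1 α)
    obtain ⟨⟨a₀, s⟩, hs⟩ := IsLocalization.mk'_surjective (q.under A).primeCompl a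
    have hs' : IsLocalization.mk' (Localization.AtPrime (q.under A)) a₀ s = a := hs
    refine ⟨a₀, s.1, algebraMap (Localization.AtPrime (q.under A)) _
      (IsLocalization.mk' (Localization.AtPrime (q.under A)) 1 s), s.2, ?_, ?_⟩
    · rw [Algebra.smul_def, IsScalarTower.algebraMap_apply A (Localization.AtPrime (q.under A)),
        ← map_mul, IsLocalization.mk'_spec', map_one, map_one]
    · have e : a₀ • algebraMap (Localization.AtPrime (q.under A))
          (AdicCompletion (IsLocalRing.maximalIdeal (Localization.AtPrime (q.under A)))
            (Localization.AtPrime (q.under A)))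
          (IsLocalization.mk' (Localization.AtPrime (q.under A)) 1 s) =
          algebraMap (Localization.AtPrime (q.under A)) _ a := by
        rw [Algebra.smul_def, IsScalarTower.algebraMap_apply A (Localization.AtPrime (q.under A)),
          ← map_mul, IsLocalization.mul_mk'_eq_mk'_of_mul, mul_one, hs']
      rw [e, ← hmpmap]
      have h0 : AdicCompletion.evalₐ (IsLocalRing.maximalIdeal (Localization.AtPrime (q.under A))) 1
          (α - algebraMap (Localization.AtPrime (q.under A)) _ a) = 0 := by
        rw [map_sub, AlgHom.commutes, ← ha, Ideal.Quotient.algebraMap_eq, sub_self]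
      have := Groth.Agent.Helper4.mem_map_of_evalₐ_eq_zero _ hfg 1 _ h0
      rwa [pow_one] at this
  -- the map g
  have hunits : ∀ y : (q.under A).primeCompl,
      IsUnit ((Algebra.ofId A (IsLocalRing.ResidueField (Localization.AtPrime q))) y) := by
    intro y
    show IsUnit (algebraMap A (IsLocalRing.ResidueField (Localization.AtPrime q)) y.1)
    rw [IsScalarTower.algebraMap_apply A (Localization.AtPrime q)]
    exact (H1 y.1 y.2).map _
  let φ : Localization.AtPrime (q.under A) →ₐ[A]
      IsLocalRing.ResidueField (Localization.AtPrime q) :=
    IsLocalization.liftAlgHom (M := (q.under A).primeCompl)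
      (f := Algebra.ofId A (IsLocalRing.ResidueField (Localization.AtPrime q))) hunits
  have hφ : ∀ x ∈ (IsLocalRing.maximalIdeal (Localization.AtPrime (q.under A))) ^ 1, φ x = 0 := by
    intro x hx
    rw [pow_one] at hx
    obtain ⟨⟨a, s⟩, rfl⟩ := IsLocalization.mk'_surjective (q.under A).primeCompl x
    have ha : a ∈ q.under A :=
      (IsLocalization.AtPrime.mk'_mem_maximal_iff (Localization.AtPrime (q.under A))
        (q.under A) a s).mp hx
    show IsLocalization.lift hunits (IsLocalization.mk' _ a s) = 0
    rw [IsLocalization.lift_mk'_spec, mul_zero]
    show algebraMap A (IsLocalRing.ResidueField (Localization.AtPrime q)) a = 0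
    rw [IsScalarTower.algebraMap_apply A (Localization.AtPrime q)]
    exact (IsLocalRing.residue_eq_zero_iff _).mpr (H2 a ha)
  let ψ : (Localization.AtPrime (q.under A) ⧸
      (IsLocalRing.maximalIdeal (Localization.AtPrime (q.under A))) ^ 1) →ₐ[A]
      IsLocalRing.ResidueField (Localization.AtPrime q) :=
    Ideal.Quotient.liftₐ _ φ hφ
  let ev : AdicCompletion (IsLocalRing.maximalIdeal (Localization.AtPrime (q.under A)))
        (Localization.AtPrime (q.under A)) →ₐ[A]
      (Localization.AtPrime (q.under A) ⧸
        (IsLocalRing.maximalIdeal (Localization.AtPrime (q.under A))) ^ 1) :=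
    (AdicCompletion.evalₐ (IsLocalRing.maximalIdeal (Localization.AtPrime (q.under A))) 1).restrictScalars A
  exact Groth.Agent.Helper4.TensorComplMax.isMaximal_map_includeLeft (q.under A)
    (Localization.AtPrime q) _ H1 H2 H3 (ψ.comp ev)

end Groth.Agent.S19475
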