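import Groth.Statements.S19488
import Mathlib
set_option linter.style.haveILetI false

set_option autoImplicit false
universe u
open CategoryTheory CategoryTheory.Limits AlgebraicGeometry
open W4c1frobunstiva

namespace Groth.Agent.S19488

section Aux

open CategoryTheory CategoryTheory.Limits AlgebraicGeometry

theorem pushforward_faithful_of_inducing {S T : Scheme.{u}} (f : S ⟶ T)
    (hf : Topology.IsInducing f) {E Q : S.Modules} (α β : E ⟶ Q)
    (h : (Scheme.Modules.pushforward f).map α = (Scheme.Modules.pushforward f).map β) :
    α = β := by
  apply Scheme.Modules.hom_ext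
  intro V
  obtain ⟨s, hs, hpre⟩ := hf.isOpen_iff.mp V.2
  obtain rfl : f ⁻¹ᵁ ⟨s, hs⟩ = V := TopologicalSpace.Opens.ext hpre
  exact congr(($h).app ⟨s, hs⟩)

end Aux

/-- Fix a closed immersion of schemes f : S → T, an O_T-module G, an O_S-module E and an epimorphism ψ :
G → f_*E. Then the morphism ψ′ : f^*G → E that corresponds to ψ under the adjunction between
pullback and pushforward (it is the pullback f^*ψ followed by the counit f^*f_*E → E, an isomorphism
for a closed immersion) is an epimorphism, and the canonical map f^*(ker ψ) → ker(f^*ψ) is an
epimorphism. (The published statement takes G and E locally free, which these two assertions do not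
use.) -/
theorem result
    {S T : Scheme.{u}} (f : S ⟶ T) [IsClosedImmersion f] (G : T.Modules) (E : S.Modules)
    (ψ : G ⟶ (Scheme.Modules.pushforward f).obj E) [Epi ψ] :
    Epi (((Scheme.Modules.pullbackPushforwardAdjunction f).homEquiv G E).symm ψ) ∧
      Epi (kernelComparison ψ (Scheme.Modules.pullback f)) := by
  constructor
  · refine ⟨fun {Q} α β h => ?_⟩
    have h1 := congrArg ((Scheme.Modules.pullbackPushforwardAdjunction f).homEquiv G Q) h
    rw [Adjunction.homEquiv_naturality_right, Adjunction.homEquiv_naturality_right,
      Equiv.apply_symm_apply, cancel_epi] at h1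
    exact pushforward_faithful_of_inducing f f.isClosedEmbedding.isInducing α β h1
  · let Sc : ShortComplex T.Modules := ShortComplex.mk (kernel.ι ψ) ψ (kernel.condition ψ)
    have hex : Sc.Exact := ShortComplex.exact_of_f_is_kernel _ (kernelIsKernel ψ)
    have hex' : (Sc.map (Scheme.Modules.pullback f)).Exact :=
      hex.map_of_epi_of_preservesCokernel (Scheme.Modules.pullback f) ‹Epi ψ› inferInstance
    exact (ShortComplex.exact_iff_epi_kernel_lift _).mp hex'

end Groth.Agent.S19488
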