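import Groth.Statements.S19502
import Mathlib

set_option autoImplicit false
universe u
open W4c3ghconstell

namespace Groth.Agent.S19502

theorem tsum_compl_finset {ι : Type u} [DecidableEq ι] (a : ι → ℝ) (ha : Summable a) (E : Finset ι) :
    Summable (fun i => if i ∈ E then (0 : ℝ) else a i) ∧
    (∑' i, if i ∈ E then (0 : ℝ) else a i) = (∑' i, a i) - ∑ i ∈ E, a i := by
  have h1 : Summable (fun i => if i ∈ E then a i else 0) := by
    apply summable_of_ne_finset_zero (s := E)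
    intro i hi
    simp [hi]
  have h2 : (fun i => if i ∈ E then (0 : ℝ) else a i) = fun i => a i - (if i ∈ E then a i else 0) := by
    funext i
    split_ifs <;> simp
  have h3 : (∑' i, if i ∈ E then a i else 0) = ∑ i ∈ E, a i := by
    rw [tsum_eq_sum (s := E)]
    · exact Finset.sum_congr rfl (fun i hi => by simp [hi])
    · intro i hi
      simp [hi]
  refine ⟨by rw [h2]; exact ha.sub h1, ?_⟩
  rw [h2, ha.tsum_sub h1, h3]

theorem alg_identity (SD' AD sa sc Sb sb : ℝ) (d e : ℕ) (hd : d = 0 → AD = 0) :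
    ((Sb + sb) + (SD' / ((d + e : ℕ) : ℝ)) * (AD + sc)) - (Sb + ((SD' + sa) / (d : ℝ)) * AD) =
      sb - ((1 / (d : ℝ)) * AD) * sa + (SD' / ((d + e : ℕ) : ℝ)) * sc
        - (SD' / ((d + e : ℕ) : ℝ)) * ((1 / (d : ℝ)) * AD) * (e : ℝ) := by
  by_cases hd0 : d = 0
  · subst hd0
    rw [hd rfl]
    simp
    ring
  · have hd' : (d : ℝ) ≠ 0 := by exact_mod_cast hd0
    have hde : ((d : ℝ) + (e : ℝ)) ≠ 0 := by
      have : d + e ≠ 0 := by omega
      exact_mod_cast this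
    push_cast
    field_simp
    ring

theorem gen {ι : Type u} [DecidableEq ι] (a b c : ι → ℝ) (hac : ∀ i, a i * c i = b i)
    (ha : Summable a) (hb : Summable b) (Dm D D' : Finset ι) (hDm : Dm ⊆ D) (hDD' : D ⊆ D') :
    (((∑ i ∈ D', b i) + ((∑' i, if i ∈ D' then (0 : ℝ) else a i) / ((D' \ Dm).card : ℝ)) * (∑ σ ∈ D' \ Dm, c σ)) - ((∑ i ∈ D, b i) + ((∑' i, if i ∈ D then (0 : ℝ) else a i) / ((D \ Dm).card : ℝ)) * (∑ σ ∈ D \ Dm, c σ)) =
      ∑ τ ∈ D' \ D, (a τ + (∑' i, if i ∈ D' then (0 : ℝ) else a i) / ((D' \ Dm).card : ℝ)) *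
        (c τ - (1 / ((D \ Dm).card : ℝ)) * (∑ σ ∈ D \ Dm, c σ))) ∧
    ((∑' i, b i) - ((∑ i ∈ D, b i) + ((∑' i, if i ∈ D then (0 : ℝ) else a i) / ((D \ Dm).card : ℝ)) * (∑ σ ∈ D \ Dm, c σ)) =
      ∑' τ, if τ ∈ D then (0 : ℝ) else a τ *
        (c τ - (1 / ((D \ Dm).card : ℝ)) * (∑ σ ∈ D \ Dm, c σ))) := by
  constructor
  · set SD' := ∑' i, if i ∈ D' then (0 : ℝ) else a i with hSD'
    have hSD : (∑' i, if i ∈ D then (0 : ℝ) else a i) = SD' + ∑ i ∈ D' \ D, a i := by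
      rw [hSD', (tsum_compl_finset a ha D).2, (tsum_compl_finset a ha D').2, ← Finset.sum_sdiff hDD']
      ring
    have hb' : ∑ i ∈ D', b i = ∑ i ∈ D, b i + ∑ i ∈ D' \ D, b i := by
      rw [← Finset.sum_sdiff hDD']; ring
    have hsd : (D' \ Dm) \ (D \ Dm) = D' \ D := by
      ext i
      simp only [Finset.mem_sdiff]
      constructor
      · rintro ⟨⟨h1, h2⟩, h3⟩
        exact ⟨h1, fun h4 => h3 ⟨h4, h2⟩⟩
      · rintro ⟨h1, h2⟩
        exact ⟨⟨h1, fun h3 => h2 (hDm h3)⟩, fun h3 => h2 h3.1⟩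
    have hsub : D \ Dm ⊆ D' \ Dm := Finset.sdiff_subset_sdiff hDD' le_rfl
    have hc' : ∑ σ ∈ D' \ Dm, c σ = ∑ σ ∈ D \ Dm, c σ + ∑ σ ∈ D' \ D, c σ := by
      rw [← Finset.sum_sdiff hsub, hsd]; ring
    have hcard : (D' \ Dm).card = (D \ Dm).card + (D' \ D).card := by
      rw [← Finset.card_sdiff_add_card_eq_card hsub, hsd]; ring
    have hR : ∀ q r : ℝ, ∑ τ ∈ D' \ D, (a τ + q) * (c τ - r) =
        (∑ τ ∈ D' \ D, b τ) - r * (∑ τ ∈ D' \ D, a τ) + q * (∑ τ ∈ D' \ D, c τ) -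
          q * r * ((D' \ D).card : ℝ) := by
      intro q r
      calc ∑ τ ∈ D' \ D, (a τ + q) * (c τ - r)
          = ∑ τ ∈ D' \ D, (b τ - r * a τ + q * c τ - q * r) :=
            Finset.sum_congr rfl (fun τ _ => by rw [← hac τ]; ring)
        _ = _ := by
            rw [Finset.sum_sub_distrib, Finset.sum_add_distrib, Finset.sum_sub_distrib,
              ← Finset.mul_sum, ← Finset.mul_sum, Finset.sum_const, nsmul_eq_mul]
            ring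
    have hd : (D \ Dm).card = 0 → ∑ σ ∈ D \ Dm, c σ = 0 := by
      intro h0
      rw [Finset.card_eq_zero.mp h0, Finset.sum_empty]
    rw [hSD, hb', hc', hcard, hR]
    have := alg_identity SD' (∑ σ ∈ D \ Dm, c σ) (∑ i ∈ D' \ D, a i) (∑ σ ∈ D' \ D, c σ)
      (∑ i ∈ D, b i) (∑ i ∈ D' \ D, b i) (D \ Dm).card (D' \ D).card hd
    linear_combination this
  · have h1 := tsum_compl_finset a ha D
    have h2 := tsum_compl_finset b hb D
    have hpt : (fun τ => if τ ∈ D then (0 : ℝ) else a τ *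
        (c τ - (1 / ((D \ Dm).card : ℝ)) * (∑ σ ∈ D \ Dm, c σ))) =
        fun τ => (if τ ∈ D then (0 : ℝ) else b τ) -
          ((1 / ((D \ Dm).card : ℝ)) * (∑ σ ∈ D \ Dm, c σ)) * (if τ ∈ D then (0 : ℝ) else a τ) := by
      funext τ
      split_ifs
      · simp
      · rw [← hac τ]; ring
    rw [hpt, (h2.1).tsum_sub (h1.1.mul_left _), tsum_mul_left, h2.2]
    ring

/-- Let ι index the irreducible representations, θ : ι → ℚ a weight which is negative exactly on the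
finite set D₋, h h' : ι → ℕ with h' ≤ h pointwise (the isotypic dimensions of an object and of a
sub-object) and Σ_i θ_i h_i summable. For a finite set D of indices put S_D = Σ_{i ∉ D} θ_i h_i, d =
#(D ∖ D₋) and θ̃_D = Σ_{i ∈ D} θ_i h'_i + (S_D / d) · Σ_{i ∈ D ∖ D₋} h'_i / h_i, the modified weight
attached to the parameters chosen for D (a quotient by zero is read as zero). Then for finite sets
D₋ ⊆ D ⊆ D̃ contained in the locus θ ≠ 0: (first error term) θ̃_{D̃} − θ̃_D = Σ_{τ ∈ D̃ ∖ D} (θ_τ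
h_τ + S_{D̃}/d̃) · (h'_τ/h_τ − (1/d) Σ_{σ ∈ D ∖ D₋} h'_σ/h_σ); (second error term) Σ_i θ_i h'_i −
θ̃_D = Σ_{τ ∉ D} θ_τ h_τ · (h'_τ/h_τ − (1/d) Σ_{σ ∈ D ∖ D₋} h'_σ/h_σ). -/
theorem result {ι : Type u} [DecidableEq ι]
    (θ : ι → ℚ) (h h' : ι → ℕ) (hle : ∀ i, h' i ≤ h i) (hfin : {i | θ i < 0}.Finite)
    (hsum : Summable (fun i => (θ i : ℝ) * (h i : ℝ))) (D D' : Finset ι)
    (hDm : hfin.toFinset ⊆ D) (hDD' : D ⊆ D') (hsupp : ∀ i ∈ D', θ i ≠ 0) :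
    (((∑ i ∈ D', (θ i : ℝ) * (h' i : ℝ)) + ((∑' i, if i ∈ D' then (0 : ℝ) else (θ i : ℝ) * (h i : ℝ)) / ((D' \ hfin.toFinset).card : ℝ)) * (∑ σ ∈ D' \ hfin.toFinset, ((h' σ : ℝ) / (h σ : ℝ)))) - ((∑ i ∈ D, (θ i : ℝ) * (h' i : ℝ)) + ((∑' i, if i ∈ D then (0 : ℝ) else (θ i : ℝ) * (h i : ℝ)) / ((D \ hfin.toFinset).card : ℝ)) * (∑ σ ∈ D \ hfin.toFinset, ((h' σ : ℝ) / (h σ : ℝ)))) =
      ∑ τ ∈ D' \ D, ((θ τ : ℝ) * (h τ : ℝ) + (∑' i, if i ∈ D' then (0 : ℝ) else (θ i : ℝ) * (h i : ℝ)) / ((D' \ hfin.toFinset).card : ℝ)) *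
        (((h' τ : ℝ) / (h τ : ℝ)) - (1 / ((D \ hfin.toFinset).card : ℝ)) * (∑ σ ∈ D \ hfin.toFinset, ((h' σ : ℝ) / (h σ : ℝ))))) ∧
    ((∑' i, (θ i : ℝ) * (h' i : ℝ)) - ((∑ i ∈ D, (θ i : ℝ) * (h' i : ℝ)) + ((∑' i, if i ∈ D then (0 : ℝ) else (θ i : ℝ) * (h i : ℝ)) / ((D \ hfin.toFinset).card : ℝ)) * (∑ σ ∈ D \ hfin.toFinset, ((h' σ : ℝ) / (h σ : ℝ)))) =
      ∑' τ, if τ ∈ D then (0 : ℝ) else (θ τ : ℝ) * (h τ : ℝ) *
        (((h' τ : ℝ) / (h τ : ℝ)) - (1 / ((D \ hfin.toFinset).card : ℝ)) * (∑ σ ∈ D \ hfin.toFinset, ((h' σ : ℝ) / (h σ : ℝ))))) := by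
  have hac : ∀ i, ((θ i : ℝ) * (h i : ℝ)) * ((h' i : ℝ) / (h i : ℝ)) = (θ i : ℝ) * (h' i : ℝ) := by
    intro i
    by_cases h0 : h i = 0
    · have : h' i = 0 := Nat.le_zero.mp (h0 ▸ hle i)
      simp [h0, this]
    · have : (h i : ℝ) ≠ 0 := by exact_mod_cast h0
      field_simp
  have hb : Summable (fun i => (θ i : ℝ) * (h' i : ℝ)) := by
    refine Summable.of_norm_bounded (g := fun i => ‖(θ i : ℝ) * (h i : ℝ)‖) hsum.norm ?_
    intro i
    rw [norm_mul, norm_mul]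
    apply mul_le_mul_of_nonneg_left _ (norm_nonneg _)
    simp only [Real.norm_natCast]
    exact_mod_cast hle i
  exact gen (fun i => (θ i : ℝ) * (h i : ℝ)) (fun i => (θ i : ℝ) * (h' i : ℝ))
    (fun i => (h' i : ℝ) / (h i : ℝ)) hac hsum hb hfin.toFinset D D' hDm hDD'

end Groth.Agent.S19502
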