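import Groth.Statements.S19522
import Mathlib
-- import your own Groth.Agent.* helpers here

set_option autoImplicit false
universe u
open TensorProduct
open GLin

namespace Groth.Agent.S19522

/-- Let k be a field, A a commutative k-bialgebra coacting multiplicatively on a commutative k-algebra
R, and χ ∈ A a group-like element with an inverse χ' (χχ' = 1). Suppose the polynomial ring R[t]
carries a multiplicative coaction which restricts to the given one on constants and sends t to t ⊗
χ'. Then g ∈ R[t] is coinvariant if and only if, for every r, its r-th coefficient has coaction g_r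
↦ g_r ⊗ χ^r; that is, the ring of invariants of R[t] is the sum over r ≥ 0 of the weight-χ^r
semi-invariants of R times t^r. (The published statement is phrased for an affine variety with an
action of a linear algebraic group over an algebraically closed field of characteristic zero and
identifies the invariants of X × A¹ with the graded ring of invariant sections of the powers of the
linearised trivial bundle; this is its coordinate-ring content, valid over any field.) -/
theorem result (k : Type u) [Field k]
    (A : Type u) [CommRing A] [Bialgebra k A]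
    (R : Type u) [CommRing R] [Algebra k R] [HopfRep.Comod k A R] [GLin.IsCoactAlg k A R]
    [HopfRep.Comod k A (Polynomial R)] [GLin.IsCoactAlg k A (Polynomial R)]
    (χ χ' : A) (hχ : CoalgebraStruct.comul (R := k) (A := A) χ = χ ⊗ₜ[k] χ)
    (hχε : CoalgebraStruct.counit (R := k) (A := A) χ = 1) (hχχ' : χ * χ' = 1)
    (hC : ∀ r : R, HopfRep.Comod.coact (k := k) (A := A) (Polynomial.C r) =
      Algebra.TensorProduct.map (Polynomial.CAlgHom : R →ₐ[k] Polynomial R) (AlgHom.id k A)
        (HopfRep.Comod.coact (k := k) (A := A) r))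
    (hX : HopfRep.Comod.coact (k := k) (A := A) (Polynomial.X : Polynomial R) = Polynomial.X ⊗ₜ[k] χ')
    (g : Polynomial R) :
    g ∈ GLin.invariants k A (Polynomial R) ↔
      ∀ r : ℕ, g.coeff r ∈ HopfRep.eigenspace k A R (χ ^ r) := by
  classical
  have hpow : ∀ i : ℕ, HopfRep.Comod.coact (k := k) (A := A) ((Polynomial.X : Polynomial R) ^ i) =
      ((Polynomial.X : Polynomial R) ^ i) ⊗ₜ[k] (χ' ^ i) := by
    intro i
    have := map_pow (GLin.coactAlgHom k A (Polynomial R)) Polynomial.X i
    rw [GLin.coactAlgHom_apply, GLin.coactAlgHom_apply, hX, Algebra.TensorProduct.tmul_pow] at this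
    exact this
  have hform : ∀ g : Polynomial R, HopfRep.Comod.coact (k := k) (A := A) g =
      ∑ i ∈ Finset.range (g.natDegree + 1),
        Algebra.TensorProduct.map (Polynomial.CAlgHom : R →ₐ[k] Polynomial R) (AlgHom.id k A)
          (HopfRep.Comod.coact (k := k) (A := A) (g.coeff i)) *
          (((Polynomial.X : Polynomial R) ^ i) ⊗ₜ[k] (χ' ^ i)) := by
    intro g
    conv_lhs => rw [Polynomial.as_sum_range_C_mul_X_pow g]
    rw [map_sum]
    apply Finset.sum_congr rfl
    intro i _
    rw [GLin.IsCoactAlg.coact_mul, hC, hpow]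
  have hL : ∀ (t : R ⊗[k] A) (s r : ℕ) (a : A),
      ((Polynomial.lcoeff R r).restrictScalars k).rTensor A
        (Algebra.TensorProduct.map (Polynomial.CAlgHom : R →ₐ[k] Polynomial R) (AlgHom.id k A) t *
          (((Polynomial.X : Polynomial R) ^ s) ⊗ₜ[k] a)) =
        if r = s then t * ((1 : R) ⊗ₜ[k] a) else 0 := by
    intro t s r a
    induction t using TensorProduct.induction_on with
    | zero => simp
    | tmul ρ₀ b =>
      simp only [Algebra.TensorProduct.map_tmul, Algebra.TensorProduct.tmul_mul_tmul,
        LinearMap.rTensor_tmul, mul_one, Polynomial.CAlgHom_apply, AlgHom.coe_id, id_eq,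
        LinearMap.coe_restrictScalars, Polynomial.lcoeff_apply, Polynomial.coeff_C_mul_X_pow]
      split_ifs with h
      · rfl
      · rw [TensorProduct.zero_tmul]
    | add x y hx hy =>
      rw [map_add, add_mul, map_add, hx, hy]
      split_ifs with h
      · rw [add_mul]
      · rw [add_zero]
  have hLg : ∀ (g : Polynomial R) (r : ℕ),
      ((Polynomial.lcoeff R r).restrictScalars k).rTensor A
        (HopfRep.Comod.coact (k := k) (A := A) g) =
        HopfRep.Comod.coact (k := k) (A := A) (g.coeff r) * ((1 : R) ⊗ₜ[k] (χ' ^ r)) := by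
    intro g r
    rw [hform g, map_sum]
    simp only [hL]
    rw [Finset.sum_ite_eq]
    split_ifs with h
    · rfl
    · have h0 : g.coeff r = 0 := by
        apply Polynomial.coeff_eq_zero_of_natDegree_lt
        rw [Finset.mem_range] at h
        omega
      rw [h0, map_zero, zero_mul]
  have hχ'χ : χ' * χ = 1 := by rw [mul_comm]; exact hχχ'
  constructor
  · intro hg r
    have hg' : HopfRep.Comod.coact (k := k) (A := A) g = g ⊗ₜ[k] (1 : A) := hg
    have h1 := hLg g r
    rw [hg', LinearMap.rTensor_tmul] at h1
    have h2 : (g.coeff r) ⊗ₜ[k] (1 : A) =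
        HopfRep.Comod.coact (k := k) (A := A) (g.coeff r) * ((1 : R) ⊗ₜ[k] (χ' ^ r)) := h1
    show HopfRep.Comod.coact (k := k) (A := A) (g.coeff r) = (g.coeff r) ⊗ₜ[k] (χ ^ r)
    have h3 := congrArg (fun z => z * ((1 : R) ⊗ₜ[k] (χ ^ r))) h2
    simp only [mul_assoc, Algebra.TensorProduct.tmul_mul_tmul, mul_one, one_mul, ← mul_pow, hχ'χ,
      one_pow] at h3
    rw [← Algebra.TensorProduct.one_def, mul_one] at h3
    exact h3.symm
  · intro hg
    have hg' : ∀ r, HopfRep.Comod.coact (k := k) (A := A) (g.coeff r) =
        (g.coeff r) ⊗ₜ[k] (χ ^ r) := hg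
    show HopfRep.Comod.coact (k := k) (A := A) g = g ⊗ₜ[k] (1 : A)
    rw [hform g]
    conv_rhs => rw [Polynomial.as_sum_range_C_mul_X_pow g]
    rw [TensorProduct.sum_tmul]
    apply Finset.sum_congr rfl
    intro i _
    rw [hg' i, Algebra.TensorProduct.map_tmul, Algebra.TensorProduct.tmul_mul_tmul,
      AlgHom.id_apply, ← mul_pow, hχχ', one_pow]
    rfl

end Groth.Agent.S19522
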