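import Groth.Statements.S19540
import Mathlib

set_option autoImplicit false
open CategoryTheory CategoryTheory.Limits Opposite
universe w v u
open CohSite

namespace Groth.Agent.S19540


/-- Let (C, J) be a site and B a class of objects of C, each weakly contractible (every epimorphism of
sheaves of sets, valued in a fixed universe, is surjective on sections over it), such that every
object V of C has a covering sieve all of whose arrows factor through some object of B. Then a
three-term complex F ⟶ G ⟶ H of abelian sheaves on (C, J) is exact if and only if for every U in B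
the sequence of section groups F(U) ⟶ G(U) ⟶ H(U) is exact. (The published statement is for sheaves
of modules over a sheaf of rings O; this row is the case of the constant sheaf of rings ℤ, i.e.
abelian sheaves, to which exactness questions for O-modules reduce. The universe set-up assumes that
abelian sheafification exists and inverts exactly the locally bijective maps, as on any small site.) -/
theorem result
    {C : Type u} [Category.{v} C] (J : GrothendieckTopology C) [HasSheafify J AddCommGrpCat.{w}]
    [J.WEqualsLocallyBijective AddCommGrpCat.{w}]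
    (B : C → Prop)
    (hB : ∀ U : C, B U → ∀ (P Q : Sheaf J (Type w)) (ψ : P ⟶ Q), Epi ψ → Function.Surjective (ψ.hom.app (op U)))
    (hcov : ∀ V : C, ∃ S : Sieve V, S ∈ J V ∧ ∀ ⦃W : C⦄ (f : W ⟶ V), S.arrows f →
      ∃ (U : C) (g : W ⟶ U) (h : U ⟶ V), B U ∧ g ≫ h = f)
    (S : ShortComplex (Sheaf J AddCommGrpCat.{w})) :
    S.Exact ↔ ∀ U : C, B U →
      (S.map (sheafToPresheaf J AddCommGrpCat.{w} ⋙ (evaluation Cᵒᵖ AddCommGrpCat.{w}).obj (op U))).Exact := by
  rw [ShortComplex.exact_iff_epi_kernel_lift]
  set k := kernel.lift S.g S.f S.zero with hk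
  rw [← Sheaf.isLocallySurjective_iff_epi' _ k]
  -- the kernel complex
  let T : ShortComplex (Sheaf J AddCommGrpCat.{w}) := ShortComplex.mk (kernel.ι S.g) S.g (kernel.condition _)
  have hT : T.Exact := ShortComplex.exact_of_f_is_kernel T (kernelIsKernel S.g)
  have hTm : Mono T.f := by dsimp [T]; infer_instance
  have hTU : ∀ U : C, (T.map (sheafToPresheaf J AddCommGrpCat.{w} ⋙ (evaluation Cᵒᵖ AddCommGrpCat.{w}).obj (op U))).Exact := by
    intro U
    exact hT.map_of_mono_of_preservesKernel _ hTm inferInstance
  have hinj : ∀ U : C, Function.Injective ((kernel.ι S.g).hom.app (op U)) := by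
    intro U
    have : Mono ((sheafToPresheaf J AddCommGrpCat.{w} ⋙ (evaluation Cᵒᵖ AddCommGrpCat.{w}).obj (op U)).map (kernel.ι S.g)) := inferInstance
    exact (AddCommGrpCat.mono_iff_injective _).1 this
  have hkι : ∀ (U : C) (x : S.X₁.obj.obj (op U)), (kernel.ι S.g).hom.app (op U) (k.hom.app (op U) x) = S.f.hom.app (op U) x := by
    intro U x
    have h1 : k ≫ kernel.ι S.g = S.f := kernel.lift_ι _ _ _
    have h2 : k.hom.app (op U) ≫ (kernel.ι S.g).hom.app (op U) = S.f.hom.app (op U) := by
      rw [← h1]; rfl
    rw [← h2]; rfl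
  have hιg : ∀ (U : C) (y : (kernel S.g).obj.obj (op U)), S.g.hom.app (op U) ((kernel.ι S.g).hom.app (op U) y) = 0 := by
    intro U y
    have h1 : kernel.ι S.g ≫ S.g = 0 := kernel.condition _
    have h2 : (kernel.ι S.g).hom.app (op U) ≫ S.g.hom.app (op U) = 0 := by
      have : (kernel.ι S.g ≫ S.g).hom.app (op U) = 0 := by rw [h1]; rfl
      exact this
    have h3 : ((kernel.ι S.g).hom.app (op U) ≫ S.g.hom.app (op U)) y = 0 := by rw [h2]; rfl
    exact h3
  have hex : ∀ (U : C) (x₂ : S.X₂.obj.obj (op U)), S.g.hom.app (op U) x₂ = 0 → ∃ y : (kernel S.g).obj.obj (op U), (kernel.ι S.g).hom.app (op U) y = x₂ := by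
    intro U x₂ hx
    exact (ShortComplex.ab_exact_iff _).1 (hTU U) x₂ hx
  constructor
  · intro hls U hU
    rw [ShortComplex.ab_exact_iff]
    intro x₂ hx
    obtain ⟨y, hy⟩ := hex U x₂ hx
    let kT : (sheafCompose J (forget AddCommGrpCat.{w})).obj S.X₁ ⟶ (sheafCompose J (forget AddCommGrpCat.{w})).obj (kernel S.g) := (sheafCompose J (forget AddCommGrpCat.{w})).map k
    have hkT : Sheaf.IsLocallySurjective kT := by
      have := (Presheaf.isLocallySurjective_iff_whisker_forget J k.hom).1 hls
      exact this
    have hepi : Epi kT := inferInstance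
    obtain ⟨x, hx1⟩ := hB U hU _ _ kT hepi y
    refine ⟨x, ?_⟩
    have hx2 : k.hom.app (op U) x = y := hx1
    have := hkι U x
    rw [hx2, hy] at this
    exact this.symm
  · intro h
    refine ⟨fun {V} s => ?_⟩
    obtain ⟨S', hS', hfac⟩ := hcov V
    refine J.superset_covering (fun W f hf => ?_) hS'
    obtain ⟨U, g, h', hU, rfl⟩ := hfac f hf
    set y := (kernel S.g).obj.map h'.op s with hy
    obtain ⟨x0, hx⟩ := (ShortComplex.ab_exact_iff _).1 (h U hU) ((kernel.ι S.g).hom.app (op U) y) (hιg U y)
    obtain ⟨x, hx'⟩ : ∃ x : S.X₁.obj.obj (op U), S.f.hom.app (op U) x = (kernel.ι S.g).hom.app (op U) y := ⟨x0, hx⟩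
    have hkx : k.hom.app (op U) x = y := by
      apply hinj U
      rw [hkι, hx']
    refine ⟨S.X₁.obj.map g.op x, ?_⟩
    have hn := NatTrans.naturality_apply k.hom g.op x
    rw [hkx] at hn
    show k.hom.app (op W) (S.X₁.obj.map g.op x) = (kernel S.g).obj.map (g ≫ h').op s
    rw [hn, hy, op_comp, Functor.map_comp]
    rfl

end Groth.Agent.S19540
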