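import Groth.Statements.S19547
import Mathlib

set_option autoImplicit false
universe u
open TensorProduct
open Desc

namespace Groth.Agent.S19547


/-- Let A → A' be a faithfully flat homomorphism of commutative rings, M' an A'-module and φ : M' ⊗_A A'
→ A' ⊗_A M' an isomorphism of (A' ⊗_A A')-modules for the diagonal actions (x ⊗ y)(u ⊗ z) = xu ⊗ yz
and (x ⊗ y)(z ⊗ u) = xz ⊗ yu, satisfying the cocycle condition φ_13 = φ_23 ∘ φ_12 between the three
pullbacks to A' ⊗_A A' ⊗_A A'. Here linearity over A' ⊗_A A' is stated on the generators x ⊗ 1 and 1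
⊗ y, and the cocycle condition on pure tensors u ⊗ a ⊗ b: writing φ(u ⊗ a) = Σ a_i ⊗ u_i, it says Σ
a_i ⊗ φ(u_i ⊗ b) = Σ b_j ⊗ a ⊗ u'_j where φ(u ⊗ b) = Σ b_j ⊗ u'_j. Let M = {u ∈ M' : φ(u ⊗ 1) = 1 ⊗
u}, an A-submodule of M'. Then the canonical map λ : A' ⊗_A M → M', x ⊗ u ↦ xu, is an isomorphism. -/
theorem result (A A' : Type u) [CommRing A] [CommRing A']
    [Algebra A A'] [Module.FaithfullyFlat A A'] (M' : Type u) [AddCommGroup M'] [Module A M']
    [Module A' M'] [IsScalarTower A A' M']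
    (φ : M' ⊗[A] A' →ₗ[A] A' ⊗[A] M') (hφ : Function.Bijective φ)
    (h1 : ∀ (x : A') (u : M') (z : A'),
      φ ((x • u) ⊗ₜ[A] z) = LinearMap.rTensor M' (LinearMap.mulLeft A x) (φ (u ⊗ₜ[A] z)))
    (h2 : ∀ (y : A') (u : M') (z : A'),
      φ (u ⊗ₜ[A] (y * z)) = LinearMap.lTensor A' (Algebra.lsmul A A M' y) (φ (u ⊗ₜ[A] z)))
    (hcoc : ∀ (u : M') (a b : A'),
      LinearMap.lTensor A' φ (TensorProduct.assoc A A' M' A' (LinearMap.rTensor A' φ ((u ⊗ₜ[A] a) ⊗ₜ[A] b))) =
        LinearMap.lTensor A' (TensorProduct.mk A A' M' a) (φ (u ⊗ₜ[A] b)))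
    (M : Submodule A M') (hM : ∀ u : M', u ∈ M ↔ φ (u ⊗ₜ[A] (1 : A')) = (1 : A') ⊗ₜ[A] u) :
    Function.Bijective
      ((TensorProduct.lift (Algebra.lsmul A A M').toLinearMap) ∘ₗ (LinearMap.lTensor A' M.subtype)) := by
  classical
  let θ : M' →ₗ[A] A' ⊗[A] M' := φ ∘ₗ ((TensorProduct.mk A M' A').flip 1)
  let ι : M' →ₗ[A] A' ⊗[A] M' := TensorProduct.mk A A' M' 1
  let ε : A' ⊗[A] M' →ₗ[A] M' := TensorProduct.lift (Algebra.lsmul A A M').toLinearMap
  have hθ : ∀ u, θ u = φ (u ⊗ₜ[A] (1 : A')) := fun u => rfl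
  have hι : ∀ u, ι u = (1 : A') ⊗ₜ[A] u := fun u => rfl
  have hε : ∀ (b : A') (u : M'), ε (b ⊗ₜ[A] u) = b • u := fun b u => rfl
  have hθinj : Function.Injective θ := by
    intro u v huv
    have h3 : u ⊗ₜ[A] (1 : A') = v ⊗ₜ[A] (1 : A') := hφ.1 huv
    have h4 : (1 : A') ⊗ₜ[A] u = (1 : A') ⊗ₜ[A] v := by
      have := congrArg (TensorProduct.comm A M' A') h3
      simpa using this
    exact Module.FaithfullyFlat.tensorProduct_mk_injective (A := A) (B := A') M' h4
  have P1 : ∀ (x : A') (u : M'),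
      θ (x • u) = LinearMap.rTensor M' (LinearMap.mulLeft A x) (θ u) := fun x u => h1 x u 1
  have key : ∀ t : A' ⊗[A] M',
      LinearMap.lTensor A' φ (TensorProduct.assoc A A' M' A' (t ⊗ₜ[A] (1 : A'))) =
        LinearMap.lTensor A' θ t := by
    intro t
    induction t using TensorProduct.induction_on with
    | zero => simp
    | tmul a u => simp [hθ]
    | add x y hx hy => rw [TensorProduct.add_tmul, map_add, map_add, hx, hy, map_add]
  have P3 : ∀ u, LinearMap.lTensor A' θ (θ u) = LinearMap.lTensor A' ι (θ u) := by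
    intro u
    have := hcoc u 1 1
    rw [LinearMap.rTensor_tmul, key] at this
    exact this
  let m : A' ⊗[A] (A' ⊗[A] M') →ₗ[A] A' ⊗[A] M' :=
    (LinearMap.rTensor M' (LinearMap.mul' A A')) ∘ₗ (TensorProduct.assoc A A' A' M').symm.toLinearMap
  have hm : ∀ (b : A') (t : A' ⊗[A] M'),
      m (b ⊗ₜ[A] t) = LinearMap.rTensor M' (LinearMap.mulLeft A b) t := by
    intro b t
    induction t using TensorProduct.induction_on with
    | zero => simp
    | tmul c u => simp [m]
    | add x y hx hy => rw [TensorProduct.tmul_add, map_add, hx, hy, map_add]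
  have hmι : ∀ t : A' ⊗[A] M', m (LinearMap.lTensor A' ι t) = t := by
    intro t
    induction t using TensorProduct.induction_on with
    | zero => simp
    | tmul b u => rw [LinearMap.lTensor_tmul, hι, hm, LinearMap.rTensor_tmul]; simp
    | add x y hx hy => rw [map_add, map_add, hx, hy]
  have hmθ : ∀ t : A' ⊗[A] M', m (LinearMap.lTensor A' θ t) = θ (ε t) := by
    intro t
    induction t using TensorProduct.induction_on with
    | zero => simp
    | tmul b u => rw [LinearMap.lTensor_tmul, hm, hε, P1]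
    | add x y hx hy => rw [map_add, map_add, hx, hy, map_add, map_add]
  have hcounit : ∀ u, ε (θ u) = u := by
    intro u
    apply hθinj
    rw [← hmθ, P3, hmι]
  have hθl : ∀ w : A' ⊗[A] M,
      θ (ε (LinearMap.lTensor A' M.subtype w)) = LinearMap.lTensor A' M.subtype w := by
    intro w
    induction w using TensorProduct.induction_on with
    | zero => simp
    | tmul b u =>
      rw [LinearMap.lTensor_tmul, hε, P1, Submodule.subtype_apply, hθ, (hM u).mp u.2,
        LinearMap.rTensor_tmul]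
      simp
    | add x y hx hy => rw [map_add, map_add, map_add, hx, hy]
  constructor
  · intro w w' hww'
    have hinj := Module.Flat.lTensor_preserves_injective_linearMap (M := A') M.subtype
      M.injective_subtype
    apply hinj
    rw [← hθl w, ← hθl w']
    exact congrArg θ hww'
  · intro n
    have hex : Function.Exact M.subtype (θ - ι) := by
      intro u
      constructor
      · intro h
        have hu : u ∈ M := (hM u).mpr (sub_eq_zero.mp h)
        exact ⟨⟨u, hu⟩, rfl⟩
      · rintro ⟨v, rfl⟩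
        exact sub_eq_zero.mpr ((hM v).mp v.2)
    have hex' := Module.Flat.lTensor_exact A' hex
    have h5 : (LinearMap.lTensor A' (θ - ι)) (θ n) = 0 := by
      rw [LinearMap.lTensor_sub, LinearMap.sub_apply, P3, sub_self]
    obtain ⟨w, hw⟩ := (hex' (θ n)).mp h5
    refine ⟨w, ?_⟩
    apply hθinj
    rw [LinearMap.comp_apply]
    exact (hθl w).trans hw

end Groth.Agent.S19547
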