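import Groth.Statements.S19548
import Mathlib

set_option autoImplicit false
universe u
open CategoryTheory AlgebraicGeometry
open RedSub

namespace Groth.Agent.S19548

section
variable {idx M N : Type} [AddCommGroup M] [AddCommGroup N]

theorem closure_sum (P : RootPairing idx ℤ M N) (b : P.Base) (m : M)
    (hm : m ∈ AddSubmonoid.closure (P.root '' (b.support : Set idx))) :
    ∃ f : idx → ℕ, m = ∑ j ∈ b.support, f j • P.root j := by
  classical
  refine AddSubmonoid.closure_induction ?_ ⟨0, by simp⟩ ?_ hm
  · rintro - ⟨j, hj, rfl⟩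
    refine ⟨Pi.single j 1, ?_⟩
    rw [Finset.sum_eq_single_of_mem j hj]
    · simp
    · intro k _ hkj
      simp [hkj]
  · intro _ _ _ _ ⟨f, hf'⟩ ⟨g, hg'⟩
    exact ⟨f + g, by simp [hf', hg', add_smul, Finset.sum_add_distrib]⟩

theorem isPos_of_mem (P : RootPairing idx ℤ M N) (b : P.Base) (a : idx)
    (h : a ∈ RedSub.posRoots P b) : b.IsPos a := by
  obtain ⟨f, hf⟩ := closure_sum P b _ h
  have h1 : P.root a = ∑ j ∈ b.support, ((fun j => (f j : ℤ)) j) • P.root j := by
    rw [hf]
    exact Finset.sum_congr rfl fun j _ => (natCast_zsmul _ _).symm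
  rw [RootPairing.Base.isPos_iff', RootPairing.Base.height_eq_sum h1]
  exact Finset.sum_nonneg fun j _ => Int.natCast_nonneg _

theorem not_isPos_of_mem (P : RootPairing idx ℤ M N) (b : P.Base) (a : idx)
    (h : a ∈ RedSub.negRoots P b) : ¬ b.IsPos a := by
  obtain ⟨f, hf⟩ := closure_sum P b _ h
  have h1 : P.root a = ∑ j ∈ b.support, ((fun j => -(f j : ℤ)) j) • P.root j := by
    rw [← neg_neg (P.root a), hf, ← Finset.sum_neg_distrib]
    exact Finset.sum_congr rfl fun j _ => by rw [neg_smul, natCast_zsmul]
  rw [RootPairing.Base.isPos_iff, RootPairing.Base.height_eq_sum h1, not_lt, Finset.sum_neg_distrib,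
    neg_nonpos]
  exact Finset.sum_nonneg fun j _ => Int.natCast_nonneg _

theorem refl_conj (P : RootPairing idx ℤ M N) (i j : idx) :
    P.reflectionPerm (P.reflectionPerm j i) =
      P.reflectionPerm j * P.reflectionPerm i * P.reflectionPerm j := by
  ext k
  apply P.root.injective
  simp only [Equiv.Perm.mul_apply, RootPairing.root_reflectionPerm,
    RootPairing.reflection_reflectionPerm]
  rfl

theorem wordPerm_cons (P : RootPairing idx ℤ M N) (x : idx) (l : List idx) :
    RedSub.wordPerm P (x :: l) = P.reflectionPerm x * RedSub.wordPerm P l := by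
  simp [RedSub.wordPerm]

theorem wordPerm_append (P : RootPairing idx ℤ M N) (l₁ l₂ : List idx) :
    RedSub.wordPerm P (l₁ ++ l₂) = RedSub.wordPerm P l₁ * RedSub.wordPerm P l₂ := by
  simp [RedSub.wordPerm]

theorem word_conj (P : RootPairing idx ℤ M N) (l : List idx) (a : idx) :
    P.reflectionPerm (RedSub.wordPerm P l a) =
      RedSub.wordPerm P l * P.reflectionPerm a * (RedSub.wordPerm P l)⁻¹ := by
  induction l generalizing a with
  | nil => simp [RedSub.wordPerm]
  | cons x l ih =>
    rw [wordPerm_cons, Equiv.Perm.mul_apply, refl_conj, ih, mul_inv_rev,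
      RootPairing.reflectionPerm_inv]
    group
end

/-- Let Φ be a finite reduced root system (a reduced root pairing over ℤ on a finite index set) with a
base b, let w = σ_{α_1} ⋯ σ_{α_ℓ} be a reduced decomposition of a Weyl group element into simple
reflections (every α_j in the base, and no shorter word in the simple reflections gives the same
permutation of the roots), and let γ be a positive root with w⁻¹(γ) negative. Then for some i with 1
≤ i ≤ ℓ one has σ_γ σ_{α_1} ⋯ σ_{α_i} = σ_{α_1} ⋯ σ_{α_{i-1}}. (Indices are shifted by one below: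
the word is a list and the prefixes are its first i + 1 and first i letters.) -/
theorem result {idx M N : Type}
    [AddCommGroup M] [AddCommGroup N] [Finite idx]
    (P : RootPairing idx ℤ M N) [P.IsReduced] (b : P.Base) (l : List idx)
    (hl : ∀ a ∈ l, a ∈ b.support)
    (hred : ∀ l' : List idx, (∀ a ∈ l', a ∈ b.support) →
      RedSub.wordPerm P l' = RedSub.wordPerm P l → l.length ≤ l'.length)
    (c : idx) (hc : c ∈ RedSub.posRoots P b) (hneg : (RedSub.wordPerm P l).symm c ∈ RedSub.negRoots P b) :
    ∃ i : ℕ, i < l.length ∧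
      P.reflectionPerm c * RedSub.wordPerm P (l.take (i + 1)) = RedSub.wordPerm P (l.take i) := by
  classical
  have hstep : ∀ i, ∀ hi : i < l.length,
      RedSub.wordPerm P (l.take (i+1)) =
        RedSub.wordPerm P (l.take i) * P.reflectionPerm l[i] := by
    intro i hi
    rw [List.take_succ_eq_append_getElem hi, wordPerm_append]
    simp [RedSub.wordPerm]
  have hex : ∃ i, ∃ hi : i < l.length, b.IsPos ((RedSub.wordPerm P (l.take i)).symm c) ∧
      ¬ b.IsPos ((RedSub.wordPerm P (l.take (i+1))).symm c) := by
    by_contra hcon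
    push Not at hcon
    have hall : ∀ i, i ≤ l.length → b.IsPos ((RedSub.wordPerm P (l.take i)).symm c) := by
      intro i
      induction i with
      | zero =>
        intro _
        have h0 : (RedSub.wordPerm P (l.take 0)).symm c = c := by
          simp [RedSub.wordPerm]
          rfl
        rw [h0]
        exact isPos_of_mem P b c hc
      | succ i ih =>
        intro hi
        exact hcon i (by omega) (ih (by omega))
    have := hall l.length le_rfl
    rw [List.take_length] at this
    exact not_isPos_of_mem P b _ hneg this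
  obtain ⟨i, hi, hpos, hnp⟩ := hex
  refine ⟨i, hi, ?_⟩
  have hαs : l[i] ∈ b.support := hl _ (List.getElem_mem hi)
  rw [hstep i hi] at hnp ⊢
  have h1 : (RedSub.wordPerm P (l.take i) * P.reflectionPerm l[i]).symm c =
      P.reflectionPerm l[i] ((RedSub.wordPerm P (l.take i)).symm c) := by
    have : (RedSub.wordPerm P (l.take i) * P.reflectionPerm l[i]).symm =
        (P.reflectionPerm l[i]).symm * (RedSub.wordPerm P (l.take i)).symm := rfl
    rw [this, Equiv.Perm.mul_apply, RootPairing.reflectionPerm_symm]
  rw [h1] at hnp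
  have h2 : (RedSub.wordPerm P (l.take i)).symm c = l[i] := by
    by_contra hne
    exact hnp (hpos.reflectionPerm hαs hne)
  have h3 : c = RedSub.wordPerm P (l.take i) l[i] := by
    rw [← h2]; simp
  rw [h3, word_conj]
  have hsq : P.reflectionPerm l[i] * P.reflectionPerm l[i] = 1 := by
    rw [← sq, RootPairing.reflectionPerm_sq]
  calc RedSub.wordPerm P (l.take i) * P.reflectionPerm l[i] * (RedSub.wordPerm P (l.take i))⁻¹ *
        (RedSub.wordPerm P (l.take i) * P.reflectionPerm l[i])
      = RedSub.wordPerm P (l.take i) * (P.reflectionPerm l[i] * P.reflectionPerm l[i]) := by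
        group
    _ = RedSub.wordPerm P (l.take i) := by rw [hsq, mul_one]

end Groth.Agent.S19548
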