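import Groth.Statements.S19550
import Groth.Agent.S15610

set_option autoImplicit false
universe u
open SchFin SchFin.RSpace

namespace Groth.Agent.S19550aux

open SchFin SchFin.RSpace

set_option backward.isDefEq.respectTransparency false
set_option backward.isDefEq.respectTransparency.types false
set_option maxHeartbeats 400000

theorem main (X : RSpace.{u})
    (hX : X.IsSchematic) (hW : X.IsWellConnected) (F E : Type) [Finite F] [Finite E]
    (f : ∀ p : X.pt, (F → X.ring p) →ₐ[X.ring p] (E → X.ring p))
    (hf : ∀ (p q : X.pt) (h : p ≤ q) (g : F → X.ring p) (e : E),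
      X.res h (f p g e) = f q (fun i => X.res h (g i)) e) :
    ∃ φ : E → F, ∀ (p : X.pt) (g : F → X.ring p) (e : E), f p g e = g (φ e) := by
  classical
  obtain ⟨htop, hpw⟩ := (Groth.Agent.S15610.result X hX).1 hW
  haveI : Fintype F := Fintype.ofFinite F
  let c : ∀ p : X.pt, F → E → X.ring p := fun p i e => f p (Pi.single i 1) e
  have hnt : ∀ p, Nontrivial (X.ring p) :=
    fun p => ((Groth.Agent.S15610aux.spec_conn _).1 (hpw p)).1
  have h01 : ∀ p i e, c p i e = 0 ∨ c p i e = 1 := by
    intro p i e
    apply ((Groth.Agent.S15610aux.spec_conn _).1 (hpw p)).2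
    show c p i e * c p i e = c p i e
    have h1 : (Pi.single i (1 : X.ring p) : F → X.ring p) * Pi.single i 1 = Pi.single i 1 := by
      rw [← Pi.single_mul, mul_one]
    have h2 := congrFun (congrArg (f p) h1) e
    rw [map_mul] at h2
    exact h2
  have horth : ∀ p i j e, i ≠ j → c p i e * c p j e = 0 := by
    intro p i j e hij
    have h1 : (Pi.single i (1 : X.ring p) : F → X.ring p) * Pi.single j 1 = 0 := by
      funext k
      simp only [Pi.mul_apply, Pi.single_apply, Pi.zero_apply]
      by_cases hki : k = i
      · have hkj : ¬ k = j := fun h => hij (hki.symm.trans h)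
        rw [if_neg hkj, mul_zero]
      · rw [if_neg hki, zero_mul]
    have h2 := congrFun (congrArg (f p) h1) e
    rw [map_mul, map_zero] at h2
    exact h2
  have hsum : ∀ p e, ∑ i, c p i e = 1 := by
    intro p e
    have h1 : (∑ i, (Pi.single i (1 : X.ring p) : F → X.ring p)) = 1 := by
      funext k
      simp [Finset.sum_apply, Pi.single_apply]
    have h2 := congrFun (congrArg (f p) h1) e
    rw [map_sum, map_one, Finset.sum_apply] at h2
    exact h2
  have hex : ∀ p e, ∃ i, c p i e = 1 := by
    intro p e
    by_contra hno
    simp only [not_exists] at hno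
    have h0 : ∀ i, c p i e = 0 := fun i => (h01 p i e).resolve_right (hno i)
    have h1 := hsum p e
    simp only [h0, Finset.sum_const_zero] at h1
    haveI := hnt p
    exact zero_ne_one h1
  have huniq : ∀ p e i j, c p i e = 1 → c p j e = 1 → i = j := by
    intro p e i j hi hj
    by_contra hij
    have h1 := horth p i j e hij
    rw [hi, hj, mul_one] at h1
    haveI := hnt p
    exact one_ne_zero h1
  have hres : ∀ (p q : X.pt) (h : p ≤ q) i e, X.res h (c p i e) = c q i e := by
    intro p q h i e
    show X.res h (f p (Pi.single i 1) e) = f q (Pi.single i 1) e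
    rw [hf p q h]
    have h1 : (fun k => X.res h ((Pi.single i (1 : X.ring p) : F → X.ring p) k)) =
        Pi.single i 1 := by
      funext k
      by_cases hk : k = i
      · subst hk
        rw [Pi.single_eq_same, Pi.single_eq_same, map_one]
      · rw [Pi.single_eq_of_ne hk, Pi.single_eq_of_ne hk, map_zero]
    rw [h1]
  have hup : ∀ (p q : X.pt), p ≤ q → ∀ i e, (c p i e = 1 ↔ c q i e = 1) := by
    intro p q h i e
    constructor
    · intro hi
      rw [← hres p q h, hi, map_one]
    · intro hi
      obtain ⟨j, hj⟩ := hex p e
      have hj' : c q j e = 1 := by rw [← hres p q h, hj, map_one]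
      have hij := huniq q e i j hi hj'
      rw [hij]
      exact hj
  have hall : ∀ p q : X.pt, ∀ i e, (c p i e = 1 ↔ c q i e = 1) := by
    intro p q
    have hpq := htop.2 p q
    induction hpq with
    | rel a b hab => exact hup a b hab
    | refl a => exact fun i e => Iff.rfl
    | symm a b _ ih => exact fun i e => (ih i e).symm
    | trans a b d _ _ ih1 ih2 => exact fun i e => (ih1 i e).trans (ih2 i e)
  obtain ⟨p₀⟩ := htop.1
  choose φ hφ using hex p₀
  refine ⟨φ, fun p g e => ?_⟩
  have hc1 : c p (φ e) e = 1 := (hall p₀ p (φ e) e).1 (hφ e)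
  have hc0 : ∀ i, i ≠ φ e → c p i e = 0 := by
    intro i hi
    have h1 := horth p i (φ e) e hi
    rw [hc1, mul_one] at h1
    exact h1
  have hg : g = ∑ i, g i • (Pi.single i (1 : X.ring p) : F → X.ring p) := by
    funext k
    simp [Finset.sum_apply, Pi.single_apply]
  have h1 : f p g e = ∑ i, g i * c p i e := by
    conv_lhs => rw [hg]
    rw [map_sum, Finset.sum_apply]
    refine Finset.sum_congr rfl (fun i _ => ?_)
    rw [map_smul]
    rfl
  rw [h1, Finset.sum_eq_single (φ e) (fun i _ hi => by rw [hc0 i hi, mul_zero])
    (fun h => absurd (Finset.mem_univ _) h), hc1, mul_one]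

end Groth.Agent.S19550aux

namespace Groth.Agent.S19550

open SchFin in
/-- Let X be a well-connected schematic finite space and f : A → B a morphism of quasi-coherent algebras
between trivial étale covers A ≅ O_X^F and B ≅ O_X^E, F and E finite sets. Then f is induced by a
map of finite sets φ : E → F. Here the trivial algebras are written out: f is a family of
O_p-algebra maps (F → O_p) → (E → O_p), one for each point p, compatible with the restriction maps,
and the conclusion says f_p(g) = g ∘ φ for every p and g. (The published statement names a map F →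
E; a map of algebras of functions O^F → O^E is composition with a map E → F, which is what this row
states.) -/
theorem result (X : RSpace.{u})
    (hX : X.IsSchematic) (hW : X.IsWellConnected) (F E : Type) [Finite F] [Finite E]
    (f : ∀ p : X.pt, (F → X.ring p) →ₐ[X.ring p] (E → X.ring p))
    (hf : ∀ (p q : X.pt) (h : p ≤ q) (g : F → X.ring p) (e : E),
      X.res h (f p g e) = f q (fun i => X.res h (g i)) e) :
    ∃ φ : E → F, ∀ (p : X.pt) (g : F → X.ring p) (e : E), f p g e = g (φ e) := by
  exact Groth.Agent.S19550aux.main X hX hW F E f hf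

end Groth.Agent.S19550
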