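import Groth.Statements.S19552
import Mathlib
import Groth.Agent.S19545
-- import your own Groth.Agent.* helpers here

set_option autoImplicit false
universe u
open CAlg

namespace Groth.Agent.S19552


section
open Module

/-- `(ι → A × B) ≃ₗ (ι → A) × (ι → B)`. -/
def piProdEquiv (R : Type*) [CommRing R] (ι : Type*) (A B : Type*) [AddCommGroup A] [Module R A]
    [AddCommGroup B] [Module R B] : (ι → A × B) ≃ₗ[R] (ι → A) × (ι → B) where
  toFun f := (fun i => (f i).1, fun i => (f i).2)
  invFun g := fun i => (g.1 i, g.2 i)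
  map_add' _ _ := rfl
  map_smul' _ _ := rfl
  left_inv _ := rfl
  right_inv _ := rfl

theorem proj_pi (R : Type*) [CommRing R] (N : ℕ) (P : Type*) [AddCommGroup P] [Module R P]
    [Module.Projective R P] : Module.Projective R (Fin N → P) :=
  Module.Projective.of_equiv (DFinsupp.linearEquivFunOnFintype (R := R) (M := fun _ : Fin N => P))

theorem rank_pi (R : Type*) [CommRing R] (N n : ℕ) (P : Type*) [AddCommGroup P] [Module R P]
    [Module.Finite R P] [Module.Projective R P]
    (hrk : ∀ p : PrimeSpectrum R, Module.rankAtStalk (R := R) P p = n) (p : PrimeSpectrum R) :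
    Module.rankAtStalk (R := R) (Fin N → P) p = N * n := by
  rw [Module.rankAtStalk_pi (fun _ : Fin N => P) p, finsum_eq_sum_of_fintype]
  simp [hrk p]

theorem main (R : Type u) [CommRing R] [IsNoetherianRing R]
    (d n : ℕ) (hdim : ringKrullDim R = d)
    (P Q : Type u) [AddCommGroup P] [Module R P] [Module.Finite R P] [Module.Projective R P]
    [AddCommGroup Q] [Module R Q] [Module.Finite R Q] [Module.Projective R Q]
    (hrk : ∀ p : PrimeSpectrum R, Module.rankAtStalk (R := R) P p = n)
    (hrk' : ∀ p : PrimeSpectrum R, Module.rankAtStalk (R := R) Q p = n)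
    (m : ℕ) (e : (P × (Fin m → R)) ≃ₗ[R] (Q × (Fin m → R))) :
    ∃ N : ℕ, 1 ≤ N ∧ Nonempty ((Fin N → P) ≃ₗ[R] (Fin N → Q)) := by
  rcases Nat.eq_zero_or_pos n with hn | hn
  · subst hn
    have hP : Subsingleton P :=
      Module.rankAtStalk_eq_zero_iff_subsingleton.mp (funext fun p => by simpa using hrk p)
    have hQ : Subsingleton Q :=
      Module.rankAtStalk_eq_zero_iff_subsingleton.mp (funext fun p => by simpa using hrk' p)
    refine ⟨1, le_rfl, ⟨?_⟩⟩
    exact
      { toFun := fun _ => 0
        invFun := fun _ => 0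
        map_add' := fun _ _ => Subsingleton.elim _ _
        map_smul' := fun _ _ => Subsingleton.elim _ _
        left_inv := fun _ => Subsingleton.elim _ _
        right_inv := fun _ => Subsingleton.elim _ _ }
  · refine ⟨d + 1, Nat.succ_le_succ (Nat.zero_le d), ?_⟩
    haveI : Module.Projective R (Fin (d + 1) → P) := proj_pi R (d + 1) P
    haveI : Module.Projective R (Fin (d + 1) → Q) := proj_pi R (d + 1) Q
    -- the free part
    let c : (Fin (d + 1) → (Fin m → R)) ≃ₗ[R] (Fin ((d + 1) * m) → R) :=
      (LinearEquiv.curry R R (Fin (d + 1)) (Fin m)).symm ≪≫ₗ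
        LinearEquiv.funCongrLeft R R (finProdFinEquiv (m := d + 1) (n := m)).symm
    let e' : ((Fin (d + 1) → P) × (Fin ((d + 1) * m) → R)) ≃ₗ[R]
        ((Fin (d + 1) → Q) × (Fin ((d + 1) * m) → R)) :=
      (LinearEquiv.prodCongr (LinearEquiv.refl R _) c.symm) ≪≫ₗ
        (piProdEquiv R (Fin (d + 1)) P (Fin m → R)).symm ≪≫ₗ
        (LinearEquiv.piCongrRight fun _ : Fin (d + 1) => e) ≪≫ₗ
        (piProdEquiv R (Fin (d + 1)) Q (Fin m → R)) ≪≫ₗ
        (LinearEquiv.prodCongr (LinearEquiv.refl R _) c)
    have hlt : d < (d + 1) * n := by nlinarith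
    exact Groth.Agent.S19545.result R d ((d + 1) * n) hdim (Fin (d + 1) → P) (Fin (d + 1) → Q)
      (rank_pi R (d + 1) n P hrk) (rank_pi R (d + 1) n Q hrk') hlt ((d + 1) * m) e'

end

/-- Let R be a Noetherian ring of Krull dimension d and P, Q finitely generated projective R-modules of
constant rank at every prime which have the same class in the Grothendieck group, i.e. are stably
isomorphic: P ⊕ R^m ≅ Q ⊕ R^m for some m. Then there is a positive integer N with P^N ≅ Q^N. (The
two exponents in the published display are read as the same integer N; for modules of positive rank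
an isomorphism between direct powers forces equal exponents.) -/
theorem result (R : Type u) [CommRing R] [IsNoetherianRing R]
    (d n : ℕ) (hdim : ringKrullDim R = d)
    (P Q : Type u) [AddCommGroup P] [Module R P] [Module.Finite R P] [Module.Projective R P]
    [AddCommGroup Q] [Module R Q] [Module.Finite R Q] [Module.Projective R Q]
    (hrk : ∀ p : PrimeSpectrum R, Module.rankAtStalk (R := R) P p = n)
    (hrk' : ∀ p : PrimeSpectrum R, Module.rankAtStalk (R := R) Q p = n)
    (m : ℕ) (e : (P × (Fin m → R)) ≃ₗ[R] (Q × (Fin m → R))) :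
    ∃ N : ℕ, 1 ≤ N ∧ Nonempty ((Fin N → P) ≃ₗ[R] (Fin N → Q)) := by
  exact main R d n hdim P Q hrk hrk' m e

end Groth.Agent.S19552
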