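import Groth.Statements.S19560
import Mathlib

set_option autoImplicit false
universe u
open W4c1limliniiii

namespace Groth.Agent.S19560


open Polynomial W4c1limliniiii

section Aux
variable {k : Type u} [Field k]

theorem wronskian_sub_C_mul (F G : k[X]) (c : k) : wronskian F (G - C c * F) = wronskian F G := by
  unfold wronskian
  rw [derivative_sub, derivative_C_mul]
  ring

theorem finrank_span_pair_le_one (F G : k[X]) (c : k) (hG : G = C c * F) :
    Module.finrank k (Submodule.span k ({F, G} : Set k[X])) ≤ 1 := by
  have hmem : G ∈ Submodule.span k ({F} : Set k[X]) := by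
    rw [hG, C_mul']
    exact Submodule.smul_mem _ c (Submodule.subset_span rfl)
  rw [Set.pair_comm, Submodule.span_insert_eq_span hmem]
  have h := finrank_span_finset_le_card (R := k) ({F} : Finset k[X])
  rw [Finset.card_singleton] at h
  unfold Set.finrank at h
  rw [Finset.coe_singleton] at h
  exact h

theorem rootMult_neg (q : k[X]) (a : k) : (-q).rootMultiplicity a = q.rootMultiplicity a := by
  by_cases hq : q = 0
  · rw [hq, neg_zero]
  · have h1 : -q = C (-1 : k) * q := by rw [C_neg, C_1]; ring
    have h2 : C (-1 : k) * q ≠ 0 := by rw [← h1]; exact neg_ne_zero.mpr hq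
    rw [h1, rootMultiplicity_mul h2, rootMultiplicity_C, zero_add]

theorem core (p : ℕ) [CharP k p] (F G : k[X])
    (hfr : Module.finrank k (Submodule.span k ({F, G} : Set k[X])) = 2)
    (hW : wronskian F G ≠ 0) (a : k) (hFa : F.eval a ≠ 0) (e : ℕ)
    (he : (wronskian F G).rootMultiplicity a + 1 = e) (hp : p = 0 ∨ e - 1 < p) :
    HasRamIdx (Submodule.span k ({F, G} : Set k[X])) a e ∧ ¬ p ∣ e := by
  obtain ⟨c, hc⟩ : ∃ c : k, c = G.eval a / F.eval a := ⟨_, rfl⟩
  obtain ⟨t, ht⟩ : ∃ t : k[X], t = G - C c * F := ⟨_, rfl⟩
  have hta : t.eval a = 0 := by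
    rw [ht, eval_sub, eval_mul, eval_C, hc, div_mul_cancel₀ _ hFa, sub_self]
  have ht0 : t ≠ 0 := by
    intro h0
    have hG : G = C c * F := sub_eq_zero.mp (ht ▸ h0)
    have := finrank_span_pair_le_one F G c hG
    omega
  have hWt : wronskian F t = wronskian F G := by rw [ht]; exact wronskian_sub_C_mul F G c
  have htV : t ∈ Submodule.span k ({F, G} : Set k[X]) := by
    rw [ht, C_mul']
    exact Submodule.sub_mem _ (Submodule.subset_span (by simp))
      (Submodule.smul_mem _ c (Submodule.subset_span (by simp)))
  obtain ⟨u, hu, hudvd⟩ := exists_eq_pow_rootMultiplicity_mul_and_not_dvd t ht0 a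
  have hua : u.eval a ≠ 0 := fun h => hudvd (dvd_iff_isRoot.mpr h)
  have hmpos : 0 < t.rootMultiplicity a := (rootMultiplicity_pos ht0).mpr hta
  obtain ⟨m', hm'⟩ : ∃ m', t.rootMultiplicity a = m' + 1 := ⟨t.rootMultiplicity a - 1, by omega⟩
  rw [hm'] at hu
  obtain ⟨B, hB⟩ : ∃ B : k[X], B = F * (C ((m' + 1 : ℕ) : k) * u + (X - C a) * derivative u) -
      derivative F * ((X - C a) * u) := ⟨_, rfl⟩
  have hWB : wronskian F G = (X - C a) ^ m' * B := by
    rw [← hWt]
    unfold wronskian
    rw [hu, derivative_mul, derivative_X_sub_C_pow, Nat.add_sub_cancel, hB]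
    ring
  have hBa : B.eval a = F.eval a * (((m' + 1 : ℕ) : k) * u.eval a) := by
    rw [hB]
    simp only [eval_sub, eval_mul, eval_add, eval_C, eval_X, sub_self, zero_mul, mul_zero,
      add_zero, sub_zero]
  by_cases hm0 : ((m' + 1 : ℕ) : k) = 0
  · exfalso
    have hBroot : IsRoot B a := by rw [IsRoot.def, hBa, hm0, zero_mul, mul_zero]
    obtain ⟨B', hB'⟩ := dvd_iff_isRoot.mpr hBroot
    have hdvd : (X - C a) ^ (m' + 1) ∣ wronskian F G := by
      rw [hWB, hB', pow_succ]
      exact ⟨B', by ring⟩
    have hle : m' + 1 ≤ (wronskian F G).rootMultiplicity a := (le_rootMultiplicity_iff hW).mpr hdvd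
    have hpd : p ∣ m' + 1 := (CharP.cast_eq_zero_iff k p (m' + 1)).mp hm0
    rcases hp with hp | hp
    · rw [hp, zero_dvd_iff] at hpd
      omega
    · have := Nat.le_of_dvd (Nat.succ_pos m') hpd
      omega
  · have hBa0 : ¬ IsRoot B a := by
      intro h
      rw [IsRoot.def, hBa] at h
      exact mul_ne_zero hFa (mul_ne_zero hm0 hua) h
    have hrm : (wronskian F G).rootMultiplicity a = m' := by
      rw [hWB, rootMultiplicity_mul (by rw [← hWB]; exact hW), rootMultiplicity_X_sub_C_pow,
        rootMultiplicity_eq_zero hBa0, add_zero]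
    have hem : e = m' + 1 := by omega
    refine ⟨⟨⟨t, htV, ht0, ?_⟩, ?_⟩, ?_⟩
    · rw [hm', hem]
    · intro s hs hs0
      obtain ⟨α, β, rfl⟩ := Submodule.mem_span_pair.mp hs
      have hs' : α • F + β • G = C (α + β * c) * F + C β * t := by
        rw [smul_eq_C_mul, smul_eq_C_mul, ht, C_add, C_mul]
        ring
      by_cases hγ : α + β * c = 0
      · rw [hs', hγ, C_0, zero_mul, zero_add] at hs0 ⊢
        rw [rootMultiplicity_mul hs0, rootMultiplicity_C, zero_add, hm', hem]
      · have hnr : ¬ IsRoot (α • F + β • G) a := by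
          rw [hs', IsRoot.def, eval_add, eval_mul, eval_mul, eval_C, eval_C, hta, mul_zero,
            add_zero]
          exact mul_ne_zero hγ hFa
        rw [rootMultiplicity_eq_zero hnr]
        exact Nat.zero_le _
    · rw [hem]
      intro hdvd
      exact hm0 ((CharP.cast_eq_zero_iff k p (m' + 1)).mpr hdvd)

end Aux


open Polynomial in
/-- Let k be an algebraically closed field of characteristic p (a prime or zero) and let F, G be
polynomials spanning a base-point-free pencil V of degree d (a two-dimensional space of polynomials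
of degree at most d containing one of degree d and with no common zero in k), so that V encodes a
degree-d self-map F/G of the projective line up to automorphisms of the target. Suppose the
Wronskian W = F′G − FG′ is non-zero and vanishes at the point a to order exactly e − 1 with e ≥ 1,
and that p = 0 or e − 1 < p. Then the map is tamely ramified at a with index e: the largest order of
vanishing at a of a non-zero member of V is e, and p does not divide e. (The hypothesis W ≠ 0 makes
the order of vanishing meaningful; for W = 0 the map is inseparable.) -/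
theorem result
    (k : Type u) [Field k] [IsAlgClosed k] (p : ℕ) [CharP k p]
    (d : ℕ) (F G : k[X]) (hV : W4c1limliniiii.IsPencil d (Submodule.span k {F, G}))
    (hW : Polynomial.wronskian F G ≠ 0) (a : k) (e : ℕ)
    (he : (Polynomial.wronskian F G).rootMultiplicity a + 1 = e) (hp : p = 0 ∨ e - 1 < p) :
    W4c1limliniiii.HasRamIdx (Submodule.span k {F, G}) a e ∧ ¬ p ∣ e := by
  obtain ⟨-, hfr, -, hbpf⟩ := hV
  obtain ⟨s, hs, hsa⟩ := hbpf a
  obtain ⟨α, β, rfl⟩ := Submodule.mem_span_pair.mp hs
  by_cases hFa : F.eval a = 0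
  · have hGa : G.eval a ≠ 0 := by
      intro hGa
      apply hsa
      rw [eval_add, eval_smul, eval_smul, hFa, hGa, smul_zero, smul_zero, add_zero]
    have hswap : Submodule.span k ({G, F} : Set k[X]) = Submodule.span k ({F, G} : Set k[X]) := by
      rw [Set.pair_comm]
    have hWswap : wronskian G F = - wronskian F G := (wronskian_neg_eq F G).symm
    have hrm : (wronskian G F).rootMultiplicity a = (wronskian F G).rootMultiplicity a := by
      rw [hWswap]
      exact rootMult_neg _ a
    have h := core p G F (by rw [hswap]; exact hfr) (by rw [hWswap]; exact neg_ne_zero.mpr hW) a hGa e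
      (by rw [hrm]; exact he) hp
    rw [hswap] at h
    exact h
  · exact core p F G hfr hW a hFa e he hp

end Groth.Agent.S19560
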