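import Groth.Statements.S1957
import Mathlib
import Groth.Agent.S2042

set_option autoImplicit false
universe u
open Polynomial
open EtAlg

namespace Groth.Agent.S1957

set_option linter.style.haveILetI false

/-- Let A be a ring, I an ideal and f a monic polynomial over A. Suppose the image of f in (A/I)[x]
factors as g h where the leading coefficient of g is a unit and g, h generate the unit ideal. Then
there is an etale A-algebra A' such that A/I -> A'/IA' is bijective, together with a factorization f
= g' h' in A'[x] whose reduction modulo IA' is the image of the given one. -/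
theorem result (A : Type u) [CommRing A] (I : Ideal A) (f : A[X]) (hf : f.Monic)
    (g h : (A ⧸ I)[X]) (hgh : f.map (Ideal.Quotient.mk I) = g * h) (hlead : IsUnit g.leadingCoeff)
    (hcop : IsCoprime g h) :
    ∃ (A' : Type u) (_ : CommRing A') (_ : Algebra A A') (_ : Algebra.Etale A A'),
      Function.Bijective (Ideal.quotientMap (I.map (algebraMap A A')) (algebraMap A A') Ideal.le_comap_map) ∧
      ∃ g' h' : A'[X], f.map (algebraMap A A') = g' * h' ∧
        g'.map (Ideal.Quotient.mk (I.map (algebraMap A A'))) =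
          g.map (Ideal.quotientMap (I.map (algebraMap A A')) (algebraMap A A') Ideal.le_comap_map) ∧
        h'.map (Ideal.Quotient.mk (I.map (algebraMap A A'))) =
          h.map (Ideal.quotientMap (I.map (algebraMap A A')) (algebraMap A A') Ideal.le_comap_map) := by
  set u := g.leadingCoeff with hu
  obtain ⟨v, hv⟩ := hlead.exists_left_inv
  obtain ⟨u₀, hu₀⟩ := Ideal.Quotient.mk_surjective u
  have huv : u * v = 1 := by rw [mul_comm]; exact hv
  have hvunit : IsUnit v := IsUnit.of_mul_eq_one u hv
  obtain ⟨g₁, hg₁def⟩ : ∃ g₁ : (A ⧸ I)[X], g₁ = C v * g := ⟨_, rfl⟩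
  obtain ⟨h₁, hh₁def⟩ : ∃ h₁ : (A ⧸ I)[X], h₁ = C u * h := ⟨_, rfl⟩
  have hg₁ : g₁.Monic := by
    rw [hg₁def]; exact Polynomial.monic_C_mul_of_mul_leadingCoeff_eq_one hv
  have hprod : g₁ * h₁ = g * h := by
    rw [hg₁def, hh₁def]
    calc C v * g * (C u * h) = C (v * u) * (g * h) := by rw [C_mul]; ring
      _ = g * h := by rw [hv, C_1, one_mul]
  have hh₁ : h₁.Monic := by
    have : (g₁ * h₁).Monic := by rw [hprod, ← hgh]; exact hf.map _
    exact hg₁.of_mul_monic_left this
  have hcop₁ : IsCoprime g₁ h₁ := by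
    rw [hg₁def, hh₁def]
    exact (isCoprime_mul_unit_left_left (Polynomial.isUnit_C.mpr hvunit) g _).mpr
      ((isCoprime_mul_unit_left_right (Polynomial.isUnit_C.mpr hlead) g h).mpr hcop)
  obtain ⟨A', _, _, hA', hunit, hbij, g₁', h₁', -, -, hfac, hg', hh'⟩ :=
    Groth.Agent.S2042.core I f hf g₁ h₁ hg₁ hh₁ hcop₁ (by rw [hprod]; exact hgh) u₀
      (by rw [hu₀]; exact hlead)
  obtain ⟨w, hw⟩ := hunit.exists_right_inv
  have hmap : algebraMap (A ⧸ I) (A' ⧸ I.map (algebraMap A A')) =
      Ideal.quotientMap (I.map (algebraMap A A')) (algebraMap A A') Ideal.le_comap_map := rfl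
  have hmku : Ideal.Quotient.mk (I.map (algebraMap A A')) (algebraMap A A' u₀) =
      algebraMap (A ⧸ I) (A' ⧸ I.map (algebraMap A A')) u := by
    rw [← hu₀]; rfl
  refine ⟨A', inferInstance, inferInstance, hA', by rw [← hmap]; exact hbij,
    C (algebraMap A A' u₀) * g₁', C w * h₁', ?_, ?_, ?_⟩
  · rw [hfac]
    calc g₁' * h₁' = C (algebraMap A A' u₀ * w) * (g₁' * h₁') := by rw [hw, C_1, one_mul]
      _ = C (algebraMap A A' u₀) * g₁' * (C w * h₁') := by rw [C_mul]; ring
  · rw [← hmap, Polynomial.map_mul, Polynomial.map_C, hg', hg₁def, Polynomial.map_mul,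
      Polynomial.map_C, ← mul_assoc, ← C_mul, hmku, ← map_mul, huv, map_one, C_1, one_mul]
  · rw [← hmap, Polynomial.map_mul, Polynomial.map_C, hh', hh₁def, Polynomial.map_mul,
      Polynomial.map_C, ← mul_assoc, ← C_mul, ← hmku, ← map_mul, mul_comm w, hw, map_one, C_1,
      one_mul]

end Groth.Agent.S1957
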