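import Groth.Statements.S19573
import Mathlib

set_option autoImplicit false
universe u
open LocInt

namespace Groth.Agent.S19573


section Aux

variable {R : Type u} [CommRing R]

theorem mkQ_eq_sum {n : ℕ} (P : Submodule R (Fin n → R)) (v : Fin n → R) :
    P.mkQ v = ∑ j, v j • P.mkQ (fun c => if j = c then (1 : R) else 0) := by
  conv_lhs => rw [pi_eq_sum_univ v]
  rw [map_sum]
  refine Finset.sum_congr rfl (fun j _ => ?_)
  rw [map_smul]

theorem span_e {n : ℕ} (P : Submodule R (Fin n → R)) :
    Submodule.span R (Set.range fun j : Fin n =>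
      P.mkQ (fun c => if j = c then (1 : R) else 0)) = ⊤ := by
  rw [eq_top_iff]
  rintro y -
  obtain ⟨v, rfl⟩ := Submodule.mkQ_surjective _ y
  rw [mkQ_eq_sum]
  exact Submodule.sum_mem _ (fun i _ =>
    Submodule.smul_mem _ _ (Submodule.subset_span ⟨i, rfl⟩))

theorem smul_ιMulti_eq_zero {n : ℕ} (a : Fin n → R) (i : Fin n)
    (v : Fin n → (Fin n → R) ⧸ Submodule.span R {a})
    (hv : Set.range v ⊆ Set.range (fun j : Fin n =>
      (Submodule.span R {a}).mkQ (fun c => if j = c then (1 : R) else 0))) :
    a i • ExteriorAlgebra.ιMulti R n v = 0 := by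
  classical
  have hv' : ∀ k, ∃ j, (Submodule.span R {a}).mkQ (fun c => if j = c then (1 : R) else 0) = v k :=
    fun k => hv ⟨k, rfl⟩
  choose f hf using hv'
  by_cases hinj : Function.Injective f
  · obtain ⟨k₀, hk₀⟩ := (Finite.injective_iff_surjective.mp hinj) i
    have h1 : ∑ j, a j • ExteriorAlgebra.ιMulti R n (Function.update v k₀
        ((Submodule.span R {a}).mkQ (fun c => if j = c then (1 : R) else 0))) = 0 := by
      simp_rw [← AlternatingMap.map_update_smul]
      rw [← AlternatingMap.map_update_sum, ← mkQ_eq_sum]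
      have h : (Submodule.span R {a}).mkQ a = 0 := by
        rw [Submodule.mkQ_apply, Submodule.Quotient.mk_eq_zero]
        exact Submodule.mem_span_singleton_self a
      rw [h, AlternatingMap.map_update_zero]
    rw [Finset.sum_eq_single i] at h1
    · have hvi : (Submodule.span R {a}).mkQ (fun c => if i = c then (1 : R) else 0) = v k₀ := by
        rw [← hk₀]; exact hf k₀
      rw [hvi, Function.update_eq_self] at h1
      exact h1
    · intro j _ hji
      obtain ⟨k₁, hk₁⟩ := (Finite.injective_iff_surjective.mp hinj) j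
      have hk : k₁ ≠ k₀ := by
        intro h; apply hji; rw [← hk₁, h, hk₀]
      have hz : ExteriorAlgebra.ιMulti R n (Function.update v k₀
          ((Submodule.span R {a}).mkQ (fun c => if j = c then (1 : R) else 0))) = 0 :=
        AlternatingMap.map_eq_zero_of_eq _ _ (i := k₀) (j := k₁)
          (by rw [Function.update_self, Function.update_of_ne hk, ← hf k₁, hk₁]) hk.symm
      rw [hz, smul_zero]
    · intro h; exact absurd (Finset.mem_univ i) h
  · have hnv : ¬ Function.Injective v := by
      intro hvinj
      apply hinj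
      intro k k' hkk
      apply hvinj
      rw [← hf k, ← hf k', hkk]
    rw [AlternatingMap.map_eq_zero_of_not_injective _ v hnv, smul_zero]

theorem span_le_annihilator {n : ℕ} (a : Fin n → R) :
    Ideal.span (Set.range a) ≤
      (⋀[R]^n ((Fin n → R) ⧸ Submodule.span R {a})).annihilator := by
  rw [Ideal.span_le]
  rintro _ ⟨i, rfl⟩
  rw [SetLike.mem_coe, Submodule.mem_annihilator]
  intro x hx
  rw [← exteriorPower.ιMulti_span_fixedDegree_of_span_eq_top R n _
    (span_e (Submodule.span R {a}))] at hx
  refine Submodule.span_induction ?_ ?_ ?_ ?_ hx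
  · rintro _ ⟨v, hv, rfl⟩
    exact smul_ιMulti_eq_zero a i v hv
  · exact smul_zero _
  · intro x y _ _ hx hy
    rw [smul_add, hx, hy, add_zero]
  · intro c x _ hx
    rw [smul_comm, hx, smul_zero]

theorem annihilator_le {n : ℕ} (a : Fin n → R) (r : R)
    (hr : ∀ x ∈ (⋀[R]^n ((Fin n → R) ⧸ Submodule.span R {a})), r • x = 0) :
    r ∈ Ideal.span (Set.range a) := by
  classical
  obtain ⟨I, hI⟩ : ∃ I : Ideal R, I = Ideal.span (Set.range a) := ⟨_, rfl⟩
  rw [← hI]
  obtain ⟨L₀, hL₀⟩ : ∃ L₀ : (Fin n → R) →ₗ[R] (Fin n → R ⧸ I),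
      ∀ v j, L₀ v j = Ideal.Quotient.mk I (v j) :=
    ⟨LinearMap.pi (fun j => (Ideal.Quotient.mkₐ R I).toLinearMap ∘ₗ
      (LinearMap.proj j : (Fin n → R) →ₗ[R] R)), fun v j => rfl⟩
  have hker : Submodule.span R {a} ≤ LinearMap.ker L₀ := by
    rw [Submodule.span_le, Set.singleton_subset_iff, SetLike.mem_coe, LinearMap.mem_ker]
    funext j
    rw [hL₀, Pi.zero_apply, Ideal.Quotient.eq_zero_iff_mem, hI]
    exact Ideal.subset_span ⟨j, rfl⟩
  obtain ⟨L, hL⟩ : ∃ L : ((Fin n → R) ⧸ Submodule.span R {a}) →ₗ[R] (Fin n → R ⧸ I),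
      ∀ v, L ((Submodule.span R {a}).mkQ v) = L₀ v :=
    ⟨(Submodule.span R {a}).liftQ L₀ hker, fun v => rfl⟩
  obtain ⟨g, hg⟩ : ∃ g : ((Fin n → R) ⧸ Submodule.span R {a}) [⋀^Fin n]→ₗ[R] (R ⧸ I),
      ∀ v, g v = Matrix.det (fun k : Fin n => L (v k)) :=
    ⟨{ (((Matrix.detRowAlternating (R := R ⧸ I) (n := Fin n)).toMultilinearMap.restrictScalars
          R).compLinearMap (fun _ => L)) with
        map_eq_zero_of_eq' := fun v i j h hij => by
          show Matrix.det (fun k : Fin n => L (v k)) = 0
          exact Matrix.det_zero_of_row_eq hij (congrArg L h) }, fun v => rfl⟩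
  obtain ⟨ω, hω⟩ : ∃ ω : ⋀[R]^n ((Fin n → R) ⧸ Submodule.span R {a}),
      ω = exteriorPower.ιMulti R n (fun j : Fin n =>
        (Submodule.span R {a}).mkQ (fun c => if j = c then (1 : R) else 0)) := ⟨_, rfl⟩
  have h0 : r • ω = 0 := by
    apply Subtype.ext
    rw [Submodule.coe_smul, Submodule.coe_zero]
    exact hr _ ω.2
  have h1 := congrArg (exteriorPower.alternatingMapLinearEquiv g) h0
  rw [map_smul, map_zero, hω, exteriorPower.alternatingMapLinearEquiv_apply_ιMulti] at h1
  have h2 : g (fun j : Fin n =>
      (Submodule.span R {a}).mkQ (fun c => if j = c then (1 : R) else 0)) = 1 := by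
    rw [hg]
    have h3 : (fun k : Fin n => L ((Submodule.span R {a}).mkQ
        (fun c => if k = c then (1 : R) else 0))) = (1 : Matrix (Fin n) (Fin n) (R ⧸ I)) := by
      funext k c
      rw [hL, hL₀, Matrix.one_apply]
      split_ifs <;> simp
    show Matrix.det (fun k : Fin n => L ((Submodule.span R {a}).mkQ
        (fun c => if k = c then (1 : R) else 0))) = 1
    rw [h3, Matrix.det_one]
  rw [h2] at h1
  have h3 : Ideal.Quotient.mk I r = r • (1 : R ⧸ I) := by
    rw [Algebra.smul_def, mul_one]; rfl
  rw [← Ideal.Quotient.eq_zero_iff_mem, h3, h1]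

theorem part2 {n : ℕ} (a : Fin n → R) (p : PrimeSpectrum R) (i : Fin n)
    (hi : a i ∉ p.asIdeal) :
    p ∈ Module.freeLocus R ((Fin n → R) ⧸ Submodule.span R {a}) ∧
      Module.rankAtStalk ((Fin n → R) ⧸ Submodule.span R {a}) p = n - 1 := by
  classical
  obtain ⟨f₀, hf₀⟩ : ∃ f₀ : (Fin n → R) →ₗ[R] (Fin n → Localization.AtPrime p.asIdeal),
      f₀ = LinearMap.pi (fun j => (Algebra.linearMap R (Localization.AtPrime p.asIdeal)) ∘ₗ
        (LinearMap.proj j : (Fin n → R) →ₗ[R] R)) := ⟨_, rfl⟩
  have hf₀_apply : ∀ v j, f₀ v j = algebraMap R (Localization.AtPrime p.asIdeal) (v j) := by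
    intro v j; rw [hf₀]; rfl
  haveI : IsLocalizedModule p.asIdeal.primeCompl f₀ := by rw [hf₀]; infer_instance
  -- unit
  have hunit : IsUnit (algebraMap R (Localization.AtPrime p.asIdeal) (a i)) :=
    IsLocalization.map_units (Localization.AtPrime p.asIdeal)
      (⟨a i, hi⟩ : p.asIdeal.primeCompl)
  obtain ⟨uinv, hu⟩ : ∃ uinv : Localization.AtPrime p.asIdeal,
      algebraMap R (Localization.AtPrime p.asIdeal) (a i) * uinv = 1 :=
    ⟨_, hunit.mul_val_inv⟩
  obtain ⟨q, hq⟩ : ∃ q : (Fin n → Localization.AtPrime p.asIdeal) →ₗ[Localization.AtPrime p.asIdeal]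
      ({j : Fin n // j ≠ i} → Localization.AtPrime p.asIdeal),
      ∀ v j, q v j = v j - (algebraMap R (Localization.AtPrime p.asIdeal) (a j) * uinv) * v i :=
    ⟨LinearMap.pi (fun j => (LinearMap.proj (j : Fin n) :
        (Fin n → Localization.AtPrime p.asIdeal) →ₗ[Localization.AtPrime p.asIdeal] _) -
      (algebraMap R (Localization.AtPrime p.asIdeal) (a j) * uinv) •
        (LinearMap.proj i : (Fin n → Localization.AtPrime p.asIdeal) →ₗ[Localization.AtPrime p.asIdeal] _)),
      fun v j => rfl⟩
  have hqsurj : Function.Surjective q := by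
    intro w
    refine ⟨fun j => if h : j = i then 0 else w ⟨j, h⟩, ?_⟩
    funext j
    rw [hq, dif_pos rfl, mul_zero, sub_zero, dif_neg j.2]
  have hPloc : (Submodule.span R {a}).localized' (Localization.AtPrime p.asIdeal)
      p.asIdeal.primeCompl f₀ = LinearMap.ker q := by
    rw [Submodule.localized'_eq_span]
    apply le_antisymm
    · rw [Submodule.span_le]
      rintro _ ⟨x, hx, rfl⟩
      obtain ⟨c, rfl⟩ := Submodule.mem_span_singleton.mp hx
      rw [SetLike.mem_coe, LinearMap.mem_ker]
      funext j
      rw [hq, Pi.zero_apply, hf₀_apply, hf₀_apply]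
      simp only [Pi.smul_apply, smul_eq_mul, map_mul]
      linear_combination (-(algebraMap R (Localization.AtPrime p.asIdeal) c *
        algebraMap R (Localization.AtPrime p.asIdeal) (a j))) * hu
    · intro v hv
      rw [LinearMap.mem_ker] at hv
      have hv' : v = (v i * uinv) • f₀ a := by
        funext j
        rw [Pi.smul_apply, smul_eq_mul, hf₀_apply]
        by_cases hj : j = i
        · rw [hj]
          linear_combination (-(v i)) * hu
        · have h5 := congrFun hv ⟨j, hj⟩
          rw [hq, Pi.zero_apply] at h5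
          linear_combination h5
      rw [hv']
      exact Submodule.smul_mem _ _ (Submodule.subset_span
        ⟨a, Submodule.mem_span_singleton_self a, rfl⟩)
  have hcard : Fintype.card {j : Fin n // j ≠ i} = n - 1 := by
    rw [Fintype.card_subtype, Finset.filter_ne' Finset.univ i,
      Finset.card_erase_of_mem (Finset.mem_univ i), Finset.card_univ, Fintype.card_fin]
  obtain ⟨e, -⟩ : ∃ e : ((Fin n → Localization.AtPrime p.asIdeal) ⧸
      (Submodule.span R {a}).localized' (Localization.AtPrime p.asIdeal) p.asIdeal.primeCompl f₀)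
      ≃ₗ[Localization.AtPrime p.asIdeal] ({j : Fin n // j ≠ i} → Localization.AtPrime p.asIdeal),
      True :=
    ⟨(Submodule.quotEquivOfEq _ _ hPloc).trans (q.quotKerEquivOfSurjective hqsurj), trivial⟩
  haveI hfree : Module.Free (Localization.AtPrime p.asIdeal)
      ((Fin n → Localization.AtPrime p.asIdeal) ⧸
      (Submodule.span R {a}).localized' (Localization.AtPrime p.asIdeal) p.asIdeal.primeCompl f₀) :=
    Module.Free.of_equiv e.symm
  have hrank : Module.finrank (Localization.AtPrime p.asIdeal)
      ((Fin n → Localization.AtPrime p.asIdeal) ⧸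
      (Submodule.span R {a}).localized' (Localization.AtPrime p.asIdeal) p.asIdeal.primeCompl f₀)
      = n - 1 := by
    rw [e.finrank_eq, Module.finrank_fintype_fun_eq_card, hcard]
  constructor
  · exact (Module.mem_freeLocus_of_isLocalization p (Localization.AtPrime p.asIdeal) _
      ((Submodule.span R {a}).toLocalizedQuotient' (Localization.AtPrime p.asIdeal)
        p.asIdeal.primeCompl f₀)).mpr hfree
  · obtain ⟨e3, -⟩ : ∃ e3 : LocalizedModule p.asIdeal.primeCompl
        ((Fin n → R) ⧸ Submodule.span R {a}) ≃ₗ[Localization.AtPrime p.asIdeal]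
        ((Fin n → Localization.AtPrime p.asIdeal) ⧸
        (Submodule.span R {a}).localized' (Localization.AtPrime p.asIdeal)
          p.asIdeal.primeCompl f₀), True :=
      ⟨(IsLocalizedModule.linearEquiv p.asIdeal.primeCompl
        (LocalizedModule.mkLinearMap p.asIdeal.primeCompl _)
        ((Submodule.span R {a}).toLocalizedQuotient' (Localization.AtPrime p.asIdeal)
          p.asIdeal.primeCompl f₀)).extendScalarsOfIsLocalization p.asIdeal.primeCompl
          (Localization.AtPrime p.asIdeal), trivial⟩
    show Module.finrank (Localization.AtPrime p.asIdeal)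
      (LocalizedModule p.asIdeal.primeCompl ((Fin n → R) ⧸ Submodule.span R {a})) = n - 1
    rw [e3.finrank_eq, hrank]

end Aux


/-- The first sentence of the lemma together with the description of the closed subscheme Z given in its
proof, in the local model. Let R be a commutative ring, n ≥ 1, a ∈ R^n, and F = R^n / R·a the
cokernel of R → R^n, 1 ↦ a (the zeroth homology of the two-term complex R → R^n). Then the
annihilator ideal of the top exterior power ⋀^n F is the ideal generated by the coordinates a_1, …,
a_n of a, and at every prime p of R off the closed set V(a_1, …, a_n) the module F is free of rank n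
− 1 after localization at p. (The published statement is for a complex on a scheme which is locally
quasi-isomorphic to such a two-term complex L → E with L invertible and E locally free of rank n,
and says that H^0 restricted to the complement of the closed subscheme cut out by the annihilator of
its n-th exterior power is locally free of rank n − 1; this row is the local model.) -/
theorem result (R : Type u) [CommRing R]
    (n : ℕ) (hn : 1 ≤ n) (a : Fin n → R) :
    (⋀[R]^n ((Fin n → R) ⧸ Submodule.span R {a})).annihilator = Ideal.span (Set.range a) ∧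
    ∀ p : PrimeSpectrum R, ¬ Ideal.span (Set.range a) ≤ p.asIdeal →
      p ∈ Module.freeLocus R ((Fin n → R) ⧸ Submodule.span R {a}) ∧
      Module.rankAtStalk ((Fin n → R) ⧸ Submodule.span R {a}) p = n - 1 := by
  refine ⟨le_antisymm (fun r hr => annihilator_le a r (Submodule.mem_annihilator.mp hr))
    (span_le_annihilator a), ?_⟩
  intro p hp
  have hex : ∃ i, a i ∉ p.asIdeal := by
    by_contra hcon
    push Not at hcon
    apply hp
    rw [Ideal.span_le]
    rintro _ ⟨i, rfl⟩
    exact hcon i
  obtain ⟨i, hi⟩ := hex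
  exact part2 a p i hi

end Groth.Agent.S19573
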