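import Groth.Statements.S19589
import Mathlib
import Groth.Agent.Lib.Lead.Azumaya
-- import your own Groth.Agent.* helpers here

set_option autoImplicit false
universe u v
open Brauer

namespace Groth.Agent.S19589


open TensorProduct
open Groth.Agent.Lead.Az in
/-- opposite of a linear map -/
def opL {R : Type*} [CommRing R] {E M : Type*} [AddCommGroup E] [Module R E] [AddCommGroup M]
    [Module R M] (l : E →ₗ[R] M) : Eᵐᵒᵖ →ₗ[R] Mᵐᵒᵖ :=
  (MulOpposite.opLinearEquiv R).toLinearMap ∘ₗ l ∘ₗ (MulOpposite.opLinearEquiv R).symm.toLinearMap

lemma opL_apply {R : Type*} [CommRing R] {E M : Type*} [AddCommGroup E] [Module R E]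
    [AddCommGroup M] [Module R M] (l : E →ₗ[R] M) (x : Eᵐᵒᵖ) :
    opL l x = MulOpposite.op (l x.unop) := rfl

open Groth.Agent.Lead.Az in
/-- the corner argument: `End P` inherits bijectivity of `mulLeftRight` from `End F`
when `P` is a retract of `F`. -/
theorem bij_of_retract {R : Type*} [CommRing R] {P F : Type*} [AddCommGroup P] [Module R P]
    [AddCommGroup F] [Module R F] (f : F →ₗ[R] P) (g : P →ₗ[R] F) (hfg : f ∘ₗ g = LinearMap.id)
    (hM : Function.Bijective (AlgHom.mulLeftRight R (Module.End R F))) :
    Function.Bijective (AlgHom.mulLeftRight R (Module.End R P)) := by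
  have hfg' : ∀ q : P, f (g q) = q := fun q => by
    have := congrArg (fun l => l q) hfg
    simpa using this
  set incl : Module.End R P →ₗ[R] Module.End R F := conjLin R g f with hincl
  set proj : Module.End R F →ₗ[R] Module.End R P := conjLin R f g with hproj
  have hpi : ∀ φ, proj (incl φ) = φ := by
    intro φ
    ext p
    simp [hincl, hproj, hfg']
  set j := TensorProduct.map incl (opL incl) with hj
  set k := TensorProduct.map proj (opL proj) with hk
  have I3 : ∀ t, k (j t) = t := by
    intro t
    induction t using TensorProduct.induction_on with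
    | zero => simp
    | add x y hx hy => rw [map_add, map_add, hx, hy]
    | tmul φ ψ =>
      rw [hj, hk, TensorProduct.map_tmul, TensorProduct.map_tmul, hpi, opL_apply, opL_apply,
        MulOpposite.unop_op, hpi, MulOpposite.op_unop]
  have I1 : ∀ (t : Module.End R P ⊗[R] (Module.End R P)ᵐᵒᵖ) (x : Module.End R F),
      AlgHom.mulLeftRight R (Module.End R F) (j t) x =
        incl (AlgHom.mulLeftRight R (Module.End R P) t (proj x)) := by
    intro t x
    induction t using TensorProduct.induction_on with
    | zero => simp
    | add a b ha hb => rw [map_add, map_add, LinearMap.add_apply, ha, hb, map_add,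
        LinearMap.add_apply, map_add]
    | tmul φ ψ =>
      rw [hj, TensorProduct.map_tmul, AlgHom.mulLeftRight_apply, AlgHom.mulLeftRight_apply,
        opL_apply, MulOpposite.unop_op]
      ext v
      simp [hincl, hproj, Module.End.mul_apply]
  have I2 : ∀ (s : Module.End R F ⊗[R] (Module.End R F)ᵐᵒᵖ) (φ : Module.End R P),
      AlgHom.mulLeftRight R (Module.End R P) (k s) φ =
        proj (AlgHom.mulLeftRight R (Module.End R F) s (incl φ)) := by
    intro s φ
    induction s using TensorProduct.induction_on with
    | zero => simp
    | add a b ha hb => rw [map_add, map_add, LinearMap.add_apply, ha, hb, map_add,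
        LinearMap.add_apply, map_add]
    | tmul a b =>
      rw [hk, TensorProduct.map_tmul, AlgHom.mulLeftRight_apply, AlgHom.mulLeftRight_apply,
        opL_apply, MulOpposite.unop_op]
      ext v
      simp [hincl, hproj, Module.End.mul_apply]
  constructor
  · intro t t' htt'
    have h1 : j t = j t' := by
      apply hM.1
      ext x : 1
      rw [I1, I1, htt']
    rw [← I3 t, ← I3 t', h1]
  · intro G
    obtain ⟨s, hs⟩ := hM.2 (incl ∘ₗ G ∘ₗ proj)
    refine ⟨k s, ?_⟩
    ext φ : 1
    rw [I2, hs]
    simp only [LinearMap.comp_apply]
    rw [hpi, hpi]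

/-- Let R be a commutative ring and P a finitely generated projective R-module which is faithful. Then
End_R(P) is an Azumaya R-algebra. (The published statement is for a finite locally free sheaf E on a
scheme X and the sheaf of algebras End(E); this row is the case of affine X. Azumaya is taken in the
sense that includes faithfulness over R, which is why P is assumed faithful; the published notion
also admits rank zero.) -/
theorem result (R : Type u) [CommRing R]
    (P : Type v) [AddCommGroup P] [Module R P] [Module.Finite R P] [Module.Projective R P]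
    [FaithfulSMul R P] : IsAzumaya R (Module.End R P) := by
  classical
  haveI := Groth.Agent.Lead.Az.finite_end R P
  haveI := Groth.Agent.Lead.Az.projective_end R P
  have hfaith : FaithfulSMul R (Module.End R P) := by
    constructor
    intro r₁ r₂ h
    apply FaithfulSMul.eq_of_smul_eq_smul (α := P)
    intro p
    have := congrArg (fun l : Module.End R P => l p) (h 1)
    simpa using this
  obtain ⟨n, f, g, -, -, hfg⟩ := Module.Finite.exists_comp_eq_id_of_projective R P
  have hfg' : ∀ q : P, f (g q) = q := fun q => by
    have := congrArg (fun l => l q) hfg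
    simpa using this
  have hbij : Function.Bijective (AlgHom.mulLeftRight R (Module.End R P)) := by
    rcases Nat.eq_zero_or_pos n with rfl | hn
    · -- P is trivial, hence R is trivial
      have hP : ∀ p : P, p = 0 := fun p => by
        rw [← hfg' p, Subsingleton.elim (g p) 0, map_zero]
      have hR : Subsingleton R := by
        refine ⟨fun a b => ?_⟩
        apply FaithfulSMul.eq_of_smul_eq_smul (α := P)
        intro p
        rw [hP p, smul_zero, smul_zero]
      haveI : Subsingleton (Module.End R P ⊗[R] (Module.End R P)ᵐᵒᵖ) := Module.subsingleton R _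
      haveI : Subsingleton (Module.End R (Module.End R P)) := Module.subsingleton R _
      exact ⟨fun a b _ => Subsingleton.elim a b, fun y => ⟨0, Subsingleton.elim _ _⟩⟩
    · haveI : Nonempty (Fin n) := ⟨⟨0, hn⟩⟩
      haveI : IsAzumaya R (Matrix (Fin n) (Fin n) R) := IsAzumaya.matrix R (Fin n)
      haveI : IsAzumaya R (Module.End R (Fin n → R)) :=
        IsAzumaya.of_AlgEquiv (e := Matrix.toLinAlgEquiv' (R := R) (n := Fin n))
      exact bij_of_retract f g hfg (IsAzumaya.bij (R := R) (A := Module.End R (Fin n → R)))
  exact { toFaithfulSMul := hfaith, bij := hbij }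

end Groth.Agent.S19589
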