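import Groth.Statements.S1959
import Mathlib

set_option autoImplicit false
universe u
open Polynomial
open EtAlg

namespace Groth.Agent.S1959

set_option linter.style.haveILetI false

/-- Let I be an ideal of a ring A, A -> B an integral ring map and b an element of B whose image in B/IB
is idempotent. Then there are d ≥ 1 and a monic polynomial f over A with f(b) = 0 whose reduction
modulo I is x^d (x - 1)^d. -/
theorem result (A B : Type u) [CommRing A] [CommRing B] [Algebra A B]
    [Algebra.IsIntegral A B] (I : Ideal A) (b : B)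
    (hb : IsIdempotentElem (Ideal.Quotient.mk (I.map (algebraMap A B)) b)) :
    ∃ (f : A[X]) (d : ℕ), f.Monic ∧ 1 ≤ d ∧ aeval b f = 0 ∧
      f.map (Ideal.Quotient.mk I) = X ^ d * (X - 1) ^ d := by
  rcases subsingleton_or_nontrivial A with hA | hA
  · -- degenerate case
    have hB : Subsingleton B := Module.subsingleton A B
    have hQ : Subsingleton (A ⧸ I) :=
      Function.Surjective.subsingleton Ideal.Quotient.mk_surjective
    have hQP : Subsingleton (A ⧸ I)[X] := Polynomial.subsingleton_iff_subsingleton.mpr hQ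
    exact ⟨1, 1, monic_one, le_rfl, Subsingleton.elim _ _, Subsingleton.elim _ _⟩
  set IB := I.map (algebraMap A B) with hIB
  have hc : b * b - b ∈ IB := by
    rw [← Ideal.Quotient.eq_zero_iff_mem, map_sub, map_mul]
    exact sub_eq_zero.mpr hb
  obtain ⟨P₀, hP₀monic, hP₀eval, hP₀coeff⟩ :=
    Polynomial.exists_monic_aeval_eq_zero_forall_mem_of_mem_map hc
  obtain ⟨P, hPdef⟩ : ∃ P : A[X], P = X * P₀ := ⟨_, rfl⟩
  have hPmonic : P.Monic := by rw [hPdef]; exact monic_X.mul hP₀monic
  have hPeval : aeval (b * b - b) P = 0 := by rw [hPdef, map_mul, hP₀eval, mul_zero]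
  obtain ⟨N, hNdef⟩ : ∃ N : ℕ, N = P₀.natDegree + 1 := ⟨_, rfl⟩
  have hPmap : P.map (Ideal.Quotient.mk I) = X ^ N := by
    have h0 : P₀.map (Ideal.Quotient.mk I) = X ^ P₀.natDegree := by
      ext i
      rw [coeff_map, coeff_X_pow]
      split_ifs with h
      · rw [h, hP₀monic.coeff_natDegree, map_one]
      · exact Ideal.Quotient.eq_zero_iff_mem.mpr (hP₀coeff i h)
    rw [hPdef, Polynomial.map_mul, map_X, h0, hNdef, pow_succ']
  obtain ⟨Q, hQdef⟩ : ∃ Q : A[X], Q = X ^ 2 - X := ⟨_, rfl⟩
  have hQmonic : Q.Monic := by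
    rw [hQdef]
    exact monic_X_pow_sub (lt_of_le_of_lt degree_X_le (by exact_mod_cast Nat.one_lt_two))
  have hQdeg : Q.natDegree ≠ 0 := by
    have : Q.natDegree = 2 := by
      rw [hQdef, natDegree_sub_eq_left_of_natDegree_lt
        (by rw [natDegree_X_pow, natDegree_X]; norm_num), natDegree_X_pow]
    rw [this]; norm_num
  refine ⟨P.comp Q, N, hPmonic.comp hQmonic hQdeg, by rw [hNdef]; exact Nat.le_add_left 1 _,
    ?_, ?_⟩
  · rw [aeval_comp]
    have : aeval b Q = b * b - b := by rw [hQdef]; simp [pow_two]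
    rw [this, hPeval]
  · rw [Polynomial.map_comp, hPmap, X_pow_comp, hQdef, ← mul_pow]
    congr 1
    simp only [Polynomial.map_sub, Polynomial.map_pow, map_X]
    ring

end Groth.Agent.S1959
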