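import Groth.Statements.S19590
import Mathlib
-- import your own Groth.Agent.* helpers here

set_option autoImplicit false
open BddFin

namespace Groth.Agent.S19590


/-- entrywise divisibility -/
def Dv {n : ℕ} (t : ℤ) (M : Matrix (Fin n) (Fin n) ℤ) : Prop := ∀ a b, t ∣ M a b

lemma Dv.mul {n : ℕ} {s t : ℤ} {M M' : Matrix (Fin n) (Fin n) ℤ} (h : Dv s M) (h' : Dv t M') :
    Dv (s * t) (M * M') := by
  intro a b
  rw [Matrix.mul_apply]
  exact Finset.dvd_sum fun c _ => mul_dvd_mul (h a c) (h' c b)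

lemma Dv.one_left {n : ℕ} (M : Matrix (Fin n) (Fin n) ℤ) : Dv 1 M := fun _ _ => one_dvd _

lemma Dv.mul_right {n : ℕ} {s : ℤ} {M : Matrix (Fin n) (Fin n) ℤ} (h : Dv s M)
    (M' : Matrix (Fin n) (Fin n) ℤ) : Dv s (M * M') := by
  have h1 := h.mul (Dv.one_left M')
  rwa [mul_one] at h1

lemma Dv.add {n : ℕ} {s : ℤ} {M M' : Matrix (Fin n) (Fin n) ℤ} (h : Dv s M) (h' : Dv s M') :
    Dv s (M + M') := fun a b => by
  rw [Matrix.add_apply]; exact dvd_add (h a b) (h' a b)

lemma Dv.smul {n : ℕ} {s : ℤ} {M : Matrix (Fin n) (Fin n) ℤ} (h : Dv s M) (z : ℤ) :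
    Dv s (z • M) := fun a b => by
  rw [Matrix.smul_apply, smul_eq_mul]; exact Dvd.dvd.mul_left (h a b) z

lemma expand {n : ℕ} (X : Matrix (Fin n) (Fin n) ℤ) (q : ℕ) :
    ∃ S : Matrix (Fin n) (Fin n) ℤ, (1 + X) ^ q = 1 + (q : ℤ) • X + X * X * S := by
  induction q with
  | zero => exact ⟨0, by simp⟩
  | succ q ih =>
    obtain ⟨S, hS⟩ := ih
    refine ⟨(q : ℤ) • 1 + S + S * X, ?_⟩
    rw [pow_succ, hS]
    push_cast
    simp only [mul_add, add_mul, mul_one, one_mul, smul_mul_assoc, mul_smul_comm, add_smul,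
      one_smul, mul_assoc]
    abel

lemma expand3 {n : ℕ} (X : Matrix (Fin n) (Fin n) ℤ) :
    (1 + X) ^ 3 = 1 + (3 : ℤ) • X + X * X * ((3 : ℤ) • 1 + X) := by
  simp only [pow_succ, pow_zero, one_mul, mul_add, add_mul, mul_one, smul_mul_assoc,
    mul_smul_comm, mul_assoc]
  abel

lemma prime_case {n : ℕ} (X : Matrix (Fin n) (Fin n) ℤ) (hX : Dv 3 X) (q : ℕ) (hq : q.Prime)
    (h : (1 + X) ^ q = 1) : X = 0 := by
  have step : ∀ j : ℕ, 1 ≤ j → Dv (3 ^ j) X → Dv (3 ^ (j + 1)) X := by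
    intro j hj hD
    have hXX : Dv (3 ^ j * 3 ^ j) (X * X) := hD.mul hD
    by_cases hq3 : q = 3
    · subst hq3
      have e := expand3 X
      rw [h] at e
      have e0 : (3 : ℤ) • X + X * X * ((3 : ℤ) • 1 + X) = 0 := by
        have e1 : (1 : Matrix (Fin n) (Fin n) ℤ) + ((3 : ℤ) • X + X * X * ((3 : ℤ) • 1 + X)) =
            1 + 0 := by rw [add_zero, ← add_assoc]; exact e.symm
        exact add_left_cancel e1
      have e' : (3 : ℤ) • X = -(X * X * ((3 : ℤ) • 1 + X)) := eq_neg_of_add_eq_zero_left e0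
      have h3 : Dv 3 ((3 : ℤ) • (1 : Matrix (Fin n) (Fin n) ℤ) + X) := by
        refine Dv.add ?_ hX
        intro a b; rw [Matrix.smul_apply, smul_eq_mul]; exact dvd_mul_right 3 _
      have hD2 : Dv (3 ^ j * 3 ^ j * 3) (X * X * ((3 : ℤ) • 1 + X)) := hXX.mul h3
      intro a b
      have hab : (3 ^ j * 3 ^ j * 3 : ℤ) ∣ 3 * X a b := by
        have h4 := congrFun (congrFun e' a) b
        rw [Matrix.smul_apply, smul_eq_mul, Matrix.neg_apply] at h4
        rw [h4]; exact (dvd_neg).mpr (hD2 a b)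
      have h1 : (3 ^ j * 3 ^ j : ℤ) ∣ X a b := by
        rw [mul_comm (3 ^ j * 3 ^ j : ℤ) 3] at hab
        exact (mul_dvd_mul_iff_left (by norm_num : (3 : ℤ) ≠ 0)).mp hab
      refine dvd_trans ?_ h1
      rw [← pow_add]; exact pow_dvd_pow 3 (by omega)
    · obtain ⟨S, hS⟩ := expand X q
      rw [h] at hS
      have e0 : (q : ℤ) • X + X * X * S = 0 := by
        have e1 : (1 : Matrix (Fin n) (Fin n) ℤ) + ((q : ℤ) • X + X * X * S) = 1 + 0 := by
          rw [add_zero, ← add_assoc]; exact hS.symm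
        exact add_left_cancel e1
      have e' : (q : ℤ) • X = -(X * X * S) := eq_neg_of_add_eq_zero_left e0
      have hD2 : Dv (3 ^ j * 3 ^ j) (X * X * S) := hXX.mul_right S
      intro a b
      have hab : (3 ^ j * 3 ^ j : ℤ) ∣ (q : ℤ) * X a b := by
        have h4 := congrFun (congrFun e' a) b
        rw [Matrix.smul_apply, smul_eq_mul, Matrix.neg_apply] at h4
        rw [h4]; exact (dvd_neg).mpr (hD2 a b)
      have hcop : IsCoprime (3 ^ j * 3 ^ j : ℤ) (q : ℤ) := by
        rw [← pow_add]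
        refine IsCoprime.pow_left ?_
        have h5 : Nat.Coprime 3 q := (Nat.coprime_primes Nat.prime_three hq).mpr (Ne.symm hq3)
        exact_mod_cast (Nat.isCoprime_iff_coprime.mpr h5)
      have h1 : (3 ^ j * 3 ^ j : ℤ) ∣ X a b := hcop.dvd_of_dvd_mul_left hab
      refine dvd_trans ?_ h1
      rw [← pow_add]; exact pow_dvd_pow 3 (by omega)
  have all : ∀ j : ℕ, Dv (3 ^ (j + 1)) X := by
    intro j
    induction j with
    | zero => simpa using hX
    | succ j ih => exact step (j + 1) (by omega) ih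
  ext a b
  rw [Matrix.zero_apply]
  have hj := all (X a b).natAbs a b
  refine Int.eq_zero_of_abs_lt_dvd hj ?_
  have h1 : (X a b).natAbs < 3 ^ ((X a b).natAbs + 1) :=
    lt_of_lt_of_le (Nat.lt_pow_self (by norm_num))
      (Nat.pow_le_pow_right (by norm_num) (Nat.le_succ _))
  rw [Int.abs_eq_natAbs]
  exact_mod_cast h1

lemma torsion_free {n : ℕ} : ∀ (m : ℕ), 1 ≤ m → ∀ A : Matrix (Fin n) (Fin n) ℤ,
    Dv 3 (A - 1) → A ^ m = 1 → A = 1 := by
  intro m
  induction m using Nat.strong_induction_on with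
  | h m IH =>
    intro hm A hA hAm
    rcases Nat.eq_or_lt_of_le hm with h1 | h1
    · rw [← h1, pow_one] at hAm; exact hAm
    · have hm1 : m ≠ 1 := by omega
      have hqp : (m.minFac).Prime := Nat.minFac_prime hm1
      obtain ⟨m', hm'⟩ : m.minFac ∣ m := Nat.minFac_dvd m
      have hm'pos : 1 ≤ m' := by
        rcases Nat.eq_zero_or_pos m' with h0 | h0
        · rw [h0, mul_zero] at hm'; omega
        · exact h0
      have hm'lt : m' < m := by
        have h2 : 2 * m' ≤ m.minFac * m' := Nat.mul_le_mul_right m' hqp.two_le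
        omega
      obtain ⟨X, hX⟩ : ∃ X, X = A - 1 := ⟨_, rfl⟩
      have hA1 : A = 1 + X := by rw [hX]; abel
      have hDX : Dv 3 X := by rw [hX]; exact hA
      obtain ⟨S, hS⟩ := expand X m'
      have hD' : Dv 3 (A ^ m' - 1) := by
        rw [hA1, hS]
        have e2 : (1 + (m' : ℤ) • X + X * X * S - 1) = (m' : ℤ) • X + X * X * S := by abel
        rw [e2]
        exact (hDX.smul _).add ((hDX.mul_right X).mul_right S)
      have hpow : (1 + (A ^ m' - 1)) ^ (m.minFac) = 1 := by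
        rw [show (1 : Matrix (Fin n) (Fin n) ℤ) + (A ^ m' - 1) = A ^ m' by abel, ← pow_mul,
          mul_comm, ← hm', hAm]
      have h3 := prime_case (A ^ m' - 1) hD' _ hqp hpow
      have hAm' : A ^ m' = 1 := sub_eq_zero.mp h3
      exact IH m' hm'lt hm'pos A hA hAm'

/-- For every n, the orders of the finite subgroups of GL_n(ℤ) are bounded: there is B such that every
finite subgroup of GL_n(ℤ) has at most B elements. -/
theorem result (n : ℕ) :
    ∃ B : ℕ, ∀ H : Subgroup (Matrix.GeneralLinearGroup (Fin n) ℤ), Finite H → Nat.card H ≤ B := by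
  refine ⟨Nat.card (Matrix.GeneralLinearGroup (Fin n) (ZMod 3)), fun H hH => ?_⟩
  haveI := hH
  set ρ : Matrix.GeneralLinearGroup (Fin n) ℤ →* Matrix.GeneralLinearGroup (Fin n) (ZMod 3) :=
    Matrix.GeneralLinearGroup.map (Int.castRingHom (ZMod 3)) with hρ
  have hker : ∀ h : H, ρ h.1 = 1 → h = 1 := by
    intro h hh
    have hD : Dv 3 (h.1.1 - 1) := by
      intro a b
      have h1 : ((Int.castRingHom (ZMod 3)) (h.1.1 a b)) =
          (1 : Matrix (Fin n) (Fin n) (ZMod 3)) a b := by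
        have h2 : (ρ h.1).1 = (1 : Matrix.GeneralLinearGroup (Fin n) (ZMod 3)).1 :=
          congrArg Units.val hh
        exact congrFun (congrFun h2 a) b
      have h4 : ((h.1.1 a b - (1 : Matrix (Fin n) (Fin n) ℤ) a b : ℤ) : ZMod 3) = 0 := by
        rw [Int.cast_sub]
        have h5 : ((h.1.1 a b : ℤ) : ZMod 3) = (1 : Matrix (Fin n) (Fin n) (ZMod 3)) a b := h1
        rw [h5]
        by_cases hab : a = b
        · subst hab; simp
        · simp [hab]
      have h6 := (ZMod.intCast_zmod_eq_zero_iff_dvd _ 3).mp h4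
      rw [Matrix.sub_apply]
      exact_mod_cast h6
    obtain ⟨m, hmpos, hm⟩ := isOfFinOrder_iff_pow_eq_one.mp (isOfFinOrder_of_finite h)
    have hAm : h.1.1 ^ m = 1 := by
      have h7 := congrArg (fun g : H => g.1.1) hm
      simpa using h7
    have hA1 := torsion_free m hmpos h.1.1 hD hAm
    apply Subtype.ext
    apply Units.ext
    exact hA1
  have hinj : Function.Injective (ρ.comp H.subtype) :=
    (injective_iff_map_eq_one (ρ.comp H.subtype)).mpr (fun a ha => hker a ha)
  exact Nat.card_le_card_of_injective (ρ.comp H.subtype) hinj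

end Groth.Agent.S19590
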