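import Groth.Statements.S19591
import Mathlib
-- import your own Groth.Agent.* helpers here

set_option autoImplicit false
universe u v
open BddFin

namespace Groth.Agent.S19591

/-- Let K be a perfect field of characteristic 2, V a finite-dimensional K-vector space with dim V > 2
and q a quadratic form on V whose polar bilinear form is non-degenerate. Then q represents zero
non-trivially. (Non-degeneracy of the polar form, which is alternating in characteristic 2, forces
dim V to be even, as the published lemma notes.) -/
theorem result
    (K : Type u) [Field K] [CharP K 2] [PerfectField K]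
    (V : Type v) [AddCommGroup V] [Module K V] [FiniteDimensional K V]
    (hV : 2 < Module.finrank K V) (q : QuadraticForm K V)
    (hq : (QuadraticMap.polarBilin q).Nondegenerate) :
    ∃ v : V, v ≠ 0 ∧ q v = 0 := by
  classical
  haveI : ExpChar K 2 := ExpChar.prime Nat.prime_two
  haveI : PerfectRing K 2 := PerfectField.toPerfectRing 2
  have hsq : ∀ a : K, ∃ α : K, α ^ 2 = a := fun a => by
    obtain ⟨α, hα⟩ := surjective_frobenius K 2 a
    exact ⟨α, by rwa [frobenius_def] at hα⟩
  have hpos : 0 < Module.finrank K V := by omega
  obtain ⟨v, hv⟩ := Module.finrank_pos_iff_exists_ne_zero.mp hpos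
  by_cases hqv : q v = 0
  · exact ⟨v, hv, hqv⟩
  -- the orthogonal of v
  set f : V →ₗ[K] K := QuadraticMap.polarBilin q v with hf
  have hker : 2 ≤ Module.finrank K (LinearMap.ker f) := by
    have h1 := LinearMap.finrank_range_add_finrank_ker f
    have h2 : Module.finrank K (LinearMap.range f) ≤ 1 := by
      have := Submodule.finrank_le (LinearMap.range f)
      simpa using this
    omega
  have hex : ∃ w ∈ LinearMap.ker f, w ∉ Submodule.span K {v} := by
    by_contra hcon
    push_neg at hcon
    have hle : LinearMap.ker f ≤ Submodule.span K {v} := fun w hw => hcon w hw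
    have h3 := Submodule.finrank_mono hle
    rw [finrank_span_singleton hv] at h3
    omega
  obtain ⟨w, hwker, hwspan⟩ := hex
  have hvw : QuadraticMap.polar q v w = 0 := by
    have : f w = 0 := hwker
    rwa [hf, QuadraticMap.polarBilin_apply_apply] at this
  obtain ⟨α, hα⟩ := hsq (q v)
  obtain ⟨γ, hγ⟩ := hsq (q w)
  have hα0 : α ≠ 0 := by
    rintro rfl
    apply hqv
    rw [← hα]; simp
  refine ⟨γ • v + α • w, ?_, ?_⟩
  · intro h0
    apply hwspan
    have : w = (-(α⁻¹ * γ)) • v := by
      have h1 : α • w = -(γ • v) := by
        rw [eq_neg_iff_add_eq_zero, add_comm]; exact h0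
      calc w = α⁻¹ • (α • w) := by rw [smul_smul, inv_mul_cancel₀ hα0, one_smul]
        _ = (-(α⁻¹ * γ)) • v := by rw [h1, smul_neg, smul_smul, neg_smul]
    rw [this]
    exact Submodule.smul_mem _ _ (Submodule.mem_span_singleton_self v)
  · rw [QuadraticMap.map_add (⇑q), QuadraticMap.map_smul, QuadraticMap.map_smul,
      QuadraticMap.polar_smul_left, QuadraticMap.polar_smul_right, hvw, ← hα, ← hγ]
    simp only [smul_eq_mul, mul_zero, add_zero]
    have : γ * γ * α ^ 2 + α * α * γ ^ 2 = (α * γ) ^ 2 + (α * γ) ^ 2 := by ring
    rw [this]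
    exact CharTwo.add_self_eq_zero _

end Groth.Agent.S19591
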