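import Groth.Statements.S19602
import Mathlib
import Groth.Agent.Lib.Helper4.LinRed
-- import your own Groth.Agent.* helpers here

set_option autoImplicit false
universe u
open GIT

namespace Groth.Agent.S19602


open TensorProduct Groth.Agent.H29 Groth.Agent.Helper4.LinRed

lemma orbit_formula {k : Type u} [Field k] {A : Type u} [CommRing A] [HopfAlgebra k A]
    {R : Type u} [CommRing R] [Algebra k R] (x : R →ₐ[k] k) (ψ : A →ₗ[k] k) (t : R ⊗[k] A) :
    ψ ((Algebra.TensorProduct.lid k A) ((Algebra.TensorProduct.map x (AlgHom.id k A)) t)) =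
      x (rAct R ψ t) := by
  induction t using TensorProduct.induction_on with
  | zero => simp
  | tmul r a => simp [mul_comm]
  | add s t hs ht => simp only [map_add, hs, ht]

lemma orbitHom_dual {k : Type u} [Field k] {A : Type u} [CommRing A] [HopfAlgebra k A]
    {R : Type u} [CommRing R] [Algebra k R] [HopfRep.Comod k A R] [GLin.IsCoactAlg k A R]
    (x : R →ₐ[k] k) (ψ : A →ₗ[k] k) (f : R) :
    ψ (GLin.orbitHom k A x f) = x (dualAct ψ f) :=
  orbit_formula x ψ _

lemma orbitHom_of_mem {k : Type u} [Field k] {A : Type u} [CommRing A] [HopfAlgebra k A]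
    {R : Type u} [CommRing R] [Algebra k R] [HopfRep.Comod k A R] [GLin.IsCoactAlg k A R]
    (x : R →ₐ[k] k) (f : R) (hf : f ∈ GLin.invariants k A R) :
    GLin.orbitHom k A x f = algebraMap k A (x f) := by
  have h : HopfRep.Comod.coact (k := k) (A := A) f = f ⊗ₜ[k] (1 : A) := hf
  show (Algebra.TensorProduct.lid k A) ((Algebra.TensorProduct.map x (AlgHom.id k A))
    (HopfRep.Comod.coact (k := k) (A := A) f)) = _
  rw [h, Algebra.TensorProduct.map_tmul, Algebra.TensorProduct.lid_tmul, map_one,
    Algebra.algebraMap_eq_smul_one]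

lemma isSubcomod_ker_orbit {k : Type u} [Field k] {A : Type u} [CommRing A] [HopfAlgebra k A]
    {R : Type u} [CommRing R] [Algebra k R] [HopfRep.Comod k A R] [GLin.IsCoactAlg k A R]
    (x : R →ₐ[k] k) :
    HopfRep.IsSubcomod (k := k) (A := A)
      ((RingHom.ker (GLin.orbitHom k A x)).restrictScalars k) := by
  rw [isSubcomod_iff]
  intro φ w hw
  have hw' : GLin.orbitHom k A x w = 0 :=
    RingHom.mem_ker.mp ((Submodule.restrictScalars_mem k _ w).mp hw)
  rw [Submodule.restrictScalars_mem, RingHom.mem_ker]
  apply (Module.forall_dual_apply_eq_zero_iff k _).mp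
  intro ψ
  have h2 : dualAct ψ (dualAct φ w) = dualAct (WithConv.toConv ψ * WithConv.toConv φ).ofConv w :=
    (dualAct_mul (WithConv.toConv ψ) (WithConv.toConv φ) w).symm
  rw [orbitHom_dual, h2, ← orbitHom_dual, hw', map_zero]


/-- Let k be an algebraically closed field, G = Spec A a linearly reductive affine algebraic group over
k, and U = Spec R an affine k-scheme of finite type on which G acts. Two k-points x₁, x₂ of U have
the same image in U//G = Spec R^G if and only if the closures of their orbits have a common k-point.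
Stated in coaction form. The published statement allows any affine U and asks only that the two
orbit closures meet; this row assumes U of finite type over k and asks for a common k-point, which
is then equivalent. -/
theorem result (k : Type u) [Field k] [IsAlgClosed k]
    (A : Type u) [CommRing A] [HopfAlgebra k A] [Algebra.FiniteType k A] (hG : HopfRep.IsLinearlyReductive k A)
    (R : Type u) [CommRing R] [Algebra k R] [Algebra.FiniteType k R] [HopfRep.Comod k A R] [GLin.IsCoactAlg k A R]
    (x₁ x₂ : R →ₐ[k] k) :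
    x₁.comp (GLin.invariants k A R).val = x₂.comp (GLin.invariants k A R).val ↔
      ∃ z : R →ₐ[k] k, GLin.InOrbitClosure k A x₁ z ∧ GLin.InOrbitClosure k A x₂ z := by
  constructor
  · intro h
    obtain ⟨E, hE1, hE2, -, hE4⟩ := exists_reynolds' hG R
    have hne : RingHom.ker (GLin.orbitHom k A x₁) ⊔ RingHom.ker (GLin.orbitHom k A x₂) ≠ ⊤ := by
      intro htop
      have h1 : (1 : R) ∈ RingHom.ker (GLin.orbitHom k A x₁) ⊔ RingHom.ker (GLin.orbitHom k A x₂) := by
        rw [htop]; exact Submodule.mem_top
      obtain ⟨a, ha, b, hb, hab⟩ := Submodule.mem_sup.mp h1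
      have hEa : E a ∈ RingHom.ker (GLin.orbitHom k A x₁) :=
        hE4 ((RingHom.ker (GLin.orbitHom k A x₁)).restrictScalars k) (isSubcomod_ker_orbit x₁) a ha
      have hEb : E b ∈ RingHom.ker (GLin.orbitHom k A x₂) :=
        hE4 ((RingHom.ker (GLin.orbitHom k A x₂)).restrictScalars k) (isSubcomod_ker_orbit x₂) b hb
      have hxa : x₁ (E a) = 0 := by
        have := orbitHom_dual x₁ (Coalgebra.counit (R := k) (A := A)) (E a)
        rw [dualAct_counit, RingHom.mem_ker.mp hEa, map_zero] at this
        exact this.symm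
      have hxb : x₂ (E b) = 0 := by
        have := orbitHom_dual x₂ (Coalgebra.counit (R := k) (A := A)) (E b)
        rw [dualAct_counit, RingHom.mem_ker.mp hEb, map_zero] at this
        exact this.symm
      have hxb' : x₁ (E b) = x₂ (E b) :=
        AlgHom.congr_fun h (⟨E b, hE1 b⟩ : GLin.invariants k A R)
      have hE1' : E 1 = 1 := hE2 1 (GLin.invariants k A R).one_mem
      have h10 : x₁ 1 = 0 := by
        calc x₁ 1 = x₁ (E (a + b)) := by rw [hab, hE1']
          _ = x₁ (E a) + x₁ (E b) := by rw [map_add, map_add]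
          _ = 0 := by rw [hxa, hxb', hxb, add_zero]
      rw [map_one] at h10
      exact one_ne_zero h10
    obtain ⟨m, hm, hle⟩ := Ideal.exists_le_maximal _ hne
    haveI := hm
    letI := Ideal.Quotient.field m
    haveI hfin : Module.Finite k (R ⧸ m) := finite_of_finite_type_of_isJacobsonRing k (R ⧸ m)
    have hbij : Function.Bijective (algebraMap k (R ⧸ m)) :=
      IsAlgClosed.algebraMap_bijective_of_isIntegral
    let e : k ≃ₐ[k] (R ⧸ m) := AlgEquiv.ofBijective (Algebra.ofId k (R ⧸ m)) hbij
    let z : R →ₐ[k] k := (e.symm : (R ⧸ m) →ₐ[k] k).comp (Ideal.Quotient.mkₐ k m)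
    have hz : ∀ f ∈ m, z f = 0 := by
      intro f hf
      show e.symm (Ideal.Quotient.mk m f) = 0
      rw [Ideal.Quotient.eq_zero_iff_mem.mpr hf, map_zero]
    refine ⟨z, ?_, ?_⟩
    · show RingHom.ker (GLin.orbitHom k A x₁) ≤ RingHom.ker z
      intro f hf
      exact RingHom.mem_ker.mpr (hz f (hle (Ideal.mem_sup_left hf)))
    · show RingHom.ker (GLin.orbitHom k A x₂) ≤ RingHom.ker z
      intro f hf
      exact RingHom.mem_ker.mpr (hz f (hle (Ideal.mem_sup_right hf)))
  · rintro ⟨z, hz1, hz2⟩
    apply AlgHom.ext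
    intro f
    show x₁ (f : R) = x₂ (f : R)
    have key : ∀ x : R →ₐ[k] k, GLin.InOrbitClosure k A x z → z (f : R) = x (f : R) := by
      intro x hx
      have hx' : RingHom.ker (GLin.orbitHom k A x) ≤ RingHom.ker z := hx
      have h0 : (f : R) - algebraMap k R (x f) ∈ RingHom.ker (GLin.orbitHom k A x) := by
        rw [RingHom.mem_ker, map_sub, orbitHom_of_mem x f f.2, AlgHom.commutes, sub_self]
      have h1 := RingHom.mem_ker.mp (hx' h0)
      rw [map_sub, AlgHom.commutes, sub_eq_zero] at h1
      exact h1
    rw [← key x₁ hz1, ← key x₂ hz2]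

end Groth.Agent.S19602
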