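import Groth.Statements.S19603
import Mathlib
import Groth.Agent.Lib.Helper4.HilbInv
import Groth.Agent.S19602
-- import your own Groth.Agent.* helpers here

set_option autoImplicit false
universe u
open GIT

namespace Groth.Agent.S19603


open TensorProduct Groth.Agent.H29 Groth.Agent.Helper4.LinRed

section

variable {k : Type u} [Field k] {A : Type u} [CommRing A] [HopfAlgebra k A]
  {ι : Type u} [Fintype ι] [HopfRep.Comod k A (MvPolynomial ι k)]
  [GLin.IsCoactAlg k A (MvPolynomial ι k)]

lemma isSubcomod_homogeneous' (hlin : GLin.IsLinear k A ι) (d : ℕ) :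
    HopfRep.IsSubcomod (k := k) (A := A) (MvPolynomial.homogeneousSubmodule ι k d) := by
  have hX1 : ∀ g ∈ MvPolynomial.homogeneousSubmodule ι k 1,
      GLin.coactAlgHom k A (MvPolynomial ι k) g ∈ LinearMap.range
      ((MvPolynomial.homogeneousSubmodule ι k 1).subtype.rTensor A) := by
    intro g hg
    rw [MvPolynomial.homogeneousSubmodule_one_eq_span_X] at hg
    induction hg using Submodule.span_induction with
    | mem x hx =>
      obtain ⟨i, rfl⟩ := hx
      obtain ⟨m, hm⟩ := hlin i
      rw [GLin.coactAlgHom_apply, hm]
      apply Submodule.sum_mem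
      intro j _
      exact ⟨(⟨MvPolynomial.X j, MvPolynomial.isHomogeneous_X k j⟩ :
        MvPolynomial.homogeneousSubmodule ι k 1) ⊗ₜ[k] m j, by simp⟩
    | zero => rw [map_zero]; exact Submodule.zero_mem _
    | add x y _ _ hx hy => rw [map_add]; exact Submodule.add_mem _ hx hy
    | smul a x _ hx => rw [map_smul]; exact Submodule.smul_mem _ _ hx
  have key : ∀ d : ℕ, MvPolynomial.homogeneousSubmodule ι k d ≤
      Submodule.comap (GLin.coactAlgHom k A (MvPolynomial ι k)).toLinearMap (LinearMap.range
        ((MvPolynomial.homogeneousSubmodule ι k d).subtype.rTensor A)) := by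
    intro d
    induction d with
    | zero =>
      intro f hf
      rw [MvPolynomial.homogeneousSubmodule_zero, Submodule.mem_one] at hf
      obtain ⟨y, rfl⟩ := hf
      rw [Submodule.mem_comap, AlgHom.toLinearMap_apply, AlgHom.commutes,
        Algebra.algebraMap_eq_smul_one, Algebra.TensorProduct.one_def]
      apply Submodule.smul_mem
      refine ⟨(⟨1, ?_⟩ : MvPolynomial.homogeneousSubmodule ι k 0) ⊗ₜ[k] (1 : A), by simp⟩
      rw [MvPolynomial.homogeneousSubmodule_zero]
      exact Submodule.one_le.mp le_rfl
    | succ d ih =>
      have h1 : MvPolynomial.homogeneousSubmodule ι k (d + 1) =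
          MvPolynomial.homogeneousSubmodule ι k d *
            MvPolynomial.homogeneousSubmodule ι k 1 := by
        rw [← MvPolynomial.homogeneousSubmodule_one_pow (σ := ι) k (d + 1), pow_succ,
          MvPolynomial.homogeneousSubmodule_one_pow]
      have h2 : MvPolynomial.homogeneousSubmodule ι k d *
            MvPolynomial.homogeneousSubmodule ι k 1 ≤
          Submodule.comap (GLin.coactAlgHom k A (MvPolynomial ι k)).toLinearMap (LinearMap.range
            ((MvPolynomial.homogeneousSubmodule ι k (d + 1)).subtype.rTensor A)) := by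
        rw [Submodule.mul_le]
        intro f hf g hg
        rw [Submodule.mem_comap, AlgHom.toLinearMap_apply, map_mul]
        exact Groth.Agent.Helper4.MvComod.range_rTensor_mul _ _ _
          (fun u hu v hv => MvPolynomial.IsHomogeneous.mul hu hv) _ _ (ih hf) (hX1 g hg)
      intro f hf
      rw [h1] at hf
      exact h2 hf
  intro f hf
  exact key d hf

attribute [local instance] MvPolynomial.gradedAlgebra

lemma homogeneousComponent_mem_invariants (hlin : GLin.IsLinear k A ι) (F : MvPolynomial ι k)
    (hF : F ∈ GLin.invariants k A (MvPolynomial ι k)) (d : ℕ) :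
    MvPolynomial.homogeneousComponent d F ∈ GLin.invariants k A (MvPolynomial ι k) := by
  have hf' : F ∈ HopfRep.fixedPts k A (MvPolynomial ι k) := hF
  have hdec : ∀ G : MvPolynomial ι k,
      ((DirectSum.decompose (MvPolynomial.homogeneousSubmodule ι k) G d :
        MvPolynomial.homogeneousSubmodule ι k d) : MvPolynomial ι k) =
        MvPolynomial.homogeneousComponent d G := by
    intro G
    exact MvPolynomial.decomposition.decompose'_apply G d
  show MvPolynomial.homogeneousComponent d F ∈ HopfRep.fixedPts k A (MvPolynomial ι k)
  rw [mem_fixedPts_iff] at hf' ⊢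
  intro ψ
  rw [← hdec, ← Groth.Agent.Helper4.HilbInv.decompose_comm
    (MvPolynomial.homogeneousSubmodule ι k) (dualAct ψ)
    (fun d => (isSubcomod_iff _).mp (isSubcomod_homogeneous' hlin d) ψ), hf' ψ,
    DirectSum.decompose_smul, DirectSum.smul_apply, Submodule.coe_smul]

end


/-- For the whole projective space U = P(V), let k be an algebraically closed field of arbitrary
characteristic and G = Spec A a linearly reductive affine algebraic group acting linearly on affine
ι-space, and let v be a vector. Then some invariant homogeneous polynomial of positive degree is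
non-zero at v (the point of v is semistable) if and only if the origin is not in the closure of the
orbit of v. -/
theorem result (k : Type u) [Field k] [IsAlgClosed k]
    (A : Type u) [CommRing A] [HopfAlgebra k A] [Algebra.FiniteType k A] (hG : HopfRep.IsLinearlyReductive k A)
    (ι : Type u) [Fintype ι] [HopfRep.Comod k A (MvPolynomial ι k)] [GLin.IsCoactAlg k A (MvPolynomial ι k)]
    (hlin : GLin.IsLinear k A ι) (v : ι → k) :
    GLin.IsSemistableVec k A v ↔
      ¬ GLin.InOrbitClosure k A (GLin.vecPt k ι v) (GLin.vecPt k ι (fun _ => (0 : k))) := by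
  classical
  have hzero : ∀ F : MvPolynomial ι k, ∀ d : ℕ, 0 < d → F.IsHomogeneous d →
      GLin.vecPt k ι (fun _ => (0 : k)) F = 0 := by
    intro F d hd hF
    show MvPolynomial.aeval (fun _ => (0 : k)) F = 0
    rw [MvPolynomial.aeval_zero', MvPolynomial.constantCoeff_eq,
      hF.coeff_eq_zero (d := 0) (by rw [map_zero]; exact hd.ne), map_zero]
  constructor
  · intro hss hclo
    have hss' : ¬ GLin.IsNullform k A v := hss
    apply hss'
    intro F hF d hd hFd
    have hclo' : RingHom.ker (GLin.orbitHom k A (GLin.vecPt k ι v)) ≤
        RingHom.ker (GLin.vecPt k ι (fun _ => (0 : k))) := hclo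
    have h0 : F - algebraMap k (MvPolynomial ι k) (GLin.vecPt k ι v F) ∈
        RingHom.ker (GLin.orbitHom k A (GLin.vecPt k ι v)) := by
      rw [RingHom.mem_ker, map_sub, Groth.Agent.S19602.orbitHom_of_mem _ F hF, AlgHom.commutes,
        sub_self]
    have h1 := RingHom.mem_ker.mp (hclo' h0)
    rw [map_sub, AlgHom.commutes, hzero F d hd hFd, zero_sub, neg_eq_zero] at h1
    exact h1
  · intro hncl
    show ¬ GLin.IsNullform k A v
    intro hnull
    apply hncl
    have hagree : (GLin.vecPt k ι v).comp (GLin.invariants k A (MvPolynomial ι k)).val =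
        (GLin.vecPt k ι (fun _ => (0 : k))).comp (GLin.invariants k A (MvPolynomial ι k)).val := by
      apply AlgHom.ext
      intro F
      show GLin.vecPt k ι v (F : MvPolynomial ι k) =
        GLin.vecPt k ι (fun _ => (0 : k)) (F : MvPolynomial ι k)
      rw [← MvPolynomial.sum_homogeneousComponent (F : MvPolynomial ι k), map_sum, map_sum]
      apply Finset.sum_congr rfl
      intro d _
      rcases Nat.eq_zero_or_pos d with rfl | hd
      · rw [MvPolynomial.homogeneousComponent_zero, MvPolynomial.aeval_C, MvPolynomial.aeval_C]
      · rw [hzero _ d hd (MvPolynomial.homogeneousComponent_isHomogeneous d _)]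
        exact hnull _ (homogeneousComponent_mem_invariants hlin _ F.2 d) d hd
          (MvPolynomial.homogeneousComponent_isHomogeneous d _)
    obtain ⟨z, hz1, hz2⟩ := (Groth.Agent.S19602.result k A hG (MvPolynomial ι k)
      (GLin.vecPt k ι v) (GLin.vecPt k ι (fun _ => (0 : k)))).mp hagree
    have hz : z = GLin.vecPt k ι (fun _ => (0 : k)) := by
      apply MvPolynomial.algHom_ext
      intro i
      rw [MvPolynomial.aeval_X]
      have hz2' : RingHom.ker (GLin.orbitHom k A (GLin.vecPt k ι (fun _ => (0 : k)))) ≤
          RingHom.ker z := hz2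
      have hmem : (MvPolynomial.X i : MvPolynomial ι k) ∈
          RingHom.ker (GLin.orbitHom k A (GLin.vecPt k ι (fun _ => (0 : k)))) := by
        rw [RingHom.mem_ker]
        obtain ⟨m, hm⟩ := hlin i
        show (Algebra.TensorProduct.lid k A) ((Algebra.TensorProduct.map
          (GLin.vecPt k ι (fun _ => (0 : k))) (AlgHom.id k A))
          (HopfRep.Comod.coact (k := k) (A := A) (MvPolynomial.X i : MvPolynomial ι k))) = 0
        rw [hm, map_sum, map_sum]
        apply Finset.sum_eq_zero
        intro j _
        rw [Algebra.TensorProduct.map_tmul, MvPolynomial.aeval_X]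
        simp
      exact RingHom.mem_ker.mp (hz2' hmem)
    rw [← hz]
    exact hz1

end Groth.Agent.S19603
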