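import Groth.Statements.S19609

set_option autoImplicit false
universe u
open CartMod

namespace Groth.Agent.S19609

theorem mem_span_pow_iff {R : Type u} [CommRing R] (p : R) (n : ℕ) (x : R) :
    x ∈ (Ideal.span {p}) ^ n ↔ ∃ y, x = p ^ n * y := by
  rw [Ideal.span_singleton_pow, Ideal.mem_span_singleton']
  constructor
  · rintro ⟨a, rfl⟩; exact ⟨a, mul_comm _ _⟩
  · rintro ⟨y, rfl⟩; exact ⟨y, mul_comm _ _⟩

theorem result (p : ℕ) [Fact p.Prime]
    {A B : Type u} [CommRing A] [CommRing B]
    [IsAdicComplete (Ideal.span {(p : A)}) A] [IsAdicComplete (Ideal.span {(p : B)}) B]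
    (hA : IsSMulRegular A (p : A)) (hB : IsSMulRegular B (p : B)) (u : A →+* B)
    (hinj : ∀ a : A, u a ∈ Ideal.span {(p : B)} → a ∈ Ideal.span {(p : A)})
    (hsurj : ∀ b : B, ∃ a : A, b - u a ∈ Ideal.span {(p : B)}) :
    Function.Bijective u := by
  have hup : u (p : A) = (p : B) := map_natCast u p
  constructor
  · -- injectivity
    rw [injective_iff_map_eq_zero]
    have key : ∀ n : ℕ, ∀ a : A, u a = 0 → a ∈ (Ideal.span {(p : A)}) ^ n := by
      intro n
      induction n with
      | zero => intro a _; simp
      | succ n ih =>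
        intro a ha
        have h1 : a ∈ Ideal.span {(p : A)} := hinj a (by rw [ha]; exact Ideal.zero_mem _)
        obtain ⟨a₁, rfl⟩ := Ideal.mem_span_singleton'.mp h1
        have h2 : u a₁ = 0 := by
          have : (p : B) • u a₁ = (p : B) • 0 := by
            rw [smul_zero, smul_eq_mul, ← hup, ← map_mul, mul_comm]; exact ha
          exact hB this
        have h3 := ih a₁ h2
        rw [pow_succ]
        exact Ideal.mul_mem_mul h3 (Ideal.mem_span_singleton_self _)
    intro a ha
    have hH : IsHausdorff (Ideal.span {(p : A)}) A := inferInstance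
    apply hH.haus
    intro n
    rw [SModEq.zero]
    simpa using key n a ha
  · -- surjectivity
    intro b
    have hch : ∀ c : B, ∃ ac : A × B, c - u ac.1 = (p : B) * ac.2 := by
      intro c
      obtain ⟨a, ha⟩ := hsurj c
      obtain ⟨c', hc'⟩ := Ideal.mem_span_singleton'.mp ha
      exact ⟨(a, c'), by rw [← hc', mul_comm]⟩
    choose gh hgh using hch
    -- sequences
    let c : ℕ → B := fun n => Nat.rec b (fun _ c => (gh c).2) n
    have hc0 : c 0 = b := rfl
    have hcs : ∀ n, c (n + 1) = (gh (c n)).2 := fun n => rfl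
    let s : ℕ → A := fun n => Nat.rec 0 (fun k s => s + (p : A) ^ k * (gh (c k)).1) n
    have hs0 : s 0 = 0 := rfl
    have hss : ∀ n, s (n + 1) = s n + (p : A) ^ n * (gh (c n)).1 := fun n => rfl
    have inv : ∀ n, b - u (s n) = (p : B) ^ n * c n := by
      intro n
      induction n with
      | zero => simp [hs0, hc0]
      | succ n ih =>
        rw [hss, hcs, map_add, map_mul, map_pow, hup]
        have := hgh (c n)
        calc b - (u (s n) + (p : B) ^ n * u (gh (c n)).1)
            = (b - u (s n)) - (p : B) ^ n * u (gh (c n)).1 := by ring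
          _ = (p : B) ^ n * (c n - u (gh (c n)).1) := by rw [ih]; ring
          _ = (p : B) ^ (n + 1) * (gh (c n)).2 := by rw [this]; ring
    have cauchy : ∀ {m n : ℕ}, m ≤ n →
        s m ≡ s n [SMOD ((Ideal.span {(p : A)}) ^ m • ⊤ : Submodule A A)] := by
      intro m n hmn
      induction n, hmn using Nat.le_induction with
      | base => exact SModEq.rfl
      | succ n hmn ih =>
        refine ih.trans ?_
        rw [SModEq.sub_mem, hss]
        simp only [smul_eq_mul, Ideal.mul_top, sub_add_cancel_left]
        rw [Ideal.neg_mem_iff, mem_span_pow_iff]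
        obtain ⟨k, rfl⟩ := Nat.exists_eq_add_of_le hmn
        exact ⟨(p : A) ^ k * (gh (c (m + k))).1, by ring⟩
    have hP : IsPrecomplete (Ideal.span {(p : A)}) A := inferInstance
    obtain ⟨a, ha⟩ := hP.prec cauchy
    refine ⟨a, ?_⟩
    have hH : IsHausdorff (Ideal.span {(p : B)}) B := inferInstance
    symm
    rw [← sub_eq_zero]
    apply hH.haus
    intro n
    rw [SModEq.zero]
    simp only [smul_eq_mul, Ideal.mul_top]
    have h1 : b - u a = (b - u (s n)) + u (s n - a) := by rw [map_sub]; ring
    rw [h1]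
    refine Ideal.add_mem _ ?_ ?_
    · rw [inv n, mem_span_pow_iff]; exact ⟨_, rfl⟩
    · have := ha n
      rw [SModEq.sub_mem] at this
      simp only [smul_eq_mul, Ideal.mul_top] at this
      rw [mem_span_pow_iff] at this ⊢
      obtain ⟨y, hy⟩ := this
      exact ⟨u y, by rw [hy, map_mul, map_pow, hup]⟩
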