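import Groth.Statements.S6349
import Mathlib
import Groth.Agent.Lib.Helper8.LocalCrit

set_option autoImplicit false
universe u
open scoped TensorProduct
open CAlg

namespace Groth.Agent.S6349

/-- Let I be an ideal of a commutative ring R and M an R-module such that M/IM is flat over R/I and
Tor_1^R(R/I, M) = 0, i.e. the map I ⊗_R M → M is injective. Then M/IⁿM is flat over R/Iⁿ for every n
≥ 1. (When I is nilpotent this yields flatness of M itself, a standard companion statement.) -/
theorem result (R : Type u) [CommRing R] (I : Ideal R) (M : Type u)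
    [AddCommGroup M] [Module R M] [Module.Flat (R ⧸ I) ((R ⧸ I) ⊗[R] M)]
    (htor : Function.Injective ((Submodule.subtype I).rTensor M)) (n : ℕ) (hn : 1 ≤ n) :
    Module.Flat (R ⧸ I ^ n) ((R ⧸ I ^ n) ⊗[R] M) := by
  classical
  obtain ⟨π, hπ⟩ : ∃ π : (M →₀ R) →ₗ[R] M, Function.Surjective π :=
    ⟨_, Finsupp.linearCombination_id_surjective R M⟩
  have hex : Function.Exact (LinearMap.ker π).subtype π := LinearMap.exact_subtype_ker_map π
  have hι : Function.Injective (LinearMap.ker π).subtype := Submodule.injective_subtype _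
  have hT1 : ∀ (N : Type u) [AddCommGroup N] [Module R N], (∀ a ∈ I, ∀ x : N, a • x = 0) →
      Function.Injective ((LinearMap.ker π).subtype.lTensor N) :=
    fun N _ _ hN => by
      have h2 : Module.Flat (R ⧸ I) ((R ⧸ I) ⊗[R] M) := inferInstance
      have := @Groth.Agent.Helper8.LocalCrit.lTensor_injective_of_torsion R _ (LinearMap.ker π)
        (M →₀ R) M _ _ _ _ _ _ _ (LinearMap.ker π).subtype π hex hπ hι I htor h2 N _ _ hN
      exact this
  have hT : ∀ (n : ℕ) (N : Type u) [AddCommGroup N] [Module R N],
      (∀ a ∈ I ^ n, ∀ x : N, a • x = 0) →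
      Function.Injective ((LinearMap.ker π).subtype.lTensor N) := by
    intro n N _ _ hN
    have := @Groth.Agent.Helper8.LocalCrit.lTensor_injective_of_pow_torsion R _
      (LinearMap.ker π) (M →₀ R) _ _ _ _ _ (LinearMap.ker π).subtype I hT1 n N _ _ hN
    exact this
  rw [Module.Flat.iff_rTensor_preserves_injective_linearMap'.{u, u, u}]
  intro N N' _ _ _ _ f hf
  let _ : Module R N := Module.compHom N (algebraMap R (R ⧸ I ^ n))
  let _ : Module R N' := Module.compHom N' (algebraMap R (R ⧸ I ^ n))
  have : IsScalarTower R (R ⧸ I ^ n) N :=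
    ⟨fun r s x => by
      show (r • s) • x = (algebraMap R (R ⧸ I ^ n) r) • (s • x)
      rw [Algebra.smul_def, mul_smul]⟩
  have : IsScalarTower R (R ⧸ I ^ n) N' :=
    ⟨fun r s x => by
      show (r • s) • x = (algebraMap R (R ⧸ I ^ n) r) • (s • x)
      rw [Algebra.smul_def, mul_smul]⟩
  let fR : N →ₗ[R] N' := f.restrictScalars R
  have hQ : ∀ a ∈ I ^ n, ∀ x : N' ⧸ LinearMap.range fR, a • x = 0 := by
    intro a ha x
    obtain ⟨x, rfl⟩ := Submodule.mkQ_surjective _ x
    rw [← map_smul]
    have h0 : a • x = 0 := by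
      show (algebraMap R (R ⧸ I ^ n) a) • x = 0
      rw [Ideal.Quotient.algebraMap_eq, Ideal.Quotient.eq_zero_iff_mem.mpr ha, zero_smul]
    rw [h0, map_zero]
  have hTQ : Function.Injective ((LinearMap.ker π).subtype.lTensor (N' ⧸ LinearMap.range fR)) :=
    hT n _ hQ
  have hTQ' : Function.Injective
      ((LinearMap.ker π).subtype.rTensor (N' ⧸ LinearMap.range fR)) :=
    (LinearMap.lTensor_inj_iff_rTensor_inj _ _).mp hTQ
  have hgex : Function.Exact fR (LinearMap.range fR).mkQ := LinearMap.exact_map_mkQ_range fR
  have hgs : Function.Surjective (LinearMap.range fR).mkQ := Submodule.mkQ_surjective _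
  have hkey : Function.Injective (fR.lTensor M) := by
    refine @lTensor_injective_of_exact_of_exact_of_rTensor_injective R _
      (LinearMap.ker π) (M →₀ R) M N N' (N' ⧸ LinearMap.range fR) _ _ _ _ _ _ _ _ _ _ _ _
      (LinearMap.ker π).subtype π fR (LinearMap.range fR).mkQ ?_ ?_ ?_ ?_ ?_ ?_
    · exact hex
    · exact hπ
    · exact hgex
    · exact hgs
    · exact hTQ'
    · exact Module.Flat.lTensor_preserves_injective_linearMap fR hf
  have hkey' : Function.Injective (fR.rTensor M) :=
    (LinearMap.lTensor_inj_iff_rTensor_inj _ _).mp hkey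
  let e := TensorProduct.AlgebraTensorModule.cancelBaseChange R (R ⧸ I ^ n) (R ⧸ I ^ n) N M
  let e' := TensorProduct.AlgebraTensorModule.cancelBaseChange R (R ⧸ I ^ n) (R ⧸ I ^ n) N' M
  have hnat : ∀ z, e' (f.rTensor _ z) = fR.rTensor M (e z) := by
    intro z
    induction z using TensorProduct.induction_on with
    | zero => simp
    | tmul x y =>
      induction y using TensorProduct.induction_on with
      | zero => simp
      | tmul r m => simp [e, e', fR]
      | add y y' hy hy' => simp only [TensorProduct.tmul_add, map_add, hy, hy']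
    | add z z' hz hz' => simp only [map_add, hz, hz']
  intro z z' hzz
  apply e.injective
  apply hkey'
  rw [← hnat, ← hnat, hzz]

end Groth.Agent.S6349
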