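import Groth.Statements.S19610
import Mathlib
import Groth.Agent.Lib.Helper8.LocalCrit
import Groth.Agent.S6349

set_option autoImplicit false
universe u
open scoped TensorProduct
open CartMod

namespace Groth.Agent.S19610

/-- Let p be a prime and B a commutative algebra over the commutative ring A, both complete and
separated for the p-adic topology and both without p-torsion (flat over the p-adic base). If B/pB is
flat over A/pA, then B/p^nB is flat over A/p^nA for every n ≥ 1 (the quotients are written as base
changes (A/p^n) ⊗_A B). (The published statement is for a morphism of flat p-adic formal schemes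
over the Witt vectors of a perfect field: if its special fibre is flat, so are the induced morphisms
of schemes modulo every power of p; this row is its affine, ring-level case.) -/
theorem result (p : ℕ) [Fact p.Prime]
    {A B : Type u} [CommRing A] [CommRing B] [Algebra A B]
    [IsAdicComplete (Ideal.span {(p : A)}) A] [IsAdicComplete (Ideal.span {(p : B)}) B]
    (hA : IsSMulRegular A (p : A)) (hB : IsSMulRegular B (p : B))
    (h : Module.Flat (A ⧸ Ideal.span {(p : A)}) ((A ⧸ Ideal.span {(p : A)}) ⊗[A] B))
    (n : ℕ) (hn : 1 ≤ n) :
    Module.Flat (A ⧸ (Ideal.span {(p : A)} ^ n)) ((A ⧸ (Ideal.span {(p : A)} ^ n)) ⊗[A] B) := by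
  have hreg : IsSMulRegular B (p : A) := by
    intro x y hxy
    apply hB
    have h1 : ∀ z : B, (p : A) • z = (p : B) • z := by
      intro z
      rw [Algebra.smul_def, map_natCast, smul_eq_mul]
    simp only [h1] at hxy
    exact hxy
  have htor : Function.Injective ((Submodule.subtype (Ideal.span {(p : A)})).rTensor B) :=
    Groth.Agent.Helper8.LocalCrit.rTensor_span_singleton_injective (p : A) hreg
  haveI := h
  exact Groth.Agent.S6349.result A (Ideal.span {(p : A)}) B htor n hn

end Groth.Agent.S19610
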