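import Groth.Statements.S19611
import Mathlib
set_option linter.style.haveILetI false

set_option autoImplicit false
universe u
open CategoryTheory AlgebraicGeometry
open CartMod

namespace Groth.Agent.S19611

section Aux
open CategoryTheory AlgebraicGeometry TopologicalSpace

namespace H26Frob

set_option backward.isDefEq.respectTransparency.types false in
theorem main (p : ℕ) [Fact p.Prime] (Y : Scheme.{u}) [FrobSch.IsCharP Y p] :
    Epi (FrobSch.frob Y p).toImage := by
  obtain ⟨f, hf⟩ : ∃ f : Y ⟶ Y, f = FrobSch.frob Y p := ⟨_, rfl⟩
  rw [← hf]
  have hfy : ∀ y : Y, f y = y := fun y => by rw [hf]; rfl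
  haveI : QuasiCompact f := ⟨fun U _ hc => by
    have : (f : Y → Y) ⁻¹' U = U := by ext y; simp [hfy]
    rw [this]; exact hc⟩
  have hcomp : ∀ y : Y, f.imageι (f.toImage y) = y := by
    intro y
    have h := congrArg (fun g : Y ⟶ Y => g y) f.toImage_imageι
    exact h.trans (hfy y)
  have hsurj : Function.Surjective f.toImage := by
    intro w
    refine ⟨f.imageι w, ?_⟩
    apply f.imageι.isEmbedding.injective
    exact hcomp _
  have hind : Topology.IsInducing f.toImage := by
    refine Topology.IsInducing.of_comp f.toImage.continuous f.imageι.continuous ?_
    have h : (f.imageι : _ → _) ∘ (f.toImage : _ → _) = id := funext hcomp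
    rw [h]; exact Topology.IsInducing.id
  apply Functor.epi_of_epi_map Scheme.forgetToLocallyRingedSpace
  apply Functor.epi_of_epi_map LocallyRingedSpace.forgetToSheafedSpace
  apply SheafedSpace.epi_of_base_surjective_of_stalk_mono _ hsurj
  intro x
  apply ConcreteCategory.mono_of_injective
  haveI := TopCat.Presheaf.stalkPushforward.stalkPushforward_iso_of_isInducing (C := CommRingCat)
    (f := f.toImage.base) hind Y.presheaf x
  intro a b hab
  apply f.stalkFunctor_toImage_injective
  apply (ConcreteCategory.bijective_of_isIso (Y.presheaf.stalkPushforward CommRingCat f.toImage.base x)).1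
  exact hab

end H26Frob

end Aux

/-- For a prime p and a scheme Y of characteristic p, write Y♭ for the scheme-theoretic image of the
absolute Frobenius F_Y : Y → Y, i.e. the closed subscheme of Y defined by the sections of O_Y whose
p-th power vanishes, and Y → Y♭ for the canonical morphism through which F_Y factors. Then Y → Y♭ is
an epimorphism of schemes: two morphisms g₁, g₂ from Y♭ to a scheme Z with equal composites Y → Y♭ →
Z are equal. (The published statement is for k-morphisms g₁, g₂ from Y♭ to a k-scheme Z over a
perfect field k of characteristic p, compared after Frobenius twist through Y → (Y♭)'; this row asks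
right-cancellation against morphisms to every scheme Z, which is equivalent to it for k-morphisms.) -/
theorem result (p : ℕ) [Fact p.Prime] (Y : Scheme.{u}) [FrobSch.IsCharP Y p] :
    Epi (FrobSch.frob Y p).toImage := by
  exact H26Frob.main p Y

end Groth.Agent.S19611
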