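import Groth.Statements.S19612
import Mathlib
import Groth.Agent.Lib.Helper4.FlatSep

set_option autoImplicit false
universe u
open scoped TensorProduct
open CartMod

namespace Groth.Agent.S19612

/-- Let k be a perfect field of characteristic p, W = W(k) the ring of Witt vectors of k, and A a
commutative W-algebra which is complete and separated for the p-adic topology (an adic W-algebra).
Then flatness of A over W is equivalent to flatness of A/p^nA = (W/p^nW) ⊗_W A over W/p^nW for every
n ≥ 1. -/
theorem result (p : ℕ) [Fact p.Prime] (k : Type u) [Field k]
    [CharP k p] [PerfectRing k p] (A : Type u) [CommRing A] [Algebra (WittVector p k) A]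
    [IsAdicComplete (Ideal.span {(p : WittVector p k)}) A] :
    Module.Flat (WittVector p k) A ↔
      ∀ n : ℕ, 1 ≤ n →
        Module.Flat (WittVector p k ⧸ (Ideal.span {(p : WittVector p k)} ^ n))
          ((WittVector p k ⧸ (Ideal.span {(p : WittVector p k)} ^ n)) ⊗[WittVector p k] A) := by
  constructor
  · intro h n _
    infer_instance
  · intro h
    have hA : IsHausdorff (Ideal.span {(p : WittVector p k)}) A := inferInstance
    refine Groth.Agent.Helper4.flat_of_flat_mod_pow_of_isHausdorff
      (Ideal.span {(p : WittVector p k)}) A ?_ (fun n hn => h n hn)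
    intro 𝔞
    -- transfer of the Hausdorff property along a linear equivalence
    have transfer : ∀ (X : Type u) [AddCommGroup X] [Module (WittVector p k) X]
        (e : X ≃ₗ[WittVector p k] A), IsHausdorff (Ideal.span {(p : WittVector p k)}) X := by
      intro X _ _ e
      refine ⟨fun x hx => ?_⟩
      apply e.injective
      rw [map_zero]
      apply hA.haus
      intro n
      rw [SModEq.zero]
      have h1 := hx n
      rw [SModEq.zero] at h1
      have h2 : Submodule.map e.toLinearMap
          (Ideal.span {(p : WittVector p k)} ^ n • (⊤ : Submodule (WittVector p k) X)) ≤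
          Ideal.span {(p : WittVector p k)} ^ n • ⊤ := by
        rw [Submodule.map_smul'']
        exact Submodule.smul_mono le_rfl le_top
      exact h2 ⟨x, h1, rfl⟩
    obtain ⟨a, ha⟩ := (IsPrincipalIdealRing.principal 𝔞).principal
    by_cases ha0 : a = 0
    · have hbot : 𝔞 = ⊥ := by rw [ha, ha0]; exact Submodule.span_zero_singleton _
      have hsub : Subsingleton (↥𝔞 ⊗[WittVector p k] A) := by
        rw [hbot]; infer_instance
      exact ⟨fun x _ => Subsingleton.elim _ _⟩
    · have key : ∀ 𝔟 : Ideal (WittVector p k), 𝔟 = Submodule.span (WittVector p k) {a} →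
          IsHausdorff (Ideal.span {(p : WittVector p k)}) (↥𝔟 ⊗[WittVector p k] A) := by
        rintro 𝔟 rfl
        let e0 : WittVector p k ≃ₗ[WittVector p k] ↥(Submodule.span (WittVector p k) {a}) :=
          LinearEquiv.toSpanNonzeroSingleton (WittVector p k) (WittVector p k) a ha0
        exact transfer _ ((TensorProduct.congr e0.symm (LinearEquiv.refl _ A)).trans
          (TensorProduct.lid (WittVector p k) A))
      exact key 𝔞 ha

end Groth.Agent.S19612
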