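import Groth.Statements.S19628
import Groth.Agent.H16.DRBC
-- import your own Groth.Agent.* helpers here

set_option autoImplicit false
universe u
open DeRham

namespace Groth.Agent.S19628

open exteriorPower in
/-- In the affine case, at ring level, let k ⊆ K be an extension of fields of characteristic zero, A a
smooth k-algebra and A' = K ⊗_k A (a pushout square of commutative rings with the scalar-tower
conventions). Let d be the de Rham differential of A over k, d' that of A' over K, and ψ the map of
de Rham complexes induced by A → A', assumed compatible with d and d'. Then for every p the K-span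
of ψ(closed p-forms of A/k) is the module of closed p-forms of A'/K, and the K-span of ψ(exact
p-forms of A/k) is the module of exact p-forms of A'/K. Together with the degreewise base-change
bijection for exterior powers of differentials, this says that the natural map H^p_dR(A/k) ⊗_k K →
H^p_dR(A'/K) is an isomorphism. (The source states the isomorphism H^i_dR(X) ⊗_k K ≅ H^i_dR(X_K) for
a smooth variety X, induced by a quasi-isomorphism of complexes; this row is the case of an affine
X, phrased through closed and exact forms.) -/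
theorem result
    (k K : Type u) [Field k] [Field K] [CharZero k] [Algebra k K]
    (A A' : Type u) [CommRing A] [CommRing A'] [Algebra k A] [Algebra.Smooth k A]
    [Algebra A A'] [Algebra k A'] [IsScalarTower k A A'] [Algebra K A'] [IsScalarTower k K A']
    [Algebra.IsPushout k K A A']
    (d : ∀ p : ℕ, ↥(⋀[A]^p (Ω[A⁄k])) →ₗ[k] ↥(⋀[A]^(p + 1) (Ω[A⁄k])))
    (hd : DeRham.IsDiff (KaehlerDifferential.D k A) d)
    (d' : ∀ p : ℕ, ↥(⋀[A']^p (Ω[A'⁄K])) →ₗ[K] ↥(⋀[A']^(p + 1) (Ω[A'⁄K])))
    (hd' : DeRham.IsDiff (KaehlerDifferential.D K A') d')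
    (ψ : ∀ p : ℕ, ↥(⋀[A]^p (Ω[A⁄k])) →+ ↥(⋀[A']^p (Ω[A'⁄K])))
    (hψ : DeRham.IsCxMap (KaehlerDifferential.D k A) (KaehlerDifferential.D K A') (algebraMap A A') ψ)
    (hcomm : ∀ (p : ℕ) (x : ↥(⋀[A]^p (Ω[A⁄k]))), ψ (p + 1) (d p x) = d' p (ψ p x))
    (p : ℕ) :
    Submodule.span K (ψ p '' (DeRham.cocycles d p : Set ↥(⋀[A]^p (Ω[A⁄k])))) = DeRham.cocycles d' p ∧
      Submodule.span K (ψ p '' (DeRham.coboundaries d p : Set ↥(⋀[A]^p (Ω[A⁄k])))) =
        DeRham.coboundaries d' p := by
  classical
  have hΦbij : ∀ q, Function.Bijective (Groth.Agent.H16.DRBC.PhiAdd k K A A' ψ hψ q) :=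
    fun q => Groth.Agent.H16.DRBC.PhiAdd_bijective k K A A' ψ hψ q
  have hcommΦ : ∀ (q : ℕ) (z : TensorProduct k K ↥(⋀[A]^q (Ω[A⁄k]))),
      d' q (Groth.Agent.H16.DRBC.PhiAdd k K A A' ψ hψ q z) =
        Groth.Agent.H16.DRBC.PhiAdd k K A A' ψ hψ (q + 1)
          (TensorProduct.AlgebraTensorModule.lTensor K K (d q) z) := by
    intro q z
    induction z using TensorProduct.induction_on with
    | zero => rw [map_zero, map_zero, map_zero, map_zero]
    | add x y hx hy => rw [map_add, map_add, hx, hy, map_add, map_add]
    | tmul s x =>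
      rw [Groth.Agent.H16.DRBC.PhiAdd_tmul, map_smul, ← hcomm,
        TensorProduct.AlgebraTensorModule.lTensor_tmul, Groth.Agent.H16.DRBC.PhiAdd_tmul]
  constructor
  · apply le_antisymm
    · rw [Submodule.span_le]
      rintro _ ⟨x, hx, rfl⟩
      show ψ p x ∈ LinearMap.ker (d' p)
      have hx' : d p x = 0 := hx
      rw [LinearMap.mem_ker, ← hcomm, hx', map_zero]
    · have hspan : ∀ z' : TensorProduct k K ↥(LinearMap.ker (d p)),
          Groth.Agent.H16.DRBC.PhiAdd k K A A' ψ hψ p
            (TensorProduct.AlgebraTensorModule.lTensor K K (LinearMap.ker (d p)).subtype z') ∈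
          Submodule.span K (ψ p '' (DeRham.cocycles d p : Set ↥(⋀[A]^p (Ω[A⁄k])))) := by
        intro z'
        induction z' using TensorProduct.induction_on with
        | zero =>
          rw [map_zero, map_zero]
          exact Submodule.zero_mem _
        | add x y hx hy =>
          rw [map_add, map_add]
          exact Submodule.add_mem _ hx hy
        | tmul s x =>
          rw [TensorProduct.AlgebraTensorModule.lTensor_tmul, Groth.Agent.H16.DRBC.PhiAdd_tmul]
          exact Submodule.smul_mem _ _ (Submodule.subset_span ⟨x.1, x.2, rfl⟩)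
      intro y hy
      have hy' : d' p y = 0 := hy
      obtain ⟨z, rfl⟩ := (hΦbij p).2 y
      have h0 : Groth.Agent.H16.DRBC.PhiAdd k K A A' ψ hψ (p + 1)
          (TensorProduct.AlgebraTensorModule.lTensor K K (d p) z) = 0 := by
        rw [← hcommΦ]
        exact hy'
      have h1 : TensorProduct.AlgebraTensorModule.lTensor K K (d p) z = 0 :=
        (hΦbij (p + 1)).1 (by rw [h0, map_zero])
      have h2 : z ∈ LinearMap.ker (TensorProduct.AlgebraTensorModule.lTensor K K (d p)) := h1
      rw [Module.Flat.ker_lTensor_eq] at h2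
      obtain ⟨z', rfl⟩ := h2
      exact hspan z'
  · cases p with
    | zero =>
      show Submodule.span K (ψ 0 '' ((⊥ : Submodule k ↥(⋀[A]^0 (Ω[A⁄k]))) : Set _)) = ⊥
      rw [Submodule.bot_coe, Set.image_singleton, map_zero, Submodule.span_singleton_eq_bot]
    | succ q =>
      show Submodule.span K (ψ (q + 1) '' (LinearMap.range (d q) : Set _)) = LinearMap.range (d' q)
      apply le_antisymm
      · rw [Submodule.span_le]
        rintro _ ⟨_, ⟨x, rfl⟩, rfl⟩
        exact ⟨ψ q x, (hcomm q x).symm⟩
      · have hspan : ∀ z : TensorProduct k K ↥(⋀[A]^q (Ω[A⁄k])),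
            Groth.Agent.H16.DRBC.PhiAdd k K A A' ψ hψ (q + 1)
              (TensorProduct.AlgebraTensorModule.lTensor K K (d q) z) ∈
            Submodule.span K (ψ (q + 1) '' (LinearMap.range (d q) : Set _)) := by
          intro z
          induction z using TensorProduct.induction_on with
          | zero =>
            rw [map_zero, map_zero]
            exact Submodule.zero_mem _
          | add x y hx hy =>
            rw [map_add, map_add]
            exact Submodule.add_mem _ hx hy
          | tmul s x =>
            rw [TensorProduct.AlgebraTensorModule.lTensor_tmul, Groth.Agent.H16.DRBC.PhiAdd_tmul]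
            exact Submodule.smul_mem _ _ (Submodule.subset_span ⟨d q x, ⟨x, rfl⟩, rfl⟩)
        rintro _ ⟨y', rfl⟩
        obtain ⟨z, rfl⟩ := (hΦbij q).2 y'
        rw [hcommΦ]
        exact hspan z

end Groth.Agent.S19628
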