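import Groth.Statements.S19629
import Groth.Agent.H16.SNC1
-- import your own Groth.Agent.* helpers here

set_option autoImplicit false
universe u
open DeRham

namespace Groth.Agent.S19629

open exteriorPower in
/-- In the chart case reached in its proof, let k be a field of characteristic zero and A a smooth
k-algebra carrying functions t_1, …, t_d whose differentials form a basis of Ω_{A/k} (a global
system of étale coordinates on X = Spec A), and let D_1, …, D_n be the coordinate hyperplanes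
t_{e(1)} = 0, …, t_{e(n)} = 0 for an injection e, so that D = D_1 ∪ ⋯ ∪ D_n is a simple normal
crossings divisor. For I ⊆ {1, …, n} write A_I = A/(t_{e(i)} : i ∈ I) for the coordinate ring of D_I
= ⋂_{i ∈ I} D_i, and let ψ_{I,J} (I ⊆ J) be the maps of de Rham complexes induced by the surjections
A_I → A_J. Then whenever s + 1 + m = d, the Čech differential ∏_{|I| = s} Ω^m_{A_I/k} → ∏_{|J| =
s+1} Ω^m_{A_J/k}, (ω_I) ↦ (Σ_{j ∈ J} ± ψ_{J∖j,J}(ω_{J∖j}))_J with the usual alternating signs, is
surjective; for s = 0 this is the surjectivity of Ω^{d-1}(X) → ⊕_i Ω^{d-1}(D_i). (The source states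
the surjectivity for a smooth affine variety X of dimension d with a simple normal crossings divisor
and reduces to this chart case étale-locally; here A_∅ is A/0 rather than A.) -/
theorem result
    (k : Type u) [Field k] [CharZero k] (A : Type u) [CommRing A] [Algebra k A] [Algebra.Smooth k A]
    (d n : ℕ) (t : Fin d → A) (e : Fin n ↪ Fin d)
    (b : Module.Basis (Fin d) A (Ω[A⁄k])) (hb : ∀ i, b i = KaehlerDifferential.D k A (t i))
    (ψ : ∀ (I J : Finset (Fin n)) (p : ℕ), ↥(⋀[(A ⧸ (⨆ i ∈ I, Ideal.span {t (e i)} : Ideal A))]^p (Ω[(A ⧸ (⨆ i ∈ I, Ideal.span {t (e i)} : Ideal A))⁄k])) →+ ↥(⋀[(A ⧸ (⨆ i ∈ J, Ideal.span {t (e i)} : Ideal A))]^p (Ω[(A ⧸ (⨆ i ∈ J, Ideal.span {t (e i)} : Ideal A))⁄k])))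
    (hψ : ∀ (I J : Finset (Fin n)) (h : I ⊆ J),
      DeRham.IsCxMap (KaehlerDifferential.D k (A ⧸ (⨆ i ∈ I, Ideal.span {t (e i)} : Ideal A))) (KaehlerDifferential.D k (A ⧸ (⨆ i ∈ J, Ideal.span {t (e i)} : Ideal A)))
        (Ideal.Quotient.factor (biSup_mono h)) (ψ I J))
    (s m : ℕ) (hs : s + 1 + m = d)
    (g : ∀ J : Finset (Fin n), ↥(⋀[(A ⧸ (⨆ i ∈ J, Ideal.span {t (e i)} : Ideal A))]^m (Ω[(A ⧸ (⨆ i ∈ J, Ideal.span {t (e i)} : Ideal A))⁄k]))) :
    ∃ ω : ∀ I : Finset (Fin n), ↥(⋀[(A ⧸ (⨆ i ∈ I, Ideal.span {t (e i)} : Ideal A))]^m (Ω[(A ⧸ (⨆ i ∈ I, Ideal.span {t (e i)} : Ideal A))⁄k])),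
      ∀ J : Finset (Fin n), J.card = s + 1 →
        (∑ j ∈ J.attach,
          ((-1 : ℤ) ^ (J.filter (fun i => i < j.1)).card) •
            ψ (J.erase j.1) J m (ω (J.erase j.1))) = g J := by
  classical
  have hd0 : 0 < d := by omega
  have hcard : ∀ J : Finset (Fin n), J.card = s + 1 → ((J.map e)ᶜ).card = m := by
    intro J hJ
    rw [Finset.card_compl, Finset.card_map, Fintype.card_fin, hJ]
    omega
  have hmemI : ∀ (J : Finset (Fin n)) (i : Fin n), i ∈ J →
      t (e i) ∈ (⨆ i ∈ J, Ideal.span {t (e i)} : Ideal A) := by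
    intro J i hi
    exact (le_iSup₂ (f := fun i (_ : i ∈ J) => Ideal.span {t (e i)}) i hi)
      (Ideal.subset_span rfl)
  have hcyc : ∀ J : Finset (Fin n), ∃ a : A, J.card = s + 1 →
      g J = Groth.Agent.H16.SNC.tau k t (⨆ i ∈ J, Ideal.span {t (e i)} : Ideal A) m
        (Groth.Agent.H16.SNC.en d m hd0 ((J.map e)ᶜ)) a := by
    intro J
    by_cases hJ : J.card = s + 1
    · obtain ⟨a, ha⟩ := Groth.Agent.H16.SNC.tau_cyclic k t b hb
        (⨆ i ∈ J, Ideal.span {t (e i)} : Ideal A) m
        (Groth.Agent.H16.SNC.en d m hd0 ((J.map e)ᶜ)) (by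
          intro l hl
          rw [Groth.Agent.H16.SNC.en_range d m hd0 _ (hcard J hJ)] at hl
          simp only [Finset.coe_compl, Set.mem_compl_iff, Finset.mem_coe, not_not,
            Finset.mem_map] at hl
          obtain ⟨i, hi, rfl⟩ := hl
          exact hmemI J i hi) (g J)
      exact ⟨a, fun _ => ha⟩
    · exact ⟨0, fun h => absurd h hJ⟩
  choose a ha using hcyc
  obtain ⟨ω, hω⟩ : ∃ ω : ∀ I : Finset (Fin n), ↥(⋀[(A ⧸ (⨆ i ∈ I, Ideal.span {t (e i)} : Ideal A))]^m (Ω[(A ⧸ (⨆ i ∈ I, Ideal.span {t (e i)} : Ideal A))⁄k])),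
      ∀ I : Finset (Fin n), ω I = ∑ j : Fin n, if (j ∉ I ∧ ∀ i ∈ I, j < i) then
        Groth.Agent.H16.SNC.tau k t (⨆ i ∈ I, Ideal.span {t (e i)} : Ideal A) m
          (Groth.Agent.H16.SNC.en d m hd0 (((insert j I).map e)ᶜ)) (a (insert j I)) else 0 :=
    ⟨_, fun _ => rfl⟩
  refine ⟨ω, ?_⟩
  intro J hJ
  have hne : J.Nonempty := by
    rw [← Finset.card_pos]
    omega
  have key : ∀ j' ∈ J, ψ (J.erase j') J m (ω (J.erase j')) =
      if (∀ i ∈ J, j' ≤ i) then g J else 0 := by
    intro j' hj'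
    rw [hω, map_sum, Finset.sum_eq_single j']
    · by_cases hmin : ∀ i ∈ J, j' ≤ i
      · rw [if_pos hmin, if_pos ⟨Finset.notMem_erase j' J, fun i hi =>
          lt_of_le_of_ne (hmin i (Finset.mem_of_mem_erase hi))
            (Ne.symm (Finset.ne_of_mem_erase hi))⟩]
        rw [Groth.Agent.H16.SNC.psi_tau k t _ _ (biSup_mono (Finset.erase_subset j' J))
          (ψ (J.erase j') J) (hψ (J.erase j') J (Finset.erase_subset j' J))]
        rw [Finset.insert_erase hj']
        exact (ha J hJ).symm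
      · rw [if_neg hmin, if_neg, map_zero]
        rintro ⟨_, h2⟩
        apply hmin
        intro i hi
        by_cases hij : i = j'
        · rw [hij]
        · exact (h2 i (Finset.mem_erase.mpr ⟨hij, hi⟩)).le
    · intro j _ hjj'
      by_cases hc : (j ∉ J.erase j' ∧ ∀ i ∈ J.erase j', j < i)
      · rw [if_pos hc]
        rw [Groth.Agent.H16.SNC.psi_tau k t _ _ (biSup_mono (Finset.erase_subset j' J))
          (ψ (J.erase j') J) (hψ (J.erase j') J (Finset.erase_subset j' J))]
        apply Groth.Agent.H16.SNC.tau_eq_zero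
        have hcard' : (((insert j (J.erase j')).map e)ᶜ).card = m :=
          hcard _ (by
            rw [Finset.card_insert_of_notMem hc.1, Finset.card_erase_of_mem hj', hJ]
            omega)
        have hmem : e j' ∈ Set.range
            (Groth.Agent.H16.SNC.en d m hd0 (((insert j (J.erase j')).map e)ᶜ)) := by
          rw [Groth.Agent.H16.SNC.en_range d m hd0 _ hcard']
          simp only [Finset.coe_compl, Set.mem_compl_iff, Finset.mem_coe, Finset.mem_map,
            Finset.mem_insert, Finset.mem_erase, not_exists, not_and]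
          intro x hx hex
          have hxj' : x = j' := e.injective hex
          rcases hx with hx | hx
          · exact hjj' (hx.symm.trans hxj')
          · exact hx.1 hxj'
        obtain ⟨i₀, hi₀⟩ := hmem
        refine ⟨i₀, ?_⟩
        rw [hi₀]
        exact hmemI J j' hj'
      · rw [if_neg hc, map_zero]
    · intro h
      exact absurd (Finset.mem_univ _) h
  rw [Finset.sum_eq_single ⟨J.min' hne, Finset.min'_mem J hne⟩]
  · rw [key _ (Finset.min'_mem J hne), if_pos (fun i hi => Finset.min'_le J i hi)]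
    have h0 : (J.filter (fun i => i < J.min' hne)).card = 0 := by
      rw [Finset.card_eq_zero, Finset.filter_eq_empty_iff]
      intro i hi
      exact not_lt.mpr (Finset.min'_le J i hi)
    rw [h0, pow_zero, one_smul]
  · intro j' _ hne'
    rw [key _ j'.2, if_neg, smul_zero]
    intro hmin
    apply hne'
    apply Subtype.ext
    exact le_antisymm (hmin _ (Finset.min'_mem J hne)) (Finset.min'_le J _ j'.2)
  · intro h
    exact absurd (Finset.mem_attach _ _) h

end Groth.Agent.S19629
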