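import Groth.Statements.S19631
import Mathlib

set_option autoImplicit false
universe u
open Hyper

namespace Groth.Agent.S19631


section helpers
open CategoryTheory Simplicial SimplexCategory Truncated
open Opposite Category Functor Limits StructuredArrow

variable {C : Type*} [Category* C] [HasFiniteProducts C] (X : C) (n : ℕ)

abbrev sa {i m : ℕ} (φ : ⦋i⦌ ⟶ ⦋m⦌) (hi : i ≤ n) :
    StructuredArrow (op ⦋m⦌) (Truncated.inclusion n).op :=
  StructuredArrow.mk (Y := op (⟨SimplexCategory.mk i, hi⟩ : SimplexCategory.Truncated n)) φ.op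

abbrev CN (m : ℕ) :=
  Cone (proj (op ⦋m⦌) (Truncated.inclusion n).op ⋙ (Truncated.inclusion n).op ⋙
    cechNerveTerminalFrom X)

noncomputable abbrev pr (k : ℕ) (t : Fin (k + 1)) :
    (cechNerveTerminalFrom X).obj (op ⦋k⦌) ⟶ X :=
  Pi.π (fun _ : Fin (k + 1) => X) t

lemma map_pr {k m : ℕ} (φ : ⦋k⦌ ⟶ ⦋m⦌) (t : Fin (k + 1)) :
    (cechNerveTerminalFrom X).map φ.op ≫ pr X k t = pr X m (φ.toOrderHom t) := by
  simp [pr, cechNerveTerminalFrom]

lemma pr_ext {k : ℕ} {W : C} (a b : W ⟶ (cechNerveTerminalFrom X).obj (op ⦋k⦌))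
    (h : ∀ t, a ≫ pr X k t = b ≫ pr X k t) : a = b :=
  Limits.Pi.hom_ext _ _ h

variable {X n}

lemma cone_nat {m : ℕ} (s : CN X n m) {k k' : ℕ} (hk : k ≤ n) (hk' : k' ≤ n)
    (φ : ⦋k⦌ ⟶ ⦋m⦌) (ψ : ⦋k'⦌ ⟶ ⦋k⦌) :
    s.π.app (sa n φ hk) ≫ (cechNerveTerminalFrom X).map ψ.op = s.π.app (sa n (ψ ≫ φ) hk') := by
  let α : sa n φ hk ⟶ sa n (ψ ≫ φ) hk' :=
    StructuredArrow.homMk (Hom.tr ψ hk' hk).op (by simp)
  exact s.w α

lemma key {m : ℕ} (s : CN X n m) {k : ℕ} (hk : k ≤ n) (φ : ⦋k⦌ ⟶ ⦋m⦌) (t : Fin (k + 1)) :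
    s.π.app (sa n φ hk) ≫ pr X k t =
      s.π.app (sa n (SimplexCategory.const ⦋0⦌ ⦋m⦌ (φ.toOrderHom t)) (Nat.zero_le n)) ≫ pr X 0 0 := by
  have h1 := cone_nat s hk (Nat.zero_le n) φ (SimplexCategory.const ⦋0⦌ ⦋k⦌ t)
  have h2 : SimplexCategory.const ⦋0⦌ ⦋k⦌ t ≫ φ = SimplexCategory.const ⦋0⦌ ⦋m⦌ (φ.toOrderHom t) :=
    SimplexCategory.const_comp _ _ _
  have h3 : pr X k t = (cechNerveTerminalFrom X).map (SimplexCategory.const ⦋0⦌ ⦋k⦌ t).op ≫ pr X 0 0 :=
    (map_pr X (SimplexCategory.const ⦋0⦌ ⦋k⦌ t) 0).symm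
  rw [h3]
  exact (Category.assoc _ _ _).symm.trans ((h1 =≫ pr X 0 0).trans
    (congrArg (fun ψ => s.π.app (sa n ψ (Nat.zero_le n)) ≫ pr X 0 0) h2))

noncomputable def lift {m : ℕ} (s : CN X n m) : s.pt ⟶ (cechNerveTerminalFrom X).obj (op ⦋m⦌) :=
  Pi.lift (fun i : Fin (m + 1) =>
    s.π.app (sa n (SimplexCategory.const ⦋0⦌ ⦋m⦌ i) (Nat.zero_le n)) ≫ pr X 0 0)

lemma lift_pr {m : ℕ} (s : CN X n m) (i : Fin (m + 1)) :
    lift s ≫ pr X m i = s.π.app (sa n (SimplexCategory.const ⦋0⦌ ⦋m⦌ i) (Nat.zero_le n)) ≫ pr X 0 0 :=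
  Pi.lift_π _ _

lemma fac_aux {m : ℕ} (s : CN X n m) {k : ℕ} (hk : k ≤ n) (φ : ⦋k⦌ ⟶ ⦋m⦌) :
    lift s ≫ (cechNerveTerminalFrom X).map φ.op = s.π.app (sa n φ hk) := by
  apply pr_ext
  intro t
  rw [Category.assoc, map_pr, lift_pr]
  exact (key s hk φ t).symm


set_option backward.isDefEq.respectTransparency.types false in
set_option backward.defeqAttrib.useBackward true in
noncomputable def isPRKEAt (m : ℕ) :
    (SimplicialObject.Truncated.rightExtensionInclusion (cechNerveTerminalFrom X) n).IsPointwiseRightKanExtensionAt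
      ⟨⦋m⦌⟩ where
  lift s := lift s
  fac s j := by
    obtain ⟨⟨i, hi⟩, ⟨f : _ ⟶ _⟩, rfl⟩ := j.mk_surjective
    obtain ⟨i, rfl⟩ : ∃ j, ⦋j⦌ = i := ⟨_, i.mk_len⟩
    dsimp at hi ⊢
    rw [Category.comp_id]
    exact fac_aux s hi f
  uniq s m' hm := by
    apply pr_ext
    intro i
    have h1 := hm (sa n (SimplexCategory.const ⦋0⦌ ⦋m⦌ i) (Nat.zero_le n))
    dsimp at h1
    rw [Category.comp_id] at h1
    rw [lift_pr, ← h1]
    refine Eq.trans ?_ (Category.assoc _ _ _).symm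
    exact congrArg (fun g => m' ≫ g) (map_pr X (SimplexCategory.const ⦋0⦌ ⦋m⦌ i) 0).symm


noncomputable def isPRKE (X : C) (n : ℕ) :
    (SimplicialObject.Truncated.rightExtensionInclusion (cechNerveTerminalFrom X) n).IsPointwiseRightKanExtension :=
  fun Δ => isPRKEAt (X := X) (n := n) Δ.unop.len

theorem isCosk (X : C) (n : ℕ) : SimplicialObject.IsCoskeletal (cechNerveTerminalFrom X) n where
  isRightKanExtension :=
    RightExtension.IsPointwiseRightKanExtension.isRightKanExtension (isPRKE X n)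

end helpers

open CategoryTheory CategoryTheory.Limits AlgebraicGeometry in
/-- Let f : X → Y be a morphism of schemes and X_• = cosk_0^Y(X) its Čech nerve, the simplicial scheme
over Y with X_p = X ×_Y ⋯ ×_Y X (p + 1 factors), face maps the projections forgetting one factor and
degeneracies induced by diagonals. Then X_•, as a simplicial object of the category of schemes over
Y, is n-coskeletal for every n, i.e. the adjunction morphisms X_• → cosk_n sk_n X_• (coskeleta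
relative to Y) are isomorphisms. In the source this is phrased as: for a class S of covering maps of
varieties containing the identities, X_• → Y is an S-hypercover whenever X → Y lies in S, the
adjunction maps X_p → (cosk_{p-1} sk_{p-1} X_•)_p being isomorphisms for p ≥ 1 and X_0 → Y being f.
(Stated for arbitrary schemes; the source has varieties over a field.) -/
theorem result (X Y : Scheme.{u}) (f : X ⟶ Y) (n : ℕ) :
    SimplicialObject.IsCoskeletal (cechNerveTerminalFrom (Over.mk f)) n := by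
  exact Groth.Agent.S19631.isCosk _ n

end Groth.Agent.S19631
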