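import Groth.Statements.S19632
import Mathlib
-- import your own Groth.Agent.* helpers here

set_option autoImplicit false
universe u
open DeRham

namespace Groth.Agent.S19632


open LaurentPolynomial in
/-- formal derivative on Laurent polynomials, as a linear map -/
noncomputable def Dl (k : Type u) [Field k] : LaurentPolynomial k →ₗ[k] LaurentPolynomial k :=
  (AddMonoidAlgebra.coeffLinearEquiv k).symm.toLinearMap ∘ₗ
    (Finsupp.lsum k (fun n : ℤ => (n : k) • (Finsupp.lsingle (n - 1) : k →ₗ[k] (ℤ →₀ k)))) ∘ₗ
    (AddMonoidAlgebra.coeffLinearEquiv k).toLinearMap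

open LaurentPolynomial in
lemma Dl_monomial (k : Type u) [Field k] (a : k) (n : ℤ) :
    Dl k (C a * T n) = C ((n : k) * a) * T (n - 1) := by
  rw [← single_eq_C_mul_T, ← single_eq_C_mul_T]
  apply AddMonoidAlgebra.coeff_injective
  have h1 : (AddMonoidAlgebra.coeffLinearEquiv k) (AddMonoidAlgebra.single n a : LaurentPolynomial k)
      = Finsupp.single n a := rfl
  simp only [Dl, LinearMap.comp_apply, LinearEquiv.coe_coe, h1, Finsupp.lsum_single]
  show ((n : k) • (Finsupp.lsingle (n - 1) : k →ₗ[k] (ℤ →₀ k))) a = Finsupp.single (n - 1) ((n : k) * a)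
  rw [LinearMap.smul_apply, Finsupp.lsingle_apply, Finsupp.smul_single, smul_eq_mul]

open LaurentPolynomial in
lemma Dl_coeff (k : Type u) [Field k] (f : LaurentPolynomial k) (n : ℤ) :
    (Dl k f).coeff (n - 1) = (n : k) * f.coeff n := by
  induction f using LaurentPolynomial.induction_on' with
  | add p q hp hq => rw [map_add, AddMonoidAlgebra.coeff_add, AddMonoidAlgebra.coeff_add,
      Finsupp.add_apply, Finsupp.add_apply, hp, hq, mul_add]
  | C_mul_T m a =>
    rw [Dl_monomial, ← single_eq_C_mul_T, ← single_eq_C_mul_T, AddMonoidAlgebra.coeff_single,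
      AddMonoidAlgebra.coeff_single, Finsupp.single_apply, Finsupp.single_apply]
    by_cases h : m = n
    · subst h; simp
    · have : ¬ (m - 1 = n - 1) := fun h' => h (by omega)
      simp [h, this]

open LaurentPolynomial in
lemma Dl_leibniz (k : Type u) [Field k] (p q : LaurentPolynomial k) :
    Dl k (p * q) = p • Dl k q + q • Dl k p := by
  have key : ∀ (x y : k) (m n : ℤ), (C x * T m) * (C y * T n) = (C (x * y) * T (m + n) : LaurentPolynomial k) := by
    intro x y m n
    rw [T_add, map_mul]; ring
  induction p using LaurentPolynomial.induction_on' with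
  | add p₁ p₂ h₁ h₂ => rw [add_mul, map_add, h₁, h₂, map_add, add_smul, smul_add]; abel
  | C_mul_T m x =>
    induction q using LaurentPolynomial.induction_on' with
    | add q₁ q₂ h₁ h₂ => rw [mul_add, map_add, h₁, h₂, map_add, add_smul, smul_add]; abel
    | C_mul_T n y =>
      rw [key, Dl_monomial, Dl_monomial, Dl_monomial, smul_eq_mul, smul_eq_mul, key, key]
      have e1 : m + (n - 1) = m + n - 1 := by ring
      have e2 : n + (m - 1) = m + n - 1 := by ring
      rw [e1, e2, ← add_mul, ← map_add]
      congr 2
      push_cast; ring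

/-- Let k be a field of characteristic zero and G_m = Spec k[t, t⁻¹] the multiplicative group. The
kernel of the differential d : k[t, t⁻¹] → Ω¹ of the de Rham complex of G_m consists of the
constants: for a Laurent polynomial f, df = 0 if and only if f lies in the image of k. Equivalently
H^0_dR(G_m/k) = k. (Characteristic zero is used: in characteristic p the element t^p is closed.) -/
theorem result (k : Type u) [Field k] [CharZero k]
    (f : LaurentPolynomial k) :
    KaehlerDifferential.D k (LaurentPolynomial k) f = 0 ↔ f ∈ Set.range (algebraMap k (LaurentPolynomial k)) := by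
  constructor
  · intro h
    let Dv : Derivation k (LaurentPolynomial k) (LaurentPolynomial k) :=
      Derivation.mk' (Dl k) (Dl_leibniz k)
    have h0 : Dl k f = 0 := by
      have h1 : Dv.liftKaehlerDifferential (KaehlerDifferential.D k (LaurentPolynomial k) f) = Dv f :=
        Derivation.liftKaehlerDifferential_comp_D Dv f
      rw [h, map_zero] at h1
      exact h1.symm
    refine ⟨f.coeff 0, ?_⟩
    rw [LaurentPolynomial.algebraMap_apply, Algebra.algebraMap_self, RingHom.id_apply]
    apply AddMonoidAlgebra.coeff_injective
    ext n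
    by_cases hn : n = 0
    · subst hn
      rw [← mul_one (LaurentPolynomial.C (f.coeff 0)), ← LaurentPolynomial.T_zero,
        ← LaurentPolynomial.single_eq_C_mul_T, AddMonoidAlgebra.coeff_single]
      simp
    · have h2 := Dl_coeff k f n
      rw [h0] at h2
      have h3 : f.coeff n = 0 := by
        have : (n : k) ≠ 0 := Int.cast_ne_zero.mpr hn
        have h4 : (n : k) * f.coeff n = 0 := by rw [← h2]; rfl
        exact (mul_eq_zero.mp h4).resolve_left this
      rw [h3, ← mul_one (LaurentPolynomial.C (f.coeff 0)), ← LaurentPolynomial.T_zero,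
        ← LaurentPolynomial.single_eq_C_mul_T, AddMonoidAlgebra.coeff_single,
        Finsupp.single_apply, if_neg (Ne.symm hn)]
  · rintro ⟨c, rfl⟩
    exact Derivation.map_algebraMap _ c

end Groth.Agent.S19632
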