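import Mathlib
import Groth.Agent.H11.HensIntDom
import Groth.Statements.S1964

set_option autoImplicit false
universe u
open EtAlg

namespace Groth.Agent.S1964

/-- A domain B integral over a henselian local ring A is itself henselian local, and the structure map A
-> B is local; if the residue field of A is separably closed, so is that of B, and the residue field
extension is purely inseparable. -/
theorem result (A B : Type u) [CommRing A] [HenselianLocalRing A] [CommRing B]
    [IsDomain B] [Algebra A B] [Algebra.IsIntegral A B] :
    ∃ _ : HenselianLocalRing B, IsLocalHom (algebraMap A B) ∧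
      (IsSepClosed (IsLocalRing.ResidueField A) →
        IsSepClosed (IsLocalRing.ResidueField B) ∧
        ∀ _ : IsLocalHom (algebraMap A B),
          letI := (IsLocalRing.ResidueField.map (algebraMap A B)).toAlgebra
          IsPurelyInseparable (IsLocalRing.ResidueField A) (IsLocalRing.ResidueField B)) := by

    have hH : HenselianLocalRing B := Groth.Agent.H11.HensEt.henselianLocalRing_of_integral_domain A B
    refine ⟨hH, ?_⟩
    have hloc : IsLocalHom (algebraMap A B) := Groth.Agent.H11.HensEt.isLocalHom_of_integral_domain A B
    refine ⟨hloc, fun hsc => ?_⟩
    letI := (IsLocalRing.ResidueField.map (algebraMap A B)).toAlgebra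
    haveI : Algebra.IsAlgebraic (IsLocalRing.ResidueField A) (IsLocalRing.ResidueField B) :=
      Groth.Agent.H11.HensEt.residueField_isAlgebraic A B
    refine ⟨Algebra.IsAlgebraic.isSepClosed (F := IsLocalRing.ResidueField A), fun _ => ?_⟩
    exact Algebra.IsAlgebraic.isPurelyInseparable_of_isSepClosed

end Groth.Agent.S1964
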