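import Groth.Statements.S1965
import Mathlib
-- import your own Groth.Agent.* helpers here

set_option autoImplicit false
universe u
open Polynomial
open EtAlg

namespace Groth.Agent.S1965


open Polynomial IsLocalRing in
/-- Hensel's lemma in an adically complete ring, without the monic assumption
(the Newton iteration argument of `IsAdicComplete.henselianRing`). -/
theorem hensel_complete {R : Type*} [CommRing R] (I : Ideal R) [IsAdicComplete I R]
    (f : R[X]) (a₀ : R) (h₁ : f.eval a₀ ∈ I)
    (h₂ : IsUnit (Ideal.Quotient.mk I (f.derivative.eval a₀))) :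
    ∃ a : R, f.IsRoot a ∧ a - a₀ ∈ I := by
  classical
    let f' := derivative f
    let c : ℕ → R := fun n => Nat.recOn n a₀ fun _ b => b - f.eval b * Ring.inverse (f'.eval b)
    have hc : ∀ n, c (n + 1) = c n - f.eval (c n) * Ring.inverse (f'.eval (c n)) := by
      intro n
      simp only [c]
    have hc_mod : ∀ n, c n ≡ a₀ [SMOD I] := by
      intro n
      induction n with
      | zero => rfl
      | succ n ih => ?_
      rw [hc, sub_eq_add_neg, ← add_zero a₀]
      refine ih.add ?_
      rw [SModEq.zero, Ideal.neg_mem_iff]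
      refine I.mul_mem_right _ ?_
      rw [← SModEq.zero] at h₁ ⊢
      exact (ih.eval f).trans h₁
    have hf'c : ∀ n, IsUnit (f'.eval (c n)) := by
      intro n
      have := isLocalHom_of_le_jacobson_bot I (IsAdicComplete.le_jacobson_bot I)
      apply IsUnit.of_map (Ideal.Quotient.mk I)
      convert h₂ using 1
      exact SModEq.def.mp ((hc_mod n).eval _)
    have hfcI : ∀ n, f.eval (c n) ∈ I ^ (n + 1) := by
      intro n
      induction n with
      | zero =>
        rw [zero_add, pow_one]
        exact h₁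
      | succ n ih => ?_
      rw [← taylor_eval_sub (c n), hc, sub_eq_add_neg, sub_eq_add_neg,
        add_neg_cancel_comm]
      rw [eval_eq_sum, sum_over_range' _ _ _ (lt_add_of_pos_right _ zero_lt_two), ←
        Finset.sum_range_add_sum_Ico _ (Nat.le_add_left _ _)]
      swap
      · intro i
        rw [zero_mul]
      refine Ideal.add_mem _ ?_ ?_
      · rw [← one_add_one_eq_two, Finset.sum_range_succ, Finset.range_one, Finset.sum_singleton,
          taylor_coeff_zero, taylor_coeff_one, pow_zero, pow_one, mul_one, mul_neg,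
          mul_left_comm, Ring.mul_inverse_cancel _ (hf'c n), mul_one, add_neg_cancel]
        exact Ideal.zero_mem _
      · refine Submodule.sum_mem _ ?_
        simp only [Finset.mem_Ico]
        rintro i ⟨h2i, _⟩
        have aux : n + 2 ≤ i * (n + 1) := by trans 2 * (n + 1) <;> nlinarith only [h2i]
        refine Ideal.mul_mem_left _ _ (Ideal.pow_le_pow_right aux ?_)
        rw [pow_mul']
        exact Ideal.pow_mem_pow ((Ideal.neg_mem_iff _).2 <| Ideal.mul_mem_right _ _ ih) _
    have aux : ∀ m n, m ≤ n → c m ≡ c n [SMOD (I ^ m • ⊤ : Ideal R)] := by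
      intro m n hmn
      rw [← Ideal.one_eq_top, Ideal.smul_eq_mul, mul_one]
      obtain ⟨k, rfl⟩ := Nat.exists_eq_add_of_le hmn
      clear hmn
      induction k with
      | zero => rw [add_zero]
      | succ k ih => ?_
      rw [← add_assoc, hc, ← add_zero (c m), sub_eq_add_neg]
      refine ih.add ?_
      symm
      rw [SModEq.zero, Ideal.neg_mem_iff]
      refine Ideal.mul_mem_right _ _ (Ideal.pow_le_pow_right ?_ (hfcI _))
      rw [add_assoc]
      exact le_self_add
    obtain ⟨a, ha⟩ := IsPrecomplete.prec' c (aux _ _)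
    refine ⟨a, ?_, ?_⟩
    · show f.IsRoot a
      suffices ∀ n, f.eval a ≡ 0 [SMOD (I ^ n • ⊤ : Ideal R)] by exact IsHausdorff.haus' _ this
      intro n
      specialize ha n
      rw [← Ideal.one_eq_top, Ideal.smul_eq_mul, mul_one] at ha ⊢
      refine (ha.symm.eval f).trans ?_
      rw [SModEq.zero]
      exact Ideal.pow_le_pow_right le_self_add (hfcI _)
    · show a - a₀ ∈ I
      specialize ha (0 + 1)
      rw [hc, pow_one, ← Ideal.one_eq_top, Ideal.smul_eq_mul, mul_one, sub_eq_add_neg] at ha
      rw [← SModEq.sub_mem, ← add_zero a₀]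
      refine ha.symm.trans (SModEq.rfl.add ?_)
      rw [SModEq.zero, Ideal.neg_mem_iff]
      exact Ideal.mul_mem_right _ _ h₁

theorem eval_mem_of_coeff_mem {R : Type*} [CommRing R] (J : Ideal R) (Q : R[X])
    (hQ : ∀ i, Q.coeff i ∈ J) (x : R) : Q.eval x ∈ J := by
  rw [Polynomial.eval_eq_sum_range]
  exact Ideal.sum_mem _ fun i _ => Ideal.mul_mem_right _ _ (hQ i)

/-- Let A be a complete Noetherian local domain of Krull dimension 1 with maximal ideal m, P a
polynomial over A and α a root of P which is not a root of the derivative P'. Then for every c there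
is an n such that for every polynomial Q all of whose coefficients lie in m^n, the polynomial P + Q
has a root β with β - α in m^c. -/
theorem result (A : Type u) [CommRing A] [IsDomain A] [IsLocalRing A] [IsNoetherianRing A]
    [IsAdicComplete (IsLocalRing.maximalIdeal A) A] (hdim : ringKrullDim A = 1) (P : A[X]) (α : A)
    (hα : P.eval α = 0) (hα' : (derivative P).eval α ≠ 0) (c : ℕ) :
    ∃ n : ℕ, ∀ Q : A[X], (∀ i, Q.coeff i ∈ IsLocalRing.maximalIdeal A ^ n) →
      ∃ β : A, (P + Q).eval β = 0 ∧ β - α ∈ IsLocalRing.maximalIdeal A ^ c := by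
  classical
  have hd2 : ((derivative P).eval α) ^ 2 ≠ 0 := pow_ne_zero 2 hα'
  haveI : Ring.KrullDimLE 1 A := Ring.krullDimLE_iff.mpr (by rw [hdim]; exact le_refl _)
  have hrad : IsLocalRing.maximalIdeal A ≤ (Ideal.span {((derivative P).eval α) ^ 2}).radical := by
    rw [Ideal.radical_eq_sInf]
    refine le_sInf ?_
    rintro p ⟨hp1, hp2⟩
    have hp0 : p ≠ ⊥ := by
      intro h0
      apply hd2
      have h3 : ((derivative P).eval α) ^ 2 ∈ p := hp1 (Ideal.mem_span_singleton_self _)
      rw [h0] at h3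
      simpa using h3
    have hpmax := hp2.isMaximal_of_ne_bot hp0
    rw [IsLocalRing.eq_maximalIdeal hpmax]
  obtain ⟨N, hN⟩ := Ideal.exists_pow_le_of_le_radical_of_fg hrad
    (IsNoetherian.noetherian (IsLocalRing.maximalIdeal A))
  refine ⟨N + (c + 1), fun Q hQ => ?_⟩
  have hdecomp : ∀ x ∈ IsLocalRing.maximalIdeal A ^ (N + (c + 1)),
      ∃ t ∈ IsLocalRing.maximalIdeal A ^ (c + 1), ((derivative P).eval α) ^ 2 * t = x := by
    intro x hx
    rw [pow_add] at hx
    have h3 := Ideal.mul_mono_left (K := IsLocalRing.maximalIdeal A ^ (c + 1)) hN hx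
    exact Ideal.mem_span_singleton_mul.mp h3
  have hQα : Q.eval α ∈ IsLocalRing.maximalIdeal A ^ (N + (c + 1)) :=
    eval_mem_of_coeff_mem _ Q hQ α
  have hQ'α : (derivative Q).eval α ∈ IsLocalRing.maximalIdeal A ^ (N + (c + 1)) :=
    eval_mem_of_coeff_mem _ (derivative Q)
      (fun i => by rw [coeff_derivative]; exact Ideal.mul_mem_right _ _ (hQ _)) α
  obtain ⟨t, ht, hdt⟩ := hdecomp _ hQα
  obtain ⟨t', ht', hdt'⟩ := hdecomp _ hQ'α
  have hmc : IsLocalRing.maximalIdeal A ^ (c + 1) ≤ IsLocalRing.maximalIdeal A :=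
    Ideal.pow_le_self (Nat.succ_ne_zero c)
  have htm : t ∈ IsLocalRing.maximalIdeal A := hmc ht
  have ht'm : t' ∈ IsLocalRing.maximalIdeal A := hmc ht'
  generalize hd : (derivative P).eval α = d at *
  have hfα : (P + Q).eval α = d ^ 2 * t := by rw [eval_add, hα, zero_add, hdt]
  have hf'α : (derivative (P + Q)).eval α = d * (1 + d * t') := by
    rw [derivative_add, eval_add, hd, ← hdt']
    ring
  have hwunit : IsUnit (1 + d * t') := by
    have h3 : d * t' ∈ IsLocalRing.maximalIdeal A := Ideal.mul_mem_left _ _ ht'm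
    by_contra hnu
    have hwm : 1 + d * t' ∈ IsLocalRing.maximalIdeal A := (IsLocalRing.mem_maximalIdeal _).mpr hnu
    have h4 : (1 : A) ∈ IsLocalRing.maximalIdeal A := by
      have h5 := (IsLocalRing.maximalIdeal A).sub_mem hwm h3
      rwa [add_sub_cancel_right] at h5
    exact (Ideal.ne_top_iff_one _).mp (IsLocalRing.maximalIdeal.isMaximal A).ne_top h4
  generalize hw : 1 + d * t' = w at *
  obtain ⟨T₂, hTdecomp⟩ : ∃ T₂ : A[X],
      taylor α (P + Q) = C (d ^ 2 * t) + C (d * w) * X + X ^ 2 * T₂ := by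
    refine ⟨divX (divX (taylor α (P + Q))), ?_⟩
    have h1 := divX_mul_X_add (taylor α (P + Q))
    have h2 := divX_mul_X_add (divX (taylor α (P + Q)))
    have hc0 : (taylor α (P + Q)).coeff 0 = d ^ 2 * t := by rw [taylor_coeff_zero, hfα]
    have hc1 : (divX (taylor α (P + Q))).coeff 0 = d * w := by
      rw [coeff_divX, zero_add, taylor_coeff_one, hf'α]
    rw [hc0] at h1
    rw [hc1] at h2
    calc taylor α (P + Q) = divX (taylor α (P + Q)) * X + C (d ^ 2 * t) := h1.symm
      _ = (divX (divX (taylor α (P + Q))) * X + C (d * w)) * X + C (d ^ 2 * t) := by rw [h2]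
      _ = _ := by ring
  obtain ⟨wu, hwu⟩ := hwunit
  have hkey : ∀ z : A, (P + Q).eval (d * t * z + α) =
      d ^ 2 * t * (1 + C w * X + C t * (X ^ 2 * T₂.comp (C (d * t) * X))).eval z := by
    intro z
    rw [← taylor_eval, hTdecomp]
    simp only [eval_add, eval_mul, eval_C, eval_X, eval_pow, eval_comp, eval_one]
    ring
  have hwa : w * (-(↑wu⁻¹ : A)) = -1 := by
    rw [← hwu]
    simp
  have h1 : (1 + C w * X + C t * (X ^ 2 * T₂.comp (C (d * t) * X))).eval (-(↑wu⁻¹ : A)) ∈
      IsLocalRing.maximalIdeal A := by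
    have h3 : (1 + C w * X + C t * (X ^ 2 * T₂.comp (C (d * t) * X))).eval (-(↑wu⁻¹ : A)) =
        t * ((-(↑wu⁻¹ : A)) ^ 2 * T₂.eval (d * t * (-(↑wu⁻¹ : A)))) := by
      simp only [eval_add, eval_mul, eval_C, eval_X, eval_pow, eval_comp, eval_one]
      linear_combination hwa
    rw [h3]
    exact Ideal.mul_mem_right _ _ htm
  have h2 : IsUnit (Ideal.Quotient.mk (IsLocalRing.maximalIdeal A)
      ((derivative (1 + C w * X + C t * (X ^ 2 * T₂.comp (C (d * t) * X)))).eval
        (-(↑wu⁻¹ : A)))) := by
    have h3 : derivative (1 + C w * X + C t * (X ^ 2 * T₂.comp (C (d * t) * X))) =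
        C w + C t * derivative (X ^ 2 * T₂.comp (C (d * t) * X)) := by
      simp only [derivative_add, derivative_one, derivative_C_mul, derivative_X, zero_add, mul_one]
    rw [h3, eval_add, eval_mul, eval_C, eval_C, map_add, map_mul,
      Ideal.Quotient.eq_zero_iff_mem.mpr htm, zero_mul, add_zero, ← hwu]
    exact wu.isUnit.map _
  obtain ⟨z₀, hz₀, -⟩ := hensel_complete (IsLocalRing.maximalIdeal A) _ _ h1 h2
  refine ⟨d * t * z₀ + α, ?_, ?_⟩
  · rw [hkey, hz₀.eq_zero, mul_zero]
  · rw [add_sub_cancel_right]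
    refine Ideal.pow_le_pow_right (Nat.le_succ c) ?_
    have h5 : d * t * z₀ = (d * z₀) * t := by ring
    rw [h5]
    exact Ideal.mul_mem_left _ _ ht

end Groth.Agent.S1965
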