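import Groth.Statements.S19651
import Mathlib

set_option autoImplicit false
universe u v
open AbVar

namespace Groth.Agent.S19651

section aux
open Polynomial
variable {k : Type u} [Field k] {V : Type v} [AddCommGroup V] [Module k V]

theorem iso_pow (B : LinearMap.BilinForm k V) (f : Module.End k V)
    (hf : ∀ x y, B (f x) (f y) = B x y) (i : ℕ) (u w : V) :
    B ((f ^ i) u) ((f ^ i) w) = B u w := by
  induction i generalizing u w with
  | zero => simp
  | succ i ih =>
    rw [pow_succ, Module.End.mul_apply, Module.End.mul_apply, ih]
    exact hf u w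

theorem lemmaA (B : LinearMap.BilinForm k V) (f : Module.End k V)
    (hf : ∀ x y, B (f x) (f y) = B x y) (P : k[X]) (u v : V) :
    B (aeval f P u) ((f ^ P.natDegree) v) = B u (aeval f P.reverse v) := by
  have h1 : aeval f P = ∑ i ∈ Finset.range (P.natDegree + 1), P.coeff i • f ^ i :=
    aeval_eq_sum_range' (Nat.lt_succ_self _) f
  have h2 : aeval f P.reverse =
      ∑ i ∈ Finset.range (P.natDegree + 1), P.coeff i • f ^ (P.natDegree - i) := by
    have hdeg : P.reverse.natDegree < P.natDegree + 1 :=
      Nat.lt_succ_of_le (reverse_natDegree_le P)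
    rw [aeval_eq_sum_range' hdeg f, ← Finset.sum_range_reflect]
    refine Finset.sum_congr rfl fun j hj => ?_
    have hj' : j ≤ P.natDegree := by have := Finset.mem_range.mp hj; omega
    have e : P.natDegree + 1 - 1 - j = P.natDegree - j := by omega
    rw [e, coeff_reverse, revAt_le (Nat.sub_le _ _), Nat.sub_sub_self hj']
  rw [h1, h2]
  simp only [LinearMap.sum_apply, LinearMap.smul_apply, map_sum, map_smul]
  refine Finset.sum_congr rfl fun i hi => ?_
  have hi' : i ≤ P.natDegree := by have := Finset.mem_range.mp hi; omega
  congr 1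
  have e : (f ^ P.natDegree) v = (f ^ i) ((f ^ (P.natDegree - i)) v) := by
    rw [← Module.End.mul_apply, ← pow_add, Nat.add_sub_cancel' hi']
  rw [e, iso_pow B f hf]

theorem lemmaPow (B : LinearMap.BilinForm k V) (f : Module.End k V)
    (hf : ∀ x y, B (f x) (f y) = B x y) (P : k[X]) (n : ℕ) : ∀ u v : V,
    B (((aeval f P) ^ n) u) (((f ^ P.natDegree) ^ n) v) =
      B u (((aeval f P.reverse) ^ n) v) := by
  induction n with
  | zero => intro u v; simp
  | succ n ih =>
    intro u v
    rw [pow_succ' (aeval f P), pow_succ' (f ^ P.natDegree), Module.End.mul_apply,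
      Module.End.mul_apply, lemmaA B f hf]
    have hc0 : Commute (aeval f P.reverse) (f ^ P.natDegree) := by
      have := (Commute.all P.reverse (X ^ P.natDegree)).map (aeval f)
      simpa using this
    have hc : (aeval f P.reverse) (((f ^ P.natDegree) ^ n) v) =
        ((f ^ P.natDegree) ^ n) ((aeval f P.reverse) v) :=
      congrArg (fun g : Module.End k V => g v) (hc0.pow_right n).eq
    rw [hc, ih, pow_succ (aeval f P.reverse), Module.End.mul_apply]

end aux

open Polynomial in
/-- Stated for an arbitrary invariant bilinear form, as the argument there allows. Let k be a field, V a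
k-vector space with a bilinear form B and M a linear automorphism of V with B(Mx, My) = B(x, y) for
all x, y. If Q₁ and Q₂ are polynomials such that the reciprocal polynomial of Q₁ (its coefficient
list reversed) is coprime to Q₂, then every vector killed by a power of Q₁(M) is B-orthogonal to
every vector killed by a power of Q₂(M). With Q₁ = Q₂ = Q this says that the generalized kernel of
Q(M) is totally isotropic whenever Q is coprime to its reciprocal polynomial, which for an
irreducible Q means that Q is not self-reciprocal. (The published statement takes M symplectic and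
Q₁, Q₂ irreducible factors of the characteristic polynomial, with Q not self-reciprocal in the first
clause; its second clause asks Q₁ and Q₂ to be distinct and not reciprocal, which holds as proved
when this is read as saying that Q₂ is not the reciprocal of Q₁, but fails if it only means that
neither is self-reciprocal, as the diagonal matrix with entries 2 and 1/2 preserving the standard
alternating form on k² shows; the coprimality of the reciprocal of Q₁ with Q₂, which is what the
published proof uses, is imposed here and covers both clauses.) -/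
theorem result
    {k : Type u} [Field k] {V : Type v} [AddCommGroup V] [Module k V]
    (B : LinearMap.BilinForm k V) (M : V ≃ₗ[k] V)
    (hM : ∀ x y : V, B (M x) (M y) = B x y)
    (Q₁ Q₂ : k[X]) (h : IsCoprime Q₁.reverse Q₂)
    (x y : V)
    (hx : ∃ n : ℕ, (Polynomial.aeval (M : V →ₗ[k] V) Q₁ ^ n) x = 0)
    (hy : ∃ n : ℕ, (Polynomial.aeval (M : V →ₗ[k] V) Q₂ ^ n) y = 0) :
    B x y = 0 := by
  classical
  obtain ⟨n, hn⟩ := hx
  obtain ⟨m, hm⟩ := hy
  have hf : ∀ x y, B ((M : V →ₗ[k] V) x) ((M : V →ₗ[k] V) y) = B x y := fun x y => hM x y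
  have key : ∀ w, B x (((Polynomial.aeval (M : V →ₗ[k] V) Q₁.reverse) ^ n) w) = 0 := by
    intro w
    rw [← lemmaPow B (M : V →ₗ[k] V) hf Q₁ n x w, hn]
    simp
  obtain ⟨a, b, hab⟩ := (h.pow (m := n) (n := m))
  have h1 : (Polynomial.aeval (M : V →ₗ[k] V) a *
      (Polynomial.aeval (M : V →ₗ[k] V) Q₁.reverse) ^ n +
      Polynomial.aeval (M : V →ₗ[k] V) b * (Polynomial.aeval (M : V →ₗ[k] V) Q₂) ^ m) = 1 := by
    have := congrArg (Polynomial.aeval (M : V →ₗ[k] V)) hab
    simpa using this
  have h2 := congrArg (fun g : Module.End k V => g y) h1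
  simp only [LinearMap.add_apply, Module.End.mul_apply, Module.End.one_apply] at h2
  rw [hm, map_zero, add_zero] at h2
  have hc0 : Commute (Polynomial.aeval (M : V →ₗ[k] V) a)
      (Polynomial.aeval (M : V →ₗ[k] V) Q₁.reverse) :=
    (Commute.all a Q₁.reverse).map (Polynomial.aeval (M : V →ₗ[k] V))
  have hc : (Polynomial.aeval (M : V →ₗ[k] V) a)
      (((Polynomial.aeval (M : V →ₗ[k] V) Q₁.reverse) ^ n) y) =
      ((Polynomial.aeval (M : V →ₗ[k] V) Q₁.reverse) ^ n)
        ((Polynomial.aeval (M : V →ₗ[k] V) a) y) :=
    congrArg (fun g : Module.End k V => g y) (hc0.pow_right n).eq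
  rw [hc] at h2
  rw [← h2]
  exact key _

end Groth.Agent.S19651
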