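import Groth.Statements.S19652
import Mathlib
import Groth.Agent.S19651

set_option autoImplicit false
universe u v
open AbVar

namespace Groth.Agent.S19652

open Polynomial in
/-- Stated for an arbitrary invariant nondegenerate bilinear form, as the argument there allows. Let k
be a field, V a finite-dimensional k-vector space with a nondegenerate bilinear form B and M a
linear automorphism of V with B(Mx, My) = B(x, y) for all x, y. If Q is a polynomial associated to
its own reciprocal polynomial (its coefficient list reversed), then B restricted to the generalized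
kernel of Q(M), the union of the kernels of the powers Q(M)^n, is nondegenerate. (The published
statement takes M symplectic and Q a self-reciprocal divisor of the characteristic polynomial;
divisibility plays no role and is not assumed.) -/
theorem result
    {k : Type u} [Field k] {V : Type v} [AddCommGroup V] [Module k V] [FiniteDimensional k V]
    (B : LinearMap.BilinForm k V) (hB : B.Nondegenerate) (M : V ≃ₗ[k] V)
    (hM : ∀ x y : V, B (M x) (M y) = B x y)
    (Q : k[X]) (hQ : Associated Q Q.reverse) :
    (B.restrict (⨆ n : ℕ, LinearMap.ker (Polynomial.aeval (M : V →ₗ[k] V) Q ^ n))).Nondegenerate := by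
  classical
  set f : Module.End k V := (M : V →ₗ[k] V) with hf_def
  have hf : ∀ x y, B (f x) (f y) = B x y := fun x y => hM x y
  set T : Module.End k V := Polynomial.aeval f Q with hT
  obtain ⟨c, hc⟩ := hQ
  have hR : Polynomial.aeval f Q.reverse = T * Polynomial.aeval f (c : k[X]) := by
    rw [← hc, map_mul]
  have hCC : Polynomial.aeval f (c : k[X]) * Polynomial.aeval f ((c⁻¹ : k[X]ˣ) : k[X]) = 1 := by
    rw [← map_mul, Units.mul_inv, map_one]
  have hTR : T = Polynomial.aeval f Q.reverse * Polynomial.aeval f ((c⁻¹ : k[X]ˣ) : k[X]) := by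
    rw [hR, mul_assoc, hCC, mul_one]
  have hcomm : Commute (Polynomial.aeval f Q.reverse)
      (Polynomial.aeval f ((c⁻¹ : k[X]ˣ) : k[X])) :=
    (Commute.all _ _).map (Polynomial.aeval f)
  obtain ⟨N, hN⟩ := Filter.eventually_atTop.mp
    ((LinearMap.eventually_isCompl_ker_pow_range_pow T).and
      (LinearMap.eventually_iSup_ker_pow_eq T))
  obtain ⟨h₁, h₃⟩ := hN N le_rfl
  have orth : ∀ x z : V, (T ^ N) x = 0 → B x ((T ^ N) z) = 0 := by
    intro x z hx
    have e : (T ^ N) z = ((Polynomial.aeval f Q.reverse) ^ N)
        (((Polynomial.aeval f ((c⁻¹ : k[X]ˣ) : k[X])) ^ N) z) := by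
      rw [← Module.End.mul_apply, ← hcomm.mul_pow, ← hTR]
    rw [e, ← Groth.Agent.S19651.lemmaPow B f hf Q N x _, hx]
    simp
  apply LinearMap.BilinForm.Nondegenerate.ofSeparatingLeft
  intro x hx
  have hxk : (T ^ N) x.1 = 0 := (le_of_eq h₃) x.2
  have hx0 : x.1 = 0 := by
    apply hB.1
    intro v
    have hv : v ∈ LinearMap.ker (T ^ N) ⊔ LinearMap.range (T ^ N) := by
      rw [h₁.sup_eq_top]; trivial
    obtain ⟨w, hw, w', ⟨z, rfl⟩, rfl⟩ := Submodule.mem_sup.mp hv
    rw [map_add]
    have h1 : B x.1 w = 0 := by
      have hwW : w ∈ ⨆ n : ℕ, LinearMap.ker (T ^ n) := by rw [h₃]; exact hw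
      exact hx ⟨w, hwW⟩
    rw [h1, orth x.1 z hxk, add_zero]
  exact Subtype.ext hx0

end Groth.Agent.S19652
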