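import Mathlib
import Groth.Statements.S1966
import Groth.Agent.H11.HensTower

set_option autoImplicit false
universe u
open EtAlg

namespace Groth.Agent.S1966

/-- Towers indexed by the natural numbers: let (A_k) be rings with surjective transition maps A_{k+1} ->
A_k whose kernels consist of nilpotent elements, and let A be a ring with compatible projections p_k
: A -> A_k identifying A with the set of compatible sequences (p is jointly injective and every
compatible sequence comes from an element of A). Then for every k the pair (A, ker p_k) is
henselian. -/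
theorem result (A : Type u) [CommRing A] (As : ℕ → Type u) [∀ k, CommRing (As k)]
    (t : ∀ k, As (k + 1) →+* As k) (ht : ∀ k, Function.Surjective (t k))
    (hnil : ∀ k (x : As (k + 1)), t k x = 0 → IsNilpotent x)
    (p : ∀ k, A →+* As k) (hp : ∀ k, (t k).comp (p (k + 1)) = p k)
    (hinj : ∀ a b : A, (∀ k, p k a = p k b) → a = b)
    (hsurj : ∀ x : ∀ k, As k, (∀ k, t k (x (k + 1)) = x k) → ∃ a : A, ∀ k, p k a = x k) (k : ℕ) :
    HenselianRing A (RingHom.ker (p k)) := by
  have hp' : ∀ i (x : A), t i (p (i + 1) x) = p i x := fun i x => RingHom.congr_fun (hp i) x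
  have hanti1 : ∀ i, RingHom.ker (p (i + 1)) ≤ RingHom.ker (p i) := by
    intro i x hx
    rw [RingHom.mem_ker] at hx ⊢
    rw [← hp', hx, map_zero]
  have hanti : ∀ i i', i ≤ i' → RingHom.ker (p i') ≤ RingHom.ker (p i) := by
    intro i i' h
    induction i', h using Nat.le_induction with
    | base => exact le_rfl
    | succ n _ ih => exact le_trans (hanti1 n) ih
  have key := Groth.Agent.H11.hens_of_tower (fun j => RingHom.ker (p (k + j)))
    (fun j => hanti1 (k + j))
    (by
      intro j x hx
      rw [RingHom.mem_ker] at hx
      have h1 : t (k + j) (p (k + j + 1) x) = 0 := by rw [hp', hx]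
      obtain ⟨N, hN⟩ := hnil _ _ h1
      refine ⟨N, ?_⟩
      show x ^ N ∈ RingHom.ker (p (k + j + 1))
      rw [RingHom.mem_ker, map_pow, hN])
    (by
      intro x hx
      apply hinj
      intro i
      have := hanti i (k + i) (by omega) (hx i)
      rw [RingHom.mem_ker] at this
      rw [this, map_zero])
    (by
      intro a ha
      have hcompat : ∀ i, t i (p (i + 1) (a (i + 1 - k))) = p i (a (i - k)) := by
        intro i
        rw [hp']
        rcases Nat.lt_or_ge i k with h | h
        · have e1 : i + 1 - k = 0 := by omega
          have e2 : i - k = 0 := by omega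
          rw [e1, e2]
        · have e1 : i + 1 - k = (i - k) + 1 := by omega
          rw [e1]
          have h2 := ha (i - k)
          have e2 : k + (i - k) = i := by omega
          rw [e2, RingHom.mem_ker, map_sub, sub_eq_zero] at h2
          exact h2
      obtain ⟨L, hL⟩ := hsurj (fun i => p i (a (i - k))) hcompat
      refine ⟨L, fun j => ?_⟩
      show L - a j ∈ RingHom.ker (p (k + j))
      rw [RingHom.mem_ker, map_sub, hL (k + j), Nat.add_sub_cancel_left, sub_self])
  exact key

end Groth.Agent.S1966
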