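import Groth.Statements.S19660
import Mathlib
-- import your own Groth.Agent.* helpers here

set_option autoImplicit false
universe u v
open AbVar

namespace Groth.Agent.S19660

section

variable {k : Type u} [Field k] {V : Type v} [AddCommGroup V] [Module k V]

lemma adj_powR (B : LinearMap.BilinForm k V) (T S : Module.End k V)
    (h : ∀ x y, B x (T y) = B (S x) y) (n : ℕ) :
    ∀ x y, B x ((T ^ n) y) = B ((S ^ n) x) y := by
  induction n with
  | zero => intro x y; simp
  | succ n ih =>
    intro x y
    rw [pow_succ', Module.End.mul_apply, h, ih, ← Module.End.mul_apply, ← pow_succ]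

lemma adj_powL (B : LinearMap.BilinForm k V) (T S : Module.End k V)
    (h : ∀ x y, B (T x) y = B x (S y)) (n : ℕ) :
    ∀ x y, B ((T ^ n) x) y = B x ((S ^ n) y) := by
  induction n with
  | zero => intro x y; simp
  | succ n ih =>
    intro x y
    rw [pow_succ', Module.End.mul_apply, h, ih, ← Module.End.mul_apply, ← pow_succ]

lemma pow_kill (c : k) (g N : Module.End k V) (hc : Commute g N) (n : ℕ) (x : V)
    (hx : (N ^ n) x = 0) : ((c • (g * N)) ^ n) x = 0 := by
  rw [smul_pow, hc.mul_pow, LinearMap.smul_apply, Module.End.mul_apply, hx, map_zero, smul_zero]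

lemma adjR (B : LinearMap.BilinForm k V) (f g : Module.End k V) (q : k)
    (hMf : ∀ x y, B (f x) (f y) = q * B x y) (hfg : ∀ x, f (g x) = x) (c : k) :
    ∀ x y, B x ((f - c • (1 : Module.End k V)) y) =
      B ((q • g - c • (1 : Module.End k V)) x) y := by
  intro x y
  have h1 : B x (f y) = q * B (g x) y := by rw [← hMf (g x) y, hfg]
  simp only [LinearMap.sub_apply, LinearMap.smul_apply, Module.End.one_apply, map_sub, map_smul,
    smul_eq_mul, h1]

lemma adjL (B : LinearMap.BilinForm k V) (f g : Module.End k V) (q : k)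
    (hMf : ∀ x y, B (f x) (f y) = q * B x y) (hfg : ∀ x, f (g x) = x) (c : k) :
    ∀ x y, B ((f - c • (1 : Module.End k V)) x) y =
      B x ((q • g - c • (1 : Module.End k V)) y) := by
  intro x y
  have h1 : B (f x) y = q * B x (g y) := by rw [← hMf x (g y), hfg]
  simp only [LinearMap.sub_apply, LinearMap.smul_apply, Module.End.one_apply, map_sub, map_smul,
    smul_eq_mul, h1]

lemma orth (B : LinearMap.BilinForm k V) (f : Module.End k V) (q : k)
    (hMf : ∀ x y, B (f x) (f y) = q * B x y) (μ ν : k) (h : μ * ν ≠ q) :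
    ∀ m a b : ℕ, a + b = m → ∀ x y : V,
      ((f - μ • (1 : Module.End k V)) ^ a) x = 0 →
      ((f - ν • (1 : Module.End k V)) ^ b) y = 0 → B x y = 0 := by
  intro m
  induction m using Nat.strong_induction_on with
  | _ m ih =>
    intro a b hab x y hx hy
    rcases Nat.eq_zero_or_pos a with ha | ha
    · subst ha
      rw [pow_zero, Module.End.one_apply] at hx
      rw [hx, map_zero, LinearMap.zero_apply]
    rcases Nat.eq_zero_or_pos b with hb | hb
    · subst hb
      rw [pow_zero, Module.End.one_apply] at hy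
      rw [hy, map_zero]
    obtain ⟨a', rfl⟩ : ∃ a', a = a' + 1 := ⟨a - 1, by omega⟩
    obtain ⟨b', rfl⟩ : ∃ b', b = b' + 1 := ⟨b - 1, by omega⟩
    obtain ⟨x₁, hx₁⟩ : ∃ x₁, x₁ = (f - μ • (1 : Module.End k V)) x := ⟨_, rfl⟩
    obtain ⟨y₁, hy₁⟩ : ∃ y₁, y₁ = (f - ν • (1 : Module.End k V)) y := ⟨_, rfl⟩
    have hx₁0 : ((f - μ • (1 : Module.End k V)) ^ a') x₁ = 0 := by
      rw [hx₁, ← Module.End.mul_apply, ← pow_succ]; exact hx
    have hy₁0 : ((f - ν • (1 : Module.End k V)) ^ b') y₁ = 0 := by
      rw [hy₁, ← Module.End.mul_apply, ← pow_succ]; exact hy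
    have hfx : f x = μ • x + x₁ := by
      rw [hx₁, LinearMap.sub_apply, LinearMap.smul_apply, Module.End.one_apply]; abel
    have hfy : f y = ν • y + y₁ := by
      rw [hy₁, LinearMap.sub_apply, LinearMap.smul_apply, Module.End.one_apply]; abel
    have e1 : B x y₁ = 0 := ih (a' + 1 + b') (by omega) (a' + 1) b' rfl x y₁ hx hy₁0
    have e2 : B x₁ y = 0 := ih (a' + (b' + 1)) (by omega) a' (b' + 1) rfl x₁ y hx₁0 hy
    have e3 : B x₁ y₁ = 0 := ih (a' + b') (by omega) a' b' rfl x₁ y₁ hx₁0 hy₁0
    have e4 := hMf x y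
    rw [hfx, hfy] at e4
    simp only [map_add, map_smul, LinearMap.add_apply, LinearMap.smul_apply, smul_eq_mul,
      e1, e2, e3] at e4
    have e5 : (μ * ν - q) * B x y = 0 := by linear_combination e4
    rcases mul_eq_zero.mp e5 with h0 | h0
    · exact absurd (sub_eq_zero.mp h0) h
    · exact h0

end


/-- The text applies this to the Frobenius acting on the points of prime order of a principally
polarised abelian variety over a finite field with q elements and to their Weil pairing. Let k be a
field, V a finite-dimensional k-vector space with a nondegenerate bilinear form B, q a nonzero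
element of k and M a linear automorphism of V with B(Mx, My) = q·B(x, y) for all x, y. Write V₁ and
V_q for the generalized eigenspaces of M at 1 and at q. Then every vector of V₁ that is B-orthogonal
to all of V_q is zero, every vector of V_q that is B-orthogonal (on the right) to all of V₁ is zero,
and when q ≠ 1 the form B vanishes identically on V₁ × V₁ and on V_q × V_q. (The text asserts this
as the evident adaptation, to a form scaled by q, of the orthogonality and nondegeneracy facts for
generalized kernels of an automorphism preserving a form; the abstract statement is recorded here,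
the application to the Weil pairing needing that pairing's formalism.) -/
theorem result
    {k : Type u} [Field k] {V : Type v} [AddCommGroup V] [Module k V] [FiniteDimensional k V]
    (B : LinearMap.BilinForm k V) (hB : B.Nondegenerate) (q : k) (hq : q ≠ 0)
    (M : V ≃ₗ[k] V) (hM : ∀ x y : V, B (M x) (M y) = q * B x y) :
    (∀ x ∈ Module.End.maxGenEigenspace (M : Module.End k V) 1,
        (∀ y ∈ Module.End.maxGenEigenspace (M : Module.End k V) q, B x y = 0) → x = 0) ∧
      (∀ y ∈ Module.End.maxGenEigenspace (M : Module.End k V) q,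
        (∀ x ∈ Module.End.maxGenEigenspace (M : Module.End k V) 1, B x y = 0) → y = 0) ∧
      (q ≠ 1 → ∀ x ∈ Module.End.maxGenEigenspace (M : Module.End k V) 1,
        ∀ x' ∈ Module.End.maxGenEigenspace (M : Module.End k V) 1, B x x' = 0) ∧
      (q ≠ 1 → ∀ y ∈ Module.End.maxGenEigenspace (M : Module.End k V) q,
        ∀ y' ∈ Module.End.maxGenEigenspace (M : Module.End k V) q, B y y' = 0) := by
  obtain ⟨f, hf⟩ : ∃ f : Module.End k V, f = (M : Module.End k V) := ⟨_, rfl⟩
  obtain ⟨g, hg⟩ : ∃ g : Module.End k V, g = (M.symm : Module.End k V) := ⟨_, rfl⟩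
  rw [← hf]
  have hfg : ∀ x, f (g x) = x := by intro x; rw [hf, hg]; exact M.apply_symm_apply x
  have hgf : ∀ x, g (f x) = x := by intro x; rw [hf, hg]; exact M.symm_apply_apply x
  have hMf : ∀ x y, B (f x) (f y) = q * B x y := by intro x y; rw [hf]; exact hM x y
  have hcomm : Commute g f := by
    show g * f = f * g
    exact LinearMap.ext fun x => by
      rw [Module.End.mul_apply, Module.End.mul_apply, hgf, hfg]
  have hgN : ∀ c : k, Commute g (f - c • (1 : Module.End k V)) := fun c =>
    hcomm.sub_right ((Commute.one_right g).smul_right c)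
  have hsup : ∀ μ : k, (⨆ n : ℕ, LinearMap.ker ((f - μ • (1 : Module.End k V)) ^ n)) =
      f.maxGenEigenspace μ := by
    intro μ
    show _ = f.genEigenspace μ ⊤
    rw [Module.End.genEigenspace_top]
    simp_rw [Module.End.genEigenspace_nat]
  have c1 : ∀ x ∈ f.maxGenEigenspace 1, (∀ y ∈ f.maxGenEigenspace q, B x y = 0) → x = 0 := by
    intro x hx hxy
    obtain ⟨n, hn⟩ := (Module.End.mem_maxGenEigenspace f 1 x).mp hx
    apply hB.1
    intro v
    have hc := LinearMap.isCompl_iSup_ker_pow_iInf_range_pow (f - q • (1 : Module.End k V))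
    have hv : v ∈ (⨆ n, LinearMap.ker ((f - q • (1 : Module.End k V)) ^ n)) ⊔
        (⨅ n, LinearMap.range ((f - q • (1 : Module.End k V)) ^ n)) := by
      rw [hc.sup_eq_top]; exact Submodule.mem_top
    obtain ⟨a, ha, b, hb, rfl⟩ := Submodule.mem_sup.mp hv
    rw [hsup q] at ha
    obtain ⟨y', rfl⟩ := LinearMap.mem_range.mp ((Submodule.mem_iInf _).mp hb n)
    have hS : (q • g - q • (1 : Module.End k V)) =
        (-q) • (g * (f - (1 : k) • (1 : Module.End k V))) := by
      apply LinearMap.ext; intro z
      simp only [LinearMap.sub_apply, LinearMap.smul_apply, LinearMap.neg_apply,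
        Module.End.one_apply, Module.End.mul_apply, map_sub, map_smul, hgf, one_smul, neg_smul,
        smul_sub]
      abel
    rw [map_add, hxy a ha, zero_add, adj_powR B _ _ (adjR B f g q hMf hfg q) n x y', hS,
      pow_kill (-q) g _ (hgN 1) n x hn, map_zero, LinearMap.zero_apply]
  have c2 : ∀ y ∈ f.maxGenEigenspace q, (∀ x ∈ f.maxGenEigenspace 1, B x y = 0) → y = 0 := by
    intro y hy hxy
    obtain ⟨n, hn⟩ := (Module.End.mem_maxGenEigenspace f q y).mp hy
    apply hB.2
    intro v
    have hc := LinearMap.isCompl_iSup_ker_pow_iInf_range_pow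
      (f - (1 : k) • (1 : Module.End k V))
    have hv : v ∈ (⨆ n, LinearMap.ker ((f - (1 : k) • (1 : Module.End k V)) ^ n)) ⊔
        (⨅ n, LinearMap.range ((f - (1 : k) • (1 : Module.End k V)) ^ n)) := by
      rw [hc.sup_eq_top]; exact Submodule.mem_top
    obtain ⟨a, ha, b, hb, rfl⟩ := Submodule.mem_sup.mp hv
    rw [hsup 1] at ha
    obtain ⟨x', rfl⟩ := LinearMap.mem_range.mp ((Submodule.mem_iInf _).mp hb n)
    have hS : (q • g - (1 : k) • (1 : Module.End k V)) =
        (-1 : k) • (g * (f - q • (1 : Module.End k V))) := by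
      apply LinearMap.ext; intro z
      simp only [LinearMap.sub_apply, LinearMap.smul_apply, LinearMap.neg_apply,
        Module.End.one_apply, Module.End.mul_apply, map_sub, map_smul, hgf, one_smul, neg_smul,
        smul_sub]
      abel
    rw [map_add, LinearMap.add_apply, hxy a ha, zero_add,
      adj_powL B _ _ (adjL B f g q hMf hfg 1) n x' y, hS,
      pow_kill (-1) g _ (hgN q) n y hn, map_zero]
  have c3 : q ≠ 1 → ∀ x ∈ f.maxGenEigenspace 1, ∀ x' ∈ f.maxGenEigenspace 1, B x x' = 0 := by
    intro hq1 x hx x' hx'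
    obtain ⟨a, ha⟩ := (Module.End.mem_maxGenEigenspace f 1 x).mp hx
    obtain ⟨b, hb⟩ := (Module.End.mem_maxGenEigenspace f 1 x').mp hx'
    exact orth B f q hMf 1 1 (by rw [one_mul]; exact fun h => hq1 h.symm) (a + b) a b rfl
      x x' ha hb
  have c4 : q ≠ 1 → ∀ y ∈ f.maxGenEigenspace q, ∀ y' ∈ f.maxGenEigenspace q, B y y' = 0 := by
    intro hq1 y hy y' hy'
    obtain ⟨a, ha⟩ := (Module.End.mem_maxGenEigenspace f q y).mp hy
    obtain ⟨b, hb⟩ := (Module.End.mem_maxGenEigenspace f q y').mp hy'
    exact orth B f q hMf q q (fun h => hq1 (mul_left_cancel₀ hq (by rw [h, mul_one])))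
      (a + b) a b rfl y y' ha hb
  exact ⟨c1, c2, c3, c4⟩

end Groth.Agent.S19660
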