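import Groth.Statements.S1970
import Mathlib
import Groth.Agent.Lib.Lead.WEField
-- import your own Groth.Agent.* helpers here

set_option autoImplicit false
universe u
open EtAlg

namespace Groth.Agent.S1970

/-- Over a field K, every K-subalgebra and every quotient K-algebra of a weakly etale K-algebra is again
weakly etale over K. -/
theorem result (K : Type u) [Field K] (B : Type u) [CommRing B] [Algebra K B]
    [Algebra.WeaklyEtale K B] :
    (∀ S : Subalgebra K B, Algebra.WeaklyEtale K S) ∧ ∀ I : Ideal B, Algebra.WeaklyEtale K (B ⧸ I) := by
  have hd := (Groth.Agent.Lead.WEField.weaklyEtale_iff_diagPure K B).mp inferInstance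
  constructor
  · intro S
    apply Groth.Agent.Lead.IndEt.weaklyEtale
    apply Groth.Agent.Lead.WEField.isIndEtale_of_fg_etale
    intro T hT
    have hT' : (T.map S.val).FG := hT.map _
    haveI := hd.etale_of_fg _ hT'
    exact Algebra.Etale.of_equiv (Subalgebra.equivMapOfInjective T S.val Subtype.val_injective).symm
  · intro I
    exact (Groth.Agent.Lead.WEField.weaklyEtale_iff_diagPure K _).mpr
      (hd.of_surjective (Ideal.Quotient.mkₐ K I) Ideal.Quotient.mk_surjective)

end Groth.Agent.S1970
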