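import Groth.Statements.S19702
import Mathlib

set_option autoImplicit false
universe u
open CategoryTheory MonoidalCategory CartesianMonoidalCategory MonObj GrpObj AlgebraicGeometry CategoryTheory.Limits
open AlgGrp

namespace Groth.Agent.S19702

open TensorProduct in
private lemma key (k K : Type u) [Field k] [Field K] [Algebra k K] {A P : CommRingCat.{u}}
    (a : CommRingCat.of k ⟶ A) (g : A ⟶ P) (b : CommRingCat.of K ⟶ P)
    (h : IsPushout a (CommRingCat.ofHom (algebraMap k K)) g b) :
    Function.Bijective a.hom ↔ Function.Bijective b.hom := by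
  constructor
  · intro ha
    haveI : IsIso a := (ConcreteCategory.isIso_iff_bijective a).mpr ha
    haveI : IsIso b := h.isIso_inr_of_isIso
    exact (ConcreteCategory.isIso_iff_bijective b).mp inferInstance
  · intro hb
    letI : Algebra k A := a.hom.toAlgebra
    have h2 : IsPushout (CommRingCat.ofHom (algebraMap k K))
        (CommRingCat.ofHom (algebraMap k A)) b g := h.flip
    obtain ⟨e, he⟩ : ∃ e : CommRingCat.of (K ⊗[k] A) ≅ P,
        CommRingCat.ofHom (S := K ⊗[k] A) Algebra.TensorProduct.includeLeftRingHom ≫ e.hom = b :=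
      ⟨_, (CommRingCat.isPushout_tensorProduct k K A).inl_isoIsPushout_hom _ _ h2⟩
    have he' : ∀ x : K, e.hom.hom (x ⊗ₜ[k] (1 : A)) = b.hom x := by
      intro x
      rw [← he]
      rfl
    have hebij : Function.Bijective e.hom.hom :=
      (ConcreteCategory.isIso_iff_bijective e.hom).mp inferInstance
    have hinc : Function.Bijective (fun x : K => x ⊗ₜ[k] (1 : A)) := by
      have h3 : (fun x : K => x ⊗ₜ[k] (1 : A)) = ⇑e.inv.hom ∘ ⇑b.hom := by
        funext x
        have := he' x
        simp only [Function.comp_apply, ← this]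
        have h4 : e.hom ≫ e.inv = 𝟙 _ := e.hom_inv_id
        exact (congrArg (fun φ => φ.hom (x ⊗ₜ[k] (1 : A))) h4).symm
      rw [h3]
      exact ((ConcreteCategory.isIso_iff_bijective e.inv).mp inferInstance).comp hb
    have hψ : ((Algebra.linearMap k A).lTensor K) =
        ((TensorProduct.mk k K A).flip 1) ∘ₗ (TensorProduct.rid k K).toLinearMap := by
      refine TensorProduct.ext' fun x c => ?_
      simp only [LinearMap.lTensor_tmul, Algebra.linearMap_apply, LinearMap.coe_comp,
        LinearEquiv.coe_coe, Function.comp_apply, TensorProduct.rid_tmul, LinearMap.flip_apply,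
        TensorProduct.mk_apply]
      rw [TensorProduct.smul_tmul, Algebra.algebraMap_eq_smul_one]
    have hbij : Function.Bijective ((Algebra.linearMap k A).lTensor K) := by
      rw [hψ, LinearMap.coe_comp]
      exact hinc.comp (TensorProduct.rid k K).bijective
    exact (Module.FaithfullyFlat.lTensor_bijective_iff_bijective (R := k) (M := K)
      (Algebra.linearMap k A)).mp hbij

/-- Let k be a field, K a field extension of k and G a k-group scheme of finite type. Then G is
anti-affine, i.e. O(G) = k, if and only if the base change G_K is anti-affine, i.e. O(G_K) = K. -/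
theorem result (k : Type u) [Field k] (K : Type u) [Field K] [Algebra k K]
    (G : Over (Spec (CommRingCat.of k))) [GrpObj G] [LocallyOfFiniteType G.hom] [QuasiCompact G.hom] :
    Function.Bijective ((Scheme.ΓSpecIso (CommRingCat.of k)).inv ≫ G.hom.appTop).hom ↔
      Function.Bijective ((Scheme.ΓSpecIso (CommRingCat.of K)).inv ≫ (Red.bc (Spec.map (CommRingCat.ofHom (algebraMap k K))) G).hom.appTop).hom := by
  obtain ⟨f, hf⟩ : ∃ f : Spec (CommRingCat.of K) ⟶ Spec (CommRingCat.of k),
      f = Spec.map (CommRingCat.ofHom (algebraMap k K)) := ⟨_, rfl⟩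
  rw [← hf]
  haveI : Flat f := by
    rw [hf, HasRingHomProperty.Spec_iff (P := @Flat)]
    exact (RingHom.flat_algebraMap_iff (R := k) (S := K)).mpr inferInstance
  have H : IsPullback (pullback.fst G.hom f) (pullback.snd G.hom f) G.hom f :=
    IsPullback.of_hasPullback _ _
  haveI : IsLocallyNoetherian G.left := LocallyOfFiniteType.isLocallyNoetherian G.hom
  haveI : CompactSpace G.left := QuasiCompact.compactSpace_of_compactSpace G.hom
  have hiso := isIso_pushoutSection_of_isQuasiSeparated_of_flat_right H
    (US := ⊤) (UT := ⊤) (UX := ⊤) (UY := ⊤) le_top le_top (by simp)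
    (isAffineOpen_top _) (isAffineOpen_top _) (by simpa using isCompact_univ)
    (by simpa using isQuasiSeparated_univ)
  have hpo := (isIso_pushoutSection_iff H (US := ⊤) (UT := ⊤) (UX := ⊤) (UY := ⊤)
    le_top le_top (by simp)).mp hiso
  have hpo' : IsPushout ((Scheme.ΓSpecIso (CommRingCat.of k)).inv ≫ G.hom.appTop)
      (CommRingCat.ofHom (algebraMap k K)) (pullback.fst G.hom f).appTop
      ((Scheme.ΓSpecIso (CommRingCat.of K)).inv ≫ (pullback.snd G.hom f).appTop) := by
    refine hpo.of_iso (Scheme.ΓSpecIso _) (Iso.refl _) (Scheme.ΓSpecIso _) (Iso.refl _)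
      ?_ ?_ ?_ ?_
    · simp [Scheme.Hom.appLE, Scheme.Hom.appTop]
    · rw [hf]
      have := Scheme.ΓSpecIso_naturality (CommRingCat.ofHom (algebraMap k K))
      simpa [Scheme.Hom.appLE, Scheme.Hom.appTop] using this
    · simp [Scheme.Hom.appLE, Scheme.Hom.appTop]
    · simp [Scheme.Hom.appLE, Scheme.Hom.appTop]
  exact key k K _ _ _ hpo' 

end Groth.Agent.S19702
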