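import Groth.Statements.S19708
import Mathlib

set_option autoImplicit false
universe u v w
open W4c5adicflatcompl
open CAlg

namespace Groth.Agent.S19708

/-- Let A be a commutative ring, I an ideal of A, M an I-adically complete A-module, Z a set and f : Z →
M a function. Then f is I-adically decaying (for every n, all but finitely many values f(z) lie in
I^n M) if and only if the family (f(z))_{z ∈ Z} has an I-adic sum in M, i.e. there is an element m
of M such that for every n some finite subset S of Z has f(z) ∈ I^n M for all z outside S and m −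
Σ_{z ∈ S} f(z) ∈ I^n M. -/
theorem result {A : Type u} [CommRing A] (I : Ideal A) (Z : Type v)
    (M : Type w) [AddCommGroup M] [Module A M] [IsAdicComplete I M] (f : Z → M) :
    f ∈ decaying I Z M ↔ ∃ m : M, ∀ n : ℕ, ∃ S : Finset Z,
      (∀ z, z ∉ S → f z ∈ (I ^ n • ⊤ : Submodule A M)) ∧ m - (∑ z ∈ S, f z) ∈ (I ^ n • ⊤ : Submodule A M) := by
  classical
  rw [mem_decaying_iff]
  constructor
  · intro hf
    obtain ⟨S, hSdef⟩ : ∃ S : ℕ → Finset Z,
        S = fun n => (Finset.range (n+1)).biUnion (fun k => (hf k).toFinset) := ⟨_, rfl⟩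
    have hS_mono : ∀ m n, m ≤ n → S m ⊆ S n := by
      intro m n hmn
      rw [hSdef]
      apply Finset.biUnion_subset_biUnion_of_subset_left
      intro k hk
      simp only [Finset.mem_range] at hk ⊢
      omega
    have hS_out : ∀ n z, z ∉ S n → f z ∈ (I ^ n • ⊤ : Submodule A M) := by
      intro n z hz
      by_contra h
      apply hz
      rw [hSdef]
      simp only [Finset.mem_biUnion, Finset.mem_range]
      refine ⟨n, Nat.lt_succ_self n, ?_⟩
      rw [Set.Finite.mem_toFinset]
      exact h
    have hs : ∀ {m n}, m ≤ n →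
        (∑ z ∈ S m, f z) ≡ (∑ z ∈ S n, f z) [SMOD (I ^ m • ⊤ : Submodule A M)] := by
      intro m n hmn
      rw [SModEq.sub_mem]
      have e : (∑ z ∈ S m, f z) - (∑ z ∈ S n, f z) = -(∑ z ∈ S n \ S m, f z) := by
        rw [← Finset.sum_sdiff (hS_mono m n hmn)]
        abel
      rw [e]
      apply Submodule.neg_mem
      apply Submodule.sum_mem
      intro z hz
      exact hS_out m z (Finset.mem_sdiff.mp hz).2
    obtain ⟨L, hL⟩ := IsPrecomplete.prec' (I := I) (M := M) (fun n => ∑ z ∈ S n, f z) hs
    refine ⟨L, fun n => ⟨S n, hS_out n, ?_⟩⟩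
    have := (hL n).symm
    rw [SModEq.sub_mem] at this
    exact this
  · rintro ⟨m, hm⟩ n
    obtain ⟨S, hS, -⟩ := hm n
    refine S.finite_toSet.subset ?_
    intro z hz
    by_contra h
    exact hz (hS z h)

end Groth.Agent.S19708
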