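import Mathlib
import Groth.Agent.H11.HensRad
import Groth.Statements.S1971

set_option autoImplicit false
universe u
open EtAlg

namespace Groth.Agent.S1971

/-- Let A be a ring with ideals I and J having the same zero locus in Spec A. Then an A-algebra is a
henselization of the pair (A, I) if and only if it is a henselization of the pair (A, J). -/
theorem result (A : Type u) [CommRing A] (I J : Ideal A)
    (h : PrimeSpectrum.zeroLocus (I : Set A) = PrimeSpectrum.zeroLocus (J : Set A)) (B : Type u) [CommRing B] [Algebra A B] :
    Hens2.IsPairHenselization A I B ↔ Hens2.IsPairHenselization A J B := by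

    have hrad : I.radical = J.radical := by
      rw [← PrimeSpectrum.vanishingIdeal_zeroLocus_eq_radical,
        ← PrimeSpectrum.vanishingIdeal_zeroLocus_eq_radical, h]
    have hmap : ∀ (I J : Ideal A), I.radical = J.radical → ∀ (C : Type u) [CommRing C] (φ : A →+* C),
        (I.map φ).radical ≤ (J.map φ).radical := by
      intro I J hIJ C _ φ
      have h1 : I.map φ ≤ (J.map φ).radical :=
        calc I.map φ ≤ I.radical.map φ := Ideal.map_mono Ideal.le_radical
          _ = J.radical.map φ := by rw [hIJ]
          _ ≤ (J.map φ).radical := Ideal.map_radical_le φ
      calc (I.map φ).radical ≤ (J.map φ).radical.radical := Ideal.radical_mono h1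
        _ = (J.map φ).radical := Ideal.radical_idem _
    have key : ∀ (I J : Ideal A), I.radical = J.radical →
        Hens2.IsPairHenselization A I B → Hens2.IsPairHenselization A J B := by
      intro I J hIJ ⟨hens, univ⟩
      have hradB : (I.map (algebraMap A B)).radical = (J.map (algebraMap A B)).radical :=
        le_antisymm (hmap I J hIJ B _) (hmap J I hIJ.symm B _)
      refine ⟨?_, ?_⟩
      · rw [Groth.Agent.H11.hens_radical_iff, ← hradB, ← Groth.Agent.H11.hens_radical_iff]
        exact hens
      · intro C _ J' f hC hf
        apply univ C J'.radical f ((Groth.Agent.H11.hens_radical_iff J').1 hC)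
        calc I.map f ≤ (I.map f).radical := Ideal.le_radical
          _ ≤ (J.map f).radical := hmap I J hIJ C f
          _ ≤ J'.radical := Ideal.radical_mono hf
    exact ⟨key I J hrad, key J I hrad.symm⟩

end Groth.Agent.S1971
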