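import Groth.Statements.S19711
import Mathlib
import Groth.Agent.Lib.Helper18.FlatInter

set_option autoImplicit false
universe u
open CategoryTheory
open Coh

namespace Groth.Agent.S19711

private theorem core {A : Type u} [CommRing A] {N' M : Type u} [AddCommGroup N'] [Module A N']
    [AddCommGroup M] [Module A M] (ι : N' →ₗ[A] M) (hι : Function.Injective ι)
    (u : Ideal A) [u.IsPrime]
    [Module.Flat A (LocalizedModule u.primeCompl (M ⧸ LinearMap.range ι))]
    (m : N') (s : A) (hs : s ∉ u) (hm : s • ι m ∈ u • (⊤ : Submodule A M)) :
    ∃ s' ∉ u, s' • m ∈ u • (⊤ : Submodule A N') := by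
  classical
  have hex : Function.Exact
      (IsLocalizedModule.map u.primeCompl (LocalizedModule.mkLinearMap u.primeCompl N')
        (LocalizedModule.mkLinearMap u.primeCompl M) ι)
      (IsLocalizedModule.map u.primeCompl (LocalizedModule.mkLinearMap u.primeCompl M)
        (LocalizedModule.mkLinearMap u.primeCompl (M ⧸ LinearMap.range ι))
        (LinearMap.range ι).mkQ) :=
    IsLocalizedModule.map_exact u.primeCompl _ _ _ ι _ ι.exact_map_mkQ_range
  have hsurj : Function.Surjective
      (IsLocalizedModule.map u.primeCompl (LocalizedModule.mkLinearMap u.primeCompl M)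
        (LocalizedModule.mkLinearMap u.primeCompl (M ⧸ LinearMap.range ι))
        (LinearMap.range ι).mkQ) :=
    IsLocalizedModule.map_surjective u.primeCompl _ _ _ (Submodule.mkQ_surjective _)
  have hinj : Function.Injective
      (IsLocalizedModule.map u.primeCompl (LocalizedModule.mkLinearMap u.primeCompl N')
        (LocalizedModule.mkLinearMap u.primeCompl M) ι) :=
    IsLocalizedModule.map_injective u.primeCompl _ _ ι hι
  have key := Groth.Agent.Helper18.flat_smul_top_inf_range_le _ _ hsurj hex u
  have h1 : LocalizedModule.mkLinearMap u.primeCompl M (s • ι m) ∈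
      (u • ⊤ : Submodule A (LocalizedModule u.primeCompl M)) := by
    have : Submodule.map (LocalizedModule.mkLinearMap u.primeCompl M) (u • (⊤ : Submodule A M)) ≤
        u • ⊤ := by
      rw [Submodule.map_smul'']
      exact Submodule.smul_mono le_rfl le_top
    exact this (Submodule.mem_map_of_mem hm)
  have h2 : LocalizedModule.mkLinearMap u.primeCompl M (s • ι m) ∈ LinearMap.range
      (IsLocalizedModule.map u.primeCompl (LocalizedModule.mkLinearMap u.primeCompl N')
        (LocalizedModule.mkLinearMap u.primeCompl M) ι) :=
    ⟨LocalizedModule.mkLinearMap u.primeCompl N' (s • m), by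
      rw [IsLocalizedModule.map_apply]; simp only [map_smul]⟩
  obtain ⟨y, hy, hyi⟩ := key ⟨h1, h2⟩
  have hy' : y = LocalizedModule.mkLinearMap u.primeCompl N' (s • m) :=
    hinj (by rw [hyi, IsLocalizedModule.map_apply]; simp only [map_smul])
  have hform : ∀ z ∈ (u • ⊤ : Submodule A (LocalizedModule u.primeCompl N')),
      ∃ x ∈ (u • ⊤ : Submodule A N'), ∃ t : u.primeCompl, z = LocalizedModule.mk x t := by
    intro z hz
    refine Submodule.smul_induction_on hz ?_ ?_
    · intro a ha n _
      induction n using LocalizedModule.induction_on with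
      | h n t =>
        exact ⟨a • n, Submodule.smul_mem_smul ha trivial, t, by rw [LocalizedModule.smul'_mk]⟩
    · rintro z z' ⟨x, hx, t, rfl⟩ ⟨x', hx', t', rfl⟩
      refine ⟨t' • x + t • x', ?_, t * t', by rw [LocalizedModule.mk_add_mk]⟩
      exact Submodule.add_mem _ (Submodule.smul_mem _ _ hx) (Submodule.smul_mem _ _ hx')
  obtain ⟨x, hx, t, hxt⟩ := hform y hy
  rw [hy'] at hxt
  change LocalizedModule.mk (s • m) 1 = LocalizedModule.mk x t at hxt
  obtain ⟨c, hc⟩ := LocalizedModule.mk_eq.mp hxt
  refine ⟨c * t * s, ?_, ?_⟩
  · exact u.primeCompl.mul_mem (u.primeCompl.mul_mem c.2 t.2) hs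
  · have : ((c : A) * (t : A) * s) • m = (c : A) • x := by
      simpa [Submonoid.smul_def, mul_smul] using hc
    rw [this]
    exact Submodule.smul_mem _ _ hx

/-- Let A be a Noetherian integral domain and F an A-linear additive functor from A-modules to A-modules
with F(A) a finitely generated A-module. Call such a functor generically injective when there is a
dense open subset U of Spec A such that for every point u of U whose residue field κ(u) is a
finitely generated A-algebra the comparison map F(A) ⊗_A κ(u) → F(κ(u)) is injective; since F is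
A-linear this injectivity says: every m in F(A) whose image under F(A → κ(u)) vanishes satisfies s·m
∈ u·F(A) for some s outside u. If F is generically injective then so is every A-linear additive
subfunctor K ⊆ F (a natural transformation K → F with injective components). (The published
statement is over a reduced Noetherian affine scheme, for additive functors on quasi-coherent
sheaves with values in abelian groups and the induced A-action, assumes F weakly bounded (F(A/p)
finitely generated for every prime ideal p) and also records that K is again weakly bounded; only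
the finite generation of F(A), which its argument uses, is assumed here, and the integral case with
A-linear functors stated here is the one its argument by generic flatness treats.) -/
theorem result {A : Type u} [CommRing A] [IsNoetherianRing A] [IsDomain A]
    (F K : ModuleCat.{u} A ⥤ ModuleCat.{u} A) [F.Additive] [F.Linear A] [K.Additive] [K.Linear A]
    (ι : K ⟶ F) (hι : ∀ X : ModuleCat.{u} A, Function.Injective (ι.app X).hom)
    (hfin : Module.Finite A (F.obj (ModuleCat.of A A)))
    (hGI : ∃ U : Set (PrimeSpectrum A), IsOpen U ∧ Dense U ∧ ∀ u ∈ U, Algebra.FiniteType A u.asIdeal.ResidueField →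
        ∀ m : F.obj (ModuleCat.of A A),
          (F.map (ModuleCat.ofHom (Algebra.linearMap A u.asIdeal.ResidueField))).hom m = 0 →
            ∃ s ∉ u.asIdeal, s • m ∈ u.asIdeal • (⊤ : Submodule A (F.obj (ModuleCat.of A A)))) :
    ∃ U : Set (PrimeSpectrum A), IsOpen U ∧ Dense U ∧ ∀ u ∈ U, Algebra.FiniteType A u.asIdeal.ResidueField →
        ∀ m : K.obj (ModuleCat.of A A),
          (K.map (ModuleCat.ofHom (Algebra.linearMap A u.asIdeal.ResidueField))).hom m = 0 →
            ∃ s ∉ u.asIdeal, s • m ∈ u.asIdeal • (⊤ : Submodule A (K.obj (ModuleCat.of A A))) := by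

  classical
  obtain ⟨U, hUo, hUd, hU⟩ := hGI
  have hιA : Function.Injective (ι.app (ModuleCat.of A A)).hom := hι _
  haveI := hfin
  haveI : Module.FinitePresentation A (F.obj (ModuleCat.of A A) ⧸
      LinearMap.range (ι.app (ModuleCat.of A A)).hom) := Module.finitePresentation_of_finite A _
  refine ⟨U ∩ Module.freeLocus A (F.obj (ModuleCat.of A A) ⧸
      LinearMap.range (ι.app (ModuleCat.of A A)).hom), hUo.inter Module.isOpen_freeLocus, ?_, ?_⟩
  · apply hUd.inter_of_isOpen_right _ Module.isOpen_freeLocus
    apply Module.isOpen_freeLocus.dense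
    refine ⟨⟨⊥, Ideal.isPrime_bot⟩, ?_⟩
    rw [Module.mem_freeLocus]
    let : Field (Localization.AtPrime (⊥ : Ideal A)) := IsField.toField <| by
      simp [IsLocalRing.isField_iff_maximalIdeal_eq, ← Localization.AtPrime.map_eq_maximalIdeal]
    infer_instance
  · rintro u ⟨huU, hufree⟩ hft m hm
    have hnat := ι.naturality (ModuleCat.ofHom (Algebra.linearMap A u.asIdeal.ResidueField))
    have h0 : (F.map (ModuleCat.ofHom (Algebra.linearMap A u.asIdeal.ResidueField))).hom
        ((ι.app (ModuleCat.of A A)).hom m) = 0 := by
      have := congrArg (fun φ => φ.hom m) hnat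
      simp only [ModuleCat.hom_comp, LinearMap.comp_apply] at this
      rw [← this, hm, map_zero]
    obtain ⟨s, hs, hsm⟩ := hU u huU hft ((ι.app (ModuleCat.of A A)).hom m) h0
    haveI : Module.Free (Localization.AtPrime u.asIdeal) (LocalizedModule u.asIdeal.primeCompl
        (F.obj (ModuleCat.of A A) ⧸ LinearMap.range (ι.app (ModuleCat.of A A)).hom)) := hufree
    haveI : Module.Flat A (LocalizedModule u.asIdeal.primeCompl
        (F.obj (ModuleCat.of A A) ⧸ LinearMap.range (ι.app (ModuleCat.of A A)).hom)) :=
      Module.Flat.trans A (Localization.AtPrime u.asIdeal) _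
    exact core (ι.app (ModuleCat.of A A)).hom hιA u.asIdeal m s hs hsm


end Groth.Agent.S19711
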