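import Mathlib
import Groth.Agent.H11.HCUnique
import Groth.Agent.H11.HCStrictUnique
import Groth.Agent.H11.HCReduced
import Groth.Statements.S1972

set_option autoImplicit false
universe u
open EtAlg

namespace Groth.Agent.S1972

/-- Let R be a local ring and S a henselization or a strict henselization of R. Then the nilradical of S
is the extension of the nilradical of R. -/
theorem result (R S : Type u) [CommRing R] [IsLocalRing R] [CommRing S] [IsLocalRing S]
    [Algebra R S] [IsLocalHom (algebraMap R S)]
    (h : Hensel.IsHenselization R S ∨ Hensel.IsStrictHenselization R S) :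
    (nilradical R).map (algebraMap R S) = nilradical S := by
  have key : ∀ (S' : Type u) [CommRing S'] [Algebra R S'] (e : S ≃ₐ[R] S'),
      nilradical S' = (nilradical R).map (algebraMap R S') →
      (nilradical R).map (algebraMap R S) = nilradical S := by
    intro S' _ _ e h'
    apply le_antisymm
    · rw [Ideal.map_le_iff_le_comap]
      intro r hr
      exact mem_nilradical.2 ((mem_nilradical.1 hr).map (algebraMap R S))
    · intro x hx
      have h1 : e x ∈ nilradical S' := mem_nilradical.2 ((mem_nilradical.1 hx).map e)
      rw [h'] at h1
      have h2 := Ideal.mem_map_of_mem e.symm.toAlgHom.toRingHom h1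
      rw [Ideal.map_map] at h2
      have hcomp : e.symm.toAlgHom.toRingHom.comp (algebraMap R S') = algebraMap R S :=
        RingHom.ext fun r => e.symm.commutes r
      rw [hcomp] at h2
      have h3 : e.symm.toAlgHom.toRingHom (e x) = x := e.symm_apply_apply x
      rwa [h3] at h2
  rcases h with h | h
  · obtain ⟨e⟩ := Groth.Agent.H11.HC.nonempty_algEquiv_hens R S
    exact key _ e Groth.Agent.H11.HC.nilradical_lim
  · obtain ⟨e⟩ := Groth.Agent.H11.HC.nonempty_algEquiv_shens R S
    exact key _ e Groth.Agent.H11.HC.nilradical_lim

end Groth.Agent.S1972
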