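import Groth.Statements.S1973
import Mathlib
-- import your own Groth.Agent.* helpers here

set_option autoImplicit false
universe u
open EtAlg

namespace Groth.Agent.S1973


theorem L1 (C : Type u) [CommRing C] [IsLocalRing C] [IsNoetherianRing C] (π : C)
    (hπ : IsLocalRing.maximalIdeal C = Ideal.span {π}) (hreg : π ∈ nonZeroDivisors C) :
    ∃ _ : IsDomain C, IsDiscreteValuationRing C := by
  have hπ0 : π ≠ 0 := nonZeroDivisors.ne_zero hreg
  have hpow : ∀ n : ℕ, IsLocalRing.maximalIdeal C ^ n = Ideal.span {π ^ n} := by
    intro n; rw [hπ, Ideal.span_singleton_pow]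
  have hkrull : ⨅ i : ℕ, IsLocalRing.maximalIdeal C ^ i = ⊥ :=
    Ideal.iInf_pow_eq_bot_of_isLocalRing _ (IsLocalRing.maximalIdeal.isMaximal C).ne_top
  have key : ∀ x : C, x ≠ 0 → ∃ (n : ℕ) (u : C), IsUnit u ∧ x = u * π ^ n := by
    intro x hx
    have hex : ∃ n : ℕ, x ∉ IsLocalRing.maximalIdeal C ^ n := by
      by_contra hcon
      push_neg at hcon
      have : x ∈ ⨅ i : ℕ, IsLocalRing.maximalIdeal C ^ i := by
        rw [Ideal.mem_iInf]; exact hcon
      rw [hkrull] at this
      exact hx (by simpa using this)
    classical
    have hn : x ∉ IsLocalRing.maximalIdeal C ^ (Nat.find hex) := Nat.find_spec hex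
    have hn0 : Nat.find hex ≠ 0 := by
      intro h0
      rw [h0, pow_zero, Ideal.one_eq_top] at hn
      exact hn trivial
    obtain ⟨m, hm⟩ := Nat.exists_eq_succ_of_ne_zero hn0
    have hmem : x ∈ IsLocalRing.maximalIdeal C ^ m := by
      by_contra hcon
      have := Nat.find_min' hex hcon
      omega
    rw [hpow, Ideal.mem_span_singleton] at hmem
    obtain ⟨u, hu⟩ := hmem
    refine ⟨m, u, ?_, by rw [hu, mul_comm]⟩
    by_contra hnu
    have humem : u ∈ IsLocalRing.maximalIdeal C := (IsLocalRing.mem_maximalIdeal u).mpr hnu
    rw [hπ, Ideal.mem_span_singleton] at humem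
    obtain ⟨v, hv⟩ := humem
    apply hn
    rw [hm, hpow, Ideal.mem_span_singleton]
    exact ⟨v, by rw [hu, hv, pow_succ]; ring⟩
  have hdom : IsDomain C := by
    haveI : NoZeroDivisors C := by
      refine ⟨fun {a b} hab => ?_⟩
      by_contra hcon
      push_neg at hcon
      obtain ⟨n, u, hu, rfl⟩ := key a hcon.1
      obtain ⟨m, v, hv, rfl⟩ := key b hcon.2
      have h1 : (u * v) * π ^ (n + m) = 0 := by rw [← hab, pow_add]; ring
      have h2 : π ^ (n + m) = 0 := (hu.mul hv).mul_right_eq_zero.mp h1
      exact nonZeroDivisors.ne_zero (pow_mem hreg (n + m)) h2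
    exact NoZeroDivisors.to_isDomain C
  refine ⟨hdom, ?_⟩
  have hnf : ¬ IsField C := by
    rw [IsLocalRing.isField_iff_maximalIdeal_eq, hπ]
    intro h
    rw [Ideal.span_singleton_eq_bot] at h
    exact hπ0 h
  have hprin : (IsLocalRing.maximalIdeal C).IsPrincipal := ⟨⟨π, hπ⟩⟩
  exact ((IsDiscreteValuationRing.TFAE C hnf).out 4 0).mp hprin

theorem L2 (A : Type u) [CommRing A] [IsDedekindDomain A] (C : Type u) [CommRing C] [Algebra A C]
    [Algebra.FormallyUnramified A C] [Algebra.EssFiniteType A C] [IsNoetherianRing C]
    (q : Ideal C) [q.IsPrime]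
    (hreg : ∀ a : A, a ≠ 0 →
      algebraMap A (Localization.AtPrime q) a ∈ nonZeroDivisors (Localization.AtPrime q))
    (hnf : ¬ IsField (Localization.AtPrime q)) :
    ∃ _ : IsDomain (Localization.AtPrime q), IsDiscreteValuationRing (Localization.AtPrime q) := by
  let p : Ideal A := q.under A
  haveI : p.IsPrime := inferInstance
  haveI : q.LiesOver p := inferInstance
  letI := Localization.AtPrime.algebraOfLiesOver p q
  haveI : Algebra.FormallyUnramified C (Localization.AtPrime q) :=
    Algebra.FormallyUnramified.of_isLocalization q.primeCompl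
  haveI : Algebra.FormallyUnramified A (Localization.AtPrime q) :=
    Algebra.FormallyUnramified.comp A C _
  haveI : Algebra.EssFiniteType C (Localization.AtPrime q) :=
    Algebra.EssFiniteType.of_isLocalization _ q.primeCompl
  haveI : Algebra.EssFiniteType A (Localization.AtPrime q) :=
    Algebra.EssFiniteType.comp A C _
  haveI : Algebra.EssFiniteType (Localization.AtPrime p) (Localization.AtPrime q) :=
    .of_comp A _ _
  haveI : Algebra.FormallyUnramified (Localization.AtPrime p) (Localization.AtPrime q) :=
    .of_restrictScalars A _ _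
  have hmax := Algebra.FormallyUnramified.map_maximalIdeal (R := Localization.AtPrime p)
    (S := Localization.AtPrime q)
  haveI : IsNoetherianRing (Localization.AtPrime q) :=
    IsLocalization.isNoetherianRing q.primeCompl _ inferInstance
  by_cases hp : p = ⊥
  · exfalso; apply hnf
    rw [IsLocalRing.isField_iff_maximalIdeal_eq, ← hmax]
    have : IsLocalRing.maximalIdeal (Localization.AtPrime p) = ⊥ := by
      rw [← Localization.AtPrime.map_eq_maximalIdeal, eq_bot_iff, Ideal.map_le_iff_le_comap]
      intro x hx
      have hx0 : x = 0 := by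
        have : x ∈ (⊥ : Ideal A) := by rw [← hp]; exact hx
        simpa using this
      simp [hx0]
    rw [this, Ideal.map_bot]
  · haveI : IsDiscreteValuationRing (Localization.AtPrime p) :=
      IsLocalization.AtPrime.isDiscreteValuationRing_of_dedekind_domain A hp _
    obtain ⟨ϖ, hϖ⟩ := IsDiscreteValuationRing.exists_irreducible (Localization.AtPrime p)
    have hmϖ : IsLocalRing.maximalIdeal (Localization.AtPrime p) = Ideal.span {ϖ} :=
      hϖ.maximalIdeal_eq
    obtain ⟨a, s, rfl⟩ := IsLocalization.exists_mk'_eq p.primeCompl ϖ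
    have hπ : IsLocalRing.maximalIdeal (Localization.AtPrime q) =
        Ideal.span {algebraMap (Localization.AtPrime p) (Localization.AtPrime q)
          (IsLocalization.mk' _ a s)} := by
      rw [← hmax, hmϖ, Ideal.map_span, Set.image_singleton]
    refine L1 _ _ hπ ?_
    have ha0 : a ≠ 0 := by
      rintro rfl
      apply hϖ.ne_zero
      simp
    have h1 : algebraMap (Localization.AtPrime p) (Localization.AtPrime q)
        (IsLocalization.mk' _ a s) *
        algebraMap (Localization.AtPrime p) (Localization.AtPrime q)
          (algebraMap A _ (s : A)) = algebraMap A (Localization.AtPrime q) a := by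
      rw [← map_mul, IsLocalization.mk'_spec, ← IsScalarTower.algebraMap_apply]
    have h2 := hreg a ha0
    rw [← h1] at h2
    exact (mul_mem_nonZeroDivisors.mp h2).1

/-- Let A be a Dedekind domain and B an etale A-algebra. Then B is isomorphic as a ring to a finite
product of Dedekind domains, and for every maximal ideal q of B whose localization is not a field,
the localization B_q is a discrete valuation ring. (The source states the last claim for all maximal
ideals; it fails for field factors, e.g. A a DVR with uniformizer π and B = A[1/π], so the guard is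
needed.) -/
theorem result (A B : Type u) [CommRing A] [IsDedekindDomain A] [CommRing B] [Algebra A B]
    [Algebra.Etale A B] :
    (∃ (n : ℕ) (D : Fin n → Type u) (_ : ∀ i, CommRing (D i)) (_ : ∀ i, IsDedekindDomain (D i)),
      Nonempty (B ≃+* ∀ i, D i)) ∧
    ∀ (q : Ideal B) [q.IsMaximal], ¬ IsField (Localization.AtPrime q) →
      ∃ _ : IsDomain (Localization.AtPrime q), IsDiscreteValuationRing (Localization.AtPrime q) := by
  haveI hN : IsNoetherianRing B := Algebra.FiniteType.isNoetherianRing A B
  haveI : Module.Flat A B := inferInstance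
  have hregB : ∀ (q : Ideal B) [q.IsPrime] (a : A), a ≠ 0 →
      algebraMap A (Localization.AtPrime q) a ∈ nonZeroDivisors (Localization.AtPrime q) := by
    intro q _ a ha
    haveI : Module.Flat A (Localization.AtPrime q) := Module.Flat.trans A B _
    have hr : IsSMulRegular (Localization.AtPrime q) a :=
      Module.Flat.isSMulRegular_of_nonZeroDivisors (mem_nonZeroDivisors_of_ne_zero ha)
    rw [mem_nonZeroDivisors_iff_right]
    intro x hx
    apply hr
    simp only [smul_zero]
    rw [Algebra.smul_def, mul_comm]; exact hx
  have hdom : ∀ (q : Ideal B) [q.IsPrime], IsDomain (Localization.AtPrime q) := by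
    intro q _
    by_cases hf : IsField (Localization.AtPrime q)
    · exact hf.isDomain
    · obtain ⟨h, -⟩ := L2 A B q (hregB q) hf
      exact h
  haveI : IsReduced B := by
    apply isReduced_ofLocalizationMaximal
    intro q hq
    haveI := @hdom q hq.isPrime
    infer_instance
  have hKer : ∀ (q : Ideal B) [q.IsPrime] (P : Ideal B), P ∈ minimalPrimes B → P ≤ q →
      P = RingHom.ker (algebraMap B (Localization.AtPrime q)) := by
    intro q _ P hP hPq
    haveI := hdom q
    have hKprime : (RingHom.ker (algebraMap B (Localization.AtPrime q))).IsPrime :=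
      RingHom.ker_isPrime _
    have hKP : RingHom.ker (algebraMap B (Localization.AtPrime q)) ≤ P := by
      intro x hx
      rw [RingHom.mem_ker, IsLocalization.map_eq_zero_iff q.primeCompl] at hx
      obtain ⟨t, ht⟩ := hx
      have : (t : B) * x ∈ P := by rw [ht]; exact P.zero_mem
      rcases hP.1.1.mem_or_mem this with h | h
      · exact absurd (hPq h) t.2
      · exact h
    exact le_antisymm (hP.2 ⟨hKprime, bot_le⟩ hKP) hKP
  have hcop : Pairwise (Function.onFun IsCoprime (fun P : minimalPrimes B => (P : Ideal B))) := by
    intro P P' hne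
    show IsCoprime (P : Ideal B) (P' : Ideal B)
    rw [Ideal.isCoprime_iff_sup_eq]
    by_contra hcon
    obtain ⟨q, hq, hle⟩ := Ideal.exists_le_maximal _ hcon
    haveI := hq.isPrime
    apply hne
    apply Subtype.ext
    exact (hKer q P.1 P.2 (le_trans le_sup_left hle)).trans
      (hKer q P'.1 P'.2 (le_trans le_sup_right hle)).symm
  haveI : Finite (minimalPrimes B) := (minimalPrimes.finite_of_isNoetherianRing B).to_subtype
  have hinf : (⨅ P : minimalPrimes B, (P : Ideal B)) = ⊥ := by
    have h0 : (⊥ : Ideal B).radical = ⊥ := by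
      have := nilradical_eq_zero B
      rwa [nilradical, Ideal.zero_eq_bot] at this
    have h1 : sInf (minimalPrimes B) = ⊥ := by
      have := Ideal.sInf_minimalPrimes (I := (⊥ : Ideal B))
      rw [h0] at this
      exact this
    rw [← h1, sInf_eq_iInf']
  have hL3 : ∀ P : Ideal B, P ∈ minimalPrimes B → ∀ [P.IsPrime], IsDedekindDomain (B ⧸ P) := by
    intro P hP _
    have hinj : Function.Injective (algebraMap A (B ⧸ P)) := by
      rw [injective_iff_map_eq_zero]
      intro a ha
      by_contra ha0
      have h1 : algebraMap A B a ∈ P := by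
        rw [IsScalarTower.algebraMap_apply A B (B ⧸ P), Ideal.Quotient.algebraMap_eq,
          Ideal.Quotient.eq_zero_iff_mem] at ha
        exact ha
      have h2 : algebraMap A B a ∈ nonZeroDivisors B := by
        have hr : IsSMulRegular B a :=
          Module.Flat.isSMulRegular_of_nonZeroDivisors (mem_nonZeroDivisors_of_ne_zero ha0)
        rw [mem_nonZeroDivisors_iff_right]
        intro x hx
        apply hr
        simp only [smul_zero]
        rw [Algebra.smul_def, mul_comm]; exact hx
      exact Set.disjoint_left.mp (Ideal.disjoint_nonZeroDivisors_of_mem_minimalPrimes hP) h1 h2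
    haveI : IsDedekindDomainDvr (B ⧸ P) :=
      { toIsNoetherian := inferInstance
        is_dvr_at_nonzero_prime := by
          intro Q hQ0 hQ
          have hnf : ¬ IsField (Localization.AtPrime Q) :=
            IsLocalization.AtPrime.not_isField (B ⧸ P) hQ0 _
          have hreg : ∀ a : A, a ≠ 0 → algebraMap A (Localization.AtPrime Q) a ∈
              nonZeroDivisors (Localization.AtPrime Q) := by
            intro a ha
            apply mem_nonZeroDivisors_of_ne_zero
            rw [IsScalarTower.algebraMap_apply A (B ⧸ P) (Localization.AtPrime Q)]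
            intro h0
            have := (IsLocalization.injective (Localization.AtPrime Q)
              Q.primeCompl_le_nonZeroDivisors) (h0.trans (map_zero _).symm)
            exact ha (hinj (this.trans (map_zero _).symm))
          obtain ⟨_, h⟩ := L2 A (B ⧸ P) Q hreg hnf
          exact h }
    exact IsDedekindDomainDvr.isDedekindDomain (B ⧸ P)
  refine ⟨?_, ?_⟩
  · obtain ⟨n, ⟨e⟩⟩ := Finite.exists_equiv_fin (minimalPrimes B)
    let E1 : B ≃+* (B ⧸ (⨅ P : minimalPrimes B, (P : Ideal B))) :=
      (RingEquiv.quotientBot B).symm.trans (Ideal.quotEquivOfEq hinf.symm)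
    let E2 := Ideal.quotientInfRingEquivPiQuotient (fun P : minimalPrimes B => (P : Ideal B)) hcop
    let E3 := RingEquiv.piCongrLeft' (fun P : minimalPrimes B => B ⧸ (P : Ideal B)) e
    refine ⟨n, fun j => B ⧸ ((e.symm j : minimalPrimes B) : Ideal B), fun j => inferInstance,
      fun j => ?_, ⟨E1.trans (E2.trans E3)⟩⟩
    haveI : ((e.symm j : minimalPrimes B) : Ideal B).IsPrime := (e.symm j).2.1.1
    exact hL3 _ (e.symm j).2
  · intro q hq hnf
    exact L2 A B q (hregB q) hnf

end Groth.Agent.S1973
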