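import Groth.Statements.S1974
import Mathlib
import Groth.Agent.Lib.Lead.WEField
-- import your own Groth.Agent.* helpers here

set_option autoImplicit false
universe u
open EtAlg

namespace Groth.Agent.S1974


open TensorProduct

/-- Let A -> B be weakly etale and q a prime of B lying over the prime p of A. Then the residue field of
q is a separable algebraic extension of the residue field of p. -/
theorem result (A B : Type u) [CommRing A] [CommRing B] [Algebra A B]
    [Algebra.WeaklyEtale A B] (p : Ideal A) [p.IsPrime] (q : Ideal B) [q.IsPrime] [q.LiesOver p]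
    [Algebra (Localization.AtPrime p) (Localization.AtPrime q)] [Localization.AtPrime.IsLiesOverAlgebra p q] :
    Algebra.IsSeparable p.ResidueField q.ResidueField := by
  classical
  have hd : Groth.Agent.Lead.WEField.DiagPure p.ResidueField (p.ResidueField ⊗[A] B) :=
    (Groth.Agent.Lead.WEField.weaklyEtale_iff_diagPure _ _).mp inferInstance
  let ψ : p.ResidueField ⊗[A] B →ₐ[p.ResidueField] q.ResidueField :=
    Algebra.TensorProduct.lift (Algebra.ofId p.ResidueField q.ResidueField)
      (IsScalarTower.toAlgHom A B q.ResidueField) (fun _ _ => Commute.all _ _)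
  have hψ : ∀ w, IsSeparable p.ResidueField (ψ w) := by
    intro w
    haveI : (RingHom.ker ψ).IsPrime := RingHom.ker_isPrime ψ
    have hq : Groth.Agent.Lead.WEField.DiagPure p.ResidueField
        ((p.ResidueField ⊗[A] B) ⧸ RingHom.ker ψ) :=
      hd.of_surjective (Ideal.Quotient.mkₐ _ _) Ideal.Quotient.mk_surjective
    haveI := hq.isSeparable_of_isDomain
    have h1 : IsSeparable p.ResidueField (Ideal.Quotient.mk (RingHom.ker ψ) w) :=
      Algebra.IsSeparable.isSeparable _ _
    have h2 := minpoly.algHom_eq (Ideal.kerLiftAlg ψ) (Ideal.kerLiftAlg_injective ψ)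
      (Ideal.Quotient.mk (RingHom.ker ψ) w)
    rw [Ideal.kerLiftAlg_mk] at h2
    unfold IsSeparable at h1 ⊢
    rw [h2]
    exact h1
  have hB : ∀ b : B, algebraMap B q.ResidueField b ∈ separableClosure p.ResidueField q.ResidueField := by
    intro b
    rw [mem_separableClosure_iff]
    have : ψ (1 ⊗ₜ b) = algebraMap B q.ResidueField b := by
      show Algebra.TensorProduct.lift _ _ _ (1 ⊗ₜ b) = _
      rw [Algebra.TensorProduct.lift_tmul, map_one, one_mul]
      rfl
    rw [← this]
    exact hψ _
  refine ⟨fun z => ?_⟩
  rw [← mem_separableClosure_iff]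
  obtain ⟨x, rfl⟩ := IsLocalRing.residue_surjective z
  obtain ⟨b, s, rfl⟩ := IsLocalization.exists_mk'_eq q.primeCompl x
  have hspec : IsLocalization.mk' (Localization.AtPrime q) b s * algebraMap B (Localization.AtPrime q) s
      = algebraMap B (Localization.AtPrime q) b := IsLocalization.mk'_spec _ b s
  have h3 := congrArg (IsLocalRing.residue (Localization.AtPrime q)) hspec
  rw [map_mul] at h3
  have hb' : IsLocalRing.residue (Localization.AtPrime q) (algebraMap B (Localization.AtPrime q) b)
      = algebraMap B q.ResidueField b := rfl
  have hs' : IsLocalRing.residue (Localization.AtPrime q) (algebraMap B (Localization.AtPrime q) s)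
      = algebraMap B q.ResidueField s := rfl
  rw [hb', hs'] at h3
  have hne : algebraMap B q.ResidueField s ≠ 0 := by
    rw [← hs']
    intro h0
    have hu : IsUnit (algebraMap B (Localization.AtPrime q) (s : B)) :=
      IsLocalization.map_units (Localization.AtPrime q) s
    exact (IsLocalRing.residue_ne_zero_iff_isUnit _).mpr hu h0
  have : IsLocalRing.residue (Localization.AtPrime q) (IsLocalization.mk' (Localization.AtPrime q) b s)
      = algebraMap B q.ResidueField b * (algebraMap B q.ResidueField s)⁻¹ := by
    rw [← h3, mul_assoc, mul_inv_cancel₀ hne, mul_one]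
  rw [this]
  exact mul_mem (hB b) (inv_mem (hB s))

end Groth.Agent.S1974
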