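import Groth.Statements.S19748
import Mathlib

set_option autoImplicit false
universe u
open scoped TensorProduct
open GrSegre

namespace Groth.Agent.S19748

section
variable {M : Type u} [AddCommGroup M] (ℳ : ℤ → AddSubgroup M) [DirectSum.Decomposition ℳ]

/-- projection to the `n`-th component -/
noncomputable def pr (n : ℤ) (x : M) : M := (DirectSum.decompose ℳ x n : M)

theorem pr_add (n : ℤ) (x y : M) : pr ℳ n (x + y) = pr ℳ n x + pr ℳ n y := by
  simp [pr, DirectSum.decompose_add]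

theorem pr_zero (n : ℤ) : pr ℳ n (0 : M) = 0 := by
  simp [pr, DirectSum.decompose_zero]

theorem pr_mem (n : ℤ) (x : M) : pr ℳ n x ∈ ℳ n := (DirectSum.decompose ℳ x n).2

theorem pr_same {n : ℤ} {x : M} (h : x ∈ ℳ n) : pr ℳ n x = x :=
  DirectSum.decompose_of_mem_same ℳ h

theorem pr_ne {m n : ℤ} {x : M} (h : x ∈ ℳ m) (hmn : m ≠ n) : pr ℳ n x = 0 :=
  DirectSum.decompose_of_mem_ne ℳ h hmn

theorem pr_smul {R : Type u} [Ring R] [Module R M] (f : R) (d' : ℤ)
    (hfd : ∀ m (x : M), x ∈ ℳ m → f • x ∈ ℳ (d' + m)) (n : ℤ) (x : M) :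
    pr ℳ n (f • x) = f • pr ℳ (n - d') x := by
  refine DirectSum.Decomposition.inductionOn ℳ
    (motive := fun x => pr ℳ n (f • x) = f • pr ℳ (n - d') x) ?_ ?_ ?_ x
  · rw [smul_zero, pr_zero, pr_zero, smul_zero]
  · intro m y
    by_cases h : d' + m = n
    · have h2 : m = n - d' := by omega
      have hy1 : f • (y : M) ∈ ℳ n := by rw [← h]; exact hfd m _ y.2
      have hy2 : (y : M) ∈ ℳ (n - d') := by rw [← h2]; exact y.2
      rw [pr_same ℳ hy1, pr_same ℳ hy2]
    · have h2 : m ≠ n - d' := by omega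
      rw [pr_ne ℳ (hfd m _ y.2) h, pr_ne ℳ y.2 h2, smul_zero]
  · intro x y hx hy
    rw [smul_add, pr_add, pr_add, hx, hy, smul_add]

theorem exists_preimage_hom {R : Type u} [Ring R] [Module R M] (f : R) (d' : ℤ)
    (hfd : ∀ m (x : M), x ∈ ℳ m → f • x ∈ ℳ (d' + m))
    (hsurj : Function.Surjective (fun x : M => f • x)) (n : ℤ) (a : M) (ha : a ∈ ℳ n) :
    ∃ a' ∈ ℳ (n - d'), f • a' = a := by
  obtain ⟨a', ha'⟩ := hsurj a
  have ha'' : f • a' = a := ha'
  refine ⟨pr ℳ (n - d') a', pr_mem ℳ _ _, ?_⟩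
  rw [← pr_smul ℳ f d' hfd, ha'', pr_same ℳ ha]

end

theorem pow_smul_bijective {R M : Type u} [Monoid R] [MulAction R M] (f : R)
    (h : Function.Bijective (fun x : M => f • x)) (n : ℕ) :
    Function.Bijective (fun x : M => f ^ n • x) := by
  induction n with
  | zero =>
    simp only [pow_zero, one_smul]
    exact Function.bijective_id
  | succ n ih =>
    have h1 : (fun x : M => f ^ (n + 1) • x) = (fun x => f ^ n • x) ∘ (fun x => f • x) := by
      funext x
      simp [pow_succ, mul_smul]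
    rw [h1]
    exact ih.comp h

theorem map_bijective {k : Type u} [CommRing k] {M N : Type u} [AddCommGroup M] [Module k M]
    [AddCommGroup N] [Module k N] (F : M →ₗ[k] M) (G : N →ₗ[k] N)
    (hF : Function.Bijective F) (hG : Function.Bijective G)
    (A : TensorProduct k M N →ₗ[k] TensorProduct k M N)
    (hA : ∀ m n, A (m ⊗ₜ[k] n) = F m ⊗ₜ[k] G n) : Function.Bijective A := by
  have hAE : A = (TensorProduct.congr (LinearEquiv.ofBijective F hF)
      (LinearEquiv.ofBijective G hG)).toLinearMap := by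
    apply TensorProduct.ext'
    intro m n
    rw [hA]
    rfl
  rw [hAE]
  exact LinearEquiv.bijective _

/-- Let R and S be graded rings defined over a field k with Segre product T = R # S, M a graded R-module
and N a graded S-module. Suppose that multiplication by some homogeneous element f ∈ R_d of positive
degree d is bijective on M and multiplication by some homogeneous g ∈ S_e of positive degree e is
bijective on N. Then multiplication by some homogeneous element of T of positive degree is bijective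
on M # N. Here a graded ring defined over k is a commutative k-algebra of finite type, graded in
nonnegative degrees by k-subspaces with degree-zero part k·1; the Segre product T = R # S = ⊕_n R_n
⊗_k S_n is presented abstractly as a graded k-algebra T with an injective k-algebra homomorphism ψ :
T → R ⊗_k S carrying T_n onto the k-span of the elementary tensors a ⊗ b with a ∈ R_n, b ∈ S_n; the
Segre product M # N = ⊕_n M_n ⊗_k N_n of a graded R-module M and a graded S-module N is presented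
abstractly as a graded T-module P with an injective k-linear map φ : P → M ⊗_k N carrying P_n onto
the k-span of the tensors x ⊗ y with x ∈ M_n, y ∈ N_n and turning the action of t ∈ T into that of
ψ(t) (acting factorwise on M ⊗_k N). -/
theorem result (k : Type u) [Field k] (R : Type u) [CommRing R] [Algebra k R] (𝒜 : ℤ → Submodule k R) [GradedAlgebra 𝒜] (hposR : ∀ n : ℤ, n < 0 → 𝒜 n = ⊥) (h0R : 𝒜 0 = Submodule.span k {(1 : R)}) [Algebra.FiniteType k R] (S : Type u) [CommRing S] [Algebra k S] (ℬ : ℤ → Submodule k S) [GradedAlgebra ℬ] (hposS : ∀ n : ℤ, n < 0 → ℬ n = ⊥) (h0S : ℬ 0 = Submodule.span k {(1 : S)}) [Algebra.FiniteType k S] (T : Type u) [CommRing T] [Algebra k T] (𝒯 : ℤ → Submodule k T) [GradedAlgebra 𝒯] (ψ : T →ₐ[k] TensorProduct k R S) (hT : GrSeg.IsSegreRing 𝒜 ℬ 𝒯 ψ) (M : Type u) [AddCommGroup M] [Module R M] [Module k M] [IsScalarTower k R M] (ℳ : ℤ → AddSubgroup M) [DirectSum.Decomposition ℳ] [SetLike.GradedSMul 𝒜 ℳ] (N : Type u) [AddCommGroup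 N] [Module S N] [Module k N] [IsScalarTower k S N] (𝒩 : ℤ → AddSubgroup N) [DirectSum.Decomposition 𝒩] [SetLike.GradedSMul ℬ 𝒩] (P : Type u) [AddCommGroup P] [Module T P] [Module k P] [IsScalarTower k T P] (𝒬 : ℤ → AddSubgroup P) [DirectSum.Decomposition 𝒬] (φ : P →ₗ[k] TensorProduct k M N) (hP : GrSeg.IsSegreMod ψ ℳ 𝒩 𝒬 φ) (d : ℕ) (hd : 0 < d) (f : R) (hf : f ∈ 𝒜 (d : ℤ)) (hfM : Function.Bijective (fun x : M => f • x)) (e : ℕ) (he : 0 < e) (g : S) (hg : g ∈ ℬ (e : ℤ)) (hgN : Function.Bijective (fun y : N => g • y)) : ∃ (c : ℤ) (t : T), 0 < c ∧ t ∈ 𝒯 c ∧ Function.Bijective (fun p : P => t • p) := by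
  classical
  obtain ⟨hψinj, hψimg⟩ := hT
  obtain ⟨c, hc⟩ : ∃ c : ℤ, c = (d : ℤ) * (e : ℤ) := ⟨_, rfl⟩
  have hcpos : 0 < c := by
    rw [hc]; exact mul_pos (by exact_mod_cast hd) (by exact_mod_cast he)
  have hfe : f ^ e ∈ 𝒜 c := by
    have h0 := SetLike.pow_mem_graded e hf
    have h1 : e • (d : ℤ) = c := by rw [hc, nsmul_eq_mul, mul_comm]
    rw [h1] at h0; exact h0
  have hgd : g ^ d ∈ ℬ c := by
    have h0 := SetLike.pow_mem_graded d hg
    have h1 : d • (e : ℤ) = c := by rw [hc, nsmul_eq_mul]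
    rw [h1] at h0; exact h0
  have hmem : (f ^ e) ⊗ₜ[k] (g ^ d) ∈ GrSeg.segrePiece k 𝒜 ℬ c :=
    Submodule.subset_span ⟨f ^ e, hfe, g ^ d, hgd, rfl⟩
  rw [← hψimg c] at hmem
  obtain ⟨t, ht, hψt0⟩ := hmem
  have hψt : ψ t = (f ^ e) ⊗ₜ[k] (g ^ d) := hψt0
  refine ⟨c, t, hcpos, ht, ?_⟩
  have hF := pow_smul_bijective (M := M) f hfM e
  have hG := pow_smul_bijective (M := N) g hgN d
  -- the action of ψ t
  obtain ⟨A, hA⟩ : ∃ A : TensorProduct k M N →ₗ[k] TensorProduct k M N,
      A = GrSeg.act k R S M N (ψ t) := ⟨_, rfl⟩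
  have hAtmul : ∀ (m : M) (n : N), A (m ⊗ₜ[k] n) = ((f ^ e) • m) ⊗ₜ[k] ((g ^ d) • n) := by
    intro m n
    rw [hA, hψt, GrSeg.act_tmul]
  have hAbij : Function.Bijective A :=
    map_bijective (k := k) (Algebra.lsmul k k M (f ^ e)) (Algebra.lsmul k k N (g ^ d)) hF hG A
      (fun m n => by rw [hAtmul]; rfl)
  have hkeyM : ∀ n (a : M), a ∈ ℳ n → ∃ a' ∈ ℳ (n - c), (f ^ e) • a' = a :=
    fun n a ha => exists_preimage_hom ℳ (f ^ e) c (fun m x hx => by
      have h0 := SetLike.GradedSMul.smul_mem hfe hx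
      simpa [vadd_eq_add] using h0) hF.2 n a ha
  have hkeyN : ∀ n (b : N), b ∈ 𝒩 n → ∃ b' ∈ 𝒩 (n - c), (g ^ d) • b' = b :=
    fun n b hb => exists_preimage_hom 𝒩 (g ^ d) c (fun m x hx => by
      have h0 := SetLike.GradedSMul.smul_mem hgd hx
      simpa [vadd_eq_add] using h0) hG.2 n b hb
  have hpiece : ∀ n (z : TensorProduct k M N), z ∈ GrSeg.segrePiece k ℳ 𝒩 n →
      ∃ z' ∈ GrSeg.segrePiece k ℳ 𝒩 (n - c), A z' = z := by
    intro n z hz
    induction hz using Submodule.span_induction with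
    | mem x hx =>
      obtain ⟨a, ha, b, hb, rfl⟩ := hx
      obtain ⟨a', ha', rfl⟩ := hkeyM n a ha
      obtain ⟨b', hb', rfl⟩ := hkeyN n b hb
      exact ⟨a' ⊗ₜ[k] b', Submodule.subset_span ⟨a', ha', b', hb', rfl⟩, hAtmul a' b'⟩
    | zero => exact ⟨0, Submodule.zero_mem _, map_zero _⟩
    | add x y _ _ hx hy =>
      obtain ⟨x', hx', rfl⟩ := hx
      obtain ⟨y', hy', rfl⟩ := hy
      exact ⟨x' + y', Submodule.add_mem _ hx' hy', map_add _ _ _⟩
    | smul r x _ hx =>
      obtain ⟨x', hx', rfl⟩ := hx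
      exact ⟨r • x', Submodule.smul_mem _ r hx', map_smul _ _ _⟩
  have hφsmul : ∀ q : P, φ (t • q) = A (φ q) := by
    intro q; rw [hA]; exact hP.map_smul t q
  have hsurj : ∀ p : P, ∃ q : P, t • q = p := by
    intro p
    refine DirectSum.Decomposition.inductionOn 𝒬 (motive := fun p => ∃ q : P, t • q = p)
      ?_ ?_ ?_ p
    · exact ⟨0, smul_zero t⟩
    · intro n pn
      have h1 : φ pn ∈ (GrSeg.segrePiece k ℳ 𝒩 n : Set (TensorProduct k M N)) := by
        rw [← hP.image_piece n]; exact ⟨pn, pn.2, rfl⟩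
      obtain ⟨z', hz', hAz⟩ := hpiece n _ h1
      have h2 : z' ∈ (GrSeg.segrePiece k ℳ 𝒩 (n - c) : Set (TensorProduct k M N)) := hz'
      rw [← hP.image_piece (n - c)] at h2
      obtain ⟨q, _, rfl⟩ := h2
      refine ⟨q, hP.injective ?_⟩
      rw [hφsmul]; exact hAz
    · rintro x y ⟨x', rfl⟩ ⟨y', rfl⟩
      exact ⟨x' + y', smul_add t x' y'⟩
  constructor
  · intro p p' h
    have h' : t • p = t • p' := h
    apply hP.injective
    have h3 := congrArg φ h'
    rw [hφsmul, hφsmul] at h3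
    exact hAbij.1 h3
  · exact fun p => hsurj p

end Groth.Agent.S19748
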