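import Groth.Statements.S19749
import Mathlib

set_option autoImplicit false
universe u
open scoped TensorProduct
open GrSegre

namespace Groth.Agent.S19749

section
variable {M : Type u} [AddCommGroup M] (ℳ : ℤ → AddSubgroup M) [DirectSum.Decomposition ℳ]

/-- projection to the `n`-th component -/
noncomputable def pr (n : ℤ) (x : M) : M := (DirectSum.decompose ℳ x n : M)

theorem pr_add (n : ℤ) (x y : M) : pr ℳ n (x + y) = pr ℳ n x + pr ℳ n y := by
  simp [pr, DirectSum.decompose_add]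

theorem pr_zero (n : ℤ) : pr ℳ n (0 : M) = 0 := by
  simp [pr, DirectSum.decompose_zero]

theorem pr_same {n : ℤ} {x : M} (h : x ∈ ℳ n) : pr ℳ n x = x :=
  DirectSum.decompose_of_mem_same ℳ h

theorem pr_ne {m n : ℤ} {x : M} (h : x ∈ ℳ m) (hmn : m ≠ n) : pr ℳ n x = 0 :=
  DirectSum.decompose_of_mem_ne ℳ h hmn

theorem pr_smul_hom {R : Type u} [CommRing R] {k : Type u} [CommRing k] [Algebra k R]
    (𝒜 : ℤ → Submodule k R) [GradedAlgebra 𝒜]
    [Module R M] [SetLike.GradedSMul 𝒜 ℳ] (n d : ℤ) (x : M) (hx : x ∈ ℳ n) (r : R) :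
    pr ℳ (n + d) (r • x) = ((DirectSum.decompose 𝒜 r d : 𝒜 d) : R) • x := by
  refine DirectSum.Decomposition.inductionOn 𝒜
    (motive := fun r => pr ℳ (n + d) (r • x) = ((DirectSum.decompose 𝒜 r d : 𝒜 d) : R) • x)
    ?_ ?_ ?_ r
  · rw [zero_smul, pr_zero, DirectSum.decompose_zero, DirectSum.zero_apply,
      ZeroMemClass.coe_zero, zero_smul]
  · intro j a
    have hax : (a : R) • x ∈ ℳ (j + n) := by
      have h0 := SetLike.GradedSMul.smul_mem a.2 hx
      simpa [vadd_eq_add] using h0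
    by_cases h : j = d
    · subst h
      rw [DirectSum.decompose_of_mem_same 𝒜 a.2]
      have h2 : (a : R) • x ∈ ℳ (n + j) := by rw [add_comm]; exact hax
      exact pr_same ℳ h2
    · rw [DirectSum.decompose_of_mem_ne 𝒜 a.2 h, zero_smul]
      exact pr_ne ℳ hax (by omega)
  · intro r r' h1 h2
    rw [add_smul, pr_add, h1, h2, DirectSum.decompose_add, DirectSum.add_apply,
      Submodule.coe_add, add_smul]

end

/-- Let R and S be graded rings defined over a field k, both generated over k by their degree-one parts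
and of positive Krull dimension, T = R # S, M a graded R-module and N a graded S-module, n an
integer with N_m ≠ 0 for every m ≥ n, and x ∈ M_n, y ∈ N_n. If x # y generates M # N as a T-module,
then R_d x = M_{n+d} for every d ≥ 0 (every element of M_{n+d} is r x for some r ∈ R_d). Here a
graded ring defined over k is a commutative k-algebra of finite type, graded in nonnegative degrees
by k-subspaces with degree-zero part k·1; the Segre product T = R # S = ⊕_n R_n ⊗_k S_n is presented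
abstractly as a graded k-algebra T with an injective k-algebra homomorphism ψ : T → R ⊗_k S carrying
T_n onto the k-span of the elementary tensors a ⊗ b with a ∈ R_n, b ∈ S_n; the Segre product M # N =
⊕_n M_n ⊗_k N_n of a graded R-module M and a graded S-module N is presented abstractly as a graded
T-module P with an injective k-linear map φ : P → M ⊗_k N carrying P_n onto the k-span of the
tensors x ⊗ y with x ∈ M_n, y ∈ N_n and turning the action of t ∈ T into that of ψ(t) (acting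
factorwise on M ⊗_k N), and x # y is the element of P mapped to x ⊗ y. -/
theorem result (k : Type u) [Field k] (R : Type u) [CommRing R] [Algebra k R] (𝒜 : ℤ → Submodule k R) [GradedAlgebra 𝒜] (hposR : ∀ n : ℤ, n < 0 → 𝒜 n = ⊥) (h0R : 𝒜 0 = Submodule.span k {(1 : R)}) [Algebra.FiniteType k R] (S : Type u) [CommRing S] [Algebra k S] (ℬ : ℤ → Submodule k S) [GradedAlgebra ℬ] (hposS : ∀ n : ℤ, n < 0 → ℬ n = ⊥) (h0S : ℬ 0 = Submodule.span k {(1 : S)}) [Algebra.FiniteType k S] (T : Type u) [CommRing T] [Algebra k T] (𝒯 : ℤ → Submodule k T) [GradedAlgebra 𝒯] (ψ : T →ₐ[k] TensorProduct k R S) (hT : GrSeg.IsSegreRing 𝒜 ℬ 𝒯 ψ) (hstdR : Ideal.span (⋃ n ∈ Set.Ioi (0 : ℤ), (𝒜 n : Set R)) = Ideal.span ((𝒜 1 : Submodule k R) : Set R)) (hstdS : Ideal.span (⋃ n ∈ Set.Ioi (0 : ℤ), (ℬ n : Set S)) = Ideal.span ((ℬ 1 : Submodule k S) : Set S)) (hr1 : 1 ≤ ringKrullDim R) (hs1 : 1 ≤ ringKrullDim S) (M : Type u) [AddCommGroup M] [Module R M] [Module k M] [IsScalarTower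 k R M] (ℳ : ℤ → AddSubgroup M) [DirectSum.Decomposition ℳ] [SetLike.GradedSMul 𝒜 ℳ] (N : Type u) [AddCommGroup N] [Module S N] [Module k N] [IsScalarTower k S N] (𝒩 : ℤ → AddSubgroup N) [DirectSum.Decomposition 𝒩] [SetLike.GradedSMul ℬ 𝒩] (P : Type u) [AddCommGroup P] [Module T P] [Module k P] [IsScalarTower k T P] (𝒬 : ℤ → AddSubgroup P) [DirectSum.Decomposition 𝒬] (φ : P →ₗ[k] TensorProduct k M N) (hP : GrSeg.IsSegreMod ψ ℳ 𝒩 𝒬 φ) (n : ℤ) (hNn : ∀ m : ℤ, n ≤ m → 𝒩 m ≠ ⊥) (x : M) (hx : x ∈ ℳ n) (y : N) (hy : y ∈ 𝒩 n) (p : P) (hp : φ p = x ⊗ₜ[k] y) (hgen : Submodule.span T {p} = ⊤) (d : ℤ) (hd : 0 ≤ d) (z : M) (hz : z ∈ ℳ (n + d)) : ∃ r ∈ 𝒜 d, r • x = z := by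
  classical
  obtain ⟨w, hw, hw0⟩ : ∃ w ∈ 𝒩 (n + d), w ≠ (0 : N) := by
    rcases (𝒩 (n + d)).bot_or_exists_ne_zero with h | h
    · exact absurd h (hNn (n + d) (by omega))
    · exact h
  obtain ⟨lam, hlam⟩ : ∃ lam : N →ₗ[k] k, lam w = 1 := by
    have h1 : ¬ ∀ φ' : Module.Dual k N, φ' w = 0 :=
      fun h => hw0 ((Module.forall_dual_apply_eq_zero_iff k w).mp h)
    simp only [not_forall] at h1
    obtain ⟨φ', hφ'⟩ := h1
    refine ⟨(φ' w)⁻¹ • φ', ?_⟩
    rw [LinearMap.smul_apply, smul_eq_mul, inv_mul_cancel₀ hφ']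
  have h1 : z ⊗ₜ[k] w ∈ (GrSeg.segrePiece k ℳ 𝒩 (n + d) : Set (TensorProduct k M N)) :=
    Submodule.subset_span ⟨z, hz, w, hw, rfl⟩
  rw [← hP.image_piece (n + d)] at h1
  obtain ⟨q, _, hq⟩ := h1
  have hqspan : q ∈ Submodule.span T {p} := by rw [hgen]; trivial
  obtain ⟨t, rfl⟩ := Submodule.mem_span_singleton.mp hqspan
  rw [hP.map_smul, hp] at hq
  obtain ⟨L, hL⟩ : ∃ L : TensorProduct k M N →ₗ[k] M,
      L = (TensorProduct.rid k M).toLinearMap ∘ₗ LinearMap.lTensor M lam := ⟨_, rfl⟩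
  have hLtmul : ∀ (m : M) (n' : N), L (m ⊗ₜ[k] n') = lam n' • m := by
    intro m n'; rw [hL]; simp
  have hclaim : ∀ u : TensorProduct k R S,
      ∃ r' : R, L (GrSeg.act k R S M N u (x ⊗ₜ[k] y)) = r' • x := by
    intro u
    induction u using TensorProduct.induction_on with
    | zero => exact ⟨0, by simp⟩
    | tmul a b =>
      refine ⟨lam (b • y) • a, ?_⟩
      rw [GrSeg.act_tmul, hLtmul, smul_assoc]
    | add u v hu hv =>
      obtain ⟨r1, h1⟩ := hu
      obtain ⟨r2, h2⟩ := hv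
      exact ⟨r1 + r2, by rw [map_add, LinearMap.add_apply, map_add, h1, h2, add_smul]⟩
  obtain ⟨r', hr'⟩ := hclaim (ψ t)
  rw [hq, hLtmul, hlam, one_smul] at hr'
  refine ⟨(DirectSum.decompose 𝒜 r' d : 𝒜 d), (DirectSum.decompose 𝒜 r' d).2, ?_⟩
  rw [← pr_smul_hom ℳ 𝒜 n d x hx r', ← hr', pr_same ℳ hz]

end Groth.Agent.S19749
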