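import Groth.Statements.S1976
import Mathlib
import Groth.Agent.Lib.Lead.WEField
-- import your own Groth.Agent.* helpers here

set_option autoImplicit false
universe u
open CategoryTheory
open EtAlg

namespace Groth.Agent.S1976

/-- (2) ⇔ (3): a K-algebra B over a field K is weakly etale exactly when it can be written as a filtered
colimit of etale K-algebras, and in that case its finitely generated K-subalgebras are etale. -/
theorem result (K : Type u) [Field K] (B : Type u) [CommRing B] [Algebra K B] :
    (Algebra.WeaklyEtale K B ↔ EtPBC.IsIndEtale K B) ∧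
    (Algebra.WeaklyEtale K B → ∀ S : Subalgebra K B, S.FG → Algebra.Etale K S) := by
  have key : Algebra.WeaklyEtale K B → ∀ S : Subalgebra K B, S.FG → Algebra.Etale K S :=
    fun h S hS => ((Groth.Agent.Lead.WEField.weaklyEtale_iff_diagPure K B).mp h).etale_of_fg S hS
  exact ⟨⟨fun h => Groth.Agent.Lead.WEField.isIndEtale_of_fg_etale K B (key h),
    Groth.Agent.Lead.IndEt.weaklyEtale⟩, key⟩

end Groth.Agent.S1976
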