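import Groth.Statements.S19799
import Mathlib

set_option autoImplicit false
universe u v w
open scoped TensorProduct
open CAlg

namespace Groth.Agent.S19799

open scoped TensorProduct in
theorem isReduced_tensor_of_finite_algClosed (k : Type u) [Field k] [IsAlgClosed k]
    (A : Type v) [CommRing A] [Algebra k A] [IsReduced A]
    (B : Type w) [CommRing B] [Algebra k B] [Module.Finite k B] [IsReduced B] :
    IsReduced (A ⊗[k] B) := by
  classical
  have : IsArtinianRing B := isArtinian_of_tower k inferInstance
  let _ (m : MaximalSpectrum B) : Field (B ⧸ m.asIdeal) := Ideal.Quotient.field m.asIdeal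
  have hbij : ∀ m : MaximalSpectrum B, Function.Bijective (algebraMap k (B ⧸ m.asIdeal)) := by
    intro m
    exact IsAlgClosed.algebraMap_bijective_of_isIntegral
  let e1 : B ≃ₐ[k] ∀ m : MaximalSpectrum B, B ⧸ m.asIdeal :=
    (IsArtinianRing.equivPi B).restrictScalars k
  let e2 : (∀ m : MaximalSpectrum B, B ⧸ m.asIdeal) ≃ₐ[k] (MaximalSpectrum B → k) :=
    AlgEquiv.piCongrRight fun m => (AlgEquiv.ofBijective (Algebra.ofId k _) (hbij m)).symm
  let e : B ≃ₐ[k] (MaximalSpectrum B → k) := e1.trans e2
  have : Finite (MaximalSpectrum B) := inferInstance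
  have : Fintype (MaximalSpectrum B) := Fintype.ofFinite _
  let E : A ⊗[k] B ≃ₐ[k] (MaximalSpectrum B → A) :=
    (Algebra.TensorProduct.congr AlgEquiv.refl e).trans
      (Algebra.TensorProduct.piScalarRight k k A (MaximalSpectrum B))
  exact isReduced_of_injective E.toRingEquiv.toRingHom E.injective

/-- Let k be an algebraically closed field and A, B commutative k-algebras, each finite-dimensional as a
k-vector space. Then reduction commutes with tensor products: the kernel of the canonical surjection
A ⊗_k B ⟶ (A/nilradical A) ⊗_k (B/nilradical B) equals the nilradical of A ⊗_k B, so that this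
surjection induces an isomorphism (A ⊗_k B)_red ≅ A_red ⊗_k B_red and in particular A_red ⊗_k B_red
is reduced. -/
theorem result (k : Type u) [Field k]
    [IsAlgClosed k] (A : Type v) [CommRing A] [Algebra k A] [Module.Finite k A]
    (B : Type w) [CommRing B] [Algebra k B] [Module.Finite k B] :
    RingHom.ker (Algebra.TensorProduct.map (Ideal.Quotient.mkₐ k (nilradical A))
      (Ideal.Quotient.mkₐ k (nilradical B))).toRingHom = nilradical (A ⊗[k] B) := by
  have hA : IsReduced (A ⧸ nilradical A) := (Ideal.isRadical_iff_quotient_reduced _).mp (Ideal.radical_isRadical _)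
  have hB : IsReduced (B ⧸ nilradical B) := (Ideal.isRadical_iff_quotient_reduced _).mp (Ideal.radical_isRadical _)
  have hred := isReduced_tensor_of_finite_algClosed k (A ⧸ nilradical A) (B ⧸ nilradical B)
  apply le_antisymm
  · have h1 := Algebra.TensorProduct.map_ker (Ideal.Quotient.mkₐ k (nilradical A))
      (Ideal.Quotient.mkₐ k (nilradical B)) (Ideal.Quotient.mkₐ_surjective k _)
      (Ideal.Quotient.mkₐ_surjective k _)
    intro x hx
    have hx' : x ∈ RingHom.ker (Algebra.TensorProduct.map (Ideal.Quotient.mkₐ k (nilradical A))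
      (Ideal.Quotient.mkₐ k (nilradical B))) := hx
    rw [h1] at hx'
    refine (sup_le ?_ ?_ : _ ≤ nilradical (A ⊗[k] B)) hx'
    · rw [Ideal.map_le_iff_le_comap]
      intro a ha
      have ha' : a ∈ nilradical A := Ideal.Quotient.eq_zero_iff_mem.mp ha
      exact (mem_nilradical.mp ha').map _
    · rw [Ideal.map_le_iff_le_comap]
      intro b hb
      have hb' : b ∈ nilradical B := Ideal.Quotient.eq_zero_iff_mem.mp hb
      exact (mem_nilradical.mp hb').map _
  · intro x hx
    rw [RingHom.mem_ker]
    exact (mem_nilradical.mp hx).map _ |>.eq_zero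

end Groth.Agent.S19799
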