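import Groth.Statements.S19804
import Mathlib
-- import your own Groth.Agent.* helpers here

set_option autoImplicit false
open scoped TensorProduct
universe u v w
open Brauer

namespace Groth.Agent.S19804


theorem claim {R : Type u} [CommRing R]
    [ConnectedSpace (PrimeSpectrum R)] {A : Type v} [Ring A] [Algebra R A] [Module.Finite R A]
    [Module.Projective R A]
    (R' : Type w) [CommRing R'] [Nontrivial R'] [Algebra R R']
    (e : A) (he : IsIdempotentElem e) (h0 : (1 : R') ⊗ₜ[R] e = (0 : R' ⊗[R] A)) : e = 0 := by
  classical
  have hπP : ∀ x : LinearMap.range (LinearMap.mulLeft R e), e * (x : A) = x := by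
    rintro ⟨_, a, rfl⟩
    show e * (e * a) = e * a
    rw [← mul_assoc, he.eq]
  have hsplit : (LinearMap.mulLeft R e).rangeRestrict ∘ₗ
      (LinearMap.range (LinearMap.mulLeft R e)).subtype = LinearMap.id := by
    ext x
    exact hπP x
  haveI : Module.Projective R (LinearMap.range (LinearMap.mulLeft R e)) :=
    Module.Projective.of_split _ _ hsplit
  haveI : Module.Finite R (LinearMap.range (LinearMap.mulLeft R e)) := Module.Finite.range _
  haveI : Module.FinitePresentation R (LinearMap.range (LinearMap.mulLeft R e)) :=
    Module.finitePresentation_of_projective R _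
  have hinj : Function.Injective
      (LinearMap.lTensor R' (LinearMap.range (LinearMap.mulLeft R e)).subtype) := by
    have hc : (LinearMap.lTensor R' (LinearMap.mulLeft R e).rangeRestrict) ∘ₗ
        (LinearMap.lTensor R' (LinearMap.range (LinearMap.mulLeft R e)).subtype) =
        LinearMap.id := by
      rw [← LinearMap.lTensor_comp, hsplit, LinearMap.lTensor_id]
    intro a b hab
    have := congrArg (LinearMap.lTensor R' (LinearMap.mulLeft R e).rangeRestrict) hab
    rwa [← LinearMap.comp_apply, ← LinearMap.comp_apply, hc] at this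
  haveI hsub : Subsingleton (R' ⊗[R] (LinearMap.range (LinearMap.mulLeft R e))) := by
    refine ⟨fun a b => hinj ?_⟩
    have hz : ∀ y : R' ⊗[R] (LinearMap.range (LinearMap.mulLeft R e)),
        LinearMap.lTensor R' (LinearMap.range (LinearMap.mulLeft R e)).subtype y = 0 := by
      intro y
      induction y using TensorProduct.induction_on with
      | zero => rw [map_zero]
      | tmul s x =>
        obtain ⟨_, a, rfl⟩ := x
        rw [LinearMap.lTensor_tmul]
        show s ⊗ₜ[R] (e * a) = 0
        have : s ⊗ₜ[R] (e * a) = ((1 : R') ⊗ₜ[R] e) * (s ⊗ₜ[R] a) := by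
          rw [Algebra.TensorProduct.tmul_mul_tmul, one_mul]
        rw [this, h0, zero_mul]
      | add a b ha hb => rw [map_add, ha, hb, add_zero]
    rw [hz a, hz b]
  obtain ⟨q⟩ := (inferInstance : Nonempty (PrimeSpectrum R'))
  have hr0 : Module.rankAtStalk (LinearMap.range (LinearMap.mulLeft R e))
      (q.comap (algebraMap R R')) = 0 := by
    rw [← Module.rankAtStalk_baseChange (R := R)
      (M := LinearMap.range (LinearMap.mulLeft R e)) q,
      Module.rankAtStalk_eq_zero_of_subsingleton]
    rfl
  have hconst : Module.rankAtStalk (R := R) (LinearMap.range (LinearMap.mulLeft R e)) = 0 := by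
    funext p
    rw [(Module.isLocallyConstant_rankAtStalk (R := R)
      (M := LinearMap.range (LinearMap.mulLeft R e))).apply_eq_of_preconnectedSpace p
      (q.comap (algebraMap R R')), hr0]
    rfl
  haveI : Subsingleton (LinearMap.range (LinearMap.mulLeft R e)) :=
    Module.rankAtStalk_eq_zero_iff_subsingleton.1 hconst
  have heP : e ∈ LinearMap.range (LinearMap.mulLeft R e) :=
    ⟨1, by show e * 1 = e; rw [mul_one]⟩
  have h2 : (⟨e, heP⟩ : LinearMap.range (LinearMap.mulLeft R e)) = 0 := Subsingleton.elim _ _
  exact congrArg Subtype.val h2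

/-- Let R be a commutative ring with Spec R connected, A an Azumaya R-algebra and e an idempotent
element of A. If for some nonzero commutative R-algebra R' the element 1 ⊗ e of R' ⊗_R A is 0, then
e = 0; and if 1 ⊗ e = 1 in R' ⊗_R A, then e = 1. (The published statement is for an Azumaya algebra
over a connected scheme S and base change to an arbitrary nonempty S-scheme T; this row takes S and
T affine.) -/
theorem result {R : Type u} [CommRing R]
    [ConnectedSpace (PrimeSpectrum R)] {A : Type v} [Ring A] [Algebra R A] [IsAzumaya R A]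
    (e : A) (he : IsIdempotentElem e) (R' : Type w) [CommRing R'] [Nontrivial R'] [Algebra R R'] :
    ((1 : R') ⊗ₜ[R] e = (0 : R' ⊗[R] A) → e = 0) ∧ ((1 : R') ⊗ₜ[R] e = (1 : R' ⊗[R] A) → e = 1) := by
  refine ⟨claim (R := R) R' e he, fun h1 => ?_⟩
  have := claim (R := R) R' (1 - e) he.one_sub (by
    rw [TensorProduct.tmul_sub, h1, ← Algebra.TensorProduct.one_def, sub_self])
  exact (sub_eq_zero.1 this).symm

end Groth.Agent.S19804
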