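import Groth.Statements.S19856
import Mathlib

set_option autoImplicit false
universe u v
open CAlg

namespace Groth.Agent.S19856

/-- Ring-level form: let O be a discrete valuation ring and G a finite group acting faithfully on O by
ring automorphisms, such that every element of G acts trivially on the residue field of O (that is,
g • a - a lies in the maximal ideal for all a) and such that the order of G is nonzero in the
residue field of O. Then G is cyclic. (The source states this for a finite group of order invertible
in an algebraically closed field k acting faithfully on a smooth connected k-variety and the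
subgroup of elements fixing pointwise a codimension-one irreducible component of the ramification
locus, applied to the local ring at the generic point of that component; it is stated here for an
arbitrary discrete valuation ring with a faithful action. The source also shows that this subgroup
is nontrivial; that geometric part is not stated.) -/
theorem result
    (O : Type u) [CommRing O] [IsDomain O] [IsDiscreteValuationRing O]
    (G : Type v) [Group G] [Finite G] [MulSemiringAction G O] [FaithfulSMul G O]
    (htriv : ∀ (g : G) (a : O), g • a - a ∈ IsLocalRing.maximalIdeal O)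
    (hcard : ((Nat.card G : ℕ) : IsLocalRing.ResidueField O) ≠ 0) :
    IsCyclic G := by
  classical
  obtain ⟨π, hπ⟩ := IsDiscreteValuationRing.exists_irreducible O
  have hπ0 : π ≠ 0 := hπ.ne_zero
  have hmax : IsLocalRing.maximalIdeal O = Ideal.span {π} := hπ.maximalIdeal_eq
  have hmem : ∀ a : O, a ∈ IsLocalRing.maximalIdeal O ↔ π ∣ a := fun a => by
    rw [hmax, Ideal.mem_span_singleton]
  have htriv' : ∀ (g : G) (a : O), π ∣ g • a - a := fun g a => (hmem _).mp (htriv g a)
  -- the cocycle `w`
  have hw : ∀ g : G, ∃ w : O, g • π = π * w := by
    intro g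
    have h1 := htriv' g π
    have : π ∣ g • π := by
      have := dvd_add h1 (dvd_refl π)
      simpa using this
    exact this
  choose w hwdef using hw
  have hw1 : w 1 = 1 := by
    have := hwdef 1
    rw [one_smul] at this
    exact (mul_left_cancel₀ hπ0 (by rw [mul_one]; exact this)).symm
  have hwmul : ∀ g h : G, w (g * h) = w g * (g • w h) := by
    intro g h
    have h1 := hwdef (g * h)
    rw [mul_smul, hwdef h, smul_mul', hwdef g, mul_assoc] at h1
    exact (mul_left_cancel₀ hπ0 h1).symm
  have hres : ∀ (g : G) (a : O), IsLocalRing.residue O (g • a) = IsLocalRing.residue O a := by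
    intro g a
    have h2 : IsLocalRing.residue O (g • a - a) = 0 :=
      (IsLocalRing.residue_eq_zero_iff _).mpr (htriv g a)
    rw [map_sub, sub_eq_zero] at h2
    exact h2
  -- the character
  let χ : G →* IsLocalRing.ResidueField O :=
    { toFun := fun g => IsLocalRing.residue O (w g)
      map_one' := by rw [hw1, map_one]
      map_mul' := fun g h => by rw [hwmul, map_mul, hres] }
  have hχ : ∀ g, χ g = IsLocalRing.residue O (w g) := fun g => rfl
  apply isCyclic_of_injective_ringHom χ
  rw [injective_iff_map_eq_one]
  intro g hg
  -- `w (g^m) ≡ 1`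
  have hwpow : ∀ m : ℕ, π ∣ w (g ^ m) - 1 := by
    intro m
    have : χ (g ^ m) = 1 := by rw [map_pow, hg, one_pow]
    rw [hχ] at this
    have h2 : IsLocalRing.residue O (w (g ^ m) - 1) = 0 := by rw [map_sub, this, map_one, sub_self]
    have h3 : w (g ^ m) - 1 ∈ IsLocalRing.maximalIdeal O :=
      (IsLocalRing.residue_eq_zero_iff _).mp h2
    exact (hmem _).mp h3
  -- the card is a unit
  have hN : IsUnit ((Nat.card G : ℕ) : O) := by
    by_contra hnu
    have : ((Nat.card G : ℕ) : O) ∈ IsLocalRing.maximalIdeal O :=
      (IsLocalRing.mem_maximalIdeal _).mpr hnu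
    apply hcard
    have h2 : IsLocalRing.residue O ((Nat.card G : ℕ) : O) = 0 :=
      (IsLocalRing.residue_eq_zero_iff _).mpr this
    rw [map_natCast] at h2
    exact h2
  -- divisibility by all powers
  have hD : ∀ i : ℕ, ∀ a : O, π ^ (i + 1) ∣ g • a - a := by
    intro i
    induction i with
    | zero => intro a; simpa using htriv' g a
    | succ i ih =>
      intro a
      obtain ⟨u, hu⟩ := ih a
      -- each `g^m • d - d` is divisible by `π^(i+2)`
      have hstep : ∀ m : ℕ, π ^ (i + 1 + 1) ∣ g ^ m • (g • a - a) - (g • a - a) := by
        intro m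
        obtain ⟨c, hc⟩ := hwpow m
        obtain ⟨c', hc'⟩ := htriv' (g ^ m) u
        have e1 : g ^ m • (g • a - a) = (π * w (g ^ m)) ^ (i + 1) * (g ^ m • u) := by
          rw [hu, smul_mul', smul_pow', hwdef]
        have hx : π ∣ w (g ^ m) ^ (i + 1) - 1 := by
          have := sub_dvd_pow_sub_pow (w (g ^ m)) 1 (i + 1)
          rw [one_pow] at this
          exact dvd_trans ⟨c, hc⟩ this
        obtain ⟨c'', hc''⟩ := hx
        have e2 : g ^ m • u = u + π * c' := by rw [← hc']; ring
        rw [e1, hu, e2, mul_pow]
        have e3 : w (g ^ m) ^ (i + 1) = 1 + π * c'' := by rw [← hc'']; ring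
        rw [e3]
        refine ⟨c'' * (u + π * c') + c', ?_⟩
        ring
      -- sum over m
      have hsum : ∑ m ∈ Finset.range (Nat.card G), g ^ m • (g • a - a) = 0 := by
        have h1 : ∀ m : ℕ, g ^ m • (g • a - a) = g ^ (m + 1) • a - g ^ m • a := by
          intro m
          rw [smul_sub, ← mul_smul, ← pow_succ]
        rw [Finset.sum_congr rfl (fun m _ => h1 m), Finset.sum_range_sub (fun m => g ^ m • a),
          pow_card_eq_one', one_smul, pow_zero, one_smul, sub_self]
      have hNd : π ^ (i + 1 + 1) ∣ ((Nat.card G : ℕ) : O) * (g • a - a) := by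
        have h2 : ((Nat.card G : ℕ) : O) * (g • a - a) =
            - ∑ m ∈ Finset.range (Nat.card G), (g ^ m • (g • a - a) - (g • a - a)) := by
          rw [Finset.sum_sub_distrib, hsum, Finset.sum_const, Finset.card_range, nsmul_eq_mul]
          ring
        rw [h2]
        exact (Finset.dvd_sum fun m _ => hstep m).neg_right
      exact (hN.dvd_mul_left).mp hNd
  -- conclude
  apply FaithfulSMul.eq_of_smul_eq_smul (α := O)
  intro a
  rw [one_smul]
  by_contra hne
  have hne' : g • a - a ≠ 0 := sub_ne_zero.mpr hne
  obtain ⟨n, hn⟩ := FiniteMultiplicity.of_not_isUnit hπ.not_isUnit hne'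
  exact hn (hD n a)

end Groth.Agent.S19856
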