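import Groth.Statements.S1987
import Mathlib
-- import your own Groth.Agent.* helpers here

set_option autoImplicit false
universe u
open Polynomial
open EtAlg

namespace Groth.Agent.S1987


theorem aux (A : Type u) [CommRing A] [IsDomain A] [IsDiscreteValuationRing A] (π : A)
    (hπ : Irreducible π) (n : ℕ) (hn : 2 ≤ n) (f : A[X]) (hf : f = X ^ n - C π) :
    Irreducible f ∧
    ∃ (_ : IsDomain (AdjoinRoot f)) (_ : IsDiscreteValuationRing (AdjoinRoot f)),
      IsIntegrallyClosed (AdjoinRoot f) ∧
      (IsLocalRing.maximalIdeal A).map (algebraMap A (AdjoinRoot f)) =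
        IsLocalRing.maximalIdeal (AdjoinRoot f) ^ n ∧
      ∀ (K₁ : Type u) [Field K₁] [Algebra (AdjoinRoot f) K₁] [IsFractionRing (AdjoinRoot f) K₁],
        EtRam.IsTotallyRamified A ((algebraMap (AdjoinRoot f) K₁).comp
          (algebraMap A (AdjoinRoot f))) := by
  classical
  have hn0 : n ≠ 0 := by omega
  have hnpos : 0 < n := by omega
  have hmonic : f.Monic := by rw [hf]; exact monic_X_pow_sub_C π hn0
  have hdeg : f.degree = n := by rw [hf]; exact degree_X_pow_sub_C hnpos π
  have hmA : IsLocalRing.maximalIdeal A = Ideal.span {π} := hπ.maximalIdeal_eq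
  have hπ0 : π ≠ 0 := hπ.ne_zero
  have hirr : Irreducible f := by
    apply Polynomial.irreducible_of_eisenstein_criterion (P := IsLocalRing.maximalIdeal A)
      (IsLocalRing.maximalIdeal.isMaximal A).isPrime
    · rw [hmonic.leadingCoeff]
      exact fun h => (IsLocalRing.maximalIdeal.isMaximal A).ne_top ((Ideal.eq_top_iff_one _).mpr h)
    · intro k hk
      rw [hdeg] at hk
      have hk' : k < n := by exact_mod_cast hk
      rw [hf, coeff_sub, coeff_X_pow, coeff_C]
      by_cases hk0 : k = 0
      · subst hk0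
        rw [if_neg (show ¬ (0 = n) by omega), if_pos rfl, zero_sub, hmA]
        exact neg_mem (Ideal.mem_span_singleton_self π)
      · rw [if_neg (show ¬ (k = n) by omega), if_neg hk0, sub_zero]
        exact Ideal.zero_mem _
    · rw [hdeg]; exact_mod_cast hnpos
    · rw [hf, coeff_sub, coeff_X_pow, coeff_C, if_neg (show ¬ (0 = n) by omega), if_pos rfl,
        zero_sub, hmA, Ideal.span_singleton_pow]
      intro h
      rw [Ideal.mem_span_singleton, dvd_neg] at h
      obtain ⟨c, hc⟩ := h
      have h1 : π * (π * c) = π * 1 := by rw [mul_one, ← mul_assoc, ← sq, ← hc]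
      have h2 := mul_left_cancel₀ hπ0 h1
      exact hπ.not_isUnit (isUnit_iff_exists_inv.mpr ⟨c, h2⟩)
    · exact hmonic.isPrimitive
  have hprime : Prime f := hirr.prime
  haveI hdom : IsDomain (AdjoinRoot f) := AdjoinRoot.isDomain_of_prime hprime
  obtain ⟨x, hx⟩ : ∃ x : AdjoinRoot f, x = AdjoinRoot.root f := ⟨_, rfl⟩
  have hmkX : AdjoinRoot.mk f X = x := by rw [hx]; exact AdjoinRoot.mk_X
  have hmkC : ∀ a : A, AdjoinRoot.mk f (C a) = algebraMap A (AdjoinRoot f) a := fun a => by
    rw [AdjoinRoot.algebraMap_eq]; exact AdjoinRoot.mk_C a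
  have hxn : x ^ n = algebraMap A (AdjoinRoot f) π := by
    have h1 : AdjoinRoot.mk f f = 0 := AdjoinRoot.mk_self
    have h2 : AdjoinRoot.mk f (X ^ n - C π) = 0 := by rw [← hf]; exact h1
    rw [map_sub, map_pow, hmkX, hmkC, sub_eq_zero] at h2
    exact h2
  have hdecomp : ∀ b : AdjoinRoot f, ∃ (a : A) (b' : AdjoinRoot f),
      b = algebraMap A (AdjoinRoot f) a + x * b' := by
    intro b
    obtain ⟨q, rfl⟩ := AdjoinRoot.mk_surjective (g := f) b
    refine ⟨q.coeff 0, AdjoinRoot.mk f q.divX, ?_⟩
    conv_lhs => rw [← Polynomial.divX_mul_X_add q]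
    rw [map_add, map_mul, hmkX, hmkC, add_comm, mul_comm]
  haveI hfin : Module.Finite A (AdjoinRoot f) := hmonic.finite_adjoinRoot
  haveI hint : Algebra.IsIntegral A (AdjoinRoot f) := Algebra.IsIntegral.of_finite A _
  have hinj : Function.Injective (algebraMap A (AdjoinRoot f)) := by
    rw [AdjoinRoot.algebraMap_eq]
    apply AdjoinRoot.of.injective_of_degree_ne_zero
    rw [hdeg]
    exact_mod_cast hn0
  have hxpow : x ^ n = x * x ^ (n - 1) := by
    rw [← pow_succ', Nat.sub_add_cancel (show 1 ≤ n by omega)]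
  obtain ⟨Q, hQmax, hQ⟩ := Ideal.exists_ideal_over_maximal_of_isIntegral (S := AdjoinRoot f)
    (IsLocalRing.maximalIdeal A)
    (by rw [(RingHom.injective_iff_ker_eq_bot _).mp hinj]; exact bot_le)
  have hπQ : algebraMap A (AdjoinRoot f) π ∈ Q := by
    have h1 : π ∈ Q.comap (algebraMap A (AdjoinRoot f)) := by
      rw [hQ, hmA]; exact Ideal.mem_span_singleton_self π
    exact h1
  have hxQ : x ∈ Q := hQmax.isPrime.mem_of_pow_mem n (by rw [hxn]; exact hπQ)
  have hQeq : Q = Ideal.span {x} := by
    apply le_antisymm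
    · intro b hb
      obtain ⟨a, b', rfl⟩ := hdecomp b
      have ha : algebraMap A (AdjoinRoot f) a ∈ Q := by
        have h1 := Q.sub_mem hb (Q.mul_mem_right b' hxQ)
        rwa [add_sub_cancel_right] at h1
      have ha' : a ∈ IsLocalRing.maximalIdeal A := by rw [← hQ]; exact ha
      rw [hmA, Ideal.mem_span_singleton] at ha'
      obtain ⟨c, rfl⟩ := ha'
      rw [map_mul, ← hxn, hxpow, mul_assoc]
      exact Ideal.add_mem _ (Ideal.mul_mem_right _ _ (Ideal.mem_span_singleton_self x))
        (Ideal.mul_mem_right _ _ (Ideal.mem_span_singleton_self x))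
    · rw [Ideal.span_singleton_le_iff_mem]; exact hxQ
  have hxmax : (Ideal.span {x} : Ideal (AdjoinRoot f)).IsMaximal := hQeq ▸ hQmax
  haveI hloc : IsLocalRing (AdjoinRoot f) := by
    apply IsLocalRing.of_unique_max_ideal
    refine ⟨Ideal.span {x}, hxmax, ?_⟩
    intro M hM
    haveI := hM
    have hMc : (M.comap (algebraMap A (AdjoinRoot f))).IsMaximal :=
      Ideal.isMaximal_comap_of_isIntegral_of_isMaximal (R := A) M
    have hMc' : M.comap (algebraMap A (AdjoinRoot f)) = IsLocalRing.maximalIdeal A :=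
      IsLocalRing.eq_maximalIdeal hMc
    have hπM : algebraMap A (AdjoinRoot f) π ∈ M := by
      have h1 : π ∈ M.comap (algebraMap A (AdjoinRoot f)) := by
        rw [hMc', hmA]; exact Ideal.mem_span_singleton_self π
      exact h1
    have hxM : x ∈ M := hM.isPrime.mem_of_pow_mem n (by rw [hxn]; exact hπM)
    have hle : Ideal.span {x} ≤ M := by rw [Ideal.span_singleton_le_iff_mem]; exact hxM
    exact (hxmax.eq_of_le hM.ne_top hle).symm
  have hmB : IsLocalRing.maximalIdeal (AdjoinRoot f) = Ideal.span {x} :=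
    (IsLocalRing.eq_maximalIdeal hxmax).symm
  haveI hnoeth : IsNoetherianRing (AdjoinRoot f) :=
    isNoetherianRing_of_surjective A[X] (AdjoinRoot f) (AdjoinRoot.mk f) AdjoinRoot.mk_surjective
  have hx0 : x ≠ 0 := by
    intro h
    rw [h, zero_pow hn0] at hxn
    exact hπ0 (hinj (by rw [map_zero]; exact hxn.symm))
  have hxnu : ¬ IsUnit x := by
    intro h
    exact hxmax.ne_top (Ideal.span_singleton_eq_top.mpr h)
  have hnf : ¬ IsField (AdjoinRoot f) := by
    intro h
    obtain ⟨y, hy⟩ := h.mul_inv_cancel hx0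
    exact hxnu (isUnit_iff_exists_inv.mpr ⟨y, hy⟩)
  haveI hdvr : IsDiscreteValuationRing (AdjoinRoot f) := by
    refine ((IsDiscreteValuationRing.TFAE (AdjoinRoot f) hnf).out 4 0).mp ?_
    rw [hmB]
    exact ⟨⟨x, rfl⟩⟩
  refine ⟨hirr, hdom, hdvr, inferInstance, ?_, ?_⟩
  · rw [hmA, Ideal.map_span, Set.image_singleton, ← hxn,
      show IsLocalRing.maximalIdeal (AdjoinRoot f) = Ideal.span {x} from hmB,
      Ideal.span_singleton_pow]
  · intro K₁ _ _ _
    have hιinj : Function.Injective (algebraMap (AdjoinRoot f) K₁) :=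
      IsFractionRing.injective (AdjoinRoot f) K₁
    obtain ⟨ι, hι⟩ : ∃ ι : AdjoinRoot f →+* K₁, ι = algebraMap (AdjoinRoot f) K₁ := ⟨_, rfl⟩
    rw [← hι]
    rw [← hι] at hιinj
    obtain ⟨g, hg⟩ : ∃ g : A →+* K₁, g = ι.comp (algebraMap A (AdjoinRoot f)) := ⟨_, rfl⟩
    rw [← hg]
    have hga : ∀ a : A, g a = ι (algebraMap A (AdjoinRoot f) a) := fun a => by rw [hg]; rfl
    let V₀ : ValuationSubring K₁ :=
      { ι.range with
        mem_or_inv_mem' := by
          intro y
          rcases ValuationRing.isInteger_or_isInteger (AdjoinRoot f) y with ⟨b, hb⟩ | ⟨b, hb⟩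
          · exact Or.inl ⟨b, by rw [hι]; exact hb⟩
          · exact Or.inr ⟨b, by rw [hι]; exact hb⟩ }
    have hV₀mem : ∀ y : K₁, y ∈ V₀ ↔ ∃ b, ι b = y := fun y => Iff.rfl
    -- nonunits of B map to elements of valuation < 1 in any V containing ι(B) with v(ι x) < 1
    have hb : ∀ V : ValuationSubring K₁, EtRam.Dominates A g V → V.valuation (ι x) < 1 := by
      intro V hV
      have h1 : V.valuation (g π) < 1 :=
        hV.2 π (by rw [hmA]; exact Ideal.mem_span_singleton_self π)
      have h2 : g π = (ι x) ^ n := by rw [hga, ← hxn, map_pow]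
      rw [h2, map_pow] at h1
      by_contra hcon
      rw [not_lt] at hcon
      exact absurd h1 (not_lt.mpr (one_le_pow₀ hcon))
    have hc : ∀ V : ValuationSubring K₁, EtRam.Dominates A g V → ∀ b : AdjoinRoot f, ι b ∈ V := by
      intro V hV b
      have hxV : ι x ∈ V := (V.valuation_le_one_iff _).mp (hb V hV).le
      obtain ⟨q, rfl⟩ := AdjoinRoot.mk_surjective (g := f) b
      induction q using Polynomial.induction_on with
      | C a => rw [hmkC, ← hga]; exact hV.1 a
      | add p q hp hq => rw [map_add, map_add]; exact V.add_mem _ _ hp hq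
      | monomial k a ih =>
        rw [pow_succ, ← mul_assoc, map_mul, map_mul, hmkX]
        exact V.mul_mem _ _ ih hxV
    have hdomV₀ : EtRam.Dominates A g V₀ := by
      refine ⟨fun a => (hV₀mem _).mpr ⟨algebraMap A _ a, (hga a).symm⟩, ?_⟩
      intro a ha
      have hmem : g a ∈ V₀ := (hV₀mem _).mpr ⟨algebraMap A _ a, (hga a).symm⟩
      refine (V₀.valuation_lt_one_iff ⟨g a, hmem⟩).mp ?_
      rw [IsLocalRing.mem_maximalIdeal, mem_nonunits_iff]
      intro hu
      obtain ⟨z, hz⟩ := isUnit_iff_exists_inv.mp hu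
      obtain ⟨d, hd⟩ := (hV₀mem _).mp z.2
      have h1 : g a * (z : K₁) = 1 := by
        have := congrArg (fun w : V₀ => (w : K₁)) hz
        simpa using this
      rw [hga, ← hd, ← map_mul, ← map_one ι] at h1
      have h2 := hιinj h1
      have h3 : algebraMap A (AdjoinRoot f) a ∈ Q := by
        have h4 : a ∈ Q.comap (algebraMap A (AdjoinRoot f)) := by rw [hQ]; exact ha
        exact h4
      rw [hQeq, ← hmB, IsLocalRing.mem_maximalIdeal, mem_nonunits_iff] at h3
      exact h3 (isUnit_iff_exists_inv.mpr ⟨d, h2⟩)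
    have huniq : ∀ V : ValuationSubring K₁, EtRam.Dominates A g V → V = V₀ := by
      intro V hV
      apply ValuationSubring.ext
      intro y
      constructor
      · intro hyV
        by_cases hy0 : y = 0
        · rw [hy0]; exact V₀.zero_mem
        rcases V₀.mem_or_inv_mem y with h | h
        · exact h
        · obtain ⟨b, hb'⟩ := (hV₀mem _).mp h
          by_cases hbu : IsUnit b
          · obtain ⟨b2, hb2⟩ := isUnit_iff_exists_inv.mp hbu
            refine (hV₀mem _).mpr ⟨b2, ?_⟩
            have h1 : ι b * ι b2 = 1 := by rw [← map_mul, hb2, map_one]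
            rw [hb'] at h1
            field_simp at h1
            exact h1
          · exfalso
            have hbm : b ∈ IsLocalRing.maximalIdeal (AdjoinRoot f) := by
              rw [IsLocalRing.mem_maximalIdeal, mem_nonunits_iff]; exact hbu
            rw [hmB, Ideal.mem_span_singleton] at hbm
            obtain ⟨c, rfl⟩ := hbm
            have h1 : V.valuation (y⁻¹) < 1 := by
              rw [← hb', map_mul, map_mul]
              calc V.valuation (ι x) * V.valuation (ι c) ≤ V.valuation (ι x) * 1 :=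
                    mul_le_mul_right ((V.valuation_le_one_iff _).mpr (hc V hV c)) _
                _ = V.valuation (ι x) := mul_one _
                _ < 1 := hb V hV
            have h2 : V.valuation y ≤ 1 := (V.valuation_le_one_iff _).mpr hyV
            have h3 : V.valuation y * V.valuation y⁻¹ = 1 := by
              rw [← map_mul, mul_inv_cancel₀ hy0, map_one]
            have h4 : V.valuation y * V.valuation y⁻¹ < 1 :=
              calc V.valuation y * V.valuation y⁻¹ ≤ 1 * V.valuation y⁻¹ :=
                    mul_le_mul_left h2 _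
                _ = V.valuation y⁻¹ := one_mul _
                _ < 1 := h1
            rw [h3] at h4
            exact lt_irrefl _ h4
      · intro hyV₀
        obtain ⟨b, rfl⟩ := (hV₀mem _).mp hyV₀
        exact hc V hV b
    unfold EtRam.IsTotallyRamified
    refine ⟨⟨V₀, hdomV₀⟩, ?_, ?_⟩
    · intro V V' hV hV'
      rw [huniq V hV, huniq V' hV']
    · intro V hV
      have hVeq := huniq V hV
      subst hVeq
      intro r
      obtain ⟨y, rfl⟩ := IsLocalRing.residue_surjective r
      obtain ⟨b, hb'⟩ := (hV₀mem _).mp y.2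
      obtain ⟨a, b', rfl⟩ := hdecomp b
      refine ⟨a, ?_⟩
      show IsLocalRing.residue V₀ (RingHom.codRestrict g V₀ hV.1 a) = IsLocalRing.residue V₀ y
      rw [← sub_eq_zero, ← map_sub, IsLocalRing.residue_eq_zero_iff, V₀.valuation_lt_one_iff]
      have h1 : ((RingHom.codRestrict g V₀ hV.1 a - y : V₀) : K₁) = - (ι x * ι b') := by
        have h2 : ((RingHom.codRestrict g V₀ hV.1 a - y : V₀) : K₁) = g a - (y : K₁) := rfl
        rw [h2, ← hb', map_add, map_mul, hga]
        ring
      rw [h1, Valuation.map_neg, map_mul]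
      calc V₀.valuation (ι x) * V₀.valuation (ι b') ≤ V₀.valuation (ι x) * 1 :=
            mul_le_mul_right ((V₀.valuation_le_one_iff _).mpr (hc V₀ hV b')) _
        _ = V₀.valuation (ι x) := mul_one _
        _ < 1 := hb V₀ hV

/-- Let A be a discrete valuation ring with uniformizer π and n ≥ 2, and let A' = A[x]/(x^n - π). Then
x^n - π is irreducible over A, A' is an integrally closed discrete valuation ring (so it is the
integral closure of A in its fraction field K₁ = K(π^{1/n}), of degree n over K), the maximal ideal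
of A generates the n-th power of the maximal ideal of A' (ramification index n), and K₁ is totally
ramified with respect to A. -/
theorem result (A : Type u) [CommRing A] [IsDomain A] [IsDiscreteValuationRing A] (π : A)
    (hπ : Irreducible π) (n : ℕ) (hn : 2 ≤ n) :
    Irreducible (X ^ n - C π : A[X]) ∧
    ∃ (_ : IsDomain (AdjoinRoot (X ^ n - C π : A[X]))) (_ : IsDiscreteValuationRing (AdjoinRoot (X ^ n - C π : A[X]))),
      IsIntegrallyClosed (AdjoinRoot (X ^ n - C π : A[X])) ∧
      (IsLocalRing.maximalIdeal A).map (algebraMap A (AdjoinRoot (X ^ n - C π : A[X]))) = IsLocalRing.maximalIdeal (AdjoinRoot (X ^ n - C π : A[X])) ^ n ∧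
      ∀ (K₁ : Type u) [Field K₁] [Algebra (AdjoinRoot (X ^ n - C π : A[X])) K₁] [IsFractionRing (AdjoinRoot (X ^ n - C π : A[X])) K₁],
        EtRam.IsTotallyRamified A ((algebraMap (AdjoinRoot (X ^ n - C π : A[X])) K₁).comp (algebraMap A (AdjoinRoot (X ^ n - C π : A[X])))) := by
  exact aux A π hπ n hn _ rfl

end Groth.Agent.S1987
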