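import Groth.Statements.S19890
import Groth.Agent.S17722

set_option autoImplicit false
universe u
open CAlg

namespace Groth.Agent.S19890

/-- Let R → R' be a faithfully flat ring map between Noetherian integrally closed local domains. Then
unique factorization descends along this map: when R' is a UFD, so is R. (The first assertion of the
lemma, descent of principality for an ideal whose extension to R' is principal, is a separate
statement.) -/
theorem result
    (R R' : Type u) [CommRing R] [CommRing R'] [IsDomain R] [IsDomain R']
    [IsNoetherianRing R] [IsNoetherianRing R'] [IsLocalRing R] [IsLocalRing R']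
    [IsIntegrallyClosed R] [IsIntegrallyClosed R']
    [Algebra R R'] [Module.FaithfullyFlat R R'] [UniqueFactorizationMonoid R'] :
    UniqueFactorizationMonoid R := by
  classical
  haveI : IsGCDMonoid R := by
    rw [isGCDMonoid_iff_exists_lcm]
    refine ⟨inferInstance, fun a b => ?_⟩
    obtain ⟨p, hp⟩ : ∃ p : Ideal R, p = Ideal.span {a} ⊓ Ideal.span {b} := ⟨_, rfl⟩
    have hmem : ∀ d, d ∈ p ↔ a ∣ d ∧ b ∣ d := by
      intro d
      rw [hp, Ideal.mem_inf, Ideal.mem_span_singleton, Ideal.mem_span_singleton]
    have hprin : (p.map (algebraMap R R')).IsPrincipal := by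
      letI : GCDMonoid R' := UniqueFactorizationMonoid.toGCDMonoid R'
      refine ⟨⟨lcm (algebraMap R R' a) (algebraMap R R' b), ?_⟩⟩
      apply le_antisymm
      · rw [Ideal.map_le_iff_le_comap]
        intro d hd
        rw [Ideal.mem_comap, Ideal.submodule_span_eq, Ideal.mem_span_singleton]
        obtain ⟨h1, h2⟩ := (hmem d).mp hd
        exact lcm_dvd (map_dvd _ h1) (map_dvd _ h2)
      · rw [Ideal.submodule_span_eq, Ideal.span_singleton_le_iff_mem]
        obtain ⟨u, hu⟩ := dvd_lcm_left (algebraMap R R' a) (algebraMap R R' b)
        obtain ⟨v, hv⟩ := dvd_lcm_right (algebraMap R R' a) (algebraMap R R' b)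
        have hrel : ∑ i : Fin 2, (![a, -b] i) • (![u, v] i) = 0 := by
          simp only [Fin.sum_univ_two, Matrix.cons_val_zero, Matrix.cons_val_one, Algebra.smul_def,
            map_neg]
          rw [← hu, neg_mul, ← hv, add_neg_cancel]
        obtain ⟨k, A, y, hxy, hA⟩ := Module.Flat.isTrivialRelation_of_sum_smul_eq_zero
          (R := R) (M := R') (f := ![a, -b]) (x := ![u, v]) hrel
        have h0 : u = ∑ j, A 0 j • y j := by simpa using hxy 0
        rw [hu, h0, Finset.mul_sum]
        refine Ideal.sum_mem _ fun j _ => ?_
        have e : algebraMap R R' a * (A 0 j • y j) = algebraMap R R' (a * A 0 j) * y j := by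
          rw [Algebra.smul_def, map_mul]; ring
        rw [e]
        apply Ideal.mul_mem_right
        apply Ideal.mem_map_of_mem
        rw [hmem]
        refine ⟨dvd_mul_right _ _, ?_⟩
        have hj := hA j
        simp only [Fin.sum_univ_two, Matrix.cons_val_zero, Matrix.cons_val_one] at hj
        exact ⟨A 1 j, by linear_combination hj⟩
    have hpp := Groth.Agent.S17722.result R R' p hprin
    obtain ⟨c, hc⟩ := hpp.principal
    refine ⟨c, fun d => ?_⟩
    rw [← hmem, hc, Ideal.submodule_span_eq, Ideal.mem_span_singleton]
  infer_instance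

end Groth.Agent.S19890
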