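import Groth.Statements.S19903
import Groth.Agent.H28.InertiaSep

set_option autoImplicit false
universe u
open CategoryTheory AlgebraicGeometry
open AlgSt

namespace Groth.Agent.S19903

/-- For a morphism f : 𝒳 → 𝒴 of algebraic stacks, if the relative inertia 𝓘_{𝒳/𝒴} → 𝒳 is locally
separated then the neutral section e : 𝒳 → 𝓘_{𝒳/𝒴} (the second diagonal of f) is an immersion, and
likewise if the diagonal of f is locally separated. The inertia and the diagonal are representable
by algebraic spaces and local separatedness is the property of such morphisms. (The published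
statement asserts the equivalence of the three conditions: inertia locally separated, diagonal
locally separated, neutral section an immersion; only the two implications towards the last
condition are stated here.) -/
theorem result
    (S : Scheme.{u}) (𝒳 : AlgSt.Cat S) (𝒴 : AlgSt.Cat S)
    (h𝒳 : AlgSt.IsAlgStack Scheme.fppfPrecoverage 𝒳)
    (h𝒴 : AlgSt.IsAlgStack Scheme.fppfPrecoverage 𝒴)
    (f : 𝒳 ⥤ᵇ 𝒴) :
    (AlgSt.RepByAlgSpWith AlgSp.IsLocallySeparatedMor (FibCat.inertiaToBase f) →
        AlgSt.IsImm (FibCat.inertiaNeutral f)) ∧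
      (AlgSt.RepByAlgSpWith AlgSp.IsLocallySeparatedMor (FibCat.diag f) →
        AlgSt.IsImm (FibCat.inertiaNeutral f)) := by
  open Groth.Agent.H28.RepComp in
  refine ⟨fun h => ?_, fun h => ?_⟩
  · refine repByAlgSpWith_inertiaNeutral_of_diag f _ ?_
    refine repByAlgSpWith_diag_of_diagonal (goodP_repWith @IsImmersion) _ (fun U y => ?_)
    obtain ⟨F, e, he, hs⟩ := h U y
    exact ⟨F, e, he, hs⟩
  · refine (repByAlgSpWith_inertiaNeutral_iff f _).2 ?_
    refine repByAlgSpWith_diag_of_diagonal (goodP_repWith @IsImmersion) _ (fun U y => ?_)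
    obtain ⟨F, e, he, hs⟩ := h U y
    exact ⟨F, e, he, hs⟩

end Groth.Agent.S19903
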