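import Mathlib
import Groth.Agent.H11.PairCRT
import Groth.Agent.H11.PairProps
import Groth.Statements.S1995

set_option autoImplicit false
universe u
open EtAlg

namespace Groth.Agent.S1995

/-- Let I_1, …, I_n be pairwise comaximal ideals of a ring A, B a henselization of the pair (A, I_1 ∩ …
∩ I_n) and B_i a henselization of (A, I_i) for each i. Then B is isomorphic as an A-algebra to the
product of the B_i (any such isomorphism is the natural comparison map, by the universal property). -/
theorem result (A : Type u) [CommRing A] {n : ℕ} (I : Fin n → Ideal A)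
    (hI : Pairwise fun i j => I i ⊔ I j = ⊤) (B : Type u) [CommRing B] [Algebra A B]
    (hB : Hens2.IsPairHenselization A (⨅ i, I i) B) (Bi : Fin n → Type u) [∀ i, CommRing (Bi i)] [∀ i, Algebra A (Bi i)]
    (hBi : ∀ i, Hens2.IsPairHenselization A (I i) (Bi i)) :
    Nonempty (B ≃ₐ[A] ∀ i, Bi i) := by
  classical
  obtain ⟨a, e, ha1, ha0, he, hea, horth, hsum⟩ := Groth.Agent.H11.PH.exists_idempotents I hI hB
  have hcorner : ∀ i, Hens2.IsPairHenselization A (I i) (B ⧸ Ideal.span {1 - e i}) := fun i =>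
    Groth.Agent.H11.PH.isPairHenselization_corner I hB i (a i) (e i) (ha1 i)
      (fun j hj => ha0 i j hj) (he i) (hea i)
  have hbij := Groth.Agent.H11.PH.bijective_pi_corner e he horth hsum
  have hequiv : ∀ i, Nonempty ((B ⧸ Ideal.span {1 - e i}) ≃ₐ[A] Bi i) := fun i => by
    obtain ⟨e1⟩ := Groth.Agent.H11.PH.nonempty_algEquiv_pHens _ (hcorner i)
    obtain ⟨e2⟩ := Groth.Agent.H11.PH.nonempty_algEquiv_pHens _ (hBi i)
    exact ⟨e1.trans e2.symm⟩
  let Φ : B →ₐ[A] ∀ i, B ⧸ Ideal.span {1 - e i} :=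
    AlgHom.pi (fun i => Ideal.Quotient.mkₐ A (Ideal.span {1 - e i}))
  have hΦ : Function.Bijective Φ := hbij
  exact ⟨(AlgEquiv.ofBijective Φ hΦ).trans (AlgEquiv.piCongrRight (fun i => (hequiv i).some))⟩

end Groth.Agent.S1995
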