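import Groth.Statements.S1996
import Mathlib
-- import your own Groth.Agent.* helpers here

set_option autoImplicit false
universe u
open EtAlg

namespace Groth.Agent.S1996


open TensorProduct in
theorem flat_of_comp_faithfullyFlat {R S T : Type u} [CommRing R] [CommRing S] [CommRing T]
    [Algebra R S] [Algebra S T] [Algebra R T] [IsScalarTower R S T]
    [Module.FaithfullyFlat S T] [Module.Flat R T] : Module.Flat R S := by
  rw [Module.Flat.iff_lTensor_preserves_injective_linearMap]
  intro N P _ _ _ _ f hf
  have h1 : Function.Injective (LinearMap.lTensor T f) :=
    Module.Flat.lTensor_preserves_injective_linearMap f hf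
  have key : ∀ z : T ⊗[S] (S ⊗[R] N),
      TensorProduct.AlgebraTensorModule.cancelBaseChange R S T T P
        (LinearMap.lTensor T (f.baseChange S) z) =
      LinearMap.lTensor T f (TensorProduct.AlgebraTensorModule.cancelBaseChange R S T T N z) := by
    intro z
    induction z using TensorProduct.induction_on with
    | zero => simp
    | tmul t y =>
      induction y using TensorProduct.induction_on with
      | zero => simp
      | tmul s n => simp
      | add a b ha hb => simp only [TensorProduct.tmul_add, map_add, ha, hb]
    | add a b ha hb => simp only [map_add, ha, hb]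
  have h2 : Function.Injective (LinearMap.lTensor T (f.baseChange S)) := by
    rw [injective_iff_map_eq_zero]
    intro z hz
    have := key z
    rw [hz, map_zero] at this
    have h3 := h1 (this.symm.trans (map_zero _).symm)
    exact (TensorProduct.AlgebraTensorModule.cancelBaseChange R S T T N).injective
      (h3.trans (map_zero _).symm)
  have h4 := (Module.FaithfullyFlat.lTensor_injective_iff_injective S T (f.baseChange S)).mp h2
  intro x y hxy
  exact h4 hxy

/-- Let A -> B -> C be ring maps with B -> C faithfully flat. Weak etaleness of A -> C then implies weak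
etaleness of A -> B. -/
theorem result (A B C : Type u) [CommRing A] [CommRing B] [CommRing C] [Algebra A B]
    [Algebra B C] [Algebra A C] [IsScalarTower A B C] [Module.FaithfullyFlat B C] [Algebra.WeaklyEtale A C] :
    Algebra.WeaklyEtale A B := by
  haveI hAB : Module.Flat A B := flat_of_comp_faithfullyFlat (R := A) (S := B) (T := C)
  refine ⟨hAB, ?_⟩
  let mB := Algebra.TensorProduct.lmul' A (S := B)
  let mC := Algebra.TensorProduct.lmul' A (S := C)
  let ι : B →ₐ[A] C := IsScalarTower.toAlgHom A B C
  have hι : ι.toRingHom.Flat := by
    show (algebraMap B C).Flat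
    rw [RingHom.flat_algebraMap_iff]
    infer_instance
  have hcomp : ι.comp mB = mC.comp (Algebra.TensorProduct.map ι ι) := by
    ext <;> simp [mB, mC, ι]
  have hflat : ((algebraMap B C).comp mB.toRingHom).Flat := by
    have e : (algebraMap B C).comp mB.toRingHom = (ι.comp mB).toRingHom := rfl
    rw [e, hcomp]
    exact RingHom.Flat.comp (RingHom.Flat.tensorProductMap hι hι)
      (Algebra.WeaklyEtale.flat_lmul' A C)
  letI algBB_B : Algebra (TensorProduct A B B) B := mB.toRingHom.toAlgebra
  letI algBB_C : Algebra (TensorProduct A B B) C := ((algebraMap B C).comp mB.toRingHom).toAlgebra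
  haveI : IsScalarTower (TensorProduct A B B) B C := IsScalarTower.of_algebraMap_eq (fun x => rfl)
  haveI : Module.Flat (TensorProduct A B B) C := hflat
  exact flat_of_comp_faithfullyFlat (R := TensorProduct A B B) (S := B) (T := C)

end Groth.Agent.S1996
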