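import Mathlib
import Groth.Statements.S19964
import Groth.Agent.Lib.Helper9.NeronProd
import Groth.Agent.S13044
import Groth.Agent.S2516
import Groth.Agent.S19202
-- import your own Groth.Agent.* helpers here

set_option autoImplicit false
universe u
open CategoryTheory MonoidalCategory CartesianMonoidalCategory MonObj GrpObj AlgebraicGeometry CategoryTheory.Limits
open Neron

namespace Groth.Agent.S19964


open CategoryTheory.MonoidalCategory CategoryTheory.CartesianMonoidalCategory CategoryTheory.GrpObj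
open Groth.Agent.Helper9.NeronProd (pb_map_fst)
open Groth.Agent.S13044 (lift_of_std)

section Cat
universe v' u'
variable {C : Type u'} [Category.{v'} C] [CartesianMonoidalCategory C]

@[reducible] noncomputable def grpOfMono {H G : C} [GrpObj G]
    (j : H ⟶ G) [Mono j] (e : 𝟙_ C ⟶ H) (he : e ≫ j = η[G]) (m : H ⊗ H ⟶ H)
    (hm : m ≫ j = (j ⊗ₘ j) ≫ μ[G]) (inv : H ⟶ H) (hinv : inv ≫ j = j ≫ ι[G]) : GrpObj H where
  one := e
  mul := m
  one_mul := by
    rw [← cancel_mono j, Category.assoc, hm, ← Category.assoc, ← tensorHom_id,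
      tensorHom_comp_tensorHom, he, Category.id_comp]
    have : (η[G] ⊗ₘ j) = (𝟙_ C ◁ j) ≫ (η[G] ▷ G) := by
      rw [← id_tensorHom, ← tensorHom_id, tensorHom_comp_tensorHom, Category.id_comp,
        Category.comp_id]
    rw [this, Category.assoc, MonObj.one_mul, leftUnitor_naturality]
  mul_one := by
    rw [← cancel_mono j, Category.assoc, hm, ← Category.assoc, ← id_tensorHom,
      tensorHom_comp_tensorHom, he, Category.id_comp]
    have : (j ⊗ₘ η[G]) = (j ▷ 𝟙_ C) ≫ (G ◁ η[G]) := by
      rw [← id_tensorHom, ← tensorHom_id, tensorHom_comp_tensorHom, Category.id_comp,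
        Category.comp_id]
    rw [this, Category.assoc, MonObj.mul_one, rightUnitor_naturality]
  mul_assoc := by
    rw [← cancel_mono j]
    simp only [Category.assoc, hm]
    have h1 : (m ▷ H) ≫ (j ⊗ₘ j) = ((j ⊗ₘ j) ⊗ₘ j) ≫ (μ[G] ▷ G) := by
      rw [← tensorHom_id, ← tensorHom_id, tensorHom_comp_tensorHom, tensorHom_comp_tensorHom, hm,
        Category.id_comp, Category.comp_id]
    have h2 : (H ◁ m) ≫ (j ⊗ₘ j) = (j ⊗ₘ (j ⊗ₘ j)) ≫ (G ◁ μ[G]) := by
      rw [← id_tensorHom, ← id_tensorHom, tensorHom_comp_tensorHom, tensorHom_comp_tensorHom, hm,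
        Category.id_comp, Category.comp_id]
    rw [← Category.assoc, h1, Category.assoc, MonObj.mul_assoc, ← Category.assoc (H ◁ m), h2,
      Category.assoc, ← Category.assoc (α_ H H H).hom, ← associator_naturality, Category.assoc]
  inv := inv
  left_inv := by
    rw [← cancel_mono j, Category.assoc, hm, ← Category.assoc, lift_map, hinv, Category.id_comp,
      Category.assoc, he]
    have : lift (j ≫ ι[G]) j = j ≫ lift ι[G] (𝟙 G) := by
      rw [comp_lift, Category.comp_id]
    rw [this, Category.assoc, GrpObj.left_inv, ← Category.assoc]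
    congr 1
    exact toUnit_unique _ _
  right_inv := by
    rw [← cancel_mono j, Category.assoc, hm, ← Category.assoc, lift_map, hinv, Category.id_comp,
      Category.assoc, he]
    have : lift j (j ≫ ι[G]) = j ≫ lift (𝟙 G) ι[G] := by
      rw [comp_lift, Category.comp_id]
    rw [this, Category.assoc, GrpObj.right_inv, ← Category.assoc]
    congr 1
    exact toUnit_unique _ _

end Cat

section Geo
variable {S S' : Scheme.{u}} (ψ : S' ⟶ S) [Flat ψ] [QuasiCompact ψ]
  [IsSchemeTheoreticallyDominant ψ] [Mono ψ]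

theorem factor {G H : Over S} (j : H ⟶ G) [IsClosedImmersion j.left] (A : Over S) [Flat A.hom]
    (g : A ⟶ G) (c : pullback A.hom ψ ⟶ H.left)
    (hc : c ≫ j.left = pullback.fst A.hom ψ ≫ g.left) :
    ∃ g' : A ⟶ H, g' ≫ j = g := by
  haveI : IsSchemeTheoreticallyDominant (pullback.fst A.hom ψ) := inferInstance
  obtain ⟨δ, hδ⟩ := lift_of_std (pullback.fst A.hom ψ) g.left j.left c hc
  refine ⟨Over.homMk δ ?_, ?_⟩
  · rw [← Over.w j, ← Category.assoc, hδ, Over.w]
  · apply Over.OverMorphism.ext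
    exact hδ

theorem main (G : Over S) [GrpObj G] (HK : Over S') [GrpObj HK] [Flat HK.hom]
    (i : HK ⟶ Red.bc ψ G) [IsMonHom i] [IsClosedImmersion i.left]
    (hfl : Flat ((i.left ≫ pullback.fst G.hom ψ).imageι ≫ G.hom)) :
    ∃ (H : Over S) (_ : GrpObj H) (j : H ⟶ G) (φ : HK.left ⟶ H.left),
      IsMonHom j ∧ IsClosedImmersion j.left ∧ Flat H.hom ∧
      IsPullback φ HK.hom H.hom ψ ∧ φ ≫ j.left = i.left ≫ pullback.fst G.hom ψ ∧ φ.ker = ⊥ := by
  obtain ⟨a, ha⟩ : ∃ a, a = i.left ≫ pullback.fst G.hom ψ := ⟨_, rfl⟩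
  rw [← ha] at hfl ⊢
  haveI : QuasiCompact a := by rw [ha]; infer_instance
  obtain ⟨H, j, φ, hjci, hφj, hφker, hHfl⟩ : ∃ (H : Over S) (j : H ⟶ G) (φ : HK.left ⟶ H.left),
      IsClosedImmersion j.left ∧ φ ≫ j.left = a ∧ φ.ker = ⊥ ∧ Flat H.hom :=
    ⟨Over.mk (a.imageι ≫ G.hom), Over.homMk a.imageι rfl, a.toImage,
      (inferInstance : IsClosedImmersion a.imageι), a.toImage_imageι,
      Groth.Agent.S2516.ker_toImage_eq_bot a, hfl⟩
  haveI := hjci
  haveI := hHfl
  haveI : IsSchemeTheoreticallyDominant φ := ⟨hφker⟩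
  haveI : QuasiCompact φ := by
    haveI : QuasiCompact (φ ≫ j.left) := by rw [hφj]; infer_instance
    exact QuasiCompact.of_comp φ j.left
  haveI : Mono j := Over.mono_of_mono_left j
  have hiw : i.left ≫ pullback.snd G.hom ψ = HK.hom := Over.w i
  have hw : φ ≫ H.hom = HK.hom ≫ ψ := by
    rw [← Over.w j, ← Category.assoc, hφj, ha, Category.assoc, pullback.condition,
      ← Category.assoc, hiw]
  -- (1) the generic fibre of H is HK
  have hpb : IsPullback φ HK.hom H.hom ψ := by
    obtain ⟨ψ', hψ'⟩ : ∃ ψ', ψ' = pullback.lift φ HK.hom hw := ⟨_, rfl⟩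
    have hψ'1 : ψ' ≫ pullback.fst H.hom ψ = φ := by rw [hψ']; exact pullback.lift_fst _ _ _
    have hψ'2 : ψ' ≫ pullback.snd H.hom ψ = HK.hom := by rw [hψ']; exact pullback.lift_snd _ _ _
    obtain ⟨jK, hjK⟩ : ∃ jK : pullback H.hom ψ ⟶ pullback G.hom ψ,
        jK = pullback.lift (pullback.fst H.hom ψ ≫ j.left) (pullback.snd H.hom ψ)
          (by rw [Category.assoc, Over.w, pullback.condition]) := ⟨_, rfl⟩
    have hjK1 : jK ≫ pullback.fst G.hom ψ = pullback.fst H.hom ψ ≫ j.left := by
      rw [hjK]; exact pullback.lift_fst _ _ _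
    have hjK2 : jK ≫ pullback.snd G.hom ψ = pullback.snd H.hom ψ := by
      rw [hjK]; exact pullback.lift_snd _ _ _
    haveI : Mono jK := by
      constructor
      intro W u v huv
      apply pullback.hom_ext
      · rw [← cancel_mono j.left, Category.assoc, Category.assoc, ← hjK1, ← Category.assoc,
          ← Category.assoc, huv]
      · rw [← hjK2, ← Category.assoc, ← Category.assoc, huv]
    have hcomp : ψ' ≫ jK = i.left := by
      apply pullback.hom_ext
      · rw [Category.assoc, hjK1, ← Category.assoc, hψ'1, hφj, ha]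
      · rw [Category.assoc, hjK2, hψ'2, hiw]
    haveI : IsClosedImmersion ψ' := by
      haveI : IsClosedImmersion (ψ' ≫ jK) := by rw [hcomp]; infer_instance
      exact IsClosedImmersion.of_comp ψ' jK
    haveI : Flat (pullback.fst H.hom ψ) := inferInstance
    haveI : IsSchemeTheoreticallyDominant (pullback.snd φ (pullback.fst H.hom ψ)) := inferInstance
    have heq : pullback.snd φ (pullback.fst H.hom ψ) =
        pullback.fst φ (pullback.fst H.hom ψ) ≫ ψ' := by
      apply pullback.hom_ext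
      · rw [Category.assoc, hψ'1, pullback.condition]
      · have e1 : pullback.snd φ (pullback.fst H.hom ψ) ≫ pullback.snd H.hom ψ ≫ ψ =
            pullback.snd φ (pullback.fst H.hom ψ) ≫ pullback.fst H.hom ψ ≫ H.hom := by
          rw [pullback.condition]
        have e2 : pullback.fst φ (pullback.fst H.hom ψ) ≫ HK.hom ≫ ψ =
            pullback.snd φ (pullback.fst H.hom ψ) ≫ pullback.fst H.hom ψ ≫ H.hom := by
          rw [← hw, ← Category.assoc, pullback.condition, Category.assoc]
        have e3 : ψ' ≫ pullback.snd H.hom ψ ≫ ψ = HK.hom ≫ ψ := by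
          rw [← Category.assoc, hψ'2]
        rw [← cancel_mono ψ]
        simp only [Category.assoc]
        rw [e3, e1, e2]
    haveI : IsIso ψ' := by
      rw [IsClosedImmersion.isIso_iff_ker_eq_bot, ← le_bot_iff]
      calc ψ'.ker ≤ (pullback.fst φ (pullback.fst H.hom ψ) ≫ ψ').ker :=
            Scheme.Hom.le_ker_comp _ _
        _ = (pullback.snd φ (pullback.fst H.hom ψ)).ker := by rw [heq]
        _ = ⊥ := Scheme.Hom.ker_eq_bot _
    exact IsPullback.of_iso_pullback ⟨hw⟩ (asIso ψ') hψ'1 hψ'2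
  -- (3a) unit
  have h3a : ∃ e : 𝟙_ (Over S) ⟶ H, e ≫ j = η[G] := by
    haveI : Flat (𝟙_ (Over S)).hom := by show Flat (𝟙 S); infer_instance
    apply factor ψ j (𝟙_ (Over S)) η[G]
      (pullback.snd (𝟙_ (Over S)).hom ψ ≫ (η[HK]).left ≫ φ)
    have h1 : (η[HK]).left ≫ i.left = (η[Red.bc ψ G]).left := by
      rw [← Over.comp_left, IsMonHom.one_hom]
    have h2 : η[Red.bc ψ G] =
        Functor.LaxMonoidal.ε (Over.pullback ψ) ≫ (Over.pullback ψ).map η[G] := rfl
    have h3 : pullback.snd (𝟙_ (Over S)).hom ψ ≫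
        (Functor.LaxMonoidal.ε (Over.pullback ψ)).left = 𝟙 _ := by
      rw [Over.ε_pullback_left]; exact IsIso.hom_inv_id (pullback.snd (𝟙 S) ψ)
    simp only [Category.assoc]
    rw [hφj, ha, ← Category.assoc (η[HK]).left, h1, h2, Over.comp_left, Category.assoc,
      pb_map_fst, ← Category.assoc, ← Category.assoc, h3, Category.id_comp]
  -- (3b) inverse
  have h3b : ∃ inv : H ⟶ H, inv ≫ j = j ≫ ι[G] := by
    apply factor ψ j H (j ≫ ι[G])
      (hpb.lift (pullback.fst H.hom ψ) (pullback.snd H.hom ψ) pullback.condition ≫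
        (ι[HK]).left ≫ φ)
    have h1 : (ι[HK]).left ≫ i.left = i.left ≫ (ι[Red.bc ψ G]).left := by
      rw [← Over.comp_left, ← Over.comp_left, GrpObj.inv_hom]
    have h2 : ι[Red.bc ψ G] = (Over.pullback ψ).map ι[G] := rfl
    simp only [Category.assoc]
    rw [hφj, ha, ← Category.assoc (ι[HK]).left, h1, h2, Category.assoc, pb_map_fst,
      ← Category.assoc i.left, ← ha, ← hφj, Category.assoc, ← Category.assoc _ φ,
      hpb.lift_fst, Over.comp_left]
  -- (3c) multiplication
  have h3c : ∃ m : H ⊗ H ⟶ H, m ≫ j = (j ⊗ₘ j) ≫ μ[G] := by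
    haveI : Flat (H ⊗ H).hom := by
      show Flat (pullback.fst H.hom H.hom ≫ H.hom); infer_instance
    obtain ⟨P, hP⟩ : ∃ P, P = pullback.fst (H ⊗ H).hom ψ := ⟨_, rfl⟩
    have hc1 : (P ≫ (fst H H).left) ≫ H.hom = pullback.snd (H ⊗ H).hom ψ ≫ ψ := by
      rw [Category.assoc, Over.w, hP, pullback.condition]
    have hc2 : (P ≫ (snd H H).left) ≫ H.hom = pullback.snd (H ⊗ H).hom ψ ≫ ψ := by
      rw [Category.assoc, Over.w, hP, pullback.condition]
    obtain ⟨w₁, hw₁a, hw₁b⟩ : ∃ w₁ : pullback (H ⊗ H).hom ψ ⟶ HK.left,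
        w₁ ≫ φ = P ≫ (fst H H).left ∧ w₁ ≫ HK.hom = pullback.snd (H ⊗ H).hom ψ :=
      ⟨hpb.lift _ _ hc1, hpb.lift_fst _ _ _, hpb.lift_snd _ _ _⟩
    obtain ⟨w₂, hw₂a, hw₂b⟩ : ∃ w₂ : pullback (H ⊗ H).hom ψ ⟶ HK.left,
        w₂ ≫ φ = P ≫ (snd H H).left ∧ w₂ ≫ HK.hom = pullback.snd (H ⊗ H).hom ψ :=
      ⟨hpb.lift _ _ hc2, hpb.lift_fst _ _ _, hpb.lift_snd _ _ _⟩
    obtain ⟨w, hwa, hwb⟩ : ∃ w : pullback (H ⊗ H).hom ψ ⟶ (HK ⊗ HK).left,
        w ≫ (fst HK HK).left = w₁ ∧ w ≫ (snd HK HK).left = w₂ :=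
      ⟨pullback.lift w₁ w₂ (by rw [hw₁b, hw₂b]), pullback.lift_fst _ _ _, pullback.lift_snd _ _ _⟩
    apply factor ψ j (H ⊗ H) ((j ⊗ₘ j) ≫ μ[G]) (w ≫ (μ[HK]).left ≫ φ)
    rw [← hP]
    have h1 : (μ[HK]).left ≫ i.left = (i ⊗ₘ i).left ≫ (μ[Red.bc ψ G]).left := by
      rw [← Over.comp_left, ← Over.comp_left, IsMonHom.mul_hom]
    have h2 : μ[Red.bc ψ G] =
        Functor.LaxMonoidal.μ (Over.pullback ψ) G G ≫ (Over.pullback ψ).map μ[G] := rfl
    have hjj1 : (j ⊗ₘ j).left ≫ (fst G G).left = (fst H H).left ≫ j.left :=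
      congrArg (fun t => Over.Hom.left t) (tensorHom_fst j j)
    have hjj2 : (j ⊗ₘ j).left ≫ (snd G G).left = (snd H H).left ≫ j.left :=
      congrArg (fun t => Over.Hom.left t) (tensorHom_snd j j)
    have hii1 : (i ⊗ₘ i).left ≫ (fst (Red.bc ψ G) (Red.bc ψ G)).left =
        (fst HK HK).left ≫ i.left :=
      congrArg (fun t => Over.Hom.left t) (tensorHom_fst i i)
    have hii2 : (i ⊗ₘ i).left ≫ (snd (Red.bc ψ G) (Red.bc ψ G)).left =
        (snd HK HK).left ≫ i.left :=
      congrArg (fun t => Over.Hom.left t) (tensorHom_snd i i)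
    have hμ1 : (Functor.LaxMonoidal.μ (Over.pullback ψ) G G).left ≫
        ((Over.pullback ψ).map (fst G G)).left = (fst (Red.bc ψ G) (Red.bc ψ G)).left :=
      congrArg (fun t => Over.Hom.left t) (Functor.Monoidal.μ_fst (Over.pullback ψ) G G)
    have hμ2 : (Functor.LaxMonoidal.μ (Over.pullback ψ) G G).left ≫
        ((Over.pullback ψ).map (snd G G)).left = (snd (Red.bc ψ G) (Red.bc ψ G)).left :=
      congrArg (fun t => Over.Hom.left t) (Functor.Monoidal.μ_snd (Over.pullback ψ) G G)
    have key : w ≫ (i ⊗ₘ i).left ≫ (Functor.LaxMonoidal.μ (Over.pullback ψ) G G).left ≫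
        pullback.fst (G ⊗ G).hom ψ = P ≫ (j ⊗ₘ j).left := by
      apply Over.tensorObj_ext
      · show (w ≫ (i ⊗ₘ i).left ≫ (Functor.LaxMonoidal.μ (Over.pullback ψ) G G).left ≫
            pullback.fst (G ⊗ G).hom ψ) ≫ (fst G G).left = (P ≫ (j ⊗ₘ j).left) ≫ (fst G G).left
        simp only [Category.assoc]
        rw [← pb_map_fst ψ (fst G G), ← Category.assoc (Functor.LaxMonoidal.μ (Over.pullback ψ) G G).left, hμ1,
          ← Category.assoc (i ⊗ₘ i).left, hii1, Category.assoc, ← Category.assoc w, hwa, hjj1,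
          ← Category.assoc P, ← hw₁a, Category.assoc, hφj, ha]
      · show (w ≫ (i ⊗ₘ i).left ≫ (Functor.LaxMonoidal.μ (Over.pullback ψ) G G).left ≫
            pullback.fst (G ⊗ G).hom ψ) ≫ (snd G G).left = (P ≫ (j ⊗ₘ j).left) ≫ (snd G G).left
        simp only [Category.assoc]
        rw [← pb_map_fst ψ (snd G G), ← Category.assoc (Functor.LaxMonoidal.μ (Over.pullback ψ) G G).left, hμ2,
          ← Category.assoc (i ⊗ₘ i).left, hii2, Category.assoc, ← Category.assoc w, hwb, hjj2,
          ← Category.assoc P, ← hw₂a, Category.assoc, hφj, ha]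
    simp only [Category.assoc]
    rw [hφj, ha, ← Category.assoc (μ[HK]).left, h1, h2, Over.comp_left, Over.comp_left]
    simp only [Category.assoc]
    rw [pb_map_fst, ← Category.assoc (Functor.LaxMonoidal.μ (Over.pullback ψ) G G).left,
      ← Category.assoc (i ⊗ₘ i).left, ← Category.assoc w, ← Category.assoc P]
    congr 1
  obtain ⟨e, he⟩ := h3a
  obtain ⟨inv, hinv⟩ := h3b
  obtain ⟨m, hm⟩ := h3c
  letI : GrpObj H := grpOfMono j e he m hm inv hinv
  have hmon : IsMonHom j := ⟨he, hm⟩
  exact ⟨H, inferInstance, j, φ, hmon, hjci, hHfl, hpb, hφj, hφker⟩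

end Geo

/-- Let R be a Dedekind domain with fraction field K, G a group scheme over Spec R and i : H_K → G_K a
closed subgroup scheme of the generic fibre G_K = G ×_R K (a homomorphism which is a closed
immersion). Then there are a group scheme H over Spec R, flat over Spec R, and a homomorphism j : H
→ G which is a closed immersion, together with a morphism H_K → H presenting H_K as the generic
fibre H ×_R K compatibly with i and the embedding G_K → G, and with trivial kernel ideal sheaf (H_K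
is schematically dense in H). In words: the schematic closure in G of a closed K-subgroup of the
generic fibre is a flat closed R-subgroup scheme of G. (The source states this for group algebraic
spaces over a connected Dedekind scheme; the case of schemes over an affine base is stated.) -/
theorem result
    (R : Type u) [CommRing R] [IsDedekindDomain R]
    (G : Over (Spec (CommRingCat.of R))) [GrpObj G]
    (HK : Over (Spec (CommRingCat.of (FractionRing R)))) [GrpObj HK]
    (i : HK ⟶ Red.bc (Neron.genPt R) G) [IsMonHom i] [IsClosedImmersion i.left] :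
    ∃ (H : Over (Spec (CommRingCat.of R))) (_ : GrpObj H) (j : H ⟶ G) (φ : HK.left ⟶ H.left),
      IsMonHom j ∧ IsClosedImmersion j.left ∧ Flat H.hom ∧
      IsPullback φ HK.hom H.hom (Neron.genPt R) ∧
      φ ≫ j.left = i.left ≫ pullback.fst G.hom (Neron.genPt R) ∧
      φ.ker = ⊥ := by
  haveI hdom : IsDominant (Neron.genPt R) := by
    constructor
    have hinj : Function.Injective (algebraMap R (FractionRing R)) :=
      IsFractionRing.injective R (FractionRing R)
    refine (PrimeSpectrum.denseRange_comap_iff_ker_le_nilRadical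
      (f := algebraMap R (FractionRing R))).mpr ?_
    rw [(RingHom.injective_iff_ker_eq_bot _).mp hinj]
    exact bot_le
  haveI : IsSchemeTheoreticallyDominant (Neron.genPt R) :=
    IsSchemeTheoreticallyDominant.of_isDominant _
  haveI : IsPreimmersion (Neron.genPt R) :=
    IsPreimmersion.of_isLocalization (nonZeroDivisors R)
  haveI : Mono (Neron.genPt R) := inferInstance
  haveI : Flat (Neron.genPt R) := by
    show Flat (Spec.map (CommRingCat.ofHom (algebraMap R (FractionRing R))))
    rw [Flat.SpecMap_iff]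
    show (algebraMap R (FractionRing R)).Flat
    rw [RingHom.flat_algebraMap_iff]
    infer_instance
  haveI : Flat HK.hom := inferInstance
  have hflp : Flat ((i.left ≫ pullback.fst G.hom (Neron.genPt R)) ≫ G.hom) := by
    have : (i.left ≫ pullback.fst G.hom (Neron.genPt R)) ≫ G.hom = HK.hom ≫ Neron.genPt R := by
      rw [Category.assoc, pullback.condition, ← Category.assoc]
      congr 1
      exact Over.w i
    rw [this]
    infer_instance
  have hfl := Groth.Agent.S19202.result R
    ((i.left ≫ pullback.fst G.hom (Neron.genPt R)) ≫ G.hom) G.hom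
    (i.left ≫ pullback.fst G.hom (Neron.genPt R)) rfl
  exact main (Neron.genPt R) G HK i hfl

end Groth.Agent.S19964
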