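import Mathlib
import Groth.Statements.S19967
import Groth.Agent.S14188
-- import your own Groth.Agent.* helpers here

set_option autoImplicit false
universe u
open CategoryTheory CategoryTheory.Limits AlgebraicGeometry
open FlatMor

namespace Groth.Agent.S19967



/-- Let f : S' → S be a flat morphism of locally Noetherian schemes, i : C → S and i' : C' → S' closed
immersions with C and C' integral, and g : C' → C with g ≫ i = i' ≫ f. Let φ : C' → C ×_S S' be the
induced morphism and η ∈ S the image of the generic point of C. If φ becomes an isomorphism after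
base change along the canonical morphism Spec O_{S,η} → S (that is, after pulling back to (C ×_S S')
×_S Spec O_{S,η}), then φ is an isomorphism. (In the source S and S' are excellent surfaces over an
algebraically closed field, C and C' regular curves not inside the singular loci, and the
isomorphism over Spec O_{S,η} is part of the definition of a morphism of surface-curve pairs; those
extra hypotheses play no part.) -/
theorem result
    {S S' C C' : Scheme.{u}} [IsLocallyNoetherian S] [IsLocallyNoetherian S']
    (f : S' ⟶ S) [Flat f] (i : C ⟶ S) [IsClosedImmersion i] [IsIntegral C]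
    (i' : C' ⟶ S') [IsClosedImmersion i'] [IsIntegral C']
    (g : C' ⟶ C) (hsq : g ≫ i = i' ≫ f)
    (hgen : IsIso (pullback.snd (pullback.lift g i' hsq)
      (pullback.fst (pullback.fst i f ≫ i) (S.fromSpecStalk (i.base (genericPoint C)))))) :
    IsIso (pullback.lift g i' hsq) := by
  obtain ⟨q, hq⟩ : ∃ q, q = pullback.fst i f := ⟨_, rfl⟩
  obtain ⟨φ, hφ⟩ : ∃ φ, φ = pullback.lift g i' hsq := ⟨_, rfl⟩
  obtain ⟨ε, hε⟩ : ∃ ε, ε = S.fromSpecStalk (i.base (genericPoint C)) := ⟨_, rfl⟩
  rw [← hφ, ← hq, ← hε] at hgen
  rw [← hφ]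
  obtain ⟨j, hj⟩ : ∃ j, j = pullback.fst (q ≫ i) ε := ⟨_, rfl⟩
  rw [← hj] at hgen
  haveI : Flat q := by rw [hq]; infer_instance
  have hφ2 : φ ≫ pullback.snd i f = i' := by rw [hφ]; exact pullback.lift_snd _ _ _
  haveI : IsClosedImmersion φ := by
    haveI : IsClosedImmersion (φ ≫ pullback.snd i f) := by rw [hφ2]; infer_instance
    exact IsClosedImmersion.of_comp φ (pullback.snd i f)
  haveI := Groth.Agent.S14188.qc_gen C
  haveI := Groth.Agent.S14188.dom_gen C
  haveI : IsSchemeTheoreticallyDominant (C.fromSpecStalk (genericPoint C)) :=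
    IsSchemeTheoreticallyDominant.of_isDominant _
  obtain ⟨j', hj'⟩ : ∃ j', j' = pullback.fst q (C.fromSpecStalk (genericPoint C)) := ⟨_, rfl⟩
  haveI : IsSchemeTheoreticallyDominant j' := by rw [hj']; infer_instance
  have hcomm : C.fromSpecStalk (genericPoint C) ≫ i =
      Spec.map (i.stalkMap (genericPoint C)) ≫ ε := by
    rw [hε]; exact (Scheme.SpecMap_stalkMap_fromSpecStalk i (x := genericPoint C)).symm
  obtain ⟨k, hk⟩ : ∃ k : pullback q (C.fromSpecStalk (genericPoint C)) ⟶ pullback (q ≫ i) ε,
      k ≫ j = j' :=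
    ⟨pullback.lift j' (pullback.snd q _ ≫ Spec.map (i.stalkMap (genericPoint C)))
      (by rw [hj', ← Category.assoc, pullback.condition, Category.assoc, hcomm, Category.assoc]),
      by rw [hj]; exact pullback.lift_fst _ _ _⟩
  haveI := hgen
  have hl : (inv (pullback.snd φ j) ≫ pullback.fst φ j) ≫ φ = j := by
    rw [Category.assoc, pullback.condition, IsIso.inv_hom_id_assoc]
  rw [IsClosedImmersion.isIso_iff_ker_eq_bot, ← le_bot_iff]
  calc φ.ker ≤ ((k ≫ inv (pullback.snd φ j) ≫ pullback.fst φ j) ≫ φ).ker :=
        Scheme.Hom.le_ker_comp _ _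
    _ = j'.ker := by rw [Category.assoc, hl, hk]
    _ = ⊥ := Scheme.Hom.ker_eq_bot j'

end Groth.Agent.S19967
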