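import Groth.Statements.S19974
import Mathlib

set_option autoImplicit false
universe u v w x
open scoped BigOperators
open DefMod

namespace Groth.Agent.S19974

section
variable {K : Type u} [Field K] {O : Type v} [CommRing O] [Algebra K O]
  {D : Type w} [Ring D] [Algebra K D] (ι : O →ₐ[K] D) (d : D)
  {E : Type x} [AddCommGroup E] [Module K E] (ρ : D →ₐ[K] Module.End K E)
  (r : O →ₗ[K] Module.End K E) (v : Module.End K E)

/-- normal form map -/
noncomputable def Psi : (ℕ →₀ O) →ₗ[K] D :=
  Finsupp.lsum K (fun i => (LinearMap.mulRight K (d ^ i)).comp ι.toLinearMap)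

lemma Psi_apply (c : ℕ →₀ O) : Psi ι d c = c.sum (fun i f => ι f * d ^ i) := by
  rw [Psi, Finsupp.lsum_apply]
  rfl

lemma Psi_single (i : ℕ) (f : O) : Psi ι d (Finsupp.single i f) = ι f * d ^ i := by
  rw [Psi, Finsupp.lsum_single]
  rfl

/-- the values on powers of `d` -/
noncomputable def Vv : ℕ → Module.End K E
  | 0 => 0
  | j + 1 => v * ρ d ^ j + ρ d * Vv j

lemma Vv_zero : Vv d ρ v 0 = 0 := rfl
lemma Vv_succ (j : ℕ) : Vv d ρ v (j + 1) = v * ρ d ^ j + ρ d * Vv d ρ v j := rfl

noncomputable def Tt (i : ℕ) : O →ₗ[K] Module.End K E :=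
  (LinearMap.mulRight K (ρ d ^ i)).comp r +
    (LinearMap.mulRight K (Vv d ρ v i)).comp (ρ.toLinearMap.comp ι.toLinearMap)

lemma Tt_apply (i : ℕ) (f : O) :
    Tt ι d ρ r v i f = r f * ρ d ^ i + ρ (ι f) * Vv d ρ v i := rfl

noncomputable def Ss : (ℕ →₀ O) →ₗ[K] Module.End K E := Finsupp.lsum K (Tt ι d ρ r v)

lemma Ss_single (i : ℕ) (f : O) :
    Ss ι d ρ r v (Finsupp.single i f) = r f * ρ d ^ i + ρ (ι f) * Vv d ρ v i := by
  rw [Ss, Finsupp.lsum_single, Tt_apply]

end

lemma ring_aux {R : Type*} [Ring R] (a b c e h v Z W : R)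
    (hX : (a * b - b * a) + (c * v - v * c) + e = 0) (hY : b * c = c * b + h) :
    a * (b * Z) + c * (v * Z + b * W) + (e * Z + h * W) =
      v * (c * Z) + b * (a * Z + c * W) := by
  have hY' : c * b + h - b * c = 0 := by rw [hY]; exact sub_self _
  have key : a * (b * Z) + c * (v * Z + b * W) + (e * Z + h * W) =
      v * (c * Z) + b * (a * Z + c * W) + ((a * b - b * a) + (c * v - v * c) + e) * Z +
        (c * b + h - b * c) * W := by noncomm_ring
  rw [key, hX, hY', zero_mul, zero_mul, add_zero, add_zero]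

/-- Let K be a field of characteristic 0, O a commutative K-algebra with a K-linear derivation δ, and D
the ring of differential operators O[∂], presented abstractly as a K-algebra D with an algebra map ι
: O → D and an element ∂ of D such that ∂ ι(f) = ι(f) ∂ + ι(δ f) for every f in O and such that
every element of D is in a unique way a finite sum of terms ι(f_i) ∂^i. Let E be a left D-module,
given as a K-vector space with a K-algebra map ρ : D → End_K(E), which is finite free as an
O-module. A K-derivation of D with values in the D-bimodule End_K(E) is a K-linear map s with s(PQ)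
= s(P) ρ(Q) + ρ(P) s(Q); a K-derivation of O with values in End_K(E) is a K-linear map r with r(fg)
= r(f) ρ(ι g) + ρ(ι f) r(g). Then: (a) for every K-derivation s of D into End_K(E), the pair (r, v)
= (s ∘ ι, s(∂)) satisfies the identity [r(f), ρ(∂)] + [ρ(ι f), v] + r(δ f) = 0 for all f in O; (b)
conversely, for every K-derivation r of O into End_K(E) and every v in End_K(E) satisfying that
identity for all f, there is exactly one K-derivation s of D into End_K(E) with s ∘ ι = r and s(∂) =
v. In other words s ↦ (s ∘ ι, s(∂)) maps the K-derivations of D injectively onto the pairs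
satisfying the identity. -/
theorem result
    (K : Type u) [Field K] [CharZero K]
    (O : Type v) [CommRing O] [Algebra K O] (δ : Derivation K O O)
    (D : Type w) [Ring D] [Algebra K D] (ι : O →ₐ[K] D) (d : D)
    (hd : ∀ f : O, d * ι f = ι f * d + ι (δ f))
    (hbasis : Function.Bijective (fun c : ℕ →₀ O => c.sum (fun i f => ι f * d ^ i)))
    (E : Type x) [AddCommGroup E] [Module K E] (ρ : D →ₐ[K] Module.End K E)
    (hE : ∃ (n : ℕ) (b : Fin n → E), Function.Bijective (fun c : Fin n → O => ∑ i, ρ (ι (c i)) (b i))) :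
    (∀ s : D →ₗ[K] Module.End K E, (∀ P Q : D, s (P * Q) = s P * ρ Q + ρ P * s Q) →
      ∀ f : O, (s (ι f) * ρ d - ρ d * s (ι f)) + (ρ (ι f) * s d - s d * ρ (ι f)) + s (ι (δ f)) = 0) ∧
    ∀ (r : O →ₗ[K] Module.End K E) (v : Module.End K E),
      (∀ f g : O, r (f * g) = r f * ρ (ι g) + ρ (ι f) * r g) →
      (∀ f : O, (r f * ρ d - ρ d * r f) + (ρ (ι f) * v - v * ρ (ι f)) + r (δ f) = 0) →
      ∃! s : D →ₗ[K] Module.End K E,
        (∀ P Q : D, s (P * Q) = s P * ρ Q + ρ P * s Q) ∧ s ∘ₗ ι.toLinearMap = r ∧ s d = v := by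
  constructor
  · intro s hs f
    have h := congrArg s (hd f)
    rw [hs, map_add, hs] at h
    have h3 := sub_eq_zero.2 h.symm
    calc _ = s (ι f) * ρ d + ρ (ι f) * s d + s (ι (δ f)) - (s d * ρ (ι f) + ρ d * s (ι f)) := by
          abel
      _ = 0 := h3
  · intro r v hr hid
    have hΨ : Function.Bijective (Psi ι d) := by
      have : (Psi ι d : (ℕ →₀ O) → D) = fun c => c.sum (fun i f => ι f * d ^ i) :=
        funext (Psi_apply ι d)
      rw [this]; exact hbasis
    let Ψe : (ℕ →₀ O) ≃ₗ[K] D := LinearEquiv.ofBijective (Psi ι d) hΨ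
    let s : D →ₗ[K] Module.End K E := (Ss ι d ρ r v).comp Ψe.symm.toLinearMap
    have F1 : ∀ (i : ℕ) (f : O), s (ι f * d ^ i) = r f * ρ d ^ i + ρ (ι f) * Vv d ρ v i := by
      intro i f
      have : Ψe.symm (ι f * d ^ i) = Finsupp.single i f := by
        rw [LinearEquiv.symm_apply_eq]; exact (Psi_single ι d i f).symm
      show Ss ι d ρ r v (Ψe.symm (ι f * d ^ i)) = _
      rw [this, Ss_single]
    have F2 : ∀ (p : D → Prop), p 0 → (∀ a b, p a → p b → p (a + b)) →
        (∀ i f, p (ι f * d ^ i)) → ∀ P, p P := by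
      intro p h0 hadd hgen P
      obtain ⟨c, rfl⟩ := hΨ.2 P
      induction c using Finsupp.induction_linear with
      | zero => simpa using h0
      | add c1 c2 h1 h2 => rw [map_add]; exact hadd _ _ h1 h2
      | single i f => rw [Psi_single]; exact hgen i f
    have r1 : r 1 = 0 := by
      have := hr 1 1
      simpa using this
    have sι : ∀ f, s (ι f) = r f := by
      intro f
      have := F1 0 f
      simpa [Vv_zero] using this
    have sd : s d = v := by
      have := F1 1 1
      simpa [Vv_succ, Vv_zero, r1] using this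
    have s1 : s 1 = 0 := by
      have := sι 1
      rw [map_one, r1] at this; exact this
    have ρhd : ∀ g, ρ d * ρ (ι g) = ρ (ι g) * ρ d + ρ (ι (δ g)) := by
      intro g; rw [← map_mul, hd, map_add, map_mul]
    have Gmul : ∀ P1 P2 : D, (∀ Q, s (P1 * Q) = s P1 * ρ Q + ρ P1 * s Q) →
        (∀ Q, s (P2 * Q) = s P2 * ρ Q + ρ P2 * s Q) →
        ∀ Q, s (P1 * P2 * Q) = s (P1 * P2) * ρ Q + ρ (P1 * P2) * s Q := by
      intro P1 P2 h1 h2 Q
      rw [mul_assoc, h1, h2, h1 P2, map_mul, map_mul]
      noncomm_ring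
    have Gι : ∀ f Q, s (ι f * Q) = s (ι f) * ρ Q + ρ (ι f) * s Q := by
      intro f
      refine F2 (fun Q => s (ι f * Q) = s (ι f) * ρ Q + ρ (ι f) * s Q) ?_ ?_ ?_
      · simp
      · intro a b ha hb
        rw [mul_add, map_add, ha, hb, map_add, map_add]; noncomm_ring
      · intro j g
        have e1 : ι f * (ι g * d ^ j) = ι (f * g) * d ^ j := by rw [map_mul, mul_assoc]
        rw [e1, F1 j (f * g), F1 j g, sι f, hr f g]
        simp only [map_mul, map_pow]
        noncomm_ring
    have Gd : ∀ Q, s (d * Q) = s d * ρ Q + ρ d * s Q := by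
      refine F2 (fun Q => s (d * Q) = s d * ρ Q + ρ d * s Q) ?_ ?_ ?_
      · simp
      · intro a b ha hb
        rw [mul_add, map_add, ha, hb, map_add, map_add]; noncomm_ring
      · intro j g
        have e1 : d * (ι g * d ^ j) = ι g * d ^ (j + 1) + ι (δ g) * d ^ j := by
          rw [← mul_assoc, hd, add_mul, mul_assoc, ← pow_succ']
        rw [e1, map_add, F1 (j + 1) g, F1 j (δ g), F1 j g, sd, map_mul, map_pow, pow_succ',
          Vv_succ]
        exact ring_aux (r g) (ρ d) (ρ (ι g)) (r (δ g)) (ρ (ι (δ g))) v (ρ d ^ j) (Vv d ρ v j)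
          (hid g) (ρhd g)
    have Gpow : ∀ i Q, s (d ^ i * Q) = s (d ^ i) * ρ Q + ρ (d ^ i) * s Q := by
      intro i
      induction i with
      | zero => intro Q; simp [s1]
      | succ i ih => intro Q; rw [pow_succ]; exact Gmul _ _ ih Gd Q
    have G : ∀ P Q, s (P * Q) = s P * ρ Q + ρ P * s Q := by
      refine F2 (fun P => ∀ Q, s (P * Q) = s P * ρ Q + ρ P * s Q) ?_ ?_ ?_
      · intro Q; simp
      · intro a b ha hb Q
        rw [add_mul, map_add, ha, hb, map_add, map_add]; noncomm_ring
      · intro i f; exact Gmul _ _ (Gι f) (Gpow i)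
    refine ⟨s, ⟨G, ?_, sd⟩, ?_⟩
    · apply LinearMap.ext
      intro f
      exact sι f
    · rintro s' ⟨h1, h2, h3⟩
      have s'1 : s' 1 = 0 := by
        have := h1 1 1
        simpa using this
      have s'ι : ∀ f, s' (ι f) = r f := fun f => by rw [← h2]; rfl
      have s'pow : ∀ i, s' (d ^ i) = Vv d ρ v i := by
        intro i
        induction i with
        | zero => simpa [Vv_zero] using s'1
        | succ i ih => rw [pow_succ', h1, h3, ih, map_pow, Vv_succ]
      apply LinearMap.ext
      refine F2 (fun P => s' P = s P) (by simp) (fun a b ha hb => by simp [ha, hb]) ?_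
      intro i f
      rw [h1, s'ι, s'pow, F1, map_pow]

end Groth.Agent.S19974
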