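import Mathlib
import Groth.Statements.S1998
import Groth.Agent.H11.HensSup

set_option autoImplicit false
universe u
open EtAlg

namespace Groth.Agent.S1998

open Polynomial Groth.Agent.H11

/-- transfer of a Gabber root along a ring map -/
theorem gabber_transfer {B L : Type u} [CommRing B] [CommRing L] (φ : B →+* L) (IB : Ideal B)
    (h : HenselianRing B IB) (n : ℕ) (p : L[X]) (hp : p.natDegree ≤ n) (d : ℕ → B)
    (hd : ∀ m, m < n + 1 → d m ∈ IB ∧ φ (d m) = p.coeff m) :
    ∃ α : L, α - 1 ∈ IB.map φ ∧ IsRoot (X ^ n * (X - 1) + p) α := by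
  obtain ⟨P, hP⟩ : ∃ P : B[X], P = ∑ i ∈ Finset.range (n + 1), C (d i) * X ^ i := ⟨_, rfl⟩
  have hPdeg : P.natDegree ≤ n := by
    rw [hP]
    apply natDegree_sum_le_of_forall_le
    intro i hi
    have := Finset.mem_range.1 hi
    exact le_trans (natDegree_C_mul_X_pow_le _ _) (by omega)
  have hPI : ∀ j, P.coeff j ∈ IB := by
    intro j
    rw [hP, finsetSum_coeff]
    refine IB.sum_mem fun i hi => ?_
    rw [coeff_C_mul]
    exact IB.mul_mem_right _ (hd i (Finset.mem_range.1 hi)).1
  have hPmap : P.map φ = p := by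
    rw [hP, Polynomial.map_sum]
    conv_rhs => rw [as_sum_range' p (n + 1) (by omega)]
    apply Finset.sum_congr rfl
    intro i hi
    rw [Polynomial.map_mul, map_C, Polynomial.map_pow, map_X, (hd i (Finset.mem_range.1 hi)).2,
      C_mul_X_pow_eq_monomial]
  obtain ⟨α, ⟨hα1, hα⟩, -⟩ := gabber_of_hens IB h n P hPdeg hPI
  refine ⟨φ α, ?_, ?_⟩
  · have : φ α - 1 = φ (α - 1) := by simp
    rw [this]; exact Ideal.mem_map_of_mem _ hα1
  · have hmap : (X ^ n * (X - 1) + P).map φ = X ^ n * (X - 1) + p := by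
      simp [hPmap]
    rw [IsRoot.def, ← hmap, eval_map_apply, hα, map_zero]

/-- Let (A_j, I_j) be a directed system of henselian pairs (ring maps A_j -> A_k for j ≤ k carrying I_j
into I_k). Then the direct limit A of the A_j together with the ideal generated by the images of the
I_j is a henselian pair. -/
theorem result {ι : Type u} [Preorder ι] [IsDirected ι (· ≤ ·)] [Nonempty ι]
    (G : ι → Type u) [∀ i, CommRing (G i)] (f : ∀ i j, i ≤ j → G i →+* G j)
    [DirectedSystem G fun i j h => f i j h] (I : ∀ i, Ideal (G i))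
    (hI : ∀ i j (h : i ≤ j), (I i).map (f i j h) ≤ I j) (hh : ∀ i, HenselianRing (G i) (I i)) :
    HenselianRing (Ring.DirectLimit G fun i j h => f i j h)
      (⨆ i, (I i).map (Ring.DirectLimit.of G (fun i j h => f i j h) i)) := by
  have hIf : ∀ i j (h : i ≤ j) (y : G i), y ∈ I i → f i j h y ∈ I j := fun i j h y hy =>
    hI i j h (Ideal.mem_map_of_mem _ hy)
  -- elements of the ideal come from a single stage
  have hK : ∀ x ∈ (⨆ i, (I i).map (Ring.DirectLimit.of G (fun i j h => f i j h) i)),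
      ∃ i y, y ∈ I i ∧ Ring.DirectLimit.of G (fun i j h => f i j h) i y = x := by
    let S : Ideal (Ring.DirectLimit G fun i j h => f i j h) :=
      { carrier := {x | ∃ i y, y ∈ I i ∧ Ring.DirectLimit.of G (fun i j h => f i j h) i y = x}
        zero_mem' := ⟨Classical.arbitrary ι, 0, (I _).zero_mem, map_zero _⟩
        add_mem' := by
          rintro _ _ ⟨i, y, hy, rfl⟩ ⟨i', y', hy', rfl⟩
          obtain ⟨k, hik, hi'k⟩ := exists_ge_ge i i'
          refine ⟨k, f i k hik y + f i' k hi'k y', (I k).add_mem (hIf _ _ _ _ hy) (hIf _ _ _ _ hy'), ?_⟩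
          rw [map_add, Ring.DirectLimit.of_f, Ring.DirectLimit.of_f]
        smul_mem' := by
          rintro c _ ⟨i, y, hy, rfl⟩
          obtain ⟨j, z, rfl⟩ := Ring.DirectLimit.exists_of c
          obtain ⟨k, hik, hjk⟩ := exists_ge_ge i j
          refine ⟨k, f j k hjk z * f i k hik y, (I k).mul_mem_left _ (hIf _ _ _ _ hy), ?_⟩
          rw [map_mul, Ring.DirectLimit.of_f, Ring.DirectLimit.of_f, smul_eq_mul] }
    have hle : (⨆ i, (I i).map (Ring.DirectLimit.of G (fun i j h => f i j h) i)) ≤ S := by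
      apply iSup_le
      intro i
      rw [Ideal.map_le_iff_le_comap]
      intro y hy
      exact ⟨i, y, hy, rfl⟩
    intro x hx
    exact hle hx
  -- finite families come from a single stage
  have hfin : ∀ (n : ℕ) (c : ℕ → Ring.DirectLimit G fun i j h => f i j h),
      (∀ m, c m ∈ (⨆ i, (I i).map (Ring.DirectLimit.of G (fun i j h => f i j h) i))) →
      ∃ i, ∃ d : ℕ → G i, ∀ m, m < n →
        d m ∈ I i ∧ Ring.DirectLimit.of G (fun i j h => f i j h) i (d m) = c m := by
    intro n c hc
    induction n with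
    | zero => exact ⟨Classical.arbitrary ι, fun _ => 0, fun m hm => absurd hm (Nat.not_lt_zero m)⟩
    | succ n ih =>
      obtain ⟨i, d, hd⟩ := ih
      obtain ⟨j, y, hy, hyc⟩ := hK (c n) (hc n)
      obtain ⟨k, hik, hjk⟩ := exists_ge_ge i j
      refine ⟨k, fun m => if m = n then f j k hjk y else f i k hik (d m), ?_⟩
      intro m hm
      by_cases hmn : m = n
      · subst hmn
        simp only [if_true]
        exact ⟨hIf _ _ _ _ hy, by rw [Ring.DirectLimit.of_f, hyc]⟩
      · simp only [hmn, if_false]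
        have hm' : m < n := by omega
        exact ⟨hIf _ _ _ _ (hd m hm').1, by rw [Ring.DirectLimit.of_f, (hd m hm').2]⟩
  have hjac : (⨆ i, (I i).map (Ring.DirectLimit.of G (fun i j h => f i j h) i))
      ≤ Ideal.jacobson ⊥ := by
    intro x hx
    obtain ⟨i, x', hx', rfl⟩ := hK x hx
    rw [Ideal.mem_jacobson_bot]
    intro y
    obtain ⟨j, y', rfl⟩ := Ring.DirectLimit.exists_of y
    obtain ⟨k, hik, hjk⟩ := exists_ge_ge i j
    have h1 : f i k hik x' ∈ Ideal.jacobson (⊥ : Ideal (G k)) := (hh k).jac (hIf _ _ _ _ hx')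
    have h2 := ((Ideal.mem_jacobson_bot.1 h1) (f j k hjk y')).map
      (Ring.DirectLimit.of G (fun i j h => f i j h) k)
    rw [map_add, map_mul, Ring.DirectLimit.of_f, Ring.DirectLimit.of_f, map_one] at h2
    exact h2
  apply hens_of_gabber _ hjac
  intro n _ p hp hpI
  obtain ⟨i, d, hd⟩ := hfin (n + 1) (fun m => p.coeff m) hpI
  obtain ⟨α, hα1, hα⟩ := gabber_transfer (Ring.DirectLimit.of G (fun i j h => f i j h) i) (I i)
    (hh i) n p hp d hd
  exact ⟨α, le_iSup (fun i => (I i).map (Ring.DirectLimit.of G (fun i j h => f i j h) i)) i hα1, hα⟩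

end Groth.Agent.S1998
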