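import Groth.Statements.S20018
import Mathlib

set_option autoImplicit false
open CAlg

namespace Groth.Agent.S20018

open PowerSeries

/-- partial product -/
noncomputable def pp {R : Type*} [CommRing R] (α : ℕ → R) (N : ℕ) : PowerSeries R :=
  ∏ i ∈ Finset.range N, (1 - PowerSeries.C (α i) * PowerSeries.X ^ (i + 1) : PowerSeries R)

lemma pp_succ {R : Type*} [CommRing R] (α : ℕ → R) (N : ℕ) :
    pp α (N + 1) = pp α N * (1 - PowerSeries.C (α N) * PowerSeries.X ^ (N + 1)) := by
  simp [pp, Finset.prod_range_succ]

lemma constantCoeff_pp {R : Type*} [CommRing R] (α : ℕ → R) (N : ℕ) :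
    PowerSeries.constantCoeff (pp α N) = 1 := by
  induction N with
  | zero => simp [pp]
  | succ N ih => rw [pp_succ, map_mul, ih]; simp

lemma coeff_mul_one_sub {R : Type*} [CommRing R] (Q : PowerSeries R) (a : R) (n k : ℕ) :
    PowerSeries.coeff k (Q * (1 - PowerSeries.C a * PowerSeries.X ^ n)) =
      PowerSeries.coeff k Q - (if n ≤ k then a * PowerSeries.coeff (k - n) Q else 0) := by
  have : Q * (1 - PowerSeries.C a * PowerSeries.X ^ n) =
      Q - PowerSeries.C a * (Q * PowerSeries.X ^ n) := by ring
  rw [this, map_sub, PowerSeries.coeff_C_mul, PowerSeries.coeff_mul_X_pow']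
  split_ifs <;> simp

lemma pp_congr {R : Type*} [CommRing R] (α β : ℕ → R) (N : ℕ) (h : ∀ i < N, α i = β i) :
    pp α N = pp β N := by
  unfold pp
  apply Finset.prod_congr rfl
  intro i hi
  rw [h i (Finset.mem_range.mp hi)]

/-- the recursive construction of partial products -/
noncomputable def P {R : Type*} [CommRing R] (x : PowerSeries R) : ℕ → PowerSeries R
  | 0 => 1
  | N + 1 => P x N * (1 - PowerSeries.C (PowerSeries.coeff (N + 1) (P x N) - PowerSeries.coeff (N + 1) x)
      * PowerSeries.X ^ (N + 1))

noncomputable def alpha {R : Type*} [CommRing R] (x : PowerSeries R) (N : ℕ) : R :=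
  PowerSeries.coeff (N + 1) (P x N) - PowerSeries.coeff (N + 1) x

lemma P_eq_pp {R : Type*} [CommRing R] (x : PowerSeries R) (N : ℕ) : P x N = pp (alpha x) N := by
  induction N with
  | zero => simp [P, pp]
  | succ N ih => rw [pp_succ, ← ih]; rfl


open PowerSeries in
/-- Product expansion of big Witt vectors: let R be a commutative ring and x ∈ 1 + tR[[t]] a formal
power series with constant term 1. Then x can be written uniquely as an infinite product ∏_{i ≥ 1}
(1 - α_i t^i) with α_i ∈ R. The infinite product is expressed through its truncations: there is a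
unique sequence α : ℕ → R (α i standing for the coefficient attached to t^{i+1}) such that for every
N the series x and the finite product ∏_{i=0}^{N} (1 - α_i t^{i+1}) agree modulo t^{N+2}. -/
theorem result
    (R : Type*) [CommRing R] (x : PowerSeries R) (hx : PowerSeries.constantCoeff x = 1) :
    ∃! α : ℕ → R, ∀ N : ℕ,
      PowerSeries.trunc (N + 2) x =
        PowerSeries.trunc (N + 2) (∏ i ∈ Finset.range (N + 1),
          (1 - PowerSeries.C (α i) * PowerSeries.X ^ (i + 1) : PowerSeries R)) := by
  -- existence: coefficients agree up to N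
  have hex : ∀ N k, k ≤ N → PowerSeries.coeff k x = PowerSeries.coeff k (pp (alpha x) N) := by
    intro N
    induction N with
    | zero =>
      intro k hk
      obtain rfl : k = 0 := Nat.le_zero.mp hk
      simp [pp, hx]
    | succ N ih =>
      intro k hk
      rw [pp_succ, coeff_mul_one_sub]
      rcases Nat.lt_or_ge k (N + 1) with hlt | hge
      · rw [if_neg (by omega), sub_zero]
        exact ih k (by omega)
      · obtain rfl : k = N + 1 := by omega
        rw [if_pos le_rfl, Nat.sub_self, PowerSeries.coeff_zero_eq_constantCoeff_apply,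
          constantCoeff_pp, mul_one]
        have : alpha x N = PowerSeries.coeff (N + 1) (pp (alpha x) N) - PowerSeries.coeff (N + 1) x := by
          rw [← P_eq_pp]; rfl
        rw [this]; ring
  have hcond : ∀ (α : ℕ → R), (∀ N : ℕ, PowerSeries.trunc (N + 2) x = PowerSeries.trunc (N + 2) (pp α (N + 1))) ↔
      ∀ N k, k ≤ N + 1 → PowerSeries.coeff k x = PowerSeries.coeff k (pp α (N + 1)) := by
    intro α
    constructor
    · intro h N k hk
      have := congrArg (fun q => q.coeff k) (h N)
      simp only [PowerSeries.coeff_trunc] at this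
      rw [if_pos (by omega), if_pos (by omega)] at this
      exact this
    · intro h N
      ext k
      simp only [PowerSeries.coeff_trunc]
      split_ifs with hk
      · exact h N k (by omega)
      · rfl
  change ∃! α : ℕ → R, ∀ N : ℕ, PowerSeries.trunc (N + 2) x = PowerSeries.trunc (N + 2) (pp α (N + 1))
  refine ⟨alpha x, (hcond _).mpr (fun N k hk => hex (N + 1) k hk), ?_⟩
  intro β hβ
  rw [hcond] at hβ
  funext N
  induction N using Nat.strong_induction_on with
  | _ N ih =>
    have h1 := hβ N (N + 1) le_rfl
    have h2 := hex (N + 1) (N + 1) le_rfl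
    rw [pp_succ, coeff_mul_one_sub, if_pos le_rfl, Nat.sub_self,
      PowerSeries.coeff_zero_eq_constantCoeff_apply, constantCoeff_pp, mul_one] at h1 h2
    rw [pp_congr β (alpha x) N ih] at h1
    have : PowerSeries.coeff (N + 1) (pp (alpha x) N) - β N =
        PowerSeries.coeff (N + 1) (pp (alpha x) N) - alpha x N := by rw [← h1, ← h2]
    exact sub_right_injective this

end Groth.Agent.S20018
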