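import Groth.Statements.S20022
import Mathlib

set_option autoImplicit false
universe u
open GrLC

namespace Groth.Agent.S20022


section Helpers

open DirectSum

variable {R : Type u} [CommRing R] (𝒜 : ℤ → AddSubgroup R) [GradedRing 𝒜]
  {M : Type u} [AddCommGroup M] [Module R M] (ℳ : ℤ → AddSubgroup M)
  [DirectSum.Decomposition ℳ] [SetLike.GradedSMul 𝒜 ℳ]

/-- the component of `r • m` for homogeneous `m`. -/
lemma decompose_smul_homog {m : M} {n : ℤ} (hm : m ∈ ℳ n) (r : R) (N₀ : ℤ) :
    ((decompose ℳ (r • m)) N₀ : M) = ((decompose 𝒜 r) (N₀ - n) : R) • m := by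
  classical
  have key : ∀ e : ℤ, ((decompose ℳ (((decompose 𝒜 r) e : R) • m)) N₀ : M) =
      if e = N₀ - n then ((decompose 𝒜 r) e : R) • m else 0 := by
    intro e
    have hmem : ((decompose 𝒜 r) e : R) • m ∈ ℳ (e + n) := by
      have := SetLike.GradedSMul.smul_mem (A := 𝒜) (B := ℳ) ((decompose 𝒜 r) e).2 hm
      rwa [vadd_eq_add] at this
    split_ifs with h
    · have h' : N₀ = e + n := by omega
      subst h'
      exact decompose_of_mem_same ℳ hmem
    · exact decompose_of_mem_ne ℳ hmem (by omega)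
  calc ((decompose ℳ (r • m)) N₀ : M)
      = ((decompose ℳ ((∑ e ∈ (decompose 𝒜 r).support, ((decompose 𝒜 r) e : R)) • m)) N₀ : M) := by
        rw [sum_support_decompose 𝒜 r]
    _ = ∑ e ∈ (decompose 𝒜 r).support,
          ((decompose ℳ (((decompose 𝒜 r) e : R) • m)) N₀ : M) := by
        rw [Finset.sum_smul, decompose_sum, DFinsupp.finset_sum_apply,
          AddSubmonoidClass.coe_finset_sum]
    _ = ∑ e ∈ (decompose 𝒜 r).support,
          (if e = N₀ - n then ((decompose 𝒜 r) e : R) • m else 0) :=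
        Finset.sum_congr rfl (fun e _ => key e)
    _ = ((decompose 𝒜 r) (N₀ - n) : R) • m := by
        rw [Finset.sum_ite_eq']
        split_ifs with h
        · rfl
        · rw [DFinsupp.notMem_support_iff] at h
          rw [h, ZeroMemClass.coe_zero, zero_smul]

include 𝒜 in
/-- spans of homogeneous elements are stable under taking components. -/
lemma span_components {S : Set M} (hS : ∀ m ∈ S, SetLike.IsHomogeneousElem ℳ m) {x : M}
    (hx : x ∈ Submodule.span R S) (N₀ : ℤ) :
    ((decompose ℳ x) N₀ : M) ∈ Submodule.span R S := by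
  obtain ⟨k, f, g, rfl⟩ := Submodule.mem_span_set'.mp hx
  rw [decompose_sum, DFinsupp.finset_sum_apply, AddSubmonoidClass.coe_finset_sum]
  refine Submodule.sum_mem _ (fun i _ => ?_)
  obtain ⟨n, hn⟩ := hS (g i) (g i).2
  rw [decompose_smul_homog 𝒜 ℳ hn]
  exact Submodule.smul_mem _ _ (Submodule.subset_span (g i).2)

end Helpers


/-- Let R be a commutative ℤ-graded ring whose degree-zero subring R_0 is a field k and which is the
Laurent polynomial ring k[T, T⁻¹] on a homogeneous invertible element T of positive degree d, in the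
following intrinsic sense: T is a unit lying in R_d, and every nonzero homogeneous element of degree
n equals a·T^j for some a ∈ R_0 and some integer j with j·d = n (so R_n = 0 unless d divides n, and
R_{jd} = k·T^j). Then every graded R-module M is free in the graded sense: M has an R-basis
consisting of homogeneous elements. (The other case of condition (2), R = k concentrated in degree
zero, is not included.) -/
theorem result (R : Type u) [CommRing R]
    (𝒜 : ℤ → AddSubgroup R) [GradedRing 𝒜] (h0 : IsField (GrLC.deg0 𝒜))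
    (d : ℤ) (hd : 0 < d) (T : Rˣ) (hT : (T : R) ∈ 𝒜 d)
    (hA : ∀ (n : ℤ) (x : R), x ∈ 𝒜 n → x ≠ 0 →
      ∃ j : ℤ, ∃ a ∈ 𝒜 0, j * d = n ∧ x = a * ((T ^ j : Rˣ) : R))
    (M : Type u) [AddCommGroup M] [Module R M] (ℳ : ℤ → AddSubgroup M)
    [DirectSum.Decomposition ℳ] [SetLike.GradedSMul 𝒜 ℳ] :
    ∃ (κ : Type u) (b : Module.Basis κ R M), ∀ i : κ, SetLike.IsHomogeneousElem ℳ (b i) := by
  classical
  obtain ⟨s, hs, hmax⟩ := exists_maximal_linearIndepOn R
    (Subtype.val : {m : M // SetLike.IsHomogeneousElem ℳ m} → M)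
  have hS : ∀ m ∈ (Subtype.val '' s : Set M), SetLike.IsHomogeneousElem ℳ m := by
    rintro _ ⟨i, -, rfl⟩
    exact i.2
  -- nonzero homogeneous elements of `R` are units
  have hunit : ∀ (e : ℤ) (x : R), x ∈ 𝒜 e → x ≠ 0 → IsUnit x := by
    intro e x hx hx0
    obtain ⟨j, a, ha, -, rfl⟩ := hA e x hx hx0
    have ha0 : a ≠ 0 := by
      rintro rfl
      exact hx0 (zero_mul _)
    have hne : (⟨a, ha⟩ : GrLC.deg0 𝒜) ≠ 0 := fun h => ha0 (congrArg Subtype.val h)
    obtain ⟨b, hb⟩ := h0.mul_inv_cancel hne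
    have hb' : a * (b : R) = 1 := congrArg Subtype.val hb
    exact (IsUnit.of_mul_eq_one _ hb').mul (T ^ j).isUnit
  -- every homogeneous element lies in the span
  have claim1 : ∀ i : {m : M // SetLike.IsHomogeneousElem ℳ m},
      (i : M) ∈ Submodule.span R (Subtype.val '' s : Set M) := by
    intro i
    by_cases hi : i ∈ s
    · exact Submodule.subset_span ⟨i, hi, rfl⟩
    · obtain ⟨r, hr0, hr⟩ := hmax i hi
      obtain ⟨n, hn⟩ := i.2
      have hex : ∃ e : ℤ, ((DirectSum.decompose 𝒜 r) e : R) ≠ 0 := by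
        by_contra hcon
        rw [not_exists] at hcon
        apply hr0
        rw [← DirectSum.sum_support_decompose 𝒜 r]
        exact Finset.sum_eq_zero (fun e _ => not_not.mp (hcon e))
      obtain ⟨e, he⟩ := hex
      have h1 := span_components 𝒜 ℳ hS hr (e + n)
      rw [decompose_smul_homog 𝒜 ℳ hn, add_sub_cancel_right] at h1
      exact (Submodule.smul_mem_iff_of_isUnit _
        (hunit e _ ((DirectSum.decompose 𝒜 r) e).2 he)).mp h1
  have claim2 : ⊤ ≤ Submodule.span R (Set.range (fun i : s => ((i : {m : M // SetLike.IsHomogeneousElem ℳ m}) : M))) := by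
    intro x _
    have hrange : Set.range (fun i : s => ((i : {m : M // SetLike.IsHomogeneousElem ℳ m}) : M)) =
        (Subtype.val '' s : Set M) := by
      ext y
      constructor
      · rintro ⟨i, rfl⟩
        exact ⟨i.1, i.2, rfl⟩
      · rintro ⟨i, hi, rfl⟩
        exact ⟨⟨i, hi⟩, rfl⟩
    rw [hrange, ← DirectSum.sum_support_decompose ℳ x]
    exact Submodule.sum_mem _ (fun i _ => claim1 ⟨_, ⟨i, ((DirectSum.decompose ℳ x) i).2⟩⟩)
  refine ⟨s, Module.Basis.mk hs claim2, fun i => ?_⟩
  rw [Module.Basis.mk_apply]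
  exact i.1.2

end Groth.Agent.S20022
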