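import Groth.Statements.S2003
import Mathlib
import Groth.Agent.Lib.Lead.GlueFlat
import Groth.Agent.Lib.Lead.Glue2
-- import your own Groth.Agent.* helpers here

set_option autoImplicit false
universe u
open TensorProduct
open EtAlg

namespace Groth.Agent.S2003

/-- Let (R -> R', f) be a glueing pair and M any R-module. Then M is finite projective over R exactly
when both of its base changes are: R' ⊗_R M over R', and M_f over R_f. -/
theorem result (R R' : Type u) [CommRing R] [CommRing R'] [Algebra R R'] (f : R)
    (hRR : EtGlue.IsGlueingPair R R' f) (M : Type u) [AddCommGroup M] [Module R M] :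
    (Module.Finite R M ∧ Module.Projective R M) ↔
      (Module.Finite R' (R' ⊗[R] M) ∧ Module.Projective R' (R' ⊗[R] M)) ∧
      (Module.Finite (Localization.Away f) (LocalizedModule (Submonoid.powers f) M) ∧
        Module.Projective (Localization.Away f) (LocalizedModule (Submonoid.powers f) M)) := by
  have hq := hRR.1
  constructor
  · rintro ⟨hfin, hproj⟩
    haveI := hfin
    haveI := hproj
    refine ⟨⟨inferInstance, inferInstance⟩, ⟨inferInstance, ?_⟩⟩
    exact Module.Projective.of_equiv'
      (LocalizedModule.equivTensorProduct (Submonoid.powers f) M).symm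
  · rintro ⟨⟨hf1, hp1⟩, ⟨hf2, hp2⟩⟩
    haveI := hf1
    haveI := hp1
    haveI := hf2
    haveI := hp2
    haveI hflat2 : Module.Flat (Localization.Away f) (Localization.Away f ⊗[R] M) :=
      Module.Flat.of_linearEquiv (LocalizedModule.equivTensorProduct (Submonoid.powers f) M).symm
    haveI hflat : Module.Flat R M := Groth.Agent.Lead.GlueFlat.flat_of_glueingPair hRR M
    haveI hfin : Module.Finite R M := Groth.Agent.Lead.Glue.finite_of_finite hq M hf1 hf2
    obtain ⟨n, ρ, hρ⟩ := Module.Finite.exists_fin' R M
    have key : ∀ (S : Type u) [CommRing S] [Algebra R S] [Module.Finite S (S ⊗[R] M)]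
        [Module.Projective S (S ⊗[R] M)], Module.Finite S (S ⊗[R] LinearMap.ker ρ) := by
      intro S _ _ _ _
      have hinj : Function.Injective ((LinearMap.ker ρ).subtype.lTensor S) :=
        (LinearMap.lTensor_inj_iff_rTensor_inj S _).2
          (Groth.Agent.H10.rTensor_injective_of_flat_coker (LinearMap.ker ρ).subtype ρ
            (Submodule.injective_subtype _) (LinearMap.exact_subtype_ker_map ρ) hρ S)
      have h1 : Function.Injective ((LinearMap.ker ρ).subtype.baseChange S) := by
        rw [LinearMap.baseChange_eq_ltensor]; exact hinj
      have h2 : Function.Exact ((LinearMap.ker ρ).subtype.baseChange S) (ρ.baseChange S) := by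
        rw [LinearMap.baseChange_eq_ltensor, LinearMap.baseChange_eq_ltensor]
        exact lTensor_exact S (LinearMap.exact_subtype_ker_map ρ) hρ
      have h3 : Function.Surjective (ρ.baseChange S) := by
        rw [LinearMap.baseChange_eq_ltensor]; exact LinearMap.lTensor_surjective S hρ
      haveI : Module.FinitePresentation S (S ⊗[R] (Fin n → R)) :=
        Module.finitePresentation_of_projective _ _
      haveI : Module.FinitePresentation S (S ⊗[R] LinearMap.ker ρ) :=
        Module.finitePresentation_of_projective_of_exact _ _ h1 h3 h2
      infer_instance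
    have hK1 : Module.Finite R' (R' ⊗[R] LinearMap.ker ρ) := key R'
    haveI hK2' : Module.Finite (Localization.Away f)
        (Localization.Away f ⊗[R] LinearMap.ker ρ) :=
      @key (Localization.Away f) _ _
        (Module.Finite.equiv (LocalizedModule.equivTensorProduct (Submonoid.powers f) M))
        (Module.Projective.of_equiv' (LocalizedModule.equivTensorProduct (Submonoid.powers f) M))
    have hK2 : Module.Finite (Localization.Away f)
        (LocalizedModule (Submonoid.powers f) (LinearMap.ker ρ)) :=
      Module.Finite.equiv
        (LocalizedModule.equivTensorProduct (Submonoid.powers f) (LinearMap.ker ρ)).symm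
    have hK : Module.Finite R (LinearMap.ker ρ) :=
      Groth.Agent.Lead.Glue.finite_of_finite hq _ hK1 hK2
    haveI : Module.FinitePresentation R M :=
      Module.finitePresentation_of_free_of_surjective ρ hρ (Module.Finite.iff_fg.1 hK)
    exact ⟨hfin, Module.Flat.projective_of_finitePresentation⟩

end Groth.Agent.S2003
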