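import Groth.Statements.S2008
import Mathlib
import Groth.Agent.Lib.Lead.FormalGlue
-- import your own Groth.Agent.* helpers here

set_option autoImplicit false
universe u
open TensorProduct
open EtAlg

namespace Groth.Agent.S2008


lemma one_tmul_ne_zero {R S : Type u} [CommRing R] [CommRing S] [Algebra R S] [Module.Flat R S]
    {M : Type u} [AddCommGroup M] [Module R M] (m : M) (Q : Ideal S) (hQ : Q ≠ ⊤)
    (h : LinearMap.ker (LinearMap.toSpanSingleton R M m) ≤ Q.comap (algebraMap R S)) :
    (1 : S) ⊗ₜ[R] m ≠ 0 := by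
  intro h0
  set J : Ideal R := LinearMap.ker (LinearMap.toSpanSingleton R M m) with hJ
  let φ : R ⧸ J →ₗ[R] M := Submodule.liftQ J (LinearMap.toSpanSingleton R M m) le_rfl
  have hφ : Function.Injective φ := by
    rw [← LinearMap.ker_eq_bot]
    exact Submodule.ker_liftQ_eq_bot _ _ _ le_rfl
  have hφS : Function.Injective (φ.lTensor S) :=
    Module.Flat.lTensor_preserves_injective_linearMap φ hφ
  have h1 : φ.lTensor S ((1 : S) ⊗ₜ[R] (1 : R ⧸ J)) = 0 := by
    rw [LinearMap.lTensor_tmul]
    have : φ (1 : R ⧸ J) = m := by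
      show (LinearMap.toSpanSingleton R M m) 1 = m
      simp
    rw [this]; exact h0
  have h2 : (1 : S) ⊗ₜ[R] (1 : R ⧸ J) = 0 := (injective_iff_map_eq_zero _).mp hφS _ h1
  have h3 := congrArg (Algebra.TensorProduct.quotIdealMapEquivTensorQuot S J).symm h2
  rw [map_zero] at h3
  have h4 : (Algebra.TensorProduct.quotIdealMapEquivTensorQuot S J).symm
      ((1 : S) ⊗ₜ[R] (1 : R ⧸ J)) = 1 := by
    rw [← Algebra.TensorProduct.one_def]; exact map_one _
  rw [h4] at h3
  have h5 : (1 : S) ∈ J.map (algebraMap R S) := by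
    rw [← Ideal.Quotient.eq_zero_iff_mem]; exact h3
  exact hQ ((Ideal.eq_top_iff_one Q).mpr (Ideal.map_le_iff_le_comap.mpr h h5))

/-- For a ring map R -> S and an ideal I of R the following are equivalent: (1) S is flat over R and
S/IS is faithfully flat over R/I; (2) S is flat over R and Spec(S/IS) -> Spec(R/I) is surjective;
(3) S is flat over R and S ⊗_R M is nonzero for every nonzero R-module M killed by I; (4) S is flat
over R and S ⊗_R M is nonzero for every nonzero I-power torsion R-module M. (Faithfulness of base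
change on these subcategories is stated as detection of nonzero objects, which is equivalent for an
exact functor.) -/
theorem result (R S : Type u) [CommRing R] [CommRing S] [Algebra R S] (I : Ideal R) :
    List.TFAE [
      Module.Flat R S ∧ Module.FaithfullyFlat (R ⧸ I) (S ⧸ I.map (algebraMap R S)),
      Module.Flat R S ∧ Function.Surjective (PrimeSpectrum.comap (Ideal.quotientMap (I.map (algebraMap R S)) (algebraMap R S) Ideal.le_comap_map)),
      Module.Flat R S ∧ ∀ (M : Type u) [AddCommGroup M] [Module R M], (∀ (a : R) (m : M), a ∈ I → a • m = 0) →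
        Nontrivial M → Nontrivial (S ⊗[R] M),
      Module.Flat R S ∧ ∀ (M : Type u) [AddCommGroup M] [Module R M], (∀ m : M, ∃ n : ℕ, ∀ a ∈ I ^ n, a • m = 0) →
        Nontrivial M → Nontrivial (S ⊗[R] M)] := by
  classical
  have flat_quot : Module.Flat R S → Module.Flat (R ⧸ I) (S ⧸ I.map (algebraMap R S)) := by
    intro _
    exact Module.Flat.of_linearEquiv
      (Algebra.TensorProduct.quotIdealMapEquivQuotTensor S I).toLinearEquiv
  tfae_have 1 → 2 := by
    rintro ⟨hf, hff⟩
    exact ⟨hf, PrimeSpectrum.comap_surjective_of_faithfullyFlat (A := R ⧸ I)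
      (B := S ⧸ I.map (algebraMap R S))⟩
  tfae_have 2 → 1 := by
    rintro ⟨hf, hs⟩
    haveI := flat_quot hf
    exact ⟨hf, Module.FaithfullyFlat.of_comap_surjective hs⟩
  tfae_have 2 → 3 := by
    rintro ⟨hf, hs⟩
    refine ⟨hf, fun M _ _ hM hnt => ?_⟩
    obtain ⟨m, hm⟩ := exists_ne (0 : M)
    set J : Ideal R := LinearMap.ker (LinearMap.toSpanSingleton R M m) with hJ
    have hJtop : J ≠ ⊤ := by
      intro h
      have : (1 : R) ∈ J := h ▸ Submodule.mem_top
      rw [hJ, LinearMap.mem_ker, LinearMap.toSpanSingleton_apply, one_smul] at this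
      exact hm this
    have hIJ : I ≤ J := fun a ha => by
      rw [hJ, LinearMap.mem_ker, LinearMap.toSpanSingleton_apply]; exact hM a m ha
    obtain ⟨𝔪, h𝔪, hJ𝔪⟩ := Ideal.exists_le_maximal J hJtop
    haveI := h𝔪.isPrime
    have hker : RingHom.ker (Ideal.Quotient.mk I) ≤ 𝔪 := by
      rw [Ideal.mk_ker]; exact hIJ.trans hJ𝔪
    haveI : (𝔪.map (Ideal.Quotient.mk I)).IsPrime :=
      Ideal.map_isPrime_of_surjective Ideal.Quotient.mk_surjective hker
    obtain ⟨𝔮, h𝔮⟩ := hs ⟨𝔪.map (Ideal.Quotient.mk I), inferInstance⟩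
    let Q : Ideal S := 𝔮.asIdeal.comap (Ideal.Quotient.mk (I.map (algebraMap R S)))
    have hQtop : Q ≠ ⊤ := Ideal.IsPrime.ne_top inferInstance
    have hQ : Q.comap (algebraMap R S) = 𝔪 := by
      have h1 : Q.comap (algebraMap R S) = (𝔮.asIdeal.comap (Ideal.quotientMap
          (I.map (algebraMap R S)) (algebraMap R S) Ideal.le_comap_map)).comap
          (Ideal.Quotient.mk I) := by
        rw [Ideal.comap_comap, Ideal.comap_comap, Ideal.quotientMap_comp_mk]
      have h2 : 𝔮.asIdeal.comap (Ideal.quotientMap (I.map (algebraMap R S)) (algebraMap R S)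
          Ideal.le_comap_map) = 𝔪.map (Ideal.Quotient.mk I) :=
        congrArg PrimeSpectrum.asIdeal h𝔮
      rw [h1, h2, Ideal.comap_map_of_surjective' _ Ideal.Quotient.mk_surjective, Ideal.mk_ker]
      exact sup_eq_left.mpr (hIJ.trans hJ𝔪)
    have := one_tmul_ne_zero (S := S) m Q hQtop (by rw [hQ]; exact hJ𝔪)
    exact nontrivial_of_ne _ _ this
  tfae_have 3 → 4 := by
    rintro ⟨hf, h3⟩
    refine ⟨hf, fun M _ _ hM hnt => ?_⟩
    let M1 : Submodule R M :=
      { carrier := {m | ∀ a ∈ I, a • m = 0}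
        add_mem' := fun {x y} hx hy a ha => by rw [smul_add, hx a ha, hy a ha, add_zero]
        zero_mem' := fun a _ => smul_zero a
        smul_mem' := fun c x hx a ha => by rw [smul_comm, hx a ha, smul_zero] }
    have hM1 : Nontrivial M1 := by
      obtain ⟨m, hm⟩ := exists_ne (0 : M)
      have hex := hM m
      have hn := Nat.find_spec hex
      have hmin := fun k hk => Nat.find_min hex (m := k) hk
      have hn0 : Nat.find hex ≠ 0 := by
        intro h0
        rw [h0] at hn
        exact hm (by simpa using hn 1 (by simp))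
      obtain ⟨k, hk⟩ := Nat.exists_eq_succ_of_ne_zero hn0
      have hk' := hmin k (by omega)
      obtain ⟨b, hb⟩ := not_forall.mp hk'
      obtain ⟨hb1, hb2⟩ := Classical.not_imp.mp hb
      refine nontrivial_of_ne (⟨b • m, fun a ha => ?_⟩ : M1) 0
        (fun h => hb2 (congrArg Subtype.val h))
      rw [← mul_smul]
      exact hn _ (by rw [hk, pow_succ']; exact Ideal.mul_mem_mul ha hb1)
    haveI := h3 M1 (fun a m ha => Subtype.ext (m.2 a ha)) hM1
    exact (Module.Flat.lTensor_preserves_injective_linearMap M1.subtype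
      M1.injective_subtype).nontrivial
  tfae_have 4 → 3 := by
    rintro ⟨hf, h4⟩
    exact ⟨hf, fun M _ _ hM hnt =>
      h4 M (fun m => ⟨1, fun a ha => hM a m (by simpa using ha)⟩) hnt⟩
  tfae_have 3 → 2 := by
    rintro ⟨hf, h3⟩
    refine ⟨hf, fun 𝔭 => ?_⟩
    let 𝔭' : PrimeSpectrum R := PrimeSpectrum.comap (Ideal.Quotient.mk I) 𝔭
    have hI𝔭 : I ≤ 𝔭'.asIdeal := by
      intro a ha
      show Ideal.Quotient.mk I a ∈ 𝔭.asIdeal
      rw [Ideal.Quotient.eq_zero_iff_mem.mpr ha]; exact zero_mem _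
    haveI hnt : Nontrivial (S ⊗[R] 𝔭'.asIdeal.ResidueField) := by
      refine h3 𝔭'.asIdeal.ResidueField (fun a x ha => ?_) inferInstance
      rw [Algebra.smul_def, Ideal.algebraMap_residueField_eq_zero.mpr (hI𝔭 ha), zero_mul]
    have hnt' : Nontrivial (𝔭'.asIdeal.ResidueField ⊗[R] S) :=
      (TensorProduct.comm R 𝔭'.asIdeal.ResidueField S).toEquiv.nontrivial
    obtain ⟨𝔮', h𝔮'⟩ := (PrimeSpectrum.nontrivial_iff_mem_rangeComap 𝔭').mp hnt'
    have h𝔮'' : 𝔮'.asIdeal.comap (algebraMap R S) = 𝔭'.asIdeal :=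
      congrArg PrimeSpectrum.asIdeal h𝔮'
    have hIS : I.map (algebraMap R S) ≤ 𝔮'.asIdeal := by
      rw [Ideal.map_le_iff_le_comap, h𝔮'']; exact hI𝔭
    have hker : RingHom.ker (Ideal.Quotient.mk (I.map (algebraMap R S))) ≤ 𝔮'.asIdeal := by
      rw [Ideal.mk_ker]; exact hIS
    haveI : (𝔮'.asIdeal.map (Ideal.Quotient.mk (I.map (algebraMap R S)))).IsPrime :=
      Ideal.map_isPrime_of_surjective Ideal.Quotient.mk_surjective hker
    refine ⟨⟨𝔮'.asIdeal.map (Ideal.Quotient.mk _), inferInstance⟩, ?_⟩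
    apply PrimeSpectrum.ext
    apply Ideal.comap_injective_of_surjective (Ideal.Quotient.mk I) Ideal.Quotient.mk_surjective
    show ((𝔮'.asIdeal.map (Ideal.Quotient.mk _)).comap (Ideal.quotientMap
      (I.map (algebraMap R S)) (algebraMap R S) Ideal.le_comap_map)).comap (Ideal.Quotient.mk I)
      = 𝔭.asIdeal.comap (Ideal.Quotient.mk I)
    rw [Ideal.comap_comap, Ideal.quotientMap_comp_mk, ← Ideal.comap_comap,
      Ideal.comap_map_of_surjective' _ Ideal.Quotient.mk_surjective, Ideal.mk_ker,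
      sup_eq_left.mpr hIS]
    exact h𝔮''
  tfae_finish

end Groth.Agent.S2008
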