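import Groth.Statements.S2011
import Mathlib
import Groth.Agent.H3.JacLemma

set_option autoImplicit false
universe u
open EtAlg

namespace Groth.Agent.S2011

/-- Let A be a Noetherian ring and I an ideal contained in the Jacobson radical of A (a Zariski pair).
Then for every f in I the localization A_f is a Jacobson ring. -/
theorem result (A : Type u) [CommRing A] [IsNoetherianRing A] (I : Ideal A)
    (hI : I ≤ (⊥ : Ideal A).jacobson) (f : A) (hf : f ∈ I) : IsJacobsonRing (Localization.Away f) := by
  classical
  rw [isJacobsonRing_iff_prime_eq]
  intro P hP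
  haveI := hP
  refine le_antisymm ?_ Ideal.le_jacobson
  intro x hxJ
  by_contra hxP
  obtain ⟨a, s, rfl⟩ := IsLocalization.exists_mk'_eq (Submonoid.powers f) x
  have haP : algebraMap A (Localization.Away f) a ∉ P := by
    intro h
    apply hxP
    exact (IsLocalization.mk'_mem_iff).mpr h
  have hpprime : (P.comap (algebraMap A (Localization.Away f))).IsPrime := Ideal.comap_isPrime _ _
  have hap : a ∉ P.comap (algebraMap A (Localization.Away f)) := haP
  have hunit : IsUnit (algebraMap A (Localization.Away f) f) :=
    IsLocalization.map_units (Localization.Away f)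
      (⟨f, Submonoid.mem_powers f⟩ : Submonoid.powers f)
  have hfp : f ∉ P.comap (algebraMap A (Localization.Away f)) := by
    intro hf'
    exact hP.ne_top (Ideal.eq_top_of_isUnit_mem _ hf' hunit)
  have hfa : f * a ∉ P.comap (algebraMap A (Localization.Away f)) :=
    fun h => (hpprime.mem_or_mem h).elim hfp hap
  obtain ⟨q, hq, hpq, hfaq, hqmax⟩ :=
    Groth.Agent.H3.JacLemma.exists_prime_above A _ hpprime (f * a) hfa
  haveI := hq
  have hfq : f ∉ q := fun h => hfaq (q.mul_mem_right _ h)
  have haq : a ∉ q := fun h => hfaq (q.mul_mem_left _ h)
  have hdisj : Disjoint (Submonoid.powers f : Set A) (q : Set A) :=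
    (Ideal.disjoint_powers_iff_notMem_of_isPrime f).mpr hfq
  have hMprime : (q.map (algebraMap A (Localization.Away f))).IsPrime :=
    IsLocalization.isPrime_of_isPrime_disjoint (Submonoid.powers f) (Localization.Away f) q hq hdisj
  have hMcomap : (q.map (algebraMap A (Localization.Away f))).comap
      (algebraMap A (Localization.Away f)) = q :=
    IsLocalization.under_map_of_isPrime_disjoint (Submonoid.powers f) (Localization.Away f) hq hdisj
  have hPM : P ≤ q.map (algebraMap A (Localization.Away f)) := by
    have h1 := IsLocalization.map_under (Submonoid.powers f) (Localization.Away f) P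
    rw [← h1]
    exact Ideal.map_mono hpq
  have hMmax : (q.map (algebraMap A (Localization.Away f))).IsMaximal := by
    obtain ⟨N, hN, hMN⟩ := Ideal.exists_le_maximal _ hMprime.ne_top
    haveI := hN.isPrime
    have hq'prime : (N.comap (algebraMap A (Localization.Away f))).IsPrime :=
      Ideal.comap_isPrime _ _
    have hqq' : q ≤ N.comap (algebraMap A (Localization.Away f)) := by
      rw [← hMcomap]
      exact Ideal.comap_mono hMN
    have hfq' : f ∉ N.comap (algebraMap A (Localization.Away f)) := by
      intro hf'
      exact hN.ne_top (Ideal.eq_top_of_isUnit_mem _ hf' hunit)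
    have heq : q = N.comap (algebraMap A (Localization.Away f)) := by
      by_contra hne
      have hlt : q < N.comap (algebraMap A (Localization.Away f)) := lt_of_le_of_ne hqq' hne
      have hmax := hqmax _ hq'prime hlt
      apply hfq'
      have hfj : f ∈ (⊥ : Ideal A).jacobson := hI hf
      rw [Ideal.jacobson, Ideal.mem_sInf] at hfj
      exact hfj ⟨bot_le, hmax⟩
    have hMN' : q.map (algebraMap A (Localization.Away f)) = N := by
      have h1 := IsLocalization.map_under (Submonoid.powers f) (Localization.Away f) N
      rw [← h1]
      exact congrArg (Ideal.map (algebraMap A (Localization.Away f))) heq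
    rw [hMN']
    exact hN
  have hxM : IsLocalization.mk' (Localization.Away f) a s ∈
      q.map (algebraMap A (Localization.Away f)) := by
    have h2 := hxJ
    rw [Ideal.jacobson, Ideal.mem_sInf] at h2
    exact h2 ⟨hPM, hMmax⟩
  have haM : algebraMap A (Localization.Away f) a ∈ q.map (algebraMap A (Localization.Away f)) :=
    IsLocalization.mk'_mem_iff.mp hxM
  have haq' : a ∈ (q.map (algebraMap A (Localization.Away f))).comap
      (algebraMap A (Localization.Away f)) := haM
  rw [hMcomap] at haq'
  exact haq haq'

end Groth.Agent.S2011
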