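import Groth.Statements.S2012
import Mathlib

set_option autoImplicit false
universe u
open EtAlg

namespace Groth.Agent.S2012

/-- Let A be a ring and I an ideal contained in its Jacobson radical. Let B be an A-algebra which is
flat, integral and of finite presentation over A and such that A/I -> B/IB is bijective. Then A -> B
is bijective. -/
theorem result (A B : Type u) [CommRing A] [CommRing B] [Algebra A B]
    (I : Ideal A) (hI : I ≤ (⊥ : Ideal A).jacobson) [Module.Flat A B] [Algebra.IsIntegral A B] [Algebra.FinitePresentation A B]
    (hq : Function.Bijective (Ideal.quotientMap (I.map (algebraMap A B)) (algebraMap A B) Ideal.le_comap_map)) :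
    Function.Bijective (algebraMap A B) := by
  classical
  have hfin : Module.Finite A B := Algebra.IsIntegral.finite
  have hfp : Module.FinitePresentation A B :=
    Module.FinitePresentation.of_finite_of_finitePresentation A B
  have hproj : Module.Projective A B := Module.Flat.projective_of_finitePresentation
  set φ : A →ₗ[A] B := Algebra.linearMap A B with hφ
  have hqm : ∀ a : A, Ideal.quotientMap (I.map (algebraMap A B)) (algebraMap A B) Ideal.le_comap_map
      (Ideal.Quotient.mk I a) = Ideal.Quotient.mk _ (algebraMap A B a) := fun a => rfl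
  -- surjectivity
  have hsurj : Function.Surjective φ := by
    rw [← LinearMap.range_eq_top, eq_top_iff]
    refine Submodule.le_of_le_smul_of_le_jacobson_bot (I := I) Module.Finite.fg_top hI ?_
    intro b _
    obtain ⟨q, hq'⟩ := hq.2 (Ideal.Quotient.mk _ b)
    obtain ⟨a, rfl⟩ := Ideal.Quotient.mk_surjective q
    rw [hqm, Ideal.Quotient.eq] at hq'
    have h1 : b = φ a + (b - algebraMap A B a) := by simp [hφ]
    rw [h1]
    refine Submodule.add_mem_sup ⟨a, rfl⟩ ?_
    rw [Ideal.smul_top_eq_map]
    have : b - algebraMap A B a ∈ I.map (algebraMap A B) := by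
      have := Ideal.neg_mem_iff _ |>.mpr hq'
      simpa using this
    exact this
  refine ⟨?_, hsurj⟩
  -- injectivity
  obtain ⟨s, hs⟩ := Module.projective_lifting_property φ LinearMap.id hsurj
  have hKfg : (LinearMap.ker φ).FG := Module.FinitePresentation.fg_ker φ hsurj
  have hKI : ∀ x ∈ LinearMap.ker φ, x ∈ I := by
    intro x hx
    have h0 : algebraMap A B x = 0 := hx
    have h1 : Ideal.quotientMap (I.map (algebraMap A B)) (algebraMap A B) Ideal.le_comap_map
        (Ideal.Quotient.mk I x) = Ideal.quotientMap (I.map (algebraMap A B)) (algebraMap A B)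
          Ideal.le_comap_map (Ideal.Quotient.mk I 0) := by
      rw [hqm, hqm, h0, map_zero, map_zero, map_zero]
    have h2 := hq.1 h1
    rw [Ideal.Quotient.eq, sub_zero] at h2
    exact h2
  have hKle : LinearMap.ker φ ≤ I • LinearMap.ker φ := by
    intro x hx
    -- π = id - s ∘ φ
    have hπ1 : (1 : A) - s (φ 1) ∈ LinearMap.ker φ := by
      rw [LinearMap.mem_ker, map_sub]
      have := LinearMap.congr_fun hs (φ 1)
      simp only [LinearMap.coe_comp, Function.comp_apply, LinearMap.id_apply] at this
      rw [this, sub_self]
    have hx2 : x = x • ((1 : A) - s (φ 1)) := by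
      rw [smul_sub, ← map_smul, ← map_smul, smul_eq_mul, mul_one]
      have : φ x = 0 := hx
      rw [this, map_zero, sub_zero]
    rw [hx2]
    exact Submodule.smul_mem_smul (hKI x hx) hπ1
  have hK : LinearMap.ker φ = ⊥ :=
    Submodule.eq_bot_of_le_smul_of_le_jacobson_bot I _ hKfg hKle hI
  exact LinearMap.ker_eq_bot.mp hK

end Groth.Agent.S2012
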