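import Groth.Statements.S2014
import Mathlib

set_option autoImplicit false
universe u
open EtAlg

namespace Groth.Agent.S2014

/-- Let R be a Noetherian local ring of Krull dimension 1 and x an element of the maximal ideal
contained in no minimal prime of R. Then the number of minimal prime ideals of R is at most the
length of R/xR as an R-module. -/
theorem result (R : Type u) [CommRing R] [IsNoetherianRing R] [IsLocalRing R]
    (hdim : ringKrullDim R = 1) (x : R) (hx : x ∈ IsLocalRing.maximalIdeal R) (hmin : ∀ p ∈ minimalPrimes R, x ∉ p) :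
    (Set.ncard (minimalPrimes R) : ℕ∞) ≤ Module.length R (R ⧸ Ideal.span {x}) := by
  classical
  have hfin : (minimalPrimes R).Finite := minimalPrimes.finite_of_isNoetherianRing R
  set L : List (Ideal R) := hfin.toFinset.toList with hL
  have hLnodup : L.Nodup := Finset.nodup_toList _
  have hLmem : ∀ p, p ∈ L ↔ p ∈ minimalPrimes R := by
    intro p
    rw [hL, Finset.mem_toList, Set.Finite.mem_toFinset]
  set t : ℕ := L.length with ht
  have htcard : Set.ncard (minimalPrimes R) = t := by
    rw [Set.ncard_eq_toFinset_card _ hfin, ht, hL, Finset.length_toList]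
  let q : Fin t → Ideal R := fun i => L.get i
  have hqmem : ∀ i, q i ∈ minimalPrimes R := fun i => (hLmem _).mp (List.get_mem L i)
  have hqprime : ∀ i, (q i).IsPrime := fun i => (hqmem i).1.1
  have hqinj : Function.Injective q := fun i j h => by
    have := (List.Nodup.get_inj_iff hLnodup).mp h
    exact this
  let Nn : ℕ → Ideal R := fun i => (Finset.univ.filter (fun j : Fin t => (j : ℕ) < i)).inf q
  have hNanti : ∀ i, Nn (i + 1) ≤ Nn i := by
    intro i
    apply Finset.inf_mono
    intro j hj
    simp only [Finset.mem_filter, Finset.mem_univ, true_and] at hj ⊢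
    omega
  let X : Ideal R := Ideal.span {x}
  let π : R →ₗ[R] R ⧸ X := X.mkQ
  let f : ℕ → Submodule R (R ⧸ X) := fun i => Submodule.map π (Nn i ⊔ X)
  have hcomap : ∀ i, Submodule.comap π (f i) = Nn i ⊔ X := by
    intro i
    show Submodule.comap π (Submodule.map π (Nn i ⊔ X)) = _
    rw [Submodule.comap_map_eq, Submodule.ker_mkQ, sup_assoc, sup_idem]
  have hXjac : X ≤ (⊥ : Ideal R).jacobson := by
    rw [IsLocalRing.jacobson_eq_maximalIdeal ⊥ bot_ne_top]
    rw [Ideal.span_le]
    rintro _ rfl
    exact hx
  have hstrict : ∀ i, i < t → f (i + 1) < f i := by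
    intro i hi
    have hle : f (i + 1) ≤ f i := Submodule.map_mono (sup_le_sup_right (hNanti i) _)
    refine lt_of_le_of_ne hle ?_
    intro heq
    have h1 : Nn i ⊔ X = Nn (i + 1) ⊔ X := by rw [← hcomap, ← hcomap, heq]
    -- N_i ≤ N_{i+1} ⊔ X • N_i
    have h2 : Nn i ≤ Nn (i + 1) ⊔ X • Nn i := by
      intro y hy
      have hy' : y ∈ Nn (i + 1) ⊔ X := by rw [← h1]; exact Ideal.mem_sup_left hy
      obtain ⟨z, hz, w, hw, rfl⟩ := Submodule.mem_sup.mp hy'
      obtain ⟨r, rfl⟩ := Ideal.mem_span_singleton'.mp hw
      have hrx : r * x ∈ Nn i := by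
        have := (Nn i).sub_mem hy (hNanti i hz)
        simpa using this
      have hr : r ∈ Nn i := by
        rw [Submodule.mem_finsetInf] at hrx ⊢
        intro j hj
        have := hrx j hj
        rcases (hqprime j).mem_or_mem this with h | h
        · exact h
        · exact absurd h (hmin _ (hqmem j))
      refine Submodule.add_mem_sup hz ?_
      rw [mul_comm]
      exact Submodule.smul_mem_smul (Ideal.mem_span_singleton_self x) hr
    have h3 : Nn i ≤ Nn (i + 1) :=
      Submodule.le_of_le_smul_of_le_jacobson_bot (IsNoetherian.noetherian _) hXjac h2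
    have h4 : Nn (i + 1) ≤ q ⟨i, hi⟩ := by
      apply Finset.inf_le
      simp
    have h5 := h3.trans h4
    obtain ⟨j, hj, hjle⟩ := (hqprime ⟨i, hi⟩).inf_le'.mp h5
    simp only [Finset.mem_filter, Finset.mem_univ, true_and] at hj
    have h6 : q ⟨i, hi⟩ ≤ q j := (hqmem ⟨i, hi⟩).2 (hqmem j).1 hjle
    have h7 : q j = q ⟨i, hi⟩ := le_antisymm hjle h6
    have h8 := hqinj h7
    rw [h8] at hj
    exact lt_irrefl _ hj
  let s : LTSeries (Submodule R (R ⧸ X)) :=
    { length := t
      toFun := fun k => f (t - k)
      step := fun k => by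
        show f (t - (Fin.castSucc k : ℕ)) < f (t - (k.succ : ℕ))
        have hk : (k : ℕ) < t := k.2
        have e1 : t - (Fin.castSucc k : ℕ) = (t - (k : ℕ) - 1) + 1 := by
          simp only [Fin.val_castSucc]; omega
        have e2 : t - (k.succ : ℕ) = t - (k : ℕ) - 1 := by
          simp only [Fin.val_succ]; omega
        rw [e1, e2]
        exact hstrict _ (by omega) }
  have h9 := Order.LTSeries.length_le_krullDim s
  rw [← Module.coe_length] at h9
  rw [htcard]
  have h10 : ((t : ℕ∞) : WithBot ℕ∞) ≤ (Module.length R (R ⧸ X) : WithBot ℕ∞) := by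
    exact_mod_cast h9
  exact_mod_cast h10

end Groth.Agent.S2014
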