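import Groth.Statements.S2017
import Mathlib
-- import your own Groth.Agent.* helpers here

set_option autoImplicit false
universe u
open EtAlg

namespace Groth.Agent.S2017

/-- Let R be a Noetherian ring, A, B, C R-algebras of finite type, f : A -> B a surjective R-algebra map
and g : C -> B an R-algebra map making B a finite C-module. Then the fibre product A ×_B C (the
equalizer of f ∘ pr₁ and g ∘ pr₂ in A × C) is an R-algebra of finite type. -/
theorem result (R A B C : Type u) [CommRing R] [IsNoetherianRing R] [CommRing A] [CommRing B]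
    [CommRing C] [Algebra R A] [Algebra R B] [Algebra R C] [Algebra.FiniteType R A] [Algebra.FiniteType R B]
    [Algebra.FiniteType R C] (f : A →ₐ[R] B) (hf : Function.Surjective f) (g : C →ₐ[R] B)
    (hg : (g.toRingHom).Finite) :
    Algebra.FiniteType R ↥(AlgHom.equalizer (f.comp (AlgHom.fst R A C)) (g.comp (AlgHom.snd R A C))) := by
  classical
  set D := AlgHom.equalizer (f.comp (AlgHom.fst R A C)) (g.comp (AlgHom.snd R A C)) with hD
  have hmemD : ∀ x : A × C, x ∈ D ↔ f x.1 = g x.2 := fun x => by
    rw [hD, AlgHom.mem_equalizer]; rfl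
  letI : Algebra C B := g.toRingHom.toAlgebra
  have hsmulCB : ∀ (c : C) (b : B), c • b = g c * b := fun c b => rfl
  haveI : Module.Finite C B := hg
  obtain ⟨s, hs⟩ := (Module.Finite.fg_top : (⊤ : Submodule C B).FG)
  choose lift hlift using hf
  -- the candidate generating set
  let T : Set (A × C) := {((0 : A), (1 : C)), ((1 : A), (0 : C))} ∪ (fun b : B => (lift b, (0 : C))) '' (s : Set B)
  have hTfin : T.Finite := (Set.toFinite _).union ((Finset.finite_toSet s).image _)
  let N : Submodule D (A × C) := Submodule.span D T
  have h01 : ((0 : A), (1 : C)) ∈ N := Submodule.subset_span (Or.inl (Or.inl rfl))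
  have h10 : ((1 : A), (0 : C)) ∈ N := Submodule.subset_span (Or.inl (Or.inr rfl))
  have hker : ∀ a : A, f a = 0 → (a, (0 : C)) ∈ N := by
    intro a ha
    have hd : (a, (0 : C)) ∈ D := by rw [hmemD]; simp [ha]
    have := N.smul_mem (⟨_, hd⟩ : D) h10
    rw [Subalgebra.smul_def] at this
    simpa using this
  have hcong : ∀ a a' : A, f a = f a' → (a, (0 : C)) ∈ N → (a', (0 : C)) ∈ N := by
    intro a a' h hN
    have h1 := hker (a' - a) (by rw [map_sub, h, sub_self])
    have := N.add_mem hN h1
    simpa using this
  have key : ∀ b : B, b ∈ Submodule.span C (s : Set B) → (lift b, (0 : C)) ∈ N := by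
    intro b hb
    refine Submodule.span_induction (p := fun b _ => (lift b, (0 : C)) ∈ N) ?_ ?_ ?_ ?_ hb
    · intro x hx
      exact Submodule.subset_span (Or.inr ⟨x, hx, rfl⟩)
    · exact hker _ (hlift 0)
    · intro x y _ _ hx hy
      have := N.add_mem hx hy
      refine hcong (lift x + lift y) _ ?_ (by simpa using this)
      rw [map_add, hlift, hlift, hlift]
    · intro c x _ hx
      have hd : (lift (g c), c) ∈ D := by rw [hmemD]; exact hlift _
      have := N.smul_mem (⟨_, hd⟩ : D) hx
      rw [Subalgebra.smul_def] at this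
      refine hcong (lift (g c) * lift x) _ ?_ (by simpa using this)
      rw [map_mul, hlift, hlift, hlift, hsmulCB]
  have htop : (⊤ : Submodule D (A × C)) = N := by
    symm
    rw [eq_top_iff]
    rintro ⟨a, c⟩ -
    have h1 : (a, (0 : C)) ∈ N := by
      have hb : f a ∈ Submodule.span C (s : Set B) := by rw [hs]; trivial
      exact hcong _ _ (hlift _) (key _ hb)
    have h2 : ((0 : A), c) ∈ N := by
      have hd : (lift (g c), c) ∈ D := by rw [hmemD]; exact hlift _
      have := N.smul_mem (⟨_, hd⟩ : D) h01
      rw [Subalgebra.smul_def] at this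
      simpa using this
    have := N.add_mem h1 h2
    simpa using this
  have hBC : (⊤ : Submodule D (A × C)).FG := by
    rw [htop]
    exact ⟨hTfin.toFinset, by simp [N]⟩
  have hAC : (⊤ : Subalgebra R (A × C)).FG := (inferInstance : Algebra.FiniteType R (A × C)).1
  exact ⟨fg_of_fg_of_fg R D (A × C) hAC hBC Subtype.val_injective⟩

end Groth.Agent.S2017
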