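import Groth.Statements.S2018
import Mathlib

set_option autoImplicit false
universe u
open EtAlg

namespace Groth.Agent.S2018

open Polynomial in
/-- Let g : A' -> A be a surjective ring map and f : B -> A an integral ring map. Then the projection
from the fibre product B ×_A A' (the equalizer of f ∘ pr₁ and g ∘ pr₂ in B × A') to A' is integral. -/
theorem result (A A' B : Type u) [CommRing A] [CommRing A'] [CommRing B] (g : A' →+* A)
    (hg : Function.Surjective g) (f : B →+* A) (hf : f.IsIntegral) :
    ((RingHom.snd B A').comp ((f.comp (RingHom.fst B A')).eqLocus (g.comp (RingHom.snd B A'))).subtype).IsIntegral := by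
  intro a'
  obtain ⟨p, hp, hpe⟩ := hf (g a')
  set P := (f.comp (RingHom.fst B A')).eqLocus (g.comp (RingHom.snd B A')) with hP
  set φ : P →+* A' := (RingHom.snd B A').comp P.subtype with hφ
  choose s hs using hg
  let ℓ : B → P := fun b => ⟨(b, s (f b)), by simp [hP, RingHom.mem_eqLocus, hs]⟩
  have hℓ : ∀ b, g (φ (ℓ b)) = f b := fun b => by simp [hφ, ℓ, hs]
  set n := p.natDegree with hn
  let r : P[X] := ∑ i ∈ Finset.range n, C (ℓ (p.coeff i)) * X ^ i
  have hr : r.degree < n := by
    rw [Polynomial.degree_lt_iff_coeff_zero]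
    intro m hm
    simp only [r, Polynomial.finsetSum_coeff, Polynomial.coeff_C_mul_X_pow]
    refine Finset.sum_eq_zero fun i hi => ?_
    have : i < n := Finset.mem_range.mp hi
    rw [if_neg (by omega)]
  let q₀ : P[X] := X ^ n + r
  have hq₀ : q₀.Monic := Polynomial.monic_X_pow_add hr
  set c : A' := eval₂ φ a' q₀ with hc
  have hgc : g c = 0 := by
    rw [hc, Polynomial.hom_eval₂]
    simp only [q₀, r, eval₂_add, eval₂_pow, eval₂_X, eval₂_finsetSum, eval₂_mul, eval₂_C,
      RingHom.comp_apply, hℓ]
    rw [← hpe, Polynomial.eval₂_eq_sum_range, Finset.sum_range_succ, ← hn, hp.coeff_natDegree,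
      map_one, one_mul, add_comm]
  let k : P := ⟨(0, a' * c), by simp [hP, RingHom.mem_eqLocus, hgc]⟩
  have hk : φ k = a' * c := by simp [hφ, k]
  refine ⟨X * q₀ - C k, ?_, ?_⟩
  · rcases subsingleton_or_nontrivial P with hsub | hnt
    · exact Subsingleton.elim _ _
    · have hmon : (X * q₀).Monic := Polynomial.monic_X.mul hq₀
      apply hmon.sub_of_left
      refine (Polynomial.degree_C_le).trans_lt ?_
      rw [← Polynomial.natDegree_pos_iff_degree_pos, Polynomial.natDegree_X_mul hq₀.ne_zero]
      omega
  · rw [eval₂_sub, eval₂_mul, eval₂_X, eval₂_C, hk, ← hc, sub_self]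

end Groth.Agent.S2018
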