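import Groth.Statements.S2022
import Groth.Agent.H11.LiftOnceNil

set_option autoImplicit false
universe u
open Smoothing

namespace Groth.Agent.S2022

open MvPolynomial

section
variable {R Λ : Type u} [CommRing R] [CommRing Λ] [Algebra R Λ] [Module.Flat R Λ]
  (I : Ideal R) (hI : IsNilpotent I) (h : Smoothing.IndSmooth (R ⧸ I) (Λ ⧸ I.map (algebraMap R Λ)))

theorem map_mem {B B₁ : Type u} [CommRing B] [Algebra R B] [CommRing B₁] [Algebra R B₁]
    (α₁ : B →ₐ[R] B₁) (K : Ideal R) {z : B} (hz : z ∈ K.map (algebraMap R B)) :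
    α₁ z ∈ K.map (algebraMap R B₁) := by
  have : (K.map (algebraMap R B)).map α₁.toRingHom = K.map (algebraMap R B₁) := by
    rw [Ideal.map_map, AlgHom.toRingHom_eq_coe, AlgHom.comp_algebraMap]
  rw [← this]
  exact Ideal.mem_map_of_mem _ hz

include hI h in
theorem step' (B : Type u) [CommRing B] [Algebra R B] [Algebra.Smooth R B] (φ : B →ₐ[R] Λ) (t : ℕ) (x : B)
    (hx : x ∈ (I ^ t).map (algebraMap R B)) (hφx : φ x = 0) :
    ∃ (B' : Type u) (_ : CommRing B') (_ : Algebra R B'), Algebra.Smooth R B' ∧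
      ∃ (α : B →ₐ[R] B') (β : B' →ₐ[R] Λ), α x ∈ (I ^ (t + 1)).map (algebraMap R B') ∧
        β.comp α = φ := by
  classical
  obtain ⟨κ, _, ε, bb, hε, hsum⟩ := Groth.Agent.S2023.exists_sum_of_mem_map (I ^ t) x hx
  have hrel0 : ∑ l, ε l • φ (bb l) = 0 := by
    rw [← hφx, hsum, map_sum]
    refine Finset.sum_congr rfl fun l _ => ?_
    rw [map_mul, AlgHom.commutes, Algebra.smul_def]
  obtain ⟨k, a, y, hy, ha⟩ := Module.Flat.isTrivialRelation_of_sum_smul_eq_zero (R := R) (M := Λ) (f := ε)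
    (x := fun l => φ (bb l)) hrel0
  have hy' : ∀ l, φ (bb l) = ∑ j, a l j • y j := hy
  let Cc := MvPolynomial (Fin k) B
  haveI : Algebra.FinitePresentation R B := Algebra.Smooth.finitePresentation
  haveI : Algebra.FinitePresentation R Cc :=
    Algebra.FinitePresentation.mvPolynomial_of_finitePresentation (R := R) (A := B) (Fin k)
  let gen : κ → Cc := fun l => C (bb l) - ∑ j, C (algebraMap R B (a l j)) * X j
  let K : Ideal Cc := Ideal.span (Set.range gen)
  have hKfg : K.FG := ⟨Finset.univ.image gen, by simp [K]⟩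
  haveI : Algebra.FinitePresentation R (Cc ⧸ K) := Algebra.FinitePresentation.quotient hKfg
  obtain ⟨θr, hθC, hθX⟩ : ∃ t : Cc →+* Λ, (∀ b : B, t (C b) = φ b) ∧ (∀ j, t (X j) = y j) :=
    ⟨MvPolynomial.eval₂Hom φ.toRingHom y, fun b => MvPolynomial.eval₂Hom_C _ _ b,
      fun j => MvPolynomial.eval₂Hom_X' _ _ j⟩
  have hθalg : ∀ r : R, θr (algebraMap R Cc r) = algebraMap R Λ r := by
    intro r
    rw [IsScalarTower.algebraMap_apply R B Cc, MvPolynomial.algebraMap_eq, hθC]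
    exact φ.commutes r
  let θ₀ : Cc →ₐ[R] Λ := { toRingHom := θr, commutes' := hθalg }
  have hθ₀ : ∀ z, θ₀ z = θr z := fun _ => rfl
  have hθgen : ∀ l, θr (gen l) = 0 := by
    intro l
    change θr (C (bb l) - ∑ j, C (algebraMap R B (a l j)) * X j) = 0
    rw [map_sub, map_sum, hθC, hy' l, sub_eq_zero]
    refine Finset.sum_congr rfl fun j _ => ?_
    rw [map_mul, hθC, hθX, AlgHom.commutes, Algebra.smul_def]
  have hθK : ∀ z ∈ K, θ₀ z = 0 := by
    intro z hz
    have : K ≤ RingHom.ker θr := by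
      rw [Ideal.span_le]; rintro _ ⟨l, rfl⟩; exact hθgen l
    exact this hz
  let θ : (Cc ⧸ K) →ₐ[R] Λ := Ideal.Quotient.liftₐ K θ₀ hθK
  obtain ⟨B', _, _, hB', J', hJ'I, hJ'fg, g, kk, hgk⟩ := H11.LiftOnceNil.main I hI h θ
  haveI := hB'
  refine ⟨B', inferInstance, inferInstance, hB', ?_⟩
  let γ : B →ₐ[R] B' ⧸ J' :=
    g.comp ((Ideal.Quotient.mkₐ R K).comp (IsScalarTower.toAlgHom R B Cc))
  have hγ : ∀ b, γ b = g (Ideal.Quotient.mk K (C b)) := fun _ => rfl
  let q : B' →ₐ[R] B' ⧸ J' := Ideal.Quotient.mkₐ R J'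
  have hnil : IsNilpotent (RingHom.ker (q : B' →+* B' ⧸ J')) := by
    obtain ⟨N, hN⟩ := hI
    refine ⟨N, ?_⟩
    have : RingHom.ker (q : B' →+* B' ⧸ J') = J' := Ideal.mk_ker
    rw [this]
    have h2 : J' ^ N ≤ (I.map (algebraMap R B')) ^ N := Ideal.pow_right_mono hJ'I N
    rw [← Ideal.map_pow, hN, Ideal.zero_eq_bot, Ideal.map_bot] at h2
    exact le_bot_iff.mp h2
  haveI : Algebra.FormallySmooth R B := Algebra.Smooth.formallySmooth
  let α : B →ₐ[R] B' := Algebra.FormallySmooth.liftOfSurjective γ q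
    (Ideal.Quotient.mkₐ_surjective _ _) hnil
  have hα : ∀ b, Ideal.Quotient.mk J' (α b) = γ b := fun b =>
    Algebra.FormallySmooth.liftOfSurjective_apply γ q (Ideal.Quotient.mkₐ_surjective _ _) hnil b
  let β : B' →ₐ[R] Λ := kk.comp q
  refine ⟨α, β, ?_, ?_⟩
  · -- α x = 0
    choose xt hxt using fun j : Fin k =>
      Ideal.Quotient.mk_surjective (g (Ideal.Quotient.mk K (X j)))
    have hmem : ∀ l, α (bb l) - ∑ j, algebraMap R B' (a l j) * xt j ∈ J' := by
      intro l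
      rw [← Ideal.Quotient.eq, hα, hγ, map_sum]
      have h0 : Ideal.Quotient.mk K (C (bb l)) =
          Ideal.Quotient.mk K (∑ j, C (algebraMap R B (a l j)) * X j) := by
        rw [Ideal.Quotient.eq]
        exact Ideal.subset_span ⟨l, rfl⟩
      rw [h0, map_sum, map_sum]
      refine Finset.sum_congr rfl fun j _ => ?_
      rw [map_mul, map_mul, map_mul, hxt]
      congr 1
      have : (C (algebraMap R B (a l j)) : Cc) = algebraMap R Cc (a l j) := by
        rw [IsScalarTower.algebraMap_apply R B Cc, MvPolynomial.algebraMap_eq]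
      rw [this]
      have h3 : Ideal.Quotient.mk K (algebraMap R Cc (a l j)) = algebraMap R (Cc ⧸ K) (a l j) := rfl
      rw [h3, AlgHom.commutes]
      rfl
    have hprod : ∀ l, algebraMap R B' (ε l) *
        (α (bb l) - ∑ j, algebraMap R B' (a l j) * xt j) ∈ (I ^ (t + 1)).map (algebraMap R B') := by
      intro l
      have h1 := Ideal.mul_mem_mul (Ideal.mem_map_of_mem (algebraMap R B') (hε l)) (hJ'I (hmem l))
      rw [← Ideal.map_mul, ← pow_succ] at h1
      exact h1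
    have key : ∀ l, algebraMap R B' (ε l) * α (bb l) =
        (∑ j, algebraMap R B' (ε l * a l j) * xt j) + algebraMap R B' (ε l) *
        (α (bb l) - ∑ j, algebraMap R B' (a l j) * xt j) := by
      intro l
      have h5 : ∑ j, algebraMap R B' (ε l * a l j) * xt j =
          algebraMap R B' (ε l) * ∑ j, algebraMap R B' (a l j) * xt j := by
        rw [Finset.mul_sum]
        refine Finset.sum_congr rfl fun j _ => ?_
        rw [map_mul]; ring
      rw [h5]; ring
    have hzero : ∑ l, ∑ j, algebraMap R B' (ε l * a l j) * xt j = 0 := by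
      rw [Finset.sum_comm]
      refine Finset.sum_eq_zero fun j _ => ?_
      rw [← Finset.sum_mul, ← map_sum, ha j, map_zero, zero_mul]
    have hαx : α x = ∑ l, algebraMap R B' (ε l) *
        (α (bb l) - ∑ j, algebraMap R B' (a l j) * xt j) := by
      have h6 : α x = ∑ l, algebraMap R B' (ε l) * α (bb l) := by
        rw [hsum, map_sum]
        refine Finset.sum_congr rfl fun l _ => ?_
        rw [map_mul, AlgHom.commutes]
      rw [h6, Finset.sum_congr rfl (fun l _ => key l), Finset.sum_add_distrib, hzero, zero_add]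
    rw [hαx]
    exact Ideal.sum_mem _ fun l _ => hprod l
  · apply AlgHom.ext
    intro b
    change kk (Ideal.Quotient.mk J' (α b)) = φ b
    rw [hα, hγ]
    change (kk.comp g) (Ideal.Quotient.mk K (C b)) = φ b
    rw [hgk]
    change θ₀ (C b) = φ b
    rw [hθ₀, hθC]


include hI h in
theorem many' (t : ℕ) (n : ℕ) : ∀ (B : Type u) [CommRing B] [Algebra R B] [Algebra.Smooth R B]
    (φ : B →ₐ[R] Λ) (hs : Fin n → B), (∀ i, hs i ∈ (I ^ t).map (algebraMap R B)) →
    (∀ i, φ (hs i) = 0) →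
    ∃ (B' : Type u) (_ : CommRing B') (_ : Algebra R B'), Algebra.Smooth R B' ∧
      ∃ (α : B →ₐ[R] B') (β : B' →ₐ[R] Λ),
        (∀ i, α (hs i) ∈ (I ^ (t + 1)).map (algebraMap R B')) ∧ β.comp α = φ := by
  induction n with
  | zero =>
    intro B _ _ hB φ hs _ _
    exact ⟨B, inferInstance, inferInstance, hB, AlgHom.id R B, φ, fun i => i.elim0, AlgHom.comp_id φ⟩
  | succ n ih =>
    intro B _ _ hB φ hs h1 h2
    obtain ⟨B₁, _, _, hB₁, α₁, β₁, hα₁, hβ₁⟩ := step' I hI h B φ t (hs 0) (h1 0) (h2 0)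
    haveI := hB₁
    obtain ⟨B₂, _, _, hB₂, α₂, β₂, hα₂, hβ₂⟩ := ih B₁ β₁ (fun i => α₁ (hs i.succ))
      (fun i => map_mem α₁ _ (h1 i.succ))
      (fun i => by
        change (β₁.comp α₁) (hs i.succ) = 0
        rw [hβ₁]; exact h2 i.succ)
    refine ⟨B₂, inferInstance, inferInstance, hB₂, α₂.comp α₁, β₂, ?_, ?_⟩
    · intro i
      refine Fin.cases ?_ (fun i => ?_) i
      · exact map_mem α₂ _ hα₁
      · exact hα₂ i
    · rw [← AlgHom.comp_assoc, hβ₂, hβ₁]

include hI h in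
theorem iter (N : ℕ) (hN : I ^ N = ⊥) (n : ℕ) (d : ℕ) : ∀ (t : ℕ), N ≤ t + d →
    ∀ (B : Type u) [CommRing B] [Algebra R B] [Algebra.Smooth R B]
    (φ : B →ₐ[R] Λ) (hs : Fin n → B), (∀ i, hs i ∈ (I ^ t).map (algebraMap R B)) →
    (∀ i, φ (hs i) = 0) →
    ∃ (B' : Type u) (_ : CommRing B') (_ : Algebra R B'), Algebra.Smooth R B' ∧
      ∃ (α : B →ₐ[R] B') (β : B' →ₐ[R] Λ), (∀ i, α (hs i) = 0) ∧ β.comp α = φ := by
  induction d with
  | zero =>
    intro t ht B _ _ hB φ hs h1 _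
    refine ⟨B, inferInstance, inferInstance, hB, AlgHom.id R B, φ, fun i => ?_, AlgHom.comp_id φ⟩
    have h3 : I ^ t ≤ I ^ N := Ideal.pow_le_pow_right (by omega)
    have h4 := Ideal.map_mono (f := algebraMap R B) h3 (h1 i)
    rw [hN, Ideal.map_bot, Ideal.mem_bot] at h4
    exact h4
  | succ d ih =>
    intro t ht B _ _ hB φ hs h1 h2
    obtain ⟨B₁, _, _, hB₁, α₁, β₁, hα₁, hβ₁⟩ := many' I hI h t n B φ hs h1 h2
    haveI := hB₁
    obtain ⟨B₂, _, _, hB₂, α₂, β₂, hα₂, hβ₂⟩ := ih (t + 1) (by omega) B₁ β₁ (fun i => α₁ (hs i))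
      hα₁ (fun i => by
        change (β₁.comp α₁) (hs i) = 0
        rw [hβ₁]; exact h2 i)
    refine ⟨B₂, inferInstance, inferInstance, hB₂, α₂.comp α₁, β₂, hα₂, ?_⟩
    rw [← AlgHom.comp_assoc, hβ₂, hβ₁]

end


/-- Let `I` be a nilpotent ideal of `R` and `Λ` a flat `R`-algebra such that `Λ/IΛ` is ind-smooth over
`R/I` (every map from a finitely presented algebra factors through a smooth one). Then `Λ` is
ind-smooth over `R`. -/
theorem result {R Λ : Type u} [CommRing R] [CommRing Λ]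
    [Algebra R Λ] (I : Ideal R) (hI : IsNilpotent I) [Module.Flat R Λ]
    (h : Smoothing.IndSmooth (R ⧸ I) (Λ ⧸ I.map (algebraMap R Λ))) :
    Smoothing.IndSmooth R Λ := by
  intro A _ _ hfp f
  haveI := hfp
  obtain ⟨B, _, _, hB, J, hJI, hJfg, g, k, hgk⟩ := H11.LiftOnceNil.main I hI h f
  haveI := hB
  obtain ⟨n, hs, hspan⟩ := (Submodule.fg_iff_exists_fin_generating_family).mp hJfg
  have hmem : ∀ i, hs i ∈ J := fun i => hspan ▸ Submodule.subset_span ⟨i, rfl⟩
  let φB : B →ₐ[R] Λ := k.comp (Ideal.Quotient.mkₐ R J)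
  have hφB : ∀ i, φB (hs i) = 0 := by
    intro i
    change k (Ideal.Quotient.mk J (hs i)) = 0
    rw [Ideal.Quotient.eq_zero_iff_mem.mpr (hmem i), map_zero]
  obtain ⟨N, hN⟩ := id hI
  obtain ⟨B', _, _, hB', α, β, hα, hβ⟩ := iter I hI h N (by rw [hN, Ideal.zero_eq_bot]) n N 1
    (by omega) B φB hs (fun i => by rw [pow_one]; exact hJI (hmem i)) hφB
  have hαJ : ∀ x ∈ J, α x = 0 := by
    intro x hx
    have : J ≤ RingHom.ker α.toRingHom := by
      rw [← hspan]
      change Ideal.span (Set.range hs) ≤ _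
      rw [Ideal.span_le]
      rintro _ ⟨i, rfl⟩
      exact hα i
    exact this hx
  refine ⟨B', inferInstance, inferInstance, hB', (Ideal.Quotient.liftₐ J α hαJ).comp g, β, ?_⟩
  apply AlgHom.ext
  intro a
  obtain ⟨b, hb⟩ := Ideal.Quotient.mk_surjective (g a)
  change β (Ideal.Quotient.liftₐ J α hαJ (g a)) = f a
  rw [← hb]
  change β (α b) = f a
  have h1 : β (α b) = φB b := AlgHom.congr_fun hβ b
  rw [h1]
  change k (Ideal.Quotient.mk J b) = f a
  rw [hb]
  exact AlgHom.congr_fun hgk a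

end Groth.Agent.S2022
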