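import Mathlib
import Groth.Agent.H11.StdElt
import Groth.Statements.S2108

set_option autoImplicit false
universe u
open Smoothing

namespace Groth.Agent.S2108

/-- Let `A = R[x_1, …, x_n]/(f_1, …, f_m)` and `𝔮` a prime of `A` at which `R → A` is smooth. Then there
are `a ∈ A ∖ 𝔮`, an integer `c` and injections picking `c` relations and `c` variables such that `a`
is a multiple of the image of the corresponding Jacobian minor and `a f_ℓ` lies in the ideal
generated by the chosen relations plus the square of the relation ideal, for every `ℓ`. -/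
theorem result {R A : Type u} [CommRing R] [CommRing A] [Algebra R A] {n m : ℕ}
    (f : Fin m → MvPolynomial (Fin n) R) (φ : MvPolynomial (Fin n) R →ₐ[R] A) (hφ : Function.Surjective φ)
    (hker : RingHom.ker φ.toRingHom = Ideal.span (Set.range f)) (q : Ideal A) [q.IsPrime] [Algebra.IsSmoothAt R q] :
    ∃ a : A, a ∉ q ∧ ∃ (c : ℕ) (rows : Fin c ↪ Fin m) (cols : Fin c ↪ Fin n) (a' : A),
      a = a' * φ (Smoothing.jacobianMinor f rows cols) ∧
      ∀ a₁ : MvPolynomial (Fin n) R, φ a₁ = a → ∀ ℓ : Fin m,
        a₁ * f ℓ ∈ Ideal.span (Set.range (f ∘ rows)) ⊔ Ideal.span (Set.range f) ^ 2 := by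

  classical
  let G : Algebra.Generators R A (Fin n) := Algebra.Generators.ofAlgHom φ hφ
  have hval : ∀ p : MvPolynomial (Fin n) R, algebraMap G.toExtension.Ring A p = φ p := by
    intro p
    change MvPolynomial.aeval (φ ∘ MvPolynomial.X) p = φ p
    congr 1
    ext i
    simp
  have hmemker : ∀ p : G.toExtension.Ring, p ∈ G.toExtension.ker ↔ φ p = 0 := by
    intro p
    have h := hval p
    constructor
    · intro hp
      exact h.symm.trans (RingHom.mem_ker.1 hp)
    · intro hp
      exact RingHom.mem_ker.2 (h.trans hp)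
  have hEker : Ideal.span (Set.range (f : Fin m → G.toExtension.Ring)) = G.toExtension.ker := by
    have h1 : G.toExtension.ker = RingHom.ker φ.toRingHom :=
      Ideal.ext fun p => (hmemker p).trans RingHom.mem_ker.symm
    exact (h1.trans hker).symm
  obtain ⟨a, ha, c, rows, cols, a', h1, h2⟩ := Groth.Agent.H11.StdElt.main G f hEker q
  refine ⟨a, ha, c, rows, cols, a', h1.trans ?_, ?_⟩
  · exact congrArg (fun z => a' * z) (hval (Smoothing.jacobianMinor f rows cols))
  · intro a₁ ha₁ ℓ
    exact h2 a₁ ((hval a₁).trans ha₁) ℓ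

end Groth.Agent.S2108
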