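import Mathlib
import Groth.Agent.H11.StrictStd
import Groth.Agent.S2108
import Groth.Statements.S2026

set_option autoImplicit false
universe u
open Smoothing

namespace Groth.Agent.S2026

/-- For a finitely presented `R`-algebra `A`, the singular ideal (functions vanishing on the non-smooth
locus) coincides with the radical of the ideal spanned by all strictly standard elements, and
equally with the radical of the ideal spanned by all elementary standard elements. -/
theorem result {R A : Type u} [CommRing R] [CommRing A]
    [Algebra R A] [Algebra.FinitePresentation R A] :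
    Smoothing.singularIdeal R A = (Ideal.span {a : A | Smoothing.IsStrictlyStandard R A a}).radical ∧
      Smoothing.singularIdeal R A =
        (Ideal.span {a : A | Smoothing.IsElementaryStandard R A a}).radical := by

  classical
  -- a finite presentation with enumerated relations
  obtain ⟨n, φ, hφ, hfg⟩ := (Algebra.FinitePresentation.out : ∃ (n : ℕ)
    (f : MvPolynomial (Fin n) R →ₐ[R] A), Function.Surjective f ∧ (RingHom.ker f.toRingHom).FG)
  obtain ⟨s, hs⟩ := hfg
  let rel : Fin s.card → MvPolynomial (Fin n) R := fun i => (s.equivFin.symm i : MvPolynomial (Fin n) R)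
  have hrange : Set.range rel = (s : Set (MvPolynomial (Fin n) R)) := by
    have : rel = Subtype.val ∘ s.equivFin.symm := rfl
    rw [this, s.equivFin.symm.surjective.range_comp, Subtype.range_coe]
  have hker : RingHom.ker φ.toRingHom = Ideal.span (Set.range rel) := by
    rw [hrange, hs]
  -- step 1
  have h1 : Smoothing.singularIdeal R A ≤
      (Ideal.span {a : A | Smoothing.IsElementaryStandard R A a}).radical := by
    rw [Ideal.radical_eq_sInf]
    refine le_sInf ?_
    rintro p ⟨hp, hpprime⟩
    haveI := hpprime
    have hns : (⟨p, hpprime⟩ : PrimeSpectrum A) ∈ (Algebra.smoothLocus R A)ᶜ := by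
      intro hsm
      haveI : Algebra.IsSmoothAt R p := hsm
      obtain ⟨a, hap, c, rows, cols, a', ha', hkill⟩ :=
        Groth.Agent.S2108.result rel φ hφ hker p
      apply hap
      apply hp
      apply Ideal.subset_span
      exact Groth.Agent.H11.StdReindex.isElementaryStandard_of_rows_cols rel φ hφ hker rows cols
        a a' ha' hkill
    intro x hx
    exact (PrimeSpectrum.mem_vanishingIdeal _ _).1 hx ⟨p, hpprime⟩ hns
  -- step 2
  have h2 : (Ideal.span {a : A | Smoothing.IsElementaryStandard R A a}).radical ≤
      (Ideal.span {a : A | Smoothing.IsStrictlyStandard R A a}).radical :=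
    Ideal.radical_mono (Ideal.span_mono fun a ha =>
      Groth.Agent.H11.StrictStd.isStrictlyStandard_of_isElementaryStandard a ha)
  -- step 3
  have h3 : (Ideal.span {a : A | Smoothing.IsStrictlyStandard R A a}).radical ≤
      Smoothing.singularIdeal R A := by
    have hrad : (Smoothing.singularIdeal R A).IsRadical :=
      PrimeSpectrum.isRadical_vanishingIdeal _
    rw [hrad.radical_le_iff, Ideal.span_le]
    intro a ha
    change a ∈ PrimeSpectrum.vanishingIdeal (Algebra.smoothLocus R A)ᶜ
    rw [PrimeSpectrum.mem_vanishingIdeal]
    intro x hx
    by_contra hax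
    exact hx (Groth.Agent.H11.StrictStd.isSmoothAt_of_isStrictlyStandard a ha x.asIdeal hax)
  exact ⟨le_antisymm (h1.trans h2) h3, le_antisymm h1 (h2.trans h3)⟩

end Groth.Agent.S2026
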