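import Mathlib
import Groth.Agent.H11.StrictStdFree
import Groth.Agent.H11.StrictStd
import Groth.Statements.S2030

set_option autoImplicit false
universe u
open Smoothing

namespace Groth.Agent.S2030

/-- If `a` is strictly standard in the finitely presented `R`-algebra `A`, then the localization `A_a`
is smooth over `R` and its module of Kaehler differentials over `R` is stably free (free after
adding a finite free module). -/
theorem result {R A : Type u} [CommRing R] [CommRing A]
    [Algebra R A] (a : A) (ha : Smoothing.IsStrictlyStandard R A a) :
    Algebra.Smooth R (Localization.Away a) ∧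
      ∃ p q : ℕ, Nonempty ((Ω[Localization.Away a⁄R] × (Fin p → Localization.Away a)) ≃ₗ[Localization.Away a]
        (Fin q → Localization.Away a)) := by

  classical
  obtain ⟨P, hspan, hkill⟩ := ha
  haveI hfp : Algebra.FinitePresentation R A :=
    Algebra.FinitePresentation.of_surjective P.surj (by
      rw [P.ker_eq]
      exact Submodule.fg_span (Set.finite_range _))
  have hsub : (PrimeSpectrum.basicOpen a : Set (PrimeSpectrum A)) ⊆ Algebra.smoothLocus R A :=
    fun q hq => Groth.Agent.H11.StrictStd.isSmoothAt_of_isStrictlyStandard a ⟨P, hspan, hkill⟩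
      q.asIdeal hq
  have hsm : Algebra.Smooth R (Localization.Away a) :=
    Algebra.basicOpen_subset_smoothLocus_iff_smooth.1 hsub
  refine ⟨hsm, P.c, P.n, ?_⟩
  let G : Algebra.Generators R A (Fin P.n) := Algebra.Generators.ofAlgHom P.hom P.surj
  have hval : ∀ p : MvPolynomial (Fin P.n) R, algebraMap G.toExtension.Ring A p = P.hom p := by
    intro p
    change MvPolynomial.aeval (P.hom ∘ MvPolynomial.X) p = P.hom p
    congr 1
    ext i
    simp
  have hmemker : ∀ p : G.toExtension.Ring, p ∈ G.toExtension.ker ↔ P.hom p = 0 := by
    intro p
    have h := hval p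
    constructor
    · intro hp
      exact h.symm.trans (RingHom.mem_ker.1 hp)
    · intro hp
      exact RingHom.mem_ker.2 (h.trans hp)
  have hEker : Ideal.span (Set.range (P.rel : Fin P.m → G.toExtension.Ring)) = G.toExtension.ker := by
    have h1 : G.toExtension.ker = RingHom.ker P.hom.toRingHom :=
      Ideal.ext fun p => (hmemker p).trans RingHom.mem_ker.symm
    exact (h1.trans P.ker_eq).symm
  refine Groth.Agent.H11.StrictStdFree.main G P.rel hEker P.hcm a ?_ ?_
  · convert hspan using 4 with cols
    exact hval _
  · intro a' ha' j hj
    exact hkill a' ((hval a').symm.trans ha') j hj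

end Groth.Agent.S2030
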