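import Groth.Statements.S2035
import Mathlib
import Groth.Agent.H27.RegSmooth
import Groth.Agent.H27.FieldSmooth
import Groth.Agent.S9318
import Groth.Agent.S19474

set_option autoImplicit false
universe u
open CAlg

namespace Groth.Agent.S2035

/-- Let `k` be a field of characteristic zero and `A` a Noetherian local `k`-algebra. Then `A` is a
regular local ring if and only if `k → A` is formally smooth for the adic topology of the maximal
ideal. -/
theorem result {k A : Type u} [Field k] [CharZero k]
    [CommRing A] [IsLocalRing A] [IsNoetherianRing A] [Algebra k A] :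
    IsRegularLocalRing A ↔ CAlgX.IsAdicFormallySmooth k A (IsLocalRing.maximalIdeal A) := by
  have hI : IsLocalRing.maximalIdeal A ≠ ⊤ := (IsLocalRing.maximalIdeal.isMaximal A).ne_top
  haveI := Groth.Agent.S19474.isNoetherianRing_adicCompletion A (IsLocalRing.maximalIdeal A)
  have hreg := (Groth.Agent.S19474.result A _ hI).2
  have hfg : (IsLocalRing.maximalIdeal A).FG := IsNoetherian.noetherian _
  have hsm := Groth.Agent.S9318.result (R := k) (IsLocalRing.maximalIdeal A) hfg
  have hmax := AdicCompletion.maximalIdeal_eq_map (R := A)
  haveI : Algebra.FormallySmooth k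
      (IsLocalRing.ResidueField (AdicCompletion (IsLocalRing.maximalIdeal A) A)) :=
    Groth.Agent.H27.FieldSmooth.formallySmooth_of_charZero k _
  rw [hreg, hsm, ← hmax]
  constructor
  · intro h
    haveI := h
    exact Groth.Agent.H27.RegSmooth.adicSmooth_of_regular k _
  · intro h
    exact Groth.Agent.H27.RegSmooth.regular_of_adicSmooth k _ h

end Groth.Agent.S2035
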