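import Groth.Statements.S2044
import Mathlib
import Groth.Agent.Lib.Helper26.IdemMatrix

set_option autoImplicit false
universe u
open CAlg

namespace Groth.Agent.S2044

open TensorProduct in
/-- Let `I ⊆ A` be an ideal and `P` a finite projective `A/I`-module. Then there is an étale `A`-algebra
`A'` with `A/I → A'/IA'` bijective and a finite projective `A'`-module whose reduction modulo `IA'`
is the base change of `P`. -/
theorem result {A : Type u} [CommRing A] (I : Ideal A) (P : Type u)
    [AddCommGroup P] [Module (A ⧸ I) P] [Module.Finite (A ⧸ I) P] [Module.Projective (A ⧸ I) P] :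
    ∃ (A' : Type u) (_ : CommRing A') (_ : Algebra A A'), Algebra.Etale A A' ∧
      Function.Bijective (algebraMap (A ⧸ I) (A' ⧸ I.map (algebraMap A A'))) ∧
      ∃ (P' : Type u) (_ : AddCommGroup P') (_ : Module A' P'), Module.Finite A' P' ∧
        Module.Projective A' P' ∧
        Nonempty (((A' ⧸ I.map (algebraMap A A')) ⊗[A'] P') ≃ₗ[A' ⧸ I.map (algebraMap A A')]
          ((A' ⧸ I.map (algebraMap A A')) ⊗[A ⧸ I] P)) := by
  classical
  obtain ⟨n, ε, hε, ⟨eP⟩⟩ := Groth.Agent.Helper26.IdemMatrix.exists_equiv_Im (R := A ⧸ I) P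
  obtain ⟨A', _, _, hA', hbij, e', he'idem, he'map⟩ :=
    Groth.Agent.Helper26.IdemMatrix.exists_idem_matrix_lift I ε hε
  refine ⟨A', inferInstance, inferInstance, hA', hbij, Groth.Agent.Helper26.IdemMatrix.Im e',
    inferInstance, inferInstance, inferInstance,
    Groth.Agent.Helper26.IdemMatrix.projective_Im he'idem, ?_⟩
  obtain ⟨b1⟩ := Groth.Agent.Helper26.IdemMatrix.baseChange_range_equiv
    (S := A' ⧸ I.map (algebraMap A A')) e' he'idem
    (ε.map (algebraMap (A ⧸ I) (A' ⧸ I.map (algebraMap A A')))) he'map.symm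
  obtain ⟨b2⟩ := Groth.Agent.Helper26.IdemMatrix.baseChange_range_equiv
    (S := A' ⧸ I.map (algebraMap A A')) ε hε
    (ε.map (algebraMap (A ⧸ I) (A' ⧸ I.map (algebraMap A A')))) rfl
  exact ⟨b1.trans (b2.symm.trans
    (TensorProduct.AlgebraTensorModule.congr (LinearEquiv.refl _ _) eP.symm))⟩

end Groth.Agent.S2044
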