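import Groth.Statements.S2057
import Groth.Agent.Lib.Helper12.PureSplit
import Groth.Agent.Lib.Helper12.TensorPi
import Groth.Agent.S2056

set_option autoImplicit false
universe u
open CAlg

namespace Groth.Agent.S2057

/-- An injective linear map `f : M₁ → M₂` is universally injective if and only if: whenever elements
`x_i` of `M₁` satisfy `f(x_i) = Σ_j a_{ij} y_j` for some `y_j ∈ M₂` and scalars `a_{ij}`, there are
`z_j ∈ M₁` with `x_i = Σ_j a_{ij} z_j`. -/
theorem result {R M₁ M₂ : Type u} [CommRing R] [AddCommGroup M₁]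
    [Module R M₁] [AddCommGroup M₂] [Module R M₂] (f : M₁ →ₗ[R] M₂) (hf : Function.Injective f) :
    CAlgX.UniversallyInjective R f ↔
      ∀ (n m : ℕ) (x : Fin n → M₁) (y : Fin m → M₂) (a : Fin n → Fin m → R),
        (∀ i, f (x i) = ∑ j, a i j • y j) → ∃ z : Fin m → M₁, ∀ i, x i = ∑ j, a i j • z j := by
  constructor
  · intro h n m x y a hxy
    exact Groth.Agent.Helper12.exists_solution_of_univInj f h a x y hxy
  · intro heq
    rw [Groth.Agent.S2056.result]
    intro Q _ _ hQ
    obtain ⟨n, e, he⟩ := Module.Finite.exists_fin (R := R) (M := Q)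
    rw [injective_iff_map_eq_zero]
    intro x hx
    obtain ⟨xs, hxs⟩ := Groth.Agent.Helper12.exists_eq_sum_tmul e he M₁
      (TensorProduct.comm R M₁ Q x)
    have hx' : x = ∑ k, xs k ⊗ₜ[R] e k := by
      have := congrArg (TensorProduct.comm R M₁ Q).symm hxs
      simpa using this
    have h0 : ∑ k, e k ⊗ₜ[R] f (xs k) = 0 := by
      have := congrArg (TensorProduct.comm R M₂ Q) hx
      rw [hx'] at this
      simpa using this
    obtain ⟨κ, α, y, hy, hα⟩ := TensorProduct.vanishesTrivially_of_sum_tmul_eq_zero R he h0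
    obtain ⟨z, hz⟩ := heq n κ xs y α hy
    rw [hx']
    simp_rw [hz, TensorProduct.sum_tmul, TensorProduct.smul_tmul]
    rw [Finset.sum_comm]
    simp_rw [← TensorProduct.tmul_sum, hα, TensorProduct.tmul_zero, Finset.sum_const_zero]

end Groth.Agent.S2057
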