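import Groth.Statements.S2061
import Groth.Agent.H29.ABMore
import Groth.Agent.H29.SerreConverse
import Groth.Agent.H29.Depth

set_option autoImplicit false
universe u
open CategoryTheory
open CAlg

namespace Groth.Agent.S2061

/-- For a Noetherian local ring `R` write `𝔪` for its maximal ideal and `κ` for its residue field. The
projective dimension of `κ` as an `R`-module is at least the `κ`-dimension of `𝔪/𝔪²`: if `κ` has
projective dimension less than `d` then `dim_κ 𝔪/𝔪² < d`. -/
theorem result {R : Type u} [CommRing R] [IsLocalRing R]
    [IsNoetherianRing R] (d : ℕ)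
    (hd : HasProjectiveDimensionLT (ModuleCat.of R (IsLocalRing.ResidueField R)) d) :
    Module.finrank (IsLocalRing.ResidueField R) (IsLocalRing.CotangentSpace R) < d := by
  have hreg : IsRegularLocalRing R :=
    Groth.Agent.H29.isRegularLocalRing_of_hasProjectiveDimensionLT_residueField R d hd
  obtain ⟨n, hn⟩ := Groth.Agent.H29.ringKrullDim_eq_natCast_of_isLocalRing R
  have hcot : Module.finrank (IsLocalRing.ResidueField R) (IsLocalRing.CotangentSpace R) = n := by
    have h1 := (IsRegularLocalRing.iff_finrank_cotangentSpace (R := R)).mp hreg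
    rw [hn] at h1
    exact_mod_cast h1
  obtain ⟨e, hen, he1, he2, he3, _⟩ :=
    Groth.Agent.H29.exists_pd_eq_of_isRegularLocalRing R n hn (IsLocalRing.ResidueField R)
  have hdepth : LocCoh.depth R (IsLocalRing.ResidueField R) = 0 := by
    rw [Groth.Agent.H29.depth_eq_zero_iff]
    intro x hx hreg'
    have h0 : x • (1 : IsLocalRing.ResidueField R) = x • (0 : IsLocalRing.ResidueField R) := by
      rw [smul_zero, Algebra.smul_def, mul_one]
      exact (IsLocalRing.residue_eq_zero_iff x).mpr hx
    exact one_ne_zero (hreg' h0)
  rw [hdepth, zero_add] at he3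
  have hen' : e = n := by exact_mod_cast he3
  subst hen'
  rw [hcot]
  by_contra hlt
  push Not at hlt
  exact he2 (hasProjectiveDimensionLT_of_ge _ d _ hlt)

end Groth.Agent.S2061
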