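import Groth.Statements.S2063
import Mathlib
import Groth.Agent.S2790
import Groth.Agent.S2789
import Groth.Agent.S2141
import Groth.Agent.S2143
import Groth.Agent.S2680
import Groth.Agent.S11457
import Groth.Agent.H29.RegLocal3
import Groth.Agent.H11.Cartier

set_option autoImplicit false
universe u
open CAlg

namespace Groth.Agent.S2063

open TensorProduct in
/-- Let `S` be of finite type over a field `k` and `𝔮` a prime of `S`. Smoothness of `S` over `k` at `𝔮`
holds exactly when the `κ(𝔮)`-dimension of `Ω_{S/k} ⊗ κ(𝔮)` is at most the local dimension of `Spec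
S` at `𝔮`. -/
theorem result {k S : Type u} [Field k] [CommRing S] [Algebra k S]
    [Algebra.FiniteType k S] (q : Ideal S) [q.IsPrime] :
    Algebra.IsSmoothAt k q ↔
      ((Module.finrank q.ResidueField (q.ResidueField ⊗[S] Ω[S⁄k]) : ℕ∞) : WithBot ℕ∞) ≤
        FlatMor.localDim (PrimeSpectrum S) ⟨q, inferInstance⟩ := by
  classical
  haveI hNS : IsNoetherianRing S := Algebra.FiniteType.isNoetherianRing k S
  haveI hNL : IsNoetherianRing (Localization.AtPrime q) :=
    IsLocalization.isNoetherianRing q.primeCompl (Localization.AtPrime q) hNS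
  haveI hfetS : Algebra.FormallyEtale S (Localization.AtPrime q) :=
    Algebra.FormallyEtale.of_isLocalization (Rₘ := Localization.AtPrime q) q.primeCompl
  haveI hfpS : Algebra.FinitePresentation k S := Algebra.FinitePresentation.of_finiteType.mp inferInstance
  let e1 : Localization.AtPrime q ⊗[S] Ω[S⁄k] ≃ₗ[Localization.AtPrime q]
      Ω[Localization.AtPrime q⁄k] :=
    KaehlerDifferential.tensorKaehlerEquivOfFormallyEtale k S (Localization.AtPrime q)
  let Ψ : q.ResidueField ⊗[S] Ω[S⁄k] ≃ₗ[q.ResidueField]
      q.ResidueField ⊗[Localization.AtPrime q] Ω[Localization.AtPrime q⁄k] :=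
    (TensorProduct.AlgebraTensorModule.cancelBaseChange S (Localization.AtPrime q)
      q.ResidueField q.ResidueField (Ω[S⁄k])).symm ≪≫ₗ
      TensorProduct.AlgebraTensorModule.congr (LinearEquiv.refl q.ResidueField q.ResidueField) e1
  have hΨ : ∀ ω : Ω[S⁄k], Ψ ((1 : q.ResidueField) ⊗ₜ[S] ω) =
      (1 : q.ResidueField) ⊗ₜ[Localization.AtPrime q]
        (KaehlerDifferential.map k k S (Localization.AtPrime q) ω) := by
    intro ω
    show TensorProduct.AlgebraTensorModule.congr (LinearEquiv.refl q.ResidueField q.ResidueField) e1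
      ((TensorProduct.AlgebraTensorModule.cancelBaseChange S (Localization.AtPrime q)
      q.ResidueField q.ResidueField (Ω[S⁄k])).symm ((1 : q.ResidueField) ⊗ₜ[S] ω)) = _
    rw [TensorProduct.AlgebraTensorModule.cancelBaseChange_symm_tmul,
      TensorProduct.AlgebraTensorModule.congr_tmul]
    show (1 : q.ResidueField) ⊗ₜ[Localization.AtPrime q]
      (KaehlerDifferential.mapBaseChange k S (Localization.AtPrime q)
        ((1 : Localization.AtPrime q) ⊗ₜ[S] ω)) = _
    rw [KaehlerDifferential.mapBaseChange_tmul, one_smul]
  have hcast : ∀ a b : ℕ, (a : WithBot ℕ∞) = (b : WithBot ℕ∞) → a = b := by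
    intro a b h
    have h' : ((a : ℕ∞) : WithBot ℕ∞) = ((b : ℕ∞) : WithBot ℕ∞) := h
    exact_mod_cast WithBot.coe_injective h'
  have hcastle : ∀ a b : ℕ, (a : WithBot ℕ∞) ≤ (b : WithBot ℕ∞) → a ≤ b := by
    intro a b h
    have h' : ((a : ℕ∞) : WithBot ℕ∞) ≤ ((b : ℕ∞) : WithBot ℕ∞) := h
    exact_mod_cast WithBot.coe_le_coe.1 h'
  have hcastadd : ∀ a b : ℕ, ((a + b : ℕ) : WithBot ℕ∞) =
      (a : WithBot ℕ∞) + (b : WithBot ℕ∞) := by
    intro a b; push_cast; rfl
  obtain ⟨dq, hdq⟩ := Groth.Agent.H29.ringKrullDim_eq_natCast_of_isLocalRing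
    (Localization.AtPrime q)
  haveI hessq : Algebra.EssFiniteType k q.ResidueField :=
    Algebra.EssFiniteType.of_surjective
      (IsScalarTower.toAlgHom k (Localization.AtPrime q) q.ResidueField)
      IsLocalRing.residue_surjective
  obtain ⟨_, _, htrq, _⟩ := Groth.Agent.H11.Cartier.cartier k q.ResidueField
  obtain ⟨tq, htq⟩ := Cardinal.lt_aleph0.1 htrq
  have hloc := Groth.Agent.S2141.result q tq htq
  rw [hdq, ← hcastadd] at hloc
  -- generators
  have hspanT : Submodule.span q.ResidueField
      (Set.range fun s : S => (1 : q.ResidueField) ⊗ₜ[S] KaehlerDifferential.D k S s) = ⊤ := by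
    rw [eq_top_iff]
    intro v hv
    clear hv
    induction v using TensorProduct.induction_on with
    | zero => exact zero_mem _
    | add x y hx hy => exact add_mem hx hy
    | tmul c ω =>
      have hc : c ⊗ₜ[S] ω = c • ((1 : q.ResidueField) ⊗ₜ[S] ω) := by
        rw [TensorProduct.smul_tmul', smul_eq_mul, mul_one]
      rw [hc]
      clear hc
      refine Submodule.smul_mem _ _ ?_
      have hω : ω ∈ Submodule.span S (Set.range (KaehlerDifferential.D k S)) := by
        rw [KaehlerDifferential.span_range_derivation]; trivial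
      induction hω using Submodule.span_induction with
      | mem y hy => obtain ⟨s, rfl⟩ := hy; exact Submodule.subset_span ⟨s, rfl⟩
      | zero => rw [TensorProduct.tmul_zero]; exact zero_mem _
      | add y z _ _ hy hz => rw [TensorProduct.tmul_add]; exact add_mem hy hz
      | smul s y _ hy =>
        rw [TensorProduct.tmul_smul, ← algebraMap_smul q.ResidueField s]
        exact Submodule.smul_mem _ _ hy
  obtain ⟨f, hfmem, hfspan, -⟩ := Submodule.exists_fun_fin_finrank_span_eq q.ResidueField
    (Set.range fun s : S => (1 : q.ResidueField) ⊗ₜ[S] KaehlerDifferential.D k S s)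
  have hd' : Module.finrank q.ResidueField (Submodule.span q.ResidueField
      (Set.range fun s : S => (1 : q.ResidueField) ⊗ₜ[S] KaehlerDifferential.D k S s)) =
      Module.finrank q.ResidueField (q.ResidueField ⊗[S] Ω[S⁄k]) := by
    rw [hspanT]; exact finrank_top _ _
  choose a ha using hfmem
  have haspan : Submodule.span q.ResidueField
      (Set.range fun j => (1 : q.ResidueField) ⊗ₜ[S] KaehlerDifferential.D k S (a j)) = ⊤ := by
    have hrange : (Set.range fun j => (1 : q.ResidueField) ⊗ₜ[S] KaehlerDifferential.D k S (a j)) =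
        Set.range f := by
      ext v
      constructor
      · rintro ⟨j, rfl⟩; exact ⟨j, (ha j).symm⟩
      · rintro ⟨j, rfl⟩; exact ⟨j, ha j⟩
    rw [hrange, hfspan]
    exact hspanT
  -- transfer lemma
  have hB : ∀ (ι : Type) (g : ι → S),
      Submodule.span q.ResidueField
        (Set.range fun i => (1 : q.ResidueField) ⊗ₜ[S] KaehlerDifferential.D k S (g i)) = ⊤ →
      Submodule.span (Localization.AtPrime q)
        (Set.range fun i => KaehlerDifferential.D k (Localization.AtPrime q)
          (algebraMap S (Localization.AtPrime q) (g i))) = ⊤ := by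
    intro ι g hg
    haveI hfinΩ : Module.Finite (Localization.AtPrime q) (Ω[Localization.AtPrime q⁄k]) :=
      inferInstance
    have hlift : ∀ v : q.ResidueField ⊗[S] Ω[S⁄k], v ∈ Submodule.span q.ResidueField
        (Set.range fun i => (1 : q.ResidueField) ⊗ₜ[S] KaehlerDifferential.D k S (g i)) →
        ∃ z ∈ Submodule.span (Localization.AtPrime q)
          (Set.range fun i => KaehlerDifferential.D k (Localization.AtPrime q)
            (algebraMap S (Localization.AtPrime q) (g i))),
          Ψ v = (1 : q.ResidueField) ⊗ₜ[Localization.AtPrime q] z := by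
      intro v hv
      induction hv using Submodule.span_induction with
      | mem y hy =>
        obtain ⟨i, rfl⟩ := hy
        refine ⟨_, Submodule.subset_span ⟨i, rfl⟩, ?_⟩
        simp only []
        rw [hΨ, KaehlerDifferential.map_D]
      | zero => exact ⟨0, zero_mem _, by rw [map_zero, TensorProduct.tmul_zero]⟩
      | add y z _ _ hy hz =>
        obtain ⟨z1, h1, e1'⟩ := hy
        obtain ⟨z2, h2, e2'⟩ := hz
        exact ⟨z1 + z2, add_mem h1 h2, by rw [map_add, e1', e2', TensorProduct.tmul_add]⟩
      | smul c y _ hy =>
        obtain ⟨z1, h1, e1'⟩ := hy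
        obtain ⟨c', rfl⟩ := IsLocalRing.residue_surjective c
        refine ⟨c' • z1, Submodule.smul_mem _ _ h1, ?_⟩
        rw [map_smul, e1', TensorProduct.smul_tmul', smul_eq_mul, mul_one]
        have hres : IsLocalRing.residue (Localization.AtPrime q) c' =
            c' • (1 : q.ResidueField) := by
          rw [Algebra.smul_def, mul_one]; rfl
        rw [hres, TensorProduct.smul_tmul]
    have hθ : ∀ ω : Ω[S⁄k], KaehlerDifferential.map k k S (Localization.AtPrime q) ω ∈
        Submodule.span (Localization.AtPrime q)
          (Set.range fun i => KaehlerDifferential.D k (Localization.AtPrime q)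
            (algebraMap S (Localization.AtPrime q) (g i))) ⊔
        IsLocalRing.maximalIdeal (Localization.AtPrime q) •
          (⊤ : Submodule (Localization.AtPrime q) (Ω[Localization.AtPrime q⁄k])) := by
      intro ω
      obtain ⟨z, hz, hΨz⟩ := hlift ((1 : q.ResidueField) ⊗ₜ[S] ω) (by rw [hg]; trivial)
      rw [hΨ] at hΨz
      have hzero : (1 : Localization.AtPrime q ⧸ IsLocalRing.maximalIdeal (Localization.AtPrime q))
          ⊗ₜ[Localization.AtPrime q]
          (KaehlerDifferential.map k k S (Localization.AtPrime q) ω - z) = 0 := by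
        rw [TensorProduct.tmul_sub]
        exact sub_eq_zero.2 hΨz
      have hmem := (Groth.Agent.S11457.one_tmul_eq_zero_iff
        (IsLocalRing.maximalIdeal (Localization.AtPrime q)) _).1 hzero
      have hdec : KaehlerDifferential.map k k S (Localization.AtPrime q) ω =
          z + (KaehlerDifferential.map k k S (Localization.AtPrime q) ω - z) := by abel
      rw [hdec]
      exact add_mem (Submodule.mem_sup_left hz) (Submodule.mem_sup_right hmem)
    rw [eq_top_iff]
    refine Submodule.le_of_le_smul_of_le_jacobson_bot (Module.finite_def.mp hfinΩ)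
      (IsLocalRing.maximalIdeal_le_jacobson ⊥) ?_
    intro ω hω'
    clear hω'
    have hω : ω ∈ Submodule.span (Localization.AtPrime q)
        (Set.range (KaehlerDifferential.map k k S (Localization.AtPrime q) ∘
          KaehlerDifferential.D k S)) := by
      rw [KaehlerDifferential.span_range_map_derivation_of_isLocalization k S
        (Localization.AtPrime q) q.primeCompl]; trivial
    exact (Submodule.span_le.2 (by rintro _ ⟨s, rfl⟩; exact hθ _)) hω
  obtain ⟨d, hd⟩ : ∃ d : ℕ, Module.finrank q.ResidueField (q.ResidueField ⊗[S] Ω[S⁄k]) = d :=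
    ⟨_, rfl⟩
  let a' : Fin d → S := fun j => a (finCongr (hd'.trans hd).symm j)
  have ha'span : Submodule.span q.ResidueField
      (Set.range fun j => (1 : q.ResidueField) ⊗ₜ[S] KaehlerDifferential.D k S (a' j)) = ⊤ := by
    rw [← haspan]
    congr 1
    ext v
    constructor
    · rintro ⟨j, rfl⟩; exact ⟨finCongr (hd'.trans hd).symm j, rfl⟩
    · rintro ⟨j, rfl⟩
      refine ⟨finCongr (hd'.trans hd) j, ?_⟩
      show (1 : q.ResidueField) ⊗ₜ[S] KaehlerDifferential.D k S
        (a (finCongr (hd'.trans hd).symm (finCongr (hd'.trans hd) j))) = _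
      congr 3
  rw [hloc, hd]
  have hgoal : (((d : ℕ) : ℕ∞) : WithBot ℕ∞) ≤ ((dq + tq : ℕ) : WithBot ℕ∞) ↔ d ≤ dq + tq :=
    ⟨fun h => hcastle _ _ h, fun h => WithBot.coe_le_coe.2 (Nat.cast_le.2 h)⟩
  rw [hgoal]
  constructor
  · intro hsm
    haveI hfs : Algebra.FormallySmooth k (Localization.AtPrime q) := hsm
    haveI hfinΩ : Module.Finite (Localization.AtPrime q) (Ω[Localization.AtPrime q⁄k]) :=
      inferInstance
    haveI hfree : Module.Free (Localization.AtPrime q) (Ω[Localization.AtPrime q⁄k]) :=
      Module.free_of_flat_of_isLocalRing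
    have hrank : Module.finrank (Localization.AtPrime q) (Ω[Localization.AtPrime q⁄k]) = d := by
      have h := Ψ.finrank_eq
      rw [hd] at h
      have h' : Module.finrank q.ResidueField
          (q.ResidueField ⊗[Localization.AtPrime q] Ω[Localization.AtPrime q⁄k]) =
          Module.finrank (Localization.AtPrime q) (Ω[Localization.AtPrime q⁄k]) :=
        Module.finrank_baseChange
      rw [h'] at h
      exact h.symm
    have hN := hB (Fin d) a' ha'span
    letI algP : Algebra (MvPolynomial (Fin d) k) S := (MvPolynomial.aeval a').toRingHom.toAlgebra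
    haveI towP : IsScalarTower k (MvPolynomial (Fin d) k) S :=
      IsScalarTower.of_algebraMap_eq (fun c => ((MvPolynomial.aeval a').commutes c).symm)
    have hX : ∀ i, algebraMap (MvPolynomial (Fin d) k) S (MvPolynomial.X i) = a' i :=
      fun i => MvPolynomial.aeval_X a' i
    haveI towPq : IsScalarTower k (MvPolynomial (Fin d) k) (Localization.AtPrime q) :=
      IsScalarTower.of_algebraMap_eq (fun x => by
        rw [IsScalarTower.algebraMap_apply k S (Localization.AtPrime q),
          IsScalarTower.algebraMap_apply k (MvPolynomial (Fin d) k) S,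
          ← IsScalarTower.algebraMap_apply (MvPolynomial (Fin d) k) S (Localization.AtPrime q)])
    have hsurj : Function.Surjective (KaehlerDifferential.mapBaseChange k (MvPolynomial (Fin d) k)
        (Localization.AtPrime q)) := by
      rw [← LinearMap.range_eq_top, eq_top_iff, ← hN, Submodule.span_le]
      rintro _ ⟨j, rfl⟩
      refine ⟨(1 : Localization.AtPrime q) ⊗ₜ[MvPolynomial (Fin d) k]
        KaehlerDifferential.D k (MvPolynomial (Fin d) k) (MvPolynomial.X j), ?_⟩
      rw [KaehlerDifferential.mapBaseChange_tmul, one_smul, KaehlerDifferential.map_D,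
        IsScalarTower.algebraMap_apply (MvPolynomial (Fin d) k) S (Localization.AtPrime q), hX]
    haveI hfreeP : Module.Free (MvPolynomial (Fin d) k) (Ω[MvPolynomial (Fin d) k⁄k]) :=
      Module.Free.of_basis (KaehlerDifferential.mvPolynomialBasis k (Fin d))
    have hfinrankP : Module.finrank (Localization.AtPrime q)
        (Localization.AtPrime q ⊗[MvPolynomial (Fin d) k] Ω[MvPolynomial (Fin d) k⁄k]) = d := by
      rw [Module.finrank_baseChange,
        Module.finrank_eq_card_basis (KaehlerDifferential.mvPolynomialBasis k (Fin d)),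
        Fintype.card_fin]
    have hinj : Function.Injective (KaehlerDifferential.mapBaseChange k (MvPolynomial (Fin d) k)
        (Localization.AtPrime q)) := by
      let ε : Ω[Localization.AtPrime q⁄k] ≃ₗ[Localization.AtPrime q]
          (Localization.AtPrime q ⊗[MvPolynomial (Fin d) k] Ω[MvPolynomial (Fin d) k⁄k]) :=
        LinearEquiv.ofFinrankEq _ _ (hrank.trans hfinrankP.symm)
      have hcomp : Function.Surjective (ε.toLinearMap ∘ₗ
          KaehlerDifferential.mapBaseChange k (MvPolynomial (Fin d) k) (Localization.AtPrime q)) :=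
        ε.surjective.comp hsurj
      have hinj' := OrzechProperty.injective_of_surjective_endomorphism _ hcomp
      exact Function.Injective.of_comp hinj'
    have het : Algebra.IsEtaleAt (MvPolynomial (Fin d) k) q :=
      ((Groth.Agent.S2789.result k (MvPolynomial (Fin d) k) S q).mpr ⟨hsm, hinj, hsurj⟩).1
    haveI hfet : Algebra.FormallyEtale (MvPolynomial (Fin d) k) (Localization.AtPrime q) := het
    -- flatness of S_q over the polynomial ring
    haveI hFT : Algebra.FiniteType (MvPolynomial (Fin d) k) S :=
      Algebra.FiniteType.of_restrictScalars_finiteType k (MvPolynomial (Fin d) k) S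
    haveI hFP : Algebra.FinitePresentation (MvPolynomial (Fin d) k) S :=
      Algebra.FinitePresentation.of_finiteType.mp hFT
    haveI hsmP : Algebra.IsSmoothAt (MvPolynomial (Fin d) k) q :=
      (inferInstance : Algebra.FormallySmooth (MvPolynomial (Fin d) k) (Localization.AtPrime q))
    obtain ⟨f0, hf0q, hf0sm⟩ := Algebra.IsSmoothAt.exists_notMem_smooth
      (R := MvPolynomial (Fin d) k) q
    haveI := hf0sm
    have hunit : IsUnit (algebraMap S (Localization.AtPrime q) f0) :=
      IsLocalization.map_units (Localization.AtPrime q) (⟨f0, hf0q⟩ : q.primeCompl)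
    letI algAf : Algebra (Localization.Away f0) (Localization.AtPrime q) :=
      (IsLocalization.Away.lift f0 hunit).toAlgebra
    haveI tow1 : IsScalarTower S (Localization.Away f0) (Localization.AtPrime q) :=
      IsScalarTower.of_algebraMap_eq (fun x => (IsLocalization.Away.lift_eq f0 hunit x).symm)
    haveI hlocAf : IsLocalization (q.primeCompl.map (algebraMap S (Localization.Away f0)))
        (Localization.AtPrime q) :=
      IsLocalization.isLocalization_of_submonoid_le (Localization.Away f0)
        (Localization.AtPrime q) (Submonoid.powers f0) q.primeCompl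
        (Submonoid.powers_le.2 hf0q)
    haveI hflat1 : Module.Flat (Localization.Away f0) (Localization.AtPrime q) :=
      IsLocalization.flat (Localization.AtPrime q)
        (q.primeCompl.map (algebraMap S (Localization.Away f0)))
    haveI tow2 : IsScalarTower (MvPolynomial (Fin d) k) (Localization.Away f0)
        (Localization.AtPrime q) :=
      IsScalarTower.of_algebraMap_eq (fun x => by
        rw [IsScalarTower.algebraMap_apply (MvPolynomial (Fin d) k) S (Localization.AtPrime q),
          IsScalarTower.algebraMap_apply (MvPolynomial (Fin d) k) S (Localization.Away f0),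
          ← IsScalarTower.algebraMap_apply S (Localization.Away f0) (Localization.AtPrime q)])
    haveI hflat : Module.Flat (MvPolynomial (Fin d) k) (Localization.AtPrime q) :=
      Module.Flat.trans (MvPolynomial (Fin d) k) (Localization.Away f0) (Localization.AtPrime q)
    -- heights
    haveI hlo : (IsLocalRing.maximalIdeal (Localization.AtPrime q)).LiesOver
        (q.under (MvPolynomial (Fin d) k)) := ⟨Ideal.ext fun x => by
      simp only [Ideal.under_def, Ideal.mem_comap]
      rw [IsScalarTower.algebraMap_apply (MvPolynomial (Fin d) k) S (Localization.AtPrime q),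
        IsLocalization.AtPrime.to_map_mem_maximal_iff (Localization.AtPrime q) q]⟩
    have hht := Ideal.height_eq_height_add_of_liesOver_of_hasGoingDown
      (q.under (MvPolynomial (Fin d) k)) (IsLocalRing.maximalIdeal (Localization.AtPrime q))
    haveI hNQ3 : IsNoetherianRing (Localization.AtPrime (q.under (MvPolynomial (Fin d) k))) :=
      IsLocalization.isNoetherianRing (q.under (MvPolynomial (Fin d) k)).primeCompl _ inferInstance
    obtain ⟨d3, hd3⟩ := Groth.Agent.H29.ringKrullDim_eq_natCast_of_isLocalRing
      (Localization.AtPrime (q.under (MvPolynomial (Fin d) k)))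
    have hd3le : d3 ≤ dq := by
      have h1 : (q.under (MvPolynomial (Fin d) k)).height ≤
          (IsLocalRing.maximalIdeal (Localization.AtPrime q)).height := by
        rw [hht]; exact le_self_add
      have h2 : (((q.under (MvPolynomial (Fin d) k)).height : ℕ∞) : WithBot ℕ∞) ≤
          (((IsLocalRing.maximalIdeal (Localization.AtPrime q)).height : ℕ∞) : WithBot ℕ∞) :=
        WithBot.coe_le_coe.2 h1
      rw [IsLocalRing.maximalIdeal_height_eq_ringKrullDim, hdq,
        ← IsLocalization.AtPrime.ringKrullDim_eq_height (q.under (MvPolynomial (Fin d) k))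
          (Localization.AtPrime (q.under (MvPolynomial (Fin d) k))), hd3] at h2
      exact hcastle _ _ h2
    -- residue fields
    haveI hess3 : Algebra.EssFiniteType k (q.under (MvPolynomial (Fin d) k)).ResidueField :=
      Algebra.EssFiniteType.of_surjective
        (IsScalarTower.toAlgHom k (Localization.AtPrime (q.under (MvPolynomial (Fin d) k)))
          (q.under (MvPolynomial (Fin d) k)).ResidueField)
        IsLocalRing.residue_surjective
    obtain ⟨_, _, htr3, _⟩ := Groth.Agent.H11.Cartier.cartier k
      (q.under (MvPolynomial (Fin d) k)).ResidueField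
    obtain ⟨t3, ht3⟩ := Cardinal.lt_aleph0.1 htr3
    have ht3le : t3 ≤ tq := by
      let μ := Ideal.ResidueField.mapₐ (q.under (MvPolynomial (Fin d) k)) q
        (IsScalarTower.toAlgHom k (MvPolynomial (Fin d) k) S) rfl
      have hμ : Function.Injective μ := μ.toRingHom.injective
      have h := trdeg_le_of_injective μ hμ
      rw [ht3, htq] at h
      exact_mod_cast h
    have hlocP : FlatMor.localDim (PrimeSpectrum (MvPolynomial (Fin d) k))
        ⟨q.under (MvPolynomial (Fin d) k), inferInstance⟩ = (d : WithBot ℕ∞) := by
      rw [Groth.Agent.S2143.result (k := k) (q.under (MvPolynomial (Fin d) k))]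
      obtain ⟨n', -, hn'dim, hn'max⟩ := Groth.Agent.S2680.result k (MvPolynomial (Fin d) k)
      have hn'd : (n' : WithBot ℕ∞) = (d : WithBot ℕ∞) := by
        rw [← hn'dim, MvPolynomial.ringKrullDim_of_isNoetherianRing, ringKrullDim_eq_zero_of_field]
        simp
      apply le_antisymm
      · obtain ⟨m0, hm0, hqm0⟩ := Ideal.exists_le_maximal (q.under (MvPolynomial (Fin d) k))
          (Ideal.IsPrime.ne_top inferInstance)
        refine le_trans (iInf_le _ ⟨m0, hm0, hqm0⟩) ?_
        haveI := hm0
        rw [hn'max m0, hn'd]
      · refine le_iInf fun m0 => ?_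
        haveI := m0.2.1
        rw [hn'max m0.1, hn'd]
    have h2 := Groth.Agent.S2141.result (k := k) (q.under (MvPolynomial (Fin d) k)) t3 ht3
    rw [hlocP, hd3, ← hcastadd] at h2
    have h2' : d = d3 + t3 := hcast _ _ h2
    omega
  · intro hle
    let g : Fin (dq + tq) → S := fun i => if h : (i : ℕ) < d then a' ⟨i, h⟩ else 0
    have hgspan : Submodule.span q.ResidueField
        (Set.range fun i => (1 : q.ResidueField) ⊗ₜ[S] KaehlerDifferential.D k S (g i)) = ⊤ := by
      rw [eq_top_iff, ← ha'span]
      apply Submodule.span_mono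
      rintro _ ⟨j, rfl⟩
      refine ⟨⟨j, lt_of_lt_of_le j.2 hle⟩, ?_⟩
      have hgj : g ⟨j, lt_of_lt_of_le j.2 hle⟩ = a' j := by
        show (if h : (j : ℕ) < d then a' ⟨j, h⟩ else 0) = a' j
        rw [dif_pos j.2]
      show (1 : q.ResidueField) ⊗ₜ[S] KaehlerDifferential.D k S (g ⟨j, lt_of_lt_of_le j.2 hle⟩) = _
      rw [hgj]
    have hN := hB (Fin (dq + tq)) g hgspan
    letI algP : Algebra (MvPolynomial (Fin (dq + tq)) k) S :=
      (MvPolynomial.aeval g).toRingHom.toAlgebra
    haveI towP : IsScalarTower k (MvPolynomial (Fin (dq + tq)) k) S :=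
      IsScalarTower.of_algebraMap_eq (fun c => ((MvPolynomial.aeval g).commutes c).symm)
    have hX : ∀ i, algebraMap (MvPolynomial (Fin (dq + tq)) k) S (MvPolynomial.X i) = g i :=
      fun i => MvPolynomial.aeval_X g i
    have het : Algebra.IsEtaleAt (MvPolynomial (Fin (dq + tq)) k) q := by
      rw [Groth.Agent.S2790.result k S (dq + tq) q hloc]
      simp only [hX]
      exact hN
    haveI hfet : Algebra.FormallyEtale (MvPolynomial (Fin (dq + tq)) k) (Localization.AtPrime q) :=
      het
    haveI towPq : IsScalarTower k (MvPolynomial (Fin (dq + tq)) k) (Localization.AtPrime q) :=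
      IsScalarTower.of_algebraMap_eq (fun x => by
        rw [IsScalarTower.algebraMap_apply k S (Localization.AtPrime q),
          IsScalarTower.algebraMap_apply k (MvPolynomial (Fin (dq + tq)) k) S,
          ← IsScalarTower.algebraMap_apply (MvPolynomial (Fin (dq + tq)) k) S
            (Localization.AtPrime q)])
    exact Algebra.FormallySmooth.comp k (MvPolynomial (Fin (dq + tq)) k) (Localization.AtPrime q)

end Groth.Agent.S2063
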