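import Groth.Statements.S2083
import Groth.Agent.H29.RegParam

set_option autoImplicit false
universe u
open CAlg

namespace Groth.Agent.S2083

/-- Let `R` be a Noetherian local ring, `M` a finite Cohen–Macaulay `R`-module and `g` a member of the
maximal ideal for which the support of `M/gM` has dimension exactly one less than that of `M`. Then
`g` is a nonzerodivisor on `M`, and the quotient `M/gM` is again Cohen–Macaulay, with depth one
smaller than that of `M`. -/
theorem result {R M : Type u} [CommRing R] [IsLocalRing R] [IsNoetherianRing R]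
    [AddCommGroup M] [Module R M] [Module.Finite R M] (hM : LocCoh.IsCohenMacaulayModule R M) (g : R)
    (hg : g ∈ IsLocalRing.maximalIdeal R)
    (hdim : Module.supportDim R (M ⧸ Ideal.span {g} • (⊤ : Submodule R M)) + 1 = Module.supportDim R M) :
    IsSMulRegular M g ∧ LocCoh.IsCohenMacaulayModule R (M ⧸ Ideal.span {g} • (⊤ : Submodule R M)) ∧
      LocCoh.depth R (M ⧸ Ideal.span {g} • (⊤ : Submodule R M)) + 1 = LocCoh.depth R M := by
  open Groth.Agent.H29 in
  have hnt : Nontrivial M := IsCohenMacaulayModule.nontrivial R hM
  have hof : Ideal.ofList [g] = Ideal.span {g} := by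
    rw [Ideal.ofList]
    congr 1
    ext y
    simp
  have hmem : ∀ x ∈ [g], x ∈ IsLocalRing.maximalIdeal R := by
    intro x hx
    rw [List.mem_singleton] at hx
    rw [hx]
    exact hg
  have hreg : RingTheory.Sequence.IsWeaklyRegular M [g] := by
    apply isWeaklyRegular_of_supportDim_quotient_add_length R [g] M hM hmem
    rw [hof, List.length_singleton, Nat.cast_one]
    exact hdim
  have hregg : IsSMulRegular M g := ((RingTheory.Sequence.isWeaklyRegular_cons_iff M g []).mp hreg).1
  have e : QuotSMulTop g M ≃ₗ[R] (M ⧸ Ideal.span {g} • (⊤ : Submodule R M)) :=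
    Submodule.quotEquivOfEq _ _ (Submodule.ideal_span_singleton_smul g ⊤).symm
  refine ⟨hregg, isCohenMacaulayModule_congr R e (isCohenMacaulayModule_quotSMulTop R M hM g hg hregg), ?_⟩
  have h1 := depth_quotSMulTop_add_one R M g hg hregg
  have h2 : LocCoh.depth R (QuotSMulTop g M) =
      LocCoh.depth R (M ⧸ Ideal.span {g} • (⊤ : Submodule R M)) := idealDepth_congr _ e
  rw [← h2]
  exact h1

end Groth.Agent.S2083
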