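import Groth.Statements.S2084
import Groth.Agent.H29.CMLoc
import Groth.Agent.H29.Pure

set_option autoImplicit false
universe u
open CAlg

namespace Groth.Agent.S2084

open Groth.Agent.H29 IsLocalRing

theorem coheight_eq_one_of_covBy_top {α : Type*} [PartialOrder α] [OrderTop α] {x : α}
    (hx : x ⋖ ⊤) : Order.coheight x = 1 := by
  apply le_antisymm
  · rw [Order.coheight_le_iff]
    intro p hp
    by_contra hlen
    push Not at hlen
    have hlen' : 1 < p.length := by exact_mod_cast hlen
    have h01 : p.head < p ⟨1, by omega⟩ := by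
      show p 0 < p ⟨1, by omega⟩
      exact p.strictMono (by simp [Fin.lt_def])
    have h12 : p ⟨1, by omega⟩ < p ⟨2, by omega⟩ := p.strictMono (by simp [Fin.lt_def])
    have hx1 : x < p ⟨1, by omega⟩ := lt_of_le_of_lt hp h01
    exact hx.2 hx1 (lt_of_lt_of_le h12 le_top)
  · have := Order.coheight_add_one_le hx.lt
    rwa [Order.coheight_top, zero_add] at this

theorem height_succ_of_covBy (R M : Type u) [CommRing R] [IsLocalRing R] [IsNoetherianRing R]
    [AddCommGroup M] [Module R M] [Module.Finite R M] (hM : LocCoh.IsCohenMacaulayModule R M)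
    (hsupp : Module.support R M = Set.univ) (P Q : PrimeSpectrum R) (hPQ : P ⋖ Q) :
    Q.asIdeal.height = P.asIdeal.height + 1 := by
  have hQs : Q ∈ Module.support R M := hsupp ▸ Set.mem_univ Q
  obtain ⟨hCMQ, -⟩ := isCohenMacaulayModule_localizedModule_and_dim R M hM Q hQs
  have hsuppQ : Module.support (Localization.AtPrime Q.asIdeal)
      (LocalizedModule Q.asIdeal.primeCompl M) = Set.univ :=
    Pure.support_localizedModule_eq_univ R M hsupp Q.asIdeal
  have hdisj : Disjoint (Q.asIdeal.primeCompl : Set R) (P.asIdeal : Set R) := by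
    rw [Set.disjoint_left]
    intro x hx hxP
    exact hx (hPQ.le hxP)
  haveI hP'prime : (P.asIdeal.map (algebraMap R (Localization.AtPrime Q.asIdeal))).IsPrime :=
    IsLocalization.isPrime_of_isPrime_disjoint Q.asIdeal.primeCompl _ P.asIdeal P.2 hdisj
  let P' : PrimeSpectrum (Localization.AtPrime Q.asIdeal) :=
    ⟨P.asIdeal.map (algebraMap R (Localization.AtPrime Q.asIdeal)), hP'prime⟩
  have hcomapP' : P'.asIdeal.comap (algebraMap R (Localization.AtPrime Q.asIdeal)) = P.asIdeal :=
    IsLocalization.under_map_of_isPrime_disjoint Q.asIdeal.primeCompl _ P.2 hdisj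
  obtain ⟨-, hdim⟩ := isCohenMacaulayModule_localizedModule_and_dim
    (Localization.AtPrime Q.asIdeal) (LocalizedModule Q.asIdeal.primeCompl M) hCMQ P'
    (hsuppQ ▸ Set.mem_univ P')
  have h1 := Pure.supportDim_eq_ringKrullDim_of_support_eq_univ
    (Localization.AtPrime Q.asIdeal) (LocalizedModule Q.asIdeal.primeCompl M) hsuppQ
  have h2 : ringKrullDim (Localization.AtPrime Q.asIdeal) = Q.asIdeal.height :=
    IsLocalization.AtPrime.ringKrullDim_eq_height Q.asIdeal _
  have hsuppP' := Pure.support_localizedModule_eq_univ (Localization.AtPrime Q.asIdeal)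
    (LocalizedModule Q.asIdeal.primeCompl M) hsuppQ P'.asIdeal
  have h3 := Pure.supportDim_eq_ringKrullDim_of_support_eq_univ _ _ hsuppP'
  have h4 : ringKrullDim (Localization.AtPrime P'.asIdeal) = P'.asIdeal.height :=
    IsLocalization.AtPrime.ringKrullDim_eq_height P'.asIdeal _
  have h5 : P'.asIdeal.height = P.asIdeal.height :=
    IsLocalization.height_map_of_disjoint Q.asIdeal.primeCompl P.asIdeal hdisj
  have hcov : P' ⋖ (⊤ : PrimeSpectrum (Localization.AtPrime Q.asIdeal)) := by
    have hinj := PrimeSpectrum.localization_comap_injective (Localization.AtPrime Q.asIdeal)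
      Q.asIdeal.primeCompl
    have hcP' : PrimeSpectrum.comap (algebraMap R (Localization.AtPrime Q.asIdeal)) P' = P :=
      PrimeSpectrum.ext hcomapP'
    have hcTop : PrimeSpectrum.comap (algebraMap R (Localization.AtPrime Q.asIdeal)) ⊤ = Q :=
      PrimeSpectrum.ext (IsLocalization.AtPrime.under_maximalIdeal
        (Localization.AtPrime Q.asIdeal) Q.asIdeal)
    have hmono : ∀ x y : PrimeSpectrum (Localization.AtPrime Q.asIdeal), x ≤ y →
        PrimeSpectrum.comap (algebraMap R (Localization.AtPrime Q.asIdeal)) x ≤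
          PrimeSpectrum.comap (algebraMap R (Localization.AtPrime Q.asIdeal)) y :=
      fun x y h => Ideal.comap_mono h
    refine ⟨lt_of_le_of_ne le_top (fun h => ?_), fun x hx1 hx2 => ?_⟩
    · have : P = Q := by rw [← hcP', h, hcTop]
      exact hPQ.lt.ne this
    · have h1 : P < PrimeSpectrum.comap (algebraMap R (Localization.AtPrime Q.asIdeal)) x :=
        lt_of_eq_of_lt hcP'.symm
          (lt_of_le_of_ne (hmono _ _ hx1.le) (fun h => hx1.ne (hinj h)))
      have h2 : PrimeSpectrum.comap (algebraMap R (Localization.AtPrime Q.asIdeal)) x < Q :=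
        lt_of_lt_of_eq
          (lt_of_le_of_ne (hmono _ _ hx2.le) (fun h => hx2.ne (hinj h))) hcTop
      exact hPQ.2 h1 h2
  have h6 : ringKrullDim (Localization.AtPrime Q.asIdeal ⧸ P'.asIdeal) = 1 := by
    rw [ringKrullDim_quotient]
    have hz : PrimeSpectrum.zeroLocus (P'.asIdeal : Set (Localization.AtPrime Q.asIdeal)) =
        Set.Ici P' := by
      ext x
      rw [PrimeSpectrum.mem_zeroLocus, Set.mem_Ici]
      exact Iff.rfl
    rw [hz, ← Order.coheight_eq_krullDim_Ici, coheight_eq_one_of_covBy_top hcov]
    rfl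
  rw [h1, h2, h6, h3, h4, h5] at hdim
  have : ((Q.asIdeal.height : ℕ∞) : WithBot ℕ∞) = ((P.asIdeal.height + 1 : ℕ∞) : WithBot ℕ∞) := by
    rw [hdim, WithBot.coe_add, add_comm]
    rfl
  exact WithBot.coe_injective this

/-- Let `R` be a Noetherian local ring admitting a finite Cohen–Macaulay module whose support is all of
`Spec R`. Then every maximal chain of prime ideals (starting at a minimal prime, ending at the
maximal ideal, with no prime strictly between consecutive members) has length equal to the dimension
of `R`. -/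
theorem result {R M : Type u} [CommRing R] [IsLocalRing R] [IsNoetherianRing R]
    [AddCommGroup M] [Module R M] [Module.Finite R M] (hM : LocCoh.IsCohenMacaulayModule R M)
    (hsupp : Module.support R M = Set.univ) (s : LTSeries (PrimeSpectrum R))
    (hhead : s.head.asIdeal ∈ minimalPrimes R) (hlast : s.last.asIdeal = IsLocalRing.maximalIdeal R)
    (hsat : ∀ i : Fin s.length, s (Fin.castSucc i) ⋖ s (Fin.succ i)) :
    (s.length : WithBot ℕ∞) = ringKrullDim R := by
  have key : ∀ i : Fin (s.length + 1), (s i).asIdeal.height = ((i : ℕ) : ℕ∞) := by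
    intro i
    induction i using Fin.induction with
    | zero =>
      have h0 : (s 0).asIdeal.height = 0 := Ideal.height_eq_zero_iff.mpr hhead
      simpa using h0
    | succ i ih =>
      rw [height_succ_of_covBy R M hM hsupp _ _ (hsat i), ih]
      simp
  have h := key (Fin.last _)
  have h2 : (IsLocalRing.maximalIdeal R).height = (s.length : ℕ∞) := by
    rw [← hlast]
    rw [Fin.val_last] at h
    exact h
  rw [← IsLocalRing.maximalIdeal_height_eq_ringKrullDim, h2]
  rfl

end Groth.Agent.S2084
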