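import Mathlib
import Groth.Agent.H11.IndEtaleFibre
import Groth.Statements.S2096

set_option autoImplicit false
universe u
open CAlg

namespace Groth.Agent.S2096

/-- Let `B` be a Noetherian ind-étale `A`-algebra (a filtered colimit of étale algebras) and `𝔭` a prime
of `A`. Then only finitely many primes of `B` lie over `𝔭`, the fibre ring `B ⊗ κ(𝔭)` is reduced of
dimension zero, and each residue field extension `κ(𝔮)/κ(𝔭)` is separable algebraic. -/
theorem result {A B : Type u} [CommRing A] [CommRing B] [Algebra A B] (hB : EtPBC.IsIndEtale A B)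
    [IsNoetherianRing B] (p : Ideal A) [p.IsPrime] :
    {q : PrimeSpectrum B | q.asIdeal.LiesOver p}.Finite ∧ IsReduced (p.Fiber B) ∧ ringKrullDim (p.Fiber B) ≤ 0 ∧
      ∀ (q : Ideal B) [q.IsPrime] [q.LiesOver p],
        @Algebra.IsSeparable p.ResidueField q.ResidueField _ _
          (Ideal.ResidueField.mapₐ p q (Algebra.ofId A B) (q.over_def p)).toRingHom.toAlgebra := by

    classical
    have h : Groth.Agent.H11.FibF.IsIndEtaleOverField p.ResidueField (p.Fiber B) :=
      Groth.Agent.H11.IndEt.isIndEtaleOverField_tensor hB p.ResidueField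
    haveI : IsNoetherianRing (TensorProduct A B p.ResidueField) :=
      Algebra.EssFiniteType.isNoetherianRing B (TensorProduct A B p.ResidueField)
    haveI : IsNoetherianRing (p.Fiber B) :=
      isNoetherianRing_of_ringEquiv (TensorProduct A B p.ResidueField)
        (Algebra.TensorProduct.comm A B p.ResidueField).toRingEquiv
    haveI := Groth.Agent.H11.FibF.isReduced h
    haveI := Groth.Agent.H11.FibF.krullDimLE_zero h
    haveI : IsArtinianRing (p.Fiber B) := isArtinianRing_iff_krullDimLE_zero.2 inferInstance
    refine ⟨?_, inferInstance, ?_, ?_⟩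
    · haveI : Finite (PrimeSpectrum (p.Fiber B)) := inferInstance
      let g : {q : PrimeSpectrum B | q.asIdeal.LiesOver p} → PrimeSpectrum (p.Fiber B) := fun q =>
        PrimeSpectrum.preimageEquivFiber A B ⟨p, inferInstance⟩
          ⟨q.1, PrimeSpectrum.ext (q.2.over).symm⟩
      have hg : Function.Injective g := by
        intro q₁ q₂ h12
        have := (PrimeSpectrum.preimageEquivFiber A B ⟨p, inferInstance⟩).injective h12
        exact Subtype.ext (Subtype.mk.inj this)
      exact Set.finite_coe_iff.mp (Finite.of_injective g hg)
    · exact Ring.krullDimLE_iff.mp inferInstance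
    · intro q _ _
      letI algL : Algebra p.ResidueField q.ResidueField :=
        (Ideal.ResidueField.mapₐ p q (Algebra.ofId A B) (q.over_def p)).toRingHom.toAlgebra
      haveI : IsScalarTower A p.ResidueField q.ResidueField :=
        IsScalarTower.of_algebraMap_eq (fun a =>
          ((Ideal.ResidueField.mapₐ p q (Algebra.ofId A B) (q.over_def p)).commutes a).symm)
      let f : p.Fiber B →ₐ[p.ResidueField] q.ResidueField :=
        Algebra.TensorProduct.lift (Algebra.ofId p.ResidueField q.ResidueField)
          (IsScalarTower.toAlgHom A B q.ResidueField) (fun _ _ => Commute.all _ _)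
      show Algebra.IsSeparable p.ResidueField q.ResidueField
      refine Groth.Agent.H11.IndEt.isSeparable_of_isIndEtaleOverField (D := B ⧸ q) h f ?_
      intro d
      obtain ⟨b, rfl⟩ := Ideal.Quotient.mk_surjective d
      refine ⟨TensorProduct.tmul A (1 : p.ResidueField) b, ?_⟩
      show (Algebra.TensorProduct.lift (Algebra.ofId p.ResidueField q.ResidueField)
          (IsScalarTower.toAlgHom A B q.ResidueField) (fun _ _ => Commute.all _ _))
        (TensorProduct.tmul A (1 : p.ResidueField) b) = _
      rw [Algebra.TensorProduct.lift_tmul, map_one, one_mul]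
      rfl

end Groth.Agent.S2096
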