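import Groth.Statements.S2097
import Mathlib
-- import your own Groth.Agent.* helpers here

set_option autoImplicit false
universe u
open CAlg

namespace Groth.Agent.S2097

/-- Let `R → S` be smooth, `A` an `R`-algebra and `I ⊆ A` an ideal all of whose elements are nilpotent.
Every `R`-algebra map `S → A/I` lifts to an `R`-algebra map `S → A`. -/
theorem result {R S A : Type u} [CommRing R] [CommRing S] [Algebra R S] [Algebra.Smooth R S]
    [CommRing A] [Algebra R A] (I : Ideal A) (hI : ∀ x ∈ I, IsNilpotent x) (g : S →ₐ[R] A ⧸ I) :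
    ∃ f : S →ₐ[R] A, (Ideal.Quotient.mkₐ R I).comp f = g := by
  classical
  obtain ⟨n, π, hπ, hK⟩ := Algebra.FinitePresentation.out (R := R) (A := S)
  obtain ⟨T, hT⟩ := hK
  choose a ha using fun i : Fin n => Ideal.Quotient.mk_surjective (g (π (MvPolynomial.X i)))
  let φ : MvPolynomial (Fin n) R →ₐ[R] A := MvPolynomial.aeval a
  have hφ : (Ideal.Quotient.mkₐ R I).comp φ = g.comp π := by
    apply MvPolynomial.algHom_ext
    intro i
    simp only [AlgHom.comp_apply, φ, MvPolynomial.aeval_X, Ideal.Quotient.mkₐ_eq_mk]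
    exact ha i
  have hTI : ∀ t ∈ T, φ t ∈ I := by
    intro t ht
    have h1 : π t = 0 := by
      have : t ∈ RingHom.ker π.toRingHom := by rw [← hT]; exact Ideal.subset_span ht
      exact this
    have h2 := AlgHom.congr_fun hφ t
    simp only [AlgHom.comp_apply, Ideal.Quotient.mkₐ_eq_mk, h1, map_zero] at h2
    exact Ideal.Quotient.eq_zero_iff_mem.mp h2
  let J : Ideal A := Ideal.span (φ '' (T : Set (MvPolynomial (Fin n) R)))
  have hJI : J ≤ I := Ideal.span_le.mpr (by rintro _ ⟨t, ht, rfl⟩; exact hTI t ht)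
  have hJfg : J.FG := ⟨T.image φ, by rw [Finset.coe_image]⟩
  have hJnil : IsNilpotent J :=
    (Ideal.FG.isNilpotent_iff_le_nilradical hJfg).mpr
      (fun x hx => mem_nilradical.mpr (hI x (hJI hx)))
  let ψ : MvPolynomial (Fin n) R →ₐ[R] A ⧸ J := (Ideal.Quotient.mkₐ R J).comp φ
  have hψ : RingHom.ker π.toRingHom ≤ RingHom.ker ψ.toRingHom := by
    rw [← hT, Ideal.span_le]
    intro t ht
    rw [SetLike.mem_coe, RingHom.mem_ker]
    show Ideal.Quotient.mk J (φ t) = 0
    exact Ideal.Quotient.eq_zero_iff_mem.mpr (Ideal.subset_span ⟨t, ht, rfl⟩)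
  let gJ : S →ₐ[R] A ⧸ J := AlgHom.liftOfSurjective π hπ ψ hψ
  obtain ⟨f, hf⟩ := Algebra.FormallySmooth.exists_lift J hJnil gJ
  refine ⟨f, ?_⟩
  apply AlgHom.ext
  intro s
  obtain ⟨p, rfl⟩ := hπ s
  have h1 : Ideal.Quotient.mk J (f (π p)) = Ideal.Quotient.mk J (φ p) := by
    have := AlgHom.congr_fun hf (π p)
    simp only [AlgHom.comp_apply, Ideal.Quotient.mkₐ_eq_mk] at this
    rw [this]
    exact AlgHom.liftOfSurjective_apply π hπ ψ hψ p
  have h2 : f (π p) - φ p ∈ I := hJI (Ideal.Quotient.eq.mp h1)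
  have h3 : Ideal.Quotient.mk I (f (π p)) = Ideal.Quotient.mk I (φ p) := Ideal.Quotient.eq.mpr h2
  have h4 := AlgHom.congr_fun hφ p
  simp only [AlgHom.comp_apply, Ideal.Quotient.mkₐ_eq_mk] at h4
  show Ideal.Quotient.mk I (f (π p)) = g (π p)
  rw [h3, h4]

end Groth.Agent.S2097
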