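import Groth.Statements.S3568
import Mathlib

set_option autoImplicit false
universe u
open CategoryTheory CategoryTheory.Limits AlgebraicGeometry
open EGA2

namespace Groth.Agent.S3568

lemma residue_bij_of_isField (R : Type u) [CommRing R] [IsLocalRing R] (hF : IsField R) :
    Function.Bijective (IsLocalRing.residue R) := by
  refine ⟨?_, IsLocalRing.residue_surjective⟩
  rw [injective_iff_map_eq_zero]
  intro r hr
  by_contra hr0
  obtain ⟨b, hb⟩ := hF.mul_inv_cancel hr0
  have hu : IsUnit r := IsUnit.of_mul_eq_one b hb
  rw [IsLocalRing.residue_eq_zero_iff] at hr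
  exact (IsLocalRing.mem_maximalIdeal r).mp hr hu

lemma inj_of_isField {R S : Type u} [CommRing R] [CommRing S] [Nontrivial S] (hF : IsField R)
    (σ : R →+* S) : Function.Injective σ := by
  rw [injective_iff_map_eq_zero]
  intro r hr
  by_contra hr0
  obtain ⟨b, hb⟩ := hF.mul_inv_cancel hr0
  have := congrArg σ hb
  rw [map_mul, hr, zero_mul, map_one] at this
  exact zero_ne_one this

lemma stalk_isField {V : Scheme.{u}} [AlgebraicGeometry.IsIntegral V] (y : V) (hy : y = genericPoint V) :
    IsField (V.presheaf.stalk y) := by
  subst hy
  exact (inferInstance : Field V.functionField).toIsField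

lemma intClosed_sections {V : Scheme.{u}} [AlgebraicGeometry.IsIntegral V] (hN : Pi1.IsNormalScheme V)
    (W : V.Opens) (hW : IsAffineOpen W) [Nonempty W] : IsIntegrallyClosed Γ(V, W) := by
  apply IsIntegrallyClosed.of_localization_maximal
  intro p hp0 hpmax
  let y : PrimeSpectrum Γ(V, W) := ⟨p, hpmax.isPrime⟩
  have hx : hW.fromSpec y ∈ W := by
    have h1 : hW.fromSpec y ∈ hW.fromSpec.opensRange := ⟨_, rfl⟩
    exact (SetLike.le_def.mp hW.opensRange_fromSpec.le) h1
  obtain ⟨hd, hic⟩ := hN (hW.fromSpec y)
  letI alg : Algebra Γ(V, W) (V.presheaf.stalk (hW.fromSpec y)) :=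
    TopCat.Presheaf.algebra_section_stalk V.presheaf ⟨hW.fromSpec y, hx⟩
  haveI hloc : IsLocalization p.primeCompl (V.presheaf.stalk (hW.fromSpec y)) :=
    hW.isLocalization_stalk' y hx
  let e := IsLocalization.algEquiv p.primeCompl (Localization.AtPrime p)
    (V.presheaf.stalk (hW.fromSpec y))
  exact IsIntegrallyClosed.of_equiv e.symm.toRingEquiv

lemma intClosed_germ {V : Scheme.{u}} [AlgebraicGeometry.IsIntegral V] (hN : Pi1.IsNormalScheme V)
    (y : V) (hy : y = genericPoint V) (W : V.Opens) (hW : IsAffineOpen W) (hyW : y ∈ W)
    (c : V.presheaf.stalk y) (hc : (V.presheaf.germ W y hyW).hom.IsIntegralElem c) :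
    ∃ a, V.presheaf.germ W y hyW a = c := by
  subst hy
  haveI : Nonempty W := ⟨⟨_, hyW⟩⟩
  haveI := functionField_isFractionRing_of_isAffineOpen V W hW
  haveI := intClosed_sections hN W hW
  exact (IsIntegrallyClosed.isIntegral_iff (R := Γ(V, W)) (K := V.functionField)).mp hc

/-- Let U be an integral scheme, V a normal integral scheme (all local rings integrally closed domains)
and h : U → V a morphism which is universally closed, radicial (universally injective) and
birational (it sends the generic point of U to that of V and induces an isomorphism of the residue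
fields there). Then h is an isomorphism. (The source assumes only V normal; integrality of V, needed
here to speak of its generic point, follows from the other hypotheses.) -/
theorem result {U V : Scheme.{u}} [AlgebraicGeometry.IsIntegral U] [AlgebraicGeometry.IsIntegral V]
    (hN : Pi1.IsNormalScheme V) (h : U ⟶ V) [UniversallyClosed h]
    [UniversallyInjective h] (hgen : h.base (genericPoint U) = genericPoint V)
    (hbir : Function.Bijective (h.residueFieldMap (genericPoint U)).hom) :
    IsIso h := by
  have hclosed : IsClosedMap h.base := h.isClosedMap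
  have hinj : Function.Injective h.base := h.injective
  have hsurj : Function.Surjective h.base := by
    have hr : IsClosed (Set.range h.base) := hclosed.isClosed_range
    have hm : genericPoint V ∈ Set.range h.base := ⟨_, hgen⟩
    have hdense : closure {genericPoint V} = Set.univ := (genericPoint_spec V)
    have : Set.range h.base = Set.univ := by
      apply Set.eq_univ_of_univ_subset
      rw [← hdense]
      exact hr.closure_subset_iff.mpr (Set.singleton_subset_iff.mpr hm)
    exact Set.range_eq_univ.mp this
  have hemb : Topology.IsClosedEmbedding h.base :=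
    Topology.IsClosedEmbedding.of_continuous_injective_isClosedMap h.continuous hinj hclosed
  have haff : IsAffineHom h := isAffineHom_of_isInducing h hemb.isInducing hemb.isClosed_range
  have hint : IsIntegralHom h :=
    IsIntegralHom.iff_universallyClosed_and_isAffineHom.mpr ⟨inferInstance, haff⟩
  have hFy : IsField (V.presheaf.stalk (h.base (genericPoint U))) := stalk_isField _ hgen
  have hFx : IsField (U.presheaf.stalk (genericPoint U)) := stalk_isField _ rfl
  -- stalk map bijective
  have hσ : Function.Bijective (h.stalkMap (genericPoint U)).hom := by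
    have e := Scheme.residue_residueFieldMap h (genericPoint U)
    have b1 := residue_bij_of_isField _ hFy
    have b2 := residue_bij_of_isField _ hFx
    have b3 : Function.Bijective ((V.residue (h.base (genericPoint U)) ≫ h.residueFieldMap (genericPoint U)).hom) := by
      rw [CommRingCat.hom_comp]
      exact hbir.comp b1
    rw [e, CommRingCat.hom_comp] at b3
    exact (Function.Bijective.of_comp_iff' b2 _).mp b3
  -- sections
  have key : ∀ W : V.Opens, IsAffineOpen W → Function.Bijective (h.app W).hom := by
    intro W hW
    by_cases hne : Nonempty W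
    · have hyW : h.base (genericPoint U) ∈ W := by
        rw [hgen]
        exact ((genericPoint_spec V).mem_open_set_iff W.isOpen).mpr (by simpa using hne)
      have hxW : genericPoint U ∈ h ⁻¹ᵁ W := hyW
      have hcomm := h.germ_stalkMap W (genericPoint U) hyW
      have hgU := germ_injective_of_isIntegral (X := U) (genericPoint U) hxW
      have hgV := germ_injective_of_isIntegral (X := V) (h.base (genericPoint U)) hyW
      have hcomm' : ∀ a, h.stalkMap (genericPoint U) (V.presheaf.germ W _ hyW a) =
          U.presheaf.germ (h ⁻¹ᵁ W) (genericPoint U) hxW (h.app W a) := fun a =>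
        h.germ_stalkMap_apply W (genericPoint U) hyW a
      constructor
      · intro a a' haa
        apply hgV
        apply hσ.1
        change h.stalkMap (genericPoint U) (V.presheaf.germ W _ hyW a) =
          h.stalkMap (genericPoint U) (V.presheaf.germ W _ hyW a')
        rw [hcomm', hcomm']
        exact congrArg _ haa
      · intro b
        obtain ⟨c, hc⟩ := hσ.2 (U.presheaf.germ (h ⁻¹ᵁ W) (genericPoint U) hxW b)
        have hb := hint.isIntegral_app W hW b
        obtain ⟨p, hpm, hp⟩ := hb
        have hcint : (V.presheaf.germ W _ hyW).hom.IsIntegralElem c := by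
          refine ⟨p, hpm, ?_⟩
          apply hσ.1
          rw [Polynomial.hom_eval₂, map_zero, hc]
          have e1 : (h.stalkMap (genericPoint U)).hom.comp (V.presheaf.germ W _ hyW).hom =
              (U.presheaf.germ (h ⁻¹ᵁ W) (genericPoint U) hxW).hom.comp (h.app W).hom := by
            ext a
            exact hcomm' a
          rw [e1, ← Polynomial.hom_eval₂, hp, map_zero]
        obtain ⟨a, ha⟩ := intClosed_germ hN _ hgen W hW hyW c hcint
        refine ⟨a, ?_⟩
        apply hgU
        change U.presheaf.germ (h ⁻¹ᵁ W) (genericPoint U) hxW (h.app W a) = _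
        rw [← hcomm', ha]
        exact hc
    · have hW0 : W = ⊥ := by
        ext v
        simp only [TopologicalSpace.Opens.coe_bot, Set.mem_empty_iff_false, iff_false]
        intro hv
        exact hne ⟨⟨v, hv⟩⟩
      subst hW0
      haveI : Subsingleton Γ(U, h ⁻¹ᵁ ⊥) := by
        rw [Scheme.Hom.preimage_bot]
        infer_instance
      exact ⟨fun a a' _ => Subsingleton.elim _ _, fun b => ⟨0, Subsingleton.elim _ _⟩⟩
  rw [← MorphismProperty.isomorphisms.iff]
  rw [@HasAffineProperty.iff_of_iSup_eq_top _ _
      instHasAffinePropertyIsomorphismsSchemeAndIsAffineIsIsoCommRingCatAppTop.{u} _ _ h _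
      (fun W : V.affineOpens => W) (iSup_affineOpens_eq_top V)]
  intro W
  refine ⟨W.2.preimage h, ?_⟩
  rw [morphismRestrict_appTop]
  have h1 : IsIso (h.app (W.1.ι ''ᵁ ⊤)) := by
    have hb := key (W.1.ι ''ᵁ ⊤) (by rw [Scheme.Opens.ι_image_top]; exact W.2)
    exact (ConcreteCategory.isIso_iff_bijective _).mpr hb
  have key1 : ∀ {A B C : CommRingCat.{u}} (a : A ⟶ B) (b : B ⟶ C), IsIso a → IsIso b → IsIso (a ≫ b) :=
    fun a b ha hb => IsIso.comp_isIso
  have key2 : ∀ (P Q : U.Opens) (e : P = Q), IsIso (U.presheaf.map (eqToHom e).op) := by
    intro P Q e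
    subst e
    simp only [eqToHom_refl, op_id, CategoryTheory.Functor.map_id]
    infer_instance
  exact key1 _ _ h1 (key2 _ _ _)

end Groth.Agent.S3568
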