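import Groth.Statements.S2102
import Groth.Agent.S3568
import Mathlib

set_option autoImplicit false
universe u
open CategoryTheory AlgebraicGeometry
open Mor

namespace Groth.Agent.S2102


/-- The ring of global sections of an integral normal scheme is an integrally closed domain. -/
theorem result (X : Scheme.{u}) [IsIntegral X] (hX : Pi1.IsNormalScheme X) :
    IsIntegrallyClosed (Γ(X, ⊤) : Type u) := by
  haveI : Nonempty (⊤ : X.Opens) := ⟨⟨genericPoint X, trivial⟩⟩
  haveI : IsDomain Γ(X, ⊤) := inferInstance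
  rw [isIntegrallyClosed_iff (FractionRing Γ(X, ⊤))]
  intro x hx
  -- the embedding into the function field
  have hgerm : Function.Injective (X.presheaf.germ ⊤ (genericPoint X) trivial).hom :=
    germ_injective_of_isIntegral (X := X) (U := ⊤) (genericPoint X) trivial
  let ι : FractionRing Γ(X, ⊤) →+* X.functionField := IsFractionRing.lift hgerm
  have hι : ∀ r : Γ(X, ⊤), ι (algebraMap Γ(X, ⊤) (FractionRing Γ(X, ⊤)) r) =
      X.presheaf.germ ⊤ (genericPoint X) trivial r := fun r => IsFractionRing.lift_algebraMap hgerm r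
  obtain ⟨p, hpm, hp⟩ := hx
  -- affine neighbourhoods
  have hW : ∀ y : X, ∃ W : X.Opens, IsAffineOpen W ∧ y ∈ W := by
    intro y
    obtain ⟨W, hW, hyW, -⟩ := TopologicalSpace.Opens.isBasis_iff_nbhd.mp X.isBasis_affineOpens
      (show y ∈ (⊤ : X.Opens) from trivial)
    exact ⟨W, hW, hyW⟩
  choose W hWaff hyW using hW
  have hη : ∀ y : X, genericPoint X ∈ W y := fun y =>
    ((genericPoint_spec X).mem_open_set_iff (W y).isOpen).mpr ⟨y, trivial, hyW y⟩
  -- local sections
  have hs : ∀ y : X, ∃ s : Γ(X, W y), X.presheaf.germ (W y) (genericPoint X) (hη y) s = ι x := by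
    intro y
    apply Groth.Agent.S3568.intClosed_germ hX (genericPoint X) rfl (W y) (hWaff y) (hη y)
    refine ⟨p.map (X.presheaf.map (homOfLE (le_top : W y ≤ ⊤)).op).hom, hpm.map _, ?_⟩
    rw [Polynomial.eval₂_map]
    have e1 : (X.presheaf.germ (W y) (genericPoint X) (hη y)).hom.comp
        (X.presheaf.map (homOfLE (le_top : W y ≤ ⊤)).op).hom =
        ι.comp (algebraMap Γ(X, ⊤) (FractionRing Γ(X, ⊤))) := by
      ext r
      rw [RingHom.comp_apply, RingHom.comp_apply, hι]
      exact X.presheaf.germ_res_apply (homOfLE (le_top : W y ≤ ⊤)) (genericPoint X) (hη y) r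
    rw [e1, ← Polynomial.hom_eval₂, hp, map_zero]
  choose s hs using hs
  have hcompat : TopCat.Presheaf.IsCompatible X.presheaf W s := by
    intro y z
    have hyz : genericPoint X ∈ W y ⊓ W z := ⟨hη y, hη z⟩
    apply germ_injective_of_isIntegral (X := X) (genericPoint X) hyz
    change X.presheaf.germ (W y ⊓ W z) (genericPoint X) hyz
        (X.presheaf.map (TopologicalSpace.Opens.infLELeft (W y) (W z)).op (s y)) =
      X.presheaf.germ (W y ⊓ W z) (genericPoint X) hyz
        (X.presheaf.map (TopologicalSpace.Opens.infLERight (W y) (W z)).op (s z))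
    rw [X.presheaf.germ_res_apply, X.presheaf.germ_res_apply, hs, hs]
  obtain ⟨t, ht, -⟩ : ∃! t : Γ(X, ⊤), ∀ y : X,
      X.presheaf.map (homOfLE (le_top : W y ≤ ⊤)).op t = s y :=
    X.sheaf.existsUnique_gluing' W ⊤ (fun y => homOfLE le_top)
      (fun y _ => TopologicalSpace.Opens.mem_iSup.mpr ⟨y, hyW y⟩) s hcompat
  refine ⟨t, ?_⟩
  apply ι.injective
  rw [hι]
  have h1 := ht (genericPoint X)
  rw [← hs (genericPoint X), ← h1]
  exact (X.presheaf.germ_res_apply (homOfLE (le_top : W (genericPoint X) ≤ ⊤)) (genericPoint X)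
    (hη _) t).symm

end Groth.Agent.S2102
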