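import Groth.Statements.S2113
import Mathlib

set_option autoImplicit false
universe u
open CAlg

namespace Groth.Agent.S2113

theorem gdomain_finite {D : Type*} [CommRing D] [IsDomain D] [IsNoetherianRing D] (x : D) (hx : x ≠ 0)
    (hall : ∀ q : Ideal D, q.IsPrime → q ≠ ⊥ → x ∈ q) : Finite (PrimeSpectrum D) := by
  classical
  have hMfin : (Ideal.span {x}).minimalPrimes.Finite :=
    Ideal.finite_minimalPrimes_of_isNoetherianRing D _
  have claim : ∀ q : Ideal D, q.IsPrime → q ≠ ⊥ → q ∈ (Ideal.span {x}).minimalPrimes := by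
    intro q hq hq0
    by_contra hqM
    have hxq : Ideal.span {x} ≤ q := by
      rw [Ideal.span_le, Set.singleton_subset_iff]; exact hall q hq hq0
    set F : Set (Ideal D) := {q' ∈ (Ideal.span {x}).minimalPrimes | q' ≤ q} with hF
    have hFfin : F.Finite := hMfin.subset (fun q' h => h.1)
    obtain ⟨q0, hq0M, hq0q⟩ := Ideal.exists_minimalPrimes_le hxq
    have hnot : ¬ ((q : Set D) ⊆ ⋃ i ∈ (↑hFfin.toFinset : Set (Ideal D)), (id i : Ideal D)) := by
      rw [Ideal.subset_union_prime (f := id) ⊥ ⊥]
      · rintro ⟨i, hi, hqi⟩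
        rw [Set.Finite.mem_toFinset] at hi
        have : i = q := le_antisymm hi.2 hqi
        exact hqM (this ▸ hi.1)
      · intro i hi _ _
        rw [Set.Finite.mem_toFinset] at hi
        exact hi.1.1.1
    rw [Set.not_subset] at hnot
    obtain ⟨y, hyq, hyF⟩ := hnot
    have hyF' : ∀ q' ∈ F, y ∉ q' := by
      intro q' hq' hy
      apply hyF
      simp only [Set.mem_iUnion, Finset.mem_coe, Set.Finite.mem_toFinset, id]
      exact ⟨q', hq', hy⟩
    have hyq' : Ideal.span {y} ≤ q := by
      rw [Ideal.span_le, Set.singleton_subset_iff]; exact hyq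
    obtain ⟨q'', hq''M, hq''q⟩ := Ideal.exists_minimalPrimes_le hyq'
    have hq''prime : q''.IsPrime := hq''M.1.1
    have hyq'' : y ∈ q'' := hq''M.1.2 (Ideal.subset_span rfl)
    have hq''0 : q'' ≠ ⊥ := by
      intro h0
      rw [h0, Ideal.mem_bot] at hyq''
      exact hyF' q0 ⟨hq0M, hq0q⟩ (hyq'' ▸ q0.zero_mem)
    have hxq'' : Ideal.span {x} ≤ q'' := by
      rw [Ideal.span_le, Set.singleton_subset_iff]; exact hall q'' hq''prime hq''0
    obtain ⟨q', hq'M, hq'q''⟩ := Ideal.exists_minimalPrimes_le hxq''
    have hq'F : q' ∈ F := ⟨hq'M, hq'q''.trans hq''q⟩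
    have hq'prime : q'.IsPrime := hq'M.1.1
    have hq'0 : (⊥ : Ideal D) < q' := by
      rw [bot_lt_iff_ne_bot]
      intro h0
      have : x ∈ q' := hq'M.1.2 (Ideal.subset_span rfl)
      rw [h0, Ideal.mem_bot] at this
      exact hx this
    have hht : q''.height ≤ 1 :=
      Ideal.height_le_one_of_isPrincipal_of_mem_minimalPrimes (Ideal.span {y}) q'' hq''M
    have heq : q' = q'' := by
      by_contra hne
      have hlt : q' < q'' := lt_of_le_of_ne hq'q'' hne
      have h1 : (⊥ : Ideal D).height < q'.height :=
        Ideal.height_strict_mono_of_isPrime_of_isPrime hq'0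
      have h2 : q'.height < q''.height := Ideal.height_strict_mono_of_isPrime_of_isPrime hlt
      have h3 : (1 : ℕ∞) ≤ q'.height := Order.one_le_iff_pos.mpr (lt_of_le_of_lt bot_le h1)
      exact absurd (lt_of_le_of_lt h3 h2) (not_lt.mpr hht)
    exact hyF' q' hq'F (heq ▸ hyq'')
  have hsub : (Set.univ : Set (PrimeSpectrum D)) ⊆
      {⊥} ∪ (PrimeSpectrum.asIdeal ⁻¹' (Ideal.span {x}).minimalPrimes) := by
    intro q _
    by_cases hq0 : q.asIdeal = ⊥
    · left
      simp only [Set.mem_singleton_iff]
      exact PrimeSpectrum.ext hq0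
    · right
      exact claim q.asIdeal q.isPrime hq0
  have hfin : (Set.univ : Set (PrimeSpectrum D)).Finite := by
    apply Set.Finite.subset _ hsub
    apply Set.Finite.union (Set.finite_singleton _)
    apply Set.Finite.preimage _ hMfin
    intro a _ b _ hab
    exact PrimeSpectrum.ext hab
  exact Set.finite_univ_iff.mp hfin

/-- A Noetherian ring in which each prime is maximal or else lies below infinitely many primes is a
Jacobson ring. -/
theorem result {R : Type u} [CommRing R] [IsNoetherianRing R]
    (h : ∀ (p : Ideal R) [p.IsPrime], p.IsMaximal ∨ {q : PrimeSpectrum R | p ≤ q.asIdeal}.Infinite) :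
    IsJacobsonRing R := by
  rw [isJacobsonRing_iff_prime_eq]
  intro P
  induction P using WellFoundedGT.induction with
  | ind P ih =>
    intro hP
    rcases h P with hmax | hinf
    · exact Ideal.jacobson_eq_self_of_isMaximal
    · by_contra hne
      have hlt : P < P.jacobson := lt_of_le_of_ne Ideal.le_jacobson (Ne.symm hne)
      obtain ⟨x, hxJ, hxP⟩ := Set.exists_of_ssubset hlt
      apply hinf
      have hπ : Function.Surjective (Ideal.Quotient.mk P) := Ideal.Quotient.mk_surjective
      haveI : Finite (PrimeSpectrum (R ⧸ P)) := by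
        apply gdomain_finite (Ideal.Quotient.mk P x)
        · rw [Ne, Ideal.Quotient.eq_zero_iff_mem]; exact hxP
        · intro q hq hq0
          have hQprime : (q.comap (Ideal.Quotient.mk P)).IsPrime := hq.comap _
          have hPQ : P ≤ q.comap (Ideal.Quotient.mk P) := by
            intro a ha
            rw [Ideal.mem_comap, Ideal.Quotient.eq_zero_iff_mem.mpr ha]
            exact q.zero_mem
          have hne' : P ≠ q.comap (Ideal.Quotient.mk P) := by
            intro heq
            apply hq0
            apply Ideal.comap_injective_of_surjective _ hπ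
            rw [← heq, ← RingHom.ker_eq_comap_bot, Ideal.mk_ker]
          have hJ := ih _ (lt_of_le_of_ne hPQ hne') hQprime
          have : x ∈ (q.comap (Ideal.Quotient.mk P)).jacobson := Ideal.jacobson_mono hPQ hxJ
          rw [hJ] at this
          exact this
      have hrange : {q : PrimeSpectrum R | P ≤ q.asIdeal} =
          Set.range (PrimeSpectrum.comap (Ideal.Quotient.mk P)) := by
        rw [range_comap_of_surjective _ _ hπ, Ideal.mk_ker]
        ext q
        simp [PrimeSpectrum.mem_zeroLocus]
      rw [hrange]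
      exact Set.finite_range _

end Groth.Agent.S2113
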