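import Groth.Statements.S2120
import Mathlib

set_option autoImplicit false
universe u
open CategoryTheory AlgebraicGeometry
open Mor

namespace Groth.Agent.S2120


/-- Let `f : X → Y` be surjective and universally closed. If `X` is quasi-separated then so is `Y`; if
`X` is separated then so is `Y`. -/
theorem result {X Y : Scheme.{u}} (f : X ⟶ Y) [Surjective f] [UniversallyClosed f] :
    (QuasiSeparatedSpace X → QuasiSeparatedSpace Y) ∧ (X.IsSeparated → Y.IsSeparated) := by
  have h1 : UniversallyClosed (Limits.prod.map f (𝟙 X)) :=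
    MorphismProperty.of_isPullback (P := @UniversallyClosed) (IsPullback.of_prod_fst_with_id f X) ‹_›
  have h1' : Surjective (Limits.prod.map f (𝟙 X)) :=
    MorphismProperty.of_isPullback (P := @Surjective) (IsPullback.of_prod_fst_with_id f X) ‹_›
  have h2 : UniversallyClosed (Limits.prod.map f (𝟙 Y)) :=
    MorphismProperty.of_isPullback (P := @UniversallyClosed) (IsPullback.of_prod_fst_with_id f Y) ‹_›
  have h2' : Surjective (Limits.prod.map f (𝟙 Y)) :=
    MorphismProperty.of_isPullback (P := @Surjective) (IsPullback.of_prod_fst_with_id f Y) ‹_›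
  have e : Limits.prod.map f f = Limits.prod.map f (𝟙 X) ≫ (Limits.prod.braiding Y X).hom ≫ Limits.prod.map f (𝟙 Y) ≫
      (Limits.prod.braiding Y Y).hom := by
    ext
    · simp only [Limits.prod.map_fst, Category.assoc, Limits.prod.braiding_hom, Limits.prod.lift_fst, Limits.prod.lift_snd,
        Limits.prod.map_snd, Category.comp_id, Limits.prod.lift_fst_assoc, Limits.prod.lift_snd_assoc, Limits.prod.map_fst_assoc]
    · simp only [Limits.prod.map_snd, Category.assoc, Limits.prod.braiding_hom, Limits.prod.lift_fst, Limits.prod.lift_snd,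
        Limits.prod.map_fst, Category.comp_id, Limits.prod.lift_fst_assoc, Limits.prod.lift_snd_assoc, Limits.prod.map_snd_assoc,
        Category.id_comp]
  have hF : UniversallyClosed (Limits.prod.map f f) := by
    rw [e]; infer_instance
  have hF' : Surjective (Limits.prod.map f f) := by
    rw [e]; infer_instance
  have comm : Limits.prod.lift (𝟙 X) (𝟙 X) ≫ Limits.prod.map f f = f ≫ Limits.prod.lift (𝟙 Y) (𝟙 Y) := by
    ext <;> simp
  constructor
  · intro hX
    rw [quasiSeparatedSpace_iff_quasiCompact_prod_lift] at hX ⊢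
    have hqc : QuasiCompact (f ≫ Limits.prod.lift (𝟙 Y) (𝟙 Y)) := by
      rw [← comm]; infer_instance
    constructor
    intro U hU hU'
    have := hqc.1 U hU hU'
    have e2 : (Limits.prod.lift (𝟙 Y) (𝟙 Y)) ⁻¹' U = f '' ((f ≫ Limits.prod.lift (𝟙 Y) (𝟙 Y)) ⁻¹' U) := by
      ext y
      constructor
      · intro hy
        obtain ⟨x, rfl⟩ := f.surjective y
        exact ⟨x, hy, rfl⟩
      · rintro ⟨x, hx, rfl⟩
        exact hx
    rw [e2]
    exact this.image f.continuous
  · intro hX
    rw [Scheme.isSeparated_iff_isClosedImmersion_prod_lift] at hX ⊢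
    apply IsClosedImmersion.of_isPreimmersion
    have e2 : Set.range (Limits.prod.lift (𝟙 Y) (𝟙 Y)) =
        (Limits.prod.map f f) '' Set.range (Limits.prod.lift (𝟙 X) (𝟙 X)) := by
      ext y
      constructor
      · rintro ⟨y0, rfl⟩
        obtain ⟨x, rfl⟩ := f.surjective y0
        refine ⟨_, ⟨x, rfl⟩, ?_⟩
        rw [← Scheme.Hom.comp_apply, ← Scheme.Hom.comp_apply, comm]
      · rintro ⟨_, ⟨x, rfl⟩, rfl⟩
        refine ⟨f x, ?_⟩
        rw [← Scheme.Hom.comp_apply, ← Scheme.Hom.comp_apply, comm]
    rw [e2]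
    exact (Limits.prod.map f f).isClosedMap _ (Limits.prod.lift (𝟙 X) (𝟙 X)).isClosedEmbedding.isClosed_range

end Groth.Agent.S2120
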