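import Groth.Statements.S2121
import Mathlib

set_option autoImplicit false
universe u
open CategoryTheory AlgebraicGeometry
open Mor

namespace Groth.Agent.S2121

lemma affine_spec {R S : Type u} [CommRing R] [CommRing S] (ψ : R →+* S) (z : PrimeSpectrum R)
    (hz : z ∈ closure (Set.range (PrimeSpectrum.comap ψ))) :
    ∃ q : PrimeSpectrum S, PrimeSpectrum.comap ψ q ⤳ z := by
  rw [PrimeSpectrum.closure_range_comap, PrimeSpectrum.mem_zeroLocus] at hz
  have hle : (⊥ : Ideal S).comap ψ ≤ z.asIdeal := by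
    intro a ha
    exact hz (by simpa [RingHom.mem_ker] using ha)
  obtain ⟨p, hp, hpz⟩ := Ideal.exists_minimalPrimes_le hle
  obtain ⟨p', hp'prime, -, hp'⟩ := Ideal.exists_comap_eq_of_mem_minimalPrimes ψ p hp
  refine ⟨⟨p', hp'prime⟩, ?_⟩
  rw [← PrimeSpectrum.le_iff_specializes]
  show (PrimeSpectrum.comap ψ ⟨p', hp'prime⟩).asIdeal ≤ z.asIdeal
  rw [PrimeSpectrum.comap_asIdeal, hp']
  exact hpz

lemma exists_specializes {X Y : Scheme.{u}} (f : X ⟶ Y) [QuasiCompact f] (z : Y)
    (hz : z ∈ closure (Set.range f.base)) : ∃ x : X, f.base x ⤳ z := by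
  obtain ⟨_, ⟨V, hV, rfl⟩, hzV, -⟩ := Y.isBasis_affineOpens.exists_subset_of_mem_open
    (Set.mem_univ z) isOpen_univ
  haveI := hV.isOpenImmersion_fromSpec
  have hcomp : IsCompact ((f ⁻¹ᵁ V : X.Opens) : Set X) :=
    QuasiCompact.isCompact_preimage (f := f) _ V.isOpen hV.isCompact
  obtain ⟨R', φ, hφ⟩ := isCompact_iff_exists.mp hcomp
  have hz' : z ∈ closure (Set.range (φ ≫ f).base) := by
    rw [mem_closure_iff] at hz ⊢
    intro o ho hzo
    obtain ⟨y, hy1, ⟨x, rfl⟩⟩ := hz (o ∩ V) (ho.inter V.isOpen) ⟨hzo, hzV⟩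
    have hx : x ∈ Set.range φ.base := by rw [hφ]; exact hy1.2
    obtain ⟨w, rfl⟩ := hx
    exact ⟨_, hy1.1, ⟨w, rfl⟩⟩
  have hrange : Set.range (φ ≫ f).base ⊆ Set.range hV.fromSpec.base := by
    rw [hV.range_fromSpec]
    rintro _ ⟨w, rfl⟩
    have : φ.base w ∈ ((f ⁻¹ᵁ V : X.Opens) : Set X) := hφ ▸ Set.mem_range_self w
    exact this
  have hfac : IsOpenImmersion.lift hV.fromSpec (φ ≫ f) hrange ≫ hV.fromSpec = φ ≫ f :=
    IsOpenImmersion.lift_fac _ _ _
  obtain ⟨ψ, hψ⟩ := Spec.map_surjective (IsOpenImmersion.lift hV.fromSpec (φ ≫ f) hrange)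
  rw [← hψ] at hfac
  obtain ⟨z'', rfl⟩ : z ∈ Set.range hV.fromSpec.base := by rw [hV.range_fromSpec]; exact hzV
  have hz'' : z'' ∈ closure (Set.range (Spec.map ψ).base) := by
    rw [hV.fromSpec.isOpenEmbedding.isEmbedding.closure_eq_preimage_closure_image]
    show hV.fromSpec.base z'' ∈ closure (hV.fromSpec.base '' Set.range (Spec.map ψ).base)
    rw [← Set.range_comp]
    have : (hV.fromSpec.base ∘ (Spec.map ψ).base) = (φ ≫ f).base := by
      rw [← hfac]; rfl
    rw [this]
    exact hz'
  obtain ⟨q, hq⟩ := affine_spec ψ.hom z'' hz''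
  refine ⟨φ.base q, ?_⟩
  have h1 : f.base (φ.base q) = hV.fromSpec.base ((Spec.map ψ).base q) := by
    have := congrArg (fun g => g.base q) hfac
    exact this.symm
  rw [h1]
  exact Specializes.map hq hV.fromSpec.base.hom.continuous

/-- Let `f : X → Y` be quasi-compact and `z` a point in the closure of `f(X)` (the underlying set of the
scheme theoretic image). Then there are a valuation ring `A` with fraction field `K` and morphisms
`Spec K → X`, `Spec A → Y` forming a commutative square with `f` and `Spec K → Spec A`, such that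
the closed point of `Spec A` maps to `z`. -/
theorem result {X Y : Scheme.{u}} (f : X ⟶ Y) [QuasiCompact f] (z : Y)
    (hz : z ∈ closure (Set.range f.base)) :
    ∃ (A : Type u) (_ : CommRing A) (_ : IsDomain A) (_ : ValuationRing A)
      (x : Spec (CommRingCat.of (FractionRing A)) ⟶ X) (y : Spec (CommRingCat.of A) ⟶ Y),
      x ≫ f = Spec.map (CommRingCat.ofHom (algebraMap A (FractionRing A))) ≫ y ∧
      y.base (IsLocalRing.closedPoint A) = z := by
  obtain ⟨x', h⟩ := exists_specializes f z hz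
  let stalk_y_to_residue_x' : Y.presheaf.stalk z ⟶ X.residueField x' :=
    Y.presheaf.stalkSpecializes h ≫ f.stalkMap x' ≫ X.residue x'
  obtain ⟨A, hA, hA_local⟩ := IsLocalRing.exists_factor_valuationRing stalk_y_to_residue_x'.hom
  let stalk_y_to_A : Y.presheaf.stalk z ⟶ .of A :=
    CommRingCat.ofHom (stalk_y_to_residue_x'.hom.codRestrict _ hA)
  have w : X.fromSpecResidueField x' ≫ f =
      Spec.map (CommRingCat.ofHom (algebraMap A (X.residueField x'))) ≫
        Spec.map stalk_y_to_A ≫ Y.fromSpecStalk z := by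
    rw [Scheme.fromSpecResidueField, Category.assoc, ← Scheme.SpecMap_stalkMap_fromSpecStalk,
      ← Scheme.SpecMap_stalkSpecializes_fromSpecStalk h]
    simp_rw [← Spec.map_comp_assoc]
    rfl
  let e : X.residueField x' →+* FractionRing A :=
    ((FractionRing.algEquiv A (X.residueField x')).symm : X.residueField x' →+* FractionRing A)
  refine ⟨A, inferInstance, inferInstance, inferInstance,
    Spec.map (CommRingCat.ofHom e) ≫ X.fromSpecResidueField x',
    Spec.map stalk_y_to_A ≫ Y.fromSpecStalk z, ?_, ?_⟩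
  · rw [Category.assoc, w, ← Spec.map_comp_assoc]
    congr 2
    ext a
    exact (FractionRing.algEquiv A (X.residueField x')).symm.commutes a
  · have : (Spec.map stalk_y_to_A).base (IsLocalRing.closedPoint A) =
        IsLocalRing.closedPoint (Y.presheaf.stalk z) :=
      IsLocalRing.comap_closedPoint (S := A) (stalk_y_to_residue_x'.hom.codRestrict A.toSubring hA)
    show (Y.fromSpecStalk z).base ((Spec.map stalk_y_to_A).base (IsLocalRing.closedPoint A)) = z
    rw [this, Y.fromSpecStalk_closedPoint]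

end Groth.Agent.S2121
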