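import Groth.Statements.S2123
import Mathlib
import Groth.Agent.Lib.Helper24.LocalRingsFF

set_option autoImplicit false
universe u
open CategoryTheory AlgebraicGeometry
open Mor

namespace Groth.Agent.S2123

/-- Let `X` be an integral separated scheme and `x, y` points such that the closure of `x` is not
contained in the closure of `y`. Then, inside the function field of `X`, the local ring at `x` is
not contained in the local ring at `y`. -/
theorem result (X : Scheme.{u}) [IsIntegral X] [X.IsSeparated] (x y : X)
    (h : ¬ closure ({x} : Set X) ⊆ closure {y}) :
    ¬ Set.range (X.presheaf.stalkSpecializes (genericPoint_specializes x)) ⊆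
        Set.range (X.presheaf.stalkSpecializes (genericPoint_specializes y)) := by
  intro hsub
  apply h
  apply Specializes.closure_subset
  refine Groth.Agent.Helper24.LocalRingsFF.specializes_of_forall_exists X x y (fun a => ?_)
  obtain ⟨b, hb⟩ := hsub (Set.mem_range_self a)
  exact ⟨b, hb⟩

end Groth.Agent.S2123
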