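import Groth.Statements.S2131
import Mathlib

set_option autoImplicit false
universe u
open CAlg

namespace Groth.Agent.S2131

theorem bijective_map_of_le {R M N : Type*} [CommRing R] [AddCommGroup M] [Module R M]
    [AddCommGroup N] [Module R N] (S T : Submonoid R) (hST : S ≤ T) (l : M →ₗ[R] N)
    (h : Function.Bijective (LocalizedModule.map S l)) :
    Function.Bijective (LocalizedModule.map T l) := by
  constructor
  · rw [injective_iff_map_eq_zero]
    intro x
    induction x using LocalizedModule.induction_on with
    | h m t =>
      intro hx
      rw [LocalizedModule.map_mk, ← LocalizedModule.zero_mk t, LocalizedModule.mk_eq] at hx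
      obtain ⟨u, hu⟩ := hx
      simp only [smul_zero] at hu
      -- u • t • l m = 0
      have h1 : l ((u * t : T) • m) = 0 := by
        have e : ((u * t : T) • m) = ((u : R) * (t : R)) • m := rfl
        rw [e, map_smul, mul_smul]; exact hu
      have h2 : LocalizedModule.map S l (LocalizedModule.mk ((u * t : T) • m) 1) = 0 := by
        rw [LocalizedModule.map_mk, h1, LocalizedModule.zero_mk]
      have h3 := h.1 (h2.trans (map_zero _).symm)
      rw [← LocalizedModule.zero_mk (1 : S), LocalizedModule.mk_eq] at h3
      obtain ⟨s, hs⟩ := h3
      simp only [smul_zero, one_smul] at hs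
      rw [← LocalizedModule.zero_mk t, LocalizedModule.mk_eq]
      refine ⟨⟨s, hST s.2⟩ * (u * t), ?_⟩
      simp only [smul_zero]
      rw [mul_smul]
      have : (⟨s, hST s.2⟩ : T) • ((u * t : T) • (t • m)) = t • ((s : R) • ((u * t : T) • m)) := by
        simp only [Submonoid.smul_def, Submonoid.coe_mul]
        rw [smul_comm (↑t : R), smul_comm (↑t : R)]
      rw [this]
      have hs' : (s : R) • ((u * t : T) • m) = 0 := hs
      rw [hs', smul_zero]
  · intro y
    induction y using LocalizedModule.induction_on with
    | h n t =>
      obtain ⟨x, hx⟩ := h.2 (LocalizedModule.mk n 1)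
      induction x using LocalizedModule.induction_on with
      | h m s =>
        rw [LocalizedModule.map_mk, LocalizedModule.mk_eq] at hx
        obtain ⟨u, hu⟩ := hx
        simp only [one_smul] at hu
        -- hu : u • l m = u • s • n
        refine ⟨LocalizedModule.mk ((u : R) • m) (⟨u, hST u.2⟩ * ⟨s, hST s.2⟩ * t), ?_⟩
        rw [LocalizedModule.map_mk, LocalizedModule.mk_eq]
        refine ⟨1, ?_⟩
        simp only [one_smul, map_smul]
        have hu' : (u : R) • l m = (u : R) • (s : R) • n := hu
        rw [hu']
        simp only [Submonoid.smul_def, Submonoid.coe_mul, mul_smul]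
        rw [smul_comm (↑t : R) (↑u : R), smul_comm (↑t : R) (↑s : R)]

/-- For an `R`-linear map from a finite module to a finitely presented module, the primes at which its
localization is bijective form an open subset of `Spec R`. -/
theorem result {R M N : Type u} [CommRing R] [AddCommGroup M] [Module R M] [Module.Finite R M]
    [AddCommGroup N] [Module R N] [Module.FinitePresentation R N] (φ : M →ₗ[R] N) :
    IsOpen {p : PrimeSpectrum R | Function.Bijective (LocalizedModule.map p.asIdeal.primeCompl φ)} := by
  rw [isOpen_iff_forall_mem_open]
  intro p hp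
  have hp' : Function.Bijective (IsLocalizedModule.map p.asIdeal.primeCompl
      (LocalizedModule.mkLinearMap p.asIdeal.primeCompl M)
      (LocalizedModule.mkLinearMap p.asIdeal.primeCompl N) φ) := by
    rw [IsLocalizedModule.map_bijective_iff_localizedModuleMap_bijective]
    exact hp
  obtain ⟨g, hg, hbij⟩ := Module.FinitePresentation.exists_notMem_bijective φ p.asIdeal
    (LocalizedModule.mkLinearMap p.asIdeal.primeCompl M)
    (LocalizedModule.mkLinearMap p.asIdeal.primeCompl N) hp'
  refine ⟨PrimeSpectrum.basicOpen g, ?_, (PrimeSpectrum.basicOpen g).isOpen, hg⟩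
  intro q hq
  refine bijective_map_of_le (Submonoid.powers g) q.asIdeal.primeCompl ?_ φ hbij
  rw [Submonoid.powers_le]
  exact hq

end Groth.Agent.S2131
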