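import Groth.Statements.S2132
import Mathlib

set_option autoImplicit false
universe u
open CategoryTheory
open CAlg

namespace Groth.Agent.S2132


/-- Let `F : J ⥤ CommRingCat` be a filtered diagram of henselian local rings with local transition maps
and `c` a colimit cocone. Then the colimit is a henselian local ring. -/
theorem result {J : Type u} [SmallCategory J] [IsFiltered J] (F : J ⥤ CommRingCat.{u})
    (hF : ∀ j, HenselianLocalRing (F.obj j)) (hloc : ∀ (i j : J) (a : i ⟶ j), IsLocalHom (F.map a).hom)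
    (c : Limits.Cocone F) (hc : Limits.IsColimit c) : HenselianLocalRing c.pt := by
  classical
  have hcomp : ∀ {i j : J} (a : i ⟶ j) (x : F.obj i), (c.ι.app j).hom ((F.map a).hom x) = (c.ι.app i).hom x := by
    intro i j a x
    have := c.w a
    rw [← this]
    rfl
  have hE : ∀ x : c.pt, ∃ (j : J) (y : F.obj j), (c.ι.app j).hom y = x := by
    intro x
    exact Limits.Concrete.isColimit_exists_rep F hc x
  have hU : ∀ (j : J) (x y : F.obj j), (c.ι.app j).hom x = (c.ι.app j).hom y →
      ∃ (k : J) (a : j ⟶ k), (F.map a).hom x = (F.map a).hom y := by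
    intro j x y h
    exact (Limits.IsColimit.eq_iff' hc x y).mp h
  haveI hFl : ∀ j, IsLocalRing (F.obj j) := fun j => (hF j).toIsLocalRing
  -- (1) the maps to the colimit are local
  have hιloc : ∀ (j : J) (x : F.obj j), IsUnit ((c.ι.app j).hom x) → IsUnit x := by
    intro j x hx
    obtain ⟨v, hv⟩ := hx.exists_right_inv
    obtain ⟨m, vm, rfl⟩ := hE v
    have h1 : (c.ι.app (IsFiltered.max j m)).hom
        ((F.map (IsFiltered.leftToMax j m)).hom x * (F.map (IsFiltered.rightToMax j m)).hom vm) =
        (c.ι.app (IsFiltered.max j m)).hom 1 := by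
      rw [map_mul, hcomp, hcomp, hv, map_one]
    obtain ⟨k', γ, hγ⟩ := hU _ _ _ h1
    rw [map_mul, map_one] at hγ
    have h2 : IsUnit ((F.map γ).hom ((F.map (IsFiltered.leftToMax j m)).hom x)) :=
      ⟨⟨_, _, hγ, by rw [mul_comm]; exact hγ⟩, rfl⟩
    haveI := hloc _ _ γ
    haveI := hloc _ _ (IsFiltered.leftToMax j m)
    exact isUnit_of_map_unit (F.map (IsFiltered.leftToMax j m)).hom x
      (isUnit_of_map_unit (F.map γ).hom _ h2)
  -- (2) the colimit is local
  haveI hnontriv : Nontrivial c.pt := by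
    refine ⟨⟨0, 1, fun h01 => ?_⟩⟩
    obtain ⟨j⟩ := (IsFiltered.nonempty : Nonempty J)
    have h1 : (c.ι.app j).hom 0 = (c.ι.app j).hom 1 := by rw [map_zero, map_one, h01]
    obtain ⟨k, a, ha⟩ := hU j 0 1 h1
    rw [map_zero, map_one] at ha
    exact zero_ne_one ha
  haveI hlocalC : IsLocalRing c.pt := by
    apply IsLocalRing.of_nonunits_add
    intro x y hx hy
    obtain ⟨i, xi, rfl⟩ := hE x
    obtain ⟨j, yj, rfl⟩ := hE y
    rw [← hcomp (IsFiltered.leftToMax i j) xi, ← hcomp (IsFiltered.rightToMax i j) yj, ← map_add]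
    intro hu
    have h1 := hιloc _ _ hu
    have hxk : (F.map (IsFiltered.leftToMax i j)).hom xi ∈ nonunits (F.obj (IsFiltered.max i j)) := by
      intro h
      apply hx
      rw [← hcomp (IsFiltered.leftToMax i j) xi]
      exact h.map _
    have hyk : (F.map (IsFiltered.rightToMax i j)).hom yj ∈ nonunits (F.obj (IsFiltered.max i j)) := by
      intro h
      apply hy
      rw [← hcomp (IsFiltered.rightToMax i j) yj]
      exact h.map _
    exact IsLocalRing.nonunits_add hxk hyk h1
  -- finite lifting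
  have hfin : ∀ (n : ℕ) (v : Fin n → c.pt), ∃ (k : J) (w : Fin n → F.obj k),
      ∀ i, (c.ι.app k).hom (w i) = v i := by
    intro n
    induction n with
    | zero =>
      intro v
      obtain ⟨j⟩ := (IsFiltered.nonempty : Nonempty J)
      exact ⟨j, Fin.elim0, fun i => i.elim0⟩
    | succ n ih =>
      intro v
      obtain ⟨k, w, hw⟩ := ih (fun i => v i.castSucc)
      obtain ⟨m, y, hy⟩ := hE (v (Fin.last n))
      refine ⟨IsFiltered.max k m, Fin.snoc (fun i => (F.map (IsFiltered.leftToMax k m)).hom (w i))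
        ((F.map (IsFiltered.rightToMax k m)).hom y), ?_⟩
      intro i
      refine Fin.lastCases ?_ (fun i => ?_) i
      · rw [Fin.snoc_last, hcomp, hy]
      · rw [Fin.snoc_castSucc, hcomp, hw]
  refine { toIsLocalRing := hlocalC, is_henselian := ?_ }
  intro f hf a₀ h₁ h₂
  obtain ⟨k, w, hw⟩ := hfin (f.natDegree + 1)
    (Fin.snoc (fun i : Fin f.natDegree => f.coeff i) a₀)
  have hw1 : ∀ i : Fin f.natDegree, (c.ι.app k).hom (w i.castSucc) = f.coeff i := by
    intro i
    rw [hw, Fin.snoc_castSucc]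
  have hw2 : (c.ι.app k).hom (w (Fin.last _)) = a₀ := by
    rw [hw, Fin.snoc_last]
  set fk : Polynomial (F.obj k) := Polynomial.X ^ f.natDegree +
    ∑ i : Fin f.natDegree, Polynomial.C (w i.castSucc) * Polynomial.X ^ (i : ℕ) with hfk
  have hfkmonic : fk.Monic :=
    Polynomial.monic_X_pow_add (Polynomial.degree_sum_fin_lt (fun i : Fin f.natDegree => w i.castSucc))
  have hfkmap : fk.map (c.ι.app k).hom = f := by
    rw [hfk, Polynomial.map_add, Polynomial.map_pow, Polynomial.map_X, Polynomial.map_sum]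
    conv_rhs => rw [hf.as_sum]
    congr 1
    rw [← Fin.sum_univ_eq_sum_range (fun i => Polynomial.C (f.coeff i) * Polynomial.X ^ i)]
    refine Finset.sum_congr rfl fun i _ => ?_
    rw [Polynomial.map_mul, Polynomial.map_C, Polynomial.map_pow, Polynomial.map_X, hw1]
  have heval : (c.ι.app k).hom (fk.eval (w (Fin.last _))) = f.eval a₀ := by
    rw [← Polynomial.eval_map_apply, hfkmap, hw2]
  have hderiv : (c.ι.app k).hom (fk.derivative.eval (w (Fin.last _))) = f.derivative.eval a₀ := by
    rw [← Polynomial.eval_map_apply, ← Polynomial.derivative_map, hfkmap, hw2]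
  have hk1 : fk.eval (w (Fin.last _)) ∈ IsLocalRing.maximalIdeal (F.obj k) := by
    intro hu
    apply h₁
    rw [← heval]
    exact hu.map _
  have hk2 : IsUnit (fk.derivative.eval (w (Fin.last _))) := by
    apply hιloc
    rw [hderiv]
    exact h₂
  obtain ⟨a, ha1, ha2⟩ := (hF k).is_henselian fk hfkmonic (w (Fin.last _)) hk1 hk2
  refine ⟨(c.ι.app k).hom a, ?_, ?_⟩
  · rw [Polynomial.IsRoot.def, ← hfkmap, Polynomial.eval_map_apply, ha1.eq_zero, map_zero]
  · rw [← hw2, ← map_sub]
    intro hu
    exact ha2 (hιloc _ _ hu)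

end Groth.Agent.S2132
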