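import Groth.Statements.S2133
import Mathlib

set_option autoImplicit false
universe u
open CAlg

namespace Groth.Agent.S2133

open scoped KaehlerDifferential in
theorem ext_der {R R' T : Type u} [CommRing R] [CommRing R'] [CommRing T] [Algebra R R'] [Algebra R' T]
    [Algebra R T] [IsScalarTower R R' T] [Algebra.FiniteType R R'] (g : R)
    [IsLocalization.Away (algebraMap R R' g) T]
    (hinj : Function.Injective (algebraMap R R')) (hιinj : Function.Injective (algebraMap R' T))
    (hloc : ∀ x : R', ∃ n : ℕ, (algebraMap R R' g) ^ n * x ∈ Set.range (algebraMap R R'))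
    (D : Derivation ℤ R R) :
    ∃ (N : ℕ) (D₃ : Derivation ℤ R' T), (∀ r : R, D₃ (algebraMap R R' r) = algebraMap R T (D r)) ∧
      ∀ x : R', ∃ z : R', algebraMap R' T z = algebraMap R' T ((algebraMap R R' g) ^ N) * D₃ x := by
  classical
  set g' : R' := algebraMap R R' g with hg'
  have hRT : ∀ r : R, algebraMap R T r = algebraMap R' T (algebraMap R R' r) :=
    fun r => IsScalarTower.algebraMap_apply R R' T r
  haveI : IsLocalization (Submonoid.powers g) T := by
    refine ⟨?_, ?_, ?_⟩
    · rintro ⟨_, n, rfl⟩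
      simp only
      rw [hRT, map_pow, map_pow]
      exact (IsLocalization.map_units T (⟨g', Submonoid.mem_powers g'⟩ : Submonoid.powers g')).pow n
    · intro t
      obtain ⟨⟨x, ⟨_, n, rfl⟩⟩, hx⟩ := IsLocalization.surj (Submonoid.powers g') t
      simp only at hx
      obtain ⟨k, r, hr⟩ := hloc x
      refine ⟨(r, ⟨g ^ (n + k), n + k, rfl⟩), ?_⟩
      simp only
      rw [hRT, hRT, hr, map_pow, ← hg', pow_add, map_mul, map_mul, ← hx]
      ring
    · intro a b hab
      refine ⟨1, ?_⟩
      rw [hRT, hRT] at hab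
      rw [hinj (hιinj hab)]
  haveI : Algebra.FormallyEtale R T := Algebra.FormallyEtale.of_isLocalization (Submonoid.powers g)
  have hbc := KaehlerDifferential.isBaseChange_of_formallyEtale ℤ R T
  let D₁ : Derivation ℤ R T := (Algebra.linearMap R T).compDer D
  let ℓ : Ω[T⁄ℤ] →ₗ[T] T := hbc.lift D₁.liftKaehlerDifferential
  let D₂ : Derivation ℤ T T := KaehlerDifferential.linearMapEquivDerivation ℤ T ℓ
  have hD₂ : ∀ r : R, D₂ (algebraMap R T r) = algebraMap R T (D r) := by
    intro r
    have : D₂ (algebraMap R T r) = ℓ (KaehlerDifferential.D ℤ T (algebraMap R T r)) := rfl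
    rw [this, ← KaehlerDifferential.map_D ℤ ℤ R T, hbc.lift_eq]
    simp [D₁]
  let D₃ : Derivation ℤ R' T := D₂.compAlgebraMap R'
  have hD₃ : ∀ x : R', D₃ x = D₂ (algebraMap R' T x) := fun x => rfl
  have hD₃R : ∀ r : R, D₃ (algebraMap R R' r) = algebraMap R T (D r) := by
    intro r
    rw [hD₃, ← hRT, hD₂]
  -- the subalgebras W N
  let W : ℕ → Subalgebra R R' := fun N =>
    { carrier := {x | ∃ z : R', algebraMap R' T z = algebraMap R' T (g' ^ N) * D₃ x}
      mul_mem' := by
        rintro x y ⟨zx, hzx⟩ ⟨zy, hzy⟩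
        refine ⟨x * zy + y * zx, ?_⟩
        rw [Derivation.leibniz, Algebra.smul_def, Algebra.smul_def, map_add, map_mul, map_mul,
          hzx, hzy]
        ring
      add_mem' := by
        rintro x y ⟨zx, hzx⟩ ⟨zy, hzy⟩
        refine ⟨zx + zy, ?_⟩
        rw [map_add, map_add, hzx, hzy]; ring
      algebraMap_mem' := by
        intro r
        refine ⟨g' ^ N * algebraMap R R' (D r), ?_⟩
        rw [hD₃R, map_mul, ← hRT] }
  have hWmem : ∀ N x, x ∈ W N ↔ ∃ z : R', algebraMap R' T z = algebraMap R' T (g' ^ N) * D₃ x :=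
    fun N x => Iff.rfl
  obtain ⟨s, hs⟩ := (Algebra.FiniteType.out : (⊤ : Subalgebra R R').FG)
  have hex : ∀ x : R', ∃ n : ℕ, x ∈ W n := by
    intro x
    obtain ⟨⟨z, ⟨_, n, rfl⟩⟩, hz⟩ := IsLocalization.surj (Submonoid.powers g') (D₃ x)
    simp only at hz
    exact ⟨n, z, by rw [← hz]; ring⟩
  choose n hn using hex
  have hmono : ∀ a b, a ≤ b → ∀ x, x ∈ W a → x ∈ W b := by
    rintro a b hab x ⟨z, hz⟩
    refine ⟨g' ^ (b - a) * z, ?_⟩
    rw [map_mul, hz, ← mul_assoc, ← map_mul, ← pow_add, Nat.sub_add_cancel hab]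
  refine ⟨s.sup n, D₃, hD₃R, ?_⟩
  have htop : (⊤ : Subalgebra R R') ≤ W (s.sup n) := by
    rw [← hs]
    apply Algebra.adjoin_le
    intro x hx
    exact hmono _ _ (Finset.le_sup (f := n) hx) x (hn x)
  intro x
  exact (hWmem _ x).mp (htop Algebra.mem_top)

/-- Let `R → R'` be an injective ring map of finite type and `g ∈ R` a nonzerodivisor on `R'` such that
every element of `R'` lands in `R` after multiplication by a power of `g` (so `R_g = R'_g`). Then
for every derivation `D` of `R` there is `N` such that `g^N D` extends to a derivation of `R'`. -/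
theorem result {R R' : Type u} [CommRing R] [CommRing R'] [Algebra R R'] [Algebra.FiniteType R R']
    (hinj : Function.Injective (algebraMap R R')) (g : R) (hg : IsSMulRegular R' (algebraMap R R' g))
    (hloc : ∀ x : R', ∃ n : ℕ, (algebraMap R R' g) ^ n * x ∈ Set.range (algebraMap R R')) (D : Derivation ℤ R R) :
    ∃ (N : ℕ) (D' : Derivation ℤ R' R'), ∀ r : R, D' (algebraMap R R' r) = algebraMap R R' (g ^ N * D r) := by
  classical
  have hg'nzd : algebraMap R R' g ∈ nonZeroDivisors R' := by
    rw [mem_nonZeroDivisors_iff_right]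
    intro x hx
    apply hg
    simp only [smul_eq_mul, mul_zero]
    rw [mul_comm]; exact hx
  have hιinj : Function.Injective (algebraMap R' (Localization.Away (algebraMap R R' g))) :=
    IsLocalization.injective _ (Submonoid.powers_le.mpr hg'nzd)
  obtain ⟨N, D₃, h1, h2⟩ := ext_der (T := Localization.Away (algebraMap R R' g)) g hinj hιinj hloc D
  choose D'fun hD'fun using h2
  have hadd : ∀ x y, D'fun (x + y) = D'fun x + D'fun y := by
    intro x y
    apply hιinj
    rw [hD'fun, map_add, map_add, hD'fun, hD'fun]; ring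
  let D'add : R' →+ R' := AddMonoidHom.mk' D'fun hadd
  let D' : Derivation ℤ R' R' :=
    { toLinearMap := D'add.toIntLinearMap
      map_one_eq_zero' := by
        change D'fun 1 = 0
        apply hιinj
        rw [hD'fun, map_zero, Derivation.map_one_eq_zero, mul_zero]
      leibniz' := by
        intro a b
        change D'fun (a * b) = a • D'fun b + b • D'fun a
        apply hιinj
        rw [hD'fun, Derivation.leibniz, smul_eq_mul, smul_eq_mul, map_add, map_mul, map_mul,
          hD'fun, hD'fun, Algebra.smul_def, Algebra.smul_def]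
        ring }
  refine ⟨N, D', fun r => ?_⟩
  change D'fun (algebraMap R R' r) = _
  apply hιinj
  rw [hD'fun, h1, map_mul, map_mul, map_pow, map_pow, IsScalarTower.algebraMap_apply R R'
    (Localization.Away (algebraMap R R' g)), map_pow]

end Groth.Agent.S2133
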