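import Groth.Statements.S2134
import Mathlib

set_option autoImplicit false
universe u
open CAlg

namespace Groth.Agent.S2134

lemma descend_aux {k K : Type u} [Field k] [Field K] [Algebra k K] {ι : Type u} [Nonempty ι]
    (F : ι → IntermediateField k K) (hdir : ∀ a b : ι, ∃ c, F c ≤ F a ⊓ F b) (hinf : ⨅ a, F a = ⊥) :
    ∀ (n : ℕ) (V : Submodule K (Fin n → K)),
      (∀ a, ∃ v ∈ V, v ≠ 0 ∧ ∀ i, v i ∈ F a) → ∃ v ∈ V, v ≠ 0 ∧ ∀ i, v i ∈ Set.range (algebraMap k K) := by
  intro n
  induction n with
  | zero =>
    intro V h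
    obtain ⟨a⟩ := ‹Nonempty ι›
    obtain ⟨v, -, hv, -⟩ := h a
    exact absurd (Subsingleton.elim v 0) hv
  | succ n ih =>
    intro V h
    -- the subspace of vectors with last coordinate zero
    let emb : (Fin n → K) →ₗ[K] (Fin (n + 1) → K) :=
      { toFun := fun v => Fin.snoc v 0
        map_add' := by
          intro v w
          ext i
          refine Fin.lastCases ?_ (fun j => ?_) i
          · simp
          · simp
        map_smul' := by
          intro c v
          ext i
          refine Fin.lastCases ?_ (fun j => ?_) i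
          · simp
          · simp }
    have hemb : ∀ v : Fin n → K, emb v = Fin.snoc v 0 := fun v => rfl
    let V' : Submodule K (Fin n → K) := V.comap emb
    by_cases hA : ∀ a, ∃ v ∈ V', v ≠ 0 ∧ ∀ i, v i ∈ F a
    · obtain ⟨v, hv, hv0, hvk⟩ := ih V' hA
      refine ⟨emb v, hv, ?_, ?_⟩
      · intro h0
        apply hv0
        ext i
        have := congrFun h0 (Fin.castSucc i)
        simpa [hemb] using this
      · intro i
        refine Fin.lastCases ?_ (fun j => ?_) i
        · rw [hemb, Fin.snoc_last]; exact ⟨0, map_zero _⟩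
        · rw [hemb, Fin.snoc_castSucc]; exact hvk j
    · push Not at hA
      obtain ⟨a₀, ha₀⟩ := hA
      -- any vector of V with coordinates in F a₀ and last coordinate zero vanishes
      have hzero : ∀ v ∈ V, (∀ i, v i ∈ F a₀) → v (Fin.last n) = 0 → v = 0 := by
        intro v hv hvF hlast
        by_contra hne
        have hv' : emb (Fin.init v) = v := by
          rw [hemb]
          ext i
          refine Fin.lastCases ?_ (fun j => ?_) i
          · rw [Fin.snoc_last, hlast]
          · rw [Fin.snoc_castSucc]; rfl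
        have h1 : Fin.init v ∈ V' := by
          change emb (Fin.init v) ∈ V
          rw [hv']; exact hv
        have h2 : Fin.init v ≠ 0 := by
          intro h0
          apply hne
          rw [← hv', h0, map_zero]
        obtain ⟨i, hi⟩ := ha₀ (Fin.init v) h1 h2
        exact hi (hvF (Fin.castSucc i))
      -- normalized vector at a₀
      obtain ⟨w, hwV, hw0, hwF⟩ := h a₀
      have hwlast : w (Fin.last n) ≠ 0 := fun h0 => hw0 (hzero w hwV hwF h0)
      let v₀ : Fin (n + 1) → K := (w (Fin.last n))⁻¹ • w
      have hv₀V : v₀ ∈ V := V.smul_mem _ hwV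
      have hv₀F : ∀ i, v₀ i ∈ F a₀ := fun i =>
        (F a₀).mul_mem ((F a₀).inv_mem (hwF _)) (hwF i)
      have hv₀last : v₀ (Fin.last n) = 1 := by
        change (w (Fin.last n))⁻¹ * w (Fin.last n) = 1
        exact inv_mul_cancel₀ hwlast
      have hv₀ne : v₀ ≠ 0 := by
        intro h0
        have := congrFun h0 (Fin.last n)
        rw [hv₀last] at this
        exact one_ne_zero this
      -- v₀ has coordinates in every F b
      have hall : ∀ b, ∀ i, v₀ i ∈ F b := by
        intro b
        obtain ⟨c, hc⟩ := hdir a₀ b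
        have hca : F c ≤ F a₀ := hc.trans inf_le_left
        have hcb : F c ≤ F b := hc.trans inf_le_right
        obtain ⟨w', hw'V, hw'0, hw'F⟩ := h c
        have hw'F₀ : ∀ i, w' i ∈ F a₀ := fun i => hca (hw'F i)
        have hw'last : w' (Fin.last n) ≠ 0 := fun h0 => hw'0 (hzero w' hw'V hw'F₀ h0)
        let v₁ : Fin (n + 1) → K := (w' (Fin.last n))⁻¹ • w'
        have hv₁V : v₁ ∈ V := V.smul_mem _ hw'V
        have hv₁F : ∀ i, v₁ i ∈ F c := fun i =>
          (F c).mul_mem ((F c).inv_mem (hw'F _)) (hw'F i)
        have hv₁last : v₁ (Fin.last n) = 1 := by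
          change (w' (Fin.last n))⁻¹ * w' (Fin.last n) = 1
          exact inv_mul_cancel₀ hw'last
        have hdiff : v₀ - v₁ = 0 := by
          apply hzero _ (V.sub_mem hv₀V hv₁V)
          · intro i
            exact (F a₀).sub_mem (hv₀F i) (hca (hv₁F i))
          · change v₀ (Fin.last n) - v₁ (Fin.last n) = 0
            rw [hv₀last, hv₁last, sub_self]
        have heq : v₀ = v₁ := sub_eq_zero.1 hdiff
        intro i
        rw [heq]
        exact hcb (hv₁F i)
      refine ⟨v₀, hv₀V, hv₀ne, fun i => ?_⟩
      have hmem : v₀ i ∈ ⨅ a, F a := by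
        rw [← SetLike.mem_coe, IntermediateField.coe_iInf, Set.mem_iInter]
        exact fun b => hall b i
      rw [hinf, IntermediateField.mem_bot] at hmem
      exact hmem

/-- Let `K/k` be a field extension and `(K_α)` a nonempty family of intermediate fields, directed
downwards, with intersection `k`. For a `K`-subspace `V` of `K^n` (`n ≥ 1`), `V` contains a nonzero
vector with all coordinates in `k` if and only if for every `α` it contains a nonzero vector with
all coordinates in `K_α`. -/
theorem result {k K : Type u} [Field k] [Field K] [Algebra k K] {ι : Type u} [Nonempty ι]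
    (F : ι → IntermediateField k K) (hdir : ∀ a b : ι, ∃ c, F c ≤ F a ⊓ F b) (hinf : ⨅ a, F a = ⊥) (n : ℕ) (hn : 1 ≤ n)
    (V : Submodule K (Fin n → K)) :
    (∃ v ∈ V, v ≠ 0 ∧ ∀ i, v i ∈ Set.range (algebraMap k K)) ↔
      ∀ a, ∃ v ∈ V, v ≠ 0 ∧ ∀ i, v i ∈ F a := by
  constructor
  · rintro ⟨v, hv, hv0, hvk⟩ a
    refine ⟨v, hv, hv0, fun i => ?_⟩
    obtain ⟨c, hc⟩ := hvk i
    rw [← hc]
    exact (F a).algebraMap_mem c
  · exact descend_aux F hdir hinf n V

end Groth.Agent.S2134
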