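import Groth.Statements.S2138
import Mathlib

set_option autoImplicit false
universe u
open CAlg

namespace Groth.Agent.S2138

section
variable {R S : Type u} [CommRing R] [CommRing S] [Algebra R S] [Module.Flat R S]

/-- Equational criterion, relative to an ideal. -/
lemma rel (I : Ideal R) {ι : Type*} [Fintype ι] (y : ι → R) (τ : ι → S)
    (h : ∑ i, τ i * algebraMap R S (y i) ∈ I.map (algebraMap R S)) :
    ∃ (k : ℕ) (a : ι → Fin k → R) (w : Fin k → S),
      (∀ i, τ i = ∑ j, algebraMap R S (a i j) * w j) ∧ ∀ j, ∑ i, y i * a i j ∈ I := by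
  classical
  have h' : ∑ i, τ i * algebraMap R S (y i) ∈ Submodule.span S ((algebraMap R S) '' (I : Set R)) := h
  rw [Finsupp.mem_span_image_iff_linearCombination] at h'
  obtain ⟨l, hl, hsum⟩ := h'
  rw [Finsupp.linearCombination_apply, Finsupp.sum] at hsum
  have hrel : ∑ i' : ι ⊕ ↥l.support,
      (Sum.elim y (fun z => -z.1) i') • (Sum.elim τ (fun z => l z.1) i' : S) = 0 := by
    rw [Fintype.sum_sum_type]
    simp only [Sum.elim_inl, Sum.elim_inr, Algebra.smul_def, map_neg, neg_mul]
    rw [Finset.sum_neg_distrib, Finset.sum_coe_sort l.support (fun z => algebraMap R S z * l z)]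
    have h1 : ∑ z ∈ l.support, algebraMap R S z * l z = ∑ i, τ i * algebraMap R S (y i) := by
      rw [← hsum]
      apply Finset.sum_congr rfl
      intro z _
      rw [smul_eq_mul, mul_comm]
    rw [h1]
    have h2 : ∑ i, algebraMap R S (y i) * τ i = ∑ i, τ i * algebraMap R S (y i) :=
      Finset.sum_congr rfl (fun i _ => mul_comm _ _)
    rw [h2, add_neg_cancel]
  obtain ⟨k, a', w, hx, hf⟩ := Module.Flat.isTrivialRelation_of_sum_smul_eq_zero (R := R) (M := S)
    (f := Sum.elim y (fun z : ↥l.support => -z.1)) (x := Sum.elim τ (fun z : ↥l.support => l z.1)) hrel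
  refine ⟨k, fun i j => a' (Sum.inl i) j, w, ?_, ?_⟩
  · intro i
    have := hx (Sum.inl i)
    simp only [Sum.elim_inl, Algebra.smul_def] at this
    exact this
  · intro j
    have := hf j
    rw [Fintype.sum_sum_type] at this
    simp only [Sum.elim_inl, Sum.elim_inr, neg_mul, Finset.sum_neg_distrib] at this
    rw [add_neg_eq_zero] at this
    rw [this]
    apply Ideal.sum_mem
    intro z _
    apply Ideal.mul_mem_right
    exact hl z.2

lemma colon (I : Ideal R) (α : R) (hα : ∀ c, α * c ∈ I → c ∈ I) (x : S)
    (hx : algebraMap R S α * x ∈ I.map (algebraMap R S)) : x ∈ I.map (algebraMap R S) := by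
  have h : ∑ _i : Unit, x * algebraMap R S α ∈ I.map (algebraMap R S) := by
    simpa [mul_comm] using hx
  obtain ⟨k, a, w, hτ, ha⟩ := rel I (fun _ : Unit => α) (fun _ => x) h
  rw [hτ ()]
  apply Ideal.sum_mem
  intro j _
  apply Ideal.mul_mem_right
  apply Ideal.mem_map_of_mem
  apply hα
  simpa using ha j

end

section sym
variable {R : Type u} [CommRing R] (p : Ideal R) [p.IsPrime]

/-- symbolic power -/
def Isym (n : ℕ) : Ideal R :=
  ((p ^ n).map (algebraMap R (Localization.AtPrime p))).comap (algebraMap R (Localization.AtPrime p))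

lemma mem_Isym (n : ℕ) (r : R) : r ∈ Isym p n ↔ ∃ m, m ∉ p ∧ m * r ∈ p ^ n := by
  unfold Isym
  rw [Ideal.mem_comap, IsLocalization.algebraMap_mem_map_algebraMap_iff p.primeCompl]
  constructor
  · rintro ⟨m, hm, h⟩
    exact ⟨m, hm, h⟩
  · rintro ⟨m, hm, h⟩
    exact ⟨m, hm, h⟩

lemma Isym_succ_le (n : ℕ) : Isym p (n + 1) ≤ Isym p n := by
  intro r hr
  rw [mem_Isym] at hr ⊢
  obtain ⟨m, hm, h⟩ := hr
  exact ⟨m, hm, Ideal.pow_le_pow_right (Nat.le_succ n) h⟩

lemma mul_Isym_le (n : ℕ) : p * Isym p n ≤ Isym p (n + 1) := by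
  rw [Ideal.mul_le]
  intro r hr y hy
  rw [mem_Isym] at hy ⊢
  obtain ⟨m, hm, h⟩ := hy
  refine ⟨m, hm, ?_⟩
  rw [pow_succ']
  have : m * (r * y) = r * (m * y) := by ring
  rw [this]
  exact Ideal.mul_mem_mul hr h

lemma Isym_colon (n : ℕ) (α : R) (hα : α ∉ p) (c : R) (h : α * c ∈ Isym p n) : c ∈ Isym p n := by
  rw [mem_Isym] at h ⊢
  obtain ⟨m, hm, h⟩ := h
  refine ⟨m * α, ?_, ?_⟩
  · intro hmem
    rcases Ideal.IsPrime.mem_or_mem inferInstance hmem with h1 | h1
    · exact hm h1
    · exact hα h1
  · rw [mul_assoc]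
    exact h

lemma pow_le_Isym (n : ℕ) : p ^ n ≤ Isym p n := by
  intro r hr
  rw [mem_Isym]
  exact ⟨1, fun h => (Ideal.IsPrime.ne_top inferInstance) ((Ideal.eq_top_iff_one p).mpr h), by rwa [one_mul]⟩

lemma Isym_zero : Isym p 0 = ⊤ := by
  rw [eq_top_iff]
  refine le_trans ?_ (pow_le_Isym p 0)
  rw [pow_zero, Ideal.one_eq_top]

end sym

section step
variable {R S : Type u} [CommRing R] [CommRing S] [Algebra R S] [Module.Flat R S]
  (p : Ideal R) [p.IsPrime] [hq : (p.map (algebraMap R S)).IsPrime]

lemma not_mem_q (m : R) (hm : m ∉ p) : algebraMap R S m ∉ p.map (algebraMap R S) := by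
  intro h
  have h1 : (1 : S) ∈ p.map (algebraMap R S) := by
    apply colon p m
    · intro c hc
      rcases Ideal.IsPrime.mem_or_mem inferInstance hc with h2 | h2
      · exact absurd h2 hm
      · exact h2
    · rwa [mul_one]
  exact hq.ne_top ((Ideal.eq_top_iff_one _).mpr h1)

lemma stepQ (n : ℕ) (t : S) (ht : t ∉ p.map (algebraMap R S)) :
    ∀ s : Finset R, (∀ z ∈ s, z ∈ Isym p n) → ∀ σ : R → S,
      t * ∑ z ∈ s, σ z * algebraMap R S z ∈ (Isym p (n + 1)).map (algebraMap R S) →
      ∑ z ∈ s, σ z * algebraMap R S z ∈ (Isym p (n + 1)).map (algebraMap R S) := by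
  classical
  intro s
  induction s using Finset.strongInduction with
  | H s ih =>
    intro hs σ h
    have h' : ∑ z : ↥s, (t * σ z.1) * algebraMap R S z.1 ∈ (Isym p (n + 1)).map (algebraMap R S) := by
      rw [Finset.sum_coe_sort s (fun z => (t * σ z) * algebraMap R S z)]
      rw [Finset.mul_sum] at h
      convert h using 2
      ring
    obtain ⟨k, a, w, hτ, ha⟩ := rel (Isym p (n + 1)) (fun z : ↥s => z.1) (fun z : ↥s => t * σ z.1) h'
    by_cases hcase : ∀ (z : ↥s) (j : Fin k), a z j ∈ p
    · -- all coefficients in p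
      apply Ideal.sum_mem
      intro z hz
      have h1 : t * σ z ∈ p.map (algebraMap R S) := by
        rw [hτ ⟨z, hz⟩]
        apply Ideal.sum_mem
        intro j _
        apply Ideal.mul_mem_right
        exact Ideal.mem_map_of_mem _ (hcase ⟨z, hz⟩ j)
      have h2 : σ z ∈ p.map (algebraMap R S) := by
        rcases hq.mem_or_mem h1 with h3 | h3
        · exact absurd h3 ht
        · exact h3
      have h3 : σ z * algebraMap R S z ∈ (p * Isym p n).map (algebraMap R S) := by
        rw [Ideal.map_mul]
        exact Ideal.mul_mem_mul h2 (Ideal.mem_map_of_mem _ (hs z hz))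
      exact Ideal.map_mono (mul_Isym_le p n) h3
    · push Not at hcase
      obtain ⟨z₀, j₀, hα⟩ := hcase
      -- the coefficient function
      set c : R → R := fun z => if hz : z ∈ s then a ⟨z, hz⟩ j₀ else 0 with hc
      have he : ∑ z ∈ s, z * c z ∈ Isym p (n + 1) := by
        have := ha j₀
        rw [← Finset.sum_coe_sort s (fun z => z * c z)]
        convert this using 2 with z
        simp [hc]
      have hcz₀ : c z₀.1 = a z₀ j₀ := by simp [hc]
      set α := a z₀ j₀ with hαdef
      set e := ∑ z ∈ s, z * c z with hedef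
      have hsplit : e = z₀.1 * α + ∑ z ∈ s.erase z₀.1, z * c z := by
        rw [hedef, ← Finset.add_sum_erase s _ z₀.2, hcz₀]
      -- abbreviations
      have hX : ∑ z ∈ s, σ z * algebraMap R S z = σ z₀.1 * algebraMap R S z₀.1 +
          ∑ z ∈ s.erase z₀.1, σ z * algebraMap R S z := (Finset.add_sum_erase s _ z₀.2).symm
      have hE : algebraMap R S e = algebraMap R S z₀.1 * algebraMap R S α +
          ∑ z ∈ s.erase z₀.1, algebraMap R S z * algebraMap R S (c z) := by
        rw [hsplit, map_add, map_mul, map_sum]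
        simp only [map_mul]
      have hx'' : ∑ z ∈ s.erase z₀.1,
          (algebraMap R S α * σ z - σ z₀.1 * algebraMap R S (c z)) * algebraMap R S z =
          algebraMap R S α * ∑ z ∈ s.erase z₀.1, σ z * algebraMap R S z -
            σ z₀.1 * ∑ z ∈ s.erase z₀.1, algebraMap R S z * algebraMap R S (c z) := by
        rw [Finset.mul_sum, Finset.mul_sum, ← Finset.sum_sub_distrib]
        apply Finset.sum_congr rfl
        intro z _
        ring
      -- new coefficients
      have hx' : ∑ z ∈ s.erase z₀.1,
          (algebraMap R S α * σ z - σ z₀.1 * algebraMap R S (c z)) * algebraMap R S z ∈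
          (Isym p (n + 1)).map (algebraMap R S) := by
        apply ih (s.erase z₀.1) (Finset.erase_ssubset z₀.2)
          (fun z hz => hs z (Finset.mem_of_mem_erase hz))
        have hid : t * ∑ z ∈ s.erase z₀.1,
            (algebraMap R S α * σ z - σ z₀.1 * algebraMap R S (c z)) * algebraMap R S z =
            algebraMap R S α * (t * ∑ z ∈ s, σ z * algebraMap R S z) -
              t * σ z₀.1 * algebraMap R S e := by
          rw [hx'', hX, hE]
          ring
        rw [hid]
        apply Ideal.sub_mem
        · exact Ideal.mul_mem_left _ _ h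
        · exact Ideal.mul_mem_left _ _ (Ideal.mem_map_of_mem _ he)
      -- α x ∈ I_{n+1} S
      have hαx : algebraMap R S α * ∑ z ∈ s, σ z * algebraMap R S z ∈
          (Isym p (n + 1)).map (algebraMap R S) := by
        have hid : algebraMap R S α * ∑ z ∈ s, σ z * algebraMap R S z =
            σ z₀.1 * algebraMap R S e + ∑ z ∈ s.erase z₀.1,
              (algebraMap R S α * σ z - σ z₀.1 * algebraMap R S (c z)) * algebraMap R S z := by
          rw [hx'', hX, hE]
          ring
        rw [hid]
        apply Ideal.add_mem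
        · exact Ideal.mul_mem_left _ _ (Ideal.mem_map_of_mem _ he)
        · exact hx'
      exact colon (Isym p (n + 1)) α (fun c hc => Isym_colon p (n + 1) α hα c hc) _ hαx

end step

/-- Let `R → S` be flat and `𝔭` a prime of `R` whose extension `𝔮 = 𝔭S` is prime. Then for every `n` the
extension to `S` of the symbolic power `𝔭^{(n)}` (the contraction of `𝔭ⁿR_𝔭`) equals the symbolic
power `𝔮^{(n)}`. -/
theorem result {R S : Type u} [CommRing R] [CommRing S] [Algebra R S] [Module.Flat R S]
    (p : Ideal R) [p.IsPrime] [(p.map (algebraMap R S)).IsPrime] (n : ℕ) :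
    (((p ^ n).map (algebraMap R (Localization.AtPrime p))).comap (algebraMap R (Localization.AtPrime p))).map
        (algebraMap R S) =
      (((p.map (algebraMap R S)) ^ n).map (algebraMap S (Localization.AtPrime (p.map (algebraMap R S))))).comap
        (algebraMap S (Localization.AtPrime (p.map (algebraMap R S)))) := by
  classical
  change (Isym p n).map (algebraMap R S) = Isym (p.map (algebraMap R S)) n
  apply le_antisymm
  · rw [Ideal.map_le_iff_le_comap]
    intro r hr
    rw [Ideal.mem_comap, mem_Isym]
    rw [mem_Isym] at hr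
    obtain ⟨m, hm, h⟩ := hr
    refine ⟨algebraMap R S m, not_mem_q p m hm, ?_⟩
    rw [← map_mul, ← Ideal.map_pow]
    exact Ideal.mem_map_of_mem _ h
  · intro x hx
    rw [mem_Isym] at hx
    obtain ⟨t, ht, h⟩ := hx
    rw [← Ideal.map_pow] at h
    have h1 : t * x ∈ (Isym p n).map (algebraMap R S) := Ideal.map_mono (pow_le_Isym p n) h
    have B : ∀ n : ℕ, ∀ x : S, t * x ∈ (Isym p n).map (algebraMap R S) →
        x ∈ (Isym p n).map (algebraMap R S) := by
      intro n
      induction n with
      | zero =>
        intro x _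
        rw [Isym_zero, Ideal.map_top]
        trivial
      | succ n ih =>
        intro x hx
        have h2 : x ∈ (Isym p n).map (algebraMap R S) :=
          ih x (Ideal.map_mono (Isym_succ_le p n) hx)
        have h2' : x ∈ Submodule.span S ((algebraMap R S) '' (Isym p n : Set R)) := h2
        rw [Finsupp.mem_span_image_iff_linearCombination] at h2'
        obtain ⟨l, hl, hsum⟩ := h2'
        rw [Finsupp.linearCombination_apply, Finsupp.sum] at hsum
        have h3 : x = ∑ z ∈ l.support, l z * algebraMap R S z := by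
          rw [← hsum]
          simp [smul_eq_mul]
        rw [h3] at hx ⊢
        exact stepQ p n t ht l.support (fun z hz => hl hz) l hx
    exact B n x h1

end Groth.Agent.S2138
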