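import Groth.Statements.S2139
import Mathlib

set_option autoImplicit false
universe u
open CAlg

namespace Groth.Agent.S2139

open Polynomial in
theorem KL {R : Type u} [CommRing R] [IsReduced R] (hfin : (minimalPrimes R).Finite)
    (hic : IsIntegrallyClosedIn R (FractionRing R)) (q : Ideal R) (hq : q ∈ minimalPrimes R) :
    ∃ e : R, e * e = e ∧ (1 - e) ∈ q ∧ ∀ r ∈ q, e * r = 0 := by
  classical
  obtain ⟨hinj, hcl⟩ := isIntegrallyClosedIn_iff.1 hic
  haveI hqp : q.IsPrime := hq.1.1
  have hzero : ∀ r : R, (∀ q' ∈ minimalPrimes R, r ∈ q') → r = 0 := by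
    intro r hr
    have h1 : r ∈ sInf (⊥ : Ideal R).minimalPrimes := by
      rw [Ideal.mem_sInf]; intro I hI; exact hr I hI
    rw [Ideal.sInf_minimalPrimes] at h1
    rw [Ideal.radical_bot_of_isReduced] at h1
    exact h1
  let T : Finset (Ideal R) := hfin.toFinset.erase q
  have hT : ∀ q', q' ∈ T ↔ q' ∈ minimalPrimes R ∧ q' ≠ q := by
    intro q'
    simp only [T, Finset.mem_erase, Set.Finite.mem_toFinset]
    tauto
  -- step a
  have ha : ∃ a : R, (∀ q' ∈ T, a ∈ q') ∧ a ∉ q := by
    have hex : ∀ q' : Ideal R, q' ∈ T → ∃ c : R, c ∈ q' ∧ c ∉ q := by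
      intro q' hq'
      obtain ⟨hq'min, hne⟩ := (hT q').1 hq'
      by_contra hcon
      push Not at hcon
      have hle : q' ≤ q := fun c hc => hcon c hc
      exact hne (le_antisymm hle (hq.2 ⟨hq'min.1.1, bot_le⟩ hle))
    choose! c hc1 hc2 using hex
    refine ⟨∏ q' ∈ T, c q', ?_, ?_⟩
    · intro q' hq'
      exact Ideal.prod_mem _ hq' (hc1 q' hq')
    · intro hmem
      obtain ⟨q', hq', hcq⟩ := Ideal.IsPrime.prod_mem_iff.1 hmem
      exact hc2 q' hq' hcq
  obtain ⟨a, haT, haq⟩ := ha
  -- step b
  have hb : ∃ b : R, b ∈ q ∧ ∀ q' ∈ T, b ∉ q' := by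
    have hns : ¬ ((q : Set R) ⊆ ⋃ i ∈ (↑T : Set (Ideal R)), (id i : Ideal R)) := by
      intro hsub
      rw [Ideal.subset_union_prime q q] at hsub
      · obtain ⟨q', hq', hle⟩ := hsub
        obtain ⟨hq'min, hne⟩ := (hT q').1 hq'
        exact hne (le_antisymm (hq'min.2 ⟨hqp, bot_le⟩ hle) hle)
      · intro q' hq' _ _
        exact ((hT q').1 hq').1.1.1
    obtain ⟨b, hbq, hbn⟩ := Set.not_subset.1 hns
    refine ⟨b, hbq, fun q' hq' hbq' => hbn ?_⟩
    simp only [Set.mem_iUnion]
    exact ⟨q', hq', hbq'⟩
  obtain ⟨b, hbq, hbT⟩ := hb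
  -- s := a + b avoids all minimal primes
  have hs : ∀ q'' ∈ minimalPrimes R, a + b ∉ q'' := by
    intro q'' hq'' hmem
    by_cases h : q'' = q
    · subst h
      exact haq ((Ideal.add_mem_iff_left _ hbq).1 hmem)
    · have hq''T : q'' ∈ T := (hT q'').2 ⟨hq'', h⟩
      exact hbT q'' hq''T ((Ideal.add_mem_iff_right _ (haT q'' hq''T)).1 hmem)
  have hsnzd : a + b ∈ nonZeroDivisors R := by
    rw [mem_nonZeroDivisors_iff_right]
    intro c hc
    apply hzero
    intro q'' hq''
    haveI := hq''.1.1
    have : c * (a + b) ∈ q'' := by rw [hc]; exact q''.zero_mem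
    rcases (Ideal.IsPrime.mem_or_mem inferInstance this) with h | h
    · exact h
    · exact absurd h (hs q'' hq'')
  have hab : a * b = 0 := by
    apply hzero
    intro q'' hq''
    by_cases h : q'' = q
    · subst h; exact Ideal.mul_mem_left _ _ hbq
    · exact Ideal.mul_mem_right _ _ (haT q'' ((hT q'').2 ⟨hq'', h⟩))
  -- the idempotent in the fraction ring
  set Q := FractionRing R with hQ
  set sQ : Q := algebraMap R Q (a + b) with hsQ
  have hsu : IsUnit sQ := IsLocalization.map_units Q (⟨a + b, hsnzd⟩ : nonZeroDivisors R)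
  set x : Q := IsLocalization.mk' Q a (⟨a + b, hsnzd⟩ : nonZeroDivisors R) with hx
  have hxs : x * sQ = algebraMap R Q a := IsLocalization.mk'_spec Q a _
  have haa : a * a = a * (a + b) := by rw [mul_add, hab, add_zero]
  have hxx : x * x = x := by
    apply hsu.mul_left_injective
    apply hsu.mul_left_injective
    show x * x * sQ * sQ = x * sQ * sQ
    have : x * x * sQ * sQ = (x * sQ) * (x * sQ) := by ring
    rw [this, hxs, hsQ, ← map_mul, ← map_mul, haa]
  have hxint : IsIntegral R x := by
    refine ⟨X * (X - C 1), monic_X.mul (monic_X_sub_C 1), ?_⟩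
    simp only [eval₂_mul, eval₂_X, eval₂_sub, map_one, eval₂_one]
    rw [mul_sub, mul_one, hxx, sub_self]
  obtain ⟨e, he⟩ := hcl hxint
  have hes : e * (a + b) = a := by
    apply hinj
    rw [map_mul, he, ← hsQ, hxs]
  have hee : e * e = e := by
    apply hinj
    rw [map_mul, he, hxx]
  have hone : (1 - e) * (a + b) = b := by
    rw [sub_mul, one_mul, hes]; ring
  have hmul0 : e * (1 - e) = 0 := by rw [mul_sub, mul_one, hee, sub_self]
  refine ⟨e, hee, ?_, ?_⟩
  · have : e * (1 - e) ∈ q := by rw [hmul0]; exact q.zero_mem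
    rcases hqp.mem_or_mem this with h | h
    · exfalso; apply haq; rw [← hes]; exact Ideal.mul_mem_right _ _ h
    · exact h
  · intro r hr
    apply hzero
    intro q'' hq''
    by_cases h : q'' = q
    · subst h; exact Ideal.mul_mem_left _ _ hr
    · have hq''T : q'' ∈ T := (hT q'').2 ⟨hq'', h⟩
      haveI := hq''.1.1
      have h1 : (1 - e) ∉ q'' := by
        intro h1
        apply hbT q'' hq''T
        rw [← hone]
        exact Ideal.mul_mem_right _ _ h1
      have h2 : e * (1 - e) ∈ q'' := by rw [hmul0]; exact q''.zero_mem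
      rcases (Ideal.IsPrime.mem_or_mem inferInstance h2) with h3 | h3
      · exact Ideal.mul_mem_right _ _ h3
      · exact absurd h3 h1

/-- Let `R` be a reduced ring with finitely many minimal primes. Then every localization of `R` at a
prime is an integrally closed domain if and only if `R` is integrally closed in its total ring of
fractions. -/
theorem result {R : Type u} [CommRing R] [IsReduced R] (hfin : (minimalPrimes R).Finite) :
    (∀ (p : Ideal R) [p.IsPrime], IsDomain (Localization.AtPrime p) ∧ IsIntegrallyClosed (Localization.AtPrime p)) ↔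
      IsIntegrallyClosedIn R (FractionRing R) := by
  constructor
  · intro h
    have hinj : Function.Injective (algebraMap R (FractionRing R)) :=
      IsLocalization.injective (FractionRing R) (le_refl (nonZeroDivisors R))
    rw [isIntegrallyClosedIn_iff]
    refine ⟨hinj, ?_⟩
    intro x hx
    -- conductor ideal
    let I : Ideal R :=
      { carrier := {r | ∃ y, algebraMap R (FractionRing R) y = algebraMap R (FractionRing R) r * x}
        zero_mem' := ⟨0, by simp⟩
        add_mem' := by
          rintro r r' ⟨y, hy⟩ ⟨y', hy'⟩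
          exact ⟨y + y', by rw [map_add, map_add, add_mul, hy, hy']⟩
        smul_mem' := by
          rintro c r ⟨y, hy⟩
          exact ⟨c * y, by rw [smul_eq_mul, map_mul, map_mul, hy, mul_assoc]⟩ }
    by_cases hI : I = ⊤
    · have : (1 : R) ∈ I := by rw [hI]; trivial
      obtain ⟨y, hy⟩ := this
      exact ⟨y, by rw [hy, map_one, one_mul]⟩
    · exfalso
      obtain ⟨m, hm, hIm⟩ := Ideal.exists_le_maximal I hI
      haveI := hm.isPrime
      obtain ⟨hdom, hicl⟩ := h m
      set Rm := Localization.AtPrime m with hRm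
      set L := FractionRing Rm with hL
      let ψ : R →+* L := (algebraMap Rm L).comp (algebraMap R Rm)
      have hψ0 : ∀ r : R, ψ r = 0 → ∃ t : m.primeCompl, (t : R) * r = 0 := by
        intro r hr
        have h1 : algebraMap R Rm r = 0 := by
          have : algebraMap Rm L (algebraMap R Rm r) = 0 := hr
          exact (map_eq_zero_iff _ (IsFractionRing.injective Rm L)).1 this
        exact (IsLocalization.map_eq_zero_iff m.primeCompl Rm r).1 h1
      have hunit : ∀ s : nonZeroDivisors R, IsUnit (ψ s) := by
        intro s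
        rw [isUnit_iff_ne_zero]
        intro h0
        obtain ⟨t, ht⟩ := hψ0 _ h0
        have ht0 : (t : R) = 0 := (mem_nonZeroDivisors_iff_right.1 s.2) _ ht
        exact t.2 (ht0 ▸ m.zero_mem)
      let Φ : FractionRing R →+* L := IsLocalization.lift (M := nonZeroDivisors R) hunit
      have hΦ : ∀ r : R, Φ (algebraMap R (FractionRing R) r) = ψ r := fun r =>
        IsLocalization.lift_eq hunit r
      have hΦint : IsIntegral Rm (Φ x) := by
        obtain ⟨P, hP, hPx⟩ := hx
        refine ⟨P.map (algebraMap R Rm), hP.map _, ?_⟩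
        rw [Polynomial.eval₂_map]
        have := Polynomial.hom_eval₂ P (algebraMap R (FractionRing R)) Φ x
        rw [hPx, map_zero] at this
        rw [this]
        congr 1
        ext r
        exact (hΦ r).symm
      obtain ⟨z, hz⟩ := IsIntegrallyClosed.isIntegral_iff.1 hΦint
      obtain ⟨r, t, rfl⟩ := IsLocalization.exists_mk'_eq m.primeCompl z
      obtain ⟨n, s, hxns⟩ := IsLocalization.exists_mk'_eq (nonZeroDivisors R) x
      have e1 : Φ x * ψ s = ψ n := by
        have := IsLocalization.mk'_spec (FractionRing R) n s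
        rw [hxns] at this
        have h2 := congrArg Φ this
        rwa [map_mul, hΦ, hΦ] at h2
      have e2 : algebraMap Rm L (IsLocalization.mk' Rm r t) * ψ t = ψ r := by
        have := IsLocalization.mk'_spec Rm r t
        have h2 := congrArg (algebraMap Rm L) this
        rwa [map_mul] at h2
      have e3 : ψ (n * t - r * s) = 0 := by
        rw [map_sub, map_mul, map_mul, ← e1, ← e2, hz]
        ring
      obtain ⟨u, hu⟩ := hψ0 _ e3
      have hmem : (u : R) * t ∈ I := by
        refine ⟨u * r, ?_⟩
        have hsu : IsUnit (algebraMap R (FractionRing R) s) := IsLocalization.map_units _ s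
        apply hsu.mul_left_injective
        show algebraMap R (FractionRing R) (u * r) * algebraMap R (FractionRing R) s =
          algebraMap R (FractionRing R) (u * t) * x * algebraMap R (FractionRing R) s
        have hxs : x * algebraMap R (FractionRing R) s = algebraMap R (FractionRing R) n := by
          rw [← hxns]; exact IsLocalization.mk'_spec (FractionRing R) n s
        rw [mul_assoc, hxs, ← map_mul, ← map_mul]
        congr 1
        have : (u : R) * (n * t - r * s) = 0 := hu
        linear_combination -this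
      have hmem' := hIm hmem
      rcases (Ideal.IsPrime.mem_or_mem inferInstance hmem') with h1 | h1
      · exact u.2 h1
      · exact t.2 h1
  · intro hic p hp
    classical
    obtain ⟨hinjQ, hclQ⟩ := isIntegrallyClosedIn_iff.1 hic
    obtain ⟨q, hq, hqp⟩ := Ideal.exists_minimalPrimes_le (bot_le : (⊥ : Ideal R) ≤ p)
    obtain ⟨e, hee, h1e, heq⟩ := KL hfin hic q hq
    haveI hqprime : q.IsPrime := hq.1.1
    have hep : e ∉ p := by
      intro he
      have : (1 : R) ∈ p := by
        have := p.add_mem he (hqp h1e)
        simpa using this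
      exact hp.ne_top ((Ideal.eq_top_iff_one p).2 this)
    have he1 : e * (1 - e) = 0 := by rw [mul_sub, mul_one, hee, sub_self]
    set Rp := Localization.AtPrime p with hRp
    have hker : ∀ r : R, algebraMap R Rp r = 0 ↔ e * r = 0 := by
      intro r
      rw [IsLocalization.map_eq_zero_iff p.primeCompl Rp r]
      constructor
      · rintro ⟨t, ht⟩
        have : (t : R) * r ∈ q := by rw [ht]; exact q.zero_mem
        rcases hqprime.mem_or_mem this with h | h
        · exact absurd (hqp h) t.2
        · exact heq r h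
      · intro h; exact ⟨⟨e, hep⟩, h⟩
    have hmul0 : ∀ r r' : R, algebraMap R Rp (r * r') = 0 →
        algebraMap R Rp r = 0 ∨ algebraMap R Rp r' = 0 := by
      intro r r' h
      rw [hker] at h
      have : e * (r * r') ∈ q := by rw [h]; exact q.zero_mem
      rcases hqprime.mem_or_mem this with h1 | h1
      · exact absurd (hqp h1) hep
      · rcases hqprime.mem_or_mem h1 with h2 | h2
        · left; rw [hker]; exact heq r h2
        · right; rw [hker]; exact heq r' h2
    have hdom : IsDomain Rp := by
      haveI : NoZeroDivisors Rp := by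
        refine ⟨fun {x y} hxy => ?_⟩
        obtain ⟨r, t, rfl⟩ := IsLocalization.exists_mk'_eq p.primeCompl x
        obtain ⟨r', t', rfl⟩ := IsLocalization.exists_mk'_eq p.primeCompl y
        rw [← IsLocalization.mk'_mul, IsLocalization.mk'_eq_zero_iff] at hxy
        obtain ⟨u, hu⟩ := hxy
        have h0 : algebraMap R Rp (r * r') = 0 :=
          (IsLocalization.map_eq_zero_iff p.primeCompl Rp _).2 ⟨u, hu⟩
        rcases hmul0 r r' h0 with h1 | h1
        · left
          rw [IsLocalization.mk'_eq_mul_mk'_one, h1, zero_mul]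
        · right
          rw [IsLocalization.mk'_eq_mul_mk'_one, h1, zero_mul]
      exact NoZeroDivisors.to_isDomain Rp
    refine ⟨hdom, ?_⟩
    set L := FractionRing Rp with hL
    have hinjL : Function.Injective (algebraMap Rp L) := IsFractionRing.injective Rp L
    let ψ : R →+* L := algebraMap R L
    have hψ : ∀ r : R, ψ r = algebraMap Rp L (algebraMap R Rp r) := fun r =>
      IsScalarTower.algebraMap_apply R Rp L r
    have hψ0 : ∀ r : R, ψ r = 0 ↔ e * r = 0 := by
      intro r
      rw [hψ, map_eq_zero_iff _ hinjL, hker]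
    have hψe : ψ e = 1 := by
      have h1 : ψ e * (ψ e - 1) = 0 := by
        rw [mul_sub, mul_one, ← map_mul, hee, sub_self]
      rcases mul_eq_zero.1 h1 with h | h
      · exfalso
        rw [hψ0, hee] at h
        exact hep (h ▸ p.zero_mem)
      · exact sub_eq_zero.1 h
    rw [isIntegrallyClosed_iff L]
    intro y hy
    obtain ⟨t, ht⟩ := IsIntegral.exists_multiple_integral_of_isLocalization p.primeCompl y hy
    obtain ⟨P, hPmonic, hPz⟩ := ht
    set z : L := t • y with hz
    have hzy : z = ψ t * y := by
      rw [hz, Submonoid.smul_def, Algebra.smul_def]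
    have hψt : ψ t ≠ 0 := by
      intro h
      rw [hψ0] at h
      have : e * (t : R) ∈ p := by rw [h]; exact p.zero_mem
      rcases hp.mem_or_mem this with h1 | h1
      · exact hep h1
      · exact t.2 h1
    -- write z as a fraction
    obtain ⟨n, m₀, hm₀, hnm⟩ : ∃ n m₀ : R, ψ m₀ ≠ 0 ∧ z * ψ m₀ = ψ n := by
      obtain ⟨x₁, x₂, hx₂, hx⟩ := IsFractionRing.div_surjective (A := Rp) z
      obtain ⟨r₁, t₁, rfl⟩ := IsLocalization.exists_mk'_eq p.primeCompl x₁
      obtain ⟨r₂, t₂, rfl⟩ := IsLocalization.exists_mk'_eq p.primeCompl x₂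
      have hx₂0 : algebraMap Rp L (IsLocalization.mk' Rp r₂ t₂) ≠ 0 := by
        rw [Ne, map_eq_zero_iff _ hinjL]
        exact nonZeroDivisors.ne_zero hx₂
      have e1 : algebraMap Rp L (IsLocalization.mk' Rp r₁ t₁) * ψ t₁ = ψ r₁ := by
        rw [hψ, hψ, ← map_mul, IsLocalization.mk'_spec]
      have e2 : algebraMap Rp L (IsLocalization.mk' Rp r₂ t₂) * ψ t₂ = ψ r₂ := by
        rw [hψ, hψ, ← map_mul, IsLocalization.mk'_spec]
      have hψt₁ : ψ t₁ ≠ 0 := by
        intro h
        rw [hψ0] at h
        have : e * (t₁ : R) ∈ p := by rw [h]; exact p.zero_mem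
        rcases hp.mem_or_mem this with h1 | h1
        · exact hep h1
        · exact t₁.2 h1
      have hψt₂ : ψ t₂ ≠ 0 := by
        intro h
        rw [hψ0] at h
        have : e * (t₂ : R) ∈ p := by rw [h]; exact p.zero_mem
        rcases hp.mem_or_mem this with h1 | h1
        · exact hep h1
        · exact t₂.2 h1
      refine ⟨r₁ * t₂, r₂ * t₁, ?_, ?_⟩
      · rw [map_mul, ← e2]
        exact mul_ne_zero (mul_ne_zero hx₂0 hψt₂) hψt₁
      · rw [← hx, map_mul, map_mul, ← e1, ← e2]
        rw [div_mul_eq_mul_div, div_eq_iff hx₂0]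
        ring
    -- the modified numerator and denominator
    set m' : R := e * m₀ + (1 - e) with hm'
    set n' : R := e * n with hn'
    have hm'nzd : m' ∈ nonZeroDivisors R := by
      rw [mem_nonZeroDivisors_iff_right]
      intro c hc
      have h1 : c * (1 - e) = 0 := by
        have : c * m' * (1 - e) = 0 := by rw [hc, zero_mul]
        have h2 : c * m' * (1 - e) = c * m₀ * (e * (1 - e)) + c * ((1 - e) * (1 - e)) := by
          rw [hm']; ring
        rw [h2, he1, mul_zero, zero_add] at this
        have h3 : (1 - e) * (1 - e) = 1 - e := by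
          have : (1 - e) * (1 - e) = 1 - e - e + e * e := by ring
          rw [this, hee]; ring
        rwa [h3] at this
      have h2 : e * (c * m₀) = 0 := by
        have : c * m' * e = 0 := by rw [hc, zero_mul]
        have h3 : c * m' * e = (e * e) * (c * m₀) + c * ((1 - e) * e) := by rw [hm']; ring
        rw [h3, hee, mul_comm (1 - e) e, he1, mul_zero, add_zero] at this
        exact this
      have h3 : ψ c = 0 := by
        have : ψ (c * m₀) = 0 := (hψ0 _).2 h2
        rw [map_mul] at this
        rcases mul_eq_zero.1 this with h | h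
        · exact h
        · exact absurd h hm₀
      have h4 : e * c = 0 := (hψ0 c).1 h3
      have : c = c * (1 - e) + e * c := by ring
      rw [this, h1, h4, add_zero]
    have hψm' : ψ m' = ψ m₀ := by
      rw [hm', map_add, map_mul, map_sub, map_one, hψe]; ring
    have hψn' : ψ n' = ψ n := by rw [hn', map_mul, hψe, one_mul]
    set Q := FractionRing R with hQ
    set x : Q := IsLocalization.mk' Q n' (⟨m', hm'nzd⟩ : nonZeroDivisors R) with hx
    have hunit : ∀ s : nonZeroDivisors R, IsUnit (ψ s) := by
      intro s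
      rw [isUnit_iff_ne_zero]
      intro h0
      rw [hψ0] at h0
      have : e = 0 := (mem_nonZeroDivisors_iff_right.1 s.2) _ h0
      exact hep (this ▸ p.zero_mem)
    let Φ : Q →+* L := IsLocalization.lift (M := nonZeroDivisors R) hunit
    have hΦ : ∀ r : R, Φ (algebraMap R Q r) = ψ r := fun r => IsLocalization.lift_eq hunit r
    have hΦx : Φ x = z := by
      have h1 : x * algebraMap R Q m' = algebraMap R Q n' := IsLocalization.mk'_spec Q n' _
      have h2 := congrArg Φ h1
      rw [map_mul, hΦ, hΦ, hψm', hψn', ← hnm] at h2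
      exact mul_right_cancel₀ hm₀ h2
    have hkerΦ : ∀ w : Q, Φ w = 0 → algebraMap R Q e * w = 0 := by
      intro w hw
      obtain ⟨n₁, s₁, rfl⟩ := IsLocalization.exists_mk'_eq (nonZeroDivisors R) w
      have h1 : IsLocalization.mk' Q n₁ s₁ * algebraMap R Q s₁ = algebraMap R Q n₁ :=
        IsLocalization.mk'_spec Q n₁ s₁
      have h2 := congrArg Φ h1
      rw [map_mul, hw, zero_mul, hΦ] at h2
      have h3 : e * n₁ = 0 := (hψ0 n₁).1 h2.symm
      have hsu : IsUnit (algebraMap R Q s₁) := IsLocalization.map_units Q s₁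
      apply hsu.mul_left_injective
      show algebraMap R Q e * IsLocalization.mk' Q n₁ s₁ * algebraMap R Q s₁ = 0 * algebraMap R Q s₁
      rw [mul_assoc, h1, ← map_mul, h3, map_zero, zero_mul]
    have hex : algebraMap R Q e * x = x := by
      have hsu : IsUnit (algebraMap R Q m') := IsLocalization.map_units Q (⟨m', hm'nzd⟩ : nonZeroDivisors R)
      have h1 : x * algebraMap R Q m' = algebraMap R Q n' := IsLocalization.mk'_spec Q n' _
      apply hsu.mul_left_injective
      show algebraMap R Q e * x * algebraMap R Q m' = x * algebraMap R Q m'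
      rw [mul_assoc, h1, ← map_mul, hn', ← mul_assoc, hee]
    have hxint : IsIntegral R x := by
      refine ⟨Polynomial.X * P, Polynomial.monic_X.mul hPmonic, ?_⟩
      rw [Polynomial.eval₂_mul, Polynomial.eval₂_X]
      have h1 : Φ (Polynomial.eval₂ (algebraMap R Q) x P) = 0 := by
        rw [Polynomial.hom_eval₂, hΦx]
        have : Φ.comp (algebraMap R Q) = algebraMap R L := by
          ext r; exact hΦ r
        rw [this]
        exact hPz
      have h2 := hkerΦ _ h1
      calc x * Polynomial.eval₂ (algebraMap R Q) x P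
          = (algebraMap R Q e * x) * Polynomial.eval₂ (algebraMap R Q) x P := by rw [hex]
        _ = x * (algebraMap R Q e * Polynomial.eval₂ (algebraMap R Q) x P) := by ring
        _ = 0 := by rw [h2, mul_zero]
    obtain ⟨x₀, hx₀⟩ := hclQ hxint
    refine ⟨IsLocalization.mk' Rp x₀ t, ?_⟩
    have h1 : algebraMap Rp L (IsLocalization.mk' Rp x₀ t) * ψ t = ψ x₀ := by
      rw [hψ, hψ, ← map_mul, IsLocalization.mk'_spec]
    have h2 : ψ x₀ = ψ t * y := by
      rw [← hΦ, hx₀, hΦx, hzy]
    rw [h2, mul_comm] at h1
    exact mul_left_cancel₀ hψt h1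

end Groth.Agent.S2139
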