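import Groth.Statements.S2145
import Mathlib
import Groth.Agent.Lib.Helper26.LocSpread

set_option autoImplicit false
set_option linter.style.haveILetI false
universe u
open CAlg

namespace Groth.Agent.S2145

open Groth.Agent.Helper26.LocSpread

/-- Let `S`, `S'` be finitely presented `R`-algebras and `𝔮 ⊆ S`, `𝔮' ⊆ S'` primes with `S_𝔮 ≅ S'_{𝔮'}`
as `R`-algebras. Then `S_g ≅ S'_{g'}` as `R`-algebras for some `g ∉ 𝔮`, `g' ∉ 𝔮'`. -/
theorem result {R S S' : Type u} [CommRing R] [CommRing S] [CommRing S'] [Algebra R S]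
    [Algebra R S'] [Algebra.FinitePresentation R S] [Algebra.FinitePresentation R S'] (q : Ideal S) [q.IsPrime]
    (q' : Ideal S') [q'.IsPrime] (e : Localization.AtPrime q ≃ₐ[R] Localization.AtPrime q') :
    ∃ (g : S) (g' : S'), g ∉ q ∧ g' ∉ q' ∧ Nonempty (Localization.Away g ≃ₐ[R] Localization.Away g') := by
  classical
  -- Step 1
  obtain ⟨a', ha', φ₁, hφ₁⟩ := exists_lift R q' S
    (e.toAlgHom.comp (IsScalarTower.toAlgHom R S (Localization.AtPrime q)))
  have hφ₁' : ∀ s : S, toAt R q' a' ha' (φ₁ s) = e (algebraMap S (Localization.AtPrime q) s) :=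
    fun s => DFunLike.congr_fun hφ₁ s
  -- Step 2
  haveI : Algebra.FinitePresentation S' (Localization.Away a') :=
    IsLocalization.Away.finitePresentation a'
  haveI : Algebra.FinitePresentation R (Localization.Away a') :=
    Algebra.FinitePresentation.trans R S' _
  obtain ⟨b, hb, ψ₂, hψ₂⟩ := exists_lift R q (Localization.Away a')
    (e.symm.toAlgHom.comp (toAt R q' a' ha'))
  have hψ₂' : ∀ x, toAt R q b hb (ψ₂ x) = e.symm (toAt R q' a' ha' x) :=
    fun x => DFunLike.congr_fun hψ₂ x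
  -- Step 3
  have step3 : ∃ (c : S) (hc : c ∉ q)
      (ψ₃ : Localization.Away a' →ₐ[R] Localization.Away c),
      (∀ s, ψ₃ (φ₁ s) = algebraMap S _ s) ∧
        ∀ x, toAt R q c hc (ψ₃ x) = e.symm (toAt R q' a' ha' x) := by
    have h3 : (toAt R q b hb).comp (ψ₂.comp φ₁) =
        (toAt R q b hb).comp (IsScalarTower.toAlgHom R S (Localization.Away b)) := by
      apply AlgHom.ext
      intro s
      show toAt R q b hb (ψ₂ (φ₁ s)) = toAt R q b hb (algebraMap S _ s)
      rw [hψ₂', hφ₁', AlgEquiv.symm_apply_apply, toAt_algebraMap]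
    obtain ⟨h₃, hh₃, hE3⟩ := exists_trans_comp_eq R q S b hb _ _ h3
    have hc : b * h₃ ∉ q := fun hmem =>
      (Ideal.IsPrime.mem_or_mem inferInstance hmem).elim hb hh₃
    refine ⟨b * h₃, hc, (trans R b h₃).comp ψ₂, ?_, ?_⟩
    · intro s
      have h4 : trans R b h₃ (ψ₂ (φ₁ s)) = trans R b h₃ (algebraMap S (Localization.Away b) s) :=
        DFunLike.congr_fun hE3 s
      rw [trans_algebraMap] at h4
      exact h4
    · intro x
      show toAt R q (b * h₃) hc (trans R b h₃ (ψ₂ x)) = _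
      rw [toAt_trans_apply R q b h₃ hb hc, hψ₂']
  obtain ⟨c, hc, ψ₃, hψ₃φ₁, hψ₃at⟩ := step3
  -- Step 4
  have hu' : IsUnit (toAt R q' a' ha' (φ₁ c)) := by
    rw [hφ₁']; exact (isUnit_algebraMap_atPrime q hc).map e
  obtain ⟨z', n', hz', hzn'⟩ := exists_num R q' a' ha' (φ₁ c) hu'
  have hd' : a' * z' ∉ q' := fun hmem =>
    (Ideal.IsPrime.mem_or_mem inferInstance hmem).elim ha' hz'
  have hU1 : IsUnit (((trans R a' z').comp φ₁) c) :=
    isUnit_trans_of_num R a' z' n' (φ₁ c) hzn'
  let φ₄ : Localization.Away c →ₐ[R] Localization.Away (a' * z') :=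
    awayLift R c ((trans R a' z').comp φ₁) hU1
  have hφ₄ : ∀ s : S, φ₄ (algebraMap S _ s) = trans R a' z' (φ₁ s) :=
    fun s => awayLift_algebraMap R c _ hU1 s
  have hua' : IsUnit (ψ₃ (algebraMap S' (Localization.Away a') a')) :=
    (IsLocalization.Away.algebraMap_isUnit a').map ψ₃
  have huz' : IsUnit (ψ₃ (algebraMap S' (Localization.Away a') z')) := by
    rw [← hzn', map_mul, map_pow, hψ₃φ₁]
    exact (IsLocalization.Away.algebraMap_isUnit c).mul (hua'.pow n')
  have hU2 : IsUnit ((ψ₃.comp (IsScalarTower.toAlgHom R S' (Localization.Away a')))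
      (a' * z')) := by
    show IsUnit (ψ₃ (algebraMap S' (Localization.Away a') (a' * z')))
    rw [map_mul, map_mul]; exact hua'.mul huz'
  let ψ₄ : Localization.Away (a' * z') →ₐ[R] Localization.Away c :=
    awayLift R (a' * z') (ψ₃.comp (IsScalarTower.toAlgHom R S' (Localization.Away a'))) hU2
  have hψ₄ : ∀ s' : S', ψ₄ (algebraMap S' _ s') = ψ₃ (algebraMap S' _ s') :=
    fun s' => awayLift_algebraMap R _ _ hU2 s'
  have hψ₄trans : ∀ x, ψ₄ (trans R a' z' x) = ψ₃ x := by
    have : ψ₄.comp (trans R a' z') = ψ₃ := algHom_ext_away R a' fun s' => by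
      rw [AlgHom.comp_apply, trans_algebraMap, hψ₄]
    exact fun x => DFunLike.congr_fun this x
  have hψ₄φ₄ : ∀ x, ψ₄ (φ₄ x) = x := by
    have : ψ₄.comp φ₄ = AlgHom.id R _ := algHom_ext_away R c fun s => by
      rw [AlgHom.comp_apply, hφ₄, hψ₄trans, hψ₃φ₁]; rfl
    exact fun x => DFunLike.congr_fun this x
  -- Step 5
  have hE5a : ∀ x, toAt R q' (a' * z') hd' (φ₄ x) = e (toAt R q c hc x) := by
    have : (toAt R q' (a' * z') hd').comp φ₄ = e.toAlgHom.comp (toAt R q c hc) :=
      algHom_ext_away R c fun s => by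
        rw [AlgHom.comp_apply, hφ₄, toAt_trans_apply R q' a' z' ha' hd', hφ₁', AlgHom.comp_apply,
          toAt_algebraMap]; rfl
    exact fun x => DFunLike.congr_fun this x
  have hE5b : ∀ x, toAt R q c hc (ψ₄ x) = e.symm (toAt R q' (a' * z') hd' x) := by
    have : (toAt R q c hc).comp ψ₄ = e.symm.toAlgHom.comp (toAt R q' (a' * z') hd') :=
      algHom_ext_away R (a' * z') fun s' => by
        rw [AlgHom.comp_apply, hψ₄, hψ₃at, toAt_algebraMap, AlgHom.comp_apply, toAt_algebraMap]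
        rfl
    exact fun x => DFunLike.congr_fun this x
  haveI : Algebra.FinitePresentation S' (Localization.Away (a' * z')) :=
    IsLocalization.Away.finitePresentation (a' * z')
  haveI : Algebra.FinitePresentation R (Localization.Away (a' * z')) :=
    Algebra.FinitePresentation.trans R S' _
  haveI : Algebra.FiniteType R (Localization.Away (a' * z')) :=
    Algebra.FiniteType.of_finitePresentation
  have h5 : (toAt R q' (a' * z') hd').comp (φ₄.comp ψ₄) =
      (toAt R q' (a' * z') hd').comp (AlgHom.id R _) := by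
    apply AlgHom.ext; intro x
    show toAt R q' (a' * z') hd' (φ₄ (ψ₄ x)) = toAt R q' (a' * z') hd' x
    rw [hE5a, hE5b, AlgEquiv.apply_symm_apply]
  obtain ⟨h₅, hh₅, hE5⟩ :=
    exists_trans_comp_eq R q' (Localization.Away (a' * z')) (a' * z') hd' _ _ h5
  have hE5' : ∀ x, trans R (a' * z') h₅ (φ₄ (ψ₄ x)) = trans R (a' * z') h₅ x :=
    fun x => DFunLike.congr_fun hE5 x
  have he' : a' * z' * h₅ ∉ q' := fun hmem =>
    (Ideal.IsPrime.mem_or_mem inferInstance hmem).elim hd' hh₅
  -- Step 6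
  have hvu : IsUnit (toAt R q c hc (ψ₄ (algebraMap S' _ (a' * z' * h₅)))) := by
    rw [hE5b, toAt_algebraMap]; exact (isUnit_algebraMap_atPrime q' he').map e.symm
  obtain ⟨z, n, hz, hzn⟩ := exists_num R q c hc _ hvu
  have hk : c * z ∉ q := fun hmem =>
    (Ideal.IsPrime.mem_or_mem inferInstance hmem).elim hc hz
  have hU3 : IsUnit (((trans R c z).comp
      (ψ₄.comp (IsScalarTower.toAlgHom R S' (Localization.Away (a' * z'))))) (a' * z' * h₅)) :=
    isUnit_trans_of_num R c z n _ hzn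
  let ψ₆ : Localization.Away (a' * z' * h₅) →ₐ[R] Localization.Away (c * z) :=
    awayLift R _ _ hU3
  have hψ₆ : ∀ s', ψ₆ (algebraMap S' _ s') = trans R c z (ψ₄ (algebraMap S' _ s')) :=
    fun s' => awayLift_algebraMap R _ _ hU3 s'
  let F : Localization.Away c →ₐ[R] Localization.Away (a' * z' * h₅) :=
    (trans R (a' * z') h₅).comp φ₄
  have hFc : IsUnit (F (algebraMap S _ c)) := (IsLocalization.Away.algebraMap_isUnit c).map F
  have hFv : IsUnit (F (ψ₄ (algebraMap S' _ (a' * z' * h₅)))) := by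
    show IsUnit (trans R (a' * z') h₅ (φ₄ (ψ₄ _)))
    rw [hE5', trans_algebraMap]
    exact IsLocalization.Away.algebraMap_isUnit (a' * z' * h₅)
  have hFz : IsUnit (F (algebraMap S _ z)) := by
    rw [← hzn, map_mul, map_pow]; exact hFv.mul (hFc.pow n)
  have hU4 : IsUnit ((F.comp (IsScalarTower.toAlgHom R S (Localization.Away c))) (c * z)) := by
    show IsUnit (F (algebraMap S _ (c * z)))
    rw [map_mul, map_mul]; exact hFc.mul hFz
  let φ₆ : Localization.Away (c * z) →ₐ[R] Localization.Away (a' * z' * h₅) :=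
    awayLift R (c * z) _ hU4
  have hφ₆ : ∀ s, φ₆ (algebraMap S _ s) = trans R (a' * z') h₅ (φ₄ (algebraMap S _ s)) :=
    fun s => awayLift_algebraMap R _ _ hU4 s
  have hE6c : ∀ x, ψ₆ (trans R (a' * z') h₅ x) = trans R c z (ψ₄ x) := by
    have : ψ₆.comp (trans R (a' * z') h₅) = (trans R c z).comp ψ₄ :=
      algHom_ext_away R (a' * z') fun s' => by
        rw [AlgHom.comp_apply, trans_algebraMap, hψ₆, AlgHom.comp_apply]
    exact fun x => DFunLike.congr_fun this x
  have hE6d : ∀ x, φ₆ (trans R c z x) = trans R (a' * z') h₅ (φ₄ x) := by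
    have : φ₆.comp (trans R c z) = (trans R (a' * z') h₅).comp φ₄ :=
      algHom_ext_away R c fun s => by
        rw [AlgHom.comp_apply, trans_algebraMap, hφ₆, AlgHom.comp_apply]
    exact fun x => DFunLike.congr_fun this x
  have h1 : φ₆.comp ψ₆ = AlgHom.id R _ := algHom_ext_away R (a' * z' * h₅) fun s' => by
    rw [AlgHom.comp_apply, hψ₆, hE6d, hE5', trans_algebraMap]; rfl
  have h2 : ψ₆.comp φ₆ = AlgHom.id R _ := algHom_ext_away R (c * z) fun s => by
    rw [AlgHom.comp_apply, hφ₆, hE6c, hψ₄φ₄, trans_algebraMap]; rfl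
  exact ⟨c * z, a' * z' * h₅, hk, he', ⟨AlgEquiv.ofAlgHom φ₆ ψ₆ h1 h2⟩⟩

end Groth.Agent.S2145
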