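import Groth.Statements.S2146
import Mathlib
import Groth.Agent.Lib.Helper26.LocSpread

set_option autoImplicit false
set_option linter.style.haveILetI false
universe u
open CAlg

namespace Groth.Agent.S2146

open Groth.Agent.Helper26.LocSpread

/-- Let `S` be a finitely presented `R`-algebra and `𝔮` a prime of `S` over `𝔭` such that the induced
map `R_𝔭 → S_𝔮` is bijective. Then for some `f ∉ 𝔭` there is an `R_f`-algebra `C` with `S_f ≅ R_f ×
C` as `R_f`-algebras. -/
theorem result {R S : Type u} [CommRing R] [CommRing S] [Algebra R S]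
    [Algebra.FinitePresentation R S] (q : Ideal S) [q.IsPrime] (p : Ideal R) [p.IsPrime] [q.LiesOver p]
    (h : Function.Bijective (Localization.localRingHom p q (algebraMap R S) (q.over_def p))) :
    ∃ f : R, f ∉ p ∧ ∀ (Rf Sf : Type u) [CommRing Rf] [CommRing Sf] [Algebra R Rf] [IsLocalization.Away f Rf]
      [Algebra S Sf] [IsLocalization.Away (algebraMap R S f) Sf] [Algebra Rf Sf] [Algebra R Sf] [IsScalarTower R S Sf]
      [IsScalarTower R Rf Sf],
      ∃ (C : Type u) (_ : CommRing C) (_ : Algebra Rf C), Nonempty (Sf ≃ₐ[Rf] (Rf × C)) := by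
  classical
  let lam : Localization.AtPrime p →ₐ[R] Localization.AtPrime q :=
    { Localization.localRingHom p q (algebraMap R S) (q.over_def p) with
      commutes' := fun r => by
        show Localization.localRingHom p q (algebraMap R S) (q.over_def p) (algebraMap R _ r) =
          algebraMap R _ r
        rw [Localization.localRingHom_to_map, ← IsScalarTower.algebraMap_apply] }
  let ε : Localization.AtPrime q ≃ₐ[R] Localization.AtPrime p :=
    (AlgEquiv.ofBijective lam h).symm
  have hlamε : ∀ x, lam (ε x) = x := fun x => (AlgEquiv.ofBijective lam h).apply_symm_apply x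
  -- Step 1: lift
  obtain ⟨f₁, hf₁, χ, hχ⟩ := exists_lift R p S
    (ε.toAlgHom.comp (IsScalarTower.toAlgHom R S (Localization.AtPrime q)))
  have hχ' : ∀ s : S, toAt R p f₁ hf₁ (χ s) = ε (algebraMap S (Localization.AtPrime q) s) :=
    fun s => DFunLike.congr_fun hχ s
  obtain ⟨t, ht_def⟩ : ∃ t : S, t = algebraMap R S f₁ := ⟨_, rfl⟩
  have ht : t ∉ q := by
    intro hmem
    apply hf₁
    rw [q.over_def p]
    rw [ht_def] at hmem
    exact hmem
  have hχt : IsUnit (χ t) := by
    rw [ht_def, AlgHom.commutes]; exact IsLocalization.Away.algebraMap_isUnit f₁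
  let χ₁ : Localization.Away t →ₐ[R] Localization.Away f₁ := awayLift R t χ hχt
  have hχ₁ : ∀ s, χ₁ (algebraMap S _ s) = χ s := fun s => awayLift_algebraMap R t χ hχt s
  have hιu : IsUnit ((Algebra.ofId R (Localization.Away t)) f₁) := by
    show IsUnit (algebraMap R (Localization.Away t) f₁)
    rw [IsScalarTower.algebraMap_apply R S (Localization.Away t), ← ht_def]
    exact IsLocalization.Away.algebraMap_isUnit t
  let ι₁ : Localization.Away f₁ →ₐ[R] Localization.Away t :=
    awayLift R f₁ (Algebra.ofId R _) hιu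
  have hι₁ : ∀ r : R, ι₁ (algebraMap R _ r) = algebraMap R _ r :=
    fun r => awayLift_algebraMap R f₁ _ hιu r
  have hr5 : ∀ b, toAt R q t ht (ι₁ b) = lam (toAt R p f₁ hf₁ b) := by
    have : (toAt R q t ht).comp ι₁ = lam.comp (toAt R p f₁ hf₁) :=
      algHom_ext_away R f₁ fun r => by
        rw [AlgHom.comp_apply, hι₁, AlgHom.commutes, AlgHom.comp_apply, toAt_algebraMap,
          AlgHom.commutes]
    exact fun b => DFunLike.congr_fun this b
  haveI : Algebra.FinitePresentation S (Localization.Away t) :=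
    IsLocalization.Away.finitePresentation t
  haveI : Algebra.FinitePresentation R (Localization.Away t) :=
    Algebra.FinitePresentation.trans R S _
  haveI : Algebra.FiniteType R (Localization.Away t) :=
    Algebra.FiniteType.of_finitePresentation
  have hE : (toAt R q t ht).comp (AlgHom.id R _) = (toAt R q t ht).comp (ι₁.comp χ₁) := by
    apply algHom_ext_away R t
    intro s
    show toAt R q t ht (algebraMap S _ s) = toAt R q t ht (ι₁ (χ₁ (algebraMap S _ s)))
    rw [hχ₁, hr5, hχ', hlamε, toAt_algebraMap]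
  obtain ⟨g, hg, hgk⟩ := exists_mul_sub_eq_zero R q (Localization.Away t) t ht _ _ hE
  have hgk' : ∀ x, algebraMap S (Localization.Away t) g * (x - ι₁ (χ₁ x)) = 0 := hgk
  have hu₁ : IsUnit (toAt R p f₁ hf₁ (χ g)) := by
    rw [hχ']; exact (isUnit_algebraMap_atPrime q hg).map ε
  obtain ⟨z, n, hz, hzn⟩ := exists_num R p f₁ hf₁ (χ g) hu₁
  refine ⟨f₁ * z, fun hmem => (Ideal.IsPrime.mem_or_mem inferInstance hmem).elim hf₁ hz, ?_⟩
  intro Rf Sf _ _ _ _ _ _ _ _ _ _
  have hf₁Rf : IsUnit (algebraMap R Rf f₁) :=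
    IsLocalization.Away.isUnit_of_dvd (S := Rf) (f₁ * z) (Dvd.intro z rfl)
  have hzRf : IsUnit (algebraMap R Rf z) :=
    IsLocalization.Away.isUnit_of_dvd (S := Rf) (f₁ * z) (Dvd.intro_left f₁ rfl)
  have hfSf : IsUnit (algebraMap S Sf (algebraMap R S (f₁ * z))) :=
    IsLocalization.Away.algebraMap_isUnit _
  have htSf : IsUnit (algebraMap S Sf t) :=
    IsLocalization.Away.isUnit_of_dvd (S := Sf) (algebraMap R S (f₁ * z))
      ⟨algebraMap R S z, by rw [ht_def, map_mul]⟩
  let cB : Localization.Away f₁ →ₐ[R] Rf := awayLift R f₁ (Algebra.ofId R Rf) hf₁Rf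
  have hcB : ∀ r, cB (algebraMap R _ r) = algebraMap R Rf r :=
    fun r => awayLift_algebraMap R f₁ _ hf₁Rf r
  let cT : Localization.Away t →ₐ[R] Sf := awayLift R t (IsScalarTower.toAlgHom R S Sf) htSf
  have hcT : ∀ s, cT (algebraMap S _ s) = algebraMap S Sf s :=
    fun s => awayLift_algebraMap R t _ htSf s
  have hχfu : IsUnit ((cB.comp χ) (algebraMap R S (f₁ * z))) := by
    show IsUnit (cB (χ (algebraMap R S (f₁ * z))))
    rw [AlgHom.commutes, hcB]; exact IsLocalization.Away.algebraMap_isUnit (f₁ * z)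
  let χf : Sf →ₐ[R] Rf :=
    IsLocalization.Away.liftAlgHom (S := Sf) (algebraMap R S (f₁ * z)) (f := cB.comp χ) hχfu
  have hχf : ∀ s, χf (algebraMap S Sf s) = cB (χ s) := fun s => by
    show IsLocalization.Away.liftAlgHom (S := Sf) (algebraMap R S (f₁ * z)) (f := cB.comp χ) hχfu
      (algebraMap S Sf s) = _
    rw [IsLocalization.Away.liftAlgHom_apply, IsLocalization.Away.lift_eq]
    rfl
  have hr3 : ∀ b, algebraMap Rf Sf (cB b) = cT (ι₁ b) := by
    have : (IsScalarTower.toAlgHom R Rf Sf).comp cB = cT.comp ι₁ :=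
      algHom_ext_away R f₁ fun r => by
        rw [AlgHom.comp_apply, hcB, AlgHom.commutes, AlgHom.comp_apply, hι₁, AlgHom.commutes]
    exact fun b => DFunLike.congr_fun this b
  have hr4 : ∀ r : Rf, χf (algebraMap Rf Sf r) = r := by
    have : (χf : Sf →+* Rf).comp (algebraMap Rf Sf) = RingHom.id Rf := by
      apply IsLocalization.ringHom_ext (Submonoid.powers (f₁ * z))
      ext r₀
      show χf (algebraMap Rf Sf (algebraMap R Rf r₀)) = algebraMap R Rf r₀
      rw [← IsScalarTower.algebraMap_apply R Rf Sf, AlgHom.commutes]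
    exact fun r => RingHom.congr_fun this r
  have hu : algebraMap Rf Sf (χf (algebraMap S Sf (algebraMap R S (f₁ * z)))) =
      algebraMap S Sf (algebraMap R S (f₁ * z)) := by
    rw [hχf, AlgHom.commutes, hcB, ← IsScalarTower.algebraMap_apply R Rf Sf,
      IsScalarTower.algebraMap_apply R S Sf]
  have hγ : ∀ x : Sf, algebraMap S Sf g * x =
      algebraMap S Sf g * algebraMap Rf Sf (χf x) := by
    intro x
    obtain ⟨m, s, hms⟩ := IsLocalization.Away.surj (algebraMap R S (f₁ * z)) x
    have hum : IsUnit (algebraMap S Sf (algebraMap R S (f₁ * z)) ^ m) := hfSf.pow m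
    apply hum.mul_left_injective
    have h2 := congrArg cT (hgk' (algebraMap S _ s))
    rw [map_mul, map_sub, map_zero, hcT, hcT, ← hr3, hχ₁, mul_sub, sub_eq_zero] at h2
    calc algebraMap S Sf g * x * algebraMap S Sf (algebraMap R S (f₁ * z)) ^ m
        = algebraMap S Sf g * (x * algebraMap S Sf (algebraMap R S (f₁ * z)) ^ m) :=
          mul_assoc _ _ _
      _ = algebraMap S Sf g * algebraMap S Sf s := by rw [hms]
      _ = algebraMap S Sf g * algebraMap Rf Sf (cB (χ s)) := h2
      _ = algebraMap S Sf g * algebraMap Rf Sf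
            (χf (x * algebraMap S Sf (algebraMap R S (f₁ * z)) ^ m)) := by rw [hms, hχf]
      _ = algebraMap S Sf g * (algebraMap Rf Sf (χf x) *
            algebraMap S Sf (algebraMap R S (f₁ * z)) ^ m) := by
          rw [map_mul, map_pow, map_mul, map_pow, hu]
      _ = _ := (mul_assoc _ _ _).symm
  have hχγ : IsUnit (χf (algebraMap S Sf g)) := by
    rw [hχf]
    have h1 := congrArg cB hzn
    rw [map_mul, map_pow, hcB, hcB] at h1
    have : IsUnit (cB (χ g) * algebraMap R Rf f₁ ^ n) := by rw [h1]; exact hzRf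
    exact isUnit_of_mul_isUnit_left this
  obtain ⟨e₀, he₀def⟩ : ∃ e₀ : Sf, e₀ = algebraMap Rf Sf (↑hχγ.unit⁻¹) * algebraMap S Sf g :=
    ⟨_, rfl⟩
  have hχe₀ : χf e₀ = 1 := by
    rw [he₀def, map_mul, hr4]; exact hχγ.val_inv_mul
  have he₀ : ∀ x, e₀ * x = e₀ * algebraMap Rf Sf (χf x) := by
    intro x
    rw [he₀def, mul_assoc, hγ x, ← mul_assoc]
  have hidem : e₀ * e₀ = e₀ := by
    rw [he₀ e₀, hχe₀, map_one, mul_one]
  let χf' : Sf →ₐ[Rf] Rf :=
    { (χf : Sf →+* Rf) with
      commutes' := fun r => hr4 r }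
  let Ψ : Sf →ₐ[Rf] Rf × (Sf ⧸ Ideal.span {e₀}) :=
    AlgHom.prod χf' (Ideal.Quotient.mkₐ Rf (Ideal.span {e₀}))
  have hΨ : ∀ x, Ψ x = (χf x, Ideal.Quotient.mk (Ideal.span {e₀}) x) := fun x => rfl
  have hinj : Function.Injective Ψ := by
    rw [injective_iff_map_eq_zero]
    intro x hx
    rw [hΨ, Prod.mk_eq_zero] at hx
    obtain ⟨hx1, hx2⟩ := hx
    rw [Ideal.Quotient.eq_zero_iff_mem, Ideal.mem_span_singleton'] at hx2
    obtain ⟨y, rfl⟩ := hx2
    calc y * e₀ = e₀ * (y * e₀) := by rw [mul_left_comm, hidem]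
      _ = e₀ * algebraMap Rf Sf (χf (y * e₀)) := he₀ _
      _ = 0 := by rw [hx1, map_zero, mul_zero]
  have hsurj : Function.Surjective Ψ := by
    rintro ⟨r, c⟩
    obtain ⟨y, rfl⟩ := Ideal.Quotient.mk_surjective c
    refine ⟨e₀ * algebraMap Rf Sf r + (1 - e₀) * y, ?_⟩
    rw [hΨ]
    have hmk : Ideal.Quotient.mk (Ideal.span {e₀}) e₀ = 0 :=
      Ideal.Quotient.eq_zero_iff_mem.mpr (Ideal.mem_span_singleton_self _)
    refine Prod.ext ?_ ?_
    · show χf (e₀ * algebraMap Rf Sf r + (1 - e₀) * y) = r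
      rw [map_add, map_mul, map_mul, map_sub, map_one, hχe₀, hr4, sub_self, zero_mul, add_zero,
        one_mul]
    · show Ideal.Quotient.mk (Ideal.span {e₀}) (e₀ * algebraMap Rf Sf r + (1 - e₀) * y) = _
      rw [map_add, map_mul, map_mul, map_sub, map_one, hmk, zero_mul, zero_add, sub_zero, one_mul]
  exact ⟨Sf ⧸ Ideal.span {e₀}, inferInstance, inferInstance,
    ⟨AlgEquiv.ofBijective Ψ ⟨hinj, hsurj⟩⟩⟩

end Groth.Agent.S2146
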