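import Groth.Statements.S2148
import Mathlib

set_option autoImplicit false
universe u
open CAlg

namespace Groth.Agent.S2148

open Polynomial IntermediateField

/-- Let `k` be a perfect field of characteristic `p > 0` and `K` an extension field of `k`. For `a ∈ K`,
the differential `da` vanishes in `Ω_{K/k}` if and only if `a` is a `p`-th power in `K`. -/
theorem result {k K : Type u} [Field k] [Field K] [Algebra k K] (p : ℕ) [Fact p.Prime]
    [CharP k p] [PerfectRing k p] (a : K) :
    KaehlerDifferential.D k K a = 0 ↔ ∃ b : K, b ^ p = a := by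
  have hp : p.Prime := Fact.out
  haveI : CharP K p := charP_of_injective_algebraMap (algebraMap k K).injective p
  constructor
  · intro hda
    by_contra hna
    push Not at hna
    let F₀ : IntermediateField k K := (frobenius K p).fieldRange.toIntermediateField (by
      intro c
      obtain ⟨c', hc'⟩ := surjective_frobenius k p c
      refine ⟨algebraMap k K c', ?_⟩
      rw [frobenius_def, ← map_pow, ← frobenius_def, hc'])
    let S : Set (IntermediateField k K) := {F | (∀ x : K, x ^ p ∈ F) ∧ a ∉ F}
    have hF₀ : F₀ ∈ S := ⟨fun x => ⟨x, rfl⟩, fun ⟨b, hb⟩ => hna b hb⟩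
    have hchain : ∀ c ⊆ S, IsChain (· ≤ ·) c → ∀ y ∈ c, ∃ ub ∈ S, ∀ z ∈ c, z ≤ ub := by
      intro c hcS hc y hy
      refine ⟨sSup c, ⟨fun x => (le_sSup hy : y ≤ sSup c) ((hcS hy).1 x), ?_⟩, fun z hz => le_sSup hz⟩
      intro ha
      haveI : Nonempty c := ⟨⟨y, hy⟩⟩
      have hdir : Directed (· ≤ ·) (fun i : c => (i : IntermediateField k K)) := hc.directedOn.directed_val
      rw [sSup_eq_iSup'] at ha
      have := IntermediateField.coe_iSup_of_directed hdir
      have ha' : a ∈ ((⨆ i : c, (i : IntermediateField k K) : IntermediateField k K) : Set K) := ha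
      rw [this] at ha'
      obtain ⟨i, hi⟩ := Set.mem_iUnion.1 ha'
      exact (hcS i.2).2 hi
    obtain ⟨F, hF₀F, hFmax⟩ := zorn_le_nonempty₀ S hchain F₀ hF₀
    have hF1 : ∀ x : K, x ^ p ∈ F := hFmax.1.1
    have hFa : a ∉ F := hFmax.1.2
    haveI : CharP F p := charP_of_injective_algebraMap (algebraMap k F).injective p
    -- minimal polynomial of elements outside F
    have hmin : ∀ b : K, b ∉ F → minpoly F b = X ^ p - C (⟨b ^ p, hF1 b⟩ : F) := by
      intro b hb
      have hirr : Irreducible (X ^ p - C (⟨b ^ p, hF1 b⟩ : F)) := by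
        apply X_pow_sub_C_irreducible_of_prime hp
        intro m hm
        have h1 : ((m : K)) ^ p = b ^ p := by
          have := congrArg (fun z : F => (z : K)) hm
          simpa using this
        have h2 : (m : K) = b := frobenius_inj K p h1
        exact hb (h2 ▸ m.2)
      symm
      apply minpoly.eq_of_irreducible_of_monic hirr
      · simp [aeval_def]
      · exact monic_X_pow_sub_C _ hp.ne_zero
    have hint : ∀ b : K, IsIntegral F b := by
      intro b
      refine ⟨X ^ p - C (⟨b ^ p, hF1 b⟩ : F), monic_X_pow_sub_C _ hp.ne_zero, ?_⟩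
      simp
    have hfr : ∀ b : K, b ∉ F → Module.finrank F F⟮b⟯ = p := by
      intro b hb
      rw [IntermediateField.adjoin.finrank (hint b), hmin b hb, natDegree_X_pow_sub_C]
    have htop : ∀ b : K, b ∈ F⟮a⟯ := by
      intro b
      by_cases hb : b ∈ F
      · exact (IntermediateField.algebraMap_mem F⟮a⟯ (⟨b, hb⟩ : F))
      · have hab : a ∈ F⟮b⟯ := by
          by_contra hab
          let F' : IntermediateField k K := (F⟮b⟯).restrictScalars k
          have hFF' : F ≤ F' := fun x hx => (IntermediateField.algebraMap_mem F⟮b⟯ (⟨x, hx⟩ : F))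
          have hF'S : F' ∈ S := ⟨fun x => hFF' (hF1 x), hab⟩
          have := hFmax.2 hF'S hFF'
          exact hb (this (mem_adjoin_simple_self F b))
        have hle : F⟮a⟯ ≤ F⟮b⟯ := adjoin_simple_le_iff.2 hab
        haveI : FiniteDimensional F F⟮b⟯ := adjoin.finiteDimensional (hint b)
        have heq := IntermediateField.eq_of_le_of_finrank_eq hle ((hfr a hFa).trans (hfr b hb).symm)
        rw [heq]
        exact mem_adjoin_simple_self F b
    have hsurj : Function.Surjective (aeval a : F[X] →ₐ[F] K) := by
      intro y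
      have h1 : y ∈ F⟮a⟯.toSubalgebra := htop y
      rw [IntermediateField.adjoin_simple_toSubalgebra_of_isAlgebraic (hint a).isAlgebraic, Algebra.adjoin_singleton_eq_range_aeval] at h1
      exact h1
    have hd : ∀ g : F[X], (aeval a : F[X] →ₐ[F] K) g = 0 → (aeval a : F[X] →ₐ[F] K) ((derivative' : Derivation F F[X] F[X]) g) = 0 := by
      intro g hg
      obtain ⟨q, rfl⟩ := minpoly.dvd F a hg
      rw [hmin a hFa]
      show aeval a (derivative ((X ^ p - C (⟨a ^ p, hF1 a⟩ : F)) * q)) = 0
      rw [derivative_mul]
      have h1 : derivative (X ^ p - C (⟨a ^ p, hF1 a⟩ : F)) = 0 := by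
        rw [derivative_sub, derivative_C, derivative_X_pow, sub_zero]
        have : ((p : ℕ) : F) = 0 := CharP.cast_eq_zero F p
        rw [this, C_0, zero_mul]
      have h2 : aeval a (X ^ p - C (⟨a ^ p, hF1 a⟩ : F)) = 0 := by
        rw [← hmin a hFa]; exact minpoly.aeval F a
      rw [h1, zero_mul, zero_add, map_mul, h2, zero_mul]
    let D : Derivation F K K := Derivation.liftOfSurjective hsurj hd
    have hDa : D a = 1 := by
      have h1 := Derivation.liftOfSurjective_apply hsurj hd X
      have h2 : (aeval a : F[X] →ₐ[F] K) X = a := aeval_X a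
      rw [h2] at h1
      rw [h1]
      show aeval a (derivative (X : F[X])) = 1
      rw [derivative_X, map_one]
    let Dk : Derivation k K K := D.restrictScalars k
    have h3 := Derivation.liftKaehlerDifferential_comp_D Dk a
    rw [hda, map_zero] at h3
    have h4 : Dk a = 1 := hDa
    rw [h4] at h3
    exact zero_ne_one h3
  · rintro ⟨b, rfl⟩
    rw [Derivation.leibniz_pow]
    have : (p : K) = 0 := CharP.cast_eq_zero K p
    rw [← Nat.cast_smul_eq_nsmul K, this, zero_smul]

end Groth.Agent.S2148
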