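import Groth.Statements.S2149
import Mathlib

set_option autoImplicit false
universe u
open CAlg

namespace Groth.Agent.S2149

section
open TensorProduct
variable {R S M M' : Type u} [CommRing R] [CommRing S] [Algebra R S]
    [AddCommGroup M] [Module S M] [Module R M] [IsScalarTower R S M] [AddCommGroup M'] [Module S M'] [Module R M']
    [IsScalarTower R S M'] (u : M →ₗ[S] M')

lemma rTensor_eq (Q : Type u) [AddCommGroup Q] [Module R Q] (x : M ⊗[R] Q) :
    (u.restrictScalars R).rTensor Q x = TensorProduct.AlgebraTensorModule.rTensor R Q u x := by
  induction x using TensorProduct.induction_on with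
  | zero => simp
  | tmul a b => rfl
  | add a b ha hb => rw [map_add, map_add, ha, hb]

lemma loc_key (m : Ideal S) [m.IsMaximal] (Q : Type u) [AddCommGroup Q] [Module R Q] :
    IsLocalizedModule.map m.primeCompl
      (TensorProduct.AlgebraTensorModule.rTensor R Q (LocalizedModule.mkLinearMap m.primeCompl M))
      (TensorProduct.AlgebraTensorModule.rTensor R Q (LocalizedModule.mkLinearMap m.primeCompl M'))
      (TensorProduct.AlgebraTensorModule.rTensor R Q u) =
    TensorProduct.AlgebraTensorModule.rTensor R Q (LocalizedModule.map m.primeCompl u) := by
  apply IsLocalizedModule.linearMap_ext m.primeCompl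
    (TensorProduct.AlgebraTensorModule.rTensor R Q (LocalizedModule.mkLinearMap m.primeCompl M))
    (TensorProduct.AlgebraTensorModule.rTensor R Q (LocalizedModule.mkLinearMap m.primeCompl M'))
  rw [IsLocalizedModule.map_comp]
  ext a b
  change LocalizedModule.mkLinearMap m.primeCompl M' (u a) ⊗ₜ[R] b =
    (LocalizedModule.map m.primeCompl u (LocalizedModule.mkLinearMap m.primeCompl M a)) ⊗ₜ[R] b
  congr 1
  exact (IsLocalizedModule.map_apply m.primeCompl _ _ u a).symm

end

/-- Let `R → S` be a ring map and `u : M → M'` a map of `S`-modules. Then `u`, viewed as an `R`-linear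
map, is universally injective exactly when, for every maximal ideal `𝔪` of `S`, the localized map
`M_𝔪 → M'_𝔪` is also universally injective as an `R`-linear map. -/
theorem result {R S M M' : Type u} [CommRing R] [CommRing S] [Algebra R S]
    [AddCommGroup M] [Module S M] [Module R M] [IsScalarTower R S M] [AddCommGroup M'] [Module S M'] [Module R M']
    [IsScalarTower R S M'] (u : M →ₗ[S] M') :
    CAlgX.UniversallyInjective R (u.restrictScalars R) ↔
      ∀ (m : Ideal S) [m.IsMaximal],
        CAlgX.UniversallyInjective R ((LocalizedModule.map m.primeCompl u).restrictScalars R) := by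
  constructor
  · intro h m _ Q _ _
    have h1 : Function.Injective (TensorProduct.AlgebraTensorModule.rTensor R Q u) := by
      intro x y hxy
      apply h Q
      rw [rTensor_eq, rTensor_eq, hxy]
    have h2 := IsLocalizedModule.map_injective m.primeCompl
      (TensorProduct.AlgebraTensorModule.rTensor R Q (LocalizedModule.mkLinearMap m.primeCompl M))
      (TensorProduct.AlgebraTensorModule.rTensor R Q (LocalizedModule.mkLinearMap m.primeCompl M'))
      _ h1
    rw [loc_key] at h2
    intro x y hxy
    apply h2
    change (TensorProduct.AlgebraTensorModule.rTensor R Q (LocalizedModule.map m.primeCompl u)) x =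
      (TensorProduct.AlgebraTensorModule.rTensor R Q (LocalizedModule.map m.primeCompl u)) y
    rw [← rTensor_eq, ← rTensor_eq]
    exact hxy
  · intro h Q _ _
    have h1 : Function.Injective (TensorProduct.AlgebraTensorModule.rTensor R Q u) := by
      apply injective_of_isLocalized_maximal
        (fun (P : Ideal S) (_ : P.IsMaximal) => TensorProduct R (LocalizedModule P.primeCompl M) Q)
        (fun P _ => TensorProduct.AlgebraTensorModule.rTensor R Q (LocalizedModule.mkLinearMap P.primeCompl M))
        (fun (P : Ideal S) (_ : P.IsMaximal) => TensorProduct R (LocalizedModule P.primeCompl M') Q)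
        (fun P _ => TensorProduct.AlgebraTensorModule.rTensor R Q (LocalizedModule.mkLinearMap P.primeCompl M'))
      intro P _
      rw [loc_key]
      intro x y hxy
      apply h P Q
      rw [rTensor_eq, rTensor_eq]
      exact hxy
    intro x y hxy
    apply h1
    rw [← rTensor_eq, ← rTensor_eq, hxy]

end Groth.Agent.S2149
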