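import Groth.Statements.S2152
import Mathlib

set_option autoImplicit false
universe u
open CategoryTheory AlgebraicGeometry
open Lim

namespace Groth.Agent.S2152

open AlgebraicGeometry CategoryTheory Limits in
theorem exists_resMap {X Y : Scheme.{u}} (f : X ⟶ Y) (x : X) (y : Y) (h : f x = y) :
    ∃ r : Y.residueField y ⟶ X.residueField x,
      Spec.map r ≫ Y.fromSpecResidueField y = X.fromSpecResidueField x ≫ f := by
  subst h
  exact ⟨f.residueFieldMap x, Scheme.Hom.SpecMap_residueFieldMap_fromSpecResidueField f x⟩

set_option backward.defeqAttrib.useBackward true in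
set_option backward.isDefEq.respectTransparency false in
open AlgebraicGeometry CategoryTheory Limits Opposite in
theorem exists_point {I : Type u} [SmallCategory I] [IsCofiltered I] (D : I ⥤ Scheme.{u})
    (c : Cone D) (hc : IsLimit c)
    (x : ∀ j, D.obj j) (hx : ∀ {j k : I} (φ : j ⟶ k), D.map φ (x j) = x k) :
    ∃ s : c.pt, ∀ j, c.π.app j s = x j := by
  classical
  choose r hr using fun (j k : I) (φ : j ⟶ k) =>
    exists_resMap (D.map φ) (x j) (x k) (hx φ)
  let G : I ⥤ CommRingCatᵒᵖ :=
    { obj := fun j => op ((D.obj j).residueField (x j))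
      map := fun {j k} φ => (r j k φ).op
      map_id := fun j => by
        apply Quiver.Hom.unop_inj
        apply Spec.map_injective
        rw [← cancel_mono ((D.obj j).fromSpecResidueField (x j))]
        show Spec.map (r j j (𝟙 j)) ≫ _ = Spec.map (𝟙 _) ≫ _
        rw [hr, D.map_id, Category.comp_id, Spec.map_id, Category.id_comp]
      map_comp := fun {j k l} φ ψ => by
        apply Quiver.Hom.unop_inj
        apply Spec.map_injective
        rw [← cancel_mono ((D.obj l).fromSpecResidueField (x l))]
        show Spec.map (r j l (φ ≫ ψ)) ≫ _ = Spec.map (r k l ψ ≫ r j k φ) ≫ _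
        rw [hr, Spec.map_comp, Category.assoc, hr, reassoc_of% (hr j k φ), D.map_comp] }
  haveI : PreservesLimitsOfSize.{u, u} Scheme.Spec :=
    ΓSpec.adjunction.rightAdjoint_preservesLimits
  have hcT : IsLimit (Scheme.Spec.mapCone (limit.cone G)) :=
    isLimitOfPreserves Scheme.Spec (limit.isLimit G)
  haveI : ∀ j, Nonempty ((G ⋙ Scheme.Spec).obj j) := fun j => by
    show Nonempty (Spec ((D.obj j).residueField (x j))); infer_instance
  haveI : ∀ j, CompactSpace ((G ⋙ Scheme.Spec).obj j) := fun j => by
    show CompactSpace (Spec ((D.obj j).residueField (x j))); infer_instance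
  haveI : ∀ {j k : I} (φ : j ⟶ k), IsAffineHom ((G ⋙ Scheme.Spec).map φ) := fun {j k} φ => by
    haveI : IsAffine ((G ⋙ Scheme.Spec).obj j) := by
      show IsAffine (Spec ((D.obj j).residueField (x j))); infer_instance
    haveI : IsAffine ((G ⋙ Scheme.Spec).obj k) := by
      show IsAffine (Spec ((D.obj k).residueField (x k))); infer_instance
    infer_instance
  obtain ⟨t⟩ : Nonempty (Scheme.Spec.mapCone (limit.cone G)).pt :=
    Scheme.nonempty_of_isLimit (G ⋙ Scheme.Spec) _ hcT
  let s' : Cone D :=
    { pt := (Scheme.Spec.mapCone (limit.cone G)).pt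
      π :=
        { app := fun j => (Scheme.Spec.mapCone (limit.cone G)).π.app j ≫
            (D.obj j).fromSpecResidueField (x j)
          naturality := fun j k φ => by
            show 𝟙 _ ≫ (Scheme.Spec.mapCone (limit.cone G)).π.app k ≫
                (D.obj k).fromSpecResidueField (x k) =
              ((Scheme.Spec.mapCone (limit.cone G)).π.app j ≫
                (D.obj j).fromSpecResidueField (x j)) ≫ D.map φ
            rw [Category.id_comp, Category.assoc, ← hr j k φ, ← Category.assoc]
            congr 1
            exact ((Scheme.Spec.mapCone (limit.cone G)).w φ).symm } }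
  refine ⟨hc.lift s' t, fun j => ?_⟩
  have h1 : hc.lift s' ≫ c.π.app j = s'.π.app j := hc.fac s' j
  have h2 : (c.π.app j) (hc.lift s' t) = (s'.π.app j) t := by
    rw [← h1]; rfl
  rw [h2]
  show ((Scheme.Spec.mapCone (limit.cone G)).π.app j ≫
    (D.obj j).fromSpecResidueField (x j)) t = x j
  rw [Scheme.Hom.comp_apply]
  exact Scheme.fromSpecResidueField_apply _ _

set_option backward.defeqAttrib.useBackward true in
set_option backward.isDefEq.respectTransparency false in
open AlgebraicGeometry CategoryTheory Limits Opposite in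
theorem main {I : Type u} [SmallCategory I] [IsCofiltered I] (D : I ⥤ Scheme.{u})
    [hD : ∀ {i j : I} (f : i ⟶ j), IsAffineHom (D.map f)] (c : Cone D) (hc : IsLimit c) :
    Nonempty (IsLimit (Scheme.forgetToTop.mapCone c)) := by
  have hbasis := isBasis_preimage_isAffineOpen D c hc
  have hnb := fun {U : c.pt.Opens} {a : c.pt} (h : a ∈ U) =>
    (TopologicalSpace.Opens.isBasis_iff_nbhd.mp hbasis) h
  have hmem : ∀ (a b : c.pt), (∀ j, c.π.app j a = c.π.app j b) →
      ∀ U : c.pt.Opens, a ∈ U → b ∈ U := by
    intro a b hab U haU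
    obtain ⟨U', ⟨i, V, hV, rfl⟩, haU', hU'U⟩ := hnb haU
    apply hU'U
    show c.π.app i b ∈ V
    rw [← hab i]
    exact haU'
  have hinj : ∀ (a b : c.pt), (∀ j, c.π.app j a = c.π.app j b) → a = b := by
    intro a b hab
    apply Inseparable.eq
    rw [inseparable_iff_forall_isOpen]
    intro U hU
    exact ⟨fun h => hmem a b hab ⟨U, hU⟩ h, fun h => hmem b a (fun j => (hab j).symm) ⟨U, hU⟩ h⟩
  have hT : IsLimit ((forget TopCat).mapCone (Scheme.forgetToTop.mapCone c)) := by
    apply Nonempty.some
    rw [Types.isLimit_iff]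
    intro s hs
    obtain ⟨a, ha⟩ := exists_point D c hc (fun j => s j) (fun {j k} φ => hs φ)
    refine ⟨a, fun j => ha j, fun b hb => ?_⟩
    exact hinj b a (fun j => (hb j).trans (ha j).symm)
  rw [TopCat.nonempty_isLimit_iff_eq_induced _ hT]
  apply le_antisymm
  · refine le_iInf fun j => ?_
    exact continuous_iff_le_induced.mp (c.π.app j).continuous
  · rw [TopologicalSpace.le_def]
    intro U hU
    rw [@isOpen_iff_forall_mem_open]
    intro a haU
    obtain ⟨U', ⟨i, V, hV, rfl⟩, haU', hU'U⟩ := hnb (U := ⟨U, hU⟩) haU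
    refine ⟨((c.π.app i ⁻¹ᵁ V : c.pt.Opens) : Set c.pt), hU'U, ?_, haU'⟩
    have h1 : @IsOpen _ (((D ⋙ Scheme.forgetToTop).obj i).str.induced
        ((Scheme.forgetToTop.mapCone c).π.app i))
        ((c.π.app i ⁻¹ᵁ V : c.pt.Opens) : Set c.pt) :=
      isOpen_induced_iff.mpr ⟨(V : Set (D.obj i)), V.isOpen, rfl⟩
    exact (TopologicalSpace.le_def.mp (iInf_le _ i)) _ h1


/-- Let `c` be a limit cone of a diagram of schemes indexed by a small cofiltered category with affine
transition morphisms. Then the image of `c` under the forgetful functor to topological spaces is a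
limit cone: the underlying space of the limit scheme is the limit of the underlying spaces. -/
theorem result {I : Type u} [SmallCategory I] [IsCofiltered I] (D : I ⥤ Scheme.{u})
    [∀ (i j : I) (f : i ⟶ j), IsAffineHom (D.map f)] (c : Limits.Cone D) (hc : Limits.IsLimit c) :
    Nonempty (Limits.IsLimit (Scheme.forgetToTop.mapCone c)) := by
  exact main D c hc

end Groth.Agent.S2152
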