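import Groth.Statements.S2154
import Mathlib
import Groth.Agent.S2076
import Groth.Agent.S9200

set_option autoImplicit false
universe u
open CategoryTheory AlgebraicGeometry
open Lim

namespace Groth.Agent.S2154

theorem ring_fin {A B₀ B : Type u} [CommRing A] [CommRing B₀] [CommRing B] (σ₀ : A →+* B₀)
    (σ : A →+* B) (θ : B₀ →+* B) (hθσ : θ.comp σ₀ = σ) (hθ : θ.Finite) (hσft : σ.FiniteType)
    (G : Finset B₀)
    (hG : ∀ R : Subring B₀, (∀ a, σ₀ a ∈ R) → (∀ b ∈ G, b ∈ R) → ∀ b, b ∈ R)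
    (hint : ∀ b ∈ G, σ.IsIntegralElem (θ b)) : σ.Finite := by
  letI := σ.toAlgebra
  have h1 : ∀ b, θ b ∈ integralClosure A B := by
    have := hG ((integralClosure A B).toSubring.comap θ) (fun a => ?_) (fun b hb => ?_)
    · exact fun b => this b
    · show θ (σ₀ a) ∈ integralClosure A B
      rw [← RingHom.comp_apply, hθσ]
      exact (integralClosure A B).algebraMap_mem a
    · exact hint b hb
  have h2 : σ.IsIntegral := by
    intro y
    obtain ⟨q, hq, hq0⟩ := hθ.to_isIntegral y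
    let θ' : B₀ →+* ↥(integralClosure A B) := θ.codRestrict (integralClosure A B) h1
    have e : (algebraMap ↥(integralClosure A B) B).comp θ' = θ := RingHom.ext fun _ => rfl
    have hy : IsIntegral ↥(integralClosure A B) y :=
      ⟨q.map θ', hq.map θ', by rw [Polynomial.eval₂_map, e]; exact hq0⟩
    exact isIntegral_trans (R := A) (A := ↥(integralClosure A B)) y hy
  exact h2.to_finite hσft

set_option backward.defeqAttrib.useBackward true in
set_option backward.isDefEq.respectTransparency false in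
open AlgebraicGeometry CategoryTheory Limits in
theorem ci_fin {J : Type u} [SmallCategory J] [IsCofiltered J] (E : J ⥤ Scheme.{u})
    (cE : Cone E) (hcE : IsLimit cE) [∀ j, IsAffine (E.obj j)]
    {T : Scheme.{u}} [IsAffine T] (s : ∀ j, E.obj j ⟶ T)
    (hs : ∀ {k j : J} (φ : k ⟶ j), E.map φ ≫ s j = s k)
    (hfinE : ∀ {k j : J} (φ : k ⟶ j), RingHom.Finite (E.map φ).appTop.hom)
    (j₀ : J) [∀ j, LocallyOfFiniteType (s j)]
    (hlim : RingHom.IsIntegral (cE.π.app j₀ ≫ s j₀).appTop.hom) :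
    ∃ j : J, ∀ (k : J) (_ : k ⟶ j), IsFinite (s k) := by
  classical
  have hft : ∀ j, RingHom.FiniteType (s j).appTop.hom := fun j =>
    (HasRingHomProperty.iff_of_isAffine (P := @LocallyOfFiniteType)).mp inferInstance
  have hσ : ∀ {k j : J} (φ : k ⟶ j),
      (E.map φ).appTop.hom.comp (s j).appTop.hom = (s k).appTop.hom := by
    intro k j φ
    rw [← hs φ, Scheme.Hom.comp_appTop]; rfl
  have hcomp : ∀ {l k j : J} (ψ : l ⟶ k) (φ : k ⟶ j),
      (E.map (ψ ≫ φ)).appTop.hom = (E.map ψ).appTop.hom.comp (E.map φ).appTop.hom := by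
    intro l k j ψ φ
    rw [E.map_comp, Scheme.Hom.comp_appTop]; rfl
  have hpers : ∀ {k j : J} (ψ : k ⟶ j) (x : Γ(E.obj j, ⊤)),
      (s j).appTop.hom.IsIntegralElem x →
        (s k).appTop.hom.IsIntegralElem ((E.map ψ).appTop.hom x) := by
    rintro k j ψ x ⟨p, hp, hp0⟩
    refine ⟨p, hp, ?_⟩
    rw [← hσ ψ, ← Polynomial.hom_eval₂, hp0, map_zero]
  have hrep : ∀ b : Γ(E.obj j₀, ⊤), ∃ (j : J) (φ : j ⟶ j₀),
      (s j).appTop.hom.IsIntegralElem ((E.map φ).appTop.hom b) := by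
    intro b
    obtain ⟨p, hp, hp0⟩ := hlim ((cE.π.app j₀).appTop.hom b)
    have e2 : (cE.π.app j₀ ≫ s j₀).appTop.hom =
        (cE.π.app j₀).appTop.hom.comp (s j₀).appTop.hom := by
      rw [Scheme.Hom.comp_appTop]; rfl
    have h1 : (cE.π.app j₀).appTop.hom (p.eval₂ (s j₀).appTop.hom b) = 0 :=
      (Polynomial.hom_eval₂ p (s j₀).appTop.hom (cE.π.app j₀).appTop.hom b).trans
        (by rw [← e2]; exact hp0)
    obtain ⟨j, φ, hj⟩ := exists_appTop_map_eq_zero_of_isAffine_of_isLimit E cE hcE j₀ _ h1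
    refine ⟨j, φ, p, hp, ?_⟩
    rw [← hσ φ, ← Polynomial.hom_eval₂]
    exact hj
  have hfin : ∀ G : Finset Γ(E.obj j₀, ⊤), ∃ (j : J) (φ : j ⟶ j₀),
      ∀ b ∈ G, (s j).appTop.hom.IsIntegralElem ((E.map φ).appTop.hom b) := by
    intro G
    induction G using Finset.induction_on with
    | empty => exact ⟨j₀, 𝟙 _, by simp⟩
    | insert b G hb ih =>
      obtain ⟨j, φ, hj⟩ := ih
      obtain ⟨jb, φb, hab⟩ := hrep b
      obtain ⟨k, ψ, ψb, hk⟩ := IsCofiltered.cospan φ φb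
      refine ⟨k, ψ ≫ φ, ?_⟩
      intro b' hb'
      rcases Finset.mem_insert.mp hb' with rfl | hb'
      · rw [hk, hcomp ψb φb]
        exact hpers ψb _ hab
      · rw [hcomp ψ φ]
        exact hpers ψ _ (hj b' hb')
  obtain ⟨G, hG⟩ := Groth.Agent.S2076.ft_gen _ (hft j₀)
  obtain ⟨j, φ, hj⟩ := hfin G
  refine ⟨j, fun k ψ => ?_⟩
  rw [HasAffineProperty.iff_of_isAffine (P := @IsFinite)]
  refine ⟨inferInstance, ?_⟩
  refine ring_fin (s j₀).appTop.hom (s k).appTop.hom (E.map (ψ ≫ φ)).appTop.hom (hσ (ψ ≫ φ))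
    (hfinE (ψ ≫ φ)) (hft k) G hG ?_
  intro b hb
  rw [hcomp ψ φ]
  exact hpers ψ _ (hj b hb)

set_option backward.defeqAttrib.useBackward true in
set_option backward.isDefEq.respectTransparency false in
open AlgebraicGeometry CategoryTheory Limits in
theorem perW {I : Type u} [SmallCategory I] [IsCofiltered I] (S : Scheme.{u})
    (D : I ⥤ Scheme.{u}) (t : ∀ i, D.obj i ⟶ S)
    (hnat : ∀ {i j : I} (a : i ⟶ j), D.map a ≫ t j = t i) (c : Limits.Cone D)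
    (hc : Limits.IsLimit c) [hD : ∀ {i j : I} (f : i ⟶ j), IsFinite (D.map f)]
    [∀ i, LocallyOfFiniteType (t i)] (i₁ : I) [IsAffineHom (t i₁)]
    [IsIntegralHom (c.π.app i₁ ≫ t i₁)] (W : S.Opens) (hW : IsAffineOpen W) :
    ∃ j : Over i₁, ∀ (k : Over i₁) (_ : k ⟶ j), IsFinite (t k.left ∣_ W) := by
  haveI hD' : ∀ {i j : I} (f : i ⟶ j), IsAffineHom (D.map f) := fun f => inferInstance
  have hU : IsAffineOpen (t i₁ ⁻¹ᵁ W) := hW.preimage (t i₁)
  haveI : ∀ j : Over i₁, IsAffine ((opensDiagram D i₁ (t i₁ ⁻¹ᵁ W)).obj j) := fun j =>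
    (hU.preimage (D.map j.hom) : IsAffineOpen (D.map j.hom ⁻¹ᵁ (t i₁ ⁻¹ᵁ W)))
  haveI : IsAffine (W : Scheme.{u}) := hW
  have hle : ∀ j : Over i₁, D.map j.hom ⁻¹ᵁ (t i₁ ⁻¹ᵁ W) = t j.left ⁻¹ᵁ W := by
    intro j
    rw [← Scheme.Hom.comp_preimage, hnat]
  let s : ∀ j : Over i₁, (opensDiagram D i₁ (t i₁ ⁻¹ᵁ W)).obj j ⟶ (W : Scheme.{u}) := fun j =>
    (t j.left).resLE W (D.map j.hom ⁻¹ᵁ (t i₁ ⁻¹ᵁ W)) (hle j).le
  have hsι : ∀ j : Over i₁, s j ≫ W.ι = (D.map j.hom ⁻¹ᵁ (t i₁ ⁻¹ᵁ W)).ι ≫ t j.left := fun j =>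
    Scheme.Hom.resLE_comp_ι _ _
  have hEι : ∀ {k j : Over i₁} (φ : k ⟶ j), (opensDiagram D i₁ (t i₁ ⁻¹ᵁ W)).map φ ≫
      (D.map j.hom ⁻¹ᵁ (t i₁ ⁻¹ᵁ W)).ι = (D.map k.hom ⁻¹ᵁ (t i₁ ⁻¹ᵁ W)).ι ≫ D.map φ.left := by
    intro k j φ
    rw [opensDiagram_map]
    exact Scheme.Hom.resLE_comp_ι _ _
  have hs : ∀ {k j : Over i₁} (φ : k ⟶ j),
      (opensDiagram D i₁ (t i₁ ⁻¹ᵁ W)).map φ ≫ s j = s k := by
    intro k j φ
    rw [← cancel_mono W.ι, Category.assoc, hsι, ← Category.assoc, hEι, Category.assoc, hnat,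
      hsι]
  have hfinE : ∀ {k j : Over i₁} (φ : k ⟶ j),
      RingHom.Finite ((opensDiagram D i₁ (t i₁ ⁻¹ᵁ W)).map φ).appTop.hom := by
    intro k j φ
    have hpre : D.map φ.left ⁻¹ᵁ (D.map j.hom ⁻¹ᵁ (t i₁ ⁻¹ᵁ W)) =
        D.map k.hom ⁻¹ᵁ (t i₁ ⁻¹ᵁ W) := by
      rw [← Scheme.Hom.comp_preimage, ← D.map_comp, Over.w φ]
    have hfac : (opensDiagram D i₁ (t i₁ ⁻¹ᵁ W)).map φ =
        ((D.obj k.left).isoOfEq hpre).inv ≫
          (D.map φ.left ∣_ (D.map j.hom ⁻¹ᵁ (t i₁ ⁻¹ᵁ W))) := by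
      rw [← cancel_mono (D.map j.hom ⁻¹ᵁ (t i₁ ⁻¹ᵁ W)).ι, hEι, Category.assoc,
        morphismRestrict_ι, Scheme.isoOfEq_inv_ι_assoc]
    haveI : IsFinite (D.map φ.left ∣_ (D.map j.hom ⁻¹ᵁ (t i₁ ⁻¹ᵁ W))) :=
      IsZariskiLocalAtTarget.restrict (P := @IsFinite)
        (inferInstance : IsFinite (D.map φ.left)) _
    haveI : IsFinite ((opensDiagram D i₁ (t i₁ ⁻¹ᵁ W)).map φ) := by
      rw [hfac]; infer_instance
    exact ((HasAffineProperty.iff_of_isAffine (P := @IsFinite)).mp inferInstance).2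
  haveI : ∀ j : Over i₁, LocallyOfFiniteType (s j) := fun j => by
    haveI : LocallyOfFiniteType (s j ≫ W.ι) := by
      rw [hsι]; infer_instance
    exact locallyOfFiniteType_of_comp _ W.ι
  have hlim : RingHom.IsIntegral ((opensCone D c i₁ (t i₁ ⁻¹ᵁ W)).π.app (Over.mk (𝟙 i₁)) ≫
      s (Over.mk (𝟙 i₁))).appTop.hom := by
    have hpre : (c.π.app i₁ ≫ t i₁) ⁻¹ᵁ W = c.π.app i₁ ⁻¹ᵁ (t i₁ ⁻¹ᵁ W) :=
      Scheme.Hom.comp_preimage _ _ _
    have hfac : (opensCone D c i₁ (t i₁ ⁻¹ᵁ W)).π.app (Over.mk (𝟙 i₁)) ≫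
        s (Over.mk (𝟙 i₁)) = (c.pt.isoOfEq hpre).inv ≫ ((c.π.app i₁ ≫ t i₁) ∣_ W) := by
      rw [← cancel_mono W.ι, Category.assoc, hsι, opensCone_π_app, ← Category.assoc,
        Scheme.Hom.resLE_comp_ι, Category.assoc, Category.assoc, morphismRestrict_ι,
        Scheme.isoOfEq_inv_ι_assoc]
      rfl
    haveI : IsIntegralHom ((c.π.app i₁ ≫ t i₁) ∣_ W) :=
      IsZariskiLocalAtTarget.restrict (P := @IsIntegralHom)
        (inferInstance : IsIntegralHom (c.π.app i₁ ≫ t i₁)) _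
    haveI : IsIntegralHom ((opensCone D c i₁ (t i₁ ⁻¹ᵁ W)).π.app (Over.mk (𝟙 i₁)) ≫
        s (Over.mk (𝟙 i₁))) := by
      rw [hfac]; infer_instance
    exact ((HasAffineProperty.iff_of_isAffine (P := @IsIntegralHom)).mp inferInstance).2
  obtain ⟨j, hj⟩ := ci_fin (opensDiagram D i₁ (t i₁ ⁻¹ᵁ W)) (opensCone D c i₁ (t i₁ ⁻¹ᵁ W))
    (isLimitOpensCone D c hc i₁ (t i₁ ⁻¹ᵁ W)) s hs hfinE (Over.mk (𝟙 i₁)) hlim
  refine ⟨j, fun k φ => ?_⟩
  haveI := hj k φ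
  have hfac : t k.left ∣_ W = ((D.obj k.left).isoOfEq (hle k)).inv ≫ s k := by
    rw [← cancel_mono W.ι, morphismRestrict_ι, Category.assoc, hsι, Scheme.isoOfEq_inv_ι_assoc]
  rw [hfac]
  infer_instance

set_option backward.defeqAttrib.useBackward true in
set_option backward.isDefEq.respectTransparency false in
open AlgebraicGeometry CategoryTheory Limits in
theorem main {I : Type u} [SmallCategory I] [IsCofiltered I] (S : Scheme.{u}) [CompactSpace S]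
    [QuasiSeparatedSpace S]
    (D : I ⥤ Scheme.{u}) (t : ∀ i, D.obj i ⟶ S)
    (hnat : ∀ {i j : I} (a : i ⟶ j), D.map a ≫ t j = t i) (c : Limits.Cone D)
    (hc : Limits.IsLimit c) [hD : ∀ (i j : I) (f : i ⟶ j), IsFinite (D.map f)]
    [∀ i, CompactSpace (D.obj i)] [∀ i, QuasiSeparatedSpace (D.obj i)]
    [∀ i, LocallyOfFiniteType (t i)] (i₀ : I) [IsIntegralHom (c.π.app i₀ ≫ t i₀)] :
    ∃ i₁ : I, ∀ (i : I) (_ : i ⟶ i₁), IsFinite (t i) := by
  classical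
  haveI hD' : ∀ {i j : I} (f : i ⟶ j), IsFinite (D.map f) := fun f => hD _ _ f
  haveI hD'' : ∀ (i j : I) (f : i ⟶ j), IsAffineHom (D.map f) := fun i j f => inferInstance
  obtain ⟨i₁', hi₁'⟩ := Groth.Agent.S9200.main S D t hnat c hc i₀
  obtain ⟨i₁, a, b, -⟩ : ∃ (i₁ : I) (a : i₁ ⟶ i₀) (b : i₁ ⟶ i₁'), True :=
    ⟨IsCofiltered.min i₀ i₁', IsCofiltered.minToLeft _ _, IsCofiltered.minToRight _ _, trivial⟩
  haveI : IsAffineHom (t i₁) := hi₁' i₁ b
  have hlimeq : c.π.app i₁ ≫ t i₁ = c.π.app i₀ ≫ t i₀ := by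
    rw [← c.w a, Category.assoc, hnat]
  haveI : IsIntegralHom (c.π.app i₁ ≫ t i₁) := by rw [hlimeq]; infer_instance
  let 𝒰 := S.affineCover.finiteSubcover
  have hWa : ∀ a : 𝒰.I₀, IsAffineOpen (𝒰.f a).opensRange := fun a =>
    isAffineOpen_opensRange (𝒰.f a)
  choose j hj using fun a : 𝒰.I₀ => perW S D t hnat c hc i₁ (𝒰.f a).opensRange (hWa a)
  obtain ⟨k, hk⟩ := IsCofiltered.inf_objs_exists (Finset.univ.image j)
  refine ⟨k.left, fun i φ => ?_⟩
  apply IsZariskiLocalAtTarget.of_iSup_eq_top (P := @IsFinite)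
    (fun a : 𝒰.I₀ => (𝒰.f a).opensRange) 𝒰.iSup_opensRange ?_
  intro a
  obtain ⟨ψ⟩ := hk (Finset.mem_image_of_mem j (Finset.mem_univ a))
  exact hj a (Over.mk (φ ≫ k.hom)) ((Over.homMk φ rfl : Over.mk (φ ≫ k.hom) ⟶ k) ≫ ψ)

/-- Let `S` be quasi-compact and quasi-separated and `X = lim X_i` a cofiltered limit of quasi-compact
quasi-separated `S`-schemes locally of finite type over `S`, with finite transition morphisms. If `X
→ S` is integral then `X_i → S` is finite for all `i` beyond some index. -/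
theorem result {I : Type u} [SmallCategory I] [IsCofiltered I] (S : Scheme.{u}) [CompactSpace S]
    [QuasiSeparatedSpace S] (D : I ⥤ Over S) (c : Limits.Cone D) (hc : Limits.IsLimit c)
    [∀ (i j : I) (f : i ⟶ j), IsFinite (D.map f).left] [∀ i, CompactSpace (D.obj i).left]
    [∀ i, QuasiSeparatedSpace (D.obj i).left] [∀ i, LocallyOfFiniteType (D.obj i).hom] [IsIntegralHom c.pt.hom] :
    ∃ i₀ : I, ∀ (i : I) (_ : i ⟶ i₀), IsFinite (D.obj i).hom := by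
  classical
  obtain ⟨i₀⟩ : Nonempty I := IsCofiltered.nonempty
  haveI hD' : ∀ (i j : I) (f : i ⟶ j), IsFinite ((D ⋙ Over.forget S).map f) := fun i j f => by
    show IsFinite (D.map f).left
    infer_instance
  haveI : ∀ i, CompactSpace ((D ⋙ Over.forget S).obj i) := fun i => by
    show CompactSpace (D.obj i).left
    infer_instance
  haveI : ∀ i, QuasiSeparatedSpace ((D ⋙ Over.forget S).obj i) := fun i => by
    show QuasiSeparatedSpace (D.obj i).left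
    infer_instance
  have e : ((Over.forget S).mapCone c).π.app i₀ ≫ (D.obj i₀).hom = c.pt.hom := by
    show (c.π.app i₀).left ≫ (D.obj i₀).hom = c.pt.hom
    rw [Over.w (c.π.app i₀)]
    rfl
  haveI : IsIntegralHom (((Over.forget S).mapCone c).π.app i₀ ≫ (D.obj i₀).hom) := by
    rw [e]; assumption
  exact @main I _ _ S _ _ (D ⋙ Over.forget S) (fun i => (D.obj i).hom)
    (fun {i j} a => Over.w (D.map a)) ((Over.forget S).mapCone c)
    (Limits.isLimitOfPreserves (Over.forget S) hc) hD' ‹_› ‹_› ‹_› i₀ ‹_›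

end Groth.Agent.S2154
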