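import Groth.Statements.S2155
import Mathlib
import Groth.Agent.Lib.Helper24.SmoothDescentSch
import Groth.Agent.S2156

set_option autoImplicit false
universe u
open CategoryTheory AlgebraicGeometry
open Mor

namespace Groth.Agent.S2155

section Helpers
open AlgebraicGeometry CategoryTheory CategoryTheory.Limits TopologicalSpace

set_option backward.isDefEq.respectTransparency false in
theorem flatf2155 {X S X' S' : Scheme.{u}} (f : X ⟶ S) (g : S' ⟶ S) (f' : X' ⟶ S') (g' : X' ⟶ X)
    (h : IsPullback g' f' f g) [LocallyOfFinitePresentation f] [LocallyOfFinitePresentation f']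
    [Flat f] (x' : X') (hx' : x' ∈ f'.smoothLocus) : g' x' ∈ f.smoothLocus := by
  have h1 := (Groth.Agent.S2156.result f' x').mp hx'
  have hres : Flat (Spec.map (g.residueFieldMap (f' x'))) := by
    rw [HasRingHomProperty.Spec_iff (P := @Flat)]
    algebraize [(g.residueFieldMap (f' x')).hom]
    show Module.Flat (S.residueField (g (f' x'))) (S'.residueField (f' x'))
    infer_instance
  obtain ⟨Φ, pb, hΦι⟩ : ∃ Φ : f'.fiber (f' x') ⟶ f.fiber (g (f' x')),
      IsPullback Φ (f'.fiberToSpecResidueField (f' x'))
        (f.fiberToSpecResidueField (g (f' x'))) (Spec.map (g.residueFieldMap (f' x'))) ∧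
      Φ ≫ f.fiberι (g (f' x')) = f'.fiberι (f' x') ≫ g' := by
    refine ⟨_, isPullback_fiberToSpecResidueField_of_isPullback h (f' x'), ?_⟩
    simp [Scheme.Hom.fiberι]
  have h2 := Groth.Agent.Helper24.SmoothDescentSch.smooth_descent_flat
    (f.fiberToSpecResidueField (g (f' x'))) (Spec.map (g.residueFieldMap (f' x')))
    (f'.fiberToSpecResidueField (f' x')) Φ pb (f'.asFiber x') h1.2
  have hpt : f.fiberι (g (f' x')) (Φ (f'.asFiber x')) = g' x' := by
    show (Φ ≫ f.fiberι (g (f' x'))) (f'.asFiber x') = _
    rw [hΦι]
    show g' (f'.fiberι (f' x') (f'.asFiber x')) = _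
    rw [Scheme.Hom.fiberι_asFiber]
  have key : ∀ (s : S) (_ : f (g' x') = s) (z : f.fiber s), f.fiberι s z = g' x' →
      z ∈ (f.fiberToSpecResidueField s).smoothLocus →
      f.asFiber (g' x') ∈ (f.fiberToSpecResidueField (f (g' x'))).smoothLocus := by
    intro s hs
    subst hs
    intro z hz hzs
    have : z = f.asFiber (g' x') :=
      (f.fiberι _).isEmbedding.injective (hz.trans (f.fiberι_asFiber _).symm)
    rwa [← this]
  have hss : f (g' x') = g (f' x') := by
    have := congr($(h.w) x')
    simpa using this
  exact (Groth.Agent.S2156.result f (g' x')).mpr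
    ⟨Flat.stalkMap f (g' x'), key _ hss _ hpt h2⟩

end Helpers

/-- Consider a cartesian square with `f : X → S` locally of finite presentation, base change `g : S' →
S`, and `f' : X' → S'`, `g' : X' → X` the projections. If `f` is flat, or if `g` is flat, then the
open set of points where `f'` is smooth is the preimage under `g'` of the open set of points where
`f` is smooth. -/
theorem result {X S X' S' : Scheme.{u}} (f : X ⟶ S) (g : S' ⟶ S) (f' : X' ⟶ S') (g' : X' ⟶ X)
    (h : IsPullback g' f' f g) [LocallyOfFinitePresentation f] [LocallyOfFinitePresentation f'] (hflat : Flat f ∨ Flat g) :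
    f'.smoothLocus = g' ⁻¹ᵁ f.smoothLocus := by
  apply le_antisymm
  · intro x' hx'
    show g' x' ∈ f.smoothLocus
    rcases hflat with hf | hg
    · exact flatf2155 f g f' g' h x' hx'
    · exact Groth.Agent.Helper24.SmoothDescentSch.smooth_descent_flat f g f' g' h x' hx'
  · intro x' hx'
    exact Groth.Agent.Helper24.SmoothDescentSch.smooth_ascent f g f' g' h x' hx'

end Groth.Agent.S2155
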