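import Groth.Statements.S2160
import Mathlib

set_option autoImplicit false
universe u
open CAlg

namespace Groth.Agent.S2160

/-- Let `R` be a Noetherian local domain of Krull dimension at least `2`. Then every nonempty open
subset of `Spec R` is infinite. -/
theorem result {R : Type u} [CommRing R] [IsDomain R] [IsLocalRing R] [IsNoetherianRing R]
    (hdim : 2 ≤ ringKrullDim R) (U : Set (PrimeSpectrum R)) (hU : IsOpen U) (hne : U.Nonempty) : U.Infinite := by
  classical
  obtain ⟨x, hxU⟩ := hne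
  obtain ⟨_, ⟨f, rfl⟩, hxf, hfU⟩ :=
    PrimeSpectrum.isTopologicalBasis_basic_opens.exists_subset_of_mem_open hxU hU
  have hf0 : f ≠ 0 := by
    rintro rfl
    simp at hxf
  have h21 : ¬ ((2 : ℕ∞) ≤ 1) := by
    intro h
    have : ((2 : ℕ) : ℕ∞) ≤ ((1 : ℕ) : ℕ∞) := by simpa using h
    exact absurd (Nat.cast_le.mp this) (by norm_num)
  have hge : ∀ p : PrimeSpectrum R, p.asIdeal ≠ ⊥ → 1 ≤ p.asIdeal.height := by
    intro p hp
    rw [ENat.one_le_iff_ne_zero]
    intro h0
    rw [Ideal.height_eq_zero_iff, IsDomain.minimalPrimes_eq_singleton_bot] at h0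
    exact hp h0
  have hSinf : {p : PrimeSpectrum R | p.asIdeal.height = 1}.Infinite := by
    intro hfin
    have hm : (2 : ℕ∞) ≤ (IsLocalRing.maximalIdeal R).height := by
      have h := hdim
      rw [← IsLocalRing.maximalIdeal_height_eq_ringKrullDim] at h
      have h2 : ((2 : ℕ∞) : WithBot ℕ∞) = 2 := rfl
      rw [← h2] at h
      exact WithBot.coe_le_coe.mp h
    let botpt : PrimeSpectrum R := ⟨⊥, Ideal.isPrime_bot⟩
    let s : Finset (PrimeSpectrum R) := insert botpt hfin.toFinset
    have havoid : ¬ ((IsLocalRing.maximalIdeal R : Set R) ⊆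
        ⋃ i ∈ (↑s : Set (PrimeSpectrum R)), (i.asIdeal : Set R)) := by
      rw [Ideal.subset_union_prime (f := PrimeSpectrum.asIdeal) botpt botpt
        (fun i _ _ _ => i.isPrime)]
      rintro ⟨i, his, hle⟩
      have heq : i.asIdeal = IsLocalRing.maximalIdeal R :=
        le_antisymm (IsLocalRing.le_maximalIdeal i.isPrime.ne_top) hle
      have hi : i.asIdeal.height ≤ 1 := by
        rcases Finset.mem_insert.mp his with h | h
        · rw [h]
          simp [botpt, Ideal.height_bot]
        · exact le_of_eq (hfin.mem_toFinset.mp h)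
      rw [heq] at hi
      exact h21 (hm.trans hi)
    obtain ⟨y, hym, hy⟩ := Set.not_subset.mp havoid
    simp only [Set.mem_iUnion, not_exists] at hy
    have hy0 : y ≠ 0 := fun h => hy botpt (by simp [s]) (by simp [h, botpt])
    have hne_top : Ideal.span {y} ≠ ⊤ := fun h =>
      (IsLocalRing.mem_maximalIdeal y).mp hym (Ideal.span_singleton_eq_top.mp h)
    obtain ⟨⟨P, hPmin⟩⟩ := Ideal.nonempty_minimalPrimes hne_top
    haveI := hPmin.1.1
    have hP1 : P.height ≤ 1 :=
      Ideal.height_le_one_of_isPrincipal_of_mem_minimalPrimes _ P hPmin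
    have hyP : y ∈ P := hPmin.1.2 (Ideal.mem_span_singleton_self y)
    have hPne : P ≠ ⊥ := by
      rintro rfl
      exact hy0 (by simpa using hyP)
    have hPS : (⟨P, hPmin.1.1⟩ : PrimeSpectrum R) ∈
        {p : PrimeSpectrum R | p.asIdeal.height = 1} :=
      le_antisymm hP1 (hge ⟨P, hPmin.1.1⟩ hPne)
    exact hy ⟨P, hPmin.1.1⟩
      (Finset.mem_coe.mpr (Finset.mem_insert_of_mem (hfin.mem_toFinset.mpr hPS))) hyP
  have hTfin : {p : PrimeSpectrum R | p.asIdeal.height = 1 ∧ f ∈ p.asIdeal}.Finite := by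
    have hminfin := Ideal.finite_minimalPrimes_of_isNoetherianRing R (Ideal.span {f})
    refine Set.Finite.of_finite_image (f := PrimeSpectrum.asIdeal) (hminfin.subset ?_)
      (fun a _ b _ h => PrimeSpectrum.ext h)
    rintro _ ⟨p, ⟨hpS, hfp⟩, rfl⟩
    refine ⟨⟨p.isPrime, (Ideal.span_singleton_le_iff_mem _).mpr hfp⟩, ?_⟩
    rintro q ⟨hq, hfq⟩ hqp
    have hqne : q ≠ ⊥ := by
      rintro rfl
      apply hf0
      simpa using hfq (Ideal.mem_span_singleton_self f)
    by_cases hqeq : q = p.asIdeal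
    · exact le_of_eq hqeq.symm
    · exfalso
      have hlt : q < p.asIdeal := lt_of_le_of_ne hqp hqeq
      haveI := hq
      have h1 := Ideal.height_strict_mono_of_isPrime hlt
      rw [hpS] at h1
      exact absurd h1 (not_lt.mpr (hge ⟨q, hq⟩ hqne))
  have hdiff := hSinf.diff hTfin
  refine hdiff.mono ?_
  rintro p ⟨hpS, hpn⟩
  apply hfU
  exact fun hfp => hpn ⟨hpS, hfp⟩

end Groth.Agent.S2160
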