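import Groth.Statements.S2162
import Mathlib
import Groth.Agent.H11.GeomRedSmooth

set_option autoImplicit false
universe u
open CAlg

namespace Groth.Agent.S2162

section Helpers
theorem isLocalization_of_eq2162 {S : Type*} [CommRing S] {M M' : Submonoid S} (h : M = M')
    (A : Type*) [CommRing A] [Algebra S A] [IsLocalization M A] : IsLocalization M' A := by
  subst h; infer_instance
end Helpers

/-- Let `R → S` be an injective ring map of finite type between domains, with fraction fields `K ⊆ L`.
Then `R → S` is smooth at the zero ideal of `S` if and only if `L` is geometrically reduced over `K`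
(the published statement phrases the condition as `L/K` being separable; here separability is
expressed as geometric reducedness). -/
theorem result {R S K L : Type u} [CommRing R] [IsDomain R] [CommRing S]
    [IsDomain S] [Algebra R S] [FaithfulSMul R S] [Algebra.FiniteType R S] [Field K] [Field L] [Algebra R K] [IsFractionRing R K]
    [Algebra S L] [IsFractionRing S L] [Algebra K L] [Algebra R L] [IsScalarTower R S L] [IsScalarTower R K L] :
    Algebra.IsSmoothAt R (⊥ : Ideal S) ↔ Algebra.IsGeometricallyReduced K L := by
  haveI : Algebra.FormallyEtale R K := Algebra.FormallyEtale.of_isLocalization (nonZeroDivisors R)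
  have h1 : Algebra.FormallySmooth R L ↔ Algebra.FormallySmooth K L :=
    Algebra.FormallySmooth.iff_restrictScalars
  have h2 : Algebra.IsSmoothAt R (⊥ : Ideal S) ↔ Algebra.FormallySmooth R L := by
    haveI : IsLocalization (nonZeroDivisors S) (Localization.AtPrime (⊥ : Ideal S)) :=
      isLocalization_of_eq2162 (M := (⊥ : Ideal S).primeCompl) Ideal.primeCompl_bot _
    let e : Localization.AtPrime (⊥ : Ideal S) ≃ₐ[S] L :=
      IsLocalization.algEquiv (nonZeroDivisors S) _ _
    constructor
    · intro h
      haveI : Algebra.FormallySmooth R (Localization.AtPrime (⊥ : Ideal S)) := h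
      exact Algebra.FormallySmooth.of_equiv (e.restrictScalars R)
    · intro h
      haveI := h
      exact Algebra.FormallySmooth.of_equiv (e.symm.restrictScalars R)
  rw [h2, h1]
  constructor
  · intro h
    haveI := h
    exact Groth.Agent.H11.GeomRedSmooth.isGeometricallyReduced_of_formallySmooth
  · intro h
    haveI := h
    exact Groth.Agent.H27.FieldSmooth.formallySmooth_of_geomReduced

end Groth.Agent.S2162
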