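import Groth.Statements.S2163
import Mathlib

set_option autoImplicit false
universe u
open CAlg

namespace Groth.Agent.S2163

/-- A ring `R` is coherent — every finitely generated ideal is a finitely presented module — if and only
if for every index set `A` (in the same universe) the product module `R^A` is flat. -/
theorem result {R : Type u} [CommRing R] :
    (∀ I : Ideal R, I.FG → Module.FinitePresentation R I) ↔ ∀ (A : Type u), Module.Flat R (A → R) := by
  classical
  constructor
  · intro hcoh A
    apply Module.Flat.of_forall_isTrivialRelation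
    intro l f x hfx
    let φ : (Fin l → R) →ₗ[R] R := ∑ i, f i • LinearMap.proj i
    have hφ : ∀ v, φ v = ∑ i, f i * v i := by intro v; simp [φ]
    have hJfg : (LinearMap.range φ).FG := by
      rw [LinearMap.range_eq_map]
      exact (Module.Finite.fg_top).map φ
    haveI : Module.FinitePresentation R ↥(LinearMap.range φ) := hcoh (LinearMap.range φ) hJfg
    have hK : (LinearMap.ker φ).FG := by
      have h0 := Module.FinitePresentation.fg_ker φ.rangeRestrict φ.surjective_rangeRestrict
      rwa [LinearMap.ker_rangeRestrict] at h0
    obtain ⟨k, κ, hκ⟩ := Submodule.fg_iff_exists_fin_generating_family.mp hK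
    have hκmem : ∀ j, κ j ∈ LinearMap.ker φ := fun j => hκ ▸ Submodule.subset_span ⟨j, rfl⟩
    have hp : ∀ a : A, ∃ y : Fin k → R, ∀ i, x i a = ∑ j, κ j i * y j := by
      intro a
      have hmem : (fun i => x i a) ∈ Submodule.span R (Set.range κ) := by
        rw [hκ, LinearMap.mem_ker, hφ]
        have h0 := congrFun hfx a
        simpa [Finset.sum_apply] using h0
      obtain ⟨c, hc⟩ := (Submodule.mem_span_range_iff_exists_fun R).mp hmem
      refine ⟨c, fun i => ?_⟩
      have h0 := congrFun hc i
      rw [Finset.sum_apply] at h0
      simp only [Pi.smul_apply, smul_eq_mul] at h0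
      rw [← h0]
      exact Finset.sum_congr rfl fun j _ => mul_comm _ _
    choose y hy using hp
    refine ⟨k, fun i j => κ j i, fun j a => y a j, fun i => ?_, fun j => ?_⟩
    · funext a
      rw [hy a i, Finset.sum_apply]
      rfl
    · have h0 := hκmem j
      rw [LinearMap.mem_ker, hφ] at h0
      exact h0
  · intro hflat J hJ
    obtain ⟨l, f, hf⟩ := Submodule.fg_iff_exists_fin_generating_family.mp hJ
    let φ : (Fin l → R) →ₗ[R] R := ∑ i, f i • LinearMap.proj i
    have hφ : ∀ v, φ v = ∑ i, f i * v i := by intro v; simp [φ]
    have hrange : LinearMap.range φ = J := by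
      rw [← hf]
      apply le_antisymm
      · rintro _ ⟨v, rfl⟩
        rw [hφ]
        refine Submodule.sum_mem _ fun i _ => ?_
        rw [mul_comm]
        exact Submodule.smul_mem _ _ (Submodule.subset_span ⟨i, rfl⟩)
      · rw [Submodule.span_le]
        rintro _ ⟨i, rfl⟩
        refine ⟨Pi.single i 1, ?_⟩
        rw [hφ]
        simp [Pi.single_apply]
    have hKfg : (LinearMap.ker φ).FG := by
      haveI := hflat ↥(LinearMap.ker φ)
      let x : Fin l → (↥(LinearMap.ker φ) → R) := fun i κ => (κ : Fin l → R) i
      have hrel : ∑ i, f i • x i = 0 := by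
        funext κ
        rw [Finset.sum_apply]
        have h0 : φ (κ : Fin l → R) = 0 := κ.2
        rw [hφ] at h0
        exact h0
      obtain ⟨k, a, y, h1, h2⟩ := Module.Flat.isTrivialRelation_of_sum_smul_eq_zero hrel
      refine ⟨Finset.univ.image (fun j : Fin k => fun i => a i j), ?_⟩
      apply le_antisymm
      · rw [Submodule.span_le]
        intro v hv
        obtain ⟨j, _, rfl⟩ := Finset.mem_image.mp (Finset.mem_coe.mp hv)
        rw [SetLike.mem_coe, LinearMap.mem_ker, hφ]
        exact h2 j
      · intro κ hκ
        have h3 : κ = ∑ j, y j ⟨κ, hκ⟩ • (fun i => a i j) := by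
          funext i
          have h4 := congrFun (h1 i) ⟨κ, hκ⟩
          rw [Finset.sum_apply] at h4 ⊢
          simp only [Pi.smul_apply, smul_eq_mul] at h4 ⊢
          rw [show x i ⟨κ, hκ⟩ = κ i from rfl] at h4
          rw [h4]
          exact Finset.sum_congr rfl fun j _ => mul_comm _ _
        rw [h3]
        exact Submodule.sum_mem _ fun j _ => Submodule.smul_mem _ _
          (Submodule.subset_span (Finset.mem_coe.mpr
            (Finset.mem_image_of_mem _ (Finset.mem_univ j))))
    have hfp : Module.FinitePresentation R ↥(LinearMap.range φ) := by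
      refine Module.finitePresentation_of_surjective φ.rangeRestrict
        φ.surjective_rangeRestrict ?_
      rw [LinearMap.ker_rangeRestrict]
      exact hKfg
    subst hrange
    exact hfp

end Groth.Agent.S2163
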