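import Groth.Statements.S2187
import Groth.Agent.H29.Vasc1

set_option autoImplicit false
universe u
open CategoryTheory
open LCI

namespace Groth.Agent.S2187

/-- Let R be a Noetherian local ring and I an ideal of finite projective dimension as an R-module. If F
is a direct summand of the conormal module I/I^2 which is isomorphic to R/I, then there is a
nonzerodivisor x in I whose class in I/I^2 generates F. -/
theorem result {R : Type u} [CommRing R]
    [IsNoetherianRing R] [IsLocalRing R] (I : Ideal R) (n : ℕ)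
    (hpd : HasProjectiveDimensionLT (ModuleCat.of R I) n)
    (F G : Submodule (R ⧸ I) I.Cotangent) (hFG : IsCompl F G) (e : F ≃ₗ[R ⧸ I] (R ⧸ I)) :
    ∃ (x : R) (hx : x ∈ I), x ∈ nonZeroDivisors R ∧
      Submodule.span (R ⧸ I) {I.toCotangent ⟨x, hx⟩} = F := by
  by_cases hI : I = ⊤
  · haveI : Subsingleton (R ⧸ I) := Ideal.Quotient.subsingleton_iff.mpr hI
    haveI : Subsingleton I.Cotangent := Module.subsingleton (R ⧸ I) _
    refine ⟨1, hI ▸ Submodule.mem_top, one_mem _, ?_⟩
    ext z
    rw [Subsingleton.elim z 0]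
    simp only [Submodule.zero_mem]
  · obtain ⟨t, ht⟩ := Ideal.toCotangent_surjective I (e.symm 1 : I.Cotangent)
    obtain ⟨K, hKmem⟩ : ∃ K : Ideal R, ∀ y : R, y ∈ K ↔ ∃ h : y ∈ I, I.toCotangent ⟨y, h⟩ ∈ G := by
      refine ⟨Submodule.map I.subtype (Submodule.comap I.toCotangent (G.restrictScalars R)), ?_⟩
      intro y
      constructor
      · rintro ⟨z, hz, rfl⟩
        exact ⟨z.2, hz⟩
      · rintro ⟨h, hz⟩
        exact ⟨⟨y, h⟩, hz, rfl⟩
    have hI2 : I ^ 2 ≤ I := Ideal.pow_le_self two_ne_zero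
    have hK : I ^ 2 ≤ K := by
      intro y hy
      rw [hKmem]
      refine ⟨hI2 hy, ?_⟩
      rw [(Ideal.toCotangent_eq_zero I ⟨y, hI2 hy⟩).mpr hy]
      exact G.zero_mem
    have hF : ∀ s : R, s • (e.symm 1 : I.Cotangent) ∈ F := by
      intro s
      rw [← algebraMap_smul (R ⧸ I) s (e.symm 1 : I.Cotangent)]
      exact F.smul_mem _ (e.symm 1).2
    have htK : ∀ s : R, s * (t : R) ∈ K → s ∈ I := by
      intro s hs
      obtain ⟨h, hG⟩ := (hKmem _).mp hs
      have h1 : I.toCotangent ⟨s * (t : R), h⟩ = s • (e.symm 1 : I.Cotangent) := by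
        rw [← ht, ← map_smul]
        rfl
      rw [h1] at hG
      have h0 : s • (e.symm 1 : I.Cotangent) = 0 :=
        (Submodule.disjoint_def.mp hFG.disjoint) _ (hF s) hG
      have h2 : (Ideal.Quotient.mk I s) • (e.symm 1) = 0 := by
        apply Subtype.ext
        rw [Submodule.coe_smul, Submodule.coe_zero, ← h0]
        exact algebraMap_smul (R ⧸ I) s _
      have h3 := congrArg e h2
      rw [map_smul, LinearEquiv.apply_symm_apply, map_zero, smul_eq_mul, mul_one] at h3
      exact Ideal.Quotient.eq_zero_iff_mem.mp h3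
    obtain ⟨u, i₂, hu, hi₂, hreg⟩ :=
      Groth.Agent.H29.Vasc.exists_regular_generator R I K hI n hpd hK t t.2 htK
    have hxI : u * (t : R) + i₂ ∈ I := I.add_mem (I.mul_mem_left _ t.2) (hI2 hi₂)
    refine ⟨u * t + i₂, hxI, ?_, ?_⟩
    · rw [mem_nonZeroDivisors_iff_right]
      intro b hb
      apply hreg
      show (u * (t : R) + i₂) • b = (u * (t : R) + i₂) • 0
      rw [smul_zero, smul_eq_mul, mul_comm]
      exact hb
    · have hcls : I.toCotangent ⟨u * (t : R) + i₂, hxI⟩ = u • (e.symm 1 : I.Cotangent) := by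
        have h1 : (⟨u * (t : R) + i₂, hxI⟩ : I) = u • t + ⟨i₂, hI2 hi₂⟩ := rfl
        rw [h1, map_add, map_smul, ht, (Ideal.toCotangent_eq_zero I ⟨i₂, hI2 hi₂⟩).mpr hi₂, add_zero]
      rw [hcls]
      obtain ⟨v, hv⟩ := hu.exists_left_inv
      apply le_antisymm
      · rw [Submodule.span_singleton_le_iff_mem]
        exact hF u
      · intro z hz
        have h1 : (⟨z, hz⟩ : F) = (e ⟨z, hz⟩) • (e.symm 1) := by
          apply e.injective
          rw [map_smul, LinearEquiv.apply_symm_apply, smul_eq_mul, mul_one]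
        have h2 : z = (e ⟨z, hz⟩) • (e.symm 1 : I.Cotangent) := congrArg Subtype.val h1
        obtain ⟨c, hc⟩ := Ideal.Quotient.mk_surjective (e ⟨z, hz⟩)
        rw [h2, ← hc]
        have h3 : (Ideal.Quotient.mk I c) • (e.symm 1 : I.Cotangent) =
            (Ideal.Quotient.mk I (c * v)) • (u • (e.symm 1 : I.Cotangent)) := by
          rw [← algebraMap_smul (R ⧸ I) u (e.symm 1 : I.Cotangent), smul_smul,
            Ideal.Quotient.algebraMap_eq, ← map_mul, mul_assoc, hv, mul_one]
        rw [h3]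
        exact Submodule.smul_mem _ _ (Submodule.mem_span_singleton_self _)

end Groth.Agent.S2187
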