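import Groth.Statements.S2188
import Groth.Agent.H29.Vasc2

set_option autoImplicit false
universe u
open CategoryTheory
open LCI

namespace Groth.Agent.S2188

/-- Let R be a Noetherian local ring and I an ideal of finite projective dimension as an R-module. If F
is a direct summand of I/I^2 which is free of rank r over R/I, then there is a regular sequence x_1,
..., x_r of R inside I whose classes in I/I^2 generate F. -/
theorem result {R : Type u} [CommRing R]
    [IsNoetherianRing R] [IsLocalRing R] (I : Ideal R) (hI : I ≠ ⊤) (n : ℕ)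
    (hpd : HasProjectiveDimensionLT (ModuleCat.of R I) n)
    (F G : Submodule (R ⧸ I) I.Cotangent) (hFG : IsCompl F G) (r : ℕ)
    (e : F ≃ₗ[R ⧸ I] (Fin r → R ⧸ I)) :
    ∃ (x : Fin r → R) (hx : ∀ i, x i ∈ I), RingTheory.Sequence.IsRegular R (List.ofFn x) ∧
      Submodule.span (R ⧸ I) (Set.range fun i => I.toCotangent ⟨x i, hx i⟩) = F := by
  classical
  obtain ⟨fb, hfb⟩ : ∃ fb : Fin r → F, ∀ i, fb i = e.symm (Pi.single i 1) := ⟨_, fun _ => rfl⟩
  have hefb : ∀ i, e (fb i) = Pi.single i 1 := fun i => by rw [hfb, LinearEquiv.apply_symm_apply]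
  choose tt htt using fun i => Ideal.toCotangent_surjective I (fb i : I.Cotangent)
  obtain ⟨K, hKmem⟩ : ∃ K : Ideal R, ∀ y : R, y ∈ K ↔ ∃ h : y ∈ I, I.toCotangent ⟨y, h⟩ ∈ G := by
    refine ⟨Submodule.map I.subtype (Submodule.comap I.toCotangent (G.restrictScalars R)), ?_⟩
    intro y
    constructor
    · rintro ⟨z, hz, rfl⟩
      exact ⟨z.2, hz⟩
    · rintro ⟨h, hz⟩
      exact ⟨⟨y, h⟩, hz, rfl⟩
  have hI2 : I ^ 2 ≤ I := Ideal.pow_le_self two_ne_zero
  have hK : I ^ 2 ≤ K := by
    intro y hy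
    rw [hKmem]
    refine ⟨hI2 hy, ?_⟩
    rw [(Ideal.toCotangent_eq_zero I ⟨y, hI2 hy⟩).mpr hy]
    exact G.zero_mem
  have hexp : ∀ z : F, z = ∑ i, (e z i) • fb i := by
    intro z
    apply e.injective
    rw [map_sum]
    simp only [map_smul, hefb]
    ext j
    simp [Finset.sum_apply, Pi.single_apply]
  have hsum_mem : ∀ a : Fin r → R, ∑ i, a i * (tt i : R) ∈ I :=
    fun a => I.sum_mem (fun i _ => I.mul_mem_left _ (tt i).2)
  have hcls : ∀ (a : Fin r → R) (h : ∑ i, a i * (tt i : R) ∈ I),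
      I.toCotangent ⟨∑ i, a i * (tt i : R), h⟩ =
        ∑ i, (Ideal.Quotient.mk I (a i)) • (fb i : I.Cotangent) := by
    intro a h
    have h1 : (⟨∑ i, a i * (tt i : R), h⟩ : I) = ∑ i, a i • tt i := Subtype.ext (by simp)
    rw [h1, map_sum]
    refine Finset.sum_congr rfl fun i _ => ?_
    rw [map_smul, htt]
    exact (algebraMap_smul (R ⧸ I) (a i) _).symm
  have hind : ∀ a : Fin r → R, ∑ i, a i * (tt i : R) ∈ K → ∀ i, a i ∈ I := by
    intro a ha
    obtain ⟨h, hG⟩ := (hKmem _).mp ha
    rw [hcls a h] at hG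
    obtain ⟨w, hw⟩ : ∃ w : F, w = ∑ i, (Ideal.Quotient.mk I (a i)) • fb i := ⟨_, rfl⟩
    have hwc : (w : I.Cotangent) = ∑ i, (Ideal.Quotient.mk I (a i)) • (fb i : I.Cotangent) := by
      rw [hw]
      simp
    have hw0 : w = 0 := by
      apply Subtype.ext
      exact (Submodule.disjoint_def.mp hFG.disjoint) _ w.2 (hwc ▸ hG)
    have h2 := congrArg e hw0
    rw [map_zero, hw, map_sum] at h2
    simp only [map_smul, hefb] at h2
    intro i
    have h3 := congrFun h2 i
    simp [Finset.sum_apply, Pi.single_apply] at h3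
    exact Ideal.Quotient.eq_zero_iff_mem.mp h3
  have hsum : Ideal.span (Set.range (fun i => (tt i : R))) ⊔ K = I := by
    apply le_antisymm
    · refine sup_le (Ideal.span_le.mpr ?_) ?_
      · rintro _ ⟨i, rfl⟩
        exact (tt i).2
      · intro y hy
        exact ((hKmem y).mp hy).1
    · intro y hy
      have htop : I.toCotangent ⟨y, hy⟩ ∈ F ⊔ G := hFG.sup_eq_top ▸ Submodule.mem_top
      obtain ⟨f, hf, g, hg, hfg⟩ := Submodule.mem_sup.mp htop
      choose c hc using fun i => Ideal.Quotient.mk_surjective (e ⟨f, hf⟩ i)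
      have hyS := hsum_mem c
      have h1 : I.toCotangent ⟨∑ i, c i * (tt i : R), hyS⟩ = f := by
        rw [hcls c hyS]
        have := congrArg Subtype.val (hexp ⟨f, hf⟩)
        simp only [Submodule.coe_sum, Submodule.coe_smul] at this
        rw [this]
        refine Finset.sum_congr rfl fun i _ => ?_
        rw [hc]
      have h2 : y - ∑ i, c i * (tt i : R) ∈ K := by
        rw [hKmem]
        refine ⟨I.sub_mem hy hyS, ?_⟩
        have : (⟨y - ∑ i, c i * (tt i : R), I.sub_mem hy hyS⟩ : I) =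
            ⟨y, hy⟩ - ⟨∑ i, c i * (tt i : R), hyS⟩ := rfl
        rw [this, map_sub, h1, ← hfg, add_sub_cancel_left]
        exact hg
      have : y = ∑ i, c i * (tt i : R) + (y - ∑ i, c i * (tt i : R)) := by ring
      rw [this]
      refine Ideal.add_mem _ (Ideal.mem_sup_left ?_) (Ideal.mem_sup_right h2)
      exact Ideal.sum_mem _ (fun i _ => Ideal.mul_mem_left _ _ (Ideal.subset_span ⟨i, rfl⟩))
  obtain ⟨rs, hlen, hrsI, hwr, heq⟩ := Groth.Agent.H29.Vasc.exists_regular_sequence_aux r R I K hI n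
    hpd hK (fun i => (tt i : R)) (fun i => (tt i).2) hsum hind
  subst hlen
  have hIm : I ≤ IsLocalRing.maximalIdeal R := IsLocalRing.le_maximalIdeal hI
  have hFspan : Submodule.span (R ⧸ I) (Set.range fun i => I.toCotangent ⟨(tt i : R), (tt i).2⟩) ≤ F := by
    rw [Submodule.span_le]
    rintro _ ⟨i, rfl⟩
    show I.toCotangent (tt i) ∈ F
    rw [htt]
    exact (fb i).2
  refine ⟨fun i => rs.get i, fun i => hrsI _ (List.get_mem rs i), ?_, ?_⟩
  · rw [List.ofFn_get]
    exact RingTheory.Sequence.IsRegular.of_isWeaklyRegular_of_mem_maximalIdeal R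
      (fun y hy => hIm (hrsI y hy)) hwr
  · apply le_antisymm
    · rw [Submodule.span_le]
      rintro _ ⟨i, rfl⟩
      apply hFspan
      apply Groth.Agent.H29.Vasc.toCotangent_mem_span_of_mem I (fun i => (tt i : R))
        (fun i => (tt i).2)
      rw [← heq]
      refine Ideal.mem_sup_left ?_
      show rs.get i ∈ Ideal.span {y | y ∈ rs}
      exact Ideal.subset_span (List.get_mem rs i)
    · intro z hz
      have h1 := congrArg Subtype.val (hexp ⟨z, hz⟩)
      simp only [Submodule.coe_sum, Submodule.coe_smul] at h1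
      rw [h1]
      refine Submodule.sum_mem _ fun i _ => Submodule.smul_mem _ _ ?_
      rw [← htt]
      show I.toCotangent ⟨(tt i : R), (tt i).2⟩ ∈ _
      apply Groth.Agent.H29.Vasc.toCotangent_mem_span_of_mem I (fun i => rs.get i)
      rw [← Groth.Agent.H29.Vasc.ofList_eq_span_range_get, heq]
      exact Ideal.mem_sup_left (Ideal.subset_span ⟨i, rfl⟩)

end Groth.Agent.S2188
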