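import Groth.Statements.S2189
import Groth.Agent.H29.Vasc3

set_option autoImplicit false
universe u
open CategoryTheory
open LCI

namespace Groth.Agent.S2189

/-- Let R be a Noetherian ring and I an ideal which has finite projective dimension as an R-module and
whose conormal module I/I^2 is finite locally free (projective) over R/I. Then I is a regular ideal:
for every prime p containing I there is g outside p such that the extension of I to R_g is generated
by a regular sequence of R_g. -/
theorem result {R : Type u} [CommRing R]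
    [IsNoetherianRing R] (I : Ideal R) (n : ℕ)
    (hpd : HasProjectiveDimensionLT (ModuleCat.of R I) n)
    [Module.Projective (R ⧸ I) I.Cotangent] (p : Ideal R) [p.IsPrime] (hIp : I ≤ p) :
    ∃ g : R, g ∉ p ∧ ∃ rs : List (Localization.Away g),
      RingTheory.Sequence.IsRegular (Localization.Away g) rs ∧
        Ideal.ofList rs = I.map (algebraMap R (Localization.Away g)) := by
  classical
  have hp : p.IsPrime := inferInstance
  have hIpA : I.map (algebraMap R (Localization.AtPrime p)) ≤
      IsLocalRing.maximalIdeal (Localization.AtPrime p) := by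
    rw [← Localization.AtPrime.map_eq_maximalIdeal]
    exact Ideal.map_mono hIp
  have hJne : I.map (algebraMap R (Localization.AtPrime p)) ≠ ⊤ := fun h =>
    (IsLocalRing.maximalIdeal.isMaximal _).ne_top (top_le_iff.mp (h ▸ hIpA))
  have hpd1 : HasProjectiveDimensionLT (ModuleCat.of R I) (n + 1) :=
    hasProjectiveDimensionLT_of_ge _ n _ (Nat.le_succ n)
  have hpdJ : HasProjectiveDimensionLT (ModuleCat.of (Localization.AtPrime p)
      (I.map (algebraMap R (Localization.AtPrime p)))) (n + 1) := by
    have h1 := Groth.Agent.H29.hasProjectiveDimensionLT_localizedModule R p.primeCompl I n hpd1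
    haveI : HasProjectiveDimensionLE (ModuleCat.of (Localization.AtPrime p)
      (LocalizedModule p.primeCompl I)) n := h1
    let e : (ModuleCat.of (Localization.AtPrime p) (LocalizedModule p.primeCompl I))
        ≃ₗ[Localization.AtPrime p] (ModuleCat.of (Localization.AtPrime p)
          (I.map (algebraMap R (Localization.AtPrime p)))) :=
      (IsLocalizedModule.linearEquiv p.primeCompl (LocalizedModule.mkLinearMap p.primeCompl I)
        (Algebra.idealMap (Localization.AtPrime p) I)).extendScalarsOfIsLocalization p.primeCompl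
          (Localization.AtPrime p)
    exact ModuleCat.hasProjectiveDimensionLE_of_linearEquiv e n
  haveI : Module.Projective
      (Localization.AtPrime p ⧸ I.map (algebraMap R (Localization.AtPrime p)))
      (I.map (algebraMap R (Localization.AtPrime p))).Cotangent :=
    Groth.Agent.H29.Vasc.projective_cotangent_map R I p.primeCompl (Localization.AtPrime p)
  obtain ⟨r, t, htJ, hsumJ, hindJ⟩ :=
    Groth.Agent.H29.Vasc.exists_data_of_projective (Localization.AtPrime p) _ hJne
  obtain ⟨rs, -, hrsJ, hwr, heq⟩ := Groth.Agent.H29.Vasc.exists_regular_sequence_aux r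
    (Localization.AtPrime p) _ _ hJne (n + 1) hpdJ le_rfl t htJ hsumJ hindJ
  have hJeq : Ideal.ofList rs = I.map (algebraMap R (Localization.AtPrime p)) := by
    have h1 : Ideal.ofList rs ⊔ (I.map (algebraMap R (Localization.AtPrime p))) ^ 2 =
        I.map (algebraMap R (Localization.AtPrime p)) := by rw [heq, hsumJ]
    apply le_antisymm
    · show Ideal.span {y | y ∈ rs} ≤ _
      rw [Ideal.span_le]
      intro y hy
      exact hrsJ y hy
    · apply Submodule.le_of_le_smul_of_le_jacobson_bot
        (I := I.map (algebraMap R (Localization.AtPrime p)))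
      · exact IsNoetherian.noetherian _
      · exact hIpA.trans (IsLocalRing.maximalIdeal_le_jacobson _)
      · rw [smul_eq_mul, ← pow_two, h1]
  have hlist : ∀ l : List (Localization.AtPrime p),
      (∀ z ∈ l, z ∈ I.map (algebraMap R (Localization.AtPrime p))) →
      ∃ ys : List R, (∀ y ∈ ys, y ∈ I) ∧
        List.Forall₂ (fun (a b : Localization.AtPrime p) =>
          ∃ u : (Localization.AtPrime p)ˣ, b = (u : Localization.AtPrime p) * a) l
          (ys.map (algebraMap R (Localization.AtPrime p))) ∧
        Ideal.ofList l ≤ (Ideal.ofList ys).map (algebraMap R (Localization.AtPrime p)) := by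
    intro l
    induction l with
    | nil =>
      intro _
      exact ⟨[], fun y hy => absurd hy List.not_mem_nil, List.Forall₂.nil,
        by rw [Ideal.ofList_nil]; exact bot_le⟩
    | cons z l ih =>
      intro h
      obtain ⟨ys, hys, hF, hle⟩ := ih (fun w hw => h w (List.mem_cons_of_mem _ hw))
      obtain ⟨⟨a, s⟩, has⟩ := (IsLocalization.mem_map_algebraMap_iff p.primeCompl
        (Localization.AtPrime p)).mp (h z List.mem_cons_self)
      have hu : IsUnit (algebraMap R (Localization.AtPrime p) (s : R)) :=
        IsLocalization.map_units _ s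
      have has' : z * algebraMap R (Localization.AtPrime p) (s : R) =
          algebraMap R (Localization.AtPrime p) (a : R) := has
      refine ⟨(a : R) :: ys, ?_, ?_, ?_⟩
      · intro y hy
        rcases List.mem_cons.mp hy with rfl | hy
        · exact a.2
        · exact hys y hy
      · rw [List.map_cons]
        refine List.Forall₂.cons ⟨hu.unit, ?_⟩ hF
        rw [IsUnit.unit_spec, mul_comm]
        exact has'.symm
      · rw [Ideal.ofList_cons, Ideal.ofList_cons, Ideal.map_sup]
        refine sup_le_sup ?_ hle
        rw [Ideal.span_singleton_le_iff_mem]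
        obtain ⟨w, hw⟩ := hu.exists_right_inv
        have : z = algebraMap R (Localization.AtPrime p) (a : R) * w := by
          rw [← has', mul_assoc, hw, mul_one]
        rw [this]
        exact Ideal.mul_mem_right _ _ (Ideal.mem_map_of_mem _ (Ideal.mem_span_singleton_self _))
  obtain ⟨ys, hysI, hF, hle⟩ := hlist rs hrsJ
  have hysle : Ideal.ofList ys ≤ I := by
    show Ideal.span {y | y ∈ ys} ≤ I
    rw [Ideal.span_le]
    exact fun y hy => hysI y hy
  have hEW0 : Groth.Agent.H29.Vasc.EW ⊥ rs :=
    (Groth.Agent.H29.Vasc.isWeaklyRegular_self_iff rs).mp hwr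
  have hEW1 := Groth.Agent.H29.Vasc.EW_of_forall₂_units rs _ hF ⊥ hEW0
  have hEW2 : Groth.Agent.H29.Vasc.EW
      ((⊥ : Ideal R).map (algebraMap R (Localization.AtPrime p)))
      (ys.map (algebraMap R (Localization.AtPrime p))) := by
    rw [Ideal.map_bot]
    exact hEW1
  obtain ⟨g₁, hg₁, hG₁⟩ := Groth.Agent.H29.Vasc.exists_EW_away R p ys ⊥ hEW2
  obtain ⟨g₂, hg₂, hG₂⟩ := Groth.Agent.H29.Vasc.exists_sat R p (Ideal.ofList ys)
  have hgp : g₁ * g₂ ∉ p := fun h => (hp.mem_or_mem h).elim hg₁ hg₂
  refine ⟨g₁ * g₂, hgp, ys.map (algebraMap R (Localization.Away (g₁ * g₂))), ?_, ?_⟩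
  · have hw : RingTheory.Sequence.IsWeaklyRegular (Localization.Away (g₁ * g₂))
        (ys.map (algebraMap R (Localization.Away (g₁ * g₂)))) := by
      rw [Groth.Agent.H29.Vasc.isWeaklyRegular_self_iff]
      have := hG₁ (g₁ * g₂) hgp (dvd_mul_right g₁ g₂)
      rwa [Ideal.map_bot] at this
    refine ⟨hw, ?_⟩
    intro htop
    have h1 : Ideal.ofList (ys.map (algebraMap R (Localization.Away (g₁ * g₂)))) = ⊤ := by
      have : Ideal.ofList (ys.map (algebraMap R (Localization.Away (g₁ * g₂)))) •
          (⊤ : Submodule (Localization.Away (g₁ * g₂)) (Localization.Away (g₁ * g₂))) =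
          Ideal.ofList (ys.map (algebraMap R (Localization.Away (g₁ * g₂)))) := by
        rw [smul_eq_mul, Ideal.mul_top]
      rw [← this]
      exact htop.symm
    have h2 : I.map (algebraMap R (Localization.Away (g₁ * g₂))) ≠ ⊤ := by
      rw [IsLocalization.map_algebraMap_ne_top_iff_disjoint (Submonoid.powers (g₁ * g₂)),
        Set.disjoint_left]
      rintro x ⟨k, rfl⟩ hxI
      exact hgp (hp.mem_of_pow_mem k (hIp hxI))
    apply h2
    rw [eq_top_iff, ← h1, ← Ideal.map_ofList]
    exact Ideal.map_mono hysle
  · rw [← Ideal.map_ofList]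
    apply le_antisymm
    · exact Ideal.map_mono hysle
    · rw [Ideal.map_le_iff_le_comap]
      intro x hx
      rw [Ideal.mem_comap,
        IsLocalization.algebraMap_mem_map_algebraMap_iff (Submonoid.powers (g₁ * g₂))]
      refine ⟨g₁ * g₂, Submonoid.mem_powers _, ?_⟩
      have h0 : algebraMap R (Localization.AtPrime p) x ∈ Ideal.ofList rs := by
        rw [hJeq]
        exact Ideal.mem_map_of_mem _ hx
      have h1 := hle h0
      rw [IsLocalization.algebraMap_mem_map_algebraMap_iff p.primeCompl] at h1
      obtain ⟨m, hm, hmx⟩ := h1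
      have h2 := hG₂ x ⟨m, hm, hmx⟩
      rw [mul_assoc]
      exact Ideal.mul_mem_left _ _ h2

end Groth.Agent.S2189
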