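import Groth.Statements.S2196
import Mathlib
-- import your own Groth.Agent.* helpers here

set_option autoImplicit false
universe u v
open Disc

namespace Groth.Agent.S2196


open TensorProduct in
theorem aux {A : Type u} {B : Type v}
    [CommRing A] [CommRing B] [Algebra A B] [Algebra.FiniteType A B] :
    {q : PrimeSpectrum B | Disc.noetherDifferent A B ≤ q.asIdeal} =
      (Algebra.unramifiedLocus A B)ᶜ := by
  rw [Algebra.unramifiedLocus_eq_compl_support, compl_compl, Module.support_eq_zeroLocus]
  set I := KaehlerDifferential.ideal A B with hI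
  have hsurj : Function.Surjective (Algebra.TensorProduct.lmul' (S := B) A) :=
    fun b => ⟨b ⊗ₜ 1, by simp⟩
  have hmemI : ∀ z : B ⊗[A] B, z ∈ I ↔ Algebra.TensorProduct.lmul' A z = 0 :=
    fun z => RingHom.mem_ker
  have hact : ∀ (b : B) (y : I), b • KaehlerDifferential.fromIdeal A B y = 0 ↔
      (b ⊗ₜ[A] (1 : B)) * (y : B ⊗[A] B) ∈ I ^ 2 := by
    intro b y
    have hc : LinearMap.CompatibleSMul I Ω[B⁄A] B (B ⊗[A] B) := inferInstance
    rw [← LinearMap.map_smul_of_tower (KaehlerDifferential.fromIdeal A B) b y]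
    have h := Ideal.toCotangent_eq_zero I (b • y)
    have hco : ((b • y : I) : B ⊗[A] B) = (b ⊗ₜ[A] (1 : B)) * (y : B ⊗[A] B) := by
      rw [Submodule.coe_smul_of_tower, Algebra.smul_def, Algebra.TensorProduct.algebraMap_apply]
      simp
    rw [← hco]
    exact h
  have h1 : Disc.noetherDifferent A B ≤ Module.annihilator B Ω[B⁄A] := by
    intro b hb
    rw [Disc.noetherDifferent, Ideal.mem_map_iff_of_surjective _ hsurj] at hb
    obtain ⟨ξ, hξ, rfl⟩ := hb
    rw [Module.mem_annihilator]
    intro m
    obtain ⟨y, rfl⟩ := KaehlerDifferential.fromIdeal_surjective A B m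
    rw [hact]
    have hd : (Algebra.TensorProduct.lmul' A ξ) ⊗ₜ[A] (1 : B) - ξ ∈ I := by
      rw [hmemI]; simp
    have hξy : ξ * (y : B ⊗[A] B) = 0 := by
      have := (Submodule.mem_annihilator.mp hξ) y y.2
      simpa using this
    have h3 : (Algebra.TensorProduct.lmul' A ξ) ⊗ₜ[A] (1 : B) * (y : B ⊗[A] B) =
        ((Algebra.TensorProduct.lmul' A ξ) ⊗ₜ[A] (1 : B) - ξ) * y := by
      rw [sub_mul, hξy, sub_zero]
    rw [h3, pow_two]
    exact Ideal.mul_mem_mul hd y.2
  have h2 : Module.annihilator B Ω[B⁄A] ≤ (Disc.noetherDifferent A B).radical := by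
    intro b hb
    rw [Module.mem_annihilator] at hb
    set β : B ⊗[A] B := b ⊗ₜ 1 with hβdef
    have hβ : ∀ y : I, β * (y : B ⊗[A] B) ∈ I ^ 2 := fun y => (hact b y).mp (hb _)
    haveI : Module.Finite (B ⊗[A] B) I := Module.Finite.iff_fg.mpr (KaehlerDifferential.ideal_fg A B)
    let f : Module.End (B ⊗[A] B) I := algebraMap (B ⊗[A] B) (Module.End (B ⊗[A] B) I) β
    have hrange : LinearMap.range f ≤ I • (⊤ : Submodule (B ⊗[A] B) I) := by
      rintro _ ⟨y, rfl⟩
      rw [Submodule.mem_smul_top_iff]
      have := hβ y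
      rw [pow_two] at this
      simpa [f, Module.algebraMap_end_apply] using this
    obtain ⟨p, hmonic, -, hcoeff, hp⟩ :=
      LinearMap.exists_monic_and_natDegree_eq_and_coeff_mem_pow_and_aeval_eq_zero (B ⊗[A] B) f I hrange
    set δ := Polynomial.aeval β p with hδ
    have hδI : δ ∈ Submodule.annihilator I := by
      rw [Submodule.mem_annihilator]
      intro y hy
      have h := congrArg (fun g : Module.End (B ⊗[A] B) I => ((g ⟨y, hy⟩ : I) : B ⊗[A] B)) hp
      simp only [f, Polynomial.aeval_algebraMap_apply, Module.algebraMap_end_apply] at h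
      simpa [hδ] using h
    have hlm : Algebra.TensorProduct.lmul' A δ = b ^ p.natDegree := by
      rw [hδ, Polynomial.aeval_eq_sum_range, map_sum, Finset.sum_range_succ]
      rw [Finset.sum_eq_zero, zero_add]
      · rw [hmonic.coeff_natDegree, one_smul, map_pow]; simp [β]
      · intro i hi
        rw [Finset.mem_range] at hi
        rw [smul_eq_mul, map_mul]
        have : p.coeff i ∈ I := Ideal.pow_le_self (by omega) (hcoeff i)
        rw [(hmemI _).mp this, zero_mul]
    refine ⟨p.natDegree, ?_⟩
    rw [Disc.noetherDifferent, Ideal.mem_map_iff_of_surjective _ hsurj]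
    exact ⟨δ, hδI, hlm⟩
  ext q
  simp only [Set.mem_ofPred_eq, PrimeSpectrum.mem_zeroLocus, SetLike.coe_subset_coe]
  constructor
  · intro h
    exact h2.trans ((q.isPrime.radical_le_iff).mpr h)
  · intro h
    exact h1.trans h

/-- Let A -> B be a ring map of finite type and D its Noether different (the image in B of the
annihilator of the kernel of B tensor_A B -> B). Then a prime q of B contains D exactly when A -> B
is not unramified at q. -/
theorem result {A : Type u} {B : Type v}
    [CommRing A] [CommRing B] [Algebra A B] [Algebra.FiniteType A B] :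
    {q : PrimeSpectrum B | Disc.noetherDifferent A B ≤ q.asIdeal} =
      (Algebra.unramifiedLocus A B)ᶜ := by
  exact aux

end Groth.Agent.S2196
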