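import Groth.Statements.S2203
import Mathlib

set_option autoImplicit false
set_option linter.style.haveILetI false
universe u
open CategoryTheory
open QCohCat

namespace Groth.Agent.S2203

/-- the centre of the category of modules over a commutative ring is the ring -/
theorem center_bij (R : Type u) [CommRing R] :
    Function.Bijective (CategoryTheory.Linear.toCatCenter R (ModuleCat.{u} R)) := by
  constructor
  · intro a b h
    have h1 := congrArg
      (fun z : CategoryTheory.CatCenter (ModuleCat.{u} R) => (z.app (ModuleCat.of R R)).hom (1 : R)) h
    simpa using h1
  · intro z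
    refine ⟨(z.app (ModuleCat.of R R)).hom (1 : R), ?_⟩
    apply CategoryTheory.CatCenter.ext
    intro X
    apply ModuleCat.hom_ext
    apply LinearMap.ext
    intro m
    have hn := CategoryTheory.CatCenter.naturality z
      (ModuleCat.ofHom (LinearMap.toSpanSingleton R X m) : ModuleCat.of R R ⟶ X)
    have h2 := congrArg (fun g => g.hom (1 : R)) hn
    simp only [ModuleCat.hom_comp, LinearMap.comp_apply, ModuleCat.hom_ofHom,
      LinearMap.toSpanSingleton_apply, one_smul] at h2
    rw [h2]
    simp

/-- transporting the centre along an equivalence and back is the identity -/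
theorem center_roundtrip {C : Type*} {D : Type*} [CategoryTheory.Category C]
    [CategoryTheory.Category D]
    [CategoryTheory.Preadditive C] [CategoryTheory.Preadditive D] (L : C ⥤ D) (G : D ⥤ C)
    (η : 𝟭 C ≅ L ⋙ G) [L.Additive] [G.Additive] (WC : CategoryTheory.MorphismProperty C)
    (WD : CategoryTheory.MorphismProperty D) [L.IsLocalization WC] [G.IsLocalization WD]
    (z : CategoryTheory.CatCenter C) :
    CategoryTheory.CatCenter.localizationRingHom G WD
      (CategoryTheory.CatCenter.localizationRingHom L WC z) = z := by
  apply CategoryTheory.CatCenter.ext
  intro X
  have h1 : (CategoryTheory.CatCenter.localizationRingHom G WD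
      (CategoryTheory.CatCenter.localizationRingHom L WC z)).app (G.obj (L.obj X)) =
      G.map (L.map (z.app X)) := by
    change ((z.localization L WC).localization G WD).app (G.obj (L.obj X)) = _
    rw [CategoryTheory.CatCenter.localization_app, CategoryTheory.CatCenter.localization_app]
  have h2 := CategoryTheory.CatCenter.naturality (CategoryTheory.CatCenter.localizationRingHom G WD
      (CategoryTheory.CatCenter.localizationRingHom L WC z)) (η.hom.app X)
  have h4 := η.hom.naturality (z.app X)
  simp only [Functor.id_obj, Functor.id_map, Functor.comp_obj, Functor.comp_map] at h2 h4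
  rw [h1] at h2
  have h5 : (CategoryTheory.CatCenter.localizationRingHom G WD
      (CategoryTheory.CatCenter.localizationRingHom L WC z)).app X ≫ η.hom.app X =
      z.app X ≫ η.hom.app X := by
    rw [← h2, h4]
  exact (cancel_mono (η.hom.app X)).mp h5

/-- Ring-isomorphism part of the statement: let A and B be commutative rings whose categories of modules
are equivalent. Then A and B are isomorphic as rings. (The source moreover describes the equivalence
as base change followed by tensoring with an invertible module.) -/
theorem result (A B : Type u) [CommRing A] [CommRing B]
    (F : ModuleCat.{u} A ≌ ModuleCat.{u} B) : Nonempty (A ≃+* B) := by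
  haveI : F.functor.Additive := Functor.additive_of_preserves_binary_products F.functor
  haveI : F.inverse.Additive := Functor.additive_of_preserves_binary_products F.inverse
  haveI : F.functor.IsLocalization (MorphismProperty.isomorphisms (ModuleCat.{u} A)) :=
    Functor.IsLocalization.of_isEquivalence F.functor _ le_rfl
  haveI : F.inverse.IsLocalization (MorphismProperty.isomorphisms (ModuleCat.{u} B)) :=
    Functor.IsLocalization.of_isEquivalence F.inverse _ le_rfl
  let eA : A ≃+* CatCenter (ModuleCat.{u} A) := RingEquiv.ofBijective _ (center_bij A)
  let eB : B ≃+* CatCenter (ModuleCat.{u} B) := RingEquiv.ofBijective _ (center_bij B)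
  let eZ : CatCenter (ModuleCat.{u} A) ≃+* CatCenter (ModuleCat.{u} B) :=
    RingEquiv.ofRingHom
      (CatCenter.localizationRingHom F.functor (MorphismProperty.isomorphisms (ModuleCat.{u} A)))
      (CatCenter.localizationRingHom F.inverse (MorphismProperty.isomorphisms (ModuleCat.{u} B)))
      (RingHom.ext fun z => center_roundtrip F.inverse F.functor F.counitIso.symm _ _ z)
      (RingHom.ext fun z => center_roundtrip F.functor F.inverse F.unitIso _ _ z)
  exact ⟨eA.trans (eZ.trans eB.symm)⟩

end Groth.Agent.S2203
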