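import Groth.Statements.S2204
import Mathlib
import Groth.Agent.S2405

set_option autoImplicit false
universe u
open CategoryTheory CategoryTheory.Limits TensorProduct
open QCohCat

namespace Groth.Agent.S2204

section helpers
open CategoryTheory CategoryTheory.Limits MonoidalCategory TensorProduct
open Groth.Agent.S2405 (hat hat_apply hat_add hat_smul hat_comp hat_self EW)

variable {A B : Type u} [CommRing A] [CommRing B] (F : ModuleCat.{u} A ⥤ ModuleCat.{u} B)

lemma additive_of_pfc [PreservesFiniteColimits F] : F.Additive := by
  haveI : PreservesBinaryBiproducts F := preservesBinaryBiproducts_of_preservesBinaryCoproducts F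
  exact Functor.additive_of_preservesBinaryBiproducts F

/-- `K = F(A)` as a type -/
abbrev KK : Type u := ↑(F.obj (ModuleCat.of A A))

noncomputable instance modA [PreservesFiniteColimits F] : Module A (KK F) :=
  haveI := additive_of_pfc F
  { smul := fun a x => (F.map (a • 𝟙 (ModuleCat.of A A))).hom x
    one_smul := fun x => by
      show (F.map ((1 : A) • 𝟙 (ModuleCat.of A A))).hom x = x
      rw [one_smul, F.map_id]; rfl
    mul_smul := fun a b x => by
      show (F.map ((a * b) • 𝟙 (ModuleCat.of A A))).hom x =
        (F.map (a • 𝟙 (ModuleCat.of A A))).hom ((F.map (b • 𝟙 (ModuleCat.of A A))).hom x)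
      have h : (a * b) • 𝟙 (ModuleCat.of A A) =
          (b • 𝟙 (ModuleCat.of A A)) ≫ (a • 𝟙 (ModuleCat.of A A)) := by
        rw [Linear.smul_comp, Category.id_comp, smul_smul, mul_comm]
      rw [h, F.map_comp]; rfl
    smul_zero := fun a => map_zero _
    smul_add := fun a x y => map_add _ x y
    add_smul := fun a b x => by
      show (F.map ((a + b) • 𝟙 (ModuleCat.of A A))).hom x =
        (F.map (a • 𝟙 (ModuleCat.of A A))).hom x + (F.map (b • 𝟙 (ModuleCat.of A A))).hom x
      rw [add_smul, F.map_add]; rfl
    zero_smul := fun x => by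
      show (F.map ((0 : A) • 𝟙 (ModuleCat.of A A))).hom x = 0
      rw [zero_smul, F.map_zero]; rfl }

lemma modA_smul_def [PreservesFiniteColimits F] (a : A) (x : KK F) :
    a • x = (F.map (a • 𝟙 (ModuleCat.of A A))).hom x := rfl

instance sccAB [PreservesFiniteColimits F] : SMulCommClass A B (KK F) :=
  ⟨fun a b x => map_smul (F.map (a • 𝟙 (ModuleCat.of A A))).hom b x⟩

noncomputable def tauAdd [PreservesFiniteColimits F] (M : ModuleCat.{u} A) :
    (KK F) ⊗[A] M →+ F.obj M :=
  haveI := additive_of_pfc F
  TensorProduct.liftAddHom
    (AddMonoidHom.mk' (fun x => AddMonoidHom.mk' (fun m => (F.map (hat m)).hom x)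
        (fun m m' => by rw [hat_add, F.map_add]; rfl))
      (fun x x' => by
        ext m
        exact map_add (F.map (hat m)).hom x x'))
    (fun a x m => by
      show (F.map (hat m)).hom ((F.map (a • 𝟙 (ModuleCat.of A A))).hom x) =
        (F.map (hat (a • m))).hom x
      have h : hat (a • m) = (a • 𝟙 (ModuleCat.of A A)) ≫ hat m := by
        rw [hat_smul, Linear.smul_comp, Category.id_comp]
      rw [h, F.map_comp]; rfl)

lemma tauAdd_tmul [PreservesFiniteColimits F] (M : ModuleCat.{u} A) (x : KK F) (m : M) :
    tauAdd F M (x ⊗ₜ[A] m) = (F.map (hat m)).hom x := rfl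

noncomputable def tauLin [PreservesFiniteColimits F] (M : ModuleCat.{u} A) :
    (KK F) ⊗[A] M →ₗ[B] F.obj M :=
  { toFun := tauAdd F M
    map_add' := map_add _
    map_smul' := fun b z => by
      induction z using TensorProduct.induction_on with
      | zero => simp
      | tmul x m =>
        show tauAdd F M (b • (x ⊗ₜ[A] m)) = b • tauAdd F M (x ⊗ₜ[A] m)
        rw [TensorProduct.smul_tmul', tauAdd_tmul, tauAdd_tmul]
        exact map_smul _ b x
      | add z w hz hw =>
        simp only [smul_add, map_add] at hz hw ⊢
        rw [hz, hw] }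

lemma tauAdd_nat [PreservesFiniteColimits F] {M N : ModuleCat.{u} A} (f : M ⟶ N)
    (z : (KK F) ⊗[A] M) :
    tauAdd F N (LinearMap.lTensor (KK F) f.hom z) = (F.map f).hom (tauAdd F M z) := by
  induction z using TensorProduct.induction_on with
  | zero => simp
  | tmul x m =>
    rw [LinearMap.lTensor_tmul, tauAdd_tmul, tauAdd_tmul, ← hat_comp, F.map_comp]
    rfl
  | add z w hz hw => rw [map_add, map_add, hz, hw, map_add, map_add]

lemma tauAdd_A_bijective [PreservesFiniteColimits F] :
    Function.Bijective (tauAdd F (ModuleCat.of A A)) := by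
  have h : ∀ z, tauAdd F (ModuleCat.of A A) z = TensorProduct.rid A (KK F) z := by
    intro z
    induction z using TensorProduct.induction_on with
    | zero => simp
    | tmul x a =>
      rw [TensorProduct.rid_tmul, tauAdd_tmul, hat_self]
      rfl
    | add z w hz hw => rw [map_add, map_add, hz, hw]
  have h' : (⇑(tauAdd F (ModuleCat.of A A)) : _ → _) = ⇑(TensorProduct.rid A (KK F)) := funext h
  rw [h']
  exact (TensorProduct.rid A (KK F)).bijective

/-- the comparison as a natural transformation of functors to abelian groups -/
noncomputable def tauNat [PreservesFiniteColimits F] :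
    (tensorLeft (ModuleCat.of A (KK F)) ⋙ forget₂ (ModuleCat.{u} A) AddCommGrpCat.{u}) ⟶
      (F ⋙ forget₂ (ModuleCat.{u} B) AddCommGrpCat.{u}) where
  app M := AddCommGrpCat.ofHom (tauAdd F M)
  naturality M N f := by
    apply AddCommGrpCat.hom_ext
    apply AddMonoidHom.ext
    intro z
    exact tauAdd_nat F f z

lemma tauAdd_bijective [PreservesFiniteColimits F]
    [∀ J : Type u, PreservesColimitsOfShape (Discrete J) F] (M : ModuleCat.{u} A) :
    Function.Bijective (tauAdd F M) := by
  have hA : IsIso ((tauNat F).app (ModuleCat.of A A)) :=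
    (ConcreteCategory.isIso_iff_bijective _).2 (tauAdd_A_bijective F)
  haveI := EW _ _ (tauNat F) hA
  exact (ConcreteCategory.isIso_iff_bijective ((tauNat F).app M)).1 inferInstance

end helpers

/-- The implication (2) to (1): for commutative rings A and B, any functor from A-modules to B-modules
preserving finite colimits and arbitrary direct sums is given by tensoring: there is a module K over
both A and B with commuting actions and B-linear isomorphisms K tensor_A M = F(M), natural in the
A-module M. -/
theorem result (A B : Type u) [CommRing A]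
    [CommRing B] (F : ModuleCat.{u} A ⥤ ModuleCat.{u} B) [PreservesFiniteColimits F]
    (hsum : ∀ J : Type u, PreservesColimitsOfShape (Discrete J) F) :
    ∃ (K : Type u) (_ : AddCommGroup K) (_ : Module A K) (_ : Module B K) (_ : SMulCommClass A B K)
      (η : ∀ M : ModuleCat.{u} A, (K ⊗[A] M) ≃ₗ[B] F.obj M),
      ∀ (M N : ModuleCat.{u} A) (f : M ⟶ N) (x : K ⊗[A] M),
        η N (LinearMap.lTensor K f.hom x) = F.map f (η M x) := by
  haveI := hsum
  refine ⟨KK F, inferInstance, modA F, inferInstance, sccAB F,
    fun M => LinearEquiv.ofBijective (tauLin F M) (tauAdd_bijective F M), ?_⟩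
  intro M N f x
  exact tauAdd_nat F f x

end Groth.Agent.S2204
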