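import Groth.Statements.S2207
import Mathlib

set_option autoImplicit false
universe u v
open DPow

namespace Groth.Agent.S2207

theorem exists_dp {A : Type u} {B : Type v} [CommRing A] [CommRing B] [Algebra A B]
    (x : A) (γ : DividedPowers (Ideal.span {x})) :
    ∃ δ : DividedPowers (Ideal.span {algebraMap A B x}),
      ∀ (n : ℕ) (b : B), δ.dpow n (algebraMap A B x * b) =
        algebraMap A B (γ.dpow n x) * b ^ n := by
  classical
  have hxI : x ∈ Ideal.span {x} := Ideal.mem_span_singleton_self x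
  -- notation-free abbreviations
  obtain ⟨X, hX⟩ : ∃ X : B, X = algebraMap A B x := ⟨_, rfl⟩
  obtain ⟨g, hg⟩ : ∃ g : ℕ → B, ∀ n, g n = algebraMap A B (γ.dpow n x) := ⟨_, fun _ => rfl⟩
  have G0 : g 0 = 1 := by rw [hg, γ.dpow_zero hxI, map_one]
  have G1 : g 1 = X := by rw [hg, γ.dpow_one hxI, hX]
  have Gmem : ∀ n : ℕ, n ≠ 0 → ∃ a : A, γ.dpow n x = a * x := by
    intro n hn
    obtain ⟨a, ha⟩ := Ideal.mem_span_singleton'.mp (γ.dpow_mem hn hxI)
    exact ⟨a, ha.symm⟩
  have Gmul : ∀ m n : ℕ, g m * g n = ((m + n).choose m : ℕ) * g (m + n) := by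
    intro m n
    rw [hg, hg, hg, ← map_mul, γ.mul_dpow hxI, map_mul, map_natCast]
  have K : ∀ (n : ℕ) (c : B), n ≠ 0 → X * c = 0 → g n * c = 0 := by
    intro n c hn hc
    obtain ⟨a, ha⟩ := Gmem n hn
    rw [hg, ha, map_mul, ← hX, mul_assoc, hc, mul_zero]
  have WD : ∀ (n : ℕ) (b b' : B), X * b = X * b' → g n * b ^ n = g n * b' ^ n := by
    intro n b b' h
    rcases Nat.eq_zero_or_pos n with rfl | hn
    · simp
    · obtain ⟨s, hs⟩ := sub_dvd_pow_sub_pow b b' n
      have h0 : X * (b - b') = 0 := by rw [mul_sub, h, sub_self]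
      have h1 : g n * (b ^ n - b' ^ n) = 0 := by
        rw [hs, ← mul_assoc, K n (b - b') (by omega) h0, zero_mul]
      rw [mul_sub, sub_eq_zero] at h1
      exact h1
  have hrepr : ∀ y : B, ∃ b : B, y ∈ Ideal.span {X} → y = X * b := by
    intro y
    by_cases hy : y ∈ Ideal.span {X}
    · obtain ⟨b, hb⟩ := Ideal.mem_span_singleton'.mp hy
      exact ⟨b, fun _ => by rw [← hb, mul_comm]⟩
    · exact ⟨0, fun h => absurd h hy⟩
  choose β hβ using hrepr
  let dp : ℕ → B → B := fun n y => if y ∈ Ideal.span {X} then g n * (β y) ^ n else 0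
  have hmemX : ∀ b : B, X * b ∈ Ideal.span {X} := fun b =>
    Ideal.mul_mem_right _ _ (Ideal.mem_span_singleton_self X)
  have dp_eq : ∀ (n : ℕ) (b : B), dp n (X * b) = g n * b ^ n := by
    intro n b
    simp only [dp, if_pos (hmemX b)]
    exact WD n _ _ (hβ _ (hmemX b)).symm
  have hall : ∀ y ∈ Ideal.span {X}, ∃ b : B, y = X * b := fun y hy => ⟨β y, hβ y hy⟩
  have hδ : ∃ δ : DividedPowers (Ideal.span {X}), ∀ (n : ℕ) (b : B),
      δ.dpow n (X * b) = g n * b ^ n := by
    refine ⟨{
      dpow := dp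
      dpow_null := ?_
      dpow_zero := ?_
      dpow_one := ?_
      dpow_mem := ?_
      dpow_add := ?_
      dpow_mul := ?_
      mul_dpow := ?_
      dpow_comp := ?_ }, dp_eq⟩
    · intro n y hy
      simp only [dp, if_neg hy]
    · intro y hy
      obtain ⟨b, rfl⟩ := hall y hy
      rw [dp_eq, G0, pow_zero, mul_one]
    · intro y hy
      obtain ⟨b, rfl⟩ := hall y hy
      rw [dp_eq, G1, pow_one]
    · intro n y hn hy
      obtain ⟨b, rfl⟩ := hall y hy
      rw [dp_eq]
      obtain ⟨a, ha⟩ := Gmem n hn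
      rw [hg, ha, map_mul, ← hX]
      have : algebraMap A B a * X * b ^ n = X * (algebraMap A B a * b ^ n) := by ring
      rw [this]
      exact hmemX _
    · intro n y y' hy hy'
      obtain ⟨b, rfl⟩ := hall y hy
      obtain ⟨b', rfl⟩ := hall y' hy'
      rw [← mul_add, dp_eq, (Commute.all b b').add_pow' n, Finset.mul_sum]
      refine Finset.sum_congr rfl fun p hp => ?_
      rw [Finset.HasAntidiagonal.mem_antidiagonal] at hp
      subst hp
      rw [dp_eq, dp_eq, nsmul_eq_mul]
      have := Gmul p.1 p.2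
      calc g (p.1 + p.2) * (((p.1 + p.2).choose p.1 : ℕ) * (b ^ p.1 * b' ^ p.2))
          = (((p.1 + p.2).choose p.1 : ℕ) * g (p.1 + p.2)) * (b ^ p.1 * b' ^ p.2) := by ring
        _ = g p.1 * g p.2 * (b ^ p.1 * b' ^ p.2) := by rw [← this]
        _ = g p.1 * b ^ p.1 * (g p.2 * b' ^ p.2) := by ring
    · intro n c y hy
      obtain ⟨b, rfl⟩ := hall y hy
      have : c * (X * b) = X * (c * b) := by ring
      rw [this, dp_eq, dp_eq, mul_pow]
      ring
    · intro m n y hy
      obtain ⟨b, rfl⟩ := hall y hy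
      rw [dp_eq, dp_eq, dp_eq]
      have := Gmul m n
      calc g m * b ^ m * (g n * b ^ n) = g m * g n * b ^ (m + n) := by rw [pow_add]; ring
        _ = ((m + n).choose m : ℕ) * (g (m + n) * b ^ (m + n)) := by rw [this]; ring
    · intro m n y hn hy
      obtain ⟨b, rfl⟩ := hall y hy
      obtain ⟨a, ha⟩ := Gmem n hn
      have h1 : dp n (X * b) = X * (algebraMap A B a * b ^ n) := by
        rw [dp_eq, hg, ha, map_mul, ← hX]; ring
      rw [h1, dp_eq, dp_eq, mul_pow, ← pow_mul]
      have h2 : algebraMap A B a ^ m * g m = (Nat.uniformBell m n : ℕ) * g (m * n) := by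
        rw [hg, hg, ← map_pow, ← map_mul, ← γ.dpow_mul hxI, ← ha, γ.dpow_comp hn hxI, map_mul,
          map_natCast]
      calc g m * (algebraMap A B a ^ m * b ^ (n * m))
          = (algebraMap A B a ^ m * g m) * b ^ (n * m) := by ring
        _ = (Nat.uniformBell m n : ℕ) * (g (m * n) * b ^ (m * n)) := by
            rw [h2, mul_comm n m]; ring
  obtain ⟨δ, hδ'⟩ := hδ
  subst hX
  refine ⟨δ, fun n b => ?_⟩
  rw [hδ', hg]

/-- Existence in case (2): let I = (x) be a principal ideal of A with a divided power structure and B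
any A-algebra. Then there is a divided power structure on I B for which A -> B is a homomorphism of
divided power rings. -/
theorem result {A : Type u} {B : Type v} [CommRing A] [CommRing B] [Algebra A B]
    (x : A) (γ : DividedPowers (Ideal.span {x})) :
    ∃ δ : DividedPowers ((Ideal.span {x}).map (algebraMap A B)), γ.IsDPMorphism δ (algebraMap A B) := by
  obtain ⟨δ0, hδ0⟩ := exists_dp (B := B) x γ
  have hJ : (Ideal.span {x}).map (algebraMap A B) = Ideal.span {algebraMap A B x} := by
    rw [Ideal.map_span, Set.image_singleton]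
  obtain ⟨δ, hδ⟩ : ∃ δ : DividedPowers ((Ideal.span {x}).map (algebraMap A B)),
      ∀ (n : ℕ) (b : B), δ.dpow n (algebraMap A B x * b) =
        algebraMap A B (γ.dpow n x) * b ^ n := by
    rw [hJ]
    exact ⟨δ0, hδ0⟩
  refine ⟨δ, le_rfl, ?_⟩
  intro n a ha
  obtain ⟨c, rfl⟩ := Ideal.mem_span_singleton'.mp ha
  have hxI : x ∈ Ideal.span {x} := Ideal.mem_span_singleton_self x
  rw [map_mul, mul_comm, hδ, γ.dpow_mul hxI, map_mul, map_pow, mul_comm]

end Groth.Agent.S2207
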