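import Groth.Statements.S2211
import Mathlib
-- import your own Groth.Agent.* helpers here

set_option autoImplicit false
universe u
open DPow

namespace Groth.Agent.S2211


lemma not_dvd_uniformBell (p : ℕ) (hp : p.Prime) (m : ℕ) : ¬ p ∣ Nat.uniformBell m p := by
  haveI := Fact.mk hp
  have h := Nat.uniformBell_mul_eq m hp.ne_zero
  have hne : Nat.uniformBell m p ≠ 0 := by
    intro h0
    rw [h0] at h
    simp at h
    exact (Nat.factorial_ne_zero _) h.symm
  rw [dvd_iff_padicValNat_ne_zero hne, not_not]
  have h1 : padicValNat p (Nat.uniformBell m p * p.factorial ^ m * m.factorial) =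
      padicValNat p (m * p).factorial := by rw [h]
  have hpow : p.factorial ^ m ≠ 0 := pow_ne_zero _ (Nat.factorial_ne_zero _)
  rw [padicValNat.mul (mul_ne_zero hne hpow) (Nat.factorial_ne_zero _),
    padicValNat.mul hne hpow, padicValNat.pow, mul_comm m p,
    padicValNat_factorial_mul] at h1
  have h2 : padicValNat p p.factorial = 1 := by
    have := padicValNat_factorial_mul (p := p) 1
    simpa using this
  rw [h2] at h1
  omega

/-- First part: let p be a prime and A a ring in which every integer prime to p is invertible, I an
ideal of A. Two divided power structures on I coincide exactly when their p-th divided power maps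
agree on I. -/
theorem result {A : Type u} [CommRing A] (p : ℕ) (hp : p.Prime)
    (hA : ∀ n : ℕ, ¬ p ∣ n → IsUnit (n : A)) {I : Ideal A} (γ γ' : DividedPowers I) :
    γ = γ' ↔ ∀ x ∈ I, γ.dpow p x = γ'.dpow p x := by
  constructor
  · rintro rfl x _; rfl
  · intro h
    have key : ∀ n : ℕ, ∀ x ∈ I, γ.dpow n x = γ'.dpow n x := by
      intro n
      induction n using Nat.strong_induction_on with
      | _ n ih =>
        intro x hx
        rcases Nat.eq_zero_or_pos n with rfl | hn
        · rw [γ.dpow_zero hx, γ'.dpow_zero hx]
        by_cases hpn : p ∣ n
        · obtain ⟨m, rfl⟩ := hpn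
          have hm : 0 < m := by
            rcases Nat.eq_zero_or_pos m with rfl | h'
            · simp at hn
            · exact h'
          have hmlt : m < p * m := by
            have := hp.one_lt
            nlinarith
          have e1 := γ.dpow_comp (m := m) hp.ne_zero hx
          have e2 := γ'.dpow_comp (m := m) hp.ne_zero hx
          have e3 : γ.dpow m (γ.dpow p x) = γ'.dpow m (γ'.dpow p x) := by
            rw [h x hx]
            exact ih m hmlt _ (γ'.dpow_mem hp.ne_zero hx)
          rw [e1, e2] at e3
          rw [mul_comm p m]
          exact (hA _ (not_dvd_uniformBell p hp m)).mul_left_cancel e3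
        · have e1 := γ.mul_dpow (m := 1) (n := n - 1) hx
          have e2 := γ'.mul_dpow (m := 1) (n := n - 1) hx
          have hn1 : 1 + (n - 1) = n := by omega
          rw [γ.dpow_one hx, hn1, Nat.choose_one_right] at e1
          rw [γ'.dpow_one hx, hn1, Nat.choose_one_right] at e2
          have h3 := ih (n - 1) (by omega) x hx
          exact (hA n hpn).mul_left_cancel (by rw [← e1, ← e2, h3])
    exact DividedPowers.ext γ γ' (fun n x hx => key n x hx)

end Groth.Agent.S2211
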