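import Groth.Statements.S2219
import Mathlib
import Groth.Agent.Lib.Helper18.LocalTrace

set_option autoImplicit false
universe u
open Disc

namespace Groth.Agent.S2219

/-- Equivalence of (1) and (3): let k be a field and A a finite-dimensional local k-algebra with residue
field k'. Then the trace map Tr_{A/k} is not identically zero if and only if k' is separable over k
and the length of A as a module over itself is not divisible by the characteristic of k (no
condition in characteristic zero). -/
theorem result (k A : Type u) [Field k] [CommRing A]
    [Algebra k A] [FiniteDimensional k A] [IsLocalRing A] :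
    Algebra.trace k A ≠ 0 ↔
      (Algebra.IsSeparable k (IsLocalRing.ResidueField A) ∧
        ∀ p : ℕ, p.Prime → CharP k p → ¬ p ∣ (Module.length A A).toNat) := by

  rw [Groth.Agent.Helper18.LocalTrace.trace_ne_zero_iff k A]
  have hl := Groth.Agent.Helper18.LocalTrace.length_toNat_ne_zero k A
  refine and_congr_right (fun _ => ?_)
  constructor
  · intro h p hp hchar hdvd
    apply h
    exact (CharP.cast_eq_zero_iff k p _).2 hdvd
  · intro h h0
    obtain ⟨p, hp⟩ := CharP.exists k
    rcases CharP.char_is_prime_or_zero k p with hpr | hz
    · exact h p hpr hp ((CharP.cast_eq_zero_iff k p _).1 h0)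
    · subst hz
      haveI : CharZero k := CharP.charP_to_charZero k
      exact hl (Nat.cast_eq_zero.1 h0)


end Groth.Agent.S2219
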