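import Groth.Statements.S2220
import Mathlib
import Groth.Agent.Lib.Lead.NDOpenImm
-- import your own Groth.Agent.* helpers here

set_option autoImplicit false
universe u
open AlgebraicGeometry
open Disc

namespace Groth.Agent.S2220

/-- Part (2): for ring maps A -> B' -> B with B' of finite type over A and Spec B -> Spec B' an open
immersion, the Noether different of B over A is the ideal generated by the image of that of B'. -/
theorem result {A B' B : Type u} [CommRing A] [CommRing B']
    [CommRing B] [Algebra A B'] [Algebra A B] [Algebra B' B] [IsScalarTower A B' B]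
    [Algebra.FiniteType A B']
    (h : IsOpenImmersion (Spec.map (CommRingCat.ofHom (algebraMap B' B)))) :
    Disc.noetherDifferent A B = (Disc.noetherDifferent A B').map (algebraMap B' B) := by
  haveI := h
  have hfl : Flat (Spec.map (CommRingCat.ofHom (algebraMap B' B))) := inferInstance
  have hfl2 : (algebraMap B' B).Flat := Flat.SpecMap_iff.mp hfl
  haveI : Module.Flat B' B := RingHom.flat_algebraMap_iff.mp hfl2
  refine Groth.Agent.Lead.NDBaseChange.nd_flat_epi ?_
  intro Q _ g k hgk
  have h1 : CategoryTheory.CategoryStruct.comp (Spec.map (CommRingCat.ofHom g)) (Spec.map (CommRingCat.ofHom (algebraMap B' B))) =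
      CategoryTheory.CategoryStruct.comp (Spec.map (CommRingCat.ofHom k)) (Spec.map (CommRingCat.ofHom (algebraMap B' B))) := by
    rw [← Spec.map_comp, ← Spec.map_comp, ← CommRingCat.ofHom_comp, ← CommRingCat.ofHom_comp, hgk]
  have h2 := (CategoryTheory.cancel_mono _).mp h1
  have h3 := Spec.map_injective h2
  have h4 := congrArg CommRingCat.Hom.hom h3
  simpa using h4

end Groth.Agent.S2220
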