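import Groth.Statements.S4367
import Mathlib.AlgebraicGeometry.IdealSheaf.Functorial

set_option autoImplicit false
universe u
open AlgebraicGeometry CategoryTheory

namespace Groth.Agent.S4367

open Scheme.IdealSheafData in
/-- Let X be a reduced scheme, f : X -> Y a morphism and j : Z -> Y a closed immersion (a closed
subscheme of Y) such that the image of f is contained, as a set, in the image of j. Then f factors
as a morphism X -> Z followed by j. -/
theorem result
    {X Y Z : Scheme.{u}} [IsReduced X] (f : X ⟶ Y) (j : Z ⟶ Y) [IsClosedImmersion j]
    (h : Set.range f ⊆ Set.range j) :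
    ∃ g : X ⟶ Z, g ≫ j = f := by
  have hker : f.ker = vanishingIdeal (.closure (f '' (⊤ : TopologicalSpace.Closeds X))) := by
    rw [← map_vanishingIdeal, vanishingIdeal_top, Scheme.nilradical_eq_bot, map_bot]
  have hle : j.ker ≤ f.ker := by
    rw [hker, ← le_support_iff_le_vanishingIdeal, TopologicalSpace.Closeds.closure_le]
    rw [Scheme.Hom.support_ker]
    simp only [TopologicalSpace.Closeds.coe_top, Set.image_univ]
    exact h.trans subset_closure
  exact ⟨IsClosedImmersion.lift j f hle, IsClosedImmersion.lift_fac j f hle⟩

end Groth.Agent.S4367
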