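import Mathlib
import Groth.Statements.S2334
import Groth.Agent.S4450
-- import your own Groth.Agent.* helpers here

set_option autoImplicit false
universe u
open CategoryTheory CategoryTheory.Limits AlgebraicGeometry
open EGA2

namespace Groth.Agent.S2334


/-- generic restriction in `FractionRing` form -/
theorem spec_fractionRing_comp {X : Scheme.{u}} {K : Type u} [Field K] (A : ValuationSubring K)
    {Z : Scheme.{u}} (g₁ g₂ : Spec (CommRingCat.of A) ⟶ Z)
    (h : Spec.map (CommRingCat.ofHom A.subtype) ≫ g₁ = Spec.map (CommRingCat.ofHom A.subtype) ≫ g₂) :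
    Spec.map (CommRingCat.ofHom (algebraMap A (FractionRing A))) ≫ g₁ =
      Spec.map (CommRingCat.ofHom (algebraMap A (FractionRing A))) ≫ g₂ := by
  let e : FractionRing A ≃ₐ[A] K := FractionRing.algEquiv A K
  have h1 : CommRingCat.ofHom (algebraMap A (FractionRing A)) =
      CommRingCat.ofHom A.subtype ≫ CommRingCat.ofHom (e.symm : K →+* FractionRing A) := by
    apply CommRingCat.hom_ext
    apply RingHom.ext
    intro a
    exact (e.symm.commutes a).symm
  rw [h1, Spec.map_comp, Category.assoc, Category.assoc, h]


/-- Locally Noetherian case of the valuative criterion of separatedness: let Y be a locally Noetherian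
scheme and f : X → Y locally of finite type. Then f is separated if and only if for every discrete
valuation ring A with fraction field K, any two morphisms Spec A → X with the same composite to Y
which agree on Spec K are equal. (In the general criterion the diagonal must be assumed
quasi-compact; that is automatic here.) -/
theorem result {X Y : Scheme.{u}} [IsLocallyNoetherian Y] (f : X ⟶ Y) [LocallyOfFiniteType f] :
    IsSeparated f ↔ ∀ (A : Type u) [CommRing A] [IsDomain A] [IsDiscreteValuationRing A] (g₁ g₂ : (Spec (CommRingCat.of A)) ⟶ X),
      g₁ ≫ f = g₂ ≫ f → (Spec.map (CommRingCat.ofHom (algebraMap A (FractionRing A)))) ≫ g₁ = (Spec.map (CommRingCat.ofHom (algebraMap A (FractionRing A)))) ≫ g₂ → g₁ = g₂ := by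
  constructor
  · intro hsep A _ _ _ g₁ g₂ h1 h2
    have hU := IsSeparated.valuativeCriterion f
    let S : ValuativeCommSq f :=
      { R := A, K := FractionRing A
        i₁ := Spec.map (CommRingCat.ofHom (algebraMap A (FractionRing A))) ≫ g₁
        i₂ := g₁ ≫ f
        commSq := ⟨by rw [Category.assoc]⟩ }
    have hsub : Subsingleton S.commSq.LiftStruct := hU S
    let l₁ : S.commSq.LiftStruct := ⟨g₁, rfl, rfl⟩
    let l₂ : S.commSq.LiftStruct := ⟨g₂, h2.symm, h1.symm⟩
    exact congrArg CommSq.LiftStruct.l (Subsingleton.elim l₁ l₂)
  · intro H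
    haveI : IsLocallyNoetherian X := LocallyOfFiniteType.isLocallyNoetherian f
    haveI : QuasiSeparated f := QuasiSeparated.of_quasiSeparatedSpace f
    haveI : LocallyOfFiniteType (pullback.fst f f) := MorphismProperty.pullback_fst _ _ inferInstance
    haveI : IsLocallyNoetherian (pullback f f) :=
      LocallyOfFiniteType.isLocallyNoetherian (pullback.fst f f)
    haveI : LocallyOfFiniteType (pullback.diagonal f ≫ pullback.fst f f) := by
      rw [pullback.diagonal_fst]; infer_instance
    haveI : LocallyOfFiniteType (pullback.diagonal f) :=
      locallyOfFiniteType_of_comp (pullback.diagonal f) (pullback.fst f f)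
    have hspec : SpecializingMap (pullback.diagonal f) := by
      intro x z' hz
      by_cases hzx : z' = (pullback.diagonal f) x
      · exact ⟨x, specializes_rfl, hzx.symm⟩
      obtain ⟨A, h, hA, hcl, hgen⟩ := Groth.Agent.S4450.result (pullback.diagonal f) x z' hz hzx
      haveI := hA
      let g₁ := h ≫ pullback.fst f f
      let g₂ := h ≫ pullback.snd f f
      have h1 : g₁ ≫ f = g₂ ≫ f := by
        simp only [g₁, g₂, Category.assoc, pullback.condition]
      have h2 : Spec.map (CommRingCat.ofHom A.subtype) ≫ g₁ =
          Spec.map (CommRingCat.ofHom A.subtype) ≫ g₂ := by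
        simp only [g₁, g₂, ← Category.assoc, hgen]
        simp only [Category.assoc, pullback.diagonal_fst, pullback.diagonal_snd]
      have h3 := H A g₁ g₂ h1 (spec_fractionRing_comp (X := X) A g₁ g₂ h2)
      have h4 : h = g₁ ≫ pullback.diagonal f := by
        apply pullback.hom_ext
        · simp only [g₁, Category.assoc, pullback.diagonal_fst, Category.comp_id]
        · rw [Category.assoc, pullback.diagonal_snd, Category.comp_id, h3]
      refine ⟨g₁ (IsLocalRing.closedPoint A), ?_, ?_⟩
      · have h5 : (pullback.diagonal f) (g₁ (IsLocalRing.closedPoint A)) = z' := by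
          rw [← Scheme.Hom.comp_apply, ← h4, hcl]
        have hemb : Topology.IsEmbedding (pullback.diagonal f) :=
          (pullback.diagonal f).isEmbedding
        rw [← h5] at hz
        exact hemb.isInducing.specializes_iff.mp hz
      · rw [← Scheme.Hom.comp_apply, ← h4, hcl]
    have hclosed : IsClosedMap (pullback.diagonal f) :=
      (isClosedMap_iff_specializingMap (pullback.diagonal f)).mpr hspec
    exact ⟨IsClosedImmersion.of_isPreimmersion _ hclosed.isClosed_range⟩

end Groth.Agent.S2334
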