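import Mathlib
import Groth.Statements.S2335
import Groth.Agent.S2334
import Groth.Agent.Lib.Helper9.DVRCrit
-- import your own Groth.Agent.* helpers here

set_option autoImplicit false
universe u
open CategoryTheory CategoryTheory.Limits AlgebraicGeometry
open EGA2

namespace Groth.Agent.S2335


/-- Let Y be locally Noetherian and f : X → Y of finite type. Then f is proper if and only if for every
discrete valuation ring A with fraction field K and every commutative square Spec K → X, Spec A → Y,
there is exactly one morphism Spec A → X making both triangles commute. -/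
theorem result {X Y : Scheme.{u}} [IsLocallyNoetherian Y] (f : X ⟶ Y) [LocallyOfFiniteType f] [QuasiCompact f] :
    IsProper f ↔ ∀ (A : Type u) [CommRing A] [IsDomain A] [IsDiscreteValuationRing A] (x : (Spec (CommRingCat.of (FractionRing A))) ⟶ X) (y : (Spec (CommRingCat.of A)) ⟶ Y),
      x ≫ f = (Spec.map (CommRingCat.ofHom (algebraMap A (FractionRing A)))) ≫ y → ∃! l : (Spec (CommRingCat.of A)) ⟶ X, l ≫ f = y ∧ (Spec.map (CommRingCat.ofHom (algebraMap A (FractionRing A)))) ≫ l = x := by
  constructor
  · intro hP A _ _ _ x y hxy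
    let S : ValuativeCommSq f :=
      { R := A, K := FractionRing A, i₁ := x, i₂ := y, commSq := ⟨hxy⟩ }
    have hE : ValuativeCriterion.Existence f := by
      have h1 : (ValuativeCriterion.Existence ⊓ @QuasiCompact) f :=
        UniversallyClosed.eq_valuativeCriterion ▸ (inferInstance : UniversallyClosed f)
      exact h1.1
    obtain ⟨⟨l⟩⟩ := hE S
    have hsub : Subsingleton S.commSq.LiftStruct := IsSeparated.valuativeCriterion f S
    refine ⟨l.l, ⟨l.fac_right, l.fac_left⟩, fun l' hl' => ?_⟩
    exact congrArg CommSq.LiftStruct.l (Subsingleton.elim ⟨l', hl'.2, hl'.1⟩ l)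
  · intro H
    have hsep : IsSeparated f := (Groth.Agent.S2334.result f).mpr (by
      intro A _ _ _ g₁ g₂ h1 h2
      obtain ⟨l, _, hl⟩ := H A (Spec.map (CommRingCat.ofHom (algebraMap A (FractionRing A))) ≫ g₁)
        (g₁ ≫ f) (by rw [Category.assoc])
      rw [hl g₁ ⟨rfl, rfl⟩, hl g₂ ⟨h1.symm, h2.symm⟩])
    have huc : UniversallyClosed f :=
      Groth.Agent.Helper9.DVRCrit.universallyClosed_of_dvrExistence f
        (fun A _ _ _ x y hxy => (H A x y hxy).exists)
    exact { }

end Groth.Agent.S2335
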