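import Groth.Statements.S4373
import Mathlib
import Groth.Agent.S2127
import Groth.Agent.S3584

set_option autoImplicit false
universe u
open CategoryTheory CategoryTheory.Limits AlgebraicGeometry
open EGA2

namespace Groth.Agent.S4373


open CategoryTheory CategoryTheory.Limits AlgebraicGeometry TopologicalSpace Opposite

section Aux

theorem genLocus_comp_iso {X : Scheme.{u}} {L M : X.Modules} (s : Coh.structureModule X ⟶ L)
    (e : L ≅ M) : CohB1.genLocus M (s ≫ e.hom) = CohB1.genLocus L s := by
  unfold CohB1.genLocus
  congr 1
  ext U
  simp only [Set.mem_setOf_eq, Functor.map_comp]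
  exact isIso_comp_right_iff _ _

end Aux


/-- Let X be a quasi-affine scheme and L an invertible O_X-module. Then L is ample. (The published
statement also asserts that L is very ample for the canonical morphism to the spectrum of the global
sections; that part is not stated here.) -/
theorem result (X : Scheme.{u}) [X.IsQuasiAffine] (L : X.Modules)
    (hL : PicF.IsInvertible L) : CohB1.IsAmple L := by
  unfold CohB1.IsAmple
  refine ⟨hL, inferInstance, fun x => ?_⟩
  obtain ⟨s, haff, hE, -⟩ := Groth.Agent.S2127.result L hL ⊤ {x} (Set.finite_singleton x)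
    (fun y _ => (show y ∈ (⊤ : X.Opens) from trivial))
  have hg : CohB1.genLocus (CohB1.tensorPow L (0 + 1))
      (s ≫ (Groth.Agent.S3584.e1 L).symm.hom) = CohB1.genLocus L s :=
    genLocus_comp_iso s (Groth.Agent.S3584.e1 L).symm
  refine ⟨0, s ≫ (Groth.Agent.S3584.e1 L).symm.hom, ?_, ?_⟩
  · exact (congrArg (fun V : X.Opens => x ∈ V) hg).mpr (hE (Set.mem_singleton x))
  · exact (congrArg (fun V : X.Opens => IsAffineOpen V) hg).mpr haff

end Groth.Agent.S4373
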