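import Groth.Statements.S2336
import Mathlib
import Groth.Agent.S4373
import Groth.Agent.Lib.Helper4.GenLocus
import Groth.Agent.S3584

set_option autoImplicit false
universe u
open CategoryTheory CategoryTheory.Limits AlgebraicGeometry
open EGA2

namespace Groth.Agent.S2336


open CategoryTheory CategoryTheory.Limits AlgebraicGeometry TopologicalSpace Opposite MonoidalCategory
open Groth.Agent.Helper4.GenLocus
open Groth.Agent.Lead.FinType

section Aux

theorem invO (X : Scheme.{u}) : PicF.IsInvertible (Coh.structureModule X) := by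
  intro y
  exact ⟨⊤, trivial, ⟨Scheme.Modules.restrictUnitIso (⊤ : X.Opens).ι⟩⟩

noncomputable def wr {X : Scheme.{u}} {A A' : X.Modules} (e : A ≅ A') (B : X.Modules) :
    CohB1.toPMod A ⊗ CohB1.toPMod B ≅ CohB1.toPMod A' ⊗ CohB1.toPMod B :=
  whiskerRightIso (show CohB1.toPMod A ≅ CohB1.toPMod A' from
    (SheafOfModules.forget X.ringCatSheaf).mapIso e) (CohB1.toPMod B)

noncomputable def wr2 {X : Scheme.{u}} {A A' : X.Modules} (e : A ≅ A') (B : X.Modules) :
    (show X.PresheafOfModules from CohB1.tensorPre A B) ≅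
      (show X.PresheafOfModules from CohB1.tensorPre A' B) := wr e B

noncomputable def tensL {X : Scheme.{u}} {A A' : X.Modules} (e : A ≅ A') (B : X.Modules) :
    CohB1.tensorMod A B ≅ CohB1.tensorMod A' B :=
  (CohB1.sheafifyMod X).mapIso (wr2 e B)

noncomputable def tauL {X : Scheme.{u}} {L : X.Modules} (e : L ≅ Coh.structureModule X) :
    (n : ℕ) → (CohB1.tensorPow L n ≅ Coh.structureModule X)
  | 0 => Iso.refl _
  | n + 1 =>
    (show CohB1.tensorPow L (n + 1) ≅ CohB1.tensorMod (Coh.structureModule X) L from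
      tensL (tauL e n) L) ≪≫
    (show CohB1.tensorMod (Coh.structureModule X) L ≅ L from Groth.Agent.S3584.e1 L) ≪≫ e

theorem genLocus_unit_eq_basicOpen {X : Scheme.{u}}
    (t : Coh.structureModule X ⟶ Coh.structureModule X) :
    ∃ r : Γ(X, ⊤), CohB1.genLocus (Coh.structureModule X) t = X.basicOpen r := by
  obtain ⟨e⟩ : Nonempty ((Coh.structureModule X).restrict (⊤ : X.Opens).ι ≅
      unitM ((⊤ : X.Opens) : Scheme.{u})) :=
    ⟨Scheme.Modules.restrictUnitIso (⊤ : X.Opens).ι⟩
  have hUT : (⊤ : X.Opens) ≤ (⊤ : X.Opens).ι ''ᵁ (⊤ : ((⊤ : X.Opens) : Scheme.{u}).Opens) :=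
    (⊤ : X.Opens).ι_image_top.ge
  obtain ⟨fW, hfW⟩ : ∃ fW : Γ(X, ⊤), fW =
      X.presheaf.map (homOfLE hUT).op (fsec (Coh.structureModule X) t ⊤ e) := ⟨_, rfl⟩
  have hgerm : ∀ (y : X) (hy : y ∈ (⊤ : X.Opens)), X.presheaf.germ ⊤ y hy fW =
      X.presheaf.germ ((⊤ : X.Opens).ι ''ᵁ ⊤) y (mem_T ⊤ hy)
        (fsec (Coh.structureModule X) t ⊤ e) := by
    intro y hy
    rw [hfW]
    exact TopCat.Presheaf.germ_res_apply X.presheaf _ y hy _
  refine ⟨fW, ?_⟩
  apply le_antisymm
  · intro y hy
    have hP := bijective_of_mem_genLocus (Coh.structureModule X) t y hy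
    have hu := (bijective_iff_isUnit (Coh.structureModule X) t ⊤ e y trivial).mp hP
    rw [X.mem_basicOpen fW y trivial, hgerm y trivial]
    exact hu
  · intro y hy
    apply le_genLocus (Coh.structureModule X) t (X.basicOpen fW) ?_ hy
    intro z hz
    apply (bijective_iff_isUnit (Coh.structureModule X) t ⊤ e z trivial).mpr
    have h1 := (X.mem_basicOpen fW z trivial).mp hz
    rwa [hgerm z trivial] at h1

theorem qaff_of_ample {X : Scheme.{u}} (L : X.Modules) (e : L ≅ Coh.structureModule X)
    (h : CohB1.IsAmple L) : X.IsQuasiAffine := by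
  obtain ⟨-, hc, hcov⟩ := h
  haveI := hc
  refine Scheme.IsQuasiAffine.of_forall_exists_mem_basicOpen X fun x => ?_
  obtain ⟨n, s, hx, haff⟩ := hcov x
  obtain ⟨r, hr⟩ := genLocus_unit_eq_basicOpen (s ≫ (tauL e (n + 1)).hom)
  have hg := Groth.Agent.S4373.genLocus_comp_iso s (tauL e (n + 1))
  rw [hg] at hr
  refine ⟨r, ?_, ?_⟩
  · rw [← hr]; exact haff
  · rw [← hr]; exact hx

end Aux


/-- Let X be a quasi-compact separated scheme (the source also allows a prescheme with Noetherian
underlying space). Then X is quasi-affine if and only if O_X is an ample invertible module. -/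
theorem result (X : Scheme.{u}) [CompactSpace X] [X.IsSeparated] :
    X.IsQuasiAffine ↔ CohB1.IsAmple (Coh.structureModule X) := by
  constructor
  · intro h
    haveI := h
    exact Groth.Agent.S4373.result X _ (invO X)
  · intro h
    exact qaff_of_ample _ (Iso.refl _) h

end Groth.Agent.S2336
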