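import Groth.Statements.S2337
import Mathlib
import Groth.Agent.S2127
import Groth.Agent.S3584
import Groth.Agent.S12453
import Groth.Agent.H28.ParaFLocal
import Groth.Agent.Lib.Helper4.GenLocus

set_option autoImplicit false
universe u
open CategoryTheory CategoryTheory.Limits AlgebraicGeometry
open EGA2

namespace Groth.Agent.S2337

section Helpers
open CategoryTheory CategoryTheory.Limits AlgebraicGeometry TopologicalSpace Opposite

lemma ample_of_qaff2337 {X : Scheme.{u}} (W : X.Opens) [W.toScheme.IsQuasiAffine] :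
    CohB1.IsAmple ((Coh.structureModule X).restrict W.ι) := by
  have hM : PicF.IsInvertible ((Coh.structureModule X).restrict W.ι) :=
    Groth.Agent.H28.ParaFAux.isInvertible_restrict _ _
      (Groth.Agent.H28.ParaFLocal.isInvertible_unit _)
  refine ⟨hM, inferInstance, fun x => ?_⟩
  have hM1 : PicF.IsInvertible (CohB1.tensorPow ((Coh.structureModule X).restrict W.ι) 1) :=
    Groth.Agent.H28.ParaFAux.isInvertible_of_iso (Groth.Agent.S3584.e1 _).symm hM
  obtain ⟨s, hs1, hs2, -⟩ := Groth.Agent.S2127.result _ hM1 ⊤ {x} (Set.finite_singleton x)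
    (fun _ _ => trivial)
  exact ⟨0, s, hs2 (Set.mem_singleton x), hs1⟩

lemma tensorPow_iso2337 {Y : Scheme.{u}} (M : Y.Modules) (e0 : M ≅ Coh.structureModule Y) :
    ∀ k : ℕ, Nonempty (CohB1.tensorPow M (k + 1) ≅ Coh.structureModule Y) := by
  intro k
  induction k with
  | zero => exact ⟨Groth.Agent.S3584.e1 M ≪≫ e0⟩
  | succ k ih =>
    obtain ⟨ψ⟩ := ih
    have e1 : CohB1.tensorPow M (k + 1 + 1) ≅ CohB1.tensorPow M 1 :=
      Groth.Agent.S12453.tensorModIsoLeft ψ M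
    exact ⟨e1 ≪≫ Groth.Agent.S3584.e1 M ≪≫ e0⟩

lemma qaff_of_ample2337 {Y : Scheme.{u}} (M : Y.Modules) (e0 : M ≅ Coh.structureModule Y)
    (h : CohB1.IsAmple M) : Y.IsQuasiAffine := by
  obtain ⟨-, hcpt, hsec⟩ := h
  haveI := hcpt
  refine Scheme.IsQuasiAffine.of_forall_exists_mem_basicOpen Y fun x => ?_
  obtain ⟨n, s, hxs, haff⟩ := hsec x
  obtain ⟨φn⟩ := tensorPow_iso2337 M e0 n
  obtain ⟨e⟩ : Nonempty ((CohB1.tensorPow M (n + 1)).restrict (⊤ : Y.Opens).ι ≅
      Groth.Agent.Lead.FinType.unitM ((⊤ : Y.Opens) : Scheme.{u})) :=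
    ⟨(Scheme.Modules.restrictFunctor (⊤ : Y.Opens).ι).mapIso φn ≪≫
      Scheme.Modules.restrictUnitIso (⊤ : Y.Opens).ι⟩
  have hgl : CohB1.genLocus (CohB1.tensorPow M (n + 1)) s =
      Y.basicOpen (Groth.Agent.Helper4.GenLocus.fsec (CohB1.tensorPow M (n + 1)) s ⊤ e) := by
    apply le_antisymm
    · intro y hy
      have hb := Groth.Agent.Helper4.GenLocus.bijective_of_mem_genLocus _ s y hy
      exact (Y.mem_basicOpen _ y (Groth.Agent.Helper4.GenLocus.mem_T ⊤ trivial)).mpr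
        ((Groth.Agent.Helper4.GenLocus.bijective_iff_isUnit _ s ⊤ e y trivial).mp hb)
    · refine Groth.Agent.Helper4.GenLocus.le_genLocus _ s _ fun y hy => ?_
      exact (Groth.Agent.Helper4.GenLocus.bijective_iff_isUnit _ s ⊤ e y trivial).mpr
        ((Y.mem_basicOpen _ y (Groth.Agent.Helper4.GenLocus.mem_T ⊤ trivial)).mp hy)
  have hle : (⊤ : Y.Opens) ≤ (⊤ : Y.Opens).ι ''ᵁ (⊤ : ((⊤ : Y.Opens) : Scheme.{u}).Opens) :=
    (Scheme.Opens.ι_image_top (⊤ : Y.Opens)).ge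
  have hr : Y.basicOpen (Y.presheaf.map (homOfLE hle).op
      (Groth.Agent.Helper4.GenLocus.fsec (CohB1.tensorPow M (n + 1)) s ⊤ e)) =
      Y.basicOpen (Groth.Agent.Helper4.GenLocus.fsec (CohB1.tensorPow M (n + 1)) s ⊤ e) := by
    rw [Scheme.basicOpen_res, top_inf_eq]
  refine ⟨Y.presheaf.map (homOfLE hle).op
      (Groth.Agent.Helper4.GenLocus.fsec (CohB1.tensorPow M (n + 1)) s ⊤ e), ?_, ?_⟩
  · rw [hr, ← hgl]; exact haff
  · rw [hr, ← hgl]; exact hxs

end Helpers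

/-- Let f : X → Y be quasi-compact. Then f is quasi-affine (preimages of affine opens are quasi-affine)
if and only if O_X is ample relative to f. -/
theorem result {X Y : Scheme.{u}} (f : X ⟶ Y) [QuasiCompact f] :
    Mor2.IsQuasiAffine f ↔ RelAmple.IsRelAmple f (Coh.structureModule X) := by
  constructor
  · rintro ⟨hqc, h⟩
    refine ⟨hqc, fun V => ?_⟩
    haveI := h V.1 V.2
    exact ample_of_qaff2337 (f ⁻¹ᵁ V.1)
  · rintro ⟨hqc, h⟩
    refine ⟨hqc, fun V hV => ?_⟩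
    exact qaff_of_ample2337 _ (Scheme.Modules.restrictUnitIso (f ⁻¹ᵁ V).ι) (h ⟨V, hV⟩)

end Groth.Agent.S2337
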