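import Groth.Statements.S2338
import Mathlib

set_option autoImplicit false
universe u
open CategoryTheory CategoryTheory.Limits AlgebraicGeometry
open EGA2

namespace Groth.Agent.S2338

theorem isQuasiAffine_of_iso {X Y : Scheme.{u}} (e : X ≅ Y) [Y.IsQuasiAffine] :
    X.IsQuasiAffine := by
  haveI : CompactSpace X := (Scheme.homeoOfIso e).symm.compactSpace
  exact Scheme.IsQuasiAffine.of_isImmersion e.hom

theorem step {X Y : Scheme.{u}} (f : X ⟶ Y) (hf : Mor2.IsQuasiAffine f) (W : Y.Opens)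
    [hW : (W : Scheme.{u}).IsQuasiAffine] : (f ⁻¹ᵁ W : Scheme.{u}).IsQuasiAffine := by
  haveI := hf.1
  have hWc : IsCompact (W : Set Y) := by
    have h1 : CompactSpace (W : Scheme.{u}) := hW.toCompactSpace
    exact isCompact_iff_compactSpace.mpr h1
  haveI : CompactSpace (f ⁻¹ᵁ W : Scheme.{u}) := by
    have h2 := isCompact_iff_compactSpace.mp (f.isCompact_preimage (U := W) hWc)
    exact h2
  have key : ∀ x : (f ⁻¹ᵁ W : Scheme.{u}), ∃ t : Γ((f ⁻¹ᵁ W : Scheme.{u}), ⊤),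
      x ∈ (f ⁻¹ᵁ W : Scheme.{u}).basicOpen t ∧
      (((f ⁻¹ᵁ W : Scheme.{u}).basicOpen t : Scheme.{u})).IsQuasiAffine := by
    intro x
    obtain ⟨_, ⟨_, ⟨s, hs, rfl⟩, rfl⟩, hxs, -⟩ :=
      (Scheme.IsQuasiAffine.isBasis_basicOpen (W : Scheme.{u})).exists_subset_of_mem_open
        (Set.mem_univ ((f ∣_ W) x)) isOpen_univ
    refine ⟨(f ∣_ W).appTop s, ?_, ?_⟩
    · rw [← Scheme.preimage_basicOpen_top]; exact hxs
    · rw [← Scheme.preimage_basicOpen_top]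
      have hD : IsAffineOpen (W.ι ''ᵁ (W : Scheme.{u}).basicOpen s) :=
        hs.image_of_isOpenImmersion W.ι
      haveI : (f ⁻¹ᵁ (W.ι ''ᵁ (W : Scheme.{u}).basicOpen s) : Scheme.{u}).IsQuasiAffine :=
        hf.2 _ hD
      haveI : (((f ⁻¹ᵁ W).ι ''ᵁ ((f ∣_ W) ⁻¹ᵁ (W : Scheme.{u}).basicOpen s) : X.Opens) :
          Scheme.{u}).IsQuasiAffine := by
        rw [image_morphismRestrict_preimage]; infer_instance
      exact isQuasiAffine_of_iso ((f ⁻¹ᵁ W).ι.isoImage _)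
  choose t hxt hqa using key
  haveI : QuasiSeparatedSpace (f ⁻¹ᵁ W : Scheme.{u}) := by
    refine QuasiSeparatedSpace.of_isOpenCover
      (U := fun x => (f ⁻¹ᵁ W : Scheme.{u}).basicOpen (t x))
      (eq_top_iff.mpr fun x _ ↦ TopologicalSpace.Opens.mem_iSup.mpr ⟨x, hxt x⟩)
      (fun _ ↦ isRetrocompact_basicOpen _) (fun x ↦ ?_)
    rw [isQuasiSeparated_iff_quasiSeparatedSpace _ (TopologicalSpace.Opens.isOpen _)]
    haveI := hqa x
    have h3 : QuasiSeparatedSpace (((f ⁻¹ᵁ W : Scheme.{u}).basicOpen (t x) : Scheme.{u})) :=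
      (Scheme.toSpecΓ _).isOpenEmbedding.quasiSeparatedSpace
    exact h3
  refine Scheme.IsQuasiAffine.of_forall_exists_mem_basicOpen _ fun x ↦ ?_
  haveI := hqa x
  obtain ⟨_, ⟨_, ⟨r₁, hr₁, rfl⟩, rfl⟩, hxr, -⟩ :=
    (Scheme.IsQuasiAffine.isBasis_basicOpen
      (((f ⁻¹ᵁ W : Scheme.{u}).basicOpen (t x)) : Scheme.{u})).exists_subset_of_mem_open
      (Set.mem_univ (⟨x, hxt x⟩ : ↥((f ⁻¹ᵁ W : Scheme.{u}).basicOpen (t x)))) isOpen_univ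
  obtain ⟨r₁', hr₁'⟩ : ∃ r₁' : Γ((f ⁻¹ᵁ W : Scheme.{u}), (f ⁻¹ᵁ W : Scheme.{u}).basicOpen (t x)),
      r₁' = (f ⁻¹ᵁ W : Scheme.{u}).presheaf.map
        (eqToHom ((f ⁻¹ᵁ W : Scheme.{u}).basicOpen (t x)).ι_image_top.symm).op r₁ := ⟨_, rfl⟩
  obtain ⟨n, y, hy⟩ := exists_eq_pow_mul_of_isCompact_of_isQuasiSeparated (f ⁻¹ᵁ W : Scheme.{u}) ⊤
    isCompact_univ isQuasiSeparated_univ (t x) r₁'
  simp only [TopCat.Presheaf.restrictOpenCommRingCat_apply] at hy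
  have hbo : (f ⁻¹ᵁ W : Scheme.{u}).basicOpen (t x * y)
      = ((f ⁻¹ᵁ W : Scheme.{u}).basicOpen (t x)).ι ''ᵁ
        (((f ⁻¹ᵁ W : Scheme.{u}).basicOpen (t x) : Scheme.{u})).basicOpen r₁ := by
    rw [Scheme.Opens.ι_image_basicOpen, Scheme.basicOpen_mul]
    have h1 := Scheme.basicOpen_res (f ⁻¹ᵁ W : Scheme.{u}) y
      (homOfLE (le_top : (f ⁻¹ᵁ W : Scheme.{u}).basicOpen (t x) ≤ ⊤)).op
    rw [← h1, hy, Scheme.basicOpen_mul]
    have h2 : (f ⁻¹ᵁ W : Scheme.{u}).basicOpen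
        (((f ⁻¹ᵁ W : Scheme.{u}).presheaf.map
          (homOfLE (le_top : (f ⁻¹ᵁ W : Scheme.{u}).basicOpen (t x) ≤ ⊤)).op (t x)) ^ n)
        = (f ⁻¹ᵁ W : Scheme.{u}).basicOpen (t x) := by
      apply Scheme.basicOpen_of_isUnit
      exact (RingedSpace.isUnit_res_basicOpen _ (t x)).pow n
    have h3 : (f ⁻¹ᵁ W : Scheme.{u}).basicOpen r₁' = (f ⁻¹ᵁ W : Scheme.{u}).basicOpen r₁ := by
      rw [hr₁']
      exact Scheme.basicOpen_res_eq _ _ _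
    rw [h2, inf_eq_right.mpr (Scheme.basicOpen_le _ r₁'), h3]
  refine ⟨t x * y, ?_, ?_⟩
  · rw [hbo]
    exact hr₁.image_of_isOpenImmersion _
  · rw [hbo]
    exact ⟨⟨x, hxt x⟩, hxr, rfl⟩


/-- The composite of two quasi-affine morphisms is quasi-affine. -/
theorem result {X Y Z : Scheme.{u}} (f : X ⟶ Y) (g : Y ⟶ Z) (hf : Mor2.IsQuasiAffine f) (hg : Mor2.IsQuasiAffine g) :
    Mor2.IsQuasiAffine (f ≫ g) := by
  obtain ⟨hfc, hfq⟩ := hf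
  obtain ⟨hgc, hgq⟩ := hg
  haveI := hfc
  haveI := hgc
  refine ⟨inferInstance, fun V hV => ?_⟩
  haveI : (g ⁻¹ᵁ V : Scheme.{u}).IsQuasiAffine := hgq V hV
  exact step f ⟨hfc, hfq⟩ (g ⁻¹ᵁ V)

end Groth.Agent.S2338
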