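import Groth.Statements.S2341
import Mathlib

set_option autoImplicit false
universe u
open CategoryTheory CategoryTheory.Limits AlgebraicGeometry
open EGA2

namespace Groth.Agent.S2341

private lemma quasiAffine_of_embedding {X Y : Scheme.{u}} (g : X ⟶ Y) [IsAffine Y]
    [QuasiCompact g] (hg : Topology.IsEmbedding g.base) : X.IsQuasiAffine := by
  haveI : CompactSpace X := QuasiCompact.compactSpace_of_compactSpace g
  refine .of_forall_exists_mem_basicOpen _ fun x => ?_
  obtain ⟨U, hU, hxU, -⟩ := exists_isAffineOpen_mem_and_subset (x := x) (U := ⊤) trivial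
  obtain ⟨W, hWo, hWU⟩ := hg.isInducing.isOpen_iff.mp U.isOpen
  have hgx : g.base x ∈ W := by
    have h1 : x ∈ g.base ⁻¹' W := by rw [hWU]; exact hxU
    exact h1
  obtain ⟨r, hr2, hr1⟩ := (isAffineOpen_top Y).exists_basicOpen_le
    (V := ⟨W, hWo⟩) ⟨g.base x, hgx⟩ trivial
  have hpre : g ⁻¹ᵁ Y.basicOpen r = X.basicOpen (g.appTop r) := Scheme.preimage_basicOpen_top g r
  refine ⟨g.appTop r, ?_, ?_⟩
  · have hsub : X.basicOpen (g.appTop r) ≤ U := by
      rw [← hpre]
      intro z hz
      have h1 : g.base z ∈ W := hr2 hz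
      show z ∈ (U : Set X)
      rw [← hWU]
      exact h1
    have h1 : X.basicOpen (X.presheaf.map (homOfLE (le_top : U ≤ ⊤)).op (g.appTop r)) =
        X.basicOpen (g.appTop r) := by
      rw [Scheme.basicOpen_res]
      exact inf_eq_right.mpr hsub
    rw [← h1]
    exact hU.basicOpen _
  · rw [← hpre]
    exact hr1

/-- A quasi-compact morphism X → Y whose underlying map is a homeomorphism onto its image (for instance
a closed immersion) is quasi-affine. -/
theorem result {X Y : Scheme.{u}} (f : X ⟶ Y) [QuasiCompact f]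
    (hf : Topology.IsEmbedding f.base) : Mor2.IsQuasiAffine f := by
  refine ⟨inferInstance, fun V hV => ?_⟩
  haveI : IsAffine (V : Scheme.{u}) := hV
  have hemb : Topology.IsEmbedding (f ∣_ V).base := by
    have h1 : ⇑(f ∣_ V).base = (V : Set Y).restrictPreimage f.base := morphismRestrict_base f V
    rw [h1]
    exact hf.restrictPreimage _
  exact quasiAffine_of_embedding (f ∣_ V) hemb

end Groth.Agent.S2341
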