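import Mathlib
import Groth.Statements.S2342
import Groth.Agent.S4439
-- import your own Groth.Agent.* helpers here

set_option autoImplicit false
universe u
open CategoryTheory CategoryTheory.Limits AlgebraicGeometry
open EGA2

namespace Groth.Agent.S2342


/-- Let A be a valuation ring with Y = Spec A, X an integral separated scheme and f : X → Y a morphism
which is closed as a map of topological spaces, such that the fibre over the generic point of Y
consists of exactly one point x and the induced map from the residue field of the generic point of Y
to that of x is bijective. Then f is an isomorphism. -/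
theorem result (A : Type u) [CommRing A] [IsDomain A] [ValuationRing A]
    (X : Scheme.{u}) [IsIntegral X] [X.IsSeparated] (f : X ⟶ Spec (CommRingCat.of A)) (hf : IsClosedMap f.base)
    (x : X) (hx : f.base ⁻¹' {genericPoint (Spec (CommRingCat.of A))} = {x})
    (hres : Function.Bijective (f.residueFieldMap x).hom) : IsIso f := by
  let g₀ : Spec (CommRingCat.of (FractionRing A)) ⟶ Spec (CommRingCat.of A) :=
    Spec.map (CommRingCat.ofHom (algebraMap A (FractionRing A)))
  have hfx : f x = genericPoint (Spec (CommRingCat.of A)) := by
    have h0 : x ∈ f.base ⁻¹' {genericPoint (Spec (CommRingCat.of A))} := by rw [hx]; rfl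
    exact h0
  have hg₀ : g₀ (IsLocalRing.closedPoint (FractionRing A)) =
      genericPoint (Spec (CommRingCat.of A)) := by
    rw [genericPoint_eq_bot_of_affine]
    apply PrimeSpectrum.ext
    show Ideal.comap (algebraMap A (FractionRing A))
      (IsLocalRing.maximalIdeal (FractionRing A)) = ⊥
    rw [IsLocalRing.maximalIdeal_eq_bot,
      Ideal.comap_bot_of_injective _ (IsFractionRing.injective A (FractionRing A))]
  have e : f x = g₀ (IsLocalRing.closedPoint (FractionRing A)) := hfx.trans hg₀.symm
  haveI : IsIso (f.residueFieldMap x) := (ConcreteCategory.isIso_iff_bijective _).mpr hres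
  let ψ : X.residueField x ⟶ CommRingCat.of (FractionRing A) :=
    inv (f.residueFieldMap x) ≫ ((Spec (CommRingCat.of A)).residueFieldCongr e).hom ≫
      (Spec (CommRingCat.of A)).descResidueField (Scheme.stalkClosedPointTo g₀)
  let xK : Spec (CommRingCat.of (FractionRing A)) ⟶ X := Spec.map ψ ≫ X.fromSpecResidueField x
  have hxK : xK ≫ f = g₀ := by
    simp only [xK, ψ, Category.assoc]
    rw [← Scheme.Hom.SpecMap_residueFieldMap_fromSpecResidueField, ← Spec.map_comp_assoc,
      IsIso.hom_inv_id_assoc, Spec.map_comp, Category.assoc,
      Scheme.residueFieldCongr_fromSpecResidueField]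
    exact Scheme.descResidueField_stalkClosedPointTo_fromSpecResidueField (FractionRing A) _ g₀
  haveI : IsSeparated f := inferInstance
  obtain ⟨s, ⟨hs1, hs2⟩, -⟩ := Groth.Agent.S4439.result A (FractionRing A) X f hf xK hxK
  have hgen : x = genericPoint X := by
    have h1 : f (genericPoint X) ⤳ f x := (genericPoint_specializes x).map f.continuous
    have h2 : f x ⤳ f (genericPoint X) := by
      rw [hfx]; exact genericPoint_specializes _
    have h3 : f (genericPoint X) = f x := (h1.antisymm h2).eq
    have h4 : genericPoint X ∈ f.base ⁻¹' {genericPoint (Spec (CommRingCat.of A))} := by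
      show f (genericPoint X) = _
      rw [h3, hfx]
    rw [hx] at h4
    exact h4.symm
  haveI : IsDominant xK := by
    refine ⟨Dense.mono ?_ (dense_iff_closure_eq.mpr (genericPoint_spec X))⟩
    rintro _ rfl
    refine ⟨IsLocalRing.closedPoint (FractionRing A), ?_⟩
    rw [← hgen]
    show (Spec.map ψ ≫ X.fromSpecResidueField x) _ = x
    rw [Scheme.Hom.comp_apply, Scheme.fromSpecResidueField_apply]
  have hfs : f ≫ s = 𝟙 X := by
    apply ext_of_isDominant xK
    rw [← Category.assoc, hxK, hs2, Category.comp_id]
  exact ⟨s, hfs, hs1⟩

end Groth.Agent.S2342
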