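import Mathlib
import Groth.Statements.S2343
import Groth.Agent.Lib.Helper9.FinSplit3
-- import your own Groth.Agent.* helpers here

set_option autoImplicit false
universe u
open CategoryTheory CategoryTheory.Limits AlgebraicGeometry
open EGA2

namespace Groth.Agent.S2343

open Groth.Agent.Helper9

/-- Let A be a complete Noetherian local ring, X a separated scheme locally of finite type over Spec A,
and x a point of X over the closed point which is isolated in its fibre. Then the local ring of X at
x is a finite A-module and the canonical morphism Spec O_{X,x} → X is both an open and a closed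
immersion (X is the disjoint sum of Spec O_{X,x} and another open subscheme). -/
theorem result (A : Type u) [CommRing A] [IsLocalRing A] [IsNoetherianRing A]
    [IsAdicComplete (IsLocalRing.maximalIdeal A) A] (X : Scheme.{u}) (f : X ⟶ Spec (CommRingCat.of A)) [LocallyOfFiniteType f] [IsSeparated f]
    (x : X) (hx : f.base x = IsLocalRing.closedPoint A)
    (hisol : IsOpen ((Subtype.val : (f.base ⁻¹' {IsLocalRing.closedPoint A}) → X) ⁻¹' {x})) :
    ((Scheme.ΓSpecIso (CommRingCat.of A)).inv ≫ f.appTop ≫ X.presheaf.germ ⊤ x trivial).hom.Finite ∧ IsOpenImmersion (X.fromSpecStalk x) ∧ IsClosedImmersion (X.fromSpecStalk x) := by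
  have hqf : f.QuasiFiniteAt x := FinSplit.quasiFiniteAt_of_isolated f x _ hx hisol
  obtain ⟨N, hN, hNeq⟩ := isOpen_induced_iff.mp hisol
  have hxN : x ∈ N := by
    have : (⟨x, hx⟩ : ↥(f.base ⁻¹' {IsLocalRing.closedPoint A})) ∈ Subtype.val ⁻¹' N := by
      rw [hNeq]; rfl
    exact this
  have hNfib : ∀ y ∈ N, f.base y = IsLocalRing.closedPoint A → y = x := by
    intro y hy hfy
    have : (⟨y, hfy⟩ : ↥(f.base ⁻¹' {IsLocalRing.closedPoint A})) ∈
        Subtype.val ⁻¹' ({x} : Set X) := by rw [← hNeq]; exact hy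
    exact this
  obtain ⟨_, ⟨W : X.Opens, hW, rfl⟩, hxW, hWsub⟩ := X.isBasis_affineOpens.exists_subset_of_mem_open
    (show x ∈ (N ∩ (f.quasiFiniteLocus : Set X)) from ⟨hxN, hqf⟩)
    (hN.inter f.quasiFiniteLocus.isOpen)
  have hWq : W ≤ f.quasiFiniteLocus := fun y hy => (hWsub hy).2
  haveI : LocallyQuasiFinite (W.ι ≫ f) := by
    rw [← X.homOfLE_ι hWq, Category.assoc]; infer_instance
  obtain ⟨U, hUW, hU, hfin, hfinr, hcl, hfib⟩ := FinSplit.core A X f W hW
  have hxU : x ∈ U := hfib x hxW hx
  have hUfib : ∀ y ∈ U, f.base y = IsLocalRing.closedPoint A → y = x :=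
    fun y hy => hNfib y (hWsub (hUW hy)).1
  have hK : ∀ y ∈ U, y ⤳ x := by
    intro y hy
    haveI := hfin
    have hcm := (U.ι ≫ f).isClosedMap
    have hsp : (U.ι ≫ f) ⟨y, hy⟩ ⤳ IsLocalRing.closedPoint A :=
      IsLocalRing.specializes_closedPoint _
    obtain ⟨a', ha', hfa'⟩ := hcm.specializingMap hsp
    have h1 : a'.1 = x := hUfib a'.1 a'.2 (by rw [← hfa']; rfl)
    have h2 : y ⤳ a'.1 := ha'.map continuous_subtype_val
    rwa [h1] at h2
  have hinj : Function.Injective (X.presheaf.germ U x hxU).hom := by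
    rw [injective_iff_map_eq_zero]
    intro b hb
    obtain ⟨V, hxV, iU, iV, heq⟩ := TopCat.Presheaf.germ_eq X.presheaf x hxU hxU b 0
      (by rw [map_zero]; exact hb)
    have hUV : U ≤ V := fun y hy => (hK y hy).mem_open V.isOpen hxV
    have h1 : b = (X.presheaf.map (homOfLE hUV).op).hom ((X.presheaf.map iU.op).hom b) := by
      rw [← CommRingCat.comp_apply, ← Functor.map_comp]
      have h2 : iU.op ≫ (homOfLE hUV).op = 𝟙 (Opposite.op U) := Subsingleton.elim _ _
      rw [h2, X.presheaf.map_id]; rfl
    rw [h1]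
    have h3 : (X.presheaf.map iU.op).hom b = 0 := by
      have := heq; rw [map_zero] at this; exact this
    rw [h3, map_zero]
  have hsurj : Function.Surjective (X.presheaf.germ U x hxU).hom := by
    intro s
    obtain ⟨V, hxV, t, ht⟩ := TopCat.Presheaf.exists_germ_eq X.presheaf s
    have hUV : U ≤ V := fun y hy => (hK y hy).mem_open V.isOpen hxV
    refine ⟨(X.presheaf.map (homOfLE hUV).op).hom t, ?_⟩
    rw [← ht]
    exact TopCat.Presheaf.germ_res_apply X.presheaf (homOfLE hUV) x hxU t
  haveI : IsIso (X.presheaf.germ U x hxU) :=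
    (ConcreteCategory.isIso_iff_bijective _).mpr ⟨hinj, hsurj⟩
  have hfs : X.fromSpecStalk x = Spec.map (X.presheaf.germ U x hxU) ≫ hU.fromSpec :=
    (hU.fromSpecStalk_eq_fromSpecStalk hxU).symm
  haveI : IsOpenImmersion (X.fromSpecStalk x) := by rw [hfs]; infer_instance
  refine ⟨?_, inferInstance, ?_⟩
  · have h1 : (Scheme.ΓSpecIso (CommRingCat.of A)).inv ≫ f.appTop ≫ X.presheaf.germ ⊤ x trivial =
        (Scheme.ΓSpecIso (CommRingCat.of A)).inv ≫ f.appLE ⊤ U le_top ≫
          X.presheaf.germ U x hxU := by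
      rw [Scheme.Hom.appLE, Category.assoc, TopCat.Presheaf.germ_res]; rfl
    rw [h1, CommRingCat.hom_comp, CommRingCat.hom_comp]
    refine RingHom.Finite.comp ((RingHom.Finite.of_surjective _ hsurj).comp hfinr)
      (RingHom.Finite.of_surjective _ ?_)
    exact (ConcreteCategory.bijective_of_isIso (Scheme.ΓSpecIso (CommRingCat.of A)).inv).2
  · apply IsClosedImmersion.of_isPreimmersion
    have : Set.range (X.fromSpecStalk x) = (U : Set X) := by
      rw [Scheme.range_fromSpecStalk]
      ext y; constructor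
      · intro hy; exact hy.mem_open U.isOpen hxU
      · intro hy; exact hK y hy
    rw [this]; exact hcl

end Groth.Agent.S2343
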