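import Mathlib
import Groth.Statements.S2344
import Groth.Agent.Lib.Helper9.RatExt2
-- import your own Groth.Agent.* helpers here

set_option autoImplicit false
universe u
open CategoryTheory CategoryTheory.Limits AlgebraicGeometry
open EGA2

namespace Groth.Agent.S2344


/-- Let X be a normal algebraic curve over k (separated, of finite type, nonempty, local rings at closed
points of dimension one, all local rings integrally closed domains), Y proper over k, U a dense open
of X and g : U → Y a k-morphism. Then g extends uniquely to a k-morphism X → Y. -/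
theorem result (k : Type u) [Field k] (X Y : Scheme.{u}) [X.Over (Spec (CommRingCat.of k))] [Y.Over (Spec (CommRingCat.of k))]
    [LocallyOfFiniteType (X ↘ (Spec (CommRingCat.of k)))] [QuasiCompact (X ↘ (Spec (CommRingCat.of k)))] [IsSeparated (X ↘ (Spec (CommRingCat.of k)))] [Nonempty X] (hcurve : (∀ x : X, IsClosed ({x} : Set X) → ringKrullDim (X.presheaf.stalk x) = 1)) (hnorm : Pi1.IsNormalScheme X)
    [IsProper (Y ↘ (Spec (CommRingCat.of k)))] (U : X.Opens) (hU : Dense (U : Set X)) (g : (U : Scheme.{u}) ⟶ Y)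
    (hg : g ≫ (Y ↘ (Spec (CommRingCat.of k))) = U.ι ≫ (X ↘ (Spec (CommRingCat.of k)))) :
    ∃! g' : X ⟶ Y, U.ι ≫ g' = g ∧ g' ≫ (Y ↘ (Spec (CommRingCat.of k))) = X ↘ (Spec (CommRingCat.of k)) := by
  haveI : IsLocallyNoetherian X :=
    LocallyOfFiniteType.isLocallyNoetherian (X ↘ (Spec (CommRingCat.of k)))
  haveI : ∀ x : X, _root_.IsReduced (X.presheaf.stalk x) := fun x => by
    haveI := (hnorm x).1; infer_instance
  haveI : IsReduced X := isReduced_of_isReduced_stalk X
  haveI : CompactSpace X :=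
    QuasiCompact.compactSpace_of_compactSpace (X ↘ (Spec (CommRingCat.of k)))
  have hdim : ∀ x : X, ringKrullDim (X.presheaf.stalk x) ≤ 1 := by
    intro x
    obtain ⟨c, hc, hcc⟩ := IsClosed.exists_closed_singleton (isClosed_closure (s := ({x} : Set X)))
      ⟨x, subset_closure rfl⟩
    have hxc : x ⤳ c := specializes_iff_mem_closure.mpr hc
    calc ringKrullDim (X.presheaf.stalk x) = (Order.coheight x : WithBot ℕ∞) :=
          ringKrullDim_stalk_eq_coheight x
      _ ≤ (Order.coheight c : WithBot ℕ∞) :=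
          WithBot.coe_le_coe.mpr (Order.coheight_anti (show c ≤ x from hxc))
      _ = ringKrullDim (X.presheaf.stalk c) := (ringKrullDim_stalk_eq_coheight c).symm
      _ = 1 := hcurve c hcc
  obtain ⟨U', hUU', g', h1, h2, h3⟩ := Groth.Agent.Helper9.RatExt.global_ext
    (Y ↘ (Spec (CommRingCat.of k))) (X ↘ (Spec (CommRingCat.of k))) U hU g hg Set.univ (by
      intro x _
      obtain ⟨hd, hic⟩ := hnorm x
      haveI := hd
      haveI := hic
      exact ⟨inferInstance, hd,
        Groth.Agent.Helper9.RatExt.valuationRing_of_normal _ (hdim x)⟩)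
  have hU' : U' = ⊤ := top_le_iff.mp (fun x _ => h3 (Set.mem_univ x))
  subst hU'
  haveI : IsDominant U.ι := ⟨by rw [DenseRange, Scheme.Opens.range_ι]; exact hU⟩
  refine ⟨X.topIso.inv ≫ g', ⟨?_, ?_⟩, ?_⟩
  · rw [← h2, ← Category.assoc]
    congr 1
    rw [Iso.comp_inv_eq, Scheme.topIso_hom, Scheme.homOfLE_ι]
  · rw [Category.assoc, h1, Scheme.toIso_inv_ι_assoc]
  · rintro g'' ⟨hg1, hg2⟩
    refine ext_of_isDominant_of_isSeparated (Y ↘ (Spec (CommRingCat.of k))) ?_ U.ι ?_
    · rw [hg2, Category.assoc, h1, Scheme.toIso_inv_ι_assoc]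
    · rw [hg1, ← h2, ← Category.assoc]
      congr 1
      rw [Iso.eq_comp_inv, Scheme.topIso_hom, Scheme.homOfLE_ι]

end Groth.Agent.S2344
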