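import Mathlib
import Groth.Statements.S2346
import Groth.Agent.Lib.Helper9.CurveTop
-- import your own Groth.Agent.* helpers here

set_option autoImplicit false
universe u
open CategoryTheory CategoryTheory.Limits AlgebraicGeometry
open EGA2

namespace Groth.Agent.S2346

open Groth.Agent.Helper9.CurveTop

/-- Let X and Y be irreducible algebraic curves over k (separated, of finite type, local rings at closed
points one-dimensional) and f : X → Y a k-morphism. Then f is dominant if and only if every fibre
f⁻¹(y) is a finite set. -/
theorem result (k : Type u) [Field k] (X Y : Scheme.{u}) [X.Over (Spec (CommRingCat.of k))] [Y.Over (Spec (CommRingCat.of k))]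
    [LocallyOfFiniteType (X ↘ (Spec (CommRingCat.of k)))] [QuasiCompact (X ↘ (Spec (CommRingCat.of k)))] [IsSeparated (X ↘ (Spec (CommRingCat.of k)))] [LocallyOfFiniteType (Y ↘ (Spec (CommRingCat.of k)))] [QuasiCompact (Y ↘ (Spec (CommRingCat.of k)))] [IsSeparated (Y ↘ (Spec (CommRingCat.of k)))] [IrreducibleSpace X] [IrreducibleSpace Y]
    (hX : (∀ x : X, IsClosed ({x} : Set X) → ringKrullDim (X.presheaf.stalk x) = 1)) (hY : (∀ x : Y, IsClosed ({x} : Set Y) → ringKrullDim (Y.presheaf.stalk x) = 1))
    (f : X ⟶ Y) (hf : f ≫ (Y ↘ (Spec (CommRingCat.of k))) = X ↘ (Spec (CommRingCat.of k))) :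
    IsDominant f ↔ ∀ y : Y, (f.base ⁻¹' {y}).Finite := by
  haveI : IsLocallyNoetherian X :=
    LocallyOfFiniteType.isLocallyNoetherian (X ↘ Spec (CommRingCat.of k))
  haveI : CompactSpace X :=
    QuasiCompact.compactSpace_of_compactSpace (X ↘ Spec (CommRingCat.of k))
  haveI : IsNoetherian X := {}
  haveI : IsLocallyNoetherian Y :=
    LocallyOfFiniteType.isLocallyNoetherian (Y ↘ Spec (CommRingCat.of k))
  haveI : CompactSpace Y :=
    QuasiCompact.compactSpace_of_compactSpace (Y ↘ Spec (CommRingCat.of k))
  haveI : IsNoetherian Y := {}
  haveI : JacobsonSpace X := LocallyOfFiniteType.jacobsonSpace (X ↘ Spec (CommRingCat.of k))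
  haveI : JacobsonSpace Y := LocallyOfFiniteType.jacobsonSpace (Y ↘ Spec (CommRingCat.of k))
  haveI : LocallyOfFiniteType f := by
    haveI : LocallyOfFiniteType (f ≫ (Y ↘ Spec (CommRingCat.of k))) := by rw [hf]; infer_instance
    exact locallyOfFiniteType_of_comp f (Y ↘ Spec (CommRingCat.of k))
  constructor
  · intro hdom y
    by_cases hy : IsClosed ({y} : Set Y)
    · have hcl : IsClosed (f.base ⁻¹' {y}) := hy.preimage f.continuous
      have hne : f.base ⁻¹' {y} ≠ Set.univ := by
        intro h
        have hr : Set.range f.base ⊆ {y} := by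
          rintro _ ⟨x, rfl⟩
          have : x ∈ f.base ⁻¹' {y} := h ▸ Set.mem_univ x
          exact this
        have hξ : genericPoint Y ∈ ({y} : Set Y) :=
          hy.closure_subset_iff.mpr hr (hdom.denseRange (genericPoint Y))
        have : genericPoint Y = y := hξ
        exact not_isClosed_genericPoint hY (this ▸ hy)
      exact (finite_of_isClosed hX _ hcl hne).1
    · have hyξ := eq_genericPoint_of_not_isClosed hY y hy
      refine (Set.finite_singleton (genericPoint X)).subset ?_
      intro x hx
      by_contra hxξ
      have hxc : IsClosed ({x} : Set X) := by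
        by_contra hnc
        exact hxξ (eq_genericPoint_of_not_isClosed hX x hnc)
      have := f.closePoints_subset_preimage_closedPoints hxc
      have hfx : f.base x = y := hx
      exact hy (hfx ▸ this)
  · intro hfib
    constructor
    by_contra hnd
    have hZ : closure (Set.range f.base) ≠ Set.univ := fun h => hnd (dense_iff_closure_eq.mpr h)
    obtain ⟨hfin, -⟩ := finite_of_isClosed hY _ isClosed_closure hZ
    have hXfin : (Set.univ : Set X).Finite := by
      have := Set.Finite.preimage' hfin (fun b _ => hfib b)
      exact this.subset (fun x _ => subset_closure (Set.mem_range_self x))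
    have hcp : closedPoints X = Set.univ := by
      have hcl : IsClosed (closedPoints X) := by
        rw [← Set.biUnion_of_singleton (closedPoints X)]
        exact Set.Finite.isClosed_biUnion (hXfin.subset (Set.subset_univ _)) (fun x hx => hx)
      rw [← hcl.closure_eq]; exact closure_closedPoints
    exact not_isClosed_genericPoint hX
      (show genericPoint X ∈ closedPoints X from hcp ▸ Set.mem_univ _)

end Groth.Agent.S2346
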