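import Mathlib
import Groth.Statements.S2351
import Groth.Agent.Lib.Helper9.NormLib
-- import your own Groth.Agent.* helpers here

set_option autoImplicit false
universe u
open CategoryTheory CategoryTheory.Limits AlgebraicGeometry
open EGA2

namespace Groth.Agent.S2351

open Groth.Agent.Helper9.NormLib

/-- Let X be an integral scheme and X' → X its normalization (integral closure of X in its function
field). Then X' is integral with integrally closed local rings, the morphism X' → X is surjective,
maps the generic point to the generic point and induces a bijection between the residue fields of
the generic points. (The quasi-compactness/quasi-separatedness binders on Spec K(X) → X always hold;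
they are only needed to form Mathlib's relative normalization.) -/
theorem result (X : Scheme.{u}) [IsIntegral X]
    [QuasiCompact (X.fromSpecStalk (genericPoint X))] [QuasiSeparated (X.fromSpecStalk (genericPoint X))] :
    ∃ (_ : IsIntegral (Curv2.normalization X)), Pi1.IsNormalScheme (Curv2.normalization X) ∧ Surjective (Curv2.normalizationι X) ∧
      ∃ hgen : (Curv2.normalizationι X).base (genericPoint (Curv2.normalization X)) = genericPoint X,
        Function.Bijective ((Curv2.normalizationι X).residueFieldMap (genericPoint (Curv2.normalization X))).hom := by
  have key : ∀ (g : Spec (CommRingCat.of X.functionField) ⟶ X)
      (hg : g = Spec.map (CommRingCat.ofHom (RingHom.id X.functionField)) ≫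
        X.fromSpecStalk (genericPoint X)) [QuasiCompact g] [QuasiSeparated g],
      ∃ (_ : IsIntegral g.normalization), Pi1.IsNormalScheme g.normalization ∧
        Surjective g.fromNormalization ∧
        ∃ hgen : g.fromNormalization.base (genericPoint g.normalization) = genericPoint X,
          Function.Bijective
            (g.fromNormalization.residueFieldMap (genericPoint g.normalization)).hom := by
    intro g hg _ _
    refine ⟨inferInstance, fun x' => normal _ g hg x', ?_, fromNorm_genericPoint _ g hg, ?_⟩
    · exact surjective_of_integral g.fromNormalization _ (fromNorm_genericPoint _ g hg)
    · exact bij_residue _ _ (surj_stalkMap_generic _ g hg Function.surjective_id)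
  exact key (X.fromSpecStalk (genericPoint X)) (by simp)

end Groth.Agent.S2351
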