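import Mathlib
import Groth.Statements.S2354
import Groth.Agent.Lib.Helper9.RatExt4
-- import your own Groth.Agent.* helpers here

set_option autoImplicit false
universe u
open CategoryTheory CategoryTheory.Limits AlgebraicGeometry
open EGA2

namespace Groth.Agent.S2354


/-- Extension over points of codimension ≤ 1: let Y be reduced and locally Noetherian with regular local
ring at every point whose local ring has dimension at most one, f : X → Y separated, of finite type
and closed as a map, V a dense open of Y and s : V → X a section of f over V. Then s extends to a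
section of f over an open U ⊇ V containing every point of Y whose local ring has dimension at most
one. (The source states that the indeterminacy locus has codimension ≥ 2 under the hypothesis that
the non-regular locus has codimension ≥ 2; with codimension measured by dimensions of local rings
this pointwise form is equivalent.) -/
theorem result {X Y : Scheme.{u}} [IsLocallyNoetherian Y] [IsReduced Y]
    (hreg : ∀ y : Y, ringKrullDim (Y.presheaf.stalk y) ≤ 1 → IsRegularLocalRing (Y.presheaf.stalk y))
    (f : X ⟶ Y) [IsSeparated f] [LocallyOfFiniteType f] [QuasiCompact f] (hcl : IsClosedMap f.base)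
    (V : Y.Opens) (hV : Dense (V : Set Y)) (s : (V : Scheme.{u}) ⟶ X) (hs : s ≫ f = V.ι) :
    ∃ (U : Y.Opens) (hVU : V ≤ U) (s' : (U : Scheme.{u}) ⟶ X), s' ≫ f = U.ι ∧ Y.homOfLE hVU ≫ s' = s ∧
      ∀ y : Y, ringKrullDim (Y.presheaf.stalk y) ≤ 1 → y ∈ U := by
  have hs' : s ≫ f = V.ι ≫ 𝟙 Y := by rw [Category.comp_id]; exact hs
  obtain ⟨U, hVU, g', h1, h2, h3⟩ := Groth.Agent.Helper9.RatExt.global_of_local f (𝟙 Y) V hV s hs'
    {y : Y | ringKrullDim (Y.presheaf.stalk y) ≤ 1} (by
    intro y hy
    haveI := hreg y hy
    obtain ⟨hd, hv⟩ := Groth.Agent.Helper9.RatExt.valuationRing_of_regular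
      (Y.presheaf.stalk y) hy
    obtain ⟨W₀, hyW₀, hred, hstar⟩ := Groth.Agent.Helper9.RatExt.exists_integral_nhd y
    haveI := hred
    refine Groth.Agent.Helper9.RatExt.local_ext_of_lift f (𝟙 Y) V s hs' y
      (hV.closure_eq ▸ Set.mem_univ y) W₀ hyW₀ hstar ?_
    intro j' hj'
    have w : (j' ≫ s) ≫ f = Spec.map (CommRingCat.ofHom (algebraMap (Y.presheaf.stalk y)
        (FractionRing (Y.presheaf.stalk y)))) ≫ Y.fromSpecStalk y := by
      rw [Category.assoc, hs, hj']
    have hfξ : f ((j' ≫ s) (IsLocalRing.closedPoint (FractionRing (Y.presheaf.stalk y)))) ⤳ y := by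
      rw [← Scheme.Hom.comp_apply, w]
      exact Groth.Agent.Helper9.RatExt.jmap_specializes y y specializes_rfl _
    have hmem : y ∈ f.base '' closure
        {(j' ≫ s) (IsLocalRing.closedPoint (FractionRing (Y.presheaf.stalk y)))} := by
      have hc : IsClosed (f.base '' closure
        {(j' ≫ s) (IsLocalRing.closedPoint (FractionRing (Y.presheaf.stalk y)))}) :=
        hcl _ isClosed_closure
      refine hc.closure_subset_iff.mpr ?_ hfξ.mem_closure
      rintro _ rfl
      exact ⟨_, subset_closure rfl, rfl⟩
    obtain ⟨x, hx, hfx⟩ := hmem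
    obtain ⟨l, hl1, hl2⟩ := Groth.Agent.Helper9.RatExt.lift_of_specializes f y
      (FractionRing (Y.presheaf.stalk y)) (j' ≫ s) w x (specializes_iff_mem_closure.mpr hx) hfx
    exact ⟨l, hl1, by rw [hl2, Category.comp_id]⟩)
  exact ⟨U, hVU, g', by rw [h1, Category.comp_id], h2, fun y hy => h3 hy⟩

end Groth.Agent.S2354
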