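import Groth.Statements.S2357
import Mathlib

set_option autoImplicit false
universe u
open CategoryTheory CategoryTheory.Limits AlgebraicGeometry
open EGA2

namespace Groth.Agent.S2357

open DirectSum in
theorem finiteType_of_noetherian {R A : Type u} [CommRing R] [CommRing A] [Algebra R A]
    (𝒜 : ℕ → Submodule R A) [GradedAlgebra 𝒜] [IsNoetherianRing A] :
    Algebra.FiniteType (𝒜 0) A := by
  classical
  let H : Set A := {x | ∃ d : ℕ, 0 < d ∧ x ∈ 𝒜 d}
  obtain ⟨s, hsH, hs⟩ := (Submodule.fg_span_iff_fg_span_finset_subset H).mp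
    (IsNoetherian.noetherian (Ideal.span H))
  have hsH' : ∀ x ∈ s, ∃ d : ℕ, 0 < d ∧ x ∈ 𝒜 d := fun x hx => hsH hx
  choose! e he0 he using hsH'
  refine ⟨⟨s, ?_⟩⟩
  set B : Subalgebra (𝒜 0) A := Algebra.adjoin (𝒜 0) (s : Set A) with hB
  have key : ∀ d : ℕ, ∀ a ∈ 𝒜 d, a ∈ B := by
    intro d
    induction d using Nat.strong_induction_on with
    | _ d ih =>
      intro a ha
      rcases Nat.eq_zero_or_pos d with rfl | hd
      · exact Subalgebra.algebraMap_mem B (⟨a, ha⟩ : 𝒜 0)
      · have hmem : a ∈ Ideal.span H := Ideal.subset_span ⟨d, hd, ha⟩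
        have hmem' : a ∈ Submodule.span A (s : Set A) := by
          have : Ideal.span H = Submodule.span A (s : Set A) := hs
          rw [← this]; exact hmem
        obtain ⟨c, -, hc⟩ := Submodule.mem_span_finset.mp hmem'
        have h1 : a = ∑ x ∈ s, ((decompose 𝒜 (c x * x)) d : A) := by
          conv_lhs => rw [← DirectSum.decompose_of_mem_same 𝒜 ha, ← hc]
          rw [decompose_sum, DFinsupp.finset_sum_apply, AddSubmonoidClass.coe_finset_sum]
          rfl
        rw [h1]
        refine Subalgebra.sum_mem _ fun x hx => ?_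
        by_cases hle : e x ≤ d
        · rw [DirectSum.coe_decompose_mul_of_right_mem_of_le 𝒜 (he x hx) hle]
          refine Subalgebra.mul_mem _ (ih (d - e x) ?_ _ (Submodule.coe_mem _)) (Algebra.subset_adjoin hx)
          have := he0 x hx
          omega
        · rw [DirectSum.coe_decompose_mul_of_right_mem_of_not_le 𝒜 (he x hx) hle]
          exact Subalgebra.zero_mem _
  rw [eq_top_iff]
  intro a _
  rw [← DirectSum.sum_support_decompose 𝒜 a]
  exact Subalgebra.sum_mem _ fun d _ => key d _ (Submodule.coe_mem _)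

/-- If A is a graded ring which is Noetherian, then Proj A is a Noetherian scheme. -/
theorem result {R A : Type u} [CommRing R] [CommRing A] [Algebra R A] (𝒜 : ℕ → Submodule R A) [GradedAlgebra 𝒜] [IsNoetherianRing A] :
    IsNoetherian (Proj 𝒜) := by
  haveI : Algebra.FiniteType (𝒜 0) A := Groth.Agent.S2357.finiteType_of_noetherian 𝒜
  haveI : IsNoetherianRing (𝒜 0) := inferInstance
  haveI : IsLocallyNoetherian (Spec (CommRingCat.of (𝒜 0))) := isLocallyNoetherian_Spec.mpr inferInstance
  haveI : IsLocallyNoetherian (Proj 𝒜) := LocallyOfFiniteType.isLocallyNoetherian (Proj.toSpecZero 𝒜)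
  haveI : CompactSpace (Proj 𝒜) := QuasiCompact.compactSpace_of_compactSpace (Proj.toSpecZero 𝒜)
  exact {}

end Groth.Agent.S2357
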