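import Groth.Statements.S4809
import Mathlib
import Groth.Agent.Lib.Helper5.BirNormal

set_option autoImplicit false
universe u
open CategoryTheory AlgebraicGeometry
open Lim8

namespace Groth.Agent.S4809

/-- Let Y be an integral normal scheme (every local ring integrally closed), X an integral scheme, and f
: X ⟶ Y a locally quasi-finite morphism (locally of finite type with discrete fibres) which is
birational: f maps the generic point of X to that of Y and its stalk map at the generic point of X,
the induced homomorphism of function fields, is an isomorphism. Then f is a local isomorphism, and f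
is an open immersion as soon as it is separated. -/
theorem result {X Y : Scheme.{u}} [IsIntegral X] [IsIntegral Y]
    (hN : ∀ y : Y, IsIntegrallyClosed (Y.presheaf.stalk y)) (f : X ⟶ Y) [LocallyQuasiFinite f]
    [LocallyOfFiniteType f] (hgen : f (genericPoint X) = genericPoint Y)
    (hbir : IsIso (f.stalkMap (genericPoint X))) :
    IsLocalIso f ∧ (IsSeparated f → IsOpenImmersion f) := by
  have hbir' : ∀ z : X, z = genericPoint X → IsIso (f.stalkMap z) := by
    rintro _ rfl
    exact hbir
  refine ⟨⟨fun x => ?_⟩, fun hsep => ?_⟩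
  · obtain ⟨X', hX', hxX', -⟩ := exists_isAffineOpen_mem_and_subset (x := x) (U := ⊤) trivial
    haveI : Nonempty X' := ⟨⟨x, hxX'⟩⟩
    haveI : IsAffine X'.toScheme := hX'
    obtain ⟨g, hg⟩ : ∃ g : X'.toScheme ⟶ Y, g = X'.ι ≫ f := ⟨_, rfl⟩
    haveI : LocallyOfFiniteType g := by
      rw [hg]
      infer_instance
    haveI : IsSeparated g := inferInstance
    have hηX : X'.ι (genericPoint X') = genericPoint X := genericPoint_eq_of_isOpenImmersion X'.ι
    have hgen' : g (genericPoint X') = genericPoint Y := by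
      rw [hg, Scheme.Hom.comp_apply, hηX, hgen]
    have hbir'' : IsIso (g.stalkMap (genericPoint X')) := by
      haveI := hbir' _ hηX
      have h0 : IsIso (f.stalkMap (X'.ι (genericPoint X')) ≫ X'.ι.stalkMap (genericPoint X')) :=
        inferInstance
      subst hg
      rw [Scheme.Hom.stalkMap_comp]
      exact h0
    have hq' : g.QuasiFiniteAt ⟨x, hxX'⟩ := by
      rw [hg, Scheme.Hom.quasiFiniteAt_comp_iff_of_isOpenImmersion]
      exact f.quasiFiniteAt _
    obtain ⟨U, hyU, hUiso⟩ :=
      Groth.Agent.Helper5.BirNormal.exists_isIso_restrict_of_quasiFiniteAt' g hgen' hbir''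
        ⟨x, hxX'⟩ hq' (hN _)
    haveI := hUiso
    refine ⟨X'.ι ''ᵁ (g ⁻¹ᵁ U), ⟨⟨x, hxX'⟩, hyU, rfl⟩, ?_⟩
    have e : (X'.ι ''ᵁ (g ⁻¹ᵁ U)).ι ≫ f =
        (X'.ι.isoImage (g ⁻¹ᵁ U)).inv ≫ (g ∣_ U) ≫ U.ι := by
      rw [morphismRestrict_ι, hg, Scheme.Hom.isoImage_inv_ι_assoc]
    rw [e]
    infer_instance
  · haveI := hsep
    have key : ∀ x : X, ∃ U : Y.Opens, f x ∈ U ∧ IsIso (f ∣_ U) := fun x =>
      Groth.Agent.Helper5.BirNormal.exists_isIso_restrict_of_quasiFiniteAt' f hgen hbir x
        (f.quasiFiniteAt x) (hN _)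
    choose U hU hUiso using key
    refine IsZariskiLocalAtTarget.of_range_subset_iSup (P := @IsOpenImmersion) U ?_ (fun x => ?_)
    · rintro _ ⟨x, rfl⟩
      exact TopologicalSpace.Opens.mem_iSup.mpr ⟨x, hU x⟩
    · haveI := hUiso x
      infer_instance

end Groth.Agent.S4809
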