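import Mathlib
import Mathlib
import Groth.Agent.H11.GeomRedSmooth
import Groth.Statements.S2451

set_option autoImplicit false
universe u
open EGA41

namespace Groth.Agent.S2451

/-- Let k ⊆ K be fields with the discrete topologies. Then K is a formally smooth k-algebra if and only
if K is separable over k (K ⊗_k k' reduced for every extension k', i.e. geometrically reduced). -/
theorem result {k K : Type u} [Field k] [Field K] [Algebra k K] :
    Algebra.FormallySmooth k K ↔ Algebra.IsGeometricallyReduced k K := by
  exact ⟨fun _ => Groth.Agent.H11.GeomRedSmooth.isGeometricallyReduced_of_formallySmooth,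
    fun _ => Groth.Agent.H27.FieldSmooth.formallySmooth_of_geomReduced⟩

end Groth.Agent.S2451
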