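import Groth.Statements.S2453
import Mathlib
import Groth.Agent.H27.RegSmooth
import Groth.Agent.H27.FieldSmooth
import Groth.Agent.S9318
import Groth.Agent.S19474

set_option autoImplicit false
universe u
open EGA41

namespace Groth.Agent.S2453

open IsLocalRing in
/-- Let k be a field and A a Noetherian local k-algebra with maximal ideal 𝔪 and residue field K
separable over k; give A the 𝔪-adic topology (k discrete). The following are equivalent: (a) A is
formally smooth over k; (b) the 𝔪-adic completion of A is isomorphic to some K[[T_1, …, T_n]] by an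
isomorphism carrying the image of k in A to the image of k under k → K → K[[T]]; (b') the completion
is isomorphic as a ring to some K[[T_1, …, T_n]]; (c) A is a regular local ring. -/
theorem result {k A : Type u} [Field k] [CommRing A] [IsLocalRing A] [IsNoetherianRing A] [Algebra k A]
    [Algebra.IsGeometricallyReduced k (ResidueField A)] :
    [CAlgX.IsAdicFormallySmooth k A (maximalIdeal A),
     ∃ (n : ℕ) (e : AdicCompletion (maximalIdeal A) A ≃+* MvPowerSeries (Fin n) (ResidueField A)),
       ∀ x : k, e (algebraMap A (AdicCompletion (maximalIdeal A) A) (algebraMap k A x)) =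
         algebraMap (ResidueField A) (MvPowerSeries (Fin n) (ResidueField A)) (algebraMap k (ResidueField A) x),
     ∃ n : ℕ, Nonempty (AdicCompletion (maximalIdeal A) A ≃+* MvPowerSeries (Fin n) (ResidueField A)),
     IsRegularLocalRing A].TFAE := by
  classical
  have hI : maximalIdeal A ≠ ⊤ := (maximalIdeal.isMaximal A).ne_top
  haveI := Groth.Agent.S19474.isNoetherianRing_adicCompletion A (maximalIdeal A)
  have hreg := (Groth.Agent.S19474.result A _ hI).2
  have hfg : (maximalIdeal A).FG := IsNoetherian.noetherian _
  have hsm := Groth.Agent.S9318.result (R := k) (maximalIdeal A) hfg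
  have hmax := AdicCompletion.maximalIdeal_eq_map (R := A)
  have hbij := AdicCompletion.residueField_map_bijective A
  obtain ⟨ι, hι⟩ : ∃ ι : ResidueField A →ₐ[k] ResidueField (AdicCompletion (maximalIdeal A) A),
      ∀ y, ι y = ResidueField.map (algebraMap A (AdicCompletion (maximalIdeal A) A)) y :=
    ⟨{ toRingHom := ResidueField.map (algebraMap A (AdicCompletion (maximalIdeal A) A))
       commutes' := fun r => by
         show ResidueField.map (algebraMap A (AdicCompletion (maximalIdeal A) A))
           (algebraMap k (ResidueField A) r) =
           algebraMap k (ResidueField (AdicCompletion (maximalIdeal A) A)) r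
         rw [IsScalarTower.algebraMap_apply k A (ResidueField A), ResidueField.algebraMap_eq,
           ResidueField.map_residue,
           ← IsScalarTower.algebraMap_apply k A (AdicCompletion (maximalIdeal A) A),
           IsScalarTower.algebraMap_apply k (AdicCompletion (maximalIdeal A) A)
             (ResidueField (AdicCompletion (maximalIdeal A) A)),
           ResidueField.algebraMap_eq] }, fun y => rfl⟩
  have hιbij : Function.Bijective ι := by
    have h1 : (ι : ResidueField A → ResidueField (AdicCompletion (maximalIdeal A) A)) =
        ResidueField.map (algebraMap A (AdicCompletion (maximalIdeal A) A)) := funext hι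
    rw [h1]
    exact hbij
  let ιe : ResidueField A ≃ₐ[k] ResidueField (AdicCompletion (maximalIdeal A) A) :=
    AlgEquiv.ofBijective ι hιbij
  haveI : Algebra.FormallySmooth k (ResidueField A) :=
    Groth.Agent.H27.FieldSmooth.formallySmooth_of_geomReduced
  haveI : Algebra.FormallySmooth k (ResidueField (AdicCompletion (maximalIdeal A) A)) :=
    Algebra.FormallySmooth.of_equiv ιe
  tfae_have 1 → 2 := by
    intro h
    have h' := hsm.mp h
    rw [← hmax] at h'
    obtain ⟨u, hu⟩ := Groth.Agent.H27.RegSmooth.exists_ps_bij_of_adicSmooth k _ h' _ rfl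
    obtain ⟨e, he⟩ := Groth.Agent.H27.RegSmooth.exists_ringEquiv_of_algHom _ u hu ιe
    refine ⟨_, e, fun x => ?_⟩
    rw [← IsScalarTower.algebraMap_apply k A (AdicCompletion (maximalIdeal A) A), he,
      MvPowerSeries.algebraMap_apply]
    rfl
  tfae_have 2 → 3 := by
    rintro ⟨n, e, _⟩
    exact ⟨n, ⟨e⟩⟩
  tfae_have 3 → 4 := by
    rintro ⟨n, ⟨e⟩⟩
    haveI := Groth.Agent.H27.RegSmooth.isRegularLocalRing_mvPowerSeries (ResidueField A) n
    exact hreg.mpr (IsRegularLocalRing.of_ringEquiv e.symm)
  tfae_have 4 → 1 := by
    intro h
    haveI := hreg.mp h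
    have h' := Groth.Agent.H27.RegSmooth.adicSmooth_of_regular k
      (AdicCompletion (maximalIdeal A) A)
    rw [hmax] at h'
    exact hsm.mpr h'
  tfae_finish

end Groth.Agent.S2453
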