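import Groth.Statements.S2454
import Mathlib
import Groth.Agent.H27.AdicSmooth

set_option autoImplicit false
universe u
open EGA41

namespace Groth.Agent.S2454

open IsLocalRing in
/-- Let A → B be a local homomorphism of Noetherian local rings making B a Cohen A-algebra. Then B, with
its adic topology, is formally smooth over A with its adic topology. -/
theorem result {A B : Type u} [CommRing A] [IsLocalRing A] [CommRing B] [IsLocalRing B]
    [Algebra A B] [IsLocalHom (algebraMap A B)] (h : EGA41.IsCohenAlgebra A B) :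
    EGA41.IsFormallySmoothAdic A (maximalIdeal A) B (maximalIdeal B) := by
  classical
  obtain ⟨hNA, hNB, hcomp, hflat, hmB, hgr⟩ := h
  haveI := hflat
  haveI := hgr
  haveI : Algebra.FormallySmooth (ResidueField A) (ResidueField B) :=
    Groth.Agent.H27.FieldSmooth.formallySmooth_of_geomReduced
  have h1 : ∀ f : A ⧸ maximalIdeal A ^ 1 →+* B ⧸ (maximalIdeal A ^ 1).map (algebraMap A B),
      (∀ a, f (Ideal.Quotient.mk _ a) = Ideal.Quotient.mk _ (algebraMap A B a)) →
        f.FormallySmooth := by
    intro f hf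
    have eA : maximalIdeal A ^ 1 = maximalIdeal A := pow_one _
    have eB : (maximalIdeal A ^ 1).map (algebraMap A B) = maximalIdeal B := by
      rw [pow_one, hmB]
    let iA : A ⧸ maximalIdeal A ^ 1 ≃+* ResidueField A := Ideal.quotEquivOfEq eA
    let iB : B ⧸ (maximalIdeal A ^ 1).map (algebraMap A B) ≃+* ResidueField B :=
      Ideal.quotEquivOfEq eB
    have hfeq : f = (iB.symm.toRingHom.comp
        (algebraMap (ResidueField A) (ResidueField B))).comp iA.toRingHom := by
      apply Ideal.Quotient.ringHom_ext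
      ext a
      show f (Ideal.Quotient.mk _ a) = iB.symm (algebraMap (ResidueField A)
        (ResidueField B) (iA (Ideal.Quotient.mk _ a)))
      rw [hf, RingEquiv.eq_symm_apply]
      rfl
    rw [hfeq]
    exact RingHom.FormallySmooth.comp (RingHom.FormallySmooth.of_bijective iA.bijective)
      (RingHom.FormallySmooth.comp (RingHom.formallySmooth_algebraMap.mpr inferInstance)
        (RingHom.FormallySmooth.of_bijective iB.symm.bijective))
  have hall := Groth.Agent.H27.AdicSmooth.formallySmooth_quot_idealPow (maximalIdeal A) h1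
  intro C _ _ J hJ hC u _
  obtain ⟨k, hk⟩ := hC
  have hk1 : (maximalIdeal A ^ (k + 1)).map (algebraMap A C) = ⊥ := by
    rw [eq_bot_iff, ← hk]
    exact Ideal.map_mono (Ideal.pow_le_pow_right (Nat.le_succ k))
  have hkill : ∀ a ∈ maximalIdeal A ^ (k + 1), algebraMap A C a = 0 := by
    intro a ha
    have : algebraMap A C a ∈ (maximalIdeal A ^ (k + 1)).map (algebraMap A C) :=
      Ideal.mem_map_of_mem _ ha
    rw [hk1] at this
    simpa using this
  let f : A ⧸ maximalIdeal A ^ (k + 1) →+* B ⧸ (maximalIdeal A ^ (k + 1)).map (algebraMap A B) :=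
    Ideal.quotientMap _ (algebraMap A B) Ideal.le_comap_map
  have hf : ∀ a, f (Ideal.Quotient.mk _ a) = Ideal.Quotient.mk _ (algebraMap A B a) :=
    fun a => Ideal.quotientMap_mk
  have hfs : f.FormallySmooth := hall (k + 1) (Nat.succ_le_succ (Nat.zero_le k)) f hf
  let uA : A ⧸ maximalIdeal A ^ (k + 1) →+* C := Ideal.Quotient.lift _ (algebraMap A C) hkill
  have hkillB : ∀ b ∈ (maximalIdeal A ^ (k + 1)).map (algebraMap A B), u.toRingHom b = 0 := by
    have hle : (maximalIdeal A ^ (k + 1)).map (algebraMap A B) ≤ RingHom.ker u.toRingHom := by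
      rw [Ideal.map_le_iff_le_comap]
      intro a ha
      rw [Ideal.mem_comap, RingHom.mem_ker]
      show u (algebraMap A B a) = 0
      rw [u.commutes]
      show Ideal.Quotient.mk J (algebraMap A C a) = 0
      rw [hkill a ha, map_zero]
    intro b hb
    exact hle hb
  let vB : B ⧸ (maximalIdeal A ^ (k + 1)).map (algebraMap A B) →+* C ⧸ J :=
    Ideal.Quotient.lift _ u.toRingHom hkillB
  have huv : vB.comp f = (Ideal.Quotient.mk J).comp uA := by
    apply Ideal.Quotient.ringHom_ext
    ext a
    show vB (f (Ideal.Quotient.mk _ a)) = Ideal.Quotient.mk J (uA (Ideal.Quotient.mk _ a))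
    rw [hf]
    show u (algebraMap A B a) = Ideal.Quotient.mk J (algebraMap A C a)
    rw [u.commutes]; rfl
  obtain ⟨w, hw1, hw2⟩ :=
    Groth.Agent.H27.AdicSmooth.exists_lift_ringHom_nilpotent f hfs J hJ uA vB huv
  refine ⟨{ toRingHom := w.comp (Ideal.Quotient.mk _), commutes' := ?_ }, ?_⟩
  · intro a
    show w (Ideal.Quotient.mk _ (algebraMap A B a)) = algebraMap A C a
    rw [← hf]
    exact RingHom.congr_fun hw1 (Ideal.Quotient.mk _ a)
  · apply AlgHom.ext
    intro b
    show Ideal.Quotient.mk J (w (Ideal.Quotient.mk _ b)) = u b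
    exact RingHom.congr_fun hw2 (Ideal.Quotient.mk _ b)

end Groth.Agent.S2454
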