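import Groth.Statements.S2456
import Mathlib
import Groth.Agent.H27.CohenLift

set_option autoImplicit false
universe u
open EGA41

namespace Groth.Agent.S2456

open IsLocalRing in
/-- Let W be a Cohen ring (a field of characteristic zero, or a complete discrete valuation ring with
maximal ideal generated by the residue characteristic), C a complete Noetherian local ring and J ≠ C
an ideal of C. Then every local homomorphism u : W → C/J is induced by a local homomorphism v : W →
C. -/
theorem result {W C : Type u} [CommRing W] [IsLocalRing W] (hW : EGA41.IsCohenRingEGA W)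
    [CommRing C] [IsLocalRing C] [IsNoetherianRing C] [IsAdicComplete (maximalIdeal C) C]
    (J : Ideal C) (hJ : J ≠ ⊤) [IsLocalRing (C ⧸ J)] (u : W →+* C ⧸ J) [IsLocalHom u] :
    ∃ v : W →+* C, IsLocalHom v ∧ (Ideal.Quotient.mk J).comp v = u := by
  have H : ∀ n, Groth.Agent.H27.CohenLift.LP W (C ⧸ maximalIdeal C ^ n) := by
    rcases hW with ⟨hF, hchar⟩ | hCoh
    · intro n
      letI := hF.toField
      exact Groth.Agent.H27.CohenLift.lp_of_field W (C ⧸ maximalIdeal C ^ n)
    · obtain ⟨hdom, hdvr, -, p, hp, hm⟩ := hCoh
      intro n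
      have hpC : (p : C) ∈ maximalIdeal C := by
        rw [IsLocalRing.mem_maximalIdeal, mem_nonunits_iff]
        intro hunit
        have h1 : IsUnit (u (p : W)) := by
          rw [map_natCast, ← map_natCast (Ideal.Quotient.mk J)]
          exact hunit.map _
        have h2 : IsUnit (p : W) := isUnit_of_map_unit u _ h1
        have h3 : (p : W) ∈ maximalIdeal W := by rw [hm]; exact Ideal.mem_span_singleton_self _
        exact (IsLocalRing.mem_maximalIdeal _).mp h3 h2
      have hpn : ((p : ℕ) : C ⧸ maximalIdeal C ^ n) ^ n = 0 := by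
        rw [← map_natCast (Ideal.Quotient.mk (maximalIdeal C ^ n)), ← map_pow,
          Ideal.Quotient.eq_zero_iff_mem]
        exact Ideal.pow_mem_pow hpC n
      exact Groth.Agent.H27.CohenLift.lp_of_cohen p hp hm _ n hpn
  obtain ⟨v, hv⟩ := Groth.Agent.H27.CohenLift.lift_of_LP J hJ u H
  refine ⟨v, ⟨fun w hw => ?_⟩, hv⟩
  have h1 : IsUnit (u w) := by
    rw [← hv]
    exact hw.map (Ideal.Quotient.mk J)
  exact isUnit_of_map_unit u w h1

end Groth.Agent.S2456
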