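import Groth.Statements.S2457
import Mathlib
import Groth.Agent.H27.CohenIso

set_option autoImplicit false
universe u
open EGA41

namespace Groth.Agent.S2457

open IsLocalRing in
/-- Let W and W' be Cohen rings with residue fields K and K' and u : K ≅ K' an isomorphism. Then u is
induced by some isomorphism v : W ≅ W'. -/
theorem result {W W' : Type u} [CommRing W] [IsLocalRing W] [CommRing W'] [IsLocalRing W']
    (hW : EGA41.IsCohenRingEGA W) (hW' : EGA41.IsCohenRingEGA W') (u : ResidueField W ≃+* ResidueField W') :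
    ∃ v : W ≃+* W', ∀ x : W, residue W' (v x) = u (residue W x) := by
  rcases hW with ⟨hF, hchar⟩ | hCoh
  · rcases hW' with ⟨hF', hchar'⟩ | hCoh'
    · exact Groth.Agent.H27.CohenIso.field_case hF hF' u
    · exfalso
      obtain ⟨hdom', hdvr', -, p', hp', hm'⟩ := hCoh'
      exact Groth.Agent.H27.CohenIso.no_mixed hF p' hp'
        (by rw [hm']; exact Ideal.mem_span_singleton_self _) u.symm
  · rcases hW' with ⟨hF', hchar'⟩ | hCoh'
    · exfalso
      obtain ⟨hdom, hdvr, -, p, hp, hm⟩ := hCoh
      exact Groth.Agent.H27.CohenIso.no_mixed hF' p hp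
        (by rw [hm]; exact Ideal.mem_span_singleton_self _) u
    · obtain ⟨hdom, hdvr, hc, p, hp, hm⟩ := hCoh
      obtain ⟨hdom', hdvr', hc', p', hp', hm'⟩ := hCoh'
      exact Groth.Agent.H27.CohenIso.cohen_iso p hp hm hc p' hp' hm' hc' u

end Groth.Agent.S2457
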