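import Groth.Statements.S2458
import Mathlib
import Groth.Agent.H27.SqZero
import Groth.Agent.H15.PSEval
import Groth.Agent.Lib.Helper12.CohenExist

set_option autoImplicit false
universe u
open EGA41

namespace Groth.Agent.S2458

open IsLocalRing in
/-- Let A be an Artinian local ring whose maximal ideal 𝔪 satisfies 𝔪² = 0. Then there is a regular
local ring B with maximal ideal 𝔫 such that A ≅ B/𝔫². -/
theorem result {A : Type u} [CommRing A] [IsLocalRing A] [IsArtinianRing A]
    (h : maximalIdeal A ^ 2 = ⊥) :
    ∃ (B : Type u) (_ : CommRing B) (_ : IsRegularLocalRing B), Nonempty (A ≃+* B ⧸ IsLocalRing.maximalIdeal B ^ 2) := by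
  classical
  have hnilI : IsNilpotent (maximalIdeal A) := ⟨2, by rw [h]; rfl⟩
  obtain ⟨p, hpc⟩ := CharP.exists (ResidueField A)
  have caseA : Groth.Agent.H27.CohenLift.LP (ResidueField A) A →
      ∃ (B : Type u) (_ : CommRing B) (_ : IsRegularLocalRing B),
        Nonempty (A ≃+* B ⧸ IsLocalRing.maximalIdeal B ^ 2) := by
    intro hLP
    obtain ⟨σ, hσ⟩ := hLP (maximalIdeal A) hnilI (RingHom.id _)
    have hσ' : ∀ c, residue A (σ c) = c := fun c => RingHom.congr_fun hσ c
    obtain ⟨d, hd⟩ : ∃ d, d = (maximalIdeal A).spanFinrank := ⟨_, rfl⟩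
    obtain ⟨x, hx⟩ := Groth.Agent.H27.RegSmooth.exists_gens A d hd
    have hN : Ideal.span (Set.range x) ^ 2 = ⊥ := by rw [hx, h]
    obtain ⟨u, huC, huX⟩ := Groth.Agent.H15.PSEval.exists_eval σ x 2 hN
    haveI := Groth.Agent.H27.RegSmooth.isRegularLocalRing_mvPowerSeries (ResidueField A) d
    refine ⟨MvPowerSeries (Fin d) (ResidueField A), inferInstance, inferInstance, ?_⟩
    apply Groth.Agent.H27.SqZero.sqzero_iso h u MvPowerSeries.X
      Groth.Agent.H3.MvPSDim.maximalIdeal_eq_span_X
    · intro a
      refine ⟨MvPowerSeries.C (residue A a), ?_⟩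
      rw [huC]
      exact Ideal.Quotient.eq.mp (hσ' (residue A a)).symm
    · have h1 : (fun i => u (MvPowerSeries.X i)) = x := funext huX
      rw [h1]
      exact hx
    · rw [Fintype.card_fin]
      exact hd
  rcases CharP.char_is_prime_or_zero (ResidueField A) p with hpp | hp0
  · by_cases hpA : (p : A) = 0
    · haveI : Fact p.Prime := ⟨hpp⟩
      haveI : CharP A p := (CharP.charP_iff_prime_eq_zero hpp).mpr hpA
      exact caseA (Groth.Agent.H27.SqZero.lp_of_field_charP p _ A)
    · haveI : Fact p.Prime := ⟨hpp⟩
      obtain ⟨Λ, i1, i2, hC, ⟨e⟩⟩ :=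
        Groth.Agent.Helper12.CohenExist.exists_cohen p (ResidueField A)
      obtain ⟨hdom, hdvr, hcompl, p', hp', hm⟩ := hC
      have hp'q : p' = p := by
        have h1 : ((p' : Λ)) ∈ maximalIdeal Λ := by
          rw [hm]; exact Ideal.mem_span_singleton_self _
        have h2 : residue Λ (p' : Λ) = 0 := (residue_eq_zero_iff _).2 h1
        have h3 : ((p' : ℕ) : ResidueField A) = 0 := by
          have := congrArg e h2
          rwa [map_natCast, map_natCast, map_zero] at this
        have h4 : p ∣ p' := (CharP.cast_eq_zero_iff (ResidueField A) p p').1 h3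
        exact ((Nat.prime_dvd_prime_iff_eq hpp hp').1 h4).symm
      rw [hp'q] at hm
      have hpm : (p : A) ∈ maximalIdeal A := by
        rw [← residue_eq_zero_iff, map_natCast]
        exact CharP.cast_eq_zero _ _
      have hp2 : (p : A) ∉ maximalIdeal A ^ 2 := by
        rw [h, Ideal.mem_bot]
        exact hpA
      have hLP : Groth.Agent.H27.CohenLift.LP Λ A :=
        Groth.Agent.H27.CohenLift.lp_of_cohen p hpp hm A 2 (by
          have h1 : (p : A) ^ 2 ∈ maximalIdeal A ^ 2 := Ideal.pow_mem_pow hpm 2
          rw [h] at h1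
          simpa using h1)
      obtain ⟨v, hv⟩ := hLP (maximalIdeal A) hnilI (e.toRingHom.comp (residue Λ))
      have hv' : ∀ w, residue A (v w) = e (residue Λ w) := fun w => RingHom.congr_fun hv w
      obtain ⟨r, y, hy, hr⟩ := Groth.Agent.H27.SqZero.gens_with (p : A) hpm hp2
      have hym : ∀ i, y i ∈ maximalIdeal A := fun i => by
        rw [← hy]
        exact Ideal.subset_span (Set.mem_insert_of_mem _ ⟨i, rfl⟩)
      have hN : Ideal.span (Set.range y) ^ 2 = ⊥ := by
        rw [eq_bot_iff, ← h]
        apply Ideal.pow_right_mono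
        rw [Ideal.span_le]
        rintro _ ⟨i, rfl⟩
        exact hym i
      obtain ⟨u, huC, huX⟩ := Groth.Agent.H15.PSEval.exists_eval v y 2 hN
      haveI := Groth.Agent.H27.SqZero.isRegularLocalRing_mvPowerSeries_dvr Λ (p : Λ) hm r
      refine ⟨MvPowerSeries (Fin r) Λ, inferInstance, inferInstance, ?_⟩
      apply Groth.Agent.H27.SqZero.sqzero_iso h u
        (fun o : Option (Fin r) => o.elim (MvPowerSeries.C (p : Λ)) MvPowerSeries.X)
      · rw [Groth.Agent.H27.SqZero.maximalIdeal_mvPowerSeries_eq (p : Λ) hm r]
        congr 1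
        ext g
        constructor
        · rintro (rfl | ⟨i, rfl⟩)
          · exact ⟨none, rfl⟩
          · exact ⟨some i, rfl⟩
        · rintro ⟨o, rfl⟩
          cases o with
          | none => exact Set.mem_insert _ _
          | some i => exact Set.mem_insert_of_mem _ ⟨i, rfl⟩
      · intro a
        obtain ⟨c, hc⟩ := e.surjective (residue A a)
        obtain ⟨w, hw⟩ := residue_surjective c
        refine ⟨MvPowerSeries.C w, ?_⟩
        rw [huC]
        apply Ideal.Quotient.eq.mp
        show residue A a = residue A (v w)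
        rw [hv', hw, hc]
      · rw [← hy]
        congr 1
        ext b
        constructor
        · rintro ⟨o, rfl⟩
          cases o with
          | none =>
            show u (MvPowerSeries.C (p : Λ)) ∈ _
            rw [huC, map_natCast]
            exact Set.mem_insert _ _
          | some i =>
            show u (MvPowerSeries.X i) ∈ _
            rw [huX]
            exact Set.mem_insert_of_mem _ ⟨i, rfl⟩
        · rintro (rfl | ⟨i, rfl⟩)
          · refine ⟨none, ?_⟩
            show u (MvPowerSeries.C (p : Λ)) = _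
            rw [huC, map_natCast]
          · exact ⟨some i, huX i⟩
      · rw [Fintype.card_option, Fintype.card_fin]
        exact hr
  · subst hp0
    haveI : CharZero (ResidueField A) := CharP.charP_to_charZero _
    exact caseA (Groth.Agent.H27.CohenLift.lp_of_field _ _)

end Groth.Agent.S2458
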