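import Groth.Statements.S2464
import Groth.Agent.H21.PBasis3

set_option autoImplicit false
universe u
open EGA41

namespace Groth.Agent.S2464

/-- Let p be a prime, B a ring of characteristic p and A → B an injective ring map whose image contains
every p-th power, and (x_α) a p-basis of B over A. Let E be an A-algebra and q : E → B a surjective
A-algebra homomorphism whose kernel K has K^p = 0. (i) q admits an A-algebra right inverse if and
only if, for all z ∈ E and a ∈ A with a ↦ q(z)^p in B, the image of a in E is z^p. (ii) When this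
holds, for every family (z_α) in E with q(z_α) = x_α there is a unique A-algebra homomorphism v : B
→ E with v(x_α) = z_α for all α, and q ∘ v is the identity. -/
theorem result (p : ℕ) [Fact p.Prime] {A B : Type u} [CommRing A] [CommRing B] [Algebra A B] [CharP B p]
    (hinj : Function.Injective (algebraMap A B)) (hpow : ∀ b : B, b ^ p ∈ Set.range (algebraMap A B))
    {ι : Type u} (x : ι → B) (hx : EGA41.IsPBasis p A x)
    {E : Type u} [CommRing E] [Algebra A E] (q : E →ₐ[A] B) (hq : Function.Surjective q) (hK : RingHom.ker q.toRingHom ^ p = ⊥) :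
    ((∃ v : B →ₐ[A] E, q.comp v = AlgHom.id A B) ↔ ∀ (z : E) (a : A), algebraMap A B a = q z ^ p → algebraMap A E a = z ^ p) ∧
    ((∀ (z : E) (a : A), algebraMap A B a = q z ^ p → algebraMap A E a = z ^ p) →
      ∀ z : ι → E, (∀ i, q (z i) = x i) →
        (∃! v : B →ₐ[A] E, ∀ i, v (x i) = z i) ∧ ∀ v : B →ₐ[A] E, (∀ i, v (x i) = z i) → q.comp v = AlgHom.id A B) := by
  have hsec : ∀ (z : ι → E), (∀ i, q (z i) = x i) → ∀ v : B →ₐ[A] E, (∀ i, v (x i) = z i) →
      q.comp v = AlgHom.id A B := by
    intro z hz v hv
    apply Groth.Agent.H21.PBasis.algHom_ext_of_x hpow hx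
    intro i
    simp [hv, hz]
  have hpA : ((p : ℕ) : A) = 0 := by
    apply hinj
    rw [map_natCast, map_zero, CharP.cast_eq_zero]
  have hpE : ((p : ℕ) : E) = 0 := by
    rw [← map_natCast (algebraMap A E), hpA, map_zero]
  refine ⟨⟨?_, ?_⟩, ?_⟩
  · rintro ⟨v, hv⟩ z a ha
    by_cases hE : Subsingleton E
    · exact Subsingleton.elim _ _
    rw [not_subsingleton_iff_nontrivial] at hE
    haveI : CharP E p := (CharP.charP_iff_prime_eq_zero (Fact.out : p.Prime)).mpr hpE
    have hk : z - v (q z) ∈ RingHom.ker q.toRingHom := by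
      rw [RingHom.mem_ker]
      show q (z - v (q z)) = 0
      rw [map_sub]
      have : q (v (q z)) = q z := by
        have := congrArg (fun f => f (q z)) hv
        simpa using this
      rw [this, sub_self]
    have hkp : (z - v (q z)) ^ p = 0 := by
      have := Ideal.pow_mem_pow hk p
      rw [hK] at this
      exact this
    have hz : z = v (q z) + (z - v (q z)) := by ring
    have hzp : z ^ p = v (q z) ^ p := by
      conv_lhs => rw [hz]
      rw [add_pow_char, hkp, add_zero]
    rw [hzp, ← map_pow, ← ha, AlgHom.commutes]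
  · intro H
    choose z hz using fun i => hq (x i)
    exact ⟨Groth.Agent.H21.PBasis.liftA hinj hpow hx q H z hz,
      hsec z hz _ (Groth.Agent.H21.PBasis.liftA_x hinj hpow hx q H z hz)⟩
  · intro H z hz
    refine ⟨⟨Groth.Agent.H21.PBasis.liftA hinj hpow hx q H z hz,
      Groth.Agent.H21.PBasis.liftA_x hinj hpow hx q H z hz, ?_⟩, hsec z hz⟩
    intro v hv
    apply Groth.Agent.H21.PBasis.algHom_ext_of_x hpow hx
    intro i
    rw [hv, Groth.Agent.H21.PBasis.liftA_x]

end Groth.Agent.S2464
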