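import Groth.Statements.S2468
import Groth.Agent.H21.PField7

set_option autoImplicit false
universe u
open EGA41

namespace Groth.Agent.S2468

/-- Let k ⊆ K be fields of characteristic p > 0 and (x_α) a family of elements of K. Then (x_α) is
p-free over k if and only if the d_{K/k} x_α are linearly independent over K; it is a system of
p-generators of K over k if and only if the d x_α span Ω_{K/k}; and it is a p-basis if and only if
the d x_α form a basis of Ω_{K/k} (stated as the existence of a K-basis of Ω_{K/k} indexed by the
same index set whose members are the d x_α). (With the empty family the second equivalence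
specializes to: Ω_{K/k} = 0 iff K = k(K^p).) -/
theorem result (p : ℕ) [Fact p.Prime] {k K : Type u} [Field k] [Field K] [Algebra k K] [CharP K p]
    {ι : Type u} (x : ι → K) :
    (EGA41.IsPIndependent p k x ↔ LinearIndependent K (fun i => KaehlerDifferential.D k K (x i))) ∧
    (EGA41.IsPGenerating p k x ↔ Submodule.span K (Set.range fun i => KaehlerDifferential.D k K (x i)) = ⊤) ∧
    (EGA41.IsPBasis p k x ↔ ∃ b : Module.Basis ι K (Ω[K⁄k]), ∀ i, b i = KaehlerDifferential.D k K (x i)) := by
  refine ⟨⟨H21.PField.linIndep_D_of_isPIndependent x, H21.PField.isPIndependent_of_linIndep_D x⟩,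
    ⟨fun h => ?_, H21.PField.isPGenerating_of_span_D x⟩, ⟨fun h => ?_, ?_⟩⟩
  · have := Groth.Agent.H21.PBasis.dSpan_eq_top_of_pGenerating p x h
    unfold Groth.Agent.H21.PBasis.dSpan at this
    exact this
  · exact Groth.Agent.H21.PBasis.exists_basis_D h
  · rintro ⟨b, hb⟩
    have hfun : (fun i => KaehlerDifferential.D k K (x i)) = b := funext fun i => (hb i).symm
    refine ⟨H21.PField.isPIndependent_of_linIndep_D x ?_, H21.PField.isPGenerating_of_span_D x ?_⟩
    · rw [hfun]; exact b.linearIndependent
    · rw [hfun]; exact b.span_eq

end Groth.Agent.S2468
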