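import Groth.Statements.S2470
import Groth.Agent.S2082
import Groth.Agent.H29.RegLocal3
import Groth.Agent.H29.DimLocalHom
import Groth.Agent.Helper1.RegAscent
import Groth.Agent.Helper1.CotFlat

set_option autoImplicit false
universe u
open EGA41

namespace Groth.Agent.S2470

open IsLocalRing in
theorem emb_le {A B : Type u} [CommRing A] [IsLocalRing A] [IsNoetherianRing A] [CommRing B]
    [IsLocalRing B] [IsNoetherianRing B]
    [Algebra A B] [IsLocalRing (B ⧸ (maximalIdeal A).map (algebraMap A B))] :
    (maximalIdeal B).spanFinrank ≤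
      (maximalIdeal (B ⧸ (maximalIdeal A).map (algebraMap A B))).spanFinrank +
        (maximalIdeal A).spanFinrank := by
  refine (Groth.Agent.H29.spanFinrank_maximalIdeal_le_add B _).trans (Nat.add_le_add_left ?_ _)
  exact Ideal.spanFinrank_map_le_of_fg (algebraMap A B) (IsNoetherian.noetherian _)


open IsLocalRing in
/-- Let A → B be a local homomorphism of Noetherian local rings with maximal ideals 𝔪, 𝔫 and residue
fields k, k', and let B₀ = B/𝔪B be the closed fibre. The following are equivalent: (a) B is regular
and the canonical map (𝔪/𝔪²) ⊗_k k' → 𝔫/𝔫² is injective — stated here through dimensions, as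
rank_{k'} 𝔫/𝔫² = rank_k 𝔪/𝔪² + rank_{k'} of the cotangent space of B₀, which is equivalent since the
cokernel of that map is the cotangent space of B₀; (c) B and B₀ are regular and B is flat over A;
(d) A and B₀ are regular and B is flat over A; (e) A and B₀ are regular and dim B = dim A + dim B₀.
(Condition (b) of the source, on regular systems of parameters, is not stated.) -/
theorem result {A B : Type u} [CommRing A] [IsLocalRing A] [IsNoetherianRing A] [CommRing B] [IsLocalRing B] [IsNoetherianRing B]
    [Algebra A B] [IsLocalHom (algebraMap A B)] [IsLocalRing (B ⧸ (maximalIdeal A).map (algebraMap A B))] :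
    [IsRegularLocalRing B ∧
       Module.finrank (ResidueField B) (CotangentSpace B) =
         Module.finrank (ResidueField A) (CotangentSpace A) +
           Module.finrank (ResidueField (B ⧸ (maximalIdeal A).map (algebraMap A B))) (CotangentSpace (B ⧸ (maximalIdeal A).map (algebraMap A B))),
     IsRegularLocalRing B ∧ IsRegularLocalRing (B ⧸ (maximalIdeal A).map (algebraMap A B)) ∧ Module.Flat A B,
     IsRegularLocalRing A ∧ IsRegularLocalRing (B ⧸ (maximalIdeal A).map (algebraMap A B)) ∧ Module.Flat A B,
     IsRegularLocalRing A ∧ IsRegularLocalRing (B ⧸ (maximalIdeal A).map (algebraMap A B)) ∧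
       ringKrullDim B = ringKrullDim A + ringKrullDim (B ⧸ (maximalIdeal A).map (algebraMap A B))].TFAE := by
  obtain ⟨dA, hdA⟩ := Groth.Agent.H29.ringKrullDim_eq_natCast_of_isLocalRing A
  obtain ⟨dB, hdB⟩ := Groth.Agent.H29.ringKrullDim_eq_natCast_of_isLocalRing B
  obtain ⟨d0, hd0⟩ := Groth.Agent.H29.ringKrullDim_eq_natCast_of_isLocalRing
    (B ⧸ (maximalIdeal A).map (algebraMap A B))
  have hle : dB ≤ dA + d0 := by
    have h := Groth.Agent.H29.ringKrullDim_le_add_fibre (algebraMap A B)
    rw [hdA, hdB, hd0] at h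
    exact_mod_cast h
  have hA : dA ≤ (maximalIdeal A).spanFinrank := by
    have h := ringKrullDim_le_spanFinrank_maximalIdeal A
    rw [hdA] at h
    exact_mod_cast h
  have hB : dB ≤ (maximalIdeal B).spanFinrank := by
    have h := ringKrullDim_le_spanFinrank_maximalIdeal B
    rw [hdB] at h
    exact_mod_cast h
  have h0 : d0 ≤ (maximalIdeal (B ⧸ (maximalIdeal A).map (algebraMap A B))).spanFinrank := by
    have h := ringKrullDim_le_spanFinrank_maximalIdeal (B ⧸ (maximalIdeal A).map (algebraMap A B))
    rw [hd0] at h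
    exact_mod_cast h
  have hemb := emb_le (A := A) (B := B)
  have regA : IsRegularLocalRing A ↔ (maximalIdeal A).spanFinrank = dA := by
    rw [isRegularLocalRing_iff, hdA]
    exact ⟨fun h => by exact_mod_cast h, fun h => by exact_mod_cast h⟩
  have regB : IsRegularLocalRing B ↔ (maximalIdeal B).spanFinrank = dB := by
    rw [isRegularLocalRing_iff, hdB]
    exact ⟨fun h => by exact_mod_cast h, fun h => by exact_mod_cast h⟩
  have reg0 : IsRegularLocalRing (B ⧸ (maximalIdeal A).map (algebraMap A B)) ↔
      (maximalIdeal (B ⧸ (maximalIdeal A).map (algebraMap A B))).spanFinrank = d0 := by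
    rw [isRegularLocalRing_iff, hd0]
    exact ⟨fun h => by exact_mod_cast h, fun h => by exact_mod_cast h⟩
  have hdimiff : ringKrullDim B = ringKrullDim A +
      ringKrullDim (B ⧸ (maximalIdeal A).map (algebraMap A B)) ↔ dB = dA + d0 := by
    rw [hdA, hdB, hd0]
    exact ⟨fun h => by exact_mod_cast h, fun h => by exact_mod_cast h⟩
  rw [← spanFinrank_maximalIdeal_eq_finrank_cotangentSpace A,
    ← spanFinrank_maximalIdeal_eq_finrank_cotangentSpace B,
    ← spanFinrank_maximalIdeal_eq_finrank_cotangentSpace
      (B ⧸ (maximalIdeal A).map (algebraMap A B))]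
  tfae_have 1 → 4 := by
    rintro ⟨h1, h2⟩
    rw [regB] at h1
    refine ⟨regA.mpr (by omega), reg0.mpr (by omega), hdimiff.mpr (by omega)⟩
  tfae_have 4 → 3 := by
    rintro ⟨h1, h2, h3⟩
    refine ⟨h1, h2, ?_⟩
    have hBreg : IsRegularLocalRing B := by
      rw [regA] at h1
      rw [reg0] at h2
      rw [hdimiff] at h3
      exact regB.mpr (by omega)
    haveI := Groth.Agent.H29.isCohenMacaulayLocalRing_of_isRegularLocalRing B
    exact Groth.Agent.S2082.result h3
  tfae_have 3 → 2 := by
    rintro ⟨h1, h2, h3⟩
    exact ⟨Groth.Agent.Helper1.RegAscent.isRegularLocalRing_of_flat A B _ rfl, h2, h3⟩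
  tfae_have 2 → 1 := by
    rintro ⟨h1, h2, h3⟩
    refine ⟨h1, ?_⟩
    rw [Groth.Agent.Helper1.CotFlat.main' A B _ rfl, add_comm]
  tfae_finish


end Groth.Agent.S2470
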