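import Groth.Statements.S2475
import Groth.Agent.H21.PDesc

set_option autoImplicit false
universe u
open EGA41

namespace Groth.Agent.S2475

/-- Let K be a field of characteristic p > 0, k₀ ⊆ K a subfield and (k_α) a decreasing filtered family
of subfields of K containing k₀. Then ⋂_α k_α(K^p) = k₀(K^p) if and only if the canonical map
Ω_{K/k₀} → lim_α Ω_{K/k_α} is injective (an element of Ω_{K/k₀} whose image in every Ω_{K/k_α}
vanishes is zero). (Conditions (b), (b') of the source, on admissible subfields, are not stated.) -/
theorem result (p : ℕ) [Fact p.Prime] {k₀ K : Type u} [Field k₀] [Field K] [Algebra k₀ K] [CharP K p]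
    {ι : Type u} [Preorder ι] [IsDirected ι (· ≤ ·)] [Nonempty ι] (k : ι → IntermediateField k₀ K) (hk : Antitone k) :
    (⨅ i, k i ⊔ IntermediateField.adjoin k₀ (Set.range fun y : K => y ^ p)) = IntermediateField.adjoin k₀ (Set.range fun y : K => y ^ p) ↔
      ∀ ω : Ω[K⁄k₀], (∀ i, KaehlerDifferential.map k₀ (k i) K K ω = 0) → ω = 0 := by
  constructor
  · intro h ω hω
    exact H21.PDesc.forward p k hk h ω hω
  · intro h
    apply le_antisymm
    · intro x hx
      have hx' : ∀ i, x ∈ k i ⊔ IntermediateField.adjoin k₀ (Set.range fun y : K => y ^ p) := by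
        intro i
        exact (iInf_le (fun i => k i ⊔
          IntermediateField.adjoin k₀ (Set.range fun y : K => y ^ p)) i) hx
      have hD : ∀ i, KaehlerDifferential.map k₀ (k i) K K (KaehlerDifferential.D k₀ K x) = 0 := by
        intro i
        rw [KaehlerDifferential.map_D]
        exact Groth.Agent.H21.PBasis.D_eq_zero_of_mem_pPower p
          ((H21.PDesc.mem_sup_adjoin_iff p (k i) x).mp (hx' i))
      have := h (KaehlerDifferential.D k₀ K x) hD
      exact (H21.PDesc.mem_adjoin_iff p x).mpr (H21.PDesc.mem_of_D_eq_zero p k₀ x this)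
    · exact le_iInf (fun i => le_sup_right)

end Groth.Agent.S2475
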