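import Groth.Statements.S4528
import Mathlib
import Groth.Agent.H15.AdicProj

set_option linter.style.haveILetI false

set_option autoImplicit false
universe u
open EGA41

namespace Groth.Agent.S4528

section Aux

open IsLocalRing TensorProduct

/-- If `I` is finitely generated, `A` is `I`-adically complete and `M/IM` is a finite module,
then the `I`-adic completion of `M` is a finite `A`-module. -/
theorem finite_adicCompletion {A : Type u} [CommRing A] (I : Ideal A) (hI : I.FG)
    [IsAdicComplete I A] (M : Type u) [AddCommGroup M] [Module A M]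
    [Module.Finite A (M ⧸ (I • ⊤ : Submodule A M))] :
    Module.Finite A (AdicCompletion I M) := by
  classical
  obtain ⟨s, g, hg⟩ := Module.Finite.exists_fin (R := A) (M := M ⧸ (I • ⊤ : Submodule A M))
  choose m hm using fun i => Submodule.mkQ_surjective (I • ⊤ : Submodule A M) (g i)
  let f : (Fin s → A) →ₗ[A] M := Fintype.linearCombination A m
  have hf : Function.Surjective ((I • ⊤ : Submodule A M).mkQ ∘ₗ f) := by
    rw [← LinearMap.range_eq_top, eq_top_iff, ← hg, Submodule.span_le]
    rintro _ ⟨i, rfl⟩
    refine ⟨Pi.single i 1, ?_⟩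
    rw [LinearMap.comp_apply, Fintype.linearCombination_apply_single, one_smul, hm]
  let F : (Fin s → A) →ₗ[A] AdicCompletion I M := AdicCompletion.of I M ∘ₗ f
  haveI : IsAdicComplete I (Fin s → A) := Groth.Agent.H15.AdicProj.isAdicComplete_pi I s
  have hker : (I • ⊤ : Submodule A (AdicCompletion I M)) =
      LinearMap.ker (AdicCompletion.eval I M 1) := by
    have h := AdicCompletion.pow_smul_top_eq_ker_eval (I := I) (M := M) (n := 1) hI
    exact (by rw [pow_one] : (I • ⊤ : Submodule A (AdicCompletion I M)) = I ^ 1 • ⊤).trans h
  have hF : Function.Surjective ((I • ⊤ : Submodule A (AdicCompletion I M)).mkQ ∘ₗ F) := by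
    intro y
    obtain ⟨z, rfl⟩ := Submodule.mkQ_surjective _ y
    obtain ⟨ω, hω⟩ := Submodule.mkQ_surjective _ (AdicCompletion.eval I M 1 z)
    obtain ⟨a, ha⟩ := hf ((I • ⊤ : Submodule A M).mkQ ω)
    refine ⟨a, ?_⟩
    have h1 : f a - ω ∈ (I • ⊤ : Submodule A M) := (Submodule.Quotient.eq _).mp ha
    rw [LinearMap.comp_apply, Submodule.mkQ_apply, Submodule.mkQ_apply, Submodule.Quotient.eq,
      hker, LinearMap.mem_ker, map_sub, sub_eq_zero, ← hω]
    show AdicCompletion.eval I M 1 (AdicCompletion.of I M (f a)) = _
    rw [AdicCompletion.eval_of]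
    exact (Submodule.Quotient.eq _).mpr (by rwa [pow_one])
  have hsurj : Function.Surjective F := surjective_of_mkQ_comp_surjective hF
  exact Module.Finite.of_surjective F hsurj

/-- `Ω[A/k] / 𝔪 Ω[A/k]` is a finite module when the residue field is essentially of finite type. -/
theorem quot_finite {k A : Type u} [Field k] [CommRing A] [IsLocalRing A]
    [IsNoetherianRing A] [Algebra k A] [Algebra.EssFiniteType k (ResidueField A)] :
    Module.Finite A ((Ω[A⁄k]) ⧸ (maximalIdeal A • ⊤ : Submodule A (Ω[A⁄k]))) := by
  have hsurjK : Function.Surjective (algebraMap A (ResidueField A)) := residue_surjective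
  have hex := KaehlerDifferential.exact_kerCotangentToTensor_mapBaseChange k A (ResidueField A)
    hsurjK
  let φ : ResidueField A ⊗[A] Ω[A⁄k] →ₗ[A] Ω[ResidueField A⁄k] :=
    (KaehlerDifferential.mapBaseChange k A (ResidueField A)).restrictScalars A
  have hφsurj : Function.Surjective φ :=
    KaehlerDifferential.mapBaseChange_surjective k A (ResidueField A) hsurjK
  haveI : Module.Finite A (ResidueField A) :=
    Module.Finite.of_surjective (Algebra.linearMap A (ResidueField A)) hsurjK
  haveI : Module.Finite A (Ω[ResidueField A⁄k]) := Module.Finite.trans (ResidueField A) _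
  have hkerφ : LinearMap.ker φ =
      LinearMap.range (KaehlerDifferential.kerCotangentToTensor k A (ResidueField A)) :=
    (LinearMap.exact_iff (f := KaehlerDifferential.kerCotangentToTensor k A (ResidueField A))
      (g := φ)).mp hex
  haveI : Module.Finite A (RingHom.ker (algebraMap A (ResidueField A))).Cotangent :=
    Module.Finite.of_surjective _ (Ideal.toCotangent_surjective _)
  haveI : Module.Finite A (LinearMap.ker φ) := by
    rw [hkerφ]
    exact Module.Finite.range _
  haveI : Module.Finite A ((ResidueField A ⊗[A] Ω[A⁄k]) ⧸ LinearMap.ker φ) :=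
    Module.Finite.equiv (φ.quotKerEquivOfSurjective hφsurj).symm
  have hfin : Module.Finite A (ResidueField A ⊗[A] Ω[A⁄k]) :=
    Module.Finite.of_submodule_quotient (LinearMap.ker φ)
  haveI hfin' : Module.Finite A ((A ⧸ maximalIdeal A) ⊗[A] Ω[A⁄k]) := hfin
  exact Module.Finite.equiv (TensorProduct.quotTensorEquivQuotSMul (Ω[A⁄k]) (maximalIdeal A))

end Aux

open IsLocalRing in
/-- Let k be a field (any characteristic) and A a complete Noetherian local k-algebra whose residue
field K is an extension of finite type of k. Then the completed module of differentials, i.e. the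
𝔪-adic completion of Ω_{A/k}, is an A-module of finite type. -/
theorem result {k A : Type u} [Field k] [CommRing A] [IsLocalRing A]
    [IsNoetherianRing A] [IsAdicComplete (maximalIdeal A) A] [Algebra k A]
    [Algebra.EssFiniteType k (ResidueField A)] :
    Module.Finite A (AdicCompletion (maximalIdeal A) (Ω[A⁄k])) := by
  haveI := quot_finite (k := k) (A := A)
  exact finite_adicCompletion (maximalIdeal A) (IsNoetherian.noetherian _) (Ω[A⁄k])

end Groth.Agent.S4528
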