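import Groth.Statements.S2477
import Mathlib
import Groth.Agent.S4528
import Groth.Agent.H15.ObsPS2

set_option linter.style.haveILetI false

set_option autoImplicit false
universe u
open EGA41

namespace Groth.Agent.S2477

section Aux

open IsLocalRing TensorProduct

/-- If the classes of `m i` span `M/IM`, then `Aˢ → M^` is surjective. -/
theorem surj_to_completion {A : Type u} [CommRing A] (I : Ideal A) (hI : I.FG)
    [IsAdicComplete I A] (M : Type u) [AddCommGroup M] [Module A M] {s : ℕ} (m : Fin s → M)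
    (hm : Submodule.span A (Set.range fun i => (I • ⊤ : Submodule A M).mkQ (m i)) = ⊤) :
    Function.Surjective (AdicCompletion.of I M ∘ₗ Fintype.linearCombination A m) := by
  classical
  let f : (Fin s → A) →ₗ[A] M := Fintype.linearCombination A m
  have hf : Function.Surjective ((I • ⊤ : Submodule A M).mkQ ∘ₗ f) := by
    rw [← LinearMap.range_eq_top, eq_top_iff, ← hm, Submodule.span_le]
    rintro _ ⟨i, rfl⟩
    refine ⟨Pi.single i 1, ?_⟩
    rw [LinearMap.comp_apply, Fintype.linearCombination_apply_single, one_smul]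
  let F : (Fin s → A) →ₗ[A] AdicCompletion I M := AdicCompletion.of I M ∘ₗ f
  haveI : IsAdicComplete I (Fin s → A) := Groth.Agent.H15.AdicProj.isAdicComplete_pi I s
  have hker : (I • ⊤ : Submodule A (AdicCompletion I M)) =
      LinearMap.ker (AdicCompletion.eval I M 1) := by
    have h := AdicCompletion.pow_smul_top_eq_ker_eval (I := I) (M := M) (n := 1) hI
    exact (by rw [pow_one] : (I • ⊤ : Submodule A (AdicCompletion I M)) = I ^ 1 • ⊤).trans h
  have hF : Function.Surjective ((I • ⊤ : Submodule A (AdicCompletion I M)).mkQ ∘ₗ F) := by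
    intro y
    obtain ⟨z, rfl⟩ := Submodule.mkQ_surjective _ y
    obtain ⟨ω, hω⟩ := Submodule.mkQ_surjective _ (AdicCompletion.eval I M 1 z)
    obtain ⟨a, ha⟩ := hf ((I • ⊤ : Submodule A M).mkQ ω)
    refine ⟨a, ?_⟩
    have h1 : f a - ω ∈ (I • ⊤ : Submodule A M) := (Submodule.Quotient.eq _).mp ha
    rw [LinearMap.comp_apply, Submodule.mkQ_apply, Submodule.mkQ_apply, Submodule.Quotient.eq,
      hker, LinearMap.mem_ker, map_sub, sub_eq_zero, ← hω]
    show AdicCompletion.eval I M 1 (AdicCompletion.of I M (f a)) = _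
    rw [AdicCompletion.eval_of]
    exact (Submodule.Quotient.eq _).mpr (by rwa [pow_one])
  exact surjective_of_mkQ_comp_surjective hF

variable (k : Type u) [Field k] (r : ℕ)

instance complete_max :
    IsAdicComplete (maximalIdeal (MvPowerSeries (Fin r) k)) (MvPowerSeries (Fin r) k) := by
  rw [Groth.Agent.H15.ObsPS2.max_eq_span]
  infer_instance

/-- The classes of `dXᵢ` span `Ω/𝔪Ω`. -/
theorem span_dX :
    Submodule.span (MvPowerSeries (Fin r) k) (Set.range fun i : Fin r =>
      (maximalIdeal (MvPowerSeries (Fin r) k) • ⊤ :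
        Submodule (MvPowerSeries (Fin r) k) (Ω[MvPowerSeries (Fin r) k⁄k])).mkQ
        (KaehlerDifferential.D k (MvPowerSeries (Fin r) k) (MvPowerSeries.X i))) = ⊤ := by
  classical
  rw [eq_top_iff]
  rintro y -
  obtain ⟨ω, rfl⟩ := Submodule.mkQ_surjective _ y
  have hω : ω ∈ Submodule.span (MvPowerSeries (Fin r) k)
      (Set.range (KaehlerDifferential.D k (MvPowerSeries (Fin r) k))) := by
    rw [KaehlerDifferential.span_range_derivation]
    trivial
  refine Submodule.span_induction ?_ ?_ ?_ ?_ hω
  · rintro _ ⟨f, rfl⟩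
    obtain ⟨g, hg⟩ := (Ideal.mem_span_range_iff_exists_fun).1
      (Groth.Agent.H15.PSArt2.sub_C_mem f)
    have hf : f = MvPowerSeries.C (MvPowerSeries.constantCoeff f) +
        ∑ i, g i * MvPowerSeries.X i := by
      rw [hg]
      ring
    have hDC : KaehlerDifferential.D k (MvPowerSeries (Fin r) k)
        (MvPowerSeries.C (MvPowerSeries.constantCoeff f)) = 0 := by
      have : (MvPowerSeries.C (MvPowerSeries.constantCoeff f) : MvPowerSeries (Fin r) k) =
          algebraMap k _ (MvPowerSeries.constantCoeff f) := rfl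
      rw [this, Derivation.map_algebraMap]
    rw [hf, map_add, hDC, zero_add, map_sum, map_sum]
    refine Submodule.sum_mem _ fun i _ => ?_
    rw [Derivation.leibniz, map_add]
    have hX : MvPowerSeries.X i ∈ maximalIdeal (MvPowerSeries (Fin r) k) := by
      rw [Groth.Agent.H15.ObsPS2.max_eq_span]
      exact Ideal.subset_span ⟨i, rfl⟩
    have hz : (maximalIdeal (MvPowerSeries (Fin r) k) • ⊤ :
        Submodule (MvPowerSeries (Fin r) k) (Ω[MvPowerSeries (Fin r) k⁄k])).mkQ
        ((MvPowerSeries.X i : MvPowerSeries (Fin r) k) •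
          KaehlerDifferential.D k (MvPowerSeries (Fin r) k) (g i)) = 0 := by
      rw [Submodule.mkQ_apply, Submodule.Quotient.mk_eq_zero]
      exact Submodule.smul_mem_smul hX Submodule.mem_top
    refine Submodule.add_mem _ ?_ ?_
    · rw [LinearMap.map_smul]
      exact Submodule.smul_mem _ _ (Submodule.subset_span ⟨i, rfl⟩)
    · rw [hz]
      exact Submodule.zero_mem _
  · rw [map_zero]
    exact Submodule.zero_mem _
  · intro a b _ _ ha hb
    rw [map_add]
    exact Submodule.add_mem _ ha hb
  · intro c a _ ha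
    rw [map_smul]
    exact Submodule.smul_mem _ _ ha

/-- The comparison isomorphism `Pʳ ≃ Ω^`. -/
theorem exists_equiv :
    Nonempty ((Fin r → MvPowerSeries (Fin r) k) ≃ₗ[MvPowerSeries (Fin r) k]
      AdicCompletion (maximalIdeal (MvPowerSeries (Fin r) k)) (Ω[MvPowerSeries (Fin r) k⁄k])) := by
  classical
  have hfg : (maximalIdeal (MvPowerSeries (Fin r) k)).FG := by
    rw [Groth.Agent.H15.ObsPS2.max_eq_span]
    exact Submodule.fg_span (Set.finite_range _)
  let φ := AdicCompletion.of (maximalIdeal (MvPowerSeries (Fin r) k))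
      (Ω[MvPowerSeries (Fin r) k⁄k]) ∘ₗ
    Fintype.linearCombination (MvPowerSeries (Fin r) k)
      (fun i : Fin r => KaehlerDifferential.D k (MvPowerSeries (Fin r) k) (MvPowerSeries.X i))
  have hφsurj : Function.Surjective φ :=
    surj_to_completion _ hfg _ _ (span_dX k r)
  let ℓ : Ω[MvPowerSeries (Fin r) k⁄k] →ₗ[MvPowerSeries (Fin r) k]
      (Fin r → MvPowerSeries (Fin r) k) :=
    LinearMap.pi fun j => (MvPowerSeries.pderiv k j).liftKaehlerDifferential
  haveI : IsAdicComplete (maximalIdeal (MvPowerSeries (Fin r) k))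
      (Fin r → MvPowerSeries (Fin r) k) :=
    Groth.Agent.H15.AdicProj.isAdicComplete_pi _ r
  let ψ : AdicCompletion (maximalIdeal (MvPowerSeries (Fin r) k))
      (Ω[MvPowerSeries (Fin r) k⁄k]) →ₗ[MvPowerSeries (Fin r) k]
      (Fin r → MvPowerSeries (Fin r) k) :=
    (AdicCompletion.ofLinearEquiv (maximalIdeal (MvPowerSeries (Fin r) k))
      (Fin r → MvPowerSeries (Fin r) k)).symm.toLinearMap ∘ₗ
      (AdicCompletion.map (maximalIdeal (MvPowerSeries (Fin r) k)) ℓ).restrictScalars
        (MvPowerSeries (Fin r) k)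
  have hψφ : ψ ∘ₗ φ = LinearMap.id := by
    apply LinearMap.pi_ext'
    intro i
    apply LinearMap.ext_ring
    show ψ (φ (Pi.single i 1)) = Pi.single i 1
    have h1 : φ (Pi.single i 1) = AdicCompletion.of _ _
        (KaehlerDifferential.D k (MvPowerSeries (Fin r) k) (MvPowerSeries.X i)) := by
      show AdicCompletion.of _ _ (Fintype.linearCombination _ _ (Pi.single i 1)) = _
      rw [Fintype.linearCombination_apply_single, one_smul]
    rw [h1]
    show (AdicCompletion.ofLinearEquiv _ _).symm (AdicCompletion.map _ ℓ (AdicCompletion.of _ _ _))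
      = _
    rw [AdicCompletion.map_of, AdicCompletion.ofLinearEquiv_symm_of]
    funext j
    show (MvPowerSeries.pderiv k j).liftKaehlerDifferential
      (KaehlerDifferential.D k (MvPowerSeries (Fin r) k) (MvPowerSeries.X i)) = _
    rw [Derivation.liftKaehlerDifferential_comp_D, MvPowerSeries.pderiv_X, Pi.single_comm]
  have hφinj : Function.Injective φ := fun a b hab => by
    have := congrArg ψ hab
    rwa [← LinearMap.comp_apply, ← LinearMap.comp_apply, hψφ] at this
  exact ⟨LinearEquiv.ofBijective φ ⟨hφinj, hφsurj⟩⟩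

end Aux

open IsLocalRing in
/-- Let k be a field and A = k[[T_1, …, T_r]] with its usual k-algebra structure. Then the adic
completion Ω̂_{A/k} of Ω_{A/k} is a free A-module of rank r. -/
theorem result (k : Type u) [Field k] (r : ℕ) :
    Module.Finite (MvPowerSeries (Fin r) k) (AdicCompletion (maximalIdeal (MvPowerSeries (Fin r) k)) (Ω[MvPowerSeries (Fin r) k⁄k])) ∧
    Module.Free (MvPowerSeries (Fin r) k) (AdicCompletion (maximalIdeal (MvPowerSeries (Fin r) k)) (Ω[MvPowerSeries (Fin r) k⁄k])) ∧
      Module.finrank (MvPowerSeries (Fin r) k) (AdicCompletion (maximalIdeal (MvPowerSeries (Fin r) k)) (Ω[MvPowerSeries (Fin r) k⁄k])) = r := by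
  obtain ⟨e⟩ := exists_equiv k r
  refine ⟨Module.Finite.equiv e, Module.Free.of_equiv e, ?_⟩
  rw [← LinearEquiv.finrank_eq e, Module.finrank_fin_fun]

end Groth.Agent.S2477
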