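import Groth.Statements.S2479
import Groth.Agent.Lib.Helper18.ProConsAffine

set_option autoImplicit false
universe u
open EGA41

namespace Groth.Agent.S2479

open AlgebraicGeometry CategoryTheory Topology in
/-- Let X be a quasi-compact and quasi-separated scheme and E ⊆ X. Then E = f(X') for some quasi-compact
morphism f : X' → X if and only if E is an intersection of a family of constructible subsets of X. -/
theorem result {X : Scheme.{u}} [CompactSpace X] [QuasiSeparatedSpace X] (E : Set X) :
    (∃ (X' : Scheme.{u}) (f : X' ⟶ X), QuasiCompact f ∧ Set.range f.base = E) ↔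
      ∃ S : Set (Set X), (∀ s ∈ S, IsConstructible s) ∧ E = ⋂₀ S := by
  constructor
  · rintro ⟨X', f, hf, rfl⟩
    have huniv : ProCons.IsProConstructible (Set.univ : Set X') := by
      intro y
      refine ⟨Set.univ, isOpen_univ, Set.mem_univ y, ∅,
        fun T hT => absurd hT (Set.notMem_empty T), ?_⟩
      simp
    have hpro : ProCons.IsProConstructible (Set.range f.base) := by
      rw [← Set.image_univ]
      exact Groth.Agent.Helper18.ProConsImage.main f Set.univ huniv
    refine ⟨{D | IsConstructible D ∧ Set.range f.base ⊆ D}, fun s hs => hs.1, ?_⟩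
    apply subset_antisymm
    · exact Set.subset_sInter fun D hD => hD.2
    · intro x hx
      by_contra hne
      obtain ⟨C, hC, hxC, hCE⟩ :=
        Groth.Agent.Helper18.ProConsAffine.exists_isConstructible_disjoint hpro hne
      exact hx Cᶜ ⟨hC.compl, fun y hy hyC => hCE y hyC hy⟩ hxC
  · rintro ⟨S, hS, rfl⟩
    have hpro : ProCons.IsProConstructible (⋂₀ S) := by
      intro x
      refine ⟨Set.univ, isOpen_univ, Set.mem_univ x, (fun s => Subtype.val ⁻¹' s) '' S, ?_, ?_⟩
      · rintro T ⟨s, hs, rfl⟩
        exact ((hS s hs).preimage_of_isOpenEmbedding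
          isOpen_univ.isOpenEmbedding_subtypeVal).isLocallyConstructible
      · ext y
        simp only [Set.mem_preimage, Set.mem_sInter, Set.mem_image, forall_exists_index, and_imp,
          forall_apply_eq_imp_iff₂]
    obtain ⟨X', f, hX', hf⟩ := (Groth.Agent.Helper18.ProConsAffine.main X _).mp hpro
    haveI := hX'
    exact ⟨X', f, inferInstance, hf⟩

end Groth.Agent.S2479
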