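import Groth.Statements.S2481
import Mathlib
import Groth.Agent.S9316

set_option autoImplicit false
universe u
open EGA41

namespace Groth.Agent.S2481

/-- Square-zero adic formal smoothness gives lifting along surjections with nilpotent kernel. -/
theorem nilp_lift {A B : Type u} [CommRing A] [CommRing B] [Algebra A B] (𝔫 : Ideal B)
    (h : CAlgX.IsAdicFormallySmooth A B 𝔫) :
    ∀ m : ℕ, 1 ≤ m → ∀ (C C' : Type u) [CommRing C] [CommRing C'] [Algebra A C] [Algebra A C']
      (π : C →ₐ[A] C'), Function.Surjective π → RingHom.ker π ^ m = ⊥ →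
      ∀ u : B →ₐ[A] C', (∃ k : ℕ, ∀ x ∈ 𝔫 ^ k, u x = 0) →
        ∃ v : B →ₐ[A] C, ∀ b, π (v b) = u b := by
  intro m hm
  induction m, hm using Nat.le_induction with
  | base =>
    intro C C' _ _ _ _ π hπ hker u _
    rw [pow_one] at hker
    have hinj : Function.Injective π := (RingHom.injective_iff_ker_eq_bot π.toRingHom).mpr hker
    obtain ⟨e, he⟩ : ∃ e : C ≃ₐ[A] C', ∀ c, e c = π c :=
      ⟨AlgEquiv.ofBijective π ⟨hinj, hπ⟩, fun c => rfl⟩
    refine ⟨e.symm.toAlgHom.comp u, fun b => ?_⟩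
    rw [← he]
    simp
  | succ m hm ih =>
    intro C C' _ _ _ _ π hπ hker u hu
    obtain ⟨k, hk⟩ := hu
    have hm0 : m ≠ 0 := by omega
    have hI2 : (RingHom.ker π ^ m) ^ 2 = ⊥ := by
      rw [← pow_mul, eq_bot_iff, ← hker]
      exact Ideal.pow_le_pow_right (by omega)
    have hIN : RingHom.ker π ^ m ≤ RingHom.ker π := Ideal.pow_le_self hm0
    obtain ⟨π₁, hπ₁⟩ : ∃ π₁ : (C ⧸ RingHom.ker π ^ m) →ₐ[A] C',
        ∀ a, π₁ (Ideal.Quotient.mk _ a) = π a :=
      ⟨Ideal.Quotient.liftₐ _ π (fun a ha => RingHom.mem_ker.mp (hIN ha)), fun a => rfl⟩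
    have hπ₁s : Function.Surjective π₁ := by
      intro t
      obtain ⟨a, rfl⟩ := hπ t
      exact ⟨_, hπ₁ a⟩
    have hkerle : RingHom.ker π₁ ≤ (RingHom.ker π).map (Ideal.Quotient.mk (RingHom.ker π ^ m)) := by
      intro x hx
      obtain ⟨a, rfl⟩ := Ideal.Quotient.mk_surjective x
      rw [RingHom.mem_ker, hπ₁] at hx
      exact Ideal.mem_map_of_mem _ (RingHom.mem_ker.mpr hx)
    have hker₁ : RingHom.ker π₁ ^ m = ⊥ := by
      rw [eq_bot_iff]
      calc RingHom.ker π₁ ^ m
          ≤ ((RingHom.ker π).map (Ideal.Quotient.mk (RingHom.ker π ^ m))) ^ m :=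
            Ideal.pow_right_mono hkerle m
        _ = (RingHom.ker π ^ m).map (Ideal.Quotient.mk (RingHom.ker π ^ m)) :=
            (Ideal.map_pow _ _ _).symm
        _ = ⊥ := Ideal.map_quotient_self _
    obtain ⟨v₁, hv₁⟩ := ih _ _ π₁ hπ₁s hker₁ u ⟨k, hk⟩
    have hkill : ∀ x ∈ 𝔫 ^ (k * m), v₁ x = 0 := by
      have h1 : (𝔫 ^ k).map v₁.toRingHom ≤ RingHom.ker π₁ := by
        rw [Ideal.map_le_iff_le_comap]
        intro x hx
        rw [Ideal.mem_comap, RingHom.mem_ker]
        show π₁ (v₁ x) = 0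
        rw [hv₁, hk x hx]
      have h2 : (𝔫 ^ (k * m)).map v₁.toRingHom ≤ ⊥ := by
        rw [pow_mul, Ideal.map_pow, ← hker₁]
        exact Ideal.pow_right_mono h1 m
      intro x hx
      exact Ideal.mem_bot.mp (h2 (Ideal.mem_map_of_mem v₁.toRingHom hx))
    obtain ⟨χ, hχ⟩ := h C (RingHom.ker π ^ m) hI2 v₁ ⟨k * m, hkill⟩
    refine ⟨χ, fun b => ?_⟩
    have h3 : Ideal.Quotient.mk (RingHom.ker π ^ m) (χ b) = v₁ b := AlgHom.congr_fun hχ b
    rw [← hπ₁, h3, hv₁]


open IsLocalRing in
/-- Let A → B be a local homomorphism of Noetherian local rings with the adic topologies, K the residue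
field of B. Then B is formally smooth over A if and only if: for every Artinian local ring C with a
local homomorphism A → C, every nilpotent ideal J of C and every local A-algebra homomorphism u : B
→ C/J inducing a bijection of residue fields (so that C has residue field K and u induces the
identity on it), u is induced by a local A-algebra homomorphism B → C. -/
theorem result {A B : Type u} [CommRing A] [IsLocalRing A] [IsNoetherianRing A] [CommRing B] [IsLocalRing B] [IsNoetherianRing B]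
    [Algebra A B] [IsLocalHom (algebraMap A B)] :
    EGA41.IsFormallySmoothAdic A (maximalIdeal A) B (maximalIdeal B) ↔
      ∀ (C : Type u) [CommRing C] [IsLocalRing C] [IsArtinianRing C] [Algebra A C] [IsLocalHom (algebraMap A C)]
        (J : Ideal C), IsNilpotent J → ∀ [IsLocalRing (C ⧸ J)] (u : B →ₐ[A] C ⧸ J) [IsLocalHom u.toRingHom],
        Function.Bijective (ResidueField.map u.toRingHom) →
        ∃ f : B →ₐ[A] C, IsLocalHom f.toRingHom ∧ (Ideal.Quotient.mkₐ A J).comp f = u := by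
  constructor
  · intro hFS C _ _ _ _ _ J hJ _ u _ hbij
    obtain ⟨k, hk0⟩ := (isArtinianRing_iff_isNilpotent_maximalIdeal C).mp inferInstance
    have hk : maximalIdeal C ^ k = ⊥ := by rw [← Ideal.zero_eq_bot]; exact hk0
    have hA : (maximalIdeal A ^ k).map (algebraMap A C) = ⊥ := by
      have h1 : (maximalIdeal A).map (algebraMap A C) ≤ maximalIdeal C := by
        rw [Ideal.map_le_iff_le_comap]
        intro a ha
        rw [Ideal.mem_comap, mem_maximalIdeal, mem_nonunits_iff]
        intro hu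
        exact (mem_nonunits_iff.mp ((mem_maximalIdeal _).mp ha))
          (isUnit_of_map_unit (algebraMap A C) a hu)
      rw [eq_bot_iff, Ideal.map_pow, ← hk]
      exact Ideal.pow_right_mono h1 k
    have hu : ∀ x ∈ maximalIdeal B ^ k, u x = 0 := by
      intro x hx
      have h1 : maximalIdeal (C ⧸ J) ≤ (maximalIdeal C).map (Ideal.Quotient.mk J) := by
        intro y hy
        obtain ⟨a, rfl⟩ := Ideal.Quotient.mk_surjective y
        refine Ideal.mem_map_of_mem _ ?_
        rw [mem_maximalIdeal, mem_nonunits_iff]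
        intro ha
        exact (mem_nonunits_iff.mp ((mem_maximalIdeal _).mp hy)) (ha.map _)
      have h2 : (maximalIdeal (C ⧸ J)) ^ k = ⊥ := by
        apply le_bot_iff.mp
        calc (maximalIdeal (C ⧸ J)) ^ k
            ≤ ((maximalIdeal C).map (Ideal.Quotient.mk J)) ^ k := Ideal.pow_right_mono h1 k
          _ = ((maximalIdeal C) ^ k).map (Ideal.Quotient.mk J) := (Ideal.map_pow _ _ _).symm
          _ = ⊥ := by rw [hk, Ideal.map_bot]
      have h3 : u x ∈ (maximalIdeal (C ⧸ J)) ^ k := by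
        have h5 : (maximalIdeal B).map u.toRingHom ≤ maximalIdeal (C ⧸ J) := by
          rw [Ideal.map_le_iff_le_comap]
          intro s hs
          rw [Ideal.mem_comap, mem_maximalIdeal, mem_nonunits_iff]
          intro hu
          exact (mem_nonunits_iff.mp ((mem_maximalIdeal _).mp hs))
            (isUnit_of_map_unit u.toRingHom s hu)
        have h4 : (maximalIdeal B ^ k).map u.toRingHom ≤ (maximalIdeal (C ⧸ J)) ^ k := by
          rw [Ideal.map_pow]
          exact Ideal.pow_right_mono h5 k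
        exact h4 (Ideal.mem_map_of_mem u.toRingHom hx)
      rw [h2] at h3
      exact h3
    obtain ⟨v, hv⟩ := hFS C J hJ ⟨k, hA⟩ u ⟨k, hu⟩
    refine ⟨v, ⟨fun b hb => ?_⟩, hv⟩
    have h1 : IsUnit (Ideal.Quotient.mk J (v b)) := hb.map (Ideal.Quotient.mk J)
    have h2 : Ideal.Quotient.mk J (v b) = u b := AlgHom.congr_fun hv b
    rw [h2] at h1
    exact isUnit_of_map_unit u.toRingHom b h1
  · intro Hyp
    have hX : CAlgX.IsAdicFormallySmooth A B (maximalIdeal B) := by
      refine Groth.Agent.S9316.result.mpr ?_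
      intro C _ _ _ _ _ J hJ hlen _ ψ _ hbij
      obtain ⟨f, _, hf⟩ := Hyp C J ⟨2, by rw [hJ]; rfl⟩ ψ hbij
      exact ⟨f, hf⟩
    intro C _ _ J hJ _ u hu
    obtain ⟨m, hm⟩ := hJ
    have hkerJ : RingHom.ker (Ideal.Quotient.mkₐ A J) = J := by
      ext x
      rw [RingHom.mem_ker]
      exact Ideal.Quotient.eq_zero_iff_mem
    have hm1 : RingHom.ker (Ideal.Quotient.mkₐ A J) ^ (m + 1) = ⊥ := by
      rw [hkerJ, pow_succ, hm, Ideal.zero_eq_bot, Ideal.bot_mul]
    obtain ⟨v, hv⟩ := nilp_lift (maximalIdeal B) hX (m + 1) (Nat.le_add_left 1 m) C (C ⧸ J)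
      (Ideal.Quotient.mkₐ A J) (Ideal.Quotient.mkₐ_surjective A J) hm1 u hu
    exact ⟨v, AlgHom.ext fun b => hv b⟩

end Groth.Agent.S2481
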