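import Groth.Statements.S2482
import Mathlib
import Groth.Agent.H27.CohenLiftRel
import Groth.Agent.S2454

set_option autoImplicit false
universe u
open EGA41

namespace Groth.Agent.S2482

open IsLocalRing in
/-- (a) ⟹ (b): let A, B be complete discrete valuation rings and u : A → B a ring homomorphism with
u(𝔪_A)B = 𝔪_B, such that the residue field L of B is separable over the residue field K of A. Then
for every complete discrete valuation ring B', every homomorphism u' : A → B' with u'(𝔪_A)B' =
𝔪_{B'} and every isomorphism σ of residue fields L ≅ L' compatible with the maps from K, there is an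
isomorphism w : B ≅ B' with u' = w ∘ u inducing σ on residue fields. -/
theorem result {A B B' : Type u} [CommRing A] [IsDomain A] [IsDiscreteValuationRing A] [IsAdicComplete (maximalIdeal A) A]
    [CommRing B] [IsDomain B] [IsDiscreteValuationRing B] [IsAdicComplete (maximalIdeal B) B]
    [CommRing B'] [IsDomain B'] [IsDiscreteValuationRing B'] [IsAdicComplete (maximalIdeal B') B']
    (u : A →+* B) [IsLocalHom u] (hu : (maximalIdeal A).map u = maximalIdeal B)
    (hsep : letI := (ResidueField.map u).toAlgebra; Algebra.IsGeometricallyReduced (ResidueField A) (ResidueField B))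
    (u' : A →+* B') [IsLocalHom u'] (hu' : (maximalIdeal A).map u' = maximalIdeal B')
    (σ : ResidueField B ≃+* ResidueField B') (hσ : (σ : ResidueField B →+* ResidueField B').comp (ResidueField.map u) = ResidueField.map u') :
    ∃ w : B ≃+* B', (w : B →+* B').comp u = u' ∧ ∀ b : B, residue B' (w b) = σ (residue B b) := by
  classical
  obtain ⟨π, hπ⟩ := IsDiscreteValuationRing.exists_irreducible A
  have hmA : maximalIdeal A = Ideal.span {π} := hπ.maximalIdeal_eq
  have hmB : maximalIdeal B = Ideal.span {u π} := by
    rw [← hu, hmA, Ideal.map_span, Set.image_singleton]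
  have hmB' : maximalIdeal B' = Ideal.span {u' π} := by
    rw [← hu', hmA, Ideal.map_span, Set.image_singleton]
  have huπ0 : u π ≠ 0 := by
    intro h0
    apply IsDiscreteValuationRing.not_a_field B
    rw [hmB, h0, Ideal.span_singleton_eq_bot]
  have hinj : Function.Injective u := by
    rw [injective_iff_map_eq_zero]
    intro a ha
    by_contra ha0
    obtain ⟨k, hk⟩ := IsDiscreteValuationRing.associated_pow_irreducible ha0 hπ
    obtain ⟨c, hc⟩ := hk
    have h1 : u a * u c = (u π) ^ k := by rw [← map_mul, hc, map_pow]
    rw [ha, zero_mul] at h1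
    exact pow_ne_zero k huπ0 h1.symm
  letI : Algebra A B := u.toAlgebra
  haveI : IsLocalHom (algebraMap A B) := ‹IsLocalHom u›
  haveI : Module.IsTorsionFree A B := ⟨fun r hr b b' hbb' => by
    have hr0 : algebraMap A B r ≠ 0 := fun h0 => hr.ne_zero (hinj (by rw [map_zero]; exact h0))
    simp only [Algebra.smul_def] at hbb'
    exact mul_left_cancel₀ hr0 hbb'⟩
  haveI : Module.Flat A B := inferInstance
  have halg : (ResidueField.map u).toAlgebra =
      (ResidueField.instAlgebra : Algebra (ResidueField A) (ResidueField B)) := by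
    apply Algebra.algebra_ext
    intro r
    obtain ⟨a, rfl⟩ := residue_surjective r
    rfl
  have hsep' : Algebra.IsGeometricallyReduced (ResidueField A) (ResidueField B) := halg ▸ hsep
  have hCoh : EGA41.IsCohenAlgebra A B :=
    ⟨inferInstance, inferInstance, inferInstance, inferInstance, hu, hsep'⟩
  have hfs := Groth.Agent.S2454.result hCoh
  have H : ∀ n, Groth.Agent.H27.CohenLiftRel.LPR u
      ((Ideal.Quotient.mk (maximalIdeal B' ^ n)).comp u') := by
    intro n I hI g hg
    let _ : Algebra A (B' ⧸ maximalIdeal B' ^ n) :=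
      ((Ideal.Quotient.mk (maximalIdeal B' ^ n)).comp u').toAlgebra
    let gA : B →ₐ[A] (B' ⧸ maximalIdeal B' ^ n) ⧸ I :=
      { toRingHom := g, commutes' := fun a => RingHom.congr_fun hg a }
    have hkA : (maximalIdeal A ^ n).map (algebraMap A (B' ⧸ maximalIdeal B' ^ n)) = ⊥ := by
      rw [eq_bot_iff, Ideal.map_le_iff_le_comap]
      intro a ha
      rw [Ideal.mem_comap, Ideal.mem_bot]
      show Ideal.Quotient.mk (maximalIdeal B' ^ n) (u' a) = 0
      rw [Ideal.Quotient.eq_zero_iff_mem]
      have h1 : u' a ∈ (maximalIdeal A ^ n).map u' := Ideal.mem_map_of_mem u' ha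
      rwa [Ideal.map_pow, hu'] at h1
    have hkB : ∀ x ∈ maximalIdeal B ^ n, gA x = 0 := by
      intro x hx
      rw [← hu, ← Ideal.map_pow] at hx
      have hle : (maximalIdeal A ^ n).map u ≤ RingHom.ker g := by
        rw [Ideal.map_le_iff_le_comap]
        intro a ha
        rw [Ideal.mem_comap, RingHom.mem_ker]
        have h1 : g (u a) = Ideal.Quotient.mk I
            (Ideal.Quotient.mk (maximalIdeal B' ^ n) (u' a)) := RingHom.congr_fun hg a
        have h2 : Ideal.Quotient.mk (maximalIdeal B' ^ n) (u' a) = 0 := by
          rw [Ideal.Quotient.eq_zero_iff_mem]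
          have h3 : u' a ∈ (maximalIdeal A ^ n).map u' := Ideal.mem_map_of_mem u' ha
          rwa [Ideal.map_pow, hu'] at h3
        rw [h1, h2, map_zero]
      exact hle hx
    obtain ⟨v, hv⟩ := hfs (B' ⧸ maximalIdeal B' ^ n) I hI ⟨n, hkA⟩ gA ⟨n, hkB⟩
    exact ⟨v.toRingHom, RingHom.ext (fun b => AlgHom.congr_fun hv b),
      RingHom.ext (fun a => v.commutes a)⟩
  have hJ : maximalIdeal B' ≠ ⊤ := (maximalIdeal.isMaximal B').ne_top
  let ubar : B →+* B' ⧸ maximalIdeal B' :=
    (σ : ResidueField B →+* ResidueField B').comp (residue B)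
  have hubar : ubar.comp u = (Ideal.Quotient.mk (maximalIdeal B')).comp u' := by
    ext a
    show σ (residue B (u a)) = residue B' (u' a)
    have h1 : σ (ResidueField.map u (residue A a)) = ResidueField.map u' (residue A a) :=
      RingHom.congr_fun hσ (residue A a)
    rw [ResidueField.map_residue, ResidueField.map_residue] at h1
    exact h1
  obtain ⟨w, hw1, hw2⟩ := Groth.Agent.H27.CohenLiftRel.lift_of_LPR u u' (maximalIdeal B') hJ
    ubar hubar H
  have hwres : ∀ b, residue B' (w b) = σ (residue B b) := fun b => RingHom.congr_fun hw1 b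
  have hwπ : w (u π) = u' π := RingHom.congr_fun hw2 π
  have hbij : Function.Bijective w :=
    Groth.Agent.H27.CohenLiftRel.bijective_of_residue_iso inferInstance inferInstance w (u π) hmB
      (by rw [hwπ]; exact hmB') σ hwres
  refine ⟨RingEquiv.ofBijective w hbij, ?_, fun b => hwres b⟩
  ext a
  exact RingHom.congr_fun hw2 a

end Groth.Agent.S2482
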