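import Mathlib
import Mathlib
import Groth.Agent.H11.CoefUnique
import Groth.Statements.S2483

set_option autoImplicit false
universe u
open EGA41

namespace Groth.Agent.S2483

open IsLocalRing in
/-- Let C be a complete Noetherian local ring with maximal ideal 𝔍 ≠ 0 and residue field K, and u : K →
C a ring homomorphism which is a section of the residue map. Then u is the only such section if and
only if Ω_{K/ℤ} = 0. -/
theorem result {C : Type u} [CommRing C] [IsLocalRing C] [IsNoetherianRing C] [IsAdicComplete (maximalIdeal C) C]
    (hm : maximalIdeal C ≠ ⊥) (u : ResidueField C →+* C) (hu : ∀ x, residue C (u x) = x) :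
    (∀ v : ResidueField C →+* C, (∀ x, residue C (v x) = x) → v = u) ↔ Subsingleton (Ω[ResidueField C⁄ℤ]) := by
  have hker : RingHom.ker (residue C) = maximalIdeal C := IsLocalRing.ker_residue
  have key : (∀ v : ResidueField C →+* C, (∀ x, residue C (v x) = x) → v = u) ↔
      Subsingleton (@KaehlerDifferential ℤ (ResidueField C) _ _ (Ring.toIntAlgebra _)) := by
    constructor
    · intro h
      by_contra hΩ
      obtain ⟨v, hv, hvu⟩ := Groth.Agent.H11.CoefUnique.exists_ne_section (residue C) hker hm u hu hΩ
      exact hvu (h v hv)
    · intro hΩ v hv
      exact Groth.Agent.H11.CoefUnique.unique_of_subsingleton (residue C) hker u v hu hv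
  convert key
  exact Subsingleton.elim _ _

end Groth.Agent.S2483
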