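import Groth.Statements.S2579
import Mathlib
import Groth.Agent.S12442
import Groth.Agent.Lib.Helper9.Lim8

set_option autoImplicit false
universe u
open CategoryTheory AlgebraicGeometry
open EGA43

namespace Groth.Agent.S2579

open AlgebraicGeometry CategoryTheory Limits in
theorem mono_stage {X₀ Y₀ S₀ Sj : Scheme.{u}} (f₀ : X₀ ⟶ Y₀) (g₀ : Y₀ ⟶ S₀) (a : Sj ⟶ S₀)
    (G : pullback f₀ f₀ ⟶ S₀) (hG : G = pullback.fst f₀ f₀ ≫ f₀ ≫ g₀)
    (g : pullback a G ⟶ X₀) (hg : g ≫ pullback.diagonal f₀ = pullback.snd a G) :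
    Mono (pullback.snd f₀ (pullback.fst g₀ a)) := by
  refine ⟨fun {T} α β hαβ => ?_⟩
  have hc1 : (α ≫ pullback.fst f₀ (pullback.fst g₀ a)) ≫ f₀ =
      (β ≫ pullback.fst f₀ (pullback.fst g₀ a)) ≫ f₀ := by
    rw [Category.assoc, Category.assoc, pullback.condition, ← Category.assoc, ← Category.assoc,
      hαβ]
  obtain ⟨m, hm1, hm2⟩ : ∃ m : T ⟶ pullback f₀ f₀,
      m ≫ pullback.fst f₀ f₀ = α ≫ pullback.fst f₀ (pullback.fst g₀ a) ∧
      m ≫ pullback.snd f₀ f₀ = β ≫ pullback.fst f₀ (pullback.fst g₀ a) :=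
    ⟨pullback.lift _ _ hc1, pullback.lift_fst _ _ _, pullback.lift_snd _ _ _⟩
  obtain ⟨τ, hτ1, hτ2⟩ : ∃ τ : T ⟶ pullback a G,
      τ ≫ pullback.fst a G =
        α ≫ pullback.snd f₀ (pullback.fst g₀ a) ≫ pullback.snd g₀ a ∧
      τ ≫ pullback.snd a G = m :=
    ⟨pullback.lift (α ≫ pullback.snd f₀ (pullback.fst g₀ a) ≫ pullback.snd g₀ a) m (by
        rw [hG, ← Category.assoc m, hm1]
        simp only [Category.assoc]
        rw [← pullback.condition (f := g₀) (g := a), pullback.condition_assoc]),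
      pullback.lift_fst _ _ _, pullback.lift_snd _ _ _⟩
  have e : m = (τ ≫ g) ≫ pullback.diagonal f₀ := by
    rw [Category.assoc, hg, hτ2]
  have e1 : α ≫ pullback.fst f₀ (pullback.fst g₀ a) = τ ≫ g := by
    rw [← hm1, e, Category.assoc, pullback.diagonal_fst, Category.comp_id]
  have e2 : β ≫ pullback.fst f₀ (pullback.fst g₀ a) = τ ≫ g := by
    rw [← hm2, e, Category.assoc, pullback.diagonal_snd, Category.comp_id]
  apply pullback.hom_ext
  · rw [e1, e2]
  · exact hαβ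

set_option backward.defeqAttrib.useBackward true in
set_option backward.isDefEq.respectTransparency false in
open AlgebraicGeometry CategoryTheory Limits Groth.Agent.Helper9.Lim8 in
theorem main {I : Type u} [SmallCategory I] [IsCofiltered I]
    (D : I ⥤ Scheme.{u}) (c : Limits.Cone D) (hc : Limits.IsLimit c)
    [hD : ∀ (i j : I) (f : i ⟶ j), IsAffineHom (D.map f)] (i₀ : I) [CompactSpace (D.obj i₀)]
    [QuasiSeparatedSpace (D.obj i₀)] {X₀ Y₀ : Scheme.{u}} (f₀ : X₀ ⟶ Y₀) (g₀ : Y₀ ⟶ D.obj i₀)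
    [CompactSpace X₀] [QuasiSeparatedSpace X₀] [CompactSpace Y₀] [QuasiSeparatedSpace Y₀]
    [LocallyOfFinitePresentation f₀] [QuasiCompact f₀] [QuasiSeparated f₀]
    {X Y : Scheme.{u}} (f : X ⟶ Y) (g : Y ⟶ c.pt) (qY : Y ⟶ Y₀) (qX : X ⟶ X₀)
    (hY : IsPullback qY g g₀ (c.π.app i₀)) (hX : IsPullback qX f f₀ qY)
    [Mono f] :
    ∃ (i : I) (φ : i ⟶ i₀) (Xi Yi : Scheme.{u}) (fi : Xi ⟶ Yi) (gi : Yi ⟶ D.obj i) (pY : Yi ⟶ Y₀)
      (pX : Xi ⟶ X₀), IsPullback pY gi g₀ (D.map φ) ∧ IsPullback pX fi f₀ pY ∧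
        Mono fi := by
  haveI hD' : ∀ {i j : I} (a : i ⟶ j), IsAffineHom (D.map a) := fun a => hD _ _ a
  haveI : CompactSpace ↥(pullback f₀ f₀) :=
    QuasiCompact.compactSpace_of_compactSpace (pullback.fst f₀ f₀)
  haveI : QuasiSeparatedSpace ↥(pullback f₀ f₀) :=
    quasiSeparatedSpace_of_quasiSeparated (pullback.fst f₀ f₀)
  haveI : LocallyOfFinitePresentation (pullback.diagonal f₀ ≫ pullback.fst f₀ f₀) := by
    rw [pullback.diagonal_fst]; infer_instance
  haveI : LocallyOfFinitePresentation (pullback.diagonal f₀) :=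
    Groth.Agent.S12442.result (pullback.diagonal f₀) (pullback.fst f₀ f₀)
  obtain ⟨G, hG⟩ : ∃ G : pullback f₀ f₀ ⟶ D.obj i₀, G = pullback.fst f₀ f₀ ≫ f₀ ≫ g₀ :=
    ⟨_, rfl⟩
  -- the two projections agree on the limit
  have hpr : pullback.snd (c.π.app i₀) G ≫ pullback.fst f₀ f₀ =
      pullback.snd (c.π.app i₀) G ≫ pullback.snd f₀ f₀ := by
    have hcond : pullback.fst (c.π.app i₀) G ≫ c.π.app i₀ = pullback.snd (c.π.app i₀) G ≫ G :=
      pullback.condition
    obtain ⟨ty, hty1, hty2⟩ : ∃ ty : pullback (c.π.app i₀) G ⟶ Y,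
        ty ≫ qY = pullback.snd (c.π.app i₀) G ≫ pullback.fst f₀ f₀ ≫ f₀ ∧
        ty ≫ g = pullback.fst (c.π.app i₀) G :=
      ⟨hY.lift (pullback.snd (c.π.app i₀) G ≫ pullback.fst f₀ f₀ ≫ f₀)
        (pullback.fst (c.π.app i₀) G) (by
          rw [hcond, hG]; simp only [Category.assoc]), hY.lift_fst _ _ _, hY.lift_snd _ _ _⟩
    obtain ⟨tx1, h11, h12⟩ : ∃ t : pullback (c.π.app i₀) G ⟶ X,
        t ≫ qX = pullback.snd (c.π.app i₀) G ≫ pullback.fst f₀ f₀ ∧ t ≫ f = ty :=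
      ⟨hX.lift (pullback.snd (c.π.app i₀) G ≫ pullback.fst f₀ f₀) ty (by
          rw [hty1]; simp only [Category.assoc]), hX.lift_fst _ _ _, hX.lift_snd _ _ _⟩
    obtain ⟨tx2, h21, h22⟩ : ∃ t : pullback (c.π.app i₀) G ⟶ X,
        t ≫ qX = pullback.snd (c.π.app i₀) G ≫ pullback.snd f₀ f₀ ∧ t ≫ f = ty :=
      ⟨hX.lift (pullback.snd (c.π.app i₀) G ≫ pullback.snd f₀ f₀) ty (by
          rw [hty1, Category.assoc, pullback.condition]), hX.lift_fst _ _ _, hX.lift_snd _ _ _⟩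
    have : tx1 = tx2 := by
      rw [← cancel_mono f, h12, h22]
    rw [← h11, ← h21, this]
  haveI : ∀ j : Over i₀, CompactSpace ((bcDiagram D G).obj j) := fun j => by
    show CompactSpace ↥(pullback (D.map j.hom) G)
    infer_instance
  haveI : ∀ j : Over i₀, QuasiSeparatedSpace ((bcDiagram D G).obj j) := fun j => by
    show QuasiSeparatedSpace ↥(pullback (D.map j.hom) G)
    exact quasiSeparatedSpace_of_quasiSeparated (pullback.snd (D.map j.hom) G)
  let t : bcDiagram D G ⟶ (Functor.const (Over i₀)).obj (pullback f₀ f₀) :=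
    { app := fun j => pullback.snd (D.map j.hom) G
      naturality := fun j k φ => by
        simp only [Functor.const_obj_obj, Functor.const_obj_map, Category.comp_id]
        exact bcDiagram_map_snd D G φ }
  have ha : (bcCone D c G).π ≫ t = (Functor.const (Over i₀)).map
      ((pullback.snd (c.π.app i₀) G ≫ pullback.fst f₀ f₀) ≫ pullback.diagonal f₀) := by
    ext j
    simp only [NatTrans.comp_app, Functor.const_map_app]
    show (bcCone D c G).π.app j ≫ pullback.snd (D.map j.hom) G = _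
    rw [bcCone_π_snd]
    apply pullback.hom_ext
    · rw [Category.assoc, Category.assoc, pullback.diagonal_fst, Category.comp_id]
    · rw [Category.assoc, Category.assoc, pullback.diagonal_snd, Category.comp_id, hpr]
  obtain ⟨j, g', hg1, hg2⟩ := Scheme.exists_π_app_comp_eq_of_locallyOfFinitePresentation
    (bcDiagram D G) t (pullback.diagonal f₀) (bcCone D c G) (bcIsLimit D c hc G)
    (pullback.snd (c.π.app i₀) G ≫ pullback.fst f₀ f₀) ha
  refine ⟨j.left, j.hom, pullback f₀ (pullback.fst g₀ (D.map j.hom)), pullback g₀ (D.map j.hom),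
    pullback.snd _ _, pullback.snd _ _, pullback.fst _ _, pullback.fst _ _,
    IsPullback.of_hasPullback _ _, IsPullback.of_hasPullback _ _, ?_⟩
  exact mono_stage f₀ g₀ (D.map j.hom) G hG g' hg2

/-- Let S = lim S_i be a cofiltered limit of schemes with affine transition morphisms, S_{i₀} a
quasi-compact quasi-separated stage (the source needs S_{i₀} only quasi-compact; quasi-separatedness
is assumed here), f₀ : X₀ ⟶ Y₀ an S_{i₀}-morphism between schemes of finite presentation over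
S_{i₀}, and f : X ⟶ Y its base change to S (base changes expressed by pullback squares). If f is a
monomorphism, then the base change f_i : X_i ⟶ Y_i of f₀ to some stage S_i is a monomorphism. -/
theorem result {I : Type u} [SmallCategory I] [IsCofiltered I]
    (D : I ⥤ Scheme.{u}) (c : Limits.Cone D) (hc : Limits.IsLimit c)
    [∀ (i j : I) (f : i ⟶ j), IsAffineHom (D.map f)] (i₀ : I) [CompactSpace (D.obj i₀)]
    [QuasiSeparatedSpace (D.obj i₀)] {X₀ Y₀ : Scheme.{u}} (f₀ : X₀ ⟶ Y₀) (g₀ : Y₀ ⟶ D.obj i₀)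
    [LocallyOfFinitePresentation g₀] [QuasiCompact g₀] [QuasiSeparated g₀]
    [LocallyOfFinitePresentation (f₀ ≫ g₀)] [QuasiCompact (f₀ ≫ g₀)] [QuasiSeparated (f₀ ≫ g₀)]
    {X Y : Scheme.{u}} (f : X ⟶ Y) (g : Y ⟶ c.pt) (qY : Y ⟶ Y₀) (qX : X ⟶ X₀)
    (hY : IsPullback qY g g₀ (c.π.app i₀)) (hX : IsPullback qX f f₀ qY) [Mono f] :
    ∃ (i : I) (φ : i ⟶ i₀) (Xi Yi : Scheme.{u}) (fi : Xi ⟶ Yi) (gi : Yi ⟶ D.obj i) (pY : Yi ⟶ Y₀)
      (pX : Xi ⟶ X₀), IsPullback pY gi g₀ (D.map φ) ∧ IsPullback pX fi f₀ pY ∧ Mono fi := by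
  haveI : CompactSpace Y₀ := QuasiCompact.compactSpace_of_compactSpace g₀
  haveI : QuasiSeparatedSpace Y₀ := quasiSeparatedSpace_of_quasiSeparated g₀
  haveI : CompactSpace X₀ := QuasiCompact.compactSpace_of_compactSpace (f₀ ≫ g₀)
  haveI : QuasiSeparatedSpace X₀ := quasiSeparatedSpace_of_quasiSeparated (f₀ ≫ g₀)
  haveI : LocallyOfFinitePresentation f₀ := Groth.Agent.S12442.result f₀ g₀
  haveI : QuasiCompact f₀ := QuasiCompact.of_comp f₀ g₀
  haveI : QuasiSeparated f₀ := QuasiSeparated.of_comp f₀ g₀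
  exact main D c hc i₀ f₀ g₀ f g qY qX hY hX

end Groth.Agent.S2579
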