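import Groth.Statements.S2580
import Mathlib
import Groth.Agent.S12442
import Groth.Agent.Lib.Helper9.Lim8

set_option autoImplicit false
universe u
open CategoryTheory AlgebraicGeometry
open EGA43

namespace Groth.Agent.S2580

set_option backward.defeqAttrib.useBackward true in
set_option backward.isDefEq.respectTransparency false in
open AlgebraicGeometry CategoryTheory Limits Groth.Agent.Helper9.Lim8 in
theorem oi_core {I : Type u} [SmallCategory I] [IsCofiltered I] (D : I ⥤ Scheme.{u})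
    (c : Cone D) (hc : IsLimit c) [hD : ∀ {i j : I} (f : i ⟶ j), IsAffineHom (D.map f)] (i : I)
    [CompactSpace (D.obj i)] [QuasiSeparatedSpace (D.obj i)]
    {Xi : Scheme.{u}} (x : Xi ⟶ D.obj i) [CompactSpace Xi] [QuasiSeparatedSpace Xi]
    [LocallyOfFinitePresentation x]
    (V : (D.obj i).Opens) (hV : IsCompact (V : Set (D.obj i)))
    (q : Xi ⟶ V) (hq : q ≫ V.ι = x)
    [IsOpenImmersion (pullback.fst (c.π.app i) x)]
    (hrange : Set.range (pullback.fst (c.π.app i) x) = ((c.π.app i ⁻¹ᵁ V : c.pt.Opens) : Set c.pt)) :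
    ∃ k : Over i, IsOpenImmersion (pullback.fst (D.map k.hom) x) := by
  haveI : ∀ k : Over i, CompactSpace ((opensDiagram D i V).obj k) := fun k =>
    isCompact_iff_compactSpace.mp (QuasiCompact.isCompact_preimage (f := D.map k.hom) _ V.2 hV)
  haveI : ∀ k : Over i, QuasiSeparatedSpace (D.obj k.left) := fun k =>
    quasiSeparatedSpace_of_quasiSeparated (D.map k.hom)
  haveI : ∀ k : Over i, QuasiSeparatedSpace ((opensDiagram D i V).obj k) := fun k =>
    quasiSeparatedSpace_of_quasiSeparated (D.map k.hom ⁻¹ᵁ V).ι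
  haveI : LocallyOfFinitePresentation (q ≫ V.ι) := by rw [hq]; infer_instance
  haveI : LocallyOfFinitePresentation q := Groth.Agent.S12442.result q V.ι
  haveI : ∀ k : Over i, CompactSpace ((bcDiagram D x).obj k) := fun k => by
    show CompactSpace ↥(pullback (D.map k.hom) x)
    infer_instance
  have htι : ∀ k : Over i, (D.map k.hom).resLE V (D.map k.hom ⁻¹ᵁ V) le_rfl ≫ V.ι =
      (D.map k.hom ⁻¹ᵁ V).ι ≫ D.map k.hom := fun k => Scheme.Hom.resLE_comp_ι _ _
  have h𝒱ι : ∀ {k j : Over i} (φ : k ⟶ j), (opensDiagram D i V).map φ ≫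
      (D.map j.hom ⁻¹ᵁ V).ι = (D.map k.hom ⁻¹ᵁ V).ι ≫ D.map φ.left := by
    intro k j φ
    rw [opensDiagram_map]
    exact Scheme.Hom.resLE_comp_ι _ _
  have ht_nat : ∀ {k j : Over i} (φ : k ⟶ j), (opensDiagram D i V).map φ ≫
      (D.map j.hom).resLE V (D.map j.hom ⁻¹ᵁ V) le_rfl =
      (D.map k.hom).resLE V (D.map k.hom ⁻¹ᵁ V) le_rfl := by
    intro k j φ
    rw [← cancel_mono V.ι, Category.assoc, htι, reassoc_of% (h𝒱ι φ), ← D.map_comp, Over.w φ, htι]
  let t : opensDiagram D i V ⟶ (Functor.const (Over i)).obj (V : Scheme.{u}) :=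
    { app := fun k => (D.map k.hom).resLE V (D.map k.hom ⁻¹ᵁ V) le_rfl
      naturality := fun k j φ => by
        simp only [Functor.const_obj_obj, Functor.const_obj_map, Category.comp_id]
        exact ht_nat φ }
  -- limit level maps
  have hrU : Set.range (c.π.app i ⁻¹ᵁ V).ι ⊆ Set.range (pullback.fst (c.π.app i) x) := by
    rw [Scheme.Opens.range_ι, hrange]
  obtain ⟨r, hr⟩ : ∃ r : ((c.π.app i ⁻¹ᵁ V : c.pt.Opens) : Scheme.{u}) ⟶ pullback (c.π.app i) x,
      r ≫ pullback.fst (c.π.app i) x = (c.π.app i ⁻¹ᵁ V).ι :=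
    ⟨IsOpenImmersion.lift _ _ hrU, IsOpenImmersion.lift_fac _ _ _⟩
  have hpU : Set.range (pullback.fst (c.π.app i) x) ⊆ Set.range (c.π.app i ⁻¹ᵁ V).ι := by
    rw [Scheme.Opens.range_ι, hrange]
  obtain ⟨qlim, hqlim⟩ : ∃ ql : pullback (c.π.app i) x ⟶
      ((c.π.app i ⁻¹ᵁ V : c.pt.Opens) : Scheme.{u}),
      ql ≫ (c.π.app i ⁻¹ᵁ V).ι = pullback.fst (c.π.app i) x :=
    ⟨IsOpenImmersion.lift _ _ hpU, IsOpenImmersion.lift_fac _ _ _⟩
  have hqr : qlim ≫ r = 𝟙 _ := by
    rw [← cancel_mono (pullback.fst (c.π.app i) x), Category.assoc, hr, hqlim, Category.id_comp]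
  have hconeι : ∀ k : Over i, (opensCone D c i V).π.app k ≫ (D.map k.hom ⁻¹ᵁ V).ι =
      (c.π.app i ⁻¹ᵁ V).ι ≫ c.π.app k.left := fun k => by
    rw [opensCone_π_app]; exact Scheme.Hom.resLE_comp_ι _ _
  have ha : (opensCone D c i V).π ≫ t = (Functor.const (Over i)).map
      ((r ≫ pullback.snd (c.π.app i) x) ≫ q) := by
    ext k
    simp only [NatTrans.comp_app, Functor.const_map_app]
    show (opensCone D c i V).π.app k ≫ (D.map k.hom).resLE V (D.map k.hom ⁻¹ᵁ V) le_rfl = _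
    rw [← cancel_mono V.ι]
    simp only [Category.assoc]
    rw [htι, reassoc_of% (hconeι k), c.w k.hom, hq, ← pullback.condition, reassoc_of% hr]
  obtain ⟨k, g, hg1, hg2⟩ := Scheme.exists_π_app_comp_eq_of_locallyOfFinitePresentation
    (opensDiagram D i V) t q (opensCone D c i V) (isLimitOpensCone D c hc i V)
    (r ≫ pullback.snd (c.π.app i) x) ha
  have hg2' : g ≫ q = (D.map k.hom).resLE V (D.map k.hom ⁻¹ᵁ V) le_rfl := hg2
  -- the maps q_j
  have hqj : ∀ j : Over i, ∃ qj : pullback (D.map j.hom) x ⟶ ((D.map j.hom ⁻¹ᵁ V : (D.obj j.left).Opens) : Scheme.{u}),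
      qj ≫ (D.map j.hom ⁻¹ᵁ V).ι = pullback.fst (D.map j.hom) x := by
    intro j
    have hsub : Set.range (pullback.fst (D.map j.hom) x) ⊆ Set.range (D.map j.hom ⁻¹ᵁ V).ι := by
      rw [Scheme.Opens.range_ι]
      rintro _ ⟨w, rfl⟩
      show (D.map j.hom) ((pullback.fst (D.map j.hom) x) w) ∈ V
      have hcomp : pullback.fst (D.map j.hom) x ≫ D.map j.hom =
          (pullback.snd (D.map j.hom) x ≫ q) ≫ V.ι := by
        rw [pullback.condition, Category.assoc, hq]
      rw [← Scheme.Hom.comp_apply, hcomp, Scheme.Hom.comp_apply]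
      exact ((pullback.snd (D.map j.hom) x ≫ q) w).2
    exact ⟨IsOpenImmersion.lift _ _ hsub, IsOpenImmersion.lift_fac _ _ _⟩
  choose qj hqjι using hqj
  have hqj_t : ∀ j : Over i, qj j ≫ (D.map j.hom).resLE V (D.map j.hom ⁻¹ᵁ V) le_rfl =
      pullback.snd (D.map j.hom) x ≫ q := by
    intro j
    rw [← cancel_mono V.ι]
    simp only [Category.assoc]
    rw [htι, reassoc_of% (hqjι j), pullback.condition, hq]
  have hqj_nat : ∀ {l j : Over i} (ψ : l ⟶ j),
      (bcDiagram D x).map ψ ≫ qj j = qj l ≫ (opensDiagram D i V).map ψ := by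
    intro l j ψ
    rw [← cancel_mono (D.map j.hom ⁻¹ᵁ V).ι]
    simp only [Category.assoc]
    rw [hqjι, h𝒱ι, reassoc_of% (hqjι l), bcDiagram_map_fst]
  have hqj_cone : ∀ j : Over i, (bcCone D c x).π.app j ≫ qj j =
      qlim ≫ (opensCone D c i V).π.app j := by
    intro j
    rw [← cancel_mono (D.map j.hom ⁻¹ᵁ V).ι]
    simp only [Category.assoc]
    rw [hqjι, hconeι, reassoc_of% hqlim, bcCone_π_fst]
  -- second step: equality at a later stage
  let t' : bcDiagram D x ⟶ (Functor.const (Over i)).obj (D.obj i) :=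
    { app := fun j => pullback.snd (D.map j.hom) x ≫ x
      naturality := fun j l φ => by
        simp only [Functor.const_obj_obj, Functor.const_obj_map, Category.comp_id]
        rw [← Category.assoc, bcDiagram_map_snd D x φ] }
  have hb' : t'.app k = (qj k ≫ g) ≫ x := by
    show pullback.snd (D.map k.hom) x ≫ x = _
    have e1 : (qj k ≫ g) ≫ x = (qj k ≫ g ≫ q) ≫ V.ι := by
      simp only [Category.assoc]; rw [hq]
    have e2 : pullback.snd (D.map k.hom) x ≫ x =
        (pullback.snd (D.map k.hom) x ≫ q) ≫ V.ι := by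
      rw [Category.assoc, hq]
    rw [e1, e2, hg2', hqj_t]
  have hab : (bcCone D c x).π.app k ≫ pullback.snd (D.map k.hom) x =
      (bcCone D c x).π.app k ≫ (qj k ≫ g) := by
    rw [bcCone_π_snd, reassoc_of% (hqj_cone k), hg1, reassoc_of% hqr]
  obtain ⟨l, ψ, hl⟩ := Scheme.exists_hom_comp_eq_comp_of_locallyOfFiniteType
    (bcDiagram D x) t' x (bcCone D c x) (bcIsLimit D c hc x)
    (pullback.snd (D.map k.hom) x) (qj k ≫ g) rfl hb' hab
  -- the inverse at stage l
  obtain ⟨sl, hsl1, hsl2⟩ : ∃ sl : ((D.map l.hom ⁻¹ᵁ V : (D.obj l.left).Opens) : Scheme.{u}) ⟶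
      pullback (D.map l.hom) x,
      sl ≫ pullback.fst (D.map l.hom) x = (D.map l.hom ⁻¹ᵁ V).ι ∧
      sl ≫ pullback.snd (D.map l.hom) x = (opensDiagram D i V).map ψ ≫ g :=
    ⟨pullback.lift (D.map l.hom ⁻¹ᵁ V).ι ((opensDiagram D i V).map ψ ≫ g) (by
        rw [← hq]
        simp only [Category.assoc]
        rw [reassoc_of% hg2', reassoc_of% (ht_nat ψ), htι]),
      pullback.lift_fst _ _ _, pullback.lift_snd _ _ _⟩
  have h1 : qj l ≫ sl = 𝟙 _ := by
    apply pullback.hom_ext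
    · rw [Category.assoc, hsl1, hqjι, Category.id_comp]
    · rw [Category.assoc, hsl2, ← reassoc_of% (hqj_nat ψ), ← hl, bcDiagram_map_snd,
        Category.id_comp]
  have h2 : sl ≫ qj l = 𝟙 _ := by
    rw [← cancel_mono (D.map l.hom ⁻¹ᵁ V).ι, Category.assoc, hqjι, hsl1, Category.id_comp]
  haveI : IsIso (qj l) := ⟨⟨sl, h1, h2⟩⟩
  refine ⟨l, ?_⟩
  rw [← hqjι l]
  infer_instance

open AlgebraicGeometry CategoryTheory Limits in
theorem preimage_range_fst {A B X₀ Y₀ : Scheme.{u}} (a : A ⟶ B) (yB : B ⟶ Y₀) (yA : A ⟶ Y₀)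
    (h : a ≫ yB = yA) (f₀ : X₀ ⟶ Y₀) :
    ⇑a ⁻¹' Set.range (pullback.fst yB f₀) = Set.range (pullback.fst yA f₀) := by
  rw [Scheme.Pullback.range_fst, Scheme.Pullback.range_fst]
  subst h
  ext w
  simp only [Set.mem_preimage, Scheme.Hom.comp_apply]

open AlgebraicGeometry CategoryTheory Limits in
theorem oi_transfer {X₀ Y₀ X Y Ym Yl : Scheme.{u}} (f₀ : X₀ ⟶ Y₀) (f : X ⟶ Y) (qX : X ⟶ X₀)
    (qY : Y ⟶ Y₀) (hX : IsPullback qX f f₀ qY) [IsOpenImmersion f] (y : Ym ⟶ Y₀) (π : Yl ⟶ Ym)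
    (ε : Yl ⟶ Y) (hε : ε ≫ qY = π ≫ y) :
    IsOpenImmersion (pullback.fst π (pullback.fst y f₀)) := by
  have left := (IsPullback.of_hasPullback π (pullback.fst y f₀)).flip
  have right := (IsPullback.of_hasPullback y f₀).flip
  have big := left.paste_horiz right
  have hcomm : (pullback.snd π (pullback.fst y f₀) ≫ pullback.snd y f₀) ≫ f₀ =
      (pullback.fst π (pullback.fst y f₀) ≫ ε) ≫ qY := by
    rw [Category.assoc _ ε, hε]
    exact big.w
  have s : IsPullback (hX.lift _ _ hcomm ≫ qX) (pullback.fst π (pullback.fst y f₀)) f₀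
      (ε ≫ qY) := by
    rw [hX.lift_fst, hε]
    exact big
  have := IsPullback.of_right s (hX.lift_snd _ _ hcomm) hX
  exact MorphismProperty.of_isPullback (P := @IsOpenImmersion) this inferInstance

set_option backward.defeqAttrib.useBackward true in
set_option backward.isDefEq.respectTransparency false in
open AlgebraicGeometry CategoryTheory Limits Groth.Agent.Helper9.Lim8 in
theorem main {I : Type u} [SmallCategory I] [IsCofiltered I]
    (D : I ⥤ Scheme.{u}) (c : Limits.Cone D) (hc : Limits.IsLimit c)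
    [hD : ∀ (i j : I) (f : i ⟶ j), IsAffineHom (D.map f)] (i₀ : I) [CompactSpace (D.obj i₀)]
    [QuasiSeparatedSpace (D.obj i₀)] {X₀ Y₀ : Scheme.{u}} (f₀ : X₀ ⟶ Y₀) (g₀ : Y₀ ⟶ D.obj i₀)
    [CompactSpace X₀] [QuasiSeparatedSpace X₀] [CompactSpace Y₀] [QuasiSeparatedSpace Y₀]
    [LocallyOfFinitePresentation f₀] [QuasiCompact f₀] [QuasiSeparated f₀]
    {X Y : Scheme.{u}} (f : X ⟶ Y) (g : Y ⟶ c.pt) (qY : Y ⟶ Y₀) (qX : X ⟶ X₀)
    (hY : IsPullback qY g g₀ (c.π.app i₀)) (hX : IsPullback qX f f₀ qY)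
    [IsOpenImmersion f] :
    ∃ (i : I) (φ : i ⟶ i₀) (Xi Yi : Scheme.{u}) (fi : Xi ⟶ Yi) (gi : Yi ⟶ D.obj i) (pY : Yi ⟶ Y₀)
      (pX : Xi ⟶ X₀), IsPullback pY gi g₀ (D.map φ) ∧ IsPullback pX fi f₀ pY ∧
        IsOpenImmersion fi := by
  haveI hD' : ∀ {i j : I} (a : i ⟶ j), IsAffineHom (D.map a) := fun a => hD _ _ a
  haveI hYc' : ∀ m : Over i₀, CompactSpace ↥(pullback (D.map m.hom) g₀) := fun m => by
    infer_instance
  haveI hYq' : ∀ m : Over i₀, QuasiSeparatedSpace ↥(pullback (D.map m.hom) g₀) := fun m =>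
    quasiSeparatedSpace_of_quasiSeparated (pullback.snd (D.map m.hom) g₀)
  haveI hYc : ∀ m : Over i₀, CompactSpace ((bcDiagram D g₀).obj m) := fun m => hYc' m
  haveI hYq : ∀ m : Over i₀, QuasiSeparatedSpace ((bcDiagram D g₀).obj m) := fun m => hYq' m
  haveI hXc : ∀ m : Over i₀, CompactSpace ↥(pullback (pullback.snd (D.map m.hom) g₀) f₀) :=
    fun m => QuasiCompact.compactSpace_of_compactSpace
      (pullback.fst (pullback.snd (D.map m.hom) g₀) f₀)
  haveI hXq : ∀ m : Over i₀,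
      QuasiSeparatedSpace ↥(pullback (pullback.snd (D.map m.hom) g₀) f₀) :=
    fun m => quasiSeparatedSpace_of_quasiSeparated
      (pullback.fst (pullback.snd (D.map m.hom) g₀) f₀)
  have hA : ∀ m : Over i₀, IsOpenImmersion (pullback.fst ((bcCone D c g₀).π.app m)
      (pullback.fst (pullback.snd (D.map m.hom) g₀) f₀)) := fun m =>
    oi_transfer f₀ f qX qY hX (pullback.snd (D.map m.hom) g₀) ((bcCone D c g₀).π.app m)
      hY.flip.isoPullback.inv (by rw [IsPullback.isoPullback_inv_snd, bcCone_π_snd])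
  have hR : ∀ m : Over i₀, Set.range (pullback.fst (pullback.snd (D.map m.hom) g₀) f₀) =
      ⇑(pullback.snd (D.map m.hom) g₀) ⁻¹' Set.range f₀ := fun m =>
    Scheme.Pullback.range_fst _ _
  -- the constructible set at the stage m₀
  obtain ⟨m₀, hm₀⟩ : ∃ m₀ : Over i₀, m₀ = Over.mk (𝟙 i₀) := ⟨_, rfl⟩
  obtain ⟨Z, hZdef⟩ : ∃ Z : Set ↥((bcDiagram D g₀).obj m₀),
      Z = Set.range (pullback.fst (pullback.snd (D.map m₀.hom) g₀) f₀) := ⟨_, rfl⟩
  have hZ : Topology.IsConstructible Z := by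
    have := (pullback.fst (pullback.snd (D.map m₀.hom) g₀) f₀).isConstructible_image
      (Topology.IsConstructible.univ
        (X := ↥(pullback (pullback.snd (D.map m₀.hom) g₀) f₀)))
    rw [Set.image_univ] at this
    rw [hZdef]
    exact this
  have hopen : IsOpen (⇑((bcCone D c g₀).π.app m₀) ⁻¹' Z) := by
    haveI := hA m₀
    have heq : ⇑((bcCone D c g₀).π.app m₀) ⁻¹' Z = Set.range (pullback.fst
        ((bcCone D c g₀).π.app m₀) (pullback.fst (pullback.snd (D.map m₀.hom) g₀) f₀)) := by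
      rw [hZdef]
      exact (Scheme.Pullback.range_fst _ _).symm
    rw [heq]
    exact (pullback.fst ((bcCone D c g₀).π.app m₀)
      (pullback.fst (pullback.snd (D.map m₀.hom) g₀) f₀)).isOpenEmbedding.isOpen_range
  obtain ⟨j, φ, hj⟩ := exists_isOpen_preimage_of_qcqs (bcDiagram D g₀) (bcCone D c g₀)
    (bcIsLimit D c hc g₀) (i₁ := m₀) hZ hopen
  have hZj : ⇑((bcDiagram D g₀).map φ) ⁻¹' Z =
      Set.range (pullback.fst (pullback.snd (D.map j.hom) g₀) f₀) := by
    rw [hZdef]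
    exact preimage_range_fst ((bcDiagram D g₀).map φ) _ _ (bcDiagram_map_snd D g₀ φ) f₀
  have hopenj : IsOpen (Set.range (pullback.fst (pullback.snd (D.map j.hom) g₀) f₀)) := by
    rw [← hZj]; exact hj
  obtain ⟨V, hVdef⟩ : ∃ V : ((bcDiagram D g₀).obj j).Opens,
      (V : Set ↥((bcDiagram D g₀).obj j)) =
        Set.range (pullback.fst (pullback.snd (D.map j.hom) g₀) f₀) := ⟨⟨_, hopenj⟩, rfl⟩
  have hV : IsCompact (V : Set ↥((bcDiagram D g₀).obj j)) := by
    rw [hVdef]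
    exact isCompact_range (pullback.fst (pullback.snd (D.map j.hom) g₀) f₀).continuous
  have hsub : Set.range (pullback.fst (pullback.snd (D.map j.hom) g₀) f₀) ⊆ Set.range V.ι := by
    rw [Scheme.Opens.range_ι, hVdef]
  obtain ⟨q, hq⟩ : ∃ q : pullback (pullback.snd (D.map j.hom) g₀) f₀ ⟶ (V : Scheme.{u}),
      q ≫ V.ι = pullback.fst (pullback.snd (D.map j.hom) g₀) f₀ :=
    ⟨IsOpenImmersion.lift V.ι _ hsub, IsOpenImmersion.lift_fac _ _ _⟩
  haveI := hA j
  have hrange : Set.range (pullback.fst ((bcCone D c g₀).π.app j)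
      (pullback.fst (pullback.snd (D.map j.hom) g₀) f₀)) =
      (((bcCone D c g₀).π.app j ⁻¹ᵁ V : (bcCone D c g₀).pt.Opens) : Set (bcCone D c g₀).pt) := by
    rw [Scheme.Pullback.range_fst]
    exact congrArg (fun s => ⇑((bcCone D c g₀).π.app j) ⁻¹' s) hVdef.symm
  obtain ⟨k, hk⟩ := oi_core (bcDiagram D g₀) (bcCone D c g₀) (bcIsLimit D c hc g₀) j
    (pullback.fst (pullback.snd (D.map j.hom) g₀) f₀) V hV q hq hrange
  refine ⟨k.left.left, k.left.hom,
    pullback ((bcDiagram D g₀).map k.hom) (pullback.fst (pullback.snd (D.map j.hom) g₀) f₀),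
    pullback (D.map k.left.hom) g₀,
    pullback.fst ((bcDiagram D g₀).map k.hom) (pullback.fst (pullback.snd (D.map j.hom) g₀) f₀),
    pullback.fst (D.map k.left.hom) g₀, pullback.snd (D.map k.left.hom) g₀,
    pullback.snd ((bcDiagram D g₀).map k.hom) (pullback.fst (pullback.snd (D.map j.hom) g₀) f₀) ≫
      pullback.snd (pullback.snd (D.map j.hom) g₀) f₀,
    (IsPullback.of_hasPullback (D.map k.left.hom) g₀).flip, ?_, hk⟩
  have left := (IsPullback.of_hasPullback ((bcDiagram D g₀).map k.hom)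
    (pullback.fst (pullback.snd (D.map j.hom) g₀) f₀)).flip
  have right := (IsPullback.of_hasPullback (pullback.snd (D.map j.hom) g₀) f₀).flip
  have big := left.paste_horiz right
  rw [bcDiagram_map_snd] at big
  exact big

/-- Let S = lim S_i be a cofiltered limit of schemes with affine transition morphisms, S_{i₀} a
quasi-compact quasi-separated stage (the source needs S_{i₀} only quasi-compact; quasi-separatedness
is assumed here), f₀ : X₀ ⟶ Y₀ an S_{i₀}-morphism between schemes of finite presentation over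
S_{i₀}, and f : X ⟶ Y its base change to S (base changes expressed by pullback squares). If f is an
open immersion, then the base change f_i : X_i ⟶ Y_i of f₀ to some stage S_i is an open immersion. -/
theorem result {I : Type u} [SmallCategory I] [IsCofiltered I]
    (D : I ⥤ Scheme.{u}) (c : Limits.Cone D) (hc : Limits.IsLimit c)
    [∀ (i j : I) (f : i ⟶ j), IsAffineHom (D.map f)] (i₀ : I) [CompactSpace (D.obj i₀)]
    [QuasiSeparatedSpace (D.obj i₀)] {X₀ Y₀ : Scheme.{u}} (f₀ : X₀ ⟶ Y₀) (g₀ : Y₀ ⟶ D.obj i₀)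
    [LocallyOfFinitePresentation g₀] [QuasiCompact g₀] [QuasiSeparated g₀]
    [LocallyOfFinitePresentation (f₀ ≫ g₀)] [QuasiCompact (f₀ ≫ g₀)] [QuasiSeparated (f₀ ≫ g₀)]
    {X Y : Scheme.{u}} (f : X ⟶ Y) (g : Y ⟶ c.pt) (qY : Y ⟶ Y₀) (qX : X ⟶ X₀)
    (hY : IsPullback qY g g₀ (c.π.app i₀)) (hX : IsPullback qX f f₀ qY) [IsOpenImmersion f] :
    ∃ (i : I) (φ : i ⟶ i₀) (Xi Yi : Scheme.{u}) (fi : Xi ⟶ Yi) (gi : Yi ⟶ D.obj i) (pY : Yi ⟶ Y₀)
      (pX : Xi ⟶ X₀), IsPullback pY gi g₀ (D.map φ) ∧ IsPullback pX fi f₀ pY ∧ IsOpenImmersion fi := by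
  haveI : CompactSpace Y₀ := QuasiCompact.compactSpace_of_compactSpace g₀
  haveI : QuasiSeparatedSpace Y₀ := quasiSeparatedSpace_of_quasiSeparated g₀
  haveI : CompactSpace X₀ := QuasiCompact.compactSpace_of_compactSpace (f₀ ≫ g₀)
  haveI : QuasiSeparatedSpace X₀ := quasiSeparatedSpace_of_quasiSeparated (f₀ ≫ g₀)
  haveI : LocallyOfFinitePresentation f₀ := Groth.Agent.S12442.result f₀ g₀
  haveI : QuasiCompact f₀ := QuasiCompact.of_comp f₀ g₀
  haveI : QuasiSeparated f₀ := QuasiSeparated.of_comp f₀ g₀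
  exact main D c hc i₀ f₀ g₀ f g qY qX hY hX

end Groth.Agent.S2580
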