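import Groth.Statements.S2581
import Mathlib
import Groth.Agent.S12442
import Groth.Agent.Lib.Helper9.Lim8

set_option autoImplicit false
universe u
open CategoryTheory AlgebraicGeometry
open EGA43

namespace Groth.Agent.S2581

set_option backward.defeqAttrib.useBackward true in
set_option backward.isDefEq.respectTransparency false in
open AlgebraicGeometry CategoryTheory Limits Groth.Agent.Helper9.Lim8 in
theorem main {I : Type u} [SmallCategory I] [IsCofiltered I]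
    (D : I ⥤ Scheme.{u}) (c : Limits.Cone D) (hc : Limits.IsLimit c)
    [hD : ∀ (i j : I) (f : i ⟶ j), IsAffineHom (D.map f)] (i₀ : I) [CompactSpace (D.obj i₀)]
    [QuasiSeparatedSpace (D.obj i₀)] {X₀ Y₀ : Scheme.{u}} (f₀ : X₀ ⟶ Y₀) (g₀ : Y₀ ⟶ D.obj i₀)
    [CompactSpace X₀] [QuasiSeparatedSpace X₀] [CompactSpace Y₀] [QuasiSeparatedSpace Y₀]
    [LocallyOfFinitePresentation f₀]
    {X Y : Scheme.{u}} (f : X ⟶ Y) (g : Y ⟶ c.pt) (qY : Y ⟶ Y₀) (qX : X ⟶ X₀)
    (hY : IsPullback qY g g₀ (c.π.app i₀)) (hX : IsPullback qX f f₀ qY) [Surjective f] :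
    ∃ (i : I) (φ : i ⟶ i₀) (Xi Yi : Scheme.{u}) (fi : Xi ⟶ Yi) (gi : Yi ⟶ D.obj i) (pY : Yi ⟶ Y₀)
      (pX : Xi ⟶ X₀), IsPullback pY gi g₀ (D.map φ) ∧ IsPullback pX fi f₀ pY ∧ Surjective fi := by
  haveI hD' : ∀ {i j : I} (a : i ⟶ j), IsAffineHom (D.map a) := fun a => hD _ _ a
  have hE : Topology.IsConstructible ((Set.range f₀)ᶜ : Set Y₀) := by
    have := f₀.isConstructible_image (Topology.IsConstructible.univ (X := X₀))
    rw [Set.image_univ] at this
    exact this.compl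
  have hq : ∀ y : Y, qY y ∈ Set.range f₀ := by
    intro y
    obtain ⟨x, rfl⟩ := f.surjective y
    refine ⟨qX x, ?_⟩
    rw [← Scheme.Hom.comp_apply, hX.w, Scheme.Hom.comp_apply]
  have hE₀ : Topology.IsConstructible
      (⇑(pullback.snd (D.map (Over.mk (𝟙 i₀)).hom) g₀) ⁻¹' (Set.range f₀)ᶜ) :=
    (pullback.snd (D.map (Over.mk (𝟙 i₀)).hom) g₀).isConstructible_preimage hE
  haveI : CompactSpace ((bcDiagram D g₀).obj (Over.mk (𝟙 i₀))) := by
    show CompactSpace ↥(pullback (D.map (𝟙 i₀)) g₀)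
    infer_instance
  have hempty : ⇑((bcCone D c g₀).π.app (Over.mk (𝟙 i₀))) ⁻¹'
      (⇑(pullback.snd (D.map (Over.mk (𝟙 i₀)).hom) g₀) ⁻¹' (Set.range f₀)ᶜ) = ∅ := by
    rw [Set.eq_empty_iff_forall_notMem]
    intro z hz
    apply hz
    have e1 := bcCone_π_snd D c g₀ (Over.mk (𝟙 i₀))
    have e2 : (pullback.snd (D.map (Over.mk (𝟙 i₀)).hom) g₀)
        ((bcCone D c g₀).π.app (Over.mk (𝟙 i₀)) z) = (pullback.snd (c.π.app i₀) g₀) z :=
      (Scheme.Hom.comp_apply ((bcCone D c g₀).π.app (Over.mk (𝟙 i₀)))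
        (pullback.snd (D.map (Over.mk (𝟙 i₀)).hom) g₀) z).symm.trans
        (congrArg (fun ψ : (bcCone D c g₀).pt ⟶ Y₀ => ψ z) e1)
    show (pullback.snd (D.map (Over.mk (𝟙 i₀)).hom) g₀)
        ((bcCone D c g₀).π.app (Over.mk (𝟙 i₀)) z) ∈ Set.range f₀
    rw [e2]
    obtain ⟨y, rfl⟩ : ∃ y, hY.flip.isoPullback.hom y = z :=
      ⟨hY.flip.isoPullback.inv z, by rw [← Scheme.Hom.comp_apply]; simp⟩
    rw [← Scheme.Hom.comp_apply, hY.flip.isoPullback_hom_snd]
    exact hq y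
  obtain ⟨j, φ, hj⟩ := exists_preimage_eq_empty (bcDiagram D g₀) (bcCone D c g₀)
    (bcIsLimit D c hc g₀) hE₀ hempty
  have hj' : ∀ w : ↥(pullback (D.map j.hom) g₀),
      (pullback.snd (D.map j.hom) g₀) w ∈ Set.range f₀ := by
    intro w
    by_contra hw
    have hmem : w ∈ ⇑((bcDiagram D g₀).map φ) ⁻¹'
        (⇑(pullback.snd (D.map (Over.mk (𝟙 i₀)).hom) g₀) ⁻¹' (Set.range f₀)ᶜ) := by
      show (pullback.snd (D.map (Over.mk (𝟙 i₀)).hom) g₀) (((bcDiagram D g₀).map φ) w) ∈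
        (Set.range f₀)ᶜ
      have e3 : (pullback.snd (D.map (Over.mk (𝟙 i₀)).hom) g₀) (((bcDiagram D g₀).map φ) w) =
          (pullback.snd (D.map j.hom) g₀) w :=
        (Scheme.Hom.comp_apply ((bcDiagram D g₀).map φ)
          (pullback.snd (D.map (Over.mk (𝟙 i₀)).hom) g₀) w).symm.trans
          (congrArg (fun ψ : (bcDiagram D g₀).obj j ⟶ Y₀ => ψ w) (bcDiagram_map_snd D g₀ φ))
      rw [e3]
      exact hw
    rw [hj] at hmem
    exact hmem
  refine ⟨j.left, j.hom, pullback f₀ (pullback.fst g₀ (D.map j.hom)),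
    pullback g₀ (D.map j.hom),
    pullback.snd _ _, pullback.snd _ _, pullback.fst _ _, pullback.fst _ _,
    IsPullback.of_hasPullback _ _, IsPullback.of_hasPullback _ _, ?_⟩
  refine ⟨Set.range_eq_univ.mp ?_⟩
  rw [Scheme.Pullback.range_snd]
  apply Set.eq_univ_of_forall
  intro w
  show (pullback.fst g₀ (D.map j.hom)) w ∈ Set.range f₀
  have := hj' ((pullbackSymmetry g₀ (D.map j.hom)).hom w)
  rwa [← Scheme.Hom.comp_apply, pullbackSymmetry_hom_comp_snd] at this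

/-- Let S = lim S_i be a cofiltered limit of schemes with affine transition morphisms, S_{i₀} a
quasi-compact quasi-separated stage (the source needs S_{i₀} only quasi-compact; quasi-separatedness
is assumed here), f₀ : X₀ ⟶ Y₀ an S_{i₀}-morphism between schemes of finite presentation over
S_{i₀}, and f : X ⟶ Y its base change to S (base changes expressed by pullback squares). If f is
surjective, then the base change f_i : X_i ⟶ Y_i of f₀ to some stage S_i is surjective. -/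
theorem result {I : Type u} [SmallCategory I] [IsCofiltered I]
    (D : I ⥤ Scheme.{u}) (c : Limits.Cone D) (hc : Limits.IsLimit c)
    [∀ (i j : I) (f : i ⟶ j), IsAffineHom (D.map f)] (i₀ : I) [CompactSpace (D.obj i₀)]
    [QuasiSeparatedSpace (D.obj i₀)] {X₀ Y₀ : Scheme.{u}} (f₀ : X₀ ⟶ Y₀) (g₀ : Y₀ ⟶ D.obj i₀)
    [LocallyOfFinitePresentation g₀] [QuasiCompact g₀] [QuasiSeparated g₀]
    [LocallyOfFinitePresentation (f₀ ≫ g₀)] [QuasiCompact (f₀ ≫ g₀)] [QuasiSeparated (f₀ ≫ g₀)]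
    {X Y : Scheme.{u}} (f : X ⟶ Y) (g : Y ⟶ c.pt) (qY : Y ⟶ Y₀) (qX : X ⟶ X₀)
    (hY : IsPullback qY g g₀ (c.π.app i₀)) (hX : IsPullback qX f f₀ qY) [Surjective f] :
    ∃ (i : I) (φ : i ⟶ i₀) (Xi Yi : Scheme.{u}) (fi : Xi ⟶ Yi) (gi : Yi ⟶ D.obj i) (pY : Yi ⟶ Y₀)
      (pX : Xi ⟶ X₀), IsPullback pY gi g₀ (D.map φ) ∧ IsPullback pX fi f₀ pY ∧ Surjective fi := by
  haveI : CompactSpace Y₀ := QuasiCompact.compactSpace_of_compactSpace g₀
  haveI : QuasiSeparatedSpace Y₀ := quasiSeparatedSpace_of_quasiSeparated g₀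
  haveI : CompactSpace X₀ := QuasiCompact.compactSpace_of_compactSpace (f₀ ≫ g₀)
  haveI : QuasiSeparatedSpace X₀ := quasiSeparatedSpace_of_quasiSeparated (f₀ ≫ g₀)
  haveI : LocallyOfFinitePresentation f₀ := Groth.Agent.S12442.result f₀ g₀
  exact main D c hc i₀ f₀ g₀ f g qY qX hY hX

end Groth.Agent.S2581
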