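import Groth.Statements.S9186
import Mathlib
import Groth.Agent.S9200

set_option autoImplicit false
universe u
open CategoryTheory AlgebraicGeometry
open Lim

namespace Groth.Agent.S9186

set_option backward.defeqAttrib.useBackward true in
set_option backward.isDefEq.respectTransparency false in
open AlgebraicGeometry CategoryTheory Limits in
theorem main {I : Type u} [SmallCategory I] [IsCofiltered I]
    (D : I ⥤ Scheme.{u}) (c : Limits.Cone D) (hc : Limits.IsLimit c)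
    [hD : ∀ (i j : I) (f : i ⟶ j), IsAffineHom (D.map f)] (i₀ : I) [CompactSpace (D.obj i₀)]
    [QuasiSeparatedSpace (D.obj i₀)] {X₀ Y₀ : Scheme.{u}} (f₀ : X₀ ⟶ Y₀) (g₀ : Y₀ ⟶ D.obj i₀)
    [CompactSpace X₀] [QuasiSeparatedSpace X₀] [CompactSpace Y₀] [QuasiSeparatedSpace Y₀]
    {X Y : Scheme.{u}} (f : X ⟶ Y) (g : Y ⟶ c.pt) (qY : Y ⟶ Y₀) (qX : X ⟶ X₀)
    (hY : IsPullback qY g g₀ (c.π.app i₀)) (hX : IsPullback qX f f₀ qY) [IsAffineHom f] :
    ∃ (i : I) (φ : i ⟶ i₀) (Xi Yi : Scheme.{u}) (fi : Xi ⟶ Yi) (gi : Yi ⟶ D.obj i) (pY : Yi ⟶ Y₀)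
      (pX : Xi ⟶ X₀), IsPullback pY gi g₀ (D.map φ) ∧ IsPullback pX fi f₀ pY ∧ IsAffineHom fi := by
  haveI hD' : ∀ {i j : I} (a : i ⟶ j), IsAffineHom (D.map a) := fun a => hD _ _ a
  haveI : IsConnected (Over i₀) := IsCofiltered.isConnected _
  let DX : Over i₀ ⥤ Scheme := Over.post D ⋙ Over.pullback (f₀ ≫ g₀) ⋙ Over.forget _
  let cX : Cone DX :=
    (Over.pullback (f₀ ≫ g₀) ⋙ Over.forget _).mapCone ((Over.conePost _ _).obj c)
  have hcX : IsLimit cX := by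
    refine isLimitOfPreserves (Over.pullback (f₀ ≫ g₀) ⋙ Over.forget _) ?_
    apply isLimitOfReflects (Over.forget (D.obj i₀))
    exact (Functor.Initial.isLimitWhiskerEquiv (Over.forget i₀) c).symm hc
  haveI hAff : ∀ (j k : Over i₀) (f : j ⟶ k), IsAffineHom (DX.map f) := by
    intro j k f
    haveI hk : IsAffineHom (D.map k.hom) := hD _ _ k.hom
    haveI hj : IsAffineHom (D.map j.hom) := hD _ _ j.hom
    haveI : IsAffineHom (pullback.snd (D.map k.hom) (f₀ ≫ g₀)) :=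
      MorphismProperty.pullback_snd _ _ hk
    haveI : IsAffineHom (pullback.snd (D.map j.hom) (f₀ ≫ g₀)) :=
      MorphismProperty.pullback_snd _ _ hj
    have e : DX.map f ≫ pullback.snd (D.map k.hom) (f₀ ≫ g₀) =
        pullback.snd (D.map j.hom) (f₀ ≫ g₀) := by
      simp [DX]
    haveI : IsAffineHom (DX.map f ≫ pullback.snd (D.map k.hom) (f₀ ≫ g₀)) := by
      rw [e]; infer_instance
    exact IsAffineHom.of_comp _ (pullback.snd (D.map k.hom) (f₀ ≫ g₀))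
  haveI hCpt : ∀ j : Over i₀, CompactSpace (DX.obj j) := by
    intro j
    haveI hj : IsAffineHom (D.map j.hom) := hD _ _ j.hom
    show CompactSpace ↥(pullback (D.map j.hom) (f₀ ≫ g₀))
    infer_instance
  haveI hQS : ∀ j : Over i₀, QuasiSeparatedSpace (DX.obj j) := by
    intro j
    haveI hj : IsAffineHom (D.map j.hom) := hD _ _ j.hom
    haveI : IsAffineHom (pullback.snd (D.map j.hom) (f₀ ≫ g₀)) :=
      MorphismProperty.pullback_snd _ _ hj
    exact quasiSeparatedSpace_of_quasiSeparated (pullback.snd (D.map j.hom) (f₀ ≫ g₀))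
  let t : ∀ j : Over i₀, DX.obj j ⟶ Y₀ := fun j => pullback.snd (D.map j.hom) (f₀ ≫ g₀) ≫ f₀
  have hnat : ∀ {j k : Over i₀} (a : j ⟶ k), DX.map a ≫ t k = t j := by
    intro j k a
    simp [DX, t]
  haveI hπ : IsAffineHom (c.π.app i₀) := isAffineHom_π_app D c hc i₀
  haveI hqY : IsAffineHom qY := MorphismProperty.of_isPullback (P := @IsAffineHom) hY.flip hπ
  have hXpaste : IsPullback (f ≫ g) qX (c.π.app i₀) (f₀ ≫ g₀) := hX.flip.paste_horiz hY.flip
  have h1 : cX.π.app (Over.mk (𝟙 i₀)) ≫ pullback.snd (D.map (𝟙 i₀)) (f₀ ≫ g₀) =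
      pullback.snd (c.π.app i₀) (f₀ ≫ g₀) := by
    simp [cX]
  have hkey : cX.π.app (Over.mk (𝟙 i₀)) ≫ t (Over.mk (𝟙 i₀)) =
      hXpaste.isoPullback.inv ≫ f ≫ qY := by
    rw [Iso.eq_inv_comp, ← hX.w]
    show hXpaste.isoPullback.hom ≫ cX.π.app (Over.mk (𝟙 i₀)) ≫
      pullback.snd (D.map (𝟙 i₀)) (f₀ ≫ g₀) ≫ f₀ = qX ≫ f₀
    rw [reassoc_of% h1, hXpaste.isoPullback_hom_snd_assoc]
  haveI : IsAffineHom (cX.π.app (Over.mk (𝟙 i₀)) ≫ t (Over.mk (𝟙 i₀))) := by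
    rw [hkey]; infer_instance
  obtain ⟨j₁, hj₁⟩ := Groth.Agent.S9200.main Y₀ DX t hnat cX hcX (Over.mk (𝟙 i₀))
  haveI htj : IsAffineHom (t j₁) := hj₁ j₁ (𝟙 j₁)
  haveI hpY : IsAffineHom (pullback.fst g₀ (D.map j₁.hom)) :=
    MorphismProperty.pullback_fst _ _ (hD _ _ j₁.hom)
  refine ⟨j₁.left, j₁.hom, pullback f₀ (pullback.fst g₀ (D.map j₁.hom)),
    pullback g₀ (D.map j₁.hom),
    pullback.snd _ _, pullback.snd _ _, pullback.fst _ _, pullback.fst _ _,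
    IsPullback.of_hasPullback _ _, IsPullback.of_hasPullback _ _, ?_⟩
  have hpaste : IsPullback
      (pullback.snd f₀ (pullback.fst g₀ (D.map j₁.hom)) ≫ pullback.snd g₀ (D.map j₁.hom))
      (pullback.fst f₀ (pullback.fst g₀ (D.map j₁.hom))) (D.map j₁.hom) (f₀ ≫ g₀) :=
    (IsPullback.of_hasPullback f₀ (pullback.fst g₀ (D.map j₁.hom))).flip.paste_horiz
      (IsPullback.of_hasPullback g₀ (D.map j₁.hom)).flip
  have e2 : pullback.snd f₀ (pullback.fst g₀ (D.map j₁.hom)) ≫ pullback.fst g₀ (D.map j₁.hom) =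
      hpaste.isoPullback.hom ≫ t j₁ := by
    show _ = hpaste.isoPullback.hom ≫ pullback.snd (D.map j₁.hom) (f₀ ≫ g₀) ≫ f₀
    rw [hpaste.isoPullback_hom_snd_assoc, pullback.condition]
  haveI : IsAffineHom (pullback.snd f₀ (pullback.fst g₀ (D.map j₁.hom)) ≫
      pullback.fst g₀ (D.map j₁.hom)) := by
    rw [e2]; infer_instance
  exact IsAffineHom.of_comp _ (pullback.fst g₀ (D.map j₁.hom))

/-- Let S = lim S_i be a cofiltered limit of schemes with affine transition morphisms, S_{i₀} a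
quasi-compact quasi-separated stage, f₀ : X₀ → Y₀ a morphism of quasi-compact quasi-separated
schemes over S_{i₀}, and f : X → Y its base change along S → S_{i₀} (base changes expressed by
pullback squares). If f is affine, then for some index i over i₀ the base change f_i : X_i → Y_i of
f₀ along S_i → S_{i₀} is affine. No finiteness hypothesis on f₀ is needed. -/
theorem result {I : Type u} [SmallCategory I] [IsCofiltered I]
    (D : I ⥤ Scheme.{u}) (c : Limits.Cone D) (hc : Limits.IsLimit c)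
    [∀ (i j : I) (f : i ⟶ j), IsAffineHom (D.map f)] (i₀ : I) [CompactSpace (D.obj i₀)]
    [QuasiSeparatedSpace (D.obj i₀)] {X₀ Y₀ : Scheme.{u}} (f₀ : X₀ ⟶ Y₀) (g₀ : Y₀ ⟶ D.obj i₀)
    [CompactSpace X₀] [QuasiSeparatedSpace X₀] [CompactSpace Y₀] [QuasiSeparatedSpace Y₀]
    {X Y : Scheme.{u}} (f : X ⟶ Y) (g : Y ⟶ c.pt) (qY : Y ⟶ Y₀) (qX : X ⟶ X₀)
    (hY : IsPullback qY g g₀ (c.π.app i₀)) (hX : IsPullback qX f f₀ qY) [IsAffineHom f] :
    ∃ (i : I) (φ : i ⟶ i₀) (Xi Yi : Scheme.{u}) (fi : Xi ⟶ Yi) (gi : Yi ⟶ D.obj i) (pY : Yi ⟶ Y₀)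
      (pX : Xi ⟶ X₀), IsPullback pY gi g₀ (D.map φ) ∧ IsPullback pX fi f₀ pY ∧ IsAffineHom fi := by
  exact main D c hc i₀ f₀ g₀ f g qY qX hY hX

end Groth.Agent.S9186
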