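import Groth.Statements.S9194
import Mathlib
import Groth.Agent.S0087
import Groth.Agent.Lib.Helper9.Lim8

set_option autoImplicit false
universe u
open CategoryTheory AlgebraicGeometry
open Lim

namespace Groth.Agent.S9194

open AlgebraicGeometry CategoryTheory Limits in
/-- Pointwise descent: if the base change `f` of `f₀` is locally quasi-finite then `f₀` is
quasi-finite at every point in the image of `X ⟶ X₀`. -/
theorem qf_descent {X Y X₀ Y₀ : Scheme.{u}} (f₀ : X₀ ⟶ Y₀) [LocallyOfFiniteType f₀]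
    (f : X ⟶ Y) (qY : Y ⟶ Y₀) (qX : X ⟶ X₀) (hX : IsPullback qX f f₀ qY)
    [LocallyQuasiFinite f] (x : X) : f₀.QuasiFiniteAt (qX x) := by
  haveI : LocallyOfFiniteType f := MorphismProperty.of_isPullback hX inferInstance
  have hpb := isPullback_fiberToSpecResidueField_of_isPullback hX (f x)
  have hP : (@LocallyQuasiFinite ⊓ @LocallyOfFiniteType : MorphismProperty Scheme.{u})
      (f.fiberToSpecResidueField (f x)) := by
    refine ⟨?_, ?_⟩
    · show LocallyQuasiFinite (pullback.snd f (Y.fromSpecResidueField (f x)))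
      infer_instance
    · show LocallyOfFiniteType (pullback.snd f (Y.fromSpecResidueField (f x)))
      infer_instance
  have hQ : (@Surjective ⊓ @Flat ⊓ @QuasiCompact : MorphismProperty Scheme.{u})
      (Spec.map (qY.residueFieldMap (f x))) := by
    refine ⟨⟨?_, ?_⟩, ?_⟩
    · refine ⟨fun z => ⟨default, Subsingleton.elim _ _⟩⟩
    · show Flat (Spec.map (qY.residueFieldMap (f x)))
      rw [HasRingHomProperty.Spec_iff (P := @Flat)]
      algebraize [(qY.residueFieldMap (f x)).hom]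
      show Module.Flat _ _
      infer_instance
    · show QuasiCompact (Spec.map (qY.residueFieldMap (f x)))
      infer_instance
  haveI := Groth.Agent.S0087.result.{u}
  have h0 : (@LocallyQuasiFinite ⊓ @LocallyOfFiniteType : MorphismProperty Scheme.{u})
      (f₀.fiberToSpecResidueField (qY (f x))) :=
    MorphismProperty.of_isPullback_of_descendsAlong
      (P := (@LocallyQuasiFinite ⊓ @LocallyOfFiniteType : MorphismProperty Scheme.{u}))
      (Q := (@Surjective ⊓ @Flat ⊓ @QuasiCompact : MorphismProperty Scheme.{u})) hpb.flip hQ hP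
  have hcomm : qY (f x) = f₀ (qX x) := by
    rw [← Scheme.Hom.comp_apply, ← hX.w, Scheme.Hom.comp_apply]
  rw [hcomm] at h0
  haveI : LocallyQuasiFinite (f₀.fiberToSpecResidueField (f₀ (qX x))) := h0.1
  haveI : IsLocallyArtinian (f₀.fiber (f₀ (qX x))) :=
    IsLocallyArtinian.of_locallyQuasiFinite (f₀.fiberToSpecResidueField (f₀ (qX x)))
  rw [Scheme.Hom.quasiFiniteAt_iff_isOpen_singleton_asFiber]
  exact isOpen_discrete _

open AlgebraicGeometry CategoryTheory Limits in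
/-- If `X_j ⟶ X₀` lands in the quasi-finite locus of `f₀`, the base change `f_j` is locally
quasi-finite. -/
theorem stage_lqf {Xj Yj X₀ Y₀ : Scheme.{u}} (f₀ : X₀ ⟶ Y₀) [LocallyOfFiniteType f₀]
    (fj : Xj ⟶ Yj) (pY : Yj ⟶ Y₀) (pX : Xj ⟶ X₀) (h : IsPullback pX fj f₀ pY)
    (hW : ∀ w : Xj, f₀.QuasiFiniteAt (pX w)) : LocallyQuasiFinite fj := by
  have hrange : Set.range pX ⊆ Set.range f₀.quasiFiniteLocus.ι := by
    rintro _ ⟨w, rfl⟩
    rw [Scheme.Opens.range_ι]
    exact hW w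
  obtain ⟨l, hl⟩ : ∃ l : Xj ⟶ f₀.quasiFiniteLocus, l ≫ f₀.quasiFiniteLocus.ι = pX :=
    ⟨IsOpenImmersion.lift f₀.quasiFiniteLocus.ι pX hrange, IsOpenImmersion.lift_fac _ _ _⟩
  haveI : LocallyQuasiFinite (f₀.quasiFiniteLocus.ι ≫ f₀) := by
    rw [← Scheme.Hom.quasiFiniteLocus_eq_top_iff, Scheme.Hom.quasiFiniteLocus_comp]
    refine top_le_iff.mp fun z _ => ?_
    show f₀.quasiFiniteLocus.ι z ∈ f₀.quasiFiniteLocus
    exact z.2
  obtain ⟨k, hk1, hk2⟩ : ∃ k : Xj ⟶ pullback (f₀.quasiFiniteLocus.ι ≫ f₀) pY,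
      k ≫ pullback.fst (f₀.quasiFiniteLocus.ι ≫ f₀) pY = l ∧
      k ≫ pullback.snd (f₀.quasiFiniteLocus.ι ≫ f₀) pY = fj :=
    ⟨pullback.lift l fj (by rw [← Category.assoc, hl]; exact h.w), pullback.lift_fst _ _ _,
      pullback.lift_snd _ _ _⟩
  obtain ⟨e, he1, he2⟩ : ∃ e : pullback (f₀.quasiFiniteLocus.ι ≫ f₀) pY ⟶ Xj,
      e ≫ pX = pullback.fst (f₀.quasiFiniteLocus.ι ≫ f₀) pY ≫ f₀.quasiFiniteLocus.ι ∧
      e ≫ fj = pullback.snd (f₀.quasiFiniteLocus.ι ≫ f₀) pY :=
    ⟨h.lift (pullback.fst (f₀.quasiFiniteLocus.ι ≫ f₀) pY ≫ f₀.quasiFiniteLocus.ι)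
      (pullback.snd (f₀.quasiFiniteLocus.ι ≫ f₀) pY) (by
        rw [Category.assoc]; exact pullback.condition), h.lift_fst _ _ _, h.lift_snd _ _ _⟩
  have hke : k ≫ e = 𝟙 Xj := by
    apply h.hom_ext
    · rw [Category.assoc, he1, ← Category.assoc, hk1, hl, Category.id_comp]
    · rw [Category.assoc, he2, hk2, Category.id_comp]
  haveI : LocallyQuasiFinite (k ≫ e) := by rw [hke]; infer_instance
  haveI : LocallyQuasiFinite k := LocallyQuasiFinite.of_comp k e
  rw [← hk2]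
  infer_instance

set_option backward.defeqAttrib.useBackward true in
set_option backward.isDefEq.respectTransparency false in
open AlgebraicGeometry CategoryTheory Limits Groth.Agent.Helper9.Lim8 in
theorem main {I : Type u} [SmallCategory I] [IsCofiltered I]
    (D : I ⥤ Scheme.{u}) (c : Limits.Cone D) (hc : Limits.IsLimit c)
    [hD : ∀ (i j : I) (f : i ⟶ j), IsAffineHom (D.map f)] (i₀ : I) [CompactSpace (D.obj i₀)]
    [QuasiSeparatedSpace (D.obj i₀)] {X₀ Y₀ : Scheme.{u}} (f₀ : X₀ ⟶ Y₀) (g₀ : Y₀ ⟶ D.obj i₀)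
    [CompactSpace X₀] [QuasiSeparatedSpace X₀] [CompactSpace Y₀] [QuasiSeparatedSpace Y₀]
    [LocallyOfFiniteType f₀]
    {X Y : Scheme.{u}} (f : X ⟶ Y) (g : Y ⟶ c.pt) (qY : Y ⟶ Y₀) (qX : X ⟶ X₀)
    (hY : IsPullback qY g g₀ (c.π.app i₀)) (hX : IsPullback qX f f₀ qY) [LocallyQuasiFinite f] :
    ∃ (i : I) (φ : i ⟶ i₀) (Xi Yi : Scheme.{u}) (fi : Xi ⟶ Yi) (gi : Yi ⟶ D.obj i) (pY : Yi ⟶ Y₀)
      (pX : Xi ⟶ X₀), IsPullback pY gi g₀ (D.map φ) ∧ IsPullback pX fi f₀ pY ∧
        LocallyQuasiFinite fi := by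
  haveI hD' : ∀ {i j : I} (a : i ⟶ j), IsAffineHom (D.map a) := fun a => hD _ _ a
  obtain ⟨G, hG⟩ : ∃ G : X₀ ⟶ D.obj i₀, G = f₀ ≫ g₀ := ⟨_, rfl⟩
  -- the closed sets
  let Z : ∀ j : Over i₀, Set ((bcDiagram D G).obj j) := fun j =>
    ⇑(pullback.snd (D.map j.hom) G) ⁻¹' ((f₀.quasiFiniteLocus : Set X₀)ᶜ)
  have hZc : ∀ j, IsClosed (Z j) := fun j =>
    (f₀.quasiFiniteLocus.2.isClosed_compl).preimage (pullback.snd (D.map j.hom) G).continuous
  haveI : ∀ j : Over i₀, CompactSpace ((bcDiagram D G).obj j) := fun j => by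
    show CompactSpace ↥(pullback (D.map j.hom) G)
    infer_instance
  have hZcpt : ∀ j, IsCompact (Z j) := fun j => (hZc j).isCompact
  have hmaps : ∀ {j k : Over i₀} (φ : j ⟶ k), Set.MapsTo ((bcDiagram D G).map φ) (Z j) (Z k) := by
    intro j k φ w hw
    show (pullback.snd (D.map k.hom) G) (((bcDiagram D G).map φ) w) ∈
      ((f₀.quasiFiniteLocus : Set X₀)ᶜ)
    have e3 : (pullback.snd (D.map k.hom) G) (((bcDiagram D G).map φ) w) =
        (pullback.snd (D.map j.hom) G) w :=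
      (Scheme.Hom.comp_apply ((bcDiagram D G).map φ)
        (pullback.snd (D.map k.hom) G) w).symm.trans
        (congrArg (fun ψ : (bcDiagram D G).obj j ⟶ X₀ => ψ w) (bcDiagram_map_snd D G φ))
    rw [e3]
    exact hw
  -- some Z j is empty
  have hex : ∃ j : Over i₀, Z j = ∅ := by
    by_contra hne
    have hne' : ∀ j, (Z j).Nonempty := fun j =>
      Set.nonempty_iff_ne_empty.mpr fun h => hne ⟨j, h⟩
    obtain ⟨s, hs⟩ := exists_mem_of_isClosed_of_nonempty (bcDiagram D G) (bcCone D c G)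
      (bcIsLimit D c hc G) Z hZc hne' hZcpt hmaps
    have hs0 := hs (Over.mk (𝟙 i₀))
    -- construct the point of X
    have hcond : pullback.fst (c.π.app i₀) G ≫ c.π.app i₀ = pullback.snd (c.π.app i₀) G ≫ G :=
      pullback.condition
    obtain ⟨ty, hty1, hty2⟩ : ∃ ty : pullback (c.π.app i₀) G ⟶ Y,
        ty ≫ qY = pullback.snd (c.π.app i₀) G ≫ f₀ ∧
        ty ≫ g = pullback.fst (c.π.app i₀) G :=
      ⟨hY.lift (pullback.snd (c.π.app i₀) G ≫ f₀)
        (pullback.fst (c.π.app i₀) G) (by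
          rw [hcond, hG]; simp only [Category.assoc]), hY.lift_fst _ _ _, hY.lift_snd _ _ _⟩
    obtain ⟨r, hr1, hr2⟩ : ∃ t : pullback (c.π.app i₀) G ⟶ X,
        t ≫ qX = pullback.snd (c.π.app i₀) G ∧ t ≫ f = ty :=
      ⟨hX.lift (pullback.snd (c.π.app i₀) G) ty (by rw [hty1]), hX.lift_fst _ _ _,
        hX.lift_snd _ _ _⟩
    have e1 := bcCone_π_snd D c G (Over.mk (𝟙 i₀))
    have e2 : (pullback.snd (D.map (Over.mk (𝟙 i₀)).hom) G)
        ((bcCone D c G).π.app (Over.mk (𝟙 i₀)) s) = (pullback.snd (c.π.app i₀) G) s :=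
      (Scheme.Hom.comp_apply ((bcCone D c G).π.app (Over.mk (𝟙 i₀)))
        (pullback.snd (D.map (Over.mk (𝟙 i₀)).hom) G) s).symm.trans
        (congrArg (fun ψ : (bcCone D c G).pt ⟶ X₀ => ψ s) e1)
    have hbad : (pullback.snd (c.π.app i₀) G) s ∈ ((f₀.quasiFiniteLocus : Set X₀)ᶜ) := by
      rw [← e2]; exact hs0
    apply hbad
    have hq := qf_descent f₀ f qY qX hX (r s)
    rw [← Scheme.Hom.comp_apply, hr1] at hq
    exact hq
  obtain ⟨j, hj⟩ := hex
  refine ⟨j.left, j.hom, pullback f₀ (pullback.fst g₀ (D.map j.hom)), pullback g₀ (D.map j.hom),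
    pullback.snd _ _, pullback.snd _ _, pullback.fst _ _, pullback.fst _ _,
    IsPullback.of_hasPullback _ _, IsPullback.of_hasPullback _ _, ?_⟩
  refine stage_lqf f₀ _ _ _ (IsPullback.of_hasPullback _ _) ?_
  intro w
  obtain ⟨n, hn1, hn2⟩ : ∃ n : pullback f₀ (pullback.fst g₀ (D.map j.hom)) ⟶
      pullback (D.map j.hom) G,
      n ≫ pullback.fst (D.map j.hom) G =
        pullback.snd f₀ (pullback.fst g₀ (D.map j.hom)) ≫ pullback.snd g₀ (D.map j.hom) ∧
      n ≫ pullback.snd (D.map j.hom) G = pullback.fst f₀ (pullback.fst g₀ (D.map j.hom)) :=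
    ⟨pullback.lift
      (pullback.snd f₀ (pullback.fst g₀ (D.map j.hom)) ≫ pullback.snd g₀ (D.map j.hom))
      (pullback.fst f₀ (pullback.fst g₀ (D.map j.hom))) (by
        rw [hG]
        simp only [Category.assoc]
        rw [← pullback.condition (f := g₀) (g := D.map j.hom), pullback.condition_assoc]),
      pullback.lift_fst _ _ _, pullback.lift_snd _ _ _⟩
  by_contra hw
  have : n w ∈ Z j := by
    show (pullback.snd (D.map j.hom) G) (n w) ∈ ((f₀.quasiFiniteLocus : Set X₀)ᶜ)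
    rw [← Scheme.Hom.comp_apply, hn2]
    exact hw
  rw [hj] at this
  exact this

/-- Let S = lim S_i be a cofiltered limit of schemes with affine transition morphisms, S_{i₀} a
quasi-compact quasi-separated stage, f₀ : X₀ → Y₀ a morphism of quasi-compact quasi-separated
schemes over S_{i₀}, and f : X → Y its base change along S → S_{i₀} (base changes expressed by
pullback squares). If f₀ is locally of finite type and f is quasi-finite (f is locally of finite
type and quasi-compact, being a base change of f₀; the hypothesis is that its fibres are discrete),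
then for some index i over i₀ the base change f_i : X_i → Y_i of f₀ along S_i → S_{i₀} is
quasi-finite: locally quasi-finite, and it is locally of finite type and quasi-compact as a base
change of f₀. -/
theorem result {I : Type u} [SmallCategory I] [IsCofiltered I]
    (D : I ⥤ Scheme.{u}) (c : Limits.Cone D) (hc : Limits.IsLimit c)
    [∀ (i j : I) (f : i ⟶ j), IsAffineHom (D.map f)] (i₀ : I) [CompactSpace (D.obj i₀)]
    [QuasiSeparatedSpace (D.obj i₀)] {X₀ Y₀ : Scheme.{u}} (f₀ : X₀ ⟶ Y₀) (g₀ : Y₀ ⟶ D.obj i₀)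
    [CompactSpace X₀] [QuasiSeparatedSpace X₀] [CompactSpace Y₀] [QuasiSeparatedSpace Y₀]
    [LocallyOfFiniteType f₀]
    {X Y : Scheme.{u}} (f : X ⟶ Y) (g : Y ⟶ c.pt) (qY : Y ⟶ Y₀) (qX : X ⟶ X₀)
    (hY : IsPullback qY g g₀ (c.π.app i₀)) (hX : IsPullback qX f f₀ qY) [LocallyQuasiFinite f] :
    ∃ (i : I) (φ : i ⟶ i₀) (Xi Yi : Scheme.{u}) (fi : Xi ⟶ Yi) (gi : Yi ⟶ D.obj i) (pY : Yi ⟶ Y₀)
      (pX : Xi ⟶ X₀), IsPullback pY gi g₀ (D.map φ) ∧ IsPullback pX fi f₀ pY ∧ LocallyQuasiFinite fi := by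
  exact main D c hc i₀ f₀ g₀ f g qY qX hY hX

end Groth.Agent.S9194
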