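import Groth.Statements.S9189
import Mathlib
import Groth.Agent.S2076
import Groth.Agent.S9186
import Groth.Agent.Lib.Helper9.Lim8

set_option autoImplicit false
universe u
open CategoryTheory AlgebraicGeometry
open Lim

namespace Groth.Agent.S9189

theorem ring_ci2 {A₀ B₀ A B : Type u} [CommRing A₀] [CommRing B₀] [CommRing A] [CommRing B]
    (σ₀ : A₀ →+* B₀) (α : A₀ →+* A) (θ : B₀ →+* B) (σ : A →+* B)
    (hcomm : θ.comp σ₀ = σ.comp α)
    (hgen : Subring.closure (Set.range θ ∪ Set.range σ) = ⊤)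
    (G : Finset B₀)
    (hG : ∀ R : Subring B₀, (∀ a, σ₀ a ∈ R) → (∀ b ∈ G, b ∈ R) → ∀ b, b ∈ R)
    (hint : ∀ b ∈ G, θ b ∈ σ.range) : Function.Surjective σ := by
  have h1 : ∀ b, θ b ∈ σ.range := by
    have := hG (σ.range.comap θ) (fun a => ?_) (fun b hb => hint b hb)
    · exact fun b => this b
    · show θ (σ₀ a) ∈ σ.range
      rw [← RingHom.comp_apply, hcomm]
      exact ⟨α a, rfl⟩
  have h2 : Subring.closure (Set.range θ ∪ Set.range σ) ≤ σ.range := by
    rw [Subring.closure_le]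
    rintro _ (⟨b, rfl⟩ | ⟨a, rfl⟩)
    · exact h1 b
    · exact ⟨a, rfl⟩
  rw [hgen] at h2
  intro y
  exact h2 (Subring.mem_top y)

open AlgebraicGeometry CategoryTheory Limits in
theorem appTop_comp_apply {A B C : Scheme.{u}} (f : A ⟶ B) (g : B ⟶ C) (s : Γ(C, ⊤)) :
    (f ≫ g).appTop.hom s = f.appTop.hom (g.appTop.hom s) := by
  rw [Scheme.Hom.comp_appTop]; rfl

open AlgebraicGeometry CategoryTheory Limits in
theorem appTop_eq_of_eq {A B B' C : Scheme.{u}} {f : A ⟶ B} {g : B ⟶ C} {f' : A ⟶ B'}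
    {g' : B' ⟶ C} (h : f ≫ g = f' ≫ g') (s : Γ(C, ⊤)) :
    f.appTop.hom (g.appTop.hom s) = f'.appTop.hom (g'.appTop.hom s) := by
  rw [← appTop_comp_apply, ← appTop_comp_apply, h]

open AlgebraicGeometry CategoryTheory Limits in
theorem appTop_eq_of_eq' {A B C : Scheme.{u}} {f : A ⟶ B} {g : B ⟶ C} {h' : A ⟶ C}
    (h : f ≫ g = h') (s : Γ(C, ⊤)) :
    f.appTop.hom (g.appTop.hom s) = h'.appTop.hom s := by
  rw [← appTop_comp_apply, h]

open AlgebraicGeometry CategoryTheory Limits in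
theorem bc_transfer (P : MorphismProperty Scheme.{u}) [P.IsStableUnderBaseChange]
    {X₀ Y₀ X Y Ym Yl : Scheme.{u}} (f₀ : X₀ ⟶ Y₀) (f : X ⟶ Y) (qX : X ⟶ X₀)
    (qY : Y ⟶ Y₀) (hX : IsPullback qX f f₀ qY) (hf : P f) (y : Ym ⟶ Y₀) (π : Yl ⟶ Ym)
    (ε : Yl ⟶ Y) (hε : ε ≫ qY = π ≫ y) :
    P (pullback.fst π (pullback.fst y f₀)) := by
  have left := (IsPullback.of_hasPullback π (pullback.fst y f₀)).flip
  have right := (IsPullback.of_hasPullback y f₀).flip
  have big := left.paste_horiz right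
  have hcomm : (pullback.snd π (pullback.fst y f₀) ≫ pullback.snd y f₀) ≫ f₀ =
      (pullback.fst π (pullback.fst y f₀) ≫ ε) ≫ qY := by
    rw [Category.assoc _ ε, hε]
    exact big.w
  have s : IsPullback (hX.lift _ _ hcomm ≫ qX) (pullback.fst π (pullback.fst y f₀)) f₀
      (ε ≫ qY) := by
    rw [hX.lift_fst, hε]
    exact big
  have := IsPullback.of_right s (hX.lift_snd _ _ hcomm) hX
  exact P.of_isPullback this hf

open AlgebraicGeometry CategoryTheory Limits in
theorem bc_transfer0 (P : MorphismProperty Scheme.{u}) [P.IsStableUnderBaseChange]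
    {X₀ Y₀ X Y Ym : Scheme.{u}} (f₀ : X₀ ⟶ Y₀) (f : X ⟶ Y) (qX : X ⟶ X₀)
    (qY : Y ⟶ Y₀) (hX : IsPullback qX f f₀ qY) (hf : P f) (y : Ym ⟶ Y₀)
    (ε : Ym ⟶ Y) (hε : ε ≫ qY = y) :
    P (pullback.fst y f₀) := by
  have big := (IsPullback.of_hasPullback y f₀).flip
  have hcomm : pullback.snd y f₀ ≫ f₀ = (pullback.fst y f₀ ≫ ε) ≫ qY := by
    rw [Category.assoc, hε]
    exact big.w
  have s : IsPullback (hX.lift _ _ hcomm ≫ qX) (pullback.fst y f₀) f₀ (ε ≫ qY) := by
    rw [hX.lift_fst, hε]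
    exact big
  have := IsPullback.of_right s (hX.lift_snd _ _ hcomm) hX
  exact P.of_isPullback this hf

open AlgebraicGeometry CategoryTheory Limits in
theorem of_two_pullbacks (P : MorphismProperty Scheme.{u}) [P.RespectsIso]
    {A A' V Xi S : Scheme.{u}} {x : Xi ⟶ S} {v : V ⟶ S} {a : A ⟶ V} {a' : A' ⟶ V}
    {t : A ⟶ Xi} {t' : A' ⟶ Xi} (h : IsPullback t a x v) (h' : IsPullback t' a' x v)
    (ha : P a) : P a' := by
  have e : a' = (h'.isoIsPullback _ _ h).hom ≫ a := (IsPullback.isoIsPullback_hom_snd _ _ h' h).symm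
  rw [e]
  exact (P.cancel_left_of_respectsIso _ a).mpr ha

set_option backward.defeqAttrib.useBackward true in
set_option backward.isDefEq.respectTransparency false in
open AlgebraicGeometry CategoryTheory Limits Groth.Agent.Helper9.Lim8 in
theorem ci_aff2 {J : Type u} [SmallCategory J] [IsCofiltered J] (E : J ⥤ Scheme.{u})
    (cE : Cone E) (hcE : IsLimit cE) [∀ j, IsAffine (E.obj j)] [IsAffine cE.pt] (j₀ : J)
    {T : Scheme.{u}} [IsAffine T] (x : T ⟶ E.obj j₀) [LocallyOfFiniteType x]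
    [IsClosedImmersion (pullback.fst (cE.π.app j₀) x)] :
    ∃ k : Over j₀, ∀ (l : Over j₀) (_ : l ⟶ k),
      IsClosedImmersion (pullback.fst (E.map l.hom) x) := by
  classical
  haveI hP' : ∀ l : Over j₀, IsAffine (pullback (E.map l.hom) x) := fun l => inferInstance
  haveI hP : ∀ l : Over j₀, IsAffine ((bcDiagram E x).obj l) := fun l => hP' l
  haveI : IsAffine (((Functor.const J).obj cE.pt).obj j₀) := ‹IsAffine cE.pt›
  haveI : IsAffine (pullback (cE.π.app j₀) x) := inferInstance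
  have hsurj : Function.Surjective (pullback.fst (cE.π.app j₀) x).appTop :=
    (IsClosedImmersion.isAffine_surjective_of_isAffine _).2
  have hft : RingHom.FiniteType x.appTop.hom :=
    (HasRingHomProperty.iff_of_isAffine (P := @LocallyOfFiniteType)).mp inferInstance
  have hpers : ∀ {l' l : Over j₀} (ψ : l' ⟶ l) (a : Γ(E.obj l.left, ⊤)) (b : Γ(T, ⊤)),
      (pullback.fst (E.map l.hom) x).appTop.hom a =
        (pullback.snd (E.map l.hom) x).appTop.hom b →
      (pullback.fst (E.map l'.hom) x).appTop.hom ((E.map ψ.left).appTop.hom a) =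
        (pullback.snd (E.map l'.hom) x).appTop.hom b := by
    intro l' l ψ a b h
    have h1 := appTop_eq_of_eq (bcDiagram_map_fst E x ψ) a
    have h2 := appTop_eq_of_eq' (bcDiagram_map_snd E x ψ) b
    exact (h1.symm.trans (congrArg ((bcDiagram E x).map ψ).appTop.hom h)).trans h2
  have hrep : ∀ b : Γ(T, ⊤), ∃ (l : Over j₀) (a : Γ(E.obj l.left, ⊤)),
      (pullback.fst (E.map l.hom) x).appTop.hom a =
        (pullback.snd (E.map l.hom) x).appTop.hom b := by
    intro b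
    obtain ⟨s, hs⟩ := hsurj ((pullback.snd (cE.π.app j₀) x).appTop.hom b)
    obtain ⟨k, t, ht⟩ := exists_appTop_π_eq_of_isAffine_of_isLimit E cE hcE s
    obtain ⟨l₁, a₁, ha₁⟩ : ∃ (l₁ : Over j₀) (a₁ : Γ(E.obj l₁.left, ⊤)),
        (cE.π.app l₁.left).appTop.hom a₁ = s := by
      refine ⟨Over.mk (IsCofiltered.minToRight k j₀),
        (E.map (IsCofiltered.minToLeft k j₀)).appTop.hom t, ?_⟩
      exact (appTop_eq_of_eq' (cE.w (IsCofiltered.minToLeft k j₀)) t).trans ht
    have hd : ((bcCone E cE x).π.app l₁).appTop.hom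
        ((pullback.fst (E.map l₁.hom) x).appTop.hom a₁ -
          (pullback.snd (E.map l₁.hom) x).appTop.hom b) = 0 := by
      rw [map_sub, sub_eq_zero]
      have h1 := appTop_eq_of_eq (bcCone_π_fst E cE x l₁) a₁
      have h2 := appTop_eq_of_eq' (bcCone_π_snd E cE x l₁) b
      exact (h1.trans ((congrArg (pullback.fst (cE.π.app j₀) x).appTop.hom ha₁).trans hs)).trans
        h2.symm
    obtain ⟨l₂, ψ, hψ⟩ := exists_appTop_map_eq_zero_of_isAffine_of_isLimit (bcDiagram E x)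
      (bcCone E cE x) (bcIsLimit E cE hcE x) l₁ _ hd
    refine ⟨l₂, (E.map ψ.left).appTop.hom a₁, ?_⟩
    have h3 : ((bcDiagram E x).map ψ).appTop.hom
        ((pullback.fst (E.map l₁.hom) x).appTop.hom a₁) =
        ((bcDiagram E x).map ψ).appTop.hom ((pullback.snd (E.map l₁.hom) x).appTop.hom b) := by
      have h4 : ((bcDiagram E x).map ψ).appTop.hom
          ((pullback.fst (E.map l₁.hom) x).appTop.hom a₁ -
            (pullback.snd (E.map l₁.hom) x).appTop.hom b) = 0 := hψ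
      rw [map_sub, sub_eq_zero] at h4
      exact h4
    exact ((appTop_eq_of_eq (bcDiagram_map_fst E x ψ) a₁).symm.trans h3).trans
      (appTop_eq_of_eq' (bcDiagram_map_snd E x ψ) b)
  have hfin : ∀ G : Finset Γ(T, ⊤), ∃ l : Over j₀, ∀ b ∈ G, ∃ a : Γ(E.obj l.left, ⊤),
      (pullback.fst (E.map l.hom) x).appTop.hom a =
        (pullback.snd (E.map l.hom) x).appTop.hom b := by
    intro G
    induction G using Finset.induction_on with
    | empty => exact ⟨Over.mk (𝟙 j₀), by simp⟩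
    | insert b G hb ih =>
      obtain ⟨l, hl⟩ := ih
      obtain ⟨lb, ab, hab⟩ := hrep b
      refine ⟨IsCofiltered.min l lb, ?_⟩
      intro b' hb'
      rcases Finset.mem_insert.mp hb' with rfl | hb'
      · exact ⟨_, hpers (IsCofiltered.minToRight l lb) ab b' hab⟩
      · obtain ⟨a, ha⟩ := hl b' hb'
        exact ⟨_, hpers (IsCofiltered.minToLeft l lb) a b' ha⟩
  obtain ⟨G, hG⟩ := Groth.Agent.S2076.ft_gen _ hft
  obtain ⟨k, hk⟩ := hfin G
  refine ⟨k, fun l ψ => ?_⟩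
  apply IsClosedImmersion.of_surjective_of_isAffine
  have hgen := CommRingCat.closure_range_union_range_eq_top_of_isPushout
    (isPushout_appTop_of_isPullback (IsPullback.of_hasPullback (E.map l.hom) x))
  refine ring_ci2 x.appTop.hom (E.map l.hom).appTop.hom
    (pullback.snd (E.map l.hom) x).appTop.hom (pullback.fst (E.map l.hom) x).appTop.hom
    ?_ ?_ G hG ?_
  · ext a
    exact (appTop_eq_of_eq (pullback.condition (f := E.map l.hom) (g := x)) a).symm
  · rw [Set.union_comm]; exact hgen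
  · intro b hb
    obtain ⟨a, ha⟩ := hk b hb
    exact ⟨_, hpers ψ a b ha⟩


set_option backward.defeqAttrib.useBackward true in
set_option backward.isDefEq.respectTransparency false in
open AlgebraicGeometry CategoryTheory Limits Groth.Agent.Helper9.Lim8 in
theorem perW2 {I : Type u} [SmallCategory I] [IsCofiltered I]
    (D : I ⥤ Scheme.{u}) (c : Cone D) (hc : IsLimit c)
    [hD : ∀ {i j : I} (f : i ⟶ j), IsAffineHom (D.map f)] (i : I)
    {Xi : Scheme.{u}} (x : Xi ⟶ D.obj i) [IsAffineHom x] [LocallyOfFiniteType x]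
    [IsClosedImmersion (pullback.fst (c.π.app i) x)] (W : (D.obj i).Opens)
    (hW : IsAffineOpen W) :
    ∃ k : Over i, ∀ (l : Over i) (_ : l ⟶ k),
      IsClosedImmersion (pullback.fst (D.map l.hom) x ∣_ (D.map l.hom ⁻¹ᵁ W)) := by
  haveI : IsAffineHom (c.π.app i) := isAffineHom_π_app D c hc i
  haveI hEaff : ∀ j : Over i, IsAffine ((opensDiagram D i W).obj j) := fun j =>
    (hW.preimage (D.map j.hom) : IsAffineOpen (D.map j.hom ⁻¹ᵁ W))
  haveI hEaff' : ∀ j : Over i,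
      IsAffine ((D.map j.hom ⁻¹ᵁ W : (D.obj j.left).Opens) : Scheme.{u}) := fun j => hEaff j
  haveI : IsAffine (opensCone D c i W).pt :=
    (hW.preimage (c.π.app i) : IsAffineOpen (c.π.app i ⁻¹ᵁ W))
  obtain ⟨j₀⟩ : Nonempty (Over i) := ⟨Over.mk (𝟙 i)⟩
  have hEι : ∀ {k j : Over i} (φ : k ⟶ j), (opensDiagram D i W).map φ ≫
      (D.map j.hom ⁻¹ᵁ W).ι = (D.map k.hom ⁻¹ᵁ W).ι ≫ D.map φ.left := by
    intro k j φ
    rw [opensDiagram_map]
    exact Scheme.Hom.resLE_comp_ι _ _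
  have hconeι : ∀ k : Over i, (opensCone D c i W).π.app k ≫ (D.map k.hom ⁻¹ᵁ W).ι =
      (c.π.app i ⁻¹ᵁ W).ι ≫ c.π.app k.left := fun k => by
    rw [opensCone_π_app]; exact Scheme.Hom.resLE_comp_ι _ _
  obtain ⟨y₀, hy₀⟩ : ∃ y₀ : (opensDiagram D i W).obj j₀ ⟶ D.obj i,
      y₀ = (D.map j₀.hom ⁻¹ᵁ W).ι ≫ D.map j₀.hom := ⟨_, rfl⟩
  haveI : IsAffine (pullback y₀ x) := inferInstance
  haveI : IsClosedImmersion (pullback.fst ((opensCone D c i W).π.app j₀)
      (pullback.fst y₀ x)) := by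
    refine bc_transfer @IsClosedImmersion x (pullback.fst (c.π.app i) x)
      (pullback.snd (c.π.app i) x) (c.π.app i) (IsPullback.of_hasPullback (c.π.app i) x).flip
      inferInstance y₀ ((opensCone D c i W).π.app j₀) (c.π.app i ⁻¹ᵁ W).ι ?_
    rw [hy₀, reassoc_of% (hconeι j₀), c.w]
  obtain ⟨k₂, hk₂⟩ := ci_aff2 (opensDiagram D i W) (opensCone D c i W)
    (isLimitOpensCone D c hc i W) j₀ (pullback.fst y₀ x)
  refine ⟨k₂.left, fun l ψ => ?_⟩
  obtain ⟨h, hh⟩ : ∃ h : l ⟶ j₀, h = ψ ≫ k₂.hom := ⟨_, rfl⟩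
  have hcl : IsClosedImmersion (pullback.fst ((opensDiagram D i W).map h) (pullback.fst y₀ x)) :=
    hk₂ (Over.mk h) (Over.homMk ψ hh.symm)
  have sqB := (IsPullback.of_hasPullback ((opensDiagram D i W).map h)
    (pullback.fst y₀ x)).flip.paste_horiz (IsPullback.of_hasPullback y₀ x).flip
  have hbottom : (opensDiagram D i W).map h ≫ y₀ = (D.map l.hom ⁻¹ᵁ W).ι ≫ D.map l.hom := by
    rw [hy₀, reassoc_of% (hEι h), ← D.map_comp, Over.w h]
  rw [hbottom] at sqB
  have sqA := (isPullback_morphismRestrict (pullback.fst (D.map l.hom) x)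
    (D.map l.hom ⁻¹ᵁ W)).flip.paste_horiz (IsPullback.of_hasPullback (D.map l.hom) x).flip
  exact of_two_pullbacks @IsClosedImmersion sqB sqA hcl

set_option backward.defeqAttrib.useBackward true in
set_option backward.isDefEq.respectTransparency false in
open AlgebraicGeometry CategoryTheory Limits Groth.Agent.Helper9.Lim8 in
theorem core_ci_aff {I : Type u} [SmallCategory I] [IsCofiltered I]
    (D : I ⥤ Scheme.{u}) (c : Cone D) (hc : IsLimit c)
    [hD : ∀ {i j : I} (f : i ⟶ j), IsAffineHom (D.map f)] (i : I) [CompactSpace (D.obj i)]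
    {Xi : Scheme.{u}} (x : Xi ⟶ D.obj i) [IsAffineHom x] [LocallyOfFiniteType x]
    [IsClosedImmersion (pullback.fst (c.π.app i) x)] :
    ∃ k : Over i, ∀ (l : Over i) (_ : l ⟶ k),
      IsClosedImmersion (pullback.fst (D.map l.hom) x) := by
  classical
  let 𝒰 := (D.obj i).affineCover.finiteSubcover
  have hWa : ∀ a : 𝒰.I₀, IsAffineOpen (𝒰.f a).opensRange := fun a =>
    isAffineOpen_opensRange (𝒰.f a)
  choose j hj using fun a : 𝒰.I₀ => perW2 D c hc i x (𝒰.f a).opensRange (hWa a)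
  obtain ⟨k, hk⟩ := IsCofiltered.inf_objs_exists (Finset.univ.image j)
  refine ⟨k, fun l φ => ?_⟩
  have hsup : ⨆ a : 𝒰.I₀, D.map l.hom ⁻¹ᵁ (𝒰.f a).opensRange = ⊤ := by
    rw [eq_top_iff]
    intro p _
    have hp : (D.map l.hom) p ∈ (⊤ : (D.obj i).Opens) := trivial
    rw [← 𝒰.iSup_opensRange, TopologicalSpace.Opens.mem_iSup] at hp
    obtain ⟨a, ha⟩ := hp
    exact TopologicalSpace.Opens.mem_iSup.mpr ⟨a, ha⟩
  apply IsZariskiLocalAtTarget.of_iSup_eq_top (P := @IsClosedImmersion)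
    (fun a : 𝒰.I₀ => D.map l.hom ⁻¹ᵁ (𝒰.f a).opensRange) hsup ?_
  intro a
  obtain ⟨ψ⟩ := hk (Finset.mem_image_of_mem j (Finset.mem_univ a))
  exact hj a l (φ ≫ ψ)

set_option backward.defeqAttrib.useBackward true in
set_option backward.isDefEq.respectTransparency false in
open AlgebraicGeometry CategoryTheory Limits Groth.Agent.Helper9.Lim8 in
theorem main {I : Type u} [SmallCategory I] [IsCofiltered I]
    (D : I ⥤ Scheme.{u}) (c : Limits.Cone D) (hc : Limits.IsLimit c)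
    [hD : ∀ (i j : I) (f : i ⟶ j), IsAffineHom (D.map f)] (i₀ : I) [CompactSpace (D.obj i₀)]
    [QuasiSeparatedSpace (D.obj i₀)] {X₀ Y₀ : Scheme.{u}} (f₀ : X₀ ⟶ Y₀) (g₀ : Y₀ ⟶ D.obj i₀)
    [CompactSpace X₀] [QuasiSeparatedSpace X₀] [CompactSpace Y₀] [QuasiSeparatedSpace Y₀]
    [LocallyOfFiniteType f₀]
    {X Y : Scheme.{u}} (f : X ⟶ Y) (g : Y ⟶ c.pt) (qY : Y ⟶ Y₀) (qX : X ⟶ X₀)
    (hY : IsPullback qY g g₀ (c.π.app i₀)) (hX : IsPullback qX f f₀ qY)
    [IsClosedImmersion f] :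
    ∃ (i : I) (φ : i ⟶ i₀) (Xi Yi : Scheme.{u}) (fi : Xi ⟶ Yi) (gi : Yi ⟶ D.obj i) (pY : Yi ⟶ Y₀)
      (pX : Xi ⟶ X₀), IsPullback pY gi g₀ (D.map φ) ∧ IsPullback pX fi f₀ pY ∧
        IsClosedImmersion fi := by
  haveI hD' : ∀ {i j : I} (a : i ⟶ j), IsAffineHom (D.map a) := fun a => hD _ _ a
  haveI hYc' : ∀ m : Over i₀, CompactSpace ↥(pullback (D.map m.hom) g₀) := fun m => by
    infer_instance
  haveI hYc : ∀ m : Over i₀, CompactSpace ((bcDiagram D g₀).obj m) := fun m => hYc' m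
  haveI : IsAffineHom f := inferInstance
  obtain ⟨i, φ, Xi, Yi, fi, gi, pY, pX, h1, h2, hfi⟩ :=
    Groth.Agent.S9186.main D c hc i₀ f₀ g₀ f g qY qX hY hX
  obtain ⟨j₁, hj₁⟩ : ∃ j₁ : Over i₀,
      IsAffineHom (pullback.fst (pullback.snd (D.map j₁.hom) g₀) f₀) :=
    ⟨Over.mk φ, bc_transfer0 @IsAffineHom f₀ fi pX pY h2 hfi (pullback.snd (D.map φ) g₀)
      h1.flip.isoPullback.inv (IsPullback.isoPullback_inv_snd _)⟩
  haveI := hj₁
  haveI : IsClosedImmersion (pullback.fst ((bcCone D c g₀).π.app j₁)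
      (pullback.fst (pullback.snd (D.map j₁.hom) g₀) f₀)) :=
    bc_transfer @IsClosedImmersion f₀ f qX qY hX inferInstance (pullback.snd (D.map j₁.hom) g₀)
      ((bcCone D c g₀).π.app j₁) hY.flip.isoPullback.inv
      (by rw [IsPullback.isoPullback_inv_snd, bcCone_π_snd])
  obtain ⟨k, hk⟩ := core_ci_aff (bcDiagram D g₀) (bcCone D c g₀) (bcIsLimit D c hc g₀) j₁
    (pullback.fst (pullback.snd (D.map j₁.hom) g₀) f₀)
  have hk' := hk k (𝟙 k)
  refine ⟨k.left.left, k.left.hom,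
    pullback ((bcDiagram D g₀).map k.hom) (pullback.fst (pullback.snd (D.map j₁.hom) g₀) f₀),
    pullback (D.map k.left.hom) g₀,
    pullback.fst ((bcDiagram D g₀).map k.hom) (pullback.fst (pullback.snd (D.map j₁.hom) g₀) f₀),
    pullback.fst (D.map k.left.hom) g₀, pullback.snd (D.map k.left.hom) g₀,
    pullback.snd ((bcDiagram D g₀).map k.hom)
        (pullback.fst (pullback.snd (D.map j₁.hom) g₀) f₀) ≫
      pullback.snd (pullback.snd (D.map j₁.hom) g₀) f₀,
    (IsPullback.of_hasPullback (D.map k.left.hom) g₀).flip, ?_, hk'⟩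
  have left := (IsPullback.of_hasPullback ((bcDiagram D g₀).map k.hom)
    (pullback.fst (pullback.snd (D.map j₁.hom) g₀) f₀)).flip
  have right := (IsPullback.of_hasPullback (pullback.snd (D.map j₁.hom) g₀) f₀).flip
  have big := left.paste_horiz right
  rw [bcDiagram_map_snd] at big
  exact big

/-- Let S = lim S_i be a cofiltered limit of schemes with affine transition morphisms, S_{i₀} a
quasi-compact quasi-separated stage, f₀ : X₀ → Y₀ a morphism of quasi-compact quasi-separated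
schemes over S_{i₀}, and f : X → Y its base change along S → S_{i₀} (base changes expressed by
pullback squares). If f₀ is locally of finite type and f is a closed immersion, then for some index
i over i₀ the base change f_i : X_i → Y_i of f₀ along S_i → S_{i₀} is a closed immersion. -/
theorem result {I : Type u} [SmallCategory I] [IsCofiltered I]
    (D : I ⥤ Scheme.{u}) (c : Limits.Cone D) (hc : Limits.IsLimit c)
    [∀ (i j : I) (f : i ⟶ j), IsAffineHom (D.map f)] (i₀ : I) [CompactSpace (D.obj i₀)]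
    [QuasiSeparatedSpace (D.obj i₀)] {X₀ Y₀ : Scheme.{u}} (f₀ : X₀ ⟶ Y₀) (g₀ : Y₀ ⟶ D.obj i₀)
    [CompactSpace X₀] [QuasiSeparatedSpace X₀] [CompactSpace Y₀] [QuasiSeparatedSpace Y₀]
    [LocallyOfFiniteType f₀]
    {X Y : Scheme.{u}} (f : X ⟶ Y) (g : Y ⟶ c.pt) (qY : Y ⟶ Y₀) (qX : X ⟶ X₀)
    (hY : IsPullback qY g g₀ (c.π.app i₀)) (hX : IsPullback qX f f₀ qY) [IsClosedImmersion f] :
    ∃ (i : I) (φ : i ⟶ i₀) (Xi Yi : Scheme.{u}) (fi : Xi ⟶ Yi) (gi : Yi ⟶ D.obj i) (pY : Yi ⟶ Y₀)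
      (pX : Xi ⟶ X₀), IsPullback pY gi g₀ (D.map φ) ∧ IsPullback pX fi f₀ pY ∧ IsClosedImmersion fi := by
  exact main D c hc i₀ f₀ g₀ f g qY qX hY hX

end Groth.Agent.S9189
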