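import Groth.Statements.S9193
import Mathlib
import Groth.Agent.S9189
import Groth.Agent.Lib.Helper9.Lim8

set_option autoImplicit false
universe u
open CategoryTheory AlgebraicGeometry
open Lim

namespace Groth.Agent.S9193

open AlgebraicGeometry CategoryTheory Limits in
theorem hom_congr_apply {A B : Scheme.{u}} {f g : A ⟶ B} (h : f = g) (p : A) : f p = g p := by
  rw [h]

open AlgebraicGeometry CategoryTheory Limits in
theorem mono_sq {P U Z : Scheme.{u}} (r : P ⟶ U) (m : U ⟶ Z) [Mono m] (F : P ⟶ Z)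
    (h : r ≫ m = F) : IsPullback (𝟙 P) r F m := by
  subst h
  have top : IsPullback (𝟙 P) r r (𝟙 U) := IsPullback.of_horiz_isIso ⟨by simp⟩
  have bot : IsPullback (𝟙 U) (𝟙 U) m m := IsKernelPair.id_of_mono m
  have := top.paste_vert bot
  simpa using this

open AlgebraicGeometry CategoryTheory Limits in
theorem isPullback_range_fst {P X Y Z : Scheme.{u}} {fst : P ⟶ X} {snd : P ⟶ Y} {f : X ⟶ Z}
    {g : Y ⟶ Z} (h : IsPullback fst snd f g) : Set.range fst = f ⁻¹' Set.range g := by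
  ext z
  rw [← Scheme.Pullback.range_fst]
  constructor
  · rintro ⟨p, rfl⟩
    exact ⟨h.isoPullback.hom p, by rw [← Scheme.Hom.comp_apply, h.isoPullback_hom_fst]⟩
  · rintro ⟨p, rfl⟩
    exact ⟨h.isoPullback.inv p, by rw [← Scheme.Hom.comp_apply, h.isoPullback_inv_fst]⟩

open AlgebraicGeometry CategoryTheory Limits in
theorem ci_lift {P Z : Scheme.{u}} (F : P ⟶ Z) [IsImmersion F] (U : Z.Opens)
    (hU : U ≤ F.coborderRange) (r : P ⟶ U) (hr : r ≫ U.ι = F) : IsClosedImmersion r := by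
  have e : r ≫ Z.homOfLE hU = F.liftCoborder := by
    rw [← cancel_mono F.coborderRange.ι, Category.assoc, Scheme.homOfLE_ι, hr,
      Scheme.Hom.liftCoborder_ι]
  haveI : IsClosedImmersion (r ≫ Z.homOfLE hU) := by rw [e]; infer_instance
  exact IsClosedImmersion.of_comp r (Z.homOfLE hU)

set_option backward.defeqAttrib.useBackward true in
set_option backward.isDefEq.respectTransparency false in
open AlgebraicGeometry CategoryTheory Limits Groth.Agent.Helper9.Lim8 in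
theorem core_imm {I : Type u} [SmallCategory I] [IsCofiltered I]
    (D : I ⥤ Scheme.{u}) (c : Cone D) (hc : IsLimit c)
    [hD : ∀ (i j : I) (f : i ⟶ j), IsAffineHom (D.map f)] (i : I)
    [CompactSpace (D.obj i)] [QuasiSeparatedSpace (D.obj i)]
    {Xi : Scheme.{u}} (x : Xi ⟶ D.obj i) [CompactSpace Xi] [QuasiSeparatedSpace Xi]
    [LocallyOfFiniteType x] [IsImmersion (pullback.fst (c.π.app i) x)] :
    ∃ k : Over i, IsImmersion (pullback.fst (D.map k.hom) x) := by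
  haveI hD' : ∀ {i j : I} (a : i ⟶ j), IsAffineHom (D.map a) := fun a => hD _ _ a
  haveI : IsAffineHom (c.π.app i) := isAffineHom_π_app D c hc i
  haveI hDc : ∀ l : Over i, CompactSpace (D.obj l.left) := fun l => compactSpace_of_hom D l.hom
  haveI hDq : ∀ l : Over i, QuasiSeparatedSpace (D.obj l.left) := fun l =>
    quasiSeparatedSpace_of_hom D l.hom
  haveI hPc' : ∀ l : Over i, CompactSpace ↥(pullback (D.map l.hom) x) := fun l => by
    infer_instance
  haveI hPc : ∀ l : Over i, CompactSpace ((bcDiagram D x).obj l) := fun l => hPc' l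
  haveI hPq' : ∀ l : Over i, QuasiSeparatedSpace ↥(pullback (D.map l.hom) x) := fun l =>
    quasiSeparatedSpace_of_quasiSeparated (pullback.snd (D.map l.hom) x)
  haveI : CompactSpace ↥(pullback (c.π.app i) x) := by infer_instance
  obtain ⟨F, hF⟩ : ∃ F : pullback (c.π.app i) x ⟶ c.pt, F = pullback.fst (c.π.app i) x :=
    ⟨_, rfl⟩
  haveI : IsImmersion F := by rw [hF]; infer_instance
  -- A. compact open U
  have hsub0 : Set.range F ⊆ (F.coborderRange : Set c.pt) := by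
    rintro _ ⟨p, rfl⟩
    have h1 : F p = (F.coborderRange.ι) (F.liftCoborder p) := by
      rw [← Scheme.Hom.comp_apply, Scheme.Hom.liftCoborder_ι]
    rw [h1]
    exact (F.liftCoborder p).2
  obtain ⟨U, hUc, hFU, hUU₀⟩ := exists_isCompact_open_between c.pt
    (isCompact_range F.continuous) F.coborderRange.2 hsub0
  -- B. descend U
  obtain ⟨l₁, V, hV, hVU⟩ : ∃ (l₁ : Over i) (V : (D.obj l₁.left).Opens),
      IsCompact (V : Set (D.obj l₁.left)) ∧ c.π.app l₁.left ⁻¹ᵁ V = U := by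
    obtain ⟨k₁, b, V, hV, hVU⟩ := exists_preimage_eq_over D c hc i U hUc
    exact ⟨Over.mk b, V, hV, hVU⟩
  -- C. emptiness
  have hconeF : ∀ l : Over i, (bcCone D c x).π.app l ≫ pullback.fst (D.map l.hom) x =
      F ≫ c.π.app l.left := fun l => by rw [hF]; exact bcCone_π_fst D c x l
  have hpt : ∀ (l : Over i) (p : ↥(pullback (c.π.app i) x)),
      (pullback.fst (D.map l.hom) x) (((bcCone D c x).π.app l) p) = (c.π.app l.left) (F p) :=
    fun l p => (Scheme.Hom.comp_apply _ _ p).symm.trans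
      ((hom_congr_apply (hconeF l) p).trans (Scheme.Hom.comp_apply _ _ p))
  have hVc : Topology.IsConstructible (V : Set (D.obj l₁.left)) := hV.isConstructible V.2
  obtain ⟨E, hEdef⟩ : ∃ E : Set ↥((bcDiagram D x).obj l₁),
      E = ⇑(pullback.fst (D.map l₁.hom) x) ⁻¹' ((V : Set (D.obj l₁.left))ᶜ) := ⟨_, rfl⟩
  have hE : Topology.IsConstructible E := by
    rw [hEdef]
    exact Scheme.Hom.isConstructible_preimage _ hVc.compl
  have hempty : ⇑((bcCone D c x).π.app l₁) ⁻¹' E = ∅ := by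
    rw [hEdef]
    ext p
    simp only [Set.mem_preimage, Set.mem_compl_iff, Set.mem_empty_iff_false, iff_false,
      not_not]
    have hp : F p ∈ U := hFU ⟨p, rfl⟩
    rw [← hVU] at hp
    have := hpt l₁ p
    exact this ▸ hp
  obtain ⟨l₂, ψ, hψ⟩ := exists_preimage_eq_empty (bcDiagram D x) (bcCone D c x)
    (bcIsLimit D c hc x) (i := l₁) hE hempty
  have hmapfst : ∀ p : ↥(pullback (D.map l₂.hom) x),
      (pullback.fst (D.map l₁.hom) x) (((bcDiagram D x).map ψ) p) =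
        (D.map ψ.left) ((pullback.fst (D.map l₂.hom) x) p) :=
    fun p => (Scheme.Hom.comp_apply _ _ p).symm.trans
      ((hom_congr_apply (bcDiagram_map_fst D x ψ) p).trans (Scheme.Hom.comp_apply _ _ p))
  have hrange₂ : ∀ p : ↥(pullback (D.map l₂.hom) x),
      (pullback.fst (D.map l₂.hom) x) p ∈ D.map ψ.left ⁻¹ᵁ V := by
    intro p
    by_contra hp
    have hmem : p ∈ ⇑((bcDiagram D x).map ψ) ⁻¹' E := by
      rw [hEdef]
      show (pullback.fst (D.map l₁.hom) x) (((bcDiagram D x).map ψ) p) ∉ (V : Set _)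
      rw [hmapfst p]
      exact hp
    rw [hψ] at hmem
    exact hmem
  -- D. the factorization through V₂
  have hV₂c : IsCompact ((D.map ψ.left ⁻¹ᵁ V : (D.obj l₂.left).Opens) : Set (D.obj l₂.left)) :=
    QuasiCompact.isCompact_preimage (f := D.map ψ.left) _ V.2 hV
  haveI : CompactSpace ↥((D.map ψ.left ⁻¹ᵁ V : (D.obj l₂.left).Opens) : Scheme.{u}) :=
    isCompact_iff_compactSpace.mp hV₂c
  haveI : QuasiSeparatedSpace ↥((D.map ψ.left ⁻¹ᵁ V : (D.obj l₂.left).Opens) : Scheme.{u}) :=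
    quasiSeparatedSpace_of_quasiSeparated (D.map ψ.left ⁻¹ᵁ V).ι
  have hsubq : Set.range (pullback.fst (D.map l₂.hom) x) ⊆ Set.range (D.map ψ.left ⁻¹ᵁ V).ι := by
    rw [Scheme.Opens.range_ι]
    rintro _ ⟨p, rfl⟩
    exact hrange₂ p
  obtain ⟨q, hq⟩ : ∃ q : pullback (D.map l₂.hom) x ⟶
      ((D.map ψ.left ⁻¹ᵁ V : (D.obj l₂.left).Opens) : Scheme.{u}),
      q ≫ (D.map ψ.left ⁻¹ᵁ V).ι = pullback.fst (D.map l₂.hom) x :=
    ⟨IsOpenImmersion.lift _ _ hsubq, IsOpenImmersion.lift_fac _ _ _⟩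
  haveI : LocallyOfFiniteType (q ≫ (D.map ψ.left ⁻¹ᵁ V).ι) := by rw [hq]; infer_instance
  haveI : LocallyOfFiniteType q := locallyOfFiniteType_of_comp q (D.map ψ.left ⁻¹ᵁ V).ι
  have hU₂ : c.π.app l₂.left ⁻¹ᵁ (D.map ψ.left ⁻¹ᵁ V) = U := by
    rw [← Scheme.Hom.comp_preimage, c.w, hVU]
  have hFU₂ : Set.range F ⊆ Set.range (c.π.app l₂.left ⁻¹ᵁ (D.map ψ.left ⁻¹ᵁ V)).ι := by
    rw [Scheme.Opens.range_ι, hU₂]
    exact hFU
  obtain ⟨r₂, hr₂⟩ : ∃ r₂ : pullback (c.π.app i) x ⟶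
      ((c.π.app l₂.left ⁻¹ᵁ (D.map ψ.left ⁻¹ᵁ V) : c.pt.Opens) : Scheme.{u}),
      r₂ ≫ (c.π.app l₂.left ⁻¹ᵁ (D.map ψ.left ⁻¹ᵁ V)).ι = F :=
    ⟨IsOpenImmersion.lift _ _ hFU₂, IsOpenImmersion.lift_fac _ _ _⟩
  haveI : IsClosedImmersion r₂ := by
    refine ci_lift F _ ?_ r₂ hr₂
    rw [hU₂]
    exact hUU₀
  have s₁ : IsPullback (𝟙 _) r₂ F (c.π.app l₂.left ⁻¹ᵁ (D.map ψ.left ⁻¹ᵁ V)).ι :=
    mono_sq r₂ _ F hr₂
  have s₂ : IsPullback ((bcCone D c x).π.app l₂) F (pullback.fst (D.map l₂.hom) x)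
      (c.π.app l₂.left) := by
    rw [hF]; exact bcCone_isPullback D c x l₂
  have big := s₁.paste_horiz s₂
  have t : IsPullback (𝟙 _) q (pullback.fst (D.map l₂.hom) x) (D.map ψ.left ⁻¹ᵁ V).ι :=
    mono_sq q _ _ hq
  have hbot : (c.π.app l₂.left ⁻¹ᵁ (D.map ψ.left ⁻¹ᵁ V)).ι ≫ c.π.app l₂.left =
      (c.π.app l₂.left ∣_ (D.map ψ.left ⁻¹ᵁ V)) ≫ (D.map ψ.left ⁻¹ᵁ V).ι :=
    (morphismRestrict_ι _ _).symm
  have s : IsPullback ((bcCone D c x).π.app l₂ ≫ 𝟙 _) r₂ (pullback.fst (D.map l₂.hom) x)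
      ((c.π.app l₂.left ∣_ (D.map ψ.left ⁻¹ᵁ V)) ≫ (D.map ψ.left ⁻¹ᵁ V).ι) := by
    rw [← hbot, Category.comp_id]
    rw [Category.id_comp] at big
    exact big
  have hp : (bcCone D c x).π.app l₂ ≫ q = r₂ ≫ (c.π.app l₂.left ∣_ (D.map ψ.left ⁻¹ᵁ V)) := by
    rw [← cancel_mono (D.map ψ.left ⁻¹ᵁ V).ι, Category.assoc, Category.assoc, hq, ← hbot,
      reassoc_of% hr₂]
    exact s₂.w
  have hX := IsPullback.of_right s hp t
  have hY := isPullback_morphismRestrict (c.π.app l₂.left) (D.map ψ.left ⁻¹ᵁ V)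
  obtain ⟨i', φ', Xi', Yi', fi, gi, pY, pX, h1, h2, hfi⟩ :=
    Groth.Agent.S9189.main D c hc l₂.left q (D.map ψ.left ⁻¹ᵁ V).ι r₂
      (c.π.app l₂.left ⁻¹ᵁ (D.map ψ.left ⁻¹ᵁ V)).ι (c.π.app l₂.left ∣_ (D.map ψ.left ⁻¹ᵁ V))
      ((bcCone D c x).π.app l₂) hY hX
  -- final stage
  refine ⟨Over.mk (φ' ≫ l₂.hom), ?_⟩
  obtain ⟨θ, hθ⟩ : ∃ θ : Over.mk (φ' ≫ l₂.hom) ⟶ l₂, θ = Over.homMk φ' rfl := ⟨_, rfl⟩
  have hθl : θ.left = φ' := by rw [hθ]; rfl
  have rsq : IsPullback ((bcDiagram D x).map θ) (pullback.fst (D.map (φ' ≫ l₂.hom)) x)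
      (pullback.fst (D.map l₂.hom) x) (D.map φ') := by
    have sK := (IsPullback.of_hasPullback (D.map (φ' ≫ l₂.hom)) x).flip
    have tL := (IsPullback.of_hasPullback (D.map l₂.hom) x).flip
    have s' : IsPullback ((bcDiagram D x).map θ ≫ pullback.snd (D.map l₂.hom) x)
        (pullback.fst (D.map (φ' ≫ l₂.hom)) x) x (D.map φ' ≫ D.map l₂.hom) := by
      rw [bcDiagram_map_snd, ← D.map_comp]; exact sK
    have hfst := bcDiagram_map_fst D x θ
    rw [hθl] at hfst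
    exact IsPullback.of_right s' hfst tL
  have bigB := h2.paste_horiz t
  have hcomm2 : (pX ≫ 𝟙 _) ≫ pullback.fst (D.map l₂.hom) x = (fi ≫ gi) ≫ D.map φ' := by
    rw [bigB.w, Category.assoc, h1.w]
  have sτ : IsPullback (rsq.lift _ _ hcomm2 ≫ (bcDiagram D x).map θ) fi
      (pullback.fst (D.map l₂.hom) x) (gi ≫ D.map φ') := by
    rw [rsq.lift_fst, ← h1.w]; exact bigB
  have hτ := IsPullback.of_right sτ (rsq.lift_snd _ _ hcomm2) rsq
  haveI hgi : IsOpenImmersion gi :=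
    MorphismProperty.of_isPullback (P := @IsOpenImmersion) h1 inferInstance
  haveI hτo : IsOpenImmersion (rsq.lift _ _ hcomm2) :=
    MorphismProperty.of_isPullback (P := @IsOpenImmersion) hτ.flip hgi
  have hτs : Surjective (rsq.lift _ _ hcomm2) := by
    refine ⟨fun p => ?_⟩
    have hmem : p ∈ Set.range (rsq.lift _ _ hcomm2) := by
      rw [isPullback_range_fst hτ]
      show (pullback.fst (D.map (φ' ≫ l₂.hom)) x) p ∈ Set.range gi
      rw [isPullback_range_fst h1.flip]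
      show (D.map φ') ((pullback.fst (D.map (φ' ≫ l₂.hom)) x) p) ∈
        Set.range (D.map ψ.left ⁻¹ᵁ V).ι
      rw [Scheme.Opens.range_ι]
      have e1 : (D.map φ') ((pullback.fst (D.map (φ' ≫ l₂.hom)) x) p) =
          (pullback.fst (D.map l₂.hom) x) (((bcDiagram D x).map θ) p) :=
        ((Scheme.Hom.comp_apply _ _ p).symm.trans
          ((hom_congr_apply rsq.w p).trans (Scheme.Hom.comp_apply _ _ p))).symm
      rw [e1]
      exact hrange₂ _
    exact hmem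
  haveI : IsIso (rsq.lift _ _ hcomm2) :=
    (isIso_iff_isOpenImmersion_and_surjective _).mpr ⟨hτo, hτs⟩
  have e : pullback.fst (D.map (φ' ≫ l₂.hom)) x = inv (rsq.lift _ _ hcomm2) ≫ fi ≫ gi := by
    rw [IsIso.eq_inv_comp]; exact hτ.w
  show IsImmersion (pullback.fst (D.map (φ' ≫ l₂.hom)) x)
  rw [e]
  infer_instance

set_option backward.defeqAttrib.useBackward true in
set_option backward.isDefEq.respectTransparency false in
open AlgebraicGeometry CategoryTheory Limits Groth.Agent.Helper9.Lim8 in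
theorem main {I : Type u} [SmallCategory I] [IsCofiltered I]
    (D : I ⥤ Scheme.{u}) (c : Limits.Cone D) (hc : Limits.IsLimit c)
    [hD : ∀ (i j : I) (f : i ⟶ j), IsAffineHom (D.map f)] (i₀ : I) [CompactSpace (D.obj i₀)]
    [QuasiSeparatedSpace (D.obj i₀)] {X₀ Y₀ : Scheme.{u}} (f₀ : X₀ ⟶ Y₀) (g₀ : Y₀ ⟶ D.obj i₀)
    [CompactSpace X₀] [QuasiSeparatedSpace X₀] [CompactSpace Y₀] [QuasiSeparatedSpace Y₀]
    [LocallyOfFiniteType f₀]
    {X Y : Scheme.{u}} (f : X ⟶ Y) (g : Y ⟶ c.pt) (qY : Y ⟶ Y₀) (qX : X ⟶ X₀)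
    (hY : IsPullback qY g g₀ (c.π.app i₀)) (hX : IsPullback qX f f₀ qY)
    [IsImmersion f] :
    ∃ (i : I) (φ : i ⟶ i₀) (Xi Yi : Scheme.{u}) (fi : Xi ⟶ Yi) (gi : Yi ⟶ D.obj i) (pY : Yi ⟶ Y₀)
      (pX : Xi ⟶ X₀), IsPullback pY gi g₀ (D.map φ) ∧ IsPullback pX fi f₀ pY ∧
        IsImmersion fi := by
  haveI hD' : ∀ {i j : I} (a : i ⟶ j), IsAffineHom (D.map a) := fun a => hD _ _ a
  haveI hYc' : ∀ m : Over i₀, CompactSpace ↥(pullback (D.map m.hom) g₀) := fun m => by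
    infer_instance
  haveI hYq' : ∀ m : Over i₀, QuasiSeparatedSpace ↥(pullback (D.map m.hom) g₀) := fun m =>
    quasiSeparatedSpace_of_quasiSeparated (pullback.snd (D.map m.hom) g₀)
  haveI hYc : ∀ m : Over i₀, CompactSpace ((bcDiagram D g₀).obj m) := fun m => hYc' m
  haveI hYq : ∀ m : Over i₀, QuasiSeparatedSpace ((bcDiagram D g₀).obj m) := fun m => hYq' m
  haveI hf₀qc : QuasiCompact f₀ := by infer_instance
  haveI hf₀qs : QuasiSeparated f₀ := by infer_instance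
  haveI hXc : ∀ m : Over i₀, CompactSpace ↥(pullback (pullback.snd (D.map m.hom) g₀) f₀) :=
    fun m => QuasiCompact.compactSpace_of_compactSpace
      (pullback.fst (pullback.snd (D.map m.hom) g₀) f₀)
  haveI hXq : ∀ m : Over i₀,
      QuasiSeparatedSpace ↥(pullback (pullback.snd (D.map m.hom) g₀) f₀) :=
    fun m => quasiSeparatedSpace_of_quasiSeparated
      (pullback.fst (pullback.snd (D.map m.hom) g₀) f₀)
  obtain ⟨m₀⟩ : Nonempty (Over i₀) := ⟨Over.mk (𝟙 i₀)⟩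
  haveI : IsImmersion (pullback.fst ((bcCone D c g₀).π.app m₀)
      (pullback.fst (pullback.snd (D.map m₀.hom) g₀) f₀)) :=
    Groth.Agent.S9189.bc_transfer @IsImmersion f₀ f qX qY hX inferInstance
      (pullback.snd (D.map m₀.hom) g₀) ((bcCone D c g₀).π.app m₀) hY.flip.isoPullback.inv
      (by rw [IsPullback.isoPullback_inv_snd, bcCone_π_snd])
  obtain ⟨k, hk⟩ := core_imm (bcDiagram D g₀) (bcCone D c g₀) (bcIsLimit D c hc g₀) m₀
    (pullback.fst (pullback.snd (D.map m₀.hom) g₀) f₀)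
  refine ⟨k.left.left, k.left.hom,
    pullback ((bcDiagram D g₀).map k.hom) (pullback.fst (pullback.snd (D.map m₀.hom) g₀) f₀),
    pullback (D.map k.left.hom) g₀,
    pullback.fst ((bcDiagram D g₀).map k.hom) (pullback.fst (pullback.snd (D.map m₀.hom) g₀) f₀),
    pullback.fst (D.map k.left.hom) g₀, pullback.snd (D.map k.left.hom) g₀,
    pullback.snd ((bcDiagram D g₀).map k.hom)
        (pullback.fst (pullback.snd (D.map m₀.hom) g₀) f₀) ≫
      pullback.snd (pullback.snd (D.map m₀.hom) g₀) f₀,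
    (IsPullback.of_hasPullback (D.map k.left.hom) g₀).flip, ?_, hk⟩
  have left := (IsPullback.of_hasPullback ((bcDiagram D g₀).map k.hom)
    (pullback.fst (pullback.snd (D.map m₀.hom) g₀) f₀)).flip
  have right := (IsPullback.of_hasPullback (pullback.snd (D.map m₀.hom) g₀) f₀).flip
  have big := left.paste_horiz right
  rw [bcDiagram_map_snd] at big
  exact big


/-- Let S = lim S_i be a cofiltered limit of schemes with affine transition morphisms, S_{i₀} a
quasi-compact quasi-separated stage, f₀ : X₀ → Y₀ a morphism of quasi-compact quasi-separated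
schemes over S_{i₀}, and f : X → Y its base change along S → S_{i₀} (base changes expressed by
pullback squares). If f₀ is locally of finite type and f is an immersion, then for some index i over
i₀ the base change f_i : X_i → Y_i of f₀ along S_i → S_{i₀} is an immersion. -/
theorem result {I : Type u} [SmallCategory I] [IsCofiltered I]
    (D : I ⥤ Scheme.{u}) (c : Limits.Cone D) (hc : Limits.IsLimit c)
    [∀ (i j : I) (f : i ⟶ j), IsAffineHom (D.map f)] (i₀ : I) [CompactSpace (D.obj i₀)]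
    [QuasiSeparatedSpace (D.obj i₀)] {X₀ Y₀ : Scheme.{u}} (f₀ : X₀ ⟶ Y₀) (g₀ : Y₀ ⟶ D.obj i₀)
    [CompactSpace X₀] [QuasiSeparatedSpace X₀] [CompactSpace Y₀] [QuasiSeparatedSpace Y₀]
    [LocallyOfFiniteType f₀]
    {X Y : Scheme.{u}} (f : X ⟶ Y) (g : Y ⟶ c.pt) (qY : Y ⟶ Y₀) (qX : X ⟶ X₀)
    (hY : IsPullback qY g g₀ (c.π.app i₀)) (hX : IsPullback qX f f₀ qY) [IsImmersion f] :
    ∃ (i : I) (φ : i ⟶ i₀) (Xi Yi : Scheme.{u}) (fi : Xi ⟶ Yi) (gi : Yi ⟶ D.obj i) (pY : Yi ⟶ Y₀)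
      (pX : Xi ⟶ X₀), IsPullback pY gi g₀ (D.map φ) ∧ IsPullback pX fi f₀ pY ∧ IsImmersion fi := by
  exact main D c hc i₀ f₀ g₀ f g qY qX hY hX

end Groth.Agent.S9193
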