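import Groth.Statements.S2590
import Mathlib
import Groth.Agent.S12442
import Groth.Agent.Lib.Helper9.Lim8

set_option autoImplicit false
universe u
open CategoryTheory AlgebraicGeometry
open EGA43

namespace Groth.Agent.S2590

set_option backward.defeqAttrib.useBackward true in
set_option backward.isDefEq.respectTransparency false in
open AlgebraicGeometry CategoryTheory Limits Groth.Agent.Helper9.Lim8 in
theorem core {I : Type u} [SmallCategory I] [IsCofiltered I]
    (D : I ⥤ Scheme.{u}) (c : Limits.Cone D) (hc : Limits.IsLimit c)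
    [hD : ∀ (i j : I) (f : i ⟶ j), IsAffineHom (D.map f)] (i₀ : I) [CompactSpace (D.obj i₀)]
    [QuasiSeparatedSpace (D.obj i₀)] {P₀ : Scheme.{u}} (g₀ : P₀ ⟶ D.obj i₀)
    [CompactSpace P₀] (R : Set P₀) (hR : Topology.IsConstructible R)
    (hlim : ∀ z : ↥(pullback (c.π.app i₀) g₀), (pullback.snd (c.π.app i₀) g₀) z ∈ R) :
    ∃ j : Over i₀, ∀ w : ↥(pullback (D.map j.hom) g₀),
      (pullback.snd (D.map j.hom) g₀) w ∈ R := by
  haveI hD' : ∀ {i j : I} (a : i ⟶ j), IsAffineHom (D.map a) := fun a => hD _ _ a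
  have hE : Topology.IsConstructible (Rᶜ : Set P₀) := hR.compl
  have hE₀ : Topology.IsConstructible
      (⇑(pullback.snd (D.map (Over.mk (𝟙 i₀)).hom) g₀) ⁻¹' Rᶜ) :=
    (pullback.snd (D.map (Over.mk (𝟙 i₀)).hom) g₀).isConstructible_preimage hE
  haveI : CompactSpace ((bcDiagram D g₀).obj (Over.mk (𝟙 i₀))) := by
    show CompactSpace ↥(pullback (D.map (𝟙 i₀)) g₀)
    infer_instance
  have hempty : ⇑((bcCone D c g₀).π.app (Over.mk (𝟙 i₀))) ⁻¹'
      (⇑(pullback.snd (D.map (Over.mk (𝟙 i₀)).hom) g₀) ⁻¹' Rᶜ) = ∅ := by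
    rw [Set.eq_empty_iff_forall_notMem]
    intro z hz
    apply hz
    have e1 := bcCone_π_snd D c g₀ (Over.mk (𝟙 i₀))
    have e2 : (pullback.snd (D.map (Over.mk (𝟙 i₀)).hom) g₀)
        ((bcCone D c g₀).π.app (Over.mk (𝟙 i₀)) z) = (pullback.snd (c.π.app i₀) g₀) z :=
      (Scheme.Hom.comp_apply ((bcCone D c g₀).π.app (Over.mk (𝟙 i₀)))
        (pullback.snd (D.map (Over.mk (𝟙 i₀)).hom) g₀) z).symm.trans
        (congrArg (fun ψ : (bcCone D c g₀).pt ⟶ P₀ => ψ z) e1)
    show (pullback.snd (D.map (Over.mk (𝟙 i₀)).hom) g₀)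
        ((bcCone D c g₀).π.app (Over.mk (𝟙 i₀)) z) ∈ R
    rw [e2]
    exact hlim z
  obtain ⟨j, φ, hj⟩ := exists_preimage_eq_empty (bcDiagram D g₀) (bcCone D c g₀)
    (bcIsLimit D c hc g₀) hE₀ hempty
  refine ⟨j, ?_⟩
  intro w
  by_contra hw
  have hmem : w ∈ ⇑((bcDiagram D g₀).map φ) ⁻¹'
      (⇑(pullback.snd (D.map (Over.mk (𝟙 i₀)).hom) g₀) ⁻¹' Rᶜ) := by
    show (pullback.snd (D.map (Over.mk (𝟙 i₀)).hom) g₀) (((bcDiagram D g₀).map φ) w) ∈ Rᶜ
    have e3 : (pullback.snd (D.map (Over.mk (𝟙 i₀)).hom) g₀) (((bcDiagram D g₀).map φ) w) =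
        (pullback.snd (D.map j.hom) g₀) w :=
      (Scheme.Hom.comp_apply ((bcDiagram D g₀).map φ)
        (pullback.snd (D.map (Over.mk (𝟙 i₀)).hom) g₀) w).symm.trans
        (congrArg (fun ψ : (bcDiagram D g₀).obj j ⟶ P₀ => ψ w) (bcDiagram_map_snd D g₀ φ))
    rw [e3]
    exact hw
  rw [hj] at hmem
  exact hmem

open AlgebraicGeometry CategoryTheory Limits in
theorem stage {X₀ Y₀ Xj Yj : Scheme.{u}} (f₀ : X₀ ⟶ Y₀) (fj : Xj ⟶ Yj) (pX : Xj ⟶ X₀)
    (pY : Yj ⟶ Y₀) (h : IsPullback pX fj f₀ pY) (m : pullback fj fj ⟶ pullback f₀ f₀)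
    (hm1 : m ≫ pullback.fst f₀ f₀ = pullback.fst fj fj ≫ pX)
    (hm2 : m ≫ pullback.snd f₀ f₀ = pullback.snd fj fj ≫ pX)
    (hm : ∀ w : ↥(pullback fj fj), m w ∈ Set.range (pullback.diagonal f₀)) :
    Surjective (pullback.diagonal fj) := by
  refine ⟨fun w => ?_⟩
  obtain ⟨x₀, hx₀⟩ := hm w
  obtain ⟨v, hv1, hv2⟩ := Scheme.Pullback.exists_preimage_pullback
    (f := pullback.diagonal f₀) (g := m) x₀ w hx₀
  have hA : pullback.fst (pullback.diagonal f₀) m =
      pullback.snd (pullback.diagonal f₀) m ≫ pullback.fst fj fj ≫ pX := by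
    rw [← hm1, ← Category.assoc, ← pullback.condition, Category.assoc, pullback.diagonal_fst,
      Category.comp_id]
  have hB : pullback.fst (pullback.diagonal f₀) m =
      pullback.snd (pullback.diagonal f₀) m ≫ pullback.snd fj fj ≫ pX := by
    rw [← hm2, ← Category.assoc, ← pullback.condition, Category.assoc, pullback.diagonal_snd,
      Category.comp_id]
  obtain ⟨r, hr1, hr2⟩ : ∃ r : pullback (pullback.diagonal f₀) m ⟶ Xj,
      r ≫ pX = pullback.fst (pullback.diagonal f₀) m ∧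
      r ≫ fj = pullback.snd (pullback.diagonal f₀) m ≫ pullback.fst fj fj ≫ fj :=
    ⟨h.lift (pullback.fst (pullback.diagonal f₀) m)
      (pullback.snd (pullback.diagonal f₀) m ≫ pullback.fst fj fj ≫ fj)
      (by
        conv_lhs => rw [hA]
        simp only [Category.assoc, h.w]), h.lift_fst _ _ _, h.lift_snd _ _ _⟩
  have key : r ≫ pullback.diagonal fj = pullback.snd (pullback.diagonal f₀) m := by
    apply pullback.hom_ext
    · rw [Category.assoc, pullback.diagonal_fst, Category.comp_id]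
      apply h.hom_ext
      · rw [hr1, Category.assoc]
        exact hA
      · rw [hr2, Category.assoc]
    · rw [Category.assoc, pullback.diagonal_snd, Category.comp_id]
      apply h.hom_ext
      · rw [hr1, Category.assoc]
        exact hB
      · rw [hr2, Category.assoc, pullback.condition]
  refine ⟨r v, ?_⟩
  rw [← Scheme.Hom.comp_apply, key, hv2]

open AlgebraicGeometry CategoryTheory Limits in
theorem stage2 {X₀ Y₀ S₀ Sj Xj Yj : Scheme.{u}} (f₀ : X₀ ⟶ Y₀) (g₀ : Y₀ ⟶ S₀) (a : Sj ⟶ S₀)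
    (G : pullback f₀ f₀ ⟶ S₀) (hG : G = pullback.fst f₀ f₀ ≫ f₀ ≫ g₀)
    (fj : Xj ⟶ Yj) (gj : Yj ⟶ Sj) (pX : Xj ⟶ X₀) (pY : Yj ⟶ Y₀)
    (h : IsPullback pX fj f₀ pY) (h' : pY ≫ g₀ = gj ≫ a)
    (hj : ∀ w : ↥(pullback a G), (pullback.snd a G) w ∈ Set.range (pullback.diagonal f₀)) :
    Surjective (pullback.diagonal fj) := by
  obtain ⟨m, hm1, hm2⟩ : ∃ m : pullback fj fj ⟶ pullback f₀ f₀,
      m ≫ pullback.fst f₀ f₀ = pullback.fst fj fj ≫ pX ∧
      m ≫ pullback.snd f₀ f₀ = pullback.snd fj fj ≫ pX :=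
    ⟨pullback.lift (pullback.fst fj fj ≫ pX) (pullback.snd fj fj ≫ pX) (by
        simp only [Category.assoc, h.w]
        exact pullback.condition_assoc _), pullback.lift_fst _ _ _, pullback.lift_snd _ _ _⟩
  obtain ⟨n, hn1, hn2⟩ : ∃ n : pullback fj fj ⟶ pullback a G,
      n ≫ pullback.fst a G = pullback.fst fj fj ≫ fj ≫ gj ∧ n ≫ pullback.snd a G = m :=
    ⟨pullback.lift (pullback.fst fj fj ≫ fj ≫ gj) m (by
        rw [hG, ← Category.assoc m, hm1]
        simp only [Category.assoc]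
        rw [← h', h.w_assoc]), pullback.lift_fst _ _ _, pullback.lift_snd _ _ _⟩
  refine stage f₀ fj pX pY h m hm1 hm2 ?_
  intro w
  have := hj (n w)
  rwa [← Scheme.Hom.comp_apply, hn2] at this

set_option backward.defeqAttrib.useBackward true in
set_option backward.isDefEq.respectTransparency false in
open AlgebraicGeometry CategoryTheory Limits in
theorem main {I : Type u} [SmallCategory I] [IsCofiltered I]
    (D : I ⥤ Scheme.{u}) (c : Limits.Cone D) (hc : Limits.IsLimit c)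
    [hD : ∀ (i j : I) (f : i ⟶ j), IsAffineHom (D.map f)] (i₀ : I) [CompactSpace (D.obj i₀)]
    [QuasiSeparatedSpace (D.obj i₀)] {X₀ Y₀ : Scheme.{u}} (f₀ : X₀ ⟶ Y₀) (g₀ : Y₀ ⟶ D.obj i₀)
    [CompactSpace X₀] [QuasiSeparatedSpace X₀] [CompactSpace Y₀] [QuasiSeparatedSpace Y₀]
    [LocallyOfFinitePresentation f₀] [QuasiCompact f₀] [QuasiSeparated f₀]
    {X Y : Scheme.{u}} (f : X ⟶ Y) (g : Y ⟶ c.pt) (qY : Y ⟶ Y₀) (qX : X ⟶ X₀)
    (hY : IsPullback qY g g₀ (c.π.app i₀)) (hX : IsPullback qX f f₀ qY)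
    [UniversallyInjective f] :
    ∃ (i : I) (φ : i ⟶ i₀) (Xi Yi : Scheme.{u}) (fi : Xi ⟶ Yi) (gi : Yi ⟶ D.obj i) (pY : Yi ⟶ Y₀)
      (pX : Xi ⟶ X₀), IsPullback pY gi g₀ (D.map φ) ∧ IsPullback pX fi f₀ pY ∧
        UniversallyInjective fi := by
  haveI : CompactSpace ↥(pullback f₀ f₀) :=
    QuasiCompact.compactSpace_of_compactSpace (pullback.fst f₀ f₀)
  haveI : QuasiSeparatedSpace ↥(pullback f₀ f₀) :=
    quasiSeparatedSpace_of_quasiSeparated (pullback.fst f₀ f₀)
  haveI : LocallyOfFinitePresentation (pullback.diagonal f₀ ≫ pullback.fst f₀ f₀) := by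
    rw [pullback.diagonal_fst]; infer_instance
  haveI : LocallyOfFinitePresentation (pullback.diagonal f₀) :=
    Groth.Agent.S12442.result (pullback.diagonal f₀) (pullback.fst f₀ f₀)
  have hR : Topology.IsConstructible (Set.range (pullback.diagonal f₀)) := by
    have := (pullback.diagonal f₀).isConstructible_image
      (Topology.IsConstructible.univ (X := X₀))
    rwa [Set.image_univ] at this
  have hΔ : Surjective (pullback.diagonal f) :=
    (UniversallyInjective.iff_diagonal f).mp inferInstance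
  obtain ⟨G, hG⟩ : ∃ G : pullback f₀ f₀ ⟶ D.obj i₀, G = pullback.fst f₀ f₀ ≫ f₀ ≫ g₀ :=
    ⟨_, rfl⟩
  have hlim : ∀ z : ↥(pullback (c.π.app i₀) G),
      (pullback.snd (c.π.app i₀) G) z ∈ Set.range (pullback.diagonal f₀) := by
    have hcond : pullback.fst (c.π.app i₀) G ≫ c.π.app i₀ = pullback.snd (c.π.app i₀) G ≫ G :=
      pullback.condition
    obtain ⟨ty, hty1, hty2⟩ : ∃ ty : pullback (c.π.app i₀) G ⟶ Y,
        ty ≫ qY = pullback.snd (c.π.app i₀) G ≫ pullback.fst f₀ f₀ ≫ f₀ ∧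
        ty ≫ g = pullback.fst (c.π.app i₀) G :=
      ⟨hY.lift (pullback.snd (c.π.app i₀) G ≫ pullback.fst f₀ f₀ ≫ f₀)
        (pullback.fst (c.π.app i₀) G) (by
          rw [hcond, hG]; simp only [Category.assoc]), hY.lift_fst _ _ _, hY.lift_snd _ _ _⟩
    obtain ⟨tx1, h11, h12⟩ : ∃ t : pullback (c.π.app i₀) G ⟶ X,
        t ≫ qX = pullback.snd (c.π.app i₀) G ≫ pullback.fst f₀ f₀ ∧ t ≫ f = ty :=
      ⟨hX.lift (pullback.snd (c.π.app i₀) G ≫ pullback.fst f₀ f₀) ty (by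
          rw [hty1]; simp only [Category.assoc]), hX.lift_fst _ _ _, hX.lift_snd _ _ _⟩
    obtain ⟨tx2, h21, h22⟩ : ∃ t : pullback (c.π.app i₀) G ⟶ X,
        t ≫ qX = pullback.snd (c.π.app i₀) G ≫ pullback.snd f₀ f₀ ∧ t ≫ f = ty :=
      ⟨hX.lift (pullback.snd (c.π.app i₀) G ≫ pullback.snd f₀ f₀) ty (by
          rw [hty1, Category.assoc, pullback.condition]), hX.lift_fst _ _ _, hX.lift_snd _ _ _⟩
    obtain ⟨txx, hxx1, hxx2⟩ : ∃ t : pullback (c.π.app i₀) G ⟶ pullback f f,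
        t ≫ pullback.fst f f = tx1 ∧ t ≫ pullback.snd f f = tx2 :=
      ⟨pullback.lift tx1 tx2 (by rw [h12, h22]), pullback.lift_fst _ _ _, pullback.lift_snd _ _ _⟩
    obtain ⟨m, hm1, hm2⟩ : ∃ m : pullback f f ⟶ pullback f₀ f₀,
        m ≫ pullback.fst f₀ f₀ = pullback.fst f f ≫ qX ∧
        m ≫ pullback.snd f₀ f₀ = pullback.snd f f ≫ qX :=
      ⟨pullback.lift (pullback.fst f f ≫ qX) (pullback.snd f f ≫ qX) (by
          simp only [Category.assoc, hX.w]
          exact pullback.condition_assoc _), pullback.lift_fst _ _ _, pullback.lift_snd _ _ _⟩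
    have e1 : pullback.diagonal f ≫ m = qX ≫ pullback.diagonal f₀ := by
      apply pullback.hom_ext
      · rw [Category.assoc, hm1, ← Category.assoc, pullback.diagonal_fst, Category.id_comp,
          Category.assoc, pullback.diagonal_fst, Category.comp_id]
      · rw [Category.assoc, hm2, ← Category.assoc, pullback.diagonal_snd, Category.id_comp,
          Category.assoc, pullback.diagonal_snd, Category.comp_id]
    have e2 : txx ≫ m = pullback.snd (c.π.app i₀) G := by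
      apply pullback.hom_ext
      · rw [Category.assoc, hm1, ← Category.assoc, hxx1, h11]
      · rw [Category.assoc, hm2, ← Category.assoc, hxx2, h21]
    intro z
    obtain ⟨x, hx⟩ := hΔ.surj (txx z)
    refine ⟨qX x, ?_⟩
    rw [← Scheme.Hom.comp_apply, ← e1, Scheme.Hom.comp_apply, hx, ← Scheme.Hom.comp_apply, e2]
  obtain ⟨j, hj⟩ := core D c hc i₀ G _ hR hlim
  refine ⟨j.left, j.hom, pullback f₀ (pullback.fst g₀ (D.map j.hom)), pullback g₀ (D.map j.hom),
    pullback.snd _ _, pullback.snd _ _, pullback.fst _ _, pullback.fst _ _,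
    IsPullback.of_hasPullback _ _, IsPullback.of_hasPullback _ _, ?_⟩
  refine (UniversallyInjective.iff_diagonal _).mpr ?_
  exact stage2 f₀ g₀ (D.map j.hom) G hG (pullback.snd _ _) (pullback.snd _ _) (pullback.fst _ _)
    (pullback.fst _ _) (IsPullback.of_hasPullback _ _) pullback.condition hj

/-- Let S = lim S_i be a cofiltered limit of schemes with affine transition morphisms, S_{i₀} a
quasi-compact quasi-separated stage (the source needs S_{i₀} only quasi-compact; quasi-separatedness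
is assumed here), f₀ : X₀ ⟶ Y₀ an S_{i₀}-morphism between schemes of finite presentation over
S_{i₀}, and f : X ⟶ Y its base change to S (base changes expressed by pullback squares). If f is
universally injective (radiciel), then the base change f_i : X_i ⟶ Y_i of f₀ to some stage S_i is
universally injective (radiciel). -/
theorem result {I : Type u} [SmallCategory I] [IsCofiltered I]
    (D : I ⥤ Scheme.{u}) (c : Limits.Cone D) (hc : Limits.IsLimit c)
    [∀ (i j : I) (f : i ⟶ j), IsAffineHom (D.map f)] (i₀ : I) [CompactSpace (D.obj i₀)]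
    [QuasiSeparatedSpace (D.obj i₀)] {X₀ Y₀ : Scheme.{u}} (f₀ : X₀ ⟶ Y₀) (g₀ : Y₀ ⟶ D.obj i₀)
    [LocallyOfFinitePresentation g₀] [QuasiCompact g₀] [QuasiSeparated g₀]
    [LocallyOfFinitePresentation (f₀ ≫ g₀)] [QuasiCompact (f₀ ≫ g₀)] [QuasiSeparated (f₀ ≫ g₀)]
    {X Y : Scheme.{u}} (f : X ⟶ Y) (g : Y ⟶ c.pt) (qY : Y ⟶ Y₀) (qX : X ⟶ X₀)
    (hY : IsPullback qY g g₀ (c.π.app i₀)) (hX : IsPullback qX f f₀ qY) [UniversallyInjective f] :
    ∃ (i : I) (φ : i ⟶ i₀) (Xi Yi : Scheme.{u}) (fi : Xi ⟶ Yi) (gi : Yi ⟶ D.obj i) (pY : Yi ⟶ Y₀)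
      (pX : Xi ⟶ X₀), IsPullback pY gi g₀ (D.map φ) ∧ IsPullback pX fi f₀ pY ∧ UniversallyInjective fi := by
  haveI : CompactSpace Y₀ := QuasiCompact.compactSpace_of_compactSpace g₀
  haveI : QuasiSeparatedSpace Y₀ := quasiSeparatedSpace_of_quasiSeparated g₀
  haveI : CompactSpace X₀ := QuasiCompact.compactSpace_of_compactSpace (f₀ ≫ g₀)
  haveI : QuasiSeparatedSpace X₀ := quasiSeparatedSpace_of_quasiSeparated (f₀ ≫ g₀)
  haveI : LocallyOfFinitePresentation f₀ := Groth.Agent.S12442.result f₀ g₀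
  haveI : QuasiCompact f₀ := QuasiCompact.of_comp f₀ g₀
  haveI : QuasiSeparated f₀ := QuasiSeparated.of_comp f₀ g₀
  exact main D c hc i₀ f₀ g₀ f g qY qX hY hX

end Groth.Agent.S2590
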