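import Groth.Statements.S2592
import Mathlib
import Groth.Agent.S2338
import Groth.Agent.S2340
import Groth.Agent.Lib.Helper17.QAff

set_option autoImplicit false
universe u
open CategoryTheory AlgebraicGeometry
open EGA43

namespace Groth.Agent.S2592

open AlgebraicGeometry CategoryTheory Limits in
theorem qa_image {X : Scheme.{u}} (U : X.Opens) (P : U.toScheme.Opens)
    (h : Scheme.IsQuasiAffine (P : Scheme.{u})) :
    Scheme.IsQuasiAffine ((U.ι ''ᵁ P : X.Opens) : Scheme.{u}) := by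
  haveI := h
  exact Scheme.IsQuasiAffine.of_isAffineHom (U.ι.isoImage P).inv

open AlgebraicGeometry CategoryTheory Limits in
theorem qa_of_image {X : Scheme.{u}} (U : X.Opens) (P : U.toScheme.Opens)
    (h : Scheme.IsQuasiAffine ((U.ι ''ᵁ P : X.Opens) : Scheme.{u})) :
    Scheme.IsQuasiAffine (P : Scheme.{u}) := by
  haveI := h
  exact Scheme.IsQuasiAffine.of_isAffineHom (U.ι.isoImage P).hom

open AlgebraicGeometry CategoryTheory Limits in
theorem qa_of_eq {X : Scheme.{u}} {U U' : X.Opens} (e : U = U')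
    (h : Scheme.IsQuasiAffine (U : Scheme.{u})) : Scheme.IsQuasiAffine (U' : Scheme.{u}) :=
  e ▸ h

open AlgebraicGeometry CategoryTheory Limits in
theorem aff_qa {A B : Scheme.{u}} (g : A ⟶ B) [IsAffineHom g] : Mor2.IsQuasiAffine g := by
  refine ⟨inferInstance, fun V hV => ?_⟩
  haveI : IsAffine ((g ⁻¹ᵁ V : A.Opens) : Scheme.{u}) := hV.preimage g
  infer_instance

open AlgebraicGeometry CategoryTheory Limits in
theorem core {X S : Scheme.{u}} (f : X ⟶ S) (W V' : S.Opens) (hW : IsAffineOpen W)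
    (hV' : IsAffineOpen V') (hle : V' ≤ W)
    (h : Scheme.IsQuasiAffine ((f ⁻¹ᵁ W : X.Opens) : Scheme.{u})) :
    Scheme.IsQuasiAffine ((f ⁻¹ᵁ V' : X.Opens) : Scheme.{u}) := by
  haveI := h
  haveI : IsAffine (W : Scheme.{u}) := hW
  have hV'' : IsAffineOpen (W.ι ⁻¹ᵁ V') :=
    hV'.preimage_of_isOpenImmersion W.ι (by simpa using hle)
  haveI : IsAffine ((W.ι ⁻¹ᵁ V' : W.toScheme.Opens) : Scheme.{u}) := hV''
  haveI h0 : IsAffineHom (W.ι ⁻¹ᵁ V').ι := inferInstance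
  have hpb := isPullback_morphismRestrict (f ∣_ W) (W.ι ⁻¹ᵁ V')
  haveI : IsAffineHom ((f ∣_ W) ⁻¹ᵁ (W.ι ⁻¹ᵁ V')).ι :=
    MorphismProperty.of_isPullback (P := @IsAffineHom) hpb h0
  have h1 : Scheme.IsQuasiAffine
      (((f ∣_ W) ⁻¹ᵁ (W.ι ⁻¹ᵁ V') : (f ⁻¹ᵁ W).toScheme.Opens) : Scheme.{u}) :=
    Scheme.IsQuasiAffine.of_isAffineHom ((f ∣_ W) ⁻¹ᵁ (W.ι ⁻¹ᵁ V')).ι
  have h2 := qa_image (f ⁻¹ᵁ W) _ h1
  refine qa_of_eq ?_ h2
  rw [image_morphismRestrict_preimage, Scheme.Hom.image_preimage_eq_opensRange_inf,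
    Scheme.Opens.opensRange_ι, inf_eq_right.mpr hle]

set_option backward.defeqAttrib.useBackward true in
set_option backward.isDefEq.respectTransparency false in
open AlgebraicGeometry CategoryTheory Limits in
theorem qalim {I : Type u} [SmallCategory I] [IsCofiltered I] (S : Scheme.{u}) [CompactSpace S]
    [QuasiSeparatedSpace S]
    (D : I ⥤ Scheme.{u}) (t : ∀ i, D.obj i ⟶ S)
    (hnat : ∀ {i j : I} (a : i ⟶ j), D.map a ≫ t j = t i) (c : Limits.Cone D)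
    (hc : Limits.IsLimit c)
    [hD : ∀ (i j : I) (a : i ⟶ j), IsAffineHom (D.map a)]
    [∀ i, CompactSpace (D.obj i)] [∀ i, QuasiSeparatedSpace (D.obj i)] (i₀ : I)
    (hX : Mor2.IsQuasiAffine (c.π.app i₀ ≫ t i₀)) :
    ∃ i₁ : I, ∀ (i : I) (_ : i ⟶ i₁), Mor2.IsQuasiAffine (t i) := by
  classical
  haveI hD' : ∀ {i j : I} (a : i ⟶ j), IsAffineHom (D.map a) := fun a => hD _ _ a
  have step : ∀ W : S.Opens, IsAffineOpen W →
      ∃ (j : I), Scheme.IsQuasiAffine ((t j ⁻¹ᵁ W : (D.obj j).Opens) : Scheme.{u}) := by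
    intro W hW
    have hUc : IsCompact ((t i₀ ⁻¹ᵁ W : (D.obj i₀).Opens) : Set (D.obj i₀)) :=
      (t i₀).isCompact_preimage hW.isCompact
    have (j : Over i₀) : CompactSpace ((opensDiagram D i₀ (t i₀ ⁻¹ᵁ W)).obj j) :=
      isCompact_iff_compactSpace.mp
        (QuasiCompact.isCompact_preimage _ (t i₀ ⁻¹ᵁ W).2 hUc)
    have (j : Over i₀) : QuasiSeparatedSpace ((opensDiagram D i₀ (t i₀ ⁻¹ᵁ W)).obj j) :=
      (isQuasiSeparated_iff_quasiSeparatedSpace _ (D.map _ ⁻¹ᵁ _).2).mp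
        (.of_quasiSeparatedSpace _)
    haveI : Scheme.IsQuasiAffine (opensCone D c i₀ (t i₀ ⁻¹ᵁ W)).pt := by
      show Scheme.IsQuasiAffine ((c.π.app i₀ ⁻¹ᵁ (t i₀ ⁻¹ᵁ W) : c.pt.Opens) : Scheme.{u})
      exact qa_of_eq (Scheme.Hom.comp_preimage _ _ _) (hX.2 W hW)
    obtain ⟨j, hj⟩ := Scheme.exists_isQuasiAffine_of_isLimit _ _
      (isLimitOpensCone D c hc i₀ (t i₀ ⁻¹ᵁ W))
    refine ⟨j.left, ?_⟩
    have e : D.map j.hom ⁻¹ᵁ (t i₀ ⁻¹ᵁ W) = t j.left ⁻¹ᵁ W := by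
      rw [← Scheme.Hom.comp_preimage, hnat]
    exact qa_of_eq e hj
  have hcov : ∀ x : S, ∃ W : S.Opens, x ∈ W ∧ IsAffineOpen W := by
    intro x
    obtain ⟨_, ⟨W, hW, rfl⟩, hxW, -⟩ := S.isBasis_affineOpens.exists_subset_of_mem_open
      (Set.mem_univ x) isOpen_univ
    exact ⟨W, hxW, hW⟩
  choose W hxW hW using hcov
  choose j hj using fun x => step (W x) (hW x)
  obtain ⟨σ, hσ⟩ := CompactSpace.elim_nhds_subcover (fun x => ((W x : S.Opens) : Set S))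
    (fun x => (W x).2.mem_nhds (hxW x))
  obtain ⟨i₁, hi₁⟩ := IsCofiltered.inf_objs_exists (σ.image j)
  refine ⟨i₁, fun i a => ⟨inferInstance, fun V hV => ?_⟩⟩
  haveI : IsAffine (V : Scheme.{u}) := hV
  have hq := Groth.Agent.Helper17.QAff.main (t i ∣_ V)
    (ι := {P : V.toScheme.Opens // IsAffineOpen P ∧ ∃ x ∈ σ, V.ι ''ᵁ P ≤ W x})
    (fun P => P.1) ?_ (fun P => P.2.1) (fun P => ?_)
  · exact hq
  · apply top_le_iff.mp
    intro v _
    have hy : V.ι v ∈ ⋃ x ∈ σ, ((W x : S.Opens) : Set S) := by rw [hσ]; trivial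
    obtain ⟨x, hxσ, hvx⟩ := Set.mem_iUnion₂.mp hy
    obtain ⟨_, ⟨P, hP, rfl⟩, hvP, hPle⟩ :=
      V.toScheme.isBasis_affineOpens.exists_subset_of_mem_open
        (show v ∈ ((V.ι ⁻¹ᵁ W x : V.toScheme.Opens) : Set V.toScheme) from hvx)
        (V.ι ⁻¹ᵁ W x).2
    refine TopologicalSpace.Opens.mem_iSup.mpr ⟨⟨P, hP, x, hxσ, ?_⟩, hvP⟩
    rintro _ ⟨p, hp, rfl⟩
    exact hPle hp
  · obtain ⟨x, hxσ, hPx⟩ := P.2.2
    obtain ⟨b⟩ := hi₁ (Finset.mem_image_of_mem j hxσ)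
    have hQ : Scheme.IsQuasiAffine ((t i ⁻¹ᵁ W x : (D.obj i).Opens) : Scheme.{u}) := by
      have e : D.map (a ≫ b) ⁻¹ᵁ (t (j x) ⁻¹ᵁ W x) = t i ⁻¹ᵁ W x := by
        rw [← Scheme.Hom.comp_preimage, hnat]
      refine qa_of_eq e ?_
      haveI := hj x
      haveI : IsAffineHom ((D.map (a ≫ b)) ∣_ (t (j x) ⁻¹ᵁ W x)) :=
        IsZariskiLocalAtTarget.restrict (hD _ _ (a ≫ b)) _
      exact Scheme.IsQuasiAffine.of_isAffineHom ((D.map (a ≫ b)) ∣_ (t (j x) ⁻¹ᵁ W x))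
    have hV' : IsAffineOpen (V.ι ''ᵁ P.1) := P.2.1.image_of_isOpenImmersion V.ι
    have h3 := core (t i) (W x) (V.ι ''ᵁ P.1) (hW x) hV' hPx hQ
    apply qa_of_image (t i ⁻¹ᵁ V) ((t i ∣_ V) ⁻¹ᵁ P.1)
    exact qa_of_eq (image_morphismRestrict_preimage (t i) V P.1).symm h3

set_option backward.defeqAttrib.useBackward true in
set_option backward.isDefEq.respectTransparency false in
open AlgebraicGeometry CategoryTheory Limits in
theorem main {I : Type u} [SmallCategory I] [IsCofiltered I]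
    (D : I ⥤ Scheme.{u}) (c : Limits.Cone D) (hc : Limits.IsLimit c)
    [hD : ∀ (i j : I) (f : i ⟶ j), IsAffineHom (D.map f)] (i₀ : I) [CompactSpace (D.obj i₀)]
    [QuasiSeparatedSpace (D.obj i₀)] {X₀ Y₀ : Scheme.{u}} (f₀ : X₀ ⟶ Y₀) (g₀ : Y₀ ⟶ D.obj i₀)
    [CompactSpace X₀] [QuasiSeparatedSpace X₀] [CompactSpace Y₀] [QuasiSeparatedSpace Y₀]
    {X Y : Scheme.{u}} (f : X ⟶ Y) (g : Y ⟶ c.pt) (qY : Y ⟶ Y₀) (qX : X ⟶ X₀)
    (hY : IsPullback qY g g₀ (c.π.app i₀)) (hX : IsPullback qX f f₀ qY)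
    (hf : Mor2.IsQuasiAffine f) :
    ∃ (i : I) (φ : i ⟶ i₀) (Xi Yi : Scheme.{u}) (fi : Xi ⟶ Yi) (gi : Yi ⟶ D.obj i) (pY : Yi ⟶ Y₀)
      (pX : Xi ⟶ X₀), IsPullback pY gi g₀ (D.map φ) ∧ IsPullback pX fi f₀ pY ∧
        Mor2.IsQuasiAffine fi := by
  haveI hD' : ∀ {i j : I} (a : i ⟶ j), IsAffineHom (D.map a) := fun a => hD _ _ a
  haveI : IsConnected (Over i₀) := IsCofiltered.isConnected _
  let DX : Over i₀ ⥤ Scheme := Over.post D ⋙ Over.pullback (f₀ ≫ g₀) ⋙ Over.forget _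
  let cX : Cone DX :=
    (Over.pullback (f₀ ≫ g₀) ⋙ Over.forget _).mapCone ((Over.conePost _ _).obj c)
  have hcX : IsLimit cX := by
    refine isLimitOfPreserves (Over.pullback (f₀ ≫ g₀) ⋙ Over.forget _) ?_
    apply isLimitOfReflects (Over.forget (D.obj i₀))
    exact (Functor.Initial.isLimitWhiskerEquiv (Over.forget i₀) c).symm hc
  haveI hAff : ∀ (j k : Over i₀) (f : j ⟶ k), IsAffineHom (DX.map f) := by
    intro j k f
    haveI hk : IsAffineHom (D.map k.hom) := hD _ _ k.hom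
    haveI hj : IsAffineHom (D.map j.hom) := hD _ _ j.hom
    haveI : IsAffineHom (pullback.snd (D.map k.hom) (f₀ ≫ g₀)) :=
      MorphismProperty.pullback_snd _ _ hk
    haveI : IsAffineHom (pullback.snd (D.map j.hom) (f₀ ≫ g₀)) :=
      MorphismProperty.pullback_snd _ _ hj
    have e : DX.map f ≫ pullback.snd (D.map k.hom) (f₀ ≫ g₀) =
        pullback.snd (D.map j.hom) (f₀ ≫ g₀) := by
      simp [DX]
    haveI : IsAffineHom (DX.map f ≫ pullback.snd (D.map k.hom) (f₀ ≫ g₀)) := by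
      rw [e]; infer_instance
    exact IsAffineHom.of_comp _ (pullback.snd (D.map k.hom) (f₀ ≫ g₀))
  haveI hCpt : ∀ j : Over i₀, CompactSpace (DX.obj j) := by
    intro j
    haveI hj : IsAffineHom (D.map j.hom) := hD _ _ j.hom
    show CompactSpace ↥(pullback (D.map j.hom) (f₀ ≫ g₀))
    infer_instance
  haveI hQS : ∀ j : Over i₀, QuasiSeparatedSpace (DX.obj j) := by
    intro j
    haveI hj : IsAffineHom (D.map j.hom) := hD _ _ j.hom
    haveI : IsAffineHom (pullback.snd (D.map j.hom) (f₀ ≫ g₀)) :=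
      MorphismProperty.pullback_snd _ _ hj
    exact quasiSeparatedSpace_of_quasiSeparated (pullback.snd (D.map j.hom) (f₀ ≫ g₀))
  let t : ∀ j : Over i₀, DX.obj j ⟶ Y₀ := fun j => pullback.snd (D.map j.hom) (f₀ ≫ g₀) ≫ f₀
  have hnat : ∀ {j k : Over i₀} (a : j ⟶ k), DX.map a ≫ t k = t j := by
    intro j k a
    simp [DX, t]
  haveI hπ : IsAffineHom (c.π.app i₀) := isAffineHom_π_app D c hc i₀
  haveI hqY : IsAffineHom qY := MorphismProperty.of_isPullback (P := @IsAffineHom) hY.flip hπ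
  have hXpaste : IsPullback (f ≫ g) qX (c.π.app i₀) (f₀ ≫ g₀) := hX.flip.paste_horiz hY.flip
  have h1 : cX.π.app (Over.mk (𝟙 i₀)) ≫ pullback.snd (D.map (𝟙 i₀)) (f₀ ≫ g₀) =
      pullback.snd (c.π.app i₀) (f₀ ≫ g₀) := by
    simp [cX]
  have hkey : cX.π.app (Over.mk (𝟙 i₀)) ≫ t (Over.mk (𝟙 i₀)) =
      hXpaste.isoPullback.inv ≫ f ≫ qY := by
    rw [Iso.eq_inv_comp, ← hX.w]
    show hXpaste.isoPullback.hom ≫ cX.π.app (Over.mk (𝟙 i₀)) ≫
      pullback.snd (D.map (𝟙 i₀)) (f₀ ≫ g₀) ≫ f₀ = qX ≫ f₀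
    rw [reassoc_of% h1, hXpaste.isoPullback_hom_snd_assoc]
  have hq0 : Mor2.IsQuasiAffine (cX.π.app (Over.mk (𝟙 i₀)) ≫ t (Over.mk (𝟙 i₀))) := by
    rw [hkey]
    exact Groth.Agent.S2338.result _ _ (aff_qa _) (Groth.Agent.S2338.result _ _ hf (aff_qa qY))
  obtain ⟨j₁, hj₁⟩ := qalim Y₀ DX t hnat cX hcX (Over.mk (𝟙 i₀)) hq0
  have htj : Mor2.IsQuasiAffine (t j₁) := hj₁ j₁ (𝟙 j₁)
  haveI hpY : IsAffineHom (pullback.fst g₀ (D.map j₁.hom)) :=
    MorphismProperty.pullback_fst _ _ (hD _ _ j₁.hom)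
  refine ⟨j₁.left, j₁.hom, pullback f₀ (pullback.fst g₀ (D.map j₁.hom)),
    pullback g₀ (D.map j₁.hom),
    pullback.snd _ _, pullback.snd _ _, pullback.fst _ _, pullback.fst _ _,
    IsPullback.of_hasPullback _ _, IsPullback.of_hasPullback _ _, ?_⟩
  have hpaste : IsPullback
      (pullback.snd f₀ (pullback.fst g₀ (D.map j₁.hom)) ≫ pullback.snd g₀ (D.map j₁.hom))
      (pullback.fst f₀ (pullback.fst g₀ (D.map j₁.hom))) (D.map j₁.hom) (f₀ ≫ g₀) :=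
    (IsPullback.of_hasPullback f₀ (pullback.fst g₀ (D.map j₁.hom))).flip.paste_horiz
      (IsPullback.of_hasPullback g₀ (D.map j₁.hom)).flip
  have e2 : pullback.snd f₀ (pullback.fst g₀ (D.map j₁.hom)) ≫ pullback.fst g₀ (D.map j₁.hom) =
      hpaste.isoPullback.hom ≫ t j₁ := by
    show _ = hpaste.isoPullback.hom ≫ pullback.snd (D.map j₁.hom) (f₀ ≫ g₀) ≫ f₀
    rw [hpaste.isoPullback_hom_snd_assoc, pullback.condition]
  have h5 : Mor2.IsQuasiAffine (pullback.snd f₀ (pullback.fst g₀ (D.map j₁.hom)) ≫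
      pullback.fst g₀ (D.map j₁.hom)) := by
    rw [e2]
    exact Groth.Agent.S2338.result _ _ (aff_qa _) htj
  exact Groth.Agent.S2340.result _ (pullback.fst g₀ (D.map j₁.hom)) h5

/-- Let S = lim S_i be a cofiltered limit of schemes with affine transition morphisms, S_{i₀} a
quasi-compact quasi-separated stage (the source needs S_{i₀} only quasi-compact; quasi-separatedness
is assumed here), f₀ : X₀ ⟶ Y₀ an S_{i₀}-morphism between schemes of finite presentation over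
S_{i₀}, and f : X ⟶ Y its base change to S (base changes expressed by pullback squares). If f is
quasi-affine, then the base change f_i : X_i ⟶ Y_i of f₀ to some stage S_i is quasi-affine. -/
theorem result {I : Type u} [SmallCategory I] [IsCofiltered I]
    (D : I ⥤ Scheme.{u}) (c : Limits.Cone D) (hc : Limits.IsLimit c)
    [∀ (i j : I) (f : i ⟶ j), IsAffineHom (D.map f)] (i₀ : I) [CompactSpace (D.obj i₀)]
    [QuasiSeparatedSpace (D.obj i₀)] {X₀ Y₀ : Scheme.{u}} (f₀ : X₀ ⟶ Y₀) (g₀ : Y₀ ⟶ D.obj i₀)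
    [LocallyOfFinitePresentation g₀] [QuasiCompact g₀] [QuasiSeparated g₀]
    [LocallyOfFinitePresentation (f₀ ≫ g₀)] [QuasiCompact (f₀ ≫ g₀)] [QuasiSeparated (f₀ ≫ g₀)]
    {X Y : Scheme.{u}} (f : X ⟶ Y) (g : Y ⟶ c.pt) (qY : Y ⟶ Y₀) (qX : X ⟶ X₀)
    (hY : IsPullback qY g g₀ (c.π.app i₀)) (hX : IsPullback qX f f₀ qY) (hf : Mor2.IsQuasiAffine f) :
    ∃ (i : I) (φ : i ⟶ i₀) (Xi Yi : Scheme.{u}) (fi : Xi ⟶ Yi) (gi : Yi ⟶ D.obj i) (pY : Yi ⟶ Y₀)
      (pX : Xi ⟶ X₀), IsPullback pY gi g₀ (D.map φ) ∧ IsPullback pX fi f₀ pY ∧ Mor2.IsQuasiAffine fi := by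
  haveI : CompactSpace Y₀ := QuasiCompact.compactSpace_of_compactSpace g₀
  haveI : QuasiSeparatedSpace Y₀ := quasiSeparatedSpace_of_quasiSeparated g₀
  haveI : CompactSpace X₀ := QuasiCompact.compactSpace_of_compactSpace (f₀ ≫ g₀)
  haveI : QuasiSeparatedSpace X₀ := quasiSeparatedSpace_of_quasiSeparated (f₀ ≫ g₀)
  exact main D c hc i₀ f₀ g₀ f g qY qX hY hX hf

end Groth.Agent.S2592
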