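import Groth.Statements.S9566
import Mathlib
import Groth.Agent.S9565
import Groth.Agent.S2738

set_option autoImplicit false
universe u
open EtLocal

namespace Groth.Agent.S9566

section Helpers
open AlgebraicGeometry CategoryTheory CategoryTheory.Limits TopologicalSpace

set_option backward.isDefEq.respectTransparency false in
theorem stalk_flat_of_nbhd {X Y : Scheme.{u}} (f : X ⟶ Y) (x : X)
    (h : ∃ U : X.Opens, x ∈ U ∧ Flat (U.ι ≫ f)) :
    (f.stalkMap x).hom.Flat := by
  obtain ⟨U, hxU, hU⟩ := h
  let x' : U.toScheme := ⟨x, hxU⟩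
  have h1 : ((U.ι ≫ f).stalkMap x').hom.Flat := Flat.stalkMap (U.ι ≫ f) x'
  have h2 := Scheme.Hom.stalkMap_comp U.ι f x'
  rw [h2, CommRingCat.hom_comp, RingHom.Flat.respectsIso.cancel_right_isIso] at h1
  exact h1

set_option backward.isDefEq.respectTransparency false in
theorem etale_nbhd_of_fu_flat {X Y : Scheme.{u}} (f : X ⟶ Y) [LocallyOfFinitePresentation f]
    (x : X) (hu : ∃ V : X.Opens, x ∈ V ∧ FormallyUnramified (V.ι ≫ f))
    (hf : (f.stalkMap x).hom.Flat) : ∃ V : X.Opens, x ∈ V ∧ Etale (V.ι ≫ f) := by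
  have hf' : ((𝟙 X ≫ f).stalkMap x).hom.Flat := by
    rw [Category.id_comp]; exact hf
  exact (Groth.Agent.S2738.main2738 f (𝟙 X) x hu hf').1

theorem etale_nbhd_iff {X Y : Scheme.{u}} (f : X ⟶ Y) [LocallyOfFinitePresentation f] (x : X) :
    (∃ U : X.Opens, x ∈ U ∧ Etale (U.ι ≫ f)) ↔
      (f.stalkMap x).hom.Flat ∧ (f.stalkMap x).hom.FormallyUnramified := by
  constructor
  · rintro ⟨U, hxU, hU⟩
    have hfl : Flat (U.ι ≫ f) := (Etale.iff_flat_and_formallyUnramified.mp hU).1
    have hfu : FormallyUnramified (U.ι ≫ f) := (Etale.iff_flat_and_formallyUnramified.mp hU).2.1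
    exact ⟨stalk_flat_of_nbhd f x ⟨U, hxU, hfl⟩,
      Groth.Agent.S9565.stalk_fu_of_nbhd f x ⟨U, hxU, hfu⟩⟩
  · rintro ⟨h1, h2⟩
    exact etale_nbhd_of_fu_flat f x (Groth.Agent.S9565.nbhd_of_stalk_fu f x h2) h1

end Helpers

open AlgebraicGeometry CategoryTheory in
/-- Let Y be a locally Noetherian scheme, f : X ⟶ Y locally of finite type and x a point of X with image
y. Then f is étale on some open neighbourhood of x if and only if the map of local rings O_{Y,y} →
O_{X,x} is an étale homomorphism of local rings: it is flat, the maximal ideal of O_{Y,y} generates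
that of O_{X,x}, and the residue field of x is a finite separable extension of that of y (O_{X,x} is
automatically essentially of finite type over O_{Y,y}). -/
theorem result {X Y : Scheme.{u}} (f : X ⟶ Y)
    [LocallyOfFiniteType f] [IsLocallyNoetherian Y] (x : X) :
    (∃ U : X.Opens, x ∈ U ∧ Etale (U.ι ≫ f)) ↔
      ((f.stalkMap x).hom.Flat ∧
        (IsLocalRing.maximalIdeal (Y.presheaf.stalk (f.base x))).map (f.stalkMap x).hom =
          IsLocalRing.maximalIdeal (X.presheaf.stalk x) ∧
        letI := (f.residueFieldMap x).hom.toAlgebra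
        Module.Finite (Y.residueField (f.base x)) (X.residueField x) ∧
          Algebra.IsSeparable (Y.residueField (f.base x)) (X.residueField x)) := by
  haveI : LocallyOfFinitePresentation f :=
    LocallyOfFinitePresentation.iff_locallyOfFiniteType.mpr inferInstance
  exact (etale_nbhd_iff f x).trans
    (and_congr_right fun _ => Groth.Agent.S9565.stalk_fu_iff f x)

end Groth.Agent.S9566
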