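import Groth.Statements.S2797
import Groth.Agent.H27.DiffOp

set_option autoImplicit false
universe u v
open scoped BigOperators
open Diff16

namespace Groth.Agent.S2797

open Groth.Agent.H27.DiffOp

/-- Let B be an A-algebra generated by a subset s, let M, N be B-modules and D : M → N an A-linear map.
If for every g in s the commutator m ↦ D(g·m) - g·D(m) is a differential operator of order at most n
relative to A, then D is a differential operator of order at most n + 1. -/
theorem result (A B : Type u) [CommRing A] [CommRing B] [Algebra A B]
    (M N : Type v) [AddCommGroup M] [Module A M] [Module B M] [IsScalarTower A B M]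
    [AddCommGroup N] [Module A N] [Module B N] [IsScalarTower A B N]
    (s : Set B) (hs : Algebra.adjoin A s = ⊤) (n : ℕ) (D : M →ₗ[A] N)
    (hD : ∀ g ∈ s, Diff16.IsDiffOpLE A B M N n (Diff16.commutator A B M N D g)) :
    Diff16.IsDiffOpLE A B M N (n + 1) D := by
  intro b
  have hb : b ∈ Algebra.adjoin A s := by rw [hs]; trivial
  induction hb using Algebra.adjoin_induction with
  | mem x hx => exact hD x hx
  | algebraMap r =>
    have : Diff16.commutator A B M N D (algebraMap A B r) = 0 := by
      ext m
      rw [commutator_apply, algebraMap_smul, algebraMap_smul, map_smul]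
      simp
    rw [this]
    exact isDiffOpLE_zero_map n
  | add x y _ _ hx hy =>
    have : Diff16.commutator A B M N D (x + y) =
        Diff16.commutator A B M N D x + Diff16.commutator A B M N D y := by
      ext m
      simp only [commutator_apply, LinearMap.add_apply, add_smul, map_add]
      abel
    rw [this]
    exact isDiffOpLE_add hx hy
  | mul x y _ _ hx hy =>
    have hy0 : Diff16.IsDiffOpLE A B M M 0 ((LinearMap.lsmul B M y).restrictScalars A) := by
      intro b m
      show y • b • m = b • y • m
      exact smul_comm y b m
    have hx0 : Diff16.IsDiffOpLE A B N N 0 ((LinearMap.lsmul B N x).restrictScalars A) := by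
      intro b m
      show x • b • m = b • x • m
      exact smul_comm x b m
    have : Diff16.commutator A B M N D (x * y) =
        Diff16.commutator A B M N D x ∘ₗ ((LinearMap.lsmul B M y).restrictScalars A) +
          ((LinearMap.lsmul B N x).restrictScalars A) ∘ₗ Diff16.commutator A B M N D y := by
      ext m
      simp only [commutator_apply, LinearMap.add_apply, LinearMap.comp_apply,
        LinearMap.coe_restrictScalars, LinearMap.lsmul_apply, mul_smul, smul_sub]
      abel
    rw [this]
    apply isDiffOpLE_add
    · exact isDiffOpLE_comp_aux n 0 n (by omega) _ _ hy0 hx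
    · exact isDiffOpLE_comp_aux n n 0 (by omega) _ _ hy hx0

end Groth.Agent.S2797
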