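import Groth.Statements.S5064
import Mathlib
import Groth.Agent.H20.UnramLocus

set_option autoImplicit false
open CategoryTheory CategoryTheory.Limits AlgebraicGeometry
universe u
open Unram

namespace Groth.Agent.S5064

section Helpers
open AlgebraicGeometry CategoryTheory CategoryTheory.Limits TopologicalSpace TensorProduct

theorem flat_of_faithfullyFlat_of_flat (A S T : Type u) [CommRing A] [CommRing S] [CommRing T]
    [Algebra A S] [Algebra S T] [Algebra A T] [IsScalarTower A S T]
    [Module.FaithfullyFlat S T] [Module.Flat A T] : Module.Flat A S := by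
  rw [Module.Flat.iff_lTensor_preserves_injective_linearMap]
  intro N P _ _ _ _ f hf
  let F : S ⊗[A] N →ₗ[S] S ⊗[A] P := TensorProduct.AlgebraTensorModule.lTensor S S f
  have hFf : ∀ x, F x = (f.lTensor S) x := by
    intro x
    induction x using TensorProduct.induction_on with
    | zero => simp
    | tmul s n => simp [F]
    | add a b ha hb => simp only [map_add, ha, hb]
  let e₁ := TensorProduct.AlgebraTensorModule.cancelBaseChange A S T T N
  let e₂ := TensorProduct.AlgebraTensorModule.cancelBaseChange A S T T P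
  have hsq : ∀ x, e₂ (F.lTensor T x) = (f.lTensor T) (e₁ x) := by
    intro x
    induction x using TensorProduct.induction_on with
    | zero => simp
    | tmul t y =>
      induction y using TensorProduct.induction_on with
      | zero => simp
      | tmul s n => simp [F, e₁, e₂]
      | add a b ha hb => simp only [tmul_add, map_add, ha, hb]
    | add a b ha hb => simp only [map_add, ha, hb]
  have hinjT : Function.Injective (f.lTensor T) :=
    Module.Flat.lTensor_preserves_injective_linearMap f hf
  have hFT : Function.Injective (F.lTensor T) := by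
    intro a b hab
    apply e₁.injective
    apply hinjT
    rw [← hsq, ← hsq, hab]
  have hFinj : Function.Injective F :=
    (Module.FaithfullyFlat.lTensor_injective_iff_injective S T F).mp hFT
  intro a b hab
  apply hFinj
  rw [hFf, hFf, hab]

theorem flat_stalkMap_of_cover {X Y Y' : Scheme.{u}} (f : X ⟶ Y) (g : Y' ⟶ Y) [Flat g]
    (U : (pullback f g).Opens) [IsOpenImmersion (U.ι ≫ pullback.snd f g)] (u' : U.toScheme) :
    (f.stalkMap ((pullback.fst f g) (U.ι u'))).hom.Flat := by
  have h1 : ((pullback.snd f g).stalkMap (U.ι u')).hom.Flat := by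
    have hb : Function.Bijective ((U.ι ≫ pullback.snd f g).stalkMap u').hom :=
      ConcreteCategory.bijective_of_isIso _
    rw [Scheme.Hom.stalkMap_comp] at hb
    have hb2 : Function.Bijective (U.ι.stalkMap u').hom := ConcreteCategory.bijective_of_isIso _
    have hcomp : ⇑((pullback.snd f g).stalkMap (U.ι u') ≫ U.ι.stalkMap u').hom =
        ⇑(U.ι.stalkMap u').hom ∘ ⇑((pullback.snd f g).stalkMap (U.ι u')).hom := by
      ext z
      rfl
    have hb' := hcomp ▸ hb
    exact RingHom.Flat.of_bijective ((Function.Bijective.of_comp_iff' hb2 _).mp hb')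
  have h3 : ((pullback.snd f g ≫ g).stalkMap (U.ι u')).hom.Flat := by
    rw [Scheme.Hom.stalkMap_comp]
    exact RingHom.Flat.comp (Flat.stalkMap g _) h1
  have h4 : ((pullback.fst f g ≫ f).stalkMap (U.ι u')).hom.Flat := by
    rw [Scheme.Hom.stalkMap_congr_hom _ _ pullback.condition]
    exact RingHom.Flat.comp (RingHom.Flat.of_bijective (ConcreteCategory.bijective_of_isIso _)) h3
  rw [Scheme.Hom.stalkMap_comp] at h4
  letI := (f.stalkMap ((pullback.fst f g) (U.ι u'))).hom.toAlgebra
  letI := ((pullback.fst f g).stalkMap (U.ι u')).hom.toAlgebra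
  letI : Algebra (Y.presheaf.stalk (f ((pullback.fst f g) (U.ι u'))))
      ((pullback f g).presheaf.stalk (U.ι u')) :=
    (f.stalkMap ((pullback.fst f g) (U.ι u')) ≫ (pullback.fst f g).stalkMap (U.ι u')).hom.toAlgebra
  haveI : IsScalarTower (Y.presheaf.stalk (f ((pullback.fst f g) (U.ι u'))))
      (X.presheaf.stalk ((pullback.fst f g) (U.ι u'))) ((pullback f g).presheaf.stalk (U.ι u')) :=
    IsScalarTower.of_algebraMap_eq' rfl
  haveI : Module.Flat (X.presheaf.stalk ((pullback.fst f g) (U.ι u')))
      ((pullback f g).presheaf.stalk (U.ι u')) := Flat.stalkMap (pullback.fst f g) _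
  haveI : IsLocalHom (algebraMap (X.presheaf.stalk ((pullback.fst f g) (U.ι u')))
      ((pullback f g).presheaf.stalk (U.ι u'))) :=
    inferInstanceAs (IsLocalHom ((pullback.fst f g).stalkMap (U.ι u')).hom)
  haveI : Module.FaithfullyFlat (X.presheaf.stalk ((pullback.fst f g) (U.ι u')))
      ((pullback f g).presheaf.stalk (U.ι u')) := Module.FaithfullyFlat.of_flat_of_isLocalHom
  haveI : Module.Flat (Y.presheaf.stalk (f ((pullback.fst f g) (U.ι u'))))
      ((pullback f g).presheaf.stalk (U.ι u')) := h4
  exact flat_of_faithfullyFlat_of_flat _ (X.presheaf.stalk ((pullback.fst f g) (U.ι u')))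
    ((pullback f g).presheaf.stalk (U.ι u'))

theorem forward5064 {X Y : Scheme.{u}} (f : X ⟶ Y) [Etale f] :
    ∃ (ι : Type u) (Y' : ι → Scheme.{u}) (g : ∀ a, Y' a ⟶ Y) (U : ∀ a, (pullback f (g a)).Opens),
      (∀ a, Etale (g a)) ∧
      (∀ x : X, ∃ a, x ∈ (pullback.fst f (g a)).base '' (U a : Set ↥(pullback f (g a)))) ∧
        ∀ a, IsOpenImmersion ((U a).ι ≫ pullback.snd f (g a)) := by
  refine ⟨PUnit, fun _ => X, fun _ => f, fun _ => (pullback.diagonal f).opensRange,
    fun _ => inferInstance, ?_, ?_⟩
  · intro x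
    refine ⟨PUnit.unit, (pullback.diagonal f) x, ⟨x, rfl⟩, ?_⟩
    rw [← Scheme.Hom.comp_apply, pullback.diagonal_fst]
    rfl
  · intro _
    have h : (pullback.diagonal f).opensRange.ι ≫ pullback.snd f f =
        (pullback.diagonal f).isoOpensRange.inv := by
      rw [← cancel_epi (pullback.diagonal f).isoOpensRange.hom,
        Scheme.Hom.isoOpensRange_hom_ι_assoc, pullback.diagonal_snd, Iso.hom_inv_id]
    rw [h]
    infer_instance

theorem backward5064 {X Y : Scheme.{u}} (f : X ⟶ Y) [LocallyOfFinitePresentation f]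
    (h : ∃ (ι : Type u) (Y' : ι → Scheme.{u}) (g : ∀ a, Y' a ⟶ Y)
      (U : ∀ a, (pullback f (g a)).Opens),
      (∀ a, Flat (g a)) ∧
      (∀ x : X, ∃ a, x ∈ (pullback.fst f (g a)).base '' (U a : Set ↥(pullback f (g a)))) ∧
        ∀ a, IsOpenImmersion ((U a).ι ≫ pullback.snd f (g a))) : Etale f := by
  obtain ⟨ι, Y', g, U, hg, hcov, hU⟩ := h
  rw [Etale.iff_flat_and_formallyUnramified]
  refine ⟨?_, ?_, inferInstance⟩
  · rw [Flat.iff_flat_stalkMap]
    intro x
    obtain ⟨a, u, hu, rfl⟩ := hcov x
    haveI := hg a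
    haveI := hU a
    exact flat_stalkMap_of_cover f (g a) (U a) ⟨u, hu⟩
  · have key : ∀ x : X, ∃ V : X.Opens, x ∈ V ∧ FormallyUnramified (V.ι ≫ f) := by
      intro x
      obtain ⟨a, u, hu, rfl⟩ := hcov x
      haveI := hU a
      exact Groth.Agent.H20.UnramLocus.fu_nbhd_of_pullback f (g a) u ⟨U a, hu, inferInstance⟩
    choose V hxV hV using key
    exact IsZariskiLocalAtSource.of_iSup_eq_top V
      (eq_top_iff.mpr fun x _ => Opens.mem_iSup.mpr ⟨x, hxV x⟩) hV

end Helpers

/-- Let f : X ⟶ Y be locally of finite presentation. If f is étale then there are étale morphisms g_a :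
Y'_a ⟶ Y and opens U_a of the fibre products X ×_Y Y'_a whose images under the first projections
cover X, such that each U_a ⟶ Y'_a (inclusion followed by the second projection) is an open
immersion. Conversely, the existence of such a family with the g_a only assumed flat implies that f
is étale. -/
theorem result {X Y : Scheme.{u}} (f : X ⟶ Y) [LocallyOfFinitePresentation f] :
    (Etale f → ∃ (ι : Type u) (Y' : ι → Scheme.{u}) (g : ∀ a, Y' a ⟶ Y) (U : ∀ a, (pullback f (g a)).Opens),
      (∀ a, Etale (g a)) ∧ (∀ x : X, ∃ a, x ∈ (pullback.fst f (g a)).base '' (U a : Set ↥(pullback f (g a)))) ∧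
        ∀ a, IsOpenImmersion ((U a).ι ≫ pullback.snd f (g a))) ∧
    ((∃ (ι : Type u) (Y' : ι → Scheme.{u}) (g : ∀ a, Y' a ⟶ Y) (U : ∀ a, (pullback f (g a)).Opens),
      (∀ a, Flat (g a)) ∧ (∀ x : X, ∃ a, x ∈ (pullback.fst f (g a)).base '' (U a : Set ↥(pullback f (g a)))) ∧
        ∀ a, IsOpenImmersion ((U a).ι ≫ pullback.snd f (g a))) → Etale f) := by
  exact ⟨fun hE => by haveI := hE; exact forward5064 f, backward5064 f⟩

end Groth.Agent.S5064
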