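import Mathlib
import Groth.Statements.S2909
import Groth.Agent.Lib.Helper9.QuotAff
import Groth.Agent.S2908
-- import your own Groth.Agent.* helpers here

set_option autoImplicit false
open CategoryTheory CategoryTheory.Limits AlgebraicGeometry
universe u
open SGA1

namespace Groth.Agent.S2909


/-- Let a finite group G act on a scheme X by automorphisms over a scheme Z (structure morphism f), and
let p : X ⟶ Y be a quotient of X by G with Y ⟶ Z the induced morphism q (so p ≫ q = f). Then X is
affine over Z iff Y is, X is separated over Z iff Y is; if f is locally of finite type then p is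
finite; and if moreover Z is locally Noetherian and f quasi-compact then q is of finite type
(locally of finite type and quasi-compact). -/
theorem result {X Y Z : Scheme.{u}} {G : Type u} [Group G] [Finite G] (ρ : G →* Aut X)
    (p : X ⟶ Y) (hp : SGA1.IsQuot ρ p) (f : X ⟶ Z) (q : Y ⟶ Z) (hq : p ≫ q = f) (hρ : ∀ g : G, (ρ g).hom ≫ f = f) :
    (IsAffineHom f ↔ IsAffineHom q) ∧ (IsSeparated f ↔ IsSeparated q) ∧
    (LocallyOfFiniteType f → IsFinite p) ∧
    (IsLocallyNoetherian Z → LocallyOfFiniteType f → QuasiCompact f → LocallyOfFiniteType q ∧ QuasiCompact q) := by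
  subst hq
  haveI haff : IsAffineHom p := hp.affine
  haveI hint : IsIntegralHom p := Groth.Agent.Helper9.QuotAct.isIntegralHom ρ p hp
  have hsurj : Function.Surjective p.base := (Groth.Agent.S2908.result ρ p hp).1
  refine ⟨⟨?_, ?_⟩, ⟨?_, ?_⟩, ?_, ?_⟩
  · -- affine f ⇒ affine q
    intro hf
    refine ⟨fun U hU => ?_⟩
    apply Groth.Agent.Helper9.QuotAff.isAffineOpen_of_preimage ρ p hp
    exact hf.isAffine_preimage U hU
  · intro hq'
    exact MorphismProperty.comp_mem _ _ _ haff hq'
  · -- separated f ⇒ separated q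
    intro hf
    haveI := hf
    haveI huc : UniversallyClosed p :=
      (IsIntegralHom.iff_universallyClosed_and_isAffineHom.mp hint).1
    obtain ⟨pp, hppdef⟩ : ∃ pp, pp = Limits.pullback.map (p ≫ q) (p ≫ q) q q p p (𝟙 Z)
      ((Category.comp_id _).trans rfl) ((Category.comp_id _).trans rfl) := ⟨_, rfl⟩
    have hpp : UniversallyClosed pp := by
      rw [hppdef]
      exact MorphismProperty.pullbackMap (P := @UniversallyClosed) huc huc rfl rfl
    have hcomm : Limits.pullback.diagonal (p ≫ q) ≫ pp = p ≫ Limits.pullback.diagonal q := by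
      rw [hppdef]
      have h1 : Limits.pullback.map (p ≫ q) (p ≫ q) q q p p (𝟙 Z)
          ((Category.comp_id _).trans rfl) ((Category.comp_id _).trans rfl) ≫
            Limits.pullback.fst q q = Limits.pullback.fst _ _ ≫ p := Limits.pullback.lift_fst _ _ _
      have h2 : Limits.pullback.map (p ≫ q) (p ≫ q) q q p p (𝟙 Z)
          ((Category.comp_id _).trans rfl) ((Category.comp_id _).trans rfl) ≫
            Limits.pullback.snd q q = Limits.pullback.snd _ _ ≫ p := Limits.pullback.lift_snd _ _ _
      apply Limits.pullback.hom_ext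
      · refine (Category.assoc _ _ _).trans ?_
        rw [h1]
        refine (Category.assoc _ _ _).symm.trans ?_
        rw [Limits.pullback.diagonal_fst, Category.id_comp]
        refine Eq.trans ?_ (Category.assoc _ _ _).symm
        rw [Limits.pullback.diagonal_fst, Category.comp_id]
      · refine (Category.assoc _ _ _).trans ?_
        rw [h2]
        refine (Category.assoc _ _ _).symm.trans ?_
        rw [Limits.pullback.diagonal_snd, Category.id_comp]
        refine Eq.trans ?_ (Category.assoc _ _ _).symm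
        rw [Limits.pullback.diagonal_snd, Category.comp_id]
    have hc : ∀ x : X, pp.base ((Limits.pullback.diagonal (p ≫ q)).base x) =
        (Limits.pullback.diagonal q).base (p.base x) := by
      intro x
      have h0 : (Limits.pullback.diagonal (p ≫ q) ≫ pp).base x =
          (p ≫ Limits.pullback.diagonal q).base x := by rw [hcomm]
      exact h0
    have hrange : Set.range (Limits.pullback.diagonal q).base =
        pp.base '' (Set.range (Limits.pullback.diagonal (p ≫ q)).base) := by
      ext w
      constructor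
      · rintro ⟨y, rfl⟩
        obtain ⟨x, rfl⟩ := hsurj y
        exact ⟨_, ⟨x, rfl⟩, hc x⟩
      · rintro ⟨_, ⟨x, rfl⟩, rfl⟩
        exact ⟨p.base x, (hc x).symm⟩
    have hclosed : IsClosed (Set.range (Limits.pullback.diagonal q).base) := by
      rw [hrange]
      exact pp.isClosedMap _ (Limits.pullback.diagonal (p ≫ q)).isClosedEmbedding.isClosed_range
    exact ⟨IsClosedImmersion.of_isPreimmersion _ hclosed⟩
  · intro hq'
    haveI := hq'
    haveI : IsSeparated p := inferInstance
    exact MorphismProperty.comp_mem _ _ _ (inferInstance : IsSeparated p) hq'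
  · intro hf
    haveI := hf
    haveI : LocallyOfFiniteType p := locallyOfFiniteType_of_comp p q
    rw [IsFinite.iff_isIntegralHom_and_locallyOfFiniteType]
    exact ⟨hint, inferInstance⟩
  · intro hZ hf hqc
    haveI := hZ
    haveI := hf
    haveI := hqc
    constructor
    · refine ⟨fun {U} hU {V} hV e => ?_⟩
      have hA : IsAffineOpen (p ⁻¹ᵁ V) := haff.isAffine_preimage V hV
      have e' : p ⁻¹ᵁ V ≤ (p ≫ q) ⁻¹ᵁ U := fun x hx => e hx
      have hft := LocallyOfFiniteType.finiteType_appLE (p ≫ q) hU hA e'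
      have hcomp : q.appLE U V e ≫ p.appLE V (p ⁻¹ᵁ V) le_rfl = (p ≫ q).appLE U (p ⁻¹ᵁ V) e' :=
        Scheme.Hom.appLE_comp_appLE p q U V (p ⁻¹ᵁ V) e le_rfl
      have h4 : p.appLE V (p ⁻¹ᵁ V) le_rfl = p.app V := Scheme.Hom.appLE_eq_app p
      rw [← hcomp, h4] at hft
      have hft' : ((p.app V).hom.comp (q.appLE U V e).hom).FiniteType := hft
      letI algRB : Algebra Γ(Z, U) Γ(Y, V) := (q.appLE U V e).hom.toAlgebra
      letI algBA : Algebra Γ(Y, V) Γ(X, p ⁻¹ᵁ V) := (p.app V).hom.toAlgebra
      letI algRA : Algebra Γ(Z, U) Γ(X, p ⁻¹ᵁ V) :=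
        ((p.app V).hom.comp (q.appLE U V e).hom).toAlgebra
      haveI : IsScalarTower Γ(Z, U) Γ(Y, V) Γ(X, p ⁻¹ᵁ V) :=
        IsScalarTower.of_algebraMap_eq (fun _ => rfl)
      haveI : IsNoetherianRing Γ(Z, U) := IsLocallyNoetherian.component_noetherian ⟨U, hU⟩
      haveI hftA : Algebra.FiniteType Γ(Z, U) Γ(X, p ⁻¹ᵁ V) := hft'
      haveI : Algebra.FiniteType Γ(Y, V) Γ(X, p ⁻¹ᵁ V) :=
        Algebra.FiniteType.of_restrictScalars_finiteType Γ(Z, U) Γ(Y, V) Γ(X, p ⁻¹ᵁ V)
      haveI : Algebra.IsIntegral Γ(Y, V) Γ(X, p ⁻¹ᵁ V) :=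
        ⟨Groth.Agent.Helper9.QuotAct.isIntegral_app ρ p hp V⟩
      haveI : Module.Finite Γ(Y, V) Γ(X, p ⁻¹ᵁ V) := Algebra.IsIntegral.finite
      have hfg := fg_of_fg_of_fg Γ(Z, U) Γ(Y, V) Γ(X, p ⁻¹ᵁ V) hftA.out Module.Finite.fg_top
        (hp.injective V)
      exact (⟨hfg⟩ : Algebra.FiniteType Γ(Z, U) Γ(Y, V))
    · refine ⟨fun U hUo hUc => ?_⟩
      have h1 : q.base ⁻¹' U = p.base '' ((p ≫ q).base ⁻¹' U) := by
        ext y
        constructor
        · intro hy
          obtain ⟨x, rfl⟩ := hsurj y
          exact ⟨x, hy, rfl⟩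
        · rintro ⟨x, hx, rfl⟩
          exact hx
      rw [h1]
      exact (QuasiCompact.isCompact_preimage (f := p ≫ q) U hUo hUc).image p.continuous

end Groth.Agent.S2909
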