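import Groth.Statements.S2913
import Mathlib

set_option autoImplicit false
open CategoryTheory CategoryTheory.Limits AlgebraicGeometry Opposite
universe u
open SGA1

namespace Groth.Agent.S2913

/-- Let g : S' ⟶ S be a surjective morphism of schemes such that for every open U of S the map O_S(U) →
O_{S'}(g⁻¹U) is injective. Then g is an epimorphism in the category of schemes. -/
theorem result {S' S : Scheme.{u}} (g : S' ⟶ S) [Surjective g]
    (hinj : ∀ U : S.Opens, Function.Injective (g.app U).hom) : Epi g := by
  constructor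
  intro T a b hab
  have hbase : a.base = b.base := by
    have hepi : Epi g.base := (TopCat.epi_iff_surjective g.base).mpr g.surjective
    have h1 : g.base ≫ a.base = g.base ≫ b.base := by
      have h2 := congrArg (fun f => f.base) hab
      simpa using h2
    exact (cancel_epi g.base).mp h1
  refine Scheme.Hom.ext hbase (fun U => ?_)
  have hmono : Mono (g.app (b ⁻¹ᵁ U)) :=
    ConcreteCategory.mono_of_injective (g.app (b ⁻¹ᵁ U)) (hinj _)
  rw [← cancel_mono (g.app (b ⁻¹ᵁ U))]
  rw [Category.assoc, Scheme.Hom.naturality]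
  have h3 := Scheme.Hom.congr_app hab U
  have key : ∀ (V W : S'.Opens) (e1 : W = V) (φ : Γ(T, U) ⟶ Γ(S', V)) (ψ : Γ(T, U) ⟶ Γ(S', W))
      (e2 : V = W),
      φ = ψ ≫ S'.presheaf.map (eqToHom e2).op → φ ≫ S'.presheaf.map (eqToHom e1).op = ψ := by
    intro V W e1 φ ψ e2 h
    subst e1
    simp [h]
  have h5 := key _ _ (by rw [hab]) _ _ _ h3
  rw [← Category.assoc]
  exact h5

end Groth.Agent.S2913
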