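import Mathlib
import Groth.Statements.S2914
import Groth.Agent.Lib.Helper9.QuotAct
-- import your own Groth.Agent.* helpers here

set_option autoImplicit false
open CategoryTheory CategoryTheory.Limits AlgebraicGeometry Opposite
universe u
open SGA1

namespace Groth.Agent.S2914


open Groth.Agent.Helper9 in
theorem main {S' S : Scheme.{u}} (g : S' ⟶ S) (hq : Topology.IsQuotientMap g.base)
    (hinj : ∀ U : S.Opens, Function.Injective (g.app U).hom)
    (heq : ∀ (U : S.Opens) (s' : Γ(S', g ⁻¹ᵁ U)), (SGA1.overlapFstApp g U).hom s' = (SGA1.overlapSndApp g U).hom s' →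
      s' ∈ Set.range (g.app U).hom)
    {T : Scheme.{u}} (e : S' ⟶ T) (he : pullback.fst g g ≫ e = pullback.snd g g ≫ e) :
    ∃! m : S ⟶ T, g ≫ m = e := by
  have hsurj : Function.Surjective g.base := hq.surjective
  haveI : Surjective g := ⟨hsurj⟩
  have hfib : ∀ x₁ x₂ : S', g.base x₁ = g.base x₂ → e.base x₁ = e.base x₂ := by
    intro x₁ x₂ h12
    obtain ⟨z, hz1, hz2⟩ := Scheme.Pullback.exists_preimage_pullback (f := g) (g := g) x₁ x₂ h12
    have hc : (pullback.fst g g ≫ e).base z = (pullback.snd g g ≫ e).base z := by rw [he]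
    rw [← hz1, ← hz2]; exact hc
  have hloc : ∀ y : S, ∃ (V : S.Opens) (f : (V : Scheme.{u}) ⟶ T), y ∈ V ∧
      (g ∣_ V) ≫ f = (g ⁻¹ᵁ V).ι ≫ e := by
    intro y
    obtain ⟨x, rfl⟩ := hsurj y
    obtain ⟨_, ⟨W, hW, rfl⟩, hxW, -⟩ := T.isBasis_affineOpens.exists_subset_of_mem_open
      (Set.mem_univ (e.base x)) isOpen_univ
    have hsat : g.base ⁻¹' (g.base '' (e ⁻¹ᵁ W : Set S')) = (e ⁻¹ᵁ W : Set S') := by
      apply Set.Subset.antisymm
      · rintro z ⟨w, hw, hwz⟩
        show e.base z ∈ W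
        rw [← hfib w z hwz]; exact hw
      · exact Set.subset_preimage_image _ _
    have hopen : IsOpen (g.base '' (e ⁻¹ᵁ W : Set S')) := by
      rw [← hq.isOpen_preimage, hsat]; exact (e ⁻¹ᵁ W).isOpen
    obtain ⟨V, hVdef⟩ : ∃ V : S.Opens, V = ⟨g.base '' (e ⁻¹ᵁ W : Set S'), hopen⟩ := ⟨_, rfl⟩
    have hVW : g ⁻¹ᵁ V = e ⁻¹ᵁ W := by
      rw [hVdef]; ext z; exact Set.ext_iff.mp hsat z
    have hyV : g.base x ∈ V := by rw [hVdef]; exact ⟨x, hxW, rfl⟩
    have hrange : ∀ c : Γ(T, W), (e.appLE W (g ⁻¹ᵁ V) hVW.le).hom c ∈ Set.range (g.app V).hom := by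
      intro c
      apply heq
      unfold SGA1.overlapFstApp SGA1.overlapSndApp
      have h1 := Scheme.Hom.appLE_comp_appLE (pullback.fst g g) e W (g ⁻¹ᵁ V)
        ((pullback.fst g g) ⁻¹ᵁ (g ⁻¹ᵁ V)) hVW.le le_rfl
      have h2 := Scheme.Hom.appLE_comp_appLE (pullback.snd g g) e W (g ⁻¹ᵁ V)
        ((pullback.fst g g) ⁻¹ᵁ (g ⁻¹ᵁ V)) hVW.le (SGA1.fst_preimage_eq_snd_preimage g V).le
      rw [QuotAct.appLE_of_eq he] at h1
      have h3 := (congrArg (fun φ => φ.hom c) h1).trans (congrArg (fun φ => φ.hom c) h2).symm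
      have h4 : (pullback.fst g g).appLE (g ⁻¹ᵁ V) ((pullback.fst g g) ⁻¹ᵁ (g ⁻¹ᵁ V)) le_rfl =
          (pullback.fst g g).app (g ⁻¹ᵁ V) := Scheme.Hom.appLE_eq_app _
      simp only [h4] at h3
      exact h3
    choose ψ0 hψ0 using hrange
    let ψ : Γ(T, W) →+* Γ(S, V) :=
      { toFun := ψ0
        map_one' := hinj V (by rw [hψ0, map_one, map_one])
        map_mul' := fun a b => hinj V (by rw [hψ0, map_mul, map_mul, hψ0, hψ0])
        map_zero' := hinj V (by rw [hψ0, map_zero, map_zero])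
        map_add' := fun a b => hinj V (by rw [hψ0, map_add, map_add, hψ0, hψ0]) }
    have hψ : CommRingCat.ofHom ψ ≫ g.app V = e.appLE W (g ⁻¹ᵁ V) hVW.le := by
      ext c; exact hψ0 c
    refine ⟨V, V.toSpecΓ ≫ Spec.map (CommRingCat.ofHom ψ) ≫ hW.fromSpec, hyV, ?_⟩
    rw [← Scheme.Opens.toSpecΓ_naturality_assoc, ← Spec.map_comp_assoc, hψ,
      ← QuotAct.ι_comp_eq]
  choose V f hyV hf using hloc
  have hcov : TopologicalSpace.IsOpenCover V :=
    eq_top_iff.mpr (fun y _ => TopologicalSpace.Opens.mem_iSup.mpr ⟨y, hyV y⟩)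
  have hM : ∀ (T' : Scheme.{u}) (j : T' ⟶ S) [IsOpenImmersion j] (y : S)
      (k : T' ⟶ (V y : Scheme.{u}))
      (hk : k ≫ (V y).ι = j), pullback.snd g j ≫ k ≫ f y = pullback.fst g j ≫ e := by
    intro T' j _ y k hk
    have hr : Set.range (pullback.fst g j) ⊆ Set.range (g ⁻¹ᵁ V y).ι := by
      rintro _ ⟨z, rfl⟩
      rw [Scheme.Opens.range_ι]
      show g ((pullback.fst g j) z) ∈ V y
      have hc : (pullback.fst g j ≫ g) z = (pullback.snd g j ≫ j) z := by rw [pullback.condition]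
      rw [Scheme.Hom.comp_apply, Scheme.Hom.comp_apply] at hc
      rw [hc]
      have hk2 : j ((pullback.snd g j) z) = (V y).ι (k ((pullback.snd g j) z)) := by
        have hk3 : (k ≫ (V y).ι) ((pullback.snd g j) z) = j ((pullback.snd g j) z) := by rw [hk]
        rw [Scheme.Hom.comp_apply] at hk3
        exact hk3.symm
      rw [hk2]
      exact (k ((pullback.snd g j) z)).2
    have h1 : IsOpenImmersion.lift (g ⁻¹ᵁ V y).ι (pullback.fst g j) hr ≫ (g ∣_ V y) =
        pullback.snd g j ≫ k := by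
      rw [← cancel_mono (V y).ι, Category.assoc, morphismRestrict_ι,
        IsOpenImmersion.lift_fac_assoc, Category.assoc, hk, pullback.condition]
    rw [← Category.assoc, ← h1, Category.assoc, hf y, IsOpenImmersion.lift_fac_assoc]
  have hcompat : ∀ x y : S, pullback.fst (V x).ι (V y).ι ≫ f x =
      pullback.snd (V x).ι (V y).ι ≫ f y := by
    intro x y
    apply QuotAct.hom_ext_snd g hinj
      (pullback.fst (V x).ι (V y).ι ≫ (V x).ι)
    rw [hM _ _ x (pullback.fst (V x).ι (V y).ι) rfl,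
      hM _ _ y (pullback.snd (V x).ι (V y).ι) pullback.condition.symm]
  have h4 : g ≫ (S.openCoverOfIsOpenCover V hcov).glueMorphisms f hcompat = e := by
    apply Scheme.hom_ext_of_forall
    intro x
    refine ⟨g ⁻¹ᵁ V (g x), hyV (g x), ?_⟩
    have h2 := (S.openCoverOfIsOpenCover V hcov).ι_glueMorphisms f hcompat (g x)
    rw [← morphismRestrict_ι_assoc]
    have h3 : (V (g x)).ι ≫ (S.openCoverOfIsOpenCover V hcov).glueMorphisms f hcompat =
        f (g x) := h2
    rw [h3, hf]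
  refine ⟨(S.openCoverOfIsOpenCover V hcov).glueMorphisms f hcompat, h4, ?_⟩
  intro h₁ hh₁
  apply QuotAct.hom_ext_snd g hinj (𝟙 S)
  have hc : pullback.snd g (𝟙 S) = pullback.fst g (𝟙 S) ≫ g := by
    rw [pullback.condition, Category.comp_id]
  rw [hc, Category.assoc, Category.assoc, hh₁, h4]

/-- Let g : S' ⟶ S be a morphism of schemes whose underlying map is a quotient map, and such that for
every open U of S the sequence O_S(U) → O_{S'}(g⁻¹U) ⇉ O_{S''}(h⁻¹U) is an equalizer, where S'' = S'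
×_S S' with structure map h and the two arrows are restriction along the projections. Then g is an
effective epimorphism in the category of schemes. -/
theorem result {S' S : Scheme.{u}} (g : S' ⟶ S) (hq : Topology.IsQuotientMap g.base)
    (hinj : ∀ U : S.Opens, Function.Injective (g.app U).hom)
    (heq : ∀ (U : S.Opens) (s' : Γ(S', g ⁻¹ᵁ U)), (SGA1.overlapFstApp g U).hom s' = (SGA1.overlapSndApp g U).hom s' →
      s' ∈ Set.range (g.app U).hom) :
    EffectiveEpi g := by
  have hm := fun {T : Scheme.{u}} (e : S' ⟶ T)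
      (h : ∀ {Z : Scheme.{u}} (g₁ g₂ : Z ⟶ S'), g₁ ≫ g = g₂ ≫ g → g₁ ≫ e = g₂ ≫ e) =>
    main g hq hinj heq e (h _ _ pullback.condition)
  exact ⟨⟨{ desc := fun e h => (hm e h).exists.choose
            fac := fun e h => (hm e h).exists.choose_spec
            uniq := fun e h m hmm => (hm e h).unique hmm (hm e h).exists.choose_spec }⟩⟩

end Groth.Agent.S2914
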