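import Mathlib
import Groth.Statements.S2917
import Groth.Agent.Lib.Helper9.SubmDescent
-- import your own Groth.Agent.* helpers here

set_option autoImplicit false
open CategoryTheory CategoryTheory.Limits AlgebraicGeometry Opposite
universe u
open SGA1

namespace Groth.Agent.S2917

open Groth.Agent.Helper9.SubmDescent

theorem core {S' S X Y : Scheme.{u}} (g : S' ⟶ S) (hg : SGA1.UnivSubmersive g) (f : X ⟶ Y)
    (q : Y ⟶ S) (f' : pullback (f ≫ q) g ⟶ pullback q g)
    (h1 : f' ≫ pullback.fst q g = pullback.fst (f ≫ q) g ≫ f)
    (h2 : f' ≫ pullback.snd q g = pullback.snd (f ≫ q) g) :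
    (IsOpenMap f'.base → IsOpenMap f.base) ∧ (IsClosedMap f'.base → IsClosedMap f.base) ∧
    (UniversallyOpen f' → UniversallyOpen f) ∧ (UniversallyClosed f' → UniversallyClosed f) ∧
    (IsSeparated f' → IsSeparated f) ∧
    (QuasiCompact g → LocallyOfFiniteType f → IsProper f' → IsProper f) := by
  have sq : IsPullback (pullback.fst (f ≫ q) g) f' f (pullback.fst q g) := by
    refine IsPullback.of_bot ?_ h1.symm (IsPullback.of_hasPullback q g)
    rw [h2]
    exact IsPullback.of_hasPullback (f ≫ q) g
  have hb : SGA1.UnivSubmersive (pullback.fst q g) := MorphismProperty.pullback_fst q g hg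
  have hbq : Topology.IsQuotientMap (pullback.fst q g).base := hb _ _ _ IsPullback.of_id_snd
  have hsep : IsSeparated f' → IsSeparated f := fun h => by
    haveI := h
    exact isSeparated_of_isPullback sq.flip hb
  have huc : UniversallyClosed f' → UniversallyClosed f := fun h => by
    haveI := h
    exact universallyClosed_of_isPullback sq.flip hb
  refine ⟨(top_descend sq hbq).1, (top_descend sq hbq).2, ?_, huc, hsep, ?_⟩
  · intro h
    haveI := h
    exact universallyOpen_of_isPullback sq.flip hb
  · intro _ hlft hp
    haveI := hp
    haveI := hlft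
    haveI : IsSeparated f := hsep inferInstance
    haveI : UniversallyClosed f := huc inferInstance
    rw [isProper_iff]
    exact ⟨inferInstance, inferInstance, inferInstance⟩


/-- Let g : S' ⟶ S be universally submersive, f : X ⟶ Y a morphism of S-schemes (Y ⟶ S the structure
map) and f' its base change along S' ⟶ S, realised as X ×_S S' ⟶ Y ×_S S'. If f' is open (resp.
closed) then so is f; if f' is universally open (resp. universally closed, resp. separated) then so
is f; and if moreover g is quasi-compact and f locally of finite type, then f is proper as soon as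
f' is. -/
theorem result {S' S X Y : Scheme.{u}} (g : S' ⟶ S) (hg : SGA1.UnivSubmersive g)
    (f : X ⟶ Y) (q : Y ⟶ S) :
    (IsOpenMap (pullback.map (f ≫ q) g q g f (𝟙 S') (𝟙 S) (Category.comp_id _) ((Category.comp_id _).trans (Category.id_comp _).symm)).base → IsOpenMap f.base) ∧
    (IsClosedMap (pullback.map (f ≫ q) g q g f (𝟙 S') (𝟙 S) (Category.comp_id _) ((Category.comp_id _).trans (Category.id_comp _).symm)).base → IsClosedMap f.base) ∧
    (UniversallyOpen (pullback.map (f ≫ q) g q g f (𝟙 S') (𝟙 S) (Category.comp_id _) ((Category.comp_id _).trans (Category.id_comp _).symm)) → UniversallyOpen f) ∧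
    (UniversallyClosed (pullback.map (f ≫ q) g q g f (𝟙 S') (𝟙 S) (Category.comp_id _) ((Category.comp_id _).trans (Category.id_comp _).symm)) → UniversallyClosed f) ∧
    (IsSeparated (pullback.map (f ≫ q) g q g f (𝟙 S') (𝟙 S) (Category.comp_id _) ((Category.comp_id _).trans (Category.id_comp _).symm)) → IsSeparated f) ∧
    (QuasiCompact g → LocallyOfFiniteType f →
      IsProper (pullback.map (f ≫ q) g q g f (𝟙 S') (𝟙 S) (Category.comp_id _) ((Category.comp_id _).trans (Category.id_comp _).symm)) → IsProper f) := by
  exact core g hg f q _ (pullback.lift_fst _ _ _)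
    ((pullback.lift_snd _ _ _).trans (Category.comp_id _))

end Groth.Agent.S2917
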