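import Groth.Statements.S5172
import Groth.Agent.H13.RelCodim

set_option autoImplicit false
universe u
open LocCoh

namespace Groth.Agent.S5172

/-- Let A be a Noetherian ring which is a quotient of a regular ring, I an ideal, M a finite A-module
and n ≥ 0; c(p) = codim(V(p) ∩ V(I), V(p)). Then depth M_p > n − c(p) for all primes p ⊉ I if and
only if depth M_p ≥ n for all primes p ⊉ I with c(p) = 1. -/
theorem result (R : Type u) [CommRing R] [IsRegularRing R] (A : Type u) [CommRing A] [IsNoetherianRing A] (π : R →+* A) (hπ : Function.Surjective π) (I : Ideal A) (M : Type u) [AddCommGroup M] [Module A M] [Module.Finite A M] (n : ℕ) : (∀ p : PrimeSpectrum A, ¬ I ≤ p.asIdeal → (n : ℕ∞) < LocCoh.depth (Localization.AtPrime p.asIdeal) (LocalizedModule p.asIdeal.primeCompl M) + SGA2.relCodim I p) ↔ (∀ p : PrimeSpectrum A, ¬ I ≤ p.asIdeal → SGA2.relCodim I p = 1 → (n : ℕ∞) ≤ LocCoh.depth (Localization.AtPrime p.asIdeal) (LocalizedModule p.asIdeal.primeCompl M)) := by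
  constructor
  · intro h p hp h1
    have := h p hp
    rw [h1] at this
    exact Order.le_of_lt_add_one this
  · intro h p hp
    by_cases hc : SGA2.relCodim I p = ⊤
    · rw [hc, add_top]
      exact ENat.natCast_lt_top n
    obtain ⟨k, hk⟩ := ENat.ne_top_iff_exists.mp hc
    obtain ⟨p', hpp', hIp', hc1, hht⟩ :=
      Groth.Agent.H13.RelCodim.exists_codim_one I p hp k hk.symm
    have h1 := h p' hIp' hc1
    have h2 := Groth.Agent.H13.DepthSpec.main A M p.asIdeal p'.asIdeal hpp'
    rw [Groth.Agent.H13.RelCodim.height_map_eq p p' hpp'] at h2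
    rw [← hk, ← hht]
    by_cases hd : LocCoh.depth (Localization.AtPrime p.asIdeal)
        (LocalizedModule p.asIdeal.primeCompl M) = ⊤
    · rw [hd, top_add]
      exact ENat.natCast_lt_top n
    obtain ⟨d', hd'⟩ := ENat.ne_top_iff_exists.mp hd
    have hh : Order.height (⟨p', hpp'⟩ : Set.Ici p) ≠ ⊤ := by
      intro htop
      rw [htop, top_add] at hht
      exact ENat.top_ne_natCast _ hht
    obtain ⟨h', hh'⟩ := ENat.ne_top_iff_exists.mp hh
    have h3 := h1.trans h2
    rw [← hd', ← hh'] at h3 ⊢
    have h4 : n ≤ d' + h' := by exact_mod_cast h3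
    have h5 : n < d' + (h' + 1) := by omega
    exact_mod_cast h5

end Groth.Agent.S5172
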