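import Groth.Statements.S2930
import Groth.Agent.H13.LCFalt3
import Groth.Agent.H13.RelCodim2
import Groth.Agent.S5172
import Groth.Agent.S11653

set_option autoImplicit false
universe u
open LocCoh

namespace Groth.Agent.S2930

/-- (ii)⇔(iii): Let A be a Noetherian ring which is a quotient of a regular ring, I an ideal, M a finite
A-module and n ≥ 0. Then H^i_I(M) is a finite A-module for every i ≤ n if and only if depth M_p ≥ n
for every prime p not containing I for which V(p) ∩ V(I) has codimension 1 in V(p), i.e. for which
there is a prime q ⊇ I covering p. -/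
theorem result (R : Type u) [CommRing R] [IsRegularRing R] (A : Type u) [CommRing A] [IsNoetherianRing A] (π : R →+* A) (hπ : Function.Surjective π) (I : Ideal A) (M : Type u) [AddCommGroup M] [Module A M] [Module.Finite A M] (n : ℕ) : (∀ i : ℕ, i ≤ n → Module.Finite A (LocCoh.H I i M)) ↔ ∀ p q : PrimeSpectrum A, ¬ I ≤ p.asIdeal → I ≤ q.asIdeal → p ⋖ q → (n : ℕ∞) ≤ LocCoh.depth (Localization.AtPrime p.asIdeal) (LocalizedModule p.asIdeal.primeCompl M) := by
  have hAB : (∀ i : ℕ, i ≤ n → Module.Finite A (LocCoh.H I i M)) ↔
      (∀ p : PrimeSpectrum A, ¬ I ≤ p.asIdeal →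
        (n : ℕ∞) < LocCoh.depth (Localization.AtPrime p.asIdeal)
          (LocalizedModule p.asIdeal.primeCompl M) + SGA2.relCodim I p) := by
    constructor
    · intro hfin p hp
      rw [Groth.Agent.H13.RelCodim.relCodim_eq_height]
      have h1 : ((n + 1 : ℕ) : ℕ∞) ≤ LocCoh.finDimRel I I M := by
        unfold LocCoh.finDimRel
        refine le_iInf₂ (fun i hi => ?_)
        by_contra hlt
        push Not at hlt
        have hin : i ≤ n := by
          have : i < n + 1 := by exact_mod_cast hlt
          omega
        apply hi
        have := hfin i hin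
        obtain ⟨k, hk⟩ := Groth.Agent.H13.LC.exists_pow_kills_of_finite I (LocCoh.H I i M)
          (Groth.Agent.H13.LC.isPowerTorsion I i (ModuleCat.of A M))
        intro a ha
        refine ⟨k, ?_⟩
        rw [Module.mem_annihilator]
        exact hk _ (Ideal.pow_mem_pow ha k)
      have h2 := Groth.Agent.S11653.result A I I M
      have h3 : LocCoh.minAdjDepth I I M ≤ LocCoh.adjDepth I M p := iInf₂_le p hp
      have h4 := (h1.trans h2).trans h3
      refine lt_of_lt_of_le ?_ h4
      exact_mod_cast Nat.lt_succ_self n
    · intro h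
      have hkill : ∀ i ≤ n, I ≤ (Module.annihilator A (LocCoh.H I i M)).radical := by
        intro i hi
        apply Groth.Agent.H13.LC.faltings_le R A π hπ I I M i
        intro Q _ hQ
        have := h ⟨Q, inferInstance⟩ hQ
        rw [Groth.Agent.H13.RelCodim.relCodim_eq_height] at this
        exact lt_of_le_of_lt (by exact_mod_cast hi) this
      have hk' : ∀ i : ℕ, ∃ k, i ≤ n → I ^ k ≤ Module.annihilator A (LocCoh.H I i M) := by
        intro i
        by_cases hi : i ≤ n
        · obtain ⟨k, hk⟩ := Ideal.exists_pow_le_of_le_radical_of_fg_radical (hkill i hi)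
            (IsNoetherian.noetherian _)
          exact ⟨k, fun _ => hk⟩
        · exact ⟨0, fun h => absurd h hi⟩
      choose kf hkf using hk'
      exact Groth.Agent.H13.LC.finite_of_kills I n M inferInstance
        ((Finset.range (n + 1)).sup kf) (fun i hi a ha x => by
          have hle : kf i ≤ (Finset.range (n + 1)).sup kf :=
            Finset.le_sup (Finset.mem_range.mpr (by omega))
          exact Module.mem_annihilator.mp (hkf i hi (Ideal.pow_le_pow_right hle ha)) x)
  rw [hAB, Groth.Agent.S5172.result R A π hπ I M n]
  constructor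
  · intro h p q hp hq hpq
    exact h p hp ((Groth.Agent.H13.RelCodim.relCodim_eq_one_iff I p hp).mpr ⟨q, hq, hpq⟩)
  · intro h p hp hc
    obtain ⟨q, hq, hpq⟩ := (Groth.Agent.H13.RelCodim.relCodim_eq_one_iff I p hp).mp hc
    exact h p q hp hq hpq

end Groth.Agent.S2930
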