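import Groth.Statements.S2931
import Groth.Agent.H13.LCDimLib

set_option autoImplicit false
universe u
open LocCoh

namespace Groth.Agent.S2931

/-- Affine form (coherence of R^p i_*(F) for p < n being finiteness of H^i_I for i ≤ n). Let A be a
Noetherian ring which is a quotient of a regular ring, I an ideal and M a finite A-module such that
M_p is zero or Cohen–Macaulay for every prime p not containing I. Then H^i_I(M) is a finite A-module
for every i ≤ n if and only if for every prime p not containing I which is minimal in the support of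
M, the codimension of V(p) ∩ V(I) in V(p) is greater than n. -/
theorem result (R : Type u) [CommRing R] [IsRegularRing R] (A : Type u) [CommRing A] [IsNoetherianRing A] (π : R →+* A) (hπ : Function.Surjective π) (I : Ideal A) (M : Type u) [AddCommGroup M] [Module A M] [Module.Finite A M] (hCM : ∀ p : PrimeSpectrum A, ¬ I ≤ p.asIdeal → Subsingleton (LocalizedModule p.asIdeal.primeCompl M) ∨ LocCoh.IsCohenMacaulayModule (Localization.AtPrime p.asIdeal) (LocalizedModule p.asIdeal.primeCompl M)) (n : ℕ) : (∀ i : ℕ, i ≤ n → Module.Finite A (LocCoh.H I i M)) ↔ ∀ p : PrimeSpectrum A, ¬ I ≤ p.asIdeal → p.asIdeal ∈ (Module.annihilator A M).minimalPrimes → (n : ℕ∞) < SGA2.relCodim I p := by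
  rw [Groth.Agent.H13.LC.finite_iff_lt_depth_add_relCodim R A π hπ I M n]
  let _ : Algebra R A := π.toAlgebra
  have hg : Function.Surjective (algebraMap R A) := hπ
  have hS : ∀ (P : Ideal R) [P.IsPrime],
      LocCoh.IsGorensteinLocalRing (Localization.AtPrime P) :=
    fun P _ => Groth.Agent.H13.LC.reg_locally_gorenstein R P
  constructor
  · intro h p hp hmin
    have hass : p.asIdeal ∈ associatedPrimes A M :=
      Module.associatedPrimes.minimalPrimes_annihilator_subset_associatedPrimes A M hmin
    have hd := Groth.Agent.H13.LC.depth_localized_eq_zero_of_mem_ass M p.asIdeal hass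
    have := h p hp
    rwa [hd, zero_add] at this
  · intro h p hp
    rcases hCM p hp with hsub | hcm
    · rw [Groth.Agent.H29.depth_eq_top_of_subsingleton, top_add]
      exact ENat.natCast_lt_top n
    · have hnt : Nontrivial (LocalizedModule p.asIdeal.primeCompl M) :=
        Groth.Agent.H29.IsCohenMacaulayModule.nontrivial (Localization.AtPrime p.asIdeal) hcm
      have hsupp : p ∈ Module.support A M := Module.mem_support_iff.mpr hnt
      have hann : Module.annihilator A M ≤ p.asIdeal :=
        Module.mem_support_iff_of_finite.mp hsupp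
      obtain ⟨p₀i, hmin, hle⟩ := Ideal.exists_minimalPrimes_le hann
      have hp₀prime : p₀i.IsPrime := hmin.1.1
      let p₀ : PrimeSpectrum A := ⟨p₀i, hp₀prime⟩
      have hle' : p₀ ≤ p := hle
      have hp₀ : ¬ I ≤ p₀.asIdeal := fun hI => hp (hI.trans hle)
      have h1 := h p₀ hp₀ hmin
      by_cases hc : SGA2.relCodim I p = ⊤
      · rw [hc, add_top]
        exact ENat.natCast_lt_top n
      have hne : Nonempty {q : PrimeSpectrum A // p ≤ q ∧ I ≤ q.asIdeal} := by
        by_contra hE
        rw [not_nonempty_iff] at hE
        apply hc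
        unfold SGA2.relCodim
        exact iInf_of_empty _
      obtain ⟨q, hq⟩ := ENat.exists_eq_iInf
        (fun q : {q : PrimeSpectrum A // p ≤ q ∧ I ≤ q.asIdeal} =>
          Order.height (⟨q.1, q.2.1⟩ : Set.Ici p))
      have hq' : Order.height (⟨q.1, q.2.1⟩ : Set.Ici p) = SGA2.relCodim I p := hq
      have h2 : SGA2.relCodim I p₀ ≤
          Order.height (⟨q.1, hle'.trans q.2.1⟩ : Set.Ici p₀) := by
        unfold SGA2.relCodim
        exact iInf_le (fun q : {q : PrimeSpectrum A // p₀ ≤ q ∧ I ≤ q.asIdeal} =>
          Order.height (⟨q.1, q.2.1⟩ : Set.Ici p₀)) ⟨q.1, hle'.trans q.2.1, q.2.2⟩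
      have h3 := Groth.Agent.H13.LC.height_Ici_add_eq hg hS p₀ p q.1 hle' q.2.1
      have h4 := Groth.Agent.H13.LC.height_le_supportDim_localized M p₀.asIdeal p.asIdeal hle
        hmin.1.2
      have hcm' : Module.supportDim (Localization.AtPrime p.asIdeal)
          (LocalizedModule p.asIdeal.primeCompl M) =
          ((LocCoh.depth (Localization.AtPrime p.asIdeal)
            (LocalizedModule p.asIdeal.primeCompl M) : ℕ∞) : WithBot ℕ∞) := hcm
      rw [Groth.Agent.H13.RelCodim.height_map_eq p₀ p hle', hcm'] at h4
      have h4' : Order.height (⟨p, hle'⟩ : Set.Ici p₀) ≤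
          LocCoh.depth (Localization.AtPrime p.asIdeal)
            (LocalizedModule p.asIdeal.primeCompl M) := WithBot.coe_le_coe.mp h4
      calc (n : ℕ∞) < SGA2.relCodim I p₀ := h1
        _ ≤ _ := h2
        _ = _ := h3
        _ ≤ _ := by
          rw [hq']
          exact add_le_add_left h4' _

end Groth.Agent.S2931
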