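import Groth.Statements.S2933
import Groth.Agent.H29.Hartshorne

set_option autoImplicit false
universe u
open LocCoh

namespace Groth.Agent.S2933

/-- Let A be a Noetherian ring with connected spectrum and d ≥ 1 an integer such that every prime p with
dim A_p ≥ d has depth A_p ≥ 2. Then for any two minimal primes p', p'' of A there is a finite
sequence of minimal primes starting at p' and ending at p'' such that any two consecutive members
are both contained in some prime of height at most d − 1 (Spec A is connected in codimension d − 1). -/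
theorem result (A : Type u) [CommRing A] [IsNoetherianRing A] [ConnectedSpace (PrimeSpectrum A)] (d : ℕ) (hd : 1 ≤ d) (h : ∀ p : PrimeSpectrum A, (d : ℕ∞) ≤ p.asIdeal.height → (2 : ℕ∞) ≤ LocCoh.depth (Localization.AtPrime p.asIdeal) (Localization.AtPrime p.asIdeal)) (p' p'' : PrimeSpectrum A) (hp' : p'.asIdeal ∈ minimalPrimes A) (hp'' : p''.asIdeal ∈ minimalPrimes A) : ∃ l : List (PrimeSpectrum A), l.head? = some p' ∧ l.getLast? = some p'' ∧ (∀ p ∈ l, p.asIdeal ∈ minimalPrimes A) ∧ List.IsChain (fun p q => ∃ r : PrimeSpectrum A, p ≤ r ∧ q ≤ r ∧ r.asIdeal.height ≤ (d - 1 : ℕ)) l := by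
  classical
  let Rel : PrimeSpectrum A → PrimeSpectrum A → Prop := fun p q =>
    ∃ r : PrimeSpectrum A, p ≤ r ∧ q ≤ r ∧ r.asIdeal.height ≤ (d - 1 : ℕ)
  let Q : Ideal A → Prop := fun p => ∃ (hp : p.IsPrime) (l : List (PrimeSpectrum A)),
    l.head? = some p' ∧ l.getLast? = some ⟨p, hp⟩ ∧ (∀ x ∈ l, x.asIdeal ∈ minimalPrimes A) ∧
      List.IsChain Rel l
  have hgoal : Q p''.asIdeal := by
    by_contra hcon
    have hQp' : Q p'.asIdeal :=
      ⟨p'.isPrime, [p'], rfl, rfl, by simpa using hp', List.isChain_singleton _⟩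
    obtain ⟨q, hqprime, hdepth, p₁, hp₁, p₂, hp₂, hp₂', hp₁q, hp₂q⟩ :=
      Groth.Agent.H29.exists_prime_of_partition A {p | p ∈ minimalPrimes A ∧ Q p}
        (fun p hp => hp.1) p'.asIdeal ⟨hp', hQp'⟩ p''.asIdeal hp'' (fun hh => hcon hh.2)
    have hlt : q.height < (d : ℕ∞) := by
      by_contra hlt
      push Not at hlt
      exact hdepth (h ⟨q, hqprime⟩ hlt)
    have hht : q.height ≤ ((d - 1 : ℕ) : ℕ∞) := by
      obtain ⟨k, hk⟩ := ENat.ne_top_iff_exists.mp (ne_top_of_lt hlt)
      rw [← hk] at hlt ⊢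
      have h1 : k < d := by exact_mod_cast hlt
      have h2 : k ≤ d - 1 := by omega
      exact_mod_cast h2
    apply hp₂'
    refine ⟨hp₂, ?_⟩
    obtain ⟨hp₁prime, l, hl0, hll, hlmin, hlchain⟩ := hp₁.2
    have hp₂prime : p₂.IsPrime := hp₂.1.1
    refine ⟨hp₂prime, l ++ [⟨p₂, hp₂prime⟩], ?_, ?_, ?_, ?_⟩
    · rw [List.head?_append, hl0]
      rfl
    · simp
    · intro x hx
      rw [List.mem_append] at hx
      rcases hx with hx | hx
      · exact hlmin x hx
      · rw [List.mem_singleton] at hx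
        rw [hx]
        exact hp₂
    · refine List.IsChain.append hlchain (List.isChain_singleton _) ?_
      intro x hx y hy
      rw [Option.mem_def, hll, Option.some.injEq] at hx
      have hy' : (⟨p₂, hp₂prime⟩ : PrimeSpectrum A) = y := by simpa using hy
      subst hx
      subst hy'
      exact ⟨⟨q, hqprime⟩, hp₁q, hp₂q, hht⟩
  obtain ⟨hp, l, h1, h2, h3, h4⟩ := hgoal
  exact ⟨l, h1, h2, h3, h4⟩

end Groth.Agent.S2933
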