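import Groth.Statements.S2934
import Groth.Agent.H13.LCDual4
import Groth.Agent.H13.LCFinLen
import Groth.Agent.S0342

set_option autoImplicit false
universe u
open LocCoh

namespace Groth.Agent.S2934

/-- Let A be a Noetherian local ring which is a quotient of a regular local ring, m its maximal ideal, M
a finite A-module and i ≥ 0. Then H^i_m(M) is an A-module of finite length if and only if for every
prime p ≠ m, writing e = dim A/p, the local cohomology H^{i−e} of M_p with support in the maximal
ideal of A_p vanishes (no condition when e > i). -/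
theorem result (R : Type u) [CommRing R] [IsRegularLocalRing R] (A : Type u) [CommRing A] [IsLocalRing A] [IsNoetherianRing A] (π : R →+* A) (hπ : Function.Surjective π) (M : Type u) [AddCommGroup M] [Module A M] [Module.Finite A M] (i : ℕ) : IsFiniteLength A (LocCoh.H (IsLocalRing.maximalIdeal A) i M) ↔ ∀ p : PrimeSpectrum A, p.asIdeal ≠ IsLocalRing.maximalIdeal A → ∀ (e j : ℕ), ringKrullDim (A ⧸ p.asIdeal) = e → j + e = i → Subsingleton (LocCoh.H (IsLocalRing.maximalIdeal (Localization.AtPrime p.asIdeal)) j (LocalizedModule p.asIdeal.primeCompl M)) := by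
  have hGor : LocCoh.IsGorensteinLocalRing R := Groth.Agent.S0342.result R
  let _ : Algebra R A := π.toAlgebra
  let _ : Module R M := Module.compHom M π
  have : IsScalarTower R A M := ⟨fun r' r m => by
    change (π r' * r) • m = π r' • (r • m)
    rw [mul_smul]⟩
  have h1 := Groth.Agent.H13.LC.isFiniteLength_H_iff A M i
  have h2 := Groth.Agent.H13.LC.le_radical_annihilator_iff_of_surjective (R' := R) (R := A) hπ M
    (IsLocalRing.maximalIdeal A) i
  refine h1.trans (h2.trans ?_)
  constructor
  · intro h p hp e j he hje
    refine h p.asIdeal (fun hle => hp ?_) j ?_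
    · exact ((IsLocalRing.maximalIdeal.isMaximal A).eq_of_le p.isPrime.ne_top hle).symm
    · rw [he]
      exact_mod_cast hje
  · intro h p _ hp j hj
    obtain ⟨e, he⟩ := Groth.Agent.H29.withBot_exists_natCast
      (Groth.Agent.H29.ringKrullDim_quotient_ne_bot A p)
      (Groth.Agent.H29.ringKrullDim_quotient_ne_top A p)
    refine h ⟨p, inferInstance⟩ (fun heq => hp (le_of_eq heq.symm)) e j he ?_
    rw [he] at hj
    exact_mod_cast hj

end Groth.Agent.S2934
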