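import Groth.Statements.S2955

set_option autoImplicit false
open RootPairing
open scoped Pointwise Classical
universe u
open RootD

namespace Groth.Agent.S2955

/-- Let P be a finite crystallographic reduced root pairing over a domain of characteristic zero, with a
base b, and write 2ρ for the sum of the positive roots with respect to b. Then for every simple root
β (an index in the support of b) the reflection in β sends 2ρ to 2ρ − 2β (equivalently, the coroot
of β pairs to 1 with ρ; only the reflection identity is asserted). -/
theorem result {ι R M N : Type*} [CommRing R] [CharZero R] [IsDomain R] [AddCommGroup M] [Module R M]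
    [AddCommGroup N] [Module R N] (P : RootPairing ι R M N) [Finite ι] [P.IsCrystallographic] [P.IsReduced]
    [Fintype ι] (b : P.Base) (j : ι) (hj : j ∈ b.support) :
    P.reflection j (∑ i, if b.IsPos i then P.root i else 0) =
      (∑ i, if b.IsPos i then P.root i else 0) - (2 : R) • P.root j := by
  classical
  have hsum : (∑ i, if b.IsPos i then P.root i else 0) =
      ∑ i ∈ Finset.univ.filter (fun i => b.IsPos i), P.root i := (Finset.sum_filter _ _).symm
  rw [hsum]
  set pos := Finset.univ.filter (fun i => b.IsPos i) with hpos
  have hmem : ∀ i, i ∈ pos ↔ b.IsPos i := fun i => by simp [hpos]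
  have hjpos : j ∈ pos := (hmem j).mpr (b.isPos_of_mem_support hj)
  have hσ : ∀ i, i ∈ pos.erase j → P.reflectionPerm j i ∈ pos.erase j := by
    intro i hi
    rw [Finset.mem_erase] at hi ⊢
    obtain ⟨hij, hip⟩ := hi
    have hip' : b.IsPos i := (hmem i).mp hip
    refine ⟨?_, (hmem _).mpr (hip'.reflectionPerm hj hij)⟩
    intro h
    have hi' : i = P.reflectionPerm j j := by
      have := P.reflectionPerm_self j i
      rw [h] at this
      exact this.symm
    rw [hi'] at hip'
    have h2 : b.height (P.reflectionPerm j j) = -b.height j := b.height_reflectionPerm_self j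
    rw [RootPairing.Base.isPos_iff] at hip'
    have h1 := b.height_one_of_mem_support hj
    omega
  rw [map_sum]
  rw [← Finset.add_sum_erase pos _ hjpos, ← Finset.add_sum_erase pos (fun i => P.root i) hjpos]
  have h1 : ∑ i ∈ pos.erase j, P.reflection j (P.root i) = ∑ i ∈ pos.erase j, P.root i := by
    refine Finset.sum_bij' (fun i _ => P.reflectionPerm j i) (fun i _ => P.reflectionPerm j i)
      (fun i hi => hσ i hi) (fun i hi => hσ i hi) (fun i _ => P.reflectionPerm_self j i)
      (fun i _ => P.reflectionPerm_self j i) (fun i _ => (P.root_reflectionPerm j i).symm)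
  rw [h1, P.reflection_apply_self, two_smul]
  abel

end Groth.Agent.S2955
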