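import Groth.Statements.S2965
import Mathlib
-- import your own Groth.Agent.* helpers here

set_option autoImplicit false
universe u
open SGA3t2b

namespace Groth.Agent.S2965

open Polynomial in
/-- Implication (iv) ⇒ (i) (global form, finite free module): let u be an endomorphism of a finite free
module M over a commutative ring A whose characteristic polynomial is X^r · Q with Q(0) invertible.
Then M is the direct sum of two u-stable submodules M', M'' such that u is nilpotent on M' and
bijective on M''. -/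
theorem result {A : Type u} [CommRing A] {M : Type u} [AddCommGroup M] [Module A M]
    [Module.Free A M] [Module.Finite A M] (u : M →ₗ[A] M) (r : ℕ) (Q : A[X]) (hQ : IsUnit (Q.coeff 0))
    (h : u.charpoly = X ^ r * Q) :
    ∃ M' M'' : Submodule A M, IsCompl M' M'' ∧ (∀ x ∈ M', u x ∈ M') ∧ (∀ x ∈ M'', u x ∈ M'') ∧
      (∃ n : ℕ, ∀ x ∈ M', (u ^ n) x = 0) ∧ Set.BijOn u M'' M'' := by
  obtain ⟨c, hc⟩ := hQ.exists_left_inv
  obtain ⟨B, hBdef⟩ : ∃ B : A[X], B = -(C c * Q.divX) := ⟨_, rfl⟩
  have hB : B * X + C c * Q = 1 := by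
    have hQ' := Polynomial.divX_mul_X_add Q
    have h2 : Q - Q.divX * X = C (Q.coeff 0) :=
      sub_eq_iff_eq_add.mpr (hQ'.symm.trans (add_comm _ _))
    calc B * X + C c * Q = C c * (Q - Q.divX * X) := by rw [hBdef]; ring
      _ = C c * C (Q.coeff 0) := by rw [h2]
      _ = 1 := by rw [← C_mul, hc, C_1]
  have hcop1 : IsCoprime (X : A[X]) Q := ⟨B, C c, hB⟩
  have hcop : IsCoprime (X ^ r : A[X]) Q := hcop1.pow_left
  have hsup : LinearMap.ker (aeval u (X ^ r : A[X])) ⊔ LinearMap.ker (aeval u Q) = ⊤ := by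
    rw [Polynomial.sup_ker_aeval_eq_ker_aeval_mul_of_coprime u hcop, ← h,
      LinearMap.aeval_self_charpoly, LinearMap.ker_zero]
  have hcomm2 : ∀ (P P' : A[X]) (x : M),
      aeval u P (aeval u P' x) = aeval u P' (aeval u P x) := by
    intro P P' x
    have h1 : aeval u (P * P') = aeval u (P' * P) := by rw [mul_comm]
    rw [map_mul, map_mul] at h1
    exact LinearMap.congr_fun h1 x
  have hcomm : ∀ (P : A[X]) (x : M), aeval u P (u x) = u (aeval u P x) := by
    intro P x
    have h1 := hcomm2 P X x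
    rwa [aeval_X] at h1
  have e1 : ∀ x, aeval u B (u x) + c • aeval u Q x = x := by
    intro x
    have h3 : aeval u (B * X + C c * Q) = 1 := by rw [hB, map_one]
    rw [map_add, map_mul, map_mul, aeval_X, aeval_C] at h3
    have h4 := LinearMap.congr_fun h3 x
    rw [LinearMap.add_apply, Module.End.mul_apply, Module.End.mul_apply,
      Module.algebraMap_end_apply, Module.End.one_apply] at h4
    exact h4
  have hinv : ∀ x, aeval u Q x = 0 → aeval u B (u x) = x := by
    intro x hx
    have h5 := e1 x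
    rwa [hx, smul_zero, add_zero] at h5
  refine ⟨LinearMap.ker (aeval u (X ^ r : A[X])), LinearMap.ker (aeval u Q),
    ⟨Polynomial.disjoint_ker_aeval_of_isCoprime u hcop, codisjoint_iff.mpr hsup⟩,
    ?_, ?_, ?_, ?_⟩
  · intro x hx
    rw [LinearMap.mem_ker] at hx ⊢
    rw [hcomm, hx, map_zero]
  · intro x hx
    rw [LinearMap.mem_ker] at hx ⊢
    rw [hcomm, hx, map_zero]
  · refine ⟨r, fun x hx => ?_⟩
    rw [LinearMap.mem_ker, map_pow, aeval_X] at hx
    exact hx
  · refine ⟨?_, ?_, ?_⟩
    · intro x hx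
      rw [SetLike.mem_coe, LinearMap.mem_ker] at hx ⊢
      rw [hcomm, hx, map_zero]
    · intro x hx y hy hxy
      rw [SetLike.mem_coe, LinearMap.mem_ker] at hx hy
      calc x = aeval u B (u x) := (hinv x hx).symm
        _ = aeval u B (u y) := by rw [hxy]
        _ = y := hinv y hy
    · intro y hy
      rw [SetLike.mem_coe, LinearMap.mem_ker] at hy
      refine ⟨aeval u B y, ?_, ?_⟩
      · rw [SetLike.mem_coe, LinearMap.mem_ker, hcomm2, hy, map_zero]
      · rw [← hcomm, hinv y hy]

end Groth.Agent.S2965
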