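import Groth.Statements.S2967
import Mathlib
-- import your own Groth.Agent.* helpers here

set_option autoImplicit false
universe u
open SGA3t2b

namespace Groth.Agent.S2967

/-- A commutative p-Lie algebra over a field k of characteristic p is recorded as a k-vector space g
together with its p-th power map φ, which is additive and Frobenius-semilinear. Let g be
finite-dimensional and non-zero, and assume every element of g is killed by some iterate of φ (g is
unipotent). Then the k-subspace of g spanned by the image φ(g) is a proper subspace. -/
theorem result {k : Type u} [Field k] (p : ℕ) [Fact p.Prime] [CharP k p]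
    {V : Type u} [AddCommGroup V] [Module k V] [FiniteDimensional k V] [Nontrivial V]
    (φ : V →ₛₗ[frobenius k p] V) (hφ : ∀ x : V, ∃ n : ℕ, φ^[n] x = 0) :
    Submodule.span k (Set.range φ) ≠ ⊤ := by
  intro htop
  have hiter : ∀ n : ℕ, Submodule.span k (Set.range (φ^[n])) = ⊤ := by
    intro n
    induction n with
    | zero =>
      rw [Function.iterate_zero, Set.range_id, Submodule.span_univ]
    | succ n ih =>
      rw [eq_top_iff, ← htop, Submodule.span_le]
      rintro _ ⟨x, rfl⟩
      show φ x ∈ Submodule.span k (Set.range (φ^[n + 1]))
      have hx : x ∈ Submodule.span k (Set.range (φ^[n])) := by rw [ih]; trivial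
      induction hx using Submodule.span_induction with
      | mem y hy =>
        obtain ⟨z, rfl⟩ := hy
        apply Submodule.subset_span
        exact ⟨z, Function.iterate_succ_apply' φ n z⟩
      | zero => rw [map_zero]; exact Submodule.zero_mem _
      | add a b _ _ ha hb => rw [map_add]; exact Submodule.add_mem _ ha hb
      | smul c a _ ha => rw [map_smulₛₗ]; exact Submodule.smul_mem _ _ ha
  have hz : ∀ m : ℕ, φ^[m] 0 = 0 := by
    intro m
    induction m with
    | zero => rfl
    | succ m ih => rw [Function.iterate_succ_apply', ih, map_zero]
  have hsmul : ∀ (m : ℕ) (c : k) (x : V),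
      φ^[m] (c • x) = ((frobenius k p)^[m] c) • φ^[m] x := by
    intro m
    induction m with
    | zero => intro c x; rfl
    | succ m ih =>
      intro c x
      simp only [Function.iterate_succ_apply', ih, map_smulₛₗ]
  obtain ⟨S, hS⟩ := (Module.Finite.fg_top : (⊤ : Submodule k V).FG)
  choose n hn using hφ
  obtain ⟨N, hN⟩ : ∃ N : ℕ, N = S.sup n := ⟨_, rfl⟩
  have hS0 : ∀ s ∈ S, φ^[N] s = 0 := by
    intro s hs
    have hle : n s ≤ N := by rw [hN]; exact Finset.le_sup hs
    obtain ⟨d, hd⟩ := Nat.exists_eq_add_of_le hle
    rw [hd, add_comm, Function.iterate_add_apply, hn s, hz]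
  have hall : ∀ x : V, φ^[N] x = 0 := by
    intro x
    have hx : x ∈ Submodule.span k (S : Set V) := by rw [hS]; trivial
    induction hx using Submodule.span_induction with
    | mem y hy => exact hS0 y hy
    | zero => exact hz N
    | add a b _ _ ha hb => rw [iterate_map_add, ha, hb, add_zero]
    | smul c a _ ha => rw [hsmul, ha, smul_zero]
  have hbot : Submodule.span k (Set.range (φ^[N])) = ⊥ := by
    rw [Submodule.span_eq_bot]
    rintro _ ⟨x, rfl⟩
    exact hall x
  rw [hiter N] at hbot
  exact top_ne_bot hbot

end Groth.Agent.S2967
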