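import Groth.Statements.S2978
import Mathlib

set_option autoImplicit false
universe u
open SGA3b

namespace Groth.Agent.S2978

/-- Let A be a Noetherian ring, M a set and a : M × M → A a family vanishing off the diagonal which is a
finite sum of decomposable families: a(m, m') = Σ_i b_i(m) c_i(m') for finitely many b_i, c_i : M →
A. Then a has finite support. -/
theorem result (A : Type u) [CommRing A] [IsNoetherianRing A] (M : Type u)
    (a : M × M → A) (hdiag : ∀ m m', m ≠ m' → a (m, m') = 0)
    (ι : Type u) [Fintype ι] (b c : ι → M → A) (hdec : ∀ m m', a (m, m') = ∑ i, b i m * c i m') :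
    Set.Finite {p : M × M | a p ≠ 0} := by
  classical
  rcases isEmpty_or_nonempty M with hM | hM
  · rw [Set.eq_empty_of_isEmpty {p : M × M | a p ≠ 0}]
    exact Set.finite_empty
  obtain ⟨v, hv⟩ : ∃ v : M → (ι → A), ∀ m i, v m i = b i m := ⟨fun m i => b i m, fun _ _ => rfl⟩
  have hfg : (Submodule.span A (Set.range v)).FG := IsNoetherian.noetherian _
  obtain ⟨T, hTsub, hTspan⟩ := (Submodule.fg_span_iff_fg_span_finset_subset _).mp hfg
  have hT : ∀ t ∈ T, ∃ m, v m = t := fun t ht => hTsub ht
  choose! pre hpre using hT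
  obtain ⟨F, hF⟩ : ∃ F : Finset M, F = T.image pre := ⟨_, rfl⟩
  apply Set.Finite.subset ((F ×ˢ F : Finset (M × M)).finite_toSet)
  rintro ⟨m, m'⟩ hne
  simp only [Set.mem_setOf_eq] at hne
  have hmm : m = m' := by
    by_contra hcon
    exact hne (hdiag m m' hcon)
  subst hmm
  suffices hmF : m ∈ F by simp [hmF]
  by_contra hmF
  apply hne
  obtain ⟨L, hL⟩ : ∃ L : (ι → A) →ₗ[A] A, ∀ w, L w = ∑ i, w i * c i m :=
    ⟨∑ i, (c i m) • (LinearMap.proj i : (ι → A) →ₗ[A] A), fun w => by
      simp [LinearMap.sum_apply, mul_comm]⟩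
  have hLv : ∀ m'', L (v m'') = a (m'', m) := by
    intro m''
    rw [hL, hdec]
    exact Finset.sum_congr rfl fun i _ => by rw [hv]
  have hmem : v m ∈ Submodule.span A (T : Set (ι → A)) := by
    rw [← hTspan]
    exact Submodule.subset_span ⟨m, rfl⟩
  have hker : Submodule.span A (T : Set (ι → A)) ≤ LinearMap.ker L := by
    rw [Submodule.span_le]
    intro t ht
    rw [SetLike.mem_coe, LinearMap.mem_ker, ← hpre t ht, hLv]
    apply hdiag
    intro h
    apply hmF
    rw [hF, ← h]
    exact Finset.mem_image_of_mem pre ht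
  have h2 := hker hmem
  rw [LinearMap.mem_ker, hLv] at h2
  exact h2

end Groth.Agent.S2978
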