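import Groth.Statements.S3021
import Mathlib

set_option autoImplicit false
universe u
open CategoryTheory MonoidalCategory CartesianMonoidalCategory MonObj GrpObj AlgebraicGeometry TensorProduct
open SGA3

namespace Groth.Agent.S3021


open TensorProduct

section Aux

variable {A : Type u} [CommRing A] {C : Type u} [AddCommGroup C] [Module A C]
  {V : Type u} [AddCommGroup V] [Module A V]

/-- contraction with a functional on `C` -/
noncomputable def Tc (φ : C →ₗ[A] A) : V ⊗[A] C →ₗ[A] V :=
  (TensorProduct.rid A V).toLinearMap ∘ₗ φ.lTensor V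

theorem Tc_tmul (φ : C →ₗ[A] A) (v : V) (c : C) : Tc φ (v ⊗ₜ[A] c) = φ c • v := by
  simp [Tc]

theorem Tc_lTensor (ψ : C →ₗ[A] A) (F : C →ₗ[A] C) (t : V ⊗[A] C) :
    Tc ψ ((F.lTensor V) t) = Tc (ψ ∘ₗ F) t := by
  induction t using TensorProduct.induction_on with
  | zero => simp
  | tmul w a => simp [Tc_tmul]
  | add x y hx hy => simp only [map_add, hx, hy]

noncomputable def Gm (φ : C →ₗ[A] A) : C ⊗[A] C →ₗ[A] C :=
  (TensorProduct.rid A C).toLinearMap ∘ₗ φ.lTensor C

theorem Gm_tmul (φ : C →ₗ[A] A) (b a : C) : Gm φ (b ⊗ₜ[A] a) = φ a • b := by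
  simp [Gm]

theorem core1 (φ : C →ₗ[A] A) (t : V ⊗[A] C) (a : C) :
    ((Gm φ).lTensor V) ((TensorProduct.assoc A V C C) (t ⊗ₜ[A] a)) = φ a • t := by
  induction t using TensorProduct.induction_on with
  | zero => simp
  | tmul w b =>
    rw [TensorProduct.assoc_tmul, LinearMap.lTensor_tmul, Gm_tmul, TensorProduct.tmul_smul]
  | add x y hx hy => rw [TensorProduct.add_tmul, map_add, map_add, hx, hy, smul_add]

variable [DecidableEq C]

/-- the finsupp expansion with respect to a projective "dual basis" -/
noncomputable def Th (s : C →ₗ[A] (C →₀ A)) : V ⊗[A] C →ₗ[A] (C →₀ V) :=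
  (TensorProduct.finsuppScalarRight A A V C).toLinearMap ∘ₗ s.lTensor V

theorem Th_apply (s : C →ₗ[A] (C →₀ A)) (t : V ⊗[A] C) (c' : C) :
    Th s t c' = Tc (Finsupp.lapply c' ∘ₗ s) t := by
  induction t using TensorProduct.induction_on with
  | zero => simp
  | tmul w a =>
    simp only [Th, LinearMap.comp_apply, LinearMap.lTensor_tmul, LinearEquiv.coe_coe,
      TensorProduct.finsuppScalarRight_apply_tmul_apply, Tc_tmul, Finsupp.lapply_apply]
  | add x y hx hy => simp only [map_add, Finsupp.add_apply, hx, hy]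

noncomputable def Ps : (C →₀ V) →ₗ[A] V ⊗[A] C :=
  Finsupp.lsum A (fun c' => (TensorProduct.mk A V C).flip c')

theorem Ps_apply (f : C →₀ V) : Ps f = f.sum (fun c' v => v ⊗ₜ[A] c') := by
  simp [Ps, Finsupp.lsum_apply, Finsupp.sum]

theorem Ps_Th (s : C →ₗ[A] (C →₀ A)) (hs : Finsupp.linearCombination A id ∘ₗ s = LinearMap.id)
    (t : V ⊗[A] C) : Ps (Th s t) = t := by
  induction t using TensorProduct.induction_on with
  | zero => simp
  | tmul w a =>
    have h1 : Th s (w ⊗ₜ[A] a) = (s a).sum fun i n => Finsupp.single i (n • w) := by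
      simp only [Th, LinearMap.comp_apply, LinearMap.lTensor_tmul, LinearEquiv.coe_coe,
        TensorProduct.finsuppScalarRight_apply_tmul]
    rw [h1, Finsupp.sum, map_sum]
    have h2 : ∀ i ∈ (s a).support, Ps (Finsupp.single i ((s a) i • w)) = w ⊗ₜ[A] ((s a) i • i) := by
      intro i _
      rw [Ps_apply, Finsupp.sum_single_index (by simp), TensorProduct.smul_tmul]
    rw [Finset.sum_congr rfl h2, ← TensorProduct.tmul_sum]
    congr 1
    have h3 := LinearMap.congr_fun hs a
    simp only [LinearMap.comp_apply, LinearMap.id_apply, Finsupp.linearCombination_apply,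
      Finsupp.sum, id] at h3
    exact h3
  | add x y hx hy => simp only [map_add, hx, hy]

theorem mem_range_of_Tc (s : C →ₗ[A] (C →₀ A))
    (hs : Finsupp.linearCombination A id ∘ₗ s = LinearMap.id) (W : Submodule A V)
    (y : V ⊗[A] C) (h : ∀ φ : C →ₗ[A] A, Tc φ y ∈ W) :
    y ∈ LinearMap.range (W.subtype.rTensor C) := by
  rw [← Ps_Th s hs y, Ps_apply, Finsupp.sum]
  apply Submodule.sum_mem
  intro c' _
  have hw : Th s y c' ∈ W := by rw [Th_apply]; exact h _
  exact ⟨(⟨Th s y c', hw⟩ : W) ⊗ₜ[A] c', by simp⟩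

theorem Tc_expand (s : C →ₗ[A] (C →₀ A))
    (hs : Finsupp.linearCombination A id ∘ₗ s = LinearMap.id) (φ : C →ₗ[A] A) (y : V ⊗[A] C) :
    Tc φ y = ∑ c' ∈ (Th s y).support, φ c' • Th s y c' := by
  conv_lhs => rw [← Ps_Th s hs y, Ps_apply, Finsupp.sum, map_sum]
  apply Finset.sum_congr rfl
  intro c' _
  rw [Tc_tmul]

variable [Coalgebra A C] [HopfRep.Comod A C V]

theorem core2 (φ : C →ₗ[A] A) (t : V ⊗[A] C) :
    ((Gm φ).lTensor V) ((TensorProduct.assoc A V C C)
      (((HopfRep.Comod.coact (k := A) (A := C) (V := V)).rTensor C) t)) =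
    HopfRep.Comod.coact (k := A) (A := C) (Tc φ t) := by
  induction t using TensorProduct.induction_on with
  | zero => simp
  | tmul w a =>
    rw [LinearMap.rTensor_tmul, core1, Tc_tmul, map_smul]
  | add x y hx hy => simp only [map_add, hx, hy]

theorem coact_Tc (φ : C →ₗ[A] A) (v : V) :
    HopfRep.Comod.coact (k := A) (A := C) (Tc φ (HopfRep.Comod.coact (k := A) (A := C) v)) =
      (((Gm φ) ∘ₗ (CoalgebraStruct.comul (R := A) (A := C))).lTensor V)
        (HopfRep.Comod.coact (k := A) (A := C) v) := by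
  have h := LinearMap.congr_fun (HopfRep.Comod.coassoc (k := A) (A := C) (V := V)) v
  simp only [LinearMap.comp_apply, LinearEquiv.coe_coe] at h
  rw [LinearMap.lTensor_comp_apply, ← h, core2]

end Aux


/-- Let A be a commutative ring, C an A-coalgebra which is projective as an A-module, V a C-comodule and
M an A-submodule of V. Then there is a smallest subcomodule of V containing M, and it is finitely
generated over A when M is. -/
theorem result (A : Type u) [CommRing A] (C : Type u) [AddCommGroup C] [Module A C]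
    [Coalgebra A C] [Module.Projective A C] (V : Type u) [AddCommGroup V] [Module A V] [HopfRep.Comod A C V]
    (M : Submodule A V) :
    ∃ W : Submodule A V, HopfRep.IsSubcomod (k := A) (A := C) W ∧ M ≤ W ∧
      (∀ W' : Submodule A V, HopfRep.IsSubcomod (k := A) (A := C) W' → M ≤ W' → W ≤ W') ∧
      (M.FG → W.FG) := by
  classical
  obtain ⟨s, hs⟩ := (Module.projective_def' (R := A) (P := C)).1 inferInstance
  obtain ⟨W, hW⟩ : ∃ W : Submodule A V, W = Submodule.span A
      {w | ∃ m ∈ M, ∃ φ : C →ₗ[A] A, w = Tc φ (HopfRep.Comod.coact (k := A) (A := C) m)} :=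
    ⟨_, rfl⟩
  have hgen : ∀ m ∈ M, ∀ φ : C →ₗ[A] A,
      Tc φ (HopfRep.Comod.coact (k := A) (A := C) m) ∈ W := fun m hm φ => by
    rw [hW]; exact Submodule.subset_span ⟨m, hm, φ, rfl⟩
  refine ⟨W, ?_, ?_, ?_, ?_⟩
  · unfold HopfRep.IsSubcomod
    intro w hw
    rw [hW] at hw
    induction hw using Submodule.span_induction with
    | mem w hw =>
      obtain ⟨m, hm, φ, rfl⟩ := hw
      apply mem_range_of_Tc s hs
      intro ψ
      rw [coact_Tc, Tc_lTensor]
      exact hgen m hm _
    | zero => rw [map_zero]; exact zero_mem _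
    | add x y _ _ hx hy => rw [map_add]; exact add_mem hx hy
    | smul c x _ hx => rw [map_smul]; exact Submodule.smul_mem _ c hx
  · intro m hm
    have hv : Tc (CoalgebraStruct.counit (R := A) (A := C))
        (HopfRep.Comod.coact (k := A) (A := C) m) = m := by
      have h := LinearMap.congr_fun (HopfRep.Comod.counit_comp (k := A) (A := C) (V := V)) m
      simp only [LinearMap.comp_apply, LinearMap.flip_apply, TensorProduct.mk_apply] at h
      show (TensorProduct.rid A V) (((CoalgebraStruct.counit (R := A) (A := C)).lTensor V)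
        (HopfRep.Comod.coact (k := A) (A := C) m)) = m
      rw [h, TensorProduct.rid_tmul, one_smul]
    rw [← hv]; exact hgen m hm _
  · intro W' hW' hM
    rw [hW, Submodule.span_le]
    rintro _ ⟨m, hm, φ, rfl⟩
    obtain ⟨t, ht⟩ := hW' m (hM hm)
    rw [← ht]
    clear ht
    induction t using TensorProduct.induction_on with
    | zero => simp
    | tmul w a =>
      rw [LinearMap.rTensor_tmul, Tc_tmul]
      exact W'.smul_mem _ w.2
    | add x y hx hy => simp only [map_add]; exact add_mem hx hy
  · rintro ⟨S, hS⟩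
    obtain ⟨F, hF⟩ : ∃ F : Finset V, F = S.biUnion (fun m =>
        (Th s (HopfRep.Comod.coact (k := A) (A := C) m)).support.image
          (fun c' => Th s (HopfRep.Comod.coact (k := A) (A := C) m) c')) := ⟨_, rfl⟩
    refine ⟨F, le_antisymm ?_ ?_⟩
    · rw [Submodule.span_le]
      intro x hx
      rw [hF] at hx
      simp only [Finset.coe_biUnion, Finset.coe_image, Set.mem_iUnion, Set.mem_image,
        Finset.mem_coe, exists_prop] at hx
      obtain ⟨m, hm, c', _, rfl⟩ := hx
      rw [Th_apply]
      apply hgen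
      rw [← hS]
      exact Submodule.subset_span hm
    · rw [hW, Submodule.span_le]
      rintro _ ⟨m, hm, φ, rfl⟩
      have hsub : M ≤ (Submodule.span A (F : Set V)).comap
          (Tc φ ∘ₗ HopfRep.Comod.coact (k := A) (A := C)) := by
        rw [← hS, Submodule.span_le]
        intro m' hm'
        show Tc φ (HopfRep.Comod.coact (k := A) (A := C) m') ∈ Submodule.span A (F : Set V)
        rw [Tc_expand s hs]
        apply Submodule.sum_mem
        intro c' hc'
        apply Submodule.smul_mem
        apply Submodule.subset_span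
        rw [hF]
        simp only [Finset.coe_biUnion, Finset.coe_image, Set.mem_iUnion, Set.mem_image,
          Finset.mem_coe, exists_prop]
        exact ⟨m', hm', c', hc', rfl⟩
      exact hsub hm

end Groth.Agent.S3021
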