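import Groth.Statements.S3032
import Mathlib

set_option autoImplicit false
universe u
open CategoryTheory MonoidalCategory CartesianMonoidalCategory MonObj GrpObj AlgebraicGeometry TensorProduct
open SGA3

namespace Groth.Agent.S3032


open TensorProduct

section Aux

variable {R : Type u} [CommRing R] {C : Type u} [AddCommGroup C] [Module R C]
  {V : Type u} [AddCommGroup V] [Module R V]

theorem range_mono {N N' : Submodule R V} (h : N ≤ N') :
    LinearMap.range (N.subtype.rTensor C) ≤ LinearMap.range (N'.subtype.rTensor C) := by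
  rw [← Submodule.subtype_comp_inclusion N N' h, LinearMap.rTensor_comp]
  exact LinearMap.range_comp_le_range _ _

theorem exists_fg_range (x : V ⊗[R] C) :
    ∃ N : Submodule R V, N.FG ∧ x ∈ LinearMap.range (N.subtype.rTensor C) := by
  induction x using TensorProduct.induction_on with
  | zero => exact ⟨⊥, Submodule.fg_bot, zero_mem _⟩
  | tmul v c =>
    refine ⟨Submodule.span R {v}, Submodule.fg_span_singleton v,
      ⟨(⟨v, Submodule.mem_span_singleton_self v⟩ : Submodule.span R {v}) ⊗ₜ[R] c, by simp⟩⟩
  | add x y hx hy =>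
    obtain ⟨N₁, h1, hx1⟩ := hx
    obtain ⟨N₂, h2, hy2⟩ := hy
    exact ⟨N₁ ⊔ N₂, h1.sup h2,
      add_mem (range_mono le_sup_left hx1) (range_mono le_sup_right hy2)⟩

theorem exists_fg_range_finset (f : V →ₗ[R] V ⊗[R] C) (S : Finset V) :
    ∃ N : Submodule R V, N.FG ∧ ∀ m ∈ S, f m ∈ LinearMap.range (N.subtype.rTensor C) := by
  classical
  induction S using Finset.induction_on with
  | empty => exact ⟨⊥, Submodule.fg_bot, fun m hm => absurd hm (Finset.notMem_empty m)⟩
  | insert a S _ ih =>
    obtain ⟨N₁, h1, hN1⟩ := ih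
    obtain ⟨N₂, h2, hN2⟩ := exists_fg_range (C := C) (f a)
    refine ⟨N₁ ⊔ N₂, h1.sup h2, ?_⟩
    intro m hm
    rcases Finset.mem_insert.1 hm with rfl | hm
    · exact range_mono le_sup_right hN2
    · exact range_mono le_sup_left (hN1 m hm)

theorem rid_counit_mem (ε : C →ₗ[R] R) (N : Submodule R V) (t : N ⊗[R] C) :
    (TensorProduct.rid R V) ((ε.lTensor V) ((N.subtype.rTensor C) t)) ∈ N := by
  induction t using TensorProduct.induction_on with
  | zero => simp
  | tmul n c =>
    rw [LinearMap.rTensor_tmul, LinearMap.lTensor_tmul, TensorProduct.rid_tmul]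
    exact N.smul_mem _ n.2
  | add x y hx hy => simp only [map_add]; exact add_mem hx hy

theorem key_zero (Δ : C →ₗ[R] C ⊗[R] C) (N : Submodule R V) (t : N ⊗[R] C) :
    (((LinearMap.range (N.subtype.rTensor C)).mkQ).rTensor C)
      ((TensorProduct.assoc R V C C).symm ((Δ.lTensor V) ((N.subtype.rTensor C) t))) = 0 := by
  have h1 : ∀ (n : N) (d : C ⊗[R] C),
      (((LinearMap.range (N.subtype.rTensor C)).mkQ).rTensor C)
        ((TensorProduct.assoc R V C C).symm ((n : V) ⊗ₜ[R] d)) = 0 := by
    intro n d
    induction d using TensorProduct.induction_on with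
    | zero => simp
    | tmul c₁ c₂ =>
      rw [TensorProduct.assoc_symm_tmul, LinearMap.rTensor_tmul]
      have h0 : (LinearMap.range (N.subtype.rTensor C)).mkQ ((n : V) ⊗ₜ[R] c₁) = 0 := by
        rw [Submodule.mkQ_apply, Submodule.Quotient.mk_eq_zero]
        exact ⟨n ⊗ₜ[R] c₁, by simp⟩
      rw [h0, TensorProduct.zero_tmul]
    | add x y hx hy => rw [TensorProduct.tmul_add, map_add, map_add, hx, hy, add_zero]
  induction t using TensorProduct.induction_on with
  | zero => simp
  | tmul n c =>
    rw [LinearMap.rTensor_tmul, LinearMap.lTensor_tmul]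
    exact h1 n (Δ c)
  | add x y hx hy => simp only [map_add, hx, hy, add_zero]

end Aux


/-- Let R be a Noetherian commutative ring, C an R-coalgebra which is flat as an R-module, V a
C-comodule and M a finitely generated R-submodule of V. Then M is contained in a subcomodule of V
which is finitely generated over R. -/
theorem result (R : Type u) [CommRing R] [IsNoetherianRing R] (C : Type u) [AddCommGroup C]
    [Module R C] [Coalgebra R C] [Module.Flat R C] (V : Type u) [AddCommGroup V] [Module R V] [HopfRep.Comod R C V]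
    (M : Submodule R V) (hM : M.FG) :
    ∃ W : Submodule R V, HopfRep.IsSubcomod (k := R) (A := C) W ∧ M ≤ W ∧ W.FG := by
  classical
  obtain ⟨S, hS⟩ := hM
  obtain ⟨N, hNfg, hN⟩ := exists_fg_range_finset (C := C)
    (HopfRep.Comod.coact (k := R) (A := C) (V := V)) S
  obtain ⟨j, hj⟩ : ∃ j : N ⊗[R] C →ₗ[R] V ⊗[R] C, j = N.subtype.rTensor C := ⟨_, rfl⟩
  obtain ⟨π, hπ⟩ : ∃ π : V ⊗[R] C →ₗ[R] (V ⊗[R] C) ⧸ LinearMap.range j,
      π = (LinearMap.range j).mkQ := ⟨_, rfl⟩
  obtain ⟨W, hW⟩ : ∃ W : Submodule R V,
      W = LinearMap.ker (π ∘ₗ HopfRep.Comod.coact (k := R) (A := C) (V := V)) := ⟨_, rfl⟩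
  have hmemW : ∀ w : V, w ∈ W ↔ HopfRep.Comod.coact (k := R) (A := C) w ∈ LinearMap.range j := by
    intro w
    rw [hW, LinearMap.mem_ker, LinearMap.comp_apply, hπ, Submodule.mkQ_apply,
      Submodule.Quotient.mk_eq_zero]
  have hMW : M ≤ W := by
    have : M ≤ (LinearMap.range j).comap (HopfRep.Comod.coact (k := R) (A := C) (V := V)) := by
      rw [← hS, Submodule.span_le]
      intro m hm
      show HopfRep.Comod.coact (k := R) (A := C) m ∈ LinearMap.range j
      rw [hj]; exact hN m hm
    intro m hm
    exact (hmemW m).2 (this hm)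
  have hWN : W ≤ N := by
    intro w hw
    obtain ⟨t, ht⟩ := (hmemW w).1 hw
    have h := LinearMap.congr_fun (HopfRep.Comod.counit_comp (k := R) (A := C) (V := V)) w
    simp only [LinearMap.comp_apply, LinearMap.flip_apply, TensorProduct.mk_apply] at h
    have h2 : w = (TensorProduct.rid R V) (((CoalgebraStruct.counit (R := R) (A := C)).lTensor V)
        (HopfRep.Comod.coact (k := R) (A := C) w)) := by
      rw [h, TensorProduct.rid_tmul, one_smul]
    rw [h2, ← ht, hj]
    exact rid_counit_mem _ N t
  refine ⟨W, ?_, hMW, ?_⟩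
  · unfold HopfRep.IsSubcomod
    intro w hw
    have hex : Function.Exact (W.subtype.rTensor C)
        ((π ∘ₗ HopfRep.Comod.coact (k := R) (A := C) (V := V)).rTensor C) := by
      rw [hW]
      exact Module.Flat.rTensor_exact C (LinearMap.exact_subtype_ker_map _)
    apply (hex _).1
    rw [LinearMap.rTensor_comp_apply]
    obtain ⟨t, ht⟩ := (hmemW w).1 hw
    have hco := LinearMap.congr_fun (HopfRep.Comod.coassoc (k := R) (A := C) (V := V)) w
    simp only [LinearMap.comp_apply, LinearEquiv.coe_coe] at hco
    have h3 : ((HopfRep.Comod.coact (k := R) (A := C) (V := V)).rTensor C)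
        (HopfRep.Comod.coact (k := R) (A := C) w) =
        (TensorProduct.assoc R V C C).symm (((CoalgebraStruct.comul (R := R) (A := C)).lTensor V)
          (HopfRep.Comod.coact (k := R) (A := C) w)) := by
      rw [← hco, LinearEquiv.symm_apply_apply]
    rw [h3, ← ht, hπ, hj]
    exact key_zero _ N t
  · haveI := isNoetherian_of_fg_of_noetherian N hNfg
    have h1 : (W.comap N.subtype).FG := IsNoetherian.noetherian _
    have h2 := h1.map N.subtype
    rw [Submodule.map_comap_subtype, inf_eq_right.2 hWN] at h2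
    exact h2

end Groth.Agent.S3032
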