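import Groth.Statements.S3043
import Mathlib

set_option autoImplicit false
universe u
open CategoryTheory MonoidalCategory CartesianMonoidalCategory MonObj GrpObj AlgebraicGeometry TensorProduct
open SGA3

namespace Groth.Agent.S3043

/-- Let π : X → S be a morphism of schemes admitting a section ε (ε followed by π is the identity). If π
is injective on underlying points, then π is an integral morphism. -/
theorem result (X S : Scheme.{u}) (π : X ⟶ S) (ε : S ⟶ X) (hε : ε ≫ π = 𝟙 S)
    (hinj : Function.Injective π.base) : IsIntegralHom π := by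
  have hπε : ∀ s : S, π (ε s) = s := fun s => by
    rw [← Scheme.Hom.comp_apply, hε]; rfl
  have hεπ : ∀ x : X, ε (π x) = x := fun x => hinj (hπε (π x))
  haveI : IsAffineHom π := by
    apply isAffineHom_of_isInducing
    · let e : X ≃ₜ S :=
        { toFun := π, invFun := ε, left_inv := hεπ, right_inv := hπε,
          continuous_toFun := π.continuous, continuous_invFun := ε.continuous }
      exact e.isInducing
    · have : Set.range π = Set.univ := Set.range_eq_univ.mpr (fun s => ⟨ε s, hπε s⟩)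
      rw [this]; exact isClosed_univ
  rw [isIntegralHom_iff]
  refine ⟨inferInstance, fun U hU => ?_⟩
  intro b
  haveI : IsIso (ε ≫ π) := by rw [hε]; infer_instance
  have hcomp : (ε ≫ π).app U = π.app U ≫ ε.app (π ⁻¹ᵁ U) := Scheme.Hom.comp_app ε π U
  obtain ⟨a₀, ha₀⟩ := (ConcreteCategory.bijective_of_isIso ((ε ≫ π).app U)).2
    ((ε.app (π ⁻¹ᵁ U)).hom b)
  have ha₀' : (ε.app (π ⁻¹ᵁ U)).hom ((π.app U).hom a₀) = (ε.app (π ⁻¹ᵁ U)).hom b := by
    rw [← ha₀, hcomp]; rfl
  have hψc : (ε.app (π ⁻¹ᵁ U)).hom (b - (π.app U).hom a₀) = 0 := by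
    rw [map_sub, ha₀', sub_self]
  have hUc : IsCompact ((π ⁻¹ᵁ U : X.Opens) : Set X) :=
    (IsAffineHom.isAffine_preimage (f := π) U hU).isCompact
  have hc : IsNilpotent (b - (π.app U).hom a₀) := by
    rw [Scheme.isNilpotent_iff_basicOpen_eq_bot_of_isCompact hUc]
    rw [eq_bot_iff]
    intro x hx
    have h1 : π x ∈ ε ⁻¹ᵁ (X.basicOpen (b - (π.app U).hom a₀)) := by
      change ε (π x) ∈ X.basicOpen (b - (π.app U).hom a₀)
      rw [hεπ]; exact hx
    rw [Scheme.preimage_basicOpen] at h1
    have h2 : (ε.app (π ⁻¹ᵁ U)) (b - (π.app U).hom a₀) = 0 := hψc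
    rw [h2, Scheme.basicOpen_zero] at h1
    exact h1.elim
  have h1 : (π.app U).hom.IsIntegralElem ((π.app U).hom a₀) := RingHom.isIntegralElem_map _
  have h2 : (π.app U).hom.IsIntegralElem (b - (π.app U).hom a₀) := by
    obtain ⟨n, hn⟩ := hc
    exact ⟨Polynomial.X ^ n, Polynomial.monic_X_pow n, by simp [hn]⟩
  have hb : b = (π.app U).hom a₀ + (b - (π.app U).hom a₀) := by ring
  rw [hb]
  exact RingHom.IsIntegralElem.add _ h1 h2

end Groth.Agent.S3043
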