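import Groth.Statements.S3045
import Mathlib
import Groth.Agent.Lib.Helper7.Conv3
-- import your own Groth.Agent.* helpers here

set_option autoImplicit false
universe u
open TensorProduct
open SGA3

namespace Groth.Agent.S3045

open TensorProduct

/-- Let A be a commutative Hopf algebra over a commutative ring k (the coordinate ring of an affine
group G = Spec A) and φ, ψ two k[ε]-valued points of G reducing to the unit point modulo ε (tangent
vectors at the identity). Then for every a ∈ A the ε-component of the product point φ · ψ at a — the
product of points being convolution, formed here as the triple convolution of φ, ψ and the unit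
point — is the sum of the ε-components of φ(a) and ψ(a): on tangent vectors at the identity the
group law of G induces addition. -/
theorem result (k : Type u) [CommRing k] (A : Type u) [CommRing A] [HopfAlgebra k A]
    (φ ψ : LieHopf.LiePts k A) (a : A) :
    TrivSqZeroExt.snd (Dyn.conv3 k A φ.1 ψ.1 ((Algebra.ofId k (DualNumber k)).comp (Bialgebra.counitAlgHom k A)) a) =
      LieHopf.LiePts.tangent k A φ a + LieHopf.LiePts.tangent k A ψ a := by
  rw [Groth.Agent.Helper7.Conv3.conv3_one]
  have key : ∀ T : A ⊗[k] A,
      TrivSqZeroExt.snd (Algebra.TensorProduct.lmul' (S := DualNumber k) k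
        (Algebra.TensorProduct.map φ.1 ψ.1 T)) =
      TrivSqZeroExt.snd (ψ.1 (TensorProduct.lid k A
        ((Coalgebra.counit (R := k) (A := A)).rTensor A T))) +
      TrivSqZeroExt.snd (φ.1 (TensorProduct.rid k A
        ((Coalgebra.counit (R := k) (A := A)).lTensor A T))) := by
    intro T
    induction T using TensorProduct.induction_on with
    | zero => simp
    | tmul x y =>
      have hx := φ.2 x
      have hy := ψ.2 y
      rw [Bialgebra.counitAlgHom_apply] at hx hy
      simp only [Algebra.TensorProduct.map_tmul, Algebra.TensorProduct.lmul'_apply_tmul,
        TrivSqZeroExt.snd_mul, LinearMap.rTensor_tmul, LinearMap.lTensor_tmul,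
        TensorProduct.lid_tmul, TensorProduct.rid_tmul, map_smul, TrivSqZeroExt.snd_smul,
        hx, hy, smul_eq_mul, MulOpposite.smul_eq_mul_unop, MulOpposite.unop_op]
      ring
    | add s t hs ht =>
      simp only [map_add, TrivSqZeroExt.snd_add, hs, ht]
      abel
  have h1 := key (CoalgebraStruct.comul (R := k) a)
  rw [Coalgebra.rTensor_counit_comul, Coalgebra.lTensor_counit_comul, TensorProduct.lid_tmul,
    TensorProduct.rid_tmul, one_smul, add_comm] at h1
  exact h1

end Groth.Agent.S3045
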