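import Groth.Statements.S3046
import Mathlib
import Groth.Agent.Lib.Helper7.Conv3
-- import your own Groth.Agent.* helpers here

set_option autoImplicit false
universe u
open TensorProduct
open SGA3

namespace Groth.Agent.S3046

open TensorProduct Groth.Agent.Helper7.Conv3

/-- Let A be a commutative Hopf algebra over a commutative ring k, D and E two ε-derivations A → k
(tangent vectors at the identity of G = Spec A), R a commutative k-algebra and t, t' ∈ R with t² = 0
= t'². Let x = e + tD and y = e + t'E be the corresponding R-points of G. Then the commutator x y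
x⁻¹ y⁻¹ (product of points; the inverse of a point is its composite with the antipode) is the point
a ↦ ε(a) + [D, E](a) · t t', where [D, E] = D ⋆ E − E ⋆ D is the convolution commutator. -/
theorem result (k : Type u) [CommRing k] (A : Type u) [CommRing A] [HopfAlgebra k A]
    (D E : LieHopf.Lie k A) (R : Type u) [CommRing R] [Algebra k R] (t t' : R) (ht : t * t = 0) (ht' : t' * t' = 0)
    (a : A) :
    Dyn.conv3 k A
        (Dyn.conv3 k A (LieHopf.ptOfLie D R t ht) (LieHopf.ptOfLie E R t' ht')
          ((LieHopf.ptOfLie D R t ht).comp (HopfAlgebra.antipodeAlgHom k A)))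
        ((LieHopf.ptOfLie E R t' ht').comp (HopfAlgebra.antipodeAlgHom k A))
        ((Algebra.ofId k R).comp (Bialgebra.counitAlgHom k A)) a =
      algebraMap k R (Bialgebra.counitAlgHom k A a) + algebraMap k R (LieHopf.bracketLin D E a) * (t * t') := by
  classical
  obtain ⟨x, hx⟩ : ∃ x : A →ₐ[k] R, x = LieHopf.ptOfLie D R t ht := ⟨_, rfl⟩
  obtain ⟨y, hy⟩ : ∃ y : A →ₐ[k] R, y = LieHopf.ptOfLie E R t' ht' := ⟨_, rfl⟩
  rw [← hx, ← hy]
  have hg : Dyn.conv3 k A (Dyn.conv3 k A x y (x.comp (HopfAlgebra.antipodeAlgHom k A)))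
      (y.comp (HopfAlgebra.antipodeAlgHom k A))
      ((Algebra.ofId k R).comp (Bialgebra.counitAlgHom k A)) =
      (WithConv.toConv x * WithConv.toConv y *
        WithConv.toConv (x.comp (HopfAlgebra.antipodeAlgHom k A)) *
        WithConv.toConv (y.comp (HopfAlgebra.antipodeAlgHom k A))).ofConv := by
    rw [conv3_one, conv3_eq]
  obtain ⟨L, hL⟩ : ∃ L : WithConv (A →ₐ[k] R) → WithConv (A →ₗ[k] R),
      ∀ f, L f = WithConv.toConv f.ofConv.toLinearMap := ⟨_, fun f => rfl⟩
  have hLmul : ∀ f g, L (f * g) = L f * L g := by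
    intro f g
    rw [hL, hL, hL]
    exact AlgHom.toLinearMap_convMul f g
  obtain ⟨dW, hdW⟩ : ∃ dW : WithConv (A →ₗ[k] R),
      dW = WithConv.toConv (Algebra.linearMap k R ∘ₗ LieHopf.dlin D) := ⟨_, rfl⟩
  obtain ⟨eW, heW⟩ : ∃ eW : WithConv (A →ₗ[k] R),
      eW = WithConv.toConv (Algebra.linearMap k R ∘ₗ LieHopf.dlin E) := ⟨_, rfl⟩
  have hLx : L (WithConv.toConv x) = 1 + t • dW := by
    rw [hL, hdW, hx]
    apply WithConv.ofConv_injective
    apply LinearMap.ext
    intro b
    show algebraMap k R (Bialgebra.counitAlgHom k A b) +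
        algebraMap k R (LieHopf.dlin D b) * t =
      algebraMap k R (Coalgebra.counit b) + t * algebraMap k R (LieHopf.dlin D b)
    rw [Bialgebra.counitAlgHom_apply, mul_comm]
  have hLy : L (WithConv.toConv y) = 1 + t' • eW := by
    rw [hL, heW, hy]
    apply WithConv.ofConv_injective
    apply LinearMap.ext
    intro b
    show algebraMap k R (Bialgebra.counitAlgHom k A b) +
        algebraMap k R (LieHopf.dlin E b) * t' =
      algebraMap k R (Coalgebra.counit b) + t' * algebraMap k R (LieHopf.dlin E b)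
    rw [Bialgebra.counitAlgHom_apply, mul_comm]
  obtain ⟨X, hX⟩ : ∃ X : WithConv (A →ₗ[k] R), X = t • dW := ⟨_, rfl⟩
  obtain ⟨Y, hY⟩ : ∃ Y : WithConv (A →ₗ[k] R), Y = t' • eW := ⟨_, rfl⟩
  rw [← hX] at hLx
  rw [← hY] at hLy
  have hXX : X * X = 0 := by rw [hX, smul_mul_smul_comm, ht, zero_smul]
  have hYY : Y * Y = 0 := by rw [hY, smul_mul_smul_comm, ht', zero_smul]
  have hXYX : X * Y * X = 0 := by
    rw [hX, hY, smul_mul_smul_comm, smul_mul_smul_comm]
    have h0 : t * t' * t = 0 := by rw [mul_comm t t', mul_assoc, ht, mul_zero]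
    rw [h0, zero_smul]
  have hYXY : Y * X * Y = 0 := by
    rw [hX, hY, smul_mul_smul_comm, smul_mul_smul_comm]
    have h0 : t' * t * t' = 0 := by rw [mul_comm t' t, mul_assoc, ht', mul_zero]
    rw [h0, zero_smul]
  have hinvX : ∀ (f : A →ₐ[k] R) (Z : WithConv (A →ₗ[k] R)), Z * Z = 0 →
      L (WithConv.toConv f) = 1 + Z →
      L (WithConv.toConv (f.comp (HopfAlgebra.antipodeAlgHom k A))) = 1 - Z := by
    intro f Z hZ hf1
    have h3 := LinearMap.algHom_comp_convMul_distrib f
      (WithConv.toConv (HopfAlgebra.antipode k (A := A))) (WithConv.toConv LinearMap.id)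
    rw [LinearMap.antipode_mul_id] at h3
    have h4 : WithConv.toConv (f.toLinearMap.comp
          (WithConv.toConv (HopfAlgebra.antipode k (A := A))).ofConv) *
        WithConv.toConv (f.toLinearMap.comp (WithConv.toConv LinearMap.id).ofConv) =
        WithConv.toConv (f.toLinearMap.comp (1 : WithConv (A →ₗ[k] A)).ofConv) :=
      WithConv.ofConv_injective h3.symm
    have h5 : WithConv.toConv (f.toLinearMap.comp (1 : WithConv (A →ₗ[k] A)).ofConv) =
        (1 : WithConv (A →ₗ[k] R)) := by
      apply WithConv.ofConv_injective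
      apply LinearMap.ext
      intro b
      show f (algebraMap k A (Coalgebra.counit b)) = algebraMap k R (Coalgebra.counit b)
      exact f.commutes _
    have h1 : L (WithConv.toConv (f.comp (HopfAlgebra.antipodeAlgHom k A))) *
        L (WithConv.toConv f) = 1 := by
      rw [hL, hL]
      exact h4.trans h5
    have h2 : (1 + Z) * (1 - Z) = 1 := by
      have h6 : (1 + Z) * (1 - Z) = 1 - Z * Z := by noncomm_ring
      rw [h6, hZ, sub_zero]
    calc L (WithConv.toConv (f.comp (HopfAlgebra.antipodeAlgHom k A)))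
        = L (WithConv.toConv (f.comp (HopfAlgebra.antipodeAlgHom k A))) *
            ((1 + Z) * (1 - Z)) := by rw [h2, mul_one]
      _ = (L (WithConv.toConv (f.comp (HopfAlgebra.antipodeAlgHom k A))) *
            L (WithConv.toConv f)) * (1 - Z) := by rw [hf1, mul_assoc]
      _ = 1 - Z := by rw [h1, one_mul]
  have hLxi := hinvX x X hXX hLx
  have hLyi := hinvX y Y hYY hLy
  have hprod : L (WithConv.toConv x * WithConv.toConv y *
        WithConv.toConv (x.comp (HopfAlgebra.antipodeAlgHom k A)) *
        WithConv.toConv (y.comp (HopfAlgebra.antipodeAlgHom k A))) = 1 + X * Y - Y * X := by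
    rw [hLmul, hLmul, hLmul, hLx, hLy, hLxi, hLyi]
    have e : (1 + X) * (1 + Y) * (1 - X) * (1 - Y) = 1 + X * Y - Y * X +
        (-(X * X) + (X * X) * Y - (Y * Y) + (Y * X * Y) - (X * Y * X) - X * (Y * Y) +
          (X * Y * X) * Y) := by noncomm_ring
    rw [e, hXX, hYY, hXYX, hYXY]
    simp
  rw [hg]
  have hval : ∀ g : WithConv (A →ₐ[k] R), g.ofConv a = (L g).ofConv a := by
    intro g
    rw [hL]
    rfl
  rw [hval, hprod]
  have hXY : X * Y = (t * t') • (dW * eW) := by rw [hX, hY, smul_mul_smul_comm]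
  have hYX : Y * X = (t * t') • (eW * dW) := by
    rw [hX, hY, smul_mul_smul_comm, mul_comm t' t]
  rw [hXY, hYX]
  have hconv : ∀ (P Q : A →ₗ[k] k),
      (WithConv.toConv (Algebra.linearMap k R ∘ₗ P) *
        WithConv.toConv (Algebra.linearMap k R ∘ₗ Q) : WithConv (A →ₗ[k] R)).ofConv a =
      algebraMap k R (LieHopf.conv P Q a) := by
    intro P Q
    have key : ∀ T : A ⊗[k] A,
        LinearMap.mul' k R (TensorProduct.map (Algebra.linearMap k R ∘ₗ P)
          (Algebra.linearMap k R ∘ₗ Q) T) =
        algebraMap k R (LinearMap.mul' k k (TensorProduct.map P Q T)) := by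
      intro T
      induction T using TensorProduct.induction_on with
      | zero => simp
      | tmul u v =>
        simp only [TensorProduct.map_tmul, LinearMap.mul'_apply, LinearMap.comp_apply,
          Algebra.linearMap_apply, map_mul]
      | add s r hs hr => simp only [map_add, hs, hr]
    exact key (CoalgebraStruct.comul (R := k) a)
  show algebraMap k R (Coalgebra.counit a) + (t * t') * (dW * eW).ofConv a -
      (t * t') * (eW * dW).ofConv a = _
  rw [hdW, heW, hconv, hconv]
  have hbr : LieHopf.bracketLin D E a =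
      LieHopf.conv (LieHopf.dlin D) (LieHopf.dlin E) a -
        LieHopf.conv (LieHopf.dlin E) (LieHopf.dlin D) a := rfl
  rw [hbr, map_sub, Bialgebra.counitAlgHom_apply]
  ring

end Groth.Agent.S3046
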