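import Groth.Statements.S3058
import Groth.Agent.H25.ToposFin4

set_option autoImplicit false
open CategoryTheory CategoryTheory.Limits Opposite
universe u
open ToposFin

namespace Groth.Agent.S3058

/-- For a topos of sheaves of sets on a small site: the coproduct of a small family of objects is
quasi-compact if and only if every member is quasi-compact and all but finitely many members are
initial (empty) objects. -/
theorem result {C : Type u} [SmallCategory C] {J : GrothendieckTopology C} {ι : Type u}
    (F : ι → ToposFin.Sh J) :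
    ToposFin.IsQC (∐ F) ↔ (∀ i, ToposFin.IsQC (F i)) ∧ {i | IsEmpty (F i ≅ ⊥_ (ToposFin.Sh J))}.Finite := by
  classical
  have hc : IsColimit (Cofan.mk (∐ F) (Sigma.ι F)) := coproductIsCoproduct F
  constructor
  · intro h
    have hqc : ∀ i, ToposFin.IsQC (F i) := fun i =>
      H25.TF.isQC_of_disjoint_cov (Cofan.mk (∐ F) (Sigma.ι F)).inj (H25.TF.cov_inj _ hc)
        (H25.TF.mono_inj _ hc)
        (fun i j hij T a b hab => H25.TF.isInitial_of_inj_eq _ hc hij a b hab) h i
    refine ⟨hqc, ?_⟩
    obtain ⟨s, hs⟩ := (H25.TF.isQC_iff _).1 h ι F (Cofan.mk (∐ F) (Sigma.ι F)).inj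
      (H25.TF.cov_inj _ hc)
    refine (s.finite_toSet).subset ?_
    intro i hi
    by_contra his
    have hi' : IsEmpty (F i ≅ ⊥_ (ToposFin.Sh J)) := hi
    apply hi'.false
    have hcov := H25.TF.cov_pullback_snd hs ((Cofan.mk (∐ F) (Sigma.ι F)).inj i)
    have hI := H25.TF.isInitial_of_cov hcov (fun j =>
      H25.TF.isInitial_of_inj_eq _ hc (fun hji => his (by
        have hj2 : (j : ι) ∈ s := j.2
        rw [hji] at hj2
        exact hj2)) (pullback.fst _ _)
        (pullback.snd _ _) pullback.condition)
    exact hI.some.uniqueUpToIso initialIsInitial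
  · rintro ⟨hqc, hfin⟩
    have hfin' : Finite {i // IsEmpty (F i ≅ ⊥_ (ToposFin.Sh J))} := hfin.to_subtype
    have hcov := H25.TF.cov_subtype_of_isInitial (H25.TF.cov_inj _ hc)
      (fun i => IsEmpty (F i ≅ ⊥_ (ToposFin.Sh J))) (fun i hi => by
        rw [not_isEmpty_iff] at hi
        exact ⟨IsInitial.ofIso initialIsInitial hi.some.symm⟩)
    exact H25.TF.isQC_of_finite_cov _ hcov (fun i => hqc i)

end Groth.Agent.S3058
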