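import Groth.Statements.S3062
import Groth.Agent.H25.ToposFin4

set_option autoImplicit false
open CategoryTheory CategoryTheory.Limits Opposite
universe u
open ToposFin

namespace Groth.Agent.S3062

/-- For a topos of sheaves of sets on a small site: if g : Y -> Z is quasi-separated and g o f is
quasi-compact, then f : X -> Y is quasi-compact; likewise with coherent in place of quasi-compact. -/
theorem result {C : Type u} [SmallCategory C] {J : GrothendieckTopology C} {X Y Z : ToposFin.Sh J}
    (f : X ⟶ Y) (g : Y ⟶ Z) (hg : ToposFin.IsQSHom g) :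
    (ToposFin.IsQCHom (f ≫ g) → ToposFin.IsQCHom f) ∧ (ToposFin.IsCohHom (f ≫ g) → ToposFin.IsCohHom f) := by
  have inst : (H25.TF.qcHom J).HasOfPostcompProperty (H25.TF.qsHom J) :=
    (MorphismProperty.hasOfPostcompProperty_iff_le_diagonal).2 le_rfl
  have hg' : H25.TF.qsHom J g := (H25.TF.isQSHom_iff g).1 hg
  have key : ToposFin.IsQCHom (f ≫ g) → ToposFin.IsQCHom f := fun h =>
    (H25.TF.isQCHom_iff f).2
      ((H25.TF.qcHom J).of_postcomp f g hg' ((H25.TF.isQCHom_iff _).1 h))
  refine ⟨key, fun h => ⟨key h.1, ?_⟩⟩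
  have h2 := h.2
  rw [H25.TF.isQSHom_iff, H25.TF.qsHom_iff_equalizer] at h2 ⊢
  intro Y' g₁ g₂ h12 hY'
  exact h2 g₁ g₂ (by rw [← Category.assoc, h12, Category.assoc]) hY'

end Groth.Agent.S3062
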