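import Groth.Statements.S3064
import Groth.Agent.H25.ToposFin4

set_option autoImplicit false
open CategoryTheory CategoryTheory.Limits Opposite
universe u
open ToposFin

namespace Groth.Agent.S3064

/-- For a topos of sheaves of sets on a small site admitting a generating family of quasi-compact
objects: for a jointly epimorphic family (Y_i -> Y), a morphism f : X -> Y is quasi-compact (resp.
quasi-separated) if and only if all its base changes X x_Y Y_i -> Y_i are. -/
theorem result {C : Type u} [SmallCategory C] {J : GrothendieckTopology C} (hE : ToposFin.HasQCGenerators J) {X Y : ToposFin.Sh J}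
    (f : X ⟶ Y) {ι : Type u} (Yi : ι → ToposFin.Sh J) (g : ∀ i, Yi i ⟶ Y) (hg : Epi (Sigma.desc g)) :
    (ToposFin.IsQCHom f ↔ ∀ i, ToposFin.IsQCHom (pullback.snd f (g i))) ∧
    (ToposFin.IsQSHom f ↔ ∀ i, ToposFin.IsQSHom (pullback.snd f (g i))) := by
  have hcov : H25.TF.Cov g := (H25.TF.epi_sigma_iff g).1 hg
  have hgen := H25.TF.isGenerating_of_hasQCGenerators hE
  refine ⟨⟨fun hf i => ?_, fun h => ?_⟩, ⟨fun hf i => ?_, fun h => ?_⟩⟩
  · rw [H25.TF.isQCHom_iff] at hf ⊢
    exact (H25.TF.qcHom J).pullback_snd f (g i) hf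
  · rw [H25.TF.isQCHom_iff]
    exact H25.TF.qcHom_of_cov_target (S := {K : ToposFin.Sh J | ToposFin.IsQC K})
      (fun K hK => hK) hgen f g hcov (fun i => (H25.TF.isQCHom_iff _).1 (h i))
  · rw [H25.TF.isQSHom_iff] at hf ⊢
    exact (H25.TF.qsHom J).pullback_snd f (g i) hf
  · rw [H25.TF.isQSHom_iff]
    exact H25.TF.qsHom_of_cov_target (S := {K : ToposFin.Sh J | ToposFin.IsQC K})
      (fun K hK => hK) hgen f g hcov (fun i => (H25.TF.isQSHom_iff _).1 (h i))

end Groth.Agent.S3064
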