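import Groth.Statements.S3068
import Groth.Agent.H25.ToposFin4

set_option autoImplicit false
open CategoryTheory CategoryTheory.Limits Opposite
universe u
open ToposFin

namespace Groth.Agent.S3068

/-- For a topos of sheaves of sets on a small site: given a generating family of quasi-compact objects
G_a, an object Y is quasi-separated if and only if every morphism G_a -> Y is quasi-compact. -/
theorem result {C : Type u} [SmallCategory C] {J : GrothendieckTopology C} {α : Type u} (G : α → ToposFin.Sh J) (hG : ∀ a, ToposFin.IsQC (G a))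
    (hgen : ∀ X : ToposFin.Sh J, ∃ (ι : Type u) (a : ι → α) (π : ∀ i, G (a i) ⟶ X), Epi (Sigma.desc π))
    (Y : ToposFin.Sh J) :
    ToposFin.IsQS Y ↔ ∀ (a : α) (s : G a ⟶ Y), ToposFin.IsQCHom s := by
  constructor
  · intro h a s Y' t hY'
    exact h _ _ s t (hG a) hY'
  · intro h A B a b hA hB
    obtain ⟨T, _, K, k, hK, hk⟩ :=
      H25.TF.exists_finite_cov_of_generating (H25.TF.isGenerating_range G hgen) hA
    have hc := H25.TF.cov_pullback_map a b k hk (fun _ : Unit => 𝟙 B) (H25.TF.cov_of_epi (𝟙 B))
    have aux : ∀ (L : ToposFin.Sh J) (l : L ⟶ Y), L ∈ Set.range G →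
        ToposFin.IsQC (pullback l b) := by
      rintro _ l ⟨α, rfl⟩
      exact h α l B b hB
    refine H25.TF.isQC_of_finite_cov _ hc ?_
    rintro ⟨n, u⟩
    exact H25.TF.isQC_pullback_congr rfl (Category.id_comp b) (aux _ (k n ≫ a) (hK n))

end Groth.Agent.S3068
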