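import Groth.Statements.S3071
import Groth.Agent.H25.ToposFin4

set_option autoImplicit false
open CategoryTheory CategoryTheory.Limits Opposite
universe u
open ToposFin

namespace Groth.Agent.S3071

/-- Implication (ii bis) => (i bis), for a topos of sheaves of sets on a small site: suppose given a
generating family of coherent objects G_a such that every product G_a x G_b is quasi-separated. Then
for every morphism f : X -> Y with X quasi-separated, f is quasi-separated. -/
theorem result {C : Type u} [SmallCategory C] {J : GrothendieckTopology C} {α : Type u} (G : α → ToposFin.Sh J)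
    (hG : ∀ a, ToposFin.IsCoherent (G a))
    (hgen : ∀ X : ToposFin.Sh J, ∃ (ι : Type u) (a : ι → α) (π : ∀ i, G (a i) ⟶ X), Epi (Sigma.desc π))
    (hprod : ∀ a b, ToposFin.IsQS (G a ⨯ G b)) {X Y : ToposFin.Sh J} (f : X ⟶ Y) (hX : ToposFin.IsQS X) :
    ToposFin.IsQSHom f := by
  have hgenS := H25.TF.isGenerating_range G hgen
  obtain ⟨ι, a, π, hπ⟩ := hgen X
  have hcov : H25.TF.Cov π := (H25.TF.epi_sigma_iff π).1 hπ
  rw [H25.TF.isQSHom_iff]
  change H25.TF.qcHom J (pullback.diagonal f)
  refine H25.TF.qcHom_of_cov_target' (S := Set.range G)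
    (by
      rintro K ⟨a, rfl⟩
      exact (hG a).1) hgenS (pullback.diagonal f) _
    (H25.TF.cov_pullback_map f f π hcov π hcov) _ _
    (fun x => pullback_map_diagonal_isPullback (π x.1) (π x.2) f) (fun x => ?_)
  refine H25.TF.qcHom_of_isQC_of_isQS _ (hX _ _ _ _ (hG _).1 (hG _).1) ?_
  have hm : Mono (prod.lift (pullback.fst (π x.1 ≫ f) (π x.2 ≫ f))
      (pullback.snd (π x.1 ≫ f) (π x.2 ≫ f))) := ⟨fun u v huv => by
    apply pullback.hom_ext
    · have h1 := congrArg (· ≫ prod.fst) huv
      simp only [Category.assoc, prod.lift_fst] at h1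
      exact h1
    · have h1 := congrArg (· ≫ prod.snd) huv
      simp only [Category.assoc, prod.lift_snd] at h1
      exact h1⟩
  exact H25.TF.isQS_of_mono (prod.lift (pullback.fst (π x.1 ≫ f) (π x.2 ≫ f))
      (pullback.snd (π x.1 ≫ f) (π x.2 ≫ f))) (hprod _ _)

end Groth.Agent.S3071
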