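import Groth.Statements.S3074
import Groth.Agent.H25.ToposFin4

set_option autoImplicit false
open CategoryTheory CategoryTheory.Limits Opposite
universe u
open ToposFin

namespace Groth.Agent.S3074

/-- For a topos of sheaves of sets on a small site: (1) a subobject of a quasi-separated object is
quasi-separated; (2) the coproduct of a small family (X_i) is quasi-separated if and only if every
X_i is. -/
theorem result {C : Type u} [SmallCategory C] {J : GrothendieckTopology C} :
    (∀ {X Y : ToposFin.Sh J} (i : X ⟶ Y) [Mono i], ToposFin.IsQS Y → ToposFin.IsQS X) ∧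
    ∀ {ι : Type u} (F : ι → ToposFin.Sh J), ToposFin.IsQS (∐ F) ↔ ∀ i, ToposFin.IsQS (F i) := by
  refine ⟨fun {X Y} i _ hY => H25.TF.isQS_of_mono i hY, fun {ι} F => ⟨fun h i => ?_, fun h => ?_⟩⟩
  · have hm : Mono (Sigma.ι F i) :=
      H25.TF.mono_inj (Cofan.mk (∐ F) (Sigma.ι F)) (coproductIsCoproduct F) i
    exact H25.TF.isQS_of_mono (Sigma.ι F i) h
  · exact H25.TF.isQS_of_isColimit_cofan (Cofan.mk (∐ F) (Sigma.ι F)) (coproductIsCoproduct F) h

end Groth.Agent.S3074
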