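import Groth.Statements.S3082
import Groth.Agent.H25.ToposFin5

set_option autoImplicit false
universe u
open CategoryTheory
open SGA4

namespace Groth.Agent.S3082

/-- Let (C, J) be a small site and G a set of objects of C such that each object of C has a covering
family whose members all lie in G. Then the sheafifications of the presheaves represented by the
members of G form a detecting family in the category Sh(C, J) of set-valued sheaves on (C, J): any
morphism of sheaves that is bijective on sections over each member of G is an isomorphism. -/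
theorem result {C : Type u} [SmallCategory C] (J : GrothendieckTopology C) (G : Set C)
    (hG : ∀ X : C, ∃ (ι : Type u) (Y : ι → C) (f : ∀ i, Y i ⟶ X), Sieve.ofArrows Y f ∈ J X ∧ ∀ i, Y i ∈ G) :
    (ObjectProperty.ofObj fun X : G => (presheafToSheaf J (Type u)).obj (yoneda.obj (X : C))).IsDetecting := by
  intro A B f H
  have hsurjG : ∀ g : C, g ∈ G → ∀ b : B.obj.obj (Opposite.op g),
      ∃ a : A.obj.obj (Opposite.op g), f.hom.app (Opposite.op g) a = b := by
    intro g hg b
    obtain ⟨h', hh', -⟩ := H _ (ObjectProperty.ofObj_apply _ ⟨g, hg⟩) (H25.TF.secMap b)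
    refine ⟨h'.hom.app (Opposite.op g) (H25.TF.eta J g (𝟙 g)), ?_⟩
    have h1 := congrArg (fun t : ToposFin.eps J g ⟶ B =>
      t.hom.app (Opposite.op g) (H25.TF.eta J g (𝟙 g))) hh'
    refine h1.trans ?_
    rw [H25.TF.secMap_eta, op_id, Functor.map_id_apply]
  have hinjG : ∀ g : C, g ∈ G → ∀ a a' : A.obj.obj (Opposite.op g),
      f.hom.app (Opposite.op g) a = f.hom.app (Opposite.op g) a' → a = a' := by
    intro g hg a a' haa
    obtain ⟨h', -, huniq⟩ := H _ (ObjectProperty.ofObj_apply _ ⟨g, hg⟩)
      (H25.TF.secMap (f.hom.app (Opposite.op g) a))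
    have key : ∀ x : A.obj.obj (Opposite.op g),
        f.hom.app (Opposite.op g) x = f.hom.app (Opposite.op g) a → H25.TF.secMap x = h' := by
      intro x hx
      apply huniq
      apply H25.TF.epsHom_ext
      show f.hom.app (Opposite.op g)
          ((H25.TF.secMap x).hom.app (Opposite.op g) (H25.TF.eta J g (𝟙 g))) =
        (H25.TF.secMap (f.hom.app (Opposite.op g) a)).hom.app (Opposite.op g)
          (H25.TF.eta J g (𝟙 g))
      rw [H25.TF.secMap_eta, H25.TF.secMap_eta, op_id, Functor.map_id_apply,
        Functor.map_id_apply, hx]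
    have e := (key a rfl).trans (key a' haa.symm).symm
    have e3 : (H25.TF.secMap a).hom.app (Opposite.op g) (H25.TF.eta J g (𝟙 g)) =
        (H25.TF.secMap a').hom.app (Opposite.op g) (H25.TF.eta J g (𝟙 g)) :=
      congrArg (fun t : ToposFin.eps J g ⟶ A =>
        t.hom.app (Opposite.op g) (H25.TF.eta J g (𝟙 g))) e
    rw [H25.TF.secMap_eta, H25.TF.secMap_eta, op_id, Functor.map_id_apply,
      Functor.map_id_apply] at e3
    exact e3
  have hinj : ∀ U : Cᵒᵖ, Function.Injective (f.hom.app U) := by
    intro U x x' hxx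
    obtain ⟨ι, Y, g, hS, hY⟩ := hG U.unop
    apply (((isSheaf_iff_isSheaf_of_type _ _).1 A.2).isSeparated _ hS).ext
    intro V r hr
    obtain ⟨i, w, hw⟩ := (Sieve.mem_ofArrows_iff Y g r).1 hr
    have h4 : A.obj.map (g i).op x = A.obj.map (g i).op x' := by
      apply hinjG (Y i) (hY i)
      rw [NatTrans.naturality_apply, NatTrans.naturality_apply, hxx]
    rw [hw, op_comp, Functor.map_comp_apply, Functor.map_comp_apply, h4]
  have hcov : H25.TF.Cov (fun _ : Unit => f) := by
    apply H25.TF.cov_of_lsurj
    intro U y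
    obtain ⟨ι, Y, g, hS, hY⟩ := hG U
    refine ⟨Sieve.ofArrows Y g, hS, fun V r hr => ?_⟩
    obtain ⟨i, w, hw⟩ := (Sieve.mem_ofArrows_iff Y g r).1 hr
    obtain ⟨a, ha⟩ := hsurjG (Y i) (hY i) (B.obj.map (g i).op y)
    refine ⟨(), A.obj.map w.op a, ?_⟩
    show f.hom.app (Opposite.op V) (A.obj.map w.op a) = B.obj.map r.op y
    rw [NatTrans.naturality_apply, ha, hw, op_comp, Functor.map_comp_apply]
  have he : Epi f := ⟨fun a b hab => hcov a b (fun _ => hab)⟩
  have hm : Mono f := (sheafToPresheaf J _).mono_of_mono_map (by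
    have : ∀ U, Mono (f.hom.app U) := fun U => (mono_iff_injective _).2 (hinj U)
    exact NatTrans.mono_of_mono_app f.hom)
  exact isIso_of_mono_of_epi f

end Groth.Agent.S3082
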