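import Groth.Statements.S3084
import Groth.Agent.H10.ClosedCompl
import Groth.Agent.S12107
import Mathlib

set_option autoImplicit false
universe u
open CategoryTheory
open SGA4

namespace Groth.Agent.S3084

open CategoryTheory.Limits in
/-- For sheaves of sets on a small site: let U be an open, j^* = (X ↦ U × X over U) the restriction to
the open subtopos E/U and i^* any left adjoint of the inclusion of the closed complement of U. A
morphism m of E is an isomorphism if and only if both j^*(m) and i^*(m) are isomorphisms. -/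
theorem result {C : Type u} [SmallCategory C] (J : GrothendieckTopology C)
    (U : Sheaf J (Type u)) (hU : SGA4.IsOpen U)
    (L : Sheaf J (Type u) ⥤ (SGA4.closedCompl U).FullSubcategory) (adj : L ⊣ (SGA4.closedCompl U).ι)
    {X Y : Sheaf J (Type u)} (m : X ⟶ Y) :
    IsIso m ↔ IsIso ((Over.star U).map m) ∧ IsIso (L.map m) := by
  have hpo : HasPushouts (Sheaf J (Type u)) := HasFiniteColimits.out WalkingSpan
  constructor
  · intro h; exact ⟨inferInstance, inferInstance⟩
  · rintro ⟨h1, h2⟩
    have h1' : IsIso (prod.map (𝟙 U) m) := by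
      have : IsIso ((Over.forget U).map ((Over.star U).map m)) := inferInstance
      exact this
    obtain ⟨φ, hφ⟩ := Groth.Agent.H10.ClosedCompl.reflection_iso hU L adj X
    obtain ⟨φ', hφ'⟩ := Groth.Agent.H10.ClosedCompl.reflection_iso hU L adj Y
    obtain ⟨k, hk⟩ : ∃ k, k = φ.inv ≫ (SGA4.closedCompl U).ι.map (L.map m) ≫ φ'.hom := ⟨_, rfl⟩
    have hk₁ : pushout.inl _ _ ≫ k = pushout.inl _ _ :=
      Groth.Agent.H10.ClosedCompl.single (𝟙 U) (Groth.Agent.H10.ClosedCompl.key hU Y) _ _
    have hk₂ : pushout.inr _ _ ≫ k = m ≫ pushout.inr _ _ := by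
      have nat : m ≫ adj.unit.app Y =
          adj.unit.app X ≫ (SGA4.closedCompl U).ι.map (L.map m) := adj.unit.naturality m
      calc pushout.inr _ _ ≫ k
          = (adj.unit.app X ≫ φ.hom) ≫ φ.inv ≫
              (SGA4.closedCompl U).ι.map (L.map m) ≫ φ'.hom := by rw [hφ, hk]
        _ = (adj.unit.app X ≫ (SGA4.closedCompl U).ι.map (L.map m)) ≫ φ'.hom := by
            simp only [Category.assoc, Iso.hom_inv_id_assoc]
        _ = (m ≫ adj.unit.app Y) ≫ φ'.hom := by rw [nat]
        _ = m ≫ pushout.inr _ _ := by rw [Category.assoc, hφ']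
    have pb := (Groth.Agent.S12107.result J U hU m k hk₁ hk₂).mpr h1'
    have : IsIso k := by rw [hk]; infer_instance
    exact pb.isIso_fst_of_isIso

end Groth.Agent.S3084
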