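import Groth.Statements.S3085
import Groth.Agent.H10.ClosedRefl
import Groth.Agent.H10.Recoll
import Groth.Agent.S3084
import Mathlib

set_option autoImplicit false
universe u
open CategoryTheory
open SGA4

namespace Groth.Agent.S3085

open CategoryTheory.Limits in
/-- Gluing a topos from an open subtopos and its closed complement, for sheaves of sets on a small site:
let E be the category of sheaves of sets on a small site, U an open of E (a subobject of the final
object) with restriction functor j^* : E → E/U, X ↦ U × X; assume j^* has a right adjoint j_* (true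
in any topos; taken as an instance hypothesis), and let i^* be a left adjoint of the inclusion of
the closed complement F of U. With ρ = i^* ∘ j_* : E/U → F, the category E is equivalent to the
glued category of triples (Y in F, X in E/U, Y → ρX). (Only the existence of an equivalence is
asserted; the published statement gives it explicitly as X ↦ (i^*X, j^*X, i^*(X → j_*j^*X)).) -/
theorem result {C : Type u} [SmallCategory C] (J : GrothendieckTopology C)
    (U : Sheaf J (Type u)) (hU : SGA4.IsOpen U) [(Over.star U).IsLeftAdjoint]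
    (L : Sheaf J (Type u) ⥤ (SGA4.closedCompl U).FullSubcategory) (adj : L ⊣ (SGA4.closedCompl U).ι) :
    Nonempty (Sheaf J (Type u) ≌
      Comma (𝟭 (SGA4.closedCompl U).FullSubcategory) ((Over.star U).rightAdjoint ⋙ L)) := by
  have hsub : ∀ {W : Sheaf J (Type u)} (f g : W ⟶ U), f = g :=
    fun f g => Groth.Agent.H10.ClosedCompl.hom_to_open_eq hU f g
  -- the adjoint triple
  let adjJ : Over.star U ⊣ (Over.star U).rightAdjoint := Adjunction.ofIsLeftAdjoint _
  haveI : (Over.forget U).Full := ⟨fun {A B} f => ⟨Over.homMk f (hsub _ _), rfl⟩⟩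
  let t : Adjunction.Triple (Over.forget U) (Over.star U) (Over.star U).rightAdjoint :=
    ⟨Over.forgetAdjStar U, adjJ⟩
  have ffP : (Over.star U).rightAdjoint.FullyFaithful :=
    t.fullyFaithfulEquiv (Functor.FullyFaithful.ofFullyFaithful _)
  haveI := ffP.full
  haveI := ffP.faithful
  -- left exactness
  haveI : PreservesFiniteLimits (Groth.Agent.H10.ClosedRefl.Lc J U) :=
    Groth.Agent.H10.ClosedRefl.lex J U
  haveI : PreservesFiniteLimits L :=
    preservesFiniteLimits_of_natIso ((Groth.Agent.H10.ClosedRefl.adjc J U).leftAdjointUniq adj)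
  haveI : PreservesLimitsOfSize.{0, 0} (Over.star U) :=
    (Over.forgetAdjStar U).rightAdjoint_preservesLimits
  have hcons : ∀ {X Y : Sheaf J (Type u)} (m : X ⟶ Y), IsIso ((Over.star U).map m) →
      IsIso (L.map m) → IsIso m :=
    fun m h1 h2 => (Groth.Agent.S3084.result J U hU L adj m).mpr ⟨h1, h2⟩
  have hterm : ∀ {Y Y' : (SGA4.closedCompl U).FullSubcategory} (g : Y ⟶ Y'),
      IsIso ((Over.star U).map ((SGA4.closedCompl U).ι.map g)) := by
    intro Y Y' g
    have hY : IsIso (prod.fst : U ⨯ Y.obj ⟶ U) := Y.property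
    have hY' : IsIso (prod.fst : U ⨯ Y'.obj ⟶ U) := Y'.property
    have h1 : prod.map (𝟙 U) g.hom ≫ (prod.fst : U ⨯ Y'.obj ⟶ U) = prod.fst := by
      rw [prod.map_fst, Category.comp_id]
    have h2 : IsIso (prod.map (𝟙 U) g.hom ≫ (prod.fst : U ⨯ Y'.obj ⟶ U)) := by
      rw [h1]; exact hY
    have h3 : IsIso (prod.map (𝟙 U) g.hom) :=
      IsIso.of_isIso_comp_right _ (prod.fst : U ⨯ Y'.obj ⟶ U)
    have h4 : IsIso ((Over.forget U).map
        ((Over.star U).map ((SGA4.closedCompl U).ι.map g))) := h3
    exact isIso_of_reflects_iso _ (Over.forget U)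
  haveI := Groth.Agent.H10.Recoll.isEquivalence adjJ adj hcons hterm
  exact ⟨(Groth.Agent.H10.Recoll.Φ adjJ L).asEquivalence⟩

end Groth.Agent.S3085
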