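import Groth.Statements.S3088
import Mathlib
import Groth.Agent.S16024
import Groth.Agent.S16019

set_option autoImplicit false
universe u
open CategoryTheory
open CohSite

namespace Groth.Agent.S3088

section helpers

open CategoryTheory CategoryTheory.Limits Opposite AlgebraicTopology Simplicial
  CategoryTheory.Abelian
open Groth.Agent.S0859 (hom_congr_apply PD Yc pr cochain_ext KK dK G2 Qf)
open Groth.Agent.S0858 (Gp etaG)
open Groth.Agent.S16020 (Gp_acyc)
open Groth.Agent.S16023 (cechSES)
open Groth.Agent.S16024 (rf refine_pr_apply Phi)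

variable {C : Type u} [SmallCategory C] [HasPullbacks C] {U : C}
  {ι κ : Type u} (Y : ι → Over U) (Y' : κ → Over U)
  (f g : FormalCoproduct.mk ι Y ⟶ FormalCoproduct.mk κ Y')

theorem H0_eq {K L : CochainComplex AddCommGrpCat.{u} ℕ} (φ ψ : K ⟶ L)
    (h : ∀ t : K.X 0, (K.d 0 1).hom t = 0 → (φ.f 0).hom t = (ψ.f 0).hom t) :
    HomologicalComplex.homologyMap φ 0 = HomologicalComplex.homologyMap ψ 0 := by
  have hc : HomologicalComplex.cyclesMap φ 0 = HomologicalComplex.cyclesMap ψ 0 := by
    rw [← cancel_mono (L.iCycles 0), HomologicalComplex.cyclesMap_i,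
      HomologicalComplex.cyclesMap_i]
    apply AddCommGrpCat.hom_ext
    apply AddMonoidHom.ext
    intro z
    have hz : (K.d 0 1).hom ((K.iCycles 0).hom z) = 0 := hom_congr_apply (K.iCycles_d 0 1) z
    exact h _ hz
  rw [← cancel_epi (K.homologyπ 0), HomologicalComplex.homologyπ_naturality,
    HomologicalComplex.homologyπ_naturality, hc]

theorem base (M : Cᵒᵖ ⥤ AddCommGrpCat.{u}) :
    HomologicalComplex.homologyMap (CohCx.cechRefine M f) 0 =
      HomologicalComplex.homologyMap (CohCx.cechRefine M g) 0 := by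
  apply H0_eq
  intro t ht
  apply cochain_ext Y (Qf M) 0
  intro x
  exact (refine_pr_apply Y Y' f M 0 x t).trans
    ((G2 Y' (Qf M) t ht (f.f ∘ x) (g.f ∘ x) (rf Y Y' f 0 x) (rf Y Y' g 0 x)).trans
      (refine_pr_apply Y Y' g M 0 x t).symm)

theorem step (q : ℕ)
    (ih : ∀ M : Cᵒᵖ ⥤ AddCommGrpCat.{u},
      HomologicalComplex.homologyMap (CohCx.cechRefine M f) q =
        HomologicalComplex.homologyMap (CohCx.cechRefine M g) q)
    (M : Cᵒᵖ ⥤ AddCommGrpCat.{u}) :
    HomologicalComplex.homologyMap (CohCx.cechRefine M f) (q + 1) =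
      HomologicalComplex.homologyMap (CohCx.cechRefine M g) (q + 1) := by
  let T : ShortComplex (Cᵒᵖ ⥤ AddCommGrpCat.{u}) :=
    ShortComplex.mk (etaG M) (cokernel.π (etaG M)) (cokernel.condition _)
  have hT : T.ShortExact :=
    { exact := ShortComplex.exact_of_g_is_cokernel _ (cokernelIsCokernel T.f) }
  have hC' := cechSES Y' T hT
  have hC := cechSES Y T hT
  apply AddCommGrpCat.hom_ext
  apply AddMonoidHom.ext
  intro x
  have hG : IsZero (CohCx.cechH (Gp M) Y' (q + 1)) := Gp_acyc Y' M q
  have hx1 : (HomologicalComplex.homologyMap ((T.map (CechEdge.cxFunctor Y')).f)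
      (q + 1)).hom x = 0 :=
    hom_congr_apply (hG.eq_of_tgt
      (HomologicalComplex.homologyMap ((T.map (CechEdge.cxFunctor Y')).f) (q + 1)) 0) x
  obtain ⟨y, hy⟩ : ∃ y : CohCx.cechH T.X₃ Y' q, (hC'.δ q (q + 1) rfl).hom y = x :=
    (ShortComplex.ab_exact_iff _).mp (hC'.homology_exact₁ q (q + 1) rfl) x hx1
  have hf : (HomologicalComplex.homologyMap (CohCx.cechRefine T.X₁ f) (q + 1)).hom
        ((hC'.δ q (q + 1) rfl).hom y) =
        (hC.δ q (q + 1) rfl).hom
          ((HomologicalComplex.homologyMap (CohCx.cechRefine T.X₃ f) q).hom y) :=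
    hom_congr_apply (HomologicalComplex.HomologySequence.δ_naturality
      (Phi Y Y' f T) hC' hC q (q + 1) rfl) y
  have hg : (HomologicalComplex.homologyMap (CohCx.cechRefine T.X₁ g) (q + 1)).hom
        ((hC'.δ q (q + 1) rfl).hom y) =
        (hC.δ q (q + 1) rfl).hom
          ((HomologicalComplex.homologyMap (CohCx.cechRefine T.X₃ g) q).hom y) :=
    hom_congr_apply (HomologicalComplex.HomologySequence.δ_naturality
      (Phi Y Y' g T) hC' hC q (q + 1) rfl) y
  have hi : (HomologicalComplex.homologyMap (CohCx.cechRefine T.X₃ f) q).hom y =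
      (HomologicalComplex.homologyMap (CohCx.cechRefine T.X₃ g) q).hom y :=
    hom_congr_apply (ih T.X₃) y
  subst hy
  exact hf.trans ((congrArg (hC.δ q (q + 1) rfl).hom hi).trans hg.symm)

theorem main (M : Cᵒᵖ ⥤ AddCommGrpCat.{u}) (q : ℕ) :
    HomologicalComplex.homologyMap (CohCx.cechRefine M f) q =
      HomologicalComplex.homologyMap (CohCx.cechRefine M g) q := by
  induction q generalizing M with
  | zero => exact base Y Y' f g M
  | succ q ih => exact step Y Y' f g q (fun M' => ih M') M

end helpers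

open CategoryTheory.Limits in
/-- With A = Z: let C be a u-small category with fibre products, 𝒰 and 𝒰' two families of objects over U
(formal coproducts in the over category) and f, g : 𝒰 -> 𝒰' two refinement morphisms. Then for every
presheaf of abelian groups M and every q, the maps induced by f and g on the q-th Cech cohomology
groups (from that of 𝒰' to that of 𝒰) coincide. -/
theorem result {C : Type u} [SmallCategory C] [HasPullbacks C] (M : Cᵒᵖ ⥤ AddCommGrpCat.{u})
    {U : C} {𝒰 𝒰' : FormalCoproduct.{u} (Over U)} (f g : 𝒰 ⟶ 𝒰') (q : ℕ) :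
    HomologicalComplex.homologyMap (CohCx.cechRefine M f) q = HomologicalComplex.homologyMap (CohCx.cechRefine M g) q := by
  exact Groth.Agent.S3088.main 𝒰.obj 𝒰'.obj f g M q

end Groth.Agent.S3088
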