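import Groth.Statements.S3094
import Mathlib
import Groth.Agent.S0482

set_option autoImplicit false
universe u
open CategoryTheory
open CohSite

namespace Groth.Agent.S3094

section helpers
open CategoryTheory CategoryTheory.Limits Opposite Abelian

section FreeSh
variable {𝒞 : Type u} [SmallCategory 𝒞] (𝒥 : GrothendieckTopology 𝒞)

noncomputable abbrev ZK (K : Sheaf 𝒥 (Type u)) : Sheaf 𝒥 AddCommGrpCat.{u} :=
  (presheafToSheaf 𝒥 AddCommGrpCat.{u}).obj (K.obj ⋙ AddCommGrpCat.free.{u})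

noncomputable abbrev fgt : Sheaf 𝒥 AddCommGrpCat.{u} ⥤ Sheaf 𝒥 (Type u) :=
  sheafCompose 𝒥 (forget AddCommGrpCat.{u})

noncomputable def fsEquiv (K : Sheaf 𝒥 (Type u)) (G : Sheaf 𝒥 AddCommGrpCat.{u}) :
    (ZK 𝒥 K ⟶ G) ≃ (K ⟶ (fgt 𝒥).obj G) where
  toFun φ := ObjectProperty.homMk
    ((Adjunction.whiskerRight 𝒞ᵒᵖ AddCommGrpCat.adj.{u}).homEquiv K.obj G.obj
      ((sheafificationAdjunction 𝒥 AddCommGrpCat.{u}).homEquiv _ G φ))
  invFun f := ((sheafificationAdjunction 𝒥 AddCommGrpCat.{u}).homEquiv _ G).symm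
      (((Adjunction.whiskerRight 𝒞ᵒᵖ AddCommGrpCat.adj.{u}).homEquiv K.obj G.obj).symm f.hom)
  left_inv φ := by simp
  right_inv f := by apply Sheaf.hom_ext; simp

lemma fsEquiv_nat (K : Sheaf 𝒥 (Type u)) {G G' : Sheaf 𝒥 AddCommGrpCat.{u}} (φ : ZK 𝒥 K ⟶ G)
    (ψ : G ⟶ G') :
    fsEquiv 𝒥 K G' (φ ≫ ψ) = fsEquiv 𝒥 K G φ ≫ (fgt 𝒥).map ψ := by
  apply Sheaf.hom_ext
  have h1 := (sheafificationAdjunction 𝒥 AddCommGrpCat.{u}).homEquiv_naturality_right φ ψ
  have h2 := (Adjunction.whiskerRight 𝒞ᵒᵖ AddCommGrpCat.adj.{u}).homEquiv_naturality_right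
    (X := K.obj)
    ((sheafificationAdjunction 𝒥 AddCommGrpCat.{u}).homEquiv _ G φ) ((sheafToPresheaf 𝒥 _).map ψ)
  exact (congrArg ((Adjunction.whiskerRight 𝒞ᵒᵖ AddCommGrpCat.adj.{u}).homEquiv K.obj G'.obj) h1).trans h2

end FreeSh

section Site
variable {C : Type u} [SmallCategory C] (J : GrothendieckTopology C) (X : C)

open Groth.Agent.S0482

noncomputable abbrev jLs : Sheaf (J.over X) (Type u) ⥤ Sheaf J (Type u) :=
  Functor.sheafPullbackConstruction.sheafPullback (Over.forget X) (Type u) (J.over X) J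

noncomputable abbrev jRs : Sheaf J (Type u) ⥤ Sheaf (J.over X) (Type u) :=
  (Over.forget X).sheafPushforwardContinuous (Type u) (J.over X) J

noncomputable abbrev jAdjS : jLs J X ⊣ jRs J X :=
  Functor.sheafPullbackConstruction.sheafAdjunctionContinuous (Over.forget X) (Type u) (J.over X) J

variable (K' : Sheaf (J.over X) (Type u))

noncomputable def aEq (G : Sheaf J AddCommGrpCat.{u}) :
    ((jL J X).obj (ZK (J.over X) K') ⟶ G) ≃ (K' ⟶ (jRs J X).obj ((fgt J).obj G)) :=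
  ((jAdj J X).homEquiv (ZK (J.over X) K') G).trans (fsEquiv (J.over X) K' ((jR J X).obj G))

noncomputable def bEq (G : Sheaf J AddCommGrpCat.{u}) :
    (ZK J ((jLs J X).obj K') ⟶ G) ≃ (K' ⟶ (jRs J X).obj ((fgt J).obj G)) :=
  (fsEquiv J ((jLs J X).obj K') G).trans ((jAdjS J X).homEquiv K' ((fgt J).obj G))

lemma map_compat {G G' : Sheaf J AddCommGrpCat.{u}} (ψ : G ⟶ G') :
    (fgt (J.over X)).map ((jR J X).map ψ) = (jRs J X).map ((fgt J).map ψ) := by
  apply Sheaf.hom_ext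
  rfl

lemma aEq_nat {G G' : Sheaf J AddCommGrpCat.{u}} (φ : (jL J X).obj (ZK (J.over X) K') ⟶ G)
    (ψ : G ⟶ G') :
    aEq J X K' G' (φ ≫ ψ) = aEq J X K' G φ ≫ (jRs J X).map ((fgt J).map ψ) := by
  show fsEquiv (J.over X) K' _ ((jAdj J X).homEquiv _ _ (φ ≫ ψ)) = _
  rw [Adjunction.homEquiv_naturality_right, fsEquiv_nat, map_compat]
  rfl

lemma bEq_nat {G G' : Sheaf J AddCommGrpCat.{u}} (φ : ZK J ((jLs J X).obj K') ⟶ G)
    (ψ : G ⟶ G') :
    bEq J X K' G' (φ ≫ ψ) = bEq J X K' G φ ≫ (jRs J X).map ((fgt J).map ψ) := by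
  show (jAdjS J X).homEquiv _ _ (fsEquiv J _ _ (φ ≫ ψ)) = _
  rw [fsEquiv_nat, Adjunction.homEquiv_naturality_right]
  rfl

lemma iso_jL_ZK : Nonempty ((jL J X).obj (ZK (J.over X) K') ≅ ZK J ((jLs J X).obj K')) :=
  iso_of_corep (fun G : Sheaf J AddCommGrpCat.{u} => (K' ⟶ (jRs J X).obj ((fgt J).obj G)))
    (fun ψ t => t ≫ (jRs J X).map ((fgt J).map ψ))
    (aEq J X K') (bEq J X K')
    (fun φ ψ => aEq_nat J X K' φ ψ) (fun φ ψ => bEq_nat J X K' φ ψ)

theorem main (F : Sheaf J AddCommGrpCat.{u}) (hF : CohCx.IsTotallyAcyclic F) :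
    CohCx.IsTotallyAcyclic ((jR J X).obj F) := by
  intro K' p
  obtain ⟨i⟩ := iso_jL_ZK J X K'
  haveI : (jL J X).Additive := (jAdj J X).left_adjoint_additive
  haveI : (jR J X).Additive := (jAdj J X).right_adjoint_additive
  haveI : PreservesColimits (jL J X) := (jAdj J X).leftAdjoint_preservesColimits
  haveI : PreservesLimits (jR J X) := (jAdj J X).rightAdjoint_preservesLimits
  haveI : PreservesColimits (jR J X) :=
    ((Over.forget X).sheafAdjunctionCocontinuous AddCommGrpCat.{u}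
      (J.over X) J).leftAdjoint_preservesColimits
  obtain ⟨e1⟩ := nonempty_addEquiv_of_iso.{u} i F (p + 1)
  haveI : Subsingleton (Ext.{u} (ZK J ((jLs J X).obj K')) F (p + 1)) := hF _ p
  haveI : Subsingleton (Ext.{u} ((jL J X).obj (ZK (J.over X) K')) F (p + 1)) :=
    e1.toEquiv.subsingleton
  exact (Φ_bijective.{u, u} (jAdj J X) (ZK (J.over X) K') F (p + 1)).2.subsingleton

end Site


end helpers

/-- For abelian sheaves on a small site and an object X of the site: if F is flasque in the sense of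
being totally acyclic (H^q(K, F) = 0 for every sheaf of sets K and every q > 0), then its
restriction to the site of objects over X is again flasque in this sense. -/
theorem result {C : Type u} [SmallCategory C] (J : GrothendieckTopology C) (X : C)
    (F : Sheaf J AddCommGrpCat.{u}) (hF : CohCx.IsTotallyAcyclic F) :
    CohCx.IsTotallyAcyclic (((Over.forget X).sheafPushforwardContinuous AddCommGrpCat.{u} (J.over X) J).obj F) := by
  exact Groth.Agent.S3094.main J X F hF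

end Groth.Agent.S3094
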