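import Groth.Statements.S3129
import Mathlib

set_option autoImplicit false
open BigOperators
open SGA4h

namespace Groth.Agent.S3129

section
variable (F : Type) [Field F] [Fintype F] [DecidableEq F] (R : Type) [CommRing R] [IsDomain R]

lemma addChar_sum {ι : Type} (Ψ : AddChar F R) (s : Finset ι) (a : ι → F) :
    Ψ (∑ i ∈ s, a i) = ∏ i ∈ s, Ψ (a i) := by
  classical
  induction s using Finset.induction_on with
  | empty => simp
  | insert i s hi ih =>
    rw [Finset.sum_insert hi, Finset.prod_insert hi, AddChar.map_add_eq_mul, ih]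

lemma mulchar_prod_apply {ι : Type} (s : Finset ι) (χ : ι → MulChar F R) (a : Fˣ) :
    (∏ i ∈ s, χ i) (a : F) = ∏ i ∈ s, χ i (a : F) := by
  classical
  induction s using Finset.induction_on with
  | empty => simp [MulChar.one_apply_coe]
  | insert i s hi ih =>
    rw [Finset.prod_insert hi, Finset.prod_insert hi, MulChar.mul_apply, ih]

lemma sum_eq_add_sum_units (h : F → R) : ∑ y : F, h y = h 0 + ∑ u : Fˣ, h (u : F) := by
  classical
  rw [← Finset.add_sum_erase Finset.univ h (Finset.mem_univ (0:F))]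
  congr 1
  symm
  apply Finset.sum_bij (fun (u : Fˣ) _ => (u : F))
  · intro u _
    simp [u.ne_zero]
  · intro u _ v _ huv
    exact Units.ext huv
  · intro b hb
    have hb0 : b ≠ 0 := by simpa using hb
    exact ⟨Units.mk0 b hb0, Finset.mem_univ _, rfl⟩
  · intro u _
    rfl

def e (N : ℕ) : Fˣ × (Fin N → Fˣ) ≃ (Fin (N+1) → Fˣ) where
  toFun p := Fin.cons (α := fun _ => Fˣ) p.1 (fun i => p.1 * p.2 i)
  invFun y := (y 0, fun i => (y 0)⁻¹ * y i.succ)
  left_inv p := by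
    ext : 1
    · simp
    · funext i
      simp
  right_inv y := by
    funext j
    refine Fin.cases ?_ (fun i => ?_) j
    · simp
    · simp

lemma prod_inv_eq_one (N : ℕ) (χ : Fin (N+1) → MulChar F R) (hprod : ∏ i, χ i = 1) (t : Fˣ) :
    ∏ i, (χ i)⁻¹ (t : F) = 1 := by
  have h : ∀ i, (χ i)⁻¹ (t : F) = χ i ((t⁻¹ : Fˣ) : F) := fun i => by
    rw [MulChar.inv_apply', Units.val_inv_eq_inv_val]
  rw [Finset.prod_congr rfl (fun i _ => h i), ← mulchar_prod_apply, hprod, MulChar.one_apply_coe]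

lemma term_eq (N : ℕ) (χ : Fin (N+1) → MulChar F R) (hprod : ∏ i, χ i = 1) (Ψ : AddChar F R)
    (t : Fˣ) (x : Fin N → Fˣ) :
    ∏ i : Fin (N+1), (Ψ (((e F N (t, x)) i : Fˣ) : F) * (χ i)⁻¹ (((e F N (t,x)) i : Fˣ) : F)) =
      Ψ ((t : F) * (∑ i, ((x i : Fˣ) : F) + 1)) * ∏ i : Fin N, (χ i.succ)⁻¹ ((x i : Fˣ) : F) := by
  rw [Finset.prod_mul_distrib, ← addChar_sum]
  congr 1
  · congr 1
    rw [Fin.sum_univ_succ]
    simp only [e, Equiv.coe_fn_mk, Fin.cons_zero, Fin.cons_succ, Units.val_mul]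
    rw [← Finset.mul_sum]
    ring
  · rw [Fin.prod_univ_succ]
    simp only [e, Equiv.coe_fn_mk, Fin.cons_zero, Fin.cons_succ, Units.val_mul, map_mul]
    rw [Finset.prod_mul_distrib, ← mul_assoc]
    have h1 : (χ 0)⁻¹ (t:F) * ∏ i : Fin N, (χ i.succ)⁻¹ (t : F) = 1 := by
      rw [← Fin.prod_univ_succ (fun i => (χ i)⁻¹ (t : F))]
      exact prod_inv_eq_one F R N χ hprod t
    rw [h1, one_mul]

lemma inner_sum (Ψ : AddChar F R) (hΨ : Ψ ≠ 1) (c : F) :
    ∑ t : Fˣ, Ψ ((t : F) * c) = if c = 0 then (Fintype.card F : R) - 1 else -1 := by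
  split_ifs with hc
  · subst hc
    have h := Fintype.card_eq_card_units_add_one (α := F)
    have h' : (Fintype.card F : R) = (Fintype.card Fˣ : R) + 1 := by
      exact_mod_cast congrArg (Nat.cast (R := R)) h
    rw [h']
    simp
  · have h0 := sum_eq_add_sum_units F R (fun y => Ψ y)
    rw [AddChar.sum_eq_zero_of_ne_one hΨ, AddChar.map_zero_eq_one] at h0
    have h1 : ∑ t : Fˣ, Ψ ((t : F) * c) = ∑ u : Fˣ, Ψ (u : F) := by
      apply Fintype.sum_equiv (Equiv.mulRight (Units.mk0 c hc))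
      intro t
      simp
    rw [h1]
    linear_combination -h0

theorem key (N : ℕ) (χ : Fin (N + 1) → MulChar F R) (hprod : ∏ i, χ i = 1) (hnt : ∃ i, χ i ≠ 1)
    (Ψ : AddChar F R) (hΨ : Ψ ≠ 1) :
    ∏ i : Fin (N + 1), (∑ y : F, Ψ y * (χ i)⁻¹ y) =
    (Fintype.card F : R) *
      ∑ x ∈ (Finset.univ : Finset (Fin N → Fˣ)).filter (fun x => ∑ i, ((x i : Fˣ) : F) = -1),
          ∏ i : Fin N, (χ i.succ)⁻¹ ((x i : Fˣ) : F) := by
  classical
  have h1 : ∀ i, ∑ y : F, Ψ y * (χ i)⁻¹ y = ∑ u : Fˣ, Ψ (u:F) * (χ i)⁻¹ (u:F) := by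
    intro i
    rw [sum_eq_add_sum_units F R (fun y => Ψ y * (χ i)⁻¹ y), MulChar.map_zero, mul_zero, zero_add]
  set B : (Fin N → Fˣ) → R := fun x => ∏ i : Fin N, (χ i.succ)⁻¹ ((x i : Fˣ) : F) with hB
  set c : (Fin N → Fˣ) → F := fun x => ∑ i, ((x i : Fˣ) : F) + 1 with hc
  have h2 : ∏ i : Fin (N + 1), (∑ y : F, Ψ y * (χ i)⁻¹ y) =
      ∑ x : Fin N → Fˣ, ∑ t : Fˣ, Ψ ((t:F) * c x) * B x := by
    rw [Finset.prod_congr rfl (fun i _ => h1 i), Fintype.prod_sum]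
    rw [← Fintype.sum_equiv (e F N) (fun p => Ψ ((p.1 : F) * c p.2) * B p.2) _
      (fun ⟨t, x⟩ => (term_eq F R N χ hprod Ψ t x).symm)]
    exact Fintype.sum_prod_type_right _
  have h3 : ∀ x, ∑ t : Fˣ, Ψ ((t:F) * c x) * B x =
      (Fintype.card F : R) * (if ∑ i, ((x i : Fˣ) : F) = -1 then B x else 0) - B x := by
    intro x
    rw [← Finset.sum_mul, inner_sum F R Ψ hΨ (c x)]
    have hiff : c x = 0 ↔ ∑ i, ((x i : Fˣ) : F) = -1 := eq_neg_iff_add_eq_zero.symm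
    by_cases hx : ∑ i, ((x i : Fˣ) : F) = -1
    · rw [if_pos (hiff.mpr hx), if_pos hx]
      ring
    · rw [if_neg (fun h => hx (hiff.mp h)), if_neg hx]
      ring
  have h4 : ∑ x : Fin N → Fˣ, B x = 0 := by
    have h5 : ∑ x : Fin N → Fˣ, B x = ∏ i : Fin N, ∑ u : Fˣ, (χ i.succ)⁻¹ ((u : Fˣ) : F) :=
      (Fintype.prod_sum (fun (i : Fin N) (u : Fˣ) => (χ i.succ)⁻¹ ((u : Fˣ) : F))).symm
    rw [h5]
    obtain ⟨j, hj⟩ : ∃ j : Fin N, χ j.succ ≠ 1 := by
      by_contra hcon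
      push Not at hcon
      obtain ⟨i, hi⟩ := hnt
      apply hi
      have h0 : χ 0 = 1 := by
        rw [Fin.prod_univ_succ, Finset.prod_congr rfl (fun j _ => hcon j), Finset.prod_const_one,
          mul_one] at hprod
        exact hprod
      exact Fin.cases h0 (fun j => hcon j) i
    apply Finset.prod_eq_zero (Finset.mem_univ j)
    have hs := sum_eq_add_sum_units F R (fun y => (χ j.succ)⁻¹ y)
    rw [MulChar.sum_eq_zero_of_ne_one (inv_ne_one.mpr hj), MulChar.map_zero, zero_add] at hs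
    exact hs.symm
  rw [h2, Finset.sum_congr rfl (fun x _ => h3 x), Finset.sum_sub_distrib, h4, sub_zero,
    ← Finset.mul_sum, Finset.sum_filter]

end

/-- Let F be a finite field with q elements, N ≥ 1, χ₀, …, χ_N multiplicative characters of F with
values in a domain, not all trivial and with product 1, and Ψ a nontrivial additive character of F.
Put τ(χ, Ψ) = −Σ_{x ∈ F} Ψ(x) χ⁻¹(x) and J(χ) = (−1)^{N−1} Σ χ₁⁻¹(x₁) ⋯ χ_N⁻¹(x_N), the sum over x₁,
…, x_N ∈ F^* with x₁ + ⋯ + x_N = −1. Then q · J(χ) = τ(χ₀, Ψ) ⋯ τ(χ_N, Ψ). -/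
theorem result (F : Type) [Field F] [Fintype F] [DecidableEq F] (R : Type) [CommRing R] [IsDomain R]
    (N : ℕ) (hN : 1 ≤ N) (χ : Fin (N + 1) → MulChar F R) (hprod : ∏ i, χ i = 1) (hnt : ∃ i, χ i ≠ 1)
    (Ψ : AddChar F R) (hΨ : Ψ ≠ 1) :
    (Fintype.card F : R) * ((-1) ^ (N - 1) *
        ∑ x ∈ (Finset.univ : Finset (Fin N → Fˣ)).filter (fun x => ∑ i, ((x i : Fˣ) : F) = -1),
          ∏ i : Fin N, (χ i.succ)⁻¹ ((x i : Fˣ) : F)) =
      ∏ i : Fin (N + 1), (-(∑ y : F, Ψ y * (χ i)⁻¹ y)) := by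
  have hk := key F R N χ hprod hnt Ψ hΨ
  rw [Finset.prod_neg, hk, Finset.card_univ, Fintype.card_fin]
  obtain ⟨M, rfl⟩ : ∃ M, N = M + 1 := ⟨N - 1, by omega⟩
  simp only [Nat.add_sub_cancel]
  rw [pow_succ, pow_succ]
  ring

end Groth.Agent.S3129
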