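import Groth.Statements.S3133
import Mathlib
import Mathlib

set_option autoImplicit false
open Polynomial
open SGA4h

namespace Groth.Agent.S3133

open Matrix

section helpers

variable {R : Type} [CommRing R] {m : Type} [Fintype m] [DecidableEq m]

/-- nilpotent shift part -/
noncomputable def Nm (R : Type) [CommRing R] (m : Type) [DecidableEq m] (n : ℕ) :
    Matrix (Fin n × m) (Fin n × m) R[X] :=
  Matrix.of fun p q => if q.1.val + 1 = p.1.val ∧ p.2 = q.2 then 1 else 0

noncomputable def Wm (A : Matrix m m R) (n : ℕ) : Matrix (Fin n × m) m R[X] :=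
  Matrix.of fun p b => X ^ (p.1.val + 1) * C (A p.2 b)

noncomputable def Vm (R : Type) [CommRing R] (m : Type) [DecidableEq m] (n : ℕ) :
    Matrix m (Fin n × m) R[X] :=
  Matrix.of fun b q => if q.1.val = n - 1 ∧ b = q.2 then 1 else 0

noncomputable def Um (A : Matrix m m R) (n : ℕ) : Matrix (Fin n × m) m R[X] :=
  Matrix.of fun p b => if p.1.val = 0 then X * C (A p.2 b) else 0

theorem N_mul_W (A : Matrix m m R) (n : ℕ) (p : Fin n × m) (b : m) :
    (Nm R m n * Wm A n) p b = if p.1.val = 0 then 0 else X ^ p.1.val * C (A p.2 b) := by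
  rw [Matrix.mul_apply]
  split_ifs with h0
  · apply Finset.sum_eq_zero
    intro r _
    have : ¬ (r.1.val + 1 = p.1.val ∧ p.2 = r.2) := by omega
    simp [Nm, this]
  · have hlt : p.1.val - 1 < n := by have := p.1.isLt; omega
    rw [Fintype.sum_eq_single (⟨⟨p.1.val - 1, hlt⟩, p.2⟩ : Fin n × m)]
    · have h1 : p.1.val - 1 + 1 = p.1.val := by omega
      simp [Nm, Wm, h1]
    · intro r hr
      have : ¬ (r.1.val + 1 = p.1.val ∧ p.2 = r.2) := by
        rintro ⟨h1, h2⟩
        apply hr
        refine Prod.ext (Fin.ext ?_) h2.symm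
        show (r.1 : ℕ) = p.1.val - 1
        omega
      simp [Nm, this]

theorem X0_mul_W (A : Matrix m m R) (n : ℕ) :
    (1 - (X : R[X]) • Nm R m n) * Wm A n = Um A n := by
  ext p b : 2
  rw [Matrix.sub_mul, Matrix.one_mul, Matrix.smul_mul, Matrix.sub_apply, Matrix.smul_apply,
    N_mul_W]
  simp only [Wm, Um, Matrix.of_apply, smul_eq_mul]
  split_ifs with h0
  · rw [h0]; ring
  · rw [pow_succ]; ring

theorem V_mul_W (A : Matrix m m R) (n : ℕ) (hn : 1 ≤ n) :
    Vm R m n * Wm A n = (X : R[X]) ^ n • A.map C := by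
  ext b c : 2
  rw [Matrix.mul_apply, Fintype.sum_eq_single (⟨⟨n - 1, by omega⟩, b⟩ : Fin n × m)]
  · have h1 : n - 1 + 1 = n := by omega
    simp [Vm, Wm, h1]
  · intro r hr
    have : ¬ (r.1.val = n - 1 ∧ b = r.2) := by
      rintro ⟨h1, h2⟩
      apply hr
      exact Prod.ext (Fin.ext h1) h2.symm
    simp [Vm, this]

theorem decomp (A : Matrix m m R) (n : ℕ) :
    (1 : Matrix (Fin n × m) (Fin n × m) R[X]) - (X : R[X]) • (Matrix.of fun (p q : Fin n × m) =>
        if p.1.val = 0 then (if q.1.val = n - 1 then A p.2 q.2 else 0)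
        else (if q.1.val + 1 = p.1.val ∧ p.2 = q.2 then 1 else 0)).map C
      = (1 - (X : R[X]) • Nm R m n) - Um A n * Vm R m n := by
  ext p q : 2
  have hUV : (Um A n * Vm R m n) p q =
      if p.1.val = 0 ∧ q.1.val = n - 1 then X * C (A p.2 q.2) else 0 := by
    rw [Matrix.mul_apply, Fintype.sum_eq_single q.2]
    · by_cases h0 : p.1.val = 0 <;> by_cases h1 : q.1.val = n - 1 <;> simp [Um, Vm, h0, h1]
    · intro b hb
      have : ¬ (q.1.val = n - 1 ∧ b = q.2) := fun h => hb h.2
      simp [Vm, this]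
  rw [Matrix.sub_apply, Matrix.sub_apply, Matrix.sub_apply, hUV]
  simp only [Matrix.smul_apply, Matrix.map_apply, Matrix.of_apply, Nm, smul_eq_mul]
  by_cases h0 : p.1.val = 0
  · have : ¬ (q.1.val + 1 = p.1.val ∧ p.2 = q.2) := by omega
    by_cases h1 : q.1.val = n - 1 <;> simp [h0, h1, this]
  · by_cases h2 : (q.1.val + 1 = p.1.val ∧ p.2 = q.2) <;> simp [h0, h2]

theorem det_X0 (n : ℕ) : (1 - (X : R[X]) • Nm R m n).det = 1 := by
  have hbt : (1 - (X : R[X]) • Nm R m n).BlockTriangular
      (fun p : Fin n × m => OrderDual.toDual p.1) := by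
    intro p q hpq
    have hlt : p.1 < q.1 := hpq
    have hne : p ≠ q := by rintro rfl; exact lt_irrefl _ hlt
    have : ¬ (q.1.val + 1 = p.1.val ∧ p.2 = q.2) := by
      have := Fin.lt_def.mp hlt; omega
    simp [Nm, Matrix.one_apply, hne, this]
  rw [hbt.det_fintype]
  apply Finset.prod_eq_one
  intro k _
  have : (1 - (X : R[X]) • Nm R m n).toSquareBlock
      (fun p : Fin n × m => OrderDual.toDual p.1) k = 1 := by
    ext ⟨p, hp⟩ ⟨q, hq⟩ : 2
    have : ¬ (q.1.val + 1 = p.1.val ∧ p.2 = q.2) := by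
      have h1 : p.1 = q.1 := OrderDual.toDual.injective (hp.trans hq.symm)
      rw [h1]; omega
    simp [Matrix.toSquareBlock_def, Nm, Matrix.one_apply, this]
  rw [this, Matrix.det_one]

end helpers

/-- Let A be a square matrix over a commutative ring and n ≥ 1, and let B be the matrix on n blocks of
the endomorphism (x_1, …, x_n) ↦ (A x_n, x_1, …, x_{n-1}). Then det(1 − B·T) = det(1 − A·Tⁿ), i.e.
the reverse characteristic polynomial of B is that of A expanded by n. -/
theorem result (R : Type) [CommRing R] (m : Type) [Fintype m] [DecidableEq m]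
    (A : Matrix m m R) (n : ℕ) (hn : 1 ≤ n) :
    (Matrix.of fun (p q : Fin n × m) =>
        if p.1.val = 0 then (if q.1.val = n - 1 then A p.2 q.2 else 0)
        else (if q.1.val + 1 = p.1.val ∧ p.2 = q.2 then 1 else 0)).charpolyRev =
      Polynomial.expand R n A.charpolyRev := by
  have h1 := decomp (R := R) (m := m) A n
  have h2 : (1 - (X : R[X]) • Nm R m n) - Um A n * Vm R m n =
      (1 - (X : R[X]) • Nm R m n) * (1 - Wm A n * Vm R m n) := by
    rw [Matrix.mul_sub, Matrix.mul_one, ← Matrix.mul_assoc, X0_mul_W]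
  unfold Matrix.charpolyRev
  rw [h1, h2, Matrix.det_mul, det_X0, one_mul, Matrix.det_one_sub_mul_comm, V_mul_W A n hn]
  rw [AlgHom.map_det]
  congr 1
  ext i j : 2
  simp only [AlgHom.mapMatrix_apply, Matrix.map_apply, Matrix.sub_apply, Matrix.smul_apply,
    smul_eq_mul, map_sub, map_mul, expand_X, expand_C]
  by_cases hij : i = j
  · subst hij; simp only [Matrix.one_apply_eq, map_one]
  · simp only [Matrix.one_apply_ne hij, map_zero]

end Groth.Agent.S3133
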