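import Groth.Statements.S3140
import Mathlib

set_option autoImplicit false
universe u
open RingTheory.Sequence
open SGA4h

namespace Groth.Agent.S3140

open IsLocalRing

lemma length_le_spanFinrank (A : Type*) [CommRing A] [IsLocalRing A] [IsNoetherianRing A]
    (rs : List A) (reg : IsRegular A rs) : rs.length ≤ (Ideal.ofList rs).spanFinrank := by
  have hne : Ideal.ofList rs ≠ ⊤ := by
    intro h
    apply reg.top_ne_smul
    rw [h, Submodule.top_smul]
  have hle : Ideal.ofList rs ≤ Ring.jacobson A := by
    rw [IsLocalRing.ringJacobson_eq_maximalIdeal]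
    exact IsLocalRing.le_maximalIdeal hne
  have h1 := ringKrullDim_add_length_eq_ringKrullDim_of_isRegular rs reg
  have h2 := ringKrullDim_le_ringKrullDim_quotient_add_spanFinrank (Ideal.ofList rs) hle
  have : Nontrivial (A ⧸ Ideal.ofList rs) := Ideal.Quotient.nontrivial_iff.mpr hne
  have : IsLocalRing (A ⧸ Ideal.ofList rs) :=
    IsLocalRing.of_surjective' (Ideal.Quotient.mk (Ideal.ofList rs)) Ideal.Quotient.mk_surjective
  have hbot := ringKrullDim_ne_bot (R := A ⧸ Ideal.ofList rs)
  have htop := ringKrullDim_ne_top (R := A ⧸ Ideal.ofList rs)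
  rw [← h1] at h2
  obtain ⟨d', hd'⟩ := WithBot.ne_bot_iff_exists.mp hbot
  rw [← hd'] at htop h2
  have hd'top : d' ≠ ⊤ := by
    rintro rfl
    exact htop rfl
  obtain ⟨d, rfl⟩ := ENat.ne_top_iff_exists.mp hd'top
  have h3 : ((d + rs.length : ℕ) : WithBot ℕ∞) ≤
      ((d + (Ideal.ofList rs).spanFinrank : ℕ) : WithBot ℕ∞) := by
    push_cast
    exact h2
  have h4 : d + rs.length ≤ d + (Ideal.ofList rs).spanFinrank := by
    exact_mod_cast h3
  omega

lemma spanFinrank_le_length (A : Type*) [CommRing A] (l : List A) :
    (Ideal.ofList l).spanFinrank ≤ l.length := by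
  classical
  have h1 : {x | x ∈ l} = (↑l.toFinset : Set A) := by
    ext x
    simp
  have h2 := Submodule.spanFinrank_span_le_ncard_of_finite (R := A) (s := {x | x ∈ l})
    (by rw [h1]; exact Finset.finite_toSet _)
  refine h2.trans ?_
  rw [h1, Set.ncard_coe_finset]
  exact List.toFinset_card_le l

lemma replace_last (A : Type*) [CommRing A] (w : List A) (x y c z : A) (hc : IsUnit c)
    (hz : z ∈ Ideal.ofList w) (hy : y = c * x + z) (h : IsRegular A (w ++ [x])) :
    IsRegular A (w ++ [y]) ∧ Ideal.ofList (w ++ [y]) = Ideal.ofList (w ++ [x]) := by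
  have hI : Ideal.ofList (w ++ [y]) = Ideal.ofList (w ++ [x]) := by
    rw [Ideal.ofList_append, Ideal.ofList_append, Ideal.ofList_singleton, Ideal.ofList_singleton]
    apply le_antisymm
    · refine sup_le le_sup_left ?_
      rw [Ideal.span_singleton_le_iff_mem, hy]
      exact Ideal.add_mem _ (Ideal.mul_mem_left _ _
        (Ideal.mem_sup_right (Ideal.mem_span_singleton_self x))) (Ideal.mem_sup_left hz)
    · refine sup_le le_sup_left ?_
      rw [Ideal.span_singleton_le_iff_mem]
      obtain ⟨c', hc'⟩ := hc.exists_left_inv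
      have hx : x = c' * y - c' * z := by
        rw [hy, mul_add, ← mul_assoc, hc', one_mul, add_sub_cancel_right]
      rw [hx]
      exact Ideal.sub_mem _ (Ideal.mul_mem_left _ _
        (Ideal.mem_sup_right (Ideal.mem_span_singleton_self y)))
        (Ideal.mul_mem_left _ _ (Ideal.mem_sup_left hz))
  refine ⟨⟨?_, ?_⟩, hI⟩
  · have hw := h.toIsWeaklyRegular
    rw [isWeaklyRegular_append_iff, isWeaklyRegular_singleton_iff] at hw ⊢
    refine ⟨hw.1, ?_⟩
    have hzero : ∀ m : A ⧸ (Ideal.ofList w • (⊤ : Submodule A A)), z • m = 0 := by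
      intro m
      obtain ⟨a, rfl⟩ := Submodule.Quotient.mk_surjective _ m
      rw [← Submodule.Quotient.mk_smul, Submodule.Quotient.mk_eq_zero]
      exact Submodule.smul_mem_smul hz Submodule.mem_top
    have hsm : ∀ m : A ⧸ (Ideal.ofList w • (⊤ : Submodule A A)), y • m = c • (x • m) := by
      intro m
      rw [hy, add_smul, hzero, add_zero, mul_smul]
    intro m₁ m₂ hm
    have hm' : y • m₁ = y • m₂ := hm
    rw [hsm, hsm] at hm'
    exact hw.2 (hc.isSMulRegular _ hm')
  · rw [hI]
    exact h.top_ne_smul

lemma split (A : Type*) [CommRing A] [IsLocalRing A] (J : Ideal A) :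
    ∀ (t : List A) (y : A), y ∈ Ideal.ofList t ⊔ J →
      y ∈ maximalIdeal A • Ideal.ofList t ⊔ J ∨
      ∃ (t₁ t₂ : List A) (x c z : A), t = t₁ ++ x :: t₂ ∧ IsUnit c ∧
        z ∈ Ideal.ofList (t₁ ++ t₂) ⊔ J ∧ y = c * x + z := by
  intro t
  induction t with
  | nil =>
    intro y hy
    left
    rw [Ideal.ofList_nil] at hy ⊢
    simpa using hy
  | cons a t ih =>
    intro y hy
    rw [Ideal.ofList_cons, sup_assoc] at hy
    obtain ⟨p, hp, y', hy', rfl⟩ := Submodule.mem_sup.mp hy
    obtain ⟨r, rfl⟩ := Ideal.mem_span_singleton'.mp hp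
    by_cases hr : IsUnit r
    · right
      exact ⟨[], t, a, r, y', rfl, hr, by simpa using hy', rfl⟩
    · have hrm : r ∈ maximalIdeal A := (IsLocalRing.mem_maximalIdeal r).mpr hr
      have hmono : Ideal.ofList t ≤ Ideal.ofList (a :: t) :=
        Ideal.span_mono (fun x hx => List.mem_cons_of_mem a hx)
      rcases ih y' hy' with h | ⟨t₁, t₂, x, c, z, rfl, hc, hz, rfl⟩
      · left
        refine Ideal.add_mem _ (Ideal.mem_sup_left ?_) ?_
        · exact Submodule.smul_mem_smul hrm (Ideal.subset_span (List.mem_cons_self))
        · exact (sup_le_sup_right (Submodule.smul_mono le_rfl hmono) J) h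
      · right
        refine ⟨a :: t₁, t₂, x, c, r * a + z, rfl, hc, ?_, by ring⟩
        have hmono2 : Ideal.ofList (t₁ ++ t₂) ≤ Ideal.ofList (a :: t₁ ++ t₂) :=
          Ideal.span_mono (fun x hx => List.mem_cons_of_mem a hx)
        refine Ideal.add_mem _ (Ideal.mem_sup_left (Ideal.mul_mem_left _ _
          (Ideal.subset_span (List.mem_cons_self)))) ?_
        exact (sup_le_sup_right hmono2 J) hz

def Reach {A : Type*} [CommRing A] (u v w : List A) : Prop :=
  ∃ ws : List (List A), ws.head? = some w ∧ ws.getLast? = some v ∧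
    (∀ w' ∈ ws, IsRegular A w' ∧ Ideal.ofList w' = Ideal.ofList u) ∧
    List.IsChain (fun w w' : List A =>
      w.Perm w' ∨ (w.length = w'.length ∧ w.dropLast = w'.dropLast)) ws

lemma reach_base {A : Type*} [CommRing A] (u v : List A)
    (hv : IsRegular A v ∧ Ideal.ofList v = Ideal.ofList u) : Reach u v v :=
  ⟨[v], rfl, rfl, by
    intro w' hw'
    rw [List.mem_singleton] at hw'
    subst hw'
    exact hv, List.isChain_singleton _⟩

lemma reach_step {A : Type*} [CommRing A] (u v w w' : List A) (h : Reach u v w)
    (hrel : w'.Perm w ∨ (w'.length = w.length ∧ w'.dropLast = w.dropLast))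
    (hw' : IsRegular A w' ∧ Ideal.ofList w' = Ideal.ofList u) : Reach u v w' := by
  obtain ⟨ws, h1, h2, h3, h4⟩ := h
  cases ws with
  | nil => simp at h1
  | cons w₀ ws' =>
    simp only [List.head?_cons, Option.some.injEq] at h1
    subst h1
    refine ⟨w' :: w₀ :: ws', rfl, ?_, ?_, ?_⟩
    · rw [List.getLast?_cons_cons]
      exact h2
    · intro x hx
      rcases List.mem_cons.mp hx with rfl | hx
      · exact hw'
      · exact h3 x hx
    · exact List.isChain_cons_cons.mpr ⟨hrel, h4⟩

end Groth.Agent.S3140

namespace Groth.Agent.S3140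

/-- Let A be a Noetherian local ring and u, v two regular sequences of elements of A generating the same
ideal. Then there is a finite chain of regular sequences generating that same ideal, starting at u
and ending at v, in which each sequence is obtained from the previous one either by a permutation or
by changing only its last element. -/
theorem result (A : Type u) [CommRing A] [IsLocalRing A] [IsNoetherianRing A]
    (u v : List A) (hu : IsRegular A u) (hv : IsRegular A v) (huv : Ideal.span {x | x ∈ u} = Ideal.span {x | x ∈ v}) :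
    ∃ ws : List (List A), ws.head? = some u ∧ ws.getLast? = some v ∧
      (∀ w ∈ ws, IsRegular A w ∧ Ideal.span {x | x ∈ w} = Ideal.span {x | x ∈ u}) ∧
      List.IsChain (fun w w' : List A => w.Perm w' ∨ (w.length = w'.length ∧ w.dropLast = w'.dropLast)) ws := by
  have huv' : Ideal.ofList u = Ideal.ofList v := huv
  have hlen : u.length = v.length := by
    have h1 := length_le_spanFinrank A u hu
    have h2 := spanFinrank_le_length A v
    have h3 := length_le_spanFinrank A v hv
    have h4 := spanFinrank_le_length A u
    rw [huv'] at h1 h4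
    omega
  have key : ∀ k : ℕ, k ≤ u.length → ∃ t : List A, t.length = u.length - k ∧
      (IsRegular A (t ++ u.take k) ∧ Ideal.ofList (t ++ u.take k) = Ideal.ofList u) ∧
      Reach u v (t ++ u.take k) := by
    intro k
    induction k with
    | zero =>
      intro _
      refine ⟨v, by omega, ?_, ?_⟩
      · rw [List.take_zero, List.append_nil]
        exact ⟨hv, huv'.symm⟩
      · rw [List.take_zero, List.append_nil]
        exact reach_base u v ⟨hv, huv'.symm⟩
    | succ k ih =>
      intro hk
      obtain ⟨t, htlen, ⟨hreg, hspan⟩, hreach⟩ := ih (by omega)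
      have hk' : k < u.length := by omega
      have hy : u[k]'hk' ∈ Ideal.ofList t ⊔ Ideal.ofList (u.take k) := by
        rw [← Ideal.ofList_append, hspan]
        exact Ideal.subset_span (List.getElem_mem hk')
      have htake : u.take (k + 1) = u.take k ++ [u[k]'hk'] :=
        List.take_succ_eq_append_getElem hk'
      rcases split A (Ideal.ofList (u.take k)) t (u[k]'hk') hy with
        hbad | ⟨t₁, t₂, x, c, z, rfl, hc, hz, hyeq⟩
      · exfalso
        have hu_split : u = u.take k ++ (u[k]'hk') :: u.drop (k + 1) := by
          rw [← List.drop_eq_getElem_cons hk']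
          exact (List.take_append_drop k u).symm
        have hIeq : Ideal.ofList u = Ideal.ofList (u.take k ++ (u[k]'hk') :: u.drop (k + 1)) :=
          congrArg Ideal.ofList hu_split
        have htle : Ideal.ofList t ≤ Ideal.ofList u := by
          rw [← hspan, Ideal.ofList_append]
          exact le_sup_left
        have hle : Ideal.ofList u ≤ Ideal.ofList (u.take k ++ u.drop (k + 1)) ⊔
            IsLocalRing.maximalIdeal A • Ideal.ofList u := by
          refine hIeq.le.trans ?_
          rw [Ideal.ofList_append, Ideal.ofList_cons, Ideal.ofList_append]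
          refine sup_le (le_sup_of_le_left le_sup_left) (sup_le ?_ (le_sup_of_le_left le_sup_right))
          rw [Ideal.span_singleton_le_iff_mem]
          exact (sup_le (le_sup_of_le_right (Submodule.smul_mono le_rfl htle))
            (le_sup_of_le_left le_sup_left)) hbad
        have hJ : Ideal.ofList u ≤ Ideal.ofList (u.take k ++ u.drop (k + 1)) :=
          Submodule.le_of_le_smul_of_le_jacobson_bot (IsNoetherian.noetherian _)
            (IsLocalRing.maximalIdeal_le_jacobson ⊥) hle
        have hJ' : Ideal.ofList (u.take k ++ u.drop (k + 1)) ≤ Ideal.ofList u := by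
          apply Ideal.span_mono
          intro a ha
          rcases List.mem_append.mp ha with ha | ha
          · exact List.mem_of_mem_take ha
          · exact List.mem_of_mem_drop ha
        have heq : Ideal.ofList u = Ideal.ofList (u.take k ++ u.drop (k + 1)) :=
          le_antisymm hJ hJ'
        have h1 := length_le_spanFinrank A u hu
        have h2 := spanFinrank_le_length A (u.take k ++ u.drop (k + 1))
        rw [← heq] at h2
        simp only [List.length_append, List.length_take, List.length_drop] at h2
        omega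
      · have hperm : (t₁ ++ x :: t₂ ++ u.take k).Perm ((t₁ ++ t₂ ++ u.take k) ++ [x]) := by
          have h1 : (t₁ ++ x :: t₂ ++ u.take k) = t₁ ++ x :: (t₂ ++ u.take k) := by simp
          have h2 : (t₁ ++ t₂ ++ u.take k ++ [x]) = (t₁ ++ (t₂ ++ u.take k)) ++ [x] := by simp
          rw [h1, h2]
          exact List.perm_middle.trans (List.perm_append_singleton x _).symm
        have hreg1 : IsRegular A ((t₁ ++ t₂ ++ u.take k) ++ [x]) :=
          IsLocalRing.isRegular_of_perm hreg hperm
        have hz' : z ∈ Ideal.ofList (t₁ ++ t₂ ++ u.take k) := by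
          show z ∈ Ideal.ofList ((t₁ ++ t₂) ++ u.take k)
          rw [Ideal.ofList_append]
          exact hz
        obtain ⟨hreg2, hspan2⟩ :=
          replace_last A (t₁ ++ t₂ ++ u.take k) x (u[k]'hk') c z hc hz' hyeq hreg1
        have hspan1 : Ideal.ofList ((t₁ ++ t₂ ++ u.take k) ++ [x]) = Ideal.ofList u := by
          rw [← hspan]
          exact congrArg Ideal.span (Set.ext fun _ => hperm.symm.mem_iff)
        refine ⟨t₁ ++ t₂, ?_, ?_, ?_⟩
        · simp only [List.length_append, List.length_cons] at htlen ⊢
          omega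
        · rw [htake, ← List.append_assoc]
          exact ⟨hreg2, hspan2.trans hspan1⟩
        · rw [htake, ← List.append_assoc]
          refine reach_step u v _ _ (reach_step u v _ _ hreach (Or.inl hperm.symm)
            ⟨hreg1, hspan1⟩) (Or.inr ⟨by simp only [List.length_append, List.length_singleton], by rw [List.dropLast_concat, List.dropLast_concat]⟩) ⟨hreg2, hspan2.trans hspan1⟩
  obtain ⟨t, htlen, _, hreach⟩ := key u.length le_rfl
  have ht : t = [] := List.length_eq_zero_iff.mp (by omega)
  subst ht
  rw [List.nil_append, List.take_length] at hreach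
  obtain ⟨ws, h1, h2, h3, h4⟩ := hreach
  exact ⟨ws, h1, h2, h3, h4⟩

end Groth.Agent.S3140
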