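import Groth.Statements.S8720
import Mathlib

set_option linter.style.haveILetI false

set_option autoImplicit false
universe u
open VanCyc

namespace Groth.Agent.S8720

section Aux

open MvPowerSeries IsLocalRing

/-- Explicit decomposition of a power series without constant term. -/
theorem exists_decomp {σ : Type*} [Fintype σ] {k : Type*} [CommRing k] (f : MvPowerSeries σ k)
    (hf : constantCoeff f = 0) :
    ∃ F : σ → MvPowerSeries σ k, f = ∑ i, X i * F i ∧
      ∀ i d, coeff d (F i) = 0 ∨ coeff d (F i) = coeff (d + Finsupp.single i 1) f := by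
  classical
  letI : LinearOrder σ := LinearOrder.lift' (Fintype.equivFin σ) (Fintype.equivFin σ).injective
  let F : σ → MvPowerSeries σ k := fun i d => if (∀ j, j < i → d j = 0) then
      coeff (d + Finsupp.single i 1) f else 0
  refine ⟨F, ?_, ?_⟩
  · ext e
    rw [map_sum]
    by_cases he : e = 0
    · subst he
      rw [coeff_zero_eq_constantCoeff_apply, hf]
      symm
      refine Finset.sum_eq_zero fun i _ => ?_
      exact coeff_zero_X_mul _ _
    · have hne : e.support.Nonempty := Finsupp.support_nonempty_iff.mpr he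
      obtain ⟨i₀, hi₀⟩ : ∃ i₀, i₀ = e.support.min' hne := ⟨_, rfl⟩
      have hi₀mem : e i₀ ≠ 0 := by
        rw [hi₀]; exact Finsupp.mem_support_iff.mp (Finset.min'_mem _ hne)
      have hmin : ∀ j, e j ≠ 0 → i₀ ≤ j := by
        intro j hj
        rw [hi₀]; exact Finset.min'_le e.support j (Finsupp.mem_support_iff.mpr hj)
      have hlt : ∀ j, j < i₀ → e j = 0 := by
        intro j hj
        by_contra hc
        exact absurd hj (not_lt.mpr (hmin j hc))
      rw [Finset.sum_eq_single i₀]
      · have hle : Finsupp.single i₀ 1 ≤ e := by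
          rw [Finsupp.single_le_iff]
          omega
        show coeff e f = coeff e (monomial (Finsupp.single i₀ 1) 1 * _)
        rw [coeff_monomial_mul, if_pos hle, one_mul]
        show coeff e f = if (∀ j, j < i₀ → (e - Finsupp.single i₀ 1 : σ →₀ ℕ) j = 0) then
          coeff (e - Finsupp.single i₀ 1 + Finsupp.single i₀ 1) f else 0
        rw [if_pos, tsub_add_cancel_of_le hle]
        intro j hj
        rw [Finsupp.tsub_apply, hlt j hj, zero_tsub]
      · intro i _ hi
        show coeff e (monomial (Finsupp.single i 1) 1 * _) = 0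
        rw [coeff_monomial_mul]
        split_ifs with hle
        · rw [one_mul]
          show (if (∀ j, j < i → (e - Finsupp.single i 1 : σ →₀ ℕ) j = 0) then
            coeff (e - Finsupp.single i 1 + Finsupp.single i 1) f else 0) = 0
          rw [if_neg]
          intro hall
          have hei : e i ≠ 0 := by
            have h1 := hle i
            rw [Finsupp.single_eq_same] at h1
            omega
          have hlt' : i₀ < i := lt_of_le_of_ne (hmin i hei) (Ne.symm hi)
          have h2 := hall i₀ hlt'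
          rw [Finsupp.tsub_apply, Finsupp.single_apply, if_neg (ne_of_gt hlt'), tsub_zero] at h2
          exact hi₀mem h2
        · rfl
      · intro h; exact absurd (Finset.mem_univ _) h
  · intro i d
    show (if (∀ j, j < i → d j = 0) then coeff (d + Finsupp.single i 1) f else 0) = 0 ∨
      (if (∀ j, j < i → d j = 0) then coeff (d + Finsupp.single i 1) f else 0) =
        coeff (d + Finsupp.single i 1) f
    split_ifs
    · exact Or.inr rfl
    · exact Or.inl rfl

/-- A power series all of whose coefficients of degree `< n` vanish lies in `𝔪 ^ n`. -/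
theorem mem_pow_of_coeff {σ : Type*} [Fintype σ] {k : Type*} [CommRing k] (n : ℕ) :
    ∀ (f : MvPowerSeries σ k), (∀ d : σ →₀ ℕ, d.degree < n → coeff d f = 0) →
      f ∈ Ideal.span (Set.range (X : σ → MvPowerSeries σ k)) ^ n := by
  induction n with
  | zero =>
    intro f _
    rw [pow_zero, Ideal.one_eq_top]
    trivial
  | succ n ih =>
    intro f hf
    have h0 : constantCoeff f = 0 := by
      rw [← coeff_zero_eq_constantCoeff_apply]
      exact hf 0 (by rw [map_zero]; omega)
    obtain ⟨F, hF, hF'⟩ := exists_decomp f h0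
    rw [hF, pow_succ']
    refine Ideal.sum_mem _ fun i _ => Ideal.mul_mem_mul (Ideal.subset_span ⟨i, rfl⟩) (ih _ ?_)
    intro d hd
    rcases hF' i d with h | h
    · exact h
    · rw [h]
      apply hf
      rw [map_add, Finsupp.degree_single]
      omega

end Aux

/-- The formal computation carried out in its proof: let k be a field of characteristic 2, m a natural
number, and f a power series over k in the variables x_0 and x_i, x_i' (i = 1, ..., m) whose terms
of degree less than 3 are exactly those of x_0^2 + x_1 x_1' + ... + x_m x_m'. Then the ideal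
generated by f and all its partial derivatives is the ideal generated by x_0^2 and the x_i, x_i',
and the quotient of the power series ring by this ideal is two-dimensional over k. (Characteristic 2
is what makes the derivative in x_0 lose its linear term.) -/
theorem result (k : Type u) [Field k] [CharP k 2] (m : ℕ)
    (f : MvPowerSeries (Option (Fin m ⊕ Fin m)) k)
    (hf : ∀ d : Option (Fin m ⊕ Fin m) →₀ ℕ, d.degree < 3 →
      MvPowerSeries.coeff d f = MvPowerSeries.coeff d
        (MvPowerSeries.X none ^ 2 +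
          ∑ i : Fin m, MvPowerSeries.X (some (Sum.inl i)) * MvPowerSeries.X (some (Sum.inr i)))) :
    Ideal.span ({f} ∪ Set.range fun i : Option (Fin m ⊕ Fin m) => MvPowerSeries.pderiv k i f) =
      Ideal.span ({MvPowerSeries.X none ^ 2} ∪
        Set.range fun j : Fin m ⊕ Fin m => (MvPowerSeries.X (some j) : MvPowerSeries (Option (Fin m ⊕ Fin m)) k)) ∧
    Module.finrank k (MvPowerSeries (Option (Fin m ⊕ Fin m)) k ⧸
      Ideal.span ({MvPowerSeries.X none ^ 2} ∪
        Set.range fun j : Fin m ⊕ Fin m => (MvPowerSeries.X (some j) : MvPowerSeries (Option (Fin m ⊕ Fin m)) k))) = 2 := by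
  classical
  set q : MvPowerSeries (Option (Fin m ⊕ Fin m)) k := MvPowerSeries.X none ^ 2 +
    ∑ i : Fin m, MvPowerSeries.X (some (Sum.inl i)) * MvPowerSeries.X (some (Sum.inr i)) with hq_def
  set J : Ideal (MvPowerSeries (Option (Fin m ⊕ Fin m)) k) :=
    Ideal.span ({MvPowerSeries.X none ^ 2} ∪
      Set.range fun j : Fin m ⊕ Fin m =>
        (MvPowerSeries.X (some j) : MvPowerSeries (Option (Fin m ⊕ Fin m)) k)) with hJ_def
  set I : Ideal (MvPowerSeries (Option (Fin m ⊕ Fin m)) k) :=
    Ideal.span ({f} ∪ Set.range fun i : Option (Fin m ⊕ Fin m) => MvPowerSeries.pderiv k i f)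
    with hI_def
  set 𝔪 : Ideal (MvPowerSeries (Option (Fin m ⊕ Fin m)) k) :=
    Ideal.span (Set.range (MvPowerSeries.X :
      Option (Fin m ⊕ Fin m) → MvPowerSeries (Option (Fin m ⊕ Fin m)) k)) with h𝔪_def
  have hx0J : (MvPowerSeries.X none ^ 2 : MvPowerSeries (Option (Fin m ⊕ Fin m)) k) ∈ J :=
    Ideal.subset_span (Set.mem_union_left _ (Set.mem_singleton _))
  have hyJ : ∀ j : Fin m ⊕ Fin m,
      (MvPowerSeries.X (some j) : MvPowerSeries (Option (Fin m ⊕ Fin m)) k) ∈ J :=
    fun j => Ideal.subset_span (Set.mem_union_right _ ⟨j, rfl⟩)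
  have hX𝔪 : ∀ a : Option (Fin m ⊕ Fin m),
      (MvPowerSeries.X a : MvPowerSeries (Option (Fin m ⊕ Fin m)) k) ∈ 𝔪 :=
    fun a => Ideal.subset_span ⟨a, rfl⟩
  have hfI : f ∈ I := Ideal.subset_span (Set.mem_union_left _ (Set.mem_singleton _))
  have hdfI : ∀ a, MvPowerSeries.pderiv k a f ∈ I :=
    fun a => Ideal.subset_span (Set.mem_union_right _ ⟨a, rfl⟩)
  -- products of two variables
  have hL0 : 𝔪 ^ 2 ≤ J := by
    rw [pow_two, h𝔪_def, Ideal.span_mul_span', Ideal.span_le]
    rintro _ ⟨_, ⟨a, rfl⟩, _, ⟨b, rfl⟩, rfl⟩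
    dsimp only
    rcases a with _ | ja
    · rcases b with _ | jb
      · rw [← pow_two]; exact hx0J
      · exact Ideal.mul_mem_left _ _ (hyJ jb)
    · exact Ideal.mul_mem_right _ _ (hyJ ja)
  have hL1 : 𝔪 ^ 2 ≤ Ideal.span {(MvPowerSeries.X none ^ 2 :
      MvPowerSeries (Option (Fin m ⊕ Fin m)) k)} ⊔ 𝔪 * J := by
    rw [pow_two]
    nth_rewrite 1 2 [h𝔪_def]
    rw [Ideal.span_mul_span', Ideal.span_le]
    rintro _ ⟨_, ⟨a, rfl⟩, _, ⟨b, rfl⟩, rfl⟩
    dsimp only
    rcases a with _ | ja
    · rcases b with _ | jb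
      · rw [← pow_two]
        exact Submodule.mem_sup_left (Ideal.subset_span rfl)
      · exact Submodule.mem_sup_right (Ideal.mul_mem_mul (hX𝔪 none) (hyJ jb))
    · rw [mul_comm (MvPowerSeries.X (some ja))]
      exact Submodule.mem_sup_right (Ideal.mul_mem_mul (hX𝔪 b) (hyJ ja))
  have hL2 : 𝔪 ^ 3 ≤ 𝔪 * J := by
    rw [pow_succ' 𝔪 2]
    exact Ideal.mul_mono_right hL0
  -- the remainder
  set g : MvPowerSeries (Option (Fin m ⊕ Fin m)) k := f - q with hg_def
  have hg : ∀ d : Option (Fin m ⊕ Fin m) →₀ ℕ, d.degree < 3 → MvPowerSeries.coeff d g = 0 := by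
    intro d hd
    rw [hg_def, map_sub, hf d hd, sub_self]
  have hg3 : g ∈ 𝔪 ^ 3 := mem_pow_of_coeff 3 g hg
  have hdg : ∀ a, MvPowerSeries.pderiv k a g ∈ 𝔪 ^ 2 := by
    intro a
    refine mem_pow_of_coeff 2 _ (fun d hd => ?_)
    rw [MvPowerSeries.coeff_pderiv, hg _ (by rw [map_add, Finsupp.degree_single]; omega), zero_mul]
  have hfqg : f = q + g := by rw [hg_def, add_sub_cancel]
  have hdf : ∀ a, MvPowerSeries.pderiv k a f =
      MvPowerSeries.pderiv k a q + MvPowerSeries.pderiv k a g := by
    intro a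
    rw [← map_add, ← hfqg]
  -- derivatives of the quadratic part
  have h2 : ((2 : ℕ) : MvPowerSeries (Option (Fin m ⊕ Fin m)) k) = 0 := by
    have h2k : ((2 : ℕ) : k) = 0 := CharP.cast_eq_zero k 2
    rw [← map_natCast (MvPowerSeries.C : k →+* MvPowerSeries (Option (Fin m ⊕ Fin m)) k), h2k,
      map_zero]
  have hq_none : MvPowerSeries.pderiv k none q = 0 := by
    rw [hq_def, map_add, map_sum, MvPowerSeries.pderiv_pow, h2, zero_mul, zero_mul, zero_add]
    refine Finset.sum_eq_zero fun i _ => ?_
    rw [Derivation.leibniz, MvPowerSeries.pderiv_X_of_ne (Option.some_ne_none _),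
      MvPowerSeries.pderiv_X_of_ne (Option.some_ne_none _), smul_zero, smul_zero, add_zero]
  have hq_some : ∀ j : Fin m ⊕ Fin m, MvPowerSeries.pderiv k (some j) q =
      MvPowerSeries.X (some j.swap) := by
    intro j
    rw [hq_def, map_add, map_sum, MvPowerSeries.pderiv_pow,
      MvPowerSeries.pderiv_X_of_ne (Option.some_ne_none j).symm, mul_zero, zero_add]
    simp only [Derivation.leibniz, smul_eq_mul, MvPowerSeries.pderiv_X, Pi.single_apply]
    rcases j with i₀ | i₀
    · simp
    · simp
  -- first inclusion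
  have hIJ : I ≤ J := by
    rw [hI_def, Ideal.span_le]
    rintro x (hx | ⟨a, rfl⟩)
    · rw [Set.mem_singleton_iff] at hx
      rw [SetLike.mem_coe, hx, hfqg]
      refine J.add_mem ?_ (hL0 (Ideal.pow_le_pow_right (by norm_num : 2 ≤ 3) hg3))
      rw [hq_def]
      exact J.add_mem hx0J (Ideal.sum_mem _ fun i _ => Ideal.mul_mem_left _ _ (hyJ _))
    · show MvPowerSeries.pderiv k a f ∈ J
      rw [hdf a]
      refine J.add_mem ?_ (hL0 (hdg a))
      rcases a with _ | j
      · rw [hq_none]; exact J.zero_mem
      · rw [hq_some]; exact hyJ _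
  -- second inclusion, by Nakayama
  have hJI : J ≤ I := by
    have hfg : J.FG := by
      rw [hJ_def]
      exact Submodule.fg_span ((Set.finite_singleton _).union (Set.finite_range _))
    have hjac : 𝔪 ≤ Ideal.jacobson ⊥ := by
      refine le_trans ?_ (IsLocalRing.maximalIdeal_le_jacobson ⊥)
      rw [h𝔪_def, Ideal.span_le]
      rintro _ ⟨a, rfl⟩
      rw [SetLike.mem_coe, IsLocalRing.mem_maximalIdeal, mem_nonunits_iff,
        MvPowerSeries.isUnit_iff_constantCoeff, MvPowerSeries.constantCoeff_X]
      exact not_isUnit_zero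
    refine Submodule.le_of_le_smul_of_le_jacobson_bot hfg hjac ?_
    rw [smul_eq_mul]
    have hx0 : (MvPowerSeries.X none ^ 2 : MvPowerSeries (Option (Fin m ⊕ Fin m)) k) ∈
        I ⊔ 𝔪 * J := by
      have e1 : (MvPowerSeries.X none ^ 2 : MvPowerSeries (Option (Fin m ⊕ Fin m)) k) =
          f - (∑ i : Fin m, MvPowerSeries.X (some (Sum.inl i)) *
            MvPowerSeries.X (some (Sum.inr i))) - g := by
        rw [hfqg, hq_def]; ring
      rw [e1]
      refine Submodule.sub_mem _ (Submodule.sub_mem _ (Submodule.mem_sup_left hfI)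
        (Submodule.mem_sup_right ?_)) (Submodule.mem_sup_right (hL2 hg3))
      exact Ideal.sum_mem _ fun i _ => Ideal.mul_mem_mul (hX𝔪 _) (hyJ _)
    have hsub : ({MvPowerSeries.X none ^ 2} ∪ Set.range fun j : Fin m ⊕ Fin m =>
        (MvPowerSeries.X (some j) : MvPowerSeries (Option (Fin m ⊕ Fin m)) k)) ⊆
        ((I ⊔ 𝔪 * J : Ideal (MvPowerSeries (Option (Fin m ⊕ Fin m)) k)) :
          Set (MvPowerSeries (Option (Fin m ⊕ Fin m)) k)) := by
      rintro x (hx | ⟨j, rfl⟩)
      · rw [Set.mem_singleton_iff] at hx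
        rw [hx]; exact hx0
      · have e2 : (MvPowerSeries.X (some j) : MvPowerSeries (Option (Fin m ⊕ Fin m)) k) =
            MvPowerSeries.pderiv k (some j.swap) f - MvPowerSeries.pderiv k (some j.swap) g := by
          rw [hdf, hq_some, Sum.swap_swap, add_sub_cancel_right]
        show MvPowerSeries.X (some j) ∈ I ⊔ 𝔪 * J
        rw [e2]
        refine Submodule.sub_mem _ (Submodule.mem_sup_left (hdfI _)) ?_
        have h3 := hL1 (hdg (some j.swap))
        have h4 : Ideal.span {(MvPowerSeries.X none ^ 2 :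
            MvPowerSeries (Option (Fin m ⊕ Fin m)) k)} ⊔ 𝔪 * J ≤ I ⊔ 𝔪 * J :=
          sup_le (by rw [Ideal.span_le, Set.singleton_subset_iff]; exact hx0) le_sup_right
        exact h4 h3
    exact (le_of_eq hJ_def).trans (Ideal.span_le.mpr hsub)
  refine ⟨le_antisymm hIJ hJI, ?_⟩
  -- the quotient has dimension two
  have hK1 : ∀ h ∈ J, MvPowerSeries.coeff 0 h = 0 ∧
      MvPowerSeries.coeff (Finsupp.single none 1) h = 0 := by
    have key : ∀ h ∈ J, ∀ r : MvPowerSeries (Option (Fin m ⊕ Fin m)) k,
        MvPowerSeries.coeff 0 (r * h) = 0 ∧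
          MvPowerSeries.coeff (Finsupp.single none 1) (r * h) = 0 := by
      intro h hh
      rw [hJ_def] at hh
      refine Submodule.span_induction (p := fun h _ =>
        ∀ r : MvPowerSeries (Option (Fin m ⊕ Fin m)) k,
          MvPowerSeries.coeff 0 (r * h) = 0 ∧
            MvPowerSeries.coeff (Finsupp.single none 1) (r * h) = 0) ?_ ?_ ?_ ?_ hh
      · intro x hx r
        rcases hx with hx | ⟨j, rfl⟩
        · rw [Set.mem_singleton_iff] at hx
          rw [hx, MvPowerSeries.X_pow_eq, MvPowerSeries.coeff_mul_monomial,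
            MvPowerSeries.coeff_mul_monomial]
          constructor
          · rw [if_neg]; intro hle; have h5 := hle none; simp at h5
          · rw [if_neg]; intro hle; have h5 := hle none; simp at h5
        · show MvPowerSeries.coeff 0 (r * MvPowerSeries.X (some j)) = 0 ∧
            MvPowerSeries.coeff (Finsupp.single none 1) (r * MvPowerSeries.X (some j)) = 0
          rw [MvPowerSeries.X_def, MvPowerSeries.coeff_mul_monomial,
            MvPowerSeries.coeff_mul_monomial]
          constructor
          · rw [if_neg]; intro hle; have h5 := hle (some j); simp at h5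
          · rw [if_neg]; intro hle; have h5 := hle (some j); simp at h5
      · intro r; simp
      · intro x y _ _ hx hy r
        rw [mul_add, map_add, map_add, (hx r).1, (hx r).2, (hy r).1, (hy r).2]
        simp
      · intro a x _ hx r
        rw [smul_eq_mul, ← mul_assoc]
        exact hx (r * a)
    intro h hh
    simpa using key h hh 1
  have hK2 : ∀ h : MvPowerSeries (Option (Fin m ⊕ Fin m)) k, MvPowerSeries.coeff 0 h = 0 →
      MvPowerSeries.coeff (Finsupp.single none 1) h = 0 → h ∈ J := by
    intro h h0 h1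
    obtain ⟨F, hF, hF'⟩ := exists_decomp h h0
    rw [hF, Fintype.sum_option]
    refine J.add_mem ?_ (Ideal.sum_mem _ fun j _ => Ideal.mul_mem_right _ _ (hyJ j))
    apply hL0
    rw [pow_two]
    refine Ideal.mul_mem_mul (hX𝔪 none) ?_
    have hF0 : MvPowerSeries.constantCoeff (F none) = 0 := by
      rw [← MvPowerSeries.coeff_zero_eq_constantCoeff_apply]
      rcases hF' none 0 with hh | hh
      · exact hh
      · rw [hh, zero_add]; exact h1
    have h6 := mem_pow_of_coeff 1 (F none) (fun d hd => by
      have hd0 : d = 0 := by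
        rw [← Finsupp.degree_eq_zero_iff]; omega
      rw [hd0, MvPowerSeries.coeff_zero_eq_constantCoeff_apply, hF0])
    rwa [pow_one] at h6
  let ι : k × k →ₗ[k] MvPowerSeries (Option (Fin m ⊕ Fin m)) k :=
    (LinearMap.toSpanSingleton k _ 1).coprod (LinearMap.toSpanSingleton k _ (MvPowerSeries.X none))
  have hι : ∀ a b : k, ι (a, b) = a • (1 : MvPowerSeries (Option (Fin m ⊕ Fin m)) k) +
      b • MvPowerSeries.X none := fun a b => by simp [ι]
  have hι0 : ∀ a b : k, MvPowerSeries.coeff 0 (ι (a, b)) = a := by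
    intro a b
    rw [hι, map_add, map_smul, map_smul, MvPowerSeries.coeff_zero_one, MvPowerSeries.coeff_zero_X]
    simp
  have hι1 : ∀ a b : k, MvPowerSeries.coeff (Finsupp.single none 1) (ι (a, b)) = b := by
    intro a b
    rw [hι, map_add, map_smul, map_smul, MvPowerSeries.coeff_index_single_self_X,
      MvPowerSeries.coeff_one, if_neg]
    · simp
    · intro h7
      have h8 := DFunLike.congr_fun h7 none
      simp at h8
  let θ : k × k →ₗ[k] (MvPowerSeries (Option (Fin m ⊕ Fin m)) k ⧸ J) :=
    (Ideal.Quotient.mkₐ k J).toLinearMap ∘ₗ ι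
  have hθinj : Function.Injective θ := by
    rw [← LinearMap.ker_eq_bot, LinearMap.ker_eq_bot']
    rintro ⟨a, b⟩ hab
    have h9 : ι (a, b) ∈ J := Ideal.Quotient.eq_zero_iff_mem.mp hab
    obtain ⟨e0, e1⟩ := hK1 _ h9
    rw [hι0] at e0
    rw [hι1] at e1
    rw [e0, e1]
    rfl
  have hθsurj : Function.Surjective θ := by
    intro y
    obtain ⟨h, rfl⟩ := Ideal.Quotient.mk_surjective y
    refine ⟨(MvPowerSeries.coeff 0 h, MvPowerSeries.coeff (Finsupp.single none 1) h), ?_⟩
    show Ideal.Quotient.mk J (ι _) = Ideal.Quotient.mk J h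
    rw [Ideal.Quotient.eq]
    apply hK2
    · rw [map_sub, hι0, sub_self]
    · rw [map_sub, hι1, sub_self]
  have e := LinearEquiv.ofBijective θ ⟨hθinj, hθsurj⟩
  rw [← e.finrank_eq, Module.finrank_prod, Module.finrank_self]

end Groth.Agent.S8720
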