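import Groth.Statements.S3206
import Mathlib
import Groth.Agent.S8720
import Groth.Agent.H3.MvPSDim

set_option linter.style.haveILetI false

set_option autoImplicit false
open SGA7

namespace Groth.Agent.S3206

section Aux

open MvPowerSeries

theorem constantCoeff_of_mem {σ : Type*} {k : Type*} [CommRing k] {a : MvPowerSeries σ k}
    (ha : a ∈ Ideal.span (Set.range (X : σ → MvPowerSeries σ k))) : constantCoeff a = 0 := by
  have h1 : Ideal.span (Set.range (X : σ → MvPowerSeries σ k)) ≤
      RingHom.ker (constantCoeff : MvPowerSeries σ k →+* k) := by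
    rw [Ideal.span_le]
    rintro _ ⟨i, rfl⟩
    rw [SetLike.mem_coe, RingHom.mem_ker, constantCoeff_X]
  exact RingHom.mem_ker.mp (h1 ha)

theorem coeff_of_mem_pow {σ : Type*} {k : Type*} [CommRing k] (N : ℕ) :
    ∀ (h : MvPowerSeries σ k), h ∈ Ideal.span (Set.range (X : σ → MvPowerSeries σ k)) ^ N →
      ∀ d : σ →₀ ℕ, d.degree < N → coeff d h = 0 := by
  classical
  induction N with
  | zero => intro h _ d hd; exact absurd hd (Nat.not_lt_zero _)
  | succ N ih =>
    intro h hh
    rw [pow_succ'] at hh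
    refine Submodule.mul_induction_on hh ?_ ?_
    · intro a ha b hb d hd
      rw [coeff_mul]
      refine Finset.sum_eq_zero fun pq hpq => ?_
      rw [Finset.HasAntidiagonal.mem_antidiagonal] at hpq
      by_cases hq : pq.2.degree < N
      · rw [ih b hb pq.2 hq, mul_zero]
      · have hdeg : d.degree = pq.1.degree + pq.2.degree := by rw [← hpq, map_add]
        have hp0 : pq.1.degree = 0 := by omega
        have hp : pq.1 = 0 := (Finsupp.degree_eq_zero_iff _).mp hp0
        rw [hp, coeff_zero_eq_constantCoeff_apply, constantCoeff_of_mem ha, zero_mul]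
    · intro x y hx hy d hd
      rw [map_add, hx d hd, hy d hd, add_zero]

theorem exists_lin_comb {R : Type*} [CommRing R] {ι : Type*} [Fintype ι] (ℓ : ι → R)
    (K : Ideal R) {δ : R} (hδ : δ ∈ Ideal.span (Set.range ℓ) * K) :
    ∃ η : ι → R, (∀ i, η i ∈ K) ∧ ∑ i, ℓ i * η i = δ := by
  refine Submodule.mul_induction_on hδ ?_ ?_
  · intro a ha b hb
    obtain ⟨c, hc⟩ := (Ideal.mem_span_range_iff_exists_fun).mp ha
    refine ⟨fun i => c i * b, fun i => K.mul_mem_left _ hb, ?_⟩
    rw [← hc, Finset.sum_mul]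
    refine Finset.sum_congr rfl fun i _ => ?_
    ring
  · rintro x y ⟨η, hη, hx⟩ ⟨η', hη', hy⟩
    refine ⟨fun i => η i + η' i, fun i => K.add_mem (hη i) (hη' i), ?_⟩
    rw [← hx, ← hy, ← Finset.sum_add_distrib]
    refine Finset.sum_congr rfl fun i _ => ?_
    ring

section Quad

variable {R : Type*} [CommRing R] {ι : Type*} [Fintype ι]

/-- The quadratic form with coefficient matrix `c`. -/
def Q (c : ι → ι → R) (y : ι → R) : R := ∑ a, ∑ b, c a b * y a * y b

/-- The polar bilinear form of `Q`. -/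
def Bil (c : ι → ι → R) (y z : ι → R) : R := ∑ a, ∑ b, c a b * (y a * z b + z a * y b)

/-- The linear forms `∂Q/∂y_i`. -/
def ell (c : ι → ι → R) (y : ι → R) (i : ι) : R := ∑ a, (c a i + c i a) * y a

theorem Q_add (c : ι → ι → R) (y z : ι → R) :
    Q c (fun i => y i + z i) = Q c y + Bil c y z + Q c z := by
  unfold Q Bil
  rw [← Finset.sum_add_distrib, ← Finset.sum_add_distrib]
  refine Finset.sum_congr rfl fun a _ => ?_
  rw [← Finset.sum_add_distrib, ← Finset.sum_add_distrib]
  refine Finset.sum_congr rfl fun b _ => ?_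
  ring

theorem Bil_add_left (c : ι → ι → R) (y y' z : ι → R) :
    Bil c (fun i => y i + y' i) z = Bil c y z + Bil c y' z := by
  unfold Bil
  rw [← Finset.sum_add_distrib]
  refine Finset.sum_congr rfl fun a _ => ?_
  rw [← Finset.sum_add_distrib]
  refine Finset.sum_congr rfl fun b _ => ?_
  ring

theorem Bil_eq (c : ι → ι → R) (y z : ι → R) : Bil c y z = ∑ i, ell c y i * z i := by
  unfold Bil ell
  have h1 : ∑ a, ∑ b, c a b * (y a * z b + z a * y b) =
      (∑ a, ∑ b, c a b * y a * z b) + ∑ a, ∑ b, c a b * y b * z a := by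
    rw [← Finset.sum_add_distrib]
    refine Finset.sum_congr rfl fun a _ => ?_
    rw [← Finset.sum_add_distrib]
    refine Finset.sum_congr rfl fun b _ => ?_
    ring
  rw [h1, Finset.sum_comm, ← Finset.sum_add_distrib]
  refine Finset.sum_congr rfl fun i _ => ?_
  rw [Finset.sum_mul, ← Finset.sum_add_distrib]
  refine Finset.sum_congr rfl fun a _ => ?_
  ring

theorem D_Q {k : Type*} [CommRing k] [Algebra k R] (D : Derivation k R R) (c : ι → ι → R)
    (hc : ∀ a b, D (c a b) = 0) (y : ι → R) :
    D (Q c y) = Bil c y (fun i => D (y i)) := by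
  unfold Q Bil
  rw [map_sum]
  refine Finset.sum_congr rfl fun a _ => ?_
  rw [map_sum]
  refine Finset.sum_congr rfl fun b _ => ?_
  rw [Derivation.leibniz, Derivation.leibniz, hc, smul_zero, add_zero, smul_eq_mul, smul_eq_mul,
    smul_eq_mul]
  ring

theorem Q_sub_mem (c : ι → ι → R) (K : Ideal R) (y y' : ι → R) (h : ∀ i, y i - y' i ∈ K) :
    Q c y - Q c y' ∈ K := by
  unfold Q
  rw [← Finset.sum_sub_distrib]
  refine K.sum_mem fun a _ => ?_
  rw [← Finset.sum_sub_distrib]
  refine K.sum_mem fun b _ => ?_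
  have e : c a b * y a * y b - c a b * y' a * y' b =
      c a b * y b * (y a - y' a) + c a b * y' a * (y b - y' b) := by ring
  rw [e]
  exact K.add_mem (K.mul_mem_left _ (h a)) (K.mul_mem_left _ (h b))

theorem Bil_mem (c : ι → ι → R) (I J : Ideal R) (y z : ι → R) (hy : ∀ i, y i ∈ I)
    (hz : ∀ i, z i ∈ J) : Bil c y z ∈ I * J := by
  unfold Bil
  refine Ideal.sum_mem _ fun a _ => Ideal.sum_mem _ fun b _ => Ideal.mul_mem_left _ _ ?_
  refine Ideal.add_mem _ (Ideal.mul_mem_mul (hy a) (hz b)) ?_
  rw [mul_comm (z a) (y b)]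
  exact Ideal.mul_mem_mul (hy b) (hz a)

theorem Q_mem (c : ι → ι → R) (I : Ideal R) (y : ι → R) (hy : ∀ i, y i ∈ I) :
    Q c y ∈ I * I := by
  unfold Q
  refine Ideal.sum_mem _ fun a _ => Ideal.sum_mem _ fun b _ => ?_
  rw [mul_assoc]
  exact Ideal.mul_mem_left _ _ (Ideal.mul_mem_mul (hy a) (hy b))

/-- The invariant of the iteration. -/
abbrev Inv (c : ι → ι → R) (x : ι → R) (I : Ideal R) (f : R) (s : ℕ) (E : ι → R) : Prop :=
  (∀ i, E i ∈ I ^ 2) ∧ f - Q c (fun i => x i + E i) ∈ I ^ (s + 3)

theorem abstract_morse (I : Ideal R) [IsAdicComplete I R] (c : ι → ι → R) (x : ι → R) (f : R)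
    (hspan : Ideal.span (Set.range (ell c x)) = I) (h3 : f - Q c x ∈ I ^ 3) :
    ∃ L : ι → R, (∀ i, L i ∈ I ^ 2) ∧ f = Q c (fun i => x i + L i) := by
  have htop : ∀ m : ℕ, (I ^ m • ⊤ : Submodule R R) = I ^ m := by
    intro m
    rw [Ideal.smul_eq_mul, Ideal.mul_top]
  have hP0 : Inv c x I f 0 (fun _ => 0) := by
    refine ⟨fun i => Ideal.zero_mem _, ?_⟩
    have e : (fun i => x i + (0 : R)) = x := by funext i; rw [add_zero]
    rw [e, zero_add]
    exact h3
  have step : ∀ (s : ℕ) (E : {E : ι → R // Inv c x I f s E}),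
      ∃ E' : {E : ι → R // Inv c x I f (s + 1) E}, ∀ i, E'.1 i - E.1 i ∈ I ^ (s + 2) := by
    rintro s ⟨E, hE, hδ⟩
    have hδ' : f - Q c (fun i => x i + E i) ∈
        Ideal.span (Set.range (ell c x)) * I ^ (s + 2) := by
      rw [hspan, ← pow_succ']
      exact hδ
    obtain ⟨η, hη, hsum⟩ := exists_lin_comb (ell c x) (I ^ (s + 2)) hδ'
    have e : f - Q c (fun i => x i + (E i + η i)) = -(Bil c E η) - Q c η := by
      have e1 : (fun i => x i + (E i + η i)) = fun i => (x i + E i) + η i := by
        funext i; ring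
      rw [e1, Q_add, Bil_add_left, Bil_eq c x η, hsum]
      ring
    have h1 : Bil c E η ∈ I ^ (s + 1 + 3) := by
      have h := Bil_mem c (I ^ 2) (I ^ (s + 2)) E η hE hη
      rw [← pow_add] at h
      exact Ideal.pow_le_pow_right (by omega) h
    have h2 : Q c η ∈ I ^ (s + 1 + 3) := by
      have h := Q_mem c (I ^ (s + 2)) η hη
      rw [← pow_add] at h
      exact Ideal.pow_le_pow_right (by omega) h
    refine ⟨⟨fun i => E i + η i, fun i => ?_, ?_⟩, fun i => ?_⟩
    · exact add_mem (hE i) (Ideal.pow_le_pow_right (by omega) (hη i))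
    · show f - Q c (fun i => x i + (E i + η i)) ∈ I ^ (s + 1 + 3)
      rw [e]
      exact sub_mem (neg_mem h1) h2
    · show E i + η i - E i ∈ I ^ (s + 2)
      rw [add_sub_cancel_left]
      exact hη i
  choose nxt hnxt using step
  let seq : ∀ s, {E : ι → R // Inv c x I f s E} := fun s =>
    Nat.rec (motive := fun s => {E : ι → R // Inv c x I f s E}) ⟨fun _ => 0, hP0⟩
      (fun s E => nxt s E) s
  have he0 : ∀ i, (seq 0).1 i = 0 := fun i => rfl
  have hed : ∀ s i, (seq (s + 1)).1 i - (seq s).1 i ∈ I ^ (s + 2) :=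
    fun s i => hnxt s (seq s) i
  have hcauchy : ∀ i s t, s ≤ t → (seq t).1 i - (seq s).1 i ∈ I ^ (s + 2) := by
    intro i s t hst
    induction t, hst using Nat.le_induction with
    | base => rw [sub_self]; exact Ideal.zero_mem _
    | succ t hst ih =>
      have e1 : (seq (t + 1)).1 i - (seq s).1 i =
          ((seq (t + 1)).1 i - (seq t).1 i) + ((seq t).1 i - (seq s).1 i) := by ring
      rw [e1]
      exact add_mem (Ideal.pow_le_pow_right (by omega) (hed t i)) ih
  have hlim : ∀ i, ∃ L : R, ∀ s, (seq s).1 i - L ∈ I ^ s := by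
    intro i
    obtain ⟨L, hL⟩ := IsPrecomplete.prec' (I := I) (M := R) (fun s => (seq s).1 i) (by
      intro a b hab
      rw [SModEq.sub_mem, htop]
      have h1 := hcauchy i a b hab
      have h2 : (seq b).1 i - (seq a).1 i ∈ I ^ a := Ideal.pow_le_pow_right (by omega) h1
      have e1 : (seq a).1 i - (seq b).1 i = -((seq b).1 i - (seq a).1 i) := by ring
      rw [e1]
      exact neg_mem h2)
    refine ⟨L, fun s => ?_⟩
    have h := hL s
    rw [SModEq.sub_mem, htop] at h
    exact h
  choose L hL using hlim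
  have hL2 : ∀ i s, (seq s).1 i - L i ∈ I ^ (s + 2) := by
    intro i s
    have h1 := hcauchy i s (s + 2) (by omega)
    have h2 := hL i (s + 2)
    have e1 : (seq s).1 i - L i =
        -((seq (s + 2)).1 i - (seq s).1 i) + ((seq (s + 2)).1 i - L i) := by ring
    rw [e1]
    exact add_mem (neg_mem h1) h2
  have hLm : ∀ i, L i ∈ I ^ 2 := by
    intro i
    have h := hL2 i 0
    rw [he0 i, zero_sub] at h
    have h' := neg_mem h
    rw [neg_neg] at h'
    exact h'
  have hfin : ∀ s, f - Q c (fun i => x i + L i) ∈ I ^ s := by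
    intro s
    have h1 : f - Q c (fun i => x i + (seq s).1 i) ∈ I ^ s :=
      Ideal.pow_le_pow_right (by omega) (seq s).2.2
    have h2 : Q c (fun i => x i + (seq s).1 i) - Q c (fun i => x i + L i) ∈ I ^ s := by
      apply Q_sub_mem
      intro i
      show x i + (seq s).1 i - (x i + L i) ∈ I ^ s
      have e1 : x i + (seq s).1 i - (x i + L i) = (seq s).1 i - L i := by ring
      rw [e1]
      exact hL i s
    have e2 : f - Q c (fun i => x i + L i) = (f - Q c (fun i => x i + (seq s).1 i)) +
        (Q c (fun i => x i + (seq s).1 i) - Q c (fun i => x i + L i)) := by ring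
    rw [e2]
    exact add_mem h1 h2
  have hzero : f - Q c (fun i => x i + L i) = 0 := by
    apply IsHausdorff.haus' (I := I)
    intro s
    rw [SModEq.sub_mem, sub_zero, htop]
    exact hfin s
  exact ⟨L, hLm, sub_eq_zero.mp hzero⟩

end Quad

theorem main (k : Type) [Field k] (n : ℕ) (f : MvPowerSeries (Fin n) k)
    (hf0 : constantCoeff f = 0)
    (hJ : Ideal.span (Set.range fun i : Fin n => pderiv k i f) =
      IsLocalRing.maximalIdeal (MvPowerSeries (Fin n) k)) :
    ∃ (γ : Fin n → Fin n → k) (L : Fin n → MvPowerSeries (Fin n) k),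
      (∀ i, L i ∈ Ideal.span (Set.range (X : Fin n → MvPowerSeries (Fin n) k)) ^ 2) ∧
      f = Q (fun a b => C (γ a b)) (fun i => X i + L i) := by
  classical
  have hmax : IsLocalRing.maximalIdeal (MvPowerSeries (Fin n) k) =
      Ideal.span (Set.range (X : Fin n → MvPowerSeries (Fin n) k)) :=
    Groth.Agent.H3.MvPSDim.maximalIdeal_eq_span_X
  have hXm : ∀ a : Fin n, (X a : MvPowerSeries (Fin n) k) ∈
      Ideal.span (Set.range (X : Fin n → MvPowerSeries (Fin n) k)) :=
    fun a => Ideal.subset_span ⟨a, rfl⟩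
  have hpd0 : ∀ a, constantCoeff (pderiv k a f) = 0 := by
    intro a
    apply constantCoeff_of_mem
    rw [← hmax, ← hJ]
    exact Ideal.subset_span ⟨a, rfl⟩
  obtain ⟨F, hF, hF'⟩ := Groth.Agent.S8720.exists_decomp f hf0
  have hF0 : ∀ a, constantCoeff (F a) = 0 := by
    intro a
    rw [← coeff_zero_eq_constantCoeff_apply]
    rcases hF' a 0 with h | h
    · exact h
    · rw [h]
      have h1 := hpd0 a
      rw [← coeff_zero_eq_constantCoeff_apply, coeff_pderiv] at h1
      simpa using h1
  have hG : ∀ a, ∃ G : Fin n → MvPowerSeries (Fin n) k, F a = ∑ b, X b * G b := by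
    intro a
    obtain ⟨G, hG, -⟩ := Groth.Agent.S8720.exists_decomp (F a) (hF0 a)
    exact ⟨G, hG⟩
  choose G hG using hG
  obtain ⟨c, hc⟩ : ∃ c : Fin n → Fin n → MvPowerSeries (Fin n) k,
      ∀ a b, c a b = C (constantCoeff (G a b)) :=
    ⟨fun a b => C (constantCoeff (G a b)), fun _ _ => rfl⟩
  have hcfun : c = fun a b => C (constantCoeff (G a b)) := by
    funext a b; exact hc a b
  have hg3 : f - Q c X ∈ Ideal.span (Set.range (X : Fin n → MvPowerSeries (Fin n) k)) ^ 3 := by
    have e1 : f = ∑ a, ∑ b, X a * (X b * G a b) := by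
      rw [hF]
      refine Finset.sum_congr rfl fun a _ => ?_
      rw [hG a, Finset.mul_sum]
    have e : f - Q c X = ∑ a, ∑ b, X a * (X b * (G a b - c a b)) := by
      unfold Q
      rw [e1, ← Finset.sum_sub_distrib]
      refine Finset.sum_congr rfl fun a _ => ?_
      rw [← Finset.sum_sub_distrib]
      refine Finset.sum_congr rfl fun b _ => ?_
      ring
    rw [e]
    refine Ideal.sum_mem _ fun a _ => Ideal.sum_mem _ fun b _ => ?_
    have hGc : G a b - c a b ∈
        Ideal.span (Set.range (X : Fin n → MvPowerSeries (Fin n) k)) := by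
      apply Groth.Agent.H3.MvPSDim.mem_span_X
      rw [map_sub, hc, constantCoeff_C, sub_self]
    rw [pow_succ', pow_succ', pow_one]
    exact Ideal.mul_mem_mul (hXm a) (Ideal.mul_mem_mul (hXm b) hGc)
  have hpd : ∀ i, pderiv k i (Q c X) = ell c X i := by
    intro i
    rw [D_Q (pderiv k i) c (fun a b => by rw [hc]; exact pderiv_C) X, Bil_eq]
    rw [Finset.sum_eq_single i]
    · rw [pderiv_X_self, mul_one]
    · intro j _ hj
      rw [pderiv_X_of_ne hj, mul_zero]
    · intro h
      exact absurd (Finset.mem_univ _) h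
  have hdg : ∀ i, pderiv k i (f - Q c X) ∈
      Ideal.span (Set.range (X : Fin n → MvPowerSeries (Fin n) k)) ^ 2 := by
    intro i
    apply Groth.Agent.S8720.mem_pow_of_coeff 2
    intro d hd
    have h1 : coeff (d + Finsupp.single i 1) (f - Q c X) = 0 :=
      coeff_of_mem_pow 3 _ hg3 _ (by rw [map_add, Finsupp.degree_single]; omega)
    rw [coeff_pderiv, h1, zero_mul]
  have hℓm : ∀ i, ell c X i ∈ Ideal.span (Set.range (X : Fin n → MvPowerSeries (Fin n) k)) :=
    fun i => Ideal.sum_mem _ fun a _ => Ideal.mul_mem_left _ _ (hXm a)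
  have hspan : Ideal.span (Set.range (ell c X)) =
      Ideal.span (Set.range (X : Fin n → MvPowerSeries (Fin n) k)) := by
    apply le_antisymm
    · rw [Ideal.span_le]
      rintro _ ⟨i, rfl⟩
      exact hℓm i
    · apply Submodule.le_of_le_smul_of_le_jacobson_bot
        (I := Ideal.span (Set.range (X : Fin n → MvPowerSeries (Fin n) k)))
      · exact Submodule.fg_span (Set.finite_range _)
      · rw [← hmax]
        exact IsLocalRing.maximalIdeal_le_jacobson ⊥
      · have h1 : Ideal.span (Set.range fun i : Fin n => pderiv k i f) ≤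
            Ideal.span (Set.range (ell c X)) ⊔
              Ideal.span (Set.range (X : Fin n → MvPowerSeries (Fin n) k)) •
                Ideal.span (Set.range (X : Fin n → MvPowerSeries (Fin n) k)) := by
          rw [Ideal.span_le]
          rintro _ ⟨i, rfl⟩
          have e : pderiv k i f = ell c X i + pderiv k i (f - Q c X) := by
            rw [map_sub, hpd i]; ring
          show pderiv k i f ∈ Ideal.span (Set.range (ell c X)) ⊔
              Ideal.span (Set.range (X : Fin n → MvPowerSeries (Fin n) k)) •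
                Ideal.span (Set.range (X : Fin n → MvPowerSeries (Fin n) k))
          rw [e]
          refine Submodule.add_mem_sup (Ideal.subset_span ⟨i, rfl⟩) ?_
          rw [Ideal.smul_eq_mul, ← pow_two]
          exact hdg i
        rw [hJ, hmax] at h1
        exact h1
  obtain ⟨L, hL, hfL⟩ := abstract_morse
    (Ideal.span (Set.range (X : Fin n → MvPowerSeries (Fin n) k))) c X f hspan hg3
  refine ⟨fun a b => constantCoeff (G a b), L, hL, ?_⟩
  rw [← hcfun]
  exact hfL

end Aux

/-- Let k be a field and f a formal power series in n variables over k without constant term whose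
partial derivatives ∂f/∂x_1, …, ∂f/∂x_n generate the maximal ideal of k[[x_1, …, x_n]]. Then there
are power series ε_1, …, ε_n with no terms of degree < 2 and a quadratic form q such that f = q(x_1
+ ε_1, …, x_n + ε_n). -/
theorem result (k : Type) [Field k] (n : ℕ) (f : MvPowerSeries (Fin n) k)
    (hf0 : MvPowerSeries.constantCoeff f = 0)
    (hJ : Ideal.span (Set.range fun i : Fin n => MvPowerSeries.pderiv k i f) = IsLocalRing.maximalIdeal (MvPowerSeries (Fin n) k)) :
    ∃ (ε : Fin n → MvPowerSeries (Fin n) k) (_ : ∀ i (m : Fin n →₀ ℕ), m.degree < 2 → MvPowerSeries.coeff m (ε i) = 0)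
      (q : MvPolynomial (Fin n) k) (_ : q.IsHomogeneous 2)
      (_ : MvPowerSeries.HasSubst (fun i : Fin n => MvPowerSeries.X i + ε i)),
      f = MvPowerSeries.subst (fun i : Fin n => MvPowerSeries.X i + ε i) (q : MvPowerSeries (Fin n) k) := by
  classical
  obtain ⟨γ, L, hLm, hfQ⟩ := main k n f hf0 hJ
  have hL0 : ∀ i (m : Fin n →₀ ℕ), m.degree < 2 → MvPowerSeries.coeff m (L i) = 0 :=
    fun i m hm => coeff_of_mem_pow 2 _ (hLm i) m hm
  have hcc : ∀ i, MvPowerSeries.constantCoeff
      (MvPowerSeries.X i + L i : MvPowerSeries (Fin n) k) = 0 := by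
    intro i
    rw [map_add, MvPowerSeries.constantCoeff_X, zero_add,
      ← MvPowerSeries.coeff_zero_eq_constantCoeff_apply]
    exact hL0 i 0 (by rw [map_zero]; omega)
  have hsub : MvPowerSeries.HasSubst (fun i : Fin n => MvPowerSeries.X i + L i) :=
    MvPowerSeries.hasSubst_of_constantCoeff_zero hcc
  refine ⟨L, hL0, ∑ a, ∑ b, MvPolynomial.C (γ a b) * MvPolynomial.X a * MvPolynomial.X b,
    ?_, hsub, ?_⟩
  · refine MvPolynomial.IsHomogeneous.sum _ _ _ fun a _ =>
      MvPolynomial.IsHomogeneous.sum _ _ _ fun b _ => ?_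
    exact (MvPolynomial.isHomogeneous_C_mul_X (γ a b) a).mul (MvPolynomial.isHomogeneous_X k b)
  · rw [MvPowerSeries.subst_coe, hfQ]
    unfold Q
    rw [map_sum]
    refine Finset.sum_congr rfl fun a _ => ?_
    rw [map_sum]
    refine Finset.sum_congr rfl fun b _ => ?_
    rw [map_mul, map_mul, MvPolynomial.aeval_C, MvPolynomial.aeval_X, MvPolynomial.aeval_X]
    rfl

end Groth.Agent.S3206
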