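import Groth.Statements.S3208
import Mathlib
-- import your own Groth.Agent.* helpers here

set_option autoImplicit false
open SGA7

namespace Groth.Agent.S3208


theorem lemL (E : Type) [CommRing E] [NoZeroSMulDivisors ℤ E] [Module.Finite ℤ E]
    (v x : E) (ℓ : ℕ) (hℓ : 2 ≤ ℓ) (h : v = (ℓ : E) * x * v) : v = 0 := by
  have hI : Ideal.span {(ℓ : ℤ)} ≠ ⊤ := by
    rw [Ne, Ideal.span_singleton_eq_top, Int.isUnit_iff]
    omega
  have hpow : ∀ k : ℕ, v = ((ℓ : ℤ) ^ k) • (x ^ k * v) := by
    intro k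
    induction k with
    | zero => simp
    | succ k ih =>
      have e : ((ℓ : ℤ) ^ (k + 1)) • (x ^ (k + 1) * v) =
          ((ℓ : ℤ) ^ k) • (x ^ k * ((ℓ : E) * x * v)) := by
        simp only [zsmul_eq_mul]; push_cast; ring
      rw [e, ← h]; exact ih
  have hmem : v ∈ (⨅ i : ℕ, (Ideal.span {(ℓ : ℤ)}) ^ i • ⊤ : Submodule ℤ E) := by
    rw [Submodule.mem_iInf]
    intro k
    rw [hpow k]
    exact Submodule.smul_mem_smul
      (Ideal.pow_mem_pow (Ideal.mem_span_singleton_self _) k) Submodule.mem_top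
  rw [Ideal.iInf_pow_smul_eq_bot_of_isTorsionFree _ hI] at hmem
  exact (Submodule.mem_bot ℤ).1 hmem

theorem expand (E : Type) [CommRing E] (w : E) (k : ℕ) :
    ∃ r : E, (1 - w) ^ k = 1 - (k : E) * w + ((k.choose 2 : ℕ) : E) * w ^ 2 + w ^ 3 * r := by
  induction k with
  | zero => exact ⟨0, by simp⟩
  | succ k ih =>
    obtain ⟨r, hr⟩ := ih
    refine ⟨r - ((k.choose 2 : ℕ) : E) - w * r, ?_⟩
    rw [pow_succ, hr, Nat.choose_succ_succ, Nat.choose_one_right]
    push_cast; ring

theorem claimP (E : Type) [CommRing E] [NoZeroSMulDivisors ℤ E] [Module.Finite ℤ E]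
    (u v : E) (p : ℕ) (hp : p.Prime) (hu : u ^ p = 1) (n : ℕ) (hn : 3 ≤ n)
    (hv : 1 - u = (n : E) * v) : u = 1 := by
  have hu' : u = 1 - (n : E) * v := by linear_combination -hv
  obtain ⟨r, hr⟩ := expand E ((n : E) * v) p
  rw [← hu', hu] at hr
  have hnz : (n : ℤ) ≠ 0 := by omega
  set q : E := ((p.choose 2 : ℕ) : E) + (n : E) * v * r with hq
  have key : (p : E) * v = (n : E) * v ^ 2 * q := by
    have h0 : (n : ℤ) • ((p : E) * v - (n : E) * v ^ 2 * q) = 0 := by
      rw [zsmul_eq_mul]; push_cast; rw [hq]; linear_combination hr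
    rcases smul_eq_zero.1 h0 with h | h
    · exact absurd h hnz
    · exact sub_eq_zero.1 h
  suffices hv0 : v = 0 by rw [hu', hv0]; simp
  by_cases hdvd : p ∣ n
  · obtain ⟨n', hn'⟩ := hdvd
    have hp0 : (p : ℤ) ≠ 0 := by exact_mod_cast hp.ne_zero
    have key2 : v = (n' : E) * v ^ 2 * q := by
      have h0 : (p : ℤ) • (v - (n' : E) * v ^ 2 * q) = 0 := by
        rw [zsmul_eq_mul]; push_cast
        have hnE : (n : E) = (p : E) * (n' : E) := by rw [hn']; push_cast; ring
        rw [hnE] at key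
        linear_combination key
      rcases smul_eq_zero.1 h0 with h | h
      · exact absurd h hp0
      · exact sub_eq_zero.1 h
    by_cases hn2 : 2 ≤ n'
    · exact lemL E v (v * q) n' hn2 (by linear_combination key2)
    · have hn1 : n' = 1 := by
        rcases Nat.eq_zero_or_pos n' with h | h
        · rw [h] at hn'; omega
        · omega
      have hnp : n = p := by rw [hn', hn1, mul_one]
      have hp3 : 3 ≤ p := by omega
      obtain ⟨c, hc⟩ : p ∣ p.choose 2 := hp.dvd_choose_self (by norm_num) (by omega)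
      have hq' : q = (p : E) * (c : E) + (p : E) * v * r := by
        rw [hq, hc, hnp]; push_cast; ring
      have key3 : v = v ^ 2 * q := by rw [hn1] at key2; push_cast at key2; linear_combination key2
      refine lemL E v (((c : E) + v * r) * v) p (by omega) ?_
      linear_combination key3 + v ^ 2 * hq'
  · have hcop : Nat.Coprime p n := (Nat.Prime.coprime_iff_not_dvd hp).2 hdvd
    have hcopZ : IsCoprime (p : ℤ) (n : ℤ) := Nat.isCoprime_iff_coprime.2 hcop
    obtain ⟨a, b, hab⟩ := hcopZ
    have habE : (a : E) * (p : E) + (b : E) * (n : E) = 1 := by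
      exact_mod_cast congrArg (Int.cast : ℤ → E) hab
    refine lemL E v ((a : E) * v * q + (b : E)) n (by omega) ?_
    linear_combination (-v) * habE + (a : E) * key

theorem main (E : Type) [CommRing E] [NoZeroSMulDivisors ℤ E] [Module.Finite ℤ E]
    (n : ℕ) (hn : 2 ≤ n) : ∀ (m : ℕ), 0 < m → ∀ u : E, u ^ m = 1 →
      (∃ v : E, 1 - u = (n : E) * v) → u ^ 2 = 1 ∧ (3 ≤ n → u = 1) := by
  intro m
  induction m using Nat.strong_induction_on with
  | _ m ih =>
    intro hm u hu hcong
    by_cases hm1 : m = 1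
    · have h1 : u = 1 := by rw [hm1, pow_one] at hu; exact hu
      rw [h1]; simp
    · obtain ⟨p, hp, hpm⟩ := Nat.exists_prime_and_dvd hm1
      obtain ⟨m', rfl⟩ := hpm
      have hm'pos : 0 < m' := Nat.pos_of_ne_zero (by rintro rfl; simp at hm)
      have hm'lt : m' < p * m' := lt_mul_of_one_lt_left hm'pos hp.one_lt
      obtain ⟨v, hv⟩ := hcong
      have hcong' : ∃ v' : E, 1 - u ^ p = (n : E) * v' := by
        have hd := sub_dvd_pow_sub_pow (1 : E) u p
        rw [one_pow] at hd
        obtain ⟨s, hs⟩ := hd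
        exact ⟨v * s, by rw [hs, hv]; ring⟩
      have hup : (u ^ p) ^ m' = 1 := by rw [← pow_mul]; exact hu
      have IH := ih m' hm'lt hm'pos (u ^ p) hup hcong'
      by_cases hn3 : 3 ≤ n
      · have h1 : u ^ p = 1 := IH.2 hn3
        have h2 : u = 1 := claimP E u v p hp h1 n hn3 hv
        rw [h2]; simp
      · have hn2 : n = 2 := by omega
        subst hn2
        refine ⟨?_, fun h => absurd h (by norm_num)⟩
        have hy : (u ^ 2) ^ p = 1 := by rw [← pow_mul, mul_comm, pow_mul]; exact IH.1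
        refine claimP E (u ^ 2) (v - v ^ 2) p hp hy 4 (by norm_num) ?_
        push_cast at hv ⊢
        linear_combination (1 + u - 2 * v) * hv


/-- Let E be a commutative ring which is finitely generated and torsion-free as an additive group, u an
element of E of finite multiplicative order (u^m = 1 for some m > 0), and n ≥ 2 an integer with u ≡
1 modulo nE (i.e. 1 - u = n·v for some v ∈ E). Then u² = 1, and if n ≥ 3 then u = 1. -/
theorem result (E : Type) [CommRing E] [NoZeroSMulDivisors ℤ E] [Module.Finite ℤ E] (u : E) (m : ℕ) (hm : 0 < m)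
    (hu : u ^ m = 1) (n : ℕ) (hn : 2 ≤ n) (hcong : ∃ v : E, 1 - u = (n : E) * v) :
    u ^ 2 = 1 ∧ (3 ≤ n → u = 1) := by
  exact main E n hn m hm u hu hcong

end Groth.Agent.S3208
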