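import Groth.Statements.S3209
import Mathlib
-- import your own Groth.Agent.* helpers here

set_option autoImplicit false
universe u
open TensorProduct
open SGA7

namespace Groth.Agent.S3209

/-- Let f : B' → B be a surjective map of R-algebras with kernel J, g : C → B a map of R-algebras, P =
B' ×_B C their fibre product (the equalizer of f ∘ pr₁ and g ∘ pr₂ in B' × C) and S an R-algebra
such that S ⊗_R J → S ⊗_R B' is injective (this holds when Tor_1^R(B, S) = 0, the published
hypothesis, and in particular when S is flat). Then the canonical map S ⊗_R P → (S ⊗_R B') ×_{S ⊗_R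
B} (S ⊗_R C) is bijective: it is injective, and every pair with the same image in S ⊗_R B comes from
S ⊗_R P. -/
theorem result (R B' B C S : Type u) [CommRing R] [CommRing B'] [CommRing B] [CommRing C]
    [CommRing S] [Algebra R B'] [Algebra R B] [Algebra R C] [Algebra R S]
    (f : B' →ₐ[R] B) (hf : Function.Surjective f) (g : C →ₐ[R] B)
    (hJ : Function.Injective (LinearMap.lTensor S (LinearMap.ker f.toLinearMap).subtype)) :
    letI P := AlgHom.equalizer (f.comp (AlgHom.fst R B' C)) (g.comp (AlgHom.snd R B' C))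
    letI φ₁ := Algebra.TensorProduct.map (AlgHom.id R S) ((AlgHom.fst R B' C).comp P.val)
    letI φ₂ := Algebra.TensorProduct.map (AlgHom.id R S) ((AlgHom.snd R B' C).comp P.val)
    Function.Injective (fun z : S ⊗[R] ↥P => (φ₁ z, φ₂ z)) ∧
    ∀ (x : S ⊗[R] B') (y : S ⊗[R] C),
      Algebra.TensorProduct.map (AlgHom.id R S) f x = Algebra.TensorProduct.map (AlgHom.id R S) g y →
        ∃ z : S ⊗[R] ↥P, φ₁ z = x ∧ φ₂ z = y := by
  let P := AlgHom.equalizer (f.comp (AlgHom.fst R B' C)) (g.comp (AlgHom.snd R B' C))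
  let φ₁ := Algebra.TensorProduct.map (AlgHom.id R S) ((AlgHom.fst R B' C).comp P.val)
  let φ₂ := Algebra.TensorProduct.map (AlgHom.id R S) ((AlgHom.snd R B' C).comp P.val)
  show Function.Injective (fun z : S ⊗[R] ↥P => (φ₁ z, φ₂ z)) ∧
    ∀ (x : S ⊗[R] B') (y : S ⊗[R] C),
      Algebra.TensorProduct.map (AlgHom.id R S) f x = Algebra.TensorProduct.map (AlgHom.id R S) g y →
        ∃ z : S ⊗[R] ↥P, φ₁ z = x ∧ φ₂ z = y
  have hP : ∀ z : B' × C, z ∈ P ↔ f z.1 = g z.2 := fun z => by
    simp [P, AlgHom.mem_equalizer]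
  let π₁ : ↥P →ₗ[R] B' := ((AlgHom.fst R B' C).comp P.val).toLinearMap
  let π₂ : ↥P →ₗ[R] C := ((AlgHom.snd R B' C).comp P.val).toLinearMap
  let ι : ↥(LinearMap.ker f.toLinearMap) →ₗ[R] ↥P :=
    { toFun := fun j => ⟨((j : B'), 0), (hP _).2 (by
        have h0 : f.toLinearMap (j : B') = 0 := LinearMap.mem_ker.1 j.2
        show f (j : B') = g 0
        rw [map_zero]
        exact h0)⟩
      map_add' := fun a b => by
        apply Subtype.ext
        simp
      map_smul' := fun r a => by
        apply Subtype.ext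
        simp }
  have hexact : Function.Exact ι π₂ := by
    intro z
    constructor
    · intro hz
      have hz2 : (z : B' × C).2 = 0 := hz
      have hz1 : f (z : B' × C).1 = 0 := by rw [(hP _).1 z.2, hz2, map_zero]
      refine ⟨⟨(z : B' × C).1, hz1⟩, ?_⟩
      apply Subtype.ext
      exact Prod.ext rfl hz2.symm
    · rintro ⟨j, rfl⟩
      rfl
  have hsurj : Function.Surjective π₂ := by
    intro c
    obtain ⟨b', hb'⟩ := hf (g c)
    exact ⟨⟨(b', c), (hP _).2 hb'⟩, rfl⟩
  have hex2 := lTensor_exact S hexact hsurj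
  have hsurj2 := LinearMap.lTensor_surjective S hsurj
  have hexf : Function.Exact (LinearMap.ker f.toLinearMap).subtype f.toLinearMap :=
    LinearMap.exact_subtype_ker_map _
  have hexf2 := lTensor_exact S hexf hf
  have hφ₁ : ∀ z, φ₁ z = LinearMap.lTensor S π₁ z := fun z => rfl
  have hφ₂ : ∀ z, φ₂ z = LinearMap.lTensor S π₂ z := fun z => rfl
  have hff : ∀ x, Algebra.TensorProduct.map (AlgHom.id R S) f x =
      LinearMap.lTensor S f.toLinearMap x := fun x => rfl
  have hgg : ∀ x, Algebra.TensorProduct.map (AlgHom.id R S) g x =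
      LinearMap.lTensor S g.toLinearMap x := fun x => rfl
  have hcomp1 : ∀ w, LinearMap.lTensor S π₁ (LinearMap.lTensor S ι w) =
      LinearMap.lTensor S (LinearMap.ker f.toLinearMap).subtype w := by
    intro w
    rw [← LinearMap.comp_apply, ← LinearMap.lTensor_comp]
    rfl
  have hcomp2 : ∀ w, LinearMap.lTensor S π₂ (LinearMap.lTensor S ι w) = 0 := by
    intro w
    rw [← LinearMap.comp_apply, ← LinearMap.lTensor_comp]
    have : π₂ ∘ₗ ι = 0 := LinearMap.ext fun j => rfl
    rw [this, LinearMap.lTensor_zero, LinearMap.zero_apply]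
  have hfπ : f.toLinearMap ∘ₗ π₁ = g.toLinearMap ∘ₗ π₂ :=
    LinearMap.ext fun z => (hP z.1).1 z.2
  constructor
  · intro z z' h
    rw [← sub_eq_zero]
    have h1 : φ₁ (z - z') = 0 := by
      rw [map_sub, sub_eq_zero]; exact (Prod.ext_iff.1 h).1
    have h2 : φ₂ (z - z') = 0 := by
      rw [map_sub, sub_eq_zero]; exact (Prod.ext_iff.1 h).2
    obtain ⟨w, hw⟩ := (hex2 (z - z')).1 (by rw [← hφ₂]; exact h2)
    have h3 : LinearMap.lTensor S (LinearMap.ker f.toLinearMap).subtype w = 0 := by
      rw [← hcomp1, hw, ← hφ₁]; exact h1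
    have hw0 : w = 0 := hJ (by rw [h3, map_zero])
    rw [← hw, hw0, map_zero]
  · intro x y hxy
    obtain ⟨z₀, hz₀⟩ := hsurj2 y
    have hker : LinearMap.lTensor S f.toLinearMap (x - LinearMap.lTensor S π₁ z₀) = 0 := by
      rw [map_sub, ← LinearMap.comp_apply (LinearMap.lTensor S f.toLinearMap),
        ← LinearMap.lTensor_comp, hfπ, LinearMap.lTensor_comp, LinearMap.comp_apply, hz₀,
        ← hff, ← hgg, hxy, sub_self]
    obtain ⟨w, hw⟩ := (hexf2 _).1 hker
    refine ⟨z₀ + LinearMap.lTensor S ι w, ?_, ?_⟩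
    · rw [hφ₁, map_add, hcomp1, hw]; abel
    · rw [hφ₂, map_add, hcomp2, hz₀, add_zero]

end Groth.Agent.S3209
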