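import Groth.Statements.S3213
import Mathlib
import Mathlib
import Groth.Agent.Lib.Helper8.QLinear

set_option autoImplicit false
universe u v
open SGA7II

namespace Groth.Agent.S3213

/-- Let k be a separably closed field of characteristic p > 0, q = p^r (r >= 1), V a finite-dimensional
k-vector space and phi : V -> V additive with phi(c v) = c^q phi(v). Then the additive map v |-> v -
phi(v) is surjective. -/
theorem result (k : Type u) [Field k] [IsSepClosed k] (p : ℕ) [Fact p.Prime] [CharP k p]
    (r : ℕ) (hr : 0 < r) (V : Type v) [AddCommGroup V] [Module k V] [FiniteDimensional k V] (φ : V →+ V)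
    (hφ : ∀ (c : k) (v : V), φ (c • v) = c ^ (p ^ r) • φ v) :
    Function.Surjective (fun v : V => v - φ v) := by
  let Φ : V →ₛₗ[iterateFrobenius k p r] V :=
    { toFun := φ, map_add' := φ.map_add, map_smul' := fun c v => by rw [hφ]; rfl }
  exact Groth.Agent.Helper8.QLinear.sub_surjective p r hr _ V Φ rfl

end Groth.Agent.S3213
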