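import Groth.Statements.S3214
import Mathlib
-- import your own Groth.Agent.* helpers here

set_option autoImplicit false
open Polynomial
universe u
open SGA7II

namespace Groth.Agent.S3214

/-- In the recursive form established in its proof: let A = Z[X_1, ..., X_a] (a >= 1), P = prod_i (T -
X_i) in A[T] and S_i the i-th elementary symmetric function. Writing a_j for the coefficient of
T^{a-1} in the remainder of T^{a-1+j} modulo P, one has a_0 = 1 and sum_{i=0}^{a} (-1)^i S_i a_{j-i}
= 0 for every j > 0 (with a_m = 0 for m < 0); equivalently sum_j (-1)^j a_j is the inverse of sum_i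
S_i. (The source works in formal power series; the identity involves only polynomials.) -/
theorem result (a : ℕ) (ha : 0 < a) :
    let P : (MvPolynomial (Fin a) ℤ)[X] := ∏ i : Fin a, (X - C (MvPolynomial.X i))
    let coef : ℤ → MvPolynomial (Fin a) ℤ := fun j =>
      if j < 0 then 0 else ((X : (MvPolynomial (Fin a) ℤ)[X]) ^ (a - 1 + j.toNat) %ₘ P).coeff (a - 1)
    coef 0 = 1 ∧ ∀ j : ℕ, 0 < j →
      (∑ i ∈ Finset.range (a + 1), (-1 : MvPolynomial (Fin a) ℤ) ^ i * MvPolynomial.esymm (Fin a) ℤ i *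
        coef ((j : ℤ) - i)) = 0 := by
  intro P coef
  have hmonic : P.Monic :=
    Polynomial.monic_prod_of_monic _ _ (fun i _ => Polynomial.monic_X_sub_C _)
  have hdeg : P.natDegree = a := by
    rw [Polynomial.natDegree_prod_of_monic _ _ (fun i _ => Polynomial.monic_X_sub_C _)]
    simp
  have hsmall : ∀ n, n < a → (X : (MvPolynomial (Fin a) ℤ)[X]) ^ n %ₘ P = X ^ n := by
    intro n hn
    rw [Polynomial.modByMonic_eq_self_iff hmonic, Polynomial.degree_X_pow,
      Polynomial.degree_eq_natDegree hmonic.ne_zero, hdeg]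
    exact_mod_cast hn
  have hP : P = ∑ i ∈ Finset.range (a + 1), (-1 : (MvPolynomial (Fin a) ℤ)[X]) ^ i *
      (C (MvPolynomial.esymm (Fin a) ℤ i) * X ^ (a - i)) := by
    have := Multiset.prod_X_sub_X_eq_sum_esymm
      (Finset.univ.val.map (fun i : Fin a => (MvPolynomial.X i : MvPolynomial (Fin a) ℤ)))
    rw [Multiset.map_map, Multiset.card_map] at this
    simp only [Finset.card_val, Finset.card_univ, Fintype.card_fin] at this
    simp_rw [MvPolynomial.esymm_eq_multiset_esymm]
    rw [← this]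
    rfl
  have hc : ∀ n, n < a → ((X : (MvPolynomial (Fin a) ℤ)[X]) ^ n %ₘ P).coeff (a - 1) =
      if n = a - 1 then 1 else 0 := by
    intro n hn
    rw [hsmall n hn, Polynomial.coeff_X_pow]
    simp [eq_comm]
  constructor
  · show (if (0:ℤ) < 0 then 0 else
      ((X : (MvPolynomial (Fin a) ℤ)[X]) ^ (a - 1 + (0:ℤ).toNat) %ₘ P).coeff (a - 1)) = 1
    rw [if_neg (lt_irrefl _), Int.toNat_zero, add_zero, hc _ (by omega), if_pos rfl]
  · intro j hj
    have hkey : ((X : (MvPolynomial (Fin a) ℤ)[X]) ^ (j - 1) * P) %ₘ P = 0 :=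
      (Polynomial.modByMonic_eq_zero_iff_dvd hmonic).2 (dvd_mul_left _ _)
    have hexp : (X : (MvPolynomial (Fin a) ℤ)[X]) ^ (j - 1) * P =
        ∑ i ∈ Finset.range (a + 1), ((-1 : MvPolynomial (Fin a) ℤ) ^ i *
          MvPolynomial.esymm (Fin a) ℤ i) • (X : (MvPolynomial (Fin a) ℤ)[X]) ^ (a - i + (j - 1)) := by
      rw [hP, Finset.mul_sum]
      apply Finset.sum_congr rfl
      intro i _
      simp only [Polynomial.smul_eq_C_mul, map_mul, map_pow, map_neg, map_one, pow_add]
      ring
    have h2 := congrArg (fun p => Polynomial.coeff p (a - 1)) hkey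
    beta_reduce at h2
    rw [hexp] at h2
    have hlin : (∑ i ∈ Finset.range (a + 1), ((-1 : MvPolynomial (Fin a) ℤ) ^ i *
          MvPolynomial.esymm (Fin a) ℤ i) • (X : (MvPolynomial (Fin a) ℤ)[X]) ^ (a - i + (j - 1))) %ₘ P =
        ∑ i ∈ Finset.range (a + 1), ((-1 : MvPolynomial (Fin a) ℤ) ^ i *
          MvPolynomial.esymm (Fin a) ℤ i) • ((X : (MvPolynomial (Fin a) ℤ)[X]) ^ (a - i + (j - 1)) %ₘ P) := by
      have := map_sum (Polynomial.modByMonicHom P) (fun i => ((-1 : MvPolynomial (Fin a) ℤ) ^ i *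
          MvPolynomial.esymm (Fin a) ℤ i) • (X : (MvPolynomial (Fin a) ℤ)[X]) ^ (a - i + (j - 1)))
          (Finset.range (a + 1))
      simp only [Polynomial.modByMonicHom_apply, Polynomial.smul_modByMonic] at this
      exact this
    rw [hlin, Polynomial.finsetSum_coeff, Polynomial.coeff_zero] at h2
    rw [← h2]
    apply Finset.sum_congr rfl
    intro i hi
    rw [Finset.mem_range] at hi
    rw [Polynomial.coeff_smul, smul_eq_mul]
    congr 1
    show (if (j:ℤ) - i < 0 then 0 else
      ((X : (MvPolynomial (Fin a) ℤ)[X]) ^ (a - 1 + ((j:ℤ) - i).toNat) %ₘ P).coeff (a - 1)) = _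
    by_cases hji : (j:ℤ) - i < 0
    · rw [if_pos hji, hc _ (by omega), if_neg (by omega)]
    · rw [if_neg hji]
      have : a - 1 + ((j:ℤ) - i).toNat = a - i + (j - 1) := by omega
      rw [this]

end Groth.Agent.S3214
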