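import Groth.Statements.S3245
import Mathlib
import Groth.Agent.Lib.Lead.FibreCrit
-- import your own Groth.Agent.* helpers here

set_option autoImplicit false
universe u
open TensorProduct
open Dix

namespace Groth.Agent.S3245


open Groth.Agent.Lead.FibreCrit

/-- (i) ⇔ (ii) over a local base: let R be a local ring with residue field k and A an R-algebra which is
finite and free as an R-module and nonzero. Then A is an Azumaya R-algebra (A ⊗_R A° → End_R(A)
bijective) if and only if k ⊗_R A is a central simple k-algebra. -/
theorem result (R : Type u) [CommRing R] [IsLocalRing R] (A : Type u) [Ring A] [Algebra R A] [Module.Finite R A] [Module.Free R A] [Nontrivial A] : IsAzumaya R A ↔ (Algebra.IsCentral (IsLocalRing.ResidueField R) ((IsLocalRing.ResidueField R) ⊗[R] A) ∧ IsSimpleRing ((IsLocalRing.ResidueField R) ⊗[R] A)) := by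
  constructor
  · intro hA
    haveI : IsAzumaya (IsLocalRing.ResidueField R) ((IsLocalRing.ResidueField R) ⊗[R] A) :=
      Groth.Agent.H10.isAzumaya_baseChange R (IsLocalRing.ResidueField R) A
    exact ⟨inferInstance, isSimpleRing_of_isAzumaya (IsLocalRing.ResidueField R) _⟩
  · rintro ⟨hc, hs⟩
    haveI := hc
    haveI := hs
    haveI : IsAzumaya (IsLocalRing.ResidueField R) ((IsLocalRing.ResidueField R) ⊗[R] A) :=
      isAzumaya_of_central_simple _ _
    have hbk := (Groth.Agent.H10.bijective_mulLeftRight_baseChange_iff R
      (IsLocalRing.ResidueField R) A).1 IsAzumaya.bij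
    haveI : FaithfulSMul R A := inferInstance
    obtain ⟨hEf, hEp⟩ := Groth.Agent.H10.end_finite_projective R A
    haveI : Module.Finite R (Module.End R A) := hEf
    haveI : Module.Projective R (Module.End R A) := hEp
    haveI : Module.Finite R Aᵐᵒᵖ := Module.Finite.equiv (MulOpposite.opLinearEquiv R)
    have hb : Function.Bijective (AlgHom.mulLeftRight R A).toLinearMap := by
      apply bijective_of_fibres
      intro p hp
      obtain rfl := IsLocalRing.eq_maximalIdeal hp
      exact hbk
    exact { bij := hb }

end Groth.Agent.S3245
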