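import Groth.Statements.S3248
import Mathlib
import Groth.Agent.Lib.Helper4.CSA
-- import your own Groth.Agent.* helpers here

set_option autoImplicit false
universe u
open TensorProduct
open Dix

namespace Groth.Agent.S3248

/-- Stated for a commutative subalgebra: let A be a central simple algebra of dimension r² over a field
k and L a commutative k-algebra embedded in A by an injective k-algebra homomorphism ι, such that A
is free of rank r for the right L-module structure a · l = a ι(l) (given here as a module structure
together with that compatibility). Then L ⊗_k A is isomorphic as an L-algebra to the matrix algebra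
M_r(L). (Only the existence of an isomorphism is stated; the text names the map a ⊗ l ↦ (y ↦ a y
l).) -/
theorem result (k : Type u) [Field k] (A : Type u) [Ring A] [Algebra k A] [Algebra.IsCentral k A] [IsSimpleRing A] [FiniteDimensional k A] (L : Type u) [CommRing L] [Algebra k L] (ι : L →ₐ[k] A) (hι : Function.Injective ι) [Module L A] (hmod : ∀ (l : L) (a : A), l • a = a * ι l) [Module.Free L A] (r : ℕ) (hr : 0 < r) (hA : Module.finrank k A = r ^ 2) (hrank : Module.finrank L A = r) : Nonempty ((L ⊗[k] A) ≃ₐ[L] Matrix (Fin r) (Fin r) L) := by
  classical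
  haveI hST : IsScalarTower k L A := ⟨fun c l a => by rw [hmod, hmod, map_smul, mul_smul_comm]⟩
  haveI hSC : SMulCommClass L k A := ⟨fun l c a => by rw [hmod, hmod, smul_mul_assoc]⟩
  haveI hSC' : SMulCommClass k L A := ⟨fun c l a => by rw [hmod, hmod, smul_mul_assoc]⟩
  haveI : Nontrivial L := ι.toRingHom.domain_nontrivial
  haveI hfinL : Module.Finite k L := Module.Finite.of_injective ι.toLinearMap hι
  haveI hfinLA : Module.Finite L A := Module.Finite.of_restrictScalars_finite k L A
  haveI hST2 : IsScalarTower k L (Module.End L A) :=
    ⟨fun c l f => by ext y; simp [smul_assoc]⟩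
  -- left multiplication
  let lm : A →ₐ[k] Module.End L A :=
    { toFun := fun a =>
        { toFun := fun y => a * y
          map_add' := fun y z => mul_add a y z
          map_smul' := fun l y => by simp only [RingHom.id_apply]; rw [hmod, hmod, mul_assoc] }
      map_one' := by ext y; simp
      map_mul' := fun a b => by ext y; simp [mul_assoc]
      map_zero' := by ext y; simp
      map_add' := fun a b => by ext y; simp [add_mul]
      commutes' := fun c => by ext y; simp [Algebra.smul_def] }
  have hlm : ∀ a y, lm a y = a * y := fun a y => rfl
  let Φ : L ⊗[k] A →ₐ[L] Module.End L A :=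
    Algebra.TensorProduct.lift (Algebra.ofId L (Module.End L A)) lm
      (fun l a => Algebra.commutes l (lm a))
  have hΦ : ∀ (l : L) (a y : A), Φ (l ⊗ₜ a) y = l • (a * y) := by
    intro l a y
    have h1 : Φ (l ⊗ₜ a) = Algebra.ofId L (Module.End L A) l * lm a :=
      Algebra.TensorProduct.lift_tmul _ _ _ l a
    rw [h1, Module.End.mul_apply, hlm, Algebra.ofId_apply, Module.algebraMap_end_apply]
  have hinj : Function.Injective Φ := by
    have hker : TwoSidedIdeal.ker Φ = ⊥ := by
      by_contra hne
      obtain ⟨l, hl, hlI⟩ := Groth.Agent.Helper4.exists_tmul_one_mem_of_ne_bot _ hne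
      rw [TwoSidedIdeal.mem_ker] at hlI
      have h1 := hΦ l 1 1
      rw [hlI, mul_one, hmod, one_mul] at h1
      have : ι l = ι 0 := by rw [map_zero]; exact h1.symm
      exact hl (hι this)
    exact (TwoSidedIdeal.ker_eq_bot Φ).1 hker
  have hd : Module.finrank k L = r := by
    have h1 := Module.finrank_mul_finrank k L A
    rw [hrank, hA, pow_two] at h1
    exact Nat.eq_of_mul_eq_mul_right hr h1
  have hdim : Module.finrank k (L ⊗[k] A) = Module.finrank k (Module.End L A) := by
    rw [Module.finrank_tensorProduct, Module.finrank_linearMap L k A A, hd, hrank]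
  have hsurj : Function.Surjective Φ := by
    have := (LinearMap.injective_iff_surjective_of_finrank_eq_finrank hdim
      (f := Φ.toLinearMap.restrictScalars k)).1 hinj
    exact this
  exact ⟨(AlgEquiv.ofBijective Φ ⟨hinj, hsurj⟩).trans
    (algEquivMatrix (Module.finBasisOfFinrankEq L A hrank))⟩

end Groth.Agent.S3248
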