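import Groth.Statements.S3252
import Mathlib.LinearAlgebra.Dual.Lemmas

set_option autoImplicit false
universe u

namespace Groth.Agent.S3252

/-- Let V and W be finite-dimensional vector spaces over a field L, B : V × W -> L a perfect pairing, F
an endomorphism of V and G an endomorphism of W with B(F v, G w) = c · B(v, w) for all v, w, where c
is a scalar (in the application, V = H^i, W = H^{2d-i}, F and G Frobenius, c = q^d). Then det F ·
det G = c ^ dim V. -/
theorem result (L : Type u) [Field L] (V W : Type u)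
    [AddCommGroup V] [Module L V] [FiniteDimensional L V] [AddCommGroup W] [Module L W] [FiniteDimensional L W]
    (B : V →ₗ[L] W →ₗ[L] L) [B.IsPerfPair] (F : V →ₗ[L] V) (G : W →ₗ[L] W) (c : L)
    (hFG : ∀ (v : V) (w : W), B (F v) (G w) = c * B v w) :
    LinearMap.det F * LinearMap.det G = c ^ Module.finrank L V := by
  classical
  -- φ : V ≃ Dual W
  set φ : V ≃ₗ[L] Module.Dual L W := B.toPerfPair with hφ
  -- G.dualMap ∘ φ ∘ F = c • φ
  have key : (G.dualMap ∘ₗ (φ : V →ₗ[L] Module.Dual L W)) ∘ₗ F = c • (φ : V →ₗ[L] Module.Dual L W) := by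
    ext v w
    simp [hφ, hFG]
  -- conjugate: φ.symm ∘ G.dualMap ∘ φ
  have h2 : ((φ.symm : Module.Dual L W →ₗ[L] V) ∘ₗ G.dualMap ∘ₗ (φ : V →ₗ[L] Module.Dual L W)) ∘ₗ F
      = c • LinearMap.id := by
    have := congrArg (fun T => (φ.symm : Module.Dual L W →ₗ[L] V) ∘ₗ T) key
    simp only [LinearMap.comp_smul] at this
    rw [LinearMap.comp_assoc, LinearMap.comp_assoc]
    rw [LinearMap.comp_assoc] at this
    rw [this]
    congr 1
    ext v
    simp
  have h3 := congrArg LinearMap.det h2
  have h4 : LinearMap.det ((φ.symm : Module.Dual L W →ₗ[L] V) ∘ₗ G.dualMap ∘ₗ (φ : V →ₗ[L] Module.Dual L W))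
      = LinearMap.det G := by
    have := LinearMap.det_conj G.dualMap φ.symm
    rw [LinearEquiv.symm_symm] at this
    rw [this, LinearMap.det_dualMap]
  rw [LinearMap.det_comp, h4, LinearMap.det_smul, LinearMap.det_id, mul_one] at h3
  rw [mul_comm, h3]

end Groth.Agent.S3252
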