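import Groth.Statements.S3287
import Mathlib

set_option autoImplicit false
universe u
open Finset
open LambdaRing

namespace Groth.Agent.S3287

/-- For a line element u (positive of augmentation one) of a λ-ring with positive structure, ψ^j(u) =
u^j for every j. -/
theorem result (K : Type u) [CommRing K] [LambdaRing.LambdaOps K] (P : LambdaRing.PosStructure K) (u : K) (hu : P.IsLine u) (j : ℕ) :
    LambdaRing.adams P j u = u ^ j := by
  classical
  obtain ⟨hpos, haug⟩ := hu
  have hlam : ∀ i : ℕ, 2 ≤ i → LambdaOps.lam i u = 0 := fun i hi =>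
    P.lam_eq_zero u hpos i (by rw [haug]; exact_mod_cast hi)
  -- the rescaled λ-series
  have hg : PowerSeries.rescale (-1 : K) (lamSeries u) = 1 - PowerSeries.C u * PowerSeries.X := by
    ext n
    rw [PowerSeries.coeff_rescale]
    simp only [lamSeries, PowerSeries.coeff_mk]
    rcases n with _ | _ | n
    · simp [LambdaOps.lam_zero]
    · simp [LambdaOps.lam_one, PowerSeries.coeff_one, PowerSeries.coeff_X]
    · rw [hlam _ (by omega)]
      simp [PowerSeries.coeff_one, PowerSeries.coeff_X]
  -- its inverse
  have hinv : (1 - PowerSeries.C u * PowerSeries.X) * PowerSeries.mk (fun n => u ^ n) = 1 := by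
    ext n
    rw [sub_mul, one_mul, map_sub, mul_assoc]
    rcases n with _ | n
    · simp
    · rw [PowerSeries.coeff_C_mul, PowerSeries.coeff_succ_X_mul]
      simp [PowerSeries.coeff_one, pow_succ']
  have hinv2 : (PowerSeries.rescale (-1 : K) (lamSeries u)).invOfUnit 1 =
      PowerSeries.mk (fun n => u ^ n) := by
    have h1 : PowerSeries.rescale (-1 : K) (lamSeries u) *
        (PowerSeries.rescale (-1 : K) (lamSeries u)).invOfUnit 1 = 1 :=
      PowerSeries.mul_invOfUnit _ 1 (by rw [hg]; simp)
    rw [hg] at h1 ⊢
    calc (1 - PowerSeries.C u * PowerSeries.X).invOfUnit 1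
        = ((1 - PowerSeries.C u * PowerSeries.X) * PowerSeries.mk (fun n => u ^ n)) *
            (1 - PowerSeries.C u * PowerSeries.X).invOfUnit 1 := by rw [hinv, one_mul]
      _ = PowerSeries.mk (fun n => u ^ n) * ((1 - PowerSeries.C u * PowerSeries.X) *
            (1 - PowerSeries.C u * PowerSeries.X).invOfUnit 1) := by ring
      _ = PowerSeries.mk (fun n => u ^ n) := by rw [h1, mul_one]
  have hder : PowerSeries.derivative K (PowerSeries.rescale (-1 : K) (lamSeries u)) =
      - PowerSeries.C u := by
    rw [hg]
    simp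
  unfold adams adamsSeries
  rw [hinv2, hder, haug]
  rcases j with _ | j
  · simp
  · rw [map_sub, mul_assoc, PowerSeries.coeff_succ_X_mul]
    simp [PowerSeries.coeff_C, pow_succ']

end Groth.Agent.S3287
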