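import Groth.Statements.S3288
import Mathlib
import Groth.Agent.Lib.Helper8.LambdaSplit

set_option autoImplicit false
universe u
open Finset
open LambdaRing

namespace Groth.Agent.S3288

open Groth.Agent.Helper8 LambdaRing

/-- In a λ-ring with positive structure having the splitting property, for a positive element e the
augmentation of λ^i(e) is the binomial coefficient C(ε(e), i). -/
theorem result (K : Type u) [CommRing K] [LambdaRing.LambdaOps K] (P : LambdaRing.PosStructure K) (hK : LambdaRing.HasSplitting K P) (e : K) (he : e ∈ P.pos)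
    (i : ℕ) : P.aug (LambdaRing.LambdaOps.lam i e) = ((P.aug e).toNat.choose i : ℤ) := by
  obtain ⟨C, hKC, hC⟩ := hK
  obtain ⟨L', hL', f, hf, s, hs, hsum⟩ := hC ⟨K, P⟩ hKC e he
  have h1 : P.aug (LambdaRing.LambdaOps.lam i e) = L'.posStr.aug (f (LambdaRing.LambdaOps.lam i e)) :=
    (hf.aug_comp _).symm
  have h2 : f (LambdaRing.LambdaOps.lam i e) = LambdaRing.LambdaOps.lam i (f e) := hf.isLambdaHom i e
  have h3 : L'.posStr.aug (f e) = P.aug e := hf.aug_comp e
  have h4 : L'.posStr.aug s.sum = (Multiset.card s : ℤ) := aug_multiset_sum_of_lines L'.posStr s hs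
  have h5 : (P.aug e).toNat = Multiset.card s := by
    rw [← h3, ← hsum, h4]
    simp
  rw [h1, h2, ← hsum, aug_lam_sum_of_lines L'.posStr s hs i, h5]

end Groth.Agent.S3288
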