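import Groth.Statements.S3290
import Mathlib
import Groth.Agent.Lib.Helper8.LambdaGamma2

set_option autoImplicit false
universe u
open Finset
open LambdaRing

namespace Groth.Agent.S3290

open Groth.Agent.Helper8 LambdaRing Polynomial

theorem reflect_sum' {R : Type*} [Semiring R] {ι : Type*} (s : Finset ι) (f : ι → R[X]) (N : ℕ) :
    reflect N (∑ i ∈ s, f i) = ∑ i ∈ s, reflect N (f i) := by
  classical
  induction s using Finset.induction_on with
  | empty => simp
  | insert a s ha ih => rw [Finset.sum_insert ha, Finset.sum_insert ha, reflect_add, ih]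

theorem natDegree_one_sub_X_le {R : Type*} [CommRing R] : (1 - X : R[X]).natDegree ≤ 1 := by
  refine (natDegree_sub_le _ _).trans ?_
  rw [natDegree_one]
  exact max_le (Nat.zero_le 1) natDegree_X_le

theorem natDegree_one_sub_X_pow_le {R : Type*} [CommRing R] (n : ℕ) :
    ((1 - X : R[X]) ^ n).natDegree ≤ n := by
  refine (natDegree_pow_le).trans ?_
  have h : (1 - X : R[X]).natDegree ≤ 1 := natDegree_one_sub_X_le
  calc n * (1 - X : R[X]).natDegree ≤ n * 1 := Nat.mul_le_mul_left n h
    _ = n := mul_one n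

theorem reflect_one_sub_X {R : Type*} [CommRing R] : reflect 1 (1 - X : R[X]) = X - 1 := by
  rw [reflect_sub, reflect_one]
  have h : reflect 1 (X : R[X]) = 1 := by
    have := reflect_monomial (R := R) 1 1
    rw [pow_one, revAt_le le_rfl] at this
    simpa using this
  rw [h, pow_one]

theorem reflect_one_sub_X_pow {R : Type*} [CommRing R] (n : ℕ) :
    reflect n ((1 - X : R[X]) ^ n) = (X - 1) ^ n := by
  induction n with
  | zero => simp [reflect_one]
  | succ n ih =>
    rw [pow_succ, reflect_mul _ _ (natDegree_one_sub_X_pow_le n)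
      natDegree_one_sub_X_le, ih,
      reflect_one_sub_X, pow_succ]

theorem reflect_eq_sum {R : Type*} [CommRing R] (Q : R[X]) (m : ℕ) (hQ : Q.natDegree ≤ m) :
    reflect m Q = ∑ i ∈ Finset.range (m + 1), C (Q.coeff i) * X ^ (m - i) := by
  conv_lhs => rw [Q.as_sum_range' (m + 1) (Nat.lt_succ_of_le hQ)]
  rw [reflect_sum']
  refine Finset.sum_congr rfl fun i hi => ?_
  have hi' : i ≤ m := Nat.lt_succ_iff.mp (Finset.mem_range.mp hi)
  rw [← C_mul_X_pow_eq_monomial, reflect_C_mul_X_pow, revAt_le hi']

theorem reflect_gammaPoly {K : Type u} [CommRing K] [LambdaOps K] (e : K) (m : ℕ) :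
    reflect m (gammaPoly e m) =
      ∑ i ∈ Finset.range (m + 1), C (LambdaOps.lam i e) * (X - 1) ^ (m - i) := by
  rw [gammaPoly, reflect_sum']
  refine Finset.sum_congr rfl fun i hi => ?_
  have hi' : i ≤ m := Nat.lt_succ_iff.mp (Finset.mem_range.mp hi)
  rw [mul_assoc, reflect_C_mul]
  have h1 : reflect m ((X : K[X]) ^ i * (1 - X) ^ (m - i)) =
      reflect (i + (m - i)) ((X : K[X]) ^ i * (1 - X) ^ (m - i)) := by
    congr 1
    omega
  rw [h1, reflect_mul _ _ (natDegree_X_pow_le i) (natDegree_one_sub_X_pow_le (m - i)),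
    reflect_monomial, revAt_le le_rfl, Nat.sub_self, pow_zero, one_mul, reflect_one_sub_X_pow]

theorem natDegree_gammaPoly_le {K : Type u} [CommRing K] [LambdaOps K] (e : K) (m : ℕ) :
    (gammaPoly e m).natDegree ≤ m := by
  rw [gammaPoly]
  refine natDegree_sum_le_of_forall_le _ _ fun i hi => ?_
  have hi' : i ≤ m := Nat.lt_succ_iff.mp (Finset.mem_range.mp hi)
  rw [mul_assoc]
  refine (natDegree_C_mul_le _ _).trans ?_
  refine (natDegree_mul_le).trans ?_
  have h1 := natDegree_X_pow_le (R := K) i
  have h2 := natDegree_one_sub_X_pow_le (R := K) (m - i)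
  omega

/-- For a positive element e of augmentation m in a λ-ring with positive structure, the polynomials
Σ_{i=0}^{m} γ^i(e − m) t^(m−i) and Σ_{i=0}^{m} λ^i(e) (t − 1)^(m−i) are equal. -/
theorem result (K : Type u) [CommRing K] [LambdaRing.LambdaOps K] (P : LambdaRing.PosStructure K) (e : K) (he : e ∈ P.pos) :
    (∑ i ∈ range ((P.aug e).toNat + 1),
        Polynomial.C (LambdaRing.gamma i (e - ((P.aug e).toNat : K))) * Polynomial.X ^ ((P.aug e).toNat - i)) =
      ∑ i ∈ range ((P.aug e).toNat + 1),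
        Polynomial.C (LambdaRing.LambdaOps.lam i e) * (Polynomial.X - 1) ^ ((P.aug e).toNat - i) := by
  have hpos := P.aug_pos e he
  have hv : ∀ i : ℕ, (P.aug e).toNat < i → LambdaRing.LambdaOps.lam i e = 0 := by
    intro i hi
    apply P.lam_eq_zero e he
    omega
  have h1 : ∀ i ∈ range ((P.aug e).toNat + 1),
      Polynomial.C (LambdaRing.gamma i (e - ((P.aug e).toNat : K))) *
        Polynomial.X ^ ((P.aug e).toNat - i) =
      Polynomial.C ((gammaPoly e (P.aug e).toNat).coeff i) *
        Polynomial.X ^ ((P.aug e).toNat - i) := by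
    intro i _
    rw [gamma_sub_natCast P e _ hv i]
  rw [Finset.sum_congr rfl h1, ← reflect_eq_sum _ _ (natDegree_gammaPoly_le e _),
    reflect_gammaPoly]

end Groth.Agent.S3290
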