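import Groth.Statements.S3350
import Mathlib

set_option autoImplicit false
open Finset
open Models Models.NumericalType

namespace Groth.Agent.S3350

/-- Row identity: `a i i * m i + a i j * m j + rest = 0` with `rest ≥ 0`, and `rest > 0` if some
off-`{i,j}` entry of the row is nonzero. -/
theorem row_ineq {n : ℕ} (T : Models.NumericalType n) (i j : Fin n) (hij : i ≠ j) :
    ∃ r : ℤ, 0 ≤ r ∧ T.a i i * T.m i + T.a i j * T.m j + r = 0 ∧
      ∀ k : Fin n, k ≠ i → k ≠ j → T.a i k ≠ 0 → 0 < r := by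
  classical
  have h := congrFun T.mulVec_m i
  simp only [Matrix.mulVec, dotProduct, Pi.zero_apply] at h
  refine ⟨∑ k ∈ (univ.erase i).erase j, T.a i k * T.m k, ?_, ?_, ?_⟩
  · apply Finset.sum_nonneg
    intro k hk
    have hki : k ≠ i := Finset.ne_of_mem_erase (Finset.mem_of_mem_erase hk)
    exact mul_nonneg (T.offDiag_nonneg i k hki.symm) (T.m_pos k).le
  · have hj' : j ∈ univ.erase i := Finset.mem_erase.2 ⟨hij.symm, Finset.mem_univ j⟩
    have e1 : T.a i i * T.m i + ∑ k ∈ univ.erase i, T.a i k * T.m k = ∑ k, T.a i k * T.m k :=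
      Finset.add_sum_erase univ (fun k => T.a i k * T.m k) (Finset.mem_univ i)
    have e2 : T.a i j * T.m j + ∑ k ∈ (univ.erase i).erase j, T.a i k * T.m k =
        ∑ k ∈ univ.erase i, T.a i k * T.m k :=
      Finset.add_sum_erase (univ.erase i) (fun k => T.a i k * T.m k) hj'
    linarith
  · intro k hki hkj hk
    have hkmem : k ∈ (univ.erase i).erase j :=
      Finset.mem_erase.2 ⟨hkj, Finset.mem_erase.2 ⟨hki, Finset.mem_univ k⟩⟩
    have hpos : 0 < T.a i k * T.m k :=
      mul_pos (lt_of_le_of_ne (T.offDiag_nonneg i k hki.symm) (Ne.symm hk)) (T.m_pos k)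
    refine lt_of_lt_of_le hpos ?_
    exact Finset.single_le_sum (f := fun k => T.a i k * T.m k) (fun k hk => by
      have hki : k ≠ i := Finset.ne_of_mem_erase (Finset.mem_of_mem_erase hk)
      exact mul_nonneg (T.offDiag_nonneg i k hki.symm) (T.m_pos k).le) hkmem

/-- Classification of proper subgraphs with two vertices: Let T be a numerical type on n > 2 indices and
i ≠ j two (-2)-indices (g = 0 and a_ii = -2 w_i, a_jj = -2 w_j) with a_ij > 0. Then, after possibly
exchanging i and j, one of the following holds with w = w_i: (A2) w_j = w, a_ij = w, 2 m_i ≥ m_j and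
2 m_j ≥ m_i; (B2) w_j = 2w, a_ij = 2w, m_i ≥ m_j and 2 m_j ≥ m_i; (G2) w_j = 3w, a_ij = 3w, 2 m_i ≥
3 m_j and 2 m_j ≥ m_i. -/
theorem result {n : ℕ} (T : Models.NumericalType n) (hn : 2 < n) (i j : Fin n)
    (hij : i ≠ j) (hi : T.IsMinusTwo i) (hj : T.IsMinusTwo j) (hpos : 0 < T.a i j) :
    ∃ i' j' : Fin n, ((i' = i ∧ j' = j) ∨ (i' = j ∧ j' = i)) ∧
      ((T.w j' = T.w i' ∧ T.a i' j' = T.w i' ∧ T.m j' ≤ 2 * T.m i' ∧ T.m i' ≤ 2 * T.m j') ∨
        (T.w j' = 2 * T.w i' ∧ T.a i' j' = 2 * T.w i' ∧ T.m j' ≤ T.m i' ∧ T.m i' ≤ 2 * T.m j') ∨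
        (T.w j' = 3 * T.w i' ∧ T.a i' j' = 3 * T.w i' ∧ 3 * T.m j' ≤ 2 * T.m i' ∧ T.m i' ≤ 2 * T.m j')) := by
  classical
  have hsymm : T.a j i = T.a i j := by
    have := T.symm
    exact congrFun (congrFun this i) j
  obtain ⟨ri, hri0, hrieq, hripos⟩ := row_ineq T i j hij
  obtain ⟨rj, hrj0, hrjeq, hrjpos⟩ := row_ineq T j i hij.symm
  rw [hi.2] at hrieq
  rw [hj.2, hsymm] at hrjeq
  set a := T.a i j with ha
  set wi := T.w i with hwi
  set wj := T.w j with hwj
  set mi := T.m i with hmi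
  set mj := T.m j with hmj
  have hwi0 : 0 < wi := T.w_pos i
  have hwj0 : 0 < wj := T.w_pos j
  have hmi0 : 0 < mi := T.m_pos i
  have hmj0 : 0 < mj := T.m_pos j
  -- the two inequalities
  have h1 : a * mj + ri = 2 * wi * mi := by linarith
  have h2 : a * mi + rj = 2 * wj * mj := by linarith
  -- strictness from connectedness
  have hstrict : 0 < ri ∨ 0 < rj := by
    have hI : ({i, j} : Finset (Fin n)) ≠ univ := by
      intro h
      have hc := congrArg Finset.card h
      rw [Finset.card_univ, Fintype.card_fin, Finset.card_pair hij] at hc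
      omega
    obtain ⟨i', hi', j', hj', hne⟩ := T.connected {i, j} ⟨i, by simp⟩ hI
    have hj'i : j' ≠ i := fun h => hj' (by simp [h])
    have hj'j : j' ≠ j := fun h => hj' (by simp [h])
    rcases Finset.mem_insert.1 hi' with h | h
    · subst h; exact Or.inl (hripos j' hj'i hj'j hne)
    · rw [Finset.mem_singleton] at h
      subst h; exact Or.inr (hrjpos j' hj'j hj'i hne)
  -- divisibility
  obtain ⟨x, hx⟩ : wi ∣ a := T.w_dvd i j
  obtain ⟨y, hy⟩ : wj ∣ a := by
    have := T.w_dvd j i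
    rwa [hsymm] at this
  have hx0 : 0 < x := by
    by_contra hneg
    push Not at hneg
    have : wi * x ≤ 0 := mul_nonpos_of_nonneg_of_nonpos hwi0.le hneg
    omega
  have hy0 : 0 < y := by
    by_contra hneg
    push Not at hneg
    have : wj * y ≤ 0 := mul_nonpos_of_nonneg_of_nonpos hwj0.le hneg
    omega
  -- product inequality
  have hP : 0 < wi * wj * (mi * mj) := by positivity
  have hprod : (a * mj) * (a * mi) < (2 * wi * mi) * (2 * wj * mj) := by
    have e1 : a * mj ≤ 2 * wi * mi := by linarith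
    have e2 : a * mi ≤ 2 * wj * mj := by linarith
    have p1 : 0 < a * mj := mul_pos hpos hmj0
    have p2 : 0 < a * mi := mul_pos hpos hmi0
    rcases hstrict with h | h
    · have e1' : a * mj < 2 * wi * mi := by linarith
      exact mul_lt_mul e1' e2 p2 (by positivity)
    · have e2' : a * mi < 2 * wj * mj := by linarith
      exact mul_lt_mul' e1 e2' p2.le (by positivity)
  have hxy : x * y < 4 := by
    have e : (a * mj) * (a * mi) = (x * y) * (wi * wj * (mi * mj)) := by
      have : a * a = (wi * x) * (wj * y) := by rw [← hx, ← hy]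
      calc (a * mj) * (a * mi) = (a * a) * (mi * mj) := by ring
        _ = (wi * x) * (wj * y) * (mi * mj) := by rw [this]
        _ = (x * y) * (wi * wj * (mi * mj)) := by ring
    have e' : (2 * wi * mi) * (2 * wj * mj) = 4 * (wi * wj * (mi * mj)) := by ring
    rw [e, e'] at hprod
    exact lt_of_mul_lt_mul_right hprod hP.le
  have hx3 : x ≤ 3 := by nlinarith
  have hy3 : y ≤ 3 := by nlinarith
  have hwxy : wi * x = wj * y := by rw [← hx, ← hy]
  -- useful bounds
  have b1 : a * mj ≤ 2 * wi * mi := by linarith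
  have b2 : a * mi ≤ 2 * wj * mj := by linarith
  -- case analysis
  have hx1 : 1 ≤ x := hx0
  have hy1 : 1 ≤ y := hy0
  interval_cases x <;> interval_cases y
  · -- x = 1, y = 1
    refine ⟨i, j, Or.inl ⟨rfl, rfl⟩, Or.inl ⟨?_, ?_, ?_, ?_⟩⟩
    · show wj = wi
      linarith
    · show a = wi
      linarith
    · nlinarith
    · nlinarith
  · -- x = 1, y = 2 : a = wi = 2 wj. swap
    refine ⟨j, i, Or.inr ⟨rfl, rfl⟩, Or.inr (Or.inl ⟨?_, ?_, ?_, ?_⟩)⟩
    · show wi = 2 * wj
      linarith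
    · rw [hsymm]; show a = 2 * wj; linarith
    · nlinarith
    · nlinarith
  · -- x = 1, y = 3
    refine ⟨j, i, Or.inr ⟨rfl, rfl⟩, Or.inr (Or.inr ⟨?_, ?_, ?_, ?_⟩)⟩
    · show wi = 3 * wj
      linarith
    · rw [hsymm]; show a = 3 * wj; linarith
    · nlinarith
    · nlinarith
  · -- x = 2, y = 1
    refine ⟨i, j, Or.inl ⟨rfl, rfl⟩, Or.inr (Or.inl ⟨?_, ?_, ?_, ?_⟩)⟩
    · show wj = 2 * wi
      linarith
    · show a = 2 * wi; linarith
    · nlinarith
    · nlinarith
  · -- x = 2, y = 2: excluded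
    exfalso; omega
  · exfalso; omega
  · -- x = 3, y = 1
    refine ⟨i, j, Or.inl ⟨rfl, rfl⟩, Or.inr (Or.inr ⟨?_, ?_, ?_, ?_⟩)⟩
    · show wj = 3 * wi
      linarith
    · show a = 3 * wi; linarith
    · nlinarith
    · nlinarith
  · exfalso; omega
  · exfalso; omega

end Groth.Agent.S3350
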