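import Groth.Statements.S3351
import Mathlib

set_option autoImplicit false
open Models

namespace Groth.Agent.S3351

theorem ext_functional {L : Type} [AddCommGroup L] [Module.Finite ℤ L]
    (N : Submodule ℤ L) (hN : ∀ (c : ℤ) (x : L), c ≠ 0 → c • x ∈ N → x ∈ N)
    (ψ : Module.Dual ℤ ↥N) : ∃ φ : Module.Dual ℤ L, φ ∘ₗ N.subtype = ψ := by
  haveI : Module.IsTorsionFree ℤ (L ⧸ N) := ⟨fun r hr => by
    have hr0 : r ≠ 0 := hr.ne_zero
    intro x y hxy
    obtain ⟨x, rfl⟩ := N.mkQ_surjective x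
    obtain ⟨y, rfl⟩ := N.mkQ_surjective y
    have h1 : N.mkQ (r • (x - y)) = 0 := by
      have h2 : r • N.mkQ x = r • N.mkQ y := hxy
      rw [smul_sub, map_sub, map_smul, map_smul, h2, sub_self]
    have h3 : r • (x - y) ∈ N := by
      rwa [Submodule.mkQ_apply, Submodule.Quotient.mk_eq_zero] at h1
    have h4 : x - y ∈ N := hN r _ hr0 h3
    rw [Submodule.mkQ_apply, Submodule.mkQ_apply]
    exact (Submodule.Quotient.eq N).mpr h4⟩
  haveI : Module.Free ℤ (L ⧸ N) := inferInstance
  obtain ⟨s, hs⟩ := Module.projective_lifting_property N.mkQ LinearMap.id N.mkQ_surjective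
  have hr : ∀ x : L, x - s (N.mkQ x) ∈ N := by
    intro x
    rw [← Submodule.Quotient.mk_eq_zero, ← Submodule.mkQ_apply, map_sub]
    have := LinearMap.congr_fun hs (N.mkQ x)
    simp only [LinearMap.comp_apply, LinearMap.id_apply] at this
    rw [this, sub_self]
  let r : L →ₗ[ℤ] ↥N := LinearMap.codRestrict N (LinearMap.id - s ∘ₗ N.mkQ) (fun x => hr x)
  refine ⟨ψ ∘ₗ r, ?_⟩
  apply LinearMap.ext
  intro x
  have hx0 : N.mkQ (x : L) = 0 := by
    rw [Submodule.mkQ_apply, Submodule.Quotient.mk_eq_zero]; exact x.2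
  have hrx : r (x : L) = x := by
    apply Subtype.ext
    show (x : L) - s (N.mkQ (x : L)) = x
    rw [hx0, map_zero, sub_zero]
  show ψ (r (x : L)) = ψ x
  rw [hrx]

theorem gram_key {L : Type} [AddCommGroup L]
    (B : LinearMap.BilinForm ℤ L) (hpos : ∀ x, x ≠ 0 → 0 < B x x)
    (A : Submodule ℤ L) {ι : Type*} [Fintype ι] [DecidableEq ι] (bA : Module.Basis ι ℤ ↥A) :
    ∃ c : ℤ, c ≠ 0 ∧ ∀ x : L, ∃ a ∈ A, c • x - a ∈ B.orthogonal A := by
  have hzero : ∀ x, B x x = 0 → x = 0 := by
    intro x hx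
    by_contra h
    exact absurd hx (ne_of_gt (hpos x h))
  let G : Matrix ι ι ℤ := fun i j => B (bA i : L) (bA j : L)
  have hmem : ∀ u : ι → ℤ, (∑ j, u j • (bA j : L)) ∈ A :=
    fun u => Submodule.sum_mem _ fun j _ => Submodule.smul_mem _ _ (bA j).2
  have hG : ∀ (u : ι → ℤ) (i : ι), B (bA i : L) (∑ j, u j • (bA j : L)) = (G.mulVec u) i := by
    intro u i
    show _ = ∑ j, B (bA i : L) (bA j : L) * u j
    rw [map_sum]
    refine Finset.sum_congr rfl fun j _ => ?_
    rw [map_smul, smul_eq_mul, mul_comm]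
  have horth : ∀ z : L, (∀ i, B (bA i : L) z = 0) → z ∈ B.orthogonal A := by
    intro z hz
    rw [LinearMap.BilinForm.mem_orthogonal_iff]
    intro n hn
    have h1 : (B.flip z) ∘ₗ A.subtype = 0 := bA.ext fun i => by
      simp only [LinearMap.comp_apply, Submodule.subtype_apply, LinearMap.zero_apply]
      exact hz i
    have h2 := LinearMap.congr_fun h1 ⟨n, hn⟩
    simpa using h2
  have hdet : G.det ≠ 0 := by
    intro h0
    obtain ⟨v, hv, hGv⟩ := Matrix.exists_mulVec_eq_zero_iff.mpr h0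
    have hao : (∑ j, v j • (bA j : L)) ∈ B.orthogonal A := horth _ fun i => by
      rw [hG v i, hGv]; rfl
    have ha0 : (∑ j, v j • (bA j : L)) = 0 :=
      hzero _ ((LinearMap.BilinForm.mem_orthogonal_iff.mp hao) _ (hmem v))
    have hA0 : (∑ j, v j • bA j : ↥A) = 0 := by
      apply Subtype.ext
      simpa using ha0
    have hv0 := Fintype.linearIndependent_iff.mp bA.linearIndependent v hA0
    exact hv (funext hv0)
  refine ⟨G.det, hdet, fun x => ?_⟩
  let w : ι → ℤ := fun i => B (bA i : L) x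
  let u : ι → ℤ := G.adjugate.mulVec w
  refine ⟨∑ j, u j • (bA j : L), hmem u, horth _ fun i => ?_⟩
  rw [map_sub, map_smul, hG u i]
  have h1 : G.mulVec u = G.det • w := by
    show G.mulVec (G.adjugate.mulVec w) = G.det • w
    rw [Matrix.mulVec_mulVec, Matrix.mul_adjugate, Matrix.smul_mulVec, Matrix.one_mulVec]
  rw [h1]
  show G.det • B (bA i : L) x - G.det • B (bA i : L) x = 0
  exact sub_self _


/-- Let L be a finite free Z-module with a positive definite symmetric integral bilinear form, A ⊆ L a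
submodule with L/A torsion free and B the orthogonal complement of A. Write M^# for the dual lattice
of a sublattice M, identified here with the Z-dual Hom(M, Z) through the form. Then the natural maps
L/(A ⊕ B) → B^#/B and L/(A ⊕ B) → A^#/A are injective: an element x of L whose functional ⟨x, -⟩ on
B (resp. on A) is represented by an element of B (resp. of A) lies in A ⊕ B. Moreover the
restriction maps L^# → B^# and L^# → A^# are surjective, so that the cokernels of the two injections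
are quotients of L^#/L. -/
theorem result {L : Type} [AddCommGroup L] [Module.Finite ℤ L] [Module.Free ℤ L]
    (B : LinearMap.BilinForm ℤ L) (hsymm : B.IsSymm) (hpos : ∀ x, x ≠ 0 → 0 < B x x)
    (A : Submodule ℤ L) (htf : ∀ (c : ℤ) (x : L), c ≠ 0 → c • x ∈ A → x ∈ A) :
    (∀ x : L, (∃ b ∈ B.orthogonal A, ∀ b' ∈ B.orthogonal A, B x b' = B b b') → x ∈ A ⊔ B.orthogonal A) ∧
      (∀ x : L, (∃ a ∈ A, ∀ a' ∈ A, B x a' = B a a') → x ∈ A ⊔ B.orthogonal A) ∧
      (∀ ψ : Module.Dual ℤ ↥(B.orthogonal A), ∃ φ : Module.Dual ℤ L, φ ∘ₗ (B.orthogonal A).subtype = ψ) ∧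
      (∀ ψ : Module.Dual ℤ ↥A, ∃ φ : Module.Dual ℤ L, φ ∘ₗ A.subtype = ψ) := by
  classical
  have hsym : ∀ x y, B x y = B y x := fun x y => hsymm.eq x y
  have hzero : ∀ x, B x x = 0 → x = 0 := by
    intro x hx
    by_contra h
    exact absurd hx (ne_of_gt (hpos x h))
  obtain ⟨c, hc0, hc⟩ := gram_key B hpos A (Module.Free.chooseBasis ℤ ↥A)
  have hKL : ∀ y : L, (∀ b' ∈ B.orthogonal A, B y b' = 0) → y ∈ A := by
    intro y hy
    obtain ⟨a, ha, hb⟩ := hc y
    have hbb : B (c • y - a) (c • y - a) = 0 := by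
      have h1 : B (c • y) (c • y - a) = 0 := by
        rw [map_smul, LinearMap.smul_apply, hy _ hb, smul_zero]
      have h2 : B a (c • y - a) = 0 := (LinearMap.BilinForm.mem_orthogonal_iff.mp hb) a ha
      rw [map_sub B (c • y) a, LinearMap.sub_apply, h1, h2, sub_zero]
    have h3 : c • y - a = 0 := hzero _ hbb
    have h4 : c • y = a := sub_eq_zero.mp h3
    exact htf c y hc0 (h4 ▸ ha)
  refine ⟨?_, ?_, ?_, ?_⟩
  · rintro x ⟨b, hb, hxb⟩
    have hy : x - b ∈ A := hKL _ fun b' hb' => by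
      rw [map_sub, LinearMap.sub_apply, hxb b' hb', sub_self]
    exact Submodule.mem_sup.mpr ⟨x - b, hy, b, hb, by abel⟩
  · rintro x ⟨a, ha, hxa⟩
    have hy : x - a ∈ B.orthogonal A := by
      rw [LinearMap.BilinForm.mem_orthogonal_iff]
      intro n hn
      rw [map_sub, hsym n x, hsym n a, hxa n hn, sub_self]
    exact Submodule.mem_sup.mpr ⟨a, ha, x - a, hy, by abel⟩
  · intro ψ
    refine ext_functional _ (fun c x hc hx => ?_) ψ
    rw [LinearMap.BilinForm.mem_orthogonal_iff] at hx ⊢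
    intro n hn
    have h := hx n hn
    rw [map_smul, smul_eq_mul] at h
    exact (mul_eq_zero.mp h).resolve_left hc
  · intro ψ
    exact ext_functional A htf ψ

end Groth.Agent.S3351
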