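import Groth.Statements.S3352
import Mathlib

set_option autoImplicit false
open Models

namespace Groth.Agent.S3352

theorem gram_dual {L : Type} [AddCommGroup L]
    (B : LinearMap.BilinForm ℤ L) (hpos : ∀ x, x ≠ 0 → 0 < B x x)
    (A : Submodule ℤ L) {ι : Type*} [Fintype ι] [DecidableEq ι] (bA : Module.Basis ι ℤ ↥A) :
    ∃ c : ℤ, c ≠ 0 ∧ ∀ ψ : Module.Dual ℤ ↥A, ∃ a : ↥A, ∀ n : ↥A,
      B (n : L) (a : L) = c * ψ n := by
  have hzero : ∀ x, B x x = 0 → x = 0 := by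
    intro x hx
    by_contra h
    exact absurd hx (ne_of_gt (hpos x h))
  let G : Matrix ι ι ℤ := fun i j => B (bA i : L) (bA j : L)
  have hmem : ∀ u : ι → ℤ, (∑ j, u j • (bA j : L)) ∈ A :=
    fun u => Submodule.sum_mem _ fun j _ => Submodule.smul_mem _ _ (bA j).2
  have hG : ∀ (u : ι → ℤ) (i : ι), B (bA i : L) (∑ j, u j • (bA j : L)) = (G.mulVec u) i := by
    intro u i
    show _ = ∑ j, B (bA i : L) (bA j : L) * u j
    rw [map_sum]
    refine Finset.sum_congr rfl fun j _ => ?_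
    rw [map_smul, smul_eq_mul, mul_comm]
  have horth : ∀ z : L, (∀ i, B (bA i : L) z = 0) → z ∈ B.orthogonal A := by
    intro z hz
    rw [LinearMap.BilinForm.mem_orthogonal_iff]
    intro n hn
    have h1 : (LinearMap.flip B z) ∘ₗ A.subtype = 0 := bA.ext fun i => by
      simp only [LinearMap.comp_apply, Submodule.subtype_apply, LinearMap.zero_apply]
      exact hz i
    have h2 := LinearMap.congr_fun h1 ⟨n, hn⟩
    simpa using h2
  have hdet : G.det ≠ 0 := by
    intro h0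
    obtain ⟨v, hv, hGv⟩ := Matrix.exists_mulVec_eq_zero_iff.mpr h0
    have hao : (∑ j, v j • (bA j : L)) ∈ B.orthogonal A := horth _ fun i => by
      rw [hG v i, hGv]; rfl
    have ha0 : (∑ j, v j • (bA j : L)) = 0 :=
      hzero _ ((LinearMap.BilinForm.mem_orthogonal_iff.mp hao) _ (hmem v))
    have hA0 : (∑ j, v j • bA j : ↥A) = 0 := by
      apply Subtype.ext
      simpa using ha0
    have hv0 := Fintype.linearIndependent_iff.mp bA.linearIndependent v hA0
    exact hv (funext hv0)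
  refine ⟨G.det, hdet, fun ψ => ?_⟩
  obtain ⟨w, hw⟩ : ∃ w : ι → ℤ, w = fun i => ψ (bA i) := ⟨_, rfl⟩
  have hGu : G.mulVec (G.adjugate.mulVec w) = G.det • w := by
    rw [Matrix.mulVec_mulVec, Matrix.mul_adjugate, Matrix.smul_mulVec, Matrix.one_mulVec]
  refine ⟨⟨∑ j, (G.adjugate.mulVec w) j • (bA j : L), hmem _⟩, fun n => ?_⟩
  have h1 : (LinearMap.flip B (∑ j, (G.adjugate.mulVec w) j • (bA j : L))) ∘ₗ A.subtype = G.det • ψ :=
    bA.ext fun i => by
      rw [LinearMap.comp_apply, Submodule.subtype_apply, LinearMap.flip_apply,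
        LinearMap.smul_apply, smul_eq_mul, hG _ i, hGu, Pi.smul_apply, smul_eq_mul, hw]
  have h2 := LinearMap.congr_fun h1 n
  rw [LinearMap.comp_apply, Submodule.subtype_apply, LinearMap.flip_apply,
    LinearMap.smul_apply, smul_eq_mul] at h2
  exact h2


/-- Let L₀, L₁ be finite free ℤ-modules with positive definite symmetric integral bilinear forms, the
form on L₀ unimodular (x ↦ ⟨x, −⟩ is a bijection L₀ → Hom(L₀, ℤ)), and let d : L₀ → L₁ and d* : L₁ →
L₀ be adjoint. Identify Im(d)^# (the dual lattice of Im(d)) with Hom(Im(d), ℤ) through the form on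
L₁. Then there is an isomorphism Φ from the torsion subgroup of Coker(d* d) onto Im(d)^#/Im(d),
determined by: for x ∈ L₀ whose class is torsion, Φ[x] is the class of the functional d(y') ↦ ⟨x,
y'⟩ (equivalently the class of (1/a)·d(y) when a·x = d* d(y)). -/
theorem result {L₀ L₁ : Type} [AddCommGroup L₀] [AddCommGroup L₁]
    [Module.Finite ℤ L₀] [Module.Free ℤ L₀] [Module.Finite ℤ L₁] [Module.Free ℤ L₁]
    (B₀ : LinearMap.BilinForm ℤ L₀) (B₁ : LinearMap.BilinForm ℤ L₁) (h₀s : B₀.IsSymm) (h₁s : B₁.IsSymm)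
    (h₀p : ∀ x, x ≠ 0 → 0 < B₀ x x) (h₁p : ∀ x, x ≠ 0 → 0 < B₁ x x) (huni : Function.Bijective B₀)
    (d : L₀ →ₗ[ℤ] L₁) (ds : L₁ →ₗ[ℤ] L₀) (hadj : ∀ x y, B₁ (d x) y = B₀ x (ds y)) :
    ∃ Φ : ↥(Submodule.torsion ℤ (L₀ ⧸ LinearMap.range (ds ∘ₗ d))) ≃ₗ[ℤ]
        (Module.Dual ℤ ↥(LinearMap.range d) ⧸
          LinearMap.range ((B₁.compl₂ (LinearMap.range d).subtype) ∘ₗ (LinearMap.range d).subtype)),
      ∀ (x : L₀) (hx : Submodule.Quotient.mk x ∈ Submodule.torsion ℤ (L₀ ⧸ LinearMap.range (ds ∘ₗ d)))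
        (ψ : Module.Dual ℤ ↥(LinearMap.range d)),
        (∀ y' : L₀, ψ ⟨d y', LinearMap.mem_range_self d y'⟩ = B₀ x y') →
          Φ ⟨Submodule.Quotient.mk x, hx⟩ = Submodule.Quotient.mk ψ := by
  classical
  have hsym₀ : ∀ x y, B₀ x y = B₀ y x := fun x y => h₀s.eq x y
  have hsym₁ : ∀ x y, B₁ x y = B₁ y x := fun x y => h₁s.eq x y
  let d' : L₀ →ₗ[ℤ] ↥(LinearMap.range d) := d.rangeRestrict
  have hd's : Function.Surjective d' := d.surjective_rangeRestrict
  let e : L₀ ≃ₗ[ℤ] Module.Dual ℤ L₀ := LinearEquiv.ofBijective B₀ huni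
  let β : ↥(LinearMap.range d) →ₗ[ℤ] Module.Dual ℤ ↥(LinearMap.range d) :=
    (B₁.compl₂ (LinearMap.range d).subtype) ∘ₗ (LinearMap.range d).subtype
  have hβ : ∀ m m' : ↥(LinearMap.range d), β m m' = B₁ (m : L₁) (m' : L₁) := fun m m' => rfl
  let Θ : Module.Dual ℤ ↥(LinearMap.range d) →ₗ[ℤ] L₀ :=
    e.symm.toLinearMap ∘ₗ (LinearMap.dualMap d')
  have hΘ : ∀ (ψ : Module.Dual ℤ ↥(LinearMap.range d)) (y : L₀), B₀ (Θ ψ) y = ψ (d' y) := by
    intro ψ y
    have h : e (Θ ψ) = ψ ∘ₗ d' := by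
      show e (e.symm (ψ ∘ₗ d')) = _
      exact e.apply_symm_apply _
    exact LinearMap.congr_fun h y
  have hΘinj : Function.Injective Θ := by
    intro ψ ψ' h
    apply LinearMap.ext
    intro m
    obtain ⟨y, rfl⟩ := hd's m
    rw [← hΘ ψ y, ← hΘ ψ' y, h]
  have hΘβ : ∀ m : ↥(LinearMap.range d), Θ (β m) = ds (m : L₁) := by
    intro m
    apply huni.1
    apply LinearMap.ext
    intro y
    rw [hΘ, hβ]
    calc B₁ (m : L₁) ((d' y : ↥(LinearMap.range d)) : L₁) = B₁ (d y) (m : L₁) := hsym₁ _ _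
      _ = B₀ y (ds (m : L₁)) := hadj y m
      _ = B₀ (ds (m : L₁)) y := hsym₀ _ _
  let R : Submodule ℤ L₀ := LinearMap.range (ds ∘ₗ d)
  let Ξ : Module.Dual ℤ ↥(LinearMap.range d) →ₗ[ℤ] L₀ ⧸ R := R.mkQ ∘ₗ Θ
  have hker : LinearMap.range β = LinearMap.ker Ξ := by
    ext ψ
    constructor
    · rintro ⟨m, rfl⟩
      rw [LinearMap.mem_ker]
      show R.mkQ (Θ (β m)) = 0
      rw [hΘβ, Submodule.mkQ_apply, Submodule.Quotient.mk_eq_zero]
      obtain ⟨y, hy⟩ := m.2
      exact ⟨y, by rw [LinearMap.comp_apply, hy]⟩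
    · intro h
      rw [LinearMap.mem_ker] at h
      have h' : Θ ψ ∈ R := by
        have h0 : R.mkQ (Θ ψ) = 0 := h
        rwa [Submodule.mkQ_apply, Submodule.Quotient.mk_eq_zero] at h0
      obtain ⟨z, hz⟩ := h'
      refine ⟨d' z, hΘinj ?_⟩
      rw [hΘβ]
      exact hz
  obtain ⟨c, hc0, hc⟩ := gram_dual B₁ h₁p (LinearMap.range d)
    (Module.Free.chooseBasis ℤ ↥(LinearMap.range d))
  have hcβ : ∀ ψ : Module.Dual ℤ ↥(LinearMap.range d), ∃ m, β m = c • ψ := by
    intro ψ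
    obtain ⟨a, ha⟩ := hc ψ
    refine ⟨a, LinearMap.ext fun n => ?_⟩
    rw [hβ, LinearMap.smul_apply, smul_eq_mul, hsym₁]
    exact ha n
  have hrange : LinearMap.range Ξ = Submodule.torsion ℤ (L₀ ⧸ R) := by
    ext t
    constructor
    · rintro ⟨ψ, rfl⟩
      obtain ⟨m, hm⟩ := hcβ ψ
      rw [Submodule.mem_torsion_iff]
      refine ⟨⟨c, mem_nonZeroDivisors_of_ne_zero hc0⟩, ?_⟩
      show c • Ξ ψ = 0
      rw [← map_smul, ← hm]
      have hmem : β m ∈ LinearMap.ker Ξ := hker ▸ LinearMap.mem_range_self β m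
      exact hmem
    · intro ht
      rw [Submodule.mem_torsion_iff] at ht
      obtain ⟨⟨c', hc'⟩, hct⟩ := ht
      have hc'0 : c' ≠ 0 := nonZeroDivisors.ne_zero hc'
      obtain ⟨x, rfl⟩ := R.mkQ_surjective t
      have hcx : c' • x ∈ R := by
        have h0 : R.mkQ (c' • x) = 0 := by rw [map_smul]; exact hct
        rwa [Submodule.mkQ_apply, Submodule.Quotient.mk_eq_zero] at h0
      obtain ⟨y, hy⟩ := hcx
      have hvan : ∀ k : L₀, d k = 0 → B₀ x k = 0 := by
        intro k hk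
        have h1 : c' * B₀ x k = 0 := by
          have h2 : B₀ (c' • x) k = 0 := by
            rw [← hy, LinearMap.comp_apply, hsym₀, ← hadj, hk, map_zero, LinearMap.zero_apply]
          rwa [map_smul, LinearMap.smul_apply, smul_eq_mul] at h2
        exact (mul_eq_zero.mp h1).resolve_left hc'0
      obtain ⟨σ, hσ⟩ := Module.projective_lifting_property d' LinearMap.id hd's
      refine ⟨(B₀ x) ∘ₗ σ, ?_⟩
      show R.mkQ (Θ ((B₀ x) ∘ₗ σ)) = R.mkQ x
      congr 1
      apply huni.1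
      apply LinearMap.ext
      intro y'
      rw [hΘ]
      show B₀ x (σ (d' y')) = B₀ x y'
      have hk : d (σ (d' y') - y') = 0 := by
        rw [map_sub, sub_eq_zero]
        have h3 := LinearMap.congr_fun hσ (d' y')
        exact congrArg Subtype.val h3
      have h4 := hvan _ hk
      rw [map_sub, sub_eq_zero] at h4
      exact h4
  refine ⟨((Submodule.quotEquivOfEq _ _ hker).trans
    (Ξ.quotKerEquivRange.trans (LinearEquiv.ofEq _ _ hrange))).symm, ?_⟩
  intro x hx ψ hψ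
  rw [LinearEquiv.symm_apply_eq]
  apply Subtype.ext
  have hx' : Θ ψ = x := by
    apply huni.1
    apply LinearMap.ext
    intro y'
    rw [hΘ]
    exact hψ y'
  show Submodule.Quotient.mk x = R.mkQ (Θ ψ)
  rw [hx']
  rfl

end Groth.Agent.S3352
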