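import Groth.Statements.S3401
import Mathlib
import Groth.Agent.H11.ProCons2

set_option autoImplicit false
open CategoryTheory AlgebraicGeometry
universe u
open EGA41

namespace Groth.Agent.S3401

/-- Let X be a scheme and E a subset of X. If E is ind-constructible then for every point x of E the set
E ∩ cl{x} is a neighbourhood of x in cl{x}; when X is locally Noetherian the converse holds. (As
published, the necessity clause quantifies over all points x of X; for x outside E the condition
cannot hold, and the argument uses x ∈ E, so it is stated here for x ∈ E.) Stated as an equivalence
for X locally Noetherian. -/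
theorem result (X : Scheme.{u}) [IsLocallyNoetherian X]
    (E : Set X) :
    ProCons.IsIndConstructible E ↔
      ∀ x ∈ E, (Subtype.val ⁻¹' E : Set ↥(closure ({x} : Set X))) ∈ nhds (⟨x, subset_closure rfl⟩ : ↥(closure ({x} : Set X))) := by
  constructor
  · intro hE x hx
    exact Groth.Agent.H11.mem_nhds_closure_of_isIndConstructible
      (Groth.Agent.H11.locSpectral_scheme X) hE x hx
  · intro h
    exact Groth.Agent.H11.isIndConstructible_of_mem_nhds_closure
      (Groth.Agent.H11.exists_noetherian_open X) h

end Groth.Agent.S3401
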