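import Groth.Statements.S3404
import Mathlib
import Groth.Agent.H11.OpenAt
import Groth.Agent.H11.ProCons

set_option autoImplicit false
open CategoryTheory AlgebraicGeometry
universe u
open EGA41

namespace Groth.Agent.S3404

open Topology TopologicalSpace in
/-- Let f : X ⟶ Y be a morphism of schemes, x a point of X and y = f x. If f is open at x then every
generization of y is the image of a generization of x; when f is locally of finite presentation the
converse holds. -/
theorem result {X Y : Scheme.{u}} (f : X ⟶ Y) (x : X) :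
    (EGA43.IsOpenAt f.base x → ∀ y' : Y, y' ⤳ f.base x → ∃ x' : X, x' ⤳ x ∧ f.base x' = y') ∧
    (LocallyOfFinitePresentation f →
      ((EGA43.IsOpenAt f.base x) ↔ ∀ y' : Y, y' ⤳ f.base x → ∃ x' : X, x' ⤳ x ∧ f.base x' = y')) := by
  obtain ⟨V, hVaff, hfxV⟩ : ∃ V : Y.Opens, IsAffineOpen V ∧ f.base x ∈ V := by
    obtain ⟨V, hV, hfxV, -⟩ := (Opens.isBasis_iff_nbhd.mp Y.isBasis_affineOpens)
      (show f.base x ∈ (⊤ : Y.Opens) from trivial)
    exact ⟨V, hV, hfxV⟩
  have chart : ∀ U ∈ 𝓝 x, ∃ W : X.Opens, IsAffineOpen W ∧ x ∈ W ∧ (W : Set X) ⊆ U ∧ W ≤ f ⁻¹ᵁ V := by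
    intro U hU
    obtain ⟨U', hU'U, hU'o, hxU'⟩ := mem_nhds_iff.mp hU
    obtain ⟨W, hW, hxW, hWU⟩ := (Opens.isBasis_iff_nbhd.mp X.isBasis_affineOpens)
      (show x ∈ (⟨U', hU'o⟩ : X.Opens) ⊓ f ⁻¹ᵁ V from ⟨hxU', hfxV⟩)
    exact ⟨W, hW, hxW, fun y hy => hU'U (hWU hy).1, fun y hy => (hWU hy).2⟩
  have hres : ∀ (W : X.Opens) (e : W ≤ f ⁻¹ᵁ V) (w : W),
      Subtype.val ((f.resLE V W e).base w) = f.base (w : X) := by
    intro W e w
    have := congrArg (fun φ : W.toScheme ⟶ Y => φ.base w) (Scheme.Hom.resLE_comp_ι f e)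
    exact this
  have part1 : EGA43.IsOpenAt f.base x →
      ∀ y' : Y, y' ⤳ f.base x → ∃ x' : X, x' ⤳ x ∧ f.base x' = y' := by
    intro hopen y' hy'
    obtain ⟨W, hW, hxW, -, e⟩ := chart Set.univ Filter.univ_mem
    have : IsAffine W.toScheme := hW
    have : IsAffine V.toScheme := hVaff
    have h1 : CompactSpace (W : Set X) := isCompact_iff_compactSpace.mp hW.isCompact
    have h2 : QuasiSober (W : Set X) := W.isOpen.isOpenEmbedding_subtypeVal.quasiSober
    have h3 : PrespectralSpace (W : Set X) := W.isOpen.isOpenEmbedding_subtypeVal.prespectralSpace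
    have h4 : QuasiSeparatedSpace (W : Set X) :=
      (isQuasiSeparated_iff_quasiSeparatedSpace _ W.isOpen).mp hW.isQuasiSeparated
    have h5 : PrespectralSpace (V : Set Y) := V.isOpen.isOpenEmbedding_subtypeVal.prespectralSpace
    exact Groth.Agent.H11.exists_generization_lift f.base x W W.isOpen hxW V V.isOpen
      (fun w => (f.resLE V W e).base w) (f.resLE V W e).continuous (hres W e)
      (fun U hU hUc => (inferInstance : QuasiCompact (f.resLE V W e)).isCompact_preimage U hU hUc)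
      hopen y' hy'
  refine ⟨part1, fun hfp => ⟨part1, ?_⟩⟩
  intro hlift U hU
  obtain ⟨W, hW, hxW, hWU, e⟩ := chart U hU
  have : IsAffine W.toScheme := hW
  have : IsAffine V.toScheme := hVaff
  have hT : IsLocallyConstructible (Set.range (f.resLE V W e).base) := by
    rw [← Set.image_univ]
    exact (f.resLE V W e).isLocallyConstructible_image IsConstructible.univ.isLocallyConstructible
  have hTind := ((Groth.Agent.H11.isLocallyConstructible_iff_ind_and_pro
    (Groth.Agent.H11.locSpectral_scheme V.toScheme) _).mp hT).1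
  have hint : (f.resLE V W e).base ⟨x, hxW⟩ ∈ interior (Set.range (f.resLE V W e).base) := by
    rw [Groth.Agent.H11.mem_interior_iff_of_isIndConstructible
      (Groth.Agent.H11.locSpectral_scheme V.toScheme) hTind]
    intro v hv
    have hv' : (Subtype.val v : Y) ⤳ f.base x := by
      have := hv.map continuous_subtype_val
      rwa [hres W e ⟨x, hxW⟩] at this
    obtain ⟨x', hx'x, hx'⟩ := hlift _ hv'
    have hx'W : x' ∈ W := hx'x.mem_open W.isOpen hxW
    refine ⟨⟨x', hx'W⟩, ?_⟩
    apply Subtype.ext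
    rw [hres W e ⟨x', hx'W⟩]
    exact hx'
  have hnhds : Set.range (f.resLE V W e).base ∈ 𝓝 ((f.resLE V W e).base ⟨x, hxW⟩) :=
    mem_interior_iff_mem_nhds.mp hint
  have h2 : Subtype.val '' (Set.range (f.resLE V W e).base) ∈ 𝓝 (f.base x) := by
    have := V.isOpen.isOpenEmbedding_subtypeVal.image_mem_nhds.mpr hnhds
    rwa [hres W e ⟨x, hxW⟩] at this
  refine Filter.mem_of_superset h2 ?_
  rintro _ ⟨_, ⟨w, rfl⟩, rfl⟩
  exact ⟨Subtype.val w, hWU w.2, (hres W e w).symm⟩

end Groth.Agent.S3404
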