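import Groth.Statements.S3406
import Groth.Agent.H29.SemiSOP

set_option autoImplicit false
universe u
open EGA41

namespace Groth.Agent.S3406

open Groth.Agent.H29 in
open Groth.Agent.H29.SemiSOP in
/-- The equality s(M) = dim(M): let A be a Noetherian ring with finitely many maximal ideals, r its
Jacobson radical and M a nonzero finitely generated A-module. Then the dimension of M (the Krull
dimension of its support) is the least n for which there are elements x_1, …, x_n of r such that
M/(x_1 M + ⋯ + x_n M) has finite length. -/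
theorem result (A : Type u) [CommRing A] [IsNoetherianRing A]
    [Finite (MaximalSpectrum A)] (M : Type u) [AddCommGroup M] [Module A M] [Module.Finite A M] [Nontrivial M] :
    Module.supportDim A M =
      sInf {k : WithBot ℕ∞ | ∃ (n : ℕ) (x : Fin n → A), k = n ∧ (∀ i, x i ∈ Ring.jacobson A) ∧
        IsFiniteLength A (M ⧸ (Ideal.span (Set.range x) • (⊤ : Submodule A M)))} := by
  classical
  have hlb : ∀ k ∈ {k : WithBot ℕ∞ | ∃ (n : ℕ) (x : Fin n → A), k = n ∧
      (∀ i, x i ∈ Ring.jacobson A) ∧
      IsFiniteLength A (M ⧸ (Ideal.span (Set.range x) • (⊤ : Submodule A M)))},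
      Module.supportDim A M ≤ k := by
    rintro k ⟨n, x, rfl, hx, hfl⟩
    have hof : Ideal.ofList (List.ofFn x) = Ideal.span (Set.range x) :=
      congrArg Ideal.span (Set.ext fun a => List.mem_ofFn' x a)
    have h1 := supportDim_le_supportDim_quotient_add_length A (List.ofFn x) M (by
      intro y hy
      obtain ⟨i, rfl⟩ := (List.mem_ofFn' x y).mp hy
      exact hx i)
    rw [hof, List.length_ofFn] at h1
    have h2 : Module.supportDim A (M ⧸ Ideal.span (Set.range x) • (⊤ : Submodule A M)) ≤ 0 :=
      (supportDim_le_zero_iff_isFiniteLength A _).mpr hfl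
    calc Module.supportDim A M
        ≤ Module.supportDim A (M ⧸ Ideal.span (Set.range x) • (⊤ : Submodule A M)) + n := h1
      _ ≤ 0 + n := add_le_add h2 le_rfl
      _ = n := zero_add _
  refine le_antisymm (le_sInf hlb) ?_
  obtain ⟨d, hd⟩ := exists_natCast_supportDim A M
  obtain ⟨xs, hlen, hmem, hfl⟩ := exists_sop A d M hd.le
  subst hlen
  rw [hd]
  refine sInf_le ⟨xs.length, xs.get, rfl, fun i => hmem _ (List.get_mem _ _), ?_⟩
  have : Ideal.span (Set.range xs.get) = Ideal.ofList xs := by rw [Set.range_list_get]
  rw [this]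
  exact hfl

end Groth.Agent.S3406
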