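import Mathlib
import Groth.Statements.S3417
import Groth.Agent.Lib.Helper9.DVRFib
-- import your own Groth.Agent.* helpers here

set_option autoImplicit false
open CategoryTheory AlgebraicGeometry
universe u
open EGA43

namespace Groth.Agent.S3417


theorem isOpen_generic {R : Type u} [CommRing R] [IsDomain R] [IsDiscreteValuationRing R] :
    IsOpen ({(⟨⊥, Ideal.isPrime_bot⟩ : PrimeSpectrum R)} : Set (PrimeSpectrum R)) := by
  have hcompl : ({(⟨⊥, Ideal.isPrime_bot⟩ : PrimeSpectrum R)} : Set (PrimeSpectrum R))ᶜ =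
      {IsLocalRing.closedPoint R} := by
    ext p
    simp only [Set.mem_compl_iff, Set.mem_singleton_iff]
    constructor
    · intro hp
      have hp0 : p.asIdeal ≠ ⊥ := fun h => hp (PrimeSpectrum.ext h)
      have hmax : p.asIdeal.IsMaximal := p.isPrime.isMaximal hp0
      exact PrimeSpectrum.ext (IsLocalRing.eq_maximalIdeal hmax)
    · rintro rfl h
      have : IsLocalRing.maximalIdeal R = ⊥ := congrArg PrimeSpectrum.asIdeal h
      exact IsDiscreteValuationRing.not_a_field R this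
  rw [← isClosed_compl_iff, hcompl, PrimeSpectrum.isClosed_singleton_iff_isMaximal]
  exact IsLocalRing.maximalIdeal.isMaximal R

/-- Let A be a discrete valuation ring, Y = Spec A with closed point a and generic point b, and f : X ⟶
Y a morphism locally of finite type which is open (as a map of spaces). If X is connected and the
fibre over a is a reduced scheme, then the fibre over b is connected. (Stated with 'preconnected',
which also covers the empty case; a is the closed point and b the point specialising to every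
point.) -/
theorem result (A : Type u) [CommRing A] [IsDomain A]
    [IsDiscreteValuationRing A] {X : Scheme.{u}} (f : X ⟶ Spec (CommRingCat.of A)) [LocallyOfFiniteType f]
    (hopen : IsOpenMap f.base) [PreconnectedSpace X]
    (a b : ↥(Spec (CommRingCat.of A))) (ha : IsClosed ({a} : Set ↥(Spec (CommRingCat.of A))))
    (hb : ∀ z : ↥(Spec (CommRingCat.of A)), b ⤳ z)
    (hred : AlgebraicGeometry.IsReduced (f.fiber a)) :
    PreconnectedSpace ↥(f.fiber b) := by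
  have key : ∀ (a b : PrimeSpectrum A), IsClosed ({a} : Set (PrimeSpectrum A)) →
      (∀ z : PrimeSpectrum A, b ⤳ z) →
      a = IsLocalRing.closedPoint A ∧ b = ⟨⊥, Ideal.isPrime_bot⟩ := by
    intro a b ha hb
    refine ⟨PrimeSpectrum.ext (IsLocalRing.eq_maximalIdeal
      ((PrimeSpectrum.isClosed_singleton_iff_isMaximal a).mp ha)),
      PrimeSpectrum.ext (le_bot_iff.mp ?_)⟩
    exact (PrimeSpectrum.le_iff_specializes b ⟨⊥, Ideal.isPrime_bot⟩).mpr (hb _)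
  obtain ⟨rfl, rfl⟩ := key a b ha hb
  suffices h : _root_.IsPreconnected (f ⁻¹' {(⟨⊥, Ideal.isPrime_bot⟩ : PrimeSpectrum A)}) by
    haveI : PreconnectedSpace (f ⁻¹' {(⟨⊥, Ideal.isPrime_bot⟩ : PrimeSpectrum A)}) :=
      isPreconnected_iff_preconnectedSpace.mp h
    refine ⟨?_⟩
    have h2 := (isPreconnected_univ
      (α := (f ⁻¹' {(⟨⊥, Ideal.isPrime_bot⟩ : PrimeSpectrum A)}))).image
      (f.fiberHomeo _).symm (f.fiberHomeo _).symm.continuous.continuousOn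
    rwa [Set.image_univ, (f.fiberHomeo _).symm.surjective.range_eq] at h2
  have hE_open : IsOpen (f ⁻¹' {(⟨⊥, Ideal.isPrime_bot⟩ : PrimeSpectrum A)}) :=
    isOpen_generic.preimage f.continuous
  have hlift : ∀ (N : Set X), IsOpen N → ∀ x ∈ N,
      ∃ y ∈ N, f y = (⟨⊥, Ideal.isPrime_bot⟩ : PrimeSpectrum A) := by
    intro N hN x hx
    have hfo : IsOpen (f '' N) := hopen N hN
    have hmem : f x ∈ f '' N := ⟨x, hx, rfl⟩
    obtain ⟨y, hy, hy2⟩ := (hb (f x)).mem_open hfo hmem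
    exact ⟨y, hy, hy2⟩
  have hgen : ∀ x : X, x ∈ closure (f ⁻¹' {(⟨⊥, Ideal.isPrime_bot⟩ : PrimeSpectrum A)}) := by
    intro x
    rw [mem_closure_iff]
    intro o ho hxo
    obtain ⟨y, hy, hy2⟩ := hlift o ho x hxo
    exact ⟨y, hy, hy2⟩
  intro u v hu hv huv hnu hnv
  by_contra hemp
  rw [Set.not_nonempty_iff_eq_empty] at hemp
  have hUo : IsOpen (f ⁻¹' {(⟨⊥, Ideal.isPrime_bot⟩ : PrimeSpectrum A)} ∩ u) := hE_open.inter hu
  have hVo : IsOpen (f ⁻¹' {(⟨⊥, Ideal.isPrime_bot⟩ : PrimeSpectrum A)} ∩ v) := hE_open.inter hv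
  have hdisj : Disjoint (f ⁻¹' {(⟨⊥, Ideal.isPrime_bot⟩ : PrimeSpectrum A)} ∩ u)
      (f ⁻¹' {(⟨⊥, Ideal.isPrime_bot⟩ : PrimeSpectrum A)} ∩ v) := by
    rw [Set.disjoint_left]
    rintro y ⟨hy1, hy2⟩ ⟨-, hy3⟩
    have : y ∈ f ⁻¹' {(⟨⊥, Ideal.isPrime_bot⟩ : PrimeSpectrum A)} ∩ (u ∩ v) := ⟨hy1, hy2, hy3⟩
    rw [hemp] at this
    exact this
  have hcovE : (f ⁻¹' {(⟨⊥, Ideal.isPrime_bot⟩ : PrimeSpectrum A)} ∩ u) ∪
      (f ⁻¹' {(⟨⊥, Ideal.isPrime_bot⟩ : PrimeSpectrum A)} ∩ v) =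
      f ⁻¹' {(⟨⊥, Ideal.isPrime_bot⟩ : PrimeSpectrum A)} := by
    rw [← Set.inter_union_distrib_left]
    exact Set.inter_eq_left.mpr huv
  have hcl : (Set.univ : Set X) ⊆
      closure (f ⁻¹' {(⟨⊥, Ideal.isPrime_bot⟩ : PrimeSpectrum A)} ∩ u) ∪
      closure (f ⁻¹' {(⟨⊥, Ideal.isPrime_bot⟩ : PrimeSpectrum A)} ∩ v) := by
    intro x _
    have hx := hgen x
    rw [← hcovE, closure_union] at hx
    exact hx
  obtain ⟨x, -, hxU, hxV⟩ := isPreconnected_closed_iff.mp isPreconnected_univ _ _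
    isClosed_closure isClosed_closure hcl
    (by obtain ⟨y, hy⟩ := hnu; exact ⟨y, trivial, subset_closure hy⟩)
    (by obtain ⟨y, hy⟩ := hnv; exact ⟨y, trivial, subset_closure hy⟩)
  obtain ⟨_, ⟨W, hW, rfl⟩, hxW, -⟩ := X.isBasis_affineOpens.exists_subset_of_mem_open
    (Set.mem_univ x) isOpen_univ
  obtain ⟨ψ, hψ⟩ := Spec.map_surjective (hW.fromSpec ≫ f)
  letI : Algebra A Γ(X, W) := ψ.hom.toAlgebra
  obtain ⟨ϖ, hϖ⟩ := IsDiscreteValuationRing.exists_irreducible A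
  have hmax : IsLocalRing.maximalIdeal A = Ideal.span {ϖ} := hϖ.maximalIdeal_eq
  have hrad := Groth.Agent.Helper9.DVRFib.fiber_radical f hred Γ(X, W) hW.fromSpec hψ.symm
  rw [hmax, Ideal.map_span, Set.image_singleton] at hrad
  have hfs : ∀ P : PrimeSpectrum Γ(X, W),
      (hW.fromSpec P ∈ f ⁻¹' {(⟨⊥, Ideal.isPrime_bot⟩ : PrimeSpectrum A)}) ↔
      P ∈ (PrimeSpectrum.basicOpen (algebraMap A Γ(X, W) ϖ) : Set (PrimeSpectrum Γ(X, W))) := by
    intro P
    have h1 : f (hW.fromSpec P) = (Spec.map ψ) P := by rw [hψ]; rfl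
    change f (hW.fromSpec P) = _ ↔ _
    rw [h1]
    constructor
    · intro h hmem
      have h2 : ϖ ∈ ((Spec.map ψ) P).asIdeal := hmem
      rw [h] at h2
      exact hϖ.ne_zero h2
    · intro h
      apply PrimeSpectrum.ext
      by_contra hne
      have hq : ((Spec.map ψ) P).asIdeal.IsMaximal := ((Spec.map ψ) P).isPrime.isMaximal hne
      have h3 := IsLocalRing.eq_maximalIdeal hq
      apply h
      show ϖ ∈ ((Spec.map ψ) P).asIdeal
      rw [h3, hmax]
      exact Ideal.mem_span_singleton_self ϖ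
  have hT : ∀ t : Γ(X, W), (∃ k : ℕ, (algebraMap A Γ(X, W) ϖ) ^ k * t = 0) → IsNilpotent t := by
    rintro t ⟨k, hk⟩
    rw [nilpotent_iff_mem_prime]
    intro P hP
    by_contra htP
    have hpt : (⟨P, hP⟩ : PrimeSpectrum Γ(X, W)) ∈
        (PrimeSpectrum.basicOpen t : Set (PrimeSpectrum Γ(X, W))) := htP
    have hNo : IsOpen (hW.fromSpec '' (PrimeSpectrum.basicOpen t : Set (PrimeSpectrum Γ(X, W)))) :=
      hW.fromSpec.isOpenEmbedding.isOpenMap _ (PrimeSpectrum.basicOpen t).isOpen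
    obtain ⟨_, ⟨Q, hQt, rfl⟩, hQb⟩ := hlift _ hNo (hW.fromSpec (⟨P, hP⟩ : PrimeSpectrum Γ(X, W)))
      ⟨_, hpt, rfl⟩
    have hQπ : Q ∈ (PrimeSpectrum.basicOpen (algebraMap A Γ(X, W) ϖ) :
        Set (PrimeSpectrum Γ(X, W))) := (hfs Q).mp hQb
    have h0 : (algebraMap A Γ(X, W) ϖ) ^ k * t ∈ Q.asIdeal := by rw [hk]; exact zero_mem _
    rcases Q.isPrime.mem_or_mem h0 with h | h
    · exact hQπ (Q.isPrime.mem_of_pow_mem k h)
    · exact hQt h
  have hcovA : hW.fromSpec ⁻¹' (f ⁻¹' {(⟨⊥, Ideal.isPrime_bot⟩ : PrimeSpectrum A)} ∩ u) ∪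
      hW.fromSpec ⁻¹' (f ⁻¹' {(⟨⊥, Ideal.isPrime_bot⟩ : PrimeSpectrum A)} ∩ v) =
      (PrimeSpectrum.basicOpen (algebraMap A Γ(X, W) ϖ) : Set (PrimeSpectrum Γ(X, W))) := by
    rw [← Set.preimage_union, hcovE]
    ext P
    exact hfs P
  have hp : hW.fromSpec (hW.primeIdealOf ⟨x, hxW⟩) = x := hW.fromSpec_primeIdealOf ⟨x, hxW⟩
  have hpU : hW.primeIdealOf ⟨x, hxW⟩ ∈
      closure (hW.fromSpec ⁻¹' (f ⁻¹' {(⟨⊥, Ideal.isPrime_bot⟩ : PrimeSpectrum A)} ∩ u)) := by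
    have h0 : hW.fromSpec (hW.primeIdealOf ⟨x, hxW⟩) ∈
        closure (f ⁻¹' {(⟨⊥, Ideal.isPrime_bot⟩ : PrimeSpectrum A)} ∩ u) := by
      rw [hp]; exact hxU
    rw [← hW.fromSpec.isOpenEmbedding.isOpenMap.preimage_closure_eq_closure_preimage
      hW.fromSpec.continuous]
    exact h0
  have hpV : hW.primeIdealOf ⟨x, hxW⟩ ∈
      closure (hW.fromSpec ⁻¹' (f ⁻¹' {(⟨⊥, Ideal.isPrime_bot⟩ : PrimeSpectrum A)} ∩ v)) := by
    have h0 : hW.fromSpec (hW.primeIdealOf ⟨x, hxW⟩) ∈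
        closure (f ⁻¹' {(⟨⊥, Ideal.isPrime_bot⟩ : PrimeSpectrum A)} ∩ v) := by
      rw [hp]; exact hxV
    rw [← hW.fromSpec.isOpenEmbedding.isOpenMap.preimage_closure_eq_closure_preimage
      hW.fromSpec.continuous]
    exact h0
  exact Set.disjoint_left.mp (Groth.Agent.Helper9.DVRFib.clopen_lemma' _ hT hrad _ _
    (hUo.preimage hW.fromSpec.continuous) (hVo.preimage hW.fromSpec.continuous)
    (hdisj.preimage _) hcovA) hpU hpV

end Groth.Agent.S3417
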