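import Mathlib
import Groth.Agent.H11.Goldman
import Groth.Statements.S4861

set_option autoImplicit false
universe u
open EGA43

namespace Groth.Agent.S4861

open Groth.Agent.H11 in
/-- For a Noetherian integral domain B the following are equivalent (and hence equivalent to: the
fraction field of B is a finitely generated B-algebra; the generic point of Spec B is open): a) the
localization B_f is a field for some nonzero f; e) Spec B is finite; f) B is semi-local (finitely
many maximal ideals) of Krull dimension at most 1. -/
theorem result (B : Type u) [CommRing B] [IsDomain B]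
    [IsNoetherianRing B] :
    [∃ f : B, f ≠ 0 ∧ IsField (Localization.Away f),
      Finite (PrimeSpectrum B),
      Finite (MaximalSpectrum B) ∧ ringKrullDim B ≤ 1].TFAE := by
  classical
  tfae_have 1 → 3 := by
    rintro ⟨f, hf0, hf⟩
    have hmin : ∀ p : Ideal B, p.IsPrime → p.height = 1 → p ∈ (Ideal.span {f}).minimalPrimes := by
      intro p hp hp1
      have hfp : f ∈ p := mem_of_isField_away hf (Ideal.ne_bot_of_height_eq_one hp1)
      refine Ideal.mem_minimalPrimes_of_height_le
        ((Ideal.span_singleton_le_iff_mem p).2 hfp) ?_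
      rw [hp1]
      exact Ideal.one_le_height_span_singleton_of_mem_nonZeroDivisors
        (mem_nonZeroDivisors_of_ne_zero hf0)
    have hfin : {p : Ideal B | p.IsPrime ∧ p.height = 1}.Finite :=
      Set.Finite.subset (Ideal.finite_minimalPrimes_of_isNoetherianRing B (Ideal.span {f}))
        (fun p hp => hmin p hp.1 hp.2)
    have hht : ∀ q : Ideal B, q.IsPrime → q.height ≤ 1 := fun q hq =>
      height_le_one_of_finite_height_one hfin q
    have hspec : Finite (PrimeSpectrum B) := by
      have hsub : (Set.univ : Set (PrimeSpectrum B)) ⊆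
          PrimeSpectrum.asIdeal ⁻¹' (insert ⊥ (Ideal.span {f}).minimalPrimes) := by
        intro q _
        by_cases hq : q.asIdeal = ⊥
        · exact Or.inl hq
        · right
          refine hmin q.asIdeal q.2 (le_antisymm (hht _ q.2) ?_)
          rw [Order.one_le_iff_pos, pos_iff_ne_zero, ne_eq, Ideal.height_eq_zero_iff_eq_bot]
          exact hq
      have hfin2 : (PrimeSpectrum.asIdeal ⁻¹'
          (insert ⊥ (Ideal.span {f}).minimalPrimes) : Set (PrimeSpectrum B)).Finite :=
        Set.Finite.preimage (fun a _ b _ hab => PrimeSpectrum.ext hab)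
          ((Ideal.finite_minimalPrimes_of_isNoetherianRing B (Ideal.span {f})).insert ⊥)
      exact Set.finite_univ_iff.1 (hfin2.subset hsub)
    refine ⟨Finite.of_injective _ MaximalSpectrum.toPrimeSpectrum_injective, ?_⟩
    rw [ringKrullDim_le_iff_height_le]
    intro p hp
    exact_mod_cast hht p hp
  tfae_have 3 → 2 := by
    rintro ⟨hmax, hdim⟩
    rw [ringKrullDim_le_iff_height_le] at hdim
    have hsub : (Set.univ : Set (PrimeSpectrum B)) ⊆
        insert ⟨⊥, Ideal.isPrime_bot⟩ (Set.range MaximalSpectrum.toPrimeSpectrum) := by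
      intro q _
      by_cases hq : q.asIdeal = ⊥
      · left
        exact PrimeSpectrum.ext hq
      · right
        obtain ⟨m, hm, hqm⟩ := Ideal.exists_le_maximal q.asIdeal q.2.ne_top
        have hqm' : q.asIdeal = m := by
          by_contra hne
          have hlt : q.asIdeal < m := lt_of_le_of_ne hqm hne
          have h1 := Ideal.height_add_one_le_of_lt_of_isPrime hlt
          have h2 : (m.height : WithBot ℕ∞) ≤ 1 := hdim hm.isPrime
          have h2' : m.height ≤ 1 := by exact_mod_cast h2
          have h3 : 1 ≤ q.asIdeal.height := by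
            rw [Order.one_le_iff_pos, pos_iff_ne_zero, ne_eq, Ideal.height_eq_zero_iff_eq_bot]
            exact hq
          have h4 : (1 : ℕ∞) + 1 ≤ 1 := (add_le_add_left h3 1).trans (h1.trans h2')
          exact absurd h4 (by decide)
        exact ⟨⟨m, hm⟩, PrimeSpectrum.ext hqm'.symm⟩
    exact Set.finite_univ_iff.1 (((Set.finite_range _).insert _).subset hsub)
  tfae_have 2 → 1 := by
    intro hfin
    have := Fintype.ofFinite (PrimeSpectrum B)
    have hex : ∀ q : PrimeSpectrum B, ∃ x : B, x ≠ 0 ∧ (q.asIdeal ≠ ⊥ → x ∈ q.asIdeal) := by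
      intro q
      by_cases hq : q.asIdeal = ⊥
      · exact ⟨1, one_ne_zero, fun h => absurd hq h⟩
      · obtain ⟨x, hx, hx0⟩ := Submodule.exists_mem_ne_zero_of_ne_bot hq
        exact ⟨x, hx0, fun _ => hx⟩
    choose g hg0 hg using hex
    obtain ⟨f, hf0, hfmem⟩ : ∃ f : B, f ≠ 0 ∧
        ∀ q : PrimeSpectrum B, q.asIdeal ≠ ⊥ → f ∈ q.asIdeal := by
      refine ⟨∏ q, g q, Finset.prod_ne_zero_iff.2 (fun q _ => hg0 q), fun q hq => ?_⟩
      rw [← Finset.prod_erase_mul Finset.univ g (Finset.mem_univ q)]
      exact Ideal.mul_mem_left _ _ (hg q hq)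
    refine ⟨f, hf0, ?_⟩
    have hle : Submonoid.powers f ≤ nonZeroDivisors B :=
      powers_le_nonZeroDivisors_of_noZeroDivisors hf0
    have hdom : IsDomain (Localization.Away f) :=
      IsLocalization.isDomain_of_le_nonZeroDivisors (M := Submonoid.powers f) (Localization.Away f) hle
    by_contra hnf
    obtain ⟨P, hP0, hP⟩ := Ring.not_isField_iff_exists_prime.1 hnf
    have hPmap : Ideal.map (algebraMap B (Localization.Away f))
        (Ideal.comap (algebraMap B (Localization.Away f)) P) = P :=
      IsLocalization.map_under (Submonoid.powers f) (Localization.Away f) P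
    have hcp : (Ideal.comap (algebraMap B (Localization.Away f)) P).IsPrime :=
      Ideal.comap_isPrime _ P
    have hne : Ideal.comap (algebraMap B (Localization.Away f)) P ≠ ⊥ := by
      intro h
      rw [h, Ideal.map_bot] at hPmap
      exact hP0 hPmap.symm
    have hmem : f ∈ Ideal.comap (algebraMap B (Localization.Away f)) P :=
      hfmem ⟨_, hcp⟩ hne
    rw [Ideal.mem_comap] at hmem
    have hunit : IsUnit (algebraMap B (Localization.Away f) f) :=
      IsLocalization.Away.algebraMap_isUnit _
    exact hP.ne_top (Ideal.eq_top_of_isUnit_mem _ hmem hunit)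
  tfae_finish

end Groth.Agent.S4861
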