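import Mathlib
import Groth.Agent.H11.Goldman
import Groth.Agent.S4861
import Groth.Statements.S3431

set_option autoImplicit false
universe u
open EGA43

namespace Groth.Agent.S3431

/-- Let A be a Noetherian ring. Then A is a Jacobson ring if and only if there is no prime ideal p of A
such that A/p is semi-local (finitely many maximal ideals) of Krull dimension 1. -/
theorem result (A : Type u) [CommRing A] [IsNoetherianRing A] :
    IsJacobsonRing A ↔
      ∀ (p : Ideal A) [p.IsPrime], ¬ (Finite (MaximalSpectrum (A ⧸ p)) ∧ ringKrullDim (A ⧸ p) = 1) := by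
  have hdim1 : ∀ x : WithBot ℕ∞, x ≤ 1 → ¬ x ≤ 0 → x = 1 := by
    intro x h1 h0
    induction x with
    | bot => exact absurd bot_le h0
    | coe y =>
      have h1' : y ≤ 1 := by exact_mod_cast h1
      have h0' : ¬ y ≤ 0 := fun h => h0 (by exact_mod_cast h)
      have : y = 1 := le_antisymm h1' (Order.one_le_iff_pos.2 (pos_iff_ne_zero.2 (fun h => h0' h.le)))
      rw [this]; rfl
  constructor
  · intro hJ p hp hcon
    obtain ⟨hfin, hdim⟩ := hcon
    have hdom : IsDomain (A ⧸ p) := Ideal.Quotient.isDomain p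
    have hjac : (⊥ : Ideal (A ⧸ p)).jacobson = ⊥ :=
      IsJacobsonRing.out inferInstance Ideal.isRadical_bot
    have := Fintype.ofFinite (MaximalSpectrum (A ⧸ p))
    classical
    have hex : ∀ m : MaximalSpectrum (A ⧸ p), ∃ x : A ⧸ p, x ≠ 0 ∧ x ∈ m.asIdeal := by
      intro m
      have hm0 : m.asIdeal ≠ ⊥ := by
        intro h
        have hF : IsField (A ⧸ p) := by
          rw [Ring.isField_iff_maximal_bot, ← h]
          exact m.isMaximal
        rw [ringKrullDim_eq_zero_of_isField hF] at hdim
        exact zero_ne_one hdim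
      obtain ⟨x, hx, hx0⟩ := Submodule.exists_mem_ne_zero_of_ne_bot hm0
      exact ⟨x, hx0, hx⟩
    choose g hg0 hg using hex
    have hprod0 : (∏ m, g m) ≠ 0 := Finset.prod_ne_zero_iff.2 (fun m _ => hg0 m)
    apply hprod0
    have hmem : (∏ m, g m) ∈ (⊥ : Ideal (A ⧸ p)).jacobson := by
      rw [Ideal.jacobson, Submodule.mem_sInf]
      intro I hI
      have := Finset.prod_erase_mul Finset.univ g (Finset.mem_univ (⟨I, hI.2⟩ : MaximalSpectrum (A ⧸ p)))
      rw [← this]
      exact Ideal.mul_mem_left _ _ (hg ⟨I, hI.2⟩)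
    rw [hjac] at hmem
    exact hmem
  · intro h
    apply Groth.Agent.H11.isJacobsonRing_of_forall_not_isField_away
    intro q hq hqm f hf0 hfield
    have hdom : IsDomain (A ⧸ q) := Ideal.Quotient.isDomain q
    have hex1 : ∃ f : A ⧸ q, f ≠ 0 ∧ IsField (Localization.Away f) := ⟨f, hf0, hfield⟩
    have h13 := ((Groth.Agent.S4861.result (A ⧸ q)).out 0 2).1 hex1
    refine h q (And.intro h13.1 (hdim1 _ h13.2 ?_))
    intro h0
    have : Ring.KrullDimLE 0 (A ⧸ q) := (Ring.krullDimLE_iff).2 (by exact_mod_cast h0)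
    have hF : IsField (A ⧸ q) := Ring.KrullDimLE.isField_of_isDomain
    exact hqm (Ideal.Quotient.maximal_of_isField q hF)

end Groth.Agent.S3431
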