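import Mathlib
import Groth.Agent.H11.GoldmanSch
import Groth.Statements.S3432

set_option autoImplicit false
open CategoryTheory AlgebraicGeometry
universe u
open EGA43

namespace Groth.Agent.S3432

open Groth.Agent.H11 in
/-- Let X be a locally Noetherian scheme and Y a closed subset of X such that every nonempty closed
subset of X meets Y. Then the open subscheme X ∖ Y (equivalently, the subspace X ∖ Y) is a Jacobson
space. -/
theorem result (X : Scheme.{u}) [IsLocallyNoetherian X] (Y : Set X)
    (hY : IsClosed Y) (hmeet : ∀ Z : Set X, IsClosed Z → Z.Nonempty → (Z ∩ Y).Nonempty) :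
    JacobsonSpace ↥(Yᶜ) := by
  rw [jacobsonSpace_iff_locallyClosed]
  intro Z hZne hZ
  obtain ⟨z₀, hz₀⟩ := hZne
  obtain ⟨_, ⟨V, hV : IsAffineOpen V, rfl⟩, hzV, -⟩ :=
    X.isBasis_affineOpens.exists_subset_of_mem_open (Set.mem_univ z₀.1) isOpen_univ
  have hN : IsNoetherianRing Γ(X, V) := IsLocallyNoetherian.component_noetherian ⟨V, hV⟩
  have hNS : TopologicalSpace.NoetherianSpace V := noetherianSpace_of_isAffineOpen V hV
  have hopen : IsOpen (Yᶜ : Set X) := hY.isOpen_compl
  -- the image of `Z` in `X` is locally closed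
  have hZ' : IsLocallyClosed (Subtype.val '' Z : Set X) :=
    hZ.image Topology.IsEmbedding.subtypeVal.isInducing
      (hopen.isOpenEmbedding_subtypeVal.isOpen_range.isLocallyClosed)
  obtain ⟨W, hW⟩ : ∃ W : Set X, W = (Subtype.val '' Z) ∩ (V : Set X) := ⟨_, rfl⟩
  have hWlc : IsLocallyClosed W := by
    rw [hW]
    exact hZ'.inter V.2.isLocallyClosed
  have hWne : W.Nonempty := ⟨z₀.1, by rw [hW]; exact ⟨⟨z₀, hz₀, rfl⟩, hzV⟩⟩
  have hWcomp : IsCompact W := by
    have hsub : W ⊆ (V : Set X) := by rw [hW]; exact Set.inter_subset_right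
    have hNS' : TopologicalSpace.NoetherianSpace ((V : Set X) : Type u) := hNS
    have h1 : IsCompact ((Subtype.val : ((V : Set X) : Type u) → X) ⁻¹' W) :=
      TopologicalSpace.NoetherianSpace.isCompact _
    have h2 := h1.image continuous_subtype_val
    rwa [Subtype.image_preimage_coe, Set.inter_eq_right.2 hsub] at h2
  have hCS : CompactSpace W := isCompact_iff_compactSpace.1 hWcomp
  have hWne' : Nonempty W := hWne.to_subtype
  obtain ⟨w, -, hw⟩ := IsClosed.exists_closed_singleton (X := W) isClosed_univ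
    Set.univ_nonempty
  obtain ⟨C, hC, hCw⟩ := isClosed_induced_iff.1 hw
  have hx : IsLocallyClosed ({w.1} : Set X) := by
    have : ({w.1} : Set X) = W ∩ C := by
      ext a
      constructor
      · rintro rfl
        refine ⟨w.2, ?_⟩
        have : w ∈ Subtype.val ⁻¹' C := by rw [hCw]; rfl
        exact this
      · rintro ⟨haW, haC⟩
        have : (⟨a, haW⟩ : W) ∈ Subtype.val ⁻¹' C := haC
        rw [hCw] at this
        exact congrArg Subtype.val this
    rw [this]
    exact hWlc.inter hC.isLocallyClosed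
  have hcl := closure_singleton_subset_of_isLocallyClosed Y hmeet hx
  have hwW : w.1 ∈ (Subtype.val '' Z) ∩ (V : Set X) := hW ▸ w.2
  obtain ⟨⟨z, hzZ, hzw⟩, -⟩ := hwW
  refine ⟨z, hzZ, ?_⟩
  rw [mem_closedPoints_iff, isClosed_induced_iff]
  refine ⟨closure {w.1}, isClosed_closure, ?_⟩
  ext a
  constructor
  · intro ha
    have ha' : a.1 ∈ insert w.1 Y := hcl ha
    rcases ha' with h | h
    · exact Subtype.ext (h.trans hzw.symm)
    · exact absurd h a.2
  · intro ha
    have ha' : a = z := ha
    show a.1 ∈ closure {w.1}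
    rw [ha', hzw]
    exact subset_closure rfl

end Groth.Agent.S3432
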