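import Mathlib
import Groth.Agent.S3432
import Groth.Statements.S3433

set_option autoImplicit false
universe u
open EGA43

namespace Groth.Agent.S3433

/-- Let A be a Noetherian local ring with maximal ideal m and let Y be the punctured spectrum Spec A ∖
{m}. Then Y is a Jacobson space, and a point p of Y is closed in Y if and only if dim A/p = 1. -/
theorem result (A : Type u) [CommRing A] [IsNoetherianRing A] [IsLocalRing A] :
    JacobsonSpace ↥({IsLocalRing.closedPoint A}ᶜ : Set (PrimeSpectrum A)) ∧
      ∀ p : ↥({IsLocalRing.closedPoint A}ᶜ : Set (PrimeSpectrum A)),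
        IsClosed ({p} : Set ↥({IsLocalRing.closedPoint A}ᶜ : Set (PrimeSpectrum A))) ↔
          ringKrullDim (A ⧸ p.1.asIdeal) = 1 := by
  have hdim1 : ∀ x : WithBot ℕ∞, x ≤ 1 → ¬ x ≤ 0 → x = 1 := by
    intro x h1 h0
    induction x with
    | bot => exact absurd bot_le h0
    | coe y =>
      have h1' : y ≤ 1 := by exact_mod_cast h1
      have h0' : ¬ y ≤ 0 := fun h => h0 (by exact_mod_cast h)
      have : y = 1 := le_antisymm h1' (Order.one_le_iff_pos.2 (pos_iff_ne_zero.2 (fun h => h0' h.le)))
      rw [this]; rfl
  refine ⟨?_, ?_⟩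
  · have hN : AlgebraicGeometry.IsLocallyNoetherian (AlgebraicGeometry.Spec (CommRingCat.of A)) :=
      inferInstance
    refine Groth.Agent.S3432.result (AlgebraicGeometry.Spec (CommRingCat.of A))
      ({IsLocalRing.closedPoint A} : Set (PrimeSpectrum A)) ?_ ?_
    · exact IsLocalRing.isClosed_singleton_closedPoint A
    · intro Z hZ hne
      obtain ⟨x, hx⟩ := hne
      have hsp : (x : PrimeSpectrum A) ⤳ IsLocalRing.closedPoint A :=
        IsLocalRing.specializes_closedPoint x
      exact ⟨IsLocalRing.closedPoint A, hsp.mem_closed hZ hx, rfl⟩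
  · intro p
    have hdom : IsDomain (A ⧸ p.1.asIdeal) := Ideal.Quotient.isDomain _
    have hsurj : Function.Surjective (Ideal.Quotient.mk p.1.asIdeal) := Ideal.Quotient.mk_surjective
    have hker : RingHom.ker (Ideal.Quotient.mk p.1.asIdeal) = p.1.asIdeal := Ideal.mk_ker
    have hpm : ¬ p.1.asIdeal.IsMaximal := by
      intro hm
      apply p.2
      have : p.1.asIdeal = IsLocalRing.maximalIdeal A := IsLocalRing.eq_maximalIdeal hm
      exact PrimeSpectrum.ext this
    have hnf : ¬ IsField (A ⧸ p.1.asIdeal) := fun hF =>
      hpm (Ideal.Quotient.maximal_of_isField _ hF)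
    constructor
    · intro hcl
      refine hdim1 _ ?_ ?_
      · have hle1 : Ring.KrullDimLE 1 (A ⧸ p.1.asIdeal) := by
          rw [Ring.krullDimLE_one_iff_of_noZeroDivisors]
          intro I hI0 hIp
          have hq : (I.comap (Ideal.Quotient.mk p.1.asIdeal)).IsPrime := Ideal.comap_isPrime _ I
          have hle : p.1.asIdeal ≤ I.comap (Ideal.Quotient.mk p.1.asIdeal) := by
            intro a ha
            rw [Ideal.mem_comap, Ideal.Quotient.eq_zero_iff_mem.2 ha]
            exact zero_mem I
          have hmapcomap : (I.comap (Ideal.Quotient.mk p.1.asIdeal)).map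
              (Ideal.Quotient.mk p.1.asIdeal) = I := Ideal.map_comap_of_surjective _ hsurj I
          by_cases hqm : (⟨_, hq⟩ : PrimeSpectrum A) = IsLocalRing.closedPoint A
          · have hqmax : (I.comap (Ideal.Quotient.mk p.1.asIdeal)).IsMaximal := by
              have := congrArg PrimeSpectrum.asIdeal hqm
              show Ideal.IsMaximal (PrimeSpectrum.asIdeal ⟨_, hq⟩)
              rw [this]
              exact IsLocalRing.maximalIdeal.isMaximal A
            rw [← hmapcomap]
            exact Ideal.IsMaximal.map_of_surjective_of_ker_le hsurj (by rw [hker]; exact hle)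
          · exfalso
            apply hI0
            have hmemcl : (⟨⟨_, hq⟩, hqm⟩ : ↥({IsLocalRing.closedPoint A}ᶜ : Set (PrimeSpectrum A))) ∈
                closure ({p} : Set ↥({IsLocalRing.closedPoint A}ᶜ : Set (PrimeSpectrum A))) := by
              rw [closure_subtype, Set.image_singleton, ← specializes_iff_mem_closure,
                ← PrimeSpectrum.le_iff_specializes]
              exact hle
            rw [hcl.closure_eq] at hmemcl
            have h2 : I.comap (Ideal.Quotient.mk p.1.asIdeal) = p.1.asIdeal :=
              congrArg (fun x : ↥({IsLocalRing.closedPoint A}ᶜ : Set (PrimeSpectrum A)) =>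
                x.1.asIdeal) hmemcl
            rw [← hmapcomap, h2, Ideal.map_quotient_self]
        exact (Ring.krullDimLE_iff.1 hle1)
      · intro h0
        have : Ring.KrullDimLE 0 (A ⧸ p.1.asIdeal) := (Ring.krullDimLE_iff).2 (by exact_mod_cast h0)
        exact hnf Ring.KrullDimLE.isField_of_isDomain
    · intro hdim
      have hle1 : Ring.KrullDimLE 1 (A ⧸ p.1.asIdeal) := Ring.krullDimLE_iff.2 (by rw [hdim]; rfl)
      rw [← closure_eq_iff_isClosed]
      refine subset_antisymm ?_ subset_closure
      intro q hq
      rw [closure_subtype, Set.image_singleton, ← specializes_iff_mem_closure,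
        ← PrimeSpectrum.le_iff_specializes] at hq
      by_contra hne
      have hne' : q.1.asIdeal ≠ p.1.asIdeal := fun h => hne (Subtype.ext (PrimeSpectrum.ext h))
      have hcm : (q.1.asIdeal.map (Ideal.Quotient.mk p.1.asIdeal)).comap
          (Ideal.Quotient.mk p.1.asIdeal) = q.1.asIdeal := by
        rw [Ideal.comap_map_of_surjective _ hsurj, ← RingHom.ker_eq_comap_bot, hker]
        exact sup_eq_left.2 hq
      have hprime : (q.1.asIdeal.map (Ideal.Quotient.mk p.1.asIdeal)).IsPrime :=
        Ideal.map_isPrime_of_surjective hsurj (by rw [hker]; exact hq)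
      have hne0 : q.1.asIdeal.map (Ideal.Quotient.mk p.1.asIdeal) ≠ ⊥ := by
        intro h
        have := congrArg (Ideal.comap (Ideal.Quotient.mk p.1.asIdeal)) h
        rw [hcm, ← RingHom.ker_eq_comap_bot, hker] at this
        exact hne' this
      have hmax := hprime.isMaximal_of_ne_bot hne0
      have hqmax : q.1.asIdeal.IsMaximal := by
        rw [← hcm]
        exact Ideal.comap_isMaximal_of_surjective _ hsurj
      apply q.2
      exact PrimeSpectrum.ext (IsLocalRing.eq_maximalIdeal hqmax)

end Groth.Agent.S3433
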