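import Groth.Statements.S3435
import Mathlib

set_option linter.style.haveILetI false

set_option autoImplicit false
universe u
open EGA41

namespace Groth.Agent.S3435

open TensorProduct in
/-- Let Λ → A → B → C be ring homomorphisms. The homomorphism Ω_{B/Λ} ⊗_B C → Ω_{B/A} ⊗_B C maps the
imperfection module Υ_{C/B/Λ} (the kernel of Ω_{B/Λ} ⊗_B C → Ω_{C/Λ}) onto the imperfection module
Υ_{C/B/A} (the kernel of Ω_{B/A} ⊗_B C → Ω_{C/A}): every element of Υ_{C/B/A} is the image of some
element of Υ_{C/B/Λ}. -/
theorem result (Λ A B C : Type u) [CommRing Λ] [CommRing A] [CommRing B] [CommRing C]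
    [Algebra Λ A] [Algebra Λ B] [Algebra Λ C] [Algebra A B] [Algebra A C] [Algebra B C]
    [IsScalarTower Λ A B] [IsScalarTower Λ A C] [IsScalarTower Λ B C] [IsScalarTower A B C] :
    ∀ ω ∈ EGA41.imperfection A B C, ∃ η ∈ EGA41.imperfection Λ B C,
      (KaehlerDifferential.map Λ A B B).baseChange C η = ω := by
  intro ω hω
  have hω' : KaehlerDifferential.mapBaseChange A B C ω = 0 := hω
  have hfsurj : Function.Surjective ((KaehlerDifferential.map Λ A B B).baseChange C) :=
    LinearMap.lTensor_surjective C (KaehlerDifferential.map_surjective Λ A B)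
  obtain ⟨η₀, hη₀⟩ := hfsurj ω
  -- compatibility of the various maps on Kähler differentials
  have key1 : ((KaehlerDifferential.map Λ A C C).restrictScalars B) ∘ₗ
      (KaehlerDifferential.map Λ Λ B C) =
      (KaehlerDifferential.map A A B C) ∘ₗ (KaehlerDifferential.map Λ A B B) := by
    apply Derivation.liftKaehlerDifferential_unique
    ext b
    simp [KaehlerDifferential.map_D]
  have key2 : ((KaehlerDifferential.map Λ Λ B C).restrictScalars A) ∘ₗ
      (KaehlerDifferential.map Λ Λ A B) = KaehlerDifferential.map Λ Λ A C := by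
    apply Derivation.liftKaehlerDifferential_unique
    ext a
    simp [KaehlerDifferential.map_D, ← IsScalarTower.algebraMap_apply]
  have key3 : ((KaehlerDifferential.map Λ A B B).restrictScalars A) ∘ₗ
      (KaehlerDifferential.map Λ Λ A B) = 0 := by
    apply Derivation.liftKaehlerDifferential_unique
    ext a
    simp [KaehlerDifferential.map_D]
  have hcomm : ∀ x : C ⊗[B] Ω[B⁄Λ],
      KaehlerDifferential.map Λ A C C (KaehlerDifferential.mapBaseChange Λ B C x) =
      KaehlerDifferential.mapBaseChange A B C
        ((KaehlerDifferential.map Λ A B B).baseChange C x) := by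
    intro x
    induction x using TensorProduct.induction_on with
    | zero => simp only [map_zero]
    | add x y hx hy => simp only [map_add, hx, hy]
    | tmul c m =>
      rw [KaehlerDifferential.mapBaseChange_tmul, LinearMap.baseChange_tmul,
        KaehlerDifferential.mapBaseChange_tmul, map_smul]
      congr 1
      exact LinearMap.congr_fun key1 m
  let k : C ⊗[A] Ω[A⁄Λ] →ₗ[C] C ⊗[B] Ω[B⁄Λ] :=
    LinearMap.liftBaseChange C (((TensorProduct.mk B C Ω[B⁄Λ] 1).restrictScalars A) ∘ₗ
      (KaehlerDifferential.map Λ Λ A B))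
  have hk : ∀ (c : C) (m : Ω[A⁄Λ]),
      k (c ⊗ₜ[A] m) = c • ((1 : C) ⊗ₜ[B] KaehlerDifferential.map Λ Λ A B m) := by
    intro c m
    simp only [k, LinearMap.liftBaseChange_tmul]
    rfl
  have hk1 : ∀ z, KaehlerDifferential.mapBaseChange Λ B C (k z) =
      KaehlerDifferential.mapBaseChange Λ A C z := by
    intro z
    induction z using TensorProduct.induction_on with
    | zero => simp only [map_zero]
    | add x y hx hy => simp only [map_add, hx, hy]
    | tmul c m =>
      rw [hk, map_smul, KaehlerDifferential.mapBaseChange_tmul,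
        KaehlerDifferential.mapBaseChange_tmul, one_smul]
      congr 1
      exact LinearMap.congr_fun key2 m
  have hk2 : ∀ z, (KaehlerDifferential.map Λ A B B).baseChange C (k z) = 0 := by
    intro z
    induction z using TensorProduct.induction_on with
    | zero => simp only [map_zero]
    | add x y hx hy => simp only [map_add, hx, hy, add_zero]
    | tmul c m =>
      rw [hk, map_smul, LinearMap.baseChange_tmul]
      have : KaehlerDifferential.map Λ A B B (KaehlerDifferential.map Λ Λ A B m) = 0 :=
        LinearMap.congr_fun key3 m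
      rw [this, TensorProduct.tmul_zero, smul_zero]
  have h0 : KaehlerDifferential.map Λ A C C (KaehlerDifferential.mapBaseChange Λ B C η₀) = 0 := by
    rw [hcomm, hη₀, hω']
  obtain ⟨ζ, hζ⟩ := (KaehlerDifferential.exact_mapBaseChange_map Λ A C _).mp h0
  refine ⟨η₀ - k ζ, ?_, ?_⟩
  · show KaehlerDifferential.mapBaseChange Λ B C (η₀ - k ζ) = 0
    rw [map_sub, hk1, hζ, sub_self]
  · rw [map_sub, hk2, sub_zero, hη₀]

end Groth.Agent.S3435
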