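import Mathlib
import Groth.Agent.H11.StalkSmooth
import Groth.Statements.S3436

set_option autoImplicit false
open CategoryTheory AlgebraicGeometry
universe u
open EGA42

namespace Groth.Agent.S3436

/-- Let X and Y be locally Noetherian schemes, f : X ⟶ Y locally of finite type, x a point of X and y =
f x; give O_{X,x} the O_{Y,y}-algebra structure coming from f. Then O_{X,x} is formally smooth over
O_{Y,y} for the adic topologies of the two local rings (topologies defined by the maximal ideals) if
and only if it is formally smooth for the discrete topologies. -/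
theorem result {X Y : Scheme.{u}} [IsLocallyNoetherian X] [IsLocallyNoetherian Y]
    (f : X ⟶ Y) [LocallyOfFiniteType f] (x : X) :
    letI : Algebra (Y.presheaf.stalk (f.base x)) (X.presheaf.stalk x) := (f.stalkMap x).hom.toAlgebra
    EGA41.IsFormallySmoothAdic (Y.presheaf.stalk (f.base x)) (IsLocalRing.maximalIdeal (Y.presheaf.stalk (f.base x)))
        (X.presheaf.stalk x) (IsLocalRing.maximalIdeal (X.presheaf.stalk x)) ↔
      Algebra.FormallySmooth (Y.presheaf.stalk (f.base x)) (X.presheaf.stalk x) := by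

  letI algst : Algebra (Y.presheaf.stalk (f.base x)) (X.presheaf.stalk x) :=
    (f.stalkMap x).hom.toAlgebra
  change EGA41.IsFormallySmoothAdic _ _ _ _ ↔ Algebra.FormallySmooth _ _
  constructor
  · intro h
    obtain ⟨V, hV, hyV, -⟩ := TopologicalSpace.Opens.isBasis_iff_nbhd.mp Y.isBasis_affineOpens
      (TopologicalSpace.Opens.mem_top (f.base x))
    obtain ⟨U, hU, hxU, hUV⟩ := TopologicalSpace.Opens.isBasis_iff_nbhd.mp X.isBasis_affineOpens
      (show x ∈ f ⁻¹ᵁ V from hyV)
    have hV' : IsAffineOpen V := hV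
    have hU' : IsAffineOpen U := hU
    letI algAB : Algebra Γ(Y, V) Γ(X, U) := (f.appLE V U hUV).hom.toAlgebra
    letI algAAp : Algebra Γ(Y, V) (Y.presheaf.stalk (f.base x)) :=
      (Y.presheaf.germ V (f.base x) hyV).hom.toAlgebra
    letI algBBq : Algebra Γ(X, U) (X.presheaf.stalk x) := (X.presheaf.germ U x hxU).hom.toAlgebra
    letI algABq : Algebra Γ(Y, V) (X.presheaf.stalk x) :=
      ((algebraMap Γ(X, U) (X.presheaf.stalk x)).comp (algebraMap Γ(Y, V) Γ(X, U))).toAlgebra
    haveI tow1 : IsScalarTower Γ(Y, V) Γ(X, U) (X.presheaf.stalk x) :=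
      IsScalarTower.of_algebraMap_eq (fun _ => rfl)
    haveI tow2 : IsScalarTower Γ(Y, V) (Y.presheaf.stalk (f.base x)) (X.presheaf.stalk x) :=
      IsScalarTower.of_algebraMap_eq (fun a => by
        change (X.presheaf.germ U x hxU).hom ((f.appLE V U hUV).hom a) =
          (f.stalkMap x).hom ((Y.presheaf.germ V (f.base x) hyV).hom a)
        simp only [Scheme.Hom.germ_stalkMap_apply, Scheme.Hom.appLE,
          homOfLE_leOfHom, CommRingCat.hom_comp, RingHom.coe_comp, Function.comp_apply,
          X.presheaf.germ_res_apply])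
    haveI locAp := hV'.isLocalization_stalk ⟨f.base x, hyV⟩
    haveI locBq := hU'.isLocalization_stalk ⟨x, hxU⟩
    haveI : IsNoetherianRing Γ(Y, V) := IsLocallyNoetherian.component_noetherian ⟨V, hV⟩
    haveI : Algebra.FiniteType Γ(Y, V) Γ(X, U) :=
      HasRingHomProperty.appLE (P := @LocallyOfFiniteType) f inferInstance ⟨V, hV⟩ ⟨U, hU⟩ hUV
    haveI : IsLocalHom (algebraMap (Y.presheaf.stalk (f.base x)) (X.presheaf.stalk x)) :=
      inferInstanceAs (IsLocalHom (f.stalkMap x).hom)
    exact Groth.Agent.H11.StalkSmooth.formallySmooth_of_adic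
      (hV'.primeIdealOf ⟨f.base x, hyV⟩).asIdeal (hU'.primeIdealOf ⟨x, hxU⟩).asIdeal
      (Y.presheaf.stalk (f.base x)) (X.presheaf.stalk x) h
  · intro h
    exact Groth.Agent.H11.StalkSmooth.formallySmoothAdic_of_formallySmooth _ _

end Groth.Agent.S3436
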