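import Groth.Statements.S3443
import Mathlib
import Groth.Agent.S12442

set_option autoImplicit false
open CategoryTheory AlgebraicGeometry
universe u
open EGA43

namespace Groth.Agent.S3443

theorem lc_compl {T : Type*} [TopologicalSpace T] {s : Set T}
    (hs : Topology.IsLocallyConstructible s) : Topology.IsLocallyConstructible sᶜ := by
  intro x
  obtain ⟨U, hxU, hU, hsU⟩ := hs x
  exact ⟨U, hxU, hU, hsU.compl⟩

open AlgebraicGeometry CategoryTheory Limits in
theorem fibre_surj_iff {X Y S : Scheme.{u}} (f : X ⟶ Y) (g : Y ⟶ S) (s : S) :
    Function.Surjective ⇑(pullback.lift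
        (pullback.fst (f ≫ g) (S.fromSpecResidueField s) ≫ f)
        (pullback.snd (f ≫ g) (S.fromSpecResidueField s))
        ((Category.assoc _ _ _).trans pullback.condition) :
      pullback (f ≫ g) (S.fromSpecResidueField s) ⟶ pullback g (S.fromSpecResidueField s)) ↔
      ∀ y : Y, g y = s → y ∈ Set.range f := by
  obtain ⟨σ, hσ⟩ : ∃ σ : Spec (S.residueField s) ⟶ S, σ = S.fromSpecResidueField s := ⟨_, rfl⟩
  obtain ⟨fs, hfs1, hfs2⟩ : ∃ fs : pullback (f ≫ g) (S.fromSpecResidueField s) ⟶
      pullback g (S.fromSpecResidueField s),
      fs ≫ pullback.fst g (S.fromSpecResidueField s) =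
        pullback.fst (f ≫ g) (S.fromSpecResidueField s) ≫ f ∧
      fs ≫ pullback.snd g (S.fromSpecResidueField s) =
        pullback.snd (f ≫ g) (S.fromSpecResidueField s) ∧
      fs = pullback.lift
        (pullback.fst (f ≫ g) (S.fromSpecResidueField s) ≫ f)
        (pullback.snd (f ≫ g) (S.fromSpecResidueField s))
        ((Category.assoc _ _ _).trans pullback.condition) :=
    ⟨_, pullback.lift_fst _ _ _, pullback.lift_snd _ _ _, rfl⟩
  obtain ⟨hfs2, hfs3⟩ := hfs2
  rw [← hfs3]
  have hmem : ∀ y' : ↥(pullback g (S.fromSpecResidueField s)),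
      g (pullback.fst g (S.fromSpecResidueField s) y') = s := by
    intro y'
    have : pullback.fst g (S.fromSpecResidueField s) y' ∈ Set.range (g.fiberι s) := ⟨y', rfl⟩
    rw [Scheme.Hom.range_fiberι] at this
    exact this
  constructor
  · intro hsurj y hy
    have : y ∈ Set.range (g.fiberι s) := by
      rw [Scheme.Hom.range_fiberι]; exact hy
    obtain ⟨y', hy'⟩ : ∃ y' : ↥(pullback g (S.fromSpecResidueField s)),
        pullback.fst g (S.fromSpecResidueField s) y' = y := this
    obtain ⟨x', hx'⟩ := hsurj y'
    refine ⟨pullback.fst (f ≫ g) (S.fromSpecResidueField s) x', ?_⟩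
    rw [← Scheme.Hom.comp_apply, ← hfs1, Scheme.Hom.comp_apply, hx', hy']
  · intro H y'
    obtain ⟨x, hx⟩ := H (pullback.fst g (S.fromSpecResidueField s) y') (hmem y')
    obtain ⟨z, hz1, hz2⟩ := Scheme.Pullback.exists_preimage_pullback (f := f)
      (g := pullback.fst g (S.fromSpecResidueField s)) x y' hx
    obtain ⟨r, hr1, hr2⟩ : ∃ r : pullback f (pullback.fst g (S.fromSpecResidueField s)) ⟶
        pullback (f ≫ g) (S.fromSpecResidueField s),
        r ≫ pullback.fst (f ≫ g) (S.fromSpecResidueField s) =
          pullback.fst f (pullback.fst g (S.fromSpecResidueField s)) ∧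
        r ≫ pullback.snd (f ≫ g) (S.fromSpecResidueField s) =
          pullback.snd f (pullback.fst g (S.fromSpecResidueField s)) ≫
            pullback.snd g (S.fromSpecResidueField s) :=
      ⟨pullback.lift (pullback.fst f (pullback.fst g (S.fromSpecResidueField s)))
        (pullback.snd f (pullback.fst g (S.fromSpecResidueField s)) ≫
            pullback.snd g (S.fromSpecResidueField s)) (by
          simp only [Category.assoc]
          rw [← Category.assoc, pullback.condition, Category.assoc, pullback.condition]),
        pullback.lift_fst _ _ _, pullback.lift_snd _ _ _⟩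
    have key : r ≫ fs = pullback.snd f (pullback.fst g (S.fromSpecResidueField s)) := by
      apply pullback.hom_ext
      · rw [Category.assoc, hfs1, ← Category.assoc, hr1, pullback.condition]
      · rw [Category.assoc, hfs2, hr2]
    exact ⟨r z, by rw [← Scheme.Hom.comp_apply, key, hz2]⟩

open CategoryTheory.Limits in
/-- Let g : Y ⟶ S and f : X ⟶ Y be such that X and Y are of finite presentation over S (locally of
finite presentation, quasi-compact and quasi-separated). For each point s of S let f_s be the
induced morphism from the fibre of f ≫ g over s to the fibre of g over s. Then the set of s for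
which f_s is surjective is locally constructible in S. -/
theorem result {X Y S : Scheme.{u}} (f : X ⟶ Y) (g : Y ⟶ S)
    [LocallyOfFinitePresentation g] [QuasiCompact g] [QuasiSeparated g]
    [LocallyOfFinitePresentation (f ≫ g)] [QuasiCompact (f ≫ g)] [QuasiSeparated (f ≫ g)] :
    Topology.IsLocallyConstructible {s : S |
      Function.Surjective (pullback.lift (pullback.fst (f ≫ g) (S.fromSpecResidueField s) ≫ f) (pullback.snd (f ≫ g) (S.fromSpecResidueField s))
          ((Category.assoc _ _ _).trans pullback.condition) :
        pullback (f ≫ g) (S.fromSpecResidueField s) ⟶ pullback g (S.fromSpecResidueField s)).base} := by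
  haveI : LocallyOfFinitePresentation f := Groth.Agent.S12442.result f g
  haveI : QuasiCompact f := QuasiCompact.of_comp f g
  have h1 : Topology.IsLocallyConstructible (Set.range f) := by
    have := f.isLocallyConstructible_image Topology.IsLocallyConstructible.univ
    rwa [Set.image_univ] at this
  have h2 := g.isLocallyConstructible_image (lc_compl h1)
  have h3 := lc_compl h2
  convert h3 using 1
  ext s
  simp only [Set.mem_setOf_eq, Set.mem_compl_iff, Set.mem_image, not_exists, not_and]
  refine (fibre_surj_iff f g s).trans ?_
  constructor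
  · intro H y hy hgy
    exact hy (H y hgy)
  · intro H y hgy
    by_contra hy
    exact H y hy hgy

end Groth.Agent.S3443
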