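import Groth.Statements.S3444
import Mathlib
import Groth.Agent.S12442
import Groth.Agent.S2590
import Groth.Agent.S3443

set_option autoImplicit false
open CategoryTheory AlgebraicGeometry
universe u
open EGA43

namespace Groth.Agent.S3444

open AlgebraicGeometry CategoryTheory Limits in
theorem fibre_ui_iff {X Y S : Scheme.{u}} (f : X ⟶ Y) (g : Y ⟶ S) (s : S)
    (h : pullback f f ⟶ S) (hh : h = pullback.fst f f ≫ f ≫ g) :
    UniversallyInjective (pullback.lift
        (pullback.fst (f ≫ g) (S.fromSpecResidueField s) ≫ f)
        (pullback.snd (f ≫ g) (S.fromSpecResidueField s))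
        ((Category.assoc _ _ _).trans pullback.condition) :
      pullback (f ≫ g) (S.fromSpecResidueField s) ⟶ pullback g (S.fromSpecResidueField s)) ↔
      ∀ p : ↥(pullback f f), h p = s → p ∈ Set.range (pullback.diagonal f) := by
  obtain ⟨fs, hfs1, hfs2, hfs3⟩ : ∃ fs : pullback (f ≫ g) (S.fromSpecResidueField s) ⟶
      pullback g (S.fromSpecResidueField s),
      fs ≫ pullback.fst g (S.fromSpecResidueField s) =
        pullback.fst (f ≫ g) (S.fromSpecResidueField s) ≫ f ∧
      fs ≫ pullback.snd g (S.fromSpecResidueField s) =
        pullback.snd (f ≫ g) (S.fromSpecResidueField s) ∧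
      fs = pullback.lift
        (pullback.fst (f ≫ g) (S.fromSpecResidueField s) ≫ f)
        (pullback.snd (f ≫ g) (S.fromSpecResidueField s))
        ((Category.assoc _ _ _).trans pullback.condition) :=
    ⟨_, pullback.lift_fst _ _ _, pullback.lift_snd _ _ _, rfl⟩
  rw [← hfs3]
  have hpb : IsPullback (pullback.fst (f ≫ g) (S.fromSpecResidueField s)) fs f
      (pullback.fst g (S.fromSpecResidueField s)) :=
    IsPullback.of_bot (by rw [hfs2]; exact IsPullback.of_hasPullback _ _) hfs1.symm
      (IsPullback.of_hasPullback g (S.fromSpecResidueField s))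
  obtain ⟨m, hm1, hm2⟩ : ∃ m : pullback fs fs ⟶ pullback f f,
      m ≫ pullback.fst f f =
        pullback.fst fs fs ≫ pullback.fst (f ≫ g) (S.fromSpecResidueField s) ∧
      m ≫ pullback.snd f f =
        pullback.snd fs fs ≫ pullback.fst (f ≫ g) (S.fromSpecResidueField s) :=
    ⟨pullback.lift (pullback.fst fs fs ≫ pullback.fst (f ≫ g) (S.fromSpecResidueField s))
      (pullback.snd fs fs ≫ pullback.fst (f ≫ g) (S.fromSpecResidueField s)) (by
        simp only [Category.assoc, ← hfs1]
        exact pullback.condition_assoc _), pullback.lift_fst _ _ _, pullback.lift_snd _ _ _⟩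
  have e1 : pullback.diagonal fs ≫ m =
      pullback.fst (f ≫ g) (S.fromSpecResidueField s) ≫ pullback.diagonal f := by
    apply pullback.hom_ext
    · rw [Category.assoc, hm1, ← Category.assoc, pullback.diagonal_fst, Category.id_comp,
        Category.assoc, pullback.diagonal_fst, Category.comp_id]
    · rw [Category.assoc, hm2, ← Category.assoc, pullback.diagonal_snd, Category.id_comp,
        Category.assoc, pullback.diagonal_snd, Category.comp_id]
  rw [UniversallyInjective.iff_diagonal]
  constructor
  · intro hsurj p hp
    have hp' : p ∈ Set.range (h.fiberι s) := by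
      rw [Scheme.Hom.range_fiberι]; exact hp
    obtain ⟨p', hp'⟩ : ∃ p' : ↥(pullback h (S.fromSpecResidueField s)),
        pullback.fst h (S.fromSpecResidueField s) p' = p := hp'
    have hcond : pullback.fst h (S.fromSpecResidueField s) ≫ h =
        pullback.snd h (S.fromSpecResidueField s) ≫ S.fromSpecResidueField s :=
      pullback.condition
    obtain ⟨n1, hn11, hn12⟩ : ∃ n1 : pullback h (S.fromSpecResidueField s) ⟶
        pullback (f ≫ g) (S.fromSpecResidueField s),
        n1 ≫ pullback.fst (f ≫ g) (S.fromSpecResidueField s) =
          pullback.fst h (S.fromSpecResidueField s) ≫ pullback.fst f f ∧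
        n1 ≫ pullback.snd (f ≫ g) (S.fromSpecResidueField s) =
          pullback.snd h (S.fromSpecResidueField s) :=
      ⟨pullback.lift (pullback.fst h (S.fromSpecResidueField s) ≫ pullback.fst f f)
        (pullback.snd h (S.fromSpecResidueField s)) (by
          rw [← hcond, hh]; simp only [Category.assoc]),
        pullback.lift_fst _ _ _, pullback.lift_snd _ _ _⟩
    obtain ⟨n2, hn21, hn22⟩ : ∃ n2 : pullback h (S.fromSpecResidueField s) ⟶
        pullback (f ≫ g) (S.fromSpecResidueField s),
        n2 ≫ pullback.fst (f ≫ g) (S.fromSpecResidueField s) =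
          pullback.fst h (S.fromSpecResidueField s) ≫ pullback.snd f f ∧
        n2 ≫ pullback.snd (f ≫ g) (S.fromSpecResidueField s) =
          pullback.snd h (S.fromSpecResidueField s) :=
      ⟨pullback.lift (pullback.fst h (S.fromSpecResidueField s) ≫ pullback.snd f f)
        (pullback.snd h (S.fromSpecResidueField s)) (by
          rw [← hcond, hh]; simp only [Category.assoc]
          rw [pullback.condition_assoc]),
        pullback.lift_fst _ _ _, pullback.lift_snd _ _ _⟩
    have hn : n1 ≫ fs = n2 ≫ fs := by
      apply pullback.hom_ext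
      · rw [Category.assoc, Category.assoc, hfs1, ← Category.assoc, ← Category.assoc, hn11, hn21,
          Category.assoc, Category.assoc, pullback.condition]
      · rw [Category.assoc, Category.assoc, hfs2, hn12, hn22]
    obtain ⟨n, hn1, hn2⟩ : ∃ n : pullback h (S.fromSpecResidueField s) ⟶ pullback fs fs,
        n ≫ pullback.fst fs fs = n1 ∧ n ≫ pullback.snd fs fs = n2 :=
      ⟨pullback.lift n1 n2 hn, pullback.lift_fst _ _ _, pullback.lift_snd _ _ _⟩
    have e2 : n ≫ m = pullback.fst h (S.fromSpecResidueField s) := by
      apply pullback.hom_ext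
      · rw [Category.assoc, hm1, ← Category.assoc, hn1, hn11]
      · rw [Category.assoc, hm2, ← Category.assoc, hn2, hn21]
    obtain ⟨x', hx'⟩ := hsurj.surj (n p')
    refine ⟨pullback.fst (f ≫ g) (S.fromSpecResidueField s) x', ?_⟩
    rw [← Scheme.Hom.comp_apply, ← e1, Scheme.Hom.comp_apply, hx', ← Scheme.Hom.comp_apply, e2,
      hp']
  · intro H
    refine Groth.Agent.S2590.stage f fs (pullback.fst (f ≫ g) (S.fromSpecResidueField s))
      (pullback.fst g (S.fromSpecResidueField s)) hpb m hm1 hm2 ?_
    intro w
    apply H
    have e3 : m ≫ h = (pullback.fst fs fs ≫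
        pullback.snd (f ≫ g) (S.fromSpecResidueField s)) ≫ S.fromSpecResidueField s := by
      rw [hh, ← Category.assoc m, hm1]
      simp only [Category.assoc]
      rw [← pullback.condition (f := f ≫ g) (g := S.fromSpecResidueField s)]
    have : h (m w) ∈ Set.range (S.fromSpecResidueField s) := by
      rw [← Scheme.Hom.comp_apply, e3, Scheme.Hom.comp_apply]
      exact ⟨_, rfl⟩
    rw [Scheme.range_fromSpecResidueField] at this
    exact this

open CategoryTheory.Limits in
/-- Let g : Y ⟶ S and f : X ⟶ Y be such that X and Y are of finite presentation over S (locally of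
finite presentation, quasi-compact and quasi-separated). For each point s of S let f_s be the
induced morphism from the fibre of f ≫ g over s to the fibre of g over s. Then the set of s for
which f_s is radicial (universally injective) is locally constructible in S. -/
theorem result {X Y S : Scheme.{u}} (f : X ⟶ Y) (g : Y ⟶ S)
    [LocallyOfFinitePresentation g] [QuasiCompact g] [QuasiSeparated g]
    [LocallyOfFinitePresentation (f ≫ g)] [QuasiCompact (f ≫ g)] [QuasiSeparated (f ≫ g)] :
    Topology.IsLocallyConstructible {s : S |
      UniversallyInjective (pullback.lift (pullback.fst (f ≫ g) (S.fromSpecResidueField s) ≫ f) (pullback.snd (f ≫ g) (S.fromSpecResidueField s))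
          ((Category.assoc _ _ _).trans pullback.condition) :
        pullback (f ≫ g) (S.fromSpecResidueField s) ⟶ pullback g (S.fromSpecResidueField s))} := by
  haveI : LocallyOfFinitePresentation f := Groth.Agent.S12442.result f g
  haveI : QuasiCompact f := QuasiCompact.of_comp f g
  haveI : QuasiSeparated f := QuasiSeparated.of_comp f g
  haveI : LocallyOfFinitePresentation (pullback.diagonal f ≫ pullback.fst f f) := by
    rw [pullback.diagonal_fst]; infer_instance
  haveI : LocallyOfFinitePresentation (pullback.diagonal f) :=
    Groth.Agent.S12442.result (pullback.diagonal f) (pullback.fst f f)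
  have h1 : Topology.IsLocallyConstructible (Set.range (pullback.diagonal f)) := by
    have := (pullback.diagonal f).isLocallyConstructible_image
      Topology.IsLocallyConstructible.univ
    rwa [Set.image_univ] at this
  have h2 := (pullback.fst f f ≫ f ≫ g).isLocallyConstructible_image
    (Groth.Agent.S3443.lc_compl h1)
  have h3 := Groth.Agent.S3443.lc_compl h2
  convert h3 using 1
  ext s
  simp only [Set.mem_setOf_eq, Set.mem_compl_iff, Set.mem_image, not_exists, not_and]
  refine (fibre_ui_iff f g s (pullback.fst f f ≫ f ≫ g) rfl).trans ?_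
  constructor
  · intro H y hy hgy
    exact hy (H y hgy)
  · intro H y hgy
    by_contra hy
    exact H y hy hgy

end Groth.Agent.S3444
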