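import Mathlib
import Groth.Statements.S3460
-- import your own Groth.Agent.* helpers here

set_option autoImplicit false
open CategoryTheory AlgebraicGeometry
universe u
open EGA43

namespace Groth.Agent.S3460


theorem isIso_ι_of_eq_top {X : Scheme.{u}} (V : X.Opens) (h : V = ⊤) : IsIso V.ι := by
  subst h
  rw [← Scheme.topIso_hom]
  infer_instance

theorem proper_lift_of_cover {X Y : Scheme.{u}} (U : Y.Opens) (g : X ⟶ U.toScheme) {ι : Type*}
    (V : ι → Y.Opens) (hcov : U ≤ ⨆ i, V i) (h : ∀ i, IsProper ((g ≫ U.ι) ∣_ V i)) :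
    IsProper g := by
  rw [IsZariskiLocalAtTarget.iff_of_iSup_eq_top (P := @IsProper) (fun i => U.ι ⁻¹ᵁ V i)]
  · intro i
    have hi := h i
    rw [morphismRestrict_comp] at hi
    exact @IsProper.of_comp _ _ _ (g ∣_ (U.ι ⁻¹ᵁ V i)) (U.ι ∣_ V i) hi inferInstance
  · apply top_le_iff.mp
    intro y _
    obtain ⟨i, hi⟩ := TopologicalSpace.Opens.mem_iSup.mp (hcov y.2)
    exact TopologicalSpace.Opens.mem_iSup.mpr ⟨i, hi⟩

/-- Let Y be locally Noetherian and f : X ⟶ Y of finite type. Then there exist a scheme Z, a proper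
morphism g : X ⟶ Z and an immersion h : Z ⟶ Y with f = g ≫ h if and only if f is proper at every
point of f(X), i.e. every point of f(X) has an open neighbourhood U in Y over which the restriction
of f is proper. -/
theorem result {X Y : Scheme.{u}} [IsLocallyNoetherian Y]
    (f : X ⟶ Y) [LocallyOfFiniteType f] [QuasiCompact f] :
    (∃ (Z : Scheme.{u}) (g : X ⟶ Z) (h : Z ⟶ Y), IsProper g ∧ IsImmersion h ∧ g ≫ h = f) ↔
      ∀ x : X, ∃ U : Y.Opens, f.base x ∈ U ∧ IsProper (f ∣_ U) := by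
  constructor
  · rintro ⟨Z, g, h, hg, hh, rfl⟩ x
    have hmem : ∀ x : X, (g ≫ h).base x ∈ h.coborderRange := fun x =>
      subset_coborder ⟨g.base x, rfl⟩
    refine ⟨h.coborderRange, hmem x, ?_⟩
    have e : (g ≫ h) ⁻¹ᵁ h.coborderRange = ⊤ := eq_top_iff.mpr fun x _ => hmem x
    have key : (g ≫ h) ∣_ h.coborderRange =
        ((g ≫ h) ⁻¹ᵁ h.coborderRange).ι ≫ g ≫ h.liftCoborder := by
      rw [← cancel_mono h.coborderRange.ι, morphismRestrict_ι, Category.assoc, Category.assoc,
        h.liftCoborder_ι]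
    rw [key]
    haveI : IsIso ((g ≫ h) ⁻¹ᵁ h.coborderRange).ι := isIso_ι_of_eq_top _ e
    infer_instance
  · intro H
    choose V hV hP using H
    have hsub : Set.range f.base ⊆ ((⨆ x, V x : Y.Opens) : Set Y) := by
      rintro _ ⟨x, rfl⟩
      exact TopologicalSpace.Opens.mem_iSup.mpr ⟨x, hV x⟩
    have hsub' : Set.range f.base ⊆ Set.range (⨆ x, V x : Y.Opens).ι.base := by
      rw [Scheme.Opens.range_ι]; exact hsub
    refine ⟨(⨆ x, V x : Y.Opens).toScheme, IsOpenImmersion.lift (⨆ x, V x : Y.Opens).ι f hsub',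
      (⨆ x, V x : Y.Opens).ι, ?_, inferInstance, IsOpenImmersion.lift_fac _ _ _⟩
    refine proper_lift_of_cover _ _ V le_rfl fun x => ?_
    rw [IsOpenImmersion.lift_fac]
    exact hP x

end Groth.Agent.S3460
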