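import Groth.Statements.S3526
import Mathlib
import Mathlib
import Groth.Agent.H19.TorFirst
import Groth.Agent.H19.FiltLeftExact
import Groth.Agent.S3527

set_option autoImplicit false
universe u
open HTor

namespace Groth.Agent.S3526

open CategoryTheory CategoryTheory.Limits MonoidalCategory
open Groth.Agent.H19.TorFirst

section

variable {A : Type u} [CommRing A]

/-- the free presentation of a module, as a short exact sequence. -/
theorem exists_free_ses (M : ModuleCat.{u} A) :
    ∃ S : ShortComplex (ModuleCat.{u} A), S.ShortExact ∧ Module.Free A S.X₂ ∧ Nonempty (S.X₃ ≅ M) := by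
  let π : (M →₀ A) →ₗ[A] M := Finsupp.linearCombination A id
  have hπ : Function.Surjective π := Finsupp.linearCombination_surjective A Function.surjective_id
  refine ⟨ShortComplex.mk (ModuleCat.ofHom (X := ↥(LinearMap.ker π)) (Y := (M →₀ A))
    (LinearMap.ker π).subtype) (ModuleCat.ofHom (X := (M →₀ A)) (Y := M) π) ?_, ?_,
    ?_, ⟨Iso.refl _⟩⟩
  · apply ModuleCat.hom_ext
    apply LinearMap.ext
    intro x
    exact x.2
  · exact ModuleCat.shortComplex_shortExact _ (LinearMap.exact_subtype_ker_map π)
      (Submodule.injective_subtype _) hπ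
  · show Module.Free A (M →₀ A)
    infer_instance

theorem tor_zero_preserves (M : ModuleCat.{u} A) (J : Type u) [SmallCategory J] :
    PreservesColimitsOfShape J ((Tor (ModuleCat.{u} A) 0).obj M) := by
  haveI : PreservesColimitsOfShape J ((tensoringLeft (ModuleCat.{u} A)).obj M) :=
    (ihom.adjunction M).leftAdjoint_preservesColimits.preservesColimitsOfShape
  haveI : PreservesFiniteColimits ((tensoringLeft (ModuleCat.{u} A)).obj M) :=
    ⟨fun _ _ _ => (ihom.adjunction M).leftAdjoint_preservesColimits.preservesColimitsOfShape⟩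
  exact preservesColimitsOfShape_of_natIso
    (Functor.leftDerivedZeroIsoSelf ((tensoringLeft (ModuleCat.{u} A)).obj M)).symm

theorem tor_succ_preserves (p : ℕ) (J : Type u) [SmallCategory J] [IsFiltered J]
    (ih : ∀ M : ModuleCat.{u} A, PreservesColimitsOfShape J ((Tor (ModuleCat.{u} A) p).obj M))
    (M : ModuleCat.{u} A) :
    PreservesColimitsOfShape J ((Tor (ModuleCat.{u} A) (p + 1)).obj M) := by
  obtain ⟨S, hS, hfree, ⟨e⟩⟩ := exists_free_ses M
  haveI := ih S.X₁
  haveI := ih S.X₂
  have hz : ∀ N : ModuleCat.{u} A, IsZero (((Tor (ModuleCat.{u} A) (p + 1)).obj S.X₂).obj N) := by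
    intro N
    haveI : Module.Flat A S.X₂ := inferInstance
    haveI := (Groth.Agent.S3527.result A S.X₂ N (p + 1) (by omega)).1
    exact ModuleCat.isZero_of_subsingleton _
  have hδ : ∀ N, Function.Injective ((δNat S hS p).app N).hom := fun N =>
    (ModuleCat.mono_iff_injective _).1 ((exact₃ S hS N p).mono_g ((hz N).eq_of_src _ _))
  have hex : ∀ N, Function.Exact ((δNat S hS p).app N).hom
      (((Tor (ModuleCat.{u} A) p).map S.f).app N).hom := fun N =>
    (ShortComplex.ShortExact.moduleCat_exact_iff_function_exact _).1 (exact₁ S hS N p)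
  haveI := Groth.Agent.H19.FiltLeftExact.preserves (J := J) (δNat S hS p)
    ((Tor (ModuleCat.{u} A) p).map S.f) hδ hex
  exact preservesColimitsOfShape_of_natIso ((Tor (ModuleCat.{u} A) (p + 1)).mapIso e)

end

open CategoryTheory CategoryTheory.Limits in
/-- In the case of single modules, second variable: for an A-module M and p ≥ 0, the functor N ↦
Tor_p^A(M, N) preserves filtered colimits. (Tor is Mathlib's, left derived in the second variable.) -/
theorem result (A : Type u) [CommRing A] (p : ℕ) (M : ModuleCat.{u} A)
    (J : Type u) [SmallCategory J] [IsFiltered J] :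
    PreservesColimitsOfShape J ((CategoryTheory.Tor (ModuleCat.{u} A) p).obj M) := by
  induction p generalizing M with
  | zero => exact Groth.Agent.S3526.tor_zero_preserves M J
  | succ p ih => exact Groth.Agent.S3526.tor_succ_preserves p J ih M

end Groth.Agent.S3526
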