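import Groth.Statements.S3532
import Mathlib

set_option autoImplicit false
universe u
open HomAlg3

namespace Groth.Agent.S3532


section Helpers

open CategoryTheory

variable (F : ℕᵒᵖ ⥤ AddCommGrpCat.{u})

/-- transition map `A_k → A_p` -/
noncomputable def tr {p k : ℕ} (h : p ≤ k) : F.obj (Opposite.op k) →+ F.obj (Opposite.op p) :=
  (F.map (homOfLE h).op).hom

lemma tr_tr {p q k : ℕ} (h₁ : p ≤ q) (h₂ : q ≤ k) (x : F.obj (Opposite.op k)) :
    tr F h₁ (tr F h₂ x) = tr F (h₁.trans h₂) x := by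
  have : F.map (homOfLE (h₁.trans h₂)).op = F.map (homOfLE h₂).op ≫ F.map (homOfLE h₁).op := by
    rw [← F.map_comp]; rfl
  unfold tr
  rw [this]; rfl

lemma range_anti {p k k' : ℕ} (h : p ≤ k) (hk : k ≤ k') :
    (tr F (h.trans hk)).range ≤ (tr F h).range := by
  rintro x ⟨y, rfl⟩
  exact ⟨tr F hk y, tr_tr F h hk y⟩

def Stab (p : ℕ) : Prop :=
  ∃ k₀ : ℕ, ∃ h₀ : p ≤ k₀, ∀ (k : ℕ) (hk : k₀ ≤ k),
    (tr F (h₀.trans hk)).range = (tr F h₀).range

lemma ml_iff : (F ⋙ forget AddCommGrpCat).IsMittagLeffler ↔ ∀ p, Stab F p := by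
  constructor
  · intro h p
    obtain ⟨⟨k₀⟩, f, hf⟩ := h (Opposite.op p)
    have h₀ : p ≤ k₀ := leOfHom f.unop
    have hfe : f = (homOfLE h₀).op := Quiver.Hom.unop_inj (Subsingleton.elim _ _)
    subst hfe
    refine ⟨k₀, h₀, fun k hk => le_antisymm (range_anti F h₀ hk) ?_⟩
    rintro x ⟨y, rfl⟩
    obtain ⟨z, hz⟩ := hf (homOfLE (h₀.trans hk)).op ⟨y, rfl⟩
    exact ⟨z, hz⟩
  · intro h ⟨p⟩
    obtain ⟨k₀, h₀, hk⟩ := h p
    refine ⟨Opposite.op k₀, (homOfLE h₀).op, ?_⟩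
    rintro ⟨k'⟩ g x ⟨y, rfl⟩
    have hg : p ≤ k' := leOfHom g.unop
    have hge : g = (homOfLE hg).op := Quiver.Hom.unop_inj (Subsingleton.elim _ _)
    subst hge
    have h1 : tr F h₀ y ∈ (tr F (h₀.trans (le_max_right k' k₀))).range := by
      rw [hk _ (le_max_right k' k₀)]; exact ⟨y, rfl⟩
    obtain ⟨z, hz⟩ := range_anti F hg (le_max_left k' k₀) h1
    exact ⟨z, hz⟩

end Helpers


open CategoryTheory in
/-- Category of abelian groups, system indexed by the natural numbers: Let (A_k)_{k ≥ 0} be an inverse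
system of abelian groups. For p ≤ k write Im_k(A_p) for the image of A_k → A_p, and K_p for the
kernel of A_p → A_{p-1} (K_0 = A_0). Then (A_k) satisfies the Mittag-Leffler condition (for each p
the subgroups Im_k(A_p) are eventually constant in k) if and only if for each p the subgroups
Im_k(A_p) ∩ K_p are eventually constant in k. -/
theorem result (F : ℕᵒᵖ ⥤ AddCommGrpCat.{u}) :
    (F ⋙ forget AddCommGrpCat).IsMittagLeffler ↔
      ((∃ k₀ : ℕ, ∀ (k : ℕ) (hk : k₀ ≤ k),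
          (F.map (homOfLE (Nat.zero_le k)).op).hom.range = (F.map (homOfLE (Nat.zero_le k₀)).op).hom.range) ∧
        ∀ p : ℕ, ∃ k₀ : ℕ, ∃ h₀ : p + 1 ≤ k₀, ∀ (k : ℕ) (hk : k₀ ≤ k),
          (F.map (homOfLE (h₀.trans hk)).op).hom.range ⊓ (F.map (homOfLE (Nat.le_succ p)).op).hom.ker =
            (F.map (homOfLE h₀).op).hom.range ⊓ (F.map (homOfLE (Nat.le_succ p)).op).hom.ker) := by
  rw [ml_iff]
  constructor
  · intro h
    refine ⟨?_, fun p => ?_⟩
    · obtain ⟨k₀, h₀, hk⟩ := h 0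
      exact ⟨k₀, fun k hk' => hk k hk'⟩
    · obtain ⟨k₀, h₀, hk⟩ := h (p + 1)
      refine ⟨k₀, h₀, fun k hk' => ?_⟩
      have e := hk k hk'
      show (tr F (h₀.trans hk')).range ⊓ _ = (tr F h₀).range ⊓ _
      rw [e]
  · rintro ⟨⟨k₀, hk0⟩, hK⟩ p
    induction p with
    | zero => exact ⟨k₀, Nat.zero_le _, fun k hk => hk0 k hk⟩
    | succ p ih =>
      obtain ⟨k₁, h₁, hk₁⟩ := ih
      obtain ⟨k₂, h₂, hk₂⟩ := hK p
      have h₀ : p + 1 ≤ max k₁ k₂ := h₂.trans (le_max_right _ _)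
      refine ⟨max k₁ k₂, h₀, fun k hk => le_antisymm (range_anti F h₀ hk) ?_⟩
      rintro x ⟨z, rfl⟩
      have hp : p ≤ p + 1 := Nat.le_succ p
      have e1 : tr F hp (tr F h₀ z) ∈
          (tr F (h₁.trans ((le_max_left k₁ k₂).trans hk))).range := by
        rw [hk₁ k ((le_max_left k₁ k₂).trans hk), ← hk₁ (max k₁ k₂) (le_max_left k₁ k₂)]
        exact ⟨z, (tr_tr F hp h₀ z).symm⟩
      obtain ⟨w, hw⟩ := e1
      have hk' : p + 1 ≤ k := h₀.trans hk
      have hy : tr F hp (tr F hk' w) = tr F hp (tr F h₀ z) := by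
        rw [tr_tr]; exact hw
      have hmem : tr F h₀ z - tr F hk' w ∈ (tr F h₀).range ⊓ (tr F hp).ker := by
        refine AddSubgroup.mem_inf.mpr ⟨sub_mem ⟨z, rfl⟩ (range_anti F h₀ hk ⟨w, rfl⟩), ?_⟩
        rw [AddMonoidHom.mem_ker, map_sub, hy, sub_self]
      have e2 : (tr F h₀).range ⊓ (tr F hp).ker = (tr F hk').range ⊓ (tr F hp).ker := by
        have a := hk₂ (max k₁ k₂) (le_max_right _ _)
        have b := hk₂ k ((le_max_right k₁ k₂).trans hk)
        exact a.trans b.symm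
      rw [e2] at hmem
      have := add_mem (AddSubgroup.mem_inf.mp hmem).1 (⟨w, rfl⟩ : tr F hk' w ∈ (tr F hk').range)
      rwa [sub_add_cancel] at this

end Groth.Agent.S3532
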