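import Groth.Statements.S3547
import Mathlib
import Groth.Agent.S15549

set_option autoImplicit false
universe u
open CategoryTheory CategoryTheory.Limits AlgebraicGeometry
open EGA2

namespace Groth.Agent.S3547


open TopologicalSpace Opposite

section Aux

variable {R A : Type u} [CommRing R] [CommRing A] [Algebra R A] (𝒜 : ℕ → Submodule R A)
  [GradedAlgebra 𝒜] {M : Type u} [AddCommGroup M] [Module R M] [Module A M]
  (ℳ : ℕ → Submodule R M) [DirectSum.Decomposition ℳ] [SetLike.GradedSMul 𝒜 ℳ] (n : ℤ)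
  (p : ProjectiveSpectrum 𝒜)

theorem frac_form (q : GrTilde.LocMod 𝒜 (M := M) p) (hq : q ∈ GrTilde.tildeAt 𝒜 ℳ n p) :
    ∃ (i j : ℕ) (m : M) (s : A) (_ : m ∈ ℳ i) (_ : s ∈ 𝒜 j) (hs : s ∉ p.asHomogeneousIdeal),
      ((i : ℤ) = j + n ∨ m = 0) ∧ q = LocalizedModule.mk m ⟨s, hs⟩ := by
  unfold GrTilde.tildeAt at hq
  induction hq using Submodule.span_induction with
  | mem q h =>
    obtain ⟨i, j, m, s, hs, hij, rfl⟩ := h
    exact ⟨i, j, m.1, s.1, m.2, s.2, hs, Or.inl hij, rfl⟩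
  | zero =>
    exact ⟨0, 0, 0, 1, zero_mem _, SetLike.GradedOne.one_mem,
      fun h => p.isPrime.ne_top ((Ideal.eq_top_iff_one _).mpr h), Or.inr rfl,
      (LocalizedModule.zero_mk _).symm⟩
  | add q q' _ _ h h' =>
    obtain ⟨i, j, m, s, hm, hsj, hs, hdeg, rfl⟩ := h
    obtain ⟨i', j', m', s', hm', hsj', hs', hdeg', rfl⟩ := h'
    rcases hdeg with hd | hd
    · rcases hdeg' with hd' | hd'
      · have e : j + i' = j' + i := by omega
        refine ⟨j' + i, j + j', s' • m + s • m', s * s', ?_, SetLike.mul_mem_graded hsj hsj',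
          fun h' => (p.isPrime.mem_or_mem h').elim hs hs', Or.inl (by push_cast; omega),
          LocalizedModule.mk_add_mk⟩
        refine add_mem (SetLike.GradedSMul.smul_mem hsj' hm) ?_
        rw [← e]
        exact SetLike.GradedSMul.smul_mem hsj hm'
      · subst hd'
        refine ⟨i, j, m, s, hm, hsj, hs, Or.inl hd, ?_⟩
        rw [LocalizedModule.zero_mk, add_zero]
    · subst hd
      refine ⟨i', j', m', s', hm', hsj', hs', hdeg', ?_⟩
      rw [LocalizedModule.zero_mk, zero_add]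
  | smul c q _ h =>
    obtain ⟨i, j, m, s, hm, hsj, hs, hdeg, rfl⟩ := h
    have hden : c.den * s ∉ p.asHomogeneousIdeal := fun h' =>
      (p.isPrime.mem_or_mem h').elim (fun h1 => Ideal.mem_primeCompl_iff.mp c.den_mem h1) hs
    have hcq : c • LocalizedModule.mk m (⟨s, hs⟩ : p.asHomogeneousIdeal.toIdeal.primeCompl)
        = LocalizedModule.mk (c.num • m) ⟨c.den * s, hden⟩ := by
      rw [GrTilde.a0_smul_def, HomogeneousLocalization.eq_num_div_den]
      exact LocalizedModule.mk_smul_mk _ _ _ _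
    refine ⟨c.deg + i, c.deg + j, c.num • m, c.den * s,
      SetLike.GradedSMul.smul_mem c.num_mem_deg hm, SetLike.mul_mem_graded c.den_mem_deg hsj,
      hden, ?_, hcq⟩
    rcases hdeg with hd | hd
    · exact Or.inl (by push_cast; omega)
    · exact Or.inr (by rw [hd, smul_zero])

theorem surj : Function.Surjective (TopCat.stalkToFiber (GrTilde.isLocFrac 𝒜 ℳ n) p) := by
  apply TopCat.stalkToFiber_surjective
  intro t
  obtain ⟨i, j, m, s, hm, hsj, hs, hdeg, ht⟩ := frac_form 𝒜 ℳ n p t.1 t.2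
  have nin : ∀ y : (ProjectiveSpectrum.basicOpen 𝒜 s), s ∉ y.1.asHomogeneousIdeal :=
    fun y => y.2
  have hmem : ∀ y : (ProjectiveSpectrum.basicOpen 𝒜 s),
      LocalizedModule.mk m ⟨s, nin y⟩ ∈ GrTilde.tildeAt 𝒜 ℳ n y.1 := by
    intro y
    rcases hdeg with hd | hd
    · exact Submodule.subset_span ⟨i, j, ⟨m, hm⟩, ⟨s, hsj⟩, nin y, hd, rfl⟩
    · rw [hd, LocalizedModule.zero_mk]
      exact zero_mem _
  refine ⟨⟨ProjectiveSpectrum.basicOpen 𝒜 s, hs⟩,
    fun y => ⟨LocalizedModule.mk m ⟨s, nin y⟩, hmem y⟩, ?_, ?_⟩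
  · intro y
    exact ⟨_, y.2, 𝟙 _, i, j, ⟨m, hm⟩, ⟨s, hsj⟩, fun y' => nin y', hdeg, fun _ => rfl⟩
  · exact Subtype.ext ht.symm

theorem exists_homog_ann (D : ℕ) (w : M) (hw : w ∈ ℳ D) (u : A)
    (hu : u ∉ p.asHomogeneousIdeal.toIdeal) (huw : u • w = 0) :
    ∃ c : A, c ∉ p.asHomogeneousIdeal.toIdeal ∧ c • w = 0 := by
  classical
  have hI := Groth.Agent.S15549.ann_homogeneous 𝒜 ℳ D w hw
  by_contra hcon
  push_neg at hcon
  apply hu
  rw [← DirectSum.sum_support_decompose 𝒜 u]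
  refine Ideal.sum_mem _ fun k _ => ?_
  by_contra hk
  exact hcon _ hk ((Ideal.mem_torsionOf_iff _ _).mp
    (hI k ((Ideal.mem_torsionOf_iff _ _).mpr huw)))

theorem inj : Function.Injective (TopCat.stalkToFiber (GrTilde.isLocFrac 𝒜 ℳ n) p) := by
  apply TopCat.stalkToFiber_injective
  intro U V fU hU fV hV e
  rcases hU ⟨p, U.2⟩ with ⟨U', mU, iU, i, j, m, s, ninU, hdU, wU⟩
  rcases hV ⟨p, V.2⟩ with ⟨V', mV, iV, i', j', m', s', ninV, hdV, wV⟩
  have eU := wU ⟨p, mU⟩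
  have eV := wV ⟨p, mV⟩
  have e1 : LocalizedModule.mk m.1 (⟨s.1, ninU ⟨p, mU⟩⟩ : p.asHomogeneousIdeal.toIdeal.primeCompl)
      = LocalizedModule.mk m'.1 ⟨s'.1, ninV ⟨p, mV⟩⟩ :=
    eU.symm.trans ((congrArg Subtype.val e).trans eV)
  obtain ⟨u, hu⟩ := LocalizedModule.mk_eq.mp e1
  obtain ⟨D, hwD⟩ : ∃ D, (s'.1 • m.1 - s.1 • m'.1) ∈ ℳ D := by
    rcases hdU with hd | hd
    · rcases hdV with hd' | hd'
      · have e' : j + i' = j' + i := by omega
        refine ⟨j' + i, sub_mem (SetLike.GradedSMul.smul_mem s'.2 m.2) ?_⟩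
        rw [← e']
        exact SetLike.GradedSMul.smul_mem s.2 m'.2
      · refine ⟨j' + i, ?_⟩
        rw [hd', smul_zero, sub_zero]
        exact SetLike.GradedSMul.smul_mem s'.2 m.2
    · refine ⟨j + i', ?_⟩
      rw [hd, smul_zero, zero_sub]
      exact neg_mem (SetLike.GradedSMul.smul_mem s.2 m'.2)
  have huw : (u : A) • (s'.1 • m.1 - s.1 • m'.1) = 0 := by
    rw [smul_sub, sub_eq_zero]
    exact hu
  obtain ⟨c, hcp, hcw⟩ := exists_homog_ann 𝒜 ℳ p D _ hwD (u : A)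
    (Ideal.mem_primeCompl_iff.mp u.2) huw
  have hcw' : c • s'.1 • m.1 = c • s.1 • m'.1 := by
    rwa [smul_sub, sub_eq_zero] at hcw
  refine ⟨⟨(ProjectiveSpectrum.basicOpen 𝒜 c : Opens (ProjectiveSpectrum.top 𝒜)) ⊓ (U' ⊓ V'),
    ⟨hcp, mU, mV⟩⟩, ?_, ?_, ?_⟩
  · change (ProjectiveSpectrum.basicOpen 𝒜 c : Opens (ProjectiveSpectrum.top 𝒜)) ⊓ (U' ⊓ V')
      ⟶ U.val
    exact homOfLE (le_trans inf_le_right (le_trans inf_le_left (leOfHom iU)))
  · change (ProjectiveSpectrum.basicOpen 𝒜 c : Opens (ProjectiveSpectrum.top 𝒜)) ⊓ (U' ⊓ V')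
      ⟶ V.val
    exact homOfLE (le_trans inf_le_right (le_trans inf_le_right (leOfHom iV)))
  · intro y
    have hyU := wU ⟨y.1, y.2.2.1⟩
    have hyV := wV ⟨y.1, y.2.2.2⟩
    refine Subtype.ext ?_
    refine hyU.trans (Eq.trans ?_ hyV.symm)
    exact LocalizedModule.mk_eq.mpr ⟨⟨c, y.2.1⟩, hcw'⟩

end Aux


/-- Let S be a graded ring, M a graded S-module, X = Proj S and p a point of X. The stalk of M(n)~ at p
is the module of fractions m/f in M_p with m, f homogeneous, f not in p and deg m = deg f + n: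
precisely, evaluation at p is a bijection from the stalk at p of the sheaf of local sections of
M(n)~ onto that module of fractions. -/
theorem result {R A : Type u} [CommRing R] [CommRing A] [Algebra R A] (𝒜 : ℕ → Submodule R A) [GradedAlgebra 𝒜]
    {M : Type u} [AddCommGroup M] [Module R M] [Module A M] [IsScalarTower R A M] (ℳ : ℕ → Submodule R M) [DirectSum.Decomposition ℳ] [SetLike.GradedSMul 𝒜 ℳ] (n : ℤ)
    (p : ProjectiveSpectrum 𝒜) :
    Function.Bijective (TopCat.stalkToFiber (GrTilde.isLocFrac 𝒜 ℳ n) p) := ⟨inj 𝒜 ℳ n p, surj 𝒜 ℳ n p⟩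

end Groth.Agent.S3547
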