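import Groth.Statements.S3549
import Mathlib
import Groth.Agent.S15549

set_option autoImplicit false
universe u
open CategoryTheory CategoryTheory.Limits AlgebraicGeometry
open EGA2

namespace Groth.Agent.S3549


open TopologicalSpace Opposite

section Aux

variable {R A : Type u} [CommRing R] [CommRing A] [Algebra R A] (𝒜 : ℕ → Submodule R A)
  [GradedAlgebra 𝒜] {M : Type u} [AddCommGroup M] [Module R M] [Module A M]
  (ℳ : ℕ → Submodule R M)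

theorem mk_eq_zero_iff' (S : Submonoid A) (m : M) (s : S) :
    LocalizedModule.mk m s = 0 ↔ ∃ u : S, (u : A) • m = 0 := by
  rw [← LocalizedModule.zero_mk (1 : S), LocalizedModule.mk_eq]
  constructor
  · rintro ⟨u, hu⟩
    refine ⟨u, ?_⟩
    rw [smul_zero, smul_zero, one_smul] at hu
    exact hu
  · rintro ⟨u, hu⟩
    refine ⟨u, ?_⟩
    rw [smul_zero, smul_zero, one_smul]
    exact hu

variable [SetLike.GradedSMul 𝒜 ℳ]

theorem sect_zero_of_isZero (n : ℤ) (h : IsZero (GrTilde.tilde 𝒜 ℳ n))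
    (U : (Opens (ProjectiveSpectrum.top 𝒜))ᵒᵖ) (s : GrTilde.sect 𝒜 ℳ n U) : s = 0 := by
  have hid : (𝟙 (GrTilde.tilde 𝒜 ℳ n)) = 0 := h.eq_of_src _ _
  have e := congrArg
    (fun φ : GrTilde.tilde 𝒜 ℳ n ⟶ GrTilde.tilde 𝒜 ℳ n => (φ.val.app U).hom s) hid
  exact e

theorem key_section (e : ℕ) (w : M) (hw : w ∈ ℳ e) (g : A) (hg : g ∈ 𝒜 1) :
    ∃ s : GrTilde.sect 𝒜 ℳ 0 (op (ProjectiveSpectrum.basicOpen 𝒜 g)),
      ∀ (y : ProjectiveSpectrum 𝒜) (hy : y ∈ ProjectiveSpectrum.basicOpen 𝒜 g)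
        (hge : g ^ e ∉ y.asHomogeneousIdeal.toIdeal),
        ((s.1 ⟨y, hy⟩ : GrTilde.tildeAt 𝒜 ℳ 0 y) : GrTilde.LocMod 𝒜 (M := M) y)
          = LocalizedModule.mk w ⟨g ^ e, hge⟩ := by
  have hge : g ^ e ∈ 𝒜 e := by
    have := SetLike.pow_mem_graded e hg
    rwa [smul_eq_mul, mul_one] at this
  have nin : ∀ y : (ProjectiveSpectrum.basicOpen 𝒜 g), g ^ e ∉ y.1.asHomogeneousIdeal :=
    fun y h' => (ProjectiveSpectrum.mem_basicOpen 𝒜 g y.1).mp y.2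
      (y.1.isPrime.mem_of_pow_mem e h')
  refine ⟨⟨fun y => ⟨LocalizedModule.mk w ⟨g ^ e, nin y⟩,
    Submodule.subset_span ⟨e, e, ⟨w, hw⟩, ⟨g ^ e, hge⟩, nin y, by simp, rfl⟩⟩,
    fun y => ⟨_, y.2, 𝟙 _, e, e, ⟨w, hw⟩, ⟨g ^ e, hge⟩, fun y' => nin y', Or.inl (by simp),
      fun _ => rfl⟩⟩, ?_⟩
  intro y hy hge'
  rfl

variable [DirectSum.Decomposition ℳ]

theorem homog_case (hgen : (HomogeneousIdeal.irrelevant 𝒜).toIdeal = Ideal.span (𝒜 1 : Set A))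
    (h : IsZero (GrTilde.tilde 𝒜 ℳ 0)) (e : ℕ) (w : M) (hw : w ∈ ℳ e) :
    (HomogeneousIdeal.irrelevant 𝒜).toIdeal ≤ (Ideal.torsionOf A M w).radical := by
  have hI : Ideal.IsHomogeneous 𝒜 (Ideal.torsionOf A M w) :=
    Groth.Agent.S15549.ann_homogeneous 𝒜 ℳ e w hw
  rw [hI.radical_eq]
  refine le_sInf ?_
  rintro J ⟨hJh, hIJ, hJp⟩
  by_contra hnot
  let x : ProjectiveSpectrum 𝒜 := ⟨⟨J, hJh⟩, hJp, fun hle => hnot (fun a ha => hle ha)⟩
  have hnot2 := hnot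
  rw [hgen, Ideal.span_le, Set.not_subset] at hnot2
  obtain ⟨g, hg, hgJ⟩ := hnot2
  obtain ⟨s, hs⟩ := key_section 𝒜 ℳ e w hw g hg
  have hxU : x ∈ ProjectiveSpectrum.basicOpen 𝒜 g :=
    (ProjectiveSpectrum.mem_basicOpen 𝒜 g x).mpr hgJ
  have hge : g ^ e ∉ x.asHomogeneousIdeal.toIdeal := fun h' => hgJ (hJp.mem_of_pow_mem e h')
  have hs0 : s = 0 := sect_zero_of_isZero 𝒜 ℳ 0 h _ s
  have h1 := hs x hxU hge
  rw [hs0] at h1
  have h2 : LocalizedModule.mk w (⟨g ^ e, hge⟩ : x.asHomogeneousIdeal.toIdeal.primeCompl) = 0 :=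
    h1.symm
  obtain ⟨u, hu⟩ := (mk_eq_zero_iff' _ _ _).mp h2
  exact (Ideal.mem_primeCompl_iff.mp u.2) (hIJ ((Ideal.mem_torsionOf_iff _ _).mpr hu))

end Aux


/-- Let S be a graded ring whose irrelevant ideal S_+ is generated by the degree-one elements, M a
graded S-module and X = Proj S. If the O_X-module M~ is zero, then for every z in M and every
homogeneous f of positive degree some power of f annihilates z. -/
theorem result {R A : Type u} [CommRing R] [CommRing A] [Algebra R A] (𝒜 : ℕ → Submodule R A) [GradedAlgebra 𝒜]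
    (hgen : (HomogeneousIdeal.irrelevant 𝒜).toIdeal = Ideal.span (𝒜 1 : Set A))
    {M : Type u} [AddCommGroup M] [Module R M] [Module A M] [IsScalarTower R A M] (ℳ : ℕ → Submodule R M) [DirectSum.Decomposition ℳ] [SetLike.GradedSMul 𝒜 ℳ]
    (h : IsZero (GrTilde.tilde 𝒜 ℳ 0)) (z : M) (d : ℕ) (f : A) (hd : 0 < d) (hf : f ∈ 𝒜 d) :
    ∃ k : ℕ, f ^ k • z = 0 := by
  have hom : ∀ (e : ℕ) (w : M), w ∈ ℳ e → ∃ k : ℕ, f ^ k • w = 0 := by
    intro e w hw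
    have hle := homog_case 𝒜 ℳ hgen h e w hw
    have hfirr : f ∈ (HomogeneousIdeal.irrelevant 𝒜).toIdeal :=
      HomogeneousIdeal.mem_irrelevant_of_mem 𝒜 hd hf
    obtain ⟨k, hk⟩ := Ideal.mem_radical_iff.mp (hle hfirr)
    exact ⟨k, (Ideal.mem_torsionOf_iff _ _).mp hk⟩
  refine DirectSum.Decomposition.inductionOn ℳ ?_ ?_ ?_ z
  · exact ⟨0, smul_zero _⟩
  · intro i m
    exact hom i m m.2
  · rintro m m' ⟨k, hk⟩ ⟨k', hk'⟩
    refine ⟨k + k', ?_⟩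
    have h1 : f ^ (k + k') • m = 0 := by rw [pow_add, mul_comm, mul_smul, hk, smul_zero]
    have h2 : f ^ (k + k') • m' = 0 := by rw [pow_add, mul_smul, hk', smul_zero]
    rw [smul_add, h1, h2, add_zero]

end Groth.Agent.S3549
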