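import Groth.Statements.S3553
import Groth.Agent.H14Lib.Proj

set_option autoImplicit false
universe u
open CategoryTheory CategoryTheory.Limits AlgebraicGeometry
open EGA2

namespace Groth.Agent.S3553


/-- In the case where the induced morphism is defined on all of Proj S: let φ : S' → S be a homomorphism
of graded rings such that S_+ is contained in the ideal generated by φ(S'_+), and suppose every
element of the kernel of φ is nilpotent. Then the induced morphism from Proj S to Proj S' has dense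
image. -/
theorem result {R A : Type u} [CommRing R] [CommRing A] [Algebra R A] (𝒜 : ℕ → Submodule R A) [GradedAlgebra 𝒜]
    {B : Type u} [CommRing B] [Algebra R B] (ℬ : ℕ → Submodule R B) [GradedAlgebra ℬ]
    (φ : 𝒜 →+*ᵍ ℬ) (hφ : HomogeneousIdeal.irrelevant ℬ ≤ (HomogeneousIdeal.irrelevant 𝒜).map φ)
    (hker : ∀ a : A, φ a = 0 → IsNilpotent a) :
    DenseRange (Proj.map φ hφ).base := by
  rw [DenseRange, dense_iff_inter_open]
  rintro U hU ⟨x, hxU⟩
  -- find a homogeneous element of positive degree with x ∈ D₊(s) ⊆ U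
  obtain ⟨_, ⟨_, ⟨s, rfl⟩, rfl⟩, hxs, hsU⟩ :=
    (Proj.isBasis_basicOpen 𝒜).exists_subset_of_mem_open hxU hU
  have hxs' : x ∈ Proj.basicOpen 𝒜 s := hxs
  rw [Proj.basicOpen_eq_iSup_proj, TopologicalSpace.Opens.mem_iSup] at hxs'
  obtain ⟨i, hi⟩ := hxs'
  obtain ⟨t, n, hn, ht, hxt⟩ := Groth.Agent.H14Lib.exists_homogeneous_pos_mem_basicOpen 𝒜 x
  set si : A := GradedRing.proj 𝒜 i s with hsi
  have hsi_mem : si ∈ 𝒜 i := by
    rw [hsi, GradedRing.proj_apply]; exact SetLike.coe_mem _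
  have hx' : x ∈ Proj.basicOpen 𝒜 (si * t) := by
    rw [Proj.basicOpen_mul]; exact ⟨hi, hxt⟩
  have hdeg : si * t ∈ 𝒜 (i + n) := SetLike.mul_mem_graded hsi_mem ht
  have hpos : 0 < i + n := by omega
  -- si * t is not nilpotent
  have hnn : ¬ IsNilpotent (si * t) := by
    intro hnil
    have := Groth.Agent.H14Lib.basicOpen_eq_bot_of_isNilpotent 𝒜 hnil
    rw [this] at hx'
    exact hx'
  have hnn' : ¬ IsNilpotent (φ (si * t)) := by
    rintro ⟨m, hm⟩
    rw [← map_pow] at hm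
    exact hnn ((hker _ hm).of_pow)
  have hne : Proj.basicOpen ℬ (φ (si * t)) ≠ ⊥ := fun h0 =>
    hnn' (Groth.Agent.H14Lib.isNilpotent_of_basicOpen_eq_bot ℬ (φ.map_mem hdeg) hpos h0)
  obtain ⟨y, hy⟩ : ∃ y : Proj ℬ, y ∈ Proj.basicOpen ℬ (φ (si * t)) := by
    by_contra hcon
    push Not at hcon
    apply hne
    rw [eq_bot_iff]
    intro y hy
    exact (hcon y hy).elim
  rw [← Proj.map_preimage_basicOpen φ hφ] at hy
  refine ⟨(Proj.map φ hφ).base y, hsU ?_, ⟨y, rfl⟩⟩
  have h1 : (Proj.map φ hφ).base y ∈ Proj.basicOpen 𝒜 (si * t) := hy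
  rw [Proj.basicOpen_mul] at h1
  have h2 : Proj.basicOpen 𝒜 si ≤ Proj.basicOpen 𝒜 s := by
    rw [Proj.basicOpen_eq_iSup_proj 𝒜 s]
    exact le_iSup (fun i => Proj.basicOpen 𝒜 (GradedRing.proj 𝒜 i s)) i
  exact h2 h1.1

end Groth.Agent.S3553
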