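import Groth.Statements.S3555
import Mathlib

set_option autoImplicit false
universe u
open CategoryTheory CategoryTheory.Limits AlgebraicGeometry
open EGA2

namespace Groth.Agent.S3555


/-- Let S be a graded ring whose irrelevant ideal S_+ is generated by the degree-one elements, X = Proj
S, and f homogeneous of degree d > 0. Then D_+(f) is the set of points p of X at which the global
section f/1 of O_X(d) does not vanish, i.e. at which its value generates the module of degree-d
fractions at p. -/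
theorem result {R A : Type u} [CommRing R] [CommRing A] [Algebra R A] (𝒜 : ℕ → Submodule R A) [GradedAlgebra 𝒜]
    (hgen : (HomogeneousIdeal.irrelevant 𝒜).toIdeal = Ideal.span (𝒜 1 : Set A))
    {d : ℕ} (hd : 0 < d) (f : 𝒜 d) (p : ProjectiveSpectrum 𝒜) :
    p ∈ ProjectiveSpectrum.basicOpen 𝒜 (f : A) ↔
      Submodule.span (Twist.A0 𝒜 p) {(Twist.globalOf 𝒜 f).1 ⟨p, trivial⟩} = ⊤ := by
  classical
  have h1p : (1 : A) ∉ p.asHomogeneousIdeal := fun h => p.isPrime.ne_top ((Ideal.eq_top_iff_one _).mpr h)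
  have hval : (((Twist.globalOf 𝒜 f).1 ⟨p, trivial⟩ : Twist.twistAt 𝒜 d p) : Twist.Loc 𝒜 p) =
      Localization.mk f.1 ⟨1, h1p⟩ := rfl
  rw [ProjectiveSpectrum.mem_basicOpen]
  constructor
  · intro hfp
    rw [eq_top_iff]
    rintro ⟨y, hy⟩ -
    rw [Submodule.mem_span_singleton]
    suffices h : ∃ c : Twist.A0 𝒜 p, c.val * Localization.mk f.1 ⟨1, h1p⟩ = y by
      obtain ⟨c, hc⟩ := h
      refine ⟨c, ?_⟩
      apply Subtype.ext
      rw [Twist.coe_smul_val, hval]
      exact hc
    induction hy using Submodule.span_induction with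
    | mem q hq =>
      obtain ⟨i, j, a, s, hs, hij, rfl⟩ := hq
      have hij' : j + d = i := by exact_mod_cast hij.symm
      have hsf : s.1 * f.1 ∉ p.asHomogeneousIdeal := fun h =>
        (p.isPrime.mem_or_mem h).elim hs hfp
      refine ⟨HomogeneousLocalization.mk ⟨i, a, ⟨s.1 * f.1, hij' ▸ SetLike.mul_mem_graded s.2 f.2⟩, hsf⟩, ?_⟩
      rw [HomogeneousLocalization.val_mk, Localization.mk_mul, Localization.mk_eq_mk_iff,
        Localization.r_iff_exists]
      refine ⟨1, ?_⟩
      simp only [OneMemClass.coe_one, one_mul, mul_one, Submonoid.coe_mul]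
      ring
    | zero => exact ⟨0, by simp⟩
    | add x y _ _ hx hy =>
      obtain ⟨c₁, rfl⟩ := hx
      obtain ⟨c₂, rfl⟩ := hy
      exact ⟨c₁ + c₂, by rw [HomogeneousLocalization.val_add]; ring⟩
    | smul c x _ hx =>
      obtain ⟨c₁, rfl⟩ := hx
      refine ⟨c * c₁, ?_⟩
      rw [HomogeneousLocalization.val_mul, Algebra.smul_def, HomogeneousLocalization.algebraMap_apply]
      ring
  · intro htop hfp
    have hrel : ¬ (HomogeneousIdeal.irrelevant 𝒜).toIdeal ≤ p.asHomogeneousIdeal.toIdeal := p.not_irrelevant_le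
    rw [hgen, Ideal.span_le, Set.not_subset] at hrel
    obtain ⟨t, ht1, htp⟩ := hrel
    have htd : t ^ d ∈ 𝒜 d := by
      have := SetLike.pow_mem_graded d ht1
      simpa using this
    let e : Twist.twistAt 𝒜 d p := ⟨Localization.mk (t ^ d) ⟨1, h1p⟩,
      Submodule.subset_span ⟨d, 0, ⟨t ^ d, htd⟩, ⟨1, SetLike.GradedOne.one_mem⟩, h1p, by simp, rfl⟩⟩
    have he : e ∈ Submodule.span (Twist.A0 𝒜 p) {(Twist.globalOf 𝒜 f).1 ⟨p, trivial⟩} := by
      rw [htop]; trivial
    rw [Submodule.mem_span_singleton] at he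
    obtain ⟨c, hc⟩ := he
    have hc' := congrArg Subtype.val hc
    rw [Twist.coe_smul_val, hval] at hc'
    obtain ⟨a, s, hcas⟩ := IsLocalization.exists_mk'_eq p.asHomogeneousIdeal.toIdeal.primeCompl c.val
    rw [← hcas, ← Localization.mk_eq_mk', Localization.mk_mul] at hc'
    change _ = Localization.mk (t ^ d) ⟨1, h1p⟩ at hc'
    rw [Localization.mk_eq_mk_iff, Localization.r_iff_exists] at hc'
    obtain ⟨u, hu⟩ := hc'
    simp only [OneMemClass.coe_one, one_mul, mul_one, Submonoid.coe_mul] at hu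
    have h2 : (u : A) * (s * t ^ d) ∈ p.asHomogeneousIdeal.toIdeal := by
      rw [← hu]
      exact Ideal.mul_mem_left _ _ (Ideal.mul_mem_left _ _ hfp)
    rcases p.isPrime.mem_or_mem h2 with h3 | h3
    · exact u.2 h3
    · rcases p.isPrime.mem_or_mem h3 with h4 | h4
      · exact s.2 h4
      · exact htp (p.isPrime.mem_of_pow_mem d h4)

end Groth.Agent.S3555
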