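import Groth.Statements.S3556
import Groth.Agent.H14Lib.Proj

set_option autoImplicit false
universe u
open CategoryTheory CategoryTheory.Limits AlgebraicGeometry
open EGA2

namespace Groth.Agent.S3556

lemma away_isReduced {R A : Type u} [CommRing R] [CommRing A] [Algebra R A] (𝒜 : ℕ → Submodule R A)
    [GradedAlgebra 𝒜]
    (hred : ∀ f ∈ (HomogeneousIdeal.irrelevant 𝒜).toIdeal, IsNilpotent f → f = 0)
    {f : A} {d : ℕ} (hf : f ∈ 𝒜 d) (hd : 0 < d) : IsReduced (HomogeneousLocalization.Away 𝒜 f) := by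
  constructor
  rintro z ⟨m, hm⟩
  obtain ⟨n, a, ha, rfl⟩ := HomogeneousLocalization.Away.mk_surjective 𝒜 hf z
  have h1 := congrArg HomogeneousLocalization.val hm
  rw [HomogeneousLocalization.val_pow, HomogeneousLocalization.Away.val_mk,
    HomogeneousLocalization.val_zero, Localization.mk_pow, Localization.mk_eq_mk',
    IsLocalization.mk'_eq_zero_iff] at h1
  obtain ⟨⟨_, k, rfl⟩, hk⟩ := h1
  have hk' : f ^ k * a ^ m = 0 := hk
  have hw : f * a ∈ (HomogeneousIdeal.irrelevant 𝒜).toIdeal := by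
    apply HomogeneousIdeal.mem_irrelevant_of_mem 𝒜 (i := d + n • d) (by omega)
    exact SetLike.mul_mem_graded hf ha
  have hwn : IsNilpotent (f * a) := by
    refine ⟨k + m, ?_⟩
    have : (f * a) ^ (k + m) = (f ^ k * a ^ m) * (f ^ m * a ^ k) := by ring
    rw [this, hk', zero_mul]
  have hw0 := hred _ hw hwn
  apply HomogeneousLocalization.val_injective
  rw [HomogeneousLocalization.Away.val_mk, HomogeneousLocalization.val_zero,
    Localization.mk_eq_mk', IsLocalization.mk'_eq_zero_iff]
  exact ⟨⟨f, 1, pow_one f⟩, hw0⟩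

/-- Let S be a graded ring which is essentially reduced, i.e. its irrelevant ideal S_+ contains no
nonzero nilpotent element. Then Proj S is a reduced scheme. -/
theorem result {R A : Type u} [CommRing R] [CommRing A] [Algebra R A] (𝒜 : ℕ → Submodule R A) [GradedAlgebra 𝒜]
    (hred : ∀ f ∈ (HomogeneousIdeal.irrelevant 𝒜).toIdeal, IsNilpotent f → f = 0) :
    AlgebraicGeometry.IsReduced (Proj 𝒜) := by
  haveI : ∀ x : Proj 𝒜, _root_.IsReduced ((Proj 𝒜).presheaf.stalk x) := by
    intro x
    obtain ⟨f, d, hd, hf, hx⟩ := Groth.Agent.H14Lib.exists_homogeneous_pos_mem_basicOpen 𝒜 x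
    have hU := Proj.isAffineOpen_basicOpen 𝒜 f hf hd
    haveI := away_isReduced 𝒜 hred hf hd
    haveI : _root_.IsReduced Γ(Proj 𝒜, Proj.basicOpen 𝒜 f) := by
      have e := (Proj.basicOpenIsoAway 𝒜 f hf hd).commRingCatIsoToRingEquiv
      exact isReduced_of_injective e.symm.toRingHom e.symm.injective
    letI := (Proj 𝒜).presheaf.algebra_section_stalk ⟨x, hx⟩
    haveI := hU.isLocalization_stalk ⟨x, hx⟩
    exact isReduced_localizationPreserves (hU.primeIdealOf ⟨x, hx⟩).asIdeal.primeCompl _ inferInstance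
  exact isReduced_of_isReduced_stalk (Proj 𝒜)

end Groth.Agent.S3556
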