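import Groth.Statements.S3578
import Mathlib

set_option autoImplicit false
universe u
open EGA2

namespace Groth.Agent.S3578


/-- Via the correspondence between closed subsets of Proj S and radical graded ideals of S_+: let S be a
graded ring and Z a closed subset of Proj S, with J = S_+ ∩ (vanishing ideal of Z). Then Z is
irreducible if and only if J is a prime ideal of the ring-without-unit S_+: J ≠ S_+ and a product of
two elements of S_+ lies in J only if one factor does. -/
theorem result {R A : Type u} [CommRing R] [CommRing A] [Algebra R A] (𝒜 : ℕ → Submodule R A) [GradedAlgebra 𝒜]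
    (Z : Set (ProjectiveSpectrum 𝒜)) (hZ : IsClosed Z) :
    IsIrreducible Z ↔
      (¬ (HomogeneousIdeal.irrelevant 𝒜).toIdeal ≤ (ProjectiveSpectrum.vanishingIdeal Z).toIdeal ∧
        ∀ f ∈ (HomogeneousIdeal.irrelevant 𝒜).toIdeal, ∀ g ∈ (HomogeneousIdeal.irrelevant 𝒜).toIdeal,
          f * g ∈ (ProjectiveSpectrum.vanishingIdeal Z).toIdeal →
            f ∈ (ProjectiveSpectrum.vanishingIdeal Z).toIdeal ∨ g ∈ (ProjectiveSpectrum.vanishingIdeal Z).toIdeal) := by
  have hmem : ∀ (t : Set (ProjectiveSpectrum 𝒜)) (f : A),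
      f ∈ (ProjectiveSpectrum.vanishingIdeal t).toIdeal ↔ ∀ x ∈ t, f ∈ x.asHomogeneousIdeal :=
    fun t f => ProjectiveSpectrum.mem_vanishingIdeal t f
  constructor
  · rintro ⟨⟨p, hp⟩, hpre⟩
    refine ⟨fun hle => p.not_irrelevant_le (fun f hf => (hmem Z f).1 (hle hf) p hp), ?_⟩
    intro f _ g _ hfg
    have hsub : Z ⊆ ProjectiveSpectrum.zeroLocus 𝒜 {f} ∪ ProjectiveSpectrum.zeroLocus 𝒜 {g} := by
      intro x hx
      have h1 : f * g ∈ x.asHomogeneousIdeal := (hmem Z _).1 hfg x hx
      rcases x.isPrime.mem_or_mem h1 with h2 | h2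
      · left
        rw [ProjectiveSpectrum.mem_zeroLocus]
        simpa using h2
      · right
        rw [ProjectiveSpectrum.mem_zeroLocus]
        simpa using h2
    rcases (isPreirreducible_iff_isClosed_union_isClosed.1 hpre) _ _
      (ProjectiveSpectrum.isClosed_zeroLocus 𝒜 _) (ProjectiveSpectrum.isClosed_zeroLocus 𝒜 _) hsub with h1 | h1
    · left
      rw [hmem]
      intro x hx
      have := h1 hx
      rw [ProjectiveSpectrum.mem_zeroLocus] at this
      exact this (Set.mem_singleton f)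
    · right
      rw [hmem]
      intro x hx
      have := h1 hx
      rw [ProjectiveSpectrum.mem_zeroLocus] at this
      exact this (Set.mem_singleton g)
  · rintro ⟨hne, hprime⟩
    constructor
    · by_contra hempty
      rw [Set.not_nonempty_iff_eq_empty] at hempty
      apply hne
      intro f _
      rw [hmem, hempty]
      intro x hx
      exact (Set.notMem_empty x hx).elim
    · rw [isPreirreducible_iff_isClosed_union_isClosed]
      intro Z₁ Z₂ hZ₁ hZ₂ hsub
      by_contra hcon
      rw [not_or] at hcon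
      obtain ⟨h1, h2⟩ := hcon
      rw [Set.not_subset] at h1 h2
      obtain ⟨p₁, hp₁Z, hp₁⟩ := h1
      obtain ⟨p₂, hp₂Z, hp₂⟩ := h2
      have key : ∀ (Z' : Set (ProjectiveSpectrum 𝒜)) (hZ' : IsClosed Z') (p : ProjectiveSpectrum 𝒜), p ∉ Z' →
          ∃ f, f ∈ (HomogeneousIdeal.irrelevant 𝒜).toIdeal ∧ f ∈ (ProjectiveSpectrum.vanishingIdeal Z').toIdeal ∧
            f ∉ p.asHomogeneousIdeal := by
        intro Z' hZ' p hp
        rw [← hZ'.closure_eq, ← ProjectiveSpectrum.zeroLocus_vanishingIdeal_eq_closure,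
          ProjectiveSpectrum.mem_zeroLocus, Set.not_subset] at hp
        obtain ⟨f, hf, hfp⟩ := hp
        have hs : ¬ (HomogeneousIdeal.irrelevant 𝒜).toIdeal ≤ p.asHomogeneousIdeal.toIdeal := p.not_irrelevant_le
        rw [SetLike.not_le_iff_exists] at hs
        obtain ⟨s, hs, hsp⟩ := hs
        refine ⟨f * s, Ideal.mul_mem_left _ _ hs, Ideal.mul_mem_right _ _ hf, ?_⟩
        intro hmul
        rcases p.isPrime.mem_or_mem hmul with h | h
        · exact hfp h
        · exact hsp h
      obtain ⟨f₁, hf₁S, hf₁I, hf₁p⟩ := key Z₁ hZ₁ p₁ hp₁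
      obtain ⟨f₂, hf₂S, hf₂I, hf₂p⟩ := key Z₂ hZ₂ p₂ hp₂
      have hprod : f₁ * f₂ ∈ (ProjectiveSpectrum.vanishingIdeal Z).toIdeal := by
        rw [hmem]
        intro x hx
        rcases hsub hx with h | h
        · exact Ideal.mul_mem_right _ _ ((hmem Z₁ f₁).1 hf₁I x h)
        · exact Ideal.mul_mem_left _ _ ((hmem Z₂ f₂).1 hf₂I x h)
      rcases hprime f₁ hf₁S f₂ hf₂S hprod with h | h
      · exact hf₁p ((hmem Z f₁).1 h p₁ hp₁Z)
      · exact hf₂p ((hmem Z f₂).1 h p₂ hp₂Z)

end Groth.Agent.S3578
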