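import Groth.Statements.S3557
import Groth.Agent.S3556
import Groth.Agent.S3578
import Groth.Agent.H14Lib.Proj

set_option autoImplicit false
universe u
open CategoryTheory CategoryTheory.Limits AlgebraicGeometry
open EGA2

namespace Groth.Agent.S3557


/-- Let S be a graded ring which is essentially reduced (S_+ contains no nonzero nilpotent). Then Proj S
is an integral scheme if and only if S is essentially integral, i.e. S_+ is nonzero and the product
of two nonzero elements of S_+ is nonzero. -/
theorem result {R A : Type u} [CommRing R] [CommRing A] [Algebra R A] (𝒜 : ℕ → Submodule R A) [GradedAlgebra 𝒜]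
    (hred : ∀ f ∈ (HomogeneousIdeal.irrelevant 𝒜).toIdeal, IsNilpotent f → f = 0) :
    AlgebraicGeometry.IsIntegral (Proj 𝒜) ↔
      ((∃ f ∈ (HomogeneousIdeal.irrelevant 𝒜).toIdeal, f ≠ 0) ∧
        ∀ f ∈ (HomogeneousIdeal.irrelevant 𝒜).toIdeal, ∀ g ∈ (HomogeneousIdeal.irrelevant 𝒜).toIdeal,
          f * g = 0 → f = 0 ∨ g = 0) := by
  classical
  have hmem : ∀ (f : A), f ∈ (ProjectiveSpectrum.vanishingIdeal
      (Set.univ : Set (ProjectiveSpectrum 𝒜))).toIdeal ↔ ∀ x : ProjectiveSpectrum 𝒜, f ∈ x.asHomogeneousIdeal := by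
    intro f
    have := ProjectiveSpectrum.mem_vanishingIdeal (Set.univ : Set (ProjectiveSpectrum 𝒜)) f
    simp only [Set.mem_univ, forall_true_left] at this
    exact this
  have key : ∀ f ∈ (HomogeneousIdeal.irrelevant 𝒜).toIdeal,
      f ∈ (ProjectiveSpectrum.vanishingIdeal (Set.univ : Set (ProjectiveSpectrum 𝒜))).toIdeal → f = 0 := by
    intro f hf hfI
    apply hred f hf
    rw [← mem_nilradical, ← DirectSum.sum_support_decompose 𝒜 f]
    apply Ideal.sum_mem
    intro i _
    rw [mem_nilradical]
    by_cases hi : i = 0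
    · subst hi
      have : (DirectSum.decompose 𝒜 f 0 : A) = 0 := (HomogeneousIdeal.mem_irrelevant_iff 𝒜 f).1 hf
      rw [this]
      exact IsNilpotent.zero
    · apply Groth.Agent.H14Lib.isNilpotent_of_basicOpen_eq_bot 𝒜 (SetLike.coe_mem _) (Nat.pos_of_ne_zero hi)
      rw [eq_bot_iff]
      intro x hx
      have h1 : (DirectSum.decompose 𝒜 f i : A) ∈ (ProjectiveSpectrum.vanishingIdeal
          (Set.univ : Set (ProjectiveSpectrum 𝒜))).toIdeal :=
        (ProjectiveSpectrum.vanishingIdeal (Set.univ : Set (ProjectiveSpectrum 𝒜))).isHomogeneous i hfI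
      exact (hx ((hmem _).1 h1 x)).elim
  have h78 := Groth.Agent.S3578.result 𝒜 Set.univ isClosed_univ
  constructor
  · intro hint
    have hirr : IsIrreducible (Set.univ : Set (ProjectiveSpectrum 𝒜)) :=
      (irreducibleSpace_def (Proj 𝒜)).1 inferInstance
    obtain ⟨h1, h2⟩ := h78.1 hirr
    constructor
    · by_contra hcon
      push Not at hcon
      apply h1
      intro f hf
      rw [hcon f hf]
      exact zero_mem _
    · intro f hf g hg hfg
      rcases h2 f hf g hg (by rw [hfg]; exact zero_mem _) with h | h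
      · left; exact key f hf h
      · right; exact key g hg h
  · rintro ⟨⟨f, hf, hf0⟩, hdom⟩
    have hirr : IsIrreducible (Set.univ : Set (ProjectiveSpectrum 𝒜)) := by
      refine h78.2 ⟨fun hle => hf0 (key f hf (hle hf)), fun f hf g hg hfg => ?_⟩
      have h0 : f * g = 0 := key (f * g) (Ideal.mul_mem_left _ _ hg) hfg
      rcases hdom f hf g hg h0 with h | h
      · left; rw [h]; exact zero_mem _
      · right; rw [h]; exact zero_mem _
    have i1 : IrreducibleSpace (Proj 𝒜) := (irreducibleSpace_def (Proj 𝒜)).2 hirr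
    have i2 : AlgebraicGeometry.IsReduced (Proj 𝒜) := Groth.Agent.S3556.result 𝒜 hred
    exact isIntegral_of_irreducibleSpace_of_isReduced _

end Groth.Agent.S3557
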