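import Groth.Statements.S3558
import Groth.Agent.H14Lib.Proj

set_option autoImplicit false
universe u
open CategoryTheory CategoryTheory.Limits AlgebraicGeometry
open EGA2

namespace Groth.Agent.S3558


/-- For a graded ring S, Proj S is empty if and only if every element of the irrelevant ideal S_+ is
nilpotent. -/
theorem result {R A : Type u} [CommRing R] [CommRing A] [Algebra R A] (𝒜 : ℕ → Submodule R A) [GradedAlgebra 𝒜] :
    IsEmpty (Proj 𝒜) ↔ ∀ f ∈ (HomogeneousIdeal.irrelevant 𝒜).toIdeal, IsNilpotent f := by
  classical
  constructor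
  · intro hE f hf
    rw [← mem_nilradical, ← DirectSum.sum_support_decompose 𝒜 f]
    apply Ideal.sum_mem
    intro i _
    rw [mem_nilradical]
    by_cases hi : i = 0
    · subst hi
      have : (DirectSum.decompose 𝒜 f 0 : A) = 0 := (HomogeneousIdeal.mem_irrelevant_iff 𝒜 f).1 hf
      rw [this]
      exact IsNilpotent.zero
    · apply Groth.Agent.H14Lib.isNilpotent_of_basicOpen_eq_bot 𝒜 (SetLike.coe_mem _) (Nat.pos_of_ne_zero hi)
      rw [eq_bot_iff]
      intro x _
      exact (hE.false x).elim
  · intro h
    constructor
    intro x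
    apply x.not_irrelevant_le
    intro f hf
    obtain ⟨n, hn⟩ := h f hf
    exact x.isPrime.mem_of_pow_mem n (by rw [hn]; exact zero_mem _)

end Groth.Agent.S3558
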