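import Groth.Statements.S3559
import Mathlib

set_option autoImplicit false
universe u
open CategoryTheory CategoryTheory.Limits AlgebraicGeometry
open EGA2

namespace Groth.Agent.S3559


/-- Let S be a graded ring and (f_i) a family of homogeneous elements of positive degree. The opens
D_+(f_i) cover Proj S if and only if every element of S_+ has a power in the ideal generated by the
f_i. -/
theorem result {R A : Type u} [CommRing R] [CommRing A] [Algebra R A] (𝒜 : ℕ → Submodule R A) [GradedAlgebra 𝒜]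
    {ι : Type u} (f : ι → A) (hf : ∀ i, ∃ d : ℕ, 0 < d ∧ f i ∈ 𝒜 d) :
    (⨆ i, Proj.basicOpen 𝒜 (f i)) = ⊤ ↔
      (HomogeneousIdeal.irrelevant 𝒜).toIdeal ≤ (Ideal.span (Set.range f)).radical := by
  constructor
  · intro hcov
    have hI : (Ideal.span (Set.range f)).IsHomogeneous 𝒜 := by
      apply Ideal.homogeneous_span
      rintro _ ⟨i, rfl⟩
      obtain ⟨d, -, hd⟩ := hf i
      exact ⟨d, hd⟩
    rw [hI.radical_eq]
    intro g hg
    rw [Ideal.mem_sInf]
    rintro J ⟨hJh, hIJ, hJp⟩
    by_contra hgJ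
    have hnot : ¬ HomogeneousIdeal.irrelevant 𝒜 ≤ ⟨J, hJh⟩ := by
      intro hle
      exact hgJ (hle hg)
    let x : Proj 𝒜 := (⟨⟨J, hJh⟩, hJp, hnot⟩ : ProjectiveSpectrum 𝒜)
    have hx : x ∈ (⨆ i, Proj.basicOpen 𝒜 (f i)) := by rw [hcov]; trivial
    rw [TopologicalSpace.Opens.mem_iSup] at hx
    obtain ⟨i, hi⟩ := hx
    rw [Proj.mem_basicOpen] at hi
    exact hi (hIJ (Ideal.subset_span ⟨i, rfl⟩))
  · intro hle
    refine top_le_iff.mp fun x _ => TopologicalSpace.Opens.mem_iSup.mpr ?_
    by_contra H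
    push Not at H
    simp only [Proj.mem_basicOpen, not_not] at H
    apply x.not_irrelevant_le
    intro g hg
    have h1 : Ideal.span (Set.range f) ≤ x.asHomogeneousIdeal.toIdeal := by
      rw [Ideal.span_le]
      rintro _ ⟨i, rfl⟩
      exact H i
    have h2 : (Ideal.span (Set.range f)).radical ≤ x.asHomogeneousIdeal.toIdeal :=
      (Ideal.IsPrime.radical_le_iff x.isPrime).2 h1
    exact h2 (hle hg)

end Groth.Agent.S3559
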