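import Groth.Statements.S3560
import Groth.Agent.S3558

set_option autoImplicit false
universe u
open CategoryTheory CategoryTheory.Limits AlgebraicGeometry
open EGA2

namespace Groth.Agent.S3560

lemma graded_le_irrelevant_pow {R A : Type u} [CommRing R] [CommRing A] [Algebra R A] (𝒜 : ℕ → Submodule R A) [GradedAlgebra 𝒜]
    (T : Finset A) (deg : A → ℕ) (hdeg : ∀ t ∈ T, t ∈ 𝒜 (deg t)) (D : ℕ) (hD : ∀ t ∈ T, deg t ≤ D)
    (hspan : (HomogeneousIdeal.irrelevant 𝒜).toIdeal = Ideal.span (T : Set A)) :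
    ∀ m k : ℕ, m * D < k → ∀ x ∈ 𝒜 k, x ∈ (HomogeneousIdeal.irrelevant 𝒜).toIdeal ^ (m + 1) := by
  classical
  intro m
  induction m with
  | zero =>
    intro k hk x hx
    rw [zero_add, pow_one]
    exact HomogeneousIdeal.mem_irrelevant_of_mem _ (by omega) hx
  | succ m ih =>
    intro k hk x hx
    have hx1 : x ∈ (HomogeneousIdeal.irrelevant 𝒜).toIdeal :=
      HomogeneousIdeal.mem_irrelevant_of_mem _ (by omega) hx
    rw [hspan] at hx1
    obtain ⟨c, -, hc⟩ := Submodule.mem_span_finset.1 hx1
    have key : x = ∑ t ∈ T, (DirectSum.decompose 𝒜 (c t) (k - deg t) : A) * t := by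
      conv_lhs => rw [← DirectSum.decompose_of_mem_same 𝒜 hx, ← hc]
      rw [DirectSum.decompose_sum, DFinsupp.finsetSum_apply, AddSubmonoidClass.coe_finsetSum]
      apply Finset.sum_congr rfl
      intro t ht
      rw [smul_eq_mul]
      apply DirectSum.coe_decompose_mul_of_right_mem_of_le 𝒜 (hdeg t ht)
      have := hD t ht
      nlinarith
    rw [key]
    apply Ideal.sum_mem
    intro t ht
    rw [pow_succ]
    apply Ideal.mul_mem_mul
    · apply ih (k - deg t) _ _ (SetLike.coe_mem _)
      have := hD t ht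
      have h2 : (m + 1) * D = m * D + D := by ring
      omega
    · rw [hspan]; exact Ideal.subset_span ht

/-- Let S be a graded ring whose irrelevant ideal S_+ is finitely generated. Then Proj S is empty if and
only if there is n such that S_k = 0 for all k ≥ n. -/
theorem result {R A : Type u} [CommRing R] [CommRing A] [Algebra R A] (𝒜 : ℕ → Submodule R A) [GradedAlgebra 𝒜]
    (hfg : (HomogeneousIdeal.irrelevant 𝒜).toIdeal.FG) :
    IsEmpty (Proj 𝒜) ↔ ∃ n : ℕ, ∀ k : ℕ, n ≤ k → 𝒜 k = ⊥ := by
  classical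
  rw [Groth.Agent.S3558.result]
  constructor
  · intro h
    have hnil : (HomogeneousIdeal.irrelevant 𝒜).toIdeal ≤ nilradical A := by
      intro f hf
      exact mem_nilradical.2 (h f hf)
    obtain ⟨N, hN⟩ := (Ideal.FG.isNilpotent_iff_le_nilradical hfg).2 hnil
    obtain ⟨G, hG⟩ := hfg
    -- homogeneous generators
    let T : Finset A := G.biUnion (fun g => ((DirectSum.decompose 𝒜 g).support).image
      (fun i => (DirectSum.decompose 𝒜 g i : A)))
    have hT : ∀ t ∈ T, ∃ i, t ∈ 𝒜 i := by
      intro t ht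
      obtain ⟨g, -, ht⟩ := Finset.mem_biUnion.1 ht
      obtain ⟨i, -, rfl⟩ := Finset.mem_image.1 ht
      exact ⟨i, SetLike.coe_mem _⟩
    choose! deg hdeg using hT
    have hspan : (HomogeneousIdeal.irrelevant 𝒜).toIdeal = Ideal.span (T : Set A) := by
      apply le_antisymm
      · rw [← hG, Ideal.span_le]
        intro g hg
        rw [SetLike.mem_coe, ← DirectSum.sum_support_decompose 𝒜 g]
        apply Ideal.sum_mem
        intro i hi
        apply Ideal.subset_span
        exact Finset.mem_coe.2 (Finset.mem_biUnion.2 ⟨g, hg, Finset.mem_image.2 ⟨i, hi, rfl⟩⟩)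
      · rw [Ideal.span_le]
        intro t ht
        obtain ⟨g, hg, ht⟩ := Finset.mem_biUnion.1 (Finset.mem_coe.1 ht)
        obtain ⟨i, -, rfl⟩ := Finset.mem_image.1 ht
        have hgI : g ∈ (HomogeneousIdeal.irrelevant 𝒜).toIdeal := by
          rw [← hG]; exact Ideal.subset_span hg
        exact (HomogeneousIdeal.irrelevant 𝒜).isHomogeneous i hgI
    refine ⟨N * T.sup deg + 1, fun k hk => ?_⟩
    rw [eq_bot_iff]
    intro x hx
    have h1 := graded_le_irrelevant_pow 𝒜 T deg hdeg (T.sup deg) (fun t ht => Finset.le_sup ht) hspan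
      N k (by omega) x hx
    have h2 := Ideal.pow_le_pow_right (I := (HomogeneousIdeal.irrelevant 𝒜).toIdeal) (Nat.le_succ N) h1
    rw [hN] at h2
    simpa using h2
  · rintro ⟨n, hn⟩ f hf
    rw [← mem_nilradical, ← DirectSum.sum_support_decompose 𝒜 f]
    apply Ideal.sum_mem
    intro i _
    rw [mem_nilradical]
    by_cases hi : i = 0
    · subst hi
      have : (DirectSum.decompose 𝒜 f 0 : A) = 0 := (HomogeneousIdeal.mem_irrelevant_iff 𝒜 f).1 hf
      rw [this]
      exact IsNilpotent.zero
    · refine ⟨n, ?_⟩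
      have h1 : (DirectSum.decompose 𝒜 f i : A) ^ n ∈ 𝒜 (n • i) :=
        SetLike.pow_mem_graded n (SetLike.coe_mem _)
      have h2 : n ≤ n • i := by
        rw [smul_eq_mul]
        exact Nat.le_mul_of_pos_right n (Nat.pos_of_ne_zero hi)
      rw [hn _ h2] at h1
      simpa using h1

end Groth.Agent.S3560
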