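import Groth.Statements.S3562
import Mathlib
import Groth.Agent.S15549
import Groth.Agent.S3548
import Groth.Agent.S3549

set_option autoImplicit false
universe u
open CategoryTheory CategoryTheory.Limits AlgebraicGeometry
open EGA2

namespace Groth.Agent.S3562


open TopologicalSpace Opposite

section Aux

variable {R A : Type u} [CommRing R] [CommRing A] [Algebra R A] (𝒜 : ℕ → Submodule R A)
  [GradedAlgebra 𝒜] {M : Type u} [AddCommGroup M] [Module R M] [Module A M] [IsScalarTower R A M]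
  (ℳ : ℕ → Submodule R M) [DirectSum.Decomposition ℳ] [SetLike.GradedSMul 𝒜 ℳ]

omit [IsScalarTower R A M] [SetLike.GradedSMul 𝒜 ℳ] in
theorem pr_of_mem (k : ℕ) (x : M) (hx : x ∈ ℳ k) : Groth.Agent.S15549.pr ℳ k x = x := by
  rw [Groth.Agent.S15549.pr_apply, DirectSum.decompose_of_mem_same ℳ hx]

omit [IsScalarTower R A M] in
theorem pr_smul (e k : ℕ) (hek : e ≤ k) (w : M) (hw : w ∈ ℳ e) (a : A) :
    Groth.Agent.S15549.pr ℳ k (a • w) = ((DirectSum.decompose 𝒜 a (k - e) : A)) • w := by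
  classical
  have hmem : ∀ j' : ℕ, ((DirectSum.decompose 𝒜 a j' : A)) • w ∈ ℳ (j' + e) := fun j' =>
    SetLike.GradedSMul.smul_mem (DirectSum.decompose 𝒜 a j').2 hw
  have hsum : a • w = ∑ j' ∈ (DirectSum.decompose 𝒜 a).support,
      ((DirectSum.decompose 𝒜 a j' : A)) • w := by
    rw [← Finset.sum_smul, DirectSum.sum_support_decompose 𝒜 a]
  rw [hsum, map_sum, Finset.sum_eq_single (k - e)]
  · have h1 : ((DirectSum.decompose 𝒜 a (k - e) : A)) • w ∈ ℳ k := by
      have := hmem (k - e)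
      rwa [Nat.sub_add_cancel hek] at this
    rw [Groth.Agent.S15549.pr_apply, DirectSum.decompose_of_mem_same ℳ h1]
  · intro j' _ hj'
    rw [Groth.Agent.S15549.pr_apply,
      DirectSum.decompose_of_mem_ne ℳ (hmem j') (by omega : j' + e ≠ k)]
  · intro hj
    have h0 : DirectSum.decompose 𝒜 a (k - e) = 0 := DFinsupp.notMem_support_iff.mp hj
    rw [h0, ZeroMemClass.coe_zero, zero_smul, map_zero]

theorem piece_le_pow
    (hgen : (HomogeneousIdeal.irrelevant 𝒜).toIdeal = Ideal.span (𝒜 1 : Set A)) :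
    ∀ (j : ℕ) (a : A), a ∈ 𝒜 j → a ∈ (HomogeneousIdeal.irrelevant 𝒜).toIdeal ^ j := by
  intro j
  induction j with
  | zero =>
    intro a _
    rw [pow_zero, Ideal.one_eq_top]
    exact Submodule.mem_top
  | succ j ih =>
    intro a ha
    have h1 : a ∈ (HomogeneousIdeal.irrelevant 𝒜).toIdeal :=
      HomogeneousIdeal.mem_irrelevant_of_mem 𝒜 (Nat.succ_pos j) ha
    rw [hgen] at h1
    obtain ⟨m, f, g, hsum⟩ := Submodule.mem_span_set'.mp h1
    have h3 := congrArg (Groth.Agent.S15549.pr 𝒜 (j + 1)) hsum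
    rw [map_sum] at h3
    have h4 : Groth.Agent.S15549.pr 𝒜 (j + 1) a = a := by
      rw [Groth.Agent.S15549.pr_apply, DirectSum.decompose_of_mem_same 𝒜 ha]
    rw [h4] at h3
    rw [← h3]
    refine Ideal.sum_mem _ (fun i _ => ?_)
    have h5 : Groth.Agent.S15549.pr 𝒜 (j + 1) (f i • (g i : A)) =
        (DirectSum.decompose 𝒜 (f i) j : A) * (g i : A) := by
      rw [Groth.Agent.S15549.pr_apply, smul_eq_mul]
      have h6 := DirectSum.coe_decompose_mul_of_right_mem_of_le 𝒜 (a := f i) (g i).2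
        (Nat.succ_le_succ (Nat.zero_le j))
      rw [Nat.succ_sub_one] at h6
      exact h6
    rw [h5, pow_succ]
    refine Ideal.mul_mem_mul (ih _ (SetLike.coe_mem _)) ?_
    rw [hgen]
    exact Ideal.subset_span (g i).2

theorem forward (hfg : (HomogeneousIdeal.irrelevant 𝒜).toIdeal.FG)
    (hgen : (HomogeneousIdeal.irrelevant 𝒜).toIdeal = Ideal.span (𝒜 1 : Set A))
    (hTF : ∃ n : ℕ, (Submodule.span A (⋃ k ∈ Set.Ici n, (ℳ k : Set M))).FG)
    (h : IsZero (GrTilde.tilde 𝒜 ℳ 0)) : ∃ n : ℕ, ∀ k : ℕ, n ≤ k → ℳ k = ⊥ := by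
  classical
  obtain ⟨n₀, hN⟩ := hTF
  obtain ⟨W, hWsub, hWspan⟩ := (Submodule.fg_span_iff_fg_span_finset_subset _).mp hN
  have hW : ∀ w ∈ W, ∃ e K : ℕ, w ∈ ℳ e ∧
      (HomogeneousIdeal.irrelevant 𝒜).toIdeal ^ K ≤ Ideal.torsionOf A M w := by
    intro w hw
    have h1 := hWsub hw
    obtain ⟨e, he, hwe⟩ := Set.mem_iUnion₂.mp h1
    have hle := Groth.Agent.S3549.homog_case 𝒜 ℳ hgen h e w hwe
    obtain ⟨K, hK⟩ := Ideal.exists_pow_le_of_le_radical_of_fg hle hfg
    exact ⟨e, K, hwe, hK⟩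
  choose! e K hWe using hW
  refine ⟨n₀ + W.sup e + W.sup K, fun k hk => ?_⟩
  rw [eq_bot_iff]
  intro x hx
  rw [Submodule.mem_bot]
  have hx1 : x ∈ Submodule.span A (⋃ k ∈ Set.Ici n₀, (ℳ k : Set M)) :=
    Submodule.subset_span (Set.mem_iUnion₂.mpr ⟨k, (by
      show n₀ ≤ k
      omega), hx⟩)
  rw [hWspan] at hx1
  obtain ⟨a, -, ha⟩ := Submodule.mem_span_finset.mp hx1
  calc x = Groth.Agent.S15549.pr ℳ k x := (pr_of_mem ℳ k x hx).symm
    _ = ∑ w ∈ W, Groth.Agent.S15549.pr ℳ k (a w • w) := by rw [← ha, map_sum]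
    _ = 0 := by
      refine Finset.sum_eq_zero (fun w hw => ?_)
      obtain ⟨hwe, hwK⟩ := hWe w hw
      have he_le : e w ≤ W.sup e := Finset.le_sup hw
      have hK_le : K w ≤ W.sup K := Finset.le_sup hw
      rw [pr_smul 𝒜 ℳ (e w) k (by omega) w hwe (a w)]
      apply (Ideal.mem_torsionOf_iff _ _).mp
      apply hwK
      apply Ideal.pow_le_pow_right (show K w ≤ k - e w by omega)
      exact piece_le_pow 𝒜 hgen _ _ (SetLike.coe_mem _)

theorem backward (hn : ∃ n : ℕ, ∀ k : ℕ, n ≤ k → ℳ k = ⊥) :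
    IsZero (GrTilde.tilde 𝒜 ℳ 0) := by
  obtain ⟨n, hn⟩ := hn
  apply Groth.Agent.S3548.result 𝒜 ℳ
  intro z d f hd hf
  refine DirectSum.Decomposition.inductionOn ℳ ?_ ?_ ?_ z
  · exact ⟨0, smul_zero _⟩
  · intro i m
    refine ⟨n, ?_⟩
    have h1 : f ^ n • (m : M) ∈ ℳ (n • d + i) :=
      SetLike.GradedSMul.smul_mem (SetLike.pow_mem_graded n hf) m.2
    have h2 : n ≤ n • d + i := by
      rw [smul_eq_mul]
      exact le_trans (Nat.le_mul_of_pos_right n hd) (Nat.le_add_right _ _)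
    rw [hn _ h2] at h1
    exact (Submodule.mem_bot R).mp h1
  · rintro m m' ⟨k, hk⟩ ⟨k', hk'⟩
    refine ⟨k + k', ?_⟩
    have h1 : f ^ (k + k') • m = 0 := by rw [pow_add, mul_comm, mul_smul, hk, smul_zero]
    have h2 : f ^ (k + k') • m' = 0 := by rw [pow_add, mul_smul, hk', smul_zero]
    rw [smul_add, h1, h2, add_zero]

end Aux


/-- Let S be a graded ring whose irrelevant ideal S_+ is finitely generated and generated by the
degree-one elements, and M a graded S-module satisfying (TF) (some tail of M generates a finitely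
generated submodule). Then M~ = 0 on Proj S if and only if M satisfies (TN): M_k = 0 for all
sufficiently large k. (The published statement assumes only that S_+ is finitely generated; the
statement then fails when S_+ has no system of degree-one generators, e.g. S = k[t] with t of degree
2 and M = S shifted into odd degrees, whose M~ vanishes although no M_k does. Stated here with S_+
generated by degree-one elements, where the published proof applies.) -/
theorem result {R A : Type u} [CommRing R] [CommRing A] [Algebra R A] (𝒜 : ℕ → Submodule R A) [GradedAlgebra 𝒜]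
    (hfg : (HomogeneousIdeal.irrelevant 𝒜).toIdeal.FG)
    (hgen : (HomogeneousIdeal.irrelevant 𝒜).toIdeal = Ideal.span (𝒜 1 : Set A))
    {M : Type u} [AddCommGroup M] [Module R M] [Module A M] [IsScalarTower R A M] (ℳ : ℕ → Submodule R M) [DirectSum.Decomposition ℳ] [SetLike.GradedSMul 𝒜 ℳ]
    (hTF : ∃ n : ℕ, (Submodule.span A (⋃ k ∈ Set.Ici n, (ℳ k : Set M))).FG) :
    IsZero (GrTilde.tilde 𝒜 ℳ 0) ↔ ∃ n : ℕ, ∀ k : ℕ, n ≤ k → ℳ k = ⊥ :=
  ⟨forward 𝒜 ℳ hfg hgen hTF, backward 𝒜 ℳ⟩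

end Groth.Agent.S3562
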