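import Groth.Statements.S3563
import Mathlib

set_option autoImplicit false
universe u
open CategoryTheory CategoryTheory.Limits AlgebraicGeometry
open EGA2

namespace Groth.Agent.S3563


/-- Let φ : S → S' be a surjective homomorphism of graded rings (graded algebras over a base ring R).
Then the induced morphism Proj S' → Proj S is defined everywhere and is a closed immersion. The
hypothesis that the irrelevant ideal of S' is contained in the extension of the irrelevant ideal of
S, needed to define the morphism on all of Proj S', is carried explicitly; it follows from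
surjectivity. This is the case of a surjective φ; the published statement is more general. -/
theorem result {R A : Type u} [CommRing R] [CommRing A] [Algebra R A] (𝒜 : ℕ → Submodule R A) [GradedAlgebra 𝒜]
    {B : Type u} [CommRing B] [Algebra R B] (ℬ : ℕ → Submodule R B) [GradedAlgebra ℬ]
    (φ : 𝒜 →+*ᵍ ℬ) (hsurj : Function.Surjective φ)
    (hφ : HomogeneousIdeal.irrelevant ℬ ≤ (HomogeneousIdeal.irrelevant 𝒜).map φ) :
    IsClosedImmersion (Proj.map φ hφ) := by
  classical
  apply IsZariskiLocalAtTarget.of_iSup_eq_top (P := @IsClosedImmersion)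
    (fun s : (Proj.affineOpenCover 𝒜).I₀ => Proj.basicOpen 𝒜 s.2.1)
  · apply Proj.iSup_basicOpen_eq_top
    intro z hz
    rw [← DirectSum.sum_support_decompose 𝒜 z]
    refine Ideal.sum_mem _ fun c hc ↦ if hc0 : c = 0 then ?_ else
      Ideal.subset_span ⟨⟨⟨c, Nat.pos_iff_ne_zero.mpr hc0⟩, _⟩, rfl⟩
    subst hc0
    have : (DirectSum.decompose 𝒜 z 0 : A) = 0 := (HomogeneousIdeal.mem_irrelevant_iff 𝒜 z).1 hz
    rw [this]
    exact Ideal.zero_mem _
  · intro s
    obtain ⟨⟨i, hi⟩, ⟨s, hs⟩⟩ := s
    change s ∈ 𝒜 i at hs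
    simp only
    have hsurj' : Function.Surjective (HomogeneousLocalization.Away.map φ s) := by
      intro x
      obtain ⟨n, b, hb, rfl⟩ := HomogeneousLocalization.Away.mk_surjective ℬ (φ.map_mem hs) x
      obtain ⟨a, rfl⟩ := hsurj b
      refine ⟨HomogeneousLocalization.Away.mk 𝒜 hs n (DirectSum.decompose 𝒜 a (n • i)) (SetLike.coe_mem _), ?_⟩
      rw [HomogeneousLocalization.Away.map_mk]
      congr 1
      rw [GradedRingHom.map_directSumDecompose, DirectSum.decompose_of_mem_same ℬ hb]
    have h1 := IsClosedImmersion.spec_of_surjective (CommRingCat.ofHom (HomogeneousLocalization.Away.map φ s)) hsurj'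
    have hle : Proj.basicOpen ℬ (φ s) ≤ Proj.map φ hφ ⁻¹ᵁ Proj.basicOpen 𝒜 s :=
      (Proj.map_preimage_basicOpen φ hφ s).ge
    have e : (Proj.basicOpenIsoSpec ℬ (φ s) (φ.map_mem hs) hi).inv ≫
        ((Proj.map φ hφ).resLE (Proj.basicOpen 𝒜 s) (Proj.basicOpen ℬ (φ s)) hle) ≫
        (Proj.basicOpenIsoSpec 𝒜 s hs hi).hom = Spec.map (CommRingCat.ofHom (HomogeneousLocalization.Away.map φ s)) := by
      rw [← cancel_mono ((Proj.basicOpenIsoSpec 𝒜 s hs hi).inv ≫ (Proj.basicOpen 𝒜 s).ι)]
      simp only [Category.assoc, Iso.hom_inv_id_assoc, Scheme.Hom.resLE_comp_ι]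
      rw [Proj.basicOpenIsoSpec_inv_ι, ← Proj.awayι_comp_map φ hφ hi s hs, ← Category.assoc,
        Proj.basicOpenIsoSpec_inv_ι]
    rw [← e] at h1
    rw [MorphismProperty.cancel_left_of_respectsIso (P := @IsClosedImmersion),
      MorphismProperty.cancel_right_of_respectsIso (P := @IsClosedImmersion)] at h1
    have h2 : (Proj.map φ hφ).resLE (Proj.basicOpen 𝒜 s) (Proj.basicOpen ℬ (φ s)) hle =
        (Proj ℬ).homOfLE hle ≫ (Proj.map φ hφ ∣_ Proj.basicOpen 𝒜 s) := rfl
    rw [h2] at h1
    have : IsIso ((Proj ℬ).homOfLE hle) := by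
      have : (Proj ℬ).homOfLE hle = (Scheme.isoOfEq _ (Proj.map_preimage_basicOpen φ hφ s).symm).hom := rfl
      rw [this]; infer_instance
    rwa [MorphismProperty.cancel_left_of_respectsIso (P := @IsClosedImmersion)] at h1

end Groth.Agent.S3563
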