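import Groth.Statements.S3567
import Mathlib

set_option autoImplicit false
universe u
open CategoryTheory CategoryTheory.Limits AlgebraicGeometry
open EGA2

namespace Groth.Agent.S3567


/-- Let h : U → V be a surjective morphism of schemes such that the map of sheaves of rings O_V → h_*O_U
is an isomorphism and the underlying space of V carries the quotient topology of that of U. Then for
every scheme W, composition with h is a bijection from the morphisms V → W onto the morphisms U → W
whose underlying map is constant on each fibre of h. -/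
theorem result {U V : Scheme.{u}} (h : U ⟶ V) [Surjective h]
    [IsIso h.c] (hq : Topology.IsQuotientMap h.base) (W : Scheme.{u}) :
    (∀ v₁ v₂ : V ⟶ W, h ≫ v₁ = h ≫ v₂ → v₁ = v₂) ∧
      ∀ u : U ⟶ W, (∀ x y : U, h.base x = h.base y → u.base x = u.base y) → ∃ v : V ⟶ W, h ≫ v = u := by
  have hsurj : Function.Surjective h.base := h.surjective
  have happ : ∀ O : V.Opens, IsIso (h.app O) := fun O => by
    show IsIso (h.c.app (Opposite.op O)); infer_instance
  constructor
  · intro v₁ v₂ e
    have hb : v₁.base = v₂.base := by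
      have : Epi h.base := (TopCat.epi_iff_surjective _).2 hsurj
      rw [← cancel_epi h.base, ← Scheme.Hom.comp_base, ← Scheme.Hom.comp_base, e]
    apply Scheme.Hom.ext hb
    intro O
    have hO : h ⁻¹ᵁ v₁ ⁻¹ᵁ O = h ⁻¹ᵁ v₂ ⁻¹ᵁ O := by rw [hb]
    have e1 : v₁.app O ≫ h.app (v₁ ⁻¹ᵁ O) =
        v₂.app O ≫ h.app (v₂ ⁻¹ᵁ O) ≫ U.presheaf.map (eqToHom hO).op := by
      have := Scheme.Hom.congr_app e O
      simp only [Scheme.Hom.comp_app, Category.assoc] at this
      exact this
    rw [← cancel_mono (h.app (v₂ ⁻¹ᵁ O))]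
    rw [Category.assoc, Scheme.Hom.naturality, ← Category.assoc, e1]
    simp only [Category.assoc, ← Functor.map_comp]
    have : ∀ (P : (TopologicalSpace.Opens U)ᵒᵖ) (f : P ⟶ P), U.presheaf.map f = 𝟙 _ := by
      intro P f
      rw [Subsingleton.elim f (𝟙 P)]; simp
    rw [this, Category.comp_id]
  · intro u hu
    let v₀ : C(V, W) := hq.lift u.base.hom (fun x y hxy => hu x y hxy)
    have hv₀ : ∀ x, v₀ (h.base x) = u.base x := fun x => by
      have := hq.lift_comp u.base.hom (fun x y hxy => hu x y hxy)
      exact congrArg (fun f => f x) this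
    let vb : V.carrier ⟶ W.carrier := TopCat.ofHom v₀
    have hbase : h.base ≫ vb = u.base := by
      ext x; exact hv₀ x
    let c : W.presheaf ⟶ vb _* V.presheaf :=
      u.c ≫ (TopCat.Presheaf.pushforwardEq hbase.symm U.presheaf).hom ≫
        (TopCat.Presheaf.pushforward _ vb).map (inv h.c)
    let v' : V.toPresheafedSpace ⟶ W.toPresheafedSpace := ⟨vb, c⟩
    have hv' : h.toPshHom ≫ v' = u.toPshHom := by
      refine PresheafedSpace.ext _ _ hbase ?_
      refine NatTrans.ext (funext fun O => ?_)
      erw [NatTrans.comp_app, PresheafedSpace.comp_c_app]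
      erw [NatTrans.comp_app, NatTrans.comp_app]
      simp only [Functor.whiskerRight_app,
        TopCat.Presheaf.pushforwardEq_hom_app, TopCat.Presheaf.pushforward_map_app',
        NatIso.isIso_inv_app, Category.assoc, IsIso.inv_hom_id_assoc]
      have hinv : ∀ P, (inv h.c).app P ≫ h.c.app P = 𝟙 _ := fun P => by
        rw [← NatTrans.comp_app, IsIso.inv_hom_id]; rfl
      have hid : ∀ (P : (TopologicalSpace.Opens U)ᵒᵖ) (f : P ⟶ P), U.presheaf.map f = 𝟙 _ := by
        intro P f
        rw [Subsingleton.elim f (𝟙 P)]; simp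
      change (u.c.app O ≫ (U.presheaf.map (eqToHom _) ≫ (inv h.c).app (Opposite.op ((TopologicalSpace.Opens.map vb).obj (Opposite.unop O)))) ≫
        h.c.app (Opposite.op ((TopologicalSpace.Opens.map vb).obj (Opposite.unop O)))) ≫ U.presheaf.map _ = u.c.app O
      simp only [Category.assoc]
      rw [reassoc_of% hinv]
      erw [← Functor.map_comp, hid]
      exact Category.comp_id _
    have hprop : ∀ x, IsLocalHom (v'.stalkMap x).hom := by
      intro x
      obtain ⟨y, rfl⟩ := hsurj x
      have h1 := PresheafedSpace.stalkMap.comp h.toPshHom v' y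
      have h2 := PresheafedSpace.stalkMap.congr_hom _ _ hv' y
      have h3 : IsLocalHom ((h.toPshHom ≫ v').stalkMap y).hom := by
        rw [h2, CommRingCat.hom_comp]
        have i1 : IsLocalHom (u.toPshHom.stalkMap y).hom := u.toLRSHom.prop y
        have i2 : IsLocalHom (eqToHom (show W.presheaf.stalk ((h.toPshHom ≫ v').base y) =
            W.presheaf.stalk (u.toPshHom.base y) by rw [hv'])).hom := isLocalHom_of_isIso _
        exact RingHom.isLocalHom_comp _ _
      refine ⟨fun a ha => ?_⟩
      have ha' : IsUnit ((h.toPshHom.stalkMap y).hom ((v'.stalkMap (h.base y)).hom a)) := ha.map _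
      have e : ((h.toPshHom ≫ v').stalkMap y).hom a =
          (h.toPshHom.stalkMap y).hom ((v'.stalkMap (h.base y)).hom a) := by
        rw [h1]; rfl
      rw [← e] at ha'
      exact h3.map_nonunit a ha'
    refine ⟨⟨⟨v', hprop⟩⟩, ?_⟩
    apply Scheme.Hom.ext'
    apply LocallyRingedSpace.Hom.ext'
    exact hv'

end Groth.Agent.S3567
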