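import Groth.Statements.S3569
import Mathlib

set_option autoImplicit false
universe u
open CategoryTheory CategoryTheory.Limits AlgebraicGeometry
open EGA2

namespace Groth.Agent.S3569

lemma L1 {X Y : Scheme.{u}} (k : Y ⟶ X) (U : X.Opens) (hU : IsAffineOpen U) (V : Y.Opens)
    (hle : V ≤ k ⁻¹ᵁ U) :
    V.ι ≫ k = V.toSpecΓ ≫ Spec.map (k.appLE U V hle) ≫ hU.fromSpec := by
  rw [Scheme.Opens.toSpecΓ_SpecMap_appLE_assoc, hU.toSpecΓ_fromSpec, Scheme.Hom.resLE_comp_ι]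

lemma L2 {Y : Scheme.{u}} (V : Y.Opens) (A : CommRingCat.{u}) (φ ψ : A ⟶ Γ(Y, V))
    (e : V.toSpecΓ ≫ Spec.map φ = V.toSpecΓ ≫ Spec.map ψ) : φ = ψ := by
  have e1 := congrArg (fun t => t.appTop) e
  simp only [Scheme.Hom.comp_appTop, Scheme.Opens.toSpecΓ_appTop] at e1
  rw [← Category.assoc, ← Category.assoc, Scheme.ΓSpecIso_naturality, Scheme.ΓSpecIso_naturality] at e1
  have e2 := (cancel_mono _).mp e1
  exact (cancel_epi _).mp e2

lemma algHom_app {X Y S : Scheme.{u}} (f : X ⟶ S) (g : Y ⟶ S) (h : Y ⟶ X) (w : h ≫ f = g)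
    (O : S.Opens) (hle : g ⁻¹ᵁ O ≤ h ⁻¹ᵁ f ⁻¹ᵁ O) :
    (AffAlg.algHom f g h w).app (Opposite.op O) =
      h.appLE (f ⁻¹ᵁ O) (g ⁻¹ᵁ O) hle := by
  subst w
  change ((TopCat.Presheaf.pushforward CommRingCat.{u} f.base).map h.c ≫ 𝟙 _).app (Opposite.op O) =
    h.app (f ⁻¹ᵁ O) ≫ Y.presheaf.map (𝟙 (Opposite.op (h ⁻¹ᵁ f ⁻¹ᵁ O)))
  rw [Category.comp_id, Y.presheaf.map_id, Category.comp_id]
  rfl

noncomputable abbrev preCover {Y S : Scheme.{u}} (g : Y ⟶ S) : Y.OpenCover where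
  I₀ := S.affineOpens
  X O := g ⁻¹ᵁ O.1
  f O := (g ⁻¹ᵁ O.1).ι
  mem₀ := by
    rw [Scheme.presieve₀_mem_precoverage_iff]
    refine ⟨fun y ↦ ?_, inferInstance⟩
    have hx : g y ∈ ⨆ O : S.affineOpens, O.1 := by
      rw [iSup_affineOpens_eq_top S]
      trivial
    rw [TopologicalSpace.Opens.mem_iSup] at hx
    obtain ⟨i, hi⟩ := hx
    use i
    simpa using hi

lemma preCover_le {Y S : Scheme.{u}} (g : Y ⟶ S) {i j : S.affineOpens} (hij : i ⟶ j) :
    g ⁻¹ᵁ i.1 ≤ g ⁻¹ᵁ j.1 :=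
  fun _ hy => (leOfHom hij : i.1 ≤ j.1) hy

noncomputable instance {Y S : Scheme.{u}} (g : Y ⟶ S) : (preCover g).LocallyDirected where
  trans {i j} hij := Y.homOfLE (preCover_le g hij)
  trans_id i := Y.homOfLE_rfl _
  trans_comp hij hjk := (Y.homOfLE_homOfLE _ _).symm
  w hij := Y.homOfLE_ι _
  directed {i j} x := by
    have hp' : pullback.fst ((preCover g).f i) ((preCover g).f j) ≫ (preCover g).f i =
        pullback.snd ((preCover g).f i) ((preCover g).f j) ≫ (preCover g).f j :=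
      pullback.condition
    have h1 : (pullback.fst ((preCover g).f i) ((preCover g).f j) ≫ (preCover g).f i) x ∈
        g ⁻¹ᵁ i.1 := by
      have : (pullback.fst ((preCover g).f i) ((preCover g).f j) ≫ (preCover g).f i) x ∈
          ((preCover g).f i).opensRange := ⟨(pullback.fst ((preCover g).f i) ((preCover g).f j)) x, rfl⟩
      simpa using this
    have h2 : (pullback.fst ((preCover g).f i) ((preCover g).f j) ≫ (preCover g).f i) x ∈
        g ⁻¹ᵁ j.1 := by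
      have : (pullback.fst ((preCover g).f i) ((preCover g).f j) ≫ (preCover g).f i) x ∈
          ((preCover g).f j).opensRange := ⟨(pullback.snd ((preCover g).f i) ((preCover g).f j)) x, by rw [hp']; rfl⟩
      simpa using this
    have h3 : g ((pullback.fst ((preCover g).f i) ((preCover g).f j) ≫ (preCover g).f i) x) ∈
        i.1 ⊓ j.1 := ⟨h1, h2⟩
    obtain ⟨k, hk, hxk, hkle⟩ :=
      TopologicalSpace.Opens.isBasis_iff_nbhd.mp S.isBasis_affineOpens h3
    obtain ⟨z, hz⟩ : ∃ z : ((preCover g).X ⟨k, hk⟩), ((preCover g).f ⟨k, hk⟩) z =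
        (pullback.fst ((preCover g).f i) ((preCover g).f j) ≫ (preCover g).f i) x :=
      ⟨⟨_, hxk⟩, rfl⟩
    refine ⟨⟨k, hk⟩, homOfLE (show (⟨k, hk⟩ : S.affineOpens) ≤ i from hkle.trans inf_le_left),
      homOfLE (show (⟨k, hk⟩ : S.affineOpens) ≤ j from hkle.trans inf_le_right), z, ?_⟩
    apply (pullback.fst ((preCover g).f i) ((preCover g).f j) ≫
      (preCover g).f i).isOpenEmbedding.injective
    rw [← Scheme.Hom.comp_apply, pullback.lift_fst_assoc, Y.homOfLE_ι]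
    exact hz
  property_trans hij := by
    dsimp only
    infer_instance

lemma affOpen {S : Scheme.{u}} (O : S.affineOpens) : IsAffineOpen O.1 := O.2

lemma affOpenPre {X S : Scheme.{u}} (f : X ⟶ S) [IsAffineHom f] (O : S.affineOpens) :
    IsAffineOpen (f ⁻¹ᵁ O.1) := O.2.preimage f

/-- Let f : X → S be an affine morphism and g : Y → S any morphism. Then h ↦ A(h) = f_*(h^♯) is a
bijection from the set of S-morphisms Y → X onto the set of O_S-algebra homomorphisms f_*O_X →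
g_*O_Y (morphisms of sheaves of rings compatible with the structure maps from O_S). -/
theorem result {X Y S : Scheme.{u}} (f : X ⟶ S) [IsAffineHom f] (g : Y ⟶ S) :
    Function.Bijective (AffAlg.algOf f g) := by
  constructor
  · rintro ⟨h₁, w₁⟩ ⟨h₂, w₂⟩ e
    have e' : AffAlg.algHom f g h₁ w₁ = AffAlg.algHom f g h₂ w₂ := congrArg Subtype.val e
    apply Subtype.ext
    change h₁ = h₂
    apply Scheme.hom_ext_of_forall
    intro y
    obtain ⟨O, hO, hyO, -⟩ := TopologicalSpace.Opens.isBasis_iff_nbhd.mp S.isBasis_affineOpens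
      (show g y ∈ (⊤ : S.Opens) from trivial)
    refine ⟨g ⁻¹ᵁ O, hyO, ?_⟩
    have hle₁ : g ⁻¹ᵁ O ≤ h₁ ⁻¹ᵁ f ⁻¹ᵁ O := by rw [← w₁]; exact le_refl _
    have hle₂ : g ⁻¹ᵁ O ≤ h₂ ⁻¹ᵁ f ⁻¹ᵁ O := by rw [← w₂]; exact le_refl _
    rw [L1 h₁ (f ⁻¹ᵁ O) (affOpenPre f ⟨O, hO⟩) (g ⁻¹ᵁ O) hle₁,
      L1 h₂ (f ⁻¹ᵁ O) (affOpenPre f ⟨O, hO⟩) (g ⁻¹ᵁ O) hle₂,
      ← algHom_app f g h₁ w₁ O hle₁, ← algHom_app f g h₂ w₂ O hle₂, e']
  · rintro ⟨ω, hω⟩
    let k : ∀ O : S.affineOpens, ((preCover g).X O ⟶ X) := fun O =>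
      (g ⁻¹ᵁ O.1).toSpecΓ ≫ Spec.map (ω.app (Opposite.op O.1)) ≫ (affOpenPre f O).fromSpec
    have hk : ∀ {i j : (preCover g).I₀} (hij : i ⟶ j), (preCover g).trans hij ≫ k j = k i := by
      intro i j hij
      have hle : i.1 ≤ j.1 := leOfHom hij
      change Y.homOfLE (preCover_le g hij) ≫ (g ⁻¹ᵁ j.1).toSpecΓ ≫
        Spec.map (ω.app (Opposite.op j.1)) ≫ (affOpenPre f j).fromSpec =
        (g ⁻¹ᵁ i.1).toSpecΓ ≫ Spec.map (ω.app (Opposite.op i.1)) ≫ (affOpenPre f i).fromSpec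
      rw [← Scheme.Opens.toSpecΓ_SpecMap_presheaf_map_assoc]
      have nat := ω.naturality (homOfLE hle).op
      have nat' : ω.app (Opposite.op j.1) ≫ Y.presheaf.map (homOfLE (preCover_le g hij)).op =
          X.presheaf.map (homOfLE (f.preimage_mono hle)).op ≫ ω.app (Opposite.op i.1) := nat.symm
      rw [← Spec.map_comp_assoc, nat', Spec.map_comp_assoc,
        (affOpenPre f j).map_fromSpec (affOpenPre f i)]
    obtain ⟨h, hι⟩ : ∃ h : Y ⟶ X, ∀ O : S.affineOpens, (g ⁻¹ᵁ O.1).ι ≫ h = k O :=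
      ⟨(preCover g).glueMorphismsOfLocallyDirected k hk,
        fun O => (preCover g).map_glueMorphismsOfLocallyDirected k hk O⟩
    have w : h ≫ f = g := by
      apply (preCover g).hom_ext
      intro O
      change (g ⁻¹ᵁ O.1).ι ≫ h ≫ f = (g ⁻¹ᵁ O.1).ι ≫ g
      rw [← Category.assoc, hι O]
      change ((g ⁻¹ᵁ O.1).toSpecΓ ≫ Spec.map (ω.app (Opposite.op O.1)) ≫
        (affOpenPre f O).fromSpec) ≫ f = _
      simp only [Category.assoc]
      have e1 : (affOpenPre f O).fromSpec ≫ f = Spec.map (f.app O.1) ≫ (affOpen O).fromSpec := by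
        rw [Scheme.Hom.app_eq_appLE, IsAffineOpen.SpecMap_appLE_fromSpec]
      rw [e1, ← Spec.map_comp_assoc]
      have e2 : f.app O.1 ≫ ω.app (Opposite.op O.1) = g.app O.1 :=
        congrArg (fun t => t.app (Opposite.op O.1)) hω
      rw [e2, Scheme.Opens.toSpecΓ_naturality_assoc, IsAffineOpen.toSpecΓ_fromSpec,
        morphismRestrict_ι]
    refine ⟨⟨h, w⟩, Subtype.ext ?_⟩
    change AffAlg.algHom f g h w = ω
    refine TopCat.Sheaf.hom_ext (B := fun O : S.affineOpens => O.1) (AffAlg.alg f)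
      ((TopCat.Sheaf.pushforward CommRingCat.{u} g.base).obj Y.sheaf) ?_ ?_
    · rw [Subtype.range_coe]
      exact S.isBasis_affineOpens
    · intro O
      have hle : g ⁻¹ᵁ O.1 ≤ h ⁻¹ᵁ f ⁻¹ᵁ O.1 := by rw [← w]; exact le_refl _
      rw [algHom_app f g h w O.1 hle]
      apply L2 (g ⁻¹ᵁ O.1)
      have := L1 h (f ⁻¹ᵁ O.1) (affOpenPre f O) (g ⁻¹ᵁ O.1) hle
      rw [hι O] at this
      rw [← cancel_mono (affOpenPre f O).fromSpec]
      simp only [Category.assoc]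
      exact this.symm

end Groth.Agent.S3569
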