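import Groth.Statements.S3570
import Mathlib

set_option autoImplicit false
universe u
open CategoryTheory CategoryTheory.Limits AlgebraicGeometry
open EGA2

namespace Groth.Agent.S3570


/-- Let f : X → S and g : Y → S be affine morphisms and h : Y → X an S-morphism. Then h is an
isomorphism if and only if A(h) : f_*O_X → g_*O_Y is an isomorphism (of presheaves of rings on S). -/
theorem result {X Y S : Scheme.{u}} (f : X ⟶ S) [IsAffineHom f] (g : Y ⟶ S)
    [IsAffineHom g] (h : Y ⟶ X) (w : h ≫ f = g) :
    IsIso h ↔ IsIso (AffAlg.algHom f g h w) := by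
  subst w
  constructor
  · intro hh
    have : IsIso h.c := PresheafedSpace.c_isIso_of_iso h.toPshHom
    unfold AffAlg.algHom
    exact IsIso.comp_isIso
  · intro hiso
    have h1 : IsIso ((TopCat.Presheaf.pushforward CommRingCat.{u} f.base).map h.c) := by
      unfold AffAlg.algHom at hiso
      exact @IsIso.of_isIso_comp_right _ _ _ _ _ _ _ _ hiso
    have h2 : ∀ O : S.Opens, IsIso (h.app (f ⁻¹ᵁ O)) := by
      intro O
      have := NatIso.isIso_app_of_isIso ((TopCat.Presheaf.pushforward CommRingCat.{u} f.base).map h.c) (Opposite.op O)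
      exact this
    have h3 : ∀ V : X.Opens, (∃ O : S.Opens, V = f ⁻¹ᵁ O) → IsIso (h.app V) := by
      rintro V ⟨O, rfl⟩
      exact h2 O
    rw [← MorphismProperty.isomorphisms.iff]
    let U : S.affineOpens → X.affineOpens := fun O => ⟨f ⁻¹ᵁ O.1, O.2.preimage f⟩
    have hU : ⨆ O, ((U O : X.affineOpens) : X.Opens) = ⊤ := by
      have := iSup_affineOpens_eq_top S
      have h4 := congrArg (fun V => f ⁻¹ᵁ V) this
      simp only [Scheme.Hom.preimage_iSup, Scheme.Hom.preimage_top] at h4
      exact h4
    rw [@HasAffineProperty.iff_of_iSup_eq_top _ _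
      instHasAffinePropertyIsomorphismsSchemeAndIsAffineIsIsoCommRingCatAppTop.{u} _ _ h _ U hU]
    intro O
    refine ⟨?_, ?_⟩
    · exact (O.2.preimage (h ≫ f) : IsAffineOpen ((h ≫ f) ⁻¹ᵁ O.1))
    · rw [morphismRestrict_appTop]
      have := h3 ((U O).1.ι ''ᵁ ⊤) ⟨O.1, by rw [Scheme.Opens.ι_image_top]⟩
      have key : ∀ {A B C : CommRingCat.{u}} (a : A ⟶ B) (b : B ⟶ C), IsIso a → IsIso b → IsIso (a ≫ b) :=
        fun a b ha hb => IsIso.comp_isIso
      have key2 : ∀ (P Q : Y.Opens) (e : P = Q), IsIso (Y.presheaf.map (eqToHom e).op) := by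
        intro P Q e
        subst e
        simp only [eqToHom_refl, op_id, CategoryTheory.Functor.map_id]
        infer_instance
      exact key _ _ this (key2 _ _ _)

end Groth.Agent.S3570
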