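import Groth.Statements.S3574
import Mathlib

set_option autoImplicit false
universe u
open CategoryTheory CategoryTheory.Limits AlgebraicGeometry
open EGA2

namespace Groth.Agent.S3574

section
variable {R A : Type u} [CommRing R] [CommRing A] [Algebra R A] (𝒜 : ℕ → Submodule R A) [GradedAlgebra 𝒜]

/-- the restriction map `A → Γ(E, ⊤)` -/
noncomputable def coneφ : A →+* Γ((Cone.pointed 𝒜 : Scheme.{u}), ⊤) :=
  ((Scheme.ΓSpecIso (CommRingCat.of A)).inv ≫ (Cone.pointed 𝒜).ι.appTop).hom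

lemma cone_basicOpen (r : A) :
    (Cone.pointed 𝒜 : Scheme.{u}).basicOpen (coneφ 𝒜 r) = (Cone.pointed 𝒜).ι ⁻¹ᵁ Cone.coneOpen r := by
  have h1 := Scheme.preimage_basicOpen_top (Cone.pointed 𝒜).ι ((Scheme.ΓSpecIso (CommRingCat.of A)).inv r)
  rw [basicOpen_eq_of_affine] at h1
  exact h1.symm

lemma cone_isOpenCover : TopologicalSpace.IsOpenCover
    (fun ir : Σ' (i : ℕ) (r : A), 0 < i ∧ r ∈ 𝒜 i ↦ (Cone.pointed 𝒜 : Scheme.{u}).basicOpen (coneφ 𝒜 ir.2.1)) := by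
  classical
  rw [TopologicalSpace.IsOpenCover, eq_top_iff]
  intro p _
  have hp : (Cone.pointed 𝒜).ι p ∈ Cone.pointed 𝒜 := by
    have : (Cone.pointed 𝒜).ι p ∈ Set.range (Cone.pointed 𝒜).ι.base := ⟨p, rfl⟩
    rw [Scheme.Opens.range_ι] at this
    exact this
  have hp' : ¬ ((HomogeneousIdeal.irrelevant 𝒜).toIdeal : Set A) ⊆ ((Cone.pointed 𝒜).ι p).asIdeal := by
    intro hsub
    exact hp ((PrimeSpectrum.mem_zeroLocus _ _).2 hsub)
  rw [Set.not_subset] at hp'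
  obtain ⟨s, hs, hsp⟩ := hp'
  have : ∃ i ∈ (DirectSum.decompose 𝒜 s).support, (DirectSum.decompose 𝒜 s i : A) ∉ ((Cone.pointed 𝒜).ι p).asIdeal := by
    by_contra hcon
    push Not at hcon
    apply hsp
    rw [← DirectSum.sum_support_decompose 𝒜 s]
    exact Ideal.sum_mem _ hcon
  obtain ⟨i, -, hi⟩ := this
  have hi0 : i ≠ 0 := by
    rintro rfl
    have : (DirectSum.decompose 𝒜 s 0 : A) = 0 := (HomogeneousIdeal.mem_irrelevant_iff 𝒜 s).1 hs
    rw [this] at hi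
    exact hi (zero_mem _)
  rw [TopologicalSpace.Opens.mem_iSup]
  refine ⟨⟨i, (DirectSum.decompose 𝒜 s i : A), Nat.pos_of_ne_zero hi0, SetLike.coe_mem _⟩, ?_⟩
  rw [cone_basicOpen]
  exact hi

/-- the open cover of the pointed cone by the `D(r)` -/
noncomputable def coneCover : (Cone.pointed 𝒜 : Scheme.{u}).OpenCover :=
  (Cone.pointed 𝒜 : Scheme.{u}).openCoverOfIsOpenCover _ (cone_isOpenCover 𝒜)

set_option backward.isDefEq.respectTransparency.types false in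
set_option backward.defeqAttrib.useBackward true in
/-- the retraction -/
noncomputable def coneπ : (Cone.pointed 𝒜 : Scheme.{u}) ⟶ Proj 𝒜 := by
  refine (coneCover 𝒜).glueMorphisms
    (fun ri ↦ Proj.toBasicOpenOfGlobalSections 𝒜 (coneφ 𝒜) rfl ri.2.2.1 ri.2.2.2 ≫ Scheme.Opens.ι _) ?_
  rintro x y
  let e : pullback ((coneCover 𝒜).f x) ((coneCover 𝒜).f y) ≅
      ((Cone.pointed 𝒜 : Scheme.{u}).basicOpen (coneφ 𝒜 (x.snd.fst * y.snd.fst))) :=
    (isPullback_opens_inf _ _).isoPullback.symm ≪≫ (Cone.pointed 𝒜 : Scheme.{u}).isoOfEq (by simp)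
  rw [← cancel_epi e.inv]
  trans Proj.toBasicOpenOfGlobalSections 𝒜 (coneφ 𝒜) rfl (Nat.add_pos_left x.2.2.1 y.1)
    (SetLike.mul_mem_graded x.2.2.2 y.2.2.2) ≫ (Scheme.Opens.ι _)
  · simpa [e, coneCover, Scheme.isoOfEq_inv] using
      Proj.homOfLE_toBasicOpenOfGlobalSections_ι _ _ rfl rfl y.2.2.2
  · simpa [e, coneCover, Scheme.isoOfEq_inv] using
      (Proj.homOfLE_toBasicOpenOfGlobalSections_ι _ _ (mul_comm _ _) (add_comm _ _) x.2.2.2).symm

lemma coneπ_ι {i : ℕ} {r : A} (hi : 0 < i) (hr : r ∈ 𝒜 i) :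
    ((Cone.pointed 𝒜 : Scheme.{u}).basicOpen (coneφ 𝒜 r)).ι ≫ coneπ 𝒜 =
      Proj.toBasicOpenOfGlobalSections 𝒜 (coneφ 𝒜) rfl hi hr ≫ Scheme.Opens.ι _ :=
  (coneCover 𝒜).ι_glueMorphisms _ _ ⟨i, r, hi, hr⟩

lemma cone_toBasic {d : ℕ} {t : A} (hd : 0 < d) (ht : t ∈ 𝒜 d) :
    ∃ W : ((Cone.pointed 𝒜 : Scheme.{u}).basicOpen (coneφ 𝒜 t)).toScheme ⟶
        Spec (CommRingCat.of (Localization.Away t)),
      Proj.toBasicOpenOfGlobalSections 𝒜 (coneφ 𝒜) rfl hd ht ≫ (Proj.basicOpen 𝒜 t).ι =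
        W ≫ Spec.map (CommRingCat.ofHom (algebraMap (HomogeneousLocalization.Away 𝒜 t) (Localization.Away t))) ≫
          Proj.awayι 𝒜 t ht hd ∧
      W ≫ Spec.map (CommRingCat.ofHom (algebraMap A (Localization.Away t))) =
        ((Cone.pointed 𝒜 : Scheme.{u}).basicOpen (coneφ 𝒜 t)).ι ≫ (Cone.pointed 𝒜).ι := by
  unfold Proj.toBasicOpenOfGlobalSections
  have hy : Submonoid.powers t ≤ Submonoid.comap (coneφ 𝒜) (Submonoid.powers (coneφ 𝒜 t)) := by
    rw [← Submonoid.map_le_iff_le_comap, Submonoid.map_powers]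
  refine ⟨((Cone.pointed 𝒜 : Scheme.{u}).isoOfEq
      ((Cone.pointed 𝒜 : Scheme.{u}).toSpecΓ_preimage_basicOpen (coneφ 𝒜 t))).inv ≫
    (Cone.pointed 𝒜 : Scheme.{u}).toSpecΓ ∣_ PrimeSpectrum.basicOpen (coneφ 𝒜 t) ≫
    (basicOpenIsoSpecAway (coneφ 𝒜 t)).hom ≫
    Spec.map (CommRingCat.ofHom (IsLocalization.map (Localization.Away (coneφ 𝒜 t)) (coneφ 𝒜) hy)), ?_, ?_⟩
  · simp only [Category.assoc, CommRingCat.ofHom_comp, Spec.map_comp, Proj.basicOpenIsoSpec_inv_ι]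
  · simp only [Category.assoc, ← Spec.map_comp, ← CommRingCat.ofHom_comp, IsLocalization.map_comp]
    rw [CommRingCat.ofHom_comp, Spec.map_comp, basicOpenIsoSpecAway_hom_SpecMap_assoc]
    have h1 := morphismRestrict_ι ((Cone.pointed 𝒜 : Scheme.{u}).toSpecΓ)
      (PrimeSpectrum.basicOpen (coneφ 𝒜 t) : (Spec Γ((Cone.pointed 𝒜 : Scheme.{u}), ⊤)).Opens)
    have h2 := congrArg (fun m => ((Cone.pointed 𝒜 : Scheme.{u}).isoOfEq
      ((Cone.pointed 𝒜 : Scheme.{u}).toSpecΓ_preimage_basicOpen (coneφ 𝒜 t))).inv ≫ m ≫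
        Spec.map (CommRingCat.ofHom (coneφ 𝒜))) h1
    simp only [Category.assoc] at h2
    refine h2.trans ?_
    rw [Scheme.isoOfEq_inv_ι_assoc]
    congr 1
    have h3 : CommRingCat.ofHom (coneφ 𝒜) =
        (Scheme.ΓSpecIso (CommRingCat.of A)).inv ≫ (Cone.pointed 𝒜).ι.appTop := rfl
    rw [h3, Spec.map_comp, ← Scheme.toSpecΓ_naturality_assoc, toSpecΓ_SpecMap_ΓSpecIso_inv, Category.comp_id]

end

/-- Let S be an ℕ-graded algebra over a ring, C = Spec S its affine cone, E = C − V(S_+) the pointed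
affine cone and X = Proj S. Then there is exactly one morphism π : E → X (the canonical retraction)
whose restriction to each chart Spec S_f of E, for f homogeneous of positive degree, is the
composite Spec S_f → Spec S_(f) ≅ D_+(f) ⊆ X induced by the inclusion S_(f) → S_f. The published
statement is not limited to an affine base. -/
theorem result {R A : Type u} [CommRing R] [CommRing A] [Algebra R A] (𝒜 : ℕ → Submodule R A) [GradedAlgebra 𝒜] :
    ∃! π : (Cone.pointed 𝒜 : Scheme.{u}) ⟶ Proj 𝒜,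
      ∀ (d : ℕ) (f : A) (hd : 0 < d) (hf : f ∈ 𝒜 d),
        Cone.chart hf hd ≫ π =
          Spec.map (CommRingCat.ofHom (algebraMap (HomogeneousLocalization.Away 𝒜 f) (Localization.Away f))) ≫
            Proj.awayι 𝒜 f hf hd := by
  classical
  have hchartι : ∀ {e : ℕ} {g : A} (hg : g ∈ 𝒜 e) (he : 0 < e),
      Cone.chart hg he ≫ (Cone.pointed 𝒜).ι =
        Spec.map (CommRingCat.ofHom (algebraMap A (Localization.Away g))) := by
    intro e g hg he
    exact IsOpenImmersion.lift_fac _ _ _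
  have hrange : ∀ {d : ℕ} {f : A} (hf : f ∈ 𝒜 d) (hd : 0 < d),
      Set.range (Cone.chart hf hd).base =
        ((Cone.pointed 𝒜 : Scheme.{u}).basicOpen (coneφ 𝒜 f) : Set (Cone.pointed 𝒜 : Scheme.{u})) := by
    intro d f hf hd
    rw [cone_basicOpen]
    ext x
    have key : (Cone.pointed 𝒜).ι x ∈ Set.range
        (Spec.map (CommRingCat.ofHom (algebraMap A (Localization.Away f)))).base ↔
        x ∈ Set.range (Cone.chart hf hd).base := by
      rw [← hchartι hf hd]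
      constructor
      · rintro ⟨y, hy⟩
        exact ⟨y, (Cone.pointed 𝒜).ι.isOpenEmbedding.injective hy⟩
      · rintro ⟨y, rfl⟩
        exact ⟨y, rfl⟩
    rw [← key]
    have := PrimeSpectrum.localization_away_comap_range (Localization.Away f) f
    change _ ∈ Set.range (PrimeSpectrum.comap (algebraMap A (Localization.Away f))) ↔ _
    rw [this]
    rfl
  have hex : ∀ (d : ℕ) (f : A) (hd : 0 < d) (hf : f ∈ 𝒜 d),
      Cone.chart hf hd ≫ coneπ 𝒜 =
        Spec.map (CommRingCat.ofHom (algebraMap (HomogeneousLocalization.Away 𝒜 f) (Localization.Away f))) ≫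
          Proj.awayι 𝒜 f hf hd := by
    intro d f hd hf
    obtain ⟨W, hW1, hW2⟩ := cone_toBasic 𝒜 hd hf
    have hsub : Set.range (Cone.chart hf hd).base ⊆
        Set.range ((Cone.pointed 𝒜 : Scheme.{u}).basicOpen (coneφ 𝒜 f)).ι.base := by
      rw [Scheme.Opens.range_ι, hrange hf hd]
    let c' := IsOpenImmersion.lift ((Cone.pointed 𝒜 : Scheme.{u}).basicOpen (coneφ 𝒜 f)).ι
      (Cone.chart hf hd) hsub
    have hc' : c' ≫ ((Cone.pointed 𝒜 : Scheme.{u}).basicOpen (coneφ 𝒜 f)).ι = Cone.chart hf hd :=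
      IsOpenImmersion.lift_fac _ _ _
    have hcW : c' ≫ W = 𝟙 _ := by
      rw [← cancel_mono (Spec.map (CommRingCat.ofHom (algebraMap A (Localization.Away f))))]
      rw [Category.assoc, hW2, reassoc_of% hc', Category.id_comp]
      exact hchartι hf hd
    calc Cone.chart hf hd ≫ coneπ 𝒜
        = c' ≫ ((Cone.pointed 𝒜 : Scheme.{u}).basicOpen (coneφ 𝒜 f)).ι ≫ coneπ 𝒜 := by
          rw [reassoc_of% hc']
      _ = c' ≫ W ≫ Spec.map (CommRingCat.ofHom
            (algebraMap (HomogeneousLocalization.Away 𝒜 f) (Localization.Away f))) ≫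
            Proj.awayι 𝒜 f hf hd := by
          rw [coneπ_ι 𝒜 hd hf, hW1]
      _ = _ := by rw [reassoc_of% hcW]
  refine ⟨coneπ 𝒜, hex, ?_⟩
  · intro π' hπ'
    apply Scheme.hom_ext_of_forall
    intro x
    have hx : x ∈ ⨆ ir : Σ' (i : ℕ) (r : A), 0 < i ∧ r ∈ 𝒜 i,
        (Cone.pointed 𝒜 : Scheme.{u}).basicOpen (coneφ 𝒜 ir.2.1) := by
      rw [cone_isOpenCover 𝒜]; trivial
    obtain ⟨⟨i, r, hi, hr⟩, hxr⟩ := TopologicalSpace.Opens.mem_iSup.1 hx
    refine ⟨_, hxr, ?_⟩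
    have he : Set.range ((Cone.pointed 𝒜 : Scheme.{u}).basicOpen (coneφ 𝒜 r)).ι.base =
        Set.range (Cone.chart hr hi).base := by
      rw [Scheme.Opens.range_ι, hrange hr hi]
    have : IsOpenImmersion (Cone.chart hr hi ≫ (Cone.pointed 𝒜).ι) := by
      rw [hchartι hr hi]; infer_instance
    have : IsOpenImmersion (Cone.chart hr hi) := IsOpenImmersion.of_comp _ (Cone.pointed 𝒜).ι
    have hfac := IsOpenImmersion.isoOfRangeEq_hom_fac
      ((Cone.pointed 𝒜 : Scheme.{u}).basicOpen (coneφ 𝒜 r)).ι (Cone.chart hr hi) he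
    rw [← hfac, Category.assoc, Category.assoc, hπ' i r hi hr, hex i r hi hr]

end Groth.Agent.S3574
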