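import Groth.Statements.S3575
import Groth.Agent.H14Lib.Proj

set_option autoImplicit false
universe u
open CategoryTheory CategoryTheory.Limits AlgebraicGeometry
open EGA2

namespace Groth.Agent.S3575


/-- Let S be a commutative ℕ-graded R-algebra, E the pointed affine cone (the open complement of the
vertex V(S_+) in Spec S) and X = Proj S, and let π : E → X be the canonical retraction,
characterised (hypothesis hπ) by its agreement on each chart Spec S_f → E, f homogeneous of positive
degree, with Spec of S_(f) → S_f followed by the standard open immersion Spec S_(f) → X. Then π is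
an affine and surjective morphism; the inverse image under π of D_+(f) is the open D(f) ∩ E = D(f)
of E for every homogeneous f of positive degree; and π sends a point of E, a prime p of S not
containing S_+, to the homogeneous prime whose homogeneous elements are those of p. -/
theorem result {R A : Type u} [CommRing R] [CommRing A] [Algebra R A] (𝒜 : ℕ → Submodule R A) [GradedAlgebra 𝒜]
    (π : (Cone.pointed 𝒜 : Scheme.{u}) ⟶ Proj 𝒜)
    (hπ : ∀ (d : ℕ) (f : A) (hd : 0 < d) (hf : f ∈ 𝒜 d),
        Cone.chart hf hd ≫ π =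
          Spec.map (CommRingCat.ofHom (algebraMap (HomogeneousLocalization.Away 𝒜 f) (Localization.Away f))) ≫
            Proj.awayι 𝒜 f hf hd) :
    IsAffineHom π ∧ Surjective π ∧
      (∀ (d : ℕ) (f : A), 0 < d → f ∈ 𝒜 d →
        π ⁻¹ᵁ Proj.basicOpen 𝒜 f = (Cone.pointed 𝒜).ι ⁻¹ᵁ Cone.coneOpen f) ∧
      ∀ p : (Cone.pointed 𝒜 : Scheme.{u}),
        (π.base p).asHomogeneousIdeal = (((Cone.pointed 𝒜).ι.base p).asIdeal).homogeneousCore 𝒜 := by
  classical
  have hchartι : ∀ {e : ℕ} {g : A} (hg : g ∈ 𝒜 e) (he : 0 < e),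
      Cone.chart hg he ≫ (Cone.pointed 𝒜).ι =
        Spec.map (CommRingCat.ofHom (algebraMap A (Localization.Away g))) := by
    intro e g hg he
    exact IsOpenImmersion.lift_fac _ _ _
  have hmemE : ∀ p : (Cone.pointed 𝒜 : Scheme.{u}), (Cone.pointed 𝒜).ι p ∈ Cone.pointed 𝒜 := by
    intro p
    have : (Cone.pointed 𝒜).ι p ∈ Set.range (Cone.pointed 𝒜).ι.base := ⟨p, rfl⟩
    rw [Scheme.Opens.range_ι] at this
    exact this
  have hcover : ∀ p : (Cone.pointed 𝒜 : Scheme.{u}), ∃ (e : ℕ) (g : A) (hg : g ∈ 𝒜 e) (he : 0 < e)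
      (p' : Spec (CommRingCat.of (Localization.Away g))), Cone.chart hg he p' = p := by
    intro p
    have hp := hmemE p
    have hp' : ¬ ((HomogeneousIdeal.irrelevant 𝒜).toIdeal : Set A) ⊆ ((Cone.pointed 𝒜).ι p).asIdeal := by
      intro hsub
      exact hp ((PrimeSpectrum.mem_zeroLocus _ _).2 hsub)
    rw [Set.not_subset] at hp'
    obtain ⟨s, hs, hsp⟩ := hp'
    have : ∃ i ∈ (DirectSum.decompose 𝒜 s).support, (DirectSum.decompose 𝒜 s i : A) ∉ ((Cone.pointed 𝒜).ι p).asIdeal := by
      by_contra hcon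
      push Not at hcon
      apply hsp
      rw [← DirectSum.sum_support_decompose 𝒜 s]
      exact Ideal.sum_mem _ hcon
    obtain ⟨i, -, hi⟩ := this
    have hi0 : i ≠ 0 := by
      rintro rfl
      have : (DirectSum.decompose 𝒜 s 0 : A) = 0 := (HomogeneousIdeal.mem_irrelevant_iff 𝒜 s).1 hs
      rw [this] at hi
      exact hi (zero_mem _)
    refine ⟨i, (DirectSum.decompose 𝒜 s i : A), SetLike.coe_mem _, Nat.pos_of_ne_zero hi0, ?_⟩
    have hrange : (Cone.pointed 𝒜).ι p ∈ Set.range
        (Spec.map (CommRingCat.ofHom (algebraMap A (Localization.Away (DirectSum.decompose 𝒜 s i : A))))).base := by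
      have := PrimeSpectrum.localization_away_comap_range (Localization.Away (DirectSum.decompose 𝒜 s i : A))
        (DirectSum.decompose 𝒜 s i : A)
      change _ ∈ Set.range (PrimeSpectrum.comap (algebraMap A (Localization.Away (DirectSum.decompose 𝒜 s i : A))))
      rw [this]
      exact hi
    obtain ⟨p', hp'⟩ := hrange
    refine ⟨p', ?_⟩
    apply (Cone.pointed 𝒜).ι.isOpenEmbedding.injective
    rw [← hp', ← hchartι (SetLike.coe_mem _) (Nat.pos_of_ne_zero hi0)]
    rfl
  have key : ∀ (d : ℕ) (f : A) (hd : 0 < d) (hf : f ∈ 𝒜 d) {e : ℕ} {g : A} (hg : g ∈ 𝒜 e) (he : 0 < e),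
      Cone.chart hg he ⁻¹ᵁ (π ⁻¹ᵁ Proj.basicOpen 𝒜 f) =
      Cone.chart hg he ⁻¹ᵁ ((Cone.pointed 𝒜).ι ⁻¹ᵁ Cone.coneOpen f) := by
    intro d f hd hf e g hg he
    have h1 : Proj.awayι 𝒜 g hg he ⁻¹ᵁ Proj.basicOpen 𝒜 f =
        PrimeSpectrum.basicOpen (HomogeneousLocalization.Away.isLocalizationElem hg hf) :=
      Proj.awayι_preimage_basicOpen 𝒜 hg he hf hd
    rw [← Scheme.Hom.comp_preimage, ← Scheme.Hom.comp_preimage, hπ e g he hg, hchartι hg he,
      Scheme.Hom.comp_preimage, h1]
    change PrimeSpectrum.basicOpen (algebraMap (HomogeneousLocalization.Away 𝒜 g) (Localization.Away g)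
        (HomogeneousLocalization.Away.isLocalizationElem hg hf)) =
      PrimeSpectrum.basicOpen (algebraMap A (Localization.Away g) f)
    have h2 : algebraMap (HomogeneousLocalization.Away 𝒜 g) (Localization.Away g)
        (HomogeneousLocalization.Away.isLocalizationElem hg hf) * algebraMap A (Localization.Away g) (g ^ d) =
        (algebraMap A (Localization.Away g) f) ^ e := by
      rw [HomogeneousLocalization.algebraMap_apply, HomogeneousLocalization.Away.val_mk,
        Localization.mk_eq_mk']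
      have := IsLocalization.mk'_spec (Localization.Away g) (f ^ e) (⟨g ^ d, d, rfl⟩ : Submonoid.powers g)
      rw [map_pow (algebraMap A (Localization.Away g)) f e] at this
      exact this
    have hunit : IsUnit (algebraMap A (Localization.Away g) (g ^ d)) := by
      rw [map_pow]
      exact (IsLocalization.Away.algebraMap_isUnit g).pow d
    have h3 : PrimeSpectrum.basicOpen (algebraMap A (Localization.Away g) (g ^ d)) = ⊤ := by
      rw [eq_top_iff]
      intro q _ hq
      exact q.isPrime.ne_top (Ideal.eq_top_of_isUnit_mem _ hq hunit)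
    conv_rhs => rw [← PrimeSpectrum.basicOpen_pow _ e he, ← h2, PrimeSpectrum.basicOpen_mul, h3, inf_top_eq]
  have key3 : ∀ (d : ℕ) (f : A), 0 < d → f ∈ 𝒜 d →
        π ⁻¹ᵁ Proj.basicOpen 𝒜 f = (Cone.pointed 𝒜).ι ⁻¹ᵁ Cone.coneOpen f := by
    intro d f hd hf
    ext x
    obtain ⟨e, g, hg, he, x', rfl⟩ := hcover x
    have := congrArg (fun W : TopologicalSpace.Opens _ => x' ∈ W) (key d f hd hf hg he)
    simp only [eq_iff_iff] at this
    exact this
  have key4 : ∀ p : (Cone.pointed 𝒜 : Scheme.{u}),
        (π.base p).asHomogeneousIdeal = (((Cone.pointed 𝒜).ι.base p).asIdeal).homogeneousCore 𝒜 := by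
    intro p
    have hpos : ∀ (i : ℕ) (h : A), 0 < i → h ∈ 𝒜 i →
        (h ∈ (π.base p).asHomogeneousIdeal ↔ h ∈ ((Cone.pointed 𝒜).ι.base p).asIdeal) := by
      intro i h hi hh
      have := congrArg (fun W : TopologicalSpace.Opens _ => p ∈ W) (key3 i h hi hh)
      simp only [eq_iff_iff] at this
      rw [← not_iff_not]
      exact this
    obtain ⟨e, g, hg, he, p', hp'⟩ := hcover p
    have hgP : g ∉ ((Cone.pointed 𝒜).ι.base p).asIdeal := by
      have h1 : ((Cone.pointed 𝒜).ι.base p) ∈ Set.range
          (Spec.map (CommRingCat.ofHom (algebraMap A (Localization.Away g)))).base := by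
        refine ⟨p', ?_⟩
        rw [← hp', ← hchartι hg he]
        rfl
      have := PrimeSpectrum.localization_away_comap_range (Localization.Away g) g
      change _ ∈ Set.range (PrimeSpectrum.comap (algebraMap A (Localization.Away g))) at h1
      rw [this] at h1
      exact h1
    have hgy : g ∉ (π.base p).asHomogeneousIdeal := fun h => hgP ((hpos e g he hg).1 h)
    have hhom : ∀ (i : ℕ) (h : A), h ∈ 𝒜 i →
        (h ∈ (π.base p).asHomogeneousIdeal ↔ h ∈ ((Cone.pointed 𝒜).ι.base p).asIdeal) := by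
      intro i h hh
      by_cases hi : 0 < i
      · exact hpos i h hi hh
      · have h2 := hpos (i + e) (h * g) (by omega) (SetLike.mul_mem_graded hh hg)
        constructor
        · intro h3
          have h4 := h2.1 (Ideal.mul_mem_right _ _ h3)
          exact (((Cone.pointed 𝒜).ι.base p).isPrime.mem_or_mem h4).resolve_right hgP
        · intro h3
          have h4 := h2.2 (Ideal.mul_mem_right _ _ h3)
          exact ((π.base p).isPrime.mem_or_mem h4).resolve_right hgy
    apply le_antisymm
    · rw [← Ideal.homogeneousCore.gc 𝒜]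
      intro a ha
      rw [← DirectSum.sum_support_decompose 𝒜 a]
      apply Ideal.sum_mem
      intro i _
      exact (hhom i _ (SetLike.coe_mem _)).1 ((π.base p).asHomogeneousIdeal.isHomogeneous i ha)
    · intro a ha
      change a ∈ (π.base p).asHomogeneousIdeal.toIdeal
      rw [← DirectSum.sum_support_decompose 𝒜 a]
      apply Ideal.sum_mem
      intro i _
      apply (hhom i _ (SetLike.coe_mem _)).2
      apply Ideal.toIdeal_homogeneousCore_le 𝒜
      exact (Ideal.homogeneousCore 𝒜 _).isHomogeneous i ha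
  refine ⟨?_, ?_, key3, key4⟩
  · apply isAffineHom_of_forall_exists_isAffineOpen
    intro y
    obtain ⟨f, d, hd, hf, hy⟩ := Groth.Agent.H14Lib.exists_homogeneous_pos_mem_basicOpen 𝒜 y
    refine ⟨Proj.basicOpen 𝒜 f, hy, Proj.isAffineOpen_basicOpen 𝒜 f hf hd, ?_⟩
    rw [key3 d f hd hf]
    apply (IsAffineOpen.Spec_basicOpen (R := CommRingCat.of A) f).preimage_of_isOpenImmersion
    rw [Scheme.Opens.opensRange_ι]
    intro q hq hmem
    have hfS : f ∈ (HomogeneousIdeal.irrelevant 𝒜).toIdeal := HomogeneousIdeal.mem_irrelevant_of_mem 𝒜 hd hf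
    exact hq ((PrimeSpectrum.mem_zeroLocus _ _).1 hmem hfS)
  · constructor
    intro y
    have hq : (⟨y.asHomogeneousIdeal.toIdeal, y.isPrime⟩ : PrimeSpectrum A) ∈ Cone.pointed 𝒜 := by
      intro hmem
      exact y.not_irrelevant_le ((PrimeSpectrum.mem_zeroLocus _ _).1 hmem)
    let p : (Cone.pointed 𝒜 : Scheme.{u}) := ⟨⟨y.asHomogeneousIdeal.toIdeal, y.isPrime⟩, hq⟩
    refine ⟨p, ?_⟩
    apply ProjectiveSpectrum.ext
    exact (key4 p).trans (HomogeneousIdeal.toIdeal_homogeneousCore_eq_self y.asHomogeneousIdeal)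

end Groth.Agent.S3575
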