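import Groth.Statements.S3581
import Mathlib

set_option autoImplicit false
universe u
open CategoryTheory CategoryTheory.Limits AlgebraicGeometry
open EGA2

namespace Groth.Agent.S3581

lemma homog_fin_one {A : Type u} [CommRing A] {n : ℕ} {p : MvPolynomial (Fin 1) A}
    (hp : p ∈ MvPolynomial.homogeneousSubmodule (Fin 1) A n) :
    p = MvPolynomial.C (MvPolynomial.coeff (Finsupp.single 0 n) p) * MvPolynomial.X 0 ^ n := by
  classical
  rw [MvPolynomial.C_mul_X_pow_eq_monomial]
  ext m
  rw [MvPolynomial.coeff_monomial]
  split_ifs with h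
  · subst h; rfl
  · by_contra hne
    have hdeg := hp hne
    apply h
    apply Finsupp.ext
    intro i
    have hi : i = 0 := Subsingleton.elim _ _
    subst hi
    rw [Finsupp.single_eq_same, ← hdeg, Finsupp.weight_apply, Finsupp.sum_fintype _ _ (by simp)]
    simp

/-- Over an affine base Spec A, Proj of the graded polynomial algebra A[T] (T of degree one) is
identified with Spec A by its structure morphism: the structure morphism from projective 0-space
over A to Spec A is an isomorphism. -/
theorem result (A : Type u) [CommRing A] :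
    IsIso (CohB1.ProjSpace.toSpec 0 A) := by
  classical
  let T : MvPolynomial (Fin 1) A := MvPolynomial.X 0
  have hT : T ∈ CohB1.polyGrading 0 A 1 := MvPolynomial.isHomogeneous_X A 0
  have htop : Proj.basicOpen (CohB1.polyGrading 0 A) T = ⊤ := by
    rw [eq_top_iff]
    intro x _
    rw [Proj.mem_basicOpen]
    intro hTx
    apply x.not_irrelevant_le
    intro p hp
    have hpT : p ∈ Ideal.span {T} := by
      rw [← DirectSum.sum_support_decompose (CohB1.polyGrading 0 A) p]
      apply Ideal.sum_mem
      intro i _
      by_cases hi : i = 0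
      · subst hi
        have : (DirectSum.decompose (CohB1.polyGrading 0 A) p 0 : MvPolynomial (Fin 1) A) = 0 :=
          (HomogeneousIdeal.mem_irrelevant_iff _ p).1 hp
        rw [this]; exact zero_mem _
      · rw [homog_fin_one (SetLike.coe_mem (DirectSum.decompose (CohB1.polyGrading 0 A) p i))]
        obtain ⟨j, rfl⟩ := Nat.exists_eq_succ_of_ne_zero hi
        rw [pow_succ, ← mul_assoc]
        exact Ideal.mul_mem_left _ _ (Ideal.mem_span_singleton_self T)
    have hle : Ideal.span {T} ≤ x.asHomogeneousIdeal.toIdeal := by
      rw [Ideal.span_le]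
      intro w hw
      rw [Set.mem_singleton_iff] at hw
      subst hw
      exact hTx
    exact hle hpT
  have hiso : IsIso (Proj.awayι (CohB1.polyGrading 0 A) T hT Nat.one_pos) := by
    rw [isIso_iff_isOpenImmersion_and_surjective]
    refine ⟨inferInstance, ⟨?_⟩⟩
    rw [← Set.range_eq_univ]
    have h1 := Proj.opensRange_awayι (CohB1.polyGrading 0 A) T hT Nat.one_pos
    rw [htop] at h1
    have h2 := congrArg (fun U : TopologicalSpace.Opens (Proj (CohB1.polyGrading 0 A)) =>
      (U : Set (Proj (CohB1.polyGrading 0 A)))) h1
    exact h2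
  let ι' : A →+* HomogeneousLocalization.Away (CohB1.polyGrading 0 A) T :=
    (HomogeneousLocalization.fromZeroRingHom (CohB1.polyGrading 0 A) (Submonoid.powers T)).comp
      (algebraMap A (CohB1.polyGrading 0 A 0))
  have hval : ∀ r : A, (ι' r).val =
      algebraMap (MvPolynomial (Fin 1) A) (Localization.Away T) (MvPolynomial.C r) := by
    intro r
    change Localization.mk _ _ = _
    rw [← Localization.mk_one_eq_algebraMap]
    rfl
  have hbij : Function.Bijective ι' := by
    constructor
    · let ev : MvPolynomial (Fin 1) A →+* A := MvPolynomial.eval (fun _ => 1)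
      have hev : IsUnit (ev T) := by simp [ev, T]
      let ρ₀ : Localization.Away T →+* A := IsLocalization.Away.lift T hev
      intro r r' hrr
      have h1 := congrArg (fun y => ρ₀ y.val) hrr
      simp only [hval, ρ₀, IsLocalization.Away.lift_eq] at h1
      simpa [ev] using h1
    · intro x
      obtain ⟨n, p, hp, rfl⟩ := HomogeneousLocalization.Away.mk_surjective (CohB1.polyGrading 0 A) hT x
      refine ⟨MvPolynomial.coeff (Finsupp.single 0 (n • 1)) p, ?_⟩
      apply HomogeneousLocalization.val_injective
      rw [hval, HomogeneousLocalization.Away.val_mk, ← Localization.mk_one_eq_algebraMap,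
        Localization.mk_eq_mk_iff, Localization.r_iff_exists]
      refine ⟨1, ?_⟩
      simp only [OneMemClass.coe_one, one_mul]
      conv_rhs => rw [homog_fin_one hp]
      simp only [smul_eq_mul, mul_one]
      ring
  have hspec : IsIso (Spec.map (CommRingCat.ofHom ι')) := by
    rw [isIso_SpecMap_iff]
    exact hbij
  have hcomp : Proj.awayι (CohB1.polyGrading 0 A) T hT Nat.one_pos ≫
      (Proj.toSpecZero (CohB1.polyGrading 0 A) ≫
        Spec.map (CommRingCat.ofHom (algebraMap A (CohB1.polyGrading 0 A 0)))) =
      Spec.map (CommRingCat.ofHom ι') := by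
    rw [Proj.awayι_toSpecZero_assoc, ← Spec.map_comp]
    rfl
  have hfin : IsIso (Proj.toSpecZero (CohB1.polyGrading 0 A) ≫
        Spec.map (CommRingCat.ofHom (algebraMap A (CohB1.polyGrading 0 A 0)))) := by
    have : IsIso (Proj.awayι (CohB1.polyGrading 0 A) T hT Nat.one_pos ≫
      (Proj.toSpecZero (CohB1.polyGrading 0 A) ≫
        Spec.map (CommRingCat.ofHom (algebraMap A (CohB1.polyGrading 0 A 0))))) := by
      rw [hcomp]; exact hspec
    exact IsIso.of_isIso_comp_left (Proj.awayι (CohB1.polyGrading 0 A) T hT Nat.one_pos) _
  exact hfin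

end Groth.Agent.S3581
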