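import Groth.Statements.S3582
import Mathlib

set_option autoImplicit false
universe u
open CategoryTheory CategoryTheory.Limits AlgebraicGeometry
open EGA2

namespace Groth.Agent.S3582

lemma projSpace_toSpec_surjective_aux (n : ℕ) (R : Type u) [CommRing R] :
    Surjective (Proj.toSpecZero (CohB1.polyGrading n R) ≫
      Spec.map (CommRingCat.ofHom (algebraMap R (CohB1.polyGrading n R 0)))) := by
  classical
  let X0 : MvPolynomial (Fin (n + 1)) R := MvPolynomial.X 0
  have hX0 : X0 ∈ CohB1.polyGrading n R 1 := MvPolynomial.isHomogeneous_X R 0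
  let ev : MvPolynomial (Fin (n + 1)) R →+* R := MvPolynomial.eval (fun i => if i = 0 then 1 else 0)
  have hev : IsUnit (ev X0) := by simp [ev, X0]
  let ρ₀ : Localization.Away X0 →+* R := IsLocalization.Away.lift X0 hev
  let ρ : HomogeneousLocalization.Away (CohB1.polyGrading n R) X0 →+* R :=
    ρ₀.comp (algebraMap (HomogeneousLocalization.Away (CohB1.polyGrading n R) X0) (Localization.Away X0))
  let s : Spec (CommRingCat.of R) ⟶ Proj (CohB1.polyGrading n R) :=
    Spec.map (CommRingCat.ofHom ρ) ≫ Proj.awayι (CohB1.polyGrading n R) X0 hX0 Nat.one_pos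
  have hs : s ≫ (Proj.toSpecZero (CohB1.polyGrading n R) ≫
      Spec.map (CommRingCat.ofHom (algebraMap R (CohB1.polyGrading n R 0)))) = 𝟙 _ := by
    simp only [s, Category.assoc]
    rw [Proj.awayι_toSpecZero_assoc, ← Spec.map_comp, ← Spec.map_comp, ← Spec.map_id]
    congr 1
    ext r
    change ρ₀ ((HomogeneousLocalization.fromZeroRingHom (CohB1.polyGrading n R) (Submonoid.powers X0)
      (algebraMap R (CohB1.polyGrading n R 0) r)).val) = r
    have h1 : (HomogeneousLocalization.fromZeroRingHom (CohB1.polyGrading n R) (Submonoid.powers X0)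
        (algebraMap R (CohB1.polyGrading n R 0) r)).val =
        algebraMap (MvPolynomial (Fin (n + 1)) R) (Localization.Away X0) (MvPolynomial.C r) := by
      change Localization.mk _ _ = _
      rw [← Localization.mk_one_eq_algebraMap]
      rfl
    rw [h1, IsLocalization.Away.lift_eq]
    simp [ev]
  have : Surjective (s ≫ (Proj.toSpecZero (CohB1.polyGrading n R) ≫
      Spec.map (CommRingCat.ofHom (algebraMap R (CohB1.polyGrading n R 0))))) := by rw [hs]; infer_instance
  exact Surjective.of_comp s _

lemma projSpace_toSpec_surjective (n : ℕ) (R : Type u) [CommRing R] :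
    Surjective (CohB1.ProjSpace.toSpec n R) := projSpace_toSpec_surjective_aux n R

/-- For every scheme Y and every r ≥ 0 the structure morphism from projective r-space over Y to Y is
surjective. -/
theorem result (r : ℕ) (Y : Scheme.{u}) :
    Surjective (CohB1.ProjSpaceOver.toBase r Y) := by
  have := projSpace_toSpec_surjective r (ULift.{u} ℤ)
  exact (inferInstance : Surjective (pullback.snd (CohB1.ProjSpace.toSpec r (ULift.{u} ℤ))
    (specULiftZIsTerminal.from Y)))

end Groth.Agent.S3582
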