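import Groth.Statements.S3583
import Mathlib

set_option autoImplicit false
universe u
open CategoryTheory AlgebraicGeometry Opposite
open EGA2

namespace Groth.Agent.S3583


/-- In the form stated after its proof: let f : X → S and f' : X' → S be affine morphisms and h : X' → X
an S-morphism such that the O_S-algebra homomorphism A(h) : f_*O_X → f'_*O_{X'} is surjective (as a
map of quasi-coherent O_S-modules, i.e. on sections over every affine open of S). Then h is a closed
immersion. -/
theorem result {X X' S : Scheme.{u}} (f : X ⟶ S) [IsAffineHom f]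
    (f' : X' ⟶ S) [IsAffineHom f'] (h : X' ⟶ X) (w : h ≫ f = f')
    (hsurj : ∀ U : S.affineOpens, Function.Surjective ((AffAlg.algHom f f' h w).app (op U.1)).hom) :
    IsClosedImmersion h := by
  subst w
  have h2 : ∀ O : S.affineOpens, Function.Surjective (h.app (f ⁻¹ᵁ O.1)).hom := fun O => hsurj O
  have h3 : ∀ V : X.Opens, (∃ O : S.affineOpens, V = f ⁻¹ᵁ O.1) → Function.Surjective (h.app V).hom := by
    rintro V ⟨O, rfl⟩
    exact h2 O
  let U : S.affineOpens → X.affineOpens := fun O => ⟨f ⁻¹ᵁ O.1, O.2.preimage f⟩
  have hU : ⨆ O, ((U O : X.affineOpens) : X.Opens) = ⊤ := by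
    have := iSup_affineOpens_eq_top S
    have h4 := congrArg (fun V => f ⁻¹ᵁ V) this
    simp only [Scheme.Hom.preimage_iSup, Scheme.Hom.preimage_top] at h4
    exact h4
  rw [@HasAffineProperty.iff_of_iSup_eq_top _ _ IsClosedImmersion.hasAffineProperty _ _ h _ U hU]
  intro O
  refine ⟨?_, ?_⟩
  · exact (O.2.preimage (h ≫ f) : IsAffineOpen ((h ≫ f) ⁻¹ᵁ O.1))
  · rw [morphismRestrict_appTop]
    have := h3 ((U O).1.ι ''ᵁ ⊤) ⟨O, by rw [Scheme.Opens.ι_image_top]⟩
    have key2 : ∀ (P Q : X'.Opens) (e : P = Q), Function.Bijective (X'.presheaf.map (eqToHom e).op).hom := by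
      intro P Q e
      subst e
      simp only [eqToHom_refl, op_id, CategoryTheory.Functor.map_id]
      exact Function.bijective_id
    have key : ∀ {A B C : CommRingCat.{u}} (a : A ⟶ B) (b : B ⟶ C), Function.Surjective a.hom →
        Function.Bijective b.hom → Function.Surjective (a ≫ b).hom := by
      intro A B C a b ha hb
      rw [CommRingCat.hom_comp, RingHom.coe_comp]
      exact hb.surjective.comp ha
    exact key _ _ this (key2 _ _ _)

end Groth.Agent.S3583
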