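import Groth.Statements.S3587
import Mathlib

set_option autoImplicit false
universe u
open CategoryTheory AlgebraicGeometry Opposite TopologicalSpace
open EGA2

namespace Groth.Agent.S3587


/-- Let S be a graded ring, M a graded S-module, f a homogeneous element of degree d > 0 and m a
homogeneous element of M. If the fraction m/f^k vanishes in the localized module M_x for every point
x of D_+(f), then f^N m = 0 for some N (so m/f^k = 0 in M_(f)); this is the injectivity half of the
identification of the sections of M~ over D_+(f) with M_(f). -/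
theorem result {R A : Type u} [CommRing R] [CommRing A] [Algebra R A] (𝒜 : ℕ → Submodule R A) [GradedAlgebra 𝒜]
    {M : Type u} [AddCommGroup M] [Module R M] [Module A M] [IsScalarTower R A M] (ℳ : ℕ → Submodule R M) [DirectSum.Decomposition ℳ] [SetLike.GradedSMul 𝒜 ℳ] {d : ℕ} (hd : 0 < d) {f : A} (hf : f ∈ 𝒜 d) (k i : ℕ) (m : ℳ i)
    (h : ∀ x : ProjectiveSpectrum.basicOpen 𝒜 f,
      (LocalizedModule.mk m.1 ⟨f ^ k, fun h => (ProjectiveSpectrum.mem_basicOpen 𝒜 f x.1).mp x.2
        (x.1.isPrime.mem_of_pow_mem k h)⟩ : GrTilde.LocMod 𝒜 (M := M) x.1) = 0) :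
    ∃ N : ℕ, f ^ N • m.1 = 0 := by
  classical
  set I : Ideal A := Ideal.torsionOf A M m.1 with hI
  have hmemI : ∀ a : A, a ∈ I ↔ a • m.1 = 0 := fun a => Ideal.mem_torsionOf_iff _ _
  have hIhom : I.IsHomogeneous 𝒜 := by
    intro j a ha
    rw [hmemI] at ha ⊢
    have hmemj : ∀ j : ℕ, (DirectSum.decompose 𝒜 a j : A) • m.1 ∈ ℳ (j + i) := fun j => by
      have := SetLike.GradedSMul.smul_mem (A := 𝒜) (B := ℳ) (SetLike.coe_mem (DirectSum.decompose 𝒜 a j)) m.2
      simpa [vadd_eq_add] using this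
    have hsum : ∑ j ∈ (DirectSum.decompose 𝒜 a).support, (DirectSum.decompose 𝒜 a j : A) • m.1 = 0 := by
      rw [← Finset.sum_smul, DirectSum.sum_support_decompose 𝒜 a, ha]
    by_cases hj : j ∈ (DirectSum.decompose 𝒜 a).support
    · have h1 : ((DirectSum.decompose ℳ (∑ j ∈ (DirectSum.decompose 𝒜 a).support,
          (DirectSum.decompose 𝒜 a j : A) • m.1)) (j + i) : M) = 0 := by
        rw [hsum]; simp
      rw [DirectSum.decompose_sum, DFinsupp.finsetSum_apply, AddSubmonoidClass.coe_finsetSum,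
        Finset.sum_eq_single j] at h1
      · rwa [DirectSum.decompose_of_mem_same ℳ (hmemj j)] at h1
      · intro j' _ hne
        apply DirectSum.decompose_of_mem_ne ℳ (hmemj j')
        omega
      · intro hh; exact (hh hj).elim
    · rw [DFinsupp.notMem_support_iff] at hj
      rw [hj]
      simp
  suffices hfrad : f ∈ I.radical by
    obtain ⟨N, hN⟩ := hfrad
    exact ⟨N, (hmemI _).1 hN⟩
  rw [hIhom.radical_eq, Ideal.mem_sInf]
  rintro J ⟨hJhom, hIJ, hJprime⟩
  by_contra hfJ
  have hJrel : ¬ (HomogeneousIdeal.irrelevant 𝒜).toIdeal ≤ J := by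
    intro hle
    exact hfJ (hle (HomogeneousIdeal.mem_irrelevant_of_mem 𝒜 hd hf))
  let x : ProjectiveSpectrum 𝒜 := ⟨⟨J, hJhom⟩, hJprime, hJrel⟩
  have hx : x ∈ ProjectiveSpectrum.basicOpen 𝒜 f := (ProjectiveSpectrum.mem_basicOpen 𝒜 f x).2 hfJ
  have h0 := h ⟨x, hx⟩
  rw [← LocalizedModule.zero_mk 1, LocalizedModule.mk_eq] at h0
  obtain ⟨u, hu⟩ := h0
  simp only [one_smul, smul_zero] at hu
  have : (u : A) ∈ I := (hmemI _).2 hu
  exact u.2 (hIJ this)

end Groth.Agent.S3587
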