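import Groth.Statements.S3588
import Groth.Agent.S3563
import Groth.Agent.S3556

set_option autoImplicit false
universe u
open CategoryTheory CategoryTheory.Limits AlgebraicGeometry
open EGA2

namespace Groth.Agent.S3588


/-- Let S be a graded ring, N_+ the set of nilpotent elements of S_+ (an ideal of S), and S → S/N_+ the
quotient (here: any surjective homomorphism of graded rings φ : S → S' whose kernel is N_+). Then
the induced morphism Proj S' → Proj S is a closed immersion which is a homeomorphism of the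
underlying spaces, and Proj S' is reduced; thus Proj S' is the reduced closed subscheme (Proj
S)_red. -/
theorem result {R A : Type u} [CommRing R] [CommRing A] [Algebra R A] (𝒜 : ℕ → Submodule R A) [GradedAlgebra 𝒜]
    {B : Type u} [CommRing B] [Algebra R B] (ℬ : ℕ → Submodule R B) [GradedAlgebra ℬ]
    (φ : 𝒜 →+*ᵍ ℬ) (hsurj : Function.Surjective φ)
    (hker : ∀ a : A, φ a = 0 ↔ a ∈ (HomogeneousIdeal.irrelevant 𝒜).toIdeal ∧ IsNilpotent a)
    (hφ : HomogeneousIdeal.irrelevant ℬ ≤ (HomogeneousIdeal.irrelevant 𝒜).map φ) :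
    IsClosedImmersion (Proj.map φ hφ) ∧ IsHomeomorph (Proj.map φ hφ).base ∧
      AlgebraicGeometry.IsReduced (Proj ℬ) := by
  classical
  have hci : IsClosedImmersion (Proj.map φ hφ) := Groth.Agent.S3563.result 𝒜 ℬ φ hsurj hφ
  have hred : AlgebraicGeometry.IsReduced (Proj ℬ) := by
    apply Groth.Agent.S3556.result ℬ
    intro b hb hbnil
    obtain ⟨a', rfl⟩ := hsurj b
    have hφa0 : φ (DirectSum.decompose 𝒜 a' 0 : A) = 0 := by
      rw [GradedRingHom.map_directSumDecompose]
      exact (HomogeneousIdeal.mem_irrelevant_iff ℬ _).1 hb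
    have haS : a' - (DirectSum.decompose 𝒜 a' 0 : A) ∈ (HomogeneousIdeal.irrelevant 𝒜).toIdeal := by
      change _ ∈ HomogeneousIdeal.irrelevant 𝒜
      rw [HomogeneousIdeal.mem_irrelevant_iff, GradedRing.proj_apply, DirectSum.decompose_sub,
        DirectSum.sub_apply, DirectSum.decompose_coe, DirectSum.of_eq_same]
      simp
    have hφa : φ (a' - (DirectSum.decompose 𝒜 a' 0 : A)) = φ a' := by
      rw [map_sub, hφa0, sub_zero]
    obtain ⟨n, hn⟩ := hbnil
    have h1 : φ ((a' - (DirectSum.decompose 𝒜 a' 0 : A)) ^ n) = 0 := by rw [map_pow, hφa, hn]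
    obtain ⟨-, m, hm⟩ := (hker _).1 h1
    have hanil : IsNilpotent (a' - (DirectSum.decompose 𝒜 a' 0 : A)) := ⟨n * m, by rw [pow_mul, hm]⟩
    rw [← hφa]
    exact (hker _).2 ⟨haS, hanil⟩
  refine ⟨hci, ?_, hred⟩
  rw [isHomeomorph_iff_isEmbedding_surjective]
  refine ⟨(Scheme.Hom.isClosedEmbedding (Proj.map φ hφ)).isEmbedding, ?_⟩
  intro x
  have hkerx : RingHom.ker φ ≤ x.asHomogeneousIdeal.toIdeal := by
    intro a ha
    obtain ⟨-, n, hn⟩ := (hker a).1 ha
    exact x.isPrime.mem_of_pow_mem n (by rw [hn]; exact zero_mem _)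
  have hcomap : Ideal.comap φ (Ideal.map φ x.asHomogeneousIdeal.toIdeal) = x.asHomogeneousIdeal.toIdeal := by
    rw [Ideal.comap_map_of_surjective φ hsurj, sup_eq_left]
    exact hkerx
  have hxp : x.asHomogeneousIdeal.toIdeal.IsPrime := x.isPrime
  have hprime : (Ideal.map φ x.asHomogeneousIdeal.toIdeal).IsPrime :=
    Ideal.map_isPrime_of_surjective hsurj hkerx
  have hrel : ¬ (HomogeneousIdeal.irrelevant ℬ).toIdeal ≤ (x.asHomogeneousIdeal.map φ).toIdeal := by
    intro hle
    apply x.not_irrelevant_le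
    intro a ha
    have h1 : φ a ∈ (HomogeneousIdeal.irrelevant ℬ).toIdeal := by
      change φ a ∈ HomogeneousIdeal.irrelevant ℬ
      rw [HomogeneousIdeal.mem_irrelevant_iff, GradedRing.proj_apply, ← GradedRingHom.map_directSumDecompose]
      have : (DirectSum.decompose 𝒜 a 0 : A) = 0 := (HomogeneousIdeal.mem_irrelevant_iff 𝒜 a).1 ha
      rw [this, map_zero]
    have h2 : a ∈ Ideal.comap φ (Ideal.map φ x.asHomogeneousIdeal.toIdeal) := hle h1
    rw [hcomap] at h2
    exact h2
  refine ⟨⟨x.asHomogeneousIdeal.map φ, hprime, hrel⟩, ?_⟩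
  apply ProjectiveSpectrum.ext
  apply HomogeneousIdeal.toIdeal_injective
  exact hcomap

end Groth.Agent.S3588
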