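import Groth.Statements.S3593
import Mathlib

set_option autoImplicit false
universe u
open CategoryTheory CategoryTheory.Limits AlgebraicGeometry
open EGA2

namespace Groth.Agent.S3593

lemma cone_key {R A : Type u} [CommRing R] [CommRing A] [Algebra R A] (𝒜 : ℕ → Submodule R A) [GradedAlgebra 𝒜]
    {B : Type u} [CommRing B] [Algebra R B] (ℬ : ℕ → Submodule R B) [GradedAlgebra ℬ]
    [Algebra A B] (φ : 𝒜 →+*ᵍ ℬ) (hφ : ∀ a : A, φ a = algebraMap A B a)
    (z : B) (hz : z ∈ ℬ 1) (hinj : Function.Injective (Polynomial.aeval (R := A) z))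
    (n : ℕ) (p : Polynomial A) (hp : Polynomial.aeval z p ∈ ℬ n) (h0 : p.eval 1 = 0) : p = 0 := by
  classical
  set d : ℕ → A := fun i => (DirectSum.decompose 𝒜 (p.coeff i) (n - i) : A) with hd
  set q : Polynomial A := ∑ i ∈ Finset.range (n + 1), Polynomial.C (d i) * Polynomial.X ^ i with hq
  have hzi : ∀ i : ℕ, z ^ i ∈ ℬ i := fun i => by
    have := SetLike.pow_mem_graded i hz
    simpa using this
  have hqp : Polynomial.aeval z q = Polynomial.aeval z p := by
    set N := max (p.natDegree + 1) (n + 1) with hN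
    have hpexp : Polynomial.aeval z p = ∑ i ∈ Finset.range N, p.coeff i • z ^ i :=
      Polynomial.aeval_eq_sum_range' (by omega) z
    conv_rhs => rw [← DirectSum.decompose_of_mem_same ℬ hp, hpexp]
    rw [DirectSum.decompose_sum, DFinsupp.finsetSum_apply, AddSubmonoidClass.coe_finsetSum]
    have hterm : ∀ i, ((DirectSum.decompose ℬ (p.coeff i • z ^ i)) n : B) =
        if i ≤ n then algebraMap A B (d i) * z ^ i else 0 := by
      intro i
      rw [Algebra.smul_def, DirectSum.coe_decompose_mul_of_right_mem ℬ n (hzi i)]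
      split_ifs with h
      · rw [← hφ, ← hφ, hd]
        simp only
        rw [GradedRingHom.map_directSumDecompose]
      · rfl
    simp_rw [hterm]
    rw [Finset.sum_ite, Finset.sum_const_zero, add_zero]
    have : Finset.filter (fun i => i ≤ n) (Finset.range N) = Finset.range (n + 1) := by
      ext i
      simp only [Finset.mem_filter, Finset.mem_range]
      omega
    rw [this, hq, map_sum]
    apply Finset.sum_congr rfl
    intro i _
    simp
  have hpq : p = q := (hinj hqp).symm
  have hdmem : ∀ i, d i ∈ 𝒜 (n - i) := fun i => SetLike.coe_mem _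
  have hsum : ∑ i ∈ Finset.range (n + 1), d i = 0 := by
    rw [← h0, hpq, hq, Polynomial.eval_finsetSum]
    apply Finset.sum_congr rfl
    intro i _
    simp
  have hd0 : ∀ j ∈ Finset.range (n + 1), d j = 0 := by
    intro j hj
    have h1 : ((DirectSum.decompose 𝒜 (∑ i ∈ Finset.range (n + 1), d i)) (n - j) : A) = 0 := by
      rw [hsum]; simp
    rw [DirectSum.decompose_sum, DFinsupp.finsetSum_apply, AddSubmonoidClass.coe_finsetSum] at h1
    rw [Finset.sum_eq_single j] at h1
    · rwa [DirectSum.decompose_of_mem_same 𝒜 (hdmem j)] at h1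
    · intro i hi hij
      apply DirectSum.decompose_of_mem_ne 𝒜 (hdmem i)
      rw [Finset.mem_range] at hi hj
      omega
    · intro h; exact (h hj).elim
  rw [hpq, hq]
  apply Finset.sum_eq_zero
  intro i hi
  rw [hd0 i hi]
  simp

/-- Let S be a graded R-algebra, Ŝ a graded R-algebra with a graded homomorphism φ : S → Ŝ making Ŝ an
S-algebra, and z an element of Ŝ of degree one such that the S-algebra map S[X] → Ŝ, X ↦ z, is
bijective (so Ŝ = S[z] with z in degree one, the graded ring of the projective cone of S). Then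
there is a ring isomorphism S ≅ Ŝ_(z) onto the degree-zero localization at z, sending a homogeneous
a of degree n to φ(a)/z^n. (This is the isomorphism that identifies the affine cone Spec S with the
open D_+(z) of the projective cone Proj Ŝ; that identification itself is not asserted here.) -/
theorem result {R A : Type u} [CommRing R] [CommRing A] [Algebra R A] (𝒜 : ℕ → Submodule R A) [GradedAlgebra 𝒜]
    {B : Type u} [CommRing B] [Algebra R B] (ℬ : ℕ → Submodule R B) [GradedAlgebra ℬ]
    [Algebra A B] [IsScalarTower R A B] (φ : 𝒜 →+*ᵍ ℬ) (hφ : ∀ a : A, φ a = algebraMap A B a)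
    (z : B) (hz : z ∈ ℬ 1) (hhat : Function.Bijective (Polynomial.aeval (R := A) z)) :
    ∃ θ : A ≃+* HomogeneousLocalization.Away ℬ z,
      ∀ (n : ℕ) (a : A), a ∈ 𝒜 n → (θ a).val = Localization.mk (φ a) ⟨z ^ n, pow_mem (Submonoid.mem_powers z) n⟩ := by
  classical
  let e : Polynomial A ≃ₐ[A] B := AlgEquiv.ofBijective (Polynomial.aeval (R := A) z) hhat
  let ε : B →+* A := (Polynomial.evalRingHom (1 : A)).comp (e.symm : B →+* Polynomial A)
  have hεz : ε z = 1 := by
    have : e.symm z = Polynomial.X := by
      rw [AlgEquiv.symm_apply_eq]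
      simp [e]
    simp [ε, this]
  have hεφ : ∀ a, ε (φ a) = a := by
    intro a
    have : e.symm (φ a) = Polynomial.C a := by
      rw [AlgEquiv.symm_apply_eq, hφ]
      simp [e]
    simp [ε, this]
  have hεe : ∀ p : Polynomial A, ε (Polynomial.aeval z p) = p.eval 1 := by
    intro p
    have : e.symm (Polynomial.aeval z p) = p := by
      rw [AlgEquiv.symm_apply_eq]
      rfl
    simp [ε, this]
  have hunit : IsUnit (ε z) := by rw [hεz]; exact isUnit_one
  let χ₀ : Localization.Away z →+* A := IsLocalization.Away.lift z hunit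
  let χ : HomogeneousLocalization.Away ℬ z →+* A :=
    χ₀.comp (algebraMap (HomogeneousLocalization.Away ℬ z) (Localization.Away z))
  have hχmk : ∀ (n : ℕ) (b : B) (hb : b ∈ ℬ (n • 1)),
      χ (HomogeneousLocalization.Away.mk ℬ hz n b hb) = ε b := by
    intro n b hb
    change χ₀ ((HomogeneousLocalization.Away.mk ℬ hz n b hb).val) = ε b
    rw [HomogeneousLocalization.Away.val_mk, Localization.mk_eq_mk']
    change IsLocalization.lift _ (IsLocalization.mk' (Localization.Away z) b
      (⟨z ^ n, n, rfl⟩ : Submonoid.powers z)) = ε b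
    rw [IsLocalization.lift_mk'_spec]
    simp [hεz]
  have hmk0 : ∀ (n : ℕ) (h0 : (0 : B) ∈ ℬ (n • 1)),
      HomogeneousLocalization.Away.mk ℬ hz n 0 h0 = 0 := by
    intro n h0
    apply HomogeneousLocalization.val_injective
    rw [HomogeneousLocalization.Away.val_mk, HomogeneousLocalization.val_zero, Localization.mk_zero]
  have hinj : Function.Injective χ := by
    rw [injective_iff_map_eq_zero]
    intro y hy
    obtain ⟨n, b, hb, rfl⟩ := HomogeneousLocalization.Away.mk_surjective ℬ hz y
    rw [hχmk] at hy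
    obtain ⟨p, rfl⟩ := hhat.2 b
    rw [hεe] at hy
    have hb' : Polynomial.aeval z p ∈ ℬ n := by simpa using hb
    have hp0 := cone_key 𝒜 ℬ φ hφ z hz hhat.1 n p hb' hy
    subst hp0
    simp only [map_zero]
    exact hmk0 n _
  have hsurj : Function.Surjective χ := by
    intro a
    refine ⟨∑ n ∈ (DirectSum.decompose 𝒜 a).support, HomogeneousLocalization.Away.mk ℬ hz n
      (φ (DirectSum.decompose 𝒜 a n)) (by
        simp), ?_⟩
    rw [map_sum]
    simp_rw [hχmk, hεφ]
    exact DirectSum.sum_support_decompose 𝒜 a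
  refine ⟨(RingEquiv.ofBijective χ ⟨hinj, hsurj⟩).symm, ?_⟩
  intro n a ha
  have hb : φ a ∈ ℬ (n • 1) := by
    have := φ.map_mem ha
    simpa using this
  have h1 : (RingEquiv.ofBijective χ ⟨hinj, hsurj⟩).symm a =
      HomogeneousLocalization.Away.mk ℬ hz n (φ a) hb := by
    rw [RingEquiv.symm_apply_eq]
    change a = χ _
    rw [hχmk, hεφ]
  rw [h1, HomogeneousLocalization.Away.val_mk]

end Groth.Agent.S3593
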