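import Groth.Statements.S3594
import Mathlib

set_option autoImplicit false
universe u
open CategoryTheory CategoryTheory.Limits AlgebraicGeometry
open EGA2

namespace Groth.Agent.S3594


/-- The closed immersion at infinity of a projective cone: let S be a graded R-algebra and Ŝ a graded
R-algebra over S such that the structure map φ : S → Ŝ is a graded homomorphism and Ŝ = S[z] is the
polynomial algebra on an element z of degree one (evaluation at z is a bijection S[T] → Ŝ); let ψ :
Ŝ → S be a graded homomorphism retracting φ and killing z, with S₊ contained in the ideal generated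
by ψ(Ŝ₊) so that j = Proj(ψ) : X = Proj S → Ĉ = Proj Ŝ is defined (it is the canonical closed
immersion). Then the image of j is exactly the complement of the open subset D₊(z) of Proj Ŝ (which
is the affine cone C = Spec S). -/
theorem result {R A : Type u} [CommRing R] [CommRing A] [Algebra R A] (𝒜 : ℕ → Submodule R A) [GradedAlgebra 𝒜]
    {B : Type u} [CommRing B] [Algebra R B] (ℬ : ℕ → Submodule R B) [GradedAlgebra ℬ]
    [Algebra A B] [IsScalarTower R A B] (φ : 𝒜 →+*ᵍ ℬ) (hφ : ∀ a : A, φ a = algebraMap A B a)
    (z : B) (hz : z ∈ ℬ 1) (hhat : Function.Bijective (Polynomial.aeval (R := A) z))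
    (ψ : ℬ →+*ᵍ 𝒜) (hψφ : ∀ a : A, ψ (φ a) = a) (hψz : ψ z = 0)
    (hψ : HomogeneousIdeal.irrelevant 𝒜 ≤ (HomogeneousIdeal.irrelevant ℬ).map ψ) :
    Set.range (Proj.map ψ hψ).base = ((Proj.basicOpen ℬ z : Set (Proj ℬ)))ᶜ := by
  have hψb : ∀ b : B, b - φ (ψ b) ∈ Ideal.span {z} := by
    intro b
    obtain ⟨p, rfl⟩ := hhat.2 b
    induction p using Polynomial.induction_on' with
    | add p q hp hq =>
      have : (Polynomial.aeval z (p + q)) - φ (ψ (Polynomial.aeval z (p + q))) =
          (Polynomial.aeval z p - φ (ψ (Polynomial.aeval z p))) +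
          (Polynomial.aeval z q - φ (ψ (Polynomial.aeval z q))) := by
        simp only [map_add]; ring
      rw [this]
      exact Ideal.add_mem _ hp hq
    | monomial n a =>
      rw [Polynomial.aeval_monomial, ← hφ]
      cases n with
      | zero => simp [hψφ]
      | succ n =>
        have : ψ (φ a * z ^ (n + 1)) = 0 := by rw [map_mul, map_pow, hψz]; simp
        rw [this, map_zero, sub_zero, pow_succ, ← mul_assoc]
        exact Ideal.mul_mem_left _ _ (Ideal.mem_span_singleton_self z)
  ext y
  simp only [Set.mem_range, Set.mem_compl_iff, SetLike.mem_coe, Proj.mem_basicOpen, not_not]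
  constructor
  · rintro ⟨x, rfl⟩
    change ψ z ∈ x.asHomogeneousIdeal
    rw [hψz]; exact zero_mem _
  · intro hzy
    have hspan : Ideal.span {z} ≤ y.asHomogeneousIdeal.toIdeal := by
      rw [Ideal.span_le]
      intro w hw
      rw [Set.mem_singleton_iff] at hw
      subst hw
      exact hzy
    have hrel : ¬ (HomogeneousIdeal.irrelevant 𝒜).toIdeal ≤ (y.asHomogeneousIdeal.comap φ).toIdeal := by
      intro hle
      apply y.not_irrelevant_le
      intro b hb
      have h1 : ψ b ∈ (HomogeneousIdeal.irrelevant 𝒜).toIdeal := by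
        change ψ b ∈ HomogeneousIdeal.irrelevant 𝒜
        rw [HomogeneousIdeal.mem_irrelevant_iff, GradedRing.proj_apply,
          ← GradedRingHom.map_directSumDecompose]
        have : (DirectSum.decompose ℬ b 0 : B) = 0 := (HomogeneousIdeal.mem_irrelevant_iff ℬ b).1 hb
        rw [this, map_zero]
      have h2 : φ (ψ b) ∈ y.asHomogeneousIdeal.toIdeal := hle h1
      have h3 := hspan (hψb b)
      have := Ideal.add_mem _ h3 h2
      simpa using this
    refine ⟨⟨y.asHomogeneousIdeal.comap φ, y.isPrime.comap φ, hrel⟩, ?_⟩
    apply ProjectiveSpectrum.ext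
    apply HomogeneousIdeal.toIdeal_injective
    ext b
    change φ (ψ b) ∈ y.asHomogeneousIdeal.toIdeal ↔ b ∈ y.asHomogeneousIdeal.toIdeal
    have h3 := hspan (hψb b)
    constructor
    · intro h2
      have := Ideal.add_mem _ h3 h2
      simpa using this
    · intro h2
      have := Ideal.sub_mem _ h2 h3
      simpa using this

end Groth.Agent.S3594
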