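import Groth.Statements.S3595
import Mathlib

set_option autoImplicit false
universe u
open CategoryTheory CategoryTheory.Limits AlgebraicGeometry
open EGA2

namespace Groth.Agent.S3595

section
variable {R A : Type u} [CommRing R] [CommRing A] [Algebra R A] {𝒜 : ℕ → Submodule R A} [GradedAlgebra 𝒜]
    {B : Type u} [CommRing B] [Algebra R B] {ℬ : ℕ → Submodule R B} [GradedAlgebra ℬ] (φ : 𝒜 →+*ᵍ ℬ)

lemma pc_ring {d n : ℕ} {t s t' : A} (ht : t ∈ 𝒜 d) (hs : s ∈ 𝒜 n) (hts : t' = t * s) :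
    (HomogeneousLocalization.Away.map φ t').comp (HomogeneousLocalization.awayMap 𝒜 hs hts) =
      (HomogeneousLocalization.awayMap ℬ (f := φ t) (g := φ s) (x := φ t') (φ.2 hs)
        (by rw [hts, map_mul])).comp (HomogeneousLocalization.Away.map φ t) := by
  ext a
  obtain ⟨k, a, ha, rfl⟩ := HomogeneousLocalization.Away.mk_surjective 𝒜 ht a
  simp only [RingHom.coe_comp, Function.comp_apply]
  rw [HomogeneousLocalization.awayMap_mk, HomogeneousLocalization.Away.map_mk,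
    HomogeneousLocalization.Away.map_mk, HomogeneousLocalization.awayMap_mk]
  rw [HomogeneousLocalization.Away.val_mk, HomogeneousLocalization.Away.val_mk]
  simp only [map_mul, map_pow]

/-- the opens `D_+(φ r) ∩ G(φ)` of `G(φ)` -/
noncomputable def pcU (r : A) : (PCone.dom φ : Scheme.{u}).Opens :=
  (PCone.dom φ).ι ⁻¹ᵁ Proj.basicOpen ℬ (φ r)

lemma pc_chartι {e : ℕ} {g : A} (hg : g ∈ 𝒜 e) (he : 0 < e) :
    PCone.chart φ hg he ≫ (PCone.dom φ).ι = Proj.awayι ℬ (φ g) (φ.2 hg) he :=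
  IsOpenImmersion.lift_fac _ _ _

instance pc_chart_isOpenImmersion {e : ℕ} {g : A} (hg : g ∈ 𝒜 e) (he : 0 < e) :
    IsOpenImmersion (PCone.chart φ hg he) := by
  have : IsOpenImmersion (PCone.chart φ hg he ≫ (PCone.dom φ).ι) := by
    rw [pc_chartι φ hg he]; infer_instance
  exact IsOpenImmersion.of_comp _ (PCone.dom φ).ι

lemma pc_range {e : ℕ} {g : A} (hg : g ∈ 𝒜 e) (he : 0 < e) :
    Set.range (pcU φ g).ι.base = Set.range (PCone.chart φ hg he).base := by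
  rw [Scheme.Opens.range_ι]
  ext x
  have key : (PCone.dom φ).ι x ∈ Set.range (Proj.awayι ℬ (φ g) (φ.2 hg) he).base ↔
      x ∈ Set.range (PCone.chart φ hg he).base := by
    rw [← pc_chartι φ hg he]
    constructor
    · rintro ⟨y, hy⟩
      exact ⟨y, (PCone.dom φ).ι.isOpenEmbedding.injective hy⟩
    · rintro ⟨y, rfl⟩
      exact ⟨y, rfl⟩
  rw [← key]
  have h1 := Proj.opensRange_awayι ℬ (φ g) (φ.2 hg) he
  have h2 : Set.range (Proj.awayι ℬ (φ g) (φ.2 hg) he).base = (Proj.basicOpen ℬ (φ g) : Set (Proj ℬ)) :=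
    congrArg (fun U : (Proj ℬ).Opens => (U : Set (Proj ℬ))) h1
  rw [h2]
  rfl

/-- the identification of `D_+(φ r) ∩ G(φ)` with `Spec ℬ_(φ r)` -/
noncomputable def pcIso {e : ℕ} {g : A} (hg : g ∈ 𝒜 e) (he : 0 < e) :
    (pcU φ g : Scheme.{u}) ≅ Spec (CommRingCat.of (HomogeneousLocalization.Away ℬ (φ g))) :=
  IsOpenImmersion.isoOfRangeEq (pcU φ g).ι (PCone.chart φ hg he) (pc_range φ hg he)

lemma pcIso_hom_chart {e : ℕ} {g : A} (hg : g ∈ 𝒜 e) (he : 0 < e) :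
    (pcIso φ hg he).hom ≫ PCone.chart φ hg he = (pcU φ g).ι :=
  IsOpenImmersion.isoOfRangeEq_hom_fac _ _ _

/-- the local pieces of the retraction -/
noncomputable def pcq {e : ℕ} {g : A} (hg : g ∈ 𝒜 e) (he : 0 < e) : (pcU φ g : Scheme.{u}) ⟶ Proj 𝒜 :=
  (pcIso φ hg he).hom ≫ Spec.map (CommRingCat.ofHom (HomogeneousLocalization.Away.map φ g)) ≫
    Proj.awayι 𝒜 g hg he

lemma pcU_le {t s t' : A} (hts : t' = t * s) : pcU φ t' ≤ pcU φ t := by
  intro x hx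
  change (PCone.dom φ).ι x ∈ Proj.basicOpen ℬ (φ t') at hx
  change (PCone.dom φ).ι x ∈ Proj.basicOpen ℬ (φ t)
  rw [hts, map_mul, Proj.basicOpen_mul] at hx
  exact hx.1

lemma pcq_compat {d n d' : ℕ} {t s t' : A} (ht : t ∈ 𝒜 d) (hd : 0 < d) (hs : s ∈ 𝒜 n) (hts : t' = t * s)
    (ht' : t' ∈ 𝒜 d') (hd' : 0 < d') :
    (PCone.dom φ : Scheme.{u}).homOfLE (pcU_le φ hts) ≫ pcq φ ht hd = pcq φ ht' hd' := by
  unfold pcq
  have hx : φ t' = φ t * φ s := by rw [hts, map_mul]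
  have h1 : (PCone.dom φ : Scheme.{u}).homOfLE (pcU_le φ hts) ≫ (pcIso φ ht hd).hom =
      (pcIso φ ht' hd').hom ≫ Spec.map (CommRingCat.ofHom
        (HomogeneousLocalization.awayMap ℬ (f := φ t) (g := φ s) (x := φ t') (φ.2 hs) hx)) := by
    rw [← cancel_mono (PCone.chart φ ht hd ≫ (PCone.dom φ).ι)]
    simp only [Category.assoc]
    rw [reassoc_of% pcIso_hom_chart φ ht hd, Scheme.homOfLE_ι_assoc, pc_chartι φ ht hd]
    have h4 : Spec.map (CommRingCat.ofHom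
        (HomogeneousLocalization.awayMap ℬ (f := φ t) (g := φ s) (x := φ t') (φ.2 hs) hx)) ≫
        Proj.awayι ℬ (φ t) (φ.2 ht) hd = Proj.awayι ℬ (φ t') (φ.2 ht') hd' :=
      Proj.SpecMap_awayMap_awayι ℬ (f := φ t) (g := φ s) (x := φ t') (φ.2 ht) hd (φ.2 hs) hx
    rw [h4, ← pc_chartι φ ht' hd', reassoc_of% pcIso_hom_chart φ ht' hd']
  have h2 : Proj.awayι 𝒜 t' ht' hd' =
      Spec.map (CommRingCat.ofHom (HomogeneousLocalization.awayMap 𝒜 hs hts)) ≫ Proj.awayι 𝒜 t ht hd :=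
    (Proj.SpecMap_awayMap_awayι 𝒜 ht hd hs hts).symm
  rw [reassoc_of% h1, h2, ← Spec.map_comp_assoc, ← Spec.map_comp_assoc, ← CommRingCat.ofHom_comp,
    ← CommRingCat.ofHom_comp, pc_ring φ ht hs hts]

lemma pc_isOpenCover : TopologicalSpace.IsOpenCover
    (fun ir : Σ' (i : ℕ) (r : A), 0 < i ∧ r ∈ 𝒜 i ↦ pcU φ ir.2.1) := by
  rw [TopologicalSpace.IsOpenCover, eq_top_iff]
  intro x _
  have hx : (PCone.dom φ).ι x ∈ PCone.dom φ := by
    have : (PCone.dom φ).ι x ∈ Set.range (PCone.dom φ).ι.base := ⟨x, rfl⟩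
    rw [Scheme.Opens.range_ι] at this
    exact this
  obtain ⟨⟨g, e, he, hg⟩, hxg⟩ := TopologicalSpace.Opens.mem_iSup.1 hx
  exact TopologicalSpace.Opens.mem_iSup.2 ⟨⟨e, g, he, hg⟩, hxg⟩

/-- the cover of `G(φ)` -/
noncomputable def pcCover : (PCone.dom φ : Scheme.{u}).OpenCover :=
  (PCone.dom φ : Scheme.{u}).openCoverOfIsOpenCover _ (pc_isOpenCover φ)

lemma pcU_mul (t s : A) : pcU φ t ⊓ pcU φ s = pcU φ (t * s) := by
  unfold pcU
  rw [map_mul, Proj.basicOpen_mul]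
  rfl

set_option backward.isDefEq.respectTransparency.types false in
set_option backward.defeqAttrib.useBackward true in
/-- the retraction `G(φ) ⟶ Proj 𝒜` -/
noncomputable def pcp : (PCone.dom φ : Scheme.{u}) ⟶ Proj 𝒜 := by
  refine (pcCover φ).glueMorphisms (fun ri ↦ pcq φ ri.2.2.2 ri.2.2.1) ?_
  rintro x y
  let e : pullback ((pcCover φ).f x) ((pcCover φ).f y) ≅ (pcU φ (x.2.1 * y.2.1) : Scheme.{u}) :=
    (isPullback_opens_inf _ _).isoPullback.symm ≪≫ (PCone.dom φ : Scheme.{u}).isoOfEq (pcU_mul φ _ _)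
  rw [← cancel_epi e.inv]
  trans pcq φ (SetLike.mul_mem_graded x.2.2.2 y.2.2.2) (Nat.add_pos_left x.2.2.1 y.1)
  · simpa [e, pcCover, Scheme.isoOfEq_inv] using
      pcq_compat φ x.2.2.2 x.2.2.1 y.2.2.2 rfl (SetLike.mul_mem_graded x.2.2.2 y.2.2.2)
        (Nat.add_pos_left x.2.2.1 y.1)
  · simpa [e, pcCover, Scheme.isoOfEq_inv] using
      (pcq_compat φ y.2.2.2 y.2.2.1 x.2.2.2 (mul_comm _ _) (SetLike.mul_mem_graded x.2.2.2 y.2.2.2)
        (Nat.add_pos_left x.2.2.1 y.1)).symm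

lemma pcp_ι {i : ℕ} {r : A} (hi : 0 < i) (hr : r ∈ 𝒜 i) :
    (pcU φ r).ι ≫ pcp φ = pcq φ hr hi :=
  (pcCover φ).ι_glueMorphisms _ _ ⟨i, r, hi, hr⟩

end

/-- Let φ : S′ → S be a homomorphism of graded rings and G(φ) ⊆ Proj S the open union of the basic opens
D_+(φ(f′)) for f′ ∈ S′ homogeneous of positive degree. There is exactly one morphism p : G(φ) → Proj
S′ whose restriction to each chart Spec S_(φ(f′)) of G(φ) is Spec of the induced map S′_(f′) →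
S_(φ(f′)) followed by Spec S′_(f′) ≅ D_+(f′) ⊆ Proj S′. -/
theorem result {R A : Type u} [CommRing R] [CommRing A] [Algebra R A] (𝒜 : ℕ → Submodule R A) [GradedAlgebra 𝒜]
    {B : Type u} [CommRing B] [Algebra R B] (ℬ : ℕ → Submodule R B) [GradedAlgebra ℬ] (φ : 𝒜 →+*ᵍ ℬ) :
    ∃! p : (PCone.dom φ : Scheme.{u}) ⟶ Proj 𝒜,
      ∀ (d : ℕ) (f : A) (hd : 0 < d) (hf : f ∈ 𝒜 d),
        PCone.chart φ hf hd ≫ p =
          Spec.map (CommRingCat.ofHom (HomogeneousLocalization.Away.map φ f)) ≫ Proj.awayι 𝒜 f hf hd := by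
  have hex : ∀ (d : ℕ) (f : A) (hd : 0 < d) (hf : f ∈ 𝒜 d),
      PCone.chart φ hf hd ≫ pcp φ =
        Spec.map (CommRingCat.ofHom (HomogeneousLocalization.Away.map φ f)) ≫ Proj.awayι 𝒜 f hf hd := by
    intro d f hd hf
    have h1 : PCone.chart φ hf hd = (pcIso φ hf hd).inv ≫ (pcU φ f).ι := by
      rw [Iso.eq_inv_comp]; exact pcIso_hom_chart φ hf hd
    rw [h1, Category.assoc, pcp_ι φ hd hf]
    unfold pcq
    rw [Iso.inv_hom_id_assoc]
  refine ⟨pcp φ, hex, ?_⟩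
  intro p' hp'
  apply Scheme.hom_ext_of_forall
  intro x
  have hx : x ∈ ⨆ ir : Σ' (i : ℕ) (r : A), 0 < i ∧ r ∈ 𝒜 i, pcU φ ir.2.1 := by
    rw [pc_isOpenCover φ]; trivial
  obtain ⟨⟨i, r, hi, hr⟩, hxr⟩ := TopologicalSpace.Opens.mem_iSup.1 hx
  refine ⟨_, hxr, ?_⟩
  change (pcU φ r).ι ≫ p' = (pcU φ r).ι ≫ pcp φ
  rw [← pcIso_hom_chart φ hr hi, Category.assoc, Category.assoc, hp' i r hi hr, hex i r hi hr]

end Groth.Agent.S3595
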