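import Groth.Statements.S3596
import Groth.Agent.H14Lib.Proj

set_option autoImplicit false
universe u
open CategoryTheory CategoryTheory.Limits AlgebraicGeometry
open EGA2

namespace Groth.Agent.S3596


/-- For a homomorphism of graded rings φ : S' → S, the induced morphism p : G(φ) → Proj S'
(characterised on the charts as in the previous result) is affine. -/
theorem result {R A : Type u} [CommRing R] [CommRing A] [Algebra R A] (𝒜 : ℕ → Submodule R A) [GradedAlgebra 𝒜]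
    {B : Type u} [CommRing B] [Algebra R B] (ℬ : ℕ → Submodule R B) [GradedAlgebra ℬ] (φ : 𝒜 →+*ᵍ ℬ)
    (p : (PCone.dom φ : Scheme.{u}) ⟶ Proj 𝒜) (hp : ∀ (d : ℕ) (f : A) (hd : 0 < d) (hf : f ∈ 𝒜 d),
        PCone.chart φ hf hd ≫ p =
          Spec.map (CommRingCat.ofHom (HomogeneousLocalization.Away.map φ f)) ≫ Proj.awayι 𝒜 f hf hd) :
    IsAffineHom p := by
  apply isAffineHom_of_forall_exists_isAffineOpen
  intro y
  obtain ⟨f, d, hd, hf, hy⟩ := Groth.Agent.H14Lib.exists_homogeneous_pos_mem_basicOpen 𝒜 y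
  refine ⟨Proj.basicOpen 𝒜 f, hy, Proj.isAffineOpen_basicOpen 𝒜 f hf hd, ?_⟩
  have hchartι : ∀ {e : ℕ} {g : A} (hg : g ∈ 𝒜 e) (he : 0 < e),
      PCone.chart φ hg he ≫ (PCone.dom φ).ι = Proj.awayι ℬ (φ g) (φ.2 hg) he := by
    intro e g hg he
    exact IsOpenImmersion.lift_fac _ _ _
  have key : ∀ {e : ℕ} {g : A} (hg : g ∈ 𝒜 e) (he : 0 < e),
      PCone.chart φ hg he ⁻¹ᵁ (p ⁻¹ᵁ Proj.basicOpen 𝒜 f) =
      PCone.chart φ hg he ⁻¹ᵁ ((PCone.dom φ).ι ⁻¹ᵁ Proj.basicOpen ℬ (φ f)) := by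
    intro e g hg he
    have h1 : Proj.awayι 𝒜 g hg he ⁻¹ᵁ Proj.basicOpen 𝒜 f =
        PrimeSpectrum.basicOpen (HomogeneousLocalization.Away.isLocalizationElem hg hf) :=
      Proj.awayι_preimage_basicOpen 𝒜 hg he hf hd
    have h2 : Proj.awayι ℬ (φ g) (φ.2 hg) he ⁻¹ᵁ Proj.basicOpen ℬ (φ f) =
        PrimeSpectrum.basicOpen (HomogeneousLocalization.Away.isLocalizationElem
          (𝒜 := ℬ) (f := φ g) (g := φ f) (φ.2 hg) (φ.2 hf)) :=
      Proj.awayι_preimage_basicOpen ℬ (φ.2 hg) he (φ.2 hf) hd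
    have h3 : HomogeneousLocalization.Away.map φ g (HomogeneousLocalization.Away.isLocalizationElem hg hf) =
        HomogeneousLocalization.Away.isLocalizationElem (𝒜 := ℬ) (f := φ g) (g := φ f) (φ.2 hg) (φ.2 hf) := by
      simp [HomogeneousLocalization.Away.isLocalizationElem]
    rw [← Scheme.Hom.comp_preimage, ← Scheme.Hom.comp_preimage, hp e g he hg, hchartι hg he,
      Scheme.Hom.comp_preimage, h1, h2, ← h3]
    rfl
  have hclaim : p ⁻¹ᵁ Proj.basicOpen 𝒜 f = (PCone.dom φ).ι ⁻¹ᵁ Proj.basicOpen ℬ (φ f) := by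
    ext x
    have hx : (PCone.dom φ).ι x ∈ PCone.dom φ := by
      have : (PCone.dom φ).ι x ∈ Set.range (PCone.dom φ).ι.base := ⟨x, rfl⟩
      rw [Scheme.Opens.range_ι] at this
      exact this
    obtain ⟨⟨g, e, he, hg⟩, hxg⟩ := TopologicalSpace.Opens.mem_iSup.1 hx
    rw [← Proj.opensRange_awayι ℬ (φ g) (φ.2 hg) he] at hxg
    obtain ⟨x', hx'⟩ := hxg
    have hx'' : PCone.chart φ hg he x' = x := by
      apply (PCone.dom φ).ι.isOpenEmbedding.injective
      rw [← hx', ← hchartι hg he]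
      rfl
    have := congrArg (fun W : TopologicalSpace.Opens _ => x' ∈ W) (key hg he)
    simp only [eq_iff_iff] at this
    rw [← hx'']
    exact this
  rw [hclaim]
  apply (Proj.isAffineOpen_basicOpen ℬ (φ f) (φ.2 hf) hd).preimage_of_isOpenImmersion
  rw [Scheme.Opens.opensRange_ι]
  exact le_iSup (fun g : {f : A // ∃ d : ℕ, 0 < d ∧ f ∈ 𝒜 d} => Proj.basicOpen ℬ (φ g.1)) ⟨f, d, hd, hf⟩

end Groth.Agent.S3596
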