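import Groth.Statements.S3597
import Groth.Agent.H14Lib.Proj

set_option autoImplicit false
universe u
open CategoryTheory CategoryTheory.Limits AlgebraicGeometry
open EGA2

namespace Groth.Agent.S3597


/-- Let S be a graded algebra over a ring and Ŝ = S[z] the graded S-algebra obtained by adjoining a
variable z in degree 1 (an S-algebra with an element z of degree 1 such that S[T] → Ŝ, T ↦ z, is
bijective), with φ : S → Ŝ the graded structure map and ψ : Ŝ → S the graded retraction with ψ ∘ φ =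
id and ψ(z) = 0 (the irrelevant-ideal containment needed to define Proj(ψ) on all of X = Proj S
carried as a hypothesis). Let Ê ⊆ Ĉ = Proj Ŝ be the pointed projective cone, the open union of the
D_+(φ f) for f ∈ S homogeneous of positive degree, and p : Ê → X a morphism which on each chart
D_+(φ f) = Spec Ŝ_{(φ f)} is induced by S_{(f)} → Ŝ_{(φ f)} (the canonical retraction). Then p is
surjective, and the closed immersion j = Proj(ψ) : X → Ĉ factors through Ê with p ∘ j = id_X. -/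
theorem result {R A : Type u} [CommRing R] [CommRing A] [Algebra R A] (𝒜 : ℕ → Submodule R A) [GradedAlgebra 𝒜]
    {B : Type u} [CommRing B] [Algebra R B] (ℬ : ℕ → Submodule R B) [GradedAlgebra ℬ]
    [Algebra A B] [IsScalarTower R A B] (φ : 𝒜 →+*ᵍ ℬ) (hφ : ∀ a : A, φ a = algebraMap A B a)
    (z : B) (hz : z ∈ ℬ 1) (hhat : Function.Bijective (Polynomial.aeval (R := A) z))
    (ψ : ℬ →+*ᵍ 𝒜) (hψφ : ∀ a : A, ψ (φ a) = a) (hψz : ψ z = 0)
    (hψ : HomogeneousIdeal.irrelevant 𝒜 ≤ (HomogeneousIdeal.irrelevant ℬ).map ψ)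
    (p : (PCone.dom φ : Scheme.{u}) ⟶ Proj 𝒜) (hp : ∀ (d : ℕ) (f : A) (hd : 0 < d) (hf : f ∈ 𝒜 d),
        PCone.chart φ hf hd ≫ p =
          Spec.map (CommRingCat.ofHom (HomogeneousLocalization.Away.map φ f)) ≫ Proj.awayι 𝒜 f hf hd) :
    Surjective p ∧ ∃ j : Proj 𝒜 ⟶ (PCone.dom φ : Scheme.{u}), j ≫ (PCone.dom φ).ι = Proj.map ψ hψ ∧ j ≫ p = 𝟙 (Proj 𝒜) := by
  classical
  have hchartι : ∀ {e : ℕ} {g : A} (hg : g ∈ 𝒜 e) (he : 0 < e),
      PCone.chart φ hg he ≫ (PCone.dom φ).ι = Proj.awayι ℬ (φ g) (φ.2 hg) he := by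
    intro e g hg he
    exact IsOpenImmersion.lift_fac _ _ _
  have hrange : Set.range (Proj.map ψ hψ).base ⊆ Set.range (PCone.dom φ).ι.base := by
    rw [Scheme.Opens.range_ι]
    rintro _ ⟨x, rfl⟩
    obtain ⟨f, d, hd, hf, hx⟩ := Groth.Agent.H14Lib.exists_homogeneous_pos_mem_basicOpen 𝒜 x
    apply TopologicalSpace.Opens.mem_iSup.2
    refine ⟨⟨f, d, hd, hf⟩, ?_⟩
    rw [Proj.mem_basicOpen] at hx ⊢
    intro h
    apply hx
    have : ψ (φ f) ∈ x.asHomogeneousIdeal := h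
    rwa [hψφ] at this
  let j : Proj 𝒜 ⟶ (PCone.dom φ : Scheme.{u}) := IsOpenImmersion.lift (PCone.dom φ).ι (Proj.map ψ hψ) hrange
  have hjι : j ≫ (PCone.dom φ).ι = Proj.map ψ hψ := IsOpenImmersion.lift_fac _ _ _
  have hcomp : ψ.comp φ = GradedRingHom.id 𝒜 := GradedRingHom.ext hψφ
  have hmapid : ∀ (χ : 𝒜 →+*ᵍ 𝒜) (hχ : χ = GradedRingHom.id 𝒜)
      (h' : HomogeneousIdeal.irrelevant 𝒜 ≤ (HomogeneousIdeal.irrelevant 𝒜).map χ),
      Proj.map χ h' = 𝟙 _ := by
    intro χ hχ h'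
    subst hχ
    exact Proj.map_id
  have hjp : j ≫ p = 𝟙 (Proj 𝒜) := by
    refine (Proj.affineOpenCover 𝒜).openCover.hom_ext _ _ fun s ↦ ?_
    obtain ⟨⟨d, hd⟩, ⟨f, hf⟩⟩ := s
    change f ∈ 𝒜 d at hf
    change Proj.awayι 𝒜 f hf hd ≫ j ≫ p = Proj.awayι 𝒜 f hf hd ≫ 𝟙 _
    rw [Category.comp_id]
    have key : ∀ (g : A) (hgf : g = ψ (φ f)) (hg : g ∈ 𝒜 d),
        Proj.awayι 𝒜 g hg hd ≫ j ≫ p = Proj.awayι 𝒜 g hg hd := by
      intro g hgf hg
      subst hgf
      have h1 : Proj.awayι 𝒜 (ψ (φ f)) hg hd ≫ j =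
          Spec.map (CommRingCat.ofHom (HomogeneousLocalization.Away.map ψ (φ f))) ≫ PCone.chart φ hf hd := by
        rw [← cancel_mono (PCone.dom φ).ι, Category.assoc, Category.assoc, hjι, hchartι hf hd]
        exact Proj.awayι_comp_map ψ hψ hd (φ f) (φ.2 hf)
      rw [reassoc_of% h1, hp d f hd hf, ← Category.assoc, ← Spec.map_comp, ← CommRingCat.ofHom_comp,
        ← HomogeneousLocalization.Away.map_comp]
      have h2 := Proj.awayι_comp_map (ψ.comp φ) (by rw [hcomp]; simp) hd f hf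
      refine h2.symm.trans ?_
      rw [hmapid _ hcomp, Category.comp_id]
      rfl
    exact key f (hψφ f).symm hf
  refine ⟨?_, j, hjι, hjp⟩
  have : Surjective (j ≫ p) := by rw [hjp]; infer_instance
  exact Surjective.of_comp j p

end Groth.Agent.S3597
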