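import Groth.Statements.S3694
import Mathlib.AlgebraicGeometry.Morphisms.FlatDescent
import Mathlib.AlgebraicGeometry.Morphisms.Etale
import Mathlib.AlgebraicGeometry.Morphisms.UniversallyInjective
import Mathlib.AlgebraicGeometry.Morphisms.IsIso

set_option autoImplicit false
universe u
open SGA1

namespace Groth.Agent.S3694

open AlgebraicGeometry CategoryTheory CategoryTheory.Limits MorphismProperty

theorem result {X Y : Scheme.{u}} (f : X ⟶ Y) [Etale f] [UniversallyInjective f] :
    IsOpenImmersion f := by
  -- the diagonal is a surjective open immersion, hence an isomorphism, so `f` is a monomorphism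
  have hsurj : Surjective (pullback.diagonal f) :=
    (UniversallyInjective.iff_diagonal f).mp inferInstance
  have hiso : IsIso (pullback.diagonal f) :=
    (isIso_iff_isOpenImmersion_and_surjective _).mpr ⟨inferInstance, hsurj⟩
  have hmono : Mono f := (pullback.isIso_diagonal_iff f).mp hiso
  -- `f` is open; factor through the open image
  let U : Y.Opens := ⟨Set.range f.base, f.isOpenMap.isOpen_range⟩
  let g : X ⟶ U := IsOpenImmersion.lift U.ι f (by simp [U])
  have hg : g ≫ U.ι = f := IsOpenImmersion.lift_fac _ _ _
  have hgmono : Mono g := by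
    have : Mono (g ≫ U.ι) := by rw [hg]; exact hmono
    exact mono_of_mono g U.ι
  have hgsurj : Surjective g := ⟨fun ⟨x, ⟨y, hy⟩⟩ ↦
    ⟨y, by apply U.ι.injective; simp [← Scheme.Hom.comp_apply, g, hy]⟩⟩
  have hget : Etale g := by
    have : Etale (g ≫ U.ι) := by rw [hg]; infer_instance
    exact Etale.of_comp g U.ι
  have hfst : IsIso (pullback.fst g g) := inferInstance
  have hgiso : IsIso g := by
    apply MorphismProperty.of_pullback_fst_of_descendsAlong
      (P := isomorphisms Scheme) (Q := @Surjective ⊓ @Flat ⊓ @LocallyOfFinitePresentation)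
      (f := g) (g := g) ?_ hfst
    exact ⟨⟨hgsurj, inferInstance⟩, inferInstance⟩
  rw [← hg]
  infer_instance
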