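import Groth.Statements.S4987
import Mathlib

set_option autoImplicit false
universe u
open CategoryTheory CategoryTheory.Limits AlgebraicGeometry TopologicalSpace
open Unram17

namespace Groth.Agent.S4987

section Helpers
open AlgebraicGeometry CategoryTheory CategoryTheory.Limits TopologicalSpace

/-- The open subscheme of `X` on which `f` and `g` agree (the diagonal of `h` being open). -/
noncomputable def eqOpens {X Y S : Scheme.{u}} (h : Y ⟶ S) [FormallyUnramified h]
    [LocallyOfFiniteType h] (f g : X ⟶ Y) (w : g ≫ h = f ≫ h) : X.Opens :=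
  (pullback.lift f g w.symm) ⁻¹ᵁ (pullback.diagonal h).opensRange

set_option backward.isDefEq.respectTransparency false in
theorem eqOpens_ι_comp {X Y S : Scheme.{u}} (h : Y ⟶ S) [FormallyUnramified h]
    [LocallyOfFiniteType h] (f g : X ⟶ Y) (w : g ≫ h = f ≫ h) :
    (eqOpens h f g w).ι ≫ f = (eqOpens h f g w).ι ≫ g := by
  have hr : Set.range ⇑((eqOpens h f g w).ι ≫ pullback.lift f g w.symm) ⊆
      Set.range ⇑(pullback.diagonal h) := by
    rintro _ ⟨z, rfl⟩
    have hz : (pullback.lift f g w.symm) ((eqOpens h f g w).ι z) ∈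
        (pullback.diagonal h).opensRange := z.2
    exact hz
  let k := IsOpenImmersion.lift (pullback.diagonal h)
    ((eqOpens h f g w).ι ≫ pullback.lift f g w.symm) hr
  have hk : k ≫ pullback.diagonal h = (eqOpens h f g w).ι ≫ pullback.lift f g w.symm :=
    IsOpenImmersion.lift_fac _ _ _
  have h1 : (eqOpens h f g w).ι ≫ f = k := by
    have := congrArg (· ≫ pullback.fst h h) hk
    simpa using this.symm
  have h2 : (eqOpens h f g w).ι ≫ g = k := by
    have := congrArg (· ≫ pullback.snd h h) hk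
    simpa using this.symm
  rw [h1, h2]

set_option backward.isDefEq.respectTransparency false in
theorem fiber_subset_eqOpens {X Y S : Scheme.{u}} (h : Y ⟶ S) [FormallyUnramified h]
    [LocallyOfFiniteType h] (f g : X ⟶ Y) (w : g ≫ h = f ≫ h) (s : S)
    (hs : (f ≫ h).fiberι s ≫ f = (f ≫ h).fiberι s ≫ g) (x : X) (hx : (f ≫ h) x = s) :
    x ∈ eqOpens h f g w := by
  obtain ⟨x₀, rfl⟩ : x ∈ Set.range ((f ≫ h).fiberι s) := by
    rw [Scheme.Hom.range_fiberι]; exact hx
  have hfac : (f ≫ h).fiberι s ≫ pullback.lift f g w.symm =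
      ((f ≫ h).fiberι s ≫ f) ≫ pullback.diagonal h := by
    apply pullback.hom_ext
    · simp
    · simp [hs]
  show (pullback.lift f g w.symm) (((f ≫ h).fiberι s) x₀) ∈ (pullback.diagonal h).opensRange
  rw [← Scheme.Hom.comp_apply, hfac, Scheme.Hom.comp_apply]
  exact ⟨_, rfl⟩

set_option backward.isDefEq.respectTransparency false in
theorem main4987 {X Y S : Scheme.{u}} (h : Y ⟶ S)
    [FormallyUnramified h] [LocallyOfFiniteType h] (f g : X ⟶ Y) (w : g ≫ h = f ≫ h)
    (hc : IsClosedMap (f ≫ h).base) (s : ↥S)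
    (hs : (f ≫ h).fiberι s ≫ f = (f ≫ h).fiberι s ≫ g) :
    ∃ V : S.Opens, s ∈ V ∧ ((f ≫ h) ⁻¹ᵁ V).ι ≫ f = ((f ≫ h) ⁻¹ᵁ V).ι ≫ g := by
  have hC : IsClosed ((f ≫ h).base '' ((eqOpens h f g w : Set X)ᶜ)) :=
    hc _ (eqOpens h f g w).isOpen.isClosed_compl
  let V : S.Opens := ⟨((f ≫ h).base '' ((eqOpens h f g w : Set X)ᶜ))ᶜ, hC.isOpen_compl⟩
  have hsV : s ∈ V := by
    rintro ⟨c, hcZ, hcs⟩
    exact hcZ (fiber_subset_eqOpens h f g w s hs c hcs)
  have hle : (f ≫ h) ⁻¹ᵁ V ≤ eqOpens h f g w := by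
    intro x hx
    by_contra hxZ
    exact hx ⟨x, hxZ, rfl⟩
  refine ⟨V, hsV, ?_⟩
  rw [← X.homOfLE_ι hle, Category.assoc, Category.assoc, eqOpens_ι_comp]

end Helpers

/-- Let h : Y ⟶ S be formally unramified and locally of finite type, let f, g : X ⟶ Y be two morphisms
over S whose common composite X ⟶ S is closed as a map of topological spaces, and let s be a point
of S such that f and g have the same restriction to the scheme-theoretic fibre of X over s. Then
there is an open neighbourhood V of s such that f and g agree on the preimage of V. -/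
theorem result {X Y S : Scheme.{u}} (h : Y ⟶ S)
    [FormallyUnramified h] [LocallyOfFiniteType h] (f g : X ⟶ Y) (w : g ≫ h = f ≫ h)
    (hc : IsClosedMap (f ≫ h).base) (s : ↥S)
    (hs : (f ≫ h).fiberι s ≫ f = (f ≫ h).fiberι s ≫ g) :
    ∃ V : S.Opens, s ∈ V ∧ ((f ≫ h) ⁻¹ᵁ V).ι ≫ f = ((f ≫ h) ⁻¹ᵁ V).ι ≫ g := by
  exact main4987 h f g w hc s hs

end Groth.Agent.S4987
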