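import Groth.Statements.S3707
import Mathlib
import Groth.Agent.S4987

set_option autoImplicit false
universe u
open SGA1

namespace Groth.Agent.S3707

section Helpers
open AlgebraicGeometry CategoryTheory CategoryTheory.Limits TopologicalSpace
open Groth.Agent.S4987

set_option backward.isDefEq.respectTransparency false in
theorem mem_eqOpens_of_comp_eq {X Y S T : Scheme.{u}} (h : Y ⟶ S) [FormallyUnramified h]
    [LocallyOfFiniteType h] (f g : X ⟶ Y) (w : g ≫ h = f ≫ h) (π : T ⟶ X)
    (hπ : π ≫ f = π ≫ g) (t : T) : π t ∈ eqOpens h f g w := by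
  have hfac : π ≫ pullback.lift f g w.symm = (π ≫ f) ≫ pullback.diagonal h := by
    apply pullback.hom_ext
    · simp
    · simp [hπ]
  show (pullback.lift f g w.symm) (π t) ∈ (pullback.diagonal h).opensRange
  rw [← Scheme.Hom.comp_apply, hfac, Scheme.Hom.comp_apply]
  exact ⟨_, rfl⟩

set_option backward.isDefEq.respectTransparency false in
theorem eq_of_comp_surjective {X Y S T : Scheme.{u}} (h : Y ⟶ S) [FormallyUnramified h]
    [LocallyOfFiniteType h] (f g : X ⟶ Y) (w : g ≫ h = f ≫ h) (π : T ⟶ X)
    (hsurj : Function.Surjective π) (hπ : π ≫ f = π ≫ g) : f = g := by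
  have hZ : eqOpens h f g w = ⊤ := by
    rw [eq_top_iff]
    intro x _
    obtain ⟨t, rfl⟩ := hsurj x
    exact mem_eqOpens_of_comp_eq h f g w π hπ t
  have h1 := eqOpens_ι_comp h f g w
  rw [hZ] at h1
  haveI : IsIso (⊤ : X.Opens).ι := (inferInstance : IsIso X.topIso.hom)
  exact (cancel_epi (⊤ : X.Opens).ι).mp h1

end Helpers

open AlgebraicGeometry CategoryTheory CategoryTheory.Limits in
/-- Let g : S' -> S be a surjective morphism of schemes, X and Y schemes over S with Y unramified over S
(formally unramified and locally of finite type), and X', Y' their base changes to S'. Then the map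
sending an S-morphism X -> Y to the induced S'-morphism X' -> Y' is injective. -/
theorem result {S S' X Y : Scheme.{u}} (g : S' ⟶ S) [Surjective g]
    (p : X ⟶ S) (q : Y ⟶ S) [FormallyUnramified q] [LocallyOfFiniteType q]
    (u v : X ⟶ Y) (hu : p ≫ 𝟙 S = u ≫ q) (hv : p ≫ 𝟙 S = v ≫ q)
    (h : pullback.map p g q g u (𝟙 S') (𝟙 S) hu ((Category.comp_id _).trans (Category.id_comp _).symm) =
      pullback.map p g q g v (𝟙 S') (𝟙 S) hv ((Category.comp_id _).trans (Category.id_comp _).symm)) :
    u = v := by
  have w : v ≫ q = u ≫ q := hv.symm.trans hu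
  refine eq_of_comp_surjective q u v w (pullback.fst p g) ?_ ?_
  · intro x
    obtain ⟨s', hs'⟩ := ‹Surjective g›.surj (p x)
    obtain ⟨z, hz1, -⟩ := Scheme.Pullback.exists_preimage_pullback (f := p) (g := g) x s' hs'.symm
    exact ⟨z, hz1⟩
  · have e1 : ∀ (z : X ⟶ Y) (hz : p ≫ 𝟙 S = z ≫ q),
        pullback.map p g q g z (𝟙 S') (𝟙 S) hz
          ((Category.comp_id _).trans (Category.id_comp _).symm) ≫ pullback.fst q g =
        pullback.fst p g ≫ z := fun z hz => pullback.lift_fst _ _ _
    rw [← e1 u hu, ← e1 v hv, h]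

end Groth.Agent.S3707
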