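import Groth.Statements.S3731
import Mathlib

set_option autoImplicit false
universe u v
open CategoryTheory CategoryTheory.Limits
attribute [local instance] HasDerivedCategory.standard
open EtDl

namespace Groth.Agent.S3731

section Helpers

open CategoryTheory.Triangulated CategoryTheory.Pretriangulated

variable {A : Type u} [Category.{v} A] [Abelian A]

variable (A) in
noncomputable abbrev tS : Triangulated.TStructure (DerivedCategory A) :=
  DerivedCategory.TStructure.t

lemma heart_zero (n : ℤ) (U V : DerivedCategory A)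
    [U.IsGE n] [U.IsLE n] [V.IsGE n] [V.IsLE n] (d : U ⟶ V)
    (hd : (DerivedCategory.homologyFunctor A n).map d = 0) : d = 0 := by
  obtain ⟨a, ⟨eU⟩⟩ := DerivedCategory.exists_iso_singleFunctor_obj_of_isGE_of_isLE U n
  obtain ⟨b, ⟨eV⟩⟩ := DerivedCategory.exists_iso_singleFunctor_obj_of_isGE_of_isLE V n
  obtain ⟨g, hg⟩ := (DerivedCategory.singleFunctor A n).map_surjective (eU.inv ≫ d ≫ eV.hom)
  have h1 : (DerivedCategory.homologyFunctor A n).map
      ((DerivedCategory.singleFunctor A n).map g) = 0 := by
    rw [hg, Functor.map_comp, Functor.map_comp, hd, zero_comp, comp_zero]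
  have h2 : g = 0 := by
    have nat := (DerivedCategory.singleFunctorCompHomologyFunctorIso A n).hom.naturality g
    simp only [Functor.comp_map, Functor.id_map] at nat
    rw [h1, zero_comp] at nat
    exact (cancel_epi ((DerivedCategory.singleFunctorCompHomologyFunctorIso A n).hom.app a)).1
      (by rw [← nat, comp_zero])
  have h3 : eU.inv ≫ d ≫ eV.hom = 0 := by rw [← hg, h2, Functor.map_zero]
  have h4 : d = eU.hom ≫ (eU.inv ≫ d ≫ eV.hom) ≫ eV.inv := by simp
  rw [h4, h3, zero_comp, comp_zero]

lemma epi_pi (n : ℤ) (X : DerivedCategory A) :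
    Epi ((DerivedCategory.homologyFunctor A n).map (((tS A).truncGEπ n).app X)) := by
  have hT := (tS A).triangleLTGE_distinguished n X
  have := (DerivedCategory.HomologySequence.epi_homologyMap_mor₂_iff _ hT n (n + 1) rfl).2
    (by
      apply IsZero.eq_of_tgt
      have : DerivedCategory.IsLE (((tS A).truncLT n).obj X) (n - 1) := inferInstance
      exact DerivedCategory.isZero_of_isLE (((tS A).truncLT n).obj X) (n - 1) (n + 1) (by lia))
  exact this

lemma mono_iota (n p : ℤ) (hp : p ≤ n) (X : DerivedCategory A) :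
    Mono ((DerivedCategory.homologyFunctor A p).map (((tS A).truncLTι n).app X)) := by
  have hT := (tS A).triangleLTGE_distinguished n X
  have := (DerivedCategory.HomologySequence.mono_homologyMap_mor₁_iff _ hT (p - 1) p (by lia)).2
    (by
      apply IsZero.eq_of_src
      have : DerivedCategory.IsGE (((tS A).truncGE n).obj X) n := inferInstance
      exact DerivedCategory.isZero_of_isGE (((tS A).truncGE n).obj X) n (p - 1) (by lia))
  exact this

lemma zero_of_top (n : ℤ) (X W : DerivedCategory A) [X.IsLE n] [W.IsGE n] (f : X ⟶ W)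
    (hf : (DerivedCategory.homologyFunctor A n).map f = 0) : f = 0 := by
  have hl := (tS A).liftTruncLT_ι f n (n + 1) rfl
  generalize (tS A).liftTruncLT f n (n + 1) rfl = l at hl
  have hd := (tS A).π_descTruncGE l n
  generalize (tS A).descTruncGE l n = d at hd
  have e1 : f = ((tS A).truncGEπ n).app X ≫ d ≫ ((tS A).truncLTι (n + 1)).app W := by
    rw [← Category.assoc, hd, hl]
  have e2 : (DerivedCategory.homologyFunctor A n).map (((tS A).truncGEπ n).app X) ≫
      (DerivedCategory.homologyFunctor A n).map d ≫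
      (DerivedCategory.homologyFunctor A n).map (((tS A).truncLTι (n + 1)).app W) = 0 := by
    rw [← Functor.map_comp, ← Functor.map_comp, ← e1, hf]
  haveI := epi_pi n X
  haveI := mono_iota (n + 1) n (by lia) W
  have e3 : (DerivedCategory.homologyFunctor A n).map d = 0 := by
    have e4 := (cancel_epi ((DerivedCategory.homologyFunctor A n).map
      (((tS A).truncGEπ n).app X))).1 (e2.trans comp_zero.symm)
    exact (cancel_mono ((DerivedCategory.homologyFunctor A n).map
      (((tS A).truncLTι (n + 1)).app W))).1 (e4.trans zero_comp.symm)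
  have e5 : d = 0 := heart_zero n _ _ d e3
  rw [e1, e5, zero_comp, comp_zero]

/-- chains of `j` morphisms, the first `j` of which vanish on `H^p`, `p < k`. -/
def Chain (k : ℤ) : ℕ → ∀ (X Y : DerivedCategory A), (X ⟶ Y) → Prop
  | 0 => fun _ _ _ => True
  | j + 1 => fun X Y f => ∃ (Z : DerivedCategory A) (g : X ⟶ Z) (h : Z ⟶ Y),
      f = g ≫ h ∧ (∀ p : ℤ, p < k → (DerivedCategory.homologyFunctor A p).map g = 0) ∧
        Chain k j Z Y h

lemma chain_precomp (k : ℤ) : ∀ (j : ℕ) (X' X Y : DerivedCategory A) (u : X' ⟶ X) (h : X ⟶ Y),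
    Chain k j X Y h → Chain k j X' Y (u ≫ h)
  | 0, _, _, _, _, _, _ => trivial
  | j + 1, _, _, _, u, _, ⟨Z, g, h', e, hg, hc⟩ =>
    ⟨Z, u ≫ g, h', by rw [e, Category.assoc],
      fun p hp => by rw [Functor.map_comp, hg p hp, comp_zero], hc⟩

lemma chain_zero (k : ℤ) : ∀ (j : ℕ) (m : ℤ), m + 1 = j → (j : ℤ) ≤ k →
    ∀ (X Y : DerivedCategory A) (f : X ⟶ Y), Chain k j X Y f → X.IsLE m → Y.IsGE 0 → f = 0 := by
  intro j
  induction j with
  | zero =>
    intro m hm _ X Y f _ hX hY
    exact (tS A).zero_of_isLE_of_isGE f m 0 (by simp at hm; lia) hX hY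
  | succ j ih =>
    intro m hm hjk X Y f hc hX hY
    obtain ⟨Z, g, h, e, hg, hc'⟩ := hc
    have hmj : m = (j : ℤ) := by push_cast at hm; lia
    subst hmj
    have hgz : g ≫ ((tS A).truncGEπ (j : ℤ)).app Z = 0 := by
      haveI : DerivedCategory.IsGE (((tS A).truncGE (j : ℤ)).obj Z) (j : ℤ) := inferInstance
      apply zero_of_top (j : ℤ)
      rw [Functor.map_comp, hg (j : ℤ) (by push_cast at hjk; lia), zero_comp]
    obtain ⟨g', hg'⟩ : ∃ g' : X ⟶ ((tS A).truncLT (j : ℤ)).obj Z,
        g = g' ≫ ((tS A).truncLTι (j : ℤ)).app Z := Triangle.coyoneda_exact₂ _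
      ((tS A).triangleLTGE_distinguished (j : ℤ) Z) g hgz
    have hz : ((tS A).truncLTι (j : ℤ)).app Z ≫ h = 0 := by
      refine ih ((j : ℤ) - 1) (by lia) (by push_cast at hjk; lia) _ _ _
        (chain_precomp k j _ _ _ _ h hc') ?_ hY
      exact (inferInstance : (tS A).IsLE (((tS A).truncLT (j : ℤ)).obj Z) ((j : ℤ) - 1))
    rw [e, hg', Category.assoc, hz, comp_zero]

lemma factor_top (k : ℤ) (X Y : DerivedCategory A) [X.IsLE k] (f : X ⟶ Y)
    (hz : ((tS A).truncLTι k).app X ≫ f = 0) (B : A)
    (π : X ⟶ (DerivedCategory.singleFunctor A k).obj B)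
    (hπ : IsIso ((DerivedCategory.homologyFunctor A k).map π)) :
    ∃ φ : (DerivedCategory.singleFunctor A k).obj B ⟶ Y, f = π ≫ φ := by
  obtain ⟨φ', hφ'⟩ : ∃ φ' : ((tS A).truncGE k).obj X ⟶ Y,
      f = ((tS A).truncGEπ k).app X ≫ φ' := Pretriangulated.Triangle.yoneda_exact₂ _
    ((tS A).triangleLTGE_distinguished k X) f hz
  have hS1 : ((DerivedCategory.singleFunctor A k).obj B).IsGE k := inferInstance
  have hS2 : ((DerivedCategory.singleFunctor A k).obj B).IsLE k := inferInstance
  have hd := (tS A).π_descTruncGE π k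
  generalize (tS A).descTruncGE π k = d at hd
  have hUge : DerivedCategory.IsGE (((tS A).truncGE k).obj X) k :=
    (inferInstance : (tS A).IsGE (((tS A).truncGE k).obj X) k)
  have hUle : DerivedCategory.IsLE (((tS A).truncGE k).obj X) k :=
    (inferInstance : (tS A).IsLE (((tS A).truncGE k).obj X) k)
  haveI : IsIso d := by
    rw [DerivedCategory.isIso_iff]
    intro n
    by_cases hn : n = k
    · subst hn
      haveI : Epi ((DerivedCategory.homologyFunctor A n).map (((tS A).truncGEπ n).app X)) :=
        epi_pi n X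
      haveI : Mono ((DerivedCategory.homologyFunctor A n).map
          (((tS A).truncGEπ n).app X)) := by
        have e : (DerivedCategory.homologyFunctor A n).map (((tS A).truncGEπ n).app X) ≫
            (DerivedCategory.homologyFunctor A n).map d =
            (DerivedCategory.homologyFunctor A n).map π := by
          rw [← Functor.map_comp, hd]
        haveI : Mono ((DerivedCategory.homologyFunctor A n).map
            (((tS A).truncGEπ n).app X) ≫
            (DerivedCategory.homologyFunctor A n).map d) := by rw [e]; infer_instance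
        exact mono_of_mono _ ((DerivedCategory.homologyFunctor A n).map d)
      haveI : IsIso ((DerivedCategory.homologyFunctor A n).map
          (((tS A).truncGEπ n).app X)) := isIso_of_mono_of_epi _
      have e : (DerivedCategory.homologyFunctor A n).map d =
          inv ((DerivedCategory.homologyFunctor A n).map (((tS A).truncGEπ n).app X)) ≫
            (DerivedCategory.homologyFunctor A n).map π := by
        rw [IsIso.eq_inv_comp, ← Functor.map_comp, hd]
      rw [e]; infer_instance
    · rcases lt_or_gt_of_ne hn with h | h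
      · exact ⟨⟨0, (DerivedCategory.isZero_of_isGE _ k n h).eq_of_src _ _,
          (DerivedCategory.isZero_of_isGE _ k n h).eq_of_src _ _⟩⟩
      · exact ⟨⟨0, (DerivedCategory.isZero_of_isLE _ k n h).eq_of_src _ _,
          (DerivedCategory.isZero_of_isLE _ k n h).eq_of_src _ _⟩⟩
  refine ⟨inv d ≫ φ', ?_⟩
  rw [hφ', ← hd, Category.assoc, IsIso.hom_inv_id_assoc]

end Helpers

/-- Let A be an abelian category, k ≥ 0, and K_0 -> K_1 -> ... -> K_{2k} a chain of 2k morphisms in the
derived category of A such that every K_i has H^p(K_i) = 0 for p outside [0, k] and every morphism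
K_i -> K_{i+1} induces the zero map on H^p for all p < k. Let π : K_0 -> H^k(K_0)[-k] be the
morphism to the top cohomology object placed in degree k that induces the identity on H^k. Then the
composite K_0 -> K_{2k} factors through π. -/
theorem result {A : Type u} [Category.{v} A] [Abelian A] (k : ℕ)
    (K : ComposableArrows (DerivedCategory A) (2 * k))
    (hK : ∀ (i : ℕ) (hi : i ≤ 2 * k) (p : ℤ), p < 0 ∨ (k : ℤ) < p →
      IsZero ((DerivedCategory.homologyFunctor A p).obj (K.obj' i)))
    (hf : ∀ (i : ℕ) (hi : i < 2 * k) (p : ℤ), p < (k : ℤ) →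
      (DerivedCategory.homologyFunctor A p).map (K.map' i (i + 1)) = 0)
    (π : K.obj' 0 ⟶ (DerivedCategory.singleFunctor A (k : ℤ)).obj
      ((DerivedCategory.homologyFunctor A (k : ℤ)).obj (K.obj' 0)))
    (hπ : (DerivedCategory.homologyFunctor A (k : ℤ)).map π ≫
      (DerivedCategory.singleFunctorCompHomologyFunctorIso A (k : ℤ)).hom.app
        ((DerivedCategory.homologyFunctor A (k : ℤ)).obj (K.obj' 0)) = 𝟙 _) :
    ∃ φ : (DerivedCategory.singleFunctor A (k : ℤ)).obj
        ((DerivedCategory.homologyFunctor A (k : ℤ)).obj (K.obj' 0)) ⟶ K.obj' (2 * k),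
      K.map' 0 (2 * k) = π ≫ φ := by
  classical
  have hGE : ∀ (i : ℕ) (hi : i ≤ 2 * k), (K.obj' i).IsGE 0 := fun i hi => by
    rw [DerivedCategory.isGE_iff]; intro p hp; exact hK i hi p (Or.inl hp)
  have hLE : ∀ (i : ℕ) (hi : i ≤ 2 * k), (K.obj' i).IsLE (k : ℤ) := fun i hi => by
    rw [DerivedCategory.isLE_iff]; intro p hp; exact hK i hi p (Or.inr hp)
  have hchain : ∀ (j i : ℕ) (hij : i + j ≤ 2 * k),
      Chain (k : ℤ) j _ _ (K.map' i (2 * k)) := by
    intro j
    induction j with
    | zero => intro i hij; trivial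
    | succ j ih =>
      intro i hij
      exact ⟨_, K.map' i (i + 1), K.map' (i + 1) (2 * k), K.map'_comp i (i + 1) (2 * k),
        fun p hp => hf i (by lia) p hp, ih (i + 1) (by lia)⟩
  haveI : (K.obj' 0).IsLE (k : ℤ) := hLE 0 (by lia)
  -- the composite vanishes on the truncation
  have hz : ((tS A).truncLTι (k : ℤ)).app (K.obj' 0) ≫ K.map' 0 (2 * k) = 0 := by
    refine chain_zero (k : ℤ) k ((k : ℤ) - 1) (by lia) le_rfl _ _ _
      (chain_precomp (k : ℤ) k _ _ _ _ _ (hchain k 0 (by lia))) ?_ (hGE (2 * k) le_rfl)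
    exact (inferInstance : (tS A).IsLE (((tS A).truncLT (k : ℤ)).obj (K.obj' 0)) ((k : ℤ) - 1))
  have hiso : IsIso ((DerivedCategory.homologyFunctor A (k : ℤ)).map π) := by
    have : IsIso ((DerivedCategory.homologyFunctor A (k : ℤ)).map π ≫
      (DerivedCategory.singleFunctorCompHomologyFunctorIso A (k : ℤ)).hom.app
        ((DerivedCategory.homologyFunctor A (k : ℤ)).obj (K.obj' 0))) := by rw [hπ]; infer_instance
    exact IsIso.of_isIso_comp_right _
      ((DerivedCategory.singleFunctorCompHomologyFunctorIso A (k : ℤ)).hom.app _)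
  exact factor_top (k : ℤ) _ _ (K.map' 0 (2 * k)) hz _ π hiso

end Groth.Agent.S3731
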