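import Groth.Statements.S3779
import Mathlib
import Groth.Agent.Lib.Helper18.LamSig

set_option autoImplicit false
universe v u
open CategoryTheory CategoryTheory.Limits AlgebraicGeometry
attribute [local instance] HasDerivedCategory.standard
open KRR

namespace Groth.Agent.S3779

/-- Let K be a λ-ring with positive structure having the splitting property, e positive with ε(e) = r +
1, K_e = K[T]/(p_e) with canonical generator ℓ (a unit), σ^i(e) the coefficients of σ_t(e) =
λ_{-t}(e)⁻¹, and f : K_e ⟶ K a K-linear map with f(ℓ^i) = σ^i(e) for 0 ≤ i ≤ r. Then f(ℓ^i) = σ^i(e)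
for all i ≥ 0, and f(ℓ^{-n}) = 0 for 1 ≤ n ≤ r (stated with any inverse linv of ℓ). -/
theorem result (K : Type v) [CommRing K] [LambdaRing.LambdaOps K] (P : LambdaRing.PosStructure K) (hK : LambdaRing.HasSplitting K P) (e : K) (he : e ∈ P.pos) (r : ℕ) (hr : P.aug e = r + 1)
    (f : AdjoinRoot (KRR.extPoly P e) →ₗ[K] K)
    (hf : ∀ i : ℕ, i ≤ r → f (AdjoinRoot.root (KRR.extPoly P e) ^ i) = KRR.sigma i e)
    (linv : AdjoinRoot (KRR.extPoly P e)) (hlinv : linv * AdjoinRoot.root (KRR.extPoly P e) = 1) :
    (∀ i : ℕ, f (AdjoinRoot.root (KRR.extPoly P e) ^ i) = KRR.sigma i e) ∧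
    ∀ n : ℕ, 1 ≤ n → n ≤ r → f (linv ^ n) = 0 := by
  have hm : (P.aug e).toNat = r + 1 := by rw [hr]; omega
  have ha0 : Groth.Agent.Helper18.LamSig.acoef e 0 = 1 := Groth.Agent.Helper18.LamSig.acoef_zero e
  have part1 : ∀ i : ℕ, f (AdjoinRoot.root (KRR.extPoly P e) ^ i) = KRR.sigma i e :=
    Groth.Agent.Helper18.LamSig.f_root_pow P e he r hr f hf
  refine ⟨part1, ?_⟩
  have hpow : ∀ a : ℕ, linv ^ a * AdjoinRoot.root (KRR.extPoly P e) ^ a = 1 := by
    intro a
    rw [← mul_pow, hlinv, one_pow]
  intro n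
  induction n using Nat.strong_induction_on with
  | _ n ih =>
    intro hn1 hnr
    have h1 := congrArg f (Groth.Agent.Helper18.LamSig.root_rel P e (r + 1) hm (linv ^ n))
    rw [map_sum, map_zero] at h1
    simp only [map_smul, smul_eq_mul] at h1
    rw [Finset.sum_range_succ] at h1
    have hN : 1 ≤ r + 1 - n := by omega
    have hsum : ∑ j ∈ Finset.range (r + 1), Groth.Agent.Helper18.LamSig.acoef e j *
        f (AdjoinRoot.root (KRR.extPoly P e) ^ (r + 1 - j) * linv ^ n) =
        ∑ j ∈ Finset.range (r + 1 - n + 1),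
          Groth.Agent.Helper18.LamSig.acoef e j * KRR.sigma (r + 1 - n - j) e := by
      have hsub : Finset.range (r + 1 - n + 1) ⊆ Finset.range (r + 1) :=
        Finset.range_subset_range.mpr (by omega)
      rw [← Finset.sum_subset hsub]
      · refine Finset.sum_congr rfl (fun j hj => ?_)
        have hj1 := Finset.mem_range.mp hj
        have e1 : r + 1 - j = (r + 1 - n - j) + n := by omega
        have e2 : AdjoinRoot.root (KRR.extPoly P e) ^ (r + 1 - j) * linv ^ n =
            AdjoinRoot.root (KRR.extPoly P e) ^ (r + 1 - n - j) := by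
          rw [e1, pow_add, mul_assoc, mul_comm (AdjoinRoot.root (KRR.extPoly P e) ^ n), hpow, mul_one]
        rw [e2, part1]
      · intro j hj hj'
        have hj1 := Finset.mem_range.mp hj
        have hj2 := Finset.mem_range.not.mp hj'
        have e1 : n = (n - (r + 1 - j)) + (r + 1 - j) := by omega
        have e2 : AdjoinRoot.root (KRR.extPoly P e) ^ (r + 1 - j) * linv ^ n =
            linv ^ (n - (r + 1 - j)) := by
          conv_lhs => rw [e1, pow_add]
          rw [mul_comm, mul_assoc, hpow, mul_one]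
        rw [e2, ih (n - (r + 1 - j)) (by omega) (by omega) (by omega), mul_zero]
    rw [hsum, Groth.Agent.Helper18.LamSig.sigma_rel e (r + 1 - n) hN, zero_add, Nat.sub_self,
      pow_zero, one_mul] at h1
    have hu : IsUnit (Groth.Agent.Helper18.LamSig.acoef e (r + 1)) := by
      unfold Groth.Agent.Helper18.LamSig.acoef
      exact (isUnit_one.neg.pow _).mul (hm ▸ P.isUnit_lam e he)
    exact (hu.mul_right_eq_zero).mp h1

end Groth.Agent.S3779
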