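import Groth.Statements.S3780
import Mathlib
import Groth.Agent.Lib.Helper18.LamSig

set_option autoImplicit false
universe v u
open CategoryTheory CategoryTheory.Limits AlgebraicGeometry
attribute [local instance] HasDerivedCategory.standard
open KRR

namespace Groth.Agent.S3780

/-- Let K be a λ-ring with positive structure admitting a splitting, e a positive element of
augmentation ε(e) = r + 1, K_e = K[T]/(p_e(T)) the elementary extension of K with ℓ the class of T,
and f : K_e → K a K-linear functional with f(ℓ^i) = σ^i(e) for i ≤ r. For any λ-operations on K_e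
extending those of K with λ^i(ℓ) = 0 for i ≥ 2, and q = e − ℓ ∈ K_e, one has f(λ^0(q)) = 1 and
f(λ^i(q)) = 0 for all i ≥ 1; that is, f(λ_t(q)) = 1. -/
theorem result (K : Type v) [CommRing K] [LambdaRing.LambdaOps K] (P : LambdaRing.PosStructure K) (hK : LambdaRing.HasSplitting K P) (e : K) (he : e ∈ P.pos) (r : ℕ) (hr : P.aug e = r + 1)
    (inst : LambdaRing.LambdaOps (AdjoinRoot (KRR.extPoly P e)))
    (hext : ∀ (i : ℕ) (x : K), @LambdaRing.LambdaOps.lam _ _ inst i (AdjoinRoot.of (KRR.extPoly P e) x) =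
      AdjoinRoot.of (KRR.extPoly P e) (LambdaRing.LambdaOps.lam i x))
    (hroot : ∀ i : ℕ, 2 ≤ i → @LambdaRing.LambdaOps.lam _ _ inst i (AdjoinRoot.root (KRR.extPoly P e)) = 0)
    (f : AdjoinRoot (KRR.extPoly P e) →ₗ[K] K)
    (hf : ∀ i : ℕ, i ≤ r → f (AdjoinRoot.root (KRR.extPoly P e) ^ i) = KRR.sigma i e) (i : ℕ) :
    f (@LambdaRing.LambdaOps.lam _ _ inst i (AdjoinRoot.of (KRR.extPoly P e) e - AdjoinRoot.root (KRR.extPoly P e))) =
      if i = 0 then 1 else 0 := by
  have part1 : ∀ i : ℕ, f (AdjoinRoot.root (KRR.extPoly P e) ^ i) = KRR.sigma i e :=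
    Groth.Agent.Helper18.LamSig.f_root_pow P e he r hr f hf
  -- the recurrence for the λ-operations of q = e - ℓ
  have hrec : ∀ k : ℕ, @LambdaRing.LambdaOps.lam _ _ inst (k + 1)
      (AdjoinRoot.of (KRR.extPoly P e) e - AdjoinRoot.root (KRR.extPoly P e)) =
      AdjoinRoot.of (KRR.extPoly P e) (LambdaRing.LambdaOps.lam (k + 1) e) -
        @LambdaRing.LambdaOps.lam _ _ inst k
          (AdjoinRoot.of (KRR.extPoly P e) e - AdjoinRoot.root (KRR.extPoly P e)) *
          AdjoinRoot.root (KRR.extPoly P e) := by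
    intro k
    have h := @LambdaRing.LambdaOps.lam_add _ _ inst (k + 1)
      (AdjoinRoot.of (KRR.extPoly P e) e - AdjoinRoot.root (KRR.extPoly P e))
      (AdjoinRoot.root (KRR.extPoly P e))
    rw [sub_add_cancel, hext, Finset.sum_range_succ, Finset.sum_range_succ] at h
    have h0 : ∀ i ∈ Finset.range k, @LambdaRing.LambdaOps.lam _ _ inst i
        (AdjoinRoot.of (KRR.extPoly P e) e - AdjoinRoot.root (KRR.extPoly P e)) *
        @LambdaRing.LambdaOps.lam _ _ inst (k + 1 - i) (AdjoinRoot.root (KRR.extPoly P e)) = 0 := by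
      intro i hi
      have := Finset.mem_range.mp hi
      rw [hroot _ (by omega), mul_zero]
    rw [Finset.sum_eq_zero h0] at h
    have e1 : k + 1 - k = 1 := by omega
    have e2 : k + 1 - (k + 1) = 0 := by omega
    rw [e1, e2, @LambdaRing.LambdaOps.lam_zero _ _ inst, @LambdaRing.LambdaOps.lam_one _ _ inst] at h
    linear_combination -h
  have hform : ∀ k : ℕ, @LambdaRing.LambdaOps.lam _ _ inst k
      (AdjoinRoot.of (KRR.extPoly P e) e - AdjoinRoot.root (KRR.extPoly P e)) =
      ∑ j ∈ Finset.range (k + 1), AdjoinRoot.of (KRR.extPoly P e) (LambdaRing.LambdaOps.lam (k - j) e) *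
        (-AdjoinRoot.root (KRR.extPoly P e)) ^ j := by
    intro k
    induction k with
    | zero => simp [@LambdaRing.LambdaOps.lam_zero _ _ inst, LambdaRing.LambdaOps.lam_zero]
    | succ k ih =>
      rw [hrec, ih, Finset.sum_range_succ' _ (k + 1), Finset.sum_mul]
      have : ∀ j ∈ Finset.range (k + 1),
          AdjoinRoot.of (KRR.extPoly P e) (LambdaRing.LambdaOps.lam (k + 1 - (j + 1)) e) *
            (-AdjoinRoot.root (KRR.extPoly P e)) ^ (j + 1) =
          -(AdjoinRoot.of (KRR.extPoly P e) (LambdaRing.LambdaOps.lam (k - j) e) *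
            (-AdjoinRoot.root (KRR.extPoly P e)) ^ j * AdjoinRoot.root (KRR.extPoly P e)) := by
        intro j _
        rw [Nat.add_sub_add_right, pow_succ]
        ring
      rw [Finset.sum_congr rfl this, Finset.sum_neg_distrib]
      simp only [Nat.sub_zero, pow_zero, mul_one]
      ring
  rw [hform, map_sum, ← Groth.Agent.Helper18.LamSig.lam_sigma_conv e i]
  refine Finset.sum_congr rfl (fun j _ => ?_)
  have e1 : AdjoinRoot.of (KRR.extPoly P e) (LambdaRing.LambdaOps.lam (i - j) e) *
      (-AdjoinRoot.root (KRR.extPoly P e)) ^ j =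
      (LambdaRing.LambdaOps.lam (i - j) e * (-1 : K) ^ j) • AdjoinRoot.root (KRR.extPoly P e) ^ j := by
    rw [Algebra.smul_def, AdjoinRoot.algebraMap_eq, map_mul, map_pow, map_neg, map_one, neg_pow]
    ring
  rw [e1, map_smul, part1, smul_eq_mul]
  ring

end Groth.Agent.S3780
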