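import Groth.Statements.S3781
import Groth.Agent.Lib.Helper18.LamDet
import Groth.Agent.S3288

set_option autoImplicit false
universe v u
open CategoryTheory CategoryTheory.Limits AlgebraicGeometry
attribute [local instance] HasDerivedCategory.standard
open KRR

namespace Groth.Agent.S3781

open LambdaRing Groth.Agent.Helper8 Groth.Agent.Helper18.LamDet

/-- Let K be a λ-ring with positive structure having the splitting property, L its group of line
elements and F^n the γ-filtration. Assume moreover that the inverse of a line element is a line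
element and that for a positive e with ε(e) = r the element det e = λ^r(e) is positive (hence a line
element); these are part of the published setting but are not implied by the axioms used here, so
they are hypotheses. Then u ↦ u − 1 induces an isomorphism L ≅ Gr^1 K = F^1/F^2: every x ∈ F^1 is
congruent modulo F^2 to u − 1 for some line element u, and line elements u, v with u − v ∈ F^2 are
equal. -/
theorem result (K : Type v) [CommRing K] [LambdaRing.LambdaOps K] (P : LambdaRing.PosStructure K) (hK : LambdaRing.HasSplitting K P)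
    (hLinv : ∀ w : K, P.IsLine w → ∃ w' : K, P.IsLine w' ∧ w * w' = 1)
    (hdet : ∀ e : K, e ∈ P.pos → LambdaRing.LambdaOps.lam (P.aug e).toNat e ∈ P.pos) :
    (∀ x : K, x ∈ LambdaRing.gammaFiltration P 1 → ∃ u : K, P.IsLine u ∧ x - (u - 1) ∈ LambdaRing.gammaFiltration P 2) ∧
    ∀ u v : K, P.IsLine u → P.IsLine v → u - v ∈ LambdaRing.gammaFiltration P 2 → u = v := by
  have Qpos : ∀ e ∈ P.pos, ∃ u, P.IsLine u ∧
      (e - ((P.aug e).toNat : K)) - (u - 1) ∈ LambdaRing.gammaFiltration P 2 := by
    intro e he
    have hpos := P.aug_pos e he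
    refine ⟨LambdaRing.LambdaOps.lam (P.aug e).toNat e, ⟨hdet e he, ?_⟩, ?_⟩
    · have h := Groth.Agent.S3288.result K P hK e he (P.aug e).toNat
      rw [Nat.choose_self] at h
      simpa using h
    · have hm : 1 ≤ (P.aug e).toNat := by omega
      exact sub_sub_lam_top_mem_F2 P e (P.aug e).toNat hm (Int.toNat_of_nonneg hpos.le).symm
        (fun i hi => lam_eq_zero_of_toNat_lt P he hi)
  have Qaug : ∀ y, P.aug y = 0 → ∃ u, P.IsLine u ∧
      y - (u - 1) ∈ LambdaRing.gammaFiltration P 2 := by
    intro y hy
    obtain ⟨e, e', he, he', rfl⟩ := P.exists_sub y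
    obtain ⟨u, hu, hu2⟩ := Qpos e he
    obtain ⟨v, hv, hv2⟩ := Qpos e' he'
    obtain ⟨v', hv', hvv'⟩ := hLinv v hv
    refine ⟨u * v', IsLine.mul P hu hv', ?_⟩
    have hm : ((P.aug e).toNat : K) = ((P.aug e').toNat : K) := by
      rw [map_sub, sub_eq_zero] at hy
      rw [hy]
    have key : e - e' - (u * v' - 1) =
        ((e - ((P.aug e).toNat : K)) - (u - 1)) - ((e' - ((P.aug e').toNat : K)) - (v - 1)) -
          (u - v) * (v' - 1) := by
      rw [hm]
      linear_combination (-1 : K) * hvv'
    rw [key]
    refine sub_mem (sub_mem hu2 hv2) (mul_mem_F2 P ?_ ?_)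
    · rw [map_sub, hu.2, hv.2, sub_self]
    · rw [map_sub, hv'.2, map_one, sub_self]
  refine ⟨fun x hx => Qaug x (aug_eq_zero_of_mem_F1 P hK hx), ?_⟩
  intro u v hu hv huv
  have h := detU_eq_one_of_mem_F2 P hK huv
  rw [detU_sub P hu.1 hv.1, div_eq_one] at h
  have h2 := congrArg Units.val h
  rwa [unitD_val, unitD_val, D_line P hu, D_line P hv] at h2

end Groth.Agent.S3781
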