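import Groth.Statements.S3791
import Mathlib

set_option autoImplicit false
universe v u
open CategoryTheory CategoryTheory.Limits AlgebraicGeometry
attribute [local instance] HasDerivedCategory.standard
open KRR

namespace Groth.Agent.S3791

open LambdaRing

private lemma lam_line {K : Type v} [CommRing K] [LambdaRing.LambdaOps K]
    (P : LambdaRing.PosStructure K) (l : K) (hl : P.IsLine l) (k : ℕ) (hk : 2 ≤ k) :
    LambdaOps.lam k l = 0 :=
  P.lam_eq_zero l hl.1 k (by rw [hl.2]; exact_mod_cast hk)

private lemma lam_add_line {K : Type v} [CommRing K] [LambdaRing.LambdaOps K]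
    (P : LambdaRing.PosStructure K) (e l : K) (hl : P.IsLine l) (k : ℕ) :
    LambdaOps.lam (k + 1) (e + l) = LambdaOps.lam (k + 1) e + LambdaOps.lam k e * l := by
  rw [LambdaOps.lam_add, Finset.sum_range_succ, Finset.sum_range_succ]
  have h0 : ∀ i ∈ Finset.range k, LambdaOps.lam i e * LambdaOps.lam (k + 1 - i) l = 0 := by
    intro i hi
    have := Finset.mem_range.mp hi
    rw [lam_line P l hl _ (by omega), mul_zero]
  rw [Finset.sum_eq_zero h0]
  have e1 : k + 1 - k = 1 := by omega
  have e2 : k + 1 - (k + 1) = 0 := by omega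
  rw [e1, e2, LambdaOps.lam_zero, LambdaOps.lam_one]
  ring

private lemma one_line {K : Type v} [CommRing K] [LambdaRing.LambdaOps K]
    (P : LambdaRing.PosStructure K) : P.IsLine (1 : K) :=
  ⟨by simpa using P.natCast_mem 1 one_pos, map_one _⟩

private lemma lam_natCast_succ {K : Type v} [CommRing K] [LambdaRing.LambdaOps K]
    (P : LambdaRing.PosStructure K) (m k : ℕ) :
    LambdaOps.lam k (((m + 1 : ℕ)) : K) = (((m + 1).choose k : ℕ) : K) := by
  induction m generalizing k with
  | zero =>
    rcases k with _ | _ | k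
    · simp [LambdaOps.lam_zero]
    · simp [LambdaOps.lam_one]
    · have h2 : LambdaOps.lam (k + 2) ((1 : ℕ) : K) = 0 := by
        rw [Nat.cast_one]
        exact lam_line P 1 (one_line P) _ (by omega)
      rw [zero_add, h2, Nat.choose_eq_zero_of_lt (by omega)]
      simp
  | succ m ih =>
    rcases k with _ | k
    · simp [LambdaOps.lam_zero]
    · have hc : (((m + 1 + 1 : ℕ)) : K) = ((m + 1 : ℕ) : K) + 1 := by push_cast; ring
      rw [hc, lam_add_line P _ 1 (one_line P) k, ih, ih, mul_one, Nat.choose_succ_succ (m + 1) k]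
      push_cast
      ring

private lemma key {K : Type v} [CommRing K] [LambdaRing.LambdaOps K]
    (P : LambdaRing.PosStructure K) (e l : K) (m : ℕ) (hl : P.IsLine l)
    (hm : e + l = ((m + 1 : ℕ) : K)) (he : LambdaOps.lam (m + 1) e = 0) :
    (1 - l) ^ (m + 1) = 0 := by
  have hrec : ∀ k, LambdaOps.lam (k + 1) e =
      (((m + 1).choose (k + 1) : ℕ) : K) - LambdaOps.lam k e * l := by
    intro k
    have := lam_add_line P e l hl k
    rw [hm, lam_natCast_succ P] at this
    linear_combination -this
  have hform : ∀ k, LambdaOps.lam k e =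
      ∑ j ∈ Finset.range (k + 1), (((m + 1).choose (k - j) : ℕ) : K) * (-l) ^ j := by
    intro k
    induction k with
    | zero => simp [LambdaOps.lam_zero]
    | succ k ih =>
      rw [hrec, ih, Finset.sum_range_succ' _ (k + 1), Finset.sum_mul]
      have : ∀ j ∈ Finset.range (k + 1),
          (((m + 1).choose (k + 1 - (j + 1)) : ℕ) : K) * (-l) ^ (j + 1) =
            -((((m + 1).choose (k - j) : ℕ) : K) * (-l) ^ j * l) := by
        intro j _
        rw [Nat.add_sub_add_right, pow_succ]
        ring
      rw [Finset.sum_congr rfl this, Finset.sum_neg_distrib]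
      simp only [Nat.sub_zero, pow_zero, mul_one]
      ring
  have h1 : (1 - l) ^ (m + 1) = LambdaOps.lam (m + 1) e := by
    rw [hform, sub_eq_neg_add, add_pow]
    refine Finset.sum_congr rfl (fun j hj => ?_)
    have hj' : j ≤ m + 1 := Nat.lt_succ_iff.mp (Finset.mem_range.mp hj)
    rw [one_pow, mul_one, Nat.choose_symm hj']
    ring
  rw [h1, he]

/-- Let K be a λ-ring with positive structure P and u an ample line element (for every x, u^n x is a
positive element minus a natural number for all large n). Then for every line element v, the element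
v - 1 is nilpotent. -/
theorem result (K : Type v) [CommRing K] [LambdaRing.LambdaOps K] (P : LambdaRing.PosStructure K)
    (u : K) (hu : KRR.IsAmpleElt P u) (w : K) (hw : P.IsLine w) : IsNilpotent (w - 1) := by
  obtain ⟨hul, hamp⟩ := hu
  have hone : P.IsLine (1 : K) := one_line P
  have hupow : ∀ n : ℕ, P.IsLine (u ^ n) := by
    intro n
    induction n with
    | zero => simpa using hone
    | succ n ih =>
      rw [pow_succ]
      exact ⟨P.mul_mem _ _ ih.1 hul.1, by rw [map_mul, ih.2, hul.2, mul_one]⟩
  have hnil : ∀ v : K, P.IsLine v → ∃ n₀ : ℕ, ∀ n : ℕ, n₀ ≤ n → IsNilpotent (1 - u ^ n * v) := by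
    intro v hv
    obtain ⟨n₀, h⟩ := hamp (-v)
    refine ⟨n₀, fun n hn => ?_⟩
    obtain ⟨e, m, he, hem⟩ := h n hn
    have hsum : e + u ^ n * v = (m : K) := by linear_combination -hem
    have hline : P.IsLine (u ^ n * v) :=
      ⟨P.mul_mem _ _ (hupow n).1 hv.1, by rw [map_mul, (hupow n).2, hv.2, mul_one]⟩
    have haug : P.aug e = (m : ℤ) - 1 := by
      have := congrArg P.aug hsum
      rw [map_add, hline.2, map_natCast] at this
      linarith
    have hpos := P.aug_pos e he
    obtain ⟨m', rfl⟩ : ∃ m', m = m' + 1 := ⟨m - 1, by omega⟩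
    have hlam : LambdaOps.lam (m' + 1) e = 0 :=
      P.lam_eq_zero e he (m' + 1) (by rw [haug]; push_cast; omega)
    exact ⟨m' + 1, key P e _ m' hline hsum hlam⟩
  obtain ⟨n₁, h₁⟩ := hnil 1 hone
  obtain ⟨n₂, h₂⟩ := hnil w hw
  have a := h₁ (max n₁ n₂) (le_max_left _ _)
  have b := h₂ (max n₁ n₂) (le_max_right _ _)
  rw [mul_one] at a
  have hw1 : w - 1 = w * (1 - u ^ (max n₁ n₂)) - (1 - u ^ (max n₁ n₂) * w) := by ring
  rw [hw1, ← mem_nilradical]
  exact Ideal.sub_mem _ (Ideal.mul_mem_left _ w (mem_nilradical.mpr a)) (mem_nilradical.mpr b)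

end Groth.Agent.S3791
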