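import Groth.Statements.S3792
import Groth.Agent.Lib.Helper18.LamSplit

set_option autoImplicit false
universe v u
open CategoryTheory CategoryTheory.Limits AlgebraicGeometry
attribute [local instance] HasDerivedCategory.standard
open KRR

namespace Groth.Agent.S3792

open LambdaRing Groth.Agent.Helper8 Groth.Agent.Helper18.LamSplit

private theorem lineSpan_mul {K : Type v} [CommRing K] [LambdaOps K] (P : PosStructure K) {x y : K}
    (hx : x ∈ lineSpan P) (hy : y ∈ lineSpan P) : x * y ∈ lineSpan P := by
  induction hy using AddSubgroup.closure_induction with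
  | mem b hb =>
    induction hx using AddSubgroup.closure_induction with
    | mem a ha => exact AddSubgroup.subset_closure (IsLine.mul P ha hb)
    | zero => rw [zero_mul]; exact zero_mem _
    | add a c _ _ iha ihc => rw [add_mul]; exact add_mem iha ihc
    | neg a _ iha => rw [neg_mul]; exact neg_mem iha
  | zero => rw [mul_zero]; exact zero_mem _
  | add a c _ _ iha ihc => rw [mul_add]; exact add_mem iha ihc
  | neg a _ iha => rw [mul_neg]; exact neg_mem iha

private theorem adams_multiset_prod {K : Type v} [CommRing K] [LambdaOps K] (P : PosStructure K)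
    (j : ℕ) (t : Multiset K) (ht : ∀ x ∈ t, x ∈ lineSpan P) :
    t.prod ∈ lineSpan P ∧ adams P j t.prod = (t.map (adams P j)).prod := by
  induction t using Multiset.induction_on with
  | empty =>
    refine ⟨?_, ?_⟩
    · rw [Multiset.prod_zero]; exact AddSubgroup.subset_closure (isLine_one P)
    · rw [Multiset.prod_zero, Multiset.map_zero, Multiset.prod_zero, adams_line P (isLine_one P),
        one_pow]
  | cons a t ih =>
    have hta := ht a (Multiset.mem_cons_self a t)
    obtain ⟨h1, h2⟩ := ih (fun x hx => ht x (Multiset.mem_cons_of_mem hx))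
    refine ⟨by rw [Multiset.prod_cons]; exact lineSpan_mul P hta h1, ?_⟩
    rw [Multiset.prod_cons, adams_mul_of_mem_lineSpan P j hta h1, h2, Multiset.map_cons,
      Multiset.prod_cons]

private theorem aeval_bottPoly_list {R : Type*} [CommRing R] (j : ℕ) (l : List R) :
    MvPolynomial.aeval (fun i : Fin l.length => (l : Multiset R).esymm (i.1 + 1))
        (KRR.bottPoly j l.length) =
      ((l : Multiset R).map (fun v => ∑ k ∈ Finset.range j, v ^ k)).prod := by
  have hv : (Finset.univ.val.map l.get : Multiset R) = (l : Multiset R) := by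
    rw [Fin.univ_val_map, List.ofFn_get]
  have h0 : MvPolynomial.esymmAlgHom (Fin l.length) ℤ l.length (KRR.bottPoly j l.length) =
      ⟨KRR.bottSym j l.length, KRR.bottSym_isSymmetric j l.length⟩ := by
    unfold KRR.bottPoly
    exact (MvPolynomial.esymmAlgEquiv (Fin l.length) ℤ (Fintype.card_fin _)).apply_symm_apply _
  have h1 : MvPolynomial.aeval
      (fun i : Fin l.length => MvPolynomial.esymm (Fin l.length) ℤ (i.1 + 1))
      (KRR.bottPoly j l.length) = KRR.bottSym j l.length := by
    rw [← MvPolynomial.esymmAlgHom_apply, h0]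
  have h2 := congrArg (MvPolynomial.aeval (R := ℤ) l.get) h1
  rw [MvPolynomial.comp_aeval_apply] at h2
  simp only [MvPolynomial.aeval_esymm_eq_multiset_esymm, hv] at h2
  rw [h2, KRR.bottSym, map_prod, Finset.prod_eq_multiset_prod, ← hv, Multiset.map_map]
  congr 1
  refine Multiset.map_congr rfl (fun i _ => ?_)
  simp

private theorem aeval_bottPoly {R : Type*} [CommRing R] (j m : ℕ) (s : Multiset R)
    (hs : Multiset.card s = m) :
    MvPolynomial.aeval (fun i : Fin m => s.esymm (i.1 + 1)) (KRR.bottPoly j m) =
      (s.map (fun v => ∑ k ∈ Finset.range j, v ^ k)).prod := by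
  induction s using Quotient.inductionOn with
  | _ l =>
    change Multiset.card (l : Multiset R) = m at hs
    rw [Multiset.coe_card] at hs
    subst hs
    exact aeval_bottPoly_list j l

/-- Let K be a λ-ring with positive structure having the splitting property, e a positive element and j
≥ 1. Then ψ^j(λ_{-1}(e)) = λ_{-1}(e) · θ^j(e), where λ_{-1}(e) = Σ_{i ≤ ε(e)} (-1)^i λ^i(e), ψ^j is
the Adams operation and θ^j(e) is Bott's cannibalistic class (the universal polynomial in the λ^i(e)
which is Π (1 + u_i + ⋯ + u_i^{j-1}) on a splitting e = Σ u_i). -/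
theorem result (K : Type v) [CommRing K] [LambdaRing.LambdaOps K] (P : LambdaRing.PosStructure K) (hK : LambdaRing.HasSplitting K P) (e : K) (he : e ∈ P.pos) (j : ℕ) (hj : 1 ≤ j) :
    LambdaRing.adams P j (KRR.lamAlt P e) = KRR.lamAlt P e * KRR.bott P j e := by
  obtain ⟨C, hKC, hC⟩ := hK
  obtain ⟨L, hL, (f : K →+* L.carrier), (hf : IsExtension P L.posStr f), s, hs, hsum⟩ :=
    hC ⟨K, P⟩ hKC e he
  have hcard : Multiset.card s = (P.aug e).toNat := by
    have h3 : L.posStr.aug (f e) = P.aug e := hf.aug_comp e
    have h4 : L.posStr.aug s.sum = (Multiset.card s : ℤ) :=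
      aug_multiset_sum_of_lines L.posStr s hs
    rw [← h3, ← hsum, h4]
    simp
  have hlam : ∀ i, f (LambdaOps.lam i e) = s.esymm i := fun i => by
    rw [hf.isLambdaHom, ← hsum, lam_sum_lines L.posStr s hs]
  have hA : f (KRR.lamAlt P e) = (s.map (fun v => 1 - v)).prod := by
    unfold KRR.lamAlt
    rw [map_sum, ← hcard, ← sum_neg_one_pow_esymm s]
    refine Finset.sum_congr rfl (fun i _ => ?_)
    rw [map_mul, map_pow, map_neg, map_one, hlam]
  have hB : f (KRR.bott P j e) = (s.map (fun v => ∑ k ∈ Finset.range j, v ^ k)).prod := by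
    rw [← aeval_bottPoly j _ s hcard]
    unfold KRR.bott
    have h1 := MvPolynomial.comp_aeval_apply
      (f := fun i : Fin (P.aug e).toNat => LambdaOps.lam (i.1 + 1) e) f.toIntAlgHom
      (KRR.bottPoly j (P.aug e).toNat)
    refine h1.trans ?_
    exact congrArg (fun g : Fin (P.aug e).toNat → L.carrier =>
      MvPolynomial.aeval g (KRR.bottPoly j (P.aug e).toNat)) (funext fun i => hlam (i.1 + 1))
  apply hf.injective
  rw [adams_map hf, map_mul, hA, hB]
  have hls : ∀ x ∈ s.map (fun v => 1 - v), x ∈ lineSpan L.posStr := by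
    intro x hx
    obtain ⟨v, hv, rfl⟩ := Multiset.mem_map.mp hx
    exact sub_mem (AddSubgroup.subset_closure (isLine_one _))
      (AddSubgroup.subset_closure (hs v hv))
  rw [(adams_multiset_prod L.posStr j _ hls).2, Multiset.map_map, ← Multiset.prod_map_mul]
  congr 1
  refine Multiset.map_congr rfl (fun v hv => ?_)
  simp only [Function.comp_apply]
  rw [adams_sub, adams_line _ (isLine_one _), adams_line _ (hs v hv), one_pow]
  exact (mul_neg_geom_sum v j).symm

end Groth.Agent.S3792
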