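import Groth.Statements.S3806
import Mathlib

set_option autoImplicit false
universe u
open scoped TensorProduct
attribute [local instance] PP16.mapAlgebra PP16.isScalarTower_mapAlgebra
open PP16

namespace Groth.Agent.S3806

section

variable (n : ℕ) (A B A' B' : Type u) [CommRing A] [CommRing B] [Algebra A B]
    [CommRing A'] [CommRing B'] [Algebra A' B'] [Algebra A A'] [Algebra B B'] [Algebra A B']
    [IsScalarTower A A' B'] [IsScalarTower A B B']

/-- The candidate pushout `P^n_{B/A} ⊗_B B'`. -/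
abbrev Q := PP16.P n A B ⊗[B] B'

/-- first-factor map `B' → Q`, `b' ↦ 1 ⊗ b'`. -/
noncomputable def θ₁ : B' →ₐ[B] Q n A B B' := Algebra.TensorProduct.includeRight

variable [Algebra.IsPushout A B A' B']

/-- second-factor map `B' → Q`, extending `b ↦ dⁿ b ⊗ 1` and `a' ↦ 1 ⊗ a'`. -/
noncomputable def θ₂ : B' →ₐ[A] Q n A B B' :=
  Algebra.pushoutDesc B'
    ((Algebra.TensorProduct.includeLeft : PP16.P n A B →ₐ[A] Q n A B B').comp (PP16.dn n A B))
    (((Algebra.TensorProduct.includeRight : B' →ₐ[B] Q n A B B').restrictScalars A).comp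
      (IsScalarTower.toAlgHom A A' B'))
    (fun x y => by exact mul_comm (G := Q n A B B') _ _)

theorem θ₂_algebraMap_B (b : B) :
    θ₂ n A B A' B' (algebraMap B B' b) = (PP16.dn n A B b) ⊗ₜ[B] (1 : B') := by
  unfold θ₂
  rw [Algebra.pushoutDesc_left]
  rfl

theorem θ₂_algebraMap_A' (a : A') :
    θ₂ n A B A' B' (algebraMap A' B' a) = (1 : PP16.P n A B) ⊗ₜ[B] (algebraMap A' B' a) := by
  unfold θ₂
  rw [Algebra.pushoutDesc_right]
  rfl

/-- `Q` as an `A'`-algebra through the right factor. -/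
@[instance_reducible]
noncomputable def algA'Q : Algebra A' (Q n A B B') :=
  RingHom.toAlgebra' ((Algebra.TensorProduct.includeRight : B' →ₐ[B] Q n A B B').toRingHom.comp
    (algebraMap A' B')) (fun _ _ => by exact mul_comm (G := Q n A B B') _ _)

/-- the map `B' ⊗_{A'} B' → Q`. -/
noncomputable def Θ : B' ⊗[A'] B' →+* Q n A B B' :=
  letI : Algebra A' (Q n A B B') := algA'Q n A B A' B'
  (Algebra.TensorProduct.lift
    ({ toRingHom := (θ₁ n A B B').toRingHom
       commutes' := fun _ => rfl } : B' →ₐ[A'] Q n A B B')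
    ({ toRingHom := (θ₂ n A B A' B').toRingHom
       commutes' := fun a => (θ₂_algebraMap_A' n A B A' B' a).trans rfl } : B' →ₐ[A'] Q n A B B')
    (fun _ _ => by exact Commute.all (S := Q n A B B') _ _)).toRingHom

theorem Θ_tmul (x y : B') :
    Θ n A B A' B' (x ⊗ₜ[A'] y) = ((1 : PP16.P n A B) ⊗ₜ[B] x) * θ₂ n A B A' B' y := by
  letI : Algebra A' (Q n A B B') := algA'Q n A B A' B'
  unfold Θ
  simp only [AlgHom.toRingHom_eq_coe, RingHom.coe_coe, Algebra.TensorProduct.lift_tmul]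
  rfl

/-- the image in `Q` of the augmentation ideal. -/
noncomputable def aQ : Ideal (Q n A B B') :=
  Ideal.map (Algebra.TensorProduct.includeLeft : PP16.P n A B →ₐ[B] Q n A B B').toRingHom
    (PP16.augIdeal n A B)

theorem aQ_pow : aQ n A B B' ^ (n + 1) = ⊥ := by
  unfold aQ PP16.augIdeal
  have h1 := Ideal.map_pow (Algebra.TensorProduct.includeLeft : PP16.P n A B →ₐ[B] Q n A B B').toRingHom
    (Ideal.map (Ideal.Quotient.mk (KaehlerDifferential.ideal A B ^ (n + 1))) (KaehlerDifferential.ideal A B)) (n + 1)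
  rw [← h1, ← Ideal.map_pow, Ideal.map_quotient_self, Ideal.map_bot]

theorem delta_mem (s : B') :
    θ₂ n A B A' B' s - (1 : PP16.P n A B) ⊗ₜ[B] s ∈ aQ n A B B' := by
  have H : Algebra.IsPushout A B A' B' := inferInstance
  refine H.1.inductionOn s (fun s => θ₂ n A B A' B' s - (1 : PP16.P n A B) ⊗ₜ[B] s ∈ aQ n A B B')
    ?_ ?_ ?_ ?_
  · simp
  · intro a
    show θ₂ n A B A' B' (algebraMap A' B' a) - _ ∈ _
    rw [θ₂_algebraMap_A']
    simp
  · intro b x hx
    have hb : θ₂ n A B A' B' (algebraMap B B' b) - (1 : PP16.P n A B) ⊗ₜ[B] (algebraMap B B' b) ∈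
        aQ n A B B' := by
      rw [θ₂_algebraMap_B]
      have h1 : (1 : PP16.P n A B) ⊗ₜ[B] (algebraMap B B' b) =
          (algebraMap B (PP16.P n A B) b) ⊗ₜ[B] (1 : B') := by
        rw [Algebra.algebraMap_eq_smul_one, Algebra.algebraMap_eq_smul_one, TensorProduct.smul_tmul]
      rw [h1, ← TensorProduct.sub_tmul]
      apply Ideal.mem_map_of_mem
      show (PP16.dn n A B b - algebraMap B (PP16.P n A B) b) ∈ PP16.augIdeal n A B
      have : (PP16.dn n A B b - algebraMap B (PP16.P n A B) b) =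
          Ideal.Quotient.mk _ ((1 : B) ⊗ₜ[A] b - b ⊗ₜ[A] (1 : B)) := by
        rw [map_sub]
        rfl
      rw [this]
      exact Ideal.mem_map_of_mem _ (KaehlerDifferential.one_smul_sub_smul_one_mem_ideal A b)
    have : θ₂ n A B A' B' (b • x) - (1 : PP16.P n A B) ⊗ₜ[B] (b • x) =
        θ₂ n A B A' B' (algebraMap B B' b) * (θ₂ n A B A' B' x - (1 : PP16.P n A B) ⊗ₜ[B] x) +
        (θ₂ n A B A' B' (algebraMap B B' b) - (1 : PP16.P n A B) ⊗ₜ[B] (algebraMap B B' b)) *
          ((1 : PP16.P n A B) ⊗ₜ[B] x) := by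
      rw [Algebra.smul_def, map_mul]
      have h2 : (1 : PP16.P n A B) ⊗ₜ[B] (algebraMap B B' b * x) =
          ((1 : PP16.P n A B) ⊗ₜ[B] (algebraMap B B' b)) * ((1 : PP16.P n A B) ⊗ₜ[B] x) := by
        rw [Algebra.TensorProduct.tmul_mul_tmul, one_mul]
      rw [h2]
      ring
    rw [this]
    refine Ideal.add_mem _ (Ideal.mul_mem_left _ _ hx) ?_
    have hc : (θ₂ n A B A' B' (algebraMap B B' b) - (1 : PP16.P n A B) ⊗ₜ[B] (algebraMap B B' b)) *
          ((1 : PP16.P n A B) ⊗ₜ[B] x) = ((1 : PP16.P n A B) ⊗ₜ[B] x) *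
        (θ₂ n A B A' B' (algebraMap B B' b) - (1 : PP16.P n A B) ⊗ₜ[B] (algebraMap B B' b)) := by
      exact mul_comm (G := Q n A B B') _ _
    rw [hc]
    exact Ideal.mul_mem_left _ _ hb
  · intro x y hx hy
    have : θ₂ n A B A' B' (x + y) - (1 : PP16.P n A B) ⊗ₜ[B] (x + y) =
        (θ₂ n A B A' B' x - (1 : PP16.P n A B) ⊗ₜ[B] x) +
        (θ₂ n A B A' B' y - (1 : PP16.P n A B) ⊗ₜ[B] y) := by
      rw [map_add, TensorProduct.tmul_add]
      ring
    rw [this]
    exact Ideal.add_mem _ hx hy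

theorem map_Θ_le : Ideal.map (Θ n A B A' B') (KaehlerDifferential.ideal A' B') ≤ aQ n A B B' := by
  rw [Ideal.map_le_iff_le_comap, ← KaehlerDifferential.span_range_eq_ideal, Ideal.span_le]
  rintro _ ⟨s, rfl⟩
  rw [SetLike.mem_coe, Ideal.mem_comap, map_sub, Θ_tmul, Θ_tmul, map_one, mul_one]
  have : ((1 : PP16.P n A B) ⊗ₜ[B] (1 : B')) = (1 : Q n A B B') := rfl
  rw [this, one_mul]
  exact delta_mem n A B A' B' s

theorem Θ_eq_zero (x : B' ⊗[A'] B') (hx : x ∈ KaehlerDifferential.ideal A' B' ^ (n + 1)) :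
    Θ n A B A' B' x = 0 := by
  have h1 : Ideal.map (Θ n A B A' B') (KaehlerDifferential.ideal A' B' ^ (n + 1)) ≤ ⊥ := by
    have h0 := Ideal.map_pow (Θ n A B A' B') (KaehlerDifferential.ideal A' B') (n + 1)
    rw [h0, ← aQ_pow n A B B']
    exact Ideal.pow_right_mono (map_Θ_le n A B A' B') (n + 1)
  have h2 := h1 (Ideal.mem_map_of_mem _ hx)
  exact (Submodule.mem_bot _).mp h2

/-- the inverse map `P^n_{B'/A'} → Q`. -/
noncomputable def ψ : PP16.P n A' B' →+* Q n A B B' :=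
  Ideal.Quotient.lift _ (Θ n A B A' B') (Θ_eq_zero n A B A' B')

theorem ψ_mk (x : B' ⊗[A'] B') : ψ n A B A' B' (Ideal.Quotient.mk _ x) = Θ n A B A' B' x := rfl

/-- the canonical map `Q → P^n_{B'/A'}`. -/
noncomputable def φ : Q n A B B' →ₐ[PP16.P n A B] PP16.P n A' B' :=
  Algebra.TensorProduct.lift (Algebra.ofId _ _) (IsScalarTower.toAlgHom B B' (PP16.P n A' B'))
    (fun _ _ => Commute.all _ _)

theorem φ_tmul (p : PP16.P n A B) (b : B') :
    φ n A B A' B' (p ⊗ₜ[B] b) = PP16.map n A B A' B' p * algebraMap B' (PP16.P n A' B') b := by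
  unfold φ
  rw [Algebra.TensorProduct.lift_tmul]
  rfl

theorem ψ_algebraMap (b : B') :
    ψ n A B A' B' (algebraMap B' (PP16.P n A' B') b) = (1 : PP16.P n A B) ⊗ₜ[B] b := by
  have : algebraMap B' (PP16.P n A' B') b = Ideal.Quotient.mk _ (b ⊗ₜ[A'] (1 : B')) := rfl
  rw [this, ψ_mk, Θ_tmul, map_one, mul_one]

theorem ψ_map (p : PP16.P n A B) :
    ψ n A B A' B' (PP16.map n A B A' B' p) = p ⊗ₜ[B] (1 : B') := by
  obtain ⟨x, rfl⟩ := Ideal.Quotient.mk_surjective p
  induction x using TensorProduct.induction_on with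
  | zero => simp
  | tmul b₁ b₂ =>
    rw [PP16.map_mk, PP16.tensorMap_tmul, ψ_mk, Θ_tmul, θ₂_algebraMap_B,
      Algebra.TensorProduct.tmul_mul_tmul, one_mul, mul_one]
    have h1 : (PP16.dn n A B b₂) ⊗ₜ[B] (algebraMap B B' b₁) =
        (b₁ • PP16.dn n A B b₂) ⊗ₜ[B] (1 : B') := by
      rw [Algebra.algebraMap_eq_smul_one, TensorProduct.smul_tmul]
    rw [h1]
    congr 1
    show b₁ • Ideal.Quotient.mk _ ((1 : B) ⊗ₜ[A] b₂) = Ideal.Quotient.mk _ (b₁ ⊗ₜ[A] b₂)
    have h2 : b₁ • ((1 : B) ⊗ₜ[A] b₂) = b₁ ⊗ₜ[A] b₂ := by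
      rw [TensorProduct.smul_tmul', smul_eq_mul, mul_one]
    rw [← h2]
    exact (map_smul (Ideal.Quotient.mkₐ B (KaehlerDifferential.ideal A B ^ (n + 1))) b₁ _).symm
  | add x y hx hy =>
    rw [map_add, map_add, map_add, hx, hy, TensorProduct.add_tmul]

theorem ψ_φ (q : Q n A B B') : ψ n A B A' B' (φ n A B A' B' q) = q := by
  induction q using TensorProduct.induction_on with
  | zero => simp
  | tmul p b =>
    rw [φ_tmul, map_mul, ψ_map, ψ_algebraMap, Algebra.TensorProduct.tmul_mul_tmul, one_mul, mul_one]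
  | add x y hx hy => rw [map_add, map_add, hx, hy]

theorem φ_θ₂ (y : B') : φ n A B A' B' (θ₂ n A B A' B' y) = PP16.dn n A' B' y := by
  have H : Algebra.IsPushout A B A' B' := inferInstance
  refine H.1.inductionOn y (fun y => φ n A B A' B' (θ₂ n A B A' B' y) = PP16.dn n A' B' y)
    ?_ ?_ ?_ ?_
  · simp
  · intro a
    show φ n A B A' B' (θ₂ n A B A' B' (algebraMap A' B' a)) = PP16.dn n A' B' (algebraMap A' B' a)
    rw [θ₂_algebraMap_A', φ_tmul, map_one, one_mul]
    show Ideal.Quotient.mk _ ((algebraMap A' B' a) ⊗ₜ[A'] (1 : B')) =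
      Ideal.Quotient.mk _ ((1 : B') ⊗ₜ[A'] (algebraMap A' B' a))
    congr 1
    rw [Algebra.algebraMap_eq_smul_one, TensorProduct.smul_tmul]
  · intro b x hx
    rw [Algebra.smul_def, map_mul, map_mul, map_mul, hx, θ₂_algebraMap_B, φ_tmul, map_one, mul_one,
      PP16.map_dn]
  · intro x y hx hy
    rw [map_add, map_add, map_add, hx, hy]

theorem φ_ψ (p : PP16.P n A' B') : φ n A B A' B' (ψ n A B A' B' p) = p := by
  obtain ⟨x, rfl⟩ := Ideal.Quotient.mk_surjective p
  induction x using TensorProduct.induction_on with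
  | zero => simp
  | tmul b₁ b₂ =>
    rw [ψ_mk, Θ_tmul, map_mul, φ_tmul, map_one, one_mul, φ_θ₂]
    show Ideal.Quotient.mk _ (b₁ ⊗ₜ[A'] (1 : B')) * Ideal.Quotient.mk _ ((1 : B') ⊗ₜ[A'] b₂) = _
    rw [← map_mul, Algebra.TensorProduct.tmul_mul_tmul, one_mul, mul_one]
  | add x y hx hy => rw [map_add, map_add, map_add, hx, hy]

/-- the linear equivalence `Q ≃ P^n_{B'/A'}` over `P^n_{B/A}`. -/
noncomputable def eQ : Q n A B B' ≃ₗ[PP16.P n A B] PP16.P n A' B' :=
  { (φ n A B A' B').toLinearMap with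
    invFun := ψ n A B A' B'
    left_inv := ψ_φ n A B A' B'
    right_inv := φ_ψ n A B A' B' }

end

/-- Let A → A' be a ring map, B an A-algebra and B' = B ⊗_A A'. Then the canonical map P^n_{B/A} ⊗_B B'
→ P^n_{B'/A'} induced by functoriality of principal parts is an isomorphism; that is, the square B →
P^n_{B/A}, B → B', with P^n_{B'/A'} in the corner, is a pushout of rings. -/
theorem result (n : ℕ) (A B A' B' : Type u) [CommRing A] [CommRing B] [Algebra A B]
    [CommRing A'] [CommRing B'] [Algebra A' B'] [Algebra A A'] [Algebra B B'] [Algebra A B']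
    [IsScalarTower A A' B'] [IsScalarTower A B B'] [Algebra.IsPushout A B A' B'] :
    Algebra.IsPushout B (PP16.P n A B) B' (PP16.P n A' B') := by
  constructor
  refine IsBaseChange.of_equiv (Groth.Agent.S3806.eQ n A B A' B') ?_
  intro x
  show Groth.Agent.S3806.φ n A B A' B' ((1 : PP16.P n A B) ⊗ₜ[B] x) = _
  rw [Groth.Agent.S3806.φ_tmul, map_one, one_mul]
  rfl

end Groth.Agent.S3806
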