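import Groth.Statements.S3807
import Mathlib

set_option autoImplicit false
universe u
open scoped TensorProduct
attribute [local instance] PP16.mapAlgebra PP16.isScalarTower_mapAlgebra
open PP16

namespace Groth.Agent.S3807

open PP16

section basics
variable (n : ℕ) (A B : Type u) [CommRing A] [CommRing B] [Algebra A B]

theorem algebraMap_P (b : B) :
    algebraMap B (P n A B) b = Ideal.Quotient.mk _ (b ⊗ₜ[A] (1:B)) := rfl

theorem dn_apply (b : B) : dn n A B b = Ideal.Quotient.mk _ ((1:B) ⊗ₜ[A] b) := rfl

theorem augIdeal_pow : (augIdeal n A B) ^ (n + 1) = ⊥ := by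
  unfold augIdeal
  rw [← Ideal.map_pow, Ideal.map_quotient_self]

theorem sub_mem_augIdeal (b : B) : dn n A B b - algebraMap B (P n A B) b ∈ augIdeal n A B := by
  rw [algebraMap_P, dn_apply, ← map_sub]
  exact Ideal.mem_map_of_mem _ (KaehlerDifferential.one_smul_sub_smul_one_mem_ideal A b)

theorem mk_tmul (b c : B) :
    (Ideal.Quotient.mk ((KaehlerDifferential.ideal A B) ^ (n + 1)) (b ⊗ₜ[A] c) : P n A B) =
      algebraMap B (P n A B) b * dn n A B c := by
  rw [algebraMap_P, dn_apply, ← map_mul, Algebra.TensorProduct.tmul_mul_tmul, mul_one, one_mul]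

end basics

section main
variable (n : ℕ) (A B B' : Type u) [CommRing A] [CommRing B] [Algebra A B]
    [CommRing B'] [Algebra B B'] [Algebra A B'] [IsScalarTower A B B'] (S : Submonoid B)
    [IsLocalization S B']

/-- the submonoid -/
noncomputable abbrev T : Submonoid (P n A B) := S.map (algebraMap B (P n A B))

variable (L : Type u) [CommRing L] [Algebra (P n A B) L] [IsLocalization (T n A B S) L]
  [Algebra A L] [IsScalarTower A (P n A B) L]

theorem isUnit_left (s : S) :
    IsUnit ((algebraMap (P n A B) L).comp (algebraMap B (P n A B)) s) :=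
  IsLocalization.map_units L (⟨algebraMap B (P n A B) s, ⟨s, s.2, rfl⟩⟩ : T n A B S)

theorem isUnit_right (s : S) :
    IsUnit ((algebraMap (P n A B) L).comp (dn n A B).toRingHom s) := by
  have h1 : IsNilpotent (dn n A B s - algebraMap B (P n A B) s) := by
    refine ⟨n + 1, ?_⟩
    have := Ideal.pow_mem_pow (sub_mem_augIdeal n A B (s : B)) (n + 1)
    rw [augIdeal_pow] at this
    exact this
  have h2 : IsNilpotent (algebraMap (P n A B) L (dn n A B s - algebraMap B (P n A B) s)) :=
    h1.map _
  have h3 := h2.isUnit_add_right_of_commute (isUnit_left n A B S L s) (Commute.all (_ : L) _)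
  have h4 : algebraMap (P n A B) L (dn n A B s - algebraMap B (P n A B) s) +
      (algebraMap (P n A B) L).comp (algebraMap B (P n A B)) s =
      (algebraMap (P n A B) L).comp (dn n A B).toRingHom s := by
    simp
  rw [← h4]
  exact h3

/-- left map -/
noncomputable def gl : B' →ₐ[A] L :=
  { IsLocalization.lift (M := S) (S := B') (isUnit_left n A B S L) with
    commutes' := fun a => by
      change IsLocalization.lift (M := S) (S := B') (isUnit_left n A B S L) (algebraMap A B' a) = _
      rw [IsScalarTower.algebraMap_apply A B B', IsLocalization.lift_eq]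
      change algebraMap (P n A B) L (algebraMap B (P n A B) (algebraMap A B a)) = _
      rw [← IsScalarTower.algebraMap_apply A B (P n A B), ← IsScalarTower.algebraMap_apply A (P n A B)] }

/-- right map -/
noncomputable def gr : B' →ₐ[A] L :=
  { IsLocalization.lift (M := S) (S := B') (isUnit_right n A B S L) with
    commutes' := fun a => by
      change IsLocalization.lift (M := S) (S := B') (isUnit_right n A B S L) (algebraMap A B' a) = _
      rw [IsScalarTower.algebraMap_apply A B B', IsLocalization.lift_eq]
      change algebraMap (P n A B) L (dn n A B (algebraMap A B a)) = _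
      rw [AlgHom.commutes, ← IsScalarTower.algebraMap_apply A (P n A B)] }

theorem gl_algebraMap (b : B) :
    gl n A B B' S L (algebraMap B B' b) = algebraMap (P n A B) L (algebraMap B (P n A B) b) :=
  IsLocalization.lift_eq (isUnit_left n A B S L) b

theorem gr_algebraMap (b : B) :
    gr n A B B' S L (algebraMap B B' b) = algebraMap (P n A B) L (dn n A B b) :=
  IsLocalization.lift_eq (isUnit_right n A B S L) b

/-- the ideal J -/
noncomputable abbrev J : Ideal L := (augIdeal n A B).map (algebraMap (P n A B) L)

theorem J_pow : (J n A B L) ^ (n + 1) = ⊥ := by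
  unfold J
  rw [← Ideal.map_pow, augIdeal_pow, Ideal.map_bot]

theorem gr_sub_gl_mem (b' : B') : gr n A B B' S L b' - gl n A B B' S L b' ∈ J n A B L := by
  have h : (Ideal.Quotient.mk (J n A B L)).comp (gr n A B B' S L).toRingHom =
      (Ideal.Quotient.mk (J n A B L)).comp (gl n A B B' S L).toRingHom := by
    apply IsLocalization.ringHom_ext S
    ext b
    change Ideal.Quotient.mk (J n A B L) (gr n A B B' S L (algebraMap B B' b)) =
      Ideal.Quotient.mk (J n A B L) (gl n A B B' S L (algebraMap B B' b))
    rw [gr_algebraMap, gl_algebraMap, Ideal.Quotient.eq, ← map_sub]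
    exact Ideal.mem_map_of_mem _ (sub_mem_augIdeal n A B b)
  have := RingHom.congr_fun h b'
  exact Ideal.Quotient.eq.mp this

/-- the map on tensor -/
noncomputable def g₀ : B' ⊗[A] B' →ₐ[A] L :=
  Algebra.TensorProduct.lift (gl n A B B' S L) (gr n A B B' S L) (fun x y => Commute.all (_ : L) _)

theorem g₀_tmul (b c : B') : g₀ n A B B' S L (b ⊗ₜ c) = gl n A B B' S L b * gr n A B B' S L c := by
  simp [g₀, Algebra.TensorProduct.lift_tmul]

theorem g₀_ideal : (KaehlerDifferential.ideal A B').map (g₀ n A B B' S L) ≤ J n A B L := by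
  rw [← KaehlerDifferential.span_range_eq_ideal, Ideal.map_span, Ideal.span_le]
  rintro _ ⟨_, ⟨s, rfl⟩, rfl⟩
  rw [map_sub, g₀_tmul, g₀_tmul, map_one, map_one, one_mul, mul_one]
  exact gr_sub_gl_mem n A B B' S L s

theorem g₀_kills (x : B' ⊗[A] B') (hx : x ∈ (KaehlerDifferential.ideal A B') ^ (n + 1)) :
    g₀ n A B B' S L x = 0 := by
  have h := Ideal.pow_right_mono (n := n + 1) (g₀_ideal n A B B' S L)
  rw [← Ideal.map_pow, J_pow] at h
  have := h (Ideal.mem_map_of_mem _ hx)
  simpa using this

/-- the inverse map -/
noncomputable def g : P n A B' →+* L :=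
  Ideal.Quotient.lift _ (g₀ n A B B' S L).toRingHom (g₀_kills n A B B' S L)

theorem g_mk (x : B' ⊗[A] B') : g n A B B' S L (Ideal.Quotient.mk _ x) = g₀ n A B B' S L x := rfl

theorem isUnit_map (t : T n A B S) : IsUnit ((map n A B A B').toRingHom t) := by
  obtain ⟨_, ⟨s, hs, rfl⟩⟩ := t
  change IsUnit (map n A B A B' (algebraMap B (P n A B) s))
  rw [map_algebraMap]
  exact (IsLocalization.map_units B' (⟨s, hs⟩ : S)).map _

/-- the forward map -/
noncomputable def f : L →+* P n A B' :=
  IsLocalization.lift (M := T n A B S) (S := L) (isUnit_map n A B B' S)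

theorem f_algebraMap (x : P n A B) :
    f n A B B' S L (algebraMap (P n A B) L x) = map n A B A B' x :=
  IsLocalization.lift_eq (isUnit_map n A B B' S) x

theorem f_gl (b' : B') : f n A B B' S L (gl n A B B' S L b') = algebraMap B' (P n A B') b' := by
  have h : (f n A B B' S L).comp (gl n A B B' S L).toRingHom = algebraMap B' (P n A B') := by
    apply IsLocalization.ringHom_ext S
    ext b
    change f n A B B' S L (gl n A B B' S L (algebraMap B B' b)) = algebraMap B' (P n A B') (algebraMap B B' b)
    rw [gl_algebraMap, f_algebraMap, map_algebraMap]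
  exact RingHom.congr_fun h b'

theorem f_gr (b' : B') : f n A B B' S L (gr n A B B' S L b') = dn n A B' b' := by
  have h : (f n A B B' S L).comp (gr n A B B' S L).toRingHom = (dn n A B').toRingHom := by
    apply IsLocalization.ringHom_ext S
    ext b
    change f n A B B' S L (gr n A B B' S L (algebraMap B B' b)) = dn n A B' (algebraMap B B' b)
    rw [gr_algebraMap, f_algebraMap, map_dn]
  exact RingHom.congr_fun h b'

theorem f_g (y : P n A B') : f n A B B' S L (g n A B B' S L y) = y := by
  obtain ⟨x, rfl⟩ := Ideal.Quotient.mk_surjective y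
  rw [g_mk]
  induction x using TensorProduct.induction_on with
  | zero => simp
  | tmul b c => rw [g₀_tmul, map_mul, f_gl, f_gr, mk_tmul]
  | add x y hx hy => rw [map_add, map_add, hx, hy, map_add]

theorem g_f (z : L) : g n A B B' S L (f n A B B' S L z) = z := by
  have h : ((g n A B B' S L).comp (f n A B B' S L)) = RingHom.id L := by
    apply IsLocalization.ringHom_ext (T n A B S)
    refine RingHom.ext fun x => ?_
    change g n A B B' S L (f n A B B' S L (algebraMap (P n A B) L x)) =
      algebraMap (P n A B) L x
    rw [f_algebraMap]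
    obtain ⟨y, rfl⟩ := Ideal.Quotient.mk_surjective x
    rw [map_mk, g_mk]
    induction y using TensorProduct.induction_on with
    | zero => simp
    | tmul b c =>
      rw [tensorMap_tmul, g₀_tmul, gl_algebraMap, gr_algebraMap, ← map_mul, mk_tmul]
    | add x y hx hy => rw [map_add, map_add, hx, hy, map_add, map_add]
  exact RingHom.congr_fun h z

/-- the equivalence -/
noncomputable def e : L ≃ₐ[P n A B] P n A B' :=
  AlgEquiv.ofRingEquiv (f := RingEquiv.ofRingHom (f n A B B' S L) (g n A B B' S L)
    (RingHom.ext (f_g n A B B' S L)) (RingHom.ext (g_f n A B B' S L)))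
    (fun x => f_algebraMap n A B B' S L x)

end main

/-- Let B be an A-algebra, S a multiplicative subset of B and B' = S⁻¹B. Then the canonical map
S⁻¹P^n_{B/A} → P^n_{B'/A} induced by functoriality is an isomorphism: P^n_{B'/A} is the localization
of P^n_{B/A} at the image of S. -/
theorem result (n : ℕ) (A B B' : Type u) [CommRing A] [CommRing B] [Algebra A B]
    [CommRing B'] [Algebra B B'] [Algebra A B'] [IsScalarTower A B B'] (S : Submonoid B) [IsLocalization S B'] :
    IsLocalization (S.map (algebraMap B (PP16.P n A B))) (PP16.P n A B') := by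
  exact IsLocalization.isLocalization_of_algEquiv
    (S := Localization (Groth.Agent.S3807.T n A B S)) (Groth.Agent.S3807.T n A B S)
    (Groth.Agent.S3807.e n A B B' S (Localization (Groth.Agent.S3807.T n A B S)))

end Groth.Agent.S3807
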