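import Groth.Statements.S3810
import Mathlib

set_option autoImplicit false
universe u
open scoped TensorProduct
open PP16

namespace Groth.Agent.S3810

theorem ker_quotient_map_of_map_eq {T T' : Type*} [CommRing T] [CommRing T'] (τ : T →+* T')
    (hτ : Function.Surjective τ)
    (J : Ideal T) (J' : Ideal T') (hJ : J.map τ = J') (φ : T ⧸ J →+* T' ⧸ J')
    (hφ : ∀ t, φ (Ideal.Quotient.mk J t) = Ideal.Quotient.mk J' (τ t)) :
    Function.Surjective φ ∧ RingHom.ker φ = (RingHom.ker τ).map (Ideal.Quotient.mk J) := by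
  constructor
  · intro y
    obtain ⟨t', rfl⟩ := Ideal.Quotient.mk_surjective y
    obtain ⟨t, rfl⟩ := hτ t'
    exact ⟨Ideal.Quotient.mk J t, hφ t⟩
  · ext x
    obtain ⟨t, rfl⟩ := Ideal.Quotient.mk_surjective x
    rw [RingHom.mem_ker, hφ, Ideal.Quotient.eq_zero_iff_mem, ← hJ, ← Ideal.mem_comap,
      Ideal.comap_map_of_surjective τ hτ, Ideal.mem_map_iff_of_surjective _ Ideal.Quotient.mk_surjective]
    constructor
    · intro ht
      obtain ⟨j, hj, k, hk, rfl⟩ := Submodule.mem_sup.mp ht
      refine ⟨k, hk, ?_⟩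
      rw [map_add, Ideal.Quotient.eq_zero_iff_mem.mpr hj, zero_add]
    · rintro ⟨k, hk, hkt⟩
      have h1 : t - k ∈ J := by
        rw [← Ideal.Quotient.eq_zero_iff_mem, map_sub, hkt, sub_self]
      have : t = (t - k) + k := by ring
      rw [this]
      exact Submodule.add_mem_sup h1 hk

open scoped TensorProduct in
theorem tensorMap_eq_map (A B : Type u) [CommRing A] [CommRing B] [Algebra A B] (K : Ideal B) :
    PP16.tensorMap A B A (B ⧸ K) =
      Algebra.TensorProduct.map (Ideal.Quotient.mkₐ A K) (Ideal.Quotient.mkₐ A K) := by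
  apply Algebra.TensorProduct.ext'
  intro b c
  rw [PP16.tensorMap_tmul, Algebra.TensorProduct.map_tmul]
  rfl

open scoped TensorProduct in
theorem ideal_map_tensorMap_eq (A B : Type u) [CommRing A] [CommRing B] [Algebra A B] (K : Ideal B) :
    (KaehlerDifferential.ideal A B).map (PP16.tensorMap A B A (B ⧸ K)) =
      KaehlerDifferential.ideal A (B ⧸ K) := by
  apply le_antisymm (PP16.ideal_map_tensorMap_le A B A (B ⧸ K))
  rw [← KaehlerDifferential.span_range_eq_ideal (R := A) (S := B ⧸ K), Ideal.span_le]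
  rintro _ ⟨c, rfl⟩
  obtain ⟨b, rfl⟩ := Ideal.Quotient.mk_surjective c
  have : (1 : B ⧸ K) ⊗ₜ[A] (Ideal.Quotient.mk K b) - (Ideal.Quotient.mk K b) ⊗ₜ[A] (1 : B ⧸ K) =
      PP16.tensorMap A B A (B ⧸ K) ((1 : B) ⊗ₜ[A] b - b ⊗ₜ[A] (1 : B)) := by
    rw [map_sub, PP16.tensorMap_tmul, PP16.tensorMap_tmul, map_one]
    rfl
  change (1 : B ⧸ K) ⊗ₜ[A] (Ideal.Quotient.mk K b) - (Ideal.Quotient.mk K b) ⊗ₜ[A] (1 : B ⧸ K) ∈ _
  rw [this]
  exact Ideal.mem_map_of_mem _ (KaehlerDifferential.one_smul_sub_smul_one_mem_ideal A b)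

/-- Let B be an A-algebra, K an ideal of B and C = B/K. Then the canonical map P^n_{B/A} → P^n_{C/A} is
surjective and its kernel is the ideal generated by the image of K under the structure map B →
P^n_{B/A} together with the image of K under the principal-part map d^n (the latter is an additive
subgroup, not a B-submodule, in general). -/
theorem result (n : ℕ) (A B : Type u) [CommRing A] [CommRing B] [Algebra A B]
    (K : Ideal B) :
    Function.Surjective (PP16.map n A B A (B ⧸ K)) ∧
      RingHom.ker (PP16.map n A B A (B ⧸ K)) =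
        K.map (algebraMap B (PP16.P n A B)) ⊔ K.map (PP16.dn n A B) := by
  have hsurj : Function.Surjective (PP16.tensorMap A B A (B ⧸ K)) := by
    rw [tensorMap_eq_map]
    exact Algebra.TensorProduct.map_surjective _ _ Ideal.Quotient.mk_surjective Ideal.Quotient.mk_surjective
  have hker : RingHom.ker (PP16.tensorMap A B A (B ⧸ K)) =
      K.map (Algebra.TensorProduct.includeLeft : B →ₐ[A] TensorProduct A B B) ⊔
        K.map (Algebra.TensorProduct.includeRight : B →ₐ[A] TensorProduct A B B) := by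
    rw [tensorMap_eq_map, Algebra.TensorProduct.map_ker _ _ Ideal.Quotient.mk_surjective Ideal.Quotient.mk_surjective]
    have : RingHom.ker (Ideal.Quotient.mkₐ A K) = K := Ideal.Quotient.mkₐ_ker A K
    rw [this]
  have hJ : ((KaehlerDifferential.ideal A B) ^ (n + 1)).map (PP16.tensorMap A B A (B ⧸ K)).toRingHom =
      (KaehlerDifferential.ideal A (B ⧸ K)) ^ (n + 1) := by
    rw [Ideal.map_pow]
    congr 1
    exact ideal_map_tensorMap_eq A B K
  obtain ⟨h1, h2⟩ := ker_quotient_map_of_map_eq (PP16.tensorMap A B A (B ⧸ K)).toRingHom hsurj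
    ((KaehlerDifferential.ideal A B) ^ (n + 1)) ((KaehlerDifferential.ideal A (B ⧸ K)) ^ (n + 1)) hJ
    (PP16.map n A B A (B ⧸ K)).toRingHom (fun t => PP16.map_mk n A B A (B ⧸ K) t)
  refine ⟨h1, ?_⟩
  have h3 : RingHom.ker (PP16.map n A B A (B ⧸ K)) =
      (RingHom.ker (PP16.tensorMap A B A (B ⧸ K))).map
        (Ideal.Quotient.mk ((KaehlerDifferential.ideal A B) ^ (n + 1))) := h2
  rw [h3, hker, Ideal.map_sup]
  congr 1
  · change Ideal.map _ (Ideal.span _) = Ideal.span _
    rw [Ideal.map_span, ← Set.image_comp]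
    rfl
  · change Ideal.map _ (Ideal.span _) = Ideal.span _
    rw [Ideal.map_span, ← Set.image_comp]
    rfl

end Groth.Agent.S3810
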