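import Groth.Statements.S3809
import Mathlib
import Groth.Agent.S3810

set_option autoImplicit false
universe u
open scoped TensorProduct
open PP16

namespace Groth.Agent.S3809

open scoped TensorProduct in
theorem tensorMap_eq_mapOfCompatibleSMul (A B C : Type u) [CommRing A] [CommRing B] [CommRing C]
    [Algebra A B] [Algebra B C] [Algebra A C] [IsScalarTower A B C] (x : C ⊗[A] C) :
    PP16.tensorMap A C B C x = TensorProduct.mapOfCompatibleSMul B A B C C x := by
  induction x using TensorProduct.induction_on with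
  | zero => simp
  | tmul c c' => rw [PP16.tensorMap_tmul]; rfl
  | add x y hx hy => rw [map_add, map_add, hx, hy]

open scoped TensorProduct in
theorem tensorMap_tower_surjective (A B C : Type u) [CommRing A] [CommRing B] [CommRing C]
    [Algebra A B] [Algebra B C] [Algebra A C] [IsScalarTower A B C] :
    Function.Surjective (PP16.tensorMap A C B C) := by
  intro y
  obtain ⟨x, rfl⟩ := TensorProduct.mapOfCompatibleSMul_surjective B A B C C y
  exact ⟨x, tensorMap_eq_mapOfCompatibleSMul A B C x⟩

open scoped TensorProduct in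
theorem ker_tensorMap_tower (A B C : Type u) [CommRing A] [CommRing B] [CommRing C]
    [Algebra A B] [Algebra B C] [Algebra A C] [IsScalarTower A B C] :
    RingHom.ker (PP16.tensorMap A C B C) =
      (KaehlerDifferential.ideal A B).map (PP16.tensorMap A B A C) := by
  apply le_antisymm
  · intro x hx
    have hx' : x ∈ LinearMap.ker (TensorProduct.mapOfCompatibleSMul B A B C C) := by
      rw [LinearMap.mem_ker, ← tensorMap_eq_mapOfCompatibleSMul]
      exact hx
    rw [TensorProduct.AlgebraTensorModule.ker_mapOfCompatibleSMul] at hx'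
    have hle : Submodule.span B {x | ∃ (a : B) (m : C) (n : C), (a • m) ⊗ₜ[A] n - m ⊗ₜ[A] (a • n) = x} ≤
        ((KaehlerDifferential.ideal A B).map (PP16.tensorMap A B A C)).restrictScalars B := by
      rw [Submodule.span_le]
      rintro _ ⟨b, c, c', rfl⟩
      have e : (b • c) ⊗ₜ[A] c' - c ⊗ₜ[A] (b • c') =
          - ((c ⊗ₜ[A] c') * PP16.tensorMap A B A C ((1 : B) ⊗ₜ[A] b - b ⊗ₜ[A] (1 : B))) := by
        rw [map_sub, PP16.tensorMap_tmul, PP16.tensorMap_tmul, map_one, mul_sub,
          Algebra.TensorProduct.tmul_mul_tmul, Algebra.TensorProduct.tmul_mul_tmul, mul_one, mul_one,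
          Algebra.smul_def, Algebra.smul_def, mul_comm c, mul_comm c']
        ring
      change _ ∈ (KaehlerDifferential.ideal A B).map (PP16.tensorMap A B A C)
      rw [e]
      exact neg_mem (Ideal.mul_mem_left _ _ (Ideal.mem_map_of_mem _
        (KaehlerDifferential.one_smul_sub_smul_one_mem_ideal A b)))
    exact hle hx'
  · rw [← KaehlerDifferential.span_range_eq_ideal, Ideal.map_span, Ideal.span_le]
    rintro _ ⟨_, ⟨b, rfl⟩, rfl⟩
    change PP16.tensorMap A C B C (PP16.tensorMap A B A C ((1 : B) ⊗ₜ[A] b - b ⊗ₜ[A] (1 : B))) = 0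
    rw [map_sub, PP16.tensorMap_tmul, PP16.tensorMap_tmul, map_one, map_sub, PP16.tensorMap_tmul,
      PP16.tensorMap_tmul, map_one, sub_eq_zero, Algebra.algebraMap_self, RingHom.id_apply]
    rw [Algebra.algebraMap_eq_smul_one, TensorProduct.tmul_smul, TensorProduct.smul_tmul']

open scoped TensorProduct in
theorem ideal_map_tensorMap_tower (A B C : Type u) [CommRing A] [CommRing B] [CommRing C]
    [Algebra A B] [Algebra B C] [Algebra A C] [IsScalarTower A B C] :
    (KaehlerDifferential.ideal A C).map (PP16.tensorMap A C B C) = KaehlerDifferential.ideal B C := by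
  apply le_antisymm (PP16.ideal_map_tensorMap_le A C B C)
  rw [← KaehlerDifferential.span_range_eq_ideal (R := B) (S := C), Ideal.span_le]
  rintro _ ⟨c, rfl⟩
  have : (1 : C) ⊗ₜ[B] c - c ⊗ₜ[B] (1 : C) =
      PP16.tensorMap A C B C ((1 : C) ⊗ₜ[A] c - c ⊗ₜ[A] (1 : C)) := by
    rw [map_sub, PP16.tensorMap_tmul, PP16.tensorMap_tmul, map_one]
    rfl
  change (1 : C) ⊗ₜ[B] c - c ⊗ₜ[B] (1 : C) ∈ _
  rw [this]
  exact Ideal.mem_map_of_mem _ (KaehlerDifferential.one_smul_sub_smul_one_mem_ideal A c)

/-- Let A → B → C be ring maps. Then the canonical map P^n_{C/A} → P^n_{C/B} is surjective, and its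
kernel is the ideal generated by the image, under the canonical map P^n_{B/A} → P^n_{C/A}, of the
augmentation ideal of P^n_{B/A}. -/
theorem result (n : ℕ) (A B C : Type u) [CommRing A] [CommRing B] [CommRing C]
    [Algebra A B] [Algebra B C] [Algebra A C] [IsScalarTower A B C] :
    Function.Surjective (PP16.map n A C B C) ∧
      RingHom.ker (PP16.map n A C B C) = (PP16.augIdeal n A B).map (PP16.map n A B A C) := by
  have hJ : ((KaehlerDifferential.ideal A C) ^ (n + 1)).map (PP16.tensorMap A C B C).toRingHom =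
      (KaehlerDifferential.ideal B C) ^ (n + 1) := by
    rw [Ideal.map_pow]
    congr 1
    exact ideal_map_tensorMap_tower A B C
  obtain ⟨h1, h2⟩ := Groth.Agent.S3810.ker_quotient_map_of_map_eq (PP16.tensorMap A C B C).toRingHom
    (tensorMap_tower_surjective A B C)
    ((KaehlerDifferential.ideal A C) ^ (n + 1)) ((KaehlerDifferential.ideal B C) ^ (n + 1)) hJ
    (PP16.map n A C B C).toRingHom (fun t => PP16.map_mk n A C B C t)
  refine ⟨h1, ?_⟩
  have h3 : RingHom.ker (PP16.map n A C B C) =
      (RingHom.ker (PP16.tensorMap A C B C)).map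
        (Ideal.Quotient.mk ((KaehlerDifferential.ideal A C) ^ (n + 1))) := h2
  rw [h3, ker_tensorMap_tower]
  change Ideal.map _ (Ideal.span _) = Ideal.map _ (Ideal.span _)
  rw [Ideal.map_span, Ideal.map_span, ← Set.image_comp, ← Set.image_comp]
  rfl

end Groth.Agent.S3809
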