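import Groth.Statements.S3808
import Mathlib
import Groth.Agent.S3809

set_option autoImplicit false
universe u
open scoped TensorProduct
open PP16

namespace Groth.Agent.S3808

open scoped TensorProduct in
theorem one_tmul_eq_tmul_one_of_isLocalization {A A' : Type u} [CommRing A] [CommRing A'] [Algebra A A']
    (R : Submonoid A) [IsLocalization R A'] (a' : A') : (1 : A') ⊗ₜ[A] a' = a' ⊗ₜ[A] (1 : A') := by
  obtain ⟨⟨a, r⟩, har⟩ := IsLocalization.surj R a'
  have har' : a' * algebraMap A A' r = algebraMap A A' a := har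
  obtain ⟨u, hu⟩ := IsLocalization.map_units A' r
  have h1 : (1 : A') = r.1 • (↑u⁻¹ : A') := by
    rw [Algebra.smul_def, ← hu, Units.mul_inv]
  have h2 : a' = a • (↑u⁻¹ : A') := by
    rw [Algebra.smul_def, ← har', ← hu, mul_assoc, Units.mul_inv, mul_one]
  calc (1 : A') ⊗ₜ[A] a' = (r.1 • (↑u⁻¹ : A')) ⊗ₜ[A] a' := by rw [← h1]
    _ = (↑u⁻¹ : A') ⊗ₜ[A] (r.1 • a') := by rw [TensorProduct.smul_tmul]
    _ = (↑u⁻¹ : A') ⊗ₜ[A] (a • (1 : A')) := by
        rw [Algebra.smul_def, Algebra.smul_def, mul_one, mul_comm, har']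
    _ = (a • (↑u⁻¹ : A')) ⊗ₜ[A] (1 : A') := by rw [TensorProduct.smul_tmul]
    _ = a' ⊗ₜ[A] (1 : A') := by rw [← h2]

theorem kaehler_ideal_eq_bot_of_isLocalization {A A' : Type u} [CommRing A] [CommRing A'] [Algebra A A']
    (R : Submonoid A) [IsLocalization R A'] : KaehlerDifferential.ideal A A' = ⊥ := by
  rw [← KaehlerDifferential.span_range_eq_ideal, Ideal.span_eq_bot]
  rintro _ ⟨a', rfl⟩
  change (1 : A') ⊗ₜ[A] a' - a' ⊗ₜ[A] (1 : A') = 0
  rw [one_tmul_eq_tmul_one_of_isLocalization R a', sub_self]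

/-- Let A → B be a ring map, R a multiplicative subset of A, S one of B containing the image of R, and
A' = R⁻¹A, B' = S⁻¹B with the induced map A' → B'. Then the canonical map P^n_{B'/A} → P^n_{B'/A'}
is bijective. -/
theorem result (n : ℕ) (A B A' B' : Type u) [CommRing A] [CommRing B] [Algebra A B]
    [CommRing A'] [CommRing B'] [Algebra A A'] [Algebra B B'] [Algebra A' B'] [Algebra A B']
    [IsScalarTower A A' B'] [IsScalarTower A B B'] (R : Submonoid A) (S : Submonoid B) [IsLocalization R A']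
    [IsLocalization S B'] (hRS : ∀ r ∈ R, algebraMap A B r ∈ S) :
    Function.Bijective (PP16.map n A B' A' B') := by
  obtain ⟨h1, h2⟩ := Groth.Agent.S3809.result n A A' B'
  refine ⟨?_, h1⟩
  have h3 : PP16.augIdeal n A A' = ⊥ := by
    unfold PP16.augIdeal
    rw [Ideal.map_eq_bot_iff_le_ker]
    intro x hx
    have : x ∈ (⊥ : Ideal (TensorProduct A A' A')) := kaehler_ideal_eq_bot_of_isLocalization (A := A) (A' := A') R ▸ hx
    rw [Ideal.mem_bot] at this
    rw [this]
    exact zero_mem _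
  rw [h3, Ideal.map_bot] at h2
  exact (RingHom.injective_iff_ker_eq_bot (PP16.map n A B' A' B').toRingHom).mpr h2

end Groth.Agent.S3808
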