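import Groth.Statements.S3811
import Mathlib

set_option autoImplicit false
universe u
open scoped TensorProduct
open PP16

namespace Groth.Agent.S3811

section
variable (A B : Type u) [CommRing A] [CommRing B] [Algebra A B] (g : B →ₐ[A] A)

/-- `b ⊗ c ↦ g(b) c`. -/
noncomputable def muMap : B ⊗[A] B →ₐ[A] B :=
  Algebra.TensorProduct.lift ((Algebra.ofId A B).comp g) (AlgHom.id A B) (fun _ _ => Commute.all _ _)

theorem muMap_tmul (b c : B) : muMap A B g (b ⊗ₜ[A] c) = algebraMap A B (g b) * c := by
  simp [muMap, Algebra.TensorProduct.lift_tmul, Algebra.ofId_apply]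

theorem sub_includeRight_muMap_mem (t : B ⊗[A] B) :
    t - (1 : B) ⊗ₜ[A] (muMap A B g t) ∈
      (RingHom.ker g).map (Algebra.TensorProduct.includeLeft : B →ₐ[A] B ⊗[A] B) := by
  induction t using TensorProduct.induction_on with
  | zero => simp
  | tmul b c =>
    rw [muMap_tmul]
    have e : b ⊗ₜ[A] c - (1 : B) ⊗ₜ[A] (algebraMap A B (g b) * c) =
        ((1 : B) ⊗ₜ[A] c) * (Algebra.TensorProduct.includeLeft (R := A) (S := A) (A := B) (B := B)
          (b - algebraMap A B (g b))) := by
      rw [Algebra.TensorProduct.includeLeft_apply, Algebra.TensorProduct.tmul_mul_tmul, one_mul, mul_one,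
        TensorProduct.sub_tmul, ← Algebra.smul_def, TensorProduct.tmul_smul, TensorProduct.smul_tmul',
        Algebra.smul_def, mul_one]
    rw [e]
    refine Ideal.mul_mem_left _ _ (Ideal.mem_map_of_mem _ ?_)
    rw [RingHom.mem_ker, map_sub, AlgHom.commutes, Algebra.algebraMap_self, RingHom.id_apply, sub_self]
  | add x y hx hy =>
    have : x + y - (1 : B) ⊗ₜ[A] (muMap A B g (x + y)) =
        (x - (1 : B) ⊗ₜ[A] (muMap A B g x)) + (y - (1 : B) ⊗ₜ[A] (muMap A B g y)) := by
      rw [map_add, TensorProduct.tmul_add]; ring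
    rw [this]
    exact add_mem hx hy

theorem map_includeLeft_le_ker_muMap :
    (RingHom.ker g).map (Algebra.TensorProduct.includeLeft : B →ₐ[A] B ⊗[A] B) ≤
      RingHom.ker (muMap A B g) := by
  rw [Ideal.map_le_iff_le_comap]
  intro k hk
  rw [Ideal.mem_comap, RingHom.mem_ker, Algebra.TensorProduct.includeLeft_apply, muMap_tmul]
  have : g k = 0 := hk
  rw [this, map_zero, zero_mul]

theorem muMap_surjective : Function.Surjective (muMap A B g) := fun c =>
  ⟨(1 : B) ⊗ₜ[A] c, by rw [muMap_tmul, map_one, map_one, one_mul]⟩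

theorem map_muMap_kaehler_ideal :
    (KaehlerDifferential.ideal A B).map (muMap A B g) = RingHom.ker g := by
  apply le_antisymm
  · rw [← KaehlerDifferential.span_range_eq_ideal, Ideal.map_span, Ideal.span_le]
    rintro _ ⟨_, ⟨b, rfl⟩, rfl⟩
    change muMap A B g ((1 : B) ⊗ₜ[A] b - b ⊗ₜ[A] (1 : B)) ∈ RingHom.ker g
    rw [map_sub, muMap_tmul, muMap_tmul, map_one, map_one, one_mul, mul_one, RingHom.mem_ker, map_sub,
      AlgHom.commutes, Algebra.algebraMap_self, RingHom.id_apply, sub_self]
  · intro k hk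
    have hk0 : g k = 0 := hk
    have : k = muMap A B g ((1 : B) ⊗ₜ[A] k - k ⊗ₜ[A] (1 : B)) := by
      rw [map_sub, muMap_tmul, muMap_tmul, map_one, map_one, one_mul, mul_one, hk0, map_zero, sub_zero]
    rw [this]
    exact Ideal.mem_map_of_mem _ (KaehlerDifferential.one_smul_sub_smul_one_mem_ideal A k)
end

/-- Let B be an A-algebra with an A-algebra retraction g : B → A, and K the kernel of g. The composite
of d^n : B → P^n_{B/A} with the projection P^n_{B/A} → P^n_{B/A} / K P^n_{B/A} (base change of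
P^n_{B/A} along g) is surjective with kernel K^(n+1); thus P^n_{B/A} ⊗_B A is identified with
B/K^(n+1), the class of d^n t corresponding to the class of t. -/
theorem result (n : ℕ) (A B : Type u) [CommRing A] [CommRing B] [Algebra A B]
    (g : B →ₐ[A] A) :
    Function.Surjective ((Ideal.Quotient.mk ((RingHom.ker g).map (algebraMap B (PP16.P n A B)))).comp
        (PP16.dn n A B).toRingHom) ∧
      RingHom.ker ((Ideal.Quotient.mk ((RingHom.ker g).map (algebraMap B (PP16.P n A B)))).comp
        (PP16.dn n A B).toRingHom) = RingHom.ker g ^ (n + 1) := by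
  have hN : (RingHom.ker g).map (algebraMap B (PP16.P n A B)) =
      ((RingHom.ker g).map (Algebra.TensorProduct.includeLeft : B →ₐ[A] TensorProduct A B B)).map
        (Ideal.Quotient.mk ((KaehlerDifferential.ideal A B) ^ (n + 1))) := by
    change Ideal.span _ = Ideal.map _ (Ideal.span _)
    rw [Ideal.map_span, ← Set.image_comp]
    rfl
  have hpow : ((KaehlerDifferential.ideal A B) ^ (n + 1)).map (muMap A B g) = RingHom.ker g ^ (n + 1) := by
    rw [Ideal.map_pow, map_muMap_kaehler_ideal]
  constructor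
  · intro y
    obtain ⟨p, rfl⟩ := Ideal.Quotient.mk_surjective y
    obtain ⟨t, rfl⟩ := Ideal.Quotient.mk_surjective p
    refine ⟨muMap A B g t, ?_⟩
    rw [RingHom.comp_apply, eq_comm, Ideal.Quotient.eq, hN]
    have h1 := sub_includeRight_muMap_mem A B g t
    have h2 := Ideal.mem_map_of_mem (Ideal.Quotient.mk ((KaehlerDifferential.ideal A B) ^ (n + 1))) h1
    rw [map_sub] at h2
    exact h2
  · ext b
    rw [RingHom.mem_ker, RingHom.comp_apply, Ideal.Quotient.eq_zero_iff_mem, hN]
    change Ideal.Quotient.mk ((KaehlerDifferential.ideal A B) ^ (n + 1)) ((1 : B) ⊗ₜ[A] b) ∈ _ ↔ _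
    rw [← Ideal.mem_comap, Ideal.comap_map_of_surjective _ Ideal.Quotient.mk_surjective,
      ← RingHom.ker_eq_comap_bot, Ideal.mk_ker]
    constructor
    · intro h
      obtain ⟨ν, hν, j, hj, hνj⟩ := Submodule.mem_sup.mp h
      have h3 : muMap A B g ((1 : B) ⊗ₜ[A] b) = b := by
        rw [muMap_tmul, map_one, map_one, one_mul]
      rw [← h3, ← hνj, map_add, (map_includeLeft_le_ker_muMap A B g hν : muMap A B g ν = 0), zero_add, ← hpow]
      exact Ideal.mem_map_of_mem _ hj
    · intro h
      rw [← hpow] at h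
      obtain ⟨j, hj, rfl⟩ := (Ideal.mem_map_iff_of_surjective _ (muMap_surjective A B g)).mp h
      have h1 := sub_includeRight_muMap_mem A B g j
      have : (1 : B) ⊗ₜ[A] (muMap A B g j) = -(j - (1 : B) ⊗ₜ[A] (muMap A B g j)) + j := by ring
      rw [this]
      exact Submodule.add_mem_sup (neg_mem h1) hj

end Groth.Agent.S3811
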