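import Groth.Statements.S3812
import Mathlib

set_option autoImplicit false
universe u
open scoped TensorProduct
open PP16

namespace Groth.Agent.S3812

section
variable (A : Type u) [CommRing A] (σ : Type u)

/-- The shift automorphism `U_i ↦ U_i + T_i` of `B[U]`, `B = A[T]`. -/
noncomputable def shiftEquiv :
    MvPolynomial σ (MvPolynomial σ A) ≃ₐ[MvPolynomial σ A] MvPolynomial σ (MvPolynomial σ A) :=
  AlgEquiv.ofAlgHom
    (MvPolynomial.aeval (fun i => (MvPolynomial.X i : MvPolynomial σ (MvPolynomial σ A)) +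
      MvPolynomial.C (MvPolynomial.X i : MvPolynomial σ A)))
    (MvPolynomial.aeval (fun i => (MvPolynomial.X i : MvPolynomial σ (MvPolynomial σ A)) -
      MvPolynomial.C (MvPolynomial.X i : MvPolynomial σ A)))
    (by
      apply MvPolynomial.algHom_ext
      intro i
      simp [MvPolynomial.aeval_X, MvPolynomial.algebraMap_eq])
    (by
      apply MvPolynomial.algHom_ext
      intro i
      simp [MvPolynomial.aeval_X, MvPolynomial.algebraMap_eq])

theorem shiftEquiv_X (i : σ) : shiftEquiv A σ (MvPolynomial.X i) =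
    (MvPolynomial.X i : MvPolynomial σ (MvPolynomial σ A)) +
      MvPolynomial.C (MvPolynomial.X i : MvPolynomial σ A) := by
  simp [shiftEquiv]

/-- `B ⊗_A B ≃ B[U]`, `1 ⊗ T_i ↦ U_i + T_i`. -/
noncomputable def e0 : (MvPolynomial σ A) ⊗[A] (MvPolynomial σ A) ≃ₐ[MvPolynomial σ A]
    MvPolynomial σ (MvPolynomial σ A) :=
  (MvPolynomial.algebraTensorAlgEquiv A (MvPolynomial σ A)).trans (shiftEquiv A σ)

theorem e0_one_tmul_X (i : σ) : e0 A σ ((1 : MvPolynomial σ A) ⊗ₜ[A] (MvPolynomial.X i)) =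
    (MvPolynomial.X i : MvPolynomial σ (MvPolynomial σ A)) +
      MvPolynomial.C (MvPolynomial.X i : MvPolynomial σ A) := by
  simp [e0, shiftEquiv_X]

theorem e0_tmul_one (b : MvPolynomial σ A) : e0 A σ (b ⊗ₜ[A] (1 : MvPolynomial σ A)) =
    MvPolynomial.C b := by
  have : b ⊗ₜ[A] (1 : MvPolynomial σ A) = algebraMap (MvPolynomial σ A) _ b := rfl
  rw [this, AlgEquiv.commutes]
  rfl

theorem e0_mem (b : MvPolynomial σ A) :
    e0 A σ ((1 : MvPolynomial σ A) ⊗ₜ[A] b - b ⊗ₜ[A] (1 : MvPolynomial σ A)) ∈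
      Ideal.span (Set.range (MvPolynomial.X : σ → MvPolynomial σ (MvPolynomial σ A))) := by
  induction b using MvPolynomial.induction_on with
  | C a =>
    have : (1 : MvPolynomial σ A) ⊗ₜ[A] (MvPolynomial.C a) - (MvPolynomial.C a) ⊗ₜ[A] (1 : MvPolynomial σ A) = 0 := by
      rw [sub_eq_zero, ← MvPolynomial.algebraMap_eq, Algebra.algebraMap_eq_smul_one, TensorProduct.tmul_smul,
        TensorProduct.smul_tmul']
    rw [this, map_zero]
    exact zero_mem _
  | add p q hp hq =>
    have : (1 : MvPolynomial σ A) ⊗ₜ[A] (p + q) - (p + q) ⊗ₜ[A] (1 : MvPolynomial σ A) =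
        ((1 : MvPolynomial σ A) ⊗ₜ[A] p - p ⊗ₜ[A] (1 : MvPolynomial σ A)) +
        ((1 : MvPolynomial σ A) ⊗ₜ[A] q - q ⊗ₜ[A] (1 : MvPolynomial σ A)) := by
      rw [TensorProduct.tmul_add, TensorProduct.add_tmul]; ring
    rw [this, map_add]
    exact add_mem hp hq
  | mul_X p i hp =>
    have : (1 : MvPolynomial σ A) ⊗ₜ[A] (p * MvPolynomial.X i) - (p * MvPolynomial.X i) ⊗ₜ[A] (1 : MvPolynomial σ A) =
        ((1 : MvPolynomial σ A) ⊗ₜ[A] p) * ((1 : MvPolynomial σ A) ⊗ₜ[A] (MvPolynomial.X i) - (MvPolynomial.X i) ⊗ₜ[A] (1 : MvPolynomial σ A)) +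
        ((MvPolynomial.X i) ⊗ₜ[A] (1 : MvPolynomial σ A)) * ((1 : MvPolynomial σ A) ⊗ₜ[A] p - p ⊗ₜ[A] (1 : MvPolynomial σ A)) := by
      rw [mul_sub, mul_sub, Algebra.TensorProduct.tmul_mul_tmul, Algebra.TensorProduct.tmul_mul_tmul,
        Algebra.TensorProduct.tmul_mul_tmul, Algebra.TensorProduct.tmul_mul_tmul]
      simp only [one_mul, mul_one]
      rw [mul_comm (MvPolynomial.X i) p]
      ring
    rw [this, map_add, map_mul, map_mul]
    refine add_mem (Ideal.mul_mem_left _ _ ?_) (Ideal.mul_mem_left _ _ hp)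
    rw [map_sub, e0_one_tmul_X, e0_tmul_one, add_sub_cancel_right]
    exact Ideal.subset_span ⟨i, rfl⟩

theorem map_e0_ideal : (KaehlerDifferential.ideal A (MvPolynomial σ A)).map (e0 A σ : _ →+* _) =
    Ideal.span (Set.range (MvPolynomial.X : σ → MvPolynomial σ (MvPolynomial σ A))) := by
  apply le_antisymm
  · rw [← KaehlerDifferential.span_range_eq_ideal, Ideal.map_span, Ideal.span_le]
    rintro _ ⟨_, ⟨b, rfl⟩, rfl⟩
    exact e0_mem A σ b
  · rw [Ideal.span_le]
    rintro _ ⟨i, rfl⟩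
    have : (MvPolynomial.X i : MvPolynomial σ (MvPolynomial σ A)) =
        (e0 A σ : _ →+* _) ((1 : MvPolynomial σ A) ⊗ₜ[A] (MvPolynomial.X i) - (MvPolynomial.X i) ⊗ₜ[A] (1 : MvPolynomial σ A)) := by
      change _ = e0 A σ _
      rw [map_sub, e0_one_tmul_X, e0_tmul_one, add_sub_cancel_right]
    rw [this]
    exact Ideal.mem_map_of_mem _ (KaehlerDifferential.one_smul_sub_smul_one_mem_ideal A _)
end

/-- Let B = A[T_i] be a polynomial algebra. There is an isomorphism of B-algebras from P^n_{B/A} onto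
B[U_i]/(U)^(n+1), where (U) is the ideal generated by the new indeterminates, sending the principal
part d^n T_i to the class of T_i + U_i for every i (so d^n F(T) goes to the class of F(T + U)). -/
theorem result (n : ℕ) (A : Type u) [CommRing A] (σ : Type u) :
    ∃ e : PP16.P n A (MvPolynomial σ A) ≃ₐ[MvPolynomial σ A]
        (MvPolynomial σ (MvPolynomial σ A) ⧸
          Ideal.span (Set.range (MvPolynomial.X : σ → MvPolynomial σ (MvPolynomial σ A))) ^ (n + 1)),
      ∀ i : σ, e (PP16.dn n A (MvPolynomial σ A) (MvPolynomial.X i)) =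
        Ideal.Quotient.mk _ (MvPolynomial.C (MvPolynomial.X i : MvPolynomial σ A) +
          (MvPolynomial.X i : MvPolynomial σ (MvPolynomial σ A))) := by
  have h : Ideal.span (Set.range (MvPolynomial.X : σ → MvPolynomial σ (MvPolynomial σ A))) ^ (n + 1) =
      ((KaehlerDifferential.ideal A (MvPolynomial σ A)) ^ (n + 1)).map (e0 A σ : _ →+* _) := by
    rw [Ideal.map_pow, map_e0_ideal]
  refine ⟨Ideal.quotientEquivAlg _ _ (e0 A σ) h, fun i => ?_⟩
  change Ideal.Quotient.mk _ (e0 A σ ((1 : MvPolynomial σ A) ⊗ₜ[A] (MvPolynomial.X i))) = _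
  rw [e0_one_tmul_X, add_comm (MvPolynomial.X i : MvPolynomial σ (MvPolynomial σ A))]

end Groth.Agent.S3812
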