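import Groth.Statements.S3813
import Mathlib

set_option autoImplicit false
universe u
open scoped TensorProduct
open PP16

namespace Groth.Agent.S3813

section
variable (A : Type u) [CommRing A] (E : Type u) [AddCommGroup E] [Module A E]

/-- `t ↦ c • (t ⊗ 1) + 1 ⊗ t`. -/
noncomputable def deltaLin (c : A) : E →ₗ[A] (SymmetricAlgebra A E) ⊗[A] (SymmetricAlgebra A E) :=
  c • ((Algebra.TensorProduct.includeLeft (R := A) (S := A) (A := SymmetricAlgebra A E)
      (B := SymmetricAlgebra A E)).toLinearMap ∘ₗ SymmetricAlgebra.ι A E) +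
    (Algebra.TensorProduct.includeRight (R := A) (A := SymmetricAlgebra A E)
      (B := SymmetricAlgebra A E)).toLinearMap ∘ₗ SymmetricAlgebra.ι A E

theorem deltaLin_apply (c : A) (t : E) : deltaLin A E c t =
    c • ((SymmetricAlgebra.ι A E t) ⊗ₜ[A] (1 : SymmetricAlgebra A E)) +
      (1 : SymmetricAlgebra A E) ⊗ₜ[A] (SymmetricAlgebra.ι A E t) := by
  simp [deltaLin]

noncomputable def delta (c : A) : SymmetricAlgebra A E →ₐ[A]
    (SymmetricAlgebra A E) ⊗[A] (SymmetricAlgebra A E) :=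
  SymmetricAlgebra.lift (deltaLin A E c)

theorem delta_ι (c : A) (t : E) : delta A E c (SymmetricAlgebra.ι A E t) =
    (c • SymmetricAlgebra.ι A E t) ⊗ₜ[A] (1 : SymmetricAlgebra A E) +
      (1 : SymmetricAlgebra A E) ⊗ₜ[A] (SymmetricAlgebra.ι A E t) := by
  rw [delta, SymmetricAlgebra.lift_ι_apply, deltaLin_apply, TensorProduct.smul_tmul']

noncomputable def theta (c : A) : (SymmetricAlgebra A E) ⊗[A] (SymmetricAlgebra A E) →ₐ[SymmetricAlgebra A E]
    (SymmetricAlgebra A E) ⊗[A] (SymmetricAlgebra A E) :=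
  Algebra.TensorProduct.lift (Algebra.ofId _ _) (delta A E c) (fun _ _ => Commute.all _ _)

theorem theta_tmul (c : A) (b x : SymmetricAlgebra A E) :
    theta A E c (b ⊗ₜ[A] x) = (b ⊗ₜ[A] (1 : SymmetricAlgebra A E)) * delta A E c x := by
  simp [theta, Algebra.TensorProduct.lift_tmul, Algebra.ofId_apply, Algebra.TensorProduct.algebraMap_apply]

theorem theta_comp (c c' : A) (h : c + c' = 0) :
    (theta A E c).comp (theta A E c') = AlgHom.id _ _ := by
  apply Algebra.TensorProduct.ext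
  · ext
  · apply SymmetricAlgebra.algHom_ext
    ext t
    change theta A E c (theta A E c' ((1 : SymmetricAlgebra A E) ⊗ₜ[A] (SymmetricAlgebra.ι A E t))) =
      (1 : SymmetricAlgebra A E) ⊗ₜ[A] (SymmetricAlgebra.ι A E t)
    rw [theta_tmul, ← Algebra.TensorProduct.one_def, one_mul, delta_ι, map_add, theta_tmul, theta_tmul,
      map_one, mul_one, ← Algebra.TensorProduct.one_def, one_mul, delta_ι, ← add_assoc, ← TensorProduct.add_tmul,
      ← add_smul, add_comm c' c, h, zero_smul, TensorProduct.zero_tmul, zero_add]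

noncomputable def thetaEquiv : (SymmetricAlgebra A E) ⊗[A] (SymmetricAlgebra A E) ≃ₐ[SymmetricAlgebra A E]
    (SymmetricAlgebra A E) ⊗[A] (SymmetricAlgebra A E) :=
  AlgEquiv.ofAlgHom (theta A E 1) (theta A E (-1)) (theta_comp A E 1 (-1) (by ring))
    (theta_comp A E (-1) 1 (by ring))

theorem thetaEquiv_apply (x : (SymmetricAlgebra A E) ⊗[A] (SymmetricAlgebra A E)) :
    thetaEquiv A E x = theta A E 1 x := rfl

theorem theta_mem (b : SymmetricAlgebra A E) :
    theta A E 1 ((1 : SymmetricAlgebra A E) ⊗ₜ[A] b - b ⊗ₜ[A] (1 : SymmetricAlgebra A E)) ∈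
      (RingHom.ker (SymmetricAlgebra.lift (0 : E →ₗ[A] A))).map
        (Algebra.TensorProduct.includeRight : SymmetricAlgebra A E →ₐ[A]
          (SymmetricAlgebra A E) ⊗[A] (SymmetricAlgebra A E)) := by
  induction b using SymmetricAlgebra.induction with
  | algebraMap r =>
    have : (1 : SymmetricAlgebra A E) ⊗ₜ[A] (algebraMap A (SymmetricAlgebra A E) r) -
        (algebraMap A (SymmetricAlgebra A E) r) ⊗ₜ[A] (1 : SymmetricAlgebra A E) = 0 := by
      rw [sub_eq_zero, Algebra.algebraMap_eq_smul_one, TensorProduct.tmul_smul, TensorProduct.smul_tmul']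
    have h0 : theta A E 1 0 = 0 := map_zero _
    rw [this, h0]
    exact zero_mem _
  | ι t =>
    have : theta A E 1 ((1 : SymmetricAlgebra A E) ⊗ₜ[A] (SymmetricAlgebra.ι A E t) -
        (SymmetricAlgebra.ι A E t) ⊗ₜ[A] (1 : SymmetricAlgebra A E)) =
        (1 : SymmetricAlgebra A E) ⊗ₜ[A] (SymmetricAlgebra.ι A E t) := by
      rw [map_sub, theta_tmul, theta_tmul, map_one, mul_one, ← Algebra.TensorProduct.one_def, one_mul,
        delta_ι, one_smul, add_sub_cancel_left]
    rw [this]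
    refine Ideal.mem_map_of_mem _ ?_
    rw [RingHom.mem_ker, SymmetricAlgebra.lift_ι_apply, LinearMap.zero_apply]
  | mul a b ha hb =>
    have : (1 : SymmetricAlgebra A E) ⊗ₜ[A] (a * b) - (a * b) ⊗ₜ[A] (1 : SymmetricAlgebra A E) =
        ((1 : SymmetricAlgebra A E) ⊗ₜ[A] a) * ((1 : SymmetricAlgebra A E) ⊗ₜ[A] b - b ⊗ₜ[A] (1 : SymmetricAlgebra A E)) +
        (b ⊗ₜ[A] (1 : SymmetricAlgebra A E)) * ((1 : SymmetricAlgebra A E) ⊗ₜ[A] a - a ⊗ₜ[A] (1 : SymmetricAlgebra A E)) := by
      rw [mul_sub, mul_sub, Algebra.TensorProduct.tmul_mul_tmul, Algebra.TensorProduct.tmul_mul_tmul,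
        Algebra.TensorProduct.tmul_mul_tmul, Algebra.TensorProduct.tmul_mul_tmul]
      simp only [one_mul, mul_one]
      rw [mul_comm b a]
      ring
    rw [this, map_add, map_mul, map_mul]
    exact add_mem (Ideal.mul_mem_left _ _ hb) (Ideal.mul_mem_left _ _ ha)
  | add a b ha hb =>
    have : (1 : SymmetricAlgebra A E) ⊗ₜ[A] (a + b) - (a + b) ⊗ₜ[A] (1 : SymmetricAlgebra A E) =
        ((1 : SymmetricAlgebra A E) ⊗ₜ[A] a - a ⊗ₜ[A] (1 : SymmetricAlgebra A E)) +
        ((1 : SymmetricAlgebra A E) ⊗ₜ[A] b - b ⊗ₜ[A] (1 : SymmetricAlgebra A E)) := by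
      rw [TensorProduct.tmul_add, TensorProduct.add_tmul]; ring
    rw [this, map_add]
    exact add_mem ha hb

theorem lmul_comp_delta_neg :
    (Algebra.TensorProduct.lmul' A : (SymmetricAlgebra A E) ⊗[A] (SymmetricAlgebra A E) →ₐ[A] SymmetricAlgebra A E).comp
      (delta A E (-1)) =
    (Algebra.ofId A (SymmetricAlgebra A E)).comp (SymmetricAlgebra.lift (0 : E →ₗ[A] A)) := by
  apply SymmetricAlgebra.algHom_ext
  ext t
  change Algebra.TensorProduct.lmul' A (delta A E (-1) (SymmetricAlgebra.ι A E t)) =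
    Algebra.ofId A (SymmetricAlgebra A E) (SymmetricAlgebra.lift (0 : E →ₗ[A] A) (SymmetricAlgebra.ι A E t))
  rw [delta_ι, map_add, Algebra.TensorProduct.lmul'_apply_tmul, Algebra.TensorProduct.lmul'_apply_tmul,
    SymmetricAlgebra.lift_ι_apply, LinearMap.zero_apply, map_zero]
  simp

theorem map_thetaEquiv_ideal :
    (KaehlerDifferential.ideal A (SymmetricAlgebra A E)).map (thetaEquiv A E : _ →+* _) =
      (RingHom.ker (SymmetricAlgebra.lift (0 : E →ₗ[A] A))).map
        (Algebra.TensorProduct.includeRight : SymmetricAlgebra A E →ₐ[A]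
          (SymmetricAlgebra A E) ⊗[A] (SymmetricAlgebra A E)) := by
  apply le_antisymm
  · rw [← KaehlerDifferential.span_range_eq_ideal, Ideal.map_span, Ideal.span_le]
    rintro _ ⟨_, ⟨b, rfl⟩, rfl⟩
    exact theta_mem A E b
  · rw [Ideal.map_le_iff_le_comap]
    intro k hk
    rw [Ideal.mem_comap]
    have h1 : theta A E (-1) ((1 : SymmetricAlgebra A E) ⊗ₜ[A] k) ∈
        KaehlerDifferential.ideal A (SymmetricAlgebra A E) := by
      change Algebra.TensorProduct.lmul' A (theta A E (-1) ((1 : SymmetricAlgebra A E) ⊗ₜ[A] k)) = 0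
      rw [theta_tmul, ← Algebra.TensorProduct.one_def, one_mul]
      have := DFunLike.congr_fun (lmul_comp_delta_neg A E) k
      rw [AlgHom.comp_apply, AlgHom.comp_apply] at this
      rw [this, (hk : SymmetricAlgebra.lift (0 : E →ₗ[A] A) k = 0), map_zero]
    have h2 : (Algebra.TensorProduct.includeRight : SymmetricAlgebra A E →ₐ[A]
          (SymmetricAlgebra A E) ⊗[A] (SymmetricAlgebra A E)) k =
        (thetaEquiv A E : _ →+* _) (theta A E (-1) ((1 : SymmetricAlgebra A E) ⊗ₜ[A] k)) := by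
      change (1 : SymmetricAlgebra A E) ⊗ₜ[A] k = theta A E 1 (theta A E (-1) ((1 : SymmetricAlgebra A E) ⊗ₜ[A] k))
      have := DFunLike.congr_fun (theta_comp A E 1 (-1) (by ring)) ((1 : SymmetricAlgebra A E) ⊗ₜ[A] k)
      rw [AlgHom.comp_apply, AlgHom.id_apply] at this
      exact this.symm
    rw [h2]
    exact Ideal.mem_map_of_mem _ h1
end

/-- Let E be an A-module, B = Sym_A(E) its symmetric algebra and K the augmentation ideal of B (the
kernel of the A-algebra map B → A killing E). For every n there is an isomorphism of B-algebras from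
P^n_{B/A} onto B ⊗_A (B/K^(n+1)) sending the principal part d^n t of an element t of E to t ⊗ 1 + 1
⊗ (class of t). -/
theorem result (n : ℕ) (A : Type u) [CommRing A] (E : Type u) [AddCommGroup E]
    [Module A E] :
    ∃ e : PP16.P n A (SymmetricAlgebra A E) ≃ₐ[SymmetricAlgebra A E]
        (SymmetricAlgebra A E ⊗[A] (SymmetricAlgebra A E ⧸
          RingHom.ker (SymmetricAlgebra.lift (0 : E →ₗ[A] A)) ^ (n + 1))),
      ∀ t : E, e (PP16.dn n A (SymmetricAlgebra A E) (SymmetricAlgebra.ι A E t)) =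
        SymmetricAlgebra.ι A E t ⊗ₜ 1 + 1 ⊗ₜ Ideal.Quotient.mk _ (SymmetricAlgebra.ι A E t) := by
  have h : (RingHom.ker (SymmetricAlgebra.lift (0 : E →ₗ[A] A)) ^ (n + 1)).map
        (Algebra.TensorProduct.includeRight : SymmetricAlgebra A E →ₐ[A]
          TensorProduct A (SymmetricAlgebra A E) (SymmetricAlgebra A E)) =
      ((KaehlerDifferential.ideal A (SymmetricAlgebra A E)) ^ (n + 1)).map (thetaEquiv A E : _ →+* _) := by
    rw [Ideal.map_pow, Ideal.map_pow, map_thetaEquiv_ideal]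
  refine ⟨(Ideal.quotientEquivAlg _ _ (thetaEquiv A E) h).trans
    (Algebra.TensorProduct.tensorQuotientEquiv (R := A) (SymmetricAlgebra A E) (SymmetricAlgebra A E)
      (SymmetricAlgebra A E) _).symm, fun t => ?_⟩
  have e1 : PP16.dn n A (SymmetricAlgebra A E) (SymmetricAlgebra.ι A E t) =
      Ideal.Quotient.mk _ ((1 : SymmetricAlgebra A E) ⊗ₜ[A] (SymmetricAlgebra.ι A E t)) := rfl
  rw [AlgEquiv.trans_apply, e1, Ideal.quotientEquivAlg_mk, thetaEquiv_apply, theta_tmul,
    ← Algebra.TensorProduct.one_def, one_mul, delta_ι, one_smul, map_add, map_add,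
    Algebra.TensorProduct.tensorQuotientEquiv_symm_apply_tmul,
    Algebra.TensorProduct.tensorQuotientEquiv_symm_apply_tmul, map_one]

end Groth.Agent.S3813
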