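import Groth.Statements.S3814
import Mathlib

set_option autoImplicit false
universe u
open scoped TensorProduct
open PP16

namespace Groth.Agent.S3814

/-- If B is an A-algebra of finite presentation, then for every n the B-module P^n_{B/A} of principal
parts of order n is of finite presentation. -/
theorem result (n : ℕ) (A B : Type u) [CommRing A] [CommRing B]
    [Algebra A B] [Algebra.FinitePresentation A B] :
    Module.FinitePresentation B (PP16.P n A B) := by
  have hfg : (KaehlerDifferential.ideal A B ^ (n + 1)).FG := (KaehlerDifferential.ideal_fg A B).pow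
  haveI : Algebra.FinitePresentation B (B ⊗[A] B) := inferInstance
  haveI : Algebra.FinitePresentation B (PP16.P n A B) :=
    Algebra.FinitePresentation.quotient hfg
  haveI : Algebra.IsIntegral B (PP16.P n A B) := by
    constructor
    intro x
    obtain ⟨t, rfl⟩ := Ideal.Quotient.mk_surjective x
    set b : B := Algebra.TensorProduct.lmul' A t with hb
    have hmem : t - b ⊗ₜ[A] (1 : B) ∈ KaehlerDifferential.ideal A B := by
      rw [RingHom.mem_ker, map_sub, Algebra.TensorProduct.lmul'_apply_tmul, mul_one, ← hb, sub_self]
    have hpow : (t - b ⊗ₜ[A] (1 : B)) ^ (n + 1) ∈ KaehlerDifferential.ideal A B ^ (n + 1) :=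
      Ideal.pow_mem_pow hmem _
    have hnil : (Ideal.Quotient.mk (KaehlerDifferential.ideal A B ^ (n + 1)) t -
        algebraMap B (PP16.P n A B) b) ^ (n + 1) = 0 := by
      change (Ideal.Quotient.mk _ t - Ideal.Quotient.mk _ (b ⊗ₜ[A] (1 : B))) ^ (n + 1) = 0
      rw [← map_sub, ← map_pow, Ideal.Quotient.eq_zero_iff_mem]
      exact hpow
    have h1 : IsIntegral B (Ideal.Quotient.mk (KaehlerDifferential.ideal A B ^ (n + 1)) t -
        algebraMap B (PP16.P n A B) b) := by
      refine ⟨Polynomial.X ^ (n + 1), Polynomial.monic_X_pow _, ?_⟩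
      simp [hnil]
    have h2 := h1.add (isIntegral_algebraMap (x := b))
    simpa using h2
  haveI : Module.Finite B (PP16.P n A B) := Algebra.IsIntegral.finite
  exact Module.FinitePresentation.of_finite_of_finitePresentation _ _

end Groth.Agent.S3814
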