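import Groth.Statements.S3815
import Mathlib

set_option autoImplicit false
universe u
open scoped TensorProduct
open scoped BigOperators
open PP16

namespace Groth.Agent.S3815

section

variable (A B : Type u) [CommRing A] [CommRing B] [Algebra A B]
    (M N : Type u) [AddCommGroup M] [Module A M] [Module B M] [IsScalarTower A B M]
    [AddCommGroup N] [Module A N] [Module B N] [IsScalarTower A B N]

/-- post-composition with multiplication by `b`. -/
noncomputable def ρ₁ : B →ₐ[A] Module.End A (M →ₗ[A] N) :=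
  AlgHom.ofLinearMap
    ((LinearMap.llcomp A M N N) ∘ₗ (Algebra.lsmul A A N : B →ₐ[A] Module.End A N).toLinearMap)
    (by ext D m; simp)
    (by intro b b'; ext D m; simp [mul_smul])

/-- pre-composition with multiplication by `b`. -/
noncomputable def ρ₂ : B →ₐ[A] Module.End A (M →ₗ[A] N) :=
  AlgHom.ofLinearMap
    ((LinearMap.llcomp A M M N).flip ∘ₗ (Algebra.lsmul A A M : B →ₐ[A] Module.End A M).toLinearMap)
    (by ext D m; simp)
    (by intro b b'; ext D m; simp [mul_smul, smul_comm b b'])

theorem ρ₁_apply (b : B) (D : M →ₗ[A] N) (m : M) : ρ₁ A B M N b D m = b • D m := by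
  simp [ρ₁]

theorem ρ₂_apply (b : B) (D : M →ₗ[A] N) (m : M) : ρ₂ A B M N b D m = D (b • m) := by
  simp [ρ₂]

/-- the action of `B ⊗ B` on `Hom_A(M, N)`. -/
noncomputable def ρ : B ⊗[A] B →ₐ[A] Module.End A (M →ₗ[A] N) :=
  Algebra.TensorProduct.lift (ρ₁ A B M N) (ρ₂ A B M N) (fun b b' => by
    show _ * _ = _ * _
    ext D m
    simp [ρ₁_apply, ρ₂_apply])

theorem ρ_tmul (b₁ b₂ : B) (D : M →ₗ[A] N) (m : M) :
    ρ A B M N (b₁ ⊗ₜ[A] b₂) D m = b₁ • D (b₂ • m) := by
  unfold ρ
  rw [Algebra.TensorProduct.lift_tmul]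
  simp [ρ₁_apply, ρ₂_apply]

theorem commutator_eq (D : M →ₗ[A] N) (b : B) :
    Diff16.commutator A B M N D b = ρ A B M N ((1 : B) ⊗ₜ[A] b - b ⊗ₜ[A] (1 : B)) D := by
  ext m
  rw [map_sub, LinearMap.sub_apply, LinearMap.sub_apply, ρ_tmul, ρ_tmul]
  simp [Diff16.commutator]

/-- the ideal of elements of `B ⊗ B` killing `D`. -/
noncomputable def annD (D : M →ₗ[A] N) : Ideal (B ⊗[A] B) where
  carrier := {x | ρ A B M N x D = 0}
  zero_mem' := by simp
  add_mem' := by
    intro x y hx hy
    simp only [Set.mem_setOf_eq] at hx hy ⊢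
    rw [map_add, LinearMap.add_apply, hx, hy, add_zero]
  smul_mem' := by
    intro t x hx
    simp only [Set.mem_setOf_eq] at hx ⊢
    rw [smul_eq_mul, map_mul, Module.End.mul_apply, hx, map_zero]

theorem mem_annD (D : M →ₗ[A] N) (x : B ⊗[A] B) : x ∈ annD A B M N D ↔ ρ A B M N x D = 0 := Iff.rfl

theorem isDiffOpLE_iff (n : ℕ) : ∀ D : M →ₗ[A] N,
    Diff16.IsDiffOpLE A B M N n D ↔ KaehlerDifferential.ideal A B ^ (n + 1) ≤ annD A B M N D := by
  induction n with
  | zero =>
    intro D
    rw [zero_add, pow_one, ← KaehlerDifferential.span_range_eq_ideal, Ideal.span_le]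
    constructor
    · rintro h _ ⟨s, rfl⟩
      rw [SetLike.mem_coe, mem_annD]
      ext m
      rw [map_sub, LinearMap.sub_apply, LinearMap.sub_apply, ρ_tmul, ρ_tmul, one_smul, one_smul,
        LinearMap.zero_apply, sub_eq_zero]
      exact h s m
    · intro h b m
      have := h ⟨b, rfl⟩
      rw [SetLike.mem_coe, mem_annD] at this
      have h2 := LinearMap.congr_fun this m
      rw [map_sub, LinearMap.sub_apply, LinearMap.sub_apply, ρ_tmul, ρ_tmul, one_smul, one_smul,
        LinearMap.zero_apply, sub_eq_zero] at h2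
      exact h2
  | succ n ih =>
    intro D
    show (∀ b : B, Diff16.IsDiffOpLE A B M N n (Diff16.commutator A B M N D b)) ↔ _
    simp only [ih, commutator_eq]
    rw [pow_succ (KaehlerDifferential.ideal A B) (n + 1), Ideal.mul_le]
    constructor
    · intro h r hr s hs
      rw [← KaehlerDifferential.span_range_eq_ideal] at hs
      induction hs using Submodule.span_induction with
      | mem x hx =>
        obtain ⟨b, rfl⟩ := hx
        have := h b hr
        rw [mem_annD] at this ⊢
        rw [map_mul, Module.End.mul_apply]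
        exact this
      | zero => simp
      | add x y _ _ hx hy =>
        rw [mul_add]
        exact Ideal.add_mem _ hx hy
      | smul t x _ hx =>
        rw [smul_eq_mul, mul_left_comm]
        exact Ideal.mul_mem_left _ _ hx
    · intro h b x hx
      rw [mem_annD, ← Module.End.mul_apply, ← map_mul, ← mem_annD]
      exact h x hx _ (KaehlerDifferential.one_smul_sub_smul_one_mem_ideal A b)

end
section corr

variable (n : ℕ) (A B : Type u) [CommRing A] [CommRing B] [Algebra A B]
    (M N : Type u) [AddCommGroup M] [Module A M] [Module B M] [IsScalarTower A B M]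
    [AddCommGroup N] [Module A N] [Module B N] [IsScalarTower A B N]

/-- view an element of `P` as an element of the synonym `Pr`. -/
def toPr (p : PP16.P n A B) : PP16.Pr n A B := p

theorem toPr_add (p q : PP16.P n A B) : toPr n A B (p + q) = toPr n A B p + toPr n A B q := rfl

theorem smul_toPr (b : B) (p : PP16.P n A B) :
    b • toPr n A B p = toPr n A B (PP16.dn n A B b * p) := rfl

theorem P_smul_toPr (q p : PP16.P n A B) : q • toPr n A B p = toPr n A B (q * p) := rfl

theorem mk_tmul_eq (b₁ b₂ : B) :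
    (Ideal.Quotient.mk (KaehlerDifferential.ideal A B ^ (n + 1)) (b₁ ⊗ₜ[A] b₂) : PP16.P n A B) =
      algebraMap B (PP16.P n A B) b₁ * PP16.dn n A B b₂ := by
  show _ = Ideal.Quotient.mk _ (b₁ ⊗ₜ[A] (1 : B)) * Ideal.Quotient.mk _ ((1 : B) ⊗ₜ[A] b₂)
  rw [← map_mul, Algebra.TensorProduct.tmul_mul_tmul, mul_one, one_mul]

/-- any first-factor-linear additive map with `u (1 ⊗ m) = D m` is given by the action `ρ`. -/
theorem u_mk_tmul (D : M →ₗ[A] N) (u : PP16.PM n A B M →+ N)
    (h1 : ∀ (b : B) (t : PP16.PM n A B M), u (algebraMap B (PP16.P n A B) b • t) = b • u t)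
    (h2 : ∀ m : M, u (PP16.dM n A B M m) = D m) (x : B ⊗[A] B) (m : M) :
    u (toPr n A B (Ideal.Quotient.mk _ x) ⊗ₜ[B] m) = ρ A B M N x D m := by
  induction x using TensorProduct.induction_on with
  | zero =>
    have : toPr n A B (Ideal.Quotient.mk _ (0 : B ⊗[A] B)) = 0 := by rw [map_zero]; rfl
    rw [this, TensorProduct.zero_tmul, map_zero, map_zero, LinearMap.zero_apply, LinearMap.zero_apply]
  | tmul b₁ b₂ =>
    rw [mk_tmul_eq, ρ_tmul]
    have h3 : toPr n A B (algebraMap B (PP16.P n A B) b₁ * PP16.dn n A B b₂) ⊗ₜ[B] m =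
        algebraMap B (PP16.P n A B) b₁ • PP16.dM n A B M (b₂ • m) := by
      show _ = algebraMap B (PP16.P n A B) b₁ • ((1 : PP16.Pr n A B) ⊗ₜ[B] (b₂ • m))
      rw [TensorProduct.smul_tmul', ← TensorProduct.smul_tmul]
      congr 1
      show toPr n A B _ = toPr n A B (PP16.dn n A B b₂ * (algebraMap B (PP16.P n A B) b₁ * 1))
      congr 1
      ring
    rw [h3, h1, h2]
  | add x y hx hy =>
    rw [map_add, toPr_add, TensorProduct.add_tmul, map_add, hx, hy, map_add, LinearMap.add_apply,
      LinearMap.add_apply]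

/-- `x ↦ ρ x D` as an additive map into additive maps. -/
noncomputable def gD (D : M →ₗ[A] N) : (B ⊗[A] B) →+ (M →+ N) where
  toFun x := (ρ A B M N x D).toAddMonoidHom
  map_zero' := by ext m; simp
  map_add' := by intro x y; ext m; simp

theorem gD_apply (D : M →ₗ[A] N) (x : B ⊗[A] B) (m : M) : gD A B M N D x m = ρ A B M N x D m := rfl

/-- the induced map on `P^n`. -/
noncomputable def fD (D : M →ₗ[A] N)
    (h : KaehlerDifferential.ideal A B ^ (n + 1) ≤ annD A B M N D) : PP16.Pr n A B →+ (M →+ N) :=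
  QuotientAddGroup.lift (KaehlerDifferential.ideal A B ^ (n + 1)).toAddSubgroup (gD A B M N D)
    (by
      intro x hx
      rw [AddMonoidHom.mem_ker]
      ext m
      have := (mem_annD A B M N D x).mp (h hx)
      rw [gD_apply, this]
      rfl)

theorem fD_mk (D : M →ₗ[A] N)
    (h : KaehlerDifferential.ideal A B ^ (n + 1) ≤ annD A B M N D) (x : B ⊗[A] B) (m : M) :
    fD n A B M N D h (toPr n A B (Ideal.Quotient.mk _ x)) m = ρ A B M N x D m := rfl

theorem ρ_one_tmul_apply (b : B) (E : M →ₗ[A] N) (m : M) :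
    ρ A B M N ((1 : B) ⊗ₜ[A] b) E m = E (b • m) := by
  rw [ρ_tmul, one_smul]

theorem ρ_tmul_one_apply (b : B) (E : M →ₗ[A] N) (m : M) :
    ρ A B M N (b ⊗ₜ[A] (1 : B)) E m = b • E m := by
  rw [ρ_tmul, one_smul]

/-- the factorisation of a differential operator through `P^n(M)`. -/
noncomputable def uD (D : M →ₗ[A] N)
    (h : KaehlerDifferential.ideal A B ^ (n + 1) ≤ annD A B M N D) : PP16.PM n A B M →+ N :=
  TensorProduct.liftAddHom (fD n A B M N D h) (by
    intro b p m
    obtain ⟨x, rfl⟩ : ∃ x, toPr n A B (Ideal.Quotient.mk _ x) = p := Ideal.Quotient.mk_surjective p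
    rw [smul_toPr]
    have : PP16.dn n A B b * Ideal.Quotient.mk _ x =
        Ideal.Quotient.mk (KaehlerDifferential.ideal A B ^ (n + 1)) (((1 : B) ⊗ₜ[A] b) * x) := by
      rw [map_mul]; rfl
    rw [this, fD_mk, fD_mk, map_mul, Module.End.mul_apply, ρ_one_tmul_apply])

theorem uD_tmul (D : M →ₗ[A] N)
    (h : KaehlerDifferential.ideal A B ^ (n + 1) ≤ annD A B M N D) (x : B ⊗[A] B) (m : M) :
    uD n A B M N D h (toPr n A B (Ideal.Quotient.mk _ x) ⊗ₜ[B] m) = ρ A B M N x D m := rfl

end corr

/-- Let B be an A-algebra, M and N two B-modules and D : M → N an A-linear map. Let P^n(M) = P^n_{B/A}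
⊗_B M, the tensor product formed with the B-module structure of P^n_{B/A} through d^n, regarded as a
B-module through the first factor of P^n_{B/A}, with d^n_M : M → P^n(M), m ↦ 1 ⊗ m. Then D is a
differential operator of order at most n relative to A (order defined through iterated commutators
with multiplication by elements of B) if and only if there is exactly one additive map u : P^n(M) →
N which is B-linear for the first-factor structure and satisfies u(1 ⊗ m) = D(m) for all m ∈ M. -/
theorem result (n : ℕ) (A B : Type u) [CommRing A] [CommRing B] [Algebra A B]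
    (M N : Type u) [AddCommGroup M] [Module A M] [Module B M] [IsScalarTower A B M]
    [AddCommGroup N] [Module A N] [Module B N] [IsScalarTower A B N] (D : M →ₗ[A] N) :
    Diff16.IsDiffOpLE A B M N n D ↔
      ∃! u : PP16.PM n A B M →+ N,
        (∀ (b : B) (t : PP16.PM n A B M), u (algebraMap B (PP16.P n A B) b • t) = b • u t) ∧
          ∀ m : M, u (PP16.dM n A B M m) = D m := by
  rw [Groth.Agent.S3815.isDiffOpLE_iff]
  constructor
  · intro h
    refine ⟨Groth.Agent.S3815.uD n A B M N D h, ⟨?_, ?_⟩, ?_⟩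
    · intro b t
      induction t using TensorProduct.induction_on with
      | zero => simp
      | tmul p m =>
        obtain ⟨x, rfl⟩ : ∃ x, Groth.Agent.S3815.toPr n A B (Ideal.Quotient.mk _ x) = p :=
          Ideal.Quotient.mk_surjective p
        rw [TensorProduct.smul_tmul', Groth.Agent.S3815.P_smul_toPr]
        have : algebraMap B (PP16.P n A B) b * Ideal.Quotient.mk _ x =
            Ideal.Quotient.mk (KaehlerDifferential.ideal A B ^ (n + 1)) ((b ⊗ₜ[A] (1 : B)) * x) := by
          rw [map_mul]; rfl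
        rw [this, Groth.Agent.S3815.uD_tmul, Groth.Agent.S3815.uD_tmul, map_mul,
          Module.End.mul_apply, Groth.Agent.S3815.ρ_tmul_one_apply]
      | add x y hx hy => rw [smul_add, map_add, map_add, hx, hy, smul_add]
    · intro m
      show Groth.Agent.S3815.uD n A B M N D h
        (Groth.Agent.S3815.toPr n A B (Ideal.Quotient.mk _ 1) ⊗ₜ[B] m) = D m
      rw [Groth.Agent.S3815.uD_tmul, map_one]
      rfl
    · rintro u' ⟨h1, h2⟩
      refine AddMonoidHom.ext (fun t => ?_)
      induction t using TensorProduct.induction_on with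
      | zero => simp
      | tmul p m =>
        obtain ⟨x, rfl⟩ : ∃ x, Groth.Agent.S3815.toPr n A B (Ideal.Quotient.mk _ x) = p :=
          Ideal.Quotient.mk_surjective p
        rw [Groth.Agent.S3815.u_mk_tmul n A B M N D u' h1 h2, Groth.Agent.S3815.uD_tmul]
      | add x y hx hy => rw [map_add, map_add, hx, hy]
  · rintro ⟨u, ⟨h1, h2⟩, _⟩ x hx
    rw [Groth.Agent.S3815.mem_annD]
    ext m
    rw [← Groth.Agent.S3815.u_mk_tmul n A B M N D u h1 h2 x m]
    have : (Ideal.Quotient.mk (KaehlerDifferential.ideal A B ^ (n + 1)) x) = 0 :=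
      Ideal.Quotient.eq_zero_iff_mem.mpr hx
    rw [this]
    show u ((0 : PP16.Pr n A B) ⊗ₜ[B] m) = 0
    rw [TensorProduct.zero_tmul, map_zero]

end Groth.Agent.S3815
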