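import Groth.Statements.S3824
import Mathlib

set_option autoImplicit false
universe u
open QReg16

namespace Groth.Agent.S3824

/-- linear substitution `X_i ↦ Σ_j a i j X_j`. -/
noncomputable def lin {R : Type*} [CommRing R] {n : ℕ} (a : Matrix (Fin n) (Fin n) R) :
    Fin n → MvPolynomial (Fin n) R :=
  fun i => ∑ j, MvPolynomial.C (a i j) * MvPolynomial.X j

theorem lin_isHomogeneous {R : Type*} [CommRing R] {n : ℕ} (a : Matrix (Fin n) (Fin n) R) (i : Fin n) :
    (lin a i).IsHomogeneous 1 := by
  unfold lin
  apply MvPolynomial.IsHomogeneous.sum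
  intro j _
  have := (MvPolynomial.isHomogeneous_C (Fin n) (a i j)).mul (MvPolynomial.isHomogeneous_X R j)
  simpa using this

theorem bind₁_lin_lin {R : Type*} [CommRing R] {n : ℕ} (a b : Matrix (Fin n) (Fin n) R) (i : Fin n) :
    MvPolynomial.bind₁ (lin b) (lin a i) = lin (a * b) i := by
  unfold lin
  simp only [map_sum, map_mul, MvPolynomial.bind₁_C_right, MvPolynomial.bind₁_X_right,
    Finset.mul_sum, Matrix.mul_apply, map_sum (MvPolynomial.C (σ := Fin n) (R := R)), Finset.sum_mul]
  rw [Finset.sum_comm]
  refine Finset.sum_congr rfl (fun k _ => Finset.sum_congr rfl (fun j _ => ?_))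
  rw [← mul_assoc, ← map_mul]

theorem lin_one {R : Type*} [CommRing R] {n : ℕ} :
    lin (1 : Matrix (Fin n) (Fin n) R) = MvPolynomial.X := by
  funext i
  unfold lin
  rw [Finset.sum_eq_single i]
  · simp
  · intro j _ hji
    simp [Matrix.one_apply_ne' hji]
  · intro h; exact absurd (Finset.mem_univ i) h

theorem map_lin {R S : Type*} [CommRing R] [CommRing S] (φ : R →+* S) {n : ℕ}
    (a : Matrix (Fin n) (Fin n) R) (i : Fin n) :
    MvPolynomial.map φ (lin a i) = lin (a.map φ) i := by
  unfold lin
  simp

theorem eval_lin {R : Type*} [CommRing R] {n : ℕ} (a : Matrix (Fin n) (Fin n) R) (f : Fin n → R)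
    (i : Fin n) : MvPolynomial.eval f (lin a i) = ∑ j, a i j * f j := by
  unfold lin
  simp

/-- Let f_1, …, f_n be a quasi-regular sequence in a ring A and f'_1, …, f'_n another sequence of the
same length generating the same ideal. Then (f'_i) is quasi-regular. -/
theorem result {A : Type u} [CommRing A] {n : ℕ} (f f' : Fin n → A)
    (hf : CAlgX.IsQuasiRegular f) (h : Ideal.span (Set.range f') = Ideal.span (Set.range f)) :
    CAlgX.IsQuasiRegular f' := by
  classical
  have hI : Ideal.span (Set.range f) = Ideal.span (Set.range f) := rfl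
  have h1 : ∀ i, ∃ c : Fin n → A, ∑ j, c j * f j = f' i := fun i =>
    Ideal.mem_span_range_iff_exists_fun.mp (h ▸ Ideal.subset_span ⟨i, rfl⟩)
  have h2 : ∀ j, ∃ c : Fin n → A, ∑ i, c i * f' i = f j := fun j =>
    Ideal.mem_span_range_iff_exists_fun.mp (h.symm ▸ Ideal.subset_span ⟨j, rfl⟩)
  set I := Ideal.span (Set.range f) with hI'
  -- matrices
  choose a ha using h1
  choose b hb using h2
  let Am : Matrix (Fin n) (Fin n) A := Matrix.of a
  let Bm : Matrix (Fin n) (Fin n) A := Matrix.of b
  -- (B A - 1) has entries in I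
  have hBA : ∀ j k, (Bm * Am - 1) j k ∈ I := by
    intro j
    let P : MvPolynomial (Fin n) A := Groth.Agent.S3824.lin (Bm * Am - 1) j
    have hP : P.IsHomogeneous 1 := Groth.Agent.S3824.lin_isHomogeneous _ j
    have hev : MvPolynomial.eval f P = 0 := by
      rw [Groth.Agent.S3824.eval_lin]
      simp only [Matrix.sub_apply, sub_mul, Finset.sum_sub_distrib, Matrix.mul_apply,
        Finset.sum_mul]
      rw [Finset.sum_comm]
      have : ∀ i, ∑ k, Bm j i * Am i k * f k = b j i * f' i := by
        intro i
        simp only [mul_assoc, ← Finset.mul_sum]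
        congr 1
        exact ha i
      rw [Finset.sum_congr rfl (fun i _ => this i), hb j]
      rw [Finset.sum_eq_single j]
      · simp
      · intro k _ hkj
        simp [Matrix.one_apply_ne' hkj]
      · intro h; exact absurd (Finset.mem_univ j) h
    intro k
    have := hf 1 P hP (by rw [hev]; exact Ideal.zero_mem _) (Finsupp.single k 1)
    have hc : P.coeff (Finsupp.single k 1) = (Bm * Am - 1) j k := by
      show (Groth.Agent.S3824.lin (Bm * Am - 1) j).coeff (Finsupp.single k 1) = _
      unfold Groth.Agent.S3824.lin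
      rw [MvPolynomial.coeff_sum, Finset.sum_eq_single k]
      · rw [MvPolynomial.coeff_C_mul, MvPolynomial.coeff_X, if_pos rfl, mul_one]
      · intro l _ hlk
        rw [MvPolynomial.coeff_C_mul, MvPolynomial.coeff_X, if_neg, mul_zero]
        intro heq
        exact hlk (Finsupp.single_left_injective one_ne_zero heq)
      · intro h; exact absurd (Finset.mem_univ k) h
    rwa [hc] at this
  -- mod I, A B = 1
  let φ := Ideal.Quotient.mk I
  have hBAbar : (Bm.map φ) * (Am.map φ) = 1 := by
    rw [← Matrix.map_mul]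
    ext j k
    have := hBA j k
    rw [Matrix.map_apply, Matrix.one_apply]
    have h3 : φ ((Bm * Am - 1) j k) = 0 := Ideal.Quotient.eq_zero_iff_mem.mpr this
    rw [Matrix.sub_apply, map_sub, sub_eq_zero] at h3
    rw [h3, Matrix.one_apply]
    split_ifs <;> simp
  have hABbar : (Am.map φ) * (Bm.map φ) = 1 := mul_eq_one_comm.mp hBAbar
  -- main
  intro d P hP hPev m
  rw [h] at hPev ⊢
  let Q := MvPolynomial.bind₁ (Groth.Agent.S3824.lin Am) P
  have hQ : Q.IsHomogeneous d := by
    have := hP.aeval (Groth.Agent.S3824.lin Am) (Groth.Agent.S3824.lin_isHomogeneous Am)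
    rw [one_mul] at this
    exact this
  have hQev : MvPolynomial.eval f Q = MvPolynomial.eval f' P := by
    show MvPolynomial.eval f (MvPolynomial.bind₁ (Groth.Agent.S3824.lin Am) P) = _
    rw [← MvPolynomial.aeval_eq_eval, MvPolynomial.aeval_bind₁, ← MvPolynomial.aeval_eq_eval]
    congr 2
    funext i
    rw [MvPolynomial.aeval_eq_eval, Groth.Agent.S3824.eval_lin]
    exact ha i
  have hQI : ∀ m, Q.coeff m ∈ I := hf d Q hQ (by rw [hQev]; exact hPev)
  have hQbar : MvPolynomial.map φ Q = 0 := by
    ext m
    rw [MvPolynomial.coeff_map, MvPolynomial.coeff_zero]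
    exact Ideal.Quotient.eq_zero_iff_mem.mpr (hQI m)
  have hPbar : MvPolynomial.map φ P = 0 := by
    have e1 : MvPolynomial.map φ Q =
        MvPolynomial.bind₁ (Groth.Agent.S3824.lin (Am.map φ)) (MvPolynomial.map φ P) := by
      show MvPolynomial.map φ (MvPolynomial.bind₁ (Groth.Agent.S3824.lin Am) P) = _
      rw [MvPolynomial.map_bind₁]
      have : (fun i => (MvPolynomial.map φ) (Groth.Agent.S3824.lin Am i)) =
          Groth.Agent.S3824.lin (Am.map φ) := by
        funext i
        exact Groth.Agent.S3824.map_lin φ Am i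
      rw [this]
    have e2 : MvPolynomial.bind₁ (Groth.Agent.S3824.lin (Bm.map φ))
        (MvPolynomial.bind₁ (Groth.Agent.S3824.lin (Am.map φ)) (MvPolynomial.map φ P)) =
        MvPolynomial.map φ P := by
      rw [MvPolynomial.bind₁_bind₁]
      have : (fun i => MvPolynomial.bind₁ (Groth.Agent.S3824.lin (Bm.map φ))
          (Groth.Agent.S3824.lin (Am.map φ) i)) = MvPolynomial.X := by
        funext i
        rw [Groth.Agent.S3824.bind₁_lin_lin, hABbar, Groth.Agent.S3824.lin_one]
      rw [this, MvPolynomial.bind₁_X_left]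
      rfl
    rw [← e2, ← e1, hQbar, map_zero]
  have := congrArg (MvPolynomial.coeff m) hPbar
  rw [MvPolynomial.coeff_map, MvPolynomial.coeff_zero] at this
  exact Ideal.Quotient.eq_zero_iff_mem.mp this

end Groth.Agent.S3824
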