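import Groth.Statements.S3825
import Mathlib
import Groth.Agent.S3824

set_option autoImplicit false
universe u
open QReg16

namespace Groth.Agent.S3825

/-- a quasi-regular generating family gives a basis of the cotangent module. -/
theorem li_span_of_quasiRegular {A : Type u} [CommRing A] (I : Ideal A) {m : ℕ} (f : Fin m → I)
    (hq : CAlgX.IsQuasiRegular (fun i => (f i : A)))
    (hspan : Ideal.span (Set.range fun i => (f i : A)) = I) :
    LinearIndependent (A ⧸ I) (fun i => I.toCotangent (f i)) ∧
      Submodule.span (A ⧸ I) (Set.range fun i => I.toCotangent (f i)) = ⊤ := by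
  classical
  constructor
  · rw [Fintype.linearIndependent_iff]
    intro c hc i
    -- lift coefficients
    choose c' hc' using fun i => Ideal.Quotient.mk_surjective (c i)
    have h1 : ∑ j, c' j • f j ∈ LinearMap.ker I.toCotangent := by
      rw [LinearMap.mem_ker, map_sum, ← hc]
      refine Finset.sum_congr rfl (fun j _ => ?_)
      rw [map_smul, ← hc' j]
      rfl
    rw [Ideal.mem_toCotangent_ker] at h1
    let P : MvPolynomial (Fin m) A := ∑ j, MvPolynomial.C (c' j) * MvPolynomial.X j
    have hP : P.IsHomogeneous 1 := by
      apply MvPolynomial.IsHomogeneous.sum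
      intro j _
      have := (MvPolynomial.isHomogeneous_C (Fin m) (c' j)).mul (MvPolynomial.isHomogeneous_X A j)
      simpa using this
    have hev : MvPolynomial.eval (fun i => (f i : A)) P = ((∑ j, c' j • f j : I) : A) := by
      simp [P]
    have := hq 1 P hP (by rw [hev, hspan]; exact h1) (Finsupp.single i 1)
    have hcoef : P.coeff (Finsupp.single i 1) = c' i := by
      show (∑ j, MvPolynomial.C (c' j) * MvPolynomial.X j : MvPolynomial (Fin m) A).coeff _ = _
      rw [MvPolynomial.coeff_sum, Finset.sum_eq_single i]
      · rw [MvPolynomial.coeff_C_mul, MvPolynomial.coeff_X, if_pos rfl, mul_one]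
      · intro l _ hli
        rw [MvPolynomial.coeff_C_mul, MvPolynomial.coeff_X, if_neg, mul_zero]
        intro heq
        exact hli (Finsupp.single_left_injective one_ne_zero heq)
      · intro h; exact absurd (Finset.mem_univ i) h
    rw [hcoef, hspan] at this
    rw [← hc' i]
    exact Ideal.Quotient.eq_zero_iff_mem.mpr this
  · rw [eq_top_iff]
    rintro y -
    obtain ⟨x, rfl⟩ := I.toCotangent_surjective y
    obtain ⟨x, hx⟩ := x
    have hx' : x ∈ Ideal.span (Set.range fun i => (f i : A)) := by rw [hspan]; exact hx
    obtain ⟨c, hc⟩ := Ideal.mem_span_range_iff_exists_fun.mp hx'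
    have : (⟨x, hx⟩ : I) = ∑ i, c i • f i := by
      apply Subtype.ext
      simp [← hc]
    rw [this, map_sum]
    refine Submodule.sum_mem _ (fun i _ => ?_)
    rw [map_smul]
    have h2 : c i • I.toCotangent (f i) = (Ideal.Quotient.mk I (c i)) • I.toCotangent (f i) := rfl
    rw [h2]
    exact Submodule.smul_mem _ _ (Submodule.subset_span ⟨i, rfl⟩)

/-- a) iff c) (affine local form): let A be a local ring and I a proper ideal generated by some
quasi-regular sequence. For a finite family (f_i) of elements of I, the following are equivalent: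
(a) (f_i) is a quasi-regular sequence generating I; (c) the classes of the f_i form a basis of the
A/I-module I/I² (equivalently, b): (f_i) is a minimal system of generators of I). -/
theorem result {A : Type u} [CommRing A] [IsLocalRing A]
    (I : Ideal A) (hI : I ≤ IsLocalRing.maximalIdeal A)
    (hq : ∃ (r : ℕ) (g : Fin r → A), CAlgX.IsQuasiRegular g ∧ Ideal.span (Set.range g) = I)
    {m : ℕ} (f : Fin m → I) :
    (CAlgX.IsQuasiRegular (fun i => (f i : A)) ∧ Ideal.span (Set.range fun i => (f i : A)) = I) ↔
      (LinearIndependent (A ⧸ I) (fun i => I.toCotangent (f i)) ∧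
        Submodule.span (A ⧸ I) (Set.range fun i => I.toCotangent (f i)) = ⊤) := by
  classical
  constructor
  · rintro ⟨h1, h2⟩
    exact Groth.Agent.S3825.li_span_of_quasiRegular I f h1 h2
  · rintro ⟨hli, hsp⟩
    obtain ⟨r, g, hgq, hgspan⟩ := hq
    have hgmem : ∀ i, g i ∈ I := fun i => hgspan ▸ Ideal.subset_span ⟨i, rfl⟩
    let g' : Fin r → I := fun i => ⟨g i, hgmem i⟩
    obtain ⟨hgli, hgsp⟩ := Groth.Agent.S3825.li_span_of_quasiRegular I g' hgq hgspan
    haveI : Nontrivial (A ⧸ I) := by
      apply Ideal.Quotient.nontrivial_iff.mpr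
      intro h
      exact (IsLocalRing.maximalIdeal.isMaximal A).ne_top (top_le_iff.mp (h ▸ hI))
    have hmr : m = r := by
      let b1 : Module.Basis (Fin m) (A ⧸ I) I.Cotangent := Module.Basis.mk hli (by rw [hsp])
      let b2 : Module.Basis (Fin r) (A ⧸ I) I.Cotangent := Module.Basis.mk hgli (by rw [hgsp])
      have := Fintype.card_congr (b1.indexEquiv b2)
      simpa using this
    subst hmr
    -- f generates I
    have hfg : I.FG := by
      rw [← hgspan]
      exact ⟨Finset.univ.image g, by simp⟩
    have hle : Ideal.span (Set.range fun i => (f i : A)) ≤ I := by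
      rw [Ideal.span_le]
      rintro _ ⟨i, rfl⟩
      exact (f i).2
    have hge : I ≤ Ideal.span (Set.range fun i => (f i : A)) := by
      refine Submodule.le_of_le_smul_of_le_jacobson_bot (I := I) hfg ?_ ?_
      · rw [IsLocalRing.jacobson_eq_maximalIdeal ⊥ bot_ne_top]
        exact hI
      · intro x hx
        have hx1 : I.toCotangent ⟨x, hx⟩ ∈ Submodule.span (A ⧸ I)
            (Set.range fun i => I.toCotangent (f i)) := by rw [hsp]; trivial
        obtain ⟨c, hc⟩ := (Submodule.mem_span_range_iff_exists_fun (A ⧸ I)).mp hx1
        choose c' hc' using fun i => Ideal.Quotient.mk_surjective (c i)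
        have hc2 : I.toCotangent (∑ i, c' i • f i) = I.toCotangent ⟨x, hx⟩ := by
          rw [map_sum, ← hc]
          refine Finset.sum_congr rfl (fun j _ => ?_)
          rw [map_smul, ← hc' j]
          rfl
        rw [Ideal.toCotangent_eq] at hc2
        have hx2 : x = (∑ i, c' i * (f i : A)) - ((∑ i, c' i • f i : I) - (⟨x, hx⟩ : I) : A) := by
          simp
        rw [hx2]
        refine Submodule.sub_mem _ (Submodule.mem_sup_left ?_) (Submodule.mem_sup_right ?_)
        · exact Ideal.sum_mem _ (fun i _ => Ideal.mul_mem_left _ _ (Ideal.subset_span ⟨i, rfl⟩))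
        · rw [smul_eq_mul, ← pow_two]
          exact hc2
    have hspan : Ideal.span (Set.range fun i => (f i : A)) = I := le_antisymm hle hge
    refine ⟨?_, hspan⟩
    exact Groth.Agent.S3824.result g (fun i => (f i : A)) hgq (hspan.trans hgspan.symm)

end Groth.Agent.S3825
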