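import Groth.Statements.S3827
import Mathlib

set_option autoImplicit false
universe u
open QReg16

namespace Groth.Agent.S3827

theorem pow_succ_le_of_eq_sup {A : Type*} [CommRing A] (a : A) (I₁ I : Ideal A)
    (hI : I = Ideal.span {a} ⊔ I₁) (n : ℕ) :
    I ^ (n + 1) ≤ I₁ ^ (n + 1) ⊔ Ideal.span {a} * I ^ n := by
  have h1 : I₁ ≤ I := hI ▸ le_sup_right
  induction n with
  | zero =>
    simp only [zero_add, pow_one, pow_zero, mul_one]
    rw [hI, sup_comm]
  | succ n ih =>
    calc I ^ (n + 1 + 1) = I * I ^ (n + 1) := by rw [pow_succ' I (n+1)]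
      _ = Ideal.span {a} * I ^ (n + 1) ⊔ I₁ * I ^ (n + 1) := by
        rw [← Ideal.sup_mul, ← hI]
      _ ≤ Ideal.span {a} * I ^ (n + 1) ⊔ I₁ * (I₁ ^ (n + 1) ⊔ Ideal.span {a} * I ^ n) :=
        sup_le_sup_left (Ideal.mul_mono_right ih) _
      _ ≤ I₁ ^ (n + 1 + 1) ⊔ Ideal.span {a} * I ^ (n + 1) := by
        rw [Ideal.mul_sup]
        refine sup_le le_sup_right (sup_le ?_ ?_)
        · rw [pow_succ' I₁ (n+1)]
          exact le_sup_left
        · refine le_trans ?_ le_sup_right
          rw [← mul_assoc, mul_comm I₁, mul_assoc, pow_succ' I n]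
          exact Ideal.mul_mono_right (Ideal.mul_mono_left h1)

open scoped Pointwise in
theorem inf_pow_smul_top_le {A : Type*} [CommRing A] {M : Type*} [AddCommGroup M] [Module A M]
    (rs : List A) :
    ∀ (N : Submodule A M), RingTheory.Sequence.IsWeaklyRegular (M ⧸ N) rs → ∀ n : ℕ,
      N ⊓ (Ideal.ofList rs ^ n) • (⊤ : Submodule A M) ≤ (Ideal.ofList rs ^ n) • N := by
  induction rs with
  | nil =>
    intro N _ n
    rcases n with _ | n
    · simp
    · simp [Ideal.ofList_nil]
  | cons a rs ih =>
    intro N hreg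
    rw [RingTheory.Sequence.isWeaklyRegular_cons_iff] at hreg
    obtain ⟨hareg, hrs⟩ := hreg
    -- regularity of a on M/N
    have hdiv : ∀ m : M, a • m ∈ N → m ∈ N := by
      intro m hm
      rw [← Submodule.Quotient.mk_eq_zero] at hm ⊢
      apply hareg
      simpa using hm
    -- the equivalence
    have hmap : (Ideal.span {a} • (⊤ : Submodule A M)).map N.mkQ = (a • ⊤ : Submodule A (M ⧸ N)) := by
      rw [Submodule.map_smul'', Submodule.map_top, Submodule.range_mkQ,
        Submodule.ideal_span_singleton_smul]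
    let e : QuotSMulTop a (M ⧸ N) ≃ₗ[A] M ⧸ (N ⊔ Ideal.span {a} • (⊤ : Submodule A M)) :=
      (Submodule.quotEquivOfEq _ _ hmap.symm) ≪≫ₗ
        Submodule.quotientQuotientEquivQuotientSup N (Ideal.span {a} • (⊤ : Submodule A M))
    have hrs' := (LinearEquiv.isWeaklyRegular_congr e rs).mp hrs
    have IH := ih _ hrs'
    set I₁ := Ideal.ofList rs with hI₁
    set I := Ideal.ofList (a :: rs) with hI
    have hIeq : I = Ideal.span {a} ⊔ I₁ := Ideal.ofList_cons a rs
    have h1 : I₁ ≤ I := hIeq ▸ le_sup_right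
    have ha : a ∈ I := hIeq ▸ Ideal.mem_sup_left (Ideal.mem_span_singleton_self a)
    intro n
    induction n with
    | zero => simp
    | succ n ihn =>
      rintro x ⟨hxN, hxI⟩
      have hxI' : x ∈ (I₁ ^ (n + 1)) • (⊤ : Submodule A M) ⊔
          Ideal.span {a} • ((I ^ n) • (⊤ : Submodule A M)) := by
        have := Submodule.smul_mono_left (N := (⊤ : Submodule A M)) (pow_succ_le_of_eq_sup a I₁ I hIeq n) hxI
        rwa [Submodule.sup_smul, Submodule.mul_smul] at this
      obtain ⟨y, hy, v, hv, rfl⟩ := Submodule.mem_sup.mp hxI'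
      rw [Submodule.ideal_span_singleton_smul, Submodule.mem_smul_pointwise_iff_exists] at hv
      obtain ⟨u, hu, rfl⟩ := hv
      have hyN' : y ∈ N ⊔ Ideal.span {a} • (⊤ : Submodule A M) := by
        have : y = (y + a • u) - a • u := by abel
        rw [this]
        refine Submodule.sub_mem _ (Submodule.mem_sup_left hxN) (Submodule.mem_sup_right ?_)
        exact Submodule.smul_mem_smul (Ideal.mem_span_singleton_self a) Submodule.mem_top
      have hy2 := IH (n + 1) ⟨hyN', hy⟩
      rw [Submodule.smul_sup, ← Submodule.mul_smul, mul_comm, Submodule.mul_smul] at hy2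
      obtain ⟨z, hz, v, hv, rfl⟩ := Submodule.mem_sup.mp hy2
      rw [Submodule.ideal_span_singleton_smul, Submodule.mem_smul_pointwise_iff_exists] at hv
      obtain ⟨w, hw, rfl⟩ := hv
      have hzN : z ∈ N := Submodule.smul_le.mpr (fun r _ m hm => N.smul_mem r hm) hz
      have hwuN : w + u ∈ N := by
        apply hdiv
        have : a • (w + u) = (z + a • w + a • u) - z := by rw [smul_add]; abel
        rw [this]
        exact N.sub_mem hxN hzN
      have hwuI : w + u ∈ (I ^ n) • (⊤ : Submodule A M) := by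
        refine Submodule.add_mem _ ?_ hu
        refine Submodule.smul_mono_left ?_ hw
        exact le_trans (Ideal.pow_le_pow_right (Nat.le_succ n)) (Ideal.pow_right_mono h1 n)
      have hwu := ihn ⟨hwuN, hwuI⟩
      have : z + a • w + a • u = z + a • (w + u) := by rw [smul_add]; abel
      rw [this]
      refine Submodule.add_mem _ ?_ ?_
      · exact Submodule.smul_mono_left (Ideal.pow_right_mono h1 (n+1)) hz
      · rw [pow_succ' I n, Submodule.mul_smul]
        exact Submodule.smul_mem_smul ha hwu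

theorem ofList_ofFn {A : Type*} [CommRing A] {r : ℕ} (f : Fin r → A) :
    Ideal.ofList (List.ofFn f) = Ideal.span (Set.range f) := by
  unfold Ideal.ofList
  congr 1
  ext x
  simp [List.mem_ofFn]

theorem inf_pow_eq_mul_pow {A : Type*} [CommRing A] (J : Ideal A) {r : ℕ} (f : Fin r → A)
    (hf : RingTheory.Sequence.IsWeaklyRegular (A ⧸ J) (List.ofFn f)) (n : ℕ) :
    J ⊓ Ideal.span (Set.range f) ^ n = J * Ideal.span (Set.range f) ^ n := by
  apply le_antisymm
  · have := inf_pow_smul_top_le (M := A) (List.ofFn f) J hf n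
    rw [ofList_ofFn] at this
    rw [mul_comm]
    simpa using this
  · exact Ideal.mul_le_inf

/-- Let A be a ring, J an ideal, A' = A/J and f_1, …, f_r elements of A forming an A'-regular sequence
(each f_i a non-zero-divisor on A' modulo the previous ones); let R be the ideal generated by the
f_i. Then for all integers 0 < n ≤ N one has J ∩ Rⁿ = J·Rⁿ + (J ∩ R^N). -/
theorem result {A : Type u} [CommRing A] (J : Ideal A) {r : ℕ} (f : Fin r → A)
    (hf : RingTheory.Sequence.IsWeaklyRegular (A ⧸ J) (List.ofFn f)) (n N : ℕ) (hn : 0 < n) (hnN : n ≤ N) :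
    J ⊓ Ideal.span (Set.range f) ^ n =
      J * Ideal.span (Set.range f) ^ n ⊔ J ⊓ Ideal.span (Set.range f) ^ N := by
  rw [Groth.Agent.S3827.inf_pow_eq_mul_pow J f hf n]
  apply le_antisymm
  · exact le_sup_left
  · refine sup_le le_rfl ?_
    rw [← Groth.Agent.S3827.inf_pow_eq_mul_pow J f hf n]
    exact inf_le_inf_left _ (Ideal.pow_le_pow_right hnN)

end Groth.Agent.S3827
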