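import Groth.Statements.S3828
import Mathlib
import Groth.Agent.S3827

set_option autoImplicit false
universe u
open QReg16

namespace Groth.Agent.S3828

/-- Let A be a Noetherian ring, J an ideal of A, and f_1, …, f_r elements of A forming a weakly regular
sequence on A/J (each f_i a nonzerodivisor on A/(J + (f_1, …, f_{i−1}))) and generating an ideal R
contained in the Jacobson radical of A; put Q = J + R. Then J ∩ Rⁿ = J·Rⁿ for every n > 0, and J ∩
Q² = J·Q (equivalently, the canonical map J/JQ → Q/Q² is injective). -/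
theorem result {A : Type u} [CommRing A] [IsNoetherianRing A] (J : Ideal A)
    {r : ℕ} (f : Fin r → A) (hf : RingTheory.Sequence.IsWeaklyRegular (A ⧸ J) (List.ofFn f))
    (hrad : Ideal.span (Set.range f) ≤ (⊥ : Ideal A).jacobson) :
    (∀ n : ℕ, 0 < n → J ⊓ Ideal.span (Set.range f) ^ n = J * Ideal.span (Set.range f) ^ n) ∧
      J ⊓ (J ⊔ Ideal.span (Set.range f)) ^ 2 = J * (J ⊔ Ideal.span (Set.range f)) := by
  refine ⟨fun n _ => Groth.Agent.S3827.inf_pow_eq_mul_pow J f hf n, ?_⟩
  set R := Ideal.span (Set.range f) with hR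
  apply le_antisymm
  · rintro x ⟨hxJ, hxQ⟩
    have hQ2 : (J ⊔ R) ^ 2 = J * (J ⊔ R) ⊔ R ^ 2 := by
      rw [pow_two, Ideal.sup_mul, pow_two]
      apply le_antisymm
      · refine sup_le le_sup_left ?_
        rw [Ideal.mul_sup]
        refine sup_le ?_ le_sup_right
        refine le_trans ?_ le_sup_left
        rw [mul_comm]
        exact Ideal.mul_mono_right le_sup_right
      · refine sup_le le_sup_left ?_
        exact le_trans (Ideal.mul_mono_right le_sup_right) le_sup_right
    rw [hQ2] at hxQ
    obtain ⟨y, hy, z, hz, rfl⟩ := Submodule.mem_sup.mp hxQ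
    have hyJ : y ∈ J := Ideal.mul_le_left hy
    have hzJ : z ∈ J := by
      have : z = (y + z) - y := by ring
      rw [this]
      exact J.sub_mem hxJ hyJ
    have hz2 : z ∈ J * R ^ 2 := by
      rw [← Groth.Agent.S3827.inf_pow_eq_mul_pow J f hf 2]
      exact ⟨hzJ, hz⟩
    refine Ideal.add_mem _ hy ?_
    refine Ideal.mul_mono_right ?_ hz2
    rw [pow_two]
    exact le_trans Ideal.mul_le_right le_sup_right
  · refine le_inf Ideal.mul_le_left ?_
    rw [pow_two]
    exact Ideal.mul_mono_left le_sup_left

end Groth.Agent.S3828
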