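import Groth.Statements.S3830
import Mathlib

set_option autoImplicit false
universe u
open Unram17

namespace Groth.Agent.S3830

set_option linter.style.haveILetI false

/-- b) implies a) (affine pointwise form): let B be an A-algebra of finite presentation and q a prime of
B. If B is smooth over A at q and quasi-finite over A at q, then B is étale over A at q. -/
theorem result (A B : Type u) [CommRing A] [CommRing B] [Algebra A B]
    [Algebra.FinitePresentation A B] (q : Ideal B) [q.IsPrime] [Algebra.QuasiFiniteAt A q]
    (h : Algebra.IsSmoothAt A q) : Algebra.IsEtaleAt A q := by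
  haveI := h
  obtain ⟨f, hfq, n, algP, htower, hstd⟩ :=
    Algebra.IsSmoothAt.exists_isStandardEtale_mvPolynomial (R := A) (p := q)
  have hfunit : IsUnit ((Algebra.ofId B (Localization.AtPrime q)) f) :=
    IsLocalization.map_units (M := q.primeCompl) _ ⟨f, hfq⟩
  let ι : Localization.Away f →ₐ[B] Localization.AtPrime q :=
    IsLocalization.Away.liftAlgHom f hfunit
  letI algfq : Algebra (Localization.Away f) (Localization.AtPrime q) := ι.toRingHom.toAlgebra
  haveI tBfq : IsScalarTower B (Localization.Away f) (Localization.AtPrime q) :=
    IsScalarTower.of_algebraMap_eq' ι.comp_algebraMap.symm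
  haveI hlocfq : IsLocalization (q.primeCompl.map (algebraMap B (Localization.Away f)))
      (Localization.AtPrime q) :=
    IsLocalization.isLocalization_of_submonoid_le (Localization.Away f) (Localization.AtPrime q)
      (Submonoid.powers f) q.primeCompl
      (by rintro _ ⟨k, rfl⟩; exact q.primeCompl.pow_mem hfq k)
  haveI : Algebra.FormallyEtale (Localization.Away f) (Localization.AtPrime q) :=
    Algebra.FormallyEtale.of_isLocalization
      (q.primeCompl.map (algebraMap B (Localization.Away f)))
  haveI : Module.Flat (Localization.Away f) (Localization.AtPrime q) :=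
    IsLocalization.flat _ (q.primeCompl.map (algebraMap B (Localization.Away f)))
  letI algPq : Algebra (MvPolynomial (Fin n) A) (Localization.AtPrime q) :=
    ((algebraMap (Localization.Away f) (Localization.AtPrime q)).comp
      (algebraMap (MvPolynomial (Fin n) A) (Localization.Away f))).toAlgebra
  haveI tPfq : IsScalarTower (MvPolynomial (Fin n) A) (Localization.Away f)
      (Localization.AtPrime q) := IsScalarTower.of_algebraMap_eq' rfl
  haveI tAfq : IsScalarTower A (Localization.Away f) (Localization.AtPrime q) :=
    IsScalarTower.of_algebraMap_eq' (by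
      rw [IsScalarTower.algebraMap_eq A B (Localization.AtPrime q),
        IsScalarTower.algebraMap_eq B (Localization.Away f) (Localization.AtPrime q),
        RingHom.comp_assoc, ← IsScalarTower.algebraMap_eq A B (Localization.Away f)])
  haveI tAPq : IsScalarTower A (MvPolynomial (Fin n) A) (Localization.AtPrime q) :=
    IsScalarTower.of_algebraMap_eq' (by
      rw [IsScalarTower.algebraMap_eq A (Localization.Away f) (Localization.AtPrime q),
        IsScalarTower.algebraMap_eq A (MvPolynomial (Fin n) A) (Localization.Away f),
        ← RingHom.comp_assoc]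
      rfl)
  haveI : Algebra.FormallyEtale (MvPolynomial (Fin n) A) (Localization.AtPrime q) :=
    Algebra.FormallyEtale.comp _ (Localization.Away f) _
  haveI : Module.Flat (MvPolynomial (Fin n) A) (Localization.AtPrime q) :=
    Module.Flat.trans _ (Localization.Away f) _
  cases n with
  | zero =>
    haveI : Algebra.FormallyEtale A (MvPolynomial (Fin 0) A) :=
      Algebra.FormallyEtale.of_equiv (MvPolynomial.isEmptyAlgEquiv A (Fin 0)).symm
    exact Algebra.FormallyEtale.comp A (MvPolynomial (Fin 0) A) (Localization.AtPrime q)
  | succ n' =>
    exfalso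
    let e : MvPolynomial (Fin (n' + 1)) A ≃ₐ[A] Polynomial (MvPolynomial (Fin n') A) :=
      MvPolynomial.finSuccEquiv A n'
    let es : Polynomial (MvPolynomial (Fin n') A) →+* MvPolynomial (Fin (n' + 1)) A :=
      ((e.symm : Polynomial (MvPolynomial (Fin n') A) →ₐ[A] MvPolynomial (Fin (n' + 1)) A) :
        Polynomial (MvPolynomial (Fin n') A) →+* MvPolynomial (Fin (n' + 1)) A)
    letI algXP : Algebra (Polynomial (MvPolynomial (Fin n') A)) (MvPolynomial (Fin (n' + 1)) A) :=
      es.toAlgebra
    letI algXq : Algebra (Polynomial (MvPolynomial (Fin n') A)) (Localization.AtPrime q) :=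
      ((algebraMap (MvPolynomial (Fin (n' + 1)) A) (Localization.AtPrime q)).comp es).toAlgebra
    haveI tXPq : IsScalarTower (Polynomial (MvPolynomial (Fin n') A))
        (MvPolynomial (Fin (n' + 1)) A) (Localization.AtPrime q) :=
      IsScalarTower.of_algebraMap_eq' rfl
    haveI flatXP : Module.Flat (Polynomial (MvPolynomial (Fin n') A))
        (MvPolynomial (Fin (n' + 1)) A) := by
      let e' : MvPolynomial (Fin (n' + 1)) A ≃ₗ[Polynomial (MvPolynomial (Fin n') A)]
          Polynomial (MvPolynomial (Fin n') A) :=
        { e.toLinearEquiv.toAddEquiv with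
          map_smul' := fun r x => by
            change e (es r * x) = r * e x
            rw [map_mul]
            congr 1
            exact e.apply_symm_apply r }
      exact Module.Flat.of_linearEquiv e'
    haveI flatXq : Module.Flat (Polynomial (MvPolynomial (Fin n') A)) (Localization.AtPrime q) :=
      Module.Flat.trans _ (MvPolynomial (Fin (n' + 1)) A) _
    letI alg1q : Algebra (MvPolynomial (Fin n') A) (Localization.AtPrime q) :=
      ((algebraMap (Polynomial (MvPolynomial (Fin n') A)) (Localization.AtPrime q)).comp
        Polynomial.C).toAlgebra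
    haveI t1Xq : IsScalarTower (MvPolynomial (Fin n') A) (Polynomial (MvPolynomial (Fin n') A))
        (Localization.AtPrime q) := IsScalarTower.of_algebraMap_eq' rfl
    haveI tA1q : IsScalarTower A (MvPolynomial (Fin n') A) (Localization.AtPrime q) :=
      IsScalarTower.of_algebraMap_eq fun a => by
        change algebraMap A (Localization.AtPrime q) a =
          algebraMap (MvPolynomial (Fin (n' + 1)) A) (Localization.AtPrime q)
            (es (Polynomial.C (algebraMap A (MvPolynomial (Fin n') A) a)))
        have h1 : es (Polynomial.C (algebraMap A (MvPolynomial (Fin n') A) a)) =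
            algebraMap A (MvPolynomial (Fin (n' + 1)) A) a := by
          have h2 : (Polynomial.C (algebraMap A (MvPolynomial (Fin n') A) a) :
              Polynomial (MvPolynomial (Fin n') A)) =
              algebraMap A (Polynomial (MvPolynomial (Fin n') A)) a := rfl
          rw [h2]
          exact e.symm.commutes a
        rw [h1, ← IsScalarTower.algebraMap_apply]
    haveI : Algebra.QuasiFinite A (Localization.AtPrime q) := ‹Algebra.QuasiFiniteAt A q›
    haveI qf1 : Algebra.QuasiFinite (MvPolynomial (Fin n') A) (Localization.AtPrime q) :=
      Algebra.QuasiFinite.of_restrictScalars A (MvPolynomial (Fin n') A) (Localization.AtPrime q)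
    let f' : Polynomial (MvPolynomial (Fin n') A) →ₐ[MvPolynomial (Fin n') A]
        Localization.AtPrime q :=
      IsScalarTower.toAlgHom _ _ _
    have hlt := Polynomial.map_under_lt_comap_of_quasiFiniteAt f'
      (IsLocalRing.maximalIdeal (Localization.AtPrime q))
    have hcomap : (IsLocalRing.maximalIdeal (Localization.AtPrime q)).comap
        (f' : Polynomial (MvPolynomial (Fin n') A) →+* Localization.AtPrime q) =
        (IsLocalRing.maximalIdeal (Localization.AtPrime q)).under
          (Polynomial (MvPolynomial (Fin n') A)) := rfl
    rw [hcomap] at hlt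
    haveI : (IsLocalRing.maximalIdeal (Localization.AtPrime q)).LiesOver
        ((IsLocalRing.maximalIdeal (Localization.AtPrime q)).under
          (Polynomial (MvPolynomial (Fin n') A))) := ⟨rfl⟩
    obtain ⟨Q', hQ'lt, hQ'prime, hQ'over⟩ := Ideal.exists_ideal_lt_liesOver_of_lt
      (IsLocalRing.maximalIdeal (Localization.AtPrime q)) hlt
    have hunder : Q'.under (MvPolynomial (Fin n') A) =
        (IsLocalRing.maximalIdeal (Localization.AtPrime q)).under (MvPolynomial (Fin n') A) := by
      rw [← Ideal.under_under (B := Polynomial (MvPolynomial (Fin n') A)) Q', ← hQ'over.over]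
      ext x
      change Polynomial.C x ∈ Ideal.map Polynomial.C _ ↔ _
      rw [Ideal.mem_map_C_iff]
      constructor
      · intro h0; simpa using h0 0
      · intro h0 k
        rw [Polynomial.coeff_C]
        split_ifs
        · exact h0
        · exact Ideal.zero_mem _
    have heq := Algebra.QuasiFinite.eq_of_le_of_under_eq (R := MvPolynomial (Fin n') A) Q'
      (IsLocalRing.maximalIdeal (Localization.AtPrime q)) hQ'lt.le hunder
    exact absurd heq hQ'lt.ne

end Groth.Agent.S3830
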