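import Groth.Statements.S3833
import Mathlib

set_option autoImplicit false
universe u
open CategoryTheory CategoryTheory.Limits AlgebraicGeometry TopologicalSpace
open Rat20

namespace Groth.Agent.S3833

/-- Stated for a global section, the case of a section over an open subset U being the same statement
for the open subscheme U: let X be a scheme and s a global section of O_X which is regular in the
sense that its germ at every point x is a non-zero-divisor of the local ring O_{X,x} (on an affine
scheme this is the same as being a non-zero-divisor of Γ(X, O_X), but not in general). Then the open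
subset X_s where s is invertible is schematically dense in X. -/
theorem result (X : Scheme.{u}) (s : Γ(X, ⊤))
    (hs : ∀ x : ↥X, (X.presheaf.germ ⊤ x trivial s) ∈ nonZeroDivisors ↑(X.presheaf.stalk x)) :
    CInt.IsSchematicallyDense (X.basicOpen s) := by
  intro V
  rw [injective_iff_map_eq_zero]
  intro a ha
  refine TopCat.Presheaf.section_ext X.sheaf V a 0 ?_
  intro x hx
  rw [map_zero]
  obtain ⟨W, hW, hxW, hWV⟩ := (X.isBasis_affineOpens).exists_subset_of_mem_open hx V.isOpen
  obtain ⟨W, rfl⟩ : ∃ W' : X.Opens, (W' : Set X) = W := by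
    obtain ⟨W', hW', rfl⟩ := hW
    exact ⟨W', rfl⟩
  have hWaff : IsAffineOpen W := by
    obtain ⟨W', hW', h⟩ := hW
    have : W' = W := SetLike.coe_injective h
    exact this ▸ hW'
  have hWV' : W ≤ V := hWV
  let a' : Γ(X, W) := X.presheaf.map (homOfLE hWV').op a
  let s' : Γ(X, W) := X.presheaf.map (homOfLE (le_top : W ≤ ⊤)).op s
  have hbo : X.basicOpen s' = W ⊓ X.basicOpen s := Scheme.basicOpen_res _ _ _
  have hle : X.basicOpen s' ≤ V ⊓ X.basicOpen s := by
    rw [hbo]
    exact inf_le_inf_right _ hWV'
  have hres : X.presheaf.map (homOfLE (X.basicOpen_le s')).op a' = 0 := by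
    have h1 : X.presheaf.map (homOfLE (X.basicOpen_le s')).op a' =
        X.presheaf.map (homOfLE hle).op (X.presheaf.map (homOfLE (inf_le_left : V ⊓ X.basicOpen s ≤ V)).op a) := by
      simp only [a', ← ConcreteCategory.comp_apply, ← Functor.map_comp]
      rfl
    rw [h1, ha, map_zero]
  obtain ⟨n, hn⟩ := exists_pow_mul_eq_zero_of_res_basicOpen_eq_zero_of_isAffineOpen X hWaff a' s' hres
  have hg := congrArg (X.presheaf.germ W x hxW) hn
  rw [map_mul, map_pow, map_zero] at hg
  have hga : X.presheaf.germ W x hxW a' = X.presheaf.germ V x hx a :=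
    TopCat.Presheaf.germ_res_apply X.presheaf (homOfLE hWV') x hxW a
  have hgs : X.presheaf.germ W x hxW s' = X.presheaf.germ ⊤ x trivial s :=
    TopCat.Presheaf.germ_res_apply X.presheaf (homOfLE (le_top : W ≤ ⊤)) x hxW s
  rw [hga, hgs] at hg
  exact (mul_left_mem_nonZeroDivisors_eq_zero_iff (pow_mem (hs x) n)).mp hg

end Groth.Agent.S3833
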