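import Groth.Statements.S3834
import Mathlib
import Groth.Agent.S3833

set_option autoImplicit false
universe u
open CategoryTheory CategoryTheory.Limits AlgebraicGeometry TopologicalSpace
open Rat20

namespace Groth.Agent.S3834

theorem nzd_of_not_mem_minimalPrimes {A : Type*} [CommRing A] [IsReduced A] (t : A)
    (ht : ∀ p ∈ minimalPrimes A, t ∉ p) : t ∈ nonZeroDivisors A := by
  rw [mem_nonZeroDivisors_iff_right]
  intro b hb
  have hb' : b ∈ sInf (minimalPrimes A) := by
    rw [Ideal.mem_sInf]
    intro p hp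
    have hp' : p.IsPrime := hp.1.1
    have : b * t ∈ p := by rw [hb]; exact p.zero_mem
    exact (hp'.mem_or_mem this).resolve_right (ht p hp)
  have h2 : sInf (minimalPrimes A) = ⊥ := by
    have := Ideal.sInf_minimalPrimes (I := (⊥ : Ideal A))
    rw [show (⊥ : Ideal A).minimalPrimes = minimalPrimes A from rfl] at this
    rw [this]
    exact nilradical_eq_zero A
  rw [h2] at hb'
  exact hb'

theorem exists_regular_mem {A : Type*} [CommRing A] (I : Ideal A)
    (hI : ∀ a : A, (∀ t ∈ I, a * t = 0) → a = 0)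
    (h : IsNoetherianRing A ∨ (IsReduced A ∧ (minimalPrimes A).Finite)) :
    ∃ t ∈ I, t ∈ nonZeroDivisors A := by
  by_contra hcon
  push Not at hcon
  rcases h with h | ⟨hred, hfin⟩
  · have hdis : Disjoint (I : Set A) (nonZeroDivisors A) := by
      rw [Set.disjoint_left]
      intro t ht
      exact hcon t ht
    have hlt := Ideal.bot_lt_annihilator_of_disjoint_nonZeroDivisors hdis
    obtain ⟨x, hx, hx0⟩ := SetLike.exists_of_lt hlt
    apply hx0
    rw [Ideal.mem_bot]
    apply hI
    intro t ht
    have := (Module.mem_annihilator.mp hx) ⟨t, ht⟩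
    have h2 := congrArg Subtype.val this
    simpa using h2
  · have hsub : (I : Set A) ⊆ ⋃ p ∈ minimalPrimes A, (p : Set A) := by
      intro t ht
      by_contra hnot
      apply hcon t ht
      apply nzd_of_not_mem_minimalPrimes
      intro p hp htp
      exact hnot (Set.mem_biUnion hp htp)
    obtain ⟨p, hp, hIp⟩ := (Ideal.subset_union_prime_finite hfin (f := id) ⊥ ⊥
      (fun i hi _ _ => hi.1.1)).mp hsub
    have hp' : p.IsPrime := hp.1.1
    have hnle : ¬ ((hfin.toFinset.erase p).inf id ≤ p) := by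
      rw [Ideal.IsPrime.inf_le' hp']
      rintro ⟨q, hq, hqp⟩
      rw [Finset.mem_erase, Set.Finite.mem_toFinset] at hq
      apply hq.1
      have hq' : q.IsPrime := hq.2.1.1
      exact le_antisymm hqp (hp.2 ⟨hq', bot_le⟩ hqp)
    obtain ⟨a, ha, hap⟩ := SetLike.not_le_iff_exists.mp hnle
    apply hap
    have ha0 : a = 0 := by
      apply hI
      intro t ht
      have hb' : a * t ∈ sInf (minimalPrimes A) := by
        rw [Ideal.mem_sInf]
        intro q hq
        by_cases hqp : q = p
        · rw [hqp]; exact p.mul_mem_left _ (hIp ht)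
        · apply q.mul_mem_right
          rw [Finset.inf_eq_iInf] at ha
          simp only [Submodule.mem_iInf] at ha
          exact ha q (by rw [Finset.mem_erase, Set.Finite.mem_toFinset]; exact ⟨hqp, hq⟩)
      have h2 : sInf (minimalPrimes A) = ⊥ := by
        have := Ideal.sInf_minimalPrimes (I := (⊥ : Ideal A))
        rw [show (⊥ : Ideal A).minimalPrimes = minimalPrimes A from rfl] at this
        rw [this]
        exact nilradical_eq_zero A
      rw [h2] at hb'
      exact hb'
    rw [ha0]
    exact p.zero_mem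
theorem minimalPrimes_finite_of (X : Scheme.{u}) [IsAffine X]
    (h : (irreducibleComponents ↥X).Finite) : (minimalPrimes Γ(X, ⊤)).Finite := by
  let e : X ≃ₜ PrimeSpectrum Γ(X, ⊤) := Scheme.homeoOfIso X.isoSpec
  have e1 := irreducibleComponentsEquivOfIsPreirreducibleFiber e e.continuous e.isOpenMap
    (fun x => (Set.subsingleton_singleton.preimage e.injective).isPreirreducible) e.surjective
  have e2 := minimalPrimes.equivIrreducibleComponents Γ(X, ⊤)
  rw [← Set.finite_coe_iff] at h ⊢
  exact Finite.of_equiv _ (e2.toEquiv.trans (OrderDual.ofDual.trans e1.toEquiv)).symm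

theorem mono {X : Scheme.{u}} {W U : X.Opens} (hWU : W ≤ U) (hW : CInt.IsSchematicallyDense W) :
    CInt.IsSchematicallyDense U := by
  intro V
  have h := hW V
  have hle : V ⊓ W ≤ V ⊓ U := inf_le_inf_left _ hWU
  have h1 : X.presheaf.map (homOfLE (inf_le_left : V ⊓ W ≤ V)).op =
      X.presheaf.map (homOfLE (inf_le_left : V ⊓ U ≤ V)).op ≫ X.presheaf.map (homOfLE hle).op := by
    rw [← Functor.map_comp]; rfl
  rw [h1] at h
  refine Function.Injective.of_comp (f := ⇑(ConcreteCategory.hom (X.presheaf.map (homOfLE hle).op))) ?_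
  intro a b hab
  apply h
  simpa using hab

theorem germ_regular (X : Scheme.{u}) [IsAffine X] (t : Γ(X, ⊤)) (ht : t ∈ nonZeroDivisors Γ(X, ⊤))
    (x : X) : (X.presheaf.germ ⊤ x trivial t) ∈ nonZeroDivisors ↑(X.presheaf.stalk x) := by
  letI := X.presheaf.algebra_section_stalk (U := ⊤) ⟨x, trivial⟩
  haveI := (isAffineOpen_top X).isLocalization_stalk ⟨x, trivial⟩
  have := IsLocalization.map_nonZeroDivisors_le
    ((isAffineOpen_top X).primeIdealOf ⟨x, trivial⟩).asIdeal.primeCompl (X.presheaf.stalk x)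
  exact this (Submonoid.mem_map_of_mem _ ht)
def idealOf {X : Scheme.{u}} (U : X.Opens) : Ideal Γ(X, ⊤) where
  carrier := {t | X.basicOpen t ≤ U}
  zero_mem' := by simp
  add_mem' := fun {a b} ha hb => (X.basicOpen_add_le a b).trans (sup_le ha hb)
  smul_mem' := fun c {a} ha => by
    change X.basicOpen (c * a) ≤ U
    rw [Scheme.basicOpen_mul]
    exact inf_le_right.trans ha

theorem claim1 (X : Scheme.{u}) [IsAffine X] (U : X.Opens) (hU : CInt.IsSchematicallyDense U)
    (a : Γ(X, ⊤)) (ha : ∀ t ∈ idealOf U, a * t = 0) : a = 0 := by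
  apply hU ⊤
  rw [map_zero]
  refine TopCat.Presheaf.section_ext X.sheaf (⊤ ⊓ U) _ 0 ?_
  intro x hx
  refine Eq.trans ?_ (map_zero (X.presheaf.germ (⊤ ⊓ U) x hx).hom).symm
  have hxU : x ∈ U := hx.2
  obtain ⟨_, ⟨_, ⟨t, rfl⟩, rfl⟩, hxt, htU⟩ :=
    (isBasis_basicOpen X).exists_subset_of_mem_open hxU U.isOpen
  have hg : X.presheaf.germ (⊤ ⊓ U) x hx (X.presheaf.map (homOfLE (inf_le_left : ⊤ ⊓ U ≤ ⊤)).op a)
      = X.presheaf.germ ⊤ x trivial a :=
    TopCat.Presheaf.germ_res_apply X.presheaf (homOfLE (inf_le_left : ⊤ ⊓ U ≤ ⊤)) x hx a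
  refine hg.trans ?_
  have hunit : IsUnit (X.presheaf.germ ⊤ x trivial t) := (Scheme.mem_basicOpen_top X t x).mp hxt
  have h0 := congrArg (X.presheaf.germ ⊤ x trivial) (ha t htU)
  rw [map_mul, map_zero] at h0
  exact (hunit.mul_left_eq_zero).mp h0

/-- Let X = Spec A be an affine scheme, with A Noetherian, or A reduced with finitely many minimal
primes. Then an open subset U of X is schematically dense if and only if it contains an open subset
of the form X_t with t a regular element of A = Γ(X, O_X). -/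
theorem result (X : Scheme.{u}) [IsAffine X]
    (hX : IsNoetherian X ∨ (IsReduced X ∧ (irreducibleComponents ↥X).Finite)) (U : X.Opens) :
    CInt.IsSchematicallyDense U ↔ ∃ t : Γ(X, ⊤), t ∈ nonZeroDivisors Γ(X, ⊤) ∧ X.basicOpen t ≤ U := by
  constructor
  · intro hU
    have hring : IsNoetherianRing Γ(X, ⊤) ∨ (_root_.IsReduced Γ(X, ⊤) ∧ (minimalPrimes Γ(X, ⊤)).Finite) := by
      rcases hX with h | ⟨h1, h2⟩
      · left
        exact IsLocallyNoetherian.component_noetherian ⟨⊤, isAffineOpen_top X⟩
      · right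
        exact ⟨inferInstance, Groth.Agent.S3834.minimalPrimes_finite_of X h2⟩
    obtain ⟨t, ht, htr⟩ := Groth.Agent.S3834.exists_regular_mem (Groth.Agent.S3834.idealOf U)
      (Groth.Agent.S3834.claim1 X U hU) hring
    exact ⟨t, htr, ht⟩
  · rintro ⟨t, ht, htU⟩
    exact Groth.Agent.S3834.mono htU
      (Groth.Agent.S3833.result X t (Groth.Agent.S3834.germ_regular X t ht))

end Groth.Agent.S3834
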