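import Groth.Statements.S3842
import Mathlib

set_option autoImplicit false
universe u
open CategoryTheory CategoryTheory.Limits AlgebraicGeometry TopologicalSpace
open Rat20

namespace Groth.Agent.S3842

theorem claimA {X : Type*} [TopologicalSpace X]
    (hfin : ∀ x : X, ∃ W : Set X, IsOpen W ∧ x ∈ W ∧
      {Z ∈ irreducibleComponents X | (Z ∩ W).Nonempty}.Finite)
    (V : Set X) (hV : Dense V) (Z : Set X) (hZ : Z ∈ irreducibleComponents X) :
    (V ∩ Z).Nonempty := by
  obtain ⟨z, hz⟩ := hZ.1.1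
  obtain ⟨W, hWo, hzW, hF⟩ := hfin z
  set F := {Z ∈ irreducibleComponents X | (Z ∩ W).Nonempty} with hFdef
  have hZF : Z ∈ F := ⟨hZ, ⟨z, hz, hzW⟩⟩
  set S := F \ {Z} with hSdef
  have hSfin : S.Finite := hF.subset Set.diff_subset
  have hSsub : S ⊆ irreducibleComponents X := fun Z₁ h => h.1.1
  have hTclosed : IsClosed (⋃₀ S) := by
    rw [Set.sUnion_eq_biUnion]
    exact hSfin.isClosed_biUnion fun Z₁ h => isClosed_of_mem_irreducibleComponents Z₁ (hSsub h)
  have hOsub : W \ ⋃₀ S ⊆ Z := by
    intro y hy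
    have hyc := irreducibleComponent_mem_irreducibleComponents y
    have hyF : irreducibleComponent y ∈ F := ⟨hyc, ⟨y, mem_irreducibleComponent, hy.1⟩⟩
    by_cases hyZ : irreducibleComponent y = Z
    · rw [← hyZ]; exact mem_irreducibleComponent
    · exfalso
      apply hy.2
      exact Set.mem_sUnion_of_mem mem_irreducibleComponent ⟨hyF, hyZ⟩
  have hOne : (W \ ⋃₀ S).Nonempty := by
    by_contra hempty
    rw [Set.not_nonempty_iff_eq_empty, Set.diff_eq_empty] at hempty
    have h1 : Z ⊆ closure (Z ∩ W) :=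
      subset_closure_inter_of_isPreirreducible_of_isOpen hZ.1.2 hWo ⟨z, hz, hzW⟩
    have h2 : Z ⊆ ⋃₀ S := by
      refine h1.trans ?_
      rw [hTclosed.closure_subset_iff]
      exact Set.inter_subset_right.trans hempty
    have := mem_of_subset_sUnion_irreducibleComponents Z hZ S hSfin hSsub h2
    exact this.2 rfl
  have hOo : IsOpen (W \ ⋃₀ S) := hWo.sdiff hTclosed
  obtain ⟨y, hyO, hyV⟩ := hV.inter_open_nonempty _ hOo hOne
  exact ⟨y, hyV, hOsub hyO⟩

theorem claimC {X X' : Type*} [TopologicalSpace X] [TopologicalSpace X'] (f : X' → X)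
    (hf : Continuous f)
    (hfin : ∀ x : X, ∃ W : Set X, IsOpen W ∧ x ∈ W ∧
      {Z ∈ irreducibleComponents X | (Z ∩ W).Nonempty}.Finite)
    (hdom : ∀ Z' ∈ irreducibleComponents X', closure (f '' Z') ∈ irreducibleComponents X)
    (V : Set X) (hVo : IsOpen V) (hV : Dense V) : Dense (f ⁻¹' V) := by
  rw [dense_iff_inter_open]
  intro O hO ⟨x', hx'⟩
  set Z' := irreducibleComponent x' with hZ'
  have hZ'c : Z' ∈ irreducibleComponents X' := irreducibleComponent_mem_irreducibleComponents x'
  obtain ⟨y, hyV, hyZ⟩ := claimA hfin V hV _ (hdom Z' hZ'c)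
  obtain ⟨_, hz'V, ⟨z', hz', rfl⟩⟩ := mem_closure_iff.mp hyZ V hVo hyV
  have := hZ'c.1.2 O (f ⁻¹' V) hO (hVo.preimage hf) ⟨x', mem_irreducibleComponent, hx'⟩
    ⟨z', hz', hz'V⟩
  obtain ⟨w, _, hwO, hwV⟩ := this
  exact ⟨w, hwO, hwV⟩

theorem dense_of_schDense {X : Scheme.{u}} (V : X.Opens) (hV : CInt.IsSchematicallyDense V) :
    Dense (V : Set X) := by
  rw [dense_iff_inter_open]
  intro O hO ⟨x, hx⟩
  by_contra hempty
  rw [Set.not_nonempty_iff_eq_empty] at hempty
  let O' : X.Opens := ⟨O, hO⟩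
  have hbot : O' ⊓ V = ⊥ := by
    ext y
    simp only [Opens.coe_inf, Opens.coe_bot]
    change y ∈ O ∩ (V : Set X) ↔ _
    rw [hempty]
  have h := hV O'
  have h10 : (1 : Γ(X, O')) = 0 := by
    apply h
    have hsub : Subsingleton Γ(X, O' ⊓ V) := by
      rw [hbot]
      exact CommRingCat.subsingleton_of_isTerminal X.sheaf.isTerminalOfEmpty
    exact Subsingleton.elim _ _
  have hx' : x ∈ O' := hx
  have hg := congrArg (X.presheaf.germ O' x hx') h10
  rw [map_one, map_zero] at hg
  exact one_ne_zero hg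

theorem schDense_of_dense {X : Scheme.{u}} [IsReduced X] (U : X.Opens) (hU : Dense (U : Set X)) :
    CInt.IsSchematicallyDense U := by
  intro V
  rw [injective_iff_map_eq_zero]
  intro a ha
  rw [← basicOpen_eq_bot_iff]
  by_contra hne
  have hne' : ((X.basicOpen a : X.Opens) : Set X).Nonempty := by
    rw [Set.nonempty_iff_ne_empty]
    intro h
    apply hne
    ext y
    simp only [Opens.coe_bot]
    rw [h]
  obtain ⟨x, hxa, hxU⟩ := hU.inter_open_nonempty _ (X.basicOpen a).isOpen hne'
  have hxV : x ∈ V := X.basicOpen_le a hxa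
  have hunit : IsUnit (X.presheaf.germ V x hxV a) := (X.mem_basicOpen a x hxV).mp hxa
  have hxVU : x ∈ V ⊓ U := ⟨hxV, hxU⟩
  have hg : X.presheaf.germ (V ⊓ U) x hxVU (X.presheaf.map (homOfLE (inf_le_left : V ⊓ U ≤ V)).op a)
      = X.presheaf.germ V x hxV a :=
    TopCat.Presheaf.germ_res_apply X.presheaf (homOfLE (inf_le_left : V ⊓ U ≤ V)) x hxVU a
  rw [ha, map_zero] at hg
  rw [← hg] at hunit
  exact not_isUnit_zero hunit

/-- For the open subset U = X; the general case is the same statement over the open subscheme U: let f :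
X' → X be a morphism of schemes with X' reduced, suppose the irreducible components of X form a
locally finite family and that every irreducible component of X' dominates an irreducible component
of X (the closure of its image is an irreducible component of X). Then for every schematically dense
open subset V of X, the preimage f⁻¹(V) is schematically dense in X'. -/
theorem result {X X' : Scheme.{u}} (f : X' ⟶ X) [IsReduced X']
    (hfin : ∀ x : ↥X, ∃ W : X.Opens, x ∈ W ∧ {Z ∈ irreducibleComponents ↥X | (Z ∩ (W : Set ↥X)).Nonempty}.Finite)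
    (hdom : ∀ Z' ∈ irreducibleComponents ↥X', closure (f '' Z') ∈ irreducibleComponents ↥X)
    (V : X.Opens) (hV : CInt.IsSchematicallyDense V) : CInt.IsSchematicallyDense (f ⁻¹ᵁ V) := by
  apply Groth.Agent.S3842.schDense_of_dense
  have hfin' : ∀ x : ↥X, ∃ W : Set X, IsOpen W ∧ x ∈ W ∧
      {Z ∈ irreducibleComponents X | (Z ∩ W).Nonempty}.Finite := by
    intro x
    obtain ⟨W, hxW, hW⟩ := hfin x
    exact ⟨W, W.isOpen, hxW, hW⟩
  exact Groth.Agent.S3842.claimC f f.continuous hfin' hdom V V.isOpen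
    (Groth.Agent.S3842.dense_of_schDense V hV)

end Groth.Agent.S3842
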