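import Groth.Statements.S3844
import Mathlib

set_option autoImplicit false
universe u
open CategoryTheory CategoryTheory.Limits AlgebraicGeometry TopologicalSpace
open Rat20

namespace Groth.Agent.S3844

theorem app_inj_iff {X : Scheme.{u}} (U V : X.Opens) :
    Function.Injective (U.ι.app V) ↔
      Function.Injective (X.presheaf.map (homOfLE (inf_le_left : V ⊓ U ≤ V)).op) := by
  have heq : U.ι ''ᵁ U.ι ⁻¹ᵁ V = V ⊓ U := by
    rw [Scheme.Hom.image_preimage_eq_opensRange_inf, Scheme.Opens.opensRange_ι, inf_comm]
  rw [Scheme.Opens.ι_app]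
  have h1 : X.presheaf.map (homOfLE (x := U.ι ''ᵁ U.ι ⁻¹ᵁ V) (Set.image_preimage_subset _ _)).op =
      X.presheaf.map (homOfLE (inf_le_left : V ⊓ U ≤ V)).op ≫ X.presheaf.map (eqToHom heq).op := by
    rw [← Functor.map_comp]; rfl
  rw [h1]
  have hbij : Function.Bijective (X.presheaf.map (eqToHom heq).op) :=
    ConcreteCategory.bijective_of_isIso _
  constructor
  · intro h
    refine Function.Injective.of_comp (f := ⇑(ConcreteCategory.hom (X.presheaf.map (eqToHom heq).op))) ?_
    intro a b hab
    apply h
    exact hab
  · intro h a b hab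
    apply h
    apply hbij.1
    exact hab

theorem dense_iff {X : Scheme.{u}} (U : X.Opens) [QuasiCompact U.ι] :
    CInt.IsSchematicallyDense U ↔ IsSchemeTheoreticallyDominant U.ι := by
  constructor
  · intro h
    rw [isSchemeTheoreticallyDominant_iff]
    refine Scheme.IdealSheafData.ext ?_
    ext W : 1
    rw [Scheme.Hom.ker_apply]
    simp only [Scheme.IdealSheafData.ideal_bot, Pi.bot_apply]
    rw [← RingHom.injective_iff_ker_eq_bot]
    exact (app_inj_iff U W.1).mpr (h W.1)
  · intro h V
    exact (app_inj_iff U V).mp (U.ι.app_injective V)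

/-- For the open subset U = X: let f : X' → X be flat with X locally Noetherian. Then for every
schematically dense open subset V of X, the preimage f⁻¹(V) is schematically dense in X'. -/
theorem result {X X' : Scheme.{u}} (f : X' ⟶ X) [Flat f]
    [IsLocallyNoetherian X] (V : X.Opens) (hV : CInt.IsSchematicallyDense V) :
    CInt.IsSchematicallyDense (f ⁻¹ᵁ V) := by
  have hpb := isPullback_morphismRestrict f V
  haveI : QuasiCompact (f ⁻¹ᵁ V).ι :=
    MorphismProperty.of_isPullback (P := @QuasiCompact) hpb inferInstance
  haveI : IsSchemeTheoreticallyDominant V.ι := (Groth.Agent.S3844.dense_iff V).mp hV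
  rw [Groth.Agent.S3844.dense_iff]
  exact IsSchemeTheoreticallyDominant.of_isPullback hpb

end Groth.Agent.S3844
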