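import Groth.Statements.S3846
import Mathlib
import Groth.Agent.S3845

set_option autoImplicit false
universe u
open CategoryTheory CategoryTheory.Limits AlgebraicGeometry TopologicalSpace
open Unram17

namespace Groth.Agent.S3846

set_option backward.isDefEq.respectTransparency.types false in
open CategoryTheory CategoryTheory.Limits AlgebraicGeometry TopologicalSpace in
theorem postcomp_inst : MorphismProperty.HasOfPostcompProperty
    @IsOpenImmersion (@LocallyOfFiniteType ⊓ @FormallyUnramified) := by
  rw [MorphismProperty.hasOfPostcompProperty_iff_le_diagonal]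
  intro X Y f ⟨hft, hfu⟩
  exact inferInstanceAs <| IsOpenImmersion (pullback.diagonal f)

open CategoryTheory CategoryTheory.Limits AlgebraicGeometry TopologicalSpace in
theorem fwd {X Y : Scheme.{u}} (f : X ⟶ Y) (U : X.Opens) [LocallyOfFiniteType (U.ι ≫ f)]
    [FormallyUnramified (U.ι ≫ f)]
    (Y' : Scheme.{u}) (g : Y' ⟶ Y) (s' : Y' ⟶ pullback f g) (hs : s' ≫ pullback.snd f g = 𝟙 Y') :
    IsOpenImmersion ((s' ⁻¹ᵁ ((pullback.fst f g) ⁻¹ᵁ U)).ι ≫ s') := by
  set V := (pullback.fst f g) ⁻¹ᵁ U with hV
  have h1 : IsPullback (pullback.fst f g ∣_ U) V.ι U.ι (pullback.fst f g) :=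
    isPullback_morphismRestrict _ _
  have h2 : IsPullback (pullback.fst f g) (pullback.snd f g) f g := IsPullback.of_hasPullback f g
  have h3 : IsPullback (pullback.fst f g ∣_ U) (V.ι ≫ pullback.snd f g) (U.ι ≫ f) g :=
    h1.paste_vert h2
  have hq : (@LocallyOfFiniteType ⊓ @FormallyUnramified) (V.ι ≫ pullback.snd f g) := by
    refine ⟨?_, ?_⟩
    · exact MorphismProperty.of_isPullback (P := @LocallyOfFiniteType) h3 inferInstance
    · exact MorphismProperty.of_isPullback (P := @FormallyUnramified) h3 inferInstance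
  have hcomp : (s' ∣_ V) ≫ (V.ι ≫ pullback.snd f g) = (s' ⁻¹ᵁ V).ι := by
    rw [← Category.assoc, morphismRestrict_ι, Category.assoc, hs, Category.comp_id]
  have h4 : IsOpenImmersion (s' ∣_ V) := by
    haveI := postcomp_inst.{u}
    refine MorphismProperty.of_postcomp (W := @IsOpenImmersion)
      (W' := @LocallyOfFiniteType ⊓ @FormallyUnramified) (s' ∣_ V) (V.ι ≫ pullback.snd f g) hq ?_
    rw [hcomp]
    infer_instance
  rw [← morphismRestrict_ι]
  infer_instance

/-- a) iff b''): let f : X → Y be locally of finite presentation and x a point of X. Then f is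
unramified on some open neighbourhood of x if and only if, for every base change g : Y' → Y and
every section s' of X ×_Y Y' → Y', s' is a local isomorphism at every point y' of Y' such that
s'(y') lies over x. -/
theorem result {X Y : Scheme.{u}} (f : X ⟶ Y) [LocallyOfFinitePresentation f]
    (x : ↥X) :
    (∃ U : X.Opens, x ∈ U ∧ FormallyUnramified (U.ι ≫ f)) ↔
      ∀ (Y' : Scheme.{u}) (g : Y' ⟶ Y) (s' : Y' ⟶ pullback f g), s' ≫ pullback.snd f g = 𝟙 Y' →
        ∀ y' : ↥Y', pullback.fst f g (s' y') = x → SchLoc.IsLocalIsoAt s' y' := by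
  constructor
  · rintro ⟨U, hxU, hU⟩ Y' g s' hs y' hy'
    haveI : LocallyOfFiniteType (U.ι ≫ f) := inferInstance
    refine ⟨s' ⁻¹ᵁ ((pullback.fst f g) ⁻¹ᵁ U), ?_, Groth.Agent.S3846.fwd f U Y' g s' hs⟩
    show pullback.fst f g (s' y') ∈ U
    rw [hy']
    exact hxU
  · intro h
    rw [Groth.Agent.S3845.result f x]
    refine h X f (pullback.diagonal f) (pullback.diagonal_snd f) x ?_
    rw [← Scheme.Hom.comp_apply, pullback.diagonal_fst]
    rfl

end Groth.Agent.S3846
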