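import Groth.Statements.S3852
import Mathlib

set_option autoImplicit false
universe u
open FCompl

namespace Groth.Agent.S3852

open AlgebraicGeometry in
/-- Second assertion; stated for quasi-coherent ideal sheaves, with the condition on supports as an
inclusion, which is what the proof uses: Let X be a Noetherian scheme and I, J ideal sheaves such
that the zero locus of J is contained in the zero locus of I. Then I^n ≤ J for some n ≥ 1. -/
theorem result
    (X : Scheme.{u}) [IsNoetherian X] (I J : X.IdealSheafData)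
    (h : (J.support : Set X) ⊆ I.support) :
    ∃ n : ℕ, I ^ (n + 1) ≤ J := by
  have hrad : I.radical ≤ J.radical := by
    rw [← AlgebraicGeometry.Scheme.IdealSheafData.vanishingIdeal_support, ← AlgebraicGeometry.Scheme.IdealSheafData.vanishingIdeal_support]
    exact AlgebraicGeometry.Scheme.IdealSheafData.vanishingIdeal_antimono (SetLike.coe_subset_coe.mp h)
  have hloc : ∀ U : X.affineOpens, ∃ n : ℕ, (I.ideal U) ^ n ≤ J.ideal U := by
    intro U
    haveI : IsNoetherianRing Γ(X, U.1) := IsLocallyNoetherian.component_noetherian U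
    refine Ideal.exists_pow_le_of_le_radical_of_fg ?_ (_root_.IsNoetherian.noetherian _)
    have h2 := (AlgebraicGeometry.Scheme.IdealSheafData.le_radical I).trans hrad
    exact h2 U
  choose n hn using hloc
  obtain ⟨s, hsfin, hs⟩ := (isCompact_and_isOpen_iff_finite_and_eq_biUnion_affineOpens
    (X := X) (U := Set.univ)).mp ⟨isCompact_univ, isOpen_univ⟩
  obtain ⟨N, hN⟩ : ∃ N : ℕ, ∀ U ∈ s, n U ≤ N := by
    obtain ⟨N, hN⟩ := (hsfin.image n).bddAbove
    exact ⟨N, fun U hU => hN ⟨U, hU, rfl⟩⟩
  refine ⟨N, ?_⟩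
  refine AlgebraicGeometry.Scheme.IdealSheafData.le_of_iSup_eq_top (ι := s) (fun i => i.1) ?_ ?_
  · rw [eq_top_iff]
    intro x _
    have hx : x ∈ ⋃ i ∈ s, (i : Set X) := hs.le (Set.mem_univ x)
    obtain ⟨U, hUs, hxU⟩ := Set.mem_iUnion₂.mp hx
    exact TopologicalSpace.Opens.mem_iSup.mpr ⟨⟨U, hUs⟩, hxU⟩
  · rintro ⟨U, hU⟩
    show (I.ideal U) ^ (N + 1) ≤ J.ideal U
    exact (Ideal.pow_le_pow_right (by have := hN U hU; omega)).trans (hn U)

end Groth.Agent.S3852
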