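import Groth.Statements.S3854
import Mathlib
import Groth.Agent.H20.IdealSh
import Groth.Agent.H20.FSysTools

set_option autoImplicit false
universe u
open FCompl

namespace Groth.Agent.S3854

open CategoryTheory CategoryTheory.Limits Groth.Agent.H20

open AlgebraicGeometry in
/-- The completion along a closed subset, presented as the system of closed subschemes cut out by the
powers of an ideal sheaf: Let X be a locally Noetherian scheme and I an ideal sheaf on X. The closed
subschemes defined by I, I^2, I^3, ... with their inclusions form a locally Noetherian adic formal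
system: each inclusion is a surjective closed immersion, the kernel ideal of the n-th inclusion is
the (n+1)-st power of the kernel ideal of the composite inclusion from level 0, and every level is
locally Noetherian. -/
theorem result (X : Scheme.{u}) [IsLocallyNoetherian X]
    (𝓘 : X.IdealSheafData) : (FSch.completionAlong X 𝓘).IsLocNoethFormal := by
  have hle : ∀ m : ℕ, 𝓘 ^ (m + 1) ≤ 𝓘 ^ (0 + 1) := fun m =>
    pow_le_pow_of_le_one bot_le le_top (by omega)
  have htoX : ∀ (m : ℕ) (hm : 𝓘 ^ (m + 1) ≤ 𝓘 ^ (0 + 1)),
      (FSch.completionAlong X 𝓘).toX m = Scheme.IdealSheafData.inclusion hm := by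
    intro m
    induction m with
    | zero =>
      intro hm
      exact (Scheme.IdealSheafData.inclusion_id _).symm
    | succ m ih =>
      intro hm
      have key : Scheme.IdealSheafData.inclusion (hle m) ≫
          Scheme.IdealSheafData.inclusion (FSch.pow_succ_le X 𝓘 m) =
          Scheme.IdealSheafData.inclusion hm := Scheme.IdealSheafData.inclusion_comp _ _
      show (FSch.completionAlong X 𝓘).toX m ≫ (FSch.completionAlong X 𝓘).ι m = _
      rw [ih (hle m)]
      exact key
  refine ⟨?_, ?_, ?_⟩
  · intro n
    constructor
    · show IsClosedImmersion (Scheme.IdealSheafData.inclusion (FSch.pow_succ_le X 𝓘 n))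
      infer_instance
    · intro y
      have hrange : Set.range (𝓘 ^ (n + 1)).subschemeι = Set.range (𝓘 ^ (n + 2)).subschemeι := by
        rw [Scheme.IdealSheafData.range_subschemeι, Scheme.IdealSheafData.range_subschemeι,
          Scheme.IdealSheafData.support_pow_succ, Scheme.IdealSheafData.support_pow_succ]
      have hy : (𝓘 ^ (n + 2)).subschemeι y ∈ Set.range (𝓘 ^ (n + 1)).subschemeι := by
        rw [hrange]
        exact ⟨y, rfl⟩
      obtain ⟨x, hx⟩ := hy
      refine ⟨x, ?_⟩
      have e1 : (𝓘 ^ (n + 2)).subschemeι
          (Scheme.IdealSheafData.inclusion (FSch.pow_succ_le X 𝓘 n) x) =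
          (𝓘 ^ (n + 1)).subschemeι x := by
        rw [← Scheme.Hom.comp_apply, Scheme.IdealSheafData.inclusion_subschemeι]
      exact (𝓘 ^ (n + 2)).subschemeι.isEmbedding.injective (e1.trans hx)
  · intro n
    have h2 : 𝓘 ^ (n + 2) ≤ 𝓘 ^ (0 + 1) := hle (n + 1)
    have e := htoX (n + 1) h2
    have key : (Scheme.IdealSheafData.inclusion (FSch.pow_succ_le X 𝓘 n)).ker =
        (Scheme.IdealSheafData.inclusion h2).ker ^ (n + 1) := by
      have hp : (𝓘 ^ (0 + 1)) ^ (n + 1) = 𝓘 ^ (n + 1) := by rw [zero_add, pow_one]
      rw [FSysTools.ker_inclusion, FSysTools.ker_inclusion, ← IdealSh.comap_pow, hp]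
    exact key.trans (congrArg (fun t => Scheme.Hom.ker t ^ (n + 1)) e).symm
  · intro n
    show IsLocallyNoetherian (𝓘 ^ (n + 1)).subscheme
    exact LocallyOfFiniteType.isLocallyNoetherian (𝓘 ^ (n + 1)).subschemeι

end Groth.Agent.S3854
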