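import Groth.Statements.S3855
import Mathlib
import Groth.Agent.H20.IdealSh

set_option autoImplicit false
universe u
open FCompl

namespace Groth.Agent.S3855

open CategoryTheory

open AlgebraicGeometry in
/-- Sufficiency (the formal spectrum presented as the system Spec(A/J) -> Spec(A/J^2) -> ...). For a
Noetherian ring A and an ideal J this system is a locally Noetherian adic formal system: the
transition maps are surjective closed immersions, the kernel ideal of Spec(A/J^(n+1)) ->
Spec(A/J^(n+2)) is the (n+1)-st power of that of Spec(A/J) -> Spec(A/J^(n+2)), and every level is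
locally Noetherian. -/
theorem result (A : Type u) [CommRing A] [IsNoetherianRing A] (J : Ideal A) :
    (FSch.spf A J).IsLocNoethFormal := by
  have hι : ∀ n : ℕ, (FSch.spf A J).ι n = Spec.map (CommRingCat.ofHom
      (Ideal.Quotient.factor
        (Ideal.pow_le_pow_right (Nat.le_succ (n + 1)) : J ^ (n + 2) ≤ J ^ (n + 1)))) :=
    fun n => rfl
  have htoX : ∀ (m : ℕ) (h : J ^ (m + 1) ≤ J ^ (0 + 1)),
      (FSch.spf A J).toX m = Spec.map (CommRingCat.ofHom (Ideal.Quotient.factor h)) := by
    intro m
    induction m with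
    | zero =>
      intro h
      have key : 𝟙 (Spec (CommRingCat.of (A ⧸ J ^ (0 + 1)))) =
          Spec.map (CommRingCat.ofHom (Ideal.Quotient.factor h)) := by
        rw [Ideal.Quotient.factor_eq, CommRingCat.ofHom_id, Spec.map_id]
      exact key
    | succ m ih =>
      intro h
      have h' : J ^ (m + 1) ≤ J ^ (0 + 1) := Ideal.pow_le_pow_right (by omega)
      have key : Spec.map (CommRingCat.ofHom (Ideal.Quotient.factor h')) ≫
          Spec.map (CommRingCat.ofHom (Ideal.Quotient.factor
            (Ideal.pow_le_pow_right (Nat.le_succ (m + 1)) : J ^ (m + 2) ≤ J ^ (m + 1)))) =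
          Spec.map (CommRingCat.ofHom (Ideal.Quotient.factor h)) := by
        rw [← Spec.map_comp, ← CommRingCat.ofHom_comp, Ideal.Quotient.factor_comp]
      show (FSch.spf A J).toX m ≫ (FSch.spf A J).ι m = _
      rw [ih h']
      exact key
  refine ⟨?_, ?_, ?_⟩
  · intro n
    rw [hι]
    constructor
    · exact IsClosedImmersion.spec_of_surjective _ (Ideal.Quotient.factor_surjective
        (Ideal.pow_le_pow_right (Nat.le_succ (n + 1)) : J ^ (n + 2) ≤ J ^ (n + 1)))
    · have hsurj : Function.Surjective (PrimeSpectrum.comap (Ideal.Quotient.factor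
          (Ideal.pow_le_pow_right (Nat.le_succ (n + 1)) : J ^ (n + 2) ≤ J ^ (n + 1)))) := by
        rw [← Set.range_eq_univ, range_comap_of_surjective _ _
          (Ideal.Quotient.factor_surjective
            (Ideal.pow_le_pow_right (Nat.le_succ (n + 1)) : J ^ (n + 2) ≤ J ^ (n + 1))), PrimeSpectrum.zeroLocus_eq_univ_iff]
        intro x hx
        rw [SetLike.mem_coe, Ideal.Quotient.factor_ker] at hx
        rw [SetLike.mem_coe, mem_nilradical]
        refine ⟨2, ?_⟩
        have h2 : x ^ 2 ∈ ((J ^ (n + 1)).map (Ideal.Quotient.mk (J ^ (n + 2)))) ^ 2 :=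
          Ideal.pow_mem_pow hx 2
        rw [← Ideal.map_pow, ← pow_mul] at h2
        have h3 : (J ^ ((n + 1) * 2)).map (Ideal.Quotient.mk (J ^ (n + 2))) = ⊥ := by
          rw [Ideal.map_eq_bot_iff_le_ker, Ideal.mk_ker]
          exact Ideal.pow_le_pow_right (by omega)
        rw [h3] at h2
        exact Ideal.mem_bot.mp h2
      intro y
      obtain ⟨x, hx⟩ := hsurj y
      exact ⟨x, hx⟩
  · intro n
    have h2 : J ^ (n + 2) ≤ J ^ (0 + 1) := Ideal.pow_le_pow_right (by omega)
    have e := htoX (n + 1) h2
    have key : (Spec.map (CommRingCat.ofHom (Ideal.Quotient.factor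
        (Ideal.pow_le_pow_right (Nat.le_succ (n + 1)) : J ^ (n + 2) ≤ J ^ (n + 1))))).ker =
        (Spec.map (CommRingCat.ofHom (Ideal.Quotient.factor h2))).ker ^ (n + 1) := by
      rw [Groth.Agent.H20.IdealSh.ker_Spec_map, Groth.Agent.H20.IdealSh.ker_Spec_map,
        ← Groth.Agent.H20.IdealSh.ofI_pow]
      congr 1
      rw [CommRingCat.hom_ofHom, CommRingCat.hom_ofHom, Ideal.Quotient.factor_ker,
        Ideal.Quotient.factor_ker, ← Ideal.map_pow, ← pow_mul]
      simp
    exact key.trans (congrArg (fun t => Scheme.Hom.ker t ^ (n + 1)) e).symm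
  · intro n
    show IsLocallyNoetherian (Spec (CommRingCat.of (A ⧸ J ^ (n + 1))))
    infer_instance

end Groth.Agent.S3855
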