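import Groth.Statements.S3859
-- import your own Groth.Agent.* helpers here

set_option autoImplicit false
universe u
open FCompl

namespace Groth.Agent.S3859

open AlgebraicGeometry in
open CategoryTheory in
/-- In the presentation by systems of thickenings: For morphisms of systems X -> S and Y -> S, the
levelwise fibre product with its two projections is a fibre product in the category of systems; it
presents the fibre product of formal schemes when one factor is adic over the base, and otherwise
only up to cofinality of the levels. -/
theorem result {𝔛 𝔜 𝔖 : FSch.Sys.{u}} (f : 𝔛 ⟶ 𝔖) (g : 𝔜 ⟶ 𝔖) :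
    IsPullback (FSch.pullbackFst f g) (FSch.pullbackSnd f g) f g := by
  have hw : FSch.pullbackFst f g ≫ f = FSch.pullbackSnd f g ≫ g := by
    apply FSch.Hom.ext
    funext n
    exact CategoryTheory.Limits.pullback.condition
  have hcond : ∀ (s : CategoryTheory.Limits.PullbackCone f g) (n : ℕ),
      (s.fst : FSch.Hom _ _).app n ≫ (f : FSch.Hom _ _).app n =
        (s.snd : FSch.Hom _ _).app n ≫ (g : FSch.Hom _ _).app n := by
    intro s n
    have := congrArg (fun φ : FSch.Hom _ _ => φ.app n) s.condition
    exact this
  refine ⟨⟨hw⟩, ⟨CategoryTheory.Limits.PullbackCone.IsLimit.mk _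
    (fun s => (⟨fun n => CategoryTheory.Limits.pullback.lift ((s.fst : FSch.Hom _ _).app n)
      ((s.snd : FSch.Hom _ _).app n) (hcond s n), fun n => ?_⟩ : FSch.Hom _ _)) ?_ ?_ ?_⟩⟩
  · apply CategoryTheory.Limits.pullback.hom_ext
    · simp only [FSch.pullbackSys, Category.assoc, CategoryTheory.Limits.pullback.lift_fst, CategoryTheory.Limits.pullback.lift_fst_assoc]
      exact (s.fst : FSch.Hom _ _).comm n
    · simp only [FSch.pullbackSys, Category.assoc, CategoryTheory.Limits.pullback.lift_snd, CategoryTheory.Limits.pullback.lift_snd_assoc]
      exact (s.snd : FSch.Hom _ _).comm n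
  · intro s
    apply FSch.Hom.ext
    funext n
    exact CategoryTheory.Limits.pullback.lift_fst _ _ _
  · intro s
    apply FSch.Hom.ext
    funext n
    exact CategoryTheory.Limits.pullback.lift_snd _ _ _
  · intro s m h1 h2
    apply FSch.Hom.ext
    funext n
    apply CategoryTheory.Limits.pullback.hom_ext
    · rw [CategoryTheory.Limits.pullback.lift_fst]
      exact congrArg (fun φ : FSch.Hom _ _ => φ.app n) h1
    · rw [CategoryTheory.Limits.pullback.lift_snd]
      exact congrArg (fun φ : FSch.Hom _ _ => φ.app n) h2

end Groth.Agent.S3859
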