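import Groth.Statements.S3860
import Mathlib

set_option autoImplicit false
universe u
open FCompl

namespace Groth.Agent.S3860

open CategoryTheory CategoryTheory.Limits

open AlgebraicGeometry in
/-- (Affine adic case; the formal spectra presented as the systems Spec(A/I^(n+1)) and Spec(B/K^(n+1)).)
Let I be an ideal of a ring A which is complete and separated for the I-adic topology, and K an
ideal of a ring B. Then φ ↦ (Spec of the induced maps B/K^(n+1) -> A/I^(n+1)) is a bijection from
the ring homomorphisms φ : B -> A with φ(K) ⊆ I onto the morphisms of systems from Spf(A) to Spf(B),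
i.e. the compatible families of morphisms Spec(A/I^(n+1)) -> Spec(B/K^(n+1)). -/
theorem result (A B : Type u) [CommRing A] [CommRing B] (I : Ideal A) (K : Ideal B)
    [IsAdicComplete I A] :
    Function.Bijective (fun φ : {φ : B →+* A // K ≤ I.comap φ} ↦ FSch.spfMap I K φ.1 φ.2) := by
  constructor
  · rintro ⟨φ, hφ⟩ ⟨φ', hφ'⟩ heq
    have heq' : FSch.spfMap I K φ hφ = FSch.spfMap I K φ' hφ' := heq
    apply Subtype.ext
    show φ = φ'
    have happ : ∀ n, FSch.quotPowMap I K φ hφ n = FSch.quotPowMap I K φ' hφ' n := by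
      intro n
      have h1 := congrArg (fun g : FSch.Hom _ _ => g.app n) heq'
      have h2 : Spec.map (CommRingCat.ofHom (FSch.quotPowMap I K φ hφ n)) =
          Spec.map (CommRingCat.ofHom (FSch.quotPowMap I K φ' hφ' n)) := h1
      have h3 := Spec.map_injective h2
      exact congrArg CommRingCat.Hom.hom h3
    ext b
    have hmem : ∀ n : ℕ, φ b - φ' b ∈ I ^ n := by
      intro n
      have h4 := congrArg (fun ψ : B ⧸ K ^ (n + 1) →+* A ⧸ I ^ (n + 1) =>
        ψ (Ideal.Quotient.mk (K ^ (n + 1)) b)) (happ n)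
      have h5 : Ideal.Quotient.mk (I ^ (n + 1)) (φ b) = Ideal.Quotient.mk (I ^ (n + 1)) (φ' b) := h4
      have h6 : φ b - φ' b ∈ I ^ (n + 1) := Ideal.Quotient.eq.mp h5
      exact Ideal.pow_le_pow_right (Nat.le_succ n) h6
    have hz : φ b - φ' b = 0 := by
      apply IsHausdorff.haus (inferInstance : IsHausdorff I A)
      intro n
      rw [SModEq.zero, smul_eq_mul, Ideal.mul_top]
      exact hmem n
    exact sub_eq_zero.mp hz
  · intro g
    let θ : ∀ n : ℕ, B ⧸ K ^ (n + 1) →+* A ⧸ I ^ (n + 1) := fun n =>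
      (Spec.preimage (R := CommRingCat.of (B ⧸ K ^ (n + 1)))
        (S := CommRingCat.of (A ⧸ I ^ (n + 1))) ((g : FSch.Hom _ _).app n)).hom
    have hθ : ∀ n, Spec.map (CommRingCat.ofHom (θ n)) = (g : FSch.Hom _ _).app n :=
      fun n => Spec.map_preimage _
    let fA : ∀ n : ℕ, A ⧸ I ^ (n + 2) →+* A ⧸ I ^ (n + 1) := fun n =>
      Ideal.Quotient.factor (Ideal.pow_le_pow_right (Nat.le_succ (n + 1)))
    let fB : ∀ n : ℕ, B ⧸ K ^ (n + 2) →+* B ⧸ K ^ (n + 1) := fun n =>
      Ideal.Quotient.factor (Ideal.pow_le_pow_right (Nat.le_succ (n + 1)))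
    have hcompat : ∀ n, (fA n).comp (θ (n + 1)) = (θ n).comp (fB n) := by
      intro n
      have h1 : Spec.map (CommRingCat.ofHom (θ n)) ≫ Spec.map (CommRingCat.ofHom (fB n)) =
          Spec.map (CommRingCat.ofHom (fA n)) ≫ Spec.map (CommRingCat.ofHom (θ (n + 1))) := by
        rw [hθ, hθ]
        exact (g : FSch.Hom _ _).comm n
      rw [← Spec.map_comp, ← Spec.map_comp, ← CommRingCat.ofHom_comp,
        ← CommRingCat.ofHom_comp] at h1
      have h2 := Spec.map_injective h1
      exact (congrArg CommRingCat.Hom.hom h2).symm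
    have hy : ∀ n (b : B), fA n (θ (n + 1) (Ideal.Quotient.mk (K ^ (n + 2)) b)) =
        θ n (Ideal.Quotient.mk (K ^ (n + 1)) b) := by
      intro n b
      have := congrArg (fun ψ : B ⧸ K ^ (n + 2) →+* A ⧸ I ^ (n + 1) =>
        ψ (Ideal.Quotient.mk (K ^ (n + 2)) b)) (hcompat n)
      exact this
    let f : ∀ n : ℕ, B →+* A ⧸ I ^ n := fun n =>
      (Ideal.Quotient.factorPow I (Nat.le_succ n)).comp
        ((θ n).comp (Ideal.Quotient.mk (K ^ (n + 1))))
    have hsucc : ∀ n, (Ideal.Quotient.factorPow I (Nat.le_succ n)).comp (f (n + 1)) = f n := by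
      intro n
      apply RingHom.ext
      intro b
      show Ideal.Quotient.factorPow I (Nat.le_succ n)
          (Ideal.Quotient.factorPow I (Nat.le_succ (n + 1))
            (θ (n + 1) (Ideal.Quotient.mk (K ^ (n + 1 + 1)) b))) =
        Ideal.Quotient.factorPow I (Nat.le_succ n) (θ n (Ideal.Quotient.mk (K ^ (n + 1)) b))
      rw [← hy n b]
    have hf : ∀ {m n : ℕ} (hle : m ≤ n), (Ideal.Quotient.factorPow I hle).comp (f n) = f m := by
      intro m n hle
      induction n, hle using Nat.le_induction with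
      | base =>
        show (Ideal.Quotient.factor _).comp (f m) = f m
        rw [Ideal.Quotient.factor_eq]
        rfl
      | succ n hmn ih =>
        have e : Ideal.Quotient.factorPow I (Nat.le_succ_of_le hmn) =
            (Ideal.Quotient.factorPow I hmn).comp (Ideal.Quotient.factorPow I (Nat.le_succ n)) :=
          (Ideal.Quotient.factor_comp _ _).symm
        rw [e, RingHom.comp_assoc, hsucc n, ih]
    let φ : B →+* A := IsAdicComplete.liftRingHom I f hf
    have hstar : ∀ n (b : B), Ideal.Quotient.mk (I ^ (n + 1)) (φ b) =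
        θ n (Ideal.Quotient.mk (K ^ (n + 1)) b) := by
      intro n b
      rw [IsAdicComplete.mk_liftRingHom, ← hy n b]
      rfl
    have hφ : K ≤ I.comap φ := by
      intro b hb
      show φ b ∈ I
      have h0 : Ideal.Quotient.mk (K ^ (0 + 1)) b = 0 := by
        rw [Ideal.Quotient.eq_zero_iff_mem]
        simpa using hb
      have h1 := hstar 0 b
      rw [h0, map_zero, Ideal.Quotient.eq_zero_iff_mem] at h1
      simpa using h1
    refine ⟨⟨φ, hφ⟩, ?_⟩
    show FSch.spfMap I K φ hφ = g
    apply FSch.Hom.ext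
    funext n
    rw [← hθ n]
    show Spec.map (CommRingCat.ofHom (FSch.quotPowMap I K φ hφ n)) =
      Spec.map (CommRingCat.ofHom (θ n))
    congr 2
    apply Ideal.Quotient.ringHom_ext
    apply RingHom.ext
    intro b
    exact hstar n b

end Groth.Agent.S3860
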