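import Groth.Statements.S3865
import Mathlib
import Groth.Agent.H20.IdealSh
import Groth.Agent.H20.FSysTools

set_option autoImplicit false
universe u
open FCompl

namespace Groth.Agent.S3865

open CategoryTheory CategoryTheory.Limits Groth.Agent.H20

open AlgebraicGeometry in
/-- A formal scheme is presented as a system of thickenings (X_n)_n, and a coherent ideal of it as a
family of ideal sheaves A_n on the levels X_n, each A_n equal to the inverse image ideal of A_(n+1)
under X_n → X_(n+1). Let (X_n) be a locally Noetherian adic formal system and (A_n) such a family.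
Then the closed subschemes Y_n cut out by the A_n, with the induced transition maps, form a locally
Noetherian adic formal system, and its inclusion into (X_n) is adic: every square Y_n → Y_(n+1), X_n
→ X_(n+1) is cartesian. -/
theorem result (𝔛 : FSch.Sys.{u}) (h𝔛 : 𝔛.IsLocNoethFormal)
    (𝒜 : ∀ n, (𝔛.X n).IdealSheafData) (h : ∀ n, (𝒜 (n + 1)).comap (𝔛.ι n) = 𝒜 n) :
    (FSch.subSys 𝔛 𝒜 (fun n ↦ (h n).le)).IsLocNoethFormal ∧
      FSch.IsAdicHom (FSch.subSysι 𝔛 𝒜 (fun n ↦ (h n).le)) := by
  obtain ⟨hF, hA, hN⟩ := h𝔛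
  have hadic : FSch.IsAdicHom (FSch.subSysι 𝔛 𝒜 (fun n ↦ (h n).le)) := by
    intro n
    have sq : IsPullback (𝒜 n).subschemeι
        (Scheme.IdealSheafData.subschemeMap (𝒜 n) (𝒜 (n + 1)) (𝔛.ι n)
          (Scheme.IdealSheafData.le_map_iff_comap_le.mpr (h n).le)) (𝔛.ι n)
        (𝒜 (n + 1)).subschemeι := by
      refine AlgebraicGeometry.isPullback_of_isClosedImmersion (ZX := (𝒜 n).subscheme)
        (ZY := (𝒜 (n + 1)).subscheme) (𝒜 n).subschemeι (𝒜 (n + 1)).subschemeι _ (𝔛.ι n) ?_ ?_
      · exact (Scheme.IdealSheafData.subschemeMap_subschemeι (𝒜 n) (𝒜 (n + 1)) (𝔛.ι n)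
          (Scheme.IdealSheafData.le_map_iff_comap_le.mpr (h n).le)).symm
      · rw [Scheme.IdealSheafData.ker_subschemeι, Scheme.IdealSheafData.ker_subschemeι]
        exact h n
    exact sq.flip
  obtain ⟨hF', hA'⟩ := FSysTools.isFormal_isAdic_of_isAdicHom _ hadic hF hA
  refine ⟨⟨hF', hA', fun n => ?_⟩, hadic⟩
  haveI := hN n
  show IsLocallyNoetherian (𝒜 n).subscheme
  exact LocallyOfFiniteType.isLocallyNoetherian (𝒜 n).subschemeι

end Groth.Agent.S3865
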