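import Groth.Statements.S3866
import Mathlib

set_option autoImplicit false
universe u
open AdicRing

namespace Groth.Agent.S3866

/-- Let A be a Noetherian ring that is complete and separated for the J-adic topology, where J is an
ideal of A. Then every finite A-module M is itself complete and separated for the J-adic topology.
(This is the algebraic fact behind the statement that the global sections of the sheaf M^Δ on the
formal spectrum of A recover M.) -/
theorem result (A : Type u) [CommRing A] [IsNoetherianRing A]
    (J : Ideal A) [IsAdicComplete J A] (M : Type u) [AddCommGroup M] [Module A M] [Module.Finite A M] :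
    IsAdicComplete J M := by
  rw [← AdicCompletion.of_bijective_iff]
  have h1 : Function.Bijective (AdicCompletion.of J A) :=
    AdicCompletion.of_bijective_iff.mpr inferInstance
  let e1 : A ≃ₗ[A] AdicCompletion J A := LinearEquiv.ofBijective (AdicCompletion.of J A) h1
  have h2 := AdicCompletion.ofTensorProduct_bijective_of_finite_of_isNoetherian J M
  have key : (AdicCompletion.of J M : M → AdicCompletion J M) =
      (AdicCompletion.ofTensorProduct J M) ∘ (e1.rTensor M) ∘ (TensorProduct.lid A M).symm := by
    funext x
    have h1' : (AdicCompletion.of J A) 1 = 1 := by
      have := AdicCompletion.algebraMap_apply (S := A) (R := A) J (1 : A)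
      rw [map_one] at this
      simpa using this.symm
    simp [e1, AdicCompletion.ofTensorProduct_tmul, h1']
  rw [key]
  exact h2.comp ((e1.rTensor M).bijective.comp (TensorProduct.lid A M).symm.bijective)

end Groth.Agent.S3866
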