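import Groth.Statements.S3867
import Mathlib
import Groth.Agent.H20.IdealSh

set_option autoImplicit false
universe u
open FCompl

namespace Groth.Agent.S3867

open CategoryTheory CategoryTheory.Limits Groth.Agent.H20.IdealSh

open AlgebraicGeometry in
/-- Formal spectra are presented as the systems Spec(A/I^(n+1)) and Spec(B/K^(n+1)), a morphism of
systems being adic when all its squares are cartesian. Let A be a Noetherian ring, complete and
separated for the I-adic topology of an ideal I, K an ideal of a ring B and φ : B → A a ring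
homomorphism with φ(K) ⊆ I. Then the induced morphism Spf(A) → Spf(B) is adic if and only if the
ideal of A generated by φ(K) is I. -/
theorem result (A B : Type u) [CommRing A] [CommRing B] [IsNoetherianRing A]
    (I : Ideal A) (K : Ideal B) [IsAdicComplete I A] (φ : B →+* A) (h : K ≤ I.comap φ) :
    FSch.IsAdicHom (FSch.spfMap I K φ h) ↔ K.map φ = I := by
  -- notation
  let fA : ∀ n : ℕ, A ⧸ I ^ (n + 2) →+* A ⧸ I ^ (n + 1) := fun n =>
    Ideal.Quotient.factor (Ideal.pow_le_pow_right (Nat.le_succ (n + 1)))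
  let fB : ∀ n : ℕ, B ⧸ K ^ (n + 2) →+* B ⧸ K ^ (n + 1) := fun n =>
    Ideal.Quotient.factor (Ideal.pow_le_pow_right (Nat.le_succ (n + 1)))
  let ψ : ∀ n : ℕ, B ⧸ K ^ (n + 1) →+* A ⧸ I ^ (n + 1) := fun n => FSch.quotPowMap I K φ h n
  have hfA : ∀ n, Function.Surjective (fA n) := fun n => Ideal.Quotient.factor_surjective _
  have hfB : ∀ n, Function.Surjective (fB n) := fun n => Ideal.Quotient.factor_surjective _
  have hkA : ∀ n, RingHom.ker (fA n) = (I ^ (n + 1)).map (Ideal.Quotient.mk (I ^ (n + 2))) :=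
    fun n => Ideal.Quotient.factor_ker _
  have hkB : ∀ n, RingHom.ker (fB n) = (K ^ (n + 1)).map (Ideal.Quotient.mk (K ^ (n + 2))) :=
    fun n => Ideal.Quotient.factor_ker _
  have hψ : ∀ n, (ψ (n + 1)).comp (Ideal.Quotient.mk (K ^ (n + 2))) =
      (Ideal.Quotient.mk (I ^ (n + 2))).comp φ := by
    intro n
    apply RingHom.ext
    intro b
    rfl
  -- kernel computation
  have hcomap : ∀ n, (Spec.map (CommRingCat.ofHom (fB n))).ker.comap
      (Spec.map (CommRingCat.ofHom (ψ (n + 1)))) =
      ofI (CommRingCat.of (A ⧸ I ^ (n + 2)))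
        (((K.map φ) ^ (n + 1)).map (Ideal.Quotient.mk (I ^ (n + 2)))) := by
    intro n
    rw [ker_Spec_map, comap_ofI]
    congr 1
    rw [CommRingCat.hom_ofHom, CommRingCat.hom_ofHom, hkB, Ideal.map_map, hψ, ← Ideal.map_map,
      Ideal.map_pow]
  have hkerA : ∀ n, (Spec.map (CommRingCat.ofHom (fA n))).ker =
      ofI (CommRingCat.of (A ⧸ I ^ (n + 2)))
        ((I ^ (n + 1)).map (Ideal.Quotient.mk (I ^ (n + 2)))) := by
    intro n
    rw [ker_Spec_map]
    congr 1
    rw [CommRingCat.hom_ofHom, hkA]
  constructor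
  · intro hadic
    have P : IsPullback (Spec.map (CommRingCat.ofHom (fA 0))) (Spec.map (CommRingCat.ofHom (ψ 0)))
        (Spec.map (CommRingCat.ofHom (ψ (0 + 1)))) (Spec.map (CommRingCat.ofHom (fB 0))) := hadic 0
    haveI : IsClosedImmersion (Spec.map (CommRingCat.ofHom (fB 0))) :=
      IsClosedImmersion.spec_of_surjective _ (hfB 0)
    have hk : (Spec.map (CommRingCat.ofHom (fA 0))).ker =
        (Spec.map (CommRingCat.ofHom (fB 0))).ker.comap
          (Spec.map (CommRingCat.ofHom (ψ (0 + 1)))) :=
      calc (Spec.map (CommRingCat.ofHom (fA 0))).ker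
          = Scheme.Hom.ker (P.isoPullback.hom ≫ pullback.fst (Spec.map (CommRingCat.ofHom (ψ (0 + 1))))
              (Spec.map (CommRingCat.ofHom (fB 0)))) := by rw [P.isoPullback_hom_fst]
        _ = Scheme.Hom.ker (pullback.fst (Spec.map (CommRingCat.ofHom (ψ (0 + 1))))
              (Spec.map (CommRingCat.ofHom (fB 0)))) := Scheme.Hom.ker_comp_of_isIso _ _
        _ = _ := Scheme.IdealSheafData.ker_fst_of_isClosedImmersion _ _
    rw [hkerA, hcomap] at hk
    have h4 := ofI_injective hk
    have h5 : I ≤ K.map φ ⊔ I • I := by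
      have h6 := congrArg (Ideal.comap (Ideal.Quotient.mk (I ^ (0 + 2)))) h4
      rw [Ideal.comap_map_of_surjective _ Ideal.Quotient.mk_surjective,
        Ideal.comap_map_of_surjective _ Ideal.Quotient.mk_surjective,
        ← RingHom.ker_eq_comap_bot, Ideal.mk_ker] at h6
      simp only [zero_add, pow_one] at h6
      calc I ≤ I ⊔ I ^ 2 := le_sup_left
        _ = K.map φ ⊔ I ^ 2 := h6
        _ = K.map φ ⊔ I • I := by rw [smul_eq_mul, pow_two]
    have hle : K.map φ ≤ I := Ideal.map_le_iff_le_comap.mpr h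
    have hge : I ≤ K.map φ :=
      Submodule.le_of_le_smul_of_le_jacobson_bot (IsNoetherian.noetherian I)
        (IsAdicComplete.le_jacobson_bot I) h5
    exact le_antisymm hle hge
  · intro hKI n
    have key : IsPullback (Spec.map (CommRingCat.ofHom (fA n)))
        (Spec.map (CommRingCat.ofHom (ψ n)))
        (Spec.map (CommRingCat.ofHom (ψ (n + 1)))) (Spec.map (CommRingCat.ofHom (fB n))) := by
      haveI : IsClosedImmersion (Spec.map (CommRingCat.ofHom (fA n))) :=
        IsClosedImmersion.spec_of_surjective _ (hfA n)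
      haveI : IsClosedImmersion (Spec.map (CommRingCat.ofHom (fB n))) :=
        IsClosedImmersion.spec_of_surjective _ (hfB n)
      apply AlgebraicGeometry.isPullback_of_isClosedImmersion
      · exact ((FSch.spfMap I K φ h).comm n).symm
      · rw [hcomap, hkerA, hKI]
    exact key

end Groth.Agent.S3867
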