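import Groth.Statements.S3872
import Mathlib

set_option autoImplicit false
universe u
open FCompl

namespace Groth.Agent.S3872

section helpers
open IsLocalRing

theorem complMap_of {S T : Type u} [CommRing S] [CommRing T] (I : Ideal S) (K : Ideal T)
    (g : S →+* T) (h : I.map g ≤ K) (x : S) :
    FSch.complMap I K g h (AdicCompletion.of I S x) = AdicCompletion.of K T (g x) := by
  apply AdicCompletion.ext_evalₐ
  intro n
  unfold FSch.complMap
  generalize_proofs hp hq
  rw [AdicCompletion.evalₐ_liftRingHom, AdicCompletion.evalₐ_of]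
  · simp
  · first | exact @hq | exact @hp | assumption

theorem key (A : Type u) [CommRing A] (J 𝔭 : Ideal A) [𝔭.IsPrime] (hJ : J ≤ 𝔭)
    [IsLocalRing (FSch.cAtPrime A J 𝔭)] (x : FSch.cAtPrime A J 𝔭) :
    ∃ r : Localization.AtPrime 𝔭,
      x - algebraMap (Localization.AtPrime 𝔭) (FSch.cAtPrime A J 𝔭) r ∈
        maximalIdeal (FSch.cAtPrime A J 𝔭) := by
  have hI : J.map (algebraMap A (Localization.AtPrime 𝔭)) ≤
      maximalIdeal (Localization.AtPrime 𝔭) := by
    rw [← Localization.AtPrime.map_eq_maximalIdeal]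
    exact Ideal.map_mono hJ
  let ψ : FSch.cAtPrime A J 𝔭 →+*
      (Localization.AtPrime 𝔭 ⧸ maximalIdeal (Localization.AtPrime 𝔭)) :=
    (Ideal.Quotient.factor hI).comp
      (AdicCompletion.evalOneₐ (J.map (algebraMap A (Localization.AtPrime 𝔭)))).toRingHom
  have hsurj : Function.Surjective ψ :=
    (Ideal.Quotient.factor_surjective hI).comp (AdicCompletion.evalOneₐ_surjective _)
  letI : Field (Localization.AtPrime 𝔭 ⧸ maximalIdeal (Localization.AtPrime 𝔭)) :=
    Ideal.Quotient.field _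
  have hker : RingHom.ker ψ = maximalIdeal (FSch.cAtPrime A J 𝔭) :=
    IsLocalRing.eq_maximalIdeal (RingHom.ker_isMaximal_of_surjective ψ hsurj)
  have hψof : ∀ r : Localization.AtPrime 𝔭,
      ψ (algebraMap (Localization.AtPrime 𝔭) (FSch.cAtPrime A J 𝔭) r) =
        Ideal.Quotient.mk _ r := fun r => rfl
  obtain ⟨r, hr⟩ := Ideal.Quotient.mk_surjective (ψ x)
  refine ⟨r, ?_⟩
  rw [← hker, RingHom.mem_ker, map_sub, hψof, hr, sub_self]

theorem exists_away_preimage (A : Type u) [CommRing A] (𝔭 : Ideal A) [𝔭.IsPrime]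
    (r : Localization.AtPrime 𝔭) :
    ∃ (f : A) (hf : f ∉ 𝔭) (r' : Localization.Away f), FSch.awayToAtPrime A 𝔭 f hf r' = r := by
  obtain ⟨⟨a, s⟩, hr⟩ := IsLocalization.mk'_surjective 𝔭.primeCompl r
  have hr' : IsLocalization.mk' (Localization.AtPrime 𝔭) a s = r := hr
  subst hr'
  refine ⟨s.1, s.2, algebraMap A (Localization.Away (s.1 : A)) a *
    IsLocalization.Away.invSelf (S := Localization.Away (s.1 : A)) (s.1 : A), ?_⟩
  have hu : IsUnit (algebraMap A (Localization.AtPrime 𝔭) s.1) := IsLocalization.map_units _ s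
  have h1 : ∀ a : A, FSch.awayToAtPrime A 𝔭 s.1 s.2 (algebraMap A (Localization.Away s.1) a) =
      algebraMap A (Localization.AtPrime 𝔭) a := by
    intro a; simp [FSch.awayToAtPrime]
  have h2 : FSch.awayToAtPrime A 𝔭 s.1 s.2
      (IsLocalization.Away.invSelf (S := Localization.Away (s.1 : A)) (s.1 : A)) *
      algebraMap A (Localization.AtPrime 𝔭) s.1 = 1 := by
    rw [← h1, ← map_mul, mul_comm, IsLocalization.Away.mul_invSelf, map_one]
  apply (hu.mul_left_inj).mp
  rw [map_mul, h1, mul_assoc, h2, mul_one, IsLocalization.mk'_spec]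

theorem of_mem_stalk (A : Type u) [CommRing A] (J 𝔭 : Ideal A) [𝔭.IsPrime]
    (r : Localization.AtPrime 𝔭) :
    algebraMap (Localization.AtPrime 𝔭) (FSch.cAtPrime A J 𝔭) r ∈ FSch.stalkSubring A J 𝔭 := by
  obtain ⟨f, hf, r', rfl⟩ := exists_away_preimage A 𝔭 r
  have hle : (FSch.cAwayToAtPrime A J 𝔭 f hf).range ≤ FSch.stalkSubring A J 𝔭 :=
    le_iSup (fun f : {f : A // f ∉ 𝔭} => (FSch.cAwayToAtPrime A J 𝔭 f.1 f.2).range) ⟨f, hf⟩
  apply hle
  refine ⟨AdicCompletion.of _ _ r', ?_⟩
  exact complMap_of _ _ _ _ r'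

end helpers

/-- For a ring A, an ideal J and a prime ideal 𝔭 with J ⊆ 𝔭, let A{S⁻¹}, S = A ∖ 𝔭, be the completion of
A_𝔭 for the topology defined by the extension of J, and A_{S} the subring of A{S⁻¹} generated by the
images of the completed localizations A_{f}, f ∉ 𝔭 (the stalk ring of Spf(A) at 𝔭). Given that A_{S}
and A{S⁻¹} are local rings and that the inclusion A_{S} → A{S⁻¹} and the canonical map A_𝔭 → A{S⁻¹}
are local homomorphisms (all four are carried here as instance hypotheses; the two about A_{S} are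
stated separately), both maps induce bijections on residue fields; so the residue field of A_{S} is
the residue field κ(𝔭) of A_𝔭. -/
theorem result (A : Type u) [CommRing A] (J : Ideal A) (𝔭 : Ideal A)
    [𝔭.IsPrime] (hJ : J ≤ 𝔭) [IsLocalRing (FSch.stalkSubring A J 𝔭)] [IsLocalRing (FSch.cAtPrime A J 𝔭)]
    [IsLocalHom (FSch.stalkSubring A J 𝔭).subtype]
    [IsLocalHom (algebraMap (Localization.AtPrime 𝔭) (FSch.cAtPrime A J 𝔭))] :
    Function.Bijective (IsLocalRing.ResidueField.map (FSch.stalkSubring A J 𝔭).subtype) ∧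
      Function.Bijective
        (IsLocalRing.ResidueField.map (algebraMap (Localization.AtPrime 𝔭) (FSch.cAtPrime A J 𝔭))) := by
  classical
  have hkey := key A J 𝔭 hJ
  constructor
  · refine ⟨RingHom.injective _, ?_⟩
    intro y
    obtain ⟨x, rfl⟩ := IsLocalRing.residue_surjective y
    obtain ⟨r, hr⟩ := hkey x
    refine ⟨IsLocalRing.residue _ ⟨_, of_mem_stalk A J 𝔭 r⟩, ?_⟩
    rw [IsLocalRing.ResidueField.map_residue]
    exact (Ideal.Quotient.eq.mpr hr).symm
  · refine ⟨RingHom.injective _, ?_⟩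
    intro y
    obtain ⟨x, rfl⟩ := IsLocalRing.residue_surjective y
    obtain ⟨r, hr⟩ := hkey x
    refine ⟨IsLocalRing.residue _ r, ?_⟩
    rw [IsLocalRing.ResidueField.map_residue]
    exact (Ideal.Quotient.eq.mpr hr).symm

end Groth.Agent.S3872
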