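import Groth.Statements.S3875
import Mathlib
import Groth.Agent.H20.IdealSh
import Groth.Agent.H20.FSysPullback

set_option autoImplicit false
universe u
open FCompl

namespace Groth.Agent.S3875

open Groth.Agent.H20

open AlgebraicGeometry in
open CategoryTheory in
open CategoryTheory.Limits in
/-- Let g : X → S and h : Y → S be morphisms of schemes, R an ideal sheaf on X and J an ideal sheaf on
S, and consider the completions of S along J, of X along R, of Y along the inverse image of J under
h, and of X x_S Y along the inverse image of R under the first projection (completions presented by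
the subschemes of the powers of these ideal sheaves); this is the case where the closed subset of Y
is the full preimage of that of S. The four compatibility hypotheses between the powers of the ideal
sheaves (for g, for h, and for the two projections of X x_S Y): for each n, the inverse image of the
(n+1)-st power of the target ideal sheaf is contained in the (n+1)-st power of the source ideal
sheaf. These are hypotheses, carried as data for the completed morphisms; the published statement
assumes the schemes locally Noetherian, which this identity does not need. Then the square of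
completed morphisms from the completion of X x_S Y along the preimage of the closed subset of X, to
the completions of X and of Y, over the completion of S, is cartesian in the category of systems. -/
theorem result {X Y S : Scheme.{u}} (g : X ⟶ S) (h : Y ⟶ S)
    (𝓡 : X.IdealSheafData) (𝓙 : S.IdealSheafData)
    (hg : FSch.PowCompat g 𝓡 𝓙) (hh : FSch.PowCompat h (𝓙.comap h) 𝓙)
    (hp : FSch.PowCompat (pullback.fst g h) (𝓡.comap (pullback.fst g h)) 𝓡)
    (hq : FSch.PowCompat (pullback.snd g h) (𝓡.comap (pullback.fst g h)) (𝓙.comap h)) :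
    IsPullback (FSch.completionMap (pullback.fst g h) (𝓡.comap (pullback.fst g h)) 𝓡 hp)
      (FSch.completionMap (pullback.snd g h) (𝓡.comap (pullback.fst g h)) (𝓙.comap h) hq)
      (FSch.completionMap g 𝓡 𝓙 hg) (FSch.completionMap h (𝓙.comap h) 𝓙 hh) := by
  apply FSysTools.isPullback_of_levelwise
  intro n
  have A : IsPullback ((𝓡.comap (pullback.fst g h)) ^ (n + 1)).subschemeι (Scheme.IdealSheafData.subschemeMap ((𝓡.comap (pullback.fst g h)) ^ (n + 1)) (𝓡 ^ (n + 1)) (pullback.fst g h) (Scheme.IdealSheafData.le_map_iff_comap_le.mpr (hp n)))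
      (pullback.fst g h) (𝓡 ^ (n + 1)).subschemeι := by
    refine AlgebraicGeometry.isPullback_of_isClosedImmersion (ZX := ((𝓡.comap (pullback.fst g h)) ^ (n + 1)).subscheme)
      (ZY := (𝓡 ^ (n + 1)).subscheme) ((𝓡.comap (pullback.fst g h)) ^ (n + 1)).subschemeι (𝓡 ^ (n + 1)).subschemeι _ (pullback.fst g h) ?_ ?_
    · exact (Scheme.IdealSheafData.subschemeMap_subschemeι _ _ (pullback.fst g h) (Scheme.IdealSheafData.le_map_iff_comap_le.mpr (hp n))).symm
    · rw [Scheme.IdealSheafData.ker_subschemeι, Scheme.IdealSheafData.ker_subschemeι, IdealSh.comap_pow]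
  have C : IsPullback ((𝓙.comap h) ^ (n + 1)).subschemeι (Scheme.IdealSheafData.subschemeMap ((𝓙.comap h) ^ (n + 1)) (𝓙 ^ (n + 1)) (h) (Scheme.IdealSheafData.le_map_iff_comap_le.mpr (hh n)))
      h (𝓙 ^ (n + 1)).subschemeι := by
    refine AlgebraicGeometry.isPullback_of_isClosedImmersion (ZX := ((𝓙.comap h) ^ (n + 1)).subscheme)
      (ZY := (𝓙 ^ (n + 1)).subscheme) ((𝓙.comap h) ^ (n + 1)).subschemeι (𝓙 ^ (n + 1)).subschemeι _ h ?_ ?_
    · exact (Scheme.IdealSheafData.subschemeMap_subschemeι _ _ h (Scheme.IdealSheafData.le_map_iff_comap_le.mpr (hh n))).symm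
    · rw [Scheme.IdealSheafData.ker_subschemeι, Scheme.IdealSheafData.ker_subschemeι, IdealSh.comap_pow]
  have B : IsPullback (pullback.fst g h) (pullback.snd g h) g h := IsPullback.of_hasPullback g h
  have AB := A.flip.paste_vert B
  have e1 : ((𝓡.comap (pullback.fst g h)) ^ (n + 1)).subschemeι ≫ pullback.snd g h = (Scheme.IdealSheafData.subschemeMap ((𝓡.comap (pullback.fst g h)) ^ (n + 1)) ((𝓙.comap h) ^ (n + 1)) (pullback.snd g h) (Scheme.IdealSheafData.le_map_iff_comap_le.mpr (hq n))) ≫ ((𝓙.comap h) ^ (n + 1)).subschemeι :=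
    (Scheme.IdealSheafData.subschemeMap_subschemeι _ _ (pullback.snd g h) (Scheme.IdealSheafData.le_map_iff_comap_le.mpr (hq n))).symm
  have e2 : (𝓡 ^ (n + 1)).subschemeι ≫ g = (Scheme.IdealSheafData.subschemeMap (𝓡 ^ (n + 1)) (𝓙 ^ (n + 1)) (g) (Scheme.IdealSheafData.le_map_iff_comap_le.mpr (hg n))) ≫ (𝓙 ^ (n + 1)).subschemeι :=
    (Scheme.IdealSheafData.subschemeMap_subschemeι _ _ g (Scheme.IdealSheafData.le_map_iff_comap_le.mpr (hg n))).symm
  rw [e1, e2] at AB
  refine IsPullback.of_bot AB ?_ C.flip
  show (Scheme.IdealSheafData.subschemeMap ((𝓡.comap (pullback.fst g h)) ^ (n + 1)) (𝓡 ^ (n + 1)) (pullback.fst g h) (Scheme.IdealSheafData.le_map_iff_comap_le.mpr (hp n))) ≫ (Scheme.IdealSheafData.subschemeMap (𝓡 ^ (n + 1)) (𝓙 ^ (n + 1)) (g) (Scheme.IdealSheafData.le_map_iff_comap_le.mpr (hg n))) =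
    (Scheme.IdealSheafData.subschemeMap ((𝓡.comap (pullback.fst g h)) ^ (n + 1)) ((𝓙.comap h) ^ (n + 1)) (pullback.snd g h) (Scheme.IdealSheafData.le_map_iff_comap_le.mpr (hq n))) ≫ (Scheme.IdealSheafData.subschemeMap ((𝓙.comap h) ^ (n + 1)) (𝓙 ^ (n + 1)) (h) (Scheme.IdealSheafData.le_map_iff_comap_le.mpr (hh n)))
  rw [← cancel_mono (𝓙 ^ (n + 1)).subschemeι]
  simp only [Category.assoc, Scheme.IdealSheafData.subschemeMap_subschemeι,
    Scheme.IdealSheafData.subschemeMap_subschemeι_assoc]
  rw [pullback.condition]

end Groth.Agent.S3875
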