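import Groth.Statements.S3886
import Mathlib

set_option autoImplicit false
universe u
open CategoryTheory
open Hyper

namespace Groth.Agent.S3886


section helpers

open Limits Opposite Simplicial AlgebraicTopology

variable {C : Type u} [SmallCategory C] (X : C) (P : Cᵒᵖ ⥤ AddCommGrpCat.{u})

/-- the evaluation functor on formal coproducts -/
noncomputable abbrev Efun :
    (FormalCoproduct.{u} (Over X))ᵒᵖ ⥤ AddCommGrpCat.{u} :=
  (FormalCoproduct.evalOp.{u} (Over X) AddCommGrpCat.{u}).obj ((Over.forget X).op ⋙ P)

/-- the whiskering functor to simplicial objects of the opposite category -/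
noncomputable abbrev Wfun : SimplicialObject (FormalCoproduct.{u} (Over X)) ⥤
    SimplicialObject AddCommGrpCat.{u}ᵒᵖ :=
  (SimplicialObject.whiskering _ _).obj (Efun X P).rightOp

theorem d_unop (S : SimplicialObject (FormalCoproduct.{u} (Over X))) (i : ℕ) :
    (((alternatingFaceMapComplex AddCommGrpCat.{u}ᵒᵖ).obj ((Wfun X P).obj S)).d (i + 1) i).unop =
      (Hyper.cechCx X S P).d i (i + 1) := by
  have e1 : ((alternatingFaceMapComplex AddCommGrpCat.{u}ᵒᵖ).obj ((Wfun X P).obj S)).d (i + 1) i =
      ∑ k : Fin (i + 2), (-1 : ℤ) ^ (k : ℕ) • ((Wfun X P).obj S).δ k :=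
    AlternatingFaceMapComplex.obj_d_eq _ i
  have e2 : (Hyper.cechCx X S P).d i (i + 1) =
      ∑ k : Fin (i + 2), (-1 : ℤ) ^ (k : ℕ) •
        CosimplicialObject.δ (S.rightOp ⋙ Efun X P) k :=
    CochainComplex.of_d (fun n => (S.rightOp ⋙ Efun X P).obj ⦋n⦌)
      (AlternatingCofaceMapComplex.objD (S.rightOp ⋙ Efun X P)) i
  refine (congrArg Quiver.Hom.unop e1).trans (((unop_sum _ _ _ _).trans ?_).trans e2.symm)
  refine Finset.sum_congr rfl (fun k _ => ?_)
  exact (unop_zsmul _ _ _).trans rfl

variable {K L : SimplicialObject (FormalCoproduct.{u} (Over X))}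

theorem f_unop (a : L ⟶ K) (i : ℕ) :
    (((alternatingFaceMapComplex AddCommGrpCat.{u}ᵒᵖ).map ((Wfun X P).map a)).f i).unop =
      (Hyper.cechMap X a P).f i := rfl

/-- the induced cochain homotopy -/
noncomputable def cechHomotopy (a b : L ⟶ K) (H : SimplicialObject.Homotopy a b) :
    Homotopy (Hyper.cechMap X a P) (Hyper.cechMap X b P) :=
  let h' := (H.whiskerRight (Efun X P).rightOp).toChainHomotopy
  { hom := fun i j => (h'.hom j i).unop
    zero := fun i j hij => by
      show (h'.hom j i).unop = 0
      rw [h'.zero j i hij]; rfl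
    comm := fun i => by
      cases i with
      | zero =>
        have e1 := Homotopy.dNext_cochainComplex (P := Hyper.cechCx X K P)
          (Q := Hyper.cechCx X L P) (fun i j => (h'.hom j i).unop) 0
        have e2 := Homotopy.prevD_zero_cochainComplex (P := Hyper.cechCx X K P)
          (Q := Hyper.cechCx X L P) (fun i j => (h'.hom j i).unop)
        have hc := h'.comm 0
        have e3 := Homotopy.dNext_zero_chainComplex (h'.hom)
        have e4 := Homotopy.prevD_chainComplex (h'.hom) 0
        rw [e3, e4, zero_add] at hc
        have hc' := congrArg Quiver.Hom.unop hc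
        rw [unop_add, unop_comp, d_unop X P K 0, f_unop X P a 0, f_unop X P b 0] at hc'
        rw [e1, e2, add_zero]
        exact hc'
      | succ i =>
        have e1 := Homotopy.dNext_cochainComplex (P := Hyper.cechCx X K P)
          (Q := Hyper.cechCx X L P) (fun i j => (h'.hom j i).unop) (i + 1)
        have e2 := Homotopy.prevD_succ_cochainComplex (P := Hyper.cechCx X K P)
          (Q := Hyper.cechCx X L P) (fun i j => (h'.hom j i).unop) i
        have hc := h'.comm (i + 1)
        have e3 := Homotopy.dNext_succ_chainComplex (h'.hom) i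
        have e4 := Homotopy.prevD_chainComplex (h'.hom) (i + 1)
        rw [e3, e4] at hc
        have hc' := congrArg Quiver.Hom.unop hc
        rw [unop_add, unop_add, unop_comp, unop_comp, d_unop X P K (i + 1), d_unop X P L i,
          f_unop X P a (i + 1), f_unop X P b (i + 1)] at hc'
        rw [e1, e2, add_comm (_ ≫ _) (_ ≫ _)]
        exact hc' }

end helpers

open Opposite CategoryTheory.Limits in
/-- Let a, b : L -> K be two morphisms of simplicial semi-representable objects over an object X of a
small category (simplicial objects in formal coproducts of objects over X), homotopic in the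
combinatorial (simplicial) sense. Then for every presheaf of abelian groups P and every p, a and b
induce the same map from the p-th Cech cohomology group of P with respect to K to that with respect
to L. -/
theorem result {C : Type u} [SmallCategory C] (X : C)
    {K L : SimplicialObject (FormalCoproduct.{u} (Over X))} (a b : L ⟶ K)
    (h : Nonempty (SimplicialObject.Homotopy a b)) (P : Cᵒᵖ ⥤ AddCommGrpCat.{u}) (p : ℕ) :
    Hyper.cechHMap X a P p = Hyper.cechHMap X b P p := by
  obtain ⟨H⟩ := h
  exact congrArg AddCommGrpCat.Hom.hom ((cechHomotopy X P a b H).homologyMap_eq p)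

end Groth.Agent.S3886
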