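import Groth.Statements.S3894
import Mathlib

set_option autoImplicit false
universe u
open CategoryTheory CategoryTheory.Limits Opposite
open Tors

namespace Groth.Agent.S3894

/-- A torsor P under an abelian sheaf G is trivial, i.e. equivariantly isomorphic to G acting on itself
by translations, if and only if P has a global section (a morphism from the final sheaf of sets). -/
theorem result {C : Type u} [SmallCategory C] {J : GrothendieckTopology C}
    {G : Sheaf J AddCommGrpCat.{u}} (T : Tors.Torsor G) : T.IsTrivial ↔ T.HasSection := by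
  constructor
  · rintro ⟨e, -⟩
    have hnat : ∀ {U V : Cᵒᵖ} (f : U ⟶ V),
        T.P.obj.map f (e.hom.hom.app U (0 : G.obj.obj U)) = e.hom.hom.app V (0 : G.obj.obj V) := by
      intro U V f
      have h := types_congr_hom (e.hom.hom.naturality f) (0 : G.obj.obj U)
      have h0 : (G.obj.map f) (0 : G.obj.obj U) = (0 : G.obj.obj V) := map_zero _
      calc T.P.obj.map f (e.hom.hom.app U (0 : G.obj.obj U))
          = e.hom.hom.app V ((G.obj.map f) (0 : G.obj.obj U)) := h.symm
        _ = _ := by rw [h0]
    exact ⟨⟨{ app := fun U => TypeCat.ofHom (fun _ => e.hom.hom.app U (0 : G.obj.obj U))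
              naturality := fun U V f => by
                apply ConcreteCategory.hom_ext
                intro x
                exact (hnat f).symm }⟩⟩
  · rintro ⟨φ⟩
    let Gs := (sheafCompose J (forget AddCommGrpCat.{u})).obj G
    let t : Gs ⟶ ⊤_ (Sheaf J (Type u)) := terminal.from Gs
    let s : ∀ U : Cᵒᵖ, T.P.obj.obj U := fun U => φ.hom.app U (t.hom.app U (0 : G.obj.obj U))
    have hs : ∀ {U V : Cᵒᵖ} (f : U ⟶ V), T.P.obj.map f (s U) = s V := by
      intro U V f
      have h1 := types_congr_hom (φ.hom.naturality f) (t.hom.app U (0 : G.obj.obj U))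
      have h2 := types_congr_hom (t.hom.naturality f) (0 : G.obj.obj U)
      have h0 : (G.obj.map f) (0 : G.obj.obj U) = (0 : G.obj.obj V) := map_zero _
      calc T.P.obj.map f (s U)
          = φ.hom.app V ((⊤_ (Sheaf J (Type u))).obj.map f (t.hom.app U (0 : G.obj.obj U))) :=
            h1.symm
        _ = φ.hom.app V (t.hom.app V ((G.obj.map f) (0 : G.obj.obj U))) := congrArg _ h2.symm
        _ = s V := by rw [h0]
    let η : Gs.obj ⟶ T.P.obj :=
      { app := fun U => TypeCat.ofHom (fun g => T.vadd (g : G.obj.obj U) (s U))
        naturality := fun U V f => by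
          apply ConcreteCategory.hom_ext
          intro g
          show T.vadd ((G.obj.map f) (g : G.obj.obj U)) (s V) = T.P.obj.map f (T.vadd (g : G.obj.obj U) (s U))
          rw [T.map_vadd, hs] }
    have hbij : ∀ U, Function.Bijective (η.app U) := by
      intro U
      constructor
      · intro g h hgh
        obtain ⟨g0, hg0, huniq⟩ := T.free_transitive (s U) (T.vadd (h : G.obj.obj U) (s U))
        exact (huniq g hgh).trans (huniq h rfl).symm
      · intro q
        obtain ⟨g, hg, -⟩ := T.free_transitive (s U) q
        exact ⟨g, hg⟩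
    haveI : ∀ U, IsIso (η.app U) := fun U => (isIso_iff_bijective _).mpr (hbij U)
    haveI hη : IsIso η := NatIso.isIso_of_isIso_app η
    let ηs : Gs ⟶ T.P := ⟨η⟩
    haveI : IsIso ((sheafToPresheaf J (Type u)).map ηs) := hη
    haveI : IsIso ηs := isIso_of_reflects_iso ηs (sheafToPresheaf J (Type u))
    refine ⟨asIso ηs, fun U g h => ?_⟩
    show T.vadd (g + h) (s U) = T.vadd g (T.vadd h (s U))
    exact T.add_vadd g h (s U)

end Groth.Agent.S3894
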