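import Groth.Statements.S3896
import Mathlib

set_option autoImplicit false
open CategoryTheory CategoryTheory.Limits AlgebraicGeometry Opposite
universe u
open EtDesc

namespace Groth.Agent.S3896

universe w

section helpers

variable {X : Scheme.{u}}

theorem eX' (X : Scheme.{u}) : X.smallEtaleTopology =
    (X.smallPretopology (P := @Etale) (Q := @Etale)).toGrothendieck :=
  Scheme.smallGrothendieckTopology_eq_toGrothendieck_smallPretopology X le_rfl

set_option backward.isDefEq.respectTransparency.types false in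
theorem hom_subsingleton (W : X.Opens) (Z : X.Etale) : Subsingleton (Z ⟶ EtDesc.ofOpen W) := by
  constructor
  intro a b
  apply MorphismProperty.Over.Hom.ext
  have ha : a.left ≫ W.ι = Z.hom := Over.w a.hom
  have hb : b.left ≫ W.ι = Z.hom := Over.w b.hom
  exact (cancel_mono W.ι).1 (ha.trans hb.symm)

set_option backward.isDefEq.respectTransparency.types false in
theorem le_of_hom' (W₁ W₂ : X.Opens) (k : EtDesc.ofOpen W₁ ⟶ EtDesc.ofOpen W₂) : W₁ ≤ W₂ := by
  have hk : k.left ≫ W₂.ι = W₁.ι := Over.w k.hom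
  intro s hs
  have h1 : s ∈ Set.range W₁.ι := by rw [Scheme.Opens.range_ι]; exact hs
  obtain ⟨t, rfl⟩ := h1
  have h2 : W₁.ι t ∈ Set.range W₂.ι :=
    ⟨k.left t, congrArg (fun m : (W₁ : Scheme.{u}) ⟶ X => m t) hk⟩
  rwa [Scheme.Opens.range_ι] at h2

set_option backward.isDefEq.respectTransparency.types false in
theorem nonempty_hom_of_range (W : X.Opens) (Z : X.Etale)
    (hr : Set.range (Z.hom : Z.left ⟶ X) ⊆ (W : Set X)) : Nonempty (Z ⟶ EtDesc.ofOpen W) := by
  have hoi : IsOpenImmersion W.ι := inferInstance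
  let zh : Z.left ⟶ X := Z.hom
  have hr' : Set.range zh ⊆ Set.range W.ι := by rw [Scheme.Opens.range_ι]; exact hr
  exact ⟨MorphismProperty.Over.homMk (@IsOpenImmersion.lift _ _ _ W.ι zh hoi hr')
    (@IsOpenImmersion.lift_fac _ _ _ W.ι zh hoi hr')⟩

set_option backward.isDefEq.respectTransparency.types false in
theorem range_subset_of_hom (W : X.Opens) (Z : X.Etale) (k : Z ⟶ EtDesc.ofOpen W) :
    Set.range (Z.hom : Z.left ⟶ X) ⊆ (W : Set X) := by
  rintro s ⟨p, rfl⟩
  have hk : k.left ≫ W.ι = Z.hom := Over.w k.hom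
  have h : (Z.hom : Z.left ⟶ X) p ∈ Set.range W.ι :=
    ⟨k.left p, congrArg (fun m : Z.left ⟶ X => m p) hk⟩
  rwa [Scheme.Opens.range_ι] at h

set_option backward.isDefEq.respectTransparency.types false in
theorem exists_open_of_subsingleton (F : Sheaf X.smallEtaleTopology (Type w))
    (hF : ∀ Z : X.Etale, Subsingleton (F.obj.obj (op Z))) :
    ∃ W : X.Opens, ∀ Z : X.Etale,
      Nonempty (F.obj.obj (op Z)) ↔ Nonempty (Z ⟶ EtDesc.ofOpen W) := by
  let Wset : Set ↥X := ⋃ (U : X.Etale) (_ : Nonempty (F.obj.obj (op U))),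
    Set.range (U.hom : U.left ⟶ X)
  have hWopen : IsOpen Wset := by
    refine isOpen_iUnion fun U => isOpen_iUnion fun _ => ?_
    exact (U.hom : U.left ⟶ X).isOpenMap.isOpen_range
  refine ⟨⟨Wset, hWopen⟩, ?_⟩
  intro U
  constructor
  · rintro ⟨x⟩
    apply nonempty_hom_of_range
    intro s hs
    exact Set.mem_iUnion.2 ⟨U, Set.mem_iUnion.2 ⟨⟨x⟩, hs⟩⟩
  · rintro ⟨k⟩
    let T : Sieve U :=
      { arrows := fun Z _ => Nonempty (F.obj.obj (op Z))
        downward_closed := by
          intro Z Z' g hg m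
          obtain ⟨x⟩ := hg
          exact ⟨F.obj.map m.op x⟩ }
    have hT : T ∈ X.smallEtaleTopology U := by
      rw [eX']
      refine (Scheme.mem_toGrothendieck_smallPretopology U T).2 ?_
      intro p
      have hp : (U.hom : U.left ⟶ X) p ∈ Wset :=
        range_subset_of_hom ⟨Wset, hWopen⟩ U k ⟨p, rfl⟩
      obtain ⟨U', hU'⟩ := Set.mem_iUnion.1 hp
      obtain ⟨⟨x'⟩, p', hp'⟩ := Set.mem_iUnion.1 hU'
      let Z : X.Etale := Scheme.Etale.mk (pullback.fst U.hom U'.hom ≫ U.hom)
      let k1 : Z ⟶ U := MorphismProperty.Over.homMk (pullback.fst U.hom U'.hom) rfl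
      let k2 : Z ⟶ U' := MorphismProperty.Over.homMk (pullback.snd U.hom U'.hom)
        pullback.condition.symm
      obtain ⟨z, hz1, hz2⟩ := Scheme.Pullback.exists_preimage_pullback
        (f := U.hom) (g := U'.hom) p p' hp'.symm
      exact ⟨Z, k1, z, ⟨F.obj.map k2.op x'⟩, inferInstanceAs (Etale k1.left), hz1⟩
    have hsh := ((isSheaf_iff_isSheaf_of_type _ _).1 F.property) T hT
    let x : Presieve.FamilyOfElements F.obj T.arrows := fun Z g hg => Classical.choice hg
    have hx : x.Compatible := by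
      intro Y₁ Y₂ Z g₁ g₂ f₁ f₂ h₁ h₂ _
      exact @Subsingleton.elim _ (hF Z) _ _
    exact ⟨hsh.amalgamate x hx⟩

theorem ulift_hom_subsingleton (W : X.Opens) (Z : X.Etale) :
    Subsingleton ((yoneda.obj (EtDesc.ofOpen W) ⋙ uliftFunctor.{u + 1, u}).obj (op Z)) :=
  @Equiv.subsingleton (ULift.{u + 1} (Z ⟶ EtDesc.ofOpen W)) _ Equiv.ulift (hom_subsingleton W Z)

set_option backward.isDefEq.respectTransparency.types false in
theorem isSheaf_PU (U : X.Opens) :
    Presheaf.IsSheaf X.smallEtaleTopology
      (yoneda.obj (EtDesc.ofOpen U) ⋙ uliftFunctor.{u + 1, u}) := by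
  rw [isSheaf_iff_isSheaf_of_type]
  intro Z T hT x hx
  have hT2 : T ∈ (X.smallPretopology (P := @Etale) (Q := @Etale)).toGrothendieck Z := by
    rw [← eX']; exact hT
  have hT' := (Scheme.mem_toGrothendieck_smallPretopology Z T).1 hT2
  have hne : Nonempty (Z ⟶ EtDesc.ofOpen U) := by
    apply nonempty_hom_of_range
    rintro s ⟨p, rfl⟩
    obtain ⟨Z', k, p', hk, -, hp'⟩ := hT' p
    let y : ULift.{u + 1} (Z' ⟶ EtDesc.ofOpen U) := x k hk
    have h1 := range_subset_of_hom U Z' y.down ⟨p', rfl⟩
    have e2 : k.left ≫ Z.hom = Z'.hom := Over.w k.hom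
    have e3 : (Z.hom : Z.left ⟶ X) (k.left p') = (Z'.hom : Z'.left ⟶ X) p' :=
      congrArg (fun m : Z'.left ⟶ X => m p') e2
    rw [← hp', e3]
    exact h1
  obtain ⟨k0⟩ := hne
  refine ⟨ULift.up k0, fun Z' k hk => @Subsingleton.elim _ (ulift_hom_subsingleton U Z') _ _,
    fun y _ => @Subsingleton.elim _ (ulift_hom_subsingleton U Z) _ _⟩

/-- Identification of the presheaf of `repSh (ofOpen U)` with the (ulifted) representable one. -/
noncomputable def eU (U : X.Opens) :
    (yoneda.obj (EtDesc.ofOpen U) ⋙ uliftFunctor.{u + 1, u}) ≅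
      (EtDesc.repSh (EtDesc.ofOpen U)).obj :=
  isoSheafify X.smallEtaleTopology (isSheaf_PU U)

theorem repSh_subsingleton (U : X.Opens) (Z : X.Etale) :
    Subsingleton ((EtDesc.repSh (EtDesc.ofOpen U)).obj.obj (op Z)) :=
  @Equiv.subsingleton _ _ ((eU U).app (op Z)).toEquiv.symm (ulift_hom_subsingleton U Z)

end helpers


/-- Let X be a scheme. Sending a Zariski open U of X to the etale sheaf of sets attached to the open
immersion U -> X gives an isomorphism of ordered sets from the opens of X onto the subobjects of the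
final object of the etale topos of X: (a) each such sheaf is a subobject of the final sheaf; (b) U ≤
V if and only if there is a morphism between the attached sheaves; (c) every subobject of the final
sheaf is isomorphic to the sheaf attached to some open. -/
theorem result (X : Scheme.{u}) :
    (∀ U : X.Opens, Mono (terminal.from (EtDesc.repSh (EtDesc.ofOpen U)))) ∧
    (∀ U V : X.Opens, U ≤ V ↔ Nonempty (EtDesc.repSh (EtDesc.ofOpen U) ⟶ EtDesc.repSh (EtDesc.ofOpen V))) ∧
    (∀ F : EtDesc.Sh X, Mono (terminal.from F) → ∃ U : X.Opens, Nonempty (F ≅ EtDesc.repSh (EtDesc.ofOpen U))) := by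
  refine ⟨?_, ?_, ?_⟩
  · -- (a)
    intro U
    constructor
    intro K a b _
    apply Sheaf.hom_ext
    apply NatTrans.ext
    funext Z
    apply ConcreteCategory.hom_ext
    intro x
    exact @Subsingleton.elim _ (repSh_subsingleton U Z.unop) _ _
  · -- (b)
    intro U V
    constructor
    · intro h
      let m : EtDesc.ofOpen U ⟶ EtDesc.ofOpen V :=
        MorphismProperty.Over.homMk (X.homOfLE h) (X.homOfLE_ι h)
      exact ⟨(presheafToSheaf X.smallEtaleTopology (Type (u + 1))).map
        (Functor.whiskerRight (yoneda.map m) uliftFunctor.{u + 1, u})⟩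
    · rintro ⟨g⟩
      let idU : (yoneda.obj (EtDesc.ofOpen U) ⋙ uliftFunctor.{u + 1, u}).obj
          (op (EtDesc.ofOpen U)) := ULift.up (𝟙 _)
      let t : ULift.{u + 1} (EtDesc.ofOpen U ⟶ EtDesc.ofOpen V) :=
        ((eU V).inv.app (op (EtDesc.ofOpen U)))
          ((g.hom.app (op (EtDesc.ofOpen U))) (((eU U).hom.app (op (EtDesc.ofOpen U))) idU))
      exact le_of_hom' U V t.down
  · -- (c)
    intro F hF
    let hT0 := Sheaf.isTerminalTerminal X.smallEtaleTopology
      (Types.isTerminalPunit : IsTerminal (PUnit : Type (u + 1)))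
    let T0 := Sheaf.terminal X.smallEtaleTopology
      (Types.isTerminalPunit : IsTerminal (PUnit : Type (u + 1)))
    have e : hT0.from F = terminal.from F ≫ hT0.from (⊤_ (EtDesc.Sh X)) := hT0.hom_ext _ _
    haveI : IsIso (hT0.from (⊤_ (EtDesc.Sh X))) :=
      ⟨⟨terminal.from _, terminalIsTerminal.hom_ext _ _, hT0.hom_ext _ _⟩⟩
    haveI : Mono (hT0.from F) := by rw [e]; exact mono_comp _ _
    have hsubF : ∀ Z : X.Etale, Subsingleton (F.obj.obj (op Z)) := by
      intro Z
      have h1 : Mono (hT0.from F).hom := inferInstance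
      have h2 := (NatTrans.mono_iff_mono_app _).1 h1 (op Z)
      have h3 : Function.Injective ((hT0.from F).hom.app (op Z)) := (mono_iff_injective _).1 h2
      constructor
      intro a b
      apply h3
      exact @Subsingleton.elim (PUnit : Type (u + 1)) _ _ _
    obtain ⟨W, key⟩ := exists_open_of_subsingleton F hsubF
    refine ⟨W, ?_⟩
    let e0 : F.obj ≅ (yoneda.obj (EtDesc.ofOpen W) ⋙ uliftFunctor.{u + 1, u}) :=
      NatIso.ofComponents (fun Z' =>
        { hom := TypeCat.ofHom (fun x => ULift.up (Classical.choice ((key Z'.unop).1 ⟨x⟩)))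
          inv := TypeCat.ofHom (fun k => Classical.choice ((key Z'.unop).2 ⟨k.down⟩))
          hom_inv_id := by
            apply ConcreteCategory.hom_ext
            intro x
            exact @Subsingleton.elim _ (hsubF Z'.unop) _ _
          inv_hom_id := by
            apply ConcreteCategory.hom_ext
            intro k
            exact @Subsingleton.elim _ (ulift_hom_subsingleton W Z'.unop) _ _ })
        (by
          intro Z' Z'' m
          apply ConcreteCategory.hom_ext
          intro x
          exact @Subsingleton.elim _ (ulift_hom_subsingleton W Z''.unop) _ _)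
    exact ⟨(fullyFaithfulSheafToPresheaf X.smallEtaleTopology (Type (u + 1))).preimageIso
      (e0 ≪≫ eU W)⟩

end Groth.Agent.S3896
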