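import Groth.Statements.S4064
import Groth.Agent.H23.ExtRealize

set_option autoImplicit false
universe w v v'
open CategoryTheory CategoryTheory.Abelian
open SGA7

namespace Groth.Agent.S4064

/-- Let P -> F -> R and R -> E -> Q be short exact sequences in an abelian category (F an extension of R
by P, E an extension of Q by R). A blended extension of E by F is an object X with a monomorphism i
: F -> X and an epimorphism p : X -> E such that P -> X -> E (via i) and F -> X -> Q (via p) are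
short exact and F -> X -> E is the composite F -> R -> E. Such an X exists if and only if the
composite of the two extension classes, an element of Ext^2(Q, P), is zero. -/
theorem result {C : Type w} [Category.{v} C] [Abelian C]
    [HasExt.{v'} C] {P F R E Q : C} (a : P ⟶ F) (b : F ⟶ R) (wF : a ≫ b = 0)
    (hF : (ShortComplex.mk a b wF).ShortExact) (c : R ⟶ E) (d : E ⟶ Q) (wE : c ≫ d = 0)
    (hE : (ShortComplex.mk c d wE).ShortExact) :
    (∃ (X : C) (i : F ⟶ X) (p : X ⟶ E), i ≫ p = b ≫ c ∧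
        (∃ w : (a ≫ i) ≫ p = 0, (ShortComplex.mk (a ≫ i) p w).ShortExact) ∧
        (∃ w : i ≫ (p ≫ d) = 0, (ShortComplex.mk i (p ≫ d) w).ShortExact)) ↔
      hE.extClass.comp hF.extClass (rfl : 1 + 1 = 2) = 0 := by
  letI := HasDerivedCategory.standard C
  have : Mono a := hF.mono_f
  have : Epi b := hF.epi_g
  have : Mono c := hE.mono_f
  have : Epi d := hE.epi_g
  constructor
  · rintro ⟨X, i, p, hip, -, ⟨w₂, hX⟩⟩
    obtain ⟨f, hf₁, hf₃⟩ : ∃ f : ShortComplex.mk i (p ≫ d) w₂ ⟶ ShortComplex.mk c d wE,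
        f.τ₁ = b ∧ f.τ₃ = 𝟙 Q :=
      ⟨{ τ₁ := b, τ₂ := p, τ₃ := 𝟙 Q, comm₁₂ := hip.symm, comm₂₃ := (Category.comp_id _).symm }, rfl, rfl⟩
    have nat := ShortComplex.ShortExact.extClass_naturality hX hE f
    rw [hf₁, hf₃, Ext.mk₀_id_comp] at nat
    rw [← nat, Ext.comp_assoc _ _ _ (add_zero 1) (zero_add 1) (by rfl)]
    have h2 : (Ext.mk₀ b).comp hF.extClass (zero_add 1) = 0 := hF.comp_extClass
    rw [h2, Ext.comp_zero]
  · intro h
    obtain ⟨ξ, hξ⟩ := Ext.covariant_sequence_exact₃ Q hF hE.extClass rfl h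
    have hξ' : ξ.hom ≫ ((DerivedCategory.singleFunctor C 0).map b)⟦(1 : ℤ)⟧' = hE.singleδ := by
      have h3 := congrArg Ext.hom hξ
      simp only [Ext.comp_hom, Ext.mk₀_hom, ShiftedHom.comp_mk₀] at h3
      exact h3.trans hE.extClass_hom
    obtain ⟨X, i, π, w, hX, hT⟩ := Groth.Agent.H23.ExtRealize.exists_shortExact ξ.hom
    obtain ⟨p', hp'1, hp'2⟩ := Pretriangulated.complete_distinguished_triangle_morphism₂ _ _ hT
      hE.singleTriangle_distinguished
      ((DerivedCategory.singleFunctor C 0).map b) (𝟙 _) (by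
        show ξ.hom ≫ ((DerivedCategory.singleFunctor C 0).map b)⟦(1 : ℤ)⟧' = 𝟙 _ ≫ hE.singleδ
        rw [Category.id_comp]; exact hξ')
    obtain ⟨p, rfl⟩ := (DerivedCategory.singleFunctor C 0).map_surjective p'
    have hip : i ≫ p = b ≫ c := (DerivedCategory.singleFunctor C 0).map_injective (by
      rw [CategoryTheory.Functor.map_comp, CategoryTheory.Functor.map_comp]; exact hp'1)
    have hpd : p ≫ d = π := (DerivedCategory.singleFunctor C 0).map_injective (by
      rw [CategoryTheory.Functor.map_comp]; exact hp'2.symm.trans (Category.comp_id _))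
    subst hpd
    have : Mono i := hX.mono_f
    have hπ : Epi (p ≫ d) := hX.epi_g
    have w₁ : (a ≫ i) ≫ p = 0 := by rw [Category.assoc, hip, ← Category.assoc, wF, Limits.zero_comp]
    refine ⟨X, i, p, hip, ⟨w₁, ShortComplex.ShortExact.mk' ?_ (by dsimp; infer_instance) ?_⟩,
      ⟨w, hX⟩⟩
    · rw [ShortComplex.exact_iff_exact_up_to_refinements]
      intro A' x hx
      have hx0 : x ≫ p = 0 := hx
      have hx' : x ≫ (p ≫ d) = 0 := by rw [← Category.assoc, hx0, Limits.zero_comp]
      obtain ⟨A₁, π₁, hπ₁, f, hf⟩ : ∃ (A₁ : C) (π₁ : A₁ ⟶ A') (_ : Epi π₁) (f : A₁ ⟶ F),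
          π₁ ≫ x = f ≫ i := hX.exact.exact_up_to_refinements x hx'
      have hfb : f ≫ b = 0 := by
        rw [← cancel_mono c, Category.assoc, ← hip, ← Category.assoc, ← hf, Category.assoc, hx0,
          Limits.comp_zero, Limits.zero_comp]
      obtain ⟨A₂, π₂, hπ₂, y, hy⟩ : ∃ (A₂ : C) (π₂ : A₂ ⟶ A₁) (_ : Epi π₂) (y : A₂ ⟶ P),
          π₂ ≫ f = y ≫ a := hF.exact.exact_up_to_refinements f hfb
      refine ⟨A₂, π₂ ≫ π₁, epi_comp' hπ₂ hπ₁, y, ?_⟩
      show (π₂ ≫ π₁) ≫ x = y ≫ a ≫ i
      rw [Category.assoc, hf, ← Category.assoc, hy, Category.assoc]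
    · show Epi p
      rw [Preadditive.epi_iff_cancel_zero]
      intro Z q hq
      have hcq : c ≫ q = 0 := by
        rw [← cancel_epi b, ← Category.assoc, ← hip, Category.assoc, hq, Limits.comp_zero, Limits.comp_zero]
      have : Epi (ShortComplex.mk c d wE).g := hE.epi_g
      obtain ⟨q', hq'⟩ : ∃ q' : Q ⟶ Z, d ≫ q' = q := hE.exact.desc' q hcq
      have hq'0 : q' = 0 := by
        rw [← cancel_epi (p ≫ d), Category.assoc, hq', hq, Limits.comp_zero]
      rw [← hq', hq'0, Limits.comp_zero]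

end Groth.Agent.S4064
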