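import Groth.Statements.S4183
import Mathlib
set_option linter.style.haveILetI false

set_option autoImplicit false
open CategoryTheory AlgebraicGeometry Topology TopologicalSpace
open An

namespace Groth.Agent.S4183

section Aux

variable {X : Scheme.{0}} [X.Over An.SC]

/-- evaluation as a ring hom -/
noncomputable def evHom (x : An.Pts X) (U : X.Opens) (h : x.pt ∈ U) : Γ(X, U) →+* ℂ :=
  (Scheme.ΓSpecIso (CommRingCat.of ℂ)).hom.hom.comp
    (x.1.appLE U ⊤ (An.Pts.top_le_preimage x h)).hom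

lemma ev_eq_evHom (x : An.Pts X) (U : X.Opens) (h : x.pt ∈ U) (f : Γ(X, U)) :
    x.ev U h f = evHom x U h f := rfl

lemma ev_res (x : An.Pts X) {U U' : X.Opens} (hUU' : U' ≤ U)
    (h' : x.pt ∈ U') (g : Γ(X, U)) :
    x.ev U' h' (X.presheaf.map (homOfLE hUU').op g) = x.ev U (hUU' h') g := by
  have key := ConcreteCategory.congr_hom
    (Scheme.Hom.map_appLE x.1 (An.Pts.top_le_preimage x h') (homOfLE hUU').op) g
  exact congrArg (fun z => (Scheme.ΓSpecIso (CommRingCat.of ℂ)).hom z) key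

lemma evTop_eq (x : An.Pts X) (f : Γ(X, ⊤)) :
    x.evTop f = (Scheme.ΓSpecIso (CommRingCat.of ℂ)).hom (x.1.appTop f) := by
  show (Scheme.ΓSpecIso (CommRingCat.of ℂ)).hom (x.1.appLE ⊤ ⊤ _ f) = _
  congr 1

lemma evTop_str (x : An.Pts X) (r : Γ(An.SC, ⊤)) :
    x.evTop ((X ↘ An.SC).appTop r) = (Scheme.ΓSpecIso (CommRingCat.of ℂ)).hom r := by
  rw [evTop_eq]
  have h : (X ↘ An.SC).appTop ≫ x.1.appTop = 𝟙 _ := by
    rw [← Scheme.Hom.comp_appTop, x.2]; rfl
  have := ConcreteCategory.congr_hom h r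
  congr 1

lemma mem_basicOpen_iff (x : An.Pts X) (h : Γ(X, ⊤)) :
    x.pt ∈ X.basicOpen h ↔ x.evTop h ≠ 0 := by
  rw [evTop_eq]
  have h1 : x.pt ∈ X.basicOpen h ↔ An.cpt ∈ x.1 ⁻¹ᵁ X.basicOpen h := Iff.rfl
  rw [h1, Scheme.preimage_basicOpen_top, basicOpen_eq_of_affine']
  have h2 : (An.cpt : PrimeSpectrum ℂ).asIdeal = ⊥ := Ideal.eq_bot_of_prime _
  show (Scheme.ΓSpecIso (CommRingCat.of ℂ)).hom (x.1.appTop h) ∉ (An.cpt : PrimeSpectrum ℂ).asIdeal ↔ _
  rw [h2, Ideal.mem_bot]

variable (n : ℕ)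

noncomputable def psi (v : Fin n → ℂ) : An.Pts (𝔸(Fin n; An.SC)) :=
  ⟨AffineSpace.homOfVector (𝟙 An.SC) (fun i => (Scheme.ΓSpecIso (CommRingCat.of ℂ)).inv (v i)),
    AffineSpace.homOfVector_over _ _⟩

lemma evTop_psi_coord (v : Fin n → ℂ) (i : Fin n) :
    (psi n v).evTop (AffineSpace.coord An.SC i) = v i := by
  rw [evTop_eq]
  show (Scheme.ΓSpecIso (CommRingCat.of ℂ)).hom
    ((AffineSpace.homOfVector (𝟙 An.SC) _).appTop (AffineSpace.coord An.SC i)) = v i
  rw [AffineSpace.homOfVector_appTop_coord]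
  exact Iso.inv_hom_id_apply (Scheme.ΓSpecIso (CommRingCat.of ℂ)) (v i)

lemma psi_phi (x : An.Pts (𝔸(Fin n; An.SC))) :
    psi n (fun i => x.evTop (AffineSpace.coord An.SC i)) = x := by
  apply Subtype.ext
  apply AffineSpace.hom_ext
  · exact (psi n _).2.trans x.2.symm
  · intro i
    show (AffineSpace.homOfVector (𝟙 An.SC) _).appTop (AffineSpace.coord An.SC i) = _
    rw [AffineSpace.homOfVector_appTop_coord]
    show (Scheme.ΓSpecIso (CommRingCat.of ℂ)).inv (x.evTop (AffineSpace.coord An.SC i)) = _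
    rw [evTop_eq]
    exact Iso.hom_inv_id_apply (Scheme.ΓSpecIso (CommRingCat.of ℂ)) _

lemma continuous_evTop_psi (s : Γ(𝔸(Fin n; An.SC), ⊤)) :
    Continuous (fun v : Fin n → ℂ => (psi n v).evTop s) := by
  let c : Γ(An.SC, ⊤) →+* Γ(𝔸(Fin n; An.SC), ⊤) := ((𝔸(Fin n; An.SC) ↘ An.SC).appTop).hom
  let E : MvPolynomial (Fin n) Γ(An.SC, ⊤) →+* Γ(𝔸(Fin n; An.SC), ⊤) :=
    MvPolynomial.eval₂Hom c (AffineSpace.coord An.SC)
  have hE : Function.Surjective E := by
    have h1 : CommRingCat.ofHom E = (Scheme.ΓSpecIso _).inv ≫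
        (AffineSpace.isoOfIsAffine (Fin n) An.SC).hom.appTop := by
      rw [AffineSpace.isoOfIsAffine_hom_appTop, Iso.inv_hom_id_assoc]
    haveI : IsIso (AffineSpace.isoOfIsAffine (Fin n) An.SC).hom.appTop :=
      inferInstanceAs (IsIso ((AffineSpace.isoOfIsAffine (Fin n) An.SC).hom.app ⊤))
    have h2 : IsIso (CommRingCat.ofHom E) := by rw [h1]; infer_instance
    exact (ConcreteCategory.bijective_of_isIso (CommRingCat.ofHom E)).2
  obtain ⟨p, rfl⟩ := hE s
  let σ : Γ(An.SC, ⊤) →+* ℂ := (Scheme.ΓSpecIso (CommRingCat.of ℂ)).hom.hom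
  have key : ∀ v : Fin n → ℂ,
      (psi n v).evTop (E p) = MvPolynomial.eval v (MvPolynomial.map σ p) := by
    intro v
    show evHom (psi n v) ⊤ (Opens.mem_top _)
      (MvPolynomial.eval₂ c (AffineSpace.coord An.SC) p) = _
    rw [MvPolynomial.eval₂_comp_left, MvPolynomial.eval_map]
    congr 1
    · ext r; exact evTop_str (psi n v) r
    · funext i; exact evTop_psi_coord n v i
  have : (fun v : Fin n → ℂ => (psi n v).evTop (E p)) =
      fun v => MvPolynomial.eval v (MvPolynomial.map σ p) := funext key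
  rw [this]
  exact MvPolynomial.continuous_eval _

lemma continuous_psi : Continuous (psi n) := by
  refine continuous_generateFrom_iff.2 ?_
  rintro _ ⟨U, f, V, hV, rfl⟩
  rw [isOpen_iff_mem_nhds]
  rintro v₀ ⟨h₀, hv₀⟩
  obtain ⟨h, hle, hmem⟩ := (isAffineOpen_top (𝔸(Fin n; An.SC))).exists_basicOpen_le
    (V := U) ⟨(psi n v₀).pt, h₀⟩ (Opens.mem_top _)
  haveI := (isAffineOpen_top (𝔸(Fin n; An.SC))).isLocalization_basicOpen h
  obtain ⟨k, g, hkg⟩ := IsLocalization.Away.surj h
    ((𝔸(Fin n; An.SC)).presheaf.map (homOfLE hle).op f)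
  have hev : ∀ y : An.Pts (𝔸(Fin n; An.SC)),
      ∀ hy : y.pt ∈ (𝔸(Fin n; An.SC)).basicOpen h,
      y.ev U (hle hy) f * (y.evTop h) ^ k = y.evTop g := by
    intro y hy
    have e1 := congrArg (evHom y _ hy) hkg
    rw [map_mul, map_pow] at e1
    have e2 : evHom y _ hy ((𝔸(Fin n; An.SC)).presheaf.map (homOfLE hle).op f)
        = y.ev U (hle hy) f := ev_res y hle hy f
    have e3 : ∀ s : Γ(𝔸(Fin n; An.SC), ⊤),
        evHom y _ hy (algebraMap _ _ s) = y.evTop s := fun s =>
      ev_res y (Scheme.basicOpen_le _ h) hy s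
    rw [e2, e3, e3] at e1
    exact e1
  have hH := continuous_evTop_psi n h
  have hG := continuous_evTop_psi n g
  have hne : (psi n v₀).evTop h ≠ 0 := (mem_basicOpen_iff _ h).1 hmem
  have hcont : ContinuousAt
      (fun v => (psi n v).evTop g / ((psi n v).evTop h) ^ k) v₀ :=
    hG.continuousAt.div (hH.continuousAt.pow k) (pow_ne_zero k hne)
  have hval : (psi n v₀).evTop g / ((psi n v₀).evTop h) ^ k ∈ V := by
    rw [← hev (psi n v₀) hmem, mul_div_assoc, div_self (pow_ne_zero k hne), mul_one]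
    exact hv₀
  have h1 : {v | (psi n v).evTop g / ((psi n v).evTop h) ^ k ∈ V} ∈ 𝓝 v₀ :=
    hcont.preimage_mem_nhds (hV.mem_nhds hval)
  have h2 : {v | (psi n v).evTop h ≠ 0} ∈ 𝓝 v₀ := hH.continuousAt.eventually_ne hne
  refine Filter.mem_of_superset (Filter.inter_mem h1 h2) ?_
  rintro v ⟨hv1, hv2⟩
  have hy : (psi n v).pt ∈ (𝔸(Fin n; An.SC)).basicOpen h := (mem_basicOpen_iff _ h).2 hv2
  refine ⟨hle hy, ?_⟩
  have hv1' : (psi n v).evTop g / ((psi n v).evTop h) ^ k ∈ V := hv1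
  rw [← hev (psi n v) hy, mul_div_assoc, div_self (pow_ne_zero k hv2), mul_one] at hv1'
  exact hv1'

end Aux

/-- For affine n-space over ℂ, the map sending a ℂ-point to the values of the n coordinate functions is
a homeomorphism from its space of ℂ-points, with the complex topology of this problem, onto ℂ^n with
its usual topology. -/
theorem result (n : ℕ) :
    IsHomeomorph (fun (x : An.Pts (𝔸(Fin n; An.SC))) (i : Fin n) => x.evTop (AffineSpace.coord An.SC i)) := by
  let e : An.Pts (𝔸(Fin n; An.SC)) ≃ₜ (Fin n → ℂ) :=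
    { toFun := fun x i => x.evTop (AffineSpace.coord An.SC i)
      invFun := psi n
      left_inv := psi_phi n
      right_inv := fun v => funext fun i => evTop_psi_coord n v i
      continuous_toFun := by
        refine continuous_pi fun i => ?_
        refine continuous_def.2 fun V hV => ?_
        have : (fun x : An.Pts (𝔸(Fin n; An.SC)) =>
            x.evTop (AffineSpace.coord An.SC i)) ⁻¹' V
            = An.Pts.basicSet ⊤ (AffineSpace.coord An.SC i) V := by
          ext x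
          constructor
          · intro hx; exact ⟨Opens.mem_top _, hx⟩
          · rintro ⟨_, hx⟩; exact hx
        rw [this]
        exact An.Pts.isOpen_basicSet _ _ hV
      continuous_invFun := continuous_psi n }
  exact e.isHomeomorph

end Groth.Agent.S4183
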