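import Groth.Statements.S4194
import Mathlib

set_option autoImplicit false
open CategoryTheory AlgebraicGeometry Topology TopologicalSpace
open An

namespace Groth.Agent.S4194

/-- A morphism f : X → Y of schemes locally of finite type over ℂ is injective (on underlying points) if
and only if the induced map X(ℂ) → Y(ℂ) is injective. -/
theorem result (X Y : Scheme.{0}) [X.Over An.SC] [LocallyOfFiniteType (X ↘ An.SC)]
    [Y.Over An.SC] [LocallyOfFiniteType (Y ↘ An.SC)] (f : X ⟶ Y) [f.IsOver An.SC] :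
    Function.Injective f.base ↔ Function.Injective (An.Pts.map f) := by
  constructor
  · intro hf x x' h
    apply Subtype.ext
    have h1 : x.1 ≫ f = x'.1 ≫ f := congrArg Subtype.val h
    refine ext_of_apply_closedPoint_eq (X ↘ An.SC) x.2 x'.2 ?_
    apply hf
    have e1 : (x.1 ≫ f) (IsLocalRing.closedPoint ℂ) = f (x.1 (IsLocalRing.closedPoint ℂ)) :=
      Scheme.Hom.comp_apply _ _ _
    have e2 : (x'.1 ≫ f) (IsLocalRing.closedPoint ℂ) = f (x'.1 (IsLocalRing.closedPoint ℂ)) :=
      Scheme.Hom.comp_apply _ _ _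
    exact e1.symm.trans ((congrArg (fun g : An.SC ⟶ Y => g (IsLocalRing.closedPoint ℂ)) h1).trans e2)
  · intro hinj a b hab
    by_contra hne
    haveI hft : LocallyOfFiniteType f := by
      haveI : LocallyOfFiniteType (f ≫ (Y ↘ An.SC)) := by
        rw [comp_over f An.SC]; infer_instance
      exact locallyOfFiniteType_of_comp f (Y ↘ An.SC)
    obtain ⟨z, hz1, hz2⟩ := Scheme.Pullback.exists_preimage_pullback (f := f) (g := f) a b hab
    have hzΔ : z ∉ Set.range (Limits.pullback.diagonal f) := by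
      rintro ⟨c, rfl⟩
      apply hne
      have e1 : (Limits.pullback.diagonal f ≫ Limits.pullback.fst f f) c =
          Limits.pullback.fst f f (Limits.pullback.diagonal f c) := Scheme.Hom.comp_apply _ _ _
      have e2 : (Limits.pullback.diagonal f ≫ Limits.pullback.snd f f) c =
          Limits.pullback.snd f f (Limits.pullback.diagonal f c) := Scheme.Hom.comp_apply _ _ _
      rw [Limits.pullback.diagonal_fst] at e1
      rw [Limits.pullback.diagonal_snd] at e2
      exact (hz1.symm.trans e1.symm).trans (e2.trans hz2)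
    haveI : LocallyOfFiniteType ((Limits.pullback f f) ↘ An.SC) := by
      show LocallyOfFiniteType (Limits.pullback.fst f f ≫ (X ↘ An.SC))
      infer_instance
    haveI : JacobsonSpace ↥(Limits.pullback f f) :=
      LocallyOfFiniteType.jacobsonSpace ((Limits.pullback f f) ↘ An.SC)
    obtain ⟨U, C, hU, hC, hUC⟩ := (Limits.pullback.diagonal f).isLocallyClosed_range
    have hex : ∃ z' : ↥(Limits.pullback f f), z' ∈ closedPoints ↥(Limits.pullback f f) ∧
        z' ∉ Set.range (Limits.pullback.diagonal f) := by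
      by_cases hzU : z ∈ U
      · have hzC : z ∉ C := fun h => hzΔ (hUC ▸ ⟨hzU, h⟩)
        obtain ⟨z', hz'⟩ := nonempty_inter_closedPoints (Z := Cᶜ) ⟨z, hzC⟩
          hC.isOpen_compl.isLocallyClosed
        exact ⟨z', hz'.2, fun h => hz'.1 ((hUC ▸ h : z' ∈ U ∩ C).2)⟩
      · obtain ⟨z', hz'⟩ := nonempty_inter_closedPoints (Z := Uᶜ) ⟨z, hzU⟩
          hU.isClosed_compl.isLocallyClosed
        exact ⟨z', hz'.2, fun h => hz'.1 ((hUC ▸ h : z' ∈ U ∩ C).1)⟩
    obtain ⟨z', hz'c, hz'Δ⟩ := hex
    obtain ⟨ζ, hζ⟩ : ∃ ζ : An.Pts (Limits.pullback f f), ζ.1 An.cpt = z' :=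
      ⟨(pointEquivClosedPoint ((Limits.pullback f f) ↘ An.SC)).symm ⟨z', hz'c⟩,
        pointOfClosedPoint_apply _ _ _ _⟩
    have hcond := An.Pts.map_pullback_condition f f ζ
    have heq := hinj hcond
    have h1 : ζ.1 ≫ Limits.pullback.fst f f = ζ.1 ≫ Limits.pullback.snd f f :=
      congrArg Subtype.val heq
    apply hz'Δ
    have hfac : ζ.1 = (ζ.1 ≫ Limits.pullback.fst f f) ≫ Limits.pullback.diagonal f := by
      apply Limits.pullback.hom_ext
      · simp
      · simp [h1]
    refine ⟨(ζ.1 ≫ Limits.pullback.fst f f) An.cpt, ?_⟩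
    rw [← hζ]
    have e3 : ((ζ.1 ≫ Limits.pullback.fst f f) ≫ Limits.pullback.diagonal f) An.cpt =
        Limits.pullback.diagonal f ((ζ.1 ≫ Limits.pullback.fst f f) An.cpt) :=
      Scheme.Hom.comp_apply _ _ _
    exact e3.symm.trans (congrArg (fun g : An.SC ⟶ Limits.pullback f f => g An.cpt) hfac.symm)

end Groth.Agent.S4194
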