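import Groth.Statements.S4200
import Groth.Agent.S4194
import Mathlib

set_option autoImplicit false
open CategoryTheory AlgebraicGeometry Topology TopologicalSpace
open An

namespace Groth.Agent.S4200

open AlgebraicGeometry CategoryTheory TopologicalSpace Opposite in
theorem ev_res {X : Scheme.{0}} [X.Over An.SC] (x : An.Pts X) {U U' : X.Opens} (hUU' : U' ≤ U)
    (h' : x.pt ∈ U') (g : Γ(X, U)) :
    x.ev U' h' (X.presheaf.map (homOfLE hUU').op g) = x.ev U (hUU' h') g := by
  have key := ConcreteCategory.congr_hom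
    (Scheme.Hom.map_appLE x.1 (An.Pts.top_le_preimage x h') (homOfLE hUU').op) g
  exact congrArg (fun z => (Scheme.ΓSpecIso (CommRingCat.of ℂ)).hom z) key


/-- The direction from schemes to spaces: a closed immersion f : X → Y of schemes locally of finite type
over ℂ induces a closed embedding X(ℂ) → Y(ℂ). -/
theorem result (X Y : Scheme.{0}) [X.Over An.SC] [LocallyOfFiniteType (X ↘ An.SC)]
    [Y.Over An.SC] [LocallyOfFiniteType (Y ↘ An.SC)] (f : X ⟶ Y) [f.IsOver An.SC] [IsClosedImmersion f] :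
    Topology.IsClosedEmbedding (An.Pts.map f) := by
  have hf_inj : Function.Injective f.base := f.isClosedEmbedding.injective
  have hinj : Function.Injective (An.Pts.map f) := (Groth.Agent.S4194.result X Y f).mp hf_inj
  have hrange : Set.range (An.Pts.map f) = An.Pts.pt ⁻¹' (Set.range f.base) := by
    ext y
    constructor
    · rintro ⟨x, rfl⟩
      exact ⟨x.pt, (An.Pts.pt_map f x).symm⟩
    · rintro ⟨a, ha⟩
      have hycl : IsClosed ({y.1 (IsLocalRing.closedPoint ℂ)} : Set Y) :=
        ((pointEquivClosedPoint (Y ↘ An.SC)) y).2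
      rw [An.eq_cpt (IsLocalRing.closedPoint ℂ)] at hycl
      have hacl : IsClosed ({a} : Set X) := by
        have e : ({a} : Set X) = f.base ⁻¹' {y.1 An.cpt} := by
          ext b
          constructor
          · rintro rfl
            exact ha
          · intro hb
            exact hf_inj (hb.trans ha.symm)
        rw [e]
        exact hycl.preimage f.continuous
      obtain ⟨ξ, hξ⟩ : ∃ ξ : An.Pts X, ξ.1 (IsLocalRing.closedPoint ℂ) = a :=
        ⟨(pointEquivClosedPoint (X ↘ An.SC)).symm ⟨a, hacl⟩, pointOfClosedPoint_apply _ _ _ _⟩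
      refine ⟨ξ, ?_⟩
      apply Subtype.ext
      refine ext_of_apply_closedPoint_eq (Y ↘ An.SC) (An.Pts.map f ξ).2 y.2 ?_
      have e1 : (ξ.1 ≫ f) (IsLocalRing.closedPoint ℂ) = f (ξ.1 (IsLocalRing.closedPoint ℂ)) :=
        Scheme.Hom.comp_apply _ _ _
      show (ξ.1 ≫ f) (IsLocalRing.closedPoint ℂ) = y.1 (IsLocalRing.closedPoint ℂ)
      rw [e1, hξ, An.eq_cpt (IsLocalRing.closedPoint ℂ)]
      exact ha
  have hind : Topology.IsInducing (An.Pts.map f) := by
    refine ⟨le_antisymm ?_ ?_⟩
    · exact continuous_iff_le_induced.mp (An.Pts.continuous_map f)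
    · apply le_generateFrom
      rintro _ ⟨U, g, V, hV, rfl⟩
      have key : ∀ x : {x // x ∈ An.Pts.basicSet U g V}, ∃ (W : Y.Opens) (gt : Γ(Y, W)),
          x.1 ∈ An.Pts.map f ⁻¹' An.Pts.basicSet W gt V ∧
          An.Pts.map f ⁻¹' An.Pts.basicSet W gt V ⊆ An.Pts.basicSet U g V := by
        rintro ⟨x, h, hv⟩
        obtain ⟨U', hU'o, hU'⟩ := f.isClosedEmbedding.isInducing.isOpen_iff.mp U.2
        have hfx : f.base x.pt ∈ U' := by
          have h0 : x.pt ∈ f.base ⁻¹' U' := by rw [hU']; exact h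
          exact h0
        obtain ⟨Wa, hWa, hxW, hWU⟩ :=
          Opens.isBasis_iff_nbhd.mp Y.isBasis_affineOpens (U := ⟨U', hU'o⟩) hfx
        have hle : f ⁻¹ᵁ Wa ≤ U := by
          intro b hb
          have h0 : b ∈ f.base ⁻¹' U' := hWU hb
          rw [hU'] at h0
          exact h0
        obtain ⟨gt, hgt⟩ := f.app_surjective Wa hWa (X.presheaf.map (homOfLE hle).op g)
        refine ⟨Wa, gt, ?_, ?_⟩
        · rw [An.Pts.preimage_basicSet, hgt]
          exact ⟨hxW, by rw [ev_res x hle hxW g]; exact hv⟩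
        · rw [An.Pts.preimage_basicSet, hgt]
          rintro x' ⟨h', hv'⟩
          exact ⟨hle h', by rw [← ev_res x' hle h' g]; exact hv'⟩
      choose W gt hx hsub using key
      refine isOpen_induced_iff.mpr ⟨⋃ x, An.Pts.basicSet (W x) (gt x) V,
        isOpen_iUnion fun x => An.Pts.isOpen_basicSet _ _ hV, ?_⟩
      rw [Set.preimage_iUnion]
      apply Set.Subset.antisymm
      · exact Set.iUnion_subset hsub
      · intro x hxs
        exact Set.mem_iUnion.mpr ⟨⟨x, hxs⟩, hx ⟨x, hxs⟩⟩
  refine ⟨⟨hind, hinj⟩, ?_⟩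
  rw [hrange]
  exact f.isClosedEmbedding.isClosed_range.preimage An.Pts.continuous_pt

end Groth.Agent.S4200
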