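import Groth.Statements.S4184
import Mathlib
import Groth.Agent.S4183
import Groth.Agent.S4200
set_option linter.style.haveILetI false

set_option autoImplicit false
open CategoryTheory AlgebraicGeometry Topology TopologicalSpace
open An

namespace Groth.Agent.S4184

/-- Let X be affine of finite type over ℂ and s_1, …, s_n global sections generating Γ(X, O_X) as a
ℂ-algebra, i.e. the evaluation map from polynomials in n variables over ℂ (through the structure
homomorphism ℂ → Γ(X, O_X)) is surjective. Then x ↦ (s_1(x), …, s_n(x)) is a closed embedding of the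
space of ℂ-points of X (complex topology) into ℂ^n. In particular the complex topology is the
subspace topology for any such presentation. -/
theorem result (X : Scheme.{0}) [X.Over An.SC] [IsAffine X]
    [LocallyOfFiniteType (X ↘ An.SC)] (n : ℕ) (s : Fin n → Γ(X, ⊤))
    (hs : Function.Surjective (MvPolynomial.eval₂Hom (An.strHom X) s)) :
    Topology.IsClosedEmbedding (fun (x : An.Pts X) (i : Fin n) => x.evTop (s i)) := by
  let F : X ⟶ 𝔸(Fin n; An.SC) := AffineSpace.homOfVector (X ↘ An.SC) s
  haveI : F.IsOver An.SC :=
    inferInstanceAs ((AffineSpace.homOfVector (X ↘ An.SC) s).IsOver An.SC)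
  have hcoord : ∀ i, F.appTop (AffineSpace.coord An.SC i) = s i := fun i =>
    AffineSpace.homOfVector_appTop_coord _ _ i
  have hover : (𝔸(Fin n; An.SC) ↘ An.SC).appTop ≫ F.appTop = (X ↘ An.SC).appTop := by
    rw [← Scheme.Hom.comp_appTop, AffineSpace.homOfVector_over]
  have hsurj : Function.Surjective F.appTop := by
    intro t
    obtain ⟨p, hp⟩ := hs t
    refine ⟨MvPolynomial.eval₂ (((𝔸(Fin n; An.SC) ↘ An.SC).appTop).hom.comp
      (Scheme.ΓSpecIso (CommRingCat.of ℂ)).inv.hom) (AffineSpace.coord An.SC) p, ?_⟩
    rw [← hp]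
    show F.appTop.hom (MvPolynomial.eval₂ _ _ p) = MvPolynomial.eval₂ (An.strHom X) s p
    rw [MvPolynomial.eval₂_comp_left]
    congr 1
    · ext r
      exact ConcreteCategory.congr_hom hover _
    · funext i; exact hcoord i
  haveI : IsClosedImmersion F := IsClosedImmersion.of_surjective_of_isAffine F hsurj
  have h1 := Groth.Agent.S4200.result X (𝔸(Fin n; An.SC)) F
  have h2 := (Groth.Agent.S4183.result n).isClosedEmbedding
  have h3 := h2.comp h1
  convert h3 using 1
  funext x i
  show x.evTop (s i) = (An.Pts.map F x).evTop (AffineSpace.coord An.SC i)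
  have e := An.Pts.ev_map F x ⊤ (Opens.mem_top _) (AffineSpace.coord An.SC i)
  refine Eq.trans ?_ e.symm
  rw [← hcoord i]
  rfl

end Groth.Agent.S4184
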