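import Groth.Statements.S4196
import Mathlib

set_option autoImplicit false
open CategoryTheory AlgebraicGeometry Topology TopologicalSpace
open An

namespace Groth.Agent.S4196

open AlgebraicGeometry CategoryTheory TopologicalSpace Opposite in
theorem basicSet_congr {X : Scheme.{0}} [X.Over An.SC] {U U' : X.Opens} (e : U = U')
    (g' : Γ(X, U')) (V : Set ℂ) :
    An.Pts.basicSet U (X.presheaf.map (eqToHom e).op g') V = An.Pts.basicSet U' g' V := by
  subst e
  simp


/-- The direction from schemes to spaces: an open immersion f : X → Y of schemes locally of finite type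
over ℂ, compatible with the structure morphisms, induces an open embedding X(ℂ) → Y(ℂ) of the
associated spaces of complex points. (The published converse concerns analytic spaces, not bare
topological spaces, and is not stated here.) -/
theorem result (X Y : Scheme.{0}) [X.Over An.SC] [LocallyOfFiniteType (X ↘ An.SC)]
    [Y.Over An.SC] [LocallyOfFiniteType (Y ↘ An.SC)] (f : X ⟶ Y) [f.IsOver An.SC] [IsOpenImmersion f] :
    Topology.IsOpenEmbedding (An.Pts.map f) := by
  have hinj : Function.Injective (An.Pts.map f) := by
    intro x x' h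
    apply Subtype.ext
    have h1 : x.1 ≫ f = x'.1 ≫ f := congrArg Subtype.val h
    exact (cancel_mono f).mp h1
  have hind : Topology.IsInducing (An.Pts.map f) := by
    refine ⟨?_⟩
    show (TopologicalSpace.generateFrom _ : TopologicalSpace (An.Pts X)) =
      TopologicalSpace.induced (An.Pts.map f) (TopologicalSpace.generateFrom _)
    rw [induced_generateFrom_eq]
    apply le_antisymm
    · apply le_generateFrom
      rintro _ ⟨_, ⟨U, g, V, hV, rfl⟩, rfl⟩
      rw [An.Pts.preimage_basicSet]
      exact TopologicalSpace.isOpen_generateFrom_of_mem ⟨_, _, V, hV, rfl⟩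
    · apply le_generateFrom
      rintro _ ⟨U, g, V, hV, rfl⟩
      apply TopologicalSpace.isOpen_generateFrom_of_mem
      refine ⟨An.Pts.basicSet (f ''ᵁ U) ((f.appIso U).inv g) V, ⟨f ''ᵁ U, _, V, hV, rfl⟩, ?_⟩
      rw [An.Pts.preimage_basicSet]
      have e := basicSet_congr (f.preimage_image_eq U).symm
        (f.app (f ''ᵁ U) ((f.appIso U).inv g)) V
      rw [← e]
      have h1 : (f.appIso U).hom ((f.appIso U).inv g) = g := by simp
      rw [Scheme.Hom.appIso_hom] at h1
      exact congrArg (fun z => An.Pts.basicSet U z V) h1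
  have hrange : Set.range (An.Pts.map f) = An.Pts.pt ⁻¹' (f.opensRange : Set Y) := by
    ext y
    constructor
    · rintro ⟨x, rfl⟩
      show (An.Pts.map f x).pt ∈ f.opensRange
      rw [An.Pts.pt_map]
      exact ⟨x.pt, rfl⟩
    · intro hy
      have hsub : Set.range y.1 ⊆ Set.range f := by
        rintro _ ⟨p, rfl⟩
        rw [An.eq_cpt p]
        exact hy
      refine ⟨⟨IsOpenImmersion.lift f y.1 hsub, ?_⟩,
        Subtype.ext (IsOpenImmersion.lift_fac f y.1 hsub)⟩
      rw [← comp_over f An.SC, ← Category.assoc, IsOpenImmersion.lift_fac]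
      exact y.2
  refine ⟨⟨hind, hinj⟩, ?_⟩
  rw [hrange]
  exact An.Pts.isOpen_preimage_pt f.opensRange

end Groth.Agent.S4196
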