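import Groth.Statements.S4185
import Mathlib
import Groth.Agent.S4184
import Groth.Agent.S4196
set_option linter.style.haveILetI false

set_option autoImplicit false
open CategoryTheory AlgebraicGeometry Topology TopologicalSpace
open An

namespace Groth.Agent.S4185

section Aux

lemma exists_gens (Z : Scheme.{0}) [Z.Over An.SC] [IsAffine Z]
    [LocallyOfFiniteType (Z ↘ An.SC)] :
    ∃ (n : ℕ) (s : Fin n → Γ(Z, ⊤)),
      Function.Surjective (MvPolynomial.eval₂Hom (An.strHom Z) s) := by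
  have h1 : RingHom.FiniteType (Z ↘ An.SC).appTop.hom :=
    (HasRingHomProperty.iff_of_isAffine (P := @LocallyOfFiniteType)).1 inferInstance
  have h2 : RingHom.FiniteType (An.strHom Z) :=
    h1.comp (RingHom.FiniteType.of_surjective _
      (ConcreteCategory.bijective_of_isIso (Scheme.ΓSpecIso (CommRingCat.of ℂ)).inv).2)
  letI : Algebra ℂ Γ(Z, ⊤) := (An.strHom Z).toAlgebra
  have h3 : Algebra.FiniteType ℂ Γ(Z, ⊤) := h2
  obtain ⟨n, f, hf⟩ := Algebra.FiniteType.iff_quotient_mvPolynomial''.1 h3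
  refine ⟨n, fun i => f (MvPolynomial.X i), ?_⟩
  intro t
  obtain ⟨p, rfl⟩ := hf t
  refine ⟨p, ?_⟩
  show MvPolynomial.eval₂ (An.strHom Z) _ p = f p
  rw [DFunLike.congr_fun (MvPolynomial.aeval_unique f) p, MvPolynomial.aeval_def]
  rfl

end Aux

/-- For X locally of finite type over ℂ the space X(ℂ) with its complex topology is locally compact. -/
theorem result (X : Scheme.{0}) [X.Over An.SC] [LocallyOfFiniteType (X ↘ An.SC)] :
    LocallyCompactSpace (An.Pts X) := by
  refine ⟨fun x N hN => ?_⟩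
  obtain ⟨U, hU, hxU, -⟩ := exists_isAffineOpen_mem_and_subset (X := X) (x := x.pt)
    (U := ⊤) (Opens.mem_top _)
  letI : (U : Scheme.{0}).Over An.SC := ⟨U.ι ≫ X ↘ An.SC⟩
  haveI : U.ι.IsOver An.SC := ⟨rfl⟩
  haveI : IsAffine (U : Scheme.{0}) := hU
  haveI : LocallyOfFiniteType ((U : Scheme.{0}) ↘ An.SC) := by
    show LocallyOfFiniteType (U.ι ≫ X ↘ An.SC)
    infer_instance
  have hj := Groth.Agent.S4196.result (U : Scheme.{0}) X U.ι
  have hx : ∃ w : An.Pts (U : Scheme.{0}), An.Pts.map U.ι w = x := by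
    have hrange : Set.range x.1 ⊆ Set.range U.ι := by
      rintro _ ⟨p, rfl⟩
      rw [An.eq_cpt p, Scheme.Opens.range_ι]
      exact hxU
    refine ⟨⟨IsOpenImmersion.lift U.ι x.1 hrange, ?_⟩,
      Subtype.ext (IsOpenImmersion.lift_fac _ _ _)⟩
    show IsOpenImmersion.lift U.ι x.1 hrange ≫ U.ι ≫ X ↘ An.SC = 𝟙 _
    rw [IsOpenImmersion.lift_fac_assoc, x.2]
  obtain ⟨w, rfl⟩ := hx
  haveI : LocallyCompactSpace (An.Pts (U : Scheme.{0})) := by
    obtain ⟨n, s, hs⟩ := exists_gens (U : Scheme.{0})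
    exact (Groth.Agent.S4184.result (U : Scheme.{0}) n s hs).locallyCompactSpace
  have hN' : An.Pts.map U.ι ⁻¹' N ∈ 𝓝 w := hj.continuous.continuousAt hN
  obtain ⟨K, hK, hKN, hKc⟩ := LocallyCompactSpace.local_compact_nhds w _ hN'
  exact ⟨An.Pts.map U.ι '' K, hj.isOpenMap.image_mem_nhds hK, Set.image_subset_iff.2 hKN,
    hKc.image hj.continuous⟩

end Groth.Agent.S4185
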