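import Groth.Statements.S4187
import Mathlib
import Groth.Agent.S4185
set_option linter.style.haveILetI false

set_option autoImplicit false
open CategoryTheory AlgebraicGeometry Topology TopologicalSpace
open An

namespace Groth.Agent.S4187

section Aux

lemma discrete_of_countable (A : Type) [CommRing A] [Algebra ℂ A] [Algebra.FiniteType ℂ A]
    (hc : Countable (MaximalSpectrum A)) : DiscreteTopology (PrimeSpectrum A) := by
  cases subsingleton_or_nontrivial A with
  | inl h =>
    haveI : IsEmpty (PrimeSpectrum A) := inferInstance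
    infer_instance
  | inr h =>
    obtain ⟨s, g, hinj, hint⟩ := exists_integral_inj_algHom_of_fg ℂ A
    rcases Nat.eq_zero_or_pos s with rfl | hs
    · have hint' : Algebra.IsIntegral ℂ A := by
        have h1 : (algebraMap ℂ A) =
            g.toRingHom.comp (algebraMap ℂ (MvPolynomial (Fin 0) ℂ)) := by
          ext c; simp
        have h2 : (algebraMap ℂ (MvPolynomial (Fin 0) ℂ)).IsIntegral :=
          RingHom.isIntegral_of_surjective _ (by
            rw [MvPolynomial.algebraMap_eq]; exact MvPolynomial.C_surjective (Fin 0))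
        have h3 : (algebraMap ℂ A).IsIntegral := by
          rw [h1]; exact RingHom.IsIntegral.trans _ _ h2 hint
        exact ⟨h3⟩
      haveI : Module.Finite ℂ A := Algebra.IsIntegral.finite
      haveI : IsArtinianRing A := IsArtinianRing.of_finite ℂ A
      infer_instance
    · exfalso
      letI : Algebra (MvPolynomial (Fin s) ℂ) A := g.toRingHom.toAlgebra
      haveI : Algebra.IsIntegral (MvPolynomial (Fin s) ℂ) A := ⟨hint⟩
      have hker : RingHom.ker (algebraMap (MvPolynomial (Fin s) ℂ) A) = ⊥ :=
        (RingHom.injective_iff_ker_eq_bot _).1 hinj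
      let ev : ℂ → (MvPolynomial (Fin s) ℂ →+* ℂ) := fun c => MvPolynomial.eval (fun _ => c)
      have hmax : ∀ c, (RingHom.ker (ev c)).IsMaximal := fun c =>
        RingHom.ker_isMaximal_of_surjective _ (fun z => ⟨MvPolynomial.C z, by simp [ev]⟩)
      have hex : ∀ c, ∃ Q : Ideal A, Q.IsMaximal ∧
          Q.comap (algebraMap (MvPolynomial (Fin s) ℂ) A) = RingHom.ker (ev c) := fun c =>
        haveI := hmax c
        Ideal.exists_ideal_over_maximal_of_isIntegral (RingHom.ker (ev c))
          (by rw [hker]; exact bot_le)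
      choose Q hQmax hQcomap using hex
      let φ : ℂ → MaximalSpectrum A := fun c => ⟨Q c, hQmax c⟩
      have hφ : Function.Injective φ := by
        intro c c' h
        have h1 : Q c = Q c' := congrArg MaximalSpectrum.asIdeal h
        have h2 : RingHom.ker (ev c) = RingHom.ker (ev c') := by
          rw [← hQcomap c, ← hQcomap c', h1]
        have h3 : (MvPolynomial.X ⟨0, hs⟩ - MvPolynomial.C c : MvPolynomial (Fin s) ℂ) ∈
            RingHom.ker (ev c) := by
          simp [RingHom.mem_ker, ev]
        rw [h2, RingHom.mem_ker] at h3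
        simp only [ev, map_sub, MvPolynomial.eval_X, MvPolynomial.eval_C] at h3
        exact (sub_eq_zero.1 h3).symm
      have : Countable ℂ := hφ.countable
      exact not_countable_complex (Set.countable_univ_iff.2 this)

lemma pt_injective (X : Scheme.{0}) [X.Over An.SC] [LocallyOfFiniteType (X ↘ An.SC)] :
    Function.Injective (An.Pts.pt : An.Pts X → X) := by
  intro x x' h
  apply (pointEquivClosedPoint (X ↘ An.SC)).injective
  apply Subtype.ext
  show x.1 (IsLocalRing.closedPoint ℂ) = x'.1 (IsLocalRing.closedPoint ℂ)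
  rw [An.eq_cpt (IsLocalRing.closedPoint ℂ)]
  exact h

lemma discrete_affine (Z : Scheme.{0}) [Z.Over An.SC] [IsAffine Z]
    [LocallyOfFiniteType (Z ↘ An.SC)] [DiscreteTopology (An.Pts Z)] :
    DiscreteTopology ↥Z := by
  -- second countability and countability of the ℂ-points
  obtain ⟨n, s, hs⟩ := Groth.Agent.S4185.exists_gens Z
  have hce := Groth.Agent.S4184.result Z n s hs
  haveI : SecondCountableTopology (An.Pts Z) := hce.isEmbedding.secondCountableTopology
  haveI : Countable (An.Pts Z) := TopologicalSpace.separableSpace_iff_countable.1 inferInstance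
  -- finite type algebra structure
  have h1 : RingHom.FiniteType (Z ↘ An.SC).appTop.hom :=
    (HasRingHomProperty.iff_of_isAffine (P := @LocallyOfFiniteType)).1 inferInstance
  have h2 : RingHom.FiniteType (An.strHom Z) :=
    h1.comp (RingHom.FiniteType.of_surjective _
      (ConcreteCategory.bijective_of_isIso (Scheme.ΓSpecIso (CommRingCat.of ℂ)).inv).2)
  letI : Algebra ℂ Γ(Z, ⊤) := (An.strHom Z).toAlgebra
  haveI : Algebra.FiniteType ℂ Γ(Z, ⊤) := h2
  -- countably many maximal ideals
  let e := pointEquivClosedPoint (Z ↘ An.SC)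
  let hom : ↥(Spec Γ(Z, ⊤)) ≃ₜ ↥Z := Scheme.homeoOfIso Z.isoSpec.symm
  let ψ : MaximalSpectrum Γ(Z, ⊤) → An.Pts Z := fun M =>
    e.symm ⟨hom ⟨M.asIdeal, M.isMaximal.isPrime⟩, by
      have h1 : IsClosed ({⟨M.asIdeal, M.isMaximal.isPrime⟩} : Set (PrimeSpectrum Γ(Z, ⊤))) :=
        (PrimeSpectrum.isClosed_singleton_iff_isMaximal _).2 M.isMaximal
      have h2 := hom.isClosedMap _ h1
      have h3 : ({hom ⟨M.asIdeal, M.isMaximal.isPrime⟩} : Set ↥Z) =
          hom '' {⟨M.asIdeal, M.isMaximal.isPrime⟩} := by
        ext y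
        constructor
        · rintro rfl; exact ⟨_, rfl, rfl⟩
        · rintro ⟨z, rfl, rfl⟩; rfl
      show IsClosed ({hom ⟨M.asIdeal, M.isMaximal.isPrime⟩} : Set ↥Z)
      rw [h3]; exact h2⟩
  have hψ : Function.Injective ψ := by
    intro M M' h
    have h1 := e.symm.injective h
    have h2 := hom.injective (congrArg Subtype.val h1)
    exact MaximalSpectrum.ext (congrArg PrimeSpectrum.asIdeal h2)
  have hc : Countable (MaximalSpectrum Γ(Z, ⊤)) := hψ.countable
  haveI : DiscreteTopology (PrimeSpectrum Γ(Z, ⊤)) := discrete_of_countable _ hc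
  haveI : DiscreteTopology ↥(Spec Γ(Z, ⊤)) :=
    inferInstanceAs (DiscreteTopology (PrimeSpectrum Γ(Z, ⊤)))
  exact hom.symm.isEmbedding.discreteTopology

end Aux

/-- For X locally of finite type over ℂ, the underlying space of X is discrete if and only if the space
X(ℂ) (complex topology) is discrete. -/
theorem result (X : Scheme.{0}) [X.Over An.SC] [LocallyOfFiniteType (X ↘ An.SC)] :
    DiscreteTopology ↥X ↔ DiscreteTopology (An.Pts X) := by
  constructor
  · intro hX
    rw [discreteTopology_iff_isOpen_singleton]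
    intro x
    have : ({x} : Set (An.Pts X)) = An.Pts.pt ⁻¹' {x.pt} := by
      ext y
      constructor
      · rintro rfl; rfl
      · intro hy; exact pt_injective X hy
    rw [this]
    exact (isOpen_discrete _).preimage An.Pts.continuous_pt
  · intro hP
    rw [discreteTopology_iff_isOpen_singleton]
    intro a
    obtain ⟨U, hU, haU, -⟩ := exists_isAffineOpen_mem_and_subset (X := X) (x := a)
      (U := ⊤) (Opens.mem_top _)
    letI : (U : Scheme.{0}).Over An.SC := ⟨U.ι ≫ X ↘ An.SC⟩
    haveI : U.ι.IsOver An.SC := ⟨rfl⟩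
    haveI : IsAffine (U : Scheme.{0}) := hU
    haveI : LocallyOfFiniteType ((U : Scheme.{0}) ↘ An.SC) := by
      show LocallyOfFiniteType (U.ι ≫ X ↘ An.SC)
      infer_instance
    have hj := Groth.Agent.S4196.result (U : Scheme.{0}) X U.ι
    haveI : DiscreteTopology (An.Pts (U : Scheme.{0})) := hj.isEmbedding.discreteTopology
    haveI : DiscreteTopology ↥(U : Scheme.{0}) := discrete_affine (U : Scheme.{0})
    have h1 : IsOpen (U.ι '' {(⟨a, haU⟩ : ↥(U : Scheme.{0}))}) :=
      U.ι.isOpenEmbedding.isOpenMap _ (isOpen_discrete _)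
    have h3 : ({a} : Set ↥X) = U.ι '' {(⟨a, haU⟩ : ↥(U : Scheme.{0}))} := by
      ext y
      constructor
      · rintro rfl; exact ⟨⟨y, haU⟩, rfl, rfl⟩
      · rintro ⟨z, rfl, rfl⟩; rfl
    rw [h3]
    exact h1

end Groth.Agent.S4187
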