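import Groth.Statements.S4193
import Mathlib
import Groth.Agent.S4183
set_option linter.style.haveILetI false

set_option autoImplicit false
open CategoryTheory AlgebraicGeometry Topology TopologicalSpace
open An

namespace Groth.Agent.S4193

section Aux

section General

variable {X : Scheme.{0}} [X.Over An.SC]

open Classical in
/-- junk-extended evaluation -/
noncomputable def evJ (U : X.Opens) (a : Γ(X, U)) (x : An.Pts X) : ℂ :=
  if h : x.pt ∈ U then x.ev U h a else 0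

lemma evJ_pos (U : X.Opens) (a : Γ(X, U)) (x : An.Pts X) (h : x.pt ∈ U) :
    evJ U a x = x.ev U h a := dif_pos h

lemma evJ_add (U : X.Opens) (a b : Γ(X, U)) (x : An.Pts X) :
    evJ U (a + b) x = evJ U a x + evJ U b x := by
  by_cases h : x.pt ∈ U
  · simp only [evJ, dif_pos h]
    exact map_add (Groth.Agent.S4183.evHom x U h) a b
  · simp only [evJ, dif_neg h, add_zero]

lemma evJ_mul (U : X.Opens) (a b : Γ(X, U)) (x : An.Pts X) :
    evJ U (a * b) x = evJ U a x * evJ U b x := by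
  by_cases h : x.pt ∈ U
  · simp only [evJ, dif_pos h]
    exact map_mul (Groth.Agent.S4183.evHom x U h) a b
  · simp only [evJ, dif_neg h, mul_zero]

lemma evJ_neg (U : X.Opens) (a : Γ(X, U)) (x : An.Pts X) :
    evJ U (-a) x = - evJ U a x := by
  by_cases h : x.pt ∈ U
  · simp only [evJ, dif_pos h]
    exact map_neg (Groth.Agent.S4183.evHom x U h) a
  · simp only [evJ, dif_neg h, neg_zero]

lemma evJ_zero (U : X.Opens) (x : An.Pts X) : evJ U (0 : Γ(X, U)) x = 0 := by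
  by_cases h : x.pt ∈ U
  · simp only [evJ, dif_pos h]
    exact map_zero (Groth.Agent.S4183.evHom x U h)
  · simp only [evJ, dif_neg h]

lemma evJ_one (U : X.Opens) (x : An.Pts X) (h : x.pt ∈ U) : evJ U (1 : Γ(X, U)) x = 1 := by
  simp only [evJ, dif_pos h]
  exact map_one (Groth.Agent.S4183.evHom x U h)

lemma continuousOn_evJ (U : X.Opens) (a : Γ(X, U)) :
    ContinuousOn (evJ U a) (An.Pts.pt ⁻¹' (U : Set X)) := by
  rw [continuousOn_iff']
  intro V hV
  refine ⟨An.Pts.basicSet U a V, An.Pts.isOpen_basicSet U a hV, ?_⟩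
  ext x
  constructor
  · rintro ⟨hx1, hx2⟩
    refine ⟨⟨hx2, ?_⟩, hx2⟩
    have : evJ U a x ∈ V := hx1
    rwa [evJ_pos U a x hx2] at this
  · rintro ⟨⟨h, hx1⟩, hx2⟩
    refine ⟨?_, hx2⟩
    show evJ U a x ∈ V
    rw [evJ_pos U a x h]; exact hx1

lemma mem_basicOpen_iff' (x : An.Pts X) (U : X.Opens) (hx : x.pt ∈ U) (t : Γ(X, U)) :
    x.pt ∈ X.basicOpen t ↔ x.ev U hx t ≠ 0 := by
  have h1 : x.pt ∈ X.basicOpen t ↔ An.cpt ∈ x.1 ⁻¹ᵁ X.basicOpen t := Iff.rfl
  rw [h1, Scheme.preimage_basicOpen]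
  have h2 : An.SC.basicOpen (x.1.appLE U ⊤ (An.Pts.top_le_preimage x hx) t) =
      ⊤ ⊓ An.SC.basicOpen (x.1.app U t) := by
    have : x.1.appLE U ⊤ (An.Pts.top_le_preimage x hx) t =
        An.SC.presheaf.map (homOfLE (An.Pts.top_le_preimage x hx)).op (x.1.app U t) := rfl
    rw [this, Scheme.basicOpen_res]
  have h3 : An.cpt ∈ An.SC.basicOpen (x.1.app U t) ↔
      An.cpt ∈ An.SC.basicOpen (x.1.appLE U ⊤ (An.Pts.top_le_preimage x hx) t) := by
    rw [h2]; exact ⟨fun h => ⟨trivial, h⟩, fun h => h.2⟩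
  rw [h3, basicOpen_eq_of_affine']
  have h4 : (An.cpt : PrimeSpectrum ℂ).asIdeal = ⊥ := Ideal.eq_bot_of_prime _
  show (Scheme.ΓSpecIso (CommRingCat.of ℂ)).hom
    (x.1.appLE U ⊤ (An.Pts.top_le_preimage x hx) t) ∉ (An.cpt : PrimeSpectrum ℂ).asIdeal ↔ _
  rw [h4, Ideal.mem_bot]
  rfl

lemma ev_congr {x x' : An.Pts X} (h : x = x') (U : X.Opens) (hx : x.pt ∈ U) (a : Γ(X, U)) :
    x.ev U hx a = x'.ev U (h ▸ hx) a := by
  subst h; rfl

lemma ev_appLE {Y : Scheme.{0}} [Y.Over An.SC] (φ : X ⟶ Y) [φ.IsOver An.SC]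
    (z : An.Pts X) (U : Y.Opens) (O : X.Opens) (e : O ≤ φ ⁻¹ᵁ U) (hz : z.pt ∈ O)
    (a : Γ(Y, U)) (hx : (An.Pts.map φ z).pt ∈ U) :
    z.ev O hz (φ.appLE U O e a) = (An.Pts.map φ z).ev U hx a := by
  rw [An.Pts.ev_map φ z U hx a]
  exact Groth.Agent.S4183.ev_res z e hz (φ.app U a)

end General

variable {X Y S : Scheme.{0}} [X.Over An.SC] [Y.Over An.SC] [S.Over An.SC]
  (f : X ⟶ S) (g : Y ⟶ S) [f.IsOver An.SC] [g.IsOver An.SC]

noncomputable def Psi
    (q : {q : An.Pts X × An.Pts Y // An.Pts.map f q.1 = An.Pts.map g q.2}) :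
    An.Pts (Limits.pullback f g) :=
  ⟨Limits.pullback.lift q.1.1.1 q.1.2.1 (congrArg Subtype.val q.2), by
    show Limits.pullback.lift _ _ _ ≫ Limits.pullback.fst f g ≫ (X ↘ An.SC) = 𝟙 _
    rw [Limits.pullback.lift_fst_assoc]; exact q.1.1.2⟩

lemma map_fst_Psi (q : {q : An.Pts X × An.Pts Y // An.Pts.map f q.1 = An.Pts.map g q.2}) :
    An.Pts.map (Limits.pullback.fst f g) (Psi f g q) = q.1.1 :=
  Subtype.ext (Limits.pullback.lift_fst _ _ _)

lemma map_snd_Psi (q : {q : An.Pts X × An.Pts Y // An.Pts.map f q.1 = An.Pts.map g q.2}) :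
    An.Pts.map (Limits.pullback.snd f g) (Psi f g q) = q.1.2 :=
  Subtype.ext (Limits.pullback.lift_snd _ _ _)

lemma Psi_Phi (z : An.Pts (Limits.pullback f g)) :
    Psi f g ⟨(An.Pts.map (Limits.pullback.fst f g) z, An.Pts.map (Limits.pullback.snd f g) z),
      An.Pts.map_pullback_condition f g z⟩ = z := by
  apply Subtype.ext
  apply Limits.pullback.hom_ext
  · exact Limits.pullback.lift_fst _ _ _
  · exact Limits.pullback.lift_snd _ _ _

lemma fst_pt_Psi (q : {q : An.Pts X × An.Pts Y // An.Pts.map f q.1 = An.Pts.map g q.2}) :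
    (Limits.pullback.fst f g) (Psi f g q).pt = q.1.1.pt := by
  rw [← An.Pts.pt_map, map_fst_Psi]

lemma snd_pt_Psi (q : {q : An.Pts X × An.Pts Y // An.Pts.map f q.1 = An.Pts.map g q.2}) :
    (Limits.pullback.snd f g) (Psi f g q).pt = q.1.2.pt := by
  rw [← An.Pts.pt_map, map_snd_Psi]

lemma continuous_Psi : Continuous (Psi f g) := by
  refine continuous_generateFrom_iff.2 ?_
  rintro _ ⟨O, h, V, hV, rfl⟩
  rw [isOpen_iff_mem_nhds]
  rintro q₀ ⟨h₀, hv₀⟩
  obtain ⟨W, hW, hsW, -⟩ := exists_isAffineOpen_mem_and_subset (X := S)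
    (x := f q₀.1.1.pt) (U := ⊤) (Opens.mem_top _)
  obtain ⟨U, hU, hxU, hUle⟩ := exists_isAffineOpen_mem_and_subset (X := X)
    (x := q₀.1.1.pt) (U := f ⁻¹ᵁ W) hsW
  have hcond : g q₀.1.2.pt = f q₀.1.1.pt := by
    rw [← An.Pts.pt_map, ← An.Pts.pt_map, q₀.2]
  obtain ⟨U', hU', hyU', hU'le⟩ := exists_isAffineOpen_mem_and_subset (X := Y)
    (x := q₀.1.2.pt) (U := g ⁻¹ᵁ W) (by show g q₀.1.2.pt ∈ W; rw [hcond]; exact hsW)
  have H := IsPullback.of_hasPullback f g
  have hUST : U' ≤ g ⁻¹ᵁ W := hU'le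
  have hUSX : U ≤ f ⁻¹ᵁ W := hUle
  obtain ⟨O₁, hO₁def⟩ : ∃ O₁ : (Limits.pullback f g).Opens,
      O₁ = Limits.pullback.fst f g ⁻¹ᵁ U ⊓ Limits.pullback.snd f g ⁻¹ᵁ U' := ⟨_, rfl⟩
  have hO₁ : IsAffineOpen O₁ := by
    haveI : IsAffine (W : Scheme.{0}) := hW
    haveI : IsAffine (U' : Scheme.{0}) := hU'
    haveI : IsAffine (U : Scheme.{0}) := hU
    exact IsAffine.of_isIso (Scheme.Hom.isPullback_resLE H hUST hUSX hO₁def).isoPullback.hom
  haveI := isIso_pushoutSection_of_isAffineOpen H hUST hUSX hO₁def hW hU' hU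
  have hpo := (isIso_pushoutSection_iff H hUST hUSX hO₁def).mp inferInstance
  have hcl := CommRingCat.closure_range_union_range_eq_top_of_isPushout hpo
  have hle1 : O₁ ≤ Limits.pullback.fst f g ⁻¹ᵁ U := by rw [hO₁def]; exact inf_le_left
  have hle2 : O₁ ≤ Limits.pullback.snd f g ⁻¹ᵁ U' := by rw [hO₁def]; exact inf_le_right
  -- the open set P₁
  let P₁ : Set {q : An.Pts X × An.Pts Y // An.Pts.map f q.1 = An.Pts.map g q.2} :=
    {q | q.1.1.pt ∈ U ∧ q.1.2.pt ∈ U'}
  have hP₁ : IsOpen P₁ :=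
    ((An.Pts.isOpen_preimage_pt U).preimage (continuous_fst.comp continuous_subtype_val)).inter
      ((An.Pts.isOpen_preimage_pt U').preimage (continuous_snd.comp continuous_subtype_val))
  have hmemO₁ : ∀ q ∈ P₁, (Psi f g q).pt ∈ O₁ := by
    intro q hq
    rw [hO₁def]
    refine ⟨?_, ?_⟩
    · show (Limits.pullback.fst f g) (Psi f g q).pt ∈ U
      rw [fst_pt_Psi]; exact hq.1
    · show (Limits.pullback.snd f g) (Psi f g q).pt ∈ U'
      rw [snd_pt_Psi]; exact hq.2
  have hC : ∀ r : Γ(Limits.pullback f g, O₁),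
      ContinuousOn (fun q => evJ O₁ r (Psi f g q)) P₁ := by
    intro r
    have hr : r ∈ Subring.closure
        (Set.range ((Limits.pullback.fst f g).appLE U O₁ (by simp [*])) ∪
          Set.range ((Limits.pullback.snd f g).appLE U' O₁ (by simp [*]))) := by
      rw [hcl]; trivial
    induction hr using Subring.closure_induction with
    | mem r hr =>
      rcases hr with ⟨a, rfl⟩ | ⟨b, rfl⟩
      · have hL := continuousOn_evJ U a
        have hcomp : ContinuousOn
            (fun q : {q : An.Pts X × An.Pts Y // An.Pts.map f q.1 = An.Pts.map g q.2} =>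
              evJ U a q.1.1) P₁ :=
          hL.comp (continuous_fst.comp continuous_subtype_val).continuousOn (fun q hq => hq.1)
        refine hcomp.congr ?_
        intro q hq
        have hz : (Psi f g q).pt ∈ O₁ := hmemO₁ q hq
        show evJ O₁ _ (Psi f g q) = evJ U a q.1.1
        rw [evJ_pos _ _ _ hz, evJ_pos _ _ _ hq.1]
        have hx' : (An.Pts.map (Limits.pullback.fst f g) (Psi f g q)).pt ∈ U := by
          rw [map_fst_Psi]; exact hq.1
        rw [ev_appLE (Limits.pullback.fst f g) (Psi f g q) U O₁ hle1 hz a hx']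
        exact ev_congr (map_fst_Psi f g q) U hx' a
      · have hL := continuousOn_evJ U' b
        have hcomp : ContinuousOn
            (fun q : {q : An.Pts X × An.Pts Y // An.Pts.map f q.1 = An.Pts.map g q.2} =>
              evJ U' b q.1.2) P₁ :=
          hL.comp (continuous_snd.comp continuous_subtype_val).continuousOn (fun q hq => hq.2)
        refine hcomp.congr ?_
        intro q hq
        have hz : (Psi f g q).pt ∈ O₁ := hmemO₁ q hq
        show evJ O₁ _ (Psi f g q) = evJ U' b q.1.2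
        rw [evJ_pos _ _ _ hz, evJ_pos _ _ _ hq.2]
        have hx' : (An.Pts.map (Limits.pullback.snd f g) (Psi f g q)).pt ∈ U' := by
          rw [map_snd_Psi]; exact hq.2
        rw [ev_appLE (Limits.pullback.snd f g) (Psi f g q) U' O₁ hle2 hz b hx']
        exact ev_congr (map_snd_Psi f g q) U' hx' b
    | zero =>
      simp only [evJ_zero]
      exact continuousOn_const
    | one =>
      refine (continuousOn_const (c := (1 : ℂ))).congr ?_
      intro q hq
      exact evJ_one O₁ _ (hmemO₁ q hq)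
    | add r r' _ _ h1 h2 =>
      simp only [evJ_add]
      exact h1.add h2
    | neg r _ h1 =>
      simp only [evJ_neg]
      exact h1.neg
    | mul r r' _ _ h1 h2 =>
      simp only [evJ_mul]
      exact h1.mul h2
  -- local description of h
  have hq₀ : q₀ ∈ P₁ := ⟨hxU, hyU'⟩
  have hz₀O₁ : (Psi f g q₀).pt ∈ O₁ := hmemO₁ q₀ hq₀
  obtain ⟨t, hle, hmem⟩ := hO₁.exists_basicOpen_le (V := O ⊓ O₁)
    ⟨(Psi f g q₀).pt, ⟨h₀, hz₀O₁⟩⟩ hz₀O₁
  haveI := hO₁.isLocalization_basicOpen t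
  have hleO : (Limits.pullback f g).basicOpen t ≤ O := hle.trans inf_le_left
  have hleO₁ : (Limits.pullback f g).basicOpen t ≤ O₁ := Scheme.basicOpen_le _ t
  obtain ⟨k, r, hkr⟩ := IsLocalization.Away.surj t
    ((Limits.pullback f g).presheaf.map (homOfLE hleO).op h)
  have hev : ∀ z : An.Pts (Limits.pullback f g),
      ∀ hz : z.pt ∈ (Limits.pullback f g).basicOpen t,
      z.ev O (hleO hz) h * (z.ev O₁ (hleO₁ hz) t) ^ k = z.ev O₁ (hleO₁ hz) r := by
    intro z hz
    have e1 := congrArg (Groth.Agent.S4183.evHom z _ hz) hkr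
    rw [map_mul, map_pow] at e1
    have e2 : Groth.Agent.S4183.evHom z _ hz
        ((Limits.pullback f g).presheaf.map (homOfLE hleO).op h)
        = z.ev O (hleO hz) h := Groth.Agent.S4183.ev_res z hleO hz h
    have e3 : ∀ s : Γ(Limits.pullback f g, O₁),
        Groth.Agent.S4183.evHom z _ hz (algebraMap _ _ s) = z.ev O₁ (hleO₁ hz) s := fun s =>
      Groth.Agent.S4183.ev_res z hleO₁ hz s
    rw [e2, e3, e3] at e1
    exact e1
  have hTat : ContinuousAt (fun q => evJ O₁ t (Psi f g q)) q₀ :=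
    (hC t).continuousAt (hP₁.mem_nhds hq₀)
  have hRat : ContinuousAt (fun q => evJ O₁ r (Psi f g q)) q₀ :=
    (hC r).continuousAt (hP₁.mem_nhds hq₀)
  have hne : evJ O₁ t (Psi f g q₀) ≠ 0 := by
    rw [evJ_pos _ _ _ hz₀O₁]
    exact (mem_basicOpen_iff' _ O₁ hz₀O₁ t).1 hmem
  have hcont : ContinuousAt
      (fun q => evJ O₁ r (Psi f g q) / (evJ O₁ t (Psi f g q)) ^ k) q₀ :=
    hRat.div (hTat.pow k) (pow_ne_zero k hne)
  have hval : evJ O₁ r (Psi f g q₀) / (evJ O₁ t (Psi f g q₀)) ^ k ∈ V := by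
    have := hev (Psi f g q₀) hmem
    rw [evJ_pos _ _ _ hz₀O₁, evJ_pos _ _ _ hz₀O₁, ← this, mul_div_assoc,
      div_self (pow_ne_zero k ((mem_basicOpen_iff' _ O₁ hz₀O₁ t).1 hmem)), mul_one]
    exact hv₀
  have h1 : {q | evJ O₁ r (Psi f g q) / (evJ O₁ t (Psi f g q)) ^ k ∈ V} ∈ 𝓝 q₀ :=
    hcont.preimage_mem_nhds (hV.mem_nhds hval)
  have h2 : {q | evJ O₁ t (Psi f g q) ≠ 0} ∈ 𝓝 q₀ := hTat.eventually_ne hne
  have h3 : P₁ ∈ 𝓝 q₀ := hP₁.mem_nhds hq₀
  refine Filter.mem_of_superset (Filter.inter_mem (Filter.inter_mem h1 h2) h3) ?_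
  rintro q ⟨⟨hq1, hq2⟩, hq3⟩
  have hz : (Psi f g q).pt ∈ O₁ := hmemO₁ q hq3
  have hq2' : (Psi f g q).ev O₁ hz t ≠ 0 := by
    have : evJ O₁ t (Psi f g q) ≠ 0 := hq2
    rwa [evJ_pos _ _ _ hz] at this
  have hy : (Psi f g q).pt ∈ (Limits.pullback f g).basicOpen t :=
    (mem_basicOpen_iff' _ O₁ hz t).2 hq2'
  refine ⟨hleO hy, ?_⟩
  have hq1' : evJ O₁ r (Psi f g q) / (evJ O₁ t (Psi f g q)) ^ k ∈ V := hq1
  rw [evJ_pos _ _ _ hz, evJ_pos _ _ _ hz, ← hev (Psi f g q) hy, mul_div_assoc,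
    div_self (pow_ne_zero k hq2'), mul_one] at hq1'
  exact hq1'

end Aux

/-- Compatibility with fibre products, on underlying spaces: for morphisms f : X → S and g : Y → S of
schemes locally of finite type over ℂ, the canonical map from the ℂ-points of X ×_S Y to the fibre
product of the spaces X(ℂ) and Y(ℂ) over S(ℂ) is a homeomorphism (complex topologies,
subspace-of-product topology on the target). -/
theorem result (X Y S : Scheme.{0}) [X.Over An.SC] [Y.Over An.SC] [S.Over An.SC]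
    [LocallyOfFiniteType (X ↘ An.SC)] [LocallyOfFiniteType (Y ↘ An.SC)] [LocallyOfFiniteType (S ↘ An.SC)]
    (f : X ⟶ S) (g : Y ⟶ S) [f.IsOver An.SC] [g.IsOver An.SC] :
    IsHomeomorph (fun z : An.Pts (Limits.pullback f g) =>
      (⟨(An.Pts.map (Limits.pullback.fst f g) z, An.Pts.map (Limits.pullback.snd f g) z),
        An.Pts.map_pullback_condition f g z⟩ :
        {q : An.Pts X × An.Pts Y // An.Pts.map f q.1 = An.Pts.map g q.2})) := by
  rw [isHomeomorph_iff_exists_inverse]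
  refine ⟨?_, Psi f g, ?_, ?_, continuous_Psi f g⟩
  · exact Continuous.subtype_mk
      ((An.Pts.continuous_map _).prodMk (An.Pts.continuous_map _)) _
  · intro z
    exact Psi_Phi f g z
  · intro q
    exact Subtype.ext (Prod.ext (map_fst_Psi f g q) (map_snd_Psi f g q))

end Groth.Agent.S4193
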