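import Groth.Statements.S4198
import Groth.Agent.S4186
import Mathlib

set_option autoImplicit false
open CategoryTheory AlgebraicGeometry Topology TopologicalSpace
open An

namespace Groth.Agent.S4198

lemma constr_key {V : Type*} [TopologicalSpace V] {T : Set V} (hT : Topology.IsConstructible T) :
    ∀ v : V, (v ∈ T → ∃ O : Set V, IsOpen O ∧ v ∈ O ∧ O ∩ closure {v} ⊆ T) ∧
      (v ∉ T → ∃ O : Set V, IsOpen O ∧ v ∈ O ∧ O ∩ closure {v} ⊆ Tᶜ) := by
  induction hT using Topology.IsConstructible.empty_union_induction with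
  | open_retrocompact U hUo hUc =>
    intro v
    refine ⟨fun hv => ⟨U, hUo, hv, Set.inter_subset_left⟩,
      fun hv => ⟨Set.univ, isOpen_univ, Set.mem_univ _, ?_⟩⟩
    rintro w ⟨-, hw⟩
    have : closure {v} ⊆ Uᶜ :=
      closure_minimal (Set.singleton_subset_iff.2 hv) hUo.isClosed_compl
    exact this hw
  | union s hs t ht ihs iht =>
    intro v
    refine ⟨fun hv => ?_, fun hv => ?_⟩
    · rcases hv with hv | hv
      · obtain ⟨O, hO, hvO, hsub⟩ := (ihs v).1 hv
        exact ⟨O, hO, hvO, hsub.trans Set.subset_union_left⟩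
      · obtain ⟨O, hO, hvO, hsub⟩ := (iht v).1 hv
        exact ⟨O, hO, hvO, hsub.trans Set.subset_union_right⟩
    · have hvs : v ∉ s := fun h => hv (Or.inl h)
      have hvt : v ∉ t := fun h => hv (Or.inr h)
      obtain ⟨O₁, hO₁, hvO₁, hsub₁⟩ := (ihs v).2 hvs
      obtain ⟨O₂, hO₂, hvO₂, hsub₂⟩ := (iht v).2 hvt
      refine ⟨O₁ ∩ O₂, hO₁.inter hO₂, ⟨hvO₁, hvO₂⟩, ?_⟩
      rintro w ⟨⟨hw₁, hw₂⟩, hwc⟩
      rw [Set.compl_union]
      exact ⟨hsub₁ ⟨hw₁, hwc⟩, hsub₂ ⟨hw₂, hwc⟩⟩
  | compl s hs ih =>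
    intro v
    refine ⟨fun hv => (ih v).2 hv, fun hv => ?_⟩
    have hv' : v ∈ s := by
      by_contra h
      exact hv h
    rw [compl_compl]
    exact (ih v).1 hv'


/-- Let f : X → Y be a morphism of finite type (here: quasi-compact, X and Y being locally of finite
type over ℂ). Then f is surjective if and only if the induced map on complex points X(ℂ) → Y(ℂ) is
surjective. (The finite-type hypothesis cannot be dropped.) -/
theorem result (X Y : Scheme.{0}) [X.Over An.SC] [LocallyOfFiniteType (X ↘ An.SC)]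
    [Y.Over An.SC] [LocallyOfFiniteType (Y ↘ An.SC)] (f : X ⟶ Y) [f.IsOver An.SC] [QuasiCompact f] :
    Function.Surjective f.base ↔ Function.Surjective (An.Pts.map f) := by
  haveI hcomp : LocallyOfFiniteType (f ≫ (Y ↘ An.SC)) := by
    rw [comp_over f An.SC]
    infer_instance
  haveI hfl : LocallyOfFiniteType f := locallyOfFiniteType_of_comp f (Y ↘ An.SC)
  constructor
  · intro hsurj y
    let F : Scheme.{0} := Limits.pullback f y.1
    letI : F.Over An.SC := ⟨Limits.pullback.snd f y.1⟩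
    haveI : LocallyOfFiniteType (F ↘ An.SC) :=
      inferInstanceAs (LocallyOfFiniteType (Limits.pullback.snd f y.1))
    have hne : Nonempty ↥F := by
      obtain ⟨x, hx⟩ := hsurj y.pt
      have hx' : f x = y.1 An.cpt := hx
      obtain ⟨z, -, -⟩ := Scheme.Pullback.exists_preimage_pullback x An.cpt hx'
      exact ⟨z⟩
    obtain ⟨z⟩ := (Groth.Agent.S4186.result F).1 hne
    have hz : z.1 ≫ Limits.pullback.snd f y.1 = 𝟙 _ := z.2
    refine ⟨⟨z.1 ≫ Limits.pullback.fst f y.1, ?_⟩, ?_⟩
    · have h1 : f ≫ (Y ↘ An.SC) = X ↘ An.SC := comp_over f An.SC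
      rw [← h1, Category.assoc, ← Category.assoc (Limits.pullback.fst f y.1),
        Limits.pullback.condition, Category.assoc, y.2, Category.comp_id]
      exact hz
    · apply Subtype.ext
      change (z.1 ≫ Limits.pullback.fst f y.1) ≫ f = y.1
      rw [Category.assoc, Limits.pullback.condition, ← Category.assoc, hz, Category.id_comp]
  · intro hsurj y
    by_contra hy
    haveI : JacobsonSpace ↥Y := LocallyOfFiniteType.jacobsonSpace (Y ↘ An.SC)
    haveI : IsLocallyNoetherian Y := LocallyOfFiniteType.isLocallyNoetherian (Y ↘ An.SC)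
    haveI : LocallyOfFinitePresentation f := inferInstance
    have hLC : Topology.IsLocallyConstructible (Set.range f) := by
      have := f.isLocallyConstructible_image
        (s := Set.univ) Topology.IsConstructible.univ.isLocallyConstructible
      rwa [Set.image_univ] at this
    obtain ⟨V, hVn, hVo, hVc⟩ := hLC y
    have hyV : y ∈ V := mem_of_mem_nhds hVn
    have hyr : y ∉ Set.range f := fun ⟨x, hx⟩ => hy ⟨x, hx⟩
    obtain ⟨O, hO, hvO, hsub⟩ := (constr_key hVc ⟨y, hyV⟩).2 hyr
    let Z : Set ↥Y := Subtype.val '' (O ∩ closure {(⟨y, hyV⟩ : V)})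
    have hZlc : IsLocallyClosed Z :=
      (hO.isLocallyClosed.inter isClosed_closure.isLocallyClosed).image
        hVo.isOpenEmbedding_subtypeVal.isInducing
        (by rw [Subtype.range_coe]; exact hVo.isLocallyClosed)
    have hZne : Z.Nonempty := ⟨y, ⟨⟨y, hyV⟩, ⟨hvO, subset_closure rfl⟩, rfl⟩⟩
    obtain ⟨y₀, ⟨w, hw, rfl⟩, hy₀⟩ := nonempty_inter_closedPoints hZne hZlc
    have hnr : (w : ↥Y) ∉ Set.range f := hsub hw
    let p : An.Pts Y := (pointEquivClosedPoint (Y ↘ An.SC)).symm ⟨w, hy₀⟩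
    obtain ⟨x, hx⟩ := hsurj p
    apply hnr
    refine ⟨x.pt, ?_⟩
    have h1 : (An.Pts.map f x).pt = f x.pt := An.Pts.pt_map f x
    rw [hx] at h1
    rw [← h1]
    exact pointOfClosedPoint_apply (Y ↘ An.SC) w hy₀ An.cpt

end Groth.Agent.S4198
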