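import Groth.Statements.S4201
import Groth.Agent.S4196
import Groth.Agent.S4200
import Mathlib

set_option autoImplicit false
open CategoryTheory AlgebraicGeometry Topology TopologicalSpace
open An

namespace Groth.Agent.S4201

/-- The direction from schemes to spaces: an immersion f : X → Y of schemes locally of finite type over
ℂ induces an embedding X(ℂ) → Y(ℂ) whose image is locally closed. -/
theorem result (X Y : Scheme.{0}) [X.Over An.SC] [LocallyOfFiniteType (X ↘ An.SC)]
    [Y.Over An.SC] [LocallyOfFiniteType (Y ↘ An.SC)] (f : X ⟶ Y) [f.IsOver An.SC] [IsImmersion f] :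
    Topology.IsEmbedding (An.Pts.map f) ∧ IsLocallyClosed (Set.range (An.Pts.map f)) := by
  letI : (f.coborderRange : Scheme.{0}).Over An.SC := ⟨f.coborderRange.ι ≫ (Y ↘ An.SC)⟩
  haveI : f.coborderRange.ι.IsOver An.SC := ⟨rfl⟩
  haveI : f.liftCoborder.IsOver An.SC := ⟨by
    show f.liftCoborder ≫ (f.coborderRange.ι ≫ (Y ↘ An.SC)) = X ↘ An.SC
    rw [← Category.assoc, f.liftCoborder_ι, comp_over f An.SC]⟩
  haveI : LocallyOfFiniteType ((f.coborderRange : Scheme.{0}) ↘ An.SC) := by
    show LocallyOfFiniteType (f.coborderRange.ι ≫ (Y ↘ An.SC))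
    infer_instance
  have hc := Groth.Agent.S4200.result X (f.coborderRange : Scheme.{0}) f.liftCoborder
  have ho := Groth.Agent.S4196.result (f.coborderRange : Scheme.{0}) Y f.coborderRange.ι
  have hcomp : An.Pts.map f = An.Pts.map f.coborderRange.ι ∘ An.Pts.map f.liftCoborder := by
    funext x
    apply Subtype.ext
    show x.1 ≫ f = (x.1 ≫ f.liftCoborder) ≫ f.coborderRange.ι
    rw [Category.assoc, f.liftCoborder_ι]
  rw [hcomp]
  refine ⟨ho.isEmbedding.comp hc.isEmbedding, ?_⟩
  rw [Set.range_comp]
  exact hc.isClosed_range.isLocallyClosed.image ho.isEmbedding.isInducing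
    ho.isOpen_range.isLocallyClosed

end Groth.Agent.S4201
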