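import Groth.Statements.S4211
import Mathlib

set_option autoImplicit false
universe u
open An

namespace Groth.Agent.S4211

open CategoryTheory TopologicalSpace Opposite in
/-- For a topological space T, the inclusion of the opens of T into the site of local homeomorphisms
over T is continuous. This is the hypothesis An.OpCont carried by statements that restrict classical
sheaves to opens. -/
theorem result (T : Type u) [TopologicalSpace T] :
    An.OpCont T := by
  apply Functor.isContinuous_of_coverPreserving
  · constructor
    intro ℱ Z P x hx Y₁ Y₂ X f₁ f₂ g₁ g₂ hg₁ hg₂ hcomm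
    -- factor through the intersection
    have hmem : ∀ b : X.E, X.p b ∈ Y₁ ⊓ Y₂ := by
      intro b
      constructor
      · have := f₁.over b
        change (f₁.toFun b).1 = X.p b at this
        rw [← this]; exact (f₁.toFun b).2
      · have := f₂.over b
        change (f₂.toFun b).1 = X.p b at this
        rw [← this]; exact (f₂.toFun b).2
    let f : X ⟶ (opensToCl T).obj (Y₁ ⊓ Y₂) :=
      ⟨fun b => ⟨X.p b, hmem b⟩, Continuous.subtype_mk X.lh.continuous _, fun _ => rfl⟩
    have h1 : f₁ = f ≫ (opensToCl T).map (homOfLE inf_le_left) := by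
      apply Cl.hom_ext
      funext b
      apply Subtype.ext
      exact f₁.over b
    have h2 : f₂ = f ≫ (opensToCl T).map (homOfLE inf_le_right) := by
      apply Cl.hom_ext
      funext b
      apply Subtype.ext
      exact f₂.over b
    have hc := hx (homOfLE inf_le_left : Y₁ ⊓ Y₂ ⟶ Y₁) (homOfLE inf_le_right : Y₁ ⊓ Y₂ ⟶ Y₂)
      hg₁ hg₂ (Subsingleton.elim _ _)
    rw [h1, h2, op_comp, op_comp, Functor.map_comp, Functor.map_comp]
    simp only [types_comp_apply]
    exact congrArg (ℱ.obj.map f.op) hc
  · constructor
    intro U S hS a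
    obtain ⟨V, f, hSf, hxV⟩ := hS a.1 a.2
    refine ⟨(opensToCl T).obj V, (opensToCl T).map f, ⟨V, f, 𝟙 _, hSf, (Category.id_comp _).symm⟩, ?_,
      ⟨⟨a.1, hxV⟩, rfl⟩⟩
    exact TopologicalSpace.Opens.isOpenEmbedding_of_le f.le

end Groth.Agent.S4211
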