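import Groth.Statements.S4212
import Mathlib

set_option autoImplicit false
universe u
open An

namespace Groth.Agent.S4212

open CategoryTheory TopologicalSpace Opposite

instance full_opensToCl (T : Type u) [TopologicalSpace T] : (opensToCl T).Full where
  map_surjective {U V} f := by
    have hle : U ≤ V := by
      intro x hx
      have := f.over ⟨x, hx⟩
      change (f.toFun ⟨x, hx⟩).1 = x at this
      rw [← this]
      exact (f.toFun ⟨x, hx⟩).2
    refine ⟨homOfLE hle, ?_⟩
    apply Cl.hom_ext
    funext b
    apply Subtype.ext
    exact (f.over b).symm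

instance faithful_opensToCl (T : Type u) [TopologicalSpace T] : (opensToCl T).Faithful where
  map_injective _ := Subsingleton.elim _ _

theorem isCoverDense_opensToCl (T : Type u) [TopologicalSpace T] :
    (opensToCl T).IsCoverDense (Cl.topology T) where
  is_cover E := by
    intro a
    obtain ⟨e, hae, hpe⟩ := E.lh a
    let U : Opens T := ⟨e.target, e.open_target⟩
    let g : (opensToCl T).obj U ⟶ E :=
      ⟨fun t => e.symm t.1, e.continuousOn_symm.comp_continuous continuous_subtype_val (fun t => t.2),
        fun t => by
          change E.p (e.symm t.1) = t.1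
          rw [hpe]
          exact e.right_inv t.2⟩
    refine ⟨(opensToCl T).obj U, g, ⟨⟨U, 𝟙 _, g, Category.id_comp _⟩⟩, ?_, ?_⟩
    · exact e.symm.isOpenEmbedding_restrict
    · refine ⟨⟨e a, e.map_source hae⟩, ?_⟩
      exact e.left_inv hae

theorem isDenseSubsite_opensToCl (T : Type u) [TopologicalSpace T] :
    (opensToCl T).IsDenseSubsite (Opens.grothendieckTopology T) (Cl.topology T) where
  isCoverDense' := isCoverDense_opensToCl T
  functorPushforward_mem_iff {U S} := by
    constructor
    · intro h x hx
      obtain ⟨B, g, ⟨V, f', k, hSf', hg⟩, -, ⟨b, hb⟩⟩ := h ⟨x, hx⟩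
      refine ⟨V, f', hSf', ?_⟩
      have h1 : (g.toFun b).1 = x := congrArg Subtype.val hb
      rw [hg] at h1
      change (k.toFun b).1 = x at h1
      rw [← h1]
      exact (k.toFun b).2
    · intro hS a
      obtain ⟨V, f, hSf, hxV⟩ := hS a.1 a.2
      refine ⟨(opensToCl T).obj V, (opensToCl T).map f, ⟨V, f, 𝟙 _, hSf, (Category.id_comp _).symm⟩,
        ?_, ⟨⟨a.1, hxV⟩, rfl⟩⟩
      exact TopologicalSpace.Opens.isOpenEmbedding_of_le f.le

/-- For a topological space T, the topos of the site of local homeomorphisms over T is equivalent to
that of T: restriction of abelian sheaves along the inclusion of the opens of T is an equivalence of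
categories. -/
theorem result (T : Type u) [TopologicalSpace T] [An.OpCont T] :
    (An.resOpens T).IsEquivalence := by
  haveI := isDenseSubsite_opensToCl T
  haveI : ∀ X, Limits.HasLimitsOfShape (StructuredArrow X (opensToCl T).op) AddCommGrpCat.{u + 1} := by
    intro X
    infer_instance
  exact inferInstanceAs ((opensToCl T).sheafPushforwardContinuous AddCommGrpCat.{u + 1}
    (Opens.grothendieckTopology T) (Cl.topology T)).IsEquivalence

end Groth.Agent.S4212
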