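import Groth.Statements.S4243
import Mathlib.FieldTheory.Finite.Polynomial
import Mathlib.RingTheory.MvPolynomial.Homogeneous

set_option autoImplicit false
open SGA4h

namespace Groth.Agent.S4243

open MvPolynomial in
theorem eq_single_of_degree {σ : Type*} [DecidableEq σ] (m : σ →₀ ℕ) (i : σ) (q : ℕ)
    (h1 : m.degree = q) (h2 : q ≤ m i) : m = Finsupp.single i q := by
  have hle : Finsupp.single i q ≤ m := by
    intro j
    by_cases hj : j = i
    · subst hj; simpa using h2
    · simp [Finsupp.single_apply, Ne.symm hj]
  have hdeg : (m - Finsupp.single i q).degree = 0 := by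
    have h3 : (m - Finsupp.single i q + Finsupp.single i q).degree = q := by
      rw [tsub_add_cancel_of_le hle, h1]
    rw [map_add, Finsupp.degree_single] at h3
    omega
  rw [Finsupp.degree_eq_zero_iff] at hdeg
  have := tsub_add_cancel_of_le hle
  rw [hdeg, zero_add] at this
  exact this.symm

open MvPolynomial in
/-- Let k be a finite field with q elements and P a nonzero homogeneous polynomial of degree d in r+1
variables over k. If P vanishes at every point of k^{r+1} (that is, the hypersurface P = 0 in
projective r-space passes through every rational point), then d ≥ q + 1. -/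
theorem result (k : Type) [Field k] [Fintype k] (r d : ℕ)
    (P : MvPolynomial (Fin (r + 1)) k) (hP : P.IsHomogeneous d) (hP0 : P ≠ 0)
    (hvan : ∀ x : Fin (r + 1) → k, MvPolynomial.eval x P = 0) :
    Fintype.card k + 1 ≤ d := by
  classical
  by_contra hcon
  push Not at hcon
  set q := Fintype.card k with hq
  have hq2 : 2 ≤ q := Fintype.one_lt_card
  have hdq : d ≤ q := by omega
  -- coefficients of the pure powers
  let c : Fin (r + 1) → k := fun i => coeff (Finsupp.single i q) P
  let Q : MvPolynomial (Fin (r + 1)) k := P - ∑ i, C (c i) * (X i ^ q - X i)
  have hQvan : ∀ x : Fin (r + 1) → k, eval x Q = 0 := by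
    intro x
    simp only [Q, map_sub, map_sum, map_mul, eval_C, map_pow, eval_X, hvan x, zero_sub, neg_eq_zero]
    refine Finset.sum_eq_zero fun i _ => ?_
    rw [hq, FiniteField.pow_card, sub_self, mul_zero]
  have hcoeffQ : ∀ m, coeff m Q = coeff m P - ∑ i, c i *
      ((if Finsupp.single i q = m then 1 else 0) - (if Finsupp.single i 1 = m then 1 else 0)) := by
    intro m
    simp only [Q, coeff_sub, coeff_sum, coeff_C_mul, coeff_X_pow, coeff_X']
  have hQmem : Q ∈ restrictDegree (Fin (r + 1)) k (q - 1) := by
    rw [mem_restrictDegree]
    intro m hm i
    by_contra hlt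
    push Not at hlt
    have hqi : q ≤ m i := by omega
    rw [mem_support_iff, hcoeffQ] at hm
    apply hm
    have hne1 : ∀ j, Finsupp.single j 1 ≠ m := by
      intro j hj
      have : m i ≤ 1 := by
        rw [← hj, Finsupp.single_apply]; split_ifs <;> omega
      omega
    by_cases hmP : coeff m P = 0
    · -- m not in support of P
      have hneq : ∀ j, Finsupp.single j q = m → c j = 0 := by
        intro j hj
        simp only [c, hj, hmP]
      rw [hmP, zero_sub, neg_eq_zero]
      refine Finset.sum_eq_zero fun j _ => ?_
      rw [if_neg (hne1 j), sub_zero]
      by_cases hj : Finsupp.single j q = m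
      · rw [hneq j hj, zero_mul]
      · rw [if_neg hj, mul_zero]
    · have hdeg : m.degree = d := by
        by_contra hne
        exact hmP (hP.coeff_eq_zero hne)
      have hdq' : d = q := by
        have := Finsupp.le_degree i m
        omega
      have hm_eq : m = Finsupp.single i q := eq_single_of_degree m i q (hdeg.trans hdq') hqi
      rw [Finset.sum_eq_single i]
      · rw [if_pos hm_eq.symm, if_neg (hne1 i), sub_zero, mul_one]
        simp only [c, hm_eq, sub_self]
      · intro j _ hji
        rw [if_neg (hne1 j), sub_zero]
        have : Finsupp.single j q ≠ m := by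
          rw [hm_eq]
          intro h
          have := Finsupp.single_left_injective (by omega : q ≠ 0) h
          exact hji this
        rw [if_neg this, mul_zero]
      · intro h; exact absurd (Finset.mem_univ i) h
  have hQ0 : Q = 0 := eq_zero_of_eval_eq_zero _ _ Q hQvan hQmem
  -- now all c i vanish
  have hc : ∀ i, c i = 0 := by
    intro i
    by_cases hdq' : d = q
    · have h1 := hcoeffQ (Finsupp.single i 1)
      rw [hQ0, coeff_zero] at h1
      have hP1 : coeff (Finsupp.single i 1) P = 0 := by
        apply hP.coeff_eq_zero
        rw [Finsupp.degree_single]; omega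
      rw [hP1, zero_sub, eq_comm, neg_eq_zero, Finset.sum_eq_single i] at h1
      · have hne : Finsupp.single i q ≠ Finsupp.single i 1 := by
          intro h
          have := congrArg (fun f => f i) h
          simp at this
          omega
        rw [if_neg hne, if_pos rfl, zero_sub, mul_neg, mul_one, neg_eq_zero] at h1
        exact h1
      · intro j _ hji
        have h1' : Finsupp.single j q ≠ Finsupp.single i 1 := by
          intro h
          have := congrArg (fun f => f j) h
          simp [Finsupp.single_apply, hji] at this
          omega
        have h2' : Finsupp.single j 1 ≠ Finsupp.single i 1 := by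
          intro h
          exact hji (Finsupp.single_left_injective one_ne_zero h)
        rw [if_neg h1', if_neg h2', sub_zero, mul_zero]
      · intro h; exact absurd (Finset.mem_univ i) h
    · apply hP.coeff_eq_zero
      rw [Finsupp.degree_single]; omega
  apply hP0
  have : P = Q + ∑ i, C (c i) * (X i ^ q - X i) := by simp [Q]
  rw [this, hQ0, zero_add]
  refine Finset.sum_eq_zero fun i _ => ?_
  rw [hc i, map_zero, zero_mul]

end Groth.Agent.S4243
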