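import Groth.Statements.S4256
import Mathlib

set_option autoImplicit false
open scoped BigOperators
open SGA4h

namespace Groth.Agent.S4256

theorem result (k : Type) [Field k] [Fintype k] [DecidableEq k] (R : Type) [CommRing R] [IsDomain R]
    (ψ : AddChar k R) (hψ : ψ ≠ 1) (n : ℕ) (hn : 1 ≤ n) :
    ∑ x ∈ (Finset.univ : Finset (Fin n → k)).filter (fun x => ∏ i, x i = 0), ψ (∑ i, x i) = (-1) ^ (n - 1) := by
  classical
  have hsum : ∑ a : k, ψ a = 0 := AddChar.sum_eq_zero_of_ne_one hψ
  have hterm : ∀ x : Fin n → k, ψ (∑ i, x i) = ∏ i, ψ (x i) := by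
    intro x
    induction (Finset.univ : Finset (Fin n)) using Finset.induction_on with
    | empty => simp
    | insert a s ha ih => rw [Finset.sum_insert ha, Finset.prod_insert ha, AddChar.map_add_eq_mul, ih]
  -- the total sum vanishes
  have htot : ∑ x : Fin n → k, ψ (∑ i, x i) = 0 := by
    simp_rw [hterm]
    have := Finset.prod_univ_sum (fun _ : Fin n => (Finset.univ : Finset k)) (fun _ a => ψ a)
    simp only [Fintype.piFinset_univ] at this
    rw [← this, Finset.prod_const, hsum, Finset.card_univ, Fintype.card_fin]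
    exact zero_pow (by omega)
  -- the sum over nonzero coordinates
  have hsum' : ∑ a ∈ (Finset.univ : Finset k).erase 0, ψ a = -1 := by
    have := Finset.add_sum_erase (Finset.univ : Finset k) (fun a => ψ a) (Finset.mem_univ 0)
    rw [hsum, AddChar.map_zero_eq_one] at this
    linear_combination this
  have hnz : ∑ x ∈ (Finset.univ : Finset (Fin n → k)).filter (fun x => ¬ ∏ i, x i = 0), ψ (∑ i, x i)
      = (-1) ^ n := by
    have hset : (Finset.univ : Finset (Fin n → k)).filter (fun x => ¬ ∏ i, x i = 0)
        = Fintype.piFinset (fun _ : Fin n => (Finset.univ : Finset k).erase 0) := by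
      ext x
      simp [Finset.prod_eq_zero_iff, Fintype.mem_piFinset]
    rw [hset]
    simp_rw [hterm]
    have := Finset.prod_univ_sum (fun _ : Fin n => (Finset.univ : Finset k).erase 0) (fun _ a => ψ a)
    rw [← this, Finset.prod_const, hsum', Finset.card_univ, Fintype.card_fin]
  have hsplit := Finset.sum_filter_add_sum_filter_not (Finset.univ : Finset (Fin n → k))
    (fun x => ∏ i, x i = 0) (fun x => ψ (∑ i, x i))
  rw [htot, hnz] at hsplit
  obtain ⟨m, rfl⟩ : ∃ m, n = m + 1 := ⟨n - 1, by omega⟩
  simp only [add_tsub_cancel_right]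
  rw [pow_succ] at hsplit
  linear_combination hsplit

end Groth.Agent.S4256
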