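import Groth.Statements.S4297
import Groth.Agent.H23.PCohInf2

set_option autoImplicit false
universe w v u
open CategoryTheory CategoryTheory.Limits
open PCoh

namespace Groth.Agent.S4297

/-- Punctual site: faithfulness of K⁻(C₀)/(acyclic complexes) ⟶ D(C): let C be an abelian category and
C₀ a strictly full additive subcategory, quasi-stable under kernels of epimorphisms and
quasi-liftable. If two chain maps f, g : E ⟶ E' between bounded above complexes with terms in C₀
have the same image in D(C), then there are a bounded above complex E'' with terms in C₀ and a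
quasi-isomorphism s : E'' ⟶ E such that s ≫ f and s ≫ g are homotopic. -/
theorem result {C : Type u} [Category.{v} C] [Abelian C] [HasDerivedCategory.{w} C]
    (P : ObjectProperty C) [P.IsClosedUnderIsomorphisms] [P.ContainsZero] (hsum : ∀ X Y : C, P X → P Y → P (X ⨯ Y))
    (hqs : PCoh.IsQuasiStableUnderKernels P) (hql : PCoh.IsQuasiLiftable P)
    (E E' : CochainComplex C ℤ) (hE : PCoh.IsStrictPCAll P E) (hE' : PCoh.IsStrictPCAll P E')
    (f g : E ⟶ E') (hfg : DerivedCategory.Q.map f = DerivedCategory.Q.map g) :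
    ∃ (E'' : CochainComplex C ℤ) (s : E'' ⟶ E), PCoh.IsStrictPCAll P E'' ∧ QuasiIso s ∧ Nonempty (Homotopy (s ≫ f) (s ≫ g)) := by
  obtain ⟨⟨b, hb⟩, hPE⟩ := hE
  have h : DerivedCategory.Qh.map ((HomotopyCategory.quotient _ _).map f) =
      DerivedCategory.Qh.map ((HomotopyCategory.quotient _ _).map g) := hfg
  rw [MorphismProperty.map_eq_iff_precomp DerivedCategory.Qh
    (HomotopyCategory.quasiIso C (ComplexShape.up ℤ))] at h
  obtain ⟨X, s, hs, hfg'⟩ := h
  obtain ⟨E₁, rfl⟩ := HomotopyCategory.quotient_obj_surjective X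
  obtain ⟨s₁, rfl⟩ := (HomotopyCategory.quotient _ _).map_surjective s
  rw [← DerivedCategory.isIso_Qh_map_iff] at hs
  have hs₁ : IsIso (DerivedCategory.Q.map s₁) := hs
  haveI : QuasiIso s₁ := (DerivedCategory.isIso_Q_map_iff_quasiIso C s₁).1 hs₁
  have hh : Homotopy (s₁ ≫ f) (s₁ ≫ g) := HomotopyCategory.homotopyOfEq _ _ (by
    rw [Functor.map_comp, Functor.map_comp]
    exact hfg')
  have hac : ∀ j, b < j → IsZero (E₁.homology j) := fun j hj =>
    IsZero.of_iso (Groth.Agent.H23.PCohLib.isZero_homology_of_isZero_X E j (hb j hj))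
      (asIso (HomologicalComplex.homologyMap s₁ j))
  obtain ⟨E', t', h1, h2, h3⟩ := Groth.Agent.H23.PCohLib.exists_resolution_zero P hsum hqs hql E₁
    (fun n => ⟨E, ⟨⟨b, hb⟩, fun i _ => hPE i⟩, ⟨(asIso (DerivedCategory.Q.map s₁)).symm⟩⟩) b hac
  haveI := h3
  refine ⟨E', t' ≫ s₁, ⟨⟨b, h2⟩, h1⟩, inferInstance, ?_⟩
  rw [Category.assoc, Category.assoc]
  exact ⟨hh.compLeft t'⟩

end Groth.Agent.S4297
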