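import Groth.Statements.S4307
import Mathlib
import Groth.Agent.S4183
set_option linter.style.haveILetI false

set_option autoImplicit false
open CategoryTheory AlgebraicGeometry Topology TopologicalSpace
open An

namespace Groth.Agent.S4307

section Aux
open Groth.Agent.S4183

variable (n : ℕ)

lemma differentiable_eval (q : MvPolynomial (Fin n) ℂ) :
    Differentiable ℂ (fun v : Fin n → ℂ => MvPolynomial.eval v q) := by
  induction q using MvPolynomial.induction_on with
  | C a => simp only [MvPolynomial.eval_C]; exact differentiable_const _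
  | add p q hp hq => simp only [map_add]; exact hp.add hq
  | mul_X p i hp =>
    simp only [map_mul, MvPolynomial.eval_X]
    exact hp.mul (differentiable_apply i)

lemma exists_poly (s : Γ(𝔸(Fin n; An.SC), ⊤)) :
    ∃ q : MvPolynomial (Fin n) ℂ, ∀ v : Fin n → ℂ,
      (psi n v).evTop s = MvPolynomial.eval v q := by
  let c : Γ(An.SC, ⊤) →+* Γ(𝔸(Fin n; An.SC), ⊤) := ((𝔸(Fin n; An.SC) ↘ An.SC).appTop).hom
  let E : MvPolynomial (Fin n) Γ(An.SC, ⊤) →+* Γ(𝔸(Fin n; An.SC), ⊤) :=
    MvPolynomial.eval₂Hom c (AffineSpace.coord An.SC)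
  have hE : Function.Surjective E := by
    have h1 : CommRingCat.ofHom E = (Scheme.ΓSpecIso _).inv ≫
        (AffineSpace.isoOfIsAffine (Fin n) An.SC).hom.appTop := by
      rw [AffineSpace.isoOfIsAffine_hom_appTop, Iso.inv_hom_id_assoc]
    haveI : IsIso (AffineSpace.isoOfIsAffine (Fin n) An.SC).hom.appTop :=
      inferInstanceAs (IsIso ((AffineSpace.isoOfIsAffine (Fin n) An.SC).hom.app ⊤))
    have h2 : IsIso (CommRingCat.ofHom E) := by rw [h1]; infer_instance
    exact (ConcreteCategory.bijective_of_isIso (CommRingCat.ofHom E)).2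
  obtain ⟨p, rfl⟩ := hE s
  let σ : Γ(An.SC, ⊤) →+* ℂ := (Scheme.ΓSpecIso (CommRingCat.of ℂ)).hom.hom
  refine ⟨MvPolynomial.map σ p, fun v => ?_⟩
  show evHom (psi n v) ⊤ (Opens.mem_top _)
    (MvPolynomial.eval₂ c (AffineSpace.coord An.SC) p) = _
  rw [MvPolynomial.eval₂_comp_left, MvPolynomial.eval_map]
  congr 1
  · ext r; exact evTop_str (psi n v) r
  · funext i; exact evTop_psi_coord n v i

lemma differentiable_evTop_psi (s : Γ(𝔸(Fin n; An.SC), ⊤)) :
    Differentiable ℂ (fun v : Fin n → ℂ => (psi n v).evTop s) := by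
  obtain ⟨q, hq⟩ := exists_poly n s
  have : (fun v : Fin n → ℂ => (psi n v).evTop s) = fun v => MvPolynomial.eval v q :=
    funext hq
  rw [this]
  exact differentiable_eval n q

open Classical in
/-- extension by zero of the evaluation function -/
noncomputable def evExt (W : (𝔸(Fin n; An.SC)).Opens) (s : Γ(𝔸(Fin n; An.SC), W))
    (v : Fin n → ℂ) : ℂ :=
  if h : (psi n v).pt ∈ W then (psi n v).ev W h s else 0

lemma differentiableAt_evExt (W : (𝔸(Fin n; An.SC)).Opens) (s : Γ(𝔸(Fin n; An.SC), W))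
    (v₀ : Fin n → ℂ) (h₀ : (psi n v₀).pt ∈ W) : DifferentiableAt ℂ (evExt n W s) v₀ := by
  obtain ⟨h, hle, hmem⟩ := (isAffineOpen_top (𝔸(Fin n; An.SC))).exists_basicOpen_le
    (V := W) ⟨(psi n v₀).pt, h₀⟩ (Opens.mem_top _)
  haveI := (isAffineOpen_top (𝔸(Fin n; An.SC))).isLocalization_basicOpen h
  obtain ⟨k, g, hkg⟩ := IsLocalization.Away.surj h
    ((𝔸(Fin n; An.SC)).presheaf.map (homOfLE hle).op s)
  have hev : ∀ y : An.Pts (𝔸(Fin n; An.SC)),
      ∀ hy : y.pt ∈ (𝔸(Fin n; An.SC)).basicOpen h,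
      y.ev W (hle hy) s * (y.evTop h) ^ k = y.evTop g := by
    intro y hy
    have e1 := congrArg (evHom y _ hy) hkg
    rw [map_mul, map_pow] at e1
    have e2 : evHom y _ hy ((𝔸(Fin n; An.SC)).presheaf.map (homOfLE hle).op s)
        = y.ev W (hle hy) s := Groth.Agent.S4183.ev_res y hle hy s
    have e3 : ∀ t : Γ(𝔸(Fin n; An.SC), ⊤),
        evHom y _ hy (algebraMap _ _ t) = y.evTop t := fun t =>
      Groth.Agent.S4183.ev_res y (Scheme.basicOpen_le _ h) hy t
    rw [e2, e3, e3] at e1
    exact e1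
  have hH := differentiable_evTop_psi n h
  have hG := differentiable_evTop_psi n g
  have hne : (psi n v₀).evTop h ≠ 0 := (mem_basicOpen_iff _ h).1 hmem
  have hpow : DifferentiableAt ℂ (fun v => ((psi n v).evTop h) ^ k) v₀ := (hH v₀).pow k
  have hinv : DifferentiableAt ℂ (fun v => (((psi n v).evTop h) ^ k)⁻¹) v₀ :=
    hpow.fun_inv (pow_ne_zero k hne)
  have hdiff : DifferentiableAt ℂ
      (fun v => (psi n v).evTop g * (((psi n v).evTop h) ^ k)⁻¹) v₀ :=
    (hG v₀).mul hinv
  have h2 : ∀ᶠ v in 𝓝 v₀, (psi n v).evTop h ≠ 0 :=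
    hH.continuous.continuousAt.eventually_ne hne
  refine hdiff.congr_of_eventuallyEq ?_
  filter_upwards [h2] with v hv2
  have hy : (psi n v).pt ∈ (𝔸(Fin n; An.SC)).basicOpen h := (mem_basicOpen_iff _ h).2 hv2
  simp only [evExt, dif_pos (hle hy)]
  rw [← hev (psi n v) hy, mul_inv_cancel_right₀ (pow_ne_zero k hv2)]

open Classical in
/-- extension by zero of a function on an open set of points, transported to ℂⁿ -/
noncomputable def ext0 (V : Opens (An.top (𝔸(Fin n; An.SC)))) (f : V → ℂ)
    (v : Fin n → ℂ) : ℂ :=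
  if h : (psi n v : An.top (𝔸(Fin n; An.SC))) ∈ V then f ⟨psi n v, h⟩ else 0

lemma eventually_mem (V : Opens (An.top (𝔸(Fin n; An.SC)))) (v : Fin n → ℂ)
    (hv : (psi n v : An.top (𝔸(Fin n; An.SC))) ∈ V) :
    ∀ᶠ v' in 𝓝 v, (psi n v' : An.top (𝔸(Fin n; An.SC))) ∈ V :=
  (continuous_psi n).continuousAt.preimage_mem_nhds (V.2.mem_nhds hv)

lemma differentiableAt_ext0_of_mem (V : Opens (An.top (𝔸(Fin n; An.SC)))) (f : V → ℂ)
    (hf : f ∈ An.chartAlg V) (v : Fin n → ℂ)
    (hv : (psi n v : An.top (𝔸(Fin n; An.SC))) ∈ V) :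
    DifferentiableAt ℂ (ext0 n V f) v := by
  have hnhds := eventually_mem n V v hv
  unfold An.chartAlg at hf
  induction hf using Algebra.adjoin_induction with
  | mem f hf =>
    obtain ⟨W, hW, m, s, V', G', hV', hG', hval⟩ := hf
    have hvW : (psi n v).pt ∈ W := hW ⟨psi n v, hv⟩
    have hvec : DifferentiableAt ℂ
        (fun v' : Fin n → ℂ => fun j : Fin m => evExt n W (s j) v') v :=
      differentiableAt_pi.2 fun j => differentiableAt_evExt n W (s j) v hvW
    have e : (fun j => evExt n W (s j) v) =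
        fun j => An.Pts.ev (psi n v) W (hW ⟨psi n v, hv⟩) (s j) := by
      funext j
      simp only [evExt, dif_pos hvW]
    have hpt : (fun j : Fin m => evExt n W (s j) v) ∈ V' := by
      rw [e]; exact (hval ⟨psi n v, hv⟩).1
    have hG'at : DifferentiableAt ℂ G' (fun j => evExt n W (s j) v) :=
      hG'.differentiableAt (hV'.mem_nhds hpt)
    have hcomp := hG'at.comp v hvec
    refine hcomp.congr_of_eventuallyEq ?_
    filter_upwards [hnhds] with v' hv'
    have hv'W : (psi n v').pt ∈ W := hW ⟨psi n v', hv'⟩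
    simp only [ext0, dif_pos hv', Function.comp_apply]
    rw [(hval ⟨psi n v', hv'⟩).2]
    congr 1
    funext j
    simp only [evExt, dif_pos hv'W]
  | algebraMap c =>
    refine (differentiableAt_const c).congr_of_eventuallyEq ?_
    filter_upwards [hnhds] with v' hv'
    simp only [ext0, dif_pos hv']
    rfl
  | add f g _ _ hf hg =>
    have : ext0 n V (f + g) = ext0 n V f + ext0 n V g := by
      funext v'
      by_cases h : (psi n v' : An.top (𝔸(Fin n; An.SC))) ∈ V
      · simp only [ext0, dif_pos h, Pi.add_apply]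
      · simp only [ext0, dif_neg h, Pi.add_apply, add_zero]
    rw [this]
    exact hf.add hg
  | mul f g _ _ hf hg =>
    have : ext0 n V (f * g) = ext0 n V f * ext0 n V g := by
      funext v'
      by_cases h : (psi n v' : An.top (𝔸(Fin n; An.SC))) ∈ V
      · simp only [ext0, dif_pos h, Pi.mul_apply]
      · simp only [ext0, dif_neg h, Pi.mul_apply, mul_zero]
    rw [this]
    exact hf.mul hg

end Aux

/-- A sanity check of the definition of holomorphic functions: for an open set U of complex points of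
affine n-space over ℂ and g : U → ℂ, g is holomorphic (satisfies the local predicate An.holPred of
the prelude) if and only if g = G ∘ (coordinates) for some G : ℂ^n → ℂ complex-differentiable on the
image of U in ℂ^n. -/
theorem result (n : ℕ) (U : TopologicalSpace.Opens (An.Pts (𝔸(Fin n; An.SC))))
    (g : U → ℂ) :
    (An.holPred (𝔸(Fin n; An.SC))).pred g ↔
      ∃ G : (Fin n → ℂ) → ℂ,
        DifferentiableOn ℂ G ((fun (x : An.Pts (𝔸(Fin n; An.SC))) (i : Fin n) =>
          x.evTop (AffineSpace.coord An.SC i)) '' (U : Set (An.Pts (𝔸(Fin n; An.SC))))) ∧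
        ∀ x : U, g x = G (fun i => (x : An.Pts (𝔸(Fin n; An.SC))).evTop (AffineSpace.coord An.SC i)) := by
  classical
  constructor
  · intro hg
    refine ⟨fun v => if h : Groth.Agent.S4183.psi n v ∈ U then
      g ⟨Groth.Agent.S4183.psi n v, h⟩ else 0, ?_, ?_⟩
    · intro v hv
      obtain ⟨x, hx, rfl⟩ := hv
      apply DifferentiableAt.differentiableWithinAt
      obtain ⟨V, hxV, i, hmem⟩ := hg ⟨x, hx⟩
      have hpsi : Groth.Agent.S4183.psi n (fun i => x.evTop (AffineSpace.coord An.SC i)) = x :=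
        Groth.Agent.S4183.psi_phi n x
      have hv : (Groth.Agent.S4183.psi n (fun i => x.evTop (AffineSpace.coord An.SC i)) :
          An.top (𝔸(Fin n; An.SC))) ∈ V := by
        rw [hpsi]; exact hxV
      have hd := differentiableAt_ext0_of_mem n V _ hmem _ hv
      have hnhds := eventually_mem n V _ hv
      refine hd.congr_of_eventuallyEq ?_
      filter_upwards [hnhds] with v' hv'
      have hv'U : Groth.Agent.S4183.psi n v' ∈ U := i.le hv'
      simp only [ext0, dif_pos hv', dif_pos hv'U]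
      rfl
    · intro x
      have hpsi : Groth.Agent.S4183.psi n
          (fun i => x.1.evTop (AffineSpace.coord An.SC i)) = x.1 :=
        Groth.Agent.S4183.psi_phi n x.1
      have hmemU : Groth.Agent.S4183.psi n
          (fun i => x.1.evTop (AffineSpace.coord An.SC i)) ∈ U := by
        rw [hpsi]; exact x.2
      simp only [dif_pos hmemU]
      congr 1
      exact Subtype.ext hpsi.symm
  · rintro ⟨G, hG, hgG⟩
    apply An.holPred_of_chartAlg
    apply Algebra.subset_adjoin
    exact ⟨⊤, fun x => Opens.mem_top _, n, fun i => AffineSpace.coord An.SC i, _, G,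
      (Groth.Agent.S4183.result n).isOpenMap _ U.2, hG,
      fun x => ⟨⟨x.1, x.2, rfl⟩, hgG x⟩⟩

end Groth.Agent.S4307
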