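import Groth.Statements.S4333
import Groth.Agent.S14623
import Groth.Agent.H10.FlatLan
import Mathlib

set_option autoImplicit false
universe u
open CategoryTheory CategoryTheory.Limits AlgebraicGeometry Opposite
attribute [local instance] HasDerivedCategory.standard
open EtSix

namespace Groth.Agent.S4333

/-- Inverse image of sheaves of `Λ`-modules on small etale sites is exact. -/
theorem pullMod_lex (Λ : Type (u + 1)) [CommRing Λ] {X Y : Scheme.{u}} (f : X ⟶ Y) :
    PreservesFiniteLimits (EtModW.pull Λ f) := by
  have hex : ∀ V : X.Etaleᵒᵖ,
      HasExactColimitsOfShape (CostructuredArrow (EtCoh.bc f).op V) (ModuleCat.{u + 1} Λ) := by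
    intro V
    haveI : IsFiltered (CostructuredArrow (EtCoh.bc f).op V) :=
      IsFiltered.of_equivalence (structuredArrowOpEquivalence (EtCoh.bc f) (Opposite.unop V))
    haveI : AB5OfSize.{u, u + 1} (ModuleCat.{u + 1} Λ) :=
      AB5OfSize_shrink.{u, u + 1, u + 1, u + 1} _
    exact AB5OfSize.ofShape _
  exact Groth.Agent.H10.FlatLan.sheafPullback_preservesFiniteLimits_of_flat (EtCoh.bc f)
    (ModuleCat.{u + 1} Λ) Y.smallEtaleTopology X.smallEtaleTopology

/-- Derived functors of adjoint functors are adjoint: for the inverse and direct image of sheaves of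
Λ-modules along a morphism of schemes g : Y' -> Y, on bounded-below derived categories: there is an
adjunction R⁺g^* ⊣ R⁺g_* between the bounded-below right derived functors of g^* and of g_*
(computed with injective resolutions). This is the bounded-below variant of the published statement
Lg^* ⊣ Rg_* on unbounded derived categories, with the bounded-below right derived functor of the
exact functor g^* (the functor g^* induces on D⁺) standing in for Lg^*. -/
theorem result (Λ : Type (u + 1)) [CommRing Λ] {Y Y' : Scheme.{u}} (g : Y' ⟶ Y) :
    Nonempty ((EtModW.pull Λ g).rightDerivedFunctorPlus ⊣ (EtModW.push Λ g).rightDerivedFunctorPlus) := by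
  haveI : PreservesFiniteLimits (EtModW.pull Λ g) := pullMod_lex Λ g
  haveI : PreservesFiniteColimits (EtModW.pull Λ g) := by
    have : PreservesColimitsOfSize.{0, 0} (EtModW.pull Λ g) :=
      (EtSix.pullPushModAdj Λ g).leftAdjoint_preservesColimits
    exact PreservesColimitsOfSize.preservesFiniteColimits _
  exact Groth.Agent.S14623.result (EtSix.pullPushModAdj Λ g)

end Groth.Agent.S4333
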