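import Groth.Statements.S4330
import Groth.Agent.S12541
import Groth.Agent.S4333
import Mathlib

set_option autoImplicit false
universe u
open CategoryTheory CategoryTheory.Limits AlgebraicGeometry Opposite
attribute [local instance] HasDerivedCategory.standard
open EtSix

namespace Groth.Agent.S4330

section Generic

universe w v v₁ v₂ u₁ u₂ u'

lemma isIso_mapHomotopyCategory {A : Type u₁} [Category.{v₁} A] [Abelian A] {B : Type u₂}
    [Category.{v₂} B] [Abelian B] {F G : A ⥤ B} [F.Additive] [G.Additive] (θ : F ≅ G) :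
    IsIso (NatTrans.mapHomotopyCategory θ.hom (ComplexShape.up ℤ)) :=
  ⟨⟨NatTrans.mapHomotopyCategory θ.inv (ComplexShape.up ℤ),
    by rw [← NatTrans.mapHomotopyCategory_comp, θ.hom_inv_id, NatTrans.mapHomotopyCategory_id],
    by rw [← NatTrans.mapHomotopyCategory_comp, θ.inv_hom_id, NatTrans.mapHomotopyCategory_id]⟩⟩

lemma isIso_plusNatTrans {A : Type u₁} [Category.{v₁} A] [Abelian A] {B : Type u₂}
    [Category.{v₂} B] [Abelian B] {F G : A ⥤ B} [F.Additive] [G.Additive] (θ : F ≅ G) :
    IsIso (EtSix.plusNatTrans θ.hom) := by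
  haveI := isIso_mapHomotopyCategory θ
  have key : ∀ X : HomotopyCategory.Plus A, IsIso ((EtSix.plusNatTrans θ.hom).app X) := by
    intro X
    have h : (HomotopyCategory.Plus.ι B).map ((EtSix.plusNatTrans θ.hom).app X) =
        (NatTrans.mapHomotopyCategory θ.hom (ComplexShape.up ℤ)).app
          ((HomotopyCategory.Plus.ι A).obj X) := by
      have := congr_app (((HomotopyCategory.plus B).fullyFaithfulι.whiskeringRight
        (HomotopyCategory.Plus A)).map_preimage (X := F.mapHomotopyCategoryPlus)
          (Y := G.mapHomotopyCategoryPlus)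
          (Functor.whiskerLeft (HomotopyCategory.Plus.ι A)
            (NatTrans.mapHomotopyCategory θ.hom (ComplexShape.up ℤ)))) X
      exact this
    have h2 : IsIso ((HomotopyCategory.Plus.ι B).map ((EtSix.plusNatTrans θ.hom).app X)) := by
      rw [h]
      exact NatIso.isIso_app_of_isIso (NatTrans.mapHomotopyCategory θ.hom (ComplexShape.up ℤ)) _
    exact isIso_of_fully_faithful (HomotopyCategory.Plus.ι B) _
  exact NatIso.isIso_of_isIso_app _

theorem isIso_rPlusDesc₂ {A B C : Type u'} [Category.{v} A] [Category.{v} B] [Category.{v} C]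
    [Abelian A] [Abelian B] [Abelian C]
    [HasDerivedCategory.{w} A] [HasDerivedCategory.{w} B] [HasDerivedCategory.{w} C]
    [EnoughInjectives A] [EnoughInjectives B]
    (F : A ⥤ B) [F.Additive] [PreservesFiniteLimits F] (G : B ⥤ C) [G.Additive]
    [PreservesFiniteLimits G] (H : A ⥤ C) [H.Additive] (θ : H ≅ F ⋙ G)
    (hFG : ∀ I : A, Injective I →
      IsIso (G.rightDerivedFunctorPlusUnit.app
        ((HomotopyCategory.Plus.singleFunctor B 0).obj (F.obj I)))) :
    IsIso (EtSix.rPlusDesc₂ θ.hom) := by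
  have h0 := Groth.Agent.S12541.result F G hFG
  haveI := isIso_plusNatTrans θ
  let e : H.mapHomotopyCategoryPlus ⋙ DerivedCategory.Plus.Qh ≅
      (F ⋙ G).mapHomotopyCategoryPlus ⋙ DerivedCategory.Plus.Qh :=
    Functor.isoWhiskerRight (asIso (EtSix.plusNatTrans θ.hom)) DerivedCategory.Plus.Qh
  rw [Functor.isRightDerivedFunctor_iff_isLeftKanExtension] at h0
  have h1 : (F.rightDerivedFunctorPlus ⋙ G.rightDerivedFunctorPlus).IsLeftKanExtension
      (EtSix.rPlusUnit₂ θ.hom) := by
    refine (Functor.isLeftKanExtension_iff_of_iso₂ (EtSix.rPlusUnit₂ θ.hom) _ e (Iso.refl _) ?_).2 h0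
    ext X
    simp [EtSix.rPlusUnit₂, e]
  have h2 : (F.rightDerivedFunctorPlus ⋙ G.rightDerivedFunctorPlus).IsRightDerivedFunctor
      (EtSix.rPlusUnit₂ θ.hom) (HomotopyCategory.Plus.quasiIso A) :=
    (Functor.isRightDerivedFunctor_iff_isLeftKanExtension _ _ _).2 h1
  exact (Functor.isRightDerivedFunctor_iff_isIso_rightDerivedDesc H.rightDerivedFunctorPlus
    H.rightDerivedFunctorPlusUnit (HomotopyCategory.Plus.quasiIso A)
    (F.rightDerivedFunctorPlus ⋙ G.rightDerivedFunctorPlus) (EtSix.rPlusUnit₂ θ.hom)).1 h2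

end Generic

lemma pushMod_lex (Λ : Type (u + 1)) [CommRing Λ] {X Y : Scheme.{u}} (f : X ⟶ Y) :
    PreservesFiniteLimits (EtModW.push Λ f) := by
  have : PreservesLimitsOfSize.{0, 0} (EtModW.push Λ f) :=
    (EtSix.pullPushModAdj Λ f).rightAdjoint_preservesLimits
  exact PreservesLimitsOfSize.preservesFiniteLimits _

/-- Composition of derived direct images: bounded-below version for sheaves of Λ-modules on small etale
sites: let f : X -> Y and g : Y -> Z be morphisms of schemes and Λ a commutative ring. Then the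
canonical morphism R⁺(g ∘ f)_* -> R⁺g_* ∘ R⁺f_* of functors D⁺(X_et, Λ) -> D⁺(Z_et, Λ)
(bounded-below derived functors computed with injective resolutions; the morphism is induced by (g ∘
f)_* ≅ g_* ∘ f_* through the universal property of R⁺(g ∘ f)_*) is an isomorphism. -/
theorem result (Λ : Type (u + 1)) [CommRing Λ] {X Y Z : Scheme.{u}} (f : X ⟶ Y) (g : Y ⟶ Z) :
    IsIso (EtSix.compMapMod Λ f g) := by
  haveI hf : PreservesFiniteLimits (EtModW.push Λ f) := pushMod_lex Λ f
  haveI hg : PreservesFiniteLimits (EtModW.push Λ g) := pushMod_lex Λ g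
  have hFG : ∀ I : EtModW.Mod Λ X, Injective I →
      IsIso ((EtModW.push Λ g).rightDerivedFunctorPlusUnit.app
        ((HomotopyCategory.Plus.singleFunctor (EtModW.Mod Λ Y) 0).obj
          ((EtModW.push Λ f).obj I))) := by
    intro I hI
    haveI : PreservesFiniteLimits (EtModW.pull Λ f) := Groth.Agent.S4333.pullMod_lex Λ f
    have : Injective ((EtModW.push Λ f).obj I) :=
      Injective.injective_of_adjoint (EtSix.pullPushModAdj Λ f) I
    have : ∀ n, Injective ((Groth.Agent.H23.DerPlus.sgl ((EtModW.push Λ f).obj I)).obj.X n) :=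
      fun n => by
        change Injective (((HomologicalComplex.single _ (ComplexShape.up ℤ) 0).obj _).X n)
        infer_instance
    change IsIso ((EtModW.push Λ g).rightDerivedFunctorPlusUnit.app
      ((HomotopyCategory.Plus.quotient _).obj
        (Groth.Agent.H23.DerPlus.sgl ((EtModW.push Λ f).obj I))))
    infer_instance
  exact isIso_rPlusDesc₂ (EtModW.push Λ f) (EtModW.push Λ g) (EtModW.push Λ (f ≫ g))
    (EtSix.pushModComp Λ g f).symm hFG

end Groth.Agent.S4330
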