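import Groth.Statements.S4337
import Groth.Agent.H29.LinTopLemmas

set_option autoImplicit false
universe u
open LinTop

namespace Groth.Agent.S4337

/-- Let A be an admissible ring, J an ideal of definition, and u : M -> N a homomorphism of A-modules
with N of finite type. Then u is surjective if and only if u tensored with A/J is surjective. -/
theorem result
    (A : Type u) [CommRing A] [UniformSpace A] [IsUniformAddGroup A] [IsTopologicalRing A]
    (hA : LinTop.IsAdmissible A) (J : Ideal A) (hJ : LinTop.IsIdealOfDefinition A J)
    (M N : Type u) [AddCommGroup M] [Module A M] [AddCommGroup N] [Module A N] [Module.Finite A N]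
    (u : M →ₗ[A] N) :
    Function.Surjective u ↔ Function.Surjective (u.rTensor (A ⧸ J)) := by
  constructor
  · intro h
    exact LinearMap.rTensor_surjective _ h
  · intro h
    have hjac := Groth.Agent.H29.le_jacobson_bot_of_isIdealOfDefinition A hA J hJ
    have key : ∀ t : TensorProduct A M (A ⧸ J), ∃ m : M,
        TensorProduct.tensorQuotEquivQuotSMul N J ((u.rTensor (A ⧸ J)) t) =
          Submodule.Quotient.mk (u m) := by
      intro t
      induction t using TensorProduct.induction_on with
      | zero => exact ⟨0, by simp⟩
      | tmul m a =>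
        obtain ⟨a', rfl⟩ := Ideal.Quotient.mk_surjective a
        refine ⟨a' • m, ?_⟩
        simp [TensorProduct.tensorQuotEquivQuotSMul]
      | add t1 t2 h1 h2 =>
        obtain ⟨m1, h1⟩ := h1
        obtain ⟨m2, h2⟩ := h2
        exact ⟨m1 + m2, by simp [h1, h2]⟩
    have htop : (⊤ : Submodule A N) ≤ LinearMap.range u ⊔ J • ⊤ := by
      intro n _
      obtain ⟨t, ht⟩ := h (TensorProduct.tmul A n (1 : A ⧸ J))
      obtain ⟨m, hm⟩ := key t
      rw [ht] at hm
      have h1 : TensorProduct.tensorQuotEquivQuotSMul N J (TensorProduct.tmul A n (1 : A ⧸ J)) =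
          Submodule.Quotient.mk n := by
        simp [TensorProduct.tensorQuotEquivQuotSMul]
      rw [h1, Submodule.Quotient.eq] at hm
      have : n = u m + (n - u m) := by abel
      rw [this]
      exact Submodule.add_mem_sup (LinearMap.mem_range_self u m) hm
    have := Submodule.le_of_le_smul_of_le_jacobson_bot (Module.Finite.fg_top) hjac htop
    exact LinearMap.range_eq_top.mp (top_le_iff.mp this)

end Groth.Agent.S4337
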