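import Groth.Statements.S4338
import Mathlib

set_option autoImplicit false
universe u
open LinTop

namespace Groth.Agent.S4338

/-- For a finitely generated ideal. Let A be an admissible ring and I a finitely generated ideal
contained in an ideal of definition of A. Then A is separated and complete for the I-adic topology.
(The published statement has no finiteness hypothesis on I and is then not correct: the completion
of a polynomial ring in countably many variables over a field along the ideal generated by the
variables, with its inverse-limit topology, is admissible, the kernel of its projection onto the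
field is an ideal of definition, and the ring is not adically complete for that kernel.) -/
theorem result
    (A : Type u) [CommRing A] [UniformSpace A] [IsUniformAddGroup A] [IsTopologicalRing A]
    (hA : LinTop.IsAdmissible A) (J : Ideal A) (hJ : LinTop.IsIdealOfDefinition A J)
    (I : Ideal A) (hI : I.FG) (hIJ : I ≤ J) :
    IsAdicComplete I A := by
  obtain ⟨⟨hlin, -⟩, ht2, hcomp⟩ := hA
  obtain ⟨hJopen, hJpow⟩ := hJ
  have hna : NonarchimedeanAddGroup A := by
    refine ⟨fun U hU => ?_⟩
    obtain ⟨K, hKo, hKU⟩ := (IsLinearTopology.hasBasis_open_ideal (R := A)).mem_iff.mp hU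
    exact ⟨⟨K.toAddSubgroup, hKo⟩, hKU⟩
  have hIpow : ∀ U ∈ nhds (0 : A), ∃ N : ℕ, ∀ k ≥ N, ((I ^ k : Ideal A) : Set A) ⊆ U := by
    intro U hU
    obtain ⟨N, -, hN⟩ := hJpow U hU
    refine ⟨N, fun k hk x hx => hN ?_⟩
    exact Ideal.pow_le_pow_right hk (Ideal.pow_right_mono hIJ k hx)
  have htend_of : ∀ g : ℕ → A, (∀ k, g k ∈ I ^ k) → Filter.Tendsto g Filter.atTop (nhds 0) := by
    intro g hg
    rw [Filter.tendsto_def]
    intro U hU
    obtain ⟨N, hN⟩ := hIpow U hU
    rw [Filter.mem_atTop_sets]
    exact ⟨N, fun k hk => hN k hk (hg k)⟩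
  have hsummable_of : ∀ g : ℕ → A, (∀ k, g k ∈ I ^ k) → Summable g := by
    intro g hg
    apply NonarchimedeanAddGroup.summable_of_tendsto_cofinite_zero
    rw [Nat.cofinite_eq_atTop]
    exact htend_of g hg
  have hsmul : ∀ n : ℕ, (I ^ n • ⊤ : Submodule A A) = I ^ n := by
    intro n
    rw [← Ideal.one_eq_top, Ideal.smul_eq_mul, mul_one]
  refine { toIsHausdorff := ⟨?_⟩, toIsPrecomplete := ⟨?_⟩ }
  · intro x hx
    have hx' : ∀ n, x ∈ I ^ n := by
      intro n
      have := hx n
      rw [SModEq.sub_mem, sub_zero, hsmul] at this
      exact this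
    by_contra hne
    have hU : ({x}ᶜ : Set A) ∈ nhds (0 : A) :=
      isOpen_compl_singleton.mem_nhds (by simpa using Ne.symm hne)
    obtain ⟨N, hN⟩ := hIpow _ hU
    exact hN N le_rfl (hx' N) rfl
  · intro f hf
    have hf' : ∀ k, f (k + 1) - f k ∈ I ^ k := by
      intro k
      have := hf (Nat.le_succ k)
      rw [SModEq.sub_mem, hsmul] at this
      have h2 := (I ^ k).neg_mem this
      rwa [neg_sub] at h2
    have hsum : Summable (fun k => f (k + 1) - f k) := hsummable_of _ hf'
    have hfL : Filter.Tendsto f Filter.atTop (nhds (f 0 + ∑' k, (f (k + 1) - f k))) := by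
      have h := hsum.hasSum.tendsto_sum_nat
      simp only [Finset.sum_range_sub] at h
      have h2 := h.const_add (f 0)
      simpa using h2
    refine ⟨f 0 + ∑' k, (f (k + 1) - f k), fun n => ?_⟩
    set L := f 0 + ∑' k, (f (k + 1) - f k) with hL
    rw [SModEq.sub_mem, hsmul]
    obtain ⟨t, ht⟩ := (hI.pow : (I ^ n).FG)
    have hd'mem : ∀ k, f (k + n + 1) - f (k + n) ∈ I ^ (k + n) := fun k => hf' (k + n)
    have hd' : ∀ k, f (k + n + 1) - f (k + n) ∈ I ^ k • Submodule.span A (id '' (t : Set A)) := by
      intro k
      rw [Set.image_id]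
      have : Submodule.span A (t : Set A) = I ^ n := ht
      rw [this, smul_eq_mul, ← pow_add]
      exact hd'mem k
    choose a ha hasum using fun k =>
      (Submodule.mem_ideal_smul_span_iff_exists_sum' (I := I ^ k) (t : Set A) id _).mp (hd' k)
    have hasum' : ∀ k, ∑ j : (t : Set A), a k j * (j : A) = f (k + n + 1) - f (k + n) := by
      intro k
      rw [← hasum k, Finsupp.sum_fintype _ _ (fun i => by simp)]
      simp
    have hsummable : ∀ j : (t : Set A), Summable (fun k => a k j) :=
      fun j => hsummable_of _ (fun k => ha k j)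
    have hsum2 : HasSum (fun k => f (k + n + 1) - f (k + n)) (L - f n) := by
      have hs : Summable (fun k => f (k + n + 1) - f (k + n)) :=
        hsummable_of _ (fun k => Ideal.pow_le_pow_right (Nat.le_add_right k n) (hd'mem k))
      rw [hs.hasSum_iff_tendsto_nat]
      have hpart : ∀ m, ∑ i ∈ Finset.range m, (f (i + n + 1) - f (i + n)) = f (m + n) - f n := by
        intro m
        induction m with
        | zero => simp
        | succ m ih =>
          rw [Finset.sum_range_succ, ih, Nat.add_right_comm m 1 n]
          ring
      simp only [hpart]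
      exact ((Filter.tendsto_add_atTop_iff_nat n).mpr hfL).sub_const (f n)
    have key : L - f n = ∑ j : (t : Set A), (∑' k, a k j) * (j : A) := by
      rw [← hsum2.tsum_eq]
      simp only [← hasum']
      rw [Summable.tsum_finsetSum (fun j _ => (hsummable j).mul_right _)]
      refine Finset.sum_congr rfl fun j _ => ?_
      exact (hsummable j).tsum_mul_right _
    have hmem : L - f n ∈ I ^ n := by
      rw [key, ← ht]
      refine Ideal.sum_mem _ fun j _ => ?_
      exact Ideal.mul_mem_left _ _ (Ideal.subset_span j.2)
    have := (I ^ n).neg_mem hmem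
    rwa [neg_sub] at this

end Groth.Agent.S4338
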