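import Groth.Statements.S4339
import Mathlib
import Groth.Agent.Lib.Helper8.CompleteNoethF

set_option autoImplicit false
universe u
open AdicRing

namespace Groth.Agent.S4339

section Sys

open MvPolynomial

variable (B : ℕ → Type u) [∀ n, CommRing (B n)]
    (u : ∀ n, B (n + 1) →+* B n) (hu : ∀ n, Function.Surjective (u n))
    (v : ∀ n, B n →+* B 0) (hv0 : v 0 = RingHom.id (B 0)) (hv : ∀ n, (v n).comp (u n) = v (n + 1))
    (hker : ∀ n, RingHom.ker (u n) = RingHom.ker (v (n + 1)) ^ (n + 1))
    (A : Type u) [CommRing A] (p : ∀ n, A →+* B n)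
    (hp : ∀ n, (u n).comp (p (n + 1)) = p n)
    (hlift : ∀ y : (∀ n, B n), (∀ n, u n (y (n + 1)) = y n) → ∃ x : A, ∀ n, p n x = y n)

include hu hlift in
lemma p_zero_surjective : Function.Surjective (p 0) := by
  intro b0
  let y : ∀ n, B n := fun n => Nat.rec (motive := fun n => B n) b0
    (fun m ym => Function.surjInv (hu m) ym) n
  have hy : ∀ n, u n (y (n + 1)) = y n := fun n => Function.surjInv_eq (hu n) (y n)
  obtain ⟨x, hx⟩ := hlift y hy
  exact ⟨x, hx 0⟩

include hu hlift in
/-- lifting elements of `ker (u n)` -/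
lemma exists_of_mem_ker (n : ℕ) (c : B (n + 1)) (hc : u n c = 0) :
    ∃ x : A, p (n + 1) x = c := by
  classical
  let y : ∀ m, B m := fun m => Nat.rec (motive := fun m => B m) 0
    (fun m ym => if hlt : m < n then 0 else
      if heq : m = n then (heq.symm ▸ c : B (m + 1)) else Function.surjInv (hu m) ym) m
  have hy_succ : ∀ m, y (m + 1) = if hlt : m < n then 0 else
      if heq : m = n then (heq.symm ▸ c : B (m + 1)) else Function.surjInv (hu m) (y m) :=
    fun m => rfl
  have hy0 : ∀ m, m ≤ n → y m = 0 := by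
    intro m hm
    cases m with
    | zero => rfl
    | succ m =>
      rw [hy_succ, dif_pos (by omega)]
  have hyn : y (n + 1) = c := by
    rw [hy_succ, dif_neg (lt_irrefl n), dif_pos rfl]
  have hy : ∀ m, u m (y (m + 1)) = y m := by
    intro m
    rw [hy_succ]
    by_cases hlt : m < n
    · rw [dif_pos hlt, map_zero, hy0 m hlt.le]
    · rw [dif_neg hlt]
      by_cases heq : m = n
      · subst heq
        rw [dif_pos rfl, hy0 m le_rfl]
        exact hc
      · rw [dif_neg heq]
        exact Function.surjInv_eq (hu m) (y m)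
  obtain ⟨x, hx⟩ := hlift y hy
  exact ⟨x, by rw [hx, hyn]⟩

include hu hlift hp in
lemma p_surjective (n : ℕ) : Function.Surjective (p n) := by
  induction n with
  | zero => exact p_zero_surjective B u hu A p hlift
  | succ n ih =>
    intro b
    obtain ⟨x0, hx0⟩ := ih (u n b)
    have hc : u n (b - p (n + 1) x0) = 0 := by
      rw [map_sub, ← RingHom.comp_apply, hp, hx0, sub_self]
    obtain ⟨x1, hx1⟩ := exists_of_mem_ker B u hu A p hlift n _ hc
    exact ⟨x0 + x1, by rw [map_add, hx1]; ring⟩

include hv0 hv hp in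
lemma v_comp_p (n : ℕ) : (v n).comp (p n) = p 0 := by
  induction n with
  | zero => rw [hv0]; rfl
  | succ n ih => rw [← hv n, RingHom.comp_assoc, hp, ih]

include hu hv in
lemma map_u_ker (n : ℕ) : Ideal.map (u n) (RingHom.ker (v (n + 1))) = RingHom.ker (v n) := by
  apply le_antisymm
  · rw [Ideal.map_le_iff_le_comap]
    intro b hb
    rw [Ideal.mem_comap, RingHom.mem_ker, ← RingHom.comp_apply, hv]
    exact hb
  · intro b hb
    obtain ⟨b', rfl⟩ := hu n b
    apply Ideal.mem_map_of_mem
    rw [RingHom.mem_ker, ← hv, RingHom.comp_apply]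
    exact hb

include hu hv hker in
lemma ker_pow_eq_bot (n : ℕ) : RingHom.ker (v n) ^ (n + 1) = ⊥ := by
  rw [← map_u_ker B u hu v hv n, ← Ideal.map_pow, ← hker n]
  exact (Ideal.map_eq_bot_iff_le_ker _).mpr le_rfl

include hu hv hker hp in
lemma p_mem_pow (i : ℕ) (a : A) (ha : p i a = 0) (N : ℕ) (hN : i ≤ N) :
    p N a ∈ RingHom.ker (v N) ^ (i + 1) := by
  induction N, hN using Nat.le_induction with
  | base => rw [ha]; exact Ideal.zero_mem _
  | succ N hN ih =>
    have h1 : u N (p (N + 1) a) ∈ Ideal.map (u N) (RingHom.ker (v (N + 1)) ^ (i + 1)) := by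
      rw [Ideal.map_pow, map_u_ker B u hu v hv N, ← RingHom.comp_apply, hp]
      exact ih
    obtain ⟨γ, hγ, hγe⟩ := (Ideal.mem_map_iff_of_surjective _ (hu N)).mp h1
    have h2 : p (N + 1) a - γ ∈ RingHom.ker (u N) := by
      rw [RingHom.mem_ker, map_sub, hγe, sub_self]
    rw [hker N] at h2
    have h3 := Ideal.pow_le_pow_right (I := RingHom.ker (v (N + 1))) (show i + 1 ≤ N + 1 by omega) h2
    have : p (N + 1) a = (p (N + 1) a - γ) + γ := by ring
    rw [this]
    exact Ideal.add_mem _ h3 hγ

end Sys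

/-- Let (B_n) be an inverse system of rings with surjective transition maps B_{n+1} → B_n whose kernels
are the (n+1)-st powers of the kernels of the maps B_{n+1} → B_0, the kernel of B_1 → B_0 being
finitely generated, and let A be its inverse limit. Then A is Noetherian if and only if B_0 is
Noetherian. -/
theorem result
    (B : ℕ → Type u) [∀ n, CommRing (B n)]
    (u : ∀ n, B (n + 1) →+* B n) (hu : ∀ n, Function.Surjective (u n))
    (v : ∀ n, B n →+* B 0) (hv0 : v 0 = RingHom.id (B 0)) (hv : ∀ n, (v n).comp (u n) = v (n + 1))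
    (hker : ∀ n, RingHom.ker (u n) = RingHom.ker (v (n + 1)) ^ (n + 1))
    (hfg : (RingHom.ker (v 1)).FG)
    (A : Type u) [CommRing A] (p : ∀ n, A →+* B n)
    (hp : ∀ n, (u n).comp (p (n + 1)) = p n)
    (hinj : ∀ x : A, (∀ n, p n x = 0) → x = 0)
    (hlift : ∀ y : (∀ n, B n), (∀ n, u n (y (n + 1)) = y n) → ∃ x : A, ∀ n, p n x = y n) :
    IsNoetherianRing A ↔ IsNoetherianRing (B 0) := by
  classical
  have hps := p_surjective B u hu A p hp hlift
  constructor
  · intro hA
    exact isNoetherianRing_of_surjective A (B 0) (p 0) (hps 0)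
  intro hB0
  -- generators
  obtain ⟨d, b, hb⟩ := Submodule.fg_iff_exists_fin_generating_family.mp hfg
  have hbx : ∀ i, ∃ xi : A, p 1 xi = b i := fun i => hps 1 (b i)
  choose x hxb using hbx
  have hb' : Ideal.span (Set.range b) = RingHom.ker (v 1) := hb
  have hvp := v_comp_p B u v hv0 hv A p hp
  have hx0 : ∀ i, p 0 (x i) = 0 := by
    intro i
    rw [← hvp 1, RingHom.comp_apply, hxb]
    have : b i ∈ RingHom.ker (v 1) := by rw [← hb']; exact Ideal.subset_span ⟨i, rfl⟩
    exact this
  -- the filtration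
  obtain ⟨F, hF0, hFs⟩ : ∃ F : ℕ → Ideal A, F 0 = ⊤ ∧ ∀ k, F (k + 1) = RingHom.ker (p k) :=
    ⟨fun n => Nat.casesOn n ⊤ (fun k => RingHom.ker (p k)), rfl, fun k => rfl⟩
  have hkermono : ∀ k, RingHom.ker (p (k + 1)) ≤ RingHom.ker (p k) := by
    intro k a ha
    rw [RingHom.mem_ker] at ha ⊢
    rw [← hp k, RingHom.comp_apply, ha, map_zero]
  have hFanti : Antitone F := by
    apply antitone_nat_of_succ_le
    intro n
    cases n with
    | zero => rw [hF0]; exact le_top
    | succ k => rw [hFs, hFs]; exact hkermono k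
  have hpm := p_mem_pow B u hu v hv hker A p hp
  have hnil := ker_pow_eq_bot B u hu v hv hker
  have hFmul : ∀ m n, F m * F n ≤ F (m + n) := by
    intro m n
    cases m with
    | zero => rw [hF0, zero_add]; exact Ideal.mul_le_right
    | succ m =>
      cases n with
      | zero => rw [hF0, add_zero]; exact Ideal.mul_le_left
      | succ n =>
        rw [show m + 1 + (n + 1) = (m + 1 + n) + 1 by omega, hFs, hFs, hFs, Ideal.mul_le]
        intro a ha c hc
        rw [RingHom.mem_ker] at ha hc ⊢
        have h1 := hpm m a ha (m + 1 + n) (by omega)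
        have h2 := hpm n c hc (m + 1 + n) (by omega)
        have h3 := Ideal.mul_mem_mul h1 h2
        rw [← pow_add, show m + 1 + (n + 1) = (m + 1 + n) + 1 by omega, hnil] at h3
        rw [map_mul]
        exact h3
  have hx : ∀ i, x i ∈ F 1 := fun i => by rw [hFs]; exact hx0 i
  -- image of J
  have hmapJ : ∀ N, Ideal.map (p N) (RingHom.ker (p 0)) = RingHom.ker (v N) := by
    intro N
    apply le_antisymm
    · rw [Ideal.map_le_iff_le_comap]
      intro a ha
      rw [Ideal.mem_comap, RingHom.mem_ker, ← RingHom.comp_apply, hvp]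
      exact ha
    · intro β hβ
      obtain ⟨a, rfl⟩ := hps N β
      apply Ideal.mem_map_of_mem
      rw [RingHom.mem_ker, ← hvp N, RingHom.comp_apply]
      exact hβ
  have hJle : RingHom.ker (p 0) ≤ Ideal.span (Set.range x) ⊔ RingHom.ker (p 1) := by
    intro a ha
    have h1 : p 1 a ∈ Ideal.map (p 1) (Ideal.span (Set.range x)) := by
      rw [Ideal.map_span]
      have : (p 1) '' Set.range x = Set.range b := by
        ext y
        constructor
        · rintro ⟨_, ⟨i, rfl⟩, rfl⟩; exact ⟨i, (hxb i).symm⟩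
        · rintro ⟨i, rfl⟩; exact ⟨x i, ⟨i, rfl⟩, hxb i⟩
      rw [this, hb', RingHom.mem_ker, ← RingHom.comp_apply, hvp 1]
      exact ha
    obtain ⟨w, hw, hwe⟩ := (Ideal.mem_map_iff_of_surjective _ (hps 1)).mp h1
    have h3 : a - w ∈ RingHom.ker (p 1) := by
      rw [RingHom.mem_ker, map_sub, hwe, sub_self]
    have : a = w + (a - w) := by ring
    rw [this]
    exact Submodule.add_mem_sup hw h3
  -- 𝔍_N is generated by the images of x, N ≥ 1
  have hgenN : ∀ N, 1 ≤ N → RingHom.ker (v N) = Ideal.span (Set.range fun i => p N (x i)) := by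
    intro N hN
    have hxN : Ideal.span (Set.range fun i => p N (x i)) ≤ RingHom.ker (v N) := by
      rw [Ideal.span_le]
      rintro _ ⟨i, rfl⟩
      show v N (p N (x i)) = 0
      rw [← RingHom.comp_apply, hvp]
      exact hx0 i
    have hle : RingHom.ker (v N) ≤
        Ideal.span (Set.range fun i => p N (x i)) ⊔ RingHom.ker (v N) ^ 2 := by
      refine (hmapJ N).symm.le.trans ?_
      refine (Ideal.map_mono hJle).trans ?_
      rw [Ideal.map_sup]
      apply sup_le_sup
      · rw [Ideal.map_span]
        apply Ideal.span_mono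
        rintro _ ⟨_, ⟨i, rfl⟩, rfl⟩
        exact ⟨i, rfl⟩
      · rw [Ideal.map_le_iff_le_comap]
        intro a ha
        exact hpm 1 a ha N hN
    have hpow : ∀ j : ℕ, RingHom.ker (v N) ≤
        Ideal.span (Set.range fun i => p N (x i)) ⊔ RingHom.ker (v N) ^ (j + 1) := by
      intro j
      induction j with
      | zero => rw [zero_add, pow_one]; exact le_sup_right
      | succ j ih =>
        refine hle.trans (sup_le le_sup_left ?_)
        calc RingHom.ker (v N) ^ 2 = RingHom.ker (v N) * RingHom.ker (v N) := pow_two _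
          _ ≤ RingHom.ker (v N) * (Ideal.span (Set.range fun i => p N (x i)) ⊔
                RingHom.ker (v N) ^ (j + 1)) := Ideal.mul_mono_right ih
          _ = RingHom.ker (v N) * Ideal.span (Set.range fun i => p N (x i)) ⊔
                RingHom.ker (v N) * RingHom.ker (v N) ^ (j + 1) := Ideal.mul_sup _ _ _
          _ ≤ _ := by
            apply sup_le_sup Ideal.mul_le_right
            rw [← pow_succ']
    apply le_antisymm
    · have := hpow N
      rw [hnil N, sup_bot_eq] at this
      exact this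
    · exact hxN
  have hgen : ∀ n, ∀ y ∈ F n, ∃ G : MvPolynomial (Fin d) A, G.IsHomogeneous n ∧
      y - MvPolynomial.aeval x G ∈ F (n + 1) := by
    intro n y hy
    cases n with
    | zero => exact ⟨MvPolynomial.C y, MvPolynomial.isHomogeneous_C _ y, by simp⟩
    | succ k =>
      rw [hFs] at hy
      have hβ : p (k + 1) y ∈ RingHom.ker (v (k + 1)) ^ (k + 1) :=
        hpm k y hy (k + 1) (Nat.le_succ k)
      set J' := Ideal.span (Set.range fun i => p (k + 1) (x i)) with hJ'
      have hJ'eq : RingHom.ker (v (k + 1)) = J' := hgenN (k + 1) (by omega)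
      rw [hJ'eq] at hβ
      obtain ⟨G', hG', hG'β⟩ := Groth.Agent.Helper8.CompleteNoeth.exists_homogeneous
        (fun i => p (k + 1) (x i)) J' (fun i => Ideal.subset_span ⟨i, rfl⟩) le_sup_left
        (k + 1) _ hβ
      have hz : J' ^ (k + 1 + 1) = ⊥ := by rw [← hJ'eq]; exact hnil (k + 1)
      rw [hz, Ideal.mem_bot, sub_eq_zero] at hG'β
      obtain ⟨G, hG, hGG'⟩ := Groth.Agent.Helper8.CompleteNoeth.exists_homogeneous_lift
        (p (k + 1)) (hps (k + 1)) G' (k + 1) hG'
      refine ⟨G, hG, ?_⟩
      rw [hFs, RingHom.mem_ker, map_sub, hG'β, ← hGG', sub_eq_zero]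
      rw [MvPolynomial.aeval_def, MvPolynomial.aeval_def, MvPolynomial.eval₂_comp_left,
        MvPolynomial.eval₂_map]
      rfl
  have hhaus : ∀ y : A, (∀ n, y ∈ F n) → y = 0 := by
    intro y hy
    exact hinj y (fun n => by have := hy (n + 1); rw [hFs] at this; exact this)
  have hprec : ∀ f : ℕ → A, (∀ m, f (m + 1) - f m ∈ F m) → ∃ L : A, ∀ n, f n - L ∈ F n := by
    intro f hf
    obtain ⟨L, hL⟩ := hlift (fun n => p n (f (n + 1))) (by
      intro n
      show u n (p (n + 1) (f (n + 1 + 1))) = p n (f (n + 1))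
      rw [← RingHom.comp_apply, hp]
      have := hf (n + 1)
      rw [hFs, RingHom.mem_ker, map_sub, sub_eq_zero] at this
      exact this)
    refine ⟨L, fun n => ?_⟩
    cases n with
    | zero => rw [hF0]; exact Submodule.mem_top
    | succ k =>
      rw [hFs, RingHom.mem_ker, map_sub, hL k, sub_self]
  have hN : IsNoetherianRing (A ⧸ RingHom.ker (p 0)) :=
    isNoetherianRing_of_ringEquiv (B 0) (RingHom.quotientKerEquivOfSurjective (hps 0)).symm
  have : IsNoetherianRing (A ⧸ F 1) := by rw [hFs]; exact hN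
  exact Groth.Agent.Helper8.CompleteNoeth.isNoetherianRing_of_filtration F x hF0 hFanti hFmul hx
    hgen hhaus hprec

end Groth.Agent.S4339
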