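import Groth.Statements.S4341
import Groth.Agent.Lead.QCoh4
-- import your own Groth.Agent.* helpers here

set_option autoImplicit false
universe u
open QCohSup

namespace Groth.Agent.S4341

open AlgebraicGeometry in
open CategoryTheory in
open Opposite in
/-- Case of the trivial invertible sheaf. Let X be a quasi-compact quasi-separated scheme, f a global
section of O_X, F a quasi-coherent O_X-module and t a section of F over X_f. Then there is an n > 0
such that f^n t is the restriction of a global section of F. (The published statement assumes X with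
Noetherian underlying space, or separated and quasi-compact; both are quasi-compact quasi-separated,
which is what the argument uses: a finite affine cover with quasi-compact pairwise intersections.) -/
theorem result
    (X : Scheme.{u}) [CompactSpace X] [QuasiSeparatedSpace X] (f : Γ(X, ⊤))
    (F : X.Modules) [Coh.IsQCoh F] (t : F.val.obj (op (X.basicOpen f))) :
    ∃ n : ℕ, 0 < n ∧ ∃ s : F.val.obj (op ⊤),
      (F.val.map (homOfLE (le_top : X.basicOpen f ≤ ⊤)).op).hom s =
        (show X.ringCatSheaf.obj.obj (op (X.basicOpen f)) from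
          X.presheaf.map (homOfLE (le_top : X.basicOpen f ≤ ⊤)).op f) ^ n • t := by
  have hW : IsCompact (X := X) ((⊤ : X.Opens) : Set X) := by
    rw [TopologicalSpace.Opens.coe_top]; exact isCompact_univ
  obtain ⟨t', rfl⟩ : ∃ t' : Γ(F, X.basicOpen f), t' = t := ⟨t, rfl⟩
  obtain ⟨k, σ, hσ⟩ := Groth.Agent.Lead.QCoh.exists_section_of_basicOpen_of_qcqs F ⊤ hW f t'
  refine ⟨k + 1, Nat.succ_pos k, ?_⟩
  obtain ⟨σ', hσ'⟩ : ∃ σ' : Γ(F, (⊤ : X.Opens)), σ' = f • σ := ⟨_, rfl⟩
  refine ⟨σ', ?_⟩
  have h : F.presheaf.map (homOfLE (X.basicOpen_le f)).op σ' =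
      (X.presheaf.map (homOfLE (X.basicOpen_le f)).op f) ^ (k + 1) • t' := by
    rw [hσ', Scheme.Modules.map_smul, hσ, ← mul_smul, ← pow_succ']
  exact h

end Groth.Agent.S4341
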