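import Groth.Statements.S4344
import Mathlib

set_option autoImplicit false
universe u
open RatMapD

namespace Groth.Agent.S4344

open AlgebraicGeometry CategoryTheory Limits

section
variable (S : Scheme.{u}) {X Y : Scheme.{u}} [X.Over S] [Y.Over S]

/-- The S-representatives of a rational map. -/
abbrev RepS (f : X ⤏ Y) : Type u := {h : X.PartialMap Y // h.IsOver S ∧ h.toRationalMap = f}

/-- The union of the domains of all S-representatives. -/
def domS (f : X ⤏ Y) : X.Opens := ⨆ h : RepS S f, h.1.domain

theorem le_domS (f : X ⤏ Y) (h : RepS S f) : h.1.domain ≤ domS S f :=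
  le_iSup (fun h : RepS S f => h.1.domain) h

set_option backward.isDefEq.respectTransparency false in
noncomputable def coverS (f : X ⤏ Y) : (domS S f).toScheme.OpenCover where
  I₀ := RepS S f
  X h := h.1.domain.toScheme
  f h := X.homOfLE (le_domS S f h)
  mem₀ := by
    rw [Scheme.presieve₀_mem_precoverage_iff]
    refine ⟨fun x ↦ ?_, inferInstance⟩
    obtain ⟨h, hxh⟩ := TopologicalSpace.Opens.mem_iSup.mp x.2
    exact ⟨h, ⟨x.1, hxh⟩, Subtype.ext (by simp)⟩

set_option backward.isDefEq.respectTransparency false in
set_option backward.defeqAttrib.useBackward true in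
theorem coverS_compat [IsReduced X] [IsSeparated (Y ↘ S)] (f : X ⤏ Y) (h₁ h₂ : RepS S f) :
    pullback.fst ((coverS S f).f h₁) ((coverS S f).f h₂) ≫ h₁.1.hom =
      pullback.snd ((coverS S f).f h₁) ((coverS S f).f h₂) ≫ h₂.1.hom := by
  refine (cancel_epi (isPullback_opens_inf_le (le_domS S f h₁)
    (le_domS S f h₂)).isoPullback.hom).mp ?_
  simp only [coverS, IsPullback.isoPullback_hom_fst_assoc, IsPullback.isoPullback_hom_snd_assoc]
  haveI := h₁.2.1
  haveI := h₂.2.1
  exact (Scheme.PartialMap.equiv_iff_of_isSeparated (S := S) (f := h₁.1) (g := h₂.1)).mp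
    (by rw [← Scheme.PartialMap.toRationalMap_eq_iff, h₁.2.2, h₂.2.2])

noncomputable def glueS [IsReduced X] [IsSeparated (Y ↘ S)] (f : X ⤏ Y) :
    (domS S f).toScheme ⟶ Y :=
  (coverS S f).glueMorphisms (fun h => h.1.hom) (coverS_compat S f)

theorem homOfLE_glueS [IsReduced X] [IsSeparated (Y ↘ S)] (f : X ⤏ Y) (h : RepS S f) :
    X.homOfLE (le_domS S f h) ≫ glueS S f = h.1.hom :=
  (coverS S f).ι_glueMorphisms _ _ h

set_option backward.defeqAttrib.useBackward true in
theorem largest_aux [IsReduced X] [IsSeparated (Y ↘ S)] (f : X ⤏ Y) [f.IsOver S] :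
    ∃ g : X.PartialMap Y, g.IsOver S ∧ g.toRationalMap = f ∧
      ∀ h : X.PartialMap Y, h.IsOver S → h.toRationalMap = f →
        ∃ hle : h.domain ≤ g.domain, h = g.restrict h.domain h.dense_domain hle := by
  obtain ⟨h₀, hh₀, hh₀f⟩ := f.exists_partialMap_over S
  let r₀ : RepS S f := ⟨h₀, hh₀, hh₀f⟩
  let g : X.PartialMap Y := ⟨domS S f, h₀.dense_domain.mono (le_domS S f r₀), glueS S f⟩
  have hrestr : ∀ h : RepS S f, g.restrict h.1.domain h.1.dense_domain (le_domS S f h) = h.1 := by
    intro h
    refine Scheme.PartialMap.ext _ _ rfl ?_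
    simpa using homOfLE_glueS S f h
  refine ⟨g, ?_, ?_, ?_⟩
  · rw [Scheme.PartialMap.isOver_iff]
    refine (coverS S f).hom_ext _ _ (fun h => ?_)
    have h1 : X.homOfLE (le_domS S f h) ≫ glueS S f = h.1.hom := homOfLE_glueS S f h
    have h2 : h.1.hom ≫ (Y ↘ S) = h.1.domain.ι ≫ (X ↘ S) := by
      have := (Scheme.PartialMap.isOver_iff (S := S) (f := h.1)).mp h.2.1
      simpa using this
    change X.homOfLE (le_domS S f h) ≫ (glueS S f ≫ (Y ↘ S)) =
      X.homOfLE (le_domS S f h) ≫ ((domS S f).ι ≫ (X ↘ S))
    rw [← Category.assoc, h1, h2, ← Category.assoc, Scheme.homOfLE_ι]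
  · rw [← Scheme.PartialMap.restrict_toRationalMap g h₀.domain h₀.dense_domain (le_domS S f r₀),
      hrestr r₀]
    exact hh₀f
  · intro h hh hf
    exact ⟨le_domS S f ⟨h, hh, hf⟩, (hrestr ⟨h, hh, hf⟩).symm⟩

end

open AlgebraicGeometry in
open CategoryTheory in
/-- Let X be a reduced S-scheme, Y an S-scheme separated over S and f an S-rational map from X to Y.
There is a representative g of f which is an S-morphism and of which every S-morphism representing f
is a restriction; in particular g is the unique S-morphism of the class of f defined on the largest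
open where some S-representative is defined. (The published statement speaks of the domain of
definition among all representatives; over a base that is not separated that domain can be larger
than the one on which an S-representative exists, and this row takes the latter.) -/
theorem result
    (S X Y : Scheme.{u}) [X.Over S] [Y.Over S] [IsReduced X] [IsSeparated (Y ↘ S)]
    (f : X ⤏ Y) [f.IsOver S] :
    ∃ g : X.PartialMap Y, g.IsOver S ∧ g.toRationalMap = f ∧
      ∀ h : X.PartialMap Y, h.IsOver S → h.toRationalMap = f →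
        ∃ hle : h.domain ≤ g.domain, h = g.restrict h.domain h.dense_domain hle := by
  exact largest_aux S f

end Groth.Agent.S4344
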