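import Groth.Statements.S4345
import Mathlib

set_option autoImplicit false
universe u
open SchLoc

namespace Groth.Agent.S4345

open LocalSubring IsLocalRing

section aux
variable {R : Type u} [Field R]

theorem ofPrime_congr (A : Subring R) (P P' : Ideal A) [hP : P.IsPrime] [hP' : P'.IsPrime]
    (h : P = P') : ofPrime A P = ofPrime A P' := by
  subst h; rfl

theorem ne_zero_of_not_mem (A : Subring R) (P : Ideal A) (s : A) (hs : s ∉ P) :
    (s.1 : R) ≠ 0 := by
  intro h0
  apply hs
  have : s = 0 := Subtype.ext h0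
  rw [this]; exact P.zero_mem

theorem mem_ofPrime_iff (A : Subring R) (P : Ideal A) [P.IsPrime] (x : R) :
    x ∈ (ofPrime A P).toSubring ↔ ∃ a s : A, s ∉ P ∧ x = a.1 * (s.1)⁻¹ := by
  constructor
  · intro hx
    obtain ⟨⟨a, s⟩, h⟩ := IsLocalization.surj P.primeCompl (⟨x, hx⟩ : (ofPrime A P).toSubring)
    have hs : s.1 ∉ P := s.2
    refine ⟨a, s.1, hs, ?_⟩
    have h' : x * s.1.1 = a.1 := congrArg Subtype.val h
    have hs0 := ne_zero_of_not_mem A P s.1 hs
    rw [← h', mul_assoc, mul_inv_cancel₀ hs0, mul_one]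
  · rintro ⟨a, s, hs, rfl⟩
    have hu : IsUnit (algebraMap A (ofPrime A P).toSubring s) :=
      IsLocalization.map_units _ (⟨s, hs⟩ : P.primeCompl)
    obtain ⟨u, hu⟩ := hu.exists_right_inv
    have h1 : s.1 * u.1 = 1 := congrArg Subtype.val hu
    rw [inv_eq_of_mul_eq_one_right h1]
    exact Subring.mul_mem _ (le_ofPrime A P a.2) u.2

theorem comap_ofPrime_self (A : Subring R) (P : Ideal A) [P.IsPrime] :
    (maximalIdeal (ofPrime A P).toSubring).comap (Subring.inclusion (le_ofPrime A P)) = P := by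
  ext a
  exact IsLocalization.AtPrime.to_map_mem_maximal_iff (ofPrime A P).toSubring P a
    (ofPrime A P).isLocalRing

/-- L3 -/
theorem ofPrime_comap_le (A : Subring R) (Q : LocalSubring R) (hA : A ≤ Q.toSubring) :
    ofPrime A ((maximalIdeal Q.toSubring).comap (Subring.inclusion hA)) ≤ Q := by
  have hinv : ∀ s : A, s ∉ (maximalIdeal Q.toSubring).comap (Subring.inclusion hA) →
      (s.1 : R)⁻¹ ∈ Q.toSubring := by
    intro s hs
    have hu : IsUnit (Subring.inclusion hA s) := by
      by_contra hnu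
      exact hs hnu
    obtain ⟨u, hu⟩ := hu.exists_right_inv
    have h1 : s.1 * u.1 = 1 := congrArg Subtype.val hu
    rw [inv_eq_of_mul_eq_one_right h1]
    exact u.2
  have hle : (ofPrime A ((maximalIdeal Q.toSubring).comap (Subring.inclusion hA))).toSubring
      ≤ Q.toSubring := by
    intro x hx
    obtain ⟨a, s, hs, rfl⟩ := (mem_ofPrime_iff A _ x).mp hx
    exact Subring.mul_mem _ (hA a.2) (hinv s hs)
  refine ⟨hle, ((IsLocalRing.local_hom_TFAE (Subring.inclusion hle)).out 0 3).mpr ?_⟩
  intro y hy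
  obtain ⟨a, s, hs, hxy⟩ := (mem_ofPrime_iff A _ y.1).mp y.2
  have hs0 := ne_zero_of_not_mem A _ s hs
  have ha : algebraMap A (ofPrime A ((maximalIdeal Q.toSubring).comap
      (Subring.inclusion hA))).toSubring a ∈ maximalIdeal _ := by
    have : algebraMap A (ofPrime A ((maximalIdeal Q.toSubring).comap
        (Subring.inclusion hA))).toSubring a = y * algebraMap A _ s := by
      apply Subtype.ext
      show a.1 = y.1 * s.1
      rw [hxy, mul_assoc, inv_mul_cancel₀ hs0, mul_one]
    rw [this]; exact Ideal.mul_mem_right _ _ hy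
  have haP : a ∈ (maximalIdeal Q.toSubring).comap (Subring.inclusion hA) :=
    (IsLocalization.AtPrime.to_map_mem_maximal_iff _ _ a (LocalSubring.isLocalRing _)).mp ha
  have e : Subring.inclusion hle y = Subring.inclusion hA a * ⟨s.1⁻¹, hinv s hs⟩ :=
    Subtype.ext hxy
  show Subring.inclusion hle y ∈ maximalIdeal Q.toSubring
  rw [e]; exact Ideal.mul_mem_right _ _ haP

/-- L10 -/
theorem comap_of_le {X Q : LocalSubring R} (h : X ≤ Q) (C : Subring R) (hC : C ≤ X.toSubring)
    (hC' : C ≤ Q.toSubring) :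
    (maximalIdeal Q.toSubring).comap (Subring.inclusion hC') =
      (maximalIdeal X.toSubring).comap (Subring.inclusion hC) := by
  obtain ⟨hle, hloc⟩ := h
  have h4 := ((IsLocalRing.local_hom_TFAE (Subring.inclusion hle)).out 0 4).mp hloc
  rw [← h4]
  ext c
  exact Iff.rfl

/-- L4 -/
theorem comap_eq_of_ofPrime_le (A : Subring R) (P : Ideal A) [P.IsPrime] (Q : LocalSubring R)
    (h : ofPrime A P ≤ Q) (hA : A ≤ Q.toSubring) :
    (maximalIdeal Q.toSubring).comap (Subring.inclusion hA) = P :=
  (comap_of_le h A (le_ofPrime A P) hA).trans (comap_ofPrime_self A P)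

/-- L7 -/
theorem comap_ofPrime_of_le (A C : Subring R) (h1 : A ≤ C) (r : Ideal C) [r.IsPrime] :
    (maximalIdeal (ofPrime C r).toSubring).comap
        (Subring.inclusion (h1.trans (le_ofPrime C r))) =
      r.comap (Subring.inclusion h1) := by
  ext a
  exact IsLocalization.AtPrime.to_map_mem_maximal_iff (ofPrime C r).toSubring r
    (Subring.inclusion h1 a) (ofPrime C r).isLocalRing

/-- L8 -/
theorem comap_comap_incl (A C : Subring R) (h1 : A ≤ C) (Q : LocalSubring R)
    (hC : C ≤ Q.toSubring) :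
    ((maximalIdeal Q.toSubring).comap (Subring.inclusion hC)).comap (Subring.inclusion h1) =
      (maximalIdeal Q.toSubring).comap (Subring.inclusion (h1.trans hC)) := by
  ext a
  exact Iff.rfl

/-- L9 -/
theorem ofPrime_comap_le_ofPrime (A C : Subring R) (h1 : A ≤ C) (r : Ideal C) [r.IsPrime] :
    ofPrime A (r.comap (Subring.inclusion h1)) ≤ ofPrime C r :=
  le_of_eq_of_le (ofPrime_congr A _ _ (comap_ofPrime_of_le A C h1 r).symm)
    (ofPrime_comap_le A (ofPrime C r) (h1.trans (le_ofPrime C r)))

end aux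

/-- Let A and B be subrings of a field R, C the subring generated by A and B, and for a subring E let
L(E) be the set of local subrings E_p of R, p a prime ideal of E. The following are equivalent: (i)
for every local subring Q of R containing A and B, the localizations of A and of B at the traces of
the maximal ideal of Q coincide; (ii) for every prime ideal r of C the localizations of A and B at
the traces of r coincide; (iii) two members of L(A) and L(B) dominated by a common local subring of
R are equal; (iv) the intersection of L(A) and L(B) is L(C). -/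
theorem result
    (R : Type u) [Field R] (A B : Subring R) :
    [ ∀ (Q : LocalSubring R) (hA : A ≤ Q.toSubring) (hB : B ≤ Q.toSubring),
        LocalSubring.ofPrime A ((IsLocalRing.maximalIdeal Q.toSubring).comap (Subring.inclusion hA)) =
          LocalSubring.ofPrime B ((IsLocalRing.maximalIdeal Q.toSubring).comap (Subring.inclusion hB)),
      ∀ r : PrimeSpectrum ↥(A ⊔ B),
        LocalSubring.ofPrime A (r.asIdeal.comap (Subring.inclusion (le_sup_left : A ≤ A ⊔ B))) =
          LocalSubring.ofPrime B (r.asIdeal.comap (Subring.inclusion (le_sup_right : B ≤ A ⊔ B))),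
      ∀ (p : PrimeSpectrum A) (q : PrimeSpectrum B),
        (∃ Q : LocalSubring R, LocalSubring.ofPrime A p.asIdeal ≤ Q ∧ LocalSubring.ofPrime B q.asIdeal ≤ Q) →
          LocalSubring.ofPrime A p.asIdeal = LocalSubring.ofPrime B q.asIdeal,
      Set.range (fun p : PrimeSpectrum A ↦ LocalSubring.ofPrime A p.asIdeal) ∩
          Set.range (fun q : PrimeSpectrum B ↦ LocalSubring.ofPrime B q.asIdeal) =
        Set.range (fun r : PrimeSpectrum ↥(A ⊔ B) ↦ LocalSubring.ofPrime (A ⊔ B) r.asIdeal) ].TFAE := by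
  tfae_have 1 → 2 := by
    intro h r
    have hCr := le_ofPrime (A ⊔ B) r.asIdeal
    have := h (ofPrime (A ⊔ B) r.asIdeal) (le_sup_left.trans hCr) (le_sup_right.trans hCr)
    exact (ofPrime_congr A _ _ (comap_ofPrime_of_le A (A ⊔ B) le_sup_left r.asIdeal).symm).trans
      (this.trans (ofPrime_congr B _ _ (comap_ofPrime_of_le B (A ⊔ B) le_sup_right r.asIdeal)))
  tfae_have 2 → 1 := by
    intro h Q hA hB
    have hC : A ⊔ B ≤ Q.toSubring := sup_le hA hB
    have := h ⟨(maximalIdeal Q.toSubring).comap (Subring.inclusion hC), inferInstance⟩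
    exact (ofPrime_congr A _ _ (comap_comap_incl A (A ⊔ B) le_sup_left Q hC).symm).trans
      (this.trans (ofPrime_congr B _ _ (comap_comap_incl B (A ⊔ B) le_sup_right Q hC)))
  tfae_have 1 → 3 := by
    rintro h p q ⟨Q, hpQ, hqQ⟩
    have hA : A ≤ Q.toSubring := (le_ofPrime A p.asIdeal).trans hpQ.1
    have hB : B ≤ Q.toSubring := (le_ofPrime B q.asIdeal).trans hqQ.1
    exact (ofPrime_congr A _ _ (comap_eq_of_ofPrime_le A p.asIdeal Q hpQ hA).symm).trans
      ((h Q hA hB).trans (ofPrime_congr B _ _ (comap_eq_of_ofPrime_le B q.asIdeal Q hqQ hB)))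
  tfae_have 3 → 1 := by
    intro h Q hA hB
    exact h ⟨(maximalIdeal Q.toSubring).comap (Subring.inclusion hA), inferInstance⟩
      ⟨(maximalIdeal Q.toSubring).comap (Subring.inclusion hB), inferInstance⟩
      ⟨Q, ofPrime_comap_le A Q hA, ofPrime_comap_le B Q hB⟩
  tfae_have 2 → 4 := by
    intro h
    apply Set.Subset.antisymm
    · rintro X ⟨⟨p, hp⟩, ⟨q, hq⟩⟩
      have hp' : ofPrime A p.asIdeal = X := hp
      have hq' : ofPrime B q.asIdeal = X := hq
      have hAX : A ≤ X.toSubring := by rw [← hp']; exact le_ofPrime _ _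
      have hBX : B ≤ X.toSubring := by rw [← hq']; exact le_ofPrime _ _
      have hC : A ⊔ B ≤ X.toSubring := sup_le hAX hBX
      refine ⟨⟨(maximalIdeal X.toSubring).comap (Subring.inclusion hC), inferInstance⟩, ?_⟩
      show ofPrime (A ⊔ B) ((maximalIdeal X.toSubring).comap (Subring.inclusion hC)) = X
      apply le_antisymm (ofPrime_comap_le (A ⊔ B) X hC)
      have e1 : ((maximalIdeal X.toSubring).comap (Subring.inclusion hC)).comap
          (Subring.inclusion (le_sup_left : A ≤ A ⊔ B)) = p.asIdeal := by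
        rw [comap_comap_incl A (A ⊔ B) le_sup_left X hC]
        exact comap_eq_of_ofPrime_le A p.asIdeal X (le_of_eq hp') _
      calc X = ofPrime A p.asIdeal := hp'.symm
        _ = ofPrime A (((maximalIdeal X.toSubring).comap (Subring.inclusion hC)).comap
              (Subring.inclusion (le_sup_left : A ≤ A ⊔ B))) := ofPrime_congr A _ _ e1.symm
        _ ≤ _ := ofPrime_comap_le_ofPrime A (A ⊔ B) le_sup_left _
    · rintro X ⟨r, hr⟩
      have hr' : ofPrime (A ⊔ B) r.asIdeal = X := hr
      have hpq := h r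
      have le1 := ofPrime_comap_le_ofPrime A (A ⊔ B) le_sup_left r.asIdeal
      have hAX := le_ofPrime A (r.asIdeal.comap (Subring.inclusion (le_sup_left : A ≤ A ⊔ B)))
      have hBX : B ≤ (ofPrime A (r.asIdeal.comap
          (Subring.inclusion (le_sup_left : A ≤ A ⊔ B)))).toSubring := by
        rw [hpq]; exact le_ofPrime _ _
      have hC : A ⊔ B ≤ (ofPrime A (r.asIdeal.comap
          (Subring.inclusion (le_sup_left : A ≤ A ⊔ B)))).toSubring := sup_le hAX hBX
      have e : (maximalIdeal (ofPrime A (r.asIdeal.comap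
          (Subring.inclusion (le_sup_left : A ≤ A ⊔ B)))).toSubring).comap (Subring.inclusion hC)
          = r.asIdeal :=
        (comap_of_le le1 (A ⊔ B) hC (le_ofPrime _ _)).symm.trans (comap_ofPrime_self _ _)
      have ge1 : ofPrime (A ⊔ B) r.asIdeal ≤ ofPrime A (r.asIdeal.comap
          (Subring.inclusion (le_sup_left : A ≤ A ⊔ B))) :=
        le_of_eq_of_le (ofPrime_congr (A ⊔ B) _ _ e.symm) (ofPrime_comap_le (A ⊔ B) _ hC)
      have claim := le_antisymm le1 ge1
      refine ⟨⟨⟨r.asIdeal.comap (Subring.inclusion (le_sup_left : A ≤ A ⊔ B)), inferInstance⟩,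
        claim.trans hr'⟩, ⟨⟨r.asIdeal.comap (Subring.inclusion (le_sup_right : B ≤ A ⊔ B)),
        inferInstance⟩, hpq.symm.trans (claim.trans hr')⟩⟩
  tfae_have 4 → 2 := by
    intro h r
    have hr : ofPrime (A ⊔ B) r.asIdeal ∈
        Set.range (fun r : PrimeSpectrum ↥(A ⊔ B) ↦ LocalSubring.ofPrime (A ⊔ B) r.asIdeal) :=
      ⟨r, rfl⟩
    rw [← h] at hr
    obtain ⟨⟨p, hp⟩, ⟨q, hq⟩⟩ := hr
    have hp' : ofPrime A p.asIdeal = ofPrime (A ⊔ B) r.asIdeal := hp
    have hq' : ofPrime B q.asIdeal = ofPrime (A ⊔ B) r.asIdeal := hq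
    have hCr := le_ofPrime (A ⊔ B) r.asIdeal
    have eA : r.asIdeal.comap (Subring.inclusion (le_sup_left : A ≤ A ⊔ B)) = p.asIdeal :=
      (comap_ofPrime_of_le A (A ⊔ B) le_sup_left r.asIdeal).symm.trans
        (comap_eq_of_ofPrime_le A p.asIdeal _ (le_of_eq hp') (le_sup_left.trans hCr))
    have eB : r.asIdeal.comap (Subring.inclusion (le_sup_right : B ≤ A ⊔ B)) = q.asIdeal :=
      (comap_ofPrime_of_le B (A ⊔ B) le_sup_right r.asIdeal).symm.trans
        (comap_eq_of_ofPrime_le B q.asIdeal _ (le_of_eq hq') (le_sup_right.trans hCr))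
    exact (ofPrime_congr A _ _ eA).trans (hp'.trans (hq'.symm.trans (ofPrime_congr B _ _ eB.symm)))
  tfae_finish

end Groth.Agent.S4345
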