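import Groth.Statements.S4346
import Mathlib
import Groth.Agent.Lib.Helper24.LocalRingsFF

set_option autoImplicit false
universe u
open SchLoc

namespace Groth.Agent.S4346

open AlgebraicGeometry in
/-- On an integral separated scheme distinct points have distinct local rings inside the function field. -/
theorem result (X : Scheme.{u}) [IsIntegral X] [X.IsSeparated] :
    Function.Injective (fun x : X ↦ (algebraMap (X.presheaf.stalk x) X.functionField).range) := by
  intro x y hxy
  have hxy' : (algebraMap (X.presheaf.stalk x) X.functionField).range =
      (algebraMap (X.presheaf.stalk y) X.functionField).range := hxy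
  have h1 : y ⤳ x :=
    Groth.Agent.Helper24.LocalRingsFF.specializes_of_forall_exists X x y (fun a => by
      obtain ⟨b, hb⟩ := RingHom.mem_range.mp (hxy'.le (RingHom.mem_range_self _ a))
      exact ⟨b, hb⟩)
  have h2 : x ⤳ y :=
    Groth.Agent.Helper24.LocalRingsFF.specializes_of_forall_exists X y x (fun a => by
      obtain ⟨b, hb⟩ := RingHom.mem_range.mp (hxy'.ge (RingHom.mem_range_self _ a))
      exact ⟨b, hb⟩)
  exact (h2.antisymm h1).eq

end Groth.Agent.S4346
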