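import Groth.Statements.S4349
import Mathlib

set_option autoImplicit false
universe u
open RatFun

namespace Groth.Agent.S4349

open AlgebraicGeometry in
/-- Second assertion (in the form: sections over a dense open inject into the ring of rational
functions). Let X be a reduced scheme and V a dense open subset of X. The canonical map from the
sections of O_X over V to the ring R(X) of rational functions on X is injective. (The published
statement also assumes X locally integral or locally Noetherian; that hypothesis serves the
quasi-coherence of the sheaf of rational functions and is not needed here.) -/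
theorem result (X : Scheme.{u}) [IsReduced X]
    (V : X.Opens) (hV : Dense (V : Set X)) :
    Function.Injective (RatFun.toRing X V hV) := by
  classical
  haveI : CategoryTheory.IsCofiltered ((RatFun.IsDenseOpen X).FullSubcategory) :=
    { cone_objs := fun U W =>
        ⟨⟨U.obj ⊓ W.obj, by
            show Dense ((U.obj ⊓ W.obj : X.Opens) : Set X)
            rw [TopologicalSpace.Opens.coe_inf]
            exact Dense.inter_of_isOpen_left U.property W.property U.obj.isOpen⟩,
          CategoryTheory.ObjectProperty.homMk (CategoryTheory.homOfLE inf_le_left),
          CategoryTheory.ObjectProperty.homMk (CategoryTheory.homOfLE inf_le_right), trivial⟩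
      cone_maps := fun U W f g =>
        ⟨U, CategoryTheory.CategoryStruct.id U, by
          apply CategoryTheory.ObjectProperty.hom_ext
          apply Subsingleton.elim⟩
      nonempty := ⟨⟨⊤, by
        show Dense ((⊤ : X.Opens) : Set X)
        rw [TopologicalSpace.Opens.coe_top]; exact dense_univ⟩⟩ }
  show Function.Injective (RatFun.toRing X V hV).hom
  rw [injective_iff_map_eq_zero]
  intro s hs
  have hs' : CategoryTheory.Limits.colimit.ι (RatFun.sectionsOnDense X) (Opposite.op ⟨V, hV⟩) s =
      CategoryTheory.Limits.colimit.ι (RatFun.sectionsOnDense X) (Opposite.op ⟨V, hV⟩) 0 := by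
    rw [map_zero]; exact hs
  obtain ⟨k, f, g, hfg⟩ := CategoryTheory.Limits.Concrete.colimit_exists_of_rep_eq _ _ _ hs'
  rw [map_zero] at hfg
  have hW : Dense ((Opposite.unop k).obj : Set X) := (Opposite.unop k).property
  have hres : X.presheaf.map (f.unop.hom).op s = 0 := hfg
  have h1 := AlgebraicGeometry.Scheme.basicOpen_res X s (f.unop.hom).op
  rw [hres, AlgebraicGeometry.Scheme.basicOpen_zero] at h1
  rw [← AlgebraicGeometry.basicOpen_eq_bot_iff]
  by_contra hne
  have hne' : (X.basicOpen s : Set X).Nonempty := by
    rw [Set.nonempty_iff_ne_empty]
    intro h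
    apply hne
    apply TopologicalSpace.Opens.ext
    simpa using h
  obtain ⟨x, hx1, hx2⟩ := hW.inter_open_nonempty _ (X.basicOpen s).isOpen hne'
  have hx : x ∈ ((Opposite.unop k).obj ⊓ X.basicOpen s : X.Opens) := ⟨hx2, hx1⟩
  rw [← h1] at hx
  exact hx

end Groth.Agent.S4349
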