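import Groth.Statements.S4361
import Groth.Agent.Helper1.NoethTop

set_option autoImplicit false
universe u
open FinCond

namespace Groth.Agent.S4361

open AlgebraicGeometry in
open CategoryTheory in
/-- Let f : X -> Y and g : Y -> Z be morphisms whose composite is quasi-compact, and suppose the
underlying space of X is locally Noetherian (every point has an open neighbourhood which is a
Noetherian topological space). Then f is quasi-compact. (The published statement also covers the
case g separated, which is the standard cancellation property; this row states only the case of a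
locally Noetherian source.) -/
theorem result
    {X Y Z : Scheme.{u}} (f : X ⟶ Y) (g : Y ⟶ Z) [QuasiCompact (f ≫ g)]
    (hX : ∀ x : X, ∃ U : X.Opens, x ∈ U ∧ TopologicalSpace.NoetherianSpace U) :
    QuasiCompact f := by
  constructor
  intro U _ hUc
  -- a compact open of `Z` containing `g '' U`
  have hgU : IsCompact (g '' U) := hUc.image g.continuous
  obtain ⟨t, ht⟩ := hgU.elim_finite_subcover (fun W : Z.affineOpens => ((W : Z.Opens) : Set Z))
    (fun W => (W : Z.Opens).isOpen) (by
      intro z _
      have : z ∈ ((⨆ W : Z.affineOpens, (W : Z.Opens) : Z.Opens) : Set Z) := by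
        rw [iSup_affineOpens_eq_top]; trivial
      simpa using this)
  let W : Set Z := ⋃ W ∈ t, ((W : Z.Opens) : Set Z)
  have hWo : IsOpen W := isOpen_biUnion fun W _ => (W : Z.Opens).isOpen
  have hWc : IsCompact W := t.isCompact_biUnion fun W _ => W.2.isCompact
  have hpre : IsCompact ((f ≫ g) ⁻¹' W) := QuasiCompact.isCompact_preimage W hWo hWc
  refine Groth.Agent.Helper1.NoethTop.isCompact_of_subset_isCompact hX hpre ?_
  intro x hx
  have : g (f x) ∈ g '' U := ⟨f x, hx, rfl⟩
  obtain ⟨W', hW'⟩ := Set.mem_iUnion.1 (ht this)
  obtain ⟨hW't, hmem⟩ := Set.mem_iUnion.1 hW'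
  exact Set.mem_iUnion.2 ⟨W', Set.mem_iUnion.2 ⟨hW't, hmem⟩⟩

end Groth.Agent.S4361
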