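import Groth.Statements.S4362
import Mathlib.Data.DFinsupp.WellFounded

set_option autoImplicit false
universe u
open FinCond

namespace Groth.Agent.S4362

open AlgebraicGeometry in
open CategoryTheory in
/-- If X is a Noetherian scheme, every increasing sequence of quasi-coherent sheaves of ideals of the
structure sheaf is eventually constant; equivalently the ordered set of quasi-coherent ideal sheaves
of X is well-founded for the reverse order. (On a locally Noetherian scheme quasi-coherent and
coherent ideal sheaves coincide.) -/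
theorem result
    (X : Scheme.{u}) [IsNoetherian X] : WellFoundedGT X.IdealSheafData := by
  -- a finite cover by affine opens
  obtain ⟨t, ht⟩ := isCompact_univ.elim_finite_subcover
    (fun W : X.affineOpens => ((W : X.Opens) : Set X))
    (fun W => (W : X.Opens).isOpen) (by
      intro z _
      have : z ∈ ((⨆ W : X.affineOpens, (W : X.Opens) : X.Opens) : Set X) := by
        rw [iSup_affineOpens_eq_top]; trivial
      simpa using this)
  let U : t → X.affineOpens := fun i => i.1
  have hU : ⨆ i, (U i).1 = ⊤ := by
    rw [eq_top_iff]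
    intro x _
    obtain ⟨W, hW⟩ := Set.mem_iUnion.1 (ht (Set.mem_univ x))
    obtain ⟨hWt, hx⟩ := Set.mem_iUnion.1 hW
    exact TopologicalSpace.Opens.mem_iSup.2 ⟨⟨W, hWt⟩, hx⟩
  have hN : ∀ i : t, IsNoetherianRing Γ(X, (U i).1) := fun i =>
    IsLocallyNoetherian.component_noetherian (U i)
  have hW : ∀ i : t, WellFoundedLT (Ideal Γ(X, (U i).1))ᵒᵈ := fun i => by
    have : WellFoundedGT (Ideal Γ(X, (U i).1)) := inferInstance
    infer_instance
  let φ : X.IdealSheafData → ∀ i : t, (Ideal Γ(X, (U i).1))ᵒᵈ :=
    fun I i => OrderDual.toDual (I.ideal (U i))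
  have hwf : WellFounded (fun a b : ∀ i : t, (Ideal Γ(X, (U i).1))ᵒᵈ => a < b) :=
    (Pi.wellFoundedLT (α := fun i : t => (Ideal Γ(X, (U i).1))ᵒᵈ)).wf
  refine ⟨Subrelation.wf ?_ (InvImage.wf φ hwf)⟩
  intro I J hIJ
  change φ I < φ J
  have hJI : J < I := hIJ
  rw [lt_iff_le_not_ge]
  constructor
  · intro i
    exact hJI.le (U i)
  · intro hle
    apply hJI.not_ge
    exact Scheme.IdealSheafData.le_of_iSup_eq_top U hU (fun i => hle i)

end Groth.Agent.S4362
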