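import Groth.Statements.S4364
import Mathlib

set_option autoImplicit false
universe u
open FinCond

namespace Groth.Agent.S4364

open AlgebraicGeometry CategoryTheory TopologicalSpace Opposite

set_option backward.isDefEq.respectTransparency.types false in
/-- finitely many sections with equal germs agree on a common neighbourhood -/
theorem exists_open_forall_eq {X : Scheme.{u}} {U₀ : X.Opens} {x : X} (hx : x ∈ U₀)
    {B : Type u} (φ ψ : B → Γ(X, U₀)) (t : Finset B)
    (h : ∀ b ∈ t, X.presheaf.germ U₀ x hx (φ b) = X.presheaf.germ U₀ x hx (ψ b)) :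
    ∃ (U : X.Opens) (_ : x ∈ U) (hU : U ≤ U₀), ∀ b ∈ t,
      X.presheaf.map (homOfLE hU).op (φ b) = X.presheaf.map (homOfLE hU).op (ψ b) := by
  classical
  induction t using Finset.induction_on with
  | empty => exact ⟨U₀, hx, le_rfl, by simp⟩
  | insert b t hb ih =>
    obtain ⟨U, hxU, hU, hUt⟩ := ih (fun c hc => h c (Finset.mem_insert_of_mem hc))
    obtain ⟨W, hxW, iU, iV, e⟩ := X.presheaf.germ_eq x hx hx _ _ (h b (Finset.mem_insert_self _ _))
    refine ⟨U ⊓ W, ⟨hxU, hxW⟩, inf_le_left.trans hU, ?_⟩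
    intro c hc
    rcases Finset.mem_insert.mp hc with rfl | hc
    · have e1 : (homOfLE (inf_le_left.trans hU : U ⊓ W ≤ U₀)).op =
          iU.op ≫ (homOfLE (inf_le_right : U ⊓ W ≤ W)).op := rfl
      rw [e1, X.presheaf.map_comp]
      simp only [CommRingCat.comp_apply]
      have e2 : iU = iV := Subsingleton.elim _ _
      rw [e, e2]
    · have e1 : (homOfLE (inf_le_left.trans hU : U ⊓ W ≤ U₀)).op =
          (homOfLE hU).op ≫ (homOfLE (inf_le_left : U ⊓ W ≤ U)).op := rfl
      rw [e1, X.presheaf.map_comp]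
      simp only [CommRingCat.comp_apply]
      rw [hUt c hc]

set_option backward.isDefEq.respectTransparency.types false in
theorem result
    {X Y S : Scheme.{u}} (sX : X ⟶ S) (sY : Y ⟶ S) [LocallyOfFiniteType sY]
    (f g : X ⟶ Y) (hf : f ≫ sY = sX) (hg : g ≫ sY = sX) {x : X} (e : f x = g x)
    (H : f.stalkMap x =
      Y.presheaf.stalkSpecializes (Inseparable.of_eq e.symm).specializes ≫ g.stalkMap x) :
    ∃ U : X.Opens, x ∈ U ∧ U.ι ≫ f = U.ι ≫ g := by
  classical
  obtain ⟨_, ⟨W, hW, rfl⟩, hxW, -⟩ :=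
    S.isBasis_affineOpens.exists_subset_of_mem_open (Set.mem_univ (sY (f x))) isOpen_univ
  obtain ⟨_, ⟨V : Y.Opens, hV, rfl⟩, hxV, hVW⟩ :=
    Y.isBasis_affineOpens.exists_subset_of_mem_open hxW (sY ⁻¹ᵁ W).2
  have hxV' : g x ∈ V := e ▸ hxV
  set U₀ : X.Opens := f ⁻¹ᵁ V ⊓ g ⁻¹ᵁ V with hU₀
  have hxU₀ : x ∈ U₀ := ⟨hxV, hxV'⟩
  have hgerm : f.appLE V U₀ inf_le_left ≫ X.presheaf.germ U₀ x hxU₀ =
      g.appLE V U₀ inf_le_right ≫ X.presheaf.germ U₀ x hxU₀ := by
    simp only [Scheme.Hom.appLE, Category.assoc, X.presheaf.germ_res', ← Scheme.Hom.germ_stalkMap, H]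
    simp only [TopCat.Presheaf.germ_stalkSpecializes_assoc, Scheme.Hom.germ_stalkMap]
  have hft := sY.finiteType_appLE hW hV hVW
  algebraize [(sY.appLE W V hVW).hom]
  obtain ⟨t, ht⟩ := (Algebra.FiniteType.out : (⊤ : Subalgebra Γ(S, W) Γ(Y, V)).FG)
  obtain ⟨U, hxU, hU, hUt⟩ := exists_open_forall_eq hxU₀ (f.appLE V U₀ inf_le_left).hom
    (g.appLE V U₀ inf_le_right).hom t (fun b _ => by
      have := congr($hgerm b)
      simpa using this)
  refine ⟨U, hxU, ?_⟩
  have hUf : U ≤ f ⁻¹ᵁ V := hU.trans inf_le_left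
  have hUg : U ≤ g ⁻¹ᵁ V := hU.trans inf_le_right
  have key : f.appLE V U hUf = g.appLE V U hUg := by
    ext b
    have hb : b ∈ Algebra.adjoin Γ(S, W) (t : Set Γ(Y, V)) := by rw [ht]; trivial
    induction hb using Algebra.adjoin_induction with
    | mem b hb =>
      have := hUt b hb
      have e1 : f.appLE V U hUf = f.appLE V U₀ inf_le_left ≫ X.presheaf.map (homOfLE hU).op :=
        (Scheme.Hom.appLE_map _ _ _).symm
      have e2 : g.appLE V U hUg = g.appLE V U₀ inf_le_right ≫ X.presheaf.map (homOfLE hU).op :=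
        (Scheme.Hom.appLE_map _ _ _).symm
      rw [e1, e2]
      exact this
    | algebraMap r =>
      rw [RingHom.algebraMap_toAlgebra]
      have h1 : sY.appLE W V hVW ≫ f.appLE V U hUf = sX.appLE W U (by
          rw [← hf]; exact hUf.trans (by intro y hy; exact hVW hy)) := by
        rw [Scheme.Hom.appLE_comp_appLE]; simp only [hf]
      have h2 : sY.appLE W V hVW ≫ g.appLE V U hUg = sX.appLE W U (by
          rw [← hf]; exact hUf.trans (by intro y hy; exact hVW hy)) := by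
        rw [Scheme.Hom.appLE_comp_appLE]; simp only [hg]
      have := congr($(h1.trans h2.symm) r)
      simpa using this
    | add a b _ _ ha hb => rw [map_add, map_add, ha, hb]
    | mul a b _ _ ha hb => rw [map_mul, map_mul, ha, hb]
  rw [← Scheme.Hom.resLE_comp_ι _ hUf, ← Scheme.Hom.resLE_comp_ι _ hUg]
  congr 1
  have : IsAffine V := hV
  rw [← cancel_mono V.toScheme.isoSpec.hom]
  simp only [Scheme.isoSpec, asIso_hom, Scheme.toSpecΓ_naturality,
    Scheme.Hom.app_eq_appLE, Scheme.Hom.resLE_appLE]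
  congr 2
  suffices ∀ (U₁ V₁) (eU : U = U₁) (eV : V = V₁),
      f.appLE V₁ U₁ (eU ▸ eV ▸ hUf) = g.appLE V₁ U₁ (eU ▸ eV ▸ hUg) by
    apply this <;> simp
  rintro U V rfl rfl
  exact key

end Groth.Agent.S4364
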