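import Mathlib
import Groth.Statements.S4365
-- import your own Groth.Agent.* helpers here

set_option autoImplicit false
universe u
open FinCond

namespace Groth.Agent.S4365

open AlgebraicGeometry CategoryTheory CategoryTheory.Limits

theorem exists_algHom_of_finTrdeg (K L Ω : Type u) [Field K] [Field L] [Field Ω] [Algebra K L]
    [Algebra K Ω] [IsAlgClosed Ω] [FinTrdeg K L] (t : ℕ → Ω) (ht : AlgebraicIndependent K t) :
    Nonempty (L →ₐ[K] Ω) := by
  obtain ⟨s, hs⟩ := exists_finset_isTranscendenceBasis K L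
  obtain ⟨e, he⟩ : ∃ e : (↥s) → ℕ, Function.Injective e :=
    ⟨fun i => (s.equivFin i : ℕ), fun a b h => s.equivFin.injective (Fin.val_injective h)⟩
  have ht' : AlgebraicIndependent K (t ∘ e) := ht.comp e he
  have hinj : Function.Injective (MvPolynomial.aeval (R := K) (t ∘ e)) :=
    algebraicIndependent_iff_injective_aeval.1 ht'
  let θ₀ : FractionRing (MvPolynomial (↥s) K) →ₐ[K] Ω :=
    IsFractionRing.liftAlgHom (g := MvPolynomial.aeval (t ∘ e)) hinj
  let θ₁ := hs.1.aevalEquivField
  let ιE : ↥(IntermediateField.adjoin K (Set.range ((↑) : s → L))) →ₐ[K] Ω :=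
    θ₀.comp θ₁.symm.toAlgHom
  letI : Algebra ↥(IntermediateField.adjoin K (Set.range ((↑) : s → L))) Ω :=
    ιE.toRingHom.toAlgebra
  haveI : IsScalarTower K ↥(IntermediateField.adjoin K (Set.range ((↑) : s → L))) Ω :=
    IsScalarTower.of_algebraMap_eq (fun x => (ιE.commutes x).symm)
  haveI : Algebra.IsAlgebraic ↥(IntermediateField.adjoin K (Set.range ((↑) : s → L))) L :=
    hs.isAlgebraic_field
  exact ⟨(IsAlgClosed.lift :
    L →ₐ[↥(IntermediateField.adjoin K (Set.range ((↑) : s → L)))] Ω).restrictScalars K⟩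

theorem exists_ringHom_ker_eq (K A Ω : Type u) [Field K] [CommRing A] [Field Ω] [Algebra K A]
    [Algebra.FiniteType K A] [Algebra K Ω] [IsAlgClosed Ω] (t : ℕ → Ω)
    (ht : AlgebraicIndependent K t) (P : Ideal A) [P.IsPrime] :
    ∃ ψ : A →ₐ[K] Ω, RingHom.ker ψ.toRingHom = P := by
  obtain ⟨a⟩ := exists_algHom_of_finTrdeg K (FractionRing (A ⧸ P)) Ω t ht
  refine ⟨(a.comp (IsScalarTower.toAlgHom K (A ⧸ P) (FractionRing (A ⧸ P)))).comp
    (Ideal.Quotient.mkₐ K P), ?_⟩
  ext x
  rw [RingHom.mem_ker]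
  show a (algebraMap (A ⧸ P) (FractionRing (A ⧸ P)) (Ideal.Quotient.mk P x)) = 0 ↔ x ∈ P
  rw [map_eq_zero, map_eq_zero_iff _ (IsFractionRing.injective (A ⧸ P) (FractionRing (A ⧸ P))),
    Ideal.Quotient.eq_zero_iff_mem]


open AlgebraicGeometry in
open CategoryTheory in
/-- Let K be a field, X and Y schemes locally of finite type over K, f : X -> Y a K-morphism and Ω an
algebraically closed extension field of K of infinite transcendence degree over K (there is an
algebraically independent sequence in Ω). Then f is surjective if and only if the map it induces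
from the K-points of X with values in Ω to those of Y is surjective, i.e. every K-morphism Spec Ω ->
Y factors through f. (The published proposition assumes X and Y of finite type over K, and a later
remark of the same text extends it to X and Y locally of finite type over K, the form stated here.) -/
theorem result
    (K Ω : Type u) [Field K] [Field Ω] [IsAlgClosed Ω] [Algebra K Ω]
    (t : ℕ → Ω) (ht : AlgebraicIndependent K t)
    {X Y : Scheme.{u}} (pX : X ⟶ Spec (CommRingCat.of K)) (pY : Y ⟶ Spec (CommRingCat.of K))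
    [LocallyOfFiniteType pX] [LocallyOfFiniteType pY] (f : X ⟶ Y) (hf : f ≫ pY = pX) :
    Surjective f ↔ ∀ y : Spec (CommRingCat.of Ω) ⟶ Y,
      y ≫ pY = Spec.map (CommRingCat.ofHom (algebraMap K Ω)) →
        ∃ x : Spec (CommRingCat.of Ω) ⟶ X, x ≫ f = y := by
  haveI : LocallyOfFiniteType (f ≫ pY) := by rw [hf]; infer_instance
  haveI : LocallyOfFiniteType f := locallyOfFiniteType_of_comp f pY
  constructor
  · intro hs y hy
    haveI := hs
    haveI : Surjective (pullback.snd f y) := MorphismProperty.pullback_snd _ _ inferInstance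
    haveI : LocallyOfFiniteType (pullback.snd f y) :=
      MorphismProperty.pullback_snd _ _ inferInstance
    haveI : JacobsonSpace ↥(pullback f y) := LocallyOfFiniteType.jacobsonSpace (pullback.snd f y)
    obtain ⟨z₀, -⟩ := (pullback.snd f y).surjective (IsLocalRing.closedPoint Ω)
    have hne : (closedPoints ↥(pullback f y)).Nonempty := by
      by_contra h
      rw [Set.not_nonempty_iff_eq_empty] at h
      have hz0 : z₀ ∈ closure (closedPoints ↥(pullback f y)) := by
        rw [closure_closedPoints]; trivial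
      rw [h, closure_empty] at hz0
      exact hz0
    obtain ⟨z, hz⟩ := hne
    refine ⟨pointOfClosedPoint (pullback.snd f y) z hz ≫ pullback.fst f y, ?_⟩
    rw [Category.assoc, pullback.condition, ← Category.assoc, pointOfClosedPoint_comp,
      Category.id_comp]
  · intro H
    refine ⟨fun y₀ => ?_⟩
    obtain ⟨𝒰, h𝒰⟩ : ∃ 𝒰, 𝒰 = Y.affineOpenCover := ⟨_, rfl⟩
    obtain ⟨j, P, hP⟩ : ∃ j P, 𝒰.f j P = y₀ := ⟨_, 𝒰.covers y₀⟩
    obtain ⟨φ, hφ⟩ : ∃ φ, Spec.map φ = 𝒰.f j ≫ pY := ⟨Spec.preimage _, Spec.map_preimage _⟩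
    have hft : φ.hom.FiniteType := by
      rw [← HasRingHomProperty.Spec_iff (P := @LocallyOfFiniteType), hφ]; infer_instance
    letI : Algebra K (𝒰.X j) := φ.hom.toAlgebra
    haveI : Algebra.FiniteType K (𝒰.X j) := hft
    haveI : P.asIdeal.IsPrime := P.2
    obtain ⟨ψ, hψ⟩ := exists_ringHom_ker_eq K (𝒰.X j) Ω t ht P.asIdeal
    obtain ⟨x, hx⟩ := H (Spec.map (CommRingCat.ofHom ψ.toRingHom) ≫ 𝒰.f j) (by
      rw [Category.assoc, ← hφ, ← Spec.map_comp]
      congr 1
      ext a
      exact ψ.commutes a)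
    refine ⟨x (IsLocalRing.closedPoint Ω), ?_⟩
    have h0 : (x ≫ f) (IsLocalRing.closedPoint Ω) =
        (Spec.map (CommRingCat.ofHom ψ.toRingHom) ≫ 𝒰.f j) (IsLocalRing.closedPoint Ω) := by
      rw [hx]
    rw [Scheme.Hom.comp_apply, Scheme.Hom.comp_apply] at h0
    rw [h0, ← hP]
    congr 1
    apply PrimeSpectrum.ext
    show Ideal.comap ψ.toRingHom (IsLocalRing.maximalIdeal Ω) = P.asIdeal
    rw [IsLocalRing.maximalIdeal_eq_bot, ← hψ]
    rfl

end Groth.Agent.S4365
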