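import Groth.Statements.S4366
import Mathlib
import Mathlib

set_option autoImplicit false
universe u
open SchMor

namespace Groth.Agent.S4366

open AlgebraicGeometry CategoryTheory CategoryTheory.Limits in
theorem flat_fromSpecStalk (Y : Scheme.{u}) (y : Y) : Flat (Y.fromSpecStalk y) := by
  have hU := isAffineOpen_opensRange (Y.affineCover.f (Y.affineCover.idx y))
  have hy : y ∈ Scheme.Hom.opensRange (Y.affineCover.f (Y.affineCover.idx y)) :=
    Y.affineCover.covers y
  rw [← hU.fromSpecStalk_eq_fromSpecStalk hy]
  dsimp [IsAffineOpen.fromSpecStalk]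
  have : Flat (Spec.map (Y.presheaf.germ _ y hy)) := by
    rw [Flat.SpecMap_iff]
    letI : Algebra Γ(Y, Scheme.Hom.opensRange (Y.affineCover.f (Y.affineCover.idx y)))
      (Y.presheaf.stalk y) := (Y.presheaf.germ _ y hy).hom.toAlgebra
    haveI := hU.isLocalization_stalk ⟨y, hy⟩
    have := IsLocalization.flat (Y.presheaf.stalk y)
      (hU.primeIdealOf ⟨y, hy⟩).asIdeal.primeCompl
    exact this
  infer_instance

theorem bijective_of_flat_local_surj {A B : Type u} [CommRing A] [CommRing B] [IsLocalRing A]
    [IsLocalRing B] (φ : A →+* B) [IsLocalHom φ] (hfl : φ.Flat) (hs : Function.Surjective φ) :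
    Function.Bijective φ := by
  refine ⟨?_, hs⟩
  letI := φ.toAlgebra
  haveI : Module.Flat A B := hfl
  haveI : IsLocalHom (algebraMap A B) := ‹IsLocalHom φ›
  haveI := Module.FaithfullyFlat.of_flat_of_isLocalHom (A := A) (B := B)
  exact FaithfulSMul.algebraMap_injective A B

open AlgebraicGeometry in
open CategoryTheory in
open CategoryTheory.Limits in
/-- Let f : X -> Y be a morphism, y a point of Y and Z = Spec O_{Y,y} the local scheme of Y at y with
its canonical morphism to Y. Then the projection p : X x_Y Z -> X induces isomorphisms on all local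
rings: for every point t of X x_Y Z the homomorphism O_{X, p t} -> O_{X x_Y Z, t} is bijective. (The
published statement also asserts that p is a homeomorphism onto the preimage of Z; that part is not
stated here.) -/
theorem result
    {X Y : Scheme.{u}} (f : X ⟶ Y) (y : Y) (t : ↑(pullback f (Y.fromSpecStalk y))) :
    IsIso ((pullback.fst f (Y.fromSpecStalk y)).stalkMap t) := by
  haveI := Groth.Agent.S4366.flat_fromSpecStalk Y y
  have h1 : ((pullback.fst f (Y.fromSpecStalk y)).stalkMap t).hom.Flat :=
    Flat.stalkMap _ t
  have h2 : Function.Surjective ((pullback.fst f (Y.fromSpecStalk y)).stalkMap t).hom :=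
    (pullback.fst f (Y.fromSpecStalk y)).stalkMap_surjective t
  have h3 := Groth.Agent.S4366.bijective_of_flat_local_surj
    ((pullback.fst f (Y.fromSpecStalk y)).stalkMap t).hom h1 h2
  exact (ConcreteCategory.isIso_iff_bijective _).mpr h3

end Groth.Agent.S4366
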