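import Groth.Statements.S4369

set_option autoImplicit false
universe u

namespace Groth.Agent.S4369

/-- Let φ : A' -> A be a ring homomorphism such that every f in A can be written f = h φ(f') with h
invertible in A (this holds in particular when φ is surjective). Then the associated continuous map
Spec A -> Spec A' is a homeomorphism onto its image. -/
theorem result
    {A' A : Type u} [CommRing A'] [CommRing A] (φ : A' →+* A)
    (h : ∀ f : A, ∃ (u : Aˣ) (f' : A'), f = (u : A) * φ f') :
    Topology.IsEmbedding (PrimeSpectrum.comap φ) := by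
  have hmem : ∀ (p : PrimeSpectrum A) (u : Aˣ) (f' : A'),
      (u : A) * φ f' ∈ p.asIdeal ↔ f' ∈ (PrimeSpectrum.comap φ p).asIdeal := by
    intro p u f'
    rw [PrimeSpectrum.comap_asIdeal, Ideal.mem_comap]
    constructor
    · intro hm
      have := p.asIdeal.mul_mem_left ((u⁻¹ : Aˣ) : A) hm
      rwa [← mul_assoc, Units.inv_mul, one_mul] at this
    · intro hm
      exact p.asIdeal.mul_mem_left _ hm
  refine ⟨⟨?_⟩, ?_⟩
  · apply le_antisymm
    · exact (PrimeSpectrum.continuous_comap φ).le_induced
    · have hA := (PrimeSpectrum.isTopologicalBasis_basic_opens (R := A)).eq_generateFrom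
      rw [hA]
      apply le_generateFrom
      rintro _ ⟨f, rfl⟩
      obtain ⟨u, f', rfl⟩ := h f
      rw [isOpen_induced_iff]
      refine ⟨PrimeSpectrum.basicOpen f', (PrimeSpectrum.basicOpen f').isOpen, ?_⟩
      ext p
      simp only [Set.mem_preimage, SetLike.mem_coe, PrimeSpectrum.mem_basicOpen]
      rw [not_iff_not]
      exact (hmem p u f').symm
  · intro p q hpq
    ext f
    obtain ⟨u, f', rfl⟩ := h f
    rw [hmem, hmem, hpq]

end Groth.Agent.S4369
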