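import Groth.Statements.S4370
import Mathlib.AlgebraicGeometry.IdealSheaf.Functorial

set_option autoImplicit false
universe u
open AlgebraicGeometry CategoryTheory

namespace Groth.Agent.S4370

open Scheme.IdealSheafData in
theorem nilradical_comap {X Y : Scheme.{u}} (f : X ⟶ Y) [IsOpenImmersion f] :
    Y.nilradical.comap f = X.nilradical := by
  ext U : 2
  rw [ideal_comap_of_isOpenImmersion]
  simp only [Scheme.nilradical, radical_ideal, ideal_bot, Pi.bot_apply]
  rw [Ideal.comap_radical]
  congr 1
  exact Ideal.comap_bot_of_injective _
    (ConcreteCategory.bijective_of_isIso (f.appIso U).inv).1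

/-- Let f : X -> Y be an open immersion and let g : X_red -> Y_red be the morphism of reduced schemes
induced by f, i.e. the morphism between the closed subschemes defined by the nilradicals whose
composite with the inclusion of Y_red in Y is the inclusion of X_red in X followed by f. Then g is
an open immersion. -/
theorem result
    {X Y : Scheme.{u}} (f : X ⟶ Y) [IsOpenImmersion f]
    (g : X.nilradical.subscheme ⟶ Y.nilradical.subscheme)
    (hg : g ≫ Y.nilradical.subschemeι = X.nilradical.subschemeι ≫ f) :
    IsOpenImmersion g := by
  have hpb : IsPullback X.nilradical.subschemeι g f Y.nilradical.subschemeι :=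
    isPullback_of_isClosedImmersion _ _ g f hg.symm (by
      rw [Scheme.IdealSheafData.ker_subschemeι, Scheme.IdealSheafData.ker_subschemeι,
        nilradical_comap])
  exact MorphismProperty.of_isPullback (P := @IsOpenImmersion) hpb inferInstance

end Groth.Agent.S4370
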