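import Groth.Statements.S4371
import Mathlib

set_option autoImplicit false
universe u
open RedSep

namespace Groth.Agent.S4371


open AlgebraicGeometry CategoryTheory Opposite TopologicalSpace

section Aux

noncomputable def rs (X : Scheme.{u}) {V W : X.Opens} (h : W ≤ V) : Γ(X, V) →+* Γ(X, W) :=
  (X.presheaf.map (homOfLE h).op).hom

lemma rs_rs (X : Scheme.{u}) {V W Z : X.Opens} (h1 : W ≤ V) (h2 : Z ≤ W) (s : Γ(X, V)) :
    rs X h2 (rs X h1 s) = rs X (h2.trans h1) s := by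
  unfold rs
  have : homOfLE (h2.trans h1) = homOfLE h2 ≫ homOfLE h1 := Subsingleton.elim _ _
  rw [this, op_comp, Functor.map_comp, CommRingCat.hom_comp, RingHom.comp_apply]

lemma rs_inj (X : Scheme.{u}) [IsIntegral X] {V W : X.Opens} (h : W ≤ V) (p : X) (hp : p ∈ W) :
    Function.Injective (rs X h) := by
  haveI : Nonempty W := ⟨⟨p, hp⟩⟩
  exact map_injective_of_isIntegral X (homOfLE h)

noncomputable abbrev RK (K : Type u) [Field K] : CommRingCat.{u} := CommRingCat.of (MvPolynomial (Fin 2) K)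
noncomputable abbrev XK (K : Type u) [Field K] : Scheme.{u} := Spec (RK K)

end Aux


open AlgebraicGeometry in
open CategoryTheory in
/-- Let K be a field and Y = Spec K[s, t] the affine plane over K. The open subset D(s) ∪ D(t) of Y, the
complement of the closed point s = t = 0, is not affine. -/
theorem result
    (K : Type u) [Field K] :
    ¬ IsAffineOpen (X := Spec (CommRingCat.of (MvPolynomial (Fin 2) K)))
      (PrimeSpectrum.basicOpen (MvPolynomial.X 0 : MvPolynomial (Fin 2) K) ⊔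
        PrimeSpectrum.basicOpen (MvPolynomial.X 1 : MvPolynomial (Fin 2) K)) := by
  intro hU0
  haveI : IsDomain (RK K) := inferInstanceAs (IsDomain (MvPolynomial (Fin 2) K))
  haveI : IsIntegral (XK K) := inferInstance
  obtain ⟨ψ, hψ⟩ : ∃ ψ : Γ(XK K, ⊤) →+* MvPolynomial (Fin 2) K,
      ψ = (Scheme.ΓSpecIso (RK K)).hom.hom := ⟨_, rfl⟩
  obtain ⟨φ, hφ⟩ : ∃ φ : MvPolynomial (Fin 2) K →+* Γ(XK K, ⊤),
      φ = (Scheme.ΓSpecIso (RK K)).inv.hom := ⟨_, rfl⟩
  have hψφ : ∀ p, ψ (φ p) = p := by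
    intro p; rw [hψ, hφ]; exact Iso.inv_hom_id_apply (Scheme.ΓSpecIso (RK K)) p
  have hφψ : ∀ s, φ (ψ s) = s := by
    intro s; rw [hψ, hφ]; exact Iso.hom_inv_id_apply (Scheme.ΓSpecIso (RK K)) s
  obtain ⟨x, hx⟩ : ∃ x : Γ(XK K, ⊤), x = φ (MvPolynomial.X 0) := ⟨_, rfl⟩
  obtain ⟨y, hy⟩ : ∃ y : Γ(XK K, ⊤), y = φ (MvPolynomial.X 1) := ⟨_, rfl⟩
  have hψx : ψ x = MvPolynomial.X 0 := by rw [hx, hψφ]
  have hψy : ψ y = MvPolynomial.X 1 := by rw [hy, hψφ]
  have hDx : (XK K).basicOpen x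
      = PrimeSpectrum.basicOpen (MvPolynomial.X 0 : MvPolynomial (Fin 2) K) := by
    rw [hx, hφ]; exact basicOpen_eq_of_affine (R := RK K) (MvPolynomial.X 0)
  have hDy : (XK K).basicOpen y
      = PrimeSpectrum.basicOpen (MvPolynomial.X 1 : MvPolynomial (Fin 2) K) := by
    rw [hy, hφ]; exact basicOpen_eq_of_affine (R := RK K) (MvPolynomial.X 1)
  have hU : IsAffineOpen ((XK K).basicOpen x ⊔ (XK K).basicOpen y) := by
    rw [hDx, hDy]; exact hU0
  clear hU0
  -- the generic point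
  obtain ⟨pt, hpt⟩ : ∃ pt : PrimeSpectrum (MvPolynomial (Fin 2) K), pt = ⟨⊥, Ideal.isPrime_bot⟩ :=
    ⟨_, rfl⟩
  have hgen : ∀ f : MvPolynomial (Fin 2) K, f ≠ 0 → pt ∈ PrimeSpectrum.basicOpen f := by
    intro f hf
    rw [PrimeSpectrum.mem_basicOpen, hpt]
    simpa [Ideal.mem_bot] using hf
  have hptx : (show (XK K) from pt) ∈ (XK K).basicOpen x := by
    rw [hDx]; exact hgen _ (MvPolynomial.X_ne_zero 0)
  have hpty : (show (XK K) from pt) ∈ (XK K).basicOpen y := by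
    rw [hDy]; exact hgen _ (MvPolynomial.X_ne_zero 1)
  have hptxy : (show (XK K) from pt) ∈ (XK K).basicOpen x ⊓ (XK K).basicOpen y := ⟨hptx, hpty⟩
  have hptU : (show (XK K) from pt) ∈ (XK K).basicOpen x ⊔ (XK K).basicOpen y :=
    (le_sup_left : (XK K).basicOpen x ≤ _) hptx
  obtain ⟨U, hUdef⟩ : ∃ U : (XK K).Opens, U = (XK K).basicOpen x ⊔ (XK K).basicOpen y := ⟨_, rfl⟩
  rw [← hUdef] at hU hptU
  have hxU : (XK K).basicOpen x ≤ U := hUdef ▸ le_sup_left
  have hyU : (XK K).basicOpen y ≤ U := hUdef ▸ le_sup_right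
  have hUle : U ≤ (XK K).basicOpen x ⊔ (XK K).basicOpen y := le_of_eq hUdef
  have hUT : U ≤ (⊤ : (XK K).Opens) := le_top
  have hρx : (XK K).basicOpen (rs (XK K) hUT x) = (XK K).basicOpen x :=
    (Scheme.basicOpen_res (XK K) x (homOfLE hUT).op).trans (inf_eq_right.mpr hxU)
  have hρy : (XK K).basicOpen (rs (XK K) hUT y) = (XK K).basicOpen y :=
    (Scheme.basicOpen_res (XK K) y (homOfLE hUT).op).trans (inf_eq_right.mpr hyU)
  -- Step 1: the restrictions of x and y generate the unit ideal of Γ(U)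
  have hspan : Ideal.span ({rs (XK K) hUT x, rs (XK K) hUT y} : Set Γ(XK K, U)) = ⊤ := by
    rw [← hU.self_le_iSup_basicOpen_iff]
    refine le_trans hUle (sup_le ?_ ?_)
    · exact hρx.ge.trans (le_iSup
        (fun f : ({rs (XK K) hUT x, rs (XK K) hUT y} : Set Γ(XK K, U)) =>
          (XK K).basicOpen (f : Γ(XK K, U))) ⟨rs (XK K) hUT x, Set.mem_insert _ _⟩)
    · exact hρy.ge.trans (le_iSup
        (fun f : ({rs (XK K) hUT x, rs (XK K) hUT y} : Set Γ(XK K, U)) =>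
          (XK K).basicOpen (f : Γ(XK K, U)))
        ⟨rs (XK K) hUT y, Set.mem_insert_of_mem _ (Set.mem_singleton _)⟩)
  obtain ⟨a, b, hab⟩ := Ideal.mem_span_pair.mp
    (show (1 : Γ(XK K, U)) ∈ Ideal.span {rs (XK K) hUT x, rs (XK K) hUT y} by
      rw [hspan]; exact Submodule.mem_top)
  -- Step 2: Hartogs
  have hndvd : ∀ m : ℕ, ¬ (MvPolynomial.X 0 : MvPolynomial (Fin 2) K) ∣ (MvPolynomial.X 1) ^ m := by
    intro m hd
    have h1 := (MvPolynomial.X_prime (R := K) (σ := Fin 2) (i := 0)).dvd_of_dvd_pow hd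
    obtain ⟨c, hc⟩ := h1
    have := congrArg (MvPolynomial.eval (fun i : Fin 2 => if i = 1 then (1 : K) else 0)) hc
    simp at this
  have hart : ∀ a : Γ(XK K, U), ∃ h : Γ(XK K, ⊤), rs (XK K) hUT h = a := by
    intro a
    obtain ⟨n, f, hf⟩ := IsLocalization.Away.surj x (rs (XK K) hxU a)
    obtain ⟨m, g, hg⟩ := IsLocalization.Away.surj y (rs (XK K) hyU a)
    have hxT : (XK K).basicOpen x ≤ (⊤ : (XK K).Opens) := le_top
    have hyT : (XK K).basicOpen y ≤ (⊤ : (XK K).Opens) := le_top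
    change rs (XK K) hxU a * (rs (XK K) hxT x) ^ n = rs (XK K) hxT f at hf
    change rs (XK K) hyU a * (rs (XK K) hyT y) ^ m = rs (XK K) hyT g at hg
    have hTT : (XK K).basicOpen x ⊓ (XK K).basicOpen y ≤ (⊤ : (XK K).Opens) := le_top
    have hTU : (XK K).basicOpen x ⊓ (XK K).basicOpen y ≤ U := inf_le_left.trans hxU
    have h1 := congrArg (rs (XK K) (inf_le_left : (XK K).basicOpen x ⊓ (XK K).basicOpen y ≤ _)) hf
    have h2 := congrArg (rs (XK K) (inf_le_right : (XK K).basicOpen x ⊓ (XK K).basicOpen y ≤ _)) hg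
    rw [map_mul, map_pow, rs_rs, rs_rs, rs_rs] at h1 h2
    have h1' : rs (XK K) hTU a * (rs (XK K) hTT x) ^ n = rs (XK K) hTT f := h1
    have h2' : rs (XK K) hTU a * (rs (XK K) hTT y) ^ m = rs (XK K) hTT g := h2
    have key : rs (XK K) hTT (f * y ^ m) = rs (XK K) hTT (g * x ^ n) := by
      rw [map_mul, map_pow, map_mul, map_pow, ← h1', ← h2']; ring
    have key2 : f * y ^ m = g * x ^ n := rs_inj (XK K) hTT _ hptxy key
    have key3 : ψ f * (MvPolynomial.X 1) ^ m = ψ g * (MvPolynomial.X 0) ^ n := by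
      have := congrArg ψ key2
      rwa [map_mul, map_pow, map_mul, map_pow, hψx, hψy] at this
    have hdiv : (MvPolynomial.X 0 : MvPolynomial (Fin 2) K) ^ n ∣ ψ f * (MvPolynomial.X 1) ^ m :=
      ⟨ψ g, by rw [key3]; ring⟩
    obtain ⟨h₀, hh₀⟩ := (MvPolynomial.X_prime (R := K) (σ := Fin 2) (i := 0)).pow_dvd_of_dvd_mul_right
      n (hndvd m) hdiv
    have hfx : f = x ^ n * φ h₀ := by
      rw [← hφψ f, hh₀, map_mul, map_pow, ← hx]
    refine ⟨φ h₀, ?_⟩
    have hu : IsUnit (rs (XK K) hxT x) :=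
      IsLocalization.Away.algebraMap_isUnit (S := Γ(XK K, (XK K).basicOpen x)) x
    have hcancel : rs (XK K) hxU a = rs (XK K) hxT (φ h₀) := by
      apply (hu.pow n).mul_left_injective
      show rs (XK K) hxU a * (rs (XK K) hxT x) ^ n = rs (XK K) hxT (φ h₀) * (rs (XK K) hxT x) ^ n
      rw [hf, hfx, map_mul, map_pow, mul_comm]
    have h3 : rs (XK K) hxU (rs (XK K) hUT (φ h₀)) = rs (XK K) hxT (φ h₀) := rs_rs (XK K) hUT hxU _
    exact rs_inj (XK K) hxU _ hptx (h3.trans hcancel.symm)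
  -- Step 3: contradiction
  obtain ⟨a', rfl⟩ := hart a
  obtain ⟨b', rfl⟩ := hart b
  have h4 : rs (XK K) hUT (a' * x + b' * y) = rs (XK K) hUT 1 := by
    rw [map_add, map_mul, map_mul, map_one]; exact hab
  have h5 : a' * x + b' * y = 1 := rs_inj (XK K) hUT _ hptU h4
  have h6 := congrArg ψ h5
  rw [map_add, map_mul, map_mul, map_one, hψx, hψy] at h6
  have h7 := congrArg (MvPolynomial.eval (fun _ : Fin 2 => (0 : K))) h6
  simp at h7

end Groth.Agent.S4371
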