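import Groth.Statements.S4372
import Groth.Agent.S2285
import Mathlib

set_option autoImplicit false
universe u
open RedSep

namespace Groth.Agent.S4372

open AlgebraicGeometry in
open CategoryTheory in
/-- Let h : Z -> X be an immersion with Z reduced (a reduced subscheme of X), and let W be the reduced
closed subscheme of X whose underlying space is the closure of h(Z). Then Z is an open subscheme of
W: h factors as an open immersion Z -> W followed by the closed immersion W -> X. Stated as the
existence of such a factorization through a reduced scheme W closed-immersed onto the closure of the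
image. -/
theorem result
    {Z X : Scheme.{u}} (h : Z ⟶ X) [IsImmersion h] [IsReduced Z] :
    ∃ (W : Scheme.{u}) (j : Z ⟶ W) (i : W ⟶ X), IsOpenImmersion j ∧ IsClosedImmersion i ∧
      IsReduced W ∧ Set.range i = closure (Set.range h) ∧ j ≫ i = h := by
  let C : TopologicalSpace.Closeds X := ⟨closure (Set.range h), isClosed_closure⟩
  let I : X.IdealSheafData := Scheme.IdealSheafData.vanishingIdeal C
  have hri : Set.range I.subschemeι = closure (Set.range h) := by
    rw [I.range_subschemeι, Scheme.IdealSheafData.coe_support_vanishingIdeal]
    rfl
  haveI : IsReduced I.subscheme := Groth.Agent.S2285.isReduced_vanishing C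
  let U : X.Opens := h.coborderRange
  let V : I.subscheme.Opens := I.subschemeι ⁻¹ᵁ U
  have hrV : Set.range (V.ι ≫ I.subschemeι) = Set.range h := by
    ext x
    constructor
    · rintro ⟨v, rfl⟩
      rw [Scheme.Hom.comp_apply]
      have hv : V.ι v ∈ (V : Set I.subscheme) := by
        have : V.ι v ∈ Set.range V.ι := ⟨v, rfl⟩
        rwa [Scheme.Opens.range_ι] at this
      have h1 : I.subschemeι (V.ι v) ∈ coborder (Set.range h) := hv
      have h2 : I.subschemeι (V.ι v) ∈ closure (Set.range h) := hri ▸ ⟨_, rfl⟩
      exact (coborder_inter_closure (s := Set.range h)).subset ⟨h1, h2⟩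
    · intro hx
      have h2 : x ∈ Set.range I.subschemeι := by
        rw [hri]
        exact subset_closure hx
      obtain ⟨w, rfl⟩ := h2
      have hw : w ∈ (V : Set I.subscheme) := subset_coborder hx
      have : w ∈ Set.range V.ι := by
        rw [Scheme.Opens.range_ι]
        exact hw
      obtain ⟨v, rfl⟩ := this
      exact ⟨v, Scheme.Hom.comp_apply _ _ _⟩
  obtain ⟨e, he⟩ := (Groth.Agent.S2285.result X (Set.range h) h.isLocallyClosed_range).2 Z V h
    (V.ι ≫ I.subschemeι) inferInstance inferInstance inferInstance inferInstance rfl hrV
  refine ⟨I.subscheme, e.hom ≫ V.ι, I.subschemeι, inferInstance, inferInstance, inferInstance,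
    hri, ?_⟩
  rw [Category.assoc, he]

end Groth.Agent.S4372
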