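import Mathlib
import Groth.Statements.S4378
import Groth.Agent.Lib.Helper9.UnivClosedGeo
-- import your own Groth.Agent.* helpers here

set_option autoImplicit false
universe u
open CategoryTheory CategoryTheory.Limits AlgebraicGeometry
open EGA2

namespace Groth.Agent.S4378


/-- Let q : Y → S be separated and of finite type, and f : X → Y a morphism such that X is also
separated and of finite type over S through f ≫ q. Then f is proper if and only if for every scheme
S' over S the morphism X ×_S S' → Y ×_S S' induced by f is closed (as a map of topological spaces). -/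
theorem result {X Y S : Scheme.{u}} (q : Y ⟶ S) (f : X ⟶ Y)
    [IsSeparated q] [LocallyOfFiniteType q] [QuasiCompact q]
    [IsSeparated (f ≫ q)] [LocallyOfFiniteType (f ≫ q)] [QuasiCompact (f ≫ q)] :
    IsProper f ↔ ∀ (S' : Scheme.{u}) (g : S' ⟶ S),
      IsClosedMap (pullback.map (f ≫ q) g q g f (𝟙 S') (𝟙 S) (Category.comp_id (f ≫ q))
        ((Category.comp_id g).trans (Category.id_comp g).symm)).base := by
  have hsq : ∀ (S' : Scheme.{u}) (g : S' ⟶ S), IsPullback
      (pullback.map (f ≫ q) g q g f (𝟙 S') (𝟙 S) (Category.comp_id (f ≫ q))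
        ((Category.comp_id g).trans (Category.id_comp g).symm))
      (pullback.fst (f ≫ q) g) (pullback.fst q g) f := by
    intro S' g
    refine IsPullback.of_right (h₁₂ := pullback.snd q g) (h₂₂ := q) (v₁₃ := g) ?_ ?_
      (IsPullback.of_hasPullback q g).flip
    · have e : pullback.map (f ≫ q) g q g f (𝟙 S') (𝟙 S) (Category.comp_id (f ≫ q))
          ((Category.comp_id g).trans (Category.id_comp g).symm) ≫ pullback.snd q g =
          pullback.snd (f ≫ q) g := (pullback.lift_snd _ _ _).trans (Category.comp_id _)
      rw [e]
      exact (IsPullback.of_hasPullback (f ≫ q) g).flip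
    · exact pullback.lift_fst _ _ _
  constructor
  · intro hf S' g
    have : UniversallyClosed (pullback.map (f ≫ q) g q g f (𝟙 S') (𝟙 S)
        (Category.comp_id (f ≫ q)) ((Category.comp_id g).trans (Category.id_comp g).symm)) :=
      MorphismProperty.of_isPullback (P := @UniversallyClosed) (hsq S' g).flip inferInstance
    exact Scheme.Hom.isClosedMap _
  · intro H
    haveI : IsSeparated f := IsSeparated.of_comp f q
    haveI : LocallyOfFiniteType f := locallyOfFiniteType_of_comp f q
    haveI : QuasiCompact f := QuasiCompact.of_comp f q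
    haveI : UniversallyClosed f := by
      apply Groth.Agent.Helper9.UnivClosedGeo.universallyClosed_of_Hc
      intro n
      have h1 := H (𝔸(ULift.{u} (Fin n); S)) (𝔸(ULift.{u} (Fin n); S) ↘ S)
      set pm := pullback.map (f ≫ q) (𝔸(ULift.{u} (Fin n); S) ↘ S) q (𝔸(ULift.{u} (Fin n); S) ↘ S)
        f (𝟙 _) (𝟙 S) (Category.comp_id (f ≫ q))
        ((Category.comp_id _).trans (Category.id_comp _).symm) with hpm
      let sqX := (AffineSpace.isPullback_map (n := ULift.{u} (Fin n)) (f ≫ q)).flip
      let sqY := (AffineSpace.isPullback_map (n := ULift.{u} (Fin n)) q).flip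
      have e : AffineSpace.map (ULift.{u} (Fin n)) f =
          sqX.isoPullback.hom ≫ pm ≫ sqY.isoPullback.inv := by
        rw [← Category.assoc, Iso.eq_comp_inv]
        apply pullback.hom_ext
        · rw [Category.assoc, Category.assoc, IsPullback.isoPullback_hom_fst, hpm,
            pullback.lift_fst, ← Category.assoc, IsPullback.isoPullback_hom_fst,
            AffineSpace.map_over]
        · rw [Category.assoc, Category.assoc, IsPullback.isoPullback_hom_snd, hpm,
            pullback.lift_snd, ← Category.assoc, IsPullback.isoPullback_hom_snd,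
            Category.comp_id, ← AffineSpace.map_comp]
      rw [e]
      exact Groth.Agent.Helper9.UnivClosedGeo.isClosedMap_comp _ _
        (Groth.Agent.Helper9.UnivClosedGeo.isClosedMap_of_isIso _)
        (Groth.Agent.Helper9.UnivClosedGeo.isClosedMap_comp _ _ h1
          (Groth.Agent.Helper9.UnivClosedGeo.isClosedMap_of_isIso _))
    exact ⟨⟩

end Groth.Agent.S4378
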