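import Groth.Statements.S4392
import Groth.Agent.Helper1.GradedMono

set_option autoImplicit false
universe u
open EGA2

namespace Groth.Agent.S4392

open Groth.Agent.Helper1.GradedMono

/-- Let S be a ring graded in nonnegative degrees which is an S_0-algebra of finite type, and M a
finitely generated graded S-module, graded in nonnegative degrees. Then there exist an integer n₁
and an integer h > 0 such that M_{n+h} = S_h M_n for every n ≥ n₁. (The published statement allows M
graded in all integer degrees; this row takes M graded in nonnegative degrees.) -/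
theorem result {R A : Type u} [CommRing R] [CommRing A] [Algebra R A] (𝒜 : ℕ → Submodule R A) [GradedAlgebra 𝒜] [Algebra.FiniteType (𝒜 0) A]
    {M : Type u} [AddCommGroup M] [Module R M] [Module A M] [IsScalarTower R A M] (ℳ : ℕ → Submodule R M) [DirectSum.Decomposition ℳ] [SetLike.GradedSMul 𝒜 ℳ] [Module.Finite A M] :
    ∃ (n₁ h : ℕ), 0 < h ∧ ∀ n : ℕ, n₁ ≤ n → ℳ (n + h) = (𝒜 h : Submodule R A) • (ℳ n : Submodule R M) := by
  classical
  -- homogeneous algebra generators
  obtain ⟨s, hs, hs'⟩ := GradedAlgebra.exists_finset_adjoin_eq_top_and_homogeneous_ne_zero 𝒜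
  let f : s → A := Subtype.val
  have hrange : Set.range f = (s : Set A) := Subtype.range_coe
  have hadj : Algebra.adjoin (𝒜 0) (Set.range f) = ⊤ := by rw [hrange]; exact hs
  choose d hd0 hd using fun i : s => hs' i.1 i.2
  have hf : ∀ i, f i ∈ 𝒜 (d i) := hd
  have hdpos : ∀ i, 0 < d i := fun i => Nat.pos_of_ne_zero (hd0 i)
  -- homogeneous module generators
  obtain ⟨G, hG, hspan⟩ := exists_finset_homogeneous_span_eq_top (A := A) ℳ
  choose! e he using hG
  let q : ℕ := ∏ i, d i
  have hq : 0 < q := Finset.prod_pos fun i _ => hdpos i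
  let r : ℕ := Fintype.card s
  let E : ℕ := ∑ g ∈ G, e g
  have heE : ∀ g ∈ G, e g ≤ E := fun g hg =>
    Finset.single_le_sum (f := e) (fun j _ => Nat.zero_le _) hg
  refine ⟨r * q + E, q, hq, fun n hn => le_antisymm ?_ ?_⟩
  · -- the nontrivial inclusion
    intro x hx
    refine module_homogeneous_induction 𝒜 ℳ G e he hspan
      (P := fun y => y ∈ (𝒜 q : Submodule R A) • (ℳ n : Submodule R M))
      (Submodule.zero_mem _) (fun x y hx hy => Submodule.add_mem _ hx hy) (n + q) ?_ x hx
    intro g hg k a ha hk
    have hkge : r * q + q ≤ k := by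
      have := heE g hg
      omega
    refine homogeneous_induction 𝒜 hf hadj
      (P := fun a => a • g ∈ (𝒜 q : Submodule R A) • (ℳ n : Submodule R M)) k ?_ ?_ ?_ a ha
    · rw [zero_smul]; exact Submodule.zero_mem _
    · intro x y hx hy
      rw [add_smul]; exact Submodule.add_mem _ hx hy
    · intro c hc α hα
      -- some exponent is large
      have hex : ∃ i, q ≤ α i * d i := by
        by_contra hcon
        have hcon' : ∀ i, α i * d i ≤ q - 1 := fun i => by
          have := not_le.1 (not_exists.1 hcon i)
          omega
        have : wdeg d α ≤ r * (q - 1) := by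
          calc wdeg d α = ∑ i, α i * d i := rfl
            _ ≤ ∑ _i : s, (q - 1) := Finset.sum_le_sum fun i _ => hcon' i
            _ = r * (q - 1) := by simp [r]
        have h2 : r * (q - 1) ≤ r * q := Nat.mul_le_mul_left _ (Nat.sub_le _ _)
        omega
      obtain ⟨i, hi⟩ := hex
      obtain ⟨qi, hqi⟩ : d i ∣ q := Finset.dvd_prod_of_mem d (Finset.mem_univ i)
      have hqiα : qi ≤ α i := by
        rw [hqi, mul_comm (α i)] at hi
        exact Nat.le_of_mul_le_mul_left hi (hdpos i)
      have hα' : α - Finsupp.single i qi + Finsupp.single i qi = α :=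
        tsub_add_cancel_of_le (Finsupp.single_le_iff.2 hqiα)
      set α' := α - Finsupp.single i qi with hα'def
      have hmon : mon f α = f i ^ qi * mon f α' := by
        rw [← hα', mon_add, mon_single, mul_comm]
      have hwdeg : wdeg d α = wdeg d α' + q := by
        rw [← hα', wdeg_add, wdeg_single, hqi, mul_comm qi]
      have hfi : f i ^ qi ∈ 𝒜 q := by
        have := SetLike.pow_mem_graded (A := 𝒜) qi (hf i)
        rw [smul_eq_mul, mul_comm, ← hqi] at this
        exact this
      have hrest : (c * mon f α') • g ∈ ℳ n := by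
        have h1 := smul_mem_graded 𝒜 ℳ (smul_mon_mem 𝒜 hf hc α') (he g hg)
        have h2 : wdeg d α' + e g = n := by omega
        rwa [h2] at h1
      have heq : (c * mon f α) • g = (f i ^ qi) • ((c * mon f α') • g) := by
        rw [hmon, ← mul_smul]
        congr 1
        ring
      rw [heq]
      exact Submodule.smul_mem_smul hfi hrest
  · rw [Submodule.smul_le]
    intro a ha m hm
    have := smul_mem_graded 𝒜 ℳ ha hm
    rwa [add_comm] at this

end Groth.Agent.S4392
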