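import Groth.Statements.S4393
import Groth.Agent.S4392

set_option autoImplicit false
universe u
open EGA2

namespace Groth.Agent.S4393

/-- Let S be a ring graded in nonnegative degrees which is an S_0-algebra of finite type. Then there is
an integer h > 0 such that S_{mh} = (S_h)^m (the S_0-submodule spanned by m-fold products of
elements of S_h) for every m > 0. -/
theorem result {R A : Type u} [CommRing R] [CommRing A] [Algebra R A] (𝒜 : ℕ → Submodule R A) [GradedAlgebra 𝒜] [Algebra.FiniteType (𝒜 0) A] :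
    ∃ h : ℕ, 0 < h ∧ ∀ m : ℕ, 0 < m → 𝒜 (m * h) = (𝒜 h : Submodule R A) ^ m := by
  obtain ⟨n₁, q, hq, hstep⟩ := Groth.Agent.S4392.result 𝒜 (M := A) 𝒜
  -- graded multiplication
  have hmul : ∀ i j : ℕ, (𝒜 i : Submodule R A) * 𝒜 j ≤ 𝒜 (i + j) := by
    intro i j
    rw [Submodule.mul_le]
    intro a ha b hb
    exact SetLike.mul_mem_graded ha hb
  have hstep' : ∀ n : ℕ, n₁ ≤ n → 𝒜 (n + q) = (𝒜 q : Submodule R A) * 𝒜 n := by
    intro n hn
    rw [hstep n hn]
    apply le_antisymm
    · rw [Submodule.smul_le]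
      intro a ha b hb
      rw [smul_eq_mul]
      exact Submodule.mul_mem_mul ha hb
    · rw [Submodule.mul_le]
      intro a ha b hb
      rw [← smul_eq_mul]
      exact Submodule.smul_mem_smul ha hb
  -- iterate: `𝒜 (n + k q) ≤ 𝒜 (k q) * 𝒜 n`
  have hiter : ∀ k n : ℕ, n₁ ≤ n → 𝒜 (n + k * q) ≤ (𝒜 (k * q) : Submodule R A) * 𝒜 n := by
    intro k
    induction k with
    | zero =>
      intro n _
      rw [zero_mul, add_zero]
      intro x hx
      have h1 : (1 : A) ∈ 𝒜 0 := SetLike.one_mem_graded 𝒜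
      have := Submodule.mul_mem_mul h1 hx
      rwa [one_mul] at this
    | succ k ih =>
      intro n hn
      have e1 : n + (k + 1) * q = (n + k * q) + q := by ring
      rw [e1, hstep' (n + k * q) (by omega)]
      calc (𝒜 q : Submodule R A) * 𝒜 (n + k * q)
          ≤ 𝒜 q * (𝒜 (k * q) * 𝒜 n) := mul_le_mul' le_rfl (ih n hn)
        _ = (𝒜 q * 𝒜 (k * q)) * 𝒜 n := (mul_assoc _ _ _).symm
        _ ≤ 𝒜 ((k + 1) * q) * 𝒜 n := by
            refine mul_le_mul' ?_ le_rfl
            have := hmul q (k * q)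
            have e2 : q + k * q = (k + 1) * q := by ring
            rwa [e2] at this
  let h : ℕ := (n₁ + 1) * q
  have hh : 0 < h := Nat.mul_pos (Nat.succ_pos _) hq
  have hn₁h : n₁ ≤ h := by
    have : n₁ + 1 ≤ (n₁ + 1) * q := Nat.le_mul_of_pos_right _ hq
    omega
  have hH : ∀ n : ℕ, n₁ ≤ n → 𝒜 (n + h) = (𝒜 h : Submodule R A) * 𝒜 n := by
    intro n hn
    apply le_antisymm
    · exact hiter (n₁ + 1) n hn
    · have := hmul h n
      rwa [add_comm] at this
  refine ⟨h, hh, fun m hm => ?_⟩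
  induction m with
  | zero => exact absurd hm (lt_irrefl 0)
  | succ m ih =>
    rcases Nat.eq_zero_or_pos m with rfl | hmpos
    · simp
    · have e1 : (m + 1) * h = m * h + h := by ring
      have hge : n₁ ≤ m * h := by
        have : h ≤ m * h := Nat.le_mul_of_pos_left _ hmpos
        omega
      rw [e1, hH (m * h) hge, ih hmpos, pow_succ']

end Groth.Agent.S4393
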