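import Groth.Statements.S4394
import Groth.Agent.Helper1.GradedMono

set_option autoImplicit false
universe u
open EGA2

namespace Groth.Agent.S4394

open Groth.Agent.Helper1.GradedMono

/-- Let S be a ring graded in nonnegative degrees which is an S_0-algebra of finite type. Then for every
integer n > 0 there is m₀ such that S_m ⊆ (S_+)^n for all m ≥ m₀. -/
theorem result {R A : Type u} [CommRing R] [CommRing A] [Algebra R A] (𝒜 : ℕ → Submodule R A) [GradedAlgebra 𝒜] [Algebra.FiniteType (𝒜 0) A]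
    (n : ℕ) (hn : 0 < n) :
    ∃ m₀ : ℕ, ∀ m : ℕ, m₀ ≤ m → (𝒜 m : Set A) ⊆ ((HomogeneousIdeal.irrelevant 𝒜).toIdeal ^ n : Ideal A) := by
  classical
  obtain ⟨s, hs, hs'⟩ := GradedAlgebra.exists_finset_adjoin_eq_top_and_homogeneous_ne_zero 𝒜
  let f : s → A := Subtype.val
  have hrange : Set.range f = (s : Set A) := Subtype.range_coe
  have hadj : Algebra.adjoin (𝒜 0) (Set.range f) = ⊤ := by rw [hrange]; exact hs
  choose d hd0 hd using fun i : s => hs' i.1 i.2
  have hf : ∀ i, f i ∈ 𝒜 (d i) := hd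
  have hfirr : ∀ i, f i ∈ (HomogeneousIdeal.irrelevant 𝒜).toIdeal := fun i =>
    HomogeneousIdeal.mem_irrelevant_of_mem 𝒜 (Nat.pos_of_ne_zero (hd0 i)) (hf i)
  let D : ℕ := ∑ i, d i
  refine ⟨n * D + 1, fun m hm x hx => ?_⟩
  refine homogeneous_induction 𝒜 hf hadj (P := fun x =>
    x ∈ ((HomogeneousIdeal.irrelevant 𝒜).toIdeal ^ n : Ideal A)) m (Ideal.zero_mem _)
    (fun x y hx hy => Ideal.add_mem _ hx hy) ?_ x hx
  intro c _ α hα
  apply Ideal.mul_mem_left
  -- total degree of `α`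
  have hle : m ≤ (∑ i, α i) * D := by
    rw [← hα, wdeg, Finset.sum_mul]
    refine Finset.sum_le_sum fun i _ => Nat.mul_le_mul_left _ ?_
    exact Finset.single_le_sum (f := d) (fun j _ => Nat.zero_le _) (Finset.mem_univ i)
  have hnα : n ≤ ∑ i, α i := by
    by_contra hlt
    replace hlt := Nat.lt_of_not_le hlt
    have : (∑ i, α i) * D ≤ n * D := Nat.mul_le_mul_right _ hlt.le
    omega
  have hmem : mon f α ∈ (HomogeneousIdeal.irrelevant 𝒜).toIdeal ^ (∑ i, α i) := by
    rw [← Finset.prod_pow_eq_pow_sum]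
    exact Ideal.prod_mem_prod fun i _ => Ideal.pow_mem_pow (hfirr i) _
  exact Ideal.pow_le_pow_right hnα hmem

end Groth.Agent.S4394
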