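import Groth.Statements.S4395
import Mathlib.RingTheory.GradedAlgebra.Radical
import Mathlib.Tactic.Ring
import Mathlib.Tactic.Abel

set_option autoImplicit false
universe u
open EGA2

namespace Groth.Agent.S4395

open DirectSum

section aux

variable {R A : Type u} [CommRing R] [CommRing A] [Algebra R A] (𝒜 : ℕ → Submodule R A)
  [GradedAlgebra 𝒜]

/-- A homogeneous ideal not containing the irrelevant ideal omits a homogeneous element of positive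
degree. -/
theorem exists_homogeneous_not_mem (𝔭 : HomogeneousIdeal 𝒜)
    (h : ¬ HomogeneousIdeal.irrelevant 𝒜 ≤ 𝔭) :
    ∃ (e : ℕ) (f : A), 0 < e ∧ f ∈ 𝒜 e ∧ f ∉ 𝔭.toIdeal := by
  classical
  rw [SetLike.not_le_iff_exists] at h
  obtain ⟨x, hx, hx𝔭⟩ := h
  by_contra hcon
  apply hx𝔭
  have hall : ∀ m, ((decompose 𝒜 x m : 𝒜 m) : A) ∈ 𝔭.toIdeal := by
    intro m
    rcases Nat.eq_zero_or_pos m with rfl | hm
    · have : GradedRing.proj 𝒜 0 x = 0 := (HomogeneousIdeal.mem_irrelevant_iff 𝒜 x).1 hx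
      rw [GradedRing.proj_apply] at this
      rw [this]
      exact Ideal.zero_mem _
    · by_contra hm'
      exact hcon ⟨m, _, hm, (decompose 𝒜 x m).2, hm'⟩
  have : x ∈ 𝔭.toIdeal := by
    rw [← sum_support_decompose 𝒜 x]
    exact Ideal.sum_mem _ fun m _ => hall m
  exact this

/-- Two homogeneous ideals with the same homogeneous elements are equal. -/
theorem homogeneousIdeal_le_of_homogeneous (𝔭 𝔮 : HomogeneousIdeal 𝒜)
    (h : ∀ m, ∀ x ∈ 𝒜 m, x ∈ 𝔭.toIdeal → x ∈ 𝔮.toIdeal) : 𝔭 ≤ 𝔮 := by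
  classical
  intro x hx
  have hx' : x ∈ 𝔭.toIdeal := hx
  change x ∈ 𝔮.toIdeal
  rw [← sum_support_decompose 𝒜 x]
  refine Ideal.sum_mem _ fun m _ => h m _ (decompose 𝒜 x m).2 ?_
  exact 𝔭.isHomogeneous m hx'

end aux

/-- Let S be a ring graded in nonnegative degrees, n₀ > 0 an integer and, for every n ≥ n₀, p_n an
additive subgroup of S_n. Then there is a graded prime ideal p of S not containing S_+ with p ∩ S_n
= p_n for all n ≥ n₀ if and only if: (1) S_m p_n ⊆ p_{m+n} for all m ≥ 0 and n ≥ n₀; (2) for m ≥ n₀,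
n ≥ n₀, f ∈ S_m, g ∈ S_n, fg ∈ p_{m+n} implies f ∈ p_m or g ∈ p_n; (3) p_n ≠ S_n for at least one n
≥ n₀. Moreover such a graded prime ideal is unique. -/
theorem result {R A : Type u} [CommRing R] [CommRing A] [Algebra R A] (𝒜 : ℕ → Submodule R A) [GradedAlgebra 𝒜]
    (n₀ : ℕ) (hn₀ : 0 < n₀) (p : ℕ → AddSubgroup A) (hp : ∀ n : ℕ, n₀ ≤ n → (p n : Set A) ⊆ 𝒜 n) :
    ((∃ 𝔭 : HomogeneousIdeal 𝒜, 𝔭.toIdeal.IsPrime ∧ ¬ HomogeneousIdeal.irrelevant 𝒜 ≤ 𝔭 ∧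
        ∀ n : ℕ, n₀ ≤ n → (𝔭.toIdeal : Set A) ∩ 𝒜 n = p n) ↔
      ((∀ m n : ℕ, n₀ ≤ n → ∀ a ∈ 𝒜 m, ∀ b ∈ p n, a * b ∈ p (m + n)) ∧
        (∀ m n : ℕ, n₀ ≤ m → n₀ ≤ n → ∀ f ∈ 𝒜 m, ∀ g ∈ 𝒜 n, f * g ∈ p (m + n) → f ∈ p m ∨ g ∈ p n) ∧
        ∃ n : ℕ, n₀ ≤ n ∧ (p n : Set A) ≠ 𝒜 n)) ∧
    ∀ 𝔭 𝔮 : HomogeneousIdeal 𝒜, 𝔭.toIdeal.IsPrime → 𝔮.toIdeal.IsPrime →
      ¬ HomogeneousIdeal.irrelevant 𝒜 ≤ 𝔭 → ¬ HomogeneousIdeal.irrelevant 𝒜 ≤ 𝔮 →
      (∀ n : ℕ, n₀ ≤ n → (𝔭.toIdeal : Set A) ∩ 𝒜 n = p n) → (∀ n : ℕ, n₀ ≤ n → (𝔮.toIdeal : Set A) ∩ 𝒜 n = p n) →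
      𝔭 = 𝔮 := by
  classical
  -- membership reformulation of the tail condition
  have tail : ∀ (𝔭 : HomogeneousIdeal 𝒜), (∀ n : ℕ, n₀ ≤ n → (𝔭.toIdeal : Set A) ∩ 𝒜 n = p n) →
      ∀ n, n₀ ≤ n → ∀ x, x ∈ p n ↔ (x ∈ 𝔭.toIdeal ∧ x ∈ 𝒜 n) := by
    intro 𝔭 h n hn x
    have := Set.ext_iff.1 (h n hn) x
    exact this.symm
  refine ⟨⟨?_, ?_⟩, ?_⟩
  · -- necessity
    rintro ⟨𝔭, hprime, hirr, htail⟩
    have ht := tail 𝔭 htail
    refine ⟨?_, ?_, ?_⟩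
    · intro m n hn a ha b hb
      obtain ⟨hb𝔭, hbn⟩ := (ht n hn b).1 hb
      exact (ht (m + n) (by omega) _).2 ⟨Ideal.mul_mem_left _ _ hb𝔭, SetLike.mul_mem_graded ha hbn⟩
    · intro m n hm hn f hf g hg hfg
      obtain ⟨hfg𝔭, -⟩ := (ht (m + n) (by omega) _).1 hfg
      rcases hprime.mem_or_mem hfg𝔭 with h | h
      · exact Or.inl ((ht m hm f).2 ⟨h, hf⟩)
      · exact Or.inr ((ht n hn g).2 ⟨h, hg⟩)
    · obtain ⟨e, f, he, hfe, hf𝔭⟩ := exists_homogeneous_not_mem 𝒜 𝔭 hirr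
      refine ⟨n₀ * e, Nat.le_mul_of_pos_right _ he, ?_⟩
      intro heq
      have hmem : f ^ n₀ ∈ 𝒜 (n₀ * e) := by
        have := SetLike.pow_mem_graded (A := 𝒜) n₀ hfe
        simpa using this
      have : f ^ n₀ ∈ (p (n₀ * e) : Set A) := by rw [heq]; exact hmem
      have h1 := ((ht (n₀ * e) (Nat.le_mul_of_pos_right _ he) _).1 this).1
      exact hf𝔭 (hprime.mem_of_pow_mem _ h1)
  · -- sufficiency
    rintro ⟨h1, h2, n₁, hn₁, hne⟩
    -- an element `F ∈ 𝒜 n₁ \ p n₁`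
    have hsub := hp n₁ hn₁
    obtain ⟨F, hF, hFp⟩ : ∃ F, F ∈ 𝒜 n₁ ∧ F ∉ p n₁ := by
      by_contra hcon
      apply hne
      apply Set.Subset.antisymm hsub
      intro x hx
      by_contra hx'
      exact hcon ⟨x, hx, hx'⟩
    set d := n₁ with hd
    have hdn₀ : n₀ ≤ d := hn₁
    have hdpos : 0 < d := lt_of_lt_of_le hn₀ hdn₀
    -- for `m ≥ n₀`: `x ∈ p m ↔ x ∈ 𝒜 m ∧ F x ∈ p (m + d)`
    have hchar : ∀ m, n₀ ≤ m → ∀ x, x ∈ p m ↔ (x ∈ 𝒜 m ∧ F * x ∈ p (m + d)) := by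
      intro m hm x
      constructor
      · intro hx
        refine ⟨hp m hm hx, ?_⟩
        have := h1 d m hm F hF x hx
        rwa [add_comm] at this
      · rintro ⟨hxm, hFx⟩
        rw [add_comm] at hFx
        rcases h2 d m hdn₀ hm F hF x hxm hFx with h | h
        · exact absurd h hFp
        · exact h
    let T : Set A := {x | ∃ m, x ∈ 𝒜 m ∧ F * x ∈ p (m + d)}
    let I : Ideal A := Ideal.span T
    have hIhom : I.IsHomogeneous 𝒜 := Ideal.homogeneous_span 𝒜 T (by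
      rintro x ⟨m, hx, -⟩
      exact ⟨m, hx⟩)
    -- key: components of elements of `I`
    have key : ∀ x ∈ I, ∀ m, F * ((decompose 𝒜 x m : 𝒜 m) : A) ∈ p (m + d) := by
      intro x hx m
      refine Submodule.closure_induction (p := fun y _ =>
        F * ((decompose 𝒜 y m : 𝒜 m) : A) ∈ p (m + d)) ?_ ?_ ?_ hx
      · rw [decompose_zero]
        simp
      · intro y z _ _ hy hz
        rw [decompose_add, add_apply, Submodule.coe_add, mul_add]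
        exact (p (m + d)).add_mem hy hz
      · rintro r t ⟨k, htk, hFt⟩
        rw [smul_eq_mul]
        by_cases hkm : k ≤ m
        · rw [coe_decompose_mul_of_right_mem_of_le 𝒜 htk hkm]
          have := h1 (m - k) (k + d) (by omega) _ (decompose 𝒜 r (m - k)).2 _ hFt
          have e1 : m - k + (k + d) = m + d := by omega
          rw [e1] at this
          have e2 : F * (((decompose 𝒜 r (m - k) : 𝒜 (m - k)) : A) * t) =
              ((decompose 𝒜 r (m - k) : 𝒜 (m - k)) : A) * (F * t) := by ring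
          rw [e2]
          exact this
        · rw [coe_decompose_mul_of_right_mem_of_not_le 𝒜 htk hkm, mul_zero]
          exact (p (m + d)).zero_mem
    have hImem : ∀ m, ∀ x ∈ 𝒜 m, (x ∈ I ↔ F * x ∈ p (m + d)) := by
      intro m x hxm
      constructor
      · intro hx
        have := key x hx m
        rwa [decompose_of_mem_same 𝒜 hxm] at this
      · intro hFx
        exact Ideal.subset_span ⟨m, hxm, hFx⟩
    have hF_notin : F ∉ I := by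
      intro hFI
      have h := (hImem d F hF).1 hFI
      exact hFp ((hchar d hdn₀ F).2 ⟨hF, h⟩)
    have hItop : I ≠ ⊤ := by
      intro htop
      exact hF_notin (htop ▸ Submodule.mem_top)
    have hIprime : I.IsPrime := by
      refine hIhom.isPrime_of_homogeneous_mem_or_mem hItop ?_
      rintro x y ⟨m, hxm⟩ ⟨k, hyk⟩ hxy
      have hxy' : F * (x * y) ∈ p (m + k + d) :=
        (hImem (m + k) (x * y) (SetLike.mul_mem_graded hxm hyk)).1 hxy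
      have hFF : F * (F * (x * y)) ∈ p (d + (m + k + d)) :=
        h1 d (m + k + d) (by omega) F hF _ hxy'
      have hFx : F * x ∈ 𝒜 (d + m) := SetLike.mul_mem_graded hF hxm
      have hFy : F * y ∈ 𝒜 (d + k) := SetLike.mul_mem_graded hF hyk
      have e1 : (F * x) * (F * y) = F * (F * (x * y)) := by ring
      have e2 : d + m + (d + k) = d + (m + k + d) := by omega
      have hprod : (F * x) * (F * y) ∈ p (d + m + (d + k)) := by rw [e1, e2]; exact hFF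
      rcases h2 (d + m) (d + k) (by omega) (by omega) _ hFx _ hFy hprod with h | h
      · left
        rw [hImem m x hxm, add_comm]; exact h
      · right
        rw [hImem k y hyk, add_comm]; exact h
    refine ⟨⟨I, hIhom⟩, hIprime, ?_, ?_⟩
    · intro hle
      apply hF_notin
      exact hle (HomogeneousIdeal.mem_irrelevant_of_mem 𝒜 hdpos hF)
    · intro n hn
      ext x
      simp only [Set.mem_inter_iff, SetLike.mem_coe]
      constructor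
      · rintro ⟨hxI, hxn⟩
        exact (hchar n hn x).2 ⟨hxn, (hImem n x hxn).1 hxI⟩
      · intro hx
        obtain ⟨hxn, hFx⟩ := (hchar n hn x).1 hx
        exact ⟨(hImem n x hxn).2 hFx, hxn⟩
  · -- uniqueness
    intro 𝔭 𝔮 h𝔭 h𝔮 hirr𝔭 hirr𝔮 ht𝔭 ht𝔮
    have main : ∀ (𝔭 𝔮 : HomogeneousIdeal 𝒜), 𝔭.toIdeal.IsPrime → 𝔮.toIdeal.IsPrime →
        ¬ HomogeneousIdeal.irrelevant 𝒜 ≤ 𝔭 →
        (∀ n : ℕ, n₀ ≤ n → (𝔭.toIdeal : Set A) ∩ 𝒜 n = p n) →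
        (∀ n : ℕ, n₀ ≤ n → (𝔮.toIdeal : Set A) ∩ 𝒜 n = p n) → 𝔮 ≤ 𝔭 := by
      intro 𝔭 𝔮 h𝔭 h𝔮 hirr ht𝔭 ht𝔮
      have tp := tail 𝔭 ht𝔭
      have tq := tail 𝔮 ht𝔮
      obtain ⟨e, f, he, hfe, hf𝔭⟩ := exists_homogeneous_not_mem 𝒜 𝔭 hirr
      have hpow : f ^ n₀ ∈ 𝒜 (n₀ * e) := by
        have := SetLike.pow_mem_graded (A := 𝒜) n₀ hfe
        simpa using this
      have hpow𝔭 : f ^ n₀ ∉ 𝔭.toIdeal := fun h => hf𝔭 (h𝔭.mem_of_pow_mem _ h)
      apply homogeneousIdeal_le_of_homogeneous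
      intro m x hxm hx𝔮
      have hge : n₀ ≤ n₀ * e + m := by
        have := Nat.le_mul_of_pos_right n₀ he
        omega
      have hmem : f ^ n₀ * x ∈ 𝒜 (n₀ * e + m) := SetLike.mul_mem_graded hpow hxm
      have h1 : f ^ n₀ * x ∈ p (n₀ * e + m) :=
        (tq _ hge _).2 ⟨Ideal.mul_mem_left _ _ hx𝔮, hmem⟩
      have h2 := ((tp _ hge _).1 h1).1
      rcases h𝔭.mem_or_mem h2 with h | h
      · exact absurd h hpow𝔭
      · exact h
    exact le_antisymm (main 𝔮 𝔭 h𝔮 h𝔭 hirr𝔮 ht𝔮 ht𝔭) (main 𝔭 𝔮 h𝔭 h𝔮 hirr𝔭 ht𝔭 ht𝔮)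

end Groth.Agent.S4395
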