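import Groth.Statements.S4396
import Mathlib.Tactic.Ring
import Mathlib.Tactic.Abel

set_option autoImplicit false
universe u
open AlgebraicGeometry
open EGA2

namespace Groth.Agent.S4396

open DirectSum HomogeneousLocalization

/-- Let S be a ring graded in nonnegative degrees, d > 0, and S^{(d)} the graded ring whose degree-n
part is S_{nd} (given here as any graded ring S' with an injective algebra homomorphism φ : S' → S
carrying S'_n onto S_{nd} for every n); let f' ∈ S'_1, with image f = φ(f') ∈ S_d. Then there is a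
ring isomorphism between the degree-zero homogeneous localization S_(f) and the quotient S'/(f' -
1)S', whose inverse sends the class of an element x of S'_n to the fraction φ(x)/f^n. (The module
part of the published statement is not stated here.) -/
theorem result {R A : Type u} [CommRing R] [CommRing A] [Algebra R A] (𝒜 : ℕ → Submodule R A) [GradedAlgebra 𝒜]
    {B : Type u} [CommRing B] [Algebra R B] (ℬ : ℕ → Submodule R B) [GradedAlgebra ℬ]
    (d : ℕ) (hd : 0 < d) (φ : B →ₐ[R] A) (hφ : Function.Injective φ)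
    (hdeg : ∀ n : ℕ, Submodule.map φ.toLinearMap (ℬ n) = 𝒜 (n * d)) (f' : B) (hf' : f' ∈ ℬ 1) :
    ∃ e : HomogeneousLocalization.Away 𝒜 (φ f') ≃+* B ⧸ Ideal.span {f' - 1},
      ∀ (n : ℕ) (x : B), x ∈ ℬ n →
        (e.symm (Ideal.Quotient.mk (Ideal.span {f' - 1}) x)).val =
          Localization.mk (φ x) ⟨φ f' ^ n, pow_mem (Submonoid.mem_powers (φ f')) n⟩ := by
  classical
  have hmem : ∀ (n : ℕ) (y : B), y ∈ ℬ n → φ y ∈ 𝒜 (n • d) := by
    intro n y hy
    rw [smul_eq_mul, ← hdeg n]
    exact ⟨y, hy, rfl⟩
  have hf : φ f' ∈ 𝒜 d := by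
    have := hmem 1 f' hf'
    simpa using this
  set f : A := φ f' with hfdef
  -- the components of the map
  let den : ℕ → Submonoid.powers f := fun n => ⟨f ^ n, n, rfl⟩
  have hval : ∀ (n : ℕ) (a : A) (ha : a ∈ 𝒜 (n • d)),
      (Away.mk 𝒜 hf n a ha).val = Localization.mk a (den n) := fun n a ha => rfl
  let g : ∀ n : ℕ, ℬ n →+ Away 𝒜 f := fun n =>
    { toFun := fun y => Away.mk 𝒜 hf n (φ y) (hmem n y y.2)
      map_zero' := by
        apply val_injective
        rw [hval, val_zero]
        simp [Localization.mk_zero]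
      map_add' := fun y z => by
        apply val_injective
        rw [val_add, hval, hval, hval, Localization.add_mk_self]
        simp }
  have hg : ∀ n (y : ℬ n), (g n y).val = Localization.mk (φ y) (den n) := fun n y => rfl
  let Ψ : (⨁ n, ℬ n) →+* Away 𝒜 f := DirectSum.toSemiring g
    (by
      apply val_injective
      rw [hg, val_one]
      change Localization.mk (φ ((1 : B))) (den 0) = 1
      rw [map_one]
      have : den 0 = 1 := Subtype.ext (pow_zero f)
      rw [this, Localization.mk_one])
    (by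
      intro i j ai aj
      apply val_injective
      rw [val_mul, hg, hg, hg, Localization.mk_mul]
      change Localization.mk (φ ((ai : B) * (aj : B))) _ = _
      rw [map_mul]
      congr 1
      exact Subtype.ext (pow_add f i j))
  let ψ : B →+* Away 𝒜 f := Ψ.comp (decomposeRingEquiv ℬ).toRingHom
  have hψ : ∀ (n : ℕ) (x : B) (hx : x ∈ ℬ n), ψ x = Away.mk 𝒜 hf n (φ x) (hmem n x hx) := by
    intro n x hx
    change Ψ (decompose ℬ x) = _
    rw [decompose_of_mem ℬ hx]
    exact DirectSum.toSemiring_of g _ _ n (⟨x, hx⟩ : ℬ n)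
  -- `ψ` kills `f' - 1`
  have hψf' : ψ f' = 1 := by
    rw [hψ 1 f' hf']
    apply val_injective
    rw [hval, val_one]
    have : den 1 = ⟨f, 1, pow_one f⟩ := Subtype.ext (pow_one f)
    rw [this]
    exact Localization.mk_self (⟨f, 1, pow_one f⟩ : Submonoid.powers f)
  have hker : ∀ a ∈ Ideal.span {f' - 1}, ψ a = 0 := by
    intro a ha
    obtain ⟨c, rfl⟩ := Ideal.mem_span_singleton'.1 ha
    rw [map_mul, map_sub, hψf', map_one, sub_self, mul_zero]
  let ψbar : B ⧸ Ideal.span {f' - 1} →+* Away 𝒜 f := Ideal.Quotient.lift _ ψ hker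
  have hψbar : ∀ x : B, ψbar (Ideal.Quotient.mk _ x) = ψ x := fun x => Ideal.Quotient.lift_mk _ _ _
  have hsurj : Function.Surjective ψbar := by
    intro z
    obtain ⟨n, a, ha, rfl⟩ := Away.mk_surjective 𝒜 hf z
    have : a ∈ Submodule.map φ.toLinearMap (ℬ n) := by rw [hdeg n, ← smul_eq_mul]; exact ha
    obtain ⟨x, hx, rfl⟩ := this
    refine ⟨Ideal.Quotient.mk _ x, ?_⟩
    rw [hψbar, hψ n x hx]
    rfl
  have hmkf' : (Ideal.Quotient.mk (Ideal.span {f' - 1}) f') = 1 := by
    have : Ideal.Quotient.mk (Ideal.span {f' - 1}) (f' - 1) = 0 :=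
      Ideal.Quotient.eq_zero_iff_mem.2 (Ideal.subset_span rfl)
    rw [map_sub, map_one, sub_eq_zero] at this
    exact this
  have hinj : Function.Injective ψbar := by
    rw [injective_iff_map_eq_zero]
    intro z hz
    obtain ⟨x, rfl⟩ := Ideal.Quotient.mk_surjective z
    rw [hψbar] at hz
    let s := (decompose ℬ x).support
    let N := s.sup id
    have hN : ∀ n ∈ s, n ≤ N := fun n hn => Finset.le_sup (f := id) hn
    let xc : ℕ → B := fun n => ((decompose ℬ x n : ℬ n) : B)
    have hxc : ∀ n, xc n ∈ ℬ n := fun n => (decompose ℬ x n).2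
    have hxsum : x = ∑ n ∈ s, xc n := (sum_support_decompose ℬ x).symm
    let y : B := ∑ n ∈ s, xc n * f' ^ (N - n)
    have hmky : Ideal.Quotient.mk (Ideal.span {f' - 1}) y = Ideal.Quotient.mk _ x := by
      conv_rhs => rw [hxsum]
      simp only [y, map_sum, map_mul, map_pow, hmkf', one_pow, mul_one]
    -- `φ y` vanishes in the localization
    let L := Localization (Submonoid.powers f)
    have hzero : algebraMap A L (φ y) = 0 := by
      have h1 : (ψ x).val = ∑ n ∈ s, Localization.mk (φ (xc n)) (den n) := by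
        conv_lhs => rw [hxsum, map_sum]
        rw [← HomogeneousLocalization.algebraMap_apply, map_sum]
        refine Finset.sum_congr rfl fun n _ => ?_
        rw [HomogeneousLocalization.algebraMap_apply, hψ n (xc n) (hxc n)]
        rfl
      have h2 : ∀ n ∈ s, algebraMap A L (φ (xc n * f' ^ (N - n))) =
          Localization.mk (φ (xc n)) (den n) * algebraMap A L (f ^ N) := by
        intro n hn
        have hspec : Localization.mk (φ (xc n)) (den n) * algebraMap A L (f ^ n) =
            algebraMap A L (φ (xc n)) := by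
          rw [Localization.mk_eq_mk']
          exact IsLocalization.mk'_spec L (φ (xc n)) (den n)
        have hpow : f ^ N = f ^ n * f ^ (N - n) := by
          rw [← pow_add]; congr 1; have := hN n hn; omega
        rw [hpow, map_mul (algebraMap A L), ← mul_assoc, hspec, map_mul φ, map_pow φ, map_mul]
      have h3 : algebraMap A L (φ y) = (ψ x).val * algebraMap A L (f ^ N) := by
        rw [h1, Finset.sum_mul]
        simp only [y, map_sum]
        exact Finset.sum_congr rfl h2
      rw [h3, hz, val_zero, zero_mul]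
    obtain ⟨⟨_, k, rfl⟩, hk⟩ := (IsLocalization.map_eq_zero_iff (Submonoid.powers f) L (φ y)).1 hzero
    have hk' : φ (f' ^ k * y) = 0 := by
      rw [map_mul, map_pow]; exact hk
    have hk'' : f' ^ k * y = 0 := hφ (hk'.trans (map_zero φ).symm)
    have : Ideal.Quotient.mk (Ideal.span {f' - 1}) (f' ^ k * y) = Ideal.Quotient.mk _ x := by
      rw [map_mul, map_pow, hmkf', one_pow, one_mul, hmky]
    rw [← this, hk'', map_zero]
  let e0 : B ⧸ Ideal.span {f' - 1} ≃+* Away 𝒜 f := RingEquiv.ofBijective ψbar ⟨hinj, hsurj⟩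
  refine ⟨e0.symm, fun n x hx => ?_⟩
  rw [RingEquiv.symm_symm]
  change (ψbar (Ideal.Quotient.mk _ x)).val = _
  rw [hψbar, hψ n x hx]
  rfl

end Groth.Agent.S4396
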