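import Groth.Statements.S4398
import Mathlib

set_option autoImplicit false
universe u
open AlgebraicGeometry
open EGA2

namespace Groth.Agent.S4398

set_option maxHeartbeats 400000

open HomogeneousLocalization CategoryTheory CategoryTheory.Limits

section Alg

variable {R A B : Type u} [CommRing R] [CommRing A] [Algebra R A] [CommRing B] [Algebra R B]
  (𝒜 : ℕ → Submodule R A) [GradedAlgebra 𝒜] (ℬ : ℕ → Submodule R B) [GradedAlgebra ℬ]

theorem away_mk_bump {f : A} {d : ℕ} (hf : f ∈ 𝒜 d) (n : ℕ) (x : A) (hx : x ∈ 𝒜 (n • d))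
    (hx' : x * f ∈ 𝒜 ((n + 1) • d)) :
    Away.mk 𝒜 hf n x hx = Away.mk 𝒜 hf (n + 1) (x * f) hx' := by
  rw [HomogeneousLocalization.ext_iff_val, Away.val_mk, Away.val_mk, Localization.mk_eq_mk_iff,
    Localization.r_iff_exists]
  refine ⟨1, ?_⟩
  simp only [OneMemClass.coe_one, one_mul]
  ring

theorem away_map_bijective (φ : ℬ →+*ᵍ 𝒜) (hbij : ∀ n : ℕ, 0 < n → Set.BijOn φ (ℬ n) (𝒜 n))
    {i : ℕ} (hi : 0 < i) (s : B) (hs : s ∈ ℬ i) :
    Function.Bijective (Away.map φ s) := by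
  have hφs : φ s ∈ 𝒜 i := φ.2 hs
  constructor
  · intro x₁ x₂ h
    obtain ⟨n₁, a₁, ha₁, rfl⟩ := Away.mk_surjective ℬ hs x₁
    obtain ⟨n₂, a₂, ha₂, rfl⟩ := Away.mk_surjective ℬ hs x₂
    rw [Away.map_mk, Away.map_mk, HomogeneousLocalization.ext_iff_val, Away.val_mk, Away.val_mk,
      Localization.mk_eq_mk_iff, Localization.r_iff_exists] at h
    obtain ⟨⟨_, k, rfl⟩, hk⟩ := h
    simp only at hk
    have h1 : s ^ (k + 1) * (s ^ n₂ * a₁) ∈ ℬ ((k + 1) • i + (n₂ • i + n₁ • i)) :=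
      SetLike.mul_mem_graded (SetLike.pow_mem_graded (k + 1) hs)
        (SetLike.mul_mem_graded (SetLike.pow_mem_graded n₂ hs) ha₁)
    have h2 : s ^ (k + 1) * (s ^ n₁ * a₂) ∈ ℬ ((k + 1) • i + (n₂ • i + n₁ • i)) := by
      have := SetLike.mul_mem_graded (SetLike.pow_mem_graded (k + 1) hs)
        (SetLike.mul_mem_graded (SetLike.pow_mem_graded n₁ hs) ha₂)
      rwa [add_comm (n₁ • i) (n₂ • i)] at this
    have hN : 0 < (k + 1) • i + (n₂ • i + n₁ • i) := by
      apply Nat.add_pos_left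
      rw [smul_eq_mul]
      exact Nat.mul_pos (Nat.succ_pos k) hi
    have hφeq : φ (s ^ (k + 1) * (s ^ n₂ * a₁)) = φ (s ^ (k + 1) * (s ^ n₁ * a₂)) := by
      simp only [map_mul, map_pow, pow_succ]
      calc φ s ^ k * φ s * (φ s ^ n₂ * φ a₁) = φ s * (φ s ^ k * (φ s ^ n₂ * φ a₁)) := by ring
        _ = φ s * (φ s ^ k * (φ s ^ n₁ * φ a₂)) := by rw [hk]
        _ = φ s ^ k * φ s * (φ s ^ n₁ * φ a₂) := by ring
    have hu := (hbij _ hN).injOn h1 h2 hφeq
    rw [HomogeneousLocalization.ext_iff_val, Away.val_mk, Away.val_mk, Localization.mk_eq_mk_iff,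
      Localization.r_iff_exists]
    exact ⟨⟨s ^ (k + 1), k + 1, rfl⟩, hu⟩
  · intro y
    obtain ⟨n, b, hb, rfl⟩ := Away.mk_surjective 𝒜 hφs y
    have hb' : b * φ s ∈ 𝒜 ((n + 1) • i) := by
      have := SetLike.mul_mem_graded hb hφs
      rwa [← succ_nsmul] at this
    have hN : 0 < (n + 1) • i := by
      rw [smul_eq_mul]
      exact Nat.mul_pos (Nat.succ_pos n) hi
    obtain ⟨a, ha, hab⟩ := (hbij _ hN).surjOn hb'
    refine ⟨Away.mk ℬ hs (n + 1) a ha, ?_⟩
    rw [away_mk_bump 𝒜 hφs n b hb hb', Away.map_mk, HomogeneousLocalization.ext_iff_val,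
      Away.val_mk, Away.val_mk, hab]

end Alg

/-- Let φ : S' → S be a homomorphism of rings graded in nonnegative degrees which maps S'_n bijectively
onto S_n for every n > 0, so that S_+ lies in the ideal generated by φ(S'_+) (stated as a hypothesis
because the induced morphism is built from it). Then the induced morphism Proj S → Proj S' is an
isomorphism of schemes. (The published statement treats the cases S'_0 = ℤ and S'_0 = A with S'_n =
S_n for n > 0; this row allows any graded φ that is bijective in positive degrees.) -/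
theorem result {R A : Type u} [CommRing R] [CommRing A] [Algebra R A] (𝒜 : ℕ → Submodule R A) [GradedAlgebra 𝒜]
    {B : Type u} [CommRing B] [Algebra R B] (ℬ : ℕ → Submodule R B) [GradedAlgebra ℬ]
    (φ : ℬ →+*ᵍ 𝒜) (hbij : ∀ n : ℕ, 0 < n → Set.BijOn φ (ℬ n) (𝒜 n))
    (hφ : HomogeneousIdeal.irrelevant 𝒜 ≤ (HomogeneousIdeal.irrelevant ℬ).map φ) :
    CategoryTheory.IsIso (Proj.map φ hφ) := by
  suffices h : (MorphismProperty.isomorphisms Scheme) (Proj.map φ hφ) from h
  apply IsZariskiLocalAtTarget.of_openCover (P := MorphismProperty.isomorphisms Scheme)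
    (Proj.affineOpenCover ℬ).openCover
  intro j
  rw [MorphismProperty.isomorphisms.iff]
  have hb := away_map_bijective 𝒜 ℬ φ hbij j.1.2 j.2.1 j.2.2
  haveI : IsIso (CommRingCat.ofHom (Away.map φ j.2.1)) :=
    (ConcreteCategory.isIso_iff_bijective (CommRingCat.ofHom (Away.map φ j.2.1))).mpr hb
  have sq := IsOpenImmersion.isPullback (Spec.map (CommRingCat.ofHom (Away.map φ j.2.1)))
    (Proj.awayι 𝒜 (φ j.2.1) (φ.2 j.2.2) j.1.2) (Proj.awayι ℬ j.2.1 j.2.2 j.1.2)
    (Proj.map φ hφ) (Proj.awayι_comp_map φ hφ j.1.2 j.2.1 j.2.2)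
    (by rw [Proj.opensRange_awayι, Proj.opensRange_awayι, Proj.map_preimage_basicOpen])
  have e := sq.flip.isoPullback_inv_snd
  show IsIso (pullback.snd (Proj.map φ hφ) (Proj.awayι ℬ j.2.1 j.2.2 j.1.2))
  rw [← e]
  infer_instance

end Groth.Agent.S4398
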