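import Groth.Statements.S4399
import Mathlib
import Groth.Agent.S1614

set_option autoImplicit false
universe u
open CategoryTheory CategoryTheory.Limits AlgebraicGeometry
open EGA2

namespace Groth.Agent.S4399


open CategoryTheory AlgebraicGeometry TopologicalSpace Opposite


/-- Let S be a ring graded in nonnegative degrees, X = Proj S, d > 0, and U the union of the opens
D_+(f) for f running through S_d. Then for every integer n the restriction of the twisting sheaf
O_X(nd) to U is an invertible O_U-module. -/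
theorem result {R A : Type u} [CommRing R] [CommRing A] [Algebra R A] (𝒜 : ℕ → Submodule R A) [GradedAlgebra 𝒜]
    (d : ℕ) (hd : 0 < d) (n : ℤ) :
    PicF.IsInvertible ((Twist.twist 𝒜 (n * d)).restrict (⨆ f : 𝒜 d, Proj.basicOpen 𝒜 (f : A)).ι) := by
  intro y
  let W : (Proj 𝒜).Opens := ⨆ f : 𝒜 d, Proj.basicOpen 𝒜 (f : A)
  have hy : (W.ι y) ∈ W := by
    rw [Scheme.Opens.ι_apply]; exact y.2
  obtain ⟨f, hf⟩ := Opens.mem_iSup.mp hy
  let U' : (W : Scheme.{u}).Opens := W.ι ⁻¹ᵁ Proj.basicOpen 𝒜 (f : A)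
  have hyU : y ∈ U' := (Scheme.Hom.mem_preimage _).mpr hf
  have hj : ∀ x : (U' : Scheme.{u}), (U'.ι ≫ W.ι) x ∈ Proj.basicOpen 𝒜 (f : A) := by
    intro x
    rw [Scheme.Hom.comp_apply, Scheme.Opens.ι_apply]
    exact (Scheme.Hom.mem_preimage _).mp x.2
  obtain ⟨e⟩ := Groth.Agent.S1614.triv 𝒜 d f.1 f.2 n (U'.ι ≫ W.ι) hj
  exact ⟨U', hyU, ⟨((Scheme.Modules.restrictFunctorComp U'.ι W.ι).app _).symm ≪≫ e⟩⟩

end Groth.Agent.S4399
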