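import Groth.Statements.S4400
import Mathlib
import Groth.Agent.S12453

set_option autoImplicit false
universe u
open CategoryTheory CategoryTheory.Limits AlgebraicGeometry
open EGA2

namespace Groth.Agent.S4400


open CategoryTheory CategoryTheory.Limits AlgebraicGeometry TopologicalSpace Opposite MonoidalCategory

section Aux

variable {R A : Type u} [CommRing R] [CommRing A] [Algebra R A]
  (𝒜 : ℕ → Submodule R A) [GradedAlgebra 𝒜]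
  {M : Type u} [AddCommGroup M] [Module R M] [Module A M] (ℳ : ℕ → Submodule R M)
  [SetLike.GradedSMul 𝒜 ℳ]

theorem smul_mem_tildeAt (k l e : ℤ) (he : e = k + l) (x : ProjectiveSpectrum 𝒜)
    (c : Twist.Loc 𝒜 x) (q : GrTilde.LocMod 𝒜 (M := M) x)
    (hc : c ∈ Twist.twistAt 𝒜 k x) (hq : q ∈ GrTilde.tildeAt 𝒜 ℳ l x) :
    c • q ∈ GrTilde.tildeAt 𝒜 ℳ e x := by
  induction hc using Submodule.span_induction with
  | mem c hc =>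
    obtain ⟨i, j, a, s, hs, hdeg, rfl⟩ := hc
    induction hq using Submodule.span_induction with
    | mem q hq =>
      obtain ⟨i', j', m, s', hs', hdeg', rfl⟩ := hq
      rw [LocalizedModule.mk_smul_mk]
      refine Submodule.subset_span ⟨i + i', j + j',
        ⟨(a : A) • (m : M), SetLike.GradedSMul.smul_mem a.2 m.2⟩,
        ⟨s * s', SetLike.mul_mem_graded s.2 s'.2⟩, ?_, ?_, rfl⟩
      · exact fun h => (x.isPrime.mem_or_mem h).elim hs hs'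
      · push_cast; linarith
    | zero => rw [smul_zero]; exact zero_mem _
    | add y z _ _ hy hz => rw [smul_add]; exact add_mem hy hz
    | smul d y _ hy =>
      have e1 : (Localization.mk (a : A) ⟨s, hs⟩ : Twist.Loc 𝒜 x) • (d • y) =
          d • ((Localization.mk (a : A) ⟨s, hs⟩ : Twist.Loc 𝒜 x) • y) :=
        smul_comm (Localization.mk (a : A) ⟨s, hs⟩ : Twist.Loc 𝒜 x) d.val y
      rw [e1]; exact Submodule.smul_mem _ d hy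
  | zero => rw [zero_smul]; exact zero_mem _
  | add y z _ _ hy hz => rw [add_smul]; exact add_mem hy hz
  | smul d y _ hy =>
    have e1 : (d • y) • q = d • (y • q) := by
      rw [Algebra.smul_def, HomogeneousLocalization.algebraMap_apply, mul_smul]
      rfl
    rw [e1]; exact Submodule.smul_mem _ d hy

/-- the product of a section of `O(k)` and a section of `M(l)~` -/
def smulSec (k l e : ℤ) (he : e = k + l) (U : (Opens (ProjectiveSpectrum.top 𝒜))ᵒᵖ)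
    (t : Twist.sectN (𝒜 := 𝒜) k U) (σ : GrTilde.sect 𝒜 ℳ l U) : GrTilde.sect 𝒜 ℳ e U :=
  ⟨fun x => ⟨(t.1 x).1 • (σ.1 x).1,
      smul_mem_tildeAt 𝒜 ℳ k l e he x.1 _ _ (t.1 x).2 (σ.1 x).2⟩, by
    intro x
    obtain ⟨V₁, hx₁, i₁, i, j, ⟨a, ha⟩, ⟨b, hb⟩, hnin, hdeg, hw⟩ :=
      (show (Twist.isLocFracN 𝒜 k).pred t.1 from t.2) x
    obtain ⟨V₂, hx₂, i₂, i', j', ⟨m, hm⟩, ⟨s, hs⟩, hnin', hdeg', hw'⟩ :=
      (show (GrTilde.isLocFrac 𝒜 ℳ l).pred σ.1 from σ.2) x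
    have hd1 : (i : ℤ) = j + k ∨ a = 0 := hdeg
    have hd2 : (i' : ℤ) = j' + l ∨ m = 0 := hdeg'
    refine ⟨V₁ ⊓ V₂, ⟨hx₁, hx₂⟩, Opens.infLELeft _ _ ≫ i₁, i + i', j + j',
      ⟨a • m, SetLike.GradedSMul.smul_mem ha hm⟩, ⟨b * s, SetLike.mul_mem_graded hb hs⟩,
      fun y h => ?_, ?_, fun y => ?_⟩
    · exact (y.1.isPrime.mem_or_mem h).elim (hnin ⟨y.1, y.2.1⟩) (hnin' ⟨y.1, y.2.2⟩)
    · rcases hd1 with h | h
      · rcases hd2 with h' | h'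
        · exact Or.inl (by push_cast; linarith)
        · exact Or.inr (show a • m = 0 by rw [h', smul_zero])
      · exact Or.inr (show a • m = 0 by rw [h, zero_smul])
    · have e1 : (t.1 ((Opens.infLELeft V₁ V₂ ≫ i₁) y)).1 =
          Localization.mk a ⟨b, hnin ⟨y.1, y.2.1⟩⟩ := hw ⟨y.1, y.2.1⟩
      have e2 : (σ.1 ((Opens.infLELeft V₁ V₂ ≫ i₁) y)).1 =
          LocalizedModule.mk m ⟨s, hnin' ⟨y.1, y.2.2⟩⟩ := hw' ⟨y.1, y.2.2⟩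
      show (t.1 ((Opens.infLELeft V₁ V₂ ≫ i₁) y)).1 • (σ.1 ((Opens.infLELeft V₁ V₂ ≫ i₁) y)).1 = _
      rw [e1, e2, LocalizedModule.mk_smul_mk]
      rfl⟩

theorem smulSec_val (k l e : ℤ) (he : e = k + l) (U : (Opens (ProjectiveSpectrum.top 𝒜))ᵒᵖ)
    (t : Twist.sectN (𝒜 := 𝒜) k U) (σ : GrTilde.sect 𝒜 ℳ l U) (x : U.unop) :
    ((smulSec 𝒜 ℳ k l e he U t σ).1 x).1 = (t.1 x).1 • (σ.1 x).1 := rfl

theorem smulSec_add_left (k l e : ℤ) (he : e = k + l)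
    (U : (Opens (ProjectiveSpectrum.top 𝒜))ᵒᵖ)
    (t t' : Twist.sectN (𝒜 := 𝒜) k U) (σ : GrTilde.sect 𝒜 ℳ l U) :
    smulSec 𝒜 ℳ k l e he U (t + t') σ =
      smulSec 𝒜 ℳ k l e he U t σ + smulSec 𝒜 ℳ k l e he U t' σ :=
  Subtype.ext (funext fun x => Subtype.ext (add_smul _ _ _))

theorem smulSec_add_right (k l e : ℤ) (he : e = k + l)
    (U : (Opens (ProjectiveSpectrum.top 𝒜))ᵒᵖ)
    (t : Twist.sectN (𝒜 := 𝒜) k U) (σ σ' : GrTilde.sect 𝒜 ℳ l U) :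
    smulSec 𝒜 ℳ k l e he U t (σ + σ') =
      smulSec 𝒜 ℳ k l e he U t σ + smulSec 𝒜 ℳ k l e he U t σ' :=
  Subtype.ext (funext fun x => Subtype.ext (smul_add _ _ _))

theorem smulSec_smul_left (k l e : ℤ) (he : e = k + l)
    (U : (Opens (ProjectiveSpectrum.top 𝒜))ᵒᵖ) (c : Twist.O (𝒜 := 𝒜) U)
    (t : Twist.sectN (𝒜 := 𝒜) k U) (σ : GrTilde.sect 𝒜 ℳ l U) :
    smulSec 𝒜 ℳ k l e he U (c • t) σ = c • smulSec 𝒜 ℳ k l e he U t σ := by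
  refine Subtype.ext (funext fun x => Subtype.ext ?_)
  have h1 : (((c • smulSec 𝒜 ℳ k l e he U t σ).1 x : GrTilde.tildeAt 𝒜 ℳ e x.1) :
      GrTilde.LocMod 𝒜 (M := M) x.1) = (c.1 x).val • ((smulSec 𝒜 ℳ k l e he U t σ).1 x).1 :=
    GrTilde.coe_smul_val e x.1 (c.1 x) ((smulSec 𝒜 ℳ k l e he U t σ).1 x)
  have h2 : (((c • t).1 x : Twist.twistAt 𝒜 k x.1) : Twist.Loc 𝒜 x.1) =
      (c.1 x).val * (t.1 x).1 := Twist.coe_smul_val k x.1 (c.1 x) (t.1 x)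
  show ((c • t).1 x).1 • (σ.1 x).1 = ((c • smulSec 𝒜 ℳ k l e he U t σ).1 x).1
  rw [h1, h2, smulSec_val, mul_smul]

theorem smulSec_smul_right (k l e : ℤ) (he : e = k + l)
    (U : (Opens (ProjectiveSpectrum.top 𝒜))ᵒᵖ) (c : Twist.O (𝒜 := 𝒜) U)
    (t : Twist.sectN (𝒜 := 𝒜) k U) (σ : GrTilde.sect 𝒜 ℳ l U) :
    smulSec 𝒜 ℳ k l e he U t (c • σ) = c • smulSec 𝒜 ℳ k l e he U t σ := by
  refine Subtype.ext (funext fun x => Subtype.ext ?_)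
  have h1 : (((c • smulSec 𝒜 ℳ k l e he U t σ).1 x : GrTilde.tildeAt 𝒜 ℳ e x.1) :
      GrTilde.LocMod 𝒜 (M := M) x.1) = (c.1 x).val • ((smulSec 𝒜 ℳ k l e he U t σ).1 x).1 :=
    GrTilde.coe_smul_val e x.1 (c.1 x) ((smulSec 𝒜 ℳ k l e he U t σ).1 x)
  have h2 : (((c • σ).1 x : GrTilde.tildeAt 𝒜 ℳ l x.1) : GrTilde.LocMod 𝒜 (M := M) x.1) =
      (c.1 x).val • (σ.1 x).1 := GrTilde.coe_smul_val l x.1 (c.1 x) (σ.1 x)
  show (t.1 x).1 • ((c • σ).1 x).1 = ((c • smulSec 𝒜 ℳ k l e he U t σ).1 x).1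
  rw [h1, h2, smulSec_val, smul_comm]

/-- multiplication `M~ ⊗ O(n) → M(n)~` as a linear map out of the tensor product -/
noncomputable def mulLin2 (n : ℤ) (U : (Opens (ProjectiveSpectrum.top 𝒜))ᵒᵖ) :
    TensorProduct (Twist.O (𝒜 := 𝒜) U) (GrTilde.sect 𝒜 ℳ 0 U) (Twist.sectN (𝒜 := 𝒜) n U)
      →ₗ[Twist.O (𝒜 := 𝒜) U] GrTilde.sect 𝒜 ℳ n U :=
  TensorProduct.lift (LinearMap.mk₂ (Twist.O (𝒜 := 𝒜) U)
    (fun σ t => smulSec 𝒜 ℳ n 0 n (add_zero n).symm U t σ)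
    (fun σ σ' t => smulSec_add_right 𝒜 ℳ n 0 n _ U t σ σ')
    (fun c σ t => smulSec_smul_right 𝒜 ℳ n 0 n _ U c t σ)
    (fun σ t t' => smulSec_add_left 𝒜 ℳ n 0 n _ U t t' σ)
    (fun c σ t => smulSec_smul_left 𝒜 ℳ n 0 n _ U c t σ))

theorem mulLin2_tmul (n : ℤ) (U : (Opens (ProjectiveSpectrum.top 𝒜))ᵒᵖ)
    (σ : GrTilde.sect 𝒜 ℳ 0 U) (t : Twist.sectN (𝒜 := 𝒜) n U) :
    mulLin2 𝒜 ℳ n U (σ ⊗ₜ[Twist.O (𝒜 := 𝒜) U] t) = smulSec 𝒜 ℳ n 0 n (add_zero n).symm U t σ :=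
  TensorProduct.lift.tmul _ _

theorem hkinv (n : ℤ) : (((-n).toNat : ℕ) : ℤ) = ((n.toNat : ℕ) : ℤ) + (-n) := by
  have := Groth.Agent.S12453.hk n
  linarith

/-- the inverse generator `f^{-n}` of `O(-n)` over an open inside `D_+(f)` -/
def ginv (n : ℤ) (f : A) (hf : f ∈ 𝒜 1) (V : Opens (ProjectiveSpectrum.top 𝒜))
    (hV : ∀ x : V, f ∉ x.1.asHomogeneousIdeal) : Twist.sectN (𝒜 := 𝒜) (-n) (op V) :=
  Groth.Agent.S9575.gsec 𝒜 (-n) (-n).toNat n.toNat (f ^ (-n).toNat) (f ^ n.toNat)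
    (Groth.Agent.S12453.powmem1 𝒜 f hf _) (Groth.Agent.S12453.powmem1 𝒜 f hf _) (hkinv n) V
    (fun x => ⟨Groth.Agent.S1614.pow_nin 𝒜 f x.1 (hV x) _,
      Groth.Agent.S1614.pow_nin 𝒜 f x.1 (hV x) _⟩)

theorem ginv_mul_gen (n : ℤ) (f : A) (hf : f ∈ 𝒜 1) (V : Opens (ProjectiveSpectrum.top 𝒜))
    (hV : ∀ x : V, f ∉ x.1.asHomogeneousIdeal) (x : V) :
    ((ginv 𝒜 n f hf V hV).1 x).1 * ((Groth.Agent.S12453.gen 𝒜 n f hf V hV).1 x).1 = 1 :=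
  Groth.Agent.S1614.mk_mul_mk_swap _
    ⟨f ^ (-n).toNat, Groth.Agent.S1614.pow_nin 𝒜 f x.1 (hV x) _⟩
    ⟨f ^ n.toNat, Groth.Agent.S1614.pow_nin 𝒜 f x.1 (hV x) _⟩

theorem gen_mul_ginv (n : ℤ) (f : A) (hf : f ∈ 𝒜 1) (V : Opens (ProjectiveSpectrum.top 𝒜))
    (hV : ∀ x : V, f ∉ x.1.asHomogeneousIdeal) (x : V) :
    ((Groth.Agent.S12453.gen 𝒜 n f hf V hV).1 x).1 * ((ginv 𝒜 n f hf V hV).1 x).1 = 1 := by
  rw [mul_comm]; exact ginv_mul_gen 𝒜 n f hf V hV x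

theorem mulG_bij (n : ℤ) (f : A) (hf : f ∈ 𝒜 1) (V : Opens (ProjectiveSpectrum.top 𝒜))
    (hV : ∀ x : V, f ∉ x.1.asHomogeneousIdeal) :
    Function.Bijective (fun σ : GrTilde.sect 𝒜 ℳ 0 (op V) =>
      smulSec 𝒜 ℳ n 0 n (add_zero n).symm (op V) (Groth.Agent.S12453.gen 𝒜 n f hf V hV) σ) := by
  refine Function.bijective_iff_has_inverse.mpr
    ⟨fun τ => smulSec 𝒜 ℳ (-n) n 0 (neg_add_cancel n).symm (op V) (ginv 𝒜 n f hf V hV) τ, ?_, ?_⟩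
  · intro σ
    refine Subtype.ext (funext fun x => Subtype.ext ?_)
    show ((ginv 𝒜 n f hf V hV).1 x).1 •
      (((Groth.Agent.S12453.gen 𝒜 n f hf V hV).1 x).1 • (σ.1 x).1) = (σ.1 x).1
    rw [← mul_smul, ginv_mul_gen, one_smul]
  · intro τ
    refine Subtype.ext (funext fun x => Subtype.ext ?_)
    show ((Groth.Agent.S12453.gen 𝒜 n f hf V hV).1 x).1 •
      (((ginv 𝒜 n f hf V hV).1 x).1 • (τ.1 x).1) = (τ.1 x).1
    rw [← mul_smul, gen_mul_ginv, one_smul]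

theorem tform2 (n : ℤ) (f : A) (hf : f ∈ 𝒜 1) (V : Opens (ProjectiveSpectrum.top 𝒜))
    (hV : ∀ x : V, f ∉ x.1.asHomogeneousIdeal)
    (z : TensorProduct (Twist.O (𝒜 := 𝒜) (op V)) (GrTilde.sect 𝒜 ℳ 0 (op V))
      (Twist.sectN (𝒜 := 𝒜) n (op V))) : ∃ σ : GrTilde.sect 𝒜 ℳ 0 (op V),
      z = σ ⊗ₜ[Twist.O (𝒜 := 𝒜) (op V)] (Groth.Agent.S12453.gen 𝒜 n f hf V hV) := by
  induction z using TensorProduct.induction_on with
  | zero => exact ⟨0, (TensorProduct.zero_tmul _ _).symm⟩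
  | tmul σ t =>
    obtain ⟨r, hr⟩ := (Groth.Agent.S12453.gen_bij 𝒜 n f hf V hV).2 t
    have hr' : r • Groth.Agent.S12453.gen 𝒜 n f hf V hV = t := hr
    refine ⟨r • σ, ?_⟩
    rw [← hr']
    exact (TensorProduct.smul_tmul r σ _).symm
  | add z z' hz hz' =>
    obtain ⟨σ, rfl⟩ := hz
    obtain ⟨σ', rfl⟩ := hz'
    exact ⟨σ + σ', (TensorProduct.add_tmul σ σ' _).symm⟩

theorem mulLin2_inj (n : ℤ) (f : A) (hf : f ∈ 𝒜 1) (V : Opens (ProjectiveSpectrum.top 𝒜))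
    (hV : ∀ x : V, f ∉ x.1.asHomogeneousIdeal) :
    Function.Injective (mulLin2 𝒜 ℳ n (op V)) := by
  intro z z' h
  obtain ⟨σ, hσ⟩ := tform2 𝒜 ℳ n f hf V hV z
  obtain ⟨σ', hσ'⟩ := tform2 𝒜 ℳ n f hf V hV z'
  have h' : smulSec 𝒜 ℳ n 0 n (add_zero n).symm (op V) (Groth.Agent.S12453.gen 𝒜 n f hf V hV) σ =
      smulSec 𝒜 ℳ n 0 n (add_zero n).symm (op V) (Groth.Agent.S12453.gen 𝒜 n f hf V hV) σ' :=
    (mulLin2_tmul 𝒜 ℳ n (op V) σ _).symm.trans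
      ((congrArg (mulLin2 𝒜 ℳ n (op V)) hσ.symm).trans
        (h.trans ((congrArg (mulLin2 𝒜 ℳ n (op V)) hσ').trans
          (mulLin2_tmul 𝒜 ℳ n (op V) σ' _))))
  have hσσ : σ = σ' := (mulG_bij 𝒜 ℳ n f hf V hV).1 h'
  subst hσσ
  exact hσ.trans hσ'.symm

theorem mulLin2_surj (n : ℤ) (f : A) (hf : f ∈ 𝒜 1) (V : Opens (ProjectiveSpectrum.top 𝒜))
    (hV : ∀ x : V, f ∉ x.1.asHomogeneousIdeal) :
    Function.Surjective (mulLin2 𝒜 ℳ n (op V)) := by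
  intro τ
  obtain ⟨σ, hσ⟩ := (mulG_bij 𝒜 ℳ n f hf V hV).2 τ
  exact ⟨σ ⊗ₜ[Twist.O (𝒜 := 𝒜) (op V)] (Groth.Agent.S12453.gen 𝒜 n f hf V hV),
    (mulLin2_tmul 𝒜 ℳ n (op V) σ _).trans hσ⟩

/-- the multiplication on sections as a map out of the tensor product in `ModuleCat` -/
noncomputable def muApp2 (n : ℤ) (U : (Opens (Proj 𝒜))ᵒᵖ) :
    (CohB1.toPMod (GrTilde.tilde 𝒜 ℳ 0)).obj U ⊗ (CohB1.toPMod (Twist.twist 𝒜 n)).obj U ⟶
      (CohB1.toPMod (GrTilde.tilde 𝒜 ℳ n)).obj U :=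
  ModuleCat.MonoidalCategory.tensorLift
    (fun σ t => smulSec 𝒜 ℳ n 0 n (add_zero n).symm U t σ)
    (fun σ σ' t => smulSec_add_right 𝒜 ℳ n 0 n _ U t σ σ')
    (fun c σ t => smulSec_smul_right 𝒜 ℳ n 0 n _ U c t σ)
    (fun σ t t' => smulSec_add_left 𝒜 ℳ n 0 n _ U t t' σ)
    (fun c σ t => smulSec_smul_left 𝒜 ℳ n 0 n _ U c t σ)

/-- the multiplication `M~ ⊗ O(n) → M(n)~` of presheaves of modules -/
noncomputable def mu2 (n : ℤ) :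
    CohB1.tensorPre (GrTilde.tilde 𝒜 ℳ 0) (Twist.twist 𝒜 n) ⟶
      CohB1.toPMod (GrTilde.tilde 𝒜 ℳ n) where
  app U := muApp2 𝒜 ℳ n U
  naturality {U V} i := ModuleCat.MonoidalCategory.tensor_ext (fun s t => rfl)

noncomputable def mu2' (n : ℤ) :
    (show (Proj 𝒜).PresheafOfModules from
      CohB1.tensorPre (GrTilde.tilde 𝒜 ℳ 0) (Twist.twist 𝒜 n)) ⟶ (GrTilde.tilde 𝒜 ℳ n).val :=
  mu2 𝒜 ℳ n

theorem mu2_locSurj (hcov : ∀ y : ProjectiveSpectrum 𝒜, ∃ f ∈ 𝒜 1, f ∉ y.asHomogeneousIdeal)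
    (n : ℤ) :
    Presheaf.IsLocallySurjective (Opens.grothendieckTopology (Proj 𝒜))
      ((PresheafOfModules.toPresheaf _).map (mu2' 𝒜 ℳ n)) := by
  constructor
  intro U s
  rw [Opens.mem_grothendieckTopology]
  intro x hxU
  obtain ⟨f, hf, hfx⟩ := hcov x
  have hV : ∀ y : (U ⊓ Proj.basicOpen 𝒜 f : (Proj 𝒜).Opens), f ∉ y.1.asHomogeneousIdeal :=
    fun y => (Proj.mem_basicOpen 𝒜 f y.1).mp
      ((inf_le_right : U ⊓ Proj.basicOpen 𝒜 f ≤ Proj.basicOpen 𝒜 f) y.2)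
  refine ⟨U ⊓ Proj.basicOpen 𝒜 f, homOfLE inf_le_left, ?_,
    ⟨hxU, (Proj.mem_basicOpen 𝒜 f x).mpr hfx⟩⟩
  obtain ⟨z, hz⟩ := mulLin2_surj 𝒜 ℳ n f hf (U ⊓ Proj.basicOpen 𝒜 f) hV
    ((GrTilde.tilde 𝒜 ℳ n).presheaf.map
      (homOfLE (inf_le_left : U ⊓ Proj.basicOpen 𝒜 f ≤ U)).op s)
  exact ⟨z, hz⟩

theorem mu2_locInj (hcov : ∀ y : ProjectiveSpectrum 𝒜, ∃ f ∈ 𝒜 1, f ∉ y.asHomogeneousIdeal)
    (n : ℤ) :
    Presheaf.IsLocallyInjective (Opens.grothendieckTopology (Proj 𝒜))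
      ((PresheafOfModules.toPresheaf _).map (mu2' 𝒜 ℳ n)) := by
  constructor
  intro U z z' h
  rw [Opens.mem_grothendieckTopology]
  intro x hxU
  obtain ⟨f, hf, hfx⟩ := hcov x
  have hV : ∀ y : (U.unop ⊓ Proj.basicOpen 𝒜 f : (Proj 𝒜).Opens), f ∉ y.1.asHomogeneousIdeal :=
    fun y => (Proj.mem_basicOpen 𝒜 f y.1).mp
      ((inf_le_right : U.unop ⊓ Proj.basicOpen 𝒜 f ≤ Proj.basicOpen 𝒜 f) y.2)
  refine ⟨U.unop ⊓ Proj.basicOpen 𝒜 f, homOfLE inf_le_left, ?_,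
    ⟨hxU, (Proj.mem_basicOpen 𝒜 f x).mpr hfx⟩⟩
  apply mulLin2_inj 𝒜 ℳ n f hf (U.unop ⊓ Proj.basicOpen 𝒜 f) hV
  have nat := fun w => ConcreteCategory.congr_hom
    (((PresheafOfModules.toPresheaf _).map (mu2' 𝒜 ℳ n)).naturality
      (homOfLE (inf_le_left : U.unop ⊓ Proj.basicOpen 𝒜 f ≤ U.unop)).op) w
  have e3 := congrArg (fun w => ((GrTilde.tilde 𝒜 ℳ n).presheaf.map
      (homOfLE (inf_le_left : U.unop ⊓ Proj.basicOpen 𝒜 f ≤ U.unop)).op) w) h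
  exact (nat z).trans (e3.trans (nat z').symm)

theorem tensIso2 (hcov : ∀ y : ProjectiveSpectrum 𝒜, ∃ f ∈ 𝒜 1, f ∉ y.asHomogeneousIdeal)
    (n : ℤ) :
    Nonempty (CohB1.tensorMod (GrTilde.tilde 𝒜 ℳ 0) (Twist.twist 𝒜 n) ≅ GrTilde.tilde 𝒜 ℳ n) := by
  have hiso := Groth.Agent.S12453.isIso_sheafify_map (mu2' 𝒜 ℳ n) (mu2_locInj 𝒜 ℳ hcov n)
    (mu2_locSurj 𝒜 ℳ hcov n)
  exact ⟨(@asIso _ _ _ _ _ hiso) ≪≫
    Groth.Agent.S3584.eb (Proj 𝒜) (GrTilde.tilde 𝒜 ℳ n)⟩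

end Aux


/-- Let S be a ring graded in nonnegative degrees whose irrelevant ideal S_+ is generated by the
degree-one elements, X = Proj S, and M a graded S-module (graded in nonnegative degrees here). Then
for every integer n the O_X-module attached to the shifted module M(n) is isomorphic to the twist
M~(n) = M~ ⊗ O_X(n). (Existence of an isomorphism only; the published isomorphism is the canonical
one.) -/
theorem result {R A : Type u} [CommRing R] [CommRing A] [Algebra R A] (𝒜 : ℕ → Submodule R A) [GradedAlgebra 𝒜]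
    (hgen : (HomogeneousIdeal.irrelevant 𝒜).toIdeal = Ideal.span (𝒜 1 : Set A))
    {M : Type u} [AddCommGroup M] [Module R M] [Module A M] [IsScalarTower R A M] (ℳ : ℕ → Submodule R M) [DirectSum.Decomposition ℳ] [SetLike.GradedSMul 𝒜 ℳ] (n : ℤ) :
    Nonempty (GrTilde.tilde 𝒜 ℳ n ≅ Twist.twistBy 𝒜 (GrTilde.tilde 𝒜 ℳ 0) n) := by
  have hcov : ∀ y : ProjectiveSpectrum 𝒜, ∃ f ∈ 𝒜 1, f ∉ y.asHomogeneousIdeal := by
    intro y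
    by_contra hcon
    push Not at hcon
    refine y.not_irrelevant_le (SetLike.le_def.mpr fun a ha => ?_)
    have ha' : a ∈ Ideal.span (𝒜 1 : Set A) := by rw [← hgen]; exact ha
    show a ∈ y.asHomogeneousIdeal.toIdeal
    exact (Ideal.span_le.mpr (fun b hb => hcon b hb)) ha'
  obtain ⟨e⟩ := tensIso2 𝒜 ℳ hcov n
  exact ⟨e.symm⟩

end Groth.Agent.S4400
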