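import Groth.Statements.S4404
import Mathlib

set_option autoImplicit false
universe u
open EGA2

namespace Groth.Agent.S4404

/-- (a) ⇔ (b): let S be a ring graded in nonnegative degrees and E a subset of the irrelevant ideal S_+.
Then V_+(E) is the whole of Proj S if and only if every element of E is nilpotent. -/
theorem result {R A : Type u} [CommRing R] [CommRing A] [Algebra R A] (𝒜 : ℕ → Submodule R A) [GradedAlgebra 𝒜]
    (E : Set A) (hE : E ⊆ (HomogeneousIdeal.irrelevant 𝒜).toIdeal) :
    ProjectiveSpectrum.zeroLocus 𝒜 E = Set.univ ↔ ∀ e ∈ E, IsNilpotent e := by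
  constructor
  · intro h e he
    rw [nilpotent_iff_mem_prime]
    intro J hJ
    by_contra heJ
    have hq : ((J.homogeneousCore 𝒜).toIdeal).IsPrime := hJ.homogeneousCore
    have hle : (J.homogeneousCore 𝒜).toIdeal ≤ J := Ideal.toIdeal_homogeneousCore_le 𝒜 J
    have heq : e ∉ (J.homogeneousCore 𝒜).toIdeal := fun h' => heJ (hle h')
    let x : ProjectiveSpectrum 𝒜 :=
      ⟨J.homogeneousCore 𝒜, hq, fun hirr => heq (hirr (hE he))⟩
    have hx : x ∈ ProjectiveSpectrum.zeroLocus 𝒜 E := by rw [h]; trivial
    exact heq (hx he)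
  · intro h
    rw [Set.eq_univ_iff_forall]
    intro x e he
    exact (nilpotent_iff_mem_prime.mp (h e he)) _ x.isPrime

end Groth.Agent.S4404
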