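import Groth.Statements.S4405
import Mathlib

set_option autoImplicit false
universe u
open EGA2

namespace Groth.Agent.S4405

/-- Let S be a ring graded in nonnegative degrees and E any subset of the irrelevant ideal S_+. Then the
intersection of S_+ with the vanishing ideal of the closed subset V_+(E) of Proj S equals the
intersection of S_+ with the radical of the graded ideal generated by E (the smallest homogeneous
ideal containing E). -/
theorem result {R A : Type u} [CommRing R] [CommRing A] [Algebra R A] (𝒜 : ℕ → Submodule R A) [GradedAlgebra 𝒜]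
    (E : Set A) (hE : E ⊆ (HomogeneousIdeal.irrelevant 𝒜).toIdeal) :
    (HomogeneousIdeal.irrelevant 𝒜).toIdeal ⊓
        (ProjectiveSpectrum.vanishingIdeal (ProjectiveSpectrum.zeroLocus 𝒜 E)).toIdeal =
      (HomogeneousIdeal.irrelevant 𝒜).toIdeal ⊓ (Ideal.homogeneousHull 𝒜 (Ideal.span E)).toIdeal.radical := by
  classical
  ext f
  simp only [Ideal.mem_inf]
  constructor
  · rintro ⟨hfirr, hfv⟩
    refine ⟨hfirr, ?_⟩
    rw [Ideal.IsHomogeneous.radical_eq (Ideal.homogeneousHull 𝒜 (Ideal.span E)).isHomogeneous,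
      Ideal.mem_sInf]
    rintro P ⟨hPhom, hJP, hPprime⟩
    by_cases hirr : HomogeneousIdeal.irrelevant 𝒜 ≤ (⟨P, hPhom⟩ : HomogeneousIdeal 𝒜)
    · exact hirr hfirr
    · let x : ProjectiveSpectrum 𝒜 := ⟨⟨P, hPhom⟩, hPprime, hirr⟩
      have hx : x ∈ ProjectiveSpectrum.zeroLocus 𝒜 E := by
        rw [ProjectiveSpectrum.mem_zeroLocus]
        intro e he
        exact hJP (Ideal.le_toIdeal_homogeneousHull 𝒜 (Ideal.span E) (Ideal.subset_span he))
      have := (ProjectiveSpectrum.mem_vanishingIdeal _ f).mp hfv x hx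
      exact this
  · rintro ⟨hfirr, hfr⟩
    refine ⟨hfirr, ?_⟩
    have hgoal : f ∈ ProjectiveSpectrum.vanishingIdeal (ProjectiveSpectrum.zeroLocus 𝒜 E) := by
      rw [ProjectiveSpectrum.mem_vanishingIdeal]
      intro x hx
      rw [ProjectiveSpectrum.mem_zeroLocus] at hx
      have h1 : Ideal.span E ≤ x.asHomogeneousIdeal.toIdeal := Ideal.span_le.mpr hx
      have h2 : Ideal.homogeneousHull 𝒜 (Ideal.span E) ≤ x.asHomogeneousIdeal :=
        (Ideal.homogeneousHull.gc 𝒜 _ _).mpr h1
      have h3 : (Ideal.homogeneousHull 𝒜 (Ideal.span E)).toIdeal.radical ≤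
          x.asHomogeneousIdeal.toIdeal :=
        (Ideal.IsPrime.radical_le_iff x.isPrime).mpr h2
      exact h3 hfr
    exact hgoal

end Groth.Agent.S4405
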