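import Groth.Statements.S4411
import Mathlib

set_option autoImplicit false
universe u
open EGA2

namespace Groth.Agent.S4411

theorem veronese_retraction {R A : Type u} [CommRing R] [CommRing A] [Algebra R A]
    (𝒜 : ℕ → Submodule R A) [GradedAlgebra 𝒜]
    {B : Type u} [CommRing B] [Algebra R B] (ℬ : ℕ → Submodule R B) [GradedAlgebra ℬ]
    (d : ℕ) (φ : B →ₐ[R] A)
    (hdeg : ∀ n : ℕ, Submodule.map φ.toLinearMap (ℬ n) = 𝒜 (n * d)) :
    ∃ ρ : A →ₗ[R] A, (∀ b : B, ρ (φ b) = φ b) ∧
      (∀ (b : B) (a : A), ρ (a * φ b) = ρ a * φ b) ∧ (∀ a : A, ∃ c : B, φ c = ρ a) := by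
  classical
  let ρ : A →ₗ[R] A :=
    (DirectSum.toModule R ℕ A (fun n => if d ∣ n then (𝒜 n).subtype else 0)) ∘ₗ
      (DirectSum.decomposeLinearEquiv 𝒜).toLinearMap
  have H : ∀ (m : ℕ) (a : A), a ∈ 𝒜 m → ρ a = if d ∣ m then a else 0 := by
    intro m a ha
    change (DirectSum.toModule R ℕ A (fun n => if d ∣ n then (𝒜 n).subtype else 0))
      (DirectSum.decompose 𝒜 a) = _
    rw [DirectSum.decompose_of_mem 𝒜 ha, ← DirectSum.lof_eq_of R, DirectSum.toModule_lof]
    split_ifs <;> simp
  have hmemφ : ∀ (n : ℕ) (b : B), b ∈ ℬ n → φ b ∈ 𝒜 (n * d) := by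
    intro n b hb
    rw [← hdeg n]
    exact Submodule.mem_map_of_mem hb
  have H3 : ∀ a : A, ∃ c : B, φ c = ρ a := by
    intro a
    induction a using DirectSum.Decomposition.inductionOn 𝒜 with
    | zero => exact ⟨0, by simp⟩
    | @homogeneous m a =>
      obtain ⟨a, ham⟩ := a
      change ∃ c : B, φ c = ρ a
      rw [H m a ham]
      split_ifs with hdm
      · obtain ⟨k, rfl⟩ := hdm
        rw [mul_comm, ← hdeg k] at ham
        obtain ⟨c, -, hc⟩ := ham
        exact ⟨c, hc⟩
      · exact ⟨0, by simp⟩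
    | add a a' iha iha' =>
      obtain ⟨c, hc⟩ := iha
      obtain ⟨c', hc'⟩ := iha'
      exact ⟨c + c', by rw [map_add, map_add, hc, hc']⟩
  have H1 : ∀ b : B, ρ (φ b) = φ b := by
    intro b
    induction b using DirectSum.Decomposition.inductionOn ℬ with
    | zero => simp
    | @homogeneous n b =>
      rw [H (n * d) _ (hmemφ n b b.2), if_pos (dvd_mul_left d n)]
    | add b b' ih ih' => rw [map_add, map_add, ih, ih']
  have H2 : ∀ (b : B) (a : A), ρ (a * φ b) = ρ a * φ b := by
    intro b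
    induction b using DirectSum.Decomposition.inductionOn ℬ with
    | zero => intro a; simp
    | @homogeneous n b =>
      intro a
      induction a using DirectSum.Decomposition.inductionOn 𝒜 with
      | zero => simp
      | @homogeneous m a =>
        have hmem : (a : A) * φ b ∈ 𝒜 (m + n * d) :=
          SetLike.mul_mem_graded a.2 (hmemφ n b b.2)
        have hdvd : d ∣ m + n * d ↔ d ∣ m := (Nat.dvd_add_iff_left (dvd_mul_left d n)).symm
        rw [H _ _ hmem, H _ _ a.2]
        by_cases hdm : d ∣ m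
        · rw [if_pos hdm, if_pos (hdvd.mpr hdm)]
        · rw [if_neg hdm, if_neg (fun h => hdm (hdvd.mp h)), zero_mul]
      | add a a' ih ih' => rw [add_mul, map_add, map_add, ih, ih', add_mul]
    | add b b' ih ih' =>
      intro a
      rw [map_add, mul_add, map_add, ih, ih', mul_add]
  exact ⟨ρ, H1, H2, H3⟩

theorem veronese_ft_aux {R A : Type u} [CommRing R] [CommRing A] [Algebra R A]
    (𝒜 : ℕ → Submodule R A) [GradedAlgebra 𝒜] [Algebra.FiniteType (𝒜 0) A]
    {B : Type u} [CommRing B] [Algebra R B] (ℬ : ℕ → Submodule R B) [GradedAlgebra ℬ]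
    (d : ℕ) (hd : 0 < d) (φ : B →ₐ[R] A) (hφ : Function.Injective φ)
    (hdeg : ∀ n : ℕ, Submodule.map φ.toLinearMap (ℬ n) = 𝒜 (n * d)) :
    Algebra.FiniteType (ℬ 0) B := by
  classical
  obtain ⟨ρ, H1, H2, H3⟩ := veronese_retraction 𝒜 ℬ d φ hdeg
  have hmemφ : ∀ (n : ℕ) (b : B), b ∈ ℬ n → φ b ∈ 𝒜 (n * d) := by
    intro n b hb
    rw [← hdeg n]
    exact Submodule.mem_map_of_mem hb
  have h0 : ∀ x : ℬ 0, φ (x : B) ∈ 𝒜 0 := fun x => by
    have := hmemφ 0 x x.2
    rwa [zero_mul] at this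
  let e₀ : ℬ 0 →+* 𝒜 0 :=
    { toFun := fun x => ⟨φ x, h0 x⟩
      map_one' := Subtype.ext (map_one φ)
      map_mul' := fun x y => Subtype.ext (map_mul φ (x : B) (y : B))
      map_zero' := Subtype.ext (map_zero φ)
      map_add' := fun x y => Subtype.ext (map_add φ (x : B) (y : B)) }
  have he₀ : Function.Surjective e₀ := by
    rintro ⟨y, hy⟩
    have hy' : y ∈ 𝒜 (0 * d) := by rwa [zero_mul]
    rw [← hdeg 0] at hy'
    obtain ⟨c, hc, hcy⟩ := hy'
    exact ⟨⟨c, hc⟩, Subtype.ext hcy⟩
  have hg : ((algebraMap (𝒜 0) A).comp e₀).FiniteType :=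
    RingHom.FiniteType.comp (RingHom.finiteType_algebraMap.mpr inferInstance)
      (RingHom.FiniteType.of_surjective e₀ he₀)
  letI algBA : Algebra B A := φ.toRingHom.toAlgebra
  letI alg0A : Algebra (ℬ 0) A := ((algebraMap (𝒜 0) A).comp e₀).toAlgebra
  haveI : IsScalarTower (ℬ 0) B A := IsScalarTower.of_algebraMap_eq (fun x => rfl)
  haveI ft0A : Algebra.FiniteType (ℬ 0) A := hg
  haveI ftBA : Algebra.FiniteType B A :=
    Algebra.FiniteType.of_restrictScalars_finiteType (ℬ 0) B A
  have hint : ∀ a : A, IsIntegral B a := by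
    intro a
    induction a using DirectSum.Decomposition.inductionOn 𝒜 with
    | zero => exact isIntegral_zero
    | @homogeneous m a =>
      obtain ⟨a, ham⟩ := a
      change IsIntegral B a
      refine IsIntegral.of_pow hd ?_
      have hpow : a ^ d ∈ 𝒜 (m * d) := by
        have := SetLike.pow_mem_graded d ham
        rwa [smul_eq_mul, mul_comm] at this
      rw [← hdeg m] at hpow
      obtain ⟨c, -, hc⟩ := hpow
      have : a ^ d = algebraMap B A c := hc.symm
      rw [this]
      exact isIntegral_algebraMap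
    | add a a' ih ih' => exact ih.add ih'
  haveI : Algebra.IsIntegral B A := ⟨hint⟩
  haveI finBA : Module.Finite B A := Algebra.IsIntegral.finite
  obtain ⟨B₀, hB₀fg, hB₀A⟩ := exists_subalgebra_of_fg (ℬ 0) B A ft0A.out finBA.fg_top
  choose r hr using H3
  let ρ' : A →ₗ[B] B :=
    { toFun := r
      map_add' := fun a a' => hφ (by rw [map_add, hr, hr, hr, map_add])
      map_smul' := fun b a => hφ (by
        have hsm : b • a = a * φ b := by rw [Algebra.smul_def, mul_comm]; rfl
        rw [RingHom.id_apply, smul_eq_mul, map_mul, hr, hr, hsm, H2, mul_comm]) }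
  have hρ' : Function.Surjective ρ' := by
    intro b
    refine ⟨φ b, hφ ?_⟩
    change φ (r (φ b)) = φ b
    rw [hr, H1]
  haveI : Module.Finite B₀ A := ⟨hB₀A⟩
  haveI : Module.Finite B₀ B := Module.Finite.of_surjective (ρ'.restrictScalars B₀) hρ'
  haveI h1 : Algebra.FiniteType (ℬ 0) B₀ := (Subalgebra.fg_iff_finiteType B₀).mp hB₀fg
  haveI h2 : Algebra.FiniteType B₀ B := inferInstance
  exact Algebra.FiniteType.trans h1 h2

/-- Let S be a ring graded in nonnegative degrees which is an S_0-algebra of finite type, d > 0, and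
S^{(d)} the graded ring whose degree-n part is S_{nd} (given here as any graded ring S' with an
injective algebra homomorphism φ : S' → S carrying S'_n onto S_{nd} for every n). Then S^{(d)} is an
algebra of finite type over its degree-zero part S'_0 (which φ identifies with S_0). -/
theorem result {R A : Type u} [CommRing R] [CommRing A] [Algebra R A] (𝒜 : ℕ → Submodule R A) [GradedAlgebra 𝒜] [Algebra.FiniteType (𝒜 0) A]
    {B : Type u} [CommRing B] [Algebra R B] (ℬ : ℕ → Submodule R B) [GradedAlgebra ℬ]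
    (d : ℕ) (hd : 0 < d) (φ : B →ₐ[R] A) (hφ : Function.Injective φ)
    (hdeg : ∀ n : ℕ, Submodule.map φ.toLinearMap (ℬ n) = 𝒜 (n * d)) :
    Algebra.FiniteType (ℬ 0) B := by
  exact veronese_ft_aux 𝒜 ℬ d hd φ hφ hdeg

end Groth.Agent.S4411
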