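import Groth.Statements.S4412
import Mathlib

set_option autoImplicit false
universe u
open EGA2

namespace Groth.Agent.S4412

theorem veronese_noeth_aux {R A : Type u} [CommRing R] [CommRing A] [Algebra R A]
    (𝒜 : ℕ → Submodule R A) [GradedAlgebra 𝒜] [IsNoetherianRing A]
    {B : Type u} [CommRing B] [Algebra R B] (ℬ : ℕ → Submodule R B) [GradedAlgebra ℬ]
    (d : ℕ) (φ : B →ₐ[R] A) (hφ : Function.Injective φ)
    (hdeg : ∀ n : ℕ, Submodule.map φ.toLinearMap (ℬ n) = 𝒜 (n * d)) :
    IsNoetherianRing B := by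
  classical
  let ρ : A →ₗ[R] A :=
    (DirectSum.toModule R ℕ A (fun n => if d ∣ n then (𝒜 n).subtype else 0)) ∘ₗ
      (DirectSum.decomposeLinearEquiv 𝒜).toLinearMap
  have H : ∀ (m : ℕ) (a : A), a ∈ 𝒜 m → ρ a = if d ∣ m then a else 0 := by
    intro m a ha
    change (DirectSum.toModule R ℕ A (fun n => if d ∣ n then (𝒜 n).subtype else 0))
      (DirectSum.decompose 𝒜 a) = _
    rw [DirectSum.decompose_of_mem 𝒜 ha, ← DirectSum.lof_eq_of R, DirectSum.toModule_lof]
    split_ifs <;> simp
  have hmemφ : ∀ (n : ℕ) (b : B), b ∈ ℬ n → φ b ∈ 𝒜 (n * d) := by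
    intro n b hb
    rw [← hdeg n]
    exact Submodule.mem_map_of_mem hb
  have H3 : ∀ a : A, ∃ c : B, φ c = ρ a := by
    intro a
    induction a using DirectSum.Decomposition.inductionOn 𝒜 with
    | zero => exact ⟨0, by simp⟩
    | @homogeneous m a =>
      obtain ⟨a, ham⟩ := a
      change ∃ c : B, φ c = ρ a
      rw [H m a ham]
      split_ifs with hdm
      · obtain ⟨k, rfl⟩ := hdm
        rw [mul_comm, ← hdeg k] at ham
        obtain ⟨c, -, hc⟩ := ham
        exact ⟨c, hc⟩
      · exact ⟨0, by simp⟩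
    | add a a' iha iha' =>
      obtain ⟨c, hc⟩ := iha
      obtain ⟨c', hc'⟩ := iha'
      exact ⟨c + c', by rw [map_add, map_add, hc, hc']⟩
  have H1 : ∀ b : B, ρ (φ b) = φ b := by
    intro b
    induction b using DirectSum.Decomposition.inductionOn ℬ with
    | zero => simp
    | @homogeneous n b =>
      rw [H (n * d) _ (hmemφ n b b.2), if_pos (dvd_mul_left d n)]
    | add b b' ih ih' => rw [map_add, map_add, ih, ih']
  have H2 : ∀ (b : B) (a : A), ρ (a * φ b) = ρ a * φ b := by
    intro b
    induction b using DirectSum.Decomposition.inductionOn ℬ with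
    | zero => intro a; simp
    | @homogeneous n b =>
      intro a
      induction a using DirectSum.Decomposition.inductionOn 𝒜 with
      | zero => simp
      | @homogeneous m a =>
        have hmem : (a : A) * φ b ∈ 𝒜 (m + n * d) :=
          SetLike.mul_mem_graded a.2 (hmemφ n b b.2)
        have hdvd : d ∣ m + n * d ↔ d ∣ m := (Nat.dvd_add_iff_left (dvd_mul_left d n)).symm
        rw [H _ _ hmem, H _ _ a.2]
        by_cases hdm : d ∣ m
        · rw [if_pos hdm, if_pos (hdvd.mpr hdm)]
        · rw [if_neg hdm, if_neg (fun h => hdm (hdvd.mp h)), zero_mul]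
      | add a a' ih ih' => rw [add_mul, map_add, map_add, ih, ih', add_mul]
    | add b b' ih ih' =>
      intro a
      rw [map_add, mul_add, map_add, ih, ih', mul_add]
  have claim : ∀ (I : Ideal B) (z : A), z ∈ Ideal.map φ I →
      ∀ a : A, ∃ y ∈ I, φ y = ρ (a * z) := by
    intro I z hz
    unfold Ideal.map at hz
    induction hz using Submodule.span_induction with
    | mem z hz =>
      intro a
      obtain ⟨y, hy, rfl⟩ := hz
      obtain ⟨c, hc⟩ := H3 a
      exact ⟨c * y, I.mul_mem_left c hy, by rw [H2, map_mul, hc]⟩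
    | zero => intro a; exact ⟨0, I.zero_mem, by simp⟩
    | add z z' _ _ ih ih' =>
      intro a
      obtain ⟨y, hy, hyz⟩ := ih a
      obtain ⟨y', hy', hyz'⟩ := ih' a
      exact ⟨y + y', I.add_mem hy hy', by rw [map_add, mul_add, map_add, hyz, hyz']⟩
    | smul c z _ ih =>
      intro a
      obtain ⟨y, hy, hyz⟩ := ih (a * c)
      exact ⟨y, hy, by rw [hyz, smul_eq_mul, mul_assoc]⟩
  have key : ∀ I : Ideal B, Ideal.comap φ (Ideal.map φ I) = I := by
    intro I
    refine le_antisymm ?_ Ideal.le_comap_map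
    intro x hx
    obtain ⟨y, hy, hyx⟩ := claim I (φ x) hx 1
    rw [one_mul, H1] at hyx
    rw [← hφ hyx]
    exact hy
  rw [isNoetherianRing_iff, ← monotone_stabilizes_iff_noetherian]
  intro f
  obtain ⟨n, hn⟩ := monotone_stabilizes_iff_noetherian.mpr (inferInstanceAs (IsNoetherian A A))
    ⟨fun n => Ideal.map φ (f n), fun i j hij => Ideal.map_mono (f.monotone hij)⟩
  refine ⟨n, fun m hm => ?_⟩
  have h1 : Ideal.map φ (f n) = Ideal.map φ (f m) := hn m hm
  have h2 := congrArg (Ideal.comap φ) h1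
  rw [key, key] at h2
  exact h2

/-- Let S be a ring graded in nonnegative degrees which is Noetherian, d > 0, and S^{(d)} the graded
ring with degree-n part S_{nd} (given as a graded ring S' with an injective algebra homomorphism φ :
S' → S carrying S'_n onto S_{nd} for every n). Then S^{(d)} is Noetherian. -/
theorem result {R A : Type u} [CommRing R] [CommRing A] [Algebra R A] (𝒜 : ℕ → Submodule R A) [GradedAlgebra 𝒜] [IsNoetherianRing A]
    {B : Type u} [CommRing B] [Algebra R B] (ℬ : ℕ → Submodule R B) [GradedAlgebra ℬ]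
    (d : ℕ) (hd : 0 < d) (φ : B →ₐ[R] A) (hφ : Function.Injective φ)
    (hdeg : ∀ n : ℕ, Submodule.map φ.toLinearMap (ℬ n) = 𝒜 (n * d)) :
    IsNoetherianRing B := by
  exact veronese_noeth_aux 𝒜 ℬ d φ hφ hdeg

end Groth.Agent.S4412
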