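import Groth.Statements.S4429
import Mathlib

set_option autoImplicit false
universe u
open EGA2

namespace Groth.Agent.S4429

open TensorProduct in
theorem aeval_baseChange_eq_zero {R : Type*} [CommRing R] {M : Type*} [AddCommGroup M]
    [Module R M] (S : Type*) [CommRing S] [Algebra R S] (f : Module.End R M)
    (p : Polynomial R) (hp : Polynomial.aeval f p = 0) :
    Polynomial.aeval (f.baseChange S : Module.End S (S ⊗[R] M)) (p.map (algebraMap R S)) = 0 := by
  rw [Polynomial.aeval_map_algebraMap]
  have := Polynomial.aeval_algHom_apply (Module.End.baseChangeHom R S M) f p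
  rw [show (f.baseChange S : Module.End S (S ⊗[R] M)) = Module.End.baseChangeHom R S M f from rfl,
    this, hp, map_zero]


/-- For an integral domain A with fraction field K, a finitely generated A-module E and an endomorphism
u of E, the coefficients of the characteristic polynomial of u ⊗ 1 acting on the K-vector space K
⊗_A E (the elementary symmetric functions of u, among them its trace and determinant) are integral
over A. -/
theorem result (A : Type u) [CommRing A] [IsDomain A] (K : Type u) [Field K]
    [Algebra A K] [IsFractionRing A K] (E : Type u) [AddCommGroup E] [Module A E] [Module.Finite A E]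
    (u : E →ₗ[A] E) (i : ℕ) :
    IsIntegral A (((u.baseChange K).charpoly).coeff i) := by
  classical
  obtain ⟨q, hqm, hq⟩ := LinearMap.exists_monic_and_aeval_eq_zero A u
  have hφq := aeval_baseChange_eq_zero K u q hq
  have hψq := aeval_baseChange_eq_zero (AlgebraicClosure K) (u.baseChange K) _ hφq
  have hcoef : IsIntegral A ((((u.baseChange K).baseChange (AlgebraicClosure K)).charpoly).coeff i) := by
    refine Polynomial.isIntegral_coeff_of_factors (R := A) _ ?_ (IsAlgClosed.splits _) ?_ i
    · rw [(LinearMap.charpoly_monic _).leadingCoeff]; exact isIntegral_one
    · intro x hx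
      have hev : Module.End.HasEigenvalue ((u.baseChange K).baseChange (AlgebraicClosure K)) x :=
        (Module.End.hasEigenvalue_iff_isRoot_charpoly _ x).mpr hx
      obtain ⟨v, hv⟩ := hev.exists_hasEigenvector
      have h1 := Module.End.aeval_apply_of_hasEigenvector hv
        (p := (q.map (algebraMap A K)).map (algebraMap K (AlgebraicClosure K)))
      rw [hψq] at h1
      have h2 : ((q.map (algebraMap A K)).map (algebraMap K (AlgebraicClosure K))).eval x = 0 := by
        by_contra hne
        have h3 : ((q.map (algebraMap A K)).map (algebraMap K (AlgebraicClosure K))).eval x • v = 0 := by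
          simpa using h1.symm
        rcases smul_eq_zero.mp h3 with h4 | h4
        · exact hne h4
        · exact hv.2 h4
      refine ⟨q, hqm, ?_⟩
      rw [Polynomial.map_map, Polynomial.eval_map] at h2
      rw [← h2, IsScalarTower.algebraMap_eq A K (AlgebraicClosure K)]
  rw [LinearMap.charpoly_baseChange, Polynomial.coeff_map] at hcoef
  exact (isIntegral_algebraMap_iff (algebraMap K (AlgebraicClosure K)).injective).mp hcoef

end Groth.Agent.S4429
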