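import Groth.Statements.S4430
import Mathlib
import Groth.Agent.S4429

set_option autoImplicit false
universe u
open EGA2

namespace Groth.Agent.S4430

theorem isUnit_of_integral_inv {A K : Type*} [CommRing A] [Field K] [Algebra A K]
    (hinj : Function.Injective (algebraMap A K)) (a : A) (b : K) (hb : IsIntegral A b)
    (hab : algebraMap A K a * b = 1) : IsUnit a := by
  obtain ⟨p, hpm, hp⟩ := hb
  have hb0 : b ≠ 0 := by rintro rfl; simp at hab
  letI : Invertible b := invertibleOfNonzero hb0
  have hinv : ⅟b = algebraMap A K a := by
    rw [invOf_eq_inv]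
    exact (eq_inv_of_mul_eq_one_left hab).symm
  have h1 := Polynomial.eval₂_reverse_mul_pow (algebraMap A K) b p
  rw [hp, hinv] at h1
  have h2 : Polynomial.eval₂ (algebraMap A K) (algebraMap A K a) p.reverse = 0 := by
    rcases mul_eq_zero.mp h1 with h | h
    · exact h
    · exact absurd h (pow_ne_zero _ hb0)
  rw [Polynomial.eval₂_at_apply] at h2
  have h3 : p.reverse.eval a = 0 := hinj (by rw [h2, map_zero])
  have h4 : p.reverse.coeff 0 = 1 := by rw [Polynomial.coeff_zero_reverse, hpm.leadingCoeff]
  have h5 := congrArg (Polynomial.eval a) (Polynomial.divX_mul_X_add p.reverse)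
  simp only [Polynomial.eval_add, Polynomial.eval_mul, Polynomial.eval_X, Polynomial.eval_C,
    h4, h3] at h5
  exact isUnit_iff_exists_inv.mpr ⟨-(p.reverse.divX.eval a), by linear_combination (-1 : A) * h5⟩


/-- Let A be an integral domain with fraction field K, E a finitely generated A-module and u an
endomorphism of E whose characteristic-polynomial coefficients (those of u ⊗ 1 on K ⊗_A E) all lie
in A. If u is an automorphism of E, then its determinant, as an element of A, is invertible in A. -/
theorem result (A : Type u) [CommRing A] [IsDomain A] (K : Type u) [Field K]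
    [Algebra A K] [IsFractionRing A K] (E : Type u) [AddCommGroup E] [Module A E] [Module.Finite A E]
    (u : E →ₗ[A] E) (hcoeff : ∀ i : ℕ, ((u.baseChange K).charpoly).coeff i ∈ (algebraMap A K).range)
    (a : A) (ha : algebraMap A K a = LinearMap.det (u.baseChange K)) (hu : Function.Bijective u) :
    IsUnit a := by
  classical
  let e : E ≃ₗ[A] E := LinearEquiv.ofBijective u hu
  have hvu : e.symm.toLinearMap ∘ₗ u = LinearMap.id := by
    ext x
    simp [e]
  have hK : (e.symm.toLinearMap.baseChange K) ∘ₗ (u.baseChange K) = LinearMap.id := by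
    rw [← LinearMap.baseChange_comp, hvu, LinearMap.baseChange_id]
  have hdet : LinearMap.det (e.symm.toLinearMap.baseChange K) * LinearMap.det (u.baseChange K) = 1 := by
    rw [← LinearMap.det_comp, hK, LinearMap.det_id]
  have hint : IsIntegral A (LinearMap.det (e.symm.toLinearMap.baseChange K)) := by
    rw [LinearMap.det_eq_sign_charpoly_coeff]
    exact IsIntegral.mul (IsIntegral.pow (IsIntegral.neg isIntegral_one) _)
      (Groth.Agent.S4429.result A K E e.symm.toLinearMap 0)
  exact isUnit_of_integral_inv (IsFractionRing.injective A K) a _ hint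
    (by rw [ha, mul_comm]; exact hdet)

end Groth.Agent.S4430
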