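import Groth.Statements.S4431
import Mathlib

set_option autoImplicit false
universe u
open EGA2

namespace Groth.Agent.S4431

theorem aeval_baseChange' {R : Type*} [CommRing R] {M : Type*} [AddCommGroup M]
    [Module R M] (S : Type*) [CommRing S] [Algebra R S] (f : Module.End R M)
    (p : Polynomial R) :
    Polynomial.aeval (f.baseChange S : Module.End S (TensorProduct R S M)) (p.map (algebraMap R S)) =
      (Polynomial.aeval f p).baseChange S := by
  rw [Polynomial.aeval_map_algebraMap]
  have := Polynomial.aeval_algHom_apply (Module.End.baseChangeHom R S M) f p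
  rw [show (f.baseChange S : Module.End S (TensorProduct R S M)) = Module.End.baseChangeHom R S M f from rfl,
    this]
  rfl


/-- Let A be an integral domain with fraction field K, E a finitely generated torsion-free A-module and
u an endomorphism of E whose characteristic-polynomial coefficients (those of u ⊗ 1 on K ⊗_A E) all
lie in A. If the determinant of u is the image of a unit of A, then u is an automorphism of E. -/
theorem result (A : Type u) [CommRing A] [IsDomain A] (K : Type u) [Field K]
    [Algebra A K] [IsFractionRing A K] (E : Type u) [AddCommGroup E] [Module A E] [Module.Finite A E]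
    [Module.IsTorsionFree A E]
    (u : E →ₗ[A] E) (hcoeff : ∀ i : ℕ, ((u.baseChange K).charpoly).coeff i ∈ (algebraMap A K).range)
    (a : A) (ha : algebraMap A K a = LinearMap.det (u.baseChange K)) (hunit : IsUnit a) :
    Function.Bijective u := by
  classical
  have hlift : (u.baseChange K).charpoly ∈ Polynomial.lifts (algebraMap A K) := by
    rw [Polynomial.lifts_iff_coeff_lifts]
    intro n
    exact RingHom.mem_range.mp (hcoeff n)
  obtain ⟨P, hP⟩ := (Polynomial.mem_lifts _).mp hlift
  have hinj : Function.Injective (TensorProduct.mk A K E 1) := by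
    rw [injective_iff_map_eq_zero]
    intro x hx
    rw [IsLocalizedModule.eq_zero_iff (nonZeroDivisors A)] at hx
    obtain ⟨s, hs⟩ := hx
    rcases (Module.isTorsionFree_iff_smul_eq_zero.mp inferInstance) s.1 x hs with h | h
    · exact absurd h (nonZeroDivisors.ne_zero s.2)
    · exact h
  have hzero : Polynomial.aeval u P = 0 := by
    ext x
    apply hinj
    have h1 := aeval_baseChange' K u P
    rw [hP, LinearMap.aeval_self_charpoly] at h1
    have h2 := LinearMap.congr_fun h1 (TensorProduct.tmul A (1 : K) x)
    rw [LinearMap.baseChange_tmul] at h2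
    simpa using h2.symm
  -- decomposition
  have hdec : Polynomial.aeval u P.divX * u + algebraMap A (Module.End A E) (P.coeff 0) = 0 := by
    rw [← hzero]
    conv_rhs => rw [← Polynomial.divX_mul_X_add P]
    simp
  have hcomm : u * Polynomial.aeval u P.divX = Polynomial.aeval u P.divX * u := by
    have h1 : Polynomial.aeval u (Polynomial.X * P.divX) = u * Polynomial.aeval u P.divX := by simp
    have h2 : Polynomial.aeval u (P.divX * Polynomial.X) = Polynomial.aeval u P.divX * u := by simp
    rw [← h1, ← h2, mul_comm]
  have hdec' : u * Polynomial.aeval u P.divX + algebraMap A (Module.End A E) (P.coeff 0) = 0 := by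
    rw [hcomm]; exact hdec
  -- the constant coefficient is a unit
  have hc0 : algebraMap A K (P.coeff 0) = (u.baseChange K).charpoly.coeff 0 := by
    rw [← hP, Polynomial.coeff_map]
  have hdet := LinearMap.det_eq_sign_charpoly_coeff (u.baseChange K)
  have hac : a = (-1) ^ Module.finrank K (TensorProduct A K E) * P.coeff 0 := by
    apply IsFractionRing.injective A K
    rw [ha, hdet, ← hc0]
    simp
  have hcu : IsUnit (P.coeff 0) := by
    have : IsUnit ((-1) ^ Module.finrank K (TensorProduct A K E) * P.coeff 0) := hac ▸ hunit
    exact (IsUnit.mul_iff.mp this).2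
  obtain ⟨c, hc⟩ := hcu
  rw [← Module.End.isUnit_iff]
  refine isUnit_iff_exists.mpr ⟨-((↑c⁻¹ : A) • Polynomial.aeval u P.divX), ?_, ?_⟩
  · have : u * Polynomial.aeval u P.divX = -(algebraMap A (Module.End A E) (P.coeff 0)) :=
      eq_neg_of_add_eq_zero_left hdec'
    rw [mul_neg, mul_smul_comm, this, ← hc, Algebra.algebraMap_eq_smul_one]
    simp [smul_smul]
  · have : Polynomial.aeval u P.divX * u = -(algebraMap A (Module.End A E) (P.coeff 0)) :=
      eq_neg_of_add_eq_zero_left hdec
    rw [neg_mul, smul_mul_assoc, this, ← hc, Algebra.algebraMap_eq_smul_one]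
    simp [smul_smul]

end Groth.Agent.S4431
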