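import Mathlib
import Groth.Statements.S4434
import Groth.Agent.Lib.Helper9.DVRDom
-- import your own Groth.Agent.* helpers here

set_option autoImplicit false
universe u
open EGA2

namespace Groth.Agent.S4434

open Groth.Agent.Helper9.DVRDom Polynomial

/-- if `x ∈ R[x⁻¹]` then `x` is integral over `R`. -/
theorem isIntegral_of_mem_adjoin_inv {R L : Type*} [CommRing R] [Field L] [Algebra R L] (x : L)
    (hx0 : x ≠ 0) (hx : x ∈ Algebra.adjoin R {x⁻¹}) : IsIntegral R x := by
  rw [Algebra.adjoin_singleton_eq_range_aeval] at hx
  obtain ⟨p, hp⟩ := hx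
  have hp' : eval₂ (algebraMap R L) x⁻¹ p = x := hp
  letI : Invertible x⁻¹ := invertibleOfNonzero (inv_ne_zero hx0)
  have hinv : ⅟(x⁻¹) = x := by rw [invOf_eq_inv, inv_inv]
  have h1 := eval₂_reflect_mul_pow (algebraMap R L) x⁻¹ p.natDegree p le_rfl
  rw [hinv, hp'] at h1
  have h2 : eval₂ (algebraMap R L) x (reflect p.natDegree p) = x ^ (p.natDegree + 1) := by
    have hxn : x⁻¹ ^ p.natDegree ≠ 0 := pow_ne_zero _ (inv_ne_zero hx0)
    have : eval₂ (algebraMap R L) x (reflect p.natDegree p) = x / x⁻¹ ^ p.natDegree := by
      rw [eq_div_iff hxn]; exact h1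
    rw [this, inv_pow, div_inv_eq_mul, pow_succ, mul_comm]
  have hdeg : (reflect p.natDegree p).degree < ((p.natDegree + 1 : ℕ) : WithBot ℕ) := by
    rw [degree_lt_iff_coeff_zero]
    intro m hm
    rw [coeff_reflect, revAt_eq_self_of_lt (Nat.lt_of_succ_le hm)]
    exact coeff_eq_zero_of_natDegree_lt (Nat.lt_of_succ_le hm)
  refine ⟨X ^ (p.natDegree + 1) - reflect p.natDegree p, monic_X_pow_sub hdeg, ?_⟩
  rw [eval₂_sub, eval₂_pow, eval₂_X, h2, sub_self]

/-- Let A be a Noetherian domain with field of fractions K and L a finitely generated field extension of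
K. The integral closure of A in L is the intersection of the discrete valuation subrings of L (with
fraction field L) containing the image of A: an element of L is integral over A exactly when it
belongs to all of them. -/
theorem result (A : Type u) [CommRing A] [IsDomain A] [IsNoetherianRing A]
    (K : Type u) [Field K] [Algebra A K] [IsFractionRing A K]
    (L : Type u) [Field L] [Algebra K L] [Algebra A L] [IsScalarTower A K L] (hfg : (⊤ : IntermediateField K L).FG) (x : L) :
    IsIntegral A x ↔ ∀ R : ValuationSubring L, IsDiscreteValuationRing R → (∀ a : A, algebraMap A L a ∈ R) → x ∈ R := by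
  classical
  have hinj : Function.Injective (algebraMap A L) := by
    rw [IsScalarTower.algebraMap_eq A K L]
    exact (algebraMap K L).injective.comp (IsFractionRing.injective A K)
  constructor
  · intro hx R _ hAR
    -- integral over the valuation ring
    let φ : A →+* R := (algebraMap A L).codRestrict R.toSubring hAR
    obtain ⟨p, hpm, hp⟩ := hx
    have hint : IsIntegral R x := by
      refine ⟨p.map φ, hpm.map φ, ?_⟩
      rw [eval₂_map]
      exact hp
    obtain ⟨y, hy⟩ := IsIntegrallyClosed.algebraMap_eq_of_integral hint
    rw [← hy]; exact y.2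
  · intro hall
    by_contra hx
    have hx0 : x ≠ 0 := by
      rintro rfl
      exact hx isIntegral_zero
    obtain ⟨T, hT⟩ := hfg
    haveI : IsNoetherianRing (algebraMap A L).range :=
      isNoetherianRing_of_surjective A _ (algebraMap A L).rangeRestrict
        (algebraMap A L).rangeRestrict_surjective
    have hT' := closure_eq_top_of_adjoin_eq_top A K (T : Set L) hT
    obtain ⟨C, hC⟩ : ∃ C : Subalgebra (algebraMap A L).range L,
        C = Algebra.adjoin (algebraMap A L).range {x⁻¹} := ⟨_, rfl⟩
    haveI hft : Algebra.FiniteType (algebraMap A L).range C := by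
      rw [hC]; exact Algebra.FiniteType.adjoin_of_finite (Set.finite_singleton _)
    haveI hnoeth' : IsNoetherianRing C := Algebra.FiniteType.isNoetherianRing (algebraMap A L).range C
    haveI hnoeth : IsNoetherianRing C.toSubring := hnoeth'
    have hAC : (algebraMap A L).range ≤ C.toSubring := fun a ha => C.algebraMap_mem ⟨a, ha⟩
    have hyC : x⁻¹ ∈ C.toSubring := by
      rw [hC]; exact Algebra.subset_adjoin rfl
    -- `x` is not integral over the range either
    have hx' : ¬ IsIntegral (algebraMap A L).range x := by
      rintro ⟨p, hpm, hp⟩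
      apply hx
      -- pull back the polynomial along `A → range`
      obtain ⟨q, hq⟩ := Polynomial.map_surjective (algebraMap A L).rangeRestrict
        (algebraMap A L).rangeRestrict_surjective p
      have hqinj : Function.Injective (algebraMap A L).rangeRestrict :=
        fun a b hab => hinj (congrArg Subtype.val hab)
      refine ⟨q, ?_, ?_⟩
      · exact Polynomial.monic_of_injective hqinj (hq ▸ hpm)
      · have : eval₂ (algebraMap (algebraMap A L).range L) x (q.map (algebraMap A L).rangeRestrict)
            = 0 := hq ▸ hp
        rw [eval₂_map] at this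
        exact this
    have hxC : x ∉ C.toSubring := by
      intro hmem
      apply hx'
      apply isIntegral_of_mem_adjoin_inv x hx0
      rw [← hC]; exact hmem
    have hJ : Ideal.span {(⟨x⁻¹, hyC⟩ : C.toSubring)} ≠ ⊤ := by
      intro htop
      rw [Ideal.eq_top_iff_one, Ideal.mem_span_singleton'] at htop
      obtain ⟨r, hr⟩ := htop
      have hr' : (r : L) * x⁻¹ = 1 := congrArg Subtype.val hr
      have : (r : L) = x := by
        field_simp at hr'
        exact hr'
      exact hxC (this ▸ r.2)
    have hT'' : Subfield.closure ((C.toSubring : Set L) ∪ (T : Set L)) = ⊤ := by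
      rw [eq_top_iff, ← hT']
      apply Subfield.closure_mono
      exact Set.union_subset_union_left _ hAC
    obtain ⟨V, hV, hCV, hJV⟩ := exists_dvr_dominating C.toSubring _ hJ ⟨x⁻¹, hyC⟩
      (Ideal.mem_span_singleton_self _) (fun h => inv_ne_zero hx0 (congrArg Subtype.val h)) T hT''
    have hxV : x ∈ V := hall V hV (fun a => hCV (hAC ⟨a, rfl⟩))
    have hnu : x⁻¹ ∈ V.nonunits := hJV ⟨x⁻¹, hyC⟩ (Ideal.mem_span_singleton_self _)
    rw [ValuationSubring.mem_nonunits_iff_or, inv_inv] at hnu
    rcases hnu with h | h
    · exact inv_ne_zero hx0 h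
    · exact h hxV

end Groth.Agent.S4434
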