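import Mathlib
import Groth.Statements.S4435
import Groth.Agent.Lib.Helper9.GenStalk
-- import your own Groth.Agent.* helpers here

set_option autoImplicit false
universe u
open CategoryTheory CategoryTheory.Limits AlgebraicGeometry
open EGA2

namespace Groth.Agent.S4435

open Groth.Agent.Helper9.GenStalk

/-- Let X, S be integral schemes and f : X ⟶ S a dominant morphism. If f is integral, the field of
rational functions of X is algebraic over that of S; if f is finite, it is a finite extension. Here
the extension is given by the stalk map of f at the generic point of X, whose source is the local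
ring of S at the generic point of S (f being dominant), i.e. the function field of S. -/
theorem result {X S : Scheme.{u}} [IsIntegral X] [IsIntegral S]
    (f : X ⟶ S) [IsDominant f] :
    (IsIntegralHom f → (f.stalkMap (genericPoint X)).hom.IsIntegral) ∧
      (IsFinite f → (f.stalkMap (genericPoint X)).hom.Finite) := by
  have hy : f.base (genericPoint X) = genericPoint S := map_genericPoint f
  have hR : IsField (S.presheaf.stalk (f.base (genericPoint X))) := by
    rw [hy]; exact Field.toIsField S.functionField
  obtain ⟨U, hU, hyU⟩ : ∃ U : S.Opens, IsAffineOpen U ∧ f.base (genericPoint X) ∈ U := by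
    obtain ⟨_, ⟨A, hA, rfl⟩, hxA, -⟩ := S.isBasis_affineOpens.exists_subset_of_mem_open
      (Set.mem_univ (f.base (genericPoint X))) isOpen_univ
    exact ⟨A, hA, hxA⟩
  have key : ∀ [IsAffineHom f],
      (∀ z : X.presheaf.stalk (genericPoint X), ∃ b s : Γ(X, f ⁻¹ᵁ U),
        z = (X.presheaf.germ (f ⁻¹ᵁ U) (genericPoint X) hyU).hom b *
          ((X.presheaf.germ (f ⁻¹ᵁ U) (genericPoint X) hyU).hom s)⁻¹) := by
    intro _
    have hV : IsAffineOpen (f ⁻¹ᵁ U) := hU.preimage f
    haveI : Nonempty (f ⁻¹ᵁ U) := ⟨⟨genericPoint X, hyU⟩⟩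
    haveI := functionField_isFractionRing_of_isAffineOpen X (f ⁻¹ᵁ U) hV
    intro z
    obtain ⟨b, s, -, hz⟩ := IsFractionRing.div_surjective (A := Γ(X, f ⁻¹ᵁ U)) z
    exact ⟨b, s, by rw [← hz, div_eq_mul_inv]; rfl⟩
  have hcomp : (f.stalkMap (genericPoint X)).hom.comp (S.presheaf.germ U _ hyU).hom =
      (X.presheaf.germ (f ⁻¹ᵁ U) (genericPoint X) hyU).hom.comp (f.app U).hom := by
    have := Scheme.Hom.germ_stalkMap f U (genericPoint X) hyU
    rw [← CommRingCat.hom_comp, ← CommRingCat.hom_comp, this]
  constructor
  · intro hf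
    exact isIntegral_of_frac _ _ _ _ hcomp hR key (f.isIntegral_app U hU)
  · intro hf
    exact finite_of_frac _ _ _ _ hcomp hR key (f.finite_app U hU)

end Groth.Agent.S4435
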