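import Mathlib
import Groth.Statements.S4437
import Groth.Agent.Lib.Helper9.FinSplit2
-- import your own Groth.Agent.* helpers here

set_option autoImplicit false
universe u
open CategoryTheory CategoryTheory.Limits AlgebraicGeometry
open EGA2

namespace Groth.Agent.S4437

open Groth.Agent.Helper9

/-- Let A be a complete Noetherian local ring and f : X ⟶ Spec A a separated quasi-finite morphism (of
finite type with discrete fibres). Then X splits as a disjoint sum of two open subschemes, one
finite over Spec A and containing the fibre over the closed point, the other not meeting that fibre: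
there is an open and closed U ⊆ X, finite over Spec A, containing every point lying over the closed
point. -/
theorem result (A : Type u) [CommRing A] [IsLocalRing A]
    [IsNoetherianRing A] [IsAdicComplete (IsLocalRing.maximalIdeal A) A] (X : Scheme.{u})
    (f : X ⟶ Spec (CommRingCat.of A)) [LocallyOfFiniteType f] [QuasiCompact f] [IsSeparated f] [LocallyQuasiFinite f] :
    ∃ U : X.Opens, IsClosed (U : Set X) ∧ IsFinite (U.ι ≫ f) ∧
      ∀ x : X, f.base x = IsLocalRing.closedPoint A → x ∈ U := by
  classical
  have hfib : (f.base ⁻¹' {IsLocalRing.closedPoint A}).Finite := f.finite_preimage_singleton _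
  haveI : Finite ↥(f.base ⁻¹' {IsLocalRing.closedPoint A}) := hfib.to_subtype
  have step : ∀ x : ↥(f.base ⁻¹' {IsLocalRing.closedPoint A}), ∃ U : X.Opens, x.1 ∈ U ∧
      IsAffineOpen U ∧ IsFinite (U.ι ≫ f) := by
    rintro ⟨x, hx⟩
    obtain ⟨_, ⟨W, hW, rfl⟩, hxW, -⟩ := X.isBasis_affineOpens.exists_subset_of_mem_open
      (Set.mem_univ x) isOpen_univ
    obtain ⟨U, hUW, hU, hfin, -, hcl, hfibU⟩ := FinSplit.core A X f W hW
    exact ⟨U, hfibU x hxW hx, hU, hfin⟩
  choose Ux hxU haff hfin using step
  have hUc : IsCompact ((⨆ x, Ux x : X.Opens) : Set X) := by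
    rw [TopologicalSpace.Opens.coe_iSup]
    exact isCompact_iUnion fun x => (haff x).isCompact
  haveI : CompactSpace ((⨆ x, Ux x : X.Opens) : Scheme.{u}) := isCompact_iff_compactSpace.mp hUc
  haveI : QuasiCompact ((⨆ x, Ux x).ι ≫ f) := (HasAffineProperty.iff_of_isAffine (P := @QuasiCompact)).mpr inferInstance
  haveI : UniversallyClosed ((⨆ x, Ux x).ι ≫ f) :=
    FinSplit.universallyClosed_iSup f Ux (fun x => by haveI := hfin x; infer_instance)
  haveI : IsProper ((⨆ x, Ux x).ι ≫ f) := {}
  refine ⟨⨆ x, Ux x, ?_, IsFinite.of_isProper_of_locallyQuasiFinite _, ?_⟩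
  · haveI : UniversallyClosed ((⨆ x, Ux x).ι) := UniversallyClosed.of_comp_of_isSeparated _ f
    have := (⨆ x, Ux x).ι.isClosedMap.isClosed_range
    rwa [Scheme.Opens.range_ι] at this
  · intro x hx
    exact TopologicalSpace.Opens.mem_iSup.mpr ⟨⟨x, hx⟩, hxU ⟨x, hx⟩⟩

end Groth.Agent.S4437
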