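import Groth.Statements.S4442
import Mathlib
import Groth.Agent.S1620
import Groth.Agent.S1621
import Groth.Agent.S2680
import Groth.Agent.S2143

set_option autoImplicit false
universe u
open CategoryTheory CategoryTheory.Limits AlgebraicGeometry
attribute [local instance] Curv2.resAlgebra
open EGA2

namespace Groth.Agent.S4442

section ring

theorem height_max_eq_one (A : Type u) [CommRing A] (m : Ideal A) [hm : m.IsMaximal]
    (h : ∀ Q ∈ minimalPrimes A, Q ≤ m → ringKrullDim (A ⧸ Q) = 1) : m.height = 1 := by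
  haveI hmp : m.IsPrime := hm.isPrime
  apply le_antisymm
  · have e : m.height = Order.height (⟨m, hmp⟩ : PrimeSpectrum A) :=
      (⟨m, hmp⟩ : PrimeSpectrum A).height_eq_orderHeight
    rw [e, Order.height_le_iff]
    intro q hq
    haveI := q.head.isPrime
    obtain ⟨Q, hQmin, hQle⟩ := Ideal.exists_minimalPrimes_le (bot_le : ⊥ ≤ q.head.asIdeal)
    have hmono : ∀ i, q.head ≤ q i := fun i => q.monotone (Fin.zero_le i)
    have hQM : Q ≤ m := hQle.trans ((hmono (Fin.last _)).trans hq)
    haveI hQprime : Q.IsPrime := hQmin.1.1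
    have h1 : (q.length : WithBot ℕ∞) ≤ ringKrullDim (A ⧸ Q) := by
      rw [ringKrullDim_quotient]
      exact Order.LTSeries.length_le_krullDim
        ({ length := q.length
           toFun := fun i => ⟨q i, hQle.trans (hmono i)⟩
           step := fun i => q.step i } : LTSeries ↥(PrimeSpectrum.zeroLocus (Q : Set A)))
    rw [h Q hQmin hQM] at h1
    exact_mod_cast h1
  · rw [Order.one_le_iff_ne_zero, Ne, Ideal.height_eq_zero_iff]
    intro hmin
    have h1 := h m hmin le_rfl
    have h0 : ringKrullDim (A ⧸ m) = 0 :=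
      ringKrullDim_eq_zero_of_isField ((Ideal.Quotient.maximal_ideal_iff_isField_quotient m).mp hm)
    rw [h0] at h1
    exact zero_ne_one h1

theorem dim_quot_eq_one (k A : Type u) [Field k] [CommRing A] [Algebra k A]
    [Algebra.FiniteType k A] (P m : Ideal A) [hP : P.IsPrime] [hm : m.IsMaximal]
    (hPmin : P ∈ minimalPrimes A) (hPm : P ≤ m) (hht : m.height = 1) :
    ringKrullDim (A ⧸ P) = 1 := by
  haveI hmp : m.IsPrime := hm.isPrime
  haveI hm'max : (m.map (Ideal.Quotient.mk P)).IsMaximal :=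
    Ideal.IsMaximal.map_of_surjective_of_ker_le Ideal.Quotient.mk_surjective
      (by rw [Ideal.mk_ker]; exact hPm)
  haveI hm'prime := hm'max.isPrime
  have h2 := Groth.Agent.S2680.height_eq_of_isMaximal k (A ⧸ P) (m.map (Ideal.Quotient.mk P))
  have h4 := Groth.Agent.S2143.height_quot_le P m hPm
  rw [hht] at h4
  have h5 : (m.map (Ideal.Quotient.mk P)).height ≠ 0 := by
    rw [Ne, Ideal.height_eq_zero_iff_eq_bot]
    intro h0
    have hmP : m ≤ P := by
      intro a ha
      have h6 : Ideal.Quotient.mk P a ∈ m.map (Ideal.Quotient.mk P) := Ideal.mem_map_of_mem _ ha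
      rw [h0, Ideal.mem_bot] at h6
      exact Ideal.Quotient.eq_zero_iff_mem.mp h6
    have hPm' : P = m := le_antisymm hPm hmP
    have h7 : m.height = 0 := by
      rw [Ideal.height_eq_zero_iff, ← hPm']
      exact hPmin
    rw [hht] at h7
    exact one_ne_zero h7
  have h6 : (m.map (Ideal.Quotient.mk P)).height = 1 :=
    le_antisymm h4 (Order.one_le_iff_ne_zero.mpr h5)
  rw [← h2, h6]
  rfl

end ring

section scheme

theorem exists_affine (X : Scheme.{u}) (x : X) : ∃ V : X.Opens, IsAffineOpen V ∧ x ∈ V := by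
  obtain ⟨_, ⟨V, hV : IsAffineOpen V, rfl⟩, hxV, -⟩ :=
    X.isBasis_affineOpens.exists_subset_of_mem_open (Set.mem_univ x) isOpen_univ
  exact ⟨V, hV, hxV⟩

theorem dim_stalk_eq_height {X : Scheme.{u}} (V : X.Opens) (hV : IsAffineOpen V) (x : X)
    (hxV : x ∈ V) :
    ringKrullDim (X.presheaf.stalk x) =
      ((hV.primeIdealOf ⟨x, hxV⟩).asIdeal.height : WithBot ℕ∞) := by
  letI : Algebra Γ(X, V) (X.presheaf.stalk x) :=
    TopCat.Presheaf.algebra_section_stalk X.presheaf (⟨x, hxV⟩ : V)
  haveI : IsLocalization.AtPrime (X.presheaf.stalk x) (hV.primeIdealOf ⟨x, hxV⟩).asIdeal :=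
    hV.isLocalization_stalk ⟨x, hxV⟩
  exact IsLocalization.AtPrime.ringKrullDim_eq_height (hV.primeIdealOf ⟨x, hxV⟩).asIdeal
    (X.presheaf.stalk x)

theorem fromSpec_mem {X : Scheme.{u}} (V : X.Opens) (hV : IsAffineOpen V)
    (z : PrimeSpectrum Γ(X, V)) : hV.fromSpec z ∈ V := by
  have h : hV.fromSpec z ∈ Set.range hV.fromSpec := ⟨z, rfl⟩
  rw [hV.range_fromSpec] at h
  exact h

theorem primeIdealOf_fromSpec {X : Scheme.{u}} (V : X.Opens) (hV : IsAffineOpen V)
    (z : PrimeSpectrum Γ(X, V)) :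
    hV.primeIdealOf ⟨hV.fromSpec z, fromSpec_mem V hV z⟩ = z := by
  haveI := hV.isOpenImmersion_fromSpec
  have hj : Topology.IsOpenEmbedding ⇑hV.fromSpec := hV.fromSpec.isOpenEmbedding
  apply hj.injective
  exact hV.fromSpec_primeIdealOf ⟨_, fromSpec_mem V hV z⟩

theorem trdeg_eq (k : Type u) [Field k] (X : Scheme.{u}) [X.Over (Spec (CommRingCat.of k))]
    [LocallyOfFiniteType (X ↘ (Spec (CommRingCat.of k)))]
    (V : X.Opens) (hV : IsAffineOpen V) (x : X) (hxV : x ∈ V) :
    ∃ d : ℕ, ringKrullDim (Γ(X, V) ⧸ (hV.primeIdealOf ⟨x, hxV⟩).asIdeal) = d ∧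
      Algebra.trdeg k (X.residueField x) = d := by
  letI : Algebra k Γ(X, V) := (Groth.Agent.S1621.phi k X V).toAlgebra
  haveI : Algebra.FiniteType k Γ(X, V) := Groth.Agent.S1621.phi_finiteType k X V hV
  obtain ⟨E⟩ := Groth.Agent.S1621.exists_resEquiv k X V hV x hxV
  obtain ⟨d, hd, htr⟩ := Groth.Agent.S1620.trdeg_resField k Γ(X, V)
    (hV.primeIdealOf ⟨x, hxV⟩).asIdeal
  exact ⟨d, hd, by rw [← E.trdeg_eq, htr]⟩

theorem isClosed_iff_isMaximal (k : Type u) [Field k] (X : Scheme.{u})
    [X.Over (Spec (CommRingCat.of k))]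
    [LocallyOfFiniteType (X ↘ (Spec (CommRingCat.of k)))]
    (V : X.Opens) (hV : IsAffineOpen V) (x : X) (hxV : x ∈ V) :
    IsClosed ({x} : Set X) ↔ (hV.primeIdealOf ⟨x, hxV⟩).asIdeal.IsMaximal := by
  haveI : JacobsonSpace X := LocallyOfFiniteType.jacobsonSpace (X ↘ (Spec (CommRingCat.of k)))
  haveI := hV.isOpenImmersion_fromSpec
  have hj : Topology.IsOpenEmbedding ⇑hV.fromSpec := hV.fromSpec.isOpenEmbedding
  set y := hV.primeIdealOf ⟨x, hxV⟩ with hy
  have hjy : hV.fromSpec y = x := hV.fromSpec_primeIdealOf ⟨x, hxV⟩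
  rw [← PrimeSpectrum.isClosed_singleton_iff_isMaximal]
  constructor
  · intro hcl
    have h1 : ({y} : Set (PrimeSpectrum Γ(X, V))) = ⇑hV.fromSpec ⁻¹' {x} := by
      ext z
      simp only [Set.mem_singleton_iff, Set.mem_preimage]
      constructor
      · rintro rfl
        exact hjy
      · intro hz
        exact hj.injective (hz.trans hjy.symm)
    rw [h1]
    exact hcl.preimage hj.continuous
  · intro hcl
    apply isClosed_singleton_of_isLocallyClosed_singleton
    have h1 : ({x} : Set X) = ⇑hV.fromSpec '' ({y} : Set (PrimeSpectrum Γ(X, V))) := by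
      ext a
      constructor
      · intro ha
        rw [Set.mem_singleton_iff] at ha
        rw [ha]
        exact ⟨y, Set.mem_singleton y, hjy⟩
      · rintro ⟨b, hb, rfl⟩
        have hby : b = y := hb
        rw [hby]
        exact Set.mem_singleton_iff.mpr hjy
    rw [h1]
    exact IsLocallyClosed.image hcl.isLocallyClosed hj.isInducing hj.isOpen_range.isLocallyClosed

theorem minimal_of_irrComp {X : Scheme.{u}} (V : X.Opens) (hV : IsAffineOpen V) (x : X)
    (hxV : x ∈ V) (hx : closure ({x} : Set X) ∈ irreducibleComponents X) :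
    (hV.primeIdealOf ⟨x, hxV⟩).asIdeal ∈ minimalPrimes Γ(X, V) := by
  haveI := hV.isOpenImmersion_fromSpec
  have hj : Topology.IsOpenEmbedding ⇑hV.fromSpec := hV.fromSpec.isOpenEmbedding
  set y := hV.primeIdealOf ⟨x, hxV⟩ with hy
  have hjy : hV.fromSpec y = x := hV.fromSpec_primeIdealOf ⟨x, hxV⟩
  rw [minimalPrimes_eq_minimals]
  refine ⟨y.isPrime, ?_⟩
  intro Q hQ hQy
  have h1 : hV.fromSpec (⟨Q, hQ⟩ : PrimeSpectrum Γ(X, V)) ⤳ x := by
    rw [← hjy]
    exact ((PrimeSpectrum.le_iff_specializes ⟨Q, hQ⟩ y).mp hQy).map hj.continuous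
  have h2 : closure ({x} : Set X) ⊆ closure {hV.fromSpec (⟨Q, hQ⟩ : PrimeSpectrum Γ(X, V))} :=
    closure_minimal (Set.singleton_subset_iff.mpr (specializes_iff_mem_closure.mp h1))
      isClosed_closure
  have h3 : closure {hV.fromSpec (⟨Q, hQ⟩ : PrimeSpectrum Γ(X, V))} ⊆ closure ({x} : Set X) :=
    hx.2 (isIrreducible_singleton.closure) h2
  have h4 : x ⤳ hV.fromSpec (⟨Q, hQ⟩ : PrimeSpectrum Γ(X, V)) :=
    specializes_iff_mem_closure.mpr (h3 (subset_closure (Set.mem_singleton _)))
  have h5 : hV.fromSpec (⟨Q, hQ⟩ : PrimeSpectrum Γ(X, V)) = x := (h1.antisymm h4).eq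
  have h6 : (⟨Q, hQ⟩ : PrimeSpectrum Γ(X, V)) = y := hj.injective (h5.trans hjy.symm)
  exact (congrArg PrimeSpectrum.asIdeal h6).ge

theorem irrComp_of_minimal {X : Scheme.{u}} (V : X.Opens) (hV : IsAffineOpen V)
    (z : PrimeSpectrum Γ(X, V)) (hz : z.asIdeal ∈ minimalPrimes Γ(X, V)) :
    closure ({hV.fromSpec z} : Set X) ∈ irreducibleComponents X := by
  haveI := hV.isOpenImmersion_fromSpec
  have hj : Topology.IsOpenEmbedding ⇑hV.fromSpec := hV.fromSpec.isOpenEmbedding
  refine ⟨isIrreducible_singleton.closure, ?_⟩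
  intro T hT hle
  obtain ⟨t, ht⟩ := QuasiSober.sober hT.closure isClosed_closure
  have h1 : hV.fromSpec z ∈ closure ({t} : Set X) := by
    rw [ht.def]
    exact subset_closure (hle (subset_closure (Set.mem_singleton _)))
  have h2 : t ⤳ hV.fromSpec z := specializes_iff_mem_closure.mpr h1
  have htV : t ∈ V := h2.mem_open V.isOpen (fromSpec_mem V hV z)
  set w := hV.primeIdealOf ⟨t, htV⟩ with hw
  have hjw : hV.fromSpec w = t := hV.fromSpec_primeIdealOf ⟨t, htV⟩
  have h3 : w ≤ z := by
    rw [PrimeSpectrum.le_iff_specializes]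
    apply hj.isInducing.specializes_iff.mp
    rw [hjw]
    exact h2
  have h4 : z.asIdeal ≤ w.asIdeal := by
    rw [minimalPrimes_eq_minimals] at hz
    exact hz.2 w.isPrime h3
  have h5 : w = z := le_antisymm h3 h4
  have h6 : t = hV.fromSpec z := by rw [← hjw, h5]
  intro a ha
  have h7 : a ∈ closure ({t} : Set X) := by
    rw [ht.def]
    exact subset_closure ha
  rw [h6] at h7
  exact h7

end scheme

/-- (a) ⇔ (b): let X be a scheme of finite type over a field k. The residue fields of the generic points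
of the irreducible components of X all have transcendence degree one over k if and only if the local
ring of X at every closed point has dimension one. (The published statement has a third equivalent
condition: the irreducible closed subsets of X other than the irreducible components are exactly the
closed points of X. This row states only the equivalence of the first two.) -/
theorem result (k : Type u) [Field k] (X : Scheme.{u})
    [X.Over (Spec (CommRingCat.of k))] [LocallyOfFiniteType (X ↘ (Spec (CommRingCat.of k)))]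
    [QuasiCompact (X ↘ (Spec (CommRingCat.of k)))] :
    (∀ x : X, closure ({x} : Set X) ∈ irreducibleComponents (X : Type u) → Algebra.trdeg k (X.residueField x) = 1) ↔
      ∀ x : X, IsClosed ({x} : Set X) → ringKrullDim (X.presheaf.stalk x) = 1 := by
  constructor
  · intro H1 x hxcl
    obtain ⟨V, hV, hxV⟩ := exists_affine X x
    letI : Algebra k Γ(X, V) := (Groth.Agent.S1621.phi k X V).toAlgebra
    haveI : Algebra.FiniteType k Γ(X, V) := Groth.Agent.S1621.phi_finiteType k X V hV
    haveI hmax := (isClosed_iff_isMaximal k X V hV x hxV).mp hxcl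
    rw [dim_stalk_eq_height V hV x hxV]
    have key : (hV.primeIdealOf ⟨x, hxV⟩).asIdeal.height = 1 := by
      apply height_max_eq_one Γ(X, V)
      intro Q hQmin hQle
      haveI hQp : Q.IsPrime := hQmin.1.1
      have hcomp := irrComp_of_minimal V hV (⟨Q, hQp⟩ : PrimeSpectrum Γ(X, V)) hQmin
      have htr := H1 _ hcomp
      obtain ⟨d, hd, hd'⟩ := trdeg_eq k X V hV
        (hV.fromSpec (⟨Q, hQp⟩ : PrimeSpectrum Γ(X, V))) (fromSpec_mem V hV _)
      rw [primeIdealOf_fromSpec V hV] at hd
      rw [htr] at hd'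
      have hd1 : d = 1 := by exact_mod_cast hd'.symm
      rw [hd1] at hd
      exact_mod_cast hd
    rw [key]
    rfl
  · intro H2 ξ hξ
    obtain ⟨V, hV, hξV⟩ := exists_affine X ξ
    letI : Algebra k Γ(X, V) := (Groth.Agent.S1621.phi k X V).toAlgebra
    haveI : Algebra.FiniteType k Γ(X, V) := Groth.Agent.S1621.phi_finiteType k X V hV
    have hymin := minimal_of_irrComp V hV ξ hξV hξ
    haveI hyp : (hV.primeIdealOf ⟨ξ, hξV⟩).asIdeal.IsPrime := (hV.primeIdealOf ⟨ξ, hξV⟩).isPrime
    obtain ⟨m, hmmax, hym⟩ := Ideal.exists_le_maximal (hV.primeIdealOf ⟨ξ, hξV⟩).asIdeal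
      hyp.ne_top
    haveI := hmmax
    haveI hmp : m.IsPrime := hmmax.isPrime
    have hpw := primeIdealOf_fromSpec V hV (⟨m, hmp⟩ : PrimeSpectrum Γ(X, V))
    have hcl : IsClosed ({hV.fromSpec (⟨m, hmp⟩ : PrimeSpectrum Γ(X, V))} : Set X) := by
      rw [isClosed_iff_isMaximal k X V hV _ (fromSpec_mem V hV _), hpw]
      exact hmmax
    have hdim := H2 _ hcl
    rw [dim_stalk_eq_height V hV _ (fromSpec_mem V hV _), hpw] at hdim
    have hht : m.height = 1 := by exact_mod_cast hdim
    have hone := dim_quot_eq_one k Γ(X, V) (hV.primeIdealOf ⟨ξ, hξV⟩).asIdeal m hymin hym hht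
    obtain ⟨d, hd, hd'⟩ := trdeg_eq k X V hV ξ hξV
    rw [hone] at hd
    have hd1 : d = 1 := by exact_mod_cast hd.symm
    rw [hd', hd1]
    simp

end Groth.Agent.S4442
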