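import Mathlib
import Groth.Statements.S4445
import Groth.Agent.Lib.Helper9.CurveBase
-- import your own Groth.Agent.* helpers here

set_option autoImplicit false
universe u
open CategoryTheory CategoryTheory.Limits AlgebraicGeometry
attribute [local instance] Curv2.stalkAlgebra
open EGA2

namespace Groth.Agent.S4445


/-- Let X be a normal irreducible algebraic curve over a field k with field of rational functions K, and
Y an integral complete (proper over k) algebraic curve with field of rational functions L. Dominant
k-morphisms X ⟶ Y correspond bijectively to k-embeddings L → K: for every k-algebra homomorphism φ :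
L → K there is exactly one k-morphism u : X ⟶ Y mapping the generic point of X to the generic point
of Y and inducing φ on the stalks at the generic points. -/
theorem result (k : Type u) [Field k] (X Y : Scheme.{u})
    [X.Over (Spec (CommRingCat.of k))] [LocallyOfFiniteType (X ↘ (Spec (CommRingCat.of k)))]
    [QuasiCompact (X ↘ (Spec (CommRingCat.of k)))] [IsSeparated (X ↘ (Spec (CommRingCat.of k)))] [IsIntegral X]
    (hX : ∀ x : X, IsClosed ({x} : Set X) → ringKrullDim (X.presheaf.stalk x) = 1) (hnorm : Pi1.IsNormalScheme X)
    [Y.Over (Spec (CommRingCat.of k))] [IsProper (Y ↘ (Spec (CommRingCat.of k)))] [IsIntegral Y]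
    (hY : ∀ y : Y, IsClosed ({y} : Set Y) → ringKrullDim (Y.presheaf.stalk y) = 1)
    (φ : Y.functionField →ₐ[k] X.functionField) :
    ∃! u : X ⟶ Y, u ≫ (Y ↘ (Spec (CommRingCat.of k))) = X ↘ (Spec (CommRingCat.of k)) ∧
      ∃ hu : u.base (genericPoint X) = genericPoint Y,
        (Y.presheaf.stalkSpecializes (specializes_of_eq hu) ≫ u.stalkMap (genericPoint X)).hom = (φ : Y.functionField →+* X.functionField) := by
  let φ' : Y.functionField ⟶ X.functionField :=
    CommRingCat.ofHom (φ : Y.functionField →+* X.functionField)
  let i₁ : Spec X.functionField ⟶ Y := Spec.map φ' ≫ Y.fromSpecStalk (genericPoint Y)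
  have hi₁ : i₁ ≫ (Y ↘ (Spec (CommRingCat.of k))) =
      X.fromSpecStalk (genericPoint X) ≫ (X ↘ (Spec (CommRingCat.of k))) := by
    rw [Category.assoc, Groth.Agent.Helper9.CurveBase.fromSpecStalk_over,
      Groth.Agent.Helper9.CurveBase.fromSpecStalk_over, ← Spec.map_comp]
    congr 1
    ext c
    exact φ.commutes c
  obtain ⟨u, hu1, hu2⟩ := Groth.Agent.Helper9.CurveBase.exists_hom_of_generic k X Y hX
    (fun x => (hnorm x).2) i₁ hi₁
  have key : ∀ v : X ⟶ Y, (∃ hv : v.base (genericPoint X) = genericPoint Y,
      (Y.presheaf.stalkSpecializes (specializes_of_eq hv) ≫ v.stalkMap (genericPoint X)).hom =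
        (φ : Y.functionField →+* X.functionField)) ↔
      X.fromSpecStalk (genericPoint X) ≫ v = i₁ := by
    intro v
    constructor
    · rintro ⟨hv, hφ⟩
      have h4 : Y.presheaf.stalkSpecializes (specializes_of_eq hv) ≫ v.stalkMap (genericPoint X) =
          φ' := CommRingCat.hom_ext hφ
      rw [← Scheme.SpecMap_stalkMap_fromSpecStalk,
        ← Scheme.SpecMap_stalkSpecializes_fromSpecStalk (specializes_of_eq hv),
        ← Category.assoc, ← Spec.map_comp, h4]
    · intro hv
      have hpt : v.base (genericPoint X) = genericPoint Y := by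
        have h1 := congr($hv (IsLocalRing.closedPoint X.functionField))
        rw [Scheme.Hom.comp_apply, Scheme.fromSpecStalk_closedPoint] at h1
        refine h1.trans ?_
        show (Spec.map φ' ≫ Y.fromSpecStalk (genericPoint Y)) (IsLocalRing.closedPoint _) = _
        rw [Scheme.Hom.comp_apply]
        have h5 : (Spec.map φ') (IsLocalRing.closedPoint X.functionField) =
            IsLocalRing.closedPoint Y.functionField :=
          @Subsingleton.elim (PrimeSpectrum Y.functionField) inferInstance _ _
        rw [h5, Scheme.fromSpecStalk_closedPoint]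
      refine ⟨hpt, ?_⟩
      have h2 : Spec.map (Y.presheaf.stalkSpecializes (specializes_of_eq hpt) ≫
          v.stalkMap (genericPoint X)) ≫ Y.fromSpecStalk (genericPoint Y) =
          Spec.map φ' ≫ Y.fromSpecStalk (genericPoint Y) := by
        rw [Spec.map_comp, Category.assoc, Scheme.SpecMap_stalkSpecializes_fromSpecStalk,
          Scheme.SpecMap_stalkMap_fromSpecStalk]
        exact hv
      have h3 := Spec.map_injective ((cancel_mono _).mp h2)
      exact congrArg CommRingCat.Hom.hom h3
  refine ⟨u, ⟨hu1, (key u).mpr hu2⟩, ?_⟩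
  rintro v ⟨hv1, hv2⟩
  have hv3 := (key v).mp hv2
  haveI := Groth.Agent.Helper9.CurveBase.isDominant_fromSpecStalk_genericPoint X
  exact ext_of_isDominant_of_isSeparated (Y ↘ (Spec (CommRingCat.of k))) (hv1.trans hu1.symm)
    (X.fromSpecStalk (genericPoint X)) (hv3.trans hu2.symm)

end Groth.Agent.S4445
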