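import Mathlib
import Groth.Statements.S4451
import Groth.Agent.Lib.Helper9.CurveVal
-- import your own Groth.Agent.* helpers here

set_option autoImplicit false
universe u
open CategoryTheory CategoryTheory.Limits AlgebraicGeometry
attribute [local instance] Curv2.stalkAlgebra
open EGA2

namespace Groth.Agent.S4451


/-- Let X be a normal, complete, irreducible algebraic curve over a field k with field of rational
functions K. The set of local rings of X, as subrings of K, consists of K itself (at the generic
point) and of the valuation rings of K containing k (and distinct from K): every non-generic point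
has such a valuation ring as local ring, and every such valuation ring is the local ring of exactly
one point. -/
theorem result (k : Type u) [Field k] (X : Scheme.{u})
    [X.Over (Spec (CommRingCat.of k))] [IsProper (X ↘ (Spec (CommRingCat.of k)))] [IsIntegral X]
    (hX : ∀ x : X, IsClosed ({x} : Set X) → ringKrullDim (X.presheaf.stalk x) = 1) (hnorm : Pi1.IsNormalScheme X) :
    (∀ x : X, x ≠ genericPoint X → ∃ R : ValuationSubring X.functionField, R ≠ ⊤ ∧
        (R : Set X.functionField) = Set.range (algebraMap (X.presheaf.stalk x) X.functionField)) ∧
      ∀ R : ValuationSubring X.functionField, R ≠ ⊤ → (∀ c : k, algebraMap k X.functionField c ∈ R) →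
        ∃! x : X, (R : Set X.functionField) = Set.range (algebraMap (X.presheaf.stalk x) X.functionField) := by
  haveI : IsLocallyNoetherian X :=
    LocallyOfFiniteType.isLocallyNoetherian (X ↘ Spec (CommRingCat.of k))
  haveI : CompactSpace X :=
    QuasiCompact.compactSpace_of_compactSpace (X ↘ Spec (CommRingCat.of k))
  have hval : ∀ x : X, ValuationRing (X.presheaf.stalk x) := fun x =>
    Groth.Agent.Helper9.CurveVal.valuationRing_stalk hX (fun x => (hnorm x).2) x
  haveI : X.IsSeparated := ⟨by
    have : terminal.from X = (X ↘ Spec (CommRingCat.of k)) ≫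
        terminal.from (Spec (CommRingCat.of k)) := Subsingleton.elim _ _
    rw [this]; infer_instance⟩
  constructor
  · intro x hx
    haveI := hval x
    refine ⟨Groth.Agent.Helper9.CurveVal.stalkValSubring x, ?_,
      Groth.Agent.Helper9.CurveVal.coe_stalkValSubring x⟩
    intro htop
    apply hx
    apply Groth.Agent.Helper9.CurveVal.eq_genericPoint_of_surjective
    intro r
    have : r ∈ (Groth.Agent.Helper9.CurveVal.stalkValSubring x : Set X.functionField) := by
      rw [htop]; trivial
    rw [Groth.Agent.Helper9.CurveVal.coe_stalkValSubring] at this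
    exact this
  · intro R hR hk
    have hsub : ∀ z w : Spec (CommRingCat.of k), z = w := fun z w =>
      @Subsingleton.elim (PrimeSpectrum k) inferInstance z w
    have h1 : ∀ a : (Spec (CommRingCat.of k)).presheaf.stalk
        ((X ↘ Spec (CommRingCat.of k)) (genericPoint X)),
        ((Spec (CommRingCat.of k)).presheaf.stalkSpecializes
          (specializes_refl ((X ↘ Spec (CommRingCat.of k)) (genericPoint X))) ≫
          (X ↘ Spec (CommRingCat.of k)).stalkMap (genericPoint X)).hom a ∈ R := by
      intro a
      rw [TopCat.Presheaf.stalkSpecializes_refl, Category.id_comp]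
      obtain ⟨U, hU, s, rfl⟩ := (Spec (CommRingCat.of k)).presheaf.germ_exist a
      have hUtop : U = ⊤ := by
        ext z
        simp only [TopologicalSpace.Opens.coe_top, Set.mem_univ, iff_true]
        rw [hsub z ((X ↘ Spec (CommRingCat.of k)) (genericPoint X))]; exact hU
      subst hUtop
      have h2 := hk ((Scheme.ΓSpecIso (CommRingCat.of k)).hom s)
      have h3 : algebraMap k X.functionField ((Scheme.ΓSpecIso (CommRingCat.of k)).hom s) =
          X.presheaf.germ ⊤ (genericPoint X) trivial
            ((X ↘ Spec (CommRingCat.of k)).appTop s) := by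
        show (X.presheaf.germ ⊤ _ trivial).hom ((X ↘ Spec (CommRingCat.of k)).appTop.hom
          ((Scheme.ΓSpecIso (CommRingCat.of k)).inv.hom
            ((Scheme.ΓSpecIso (CommRingCat.of k)).hom.hom s))) = _
        have : (Scheme.ΓSpecIso (CommRingCat.of k)).inv.hom
            ((Scheme.ΓSpecIso (CommRingCat.of k)).hom.hom s) = s := by
          rw [← CommRingCat.comp_apply, Iso.hom_inv_id]; rfl
        rw [this]
      rw [h3] at h2
      rw [Scheme.Hom.germ_stalkMap_apply]
      exact h2
    obtain ⟨l, hl, halg⟩ := Groth.Agent.Helper9.ValDom.exists_center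
      (X ↘ Spec (CommRingCat.of k)) R _ (specializes_refl _) h1
    haveI := hval (l (IsLocalRing.closedPoint R))
    have hrange := Groth.Agent.Helper9.CurveVal.range_eq_of_center R l halg
    exact ⟨l (IsLocalRing.closedPoint R), hrange, fun x' hx' =>
      Groth.Agent.Helper9.CurveVal.eq_of_range_eq R x' _ hx' hrange⟩

end Groth.Agent.S4451
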