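import Groth.Statements.S4459
import Mathlib

set_option autoImplicit false
universe u
open Coherent

namespace Groth.Agent.S4459

open AlgebraicGeometry CategoryTheory in
/-- Let A be a Noetherian ring which is separated and complete for the J-adic topology, and let f : X →
Spec A be a morphism of schemes which is a closed map on underlying spaces. Then every open subset
of X containing the inverse image of V(J) is all of X. (The published statement also assumes X of
finite type over A; that hypothesis is not used.) -/
theorem result (A : Type u) [CommRing A] [IsNoetherianRing A]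
    (J : Ideal A) [IsAdicComplete J A] {X : Scheme.{u}} (f : X ⟶ Spec (CommRingCat.of A))
    (hf : IsClosedMap f.base) (U : X.Opens)
    (hU : f.base ⁻¹' (PrimeSpectrum.zeroLocus (J : Set A)) ⊆ (U : Set X)) : U = ⊤ := by
  classical
  have hZc : IsClosed ((U : Set X)ᶜ) := U.isOpen.isClosed_compl
  have hfZ := hf _ hZc
  obtain ⟨I, hI⟩ := (PrimeSpectrum.isClosed_iff_zeroLocus_ideal _).1 hfZ
  have hdisj : PrimeSpectrum.zeroLocus (I : Set A) ∩ PrimeSpectrum.zeroLocus (J : Set A) = ∅ := by
    rw [← hI, Set.eq_empty_iff_forall_notMem]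
    rintro y ⟨⟨x, hx, rfl⟩, hyJ⟩
    exact hx (hU hyJ)
  rw [← PrimeSpectrum.zeroLocus_sup, PrimeSpectrum.zeroLocus_empty_iff_eq_top] at hdisj
  obtain ⟨i, hi, j, hj, hij⟩ := Submodule.mem_sup.1 ((Ideal.eq_top_iff_one _).1 hdisj)
  have hunit : IsUnit i := by
    apply Ideal.isUnit_of_sub_one_mem_jacobson_bot
    have h1 : i - 1 = -j := by rw [← hij]; ring
    rw [h1]
    exact neg_mem (IsAdicComplete.le_jacobson_bot J hj)
  have hItop : I = ⊤ := Ideal.eq_top_of_isUnit_mem _ hi hunit
  have hempty : f.base '' (U : Set X)ᶜ = ∅ := by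
    rw [hI, hItop]
    exact PrimeSpectrum.zeroLocus_empty_of_one_mem (Submodule.mem_top)
  rw [Set.image_eq_empty, Set.compl_empty_iff] at hempty
  exact SetLike.coe_injective (hempty.trans TopologicalSpace.Opens.coe_top.symm)

end Groth.Agent.S4459
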