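import Groth.Statements.S4469
import Mathlib

set_option autoImplicit false
universe u
open CAlg

namespace Groth.Agent.S4469

/-- Let A be an integrally closed Noetherian local domain with field of fractions K, B an A-algebra of
finite type which is a domain with the same field of fractions (A → B → K compatible with A → K),
and 𝔫 a maximal ideal of B lying over the maximal ideal 𝔪 of A and minimal among the prime ideals of
B lying over 𝔪. Then B = A: the structure map A → B is bijective. -/
theorem result (A B K : Type u) [CommRing A]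
    [IsDomain A] [IsNoetherianRing A] [IsLocalRing A] [IsIntegrallyClosed A] [CommRing B] [IsDomain B]
    [Field K] [Algebra A B] [Algebra B K] [Algebra A K] [IsScalarTower A B K] [IsFractionRing A K]
    [IsFractionRing B K] [Algebra.FiniteType A B] (n : Ideal B) [n.IsMaximal]
    (hn : n.comap (algebraMap A B) = IsLocalRing.maximalIdeal A)
    (hmin : ∀ q : Ideal B, q.IsPrime → q.comap (algebraMap A B) = IsLocalRing.maximalIdeal A → q ≤ n → q = n) :
    Function.Bijective (algebraMap A B) := by
  classical
  haveI : IsNoetherianRing B := Algebra.FiniteType.isNoetherianRing A B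
  have hinjK : Function.Injective (algebraMap B K) := IsFractionRing.injective B K
  have hinj : Function.Injective (algebraMap A B) := by
    have h1 : Function.Injective ((algebraMap B K) ∘ (algebraMap A B)) := by
      have h2 : (algebraMap B K) ∘ (algebraMap A B) = algebraMap A K := by
        funext a; exact (IsScalarTower.algebraMap_apply A B K a).symm
      rw [h2]; exact IsFractionRing.injective A K
    exact Function.Injective.of_comp h1
  refine ⟨hinj, ?_⟩
  -- comap of primes over m
  have hcomap : ∀ r : Ideal B, r.IsPrime →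
      (IsLocalRing.maximalIdeal A).map (algebraMap A B) ≤ r →
      r.comap (algebraMap A B) = IsLocalRing.maximalIdeal A := by
    intro r hr hle
    haveI := hr
    apply le_antisymm
    · exact IsLocalRing.le_maximalIdeal (Ideal.IsPrime.ne_top (Ideal.comap_isPrime _ r))
    · exact Ideal.map_le_iff_le_comap.mp hle
  -- quasi-finite at n
  let q : PrimeSpectrum B := ⟨n, inferInstance⟩
  haveI hqf : Algebra.QuasiFiniteAt A n := by
    refine Algebra.QuasiFiniteAt.of_isOpen_singleton_fiber q ?_
    rw [isOpen_induced_iff]
    set mB := (IsLocalRing.maximalIdeal A).map (algebraMap A B) with hmB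
    have hfin : {r ∈ mB.minimalPrimes | r ≠ n}.Finite :=
      (Ideal.finite_minimalPrimes_of_isNoetherianRing B mB).subset (fun r hr => hr.1)
    refine ⟨(⋃ r ∈ {r ∈ mB.minimalPrimes | r ≠ n}, PrimeSpectrum.zeroLocus (r : Set B))ᶜ, ?_, ?_⟩
    · rw [isOpen_compl_iff]
      exact Set.Finite.isClosed_biUnion hfin (fun r _ => PrimeSpectrum.isClosed_zeroLocus _)
    · ext ⟨x, hx⟩
      have hx' : x.asIdeal.comap (algebraMap A B) = IsLocalRing.maximalIdeal A := by
        have h1 : PrimeSpectrum.comap (algebraMap A B) x = PrimeSpectrum.comap (algebraMap A B) q := hx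
        have h2 := congrArg PrimeSpectrum.asIdeal h1
        simpa [q, hn] using h2
      simp only [Set.mem_preimage, Set.mem_compl_iff, Set.mem_iUnion, Set.mem_ofPred_eq,
        PrimeSpectrum.mem_zeroLocus, SetLike.coe_subset_coe, exists_prop, not_exists, not_and,
        Set.mem_singleton_iff, Subtype.mk.injEq]
      constructor
      · intro h
        have hle : mB ≤ x.asIdeal := Ideal.map_le_iff_le_comap.mpr hx'.ge
        obtain ⟨r, hr, hrx⟩ := Ideal.exists_minimalPrimes_le hle
        have hrn : r = n := by
          by_contra hne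
          exact h r ⟨hr, hne⟩ hrx
        subst hrn
        apply PrimeSpectrum.ext
        exact (Ideal.IsMaximal.eq_of_le inferInstance x.isPrime.ne_top hrx).symm
      · intro h r hr hrx
        subst h
        apply hr.2
        exact hmin r hr.1.1.1 (hcomap r hr.1.1.1 hr.1.1.2) hrx
  -- ZMT
  have hZ : Algebra.ZariskisMainProperty A n := Algebra.ZariskisMainProperty.of_finiteType n
  obtain ⟨r, hrn, hrint, hr⟩ := Algebra.zariskisMainProperty_iff.mp hZ
  have hint : ∀ b : B, IsIntegral A b → ∃ a : A, algebraMap A B a = b := by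
    intro b hb
    have h1 : IsIntegral A (algebraMap B K b) := hb.map (IsScalarTower.toAlgHom A B K)
    obtain ⟨a, ha⟩ := IsIntegrallyClosed.isIntegral_iff.mp h1
    refine ⟨a, hinjK ?_⟩
    rw [← IsScalarTower.algebraMap_apply, ha]
  obtain ⟨a₀, ha₀⟩ := hint r hrint
  have hunit : IsUnit a₀ := by
    by_contra hnu
    have h1 : a₀ ∈ IsLocalRing.maximalIdeal A := (IsLocalRing.mem_maximalIdeal a₀).mpr hnu
    rw [← hn, Ideal.mem_comap, ha₀] at h1
    exact hrn h1
  obtain ⟨u, hu⟩ := hunit
  intro x
  obtain ⟨m, hm⟩ := hr x
  obtain ⟨a₁, ha₁⟩ := hint _ hm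
  refine ⟨(↑(u⁻¹) : A) ^ m * a₁, ?_⟩
  rw [map_mul, map_pow, ha₁, ← mul_assoc, ← mul_pow, ← ha₀, ← hu, ← map_mul, Units.inv_mul,
    map_one, one_pow, one_mul]

end Groth.Agent.S4469
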