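import Groth.Statements.S4486
import Mathlib
import Mathlib
import Groth.Agent.H19.FlatCxCmp
import Groth.Agent.H19.FlatCxLoc
import Groth.Agent.S2446

set_option autoImplicit false
universe u
open FlatCx

namespace Groth.Agent.S4486

open CategoryTheory CategoryTheory.Limits TensorProduct
open Groth.Agent.H19.FlatCxBC Groth.Agent.H19.FlatCxCmp Groth.Agent.H19.FlatCxLoc

/-- flatness of `T_q(A_f)` for the localized complex from projectivity of `H_q(P)_f`. -/
theorem flat_T_away {A : Type u} [CommRing A] (P : ChainComplex (ModuleCat.{u} A) ℤ) (f : A) (q : ℤ)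
    (h : Module.Flat (Localization.Away f) (Localization.Away f ⊗[A] P.homology q)) :
    Module.Flat (Localization.Away f)
      ((CohIII.TFun (CohIII.bcCx (algebraMap A (Localization.Away f)) P) q).obj
        (ModuleCat.of (Localization.Away f) (Localization.Away f))) := by
  have e1 := (Groth.Agent.S2446.TUnitIso (CohIII.bcCx (algebraMap A (Localization.Away f)) P) q).toLinearEquiv
  have e2 := bcHomologyEquiv (Localization.Away f) P q
  exact Module.Flat.of_linearEquiv (e1 ≪≫ₗ e2)

theorem flat_tensor_of_subset_freeLocus {A : Type u} [CommRing A] (H : Type u) [AddCommGroup H]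
    [Module A H] [Module.FinitePresentation A H] (f : A)
    (h : (PrimeSpectrum.basicOpen f : Set (PrimeSpectrum A)) ⊆ Module.freeLocus A H) :
    Module.Flat (Localization.Away f) (Localization.Away f ⊗[A] H) := by
  have hproj : Module.Projective (Localization.Away f) (LocalizedModule.Away f H) :=
    Module.basicOpen_subset_freeLocus_iff.mp h
  haveI : Module.Flat (Localization.Away f) (LocalizedModule.Away f H) := inferInstance
  exact Module.Flat.of_linearEquiv (LocalizedModule.equivTensorProduct (Submonoid.powers f) H).symm

open CategoryTheory CategoryTheory.Limits in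
/-- For the homological functor T_p(M) = H_p(P ⊗_A M) of a chain complex P of flat modules over a
commutative ring A, which commutes with filtered colimits. Let A be a domain and suppose P_i = 0 for
i < i₀ and that every T_n(A) is a finitely presented A-module. Then for every integer N there is a
nonzero f ∈ A such that, for every p ≤ N, the functor of A_f-modules N ↦ H_p(P_f ⊗_{A_f} N), where
P_f = P ⊗_A A_f, takes injections to injections and surjections to surjections. -/
theorem result {A : Type u} [CommRing A] [IsDomain A]
    (P : ChainComplex (ModuleCat.{u} A) ℤ) (hP : ∀ i, Module.Flat A (P.X i)) (i₀ : ℤ)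
    (hb : ∀ i < i₀, IsZero (P.X i))
    (hfp : ∀ n : ℤ, Module.FinitePresentation A (CohIII.T P n (ModuleCat.of A A))) (N : ℤ) :
    ∃ f : A, f ≠ 0 ∧ ∀ p ≤ N,
      (CohIII.TFun (CohIII.bcCx (algebraMap A (Localization.Away f)) P) p).PreservesMonomorphisms ∧
        (CohIII.TFun (CohIII.bcCx (algebraMap A (Localization.Away f)) P) p).PreservesEpimorphisms := by
  have hfpH : ∀ n : ℤ, Module.FinitePresentation A (P.homology n) := fun n => by
    haveI : Module.FinitePresentation A ((CohIII.TFun P n).obj (ModuleCat.of A A)) := hfp n
    exact Module.FinitePresentation.of_equiv (Groth.Agent.S2446.TUnitIso P n).toLinearEquiv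
  let U : Set (PrimeSpectrum A) := ⋂ q ∈ Finset.Icc i₀ N, Module.freeLocus A (P.homology q)
  have hUo : IsOpen U := isOpen_biInter_finset (fun q _ => by
    haveI := hfpH q
    exact Module.isOpen_freeLocus)
  have hbot : (⟨⊥, Ideal.isPrime_bot⟩ : PrimeSpectrum A) ∈ U := by
    simp only [U, Set.mem_iInter]
    intro q _
    exact Groth.Agent.H19.FlatCxLoc.bot_mem_freeLocus _
  obtain ⟨V, ⟨f, rfl⟩, hfV, hVU⟩ :=
    PrimeSpectrum.isTopologicalBasis_basic_opens.exists_subset_of_mem_open hbot hUo
  refine ⟨f, ?_, ?_⟩
  · intro hf0
    have : f ∉ (⊥ : Ideal A) := hfV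
    exact this (by rw [hf0]; exact Submodule.zero_mem _)
  · have hflat : ∀ i, Module.Flat (Localization.Away f)
        ((CohIII.bcCx (algebraMap A (Localization.Away f)) P).X i) :=
      Groth.Agent.H19.FlatCxBC.flat_bc (Localization.Away f) P hP
    have hb' : ∀ i < i₀, IsZero ((CohIII.bcCx (algebraMap A (Localization.Away f)) P).X i) :=
      fun i hi => (ModuleCat.extendScalars (algebraMap A (Localization.Away f))).map_isZero (hb i hi)
    rw [Groth.Agent.S2446.result _ hflat i₀ hb' N]
    intro q hq
    apply Groth.Agent.S4486.flat_T_away P f q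
    by_cases hqi : q < i₀
    · have hz : IsZero (P.homology q) := (P.sc q).isZero_homology_of_isZero_X₂ (hb q hqi)
      haveI : Subsingleton (P.homology q) := ModuleCat.subsingleton_of_isZero hz
      haveI : Subsingleton (Localization.Away f ⊗[A] P.homology q) := inferInstance
      infer_instance
    · haveI := hfpH q
      apply Groth.Agent.S4486.flat_tensor_of_subset_freeLocus
      intro y hy
      have := hVU hy
      simp only [U, Set.mem_iInter] at this
      exact this q (Finset.mem_Icc.mpr ⟨by omega, hq⟩)

end Groth.Agent.S4486
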