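import Groth.Statements.S4487
import Mathlib
import Mathlib
import Groth.Agent.H19.FlatCxFin
import Groth.Agent.H19.FlatCxBC
import Groth.Agent.S4485
import Groth.Agent.S4486
import Groth.Agent.S2440

set_option autoImplicit false
universe u
open FlatCx

namespace Groth.Agent.S4487

open CategoryTheory CategoryTheory.Limits TensorProduct
open Groth.Agent.H19.FlatCxFin Groth.Agent.H19.FlatCxBC

/-- over a nontrivial Noetherian ring there is a nonempty open subset on which the ranks are
constant. -/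
theorem exists_open_const {A : Type u} [CommRing A] [IsNoetherianRing A] [Nontrivial A]
    (P : ChainComplex (ModuleCat.{u} A) ℤ) (hP : ∀ i, Module.Flat A (P.X i)) (i₀ : ℤ)
    (hb : ∀ i < i₀, IsZero (P.X i))
    (hfg : ∀ n : ℤ, Module.Finite A (CohIII.T P n (ModuleCat.of A A))) (N : ℤ) :
    ∃ V : Set (PrimeSpectrum A), IsOpen V ∧ V.Nonempty ∧
      ∀ q ≤ N, ∀ x ∈ V, ∀ y ∈ V, CohIII.dRank P q x = CohIII.dRank P q y := by
  classical
  obtain ⟨m, hm⟩ := Ideal.exists_maximal A
  haveI : m.IsPrime := hm.isPrime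
  obtain ⟨𝔭, h𝔭min, -⟩ := Ideal.exists_minimalPrimes_le (I := ⊥) (J := m) bot_le
  haveI h𝔭 : 𝔭.IsPrime := h𝔭min.1.1
  let B := A ⧸ 𝔭
  let PB := CohIII.bcCx (algebraMap A B) P
  have hPB : ∀ i, Module.Flat B (PB.X i) := flat_bc B P hP
  have hbB : ∀ i < i₀, IsZero (PB.X i) := fun i hi => isZero_bc P B i (hb i hi)
  have hfgB : ∀ n : ℤ, Module.Finite B (CohIII.T PB n (ModuleCat.of B B)) :=
    finite_unit_bc_of_finite P hP i₀ hb hfg B
  have hfpB : ∀ n : ℤ, Module.FinitePresentation B (CohIII.T PB n (ModuleCat.of B B)) := fun n => by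
    haveI := hfgB n
    exact Module.finitePresentation_of_finite B _
  obtain ⟨g, hg0, hg⟩ := Groth.Agent.S4486.result PB hPB i₀ hbB hfpB N
  let C := Localization.Away g
  let PC := CohIII.bcCx (algebraMap B C) PB
  have hPC : ∀ i, Module.Flat C (PC.X i) := flat_bc C PB hPB
  have hfgC : ∀ n : ℤ, Module.Finite C (CohIII.T PC n (ModuleCat.of C C)) :=
    finite_unit_bc_of_flat PB hfgB C
  have hlc : ∀ q ≤ N, IsLocallyConstant (CohIII.dRank PC q) := fun q hq => by
    apply Groth.Agent.S4485.result PC hPC q (hg q hq)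
    haveI := hfgC q
    exact Module.finitePresentation_of_finite C _
  haveI : IsDomain C :=
    IsLocalization.isDomain_localization (powers_le_nonZeroDivisors_of_noZeroDivisors hg0)
  have hconst : ∀ q ≤ N, ∀ y y' : PrimeSpectrum C, CohIII.dRank PC q y = CohIII.dRank PC q y' :=
    fun q hq y y' => (hlc q hq).apply_eq_of_preconnectedSpace y y'
  obtain ⟨g', hg'⟩ := Ideal.Quotient.mk_surjective g
  let F : Finset (Ideal A) := (minimalPrimes.finite_of_isNoetherianRing A).toFinset.erase 𝔭
  let V : Set (PrimeSpectrum A) := (PrimeSpectrum.basicOpen g' : Set (PrimeSpectrum A)) ∩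
    ⋂ 𝔮 ∈ F, (PrimeSpectrum.zeroLocus (𝔮 : Set A))ᶜ
  have hVo : IsOpen V := by
    apply IsOpen.inter (PrimeSpectrum.basicOpen g').isOpen
    exact isOpen_biInter_finset (fun 𝔮 _ => (PrimeSpectrum.isClosed_zeroLocus _).isOpen_compl)
  have hg'𝔭 : g' ∉ 𝔭 := by
    intro h
    apply hg0
    rw [← hg']
    exact Ideal.Quotient.eq_zero_iff_mem.2 h
  have h𝔭V : (⟨𝔭, h𝔭⟩ : PrimeSpectrum A) ∈ V := by
    refine ⟨hg'𝔭, ?_⟩
    simp only [Set.mem_iInter, Set.mem_compl_iff, PrimeSpectrum.mem_zeroLocus, SetLike.coe_subset_coe]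
    intro 𝔮 h𝔮 hle
    have h1 : 𝔮 ∈ minimalPrimes A := by
      have := Finset.mem_of_mem_erase h𝔮
      exact (Set.Finite.mem_toFinset _).1 this
    have h2 : 𝔮 ≠ 𝔭 := Finset.ne_of_mem_erase h𝔮
    exact h2 (le_antisymm hle (h𝔭min.2 h1.1 hle))
  -- every point of `V` comes from `Spec C`
  have hlift : ∀ x ∈ V, ∃ y : PrimeSpectrum C,
      PrimeSpectrum.comap (algebraMap A B) (PrimeSpectrum.comap (algebraMap B C) y) = x := by
    intro x hx
    have hx1 : g' ∉ x.asIdeal := hx.1
    have hx2 : ∀ 𝔮 ∈ F, ¬ (𝔮 ≤ x.asIdeal) := by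
      have := hx.2
      simp only [Set.mem_iInter, Set.mem_compl_iff, PrimeSpectrum.mem_zeroLocus,
        SetLike.coe_subset_coe] at this
      exact this
    have h𝔭x : 𝔭 ≤ x.asIdeal := by
      obtain ⟨𝔮, h𝔮, hle⟩ := Ideal.exists_minimalPrimes_le (I := ⊥) (J := x.asIdeal) bot_le
      by_cases h : 𝔮 = 𝔭
      · rw [← h]; exact hle
      · exfalso
        apply hx2 𝔮 _ hle
        exact Finset.mem_erase.2 ⟨h, (Set.Finite.mem_toFinset _).2 h𝔮⟩
    have hr1 : x ∈ Set.range (PrimeSpectrum.comap (algebraMap A B)) := by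
      have : algebraMap A B = Ideal.Quotient.mk 𝔭 := rfl
      rw [this, _root_.range_comap_of_surjective _ _ Ideal.Quotient.mk_surjective,
        Ideal.mk_ker]
      exact h𝔭x
    obtain ⟨y₁, rfl⟩ := hr1
    have hr2 : y₁ ∈ Set.range (PrimeSpectrum.comap (algebraMap B C)) := by
      rw [PrimeSpectrum.localization_away_comap_range C g]
      show g ∉ y₁.asIdeal
      intro hgy
      apply hx1
      show algebraMap A B g' ∈ y₁.asIdeal
      have : algebraMap A B g' = g := hg'
      rw [this]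
      exact hgy
    obtain ⟨y, rfl⟩ := hr2
    exact ⟨y, rfl⟩
  have hval : ∀ q, ∀ y : PrimeSpectrum C, CohIII.dRank P q
      (PrimeSpectrum.comap (algebraMap A B) (PrimeSpectrum.comap (algebraMap B C) y)) =
      CohIII.dRank PC q y := by
    intro q y
    rw [← Groth.Agent.S2440.result P hP q, ← Groth.Agent.S2440.result PB hPB q]
  refine ⟨V, hVo, ⟨_, h𝔭V⟩, ?_⟩
  intro q hq x hx x' hx'
  obtain ⟨y, rfl⟩ := hlift x hx
  obtain ⟨y', rfl⟩ := hlift x' hx'
  rw [hval, hval]
  exact hconst q hq y y'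

open CategoryTheory CategoryTheory.Limits in
/-- The case of the homological functor T_p(M) = H_p(P ⊗_A M) of a chain complex P of flat modules over
a commutative ring A. Let A be Noetherian and suppose P_i = 0 for i < i₀ and that every T_n(A) is a
finitely generated A-module. Then for every integer N there is a dense open subset U of Spec A such
that, for every p ≤ N, the function x ↦ dim_{k(x)} H_p(P ⊗_A k(x)) is locally constant on U. (The
published statement says constant on U; over the product of two fields, with P the projective module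
supported on one factor placed in degree 0, the only dense open set is the whole two-point spectrum
and the ranks there are 1 and 0, so locally constant on U is what holds; the argument produces U as
a disjoint union of opens, one dense in each irreducible component, on each of which the functions
are constant.) -/
theorem result {A : Type u} [CommRing A] [IsNoetherianRing A]
    (P : ChainComplex (ModuleCat.{u} A) ℤ) (hP : ∀ i, Module.Flat A (P.X i)) (i₀ : ℤ)
    (hb : ∀ i < i₀, IsZero (P.X i))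
    (hfg : ∀ n : ℤ, Module.Finite A (CohIII.T P n (ModuleCat.of A A))) (N : ℤ) :
    ∃ U : Set (PrimeSpectrum A), IsOpen U ∧ Dense U ∧
      ∀ p ≤ N, IsLocallyConstant (fun x : U => CohIII.dRank P p x) := by
  classical
  let U : Set (PrimeSpectrum A) := {x | ∃ V : Set (PrimeSpectrum A), IsOpen V ∧ x ∈ V ∧
    ∀ q ≤ N, ∀ y ∈ V, CohIII.dRank P q y = CohIII.dRank P q x}
  have hUo : IsOpen U := by
    rw [isOpen_iff_forall_mem_open]
    rintro x ⟨V, hVo, hxV, hV⟩
    refine ⟨V, ?_, hVo, hxV⟩
    intro x' hx'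
    refine ⟨V, hVo, hx', ?_⟩
    intro q hq y hy
    rw [hV q hq y hy, hV q hq x' hx']
  refine ⟨U, hUo, ?_, ?_⟩
  · -- density
    rw [dense_iff_inter_open]
    intro V₀ hV₀ ⟨x₀, hx₀⟩
    obtain ⟨W, ⟨f, rfl⟩, hfW, hWV⟩ :=
      PrimeSpectrum.isTopologicalBasis_basic_opens.exists_subset_of_mem_open hx₀ hV₀
    let Af := Localization.Away f
    have hrange : Set.range (PrimeSpectrum.comap (algebraMap A Af)) =
        (PrimeSpectrum.basicOpen f : Set (PrimeSpectrum A)) :=
      PrimeSpectrum.localization_away_comap_range Af f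
    haveI : Nontrivial Af := by
      have : x₀ ∈ Set.range (PrimeSpectrum.comap (algebraMap A Af)) := by
        rw [hrange]; exact hfW
      obtain ⟨y, -⟩ := this
      exact ⟨⟨0, 1, fun h => y.2.ne_top ((Ideal.eq_top_iff_one _).2 (h ▸ y.asIdeal.zero_mem))⟩⟩
    let Pf := CohIII.bcCx (algebraMap A Af) P
    have hPf : ∀ i, Module.Flat Af (Pf.X i) := Groth.Agent.H19.FlatCxBC.flat_bc Af P hP
    have hbf : ∀ i < i₀, IsZero (Pf.X i) :=
      fun i hi => Groth.Agent.H19.FlatCxFin.isZero_bc P Af i (hb i hi)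
    have hfgf : ∀ n : ℤ, Module.Finite Af (CohIII.T Pf n (ModuleCat.of Af Af)) :=
      Groth.Agent.H19.FlatCxFin.finite_unit_bc_of_flat P hfg Af
    obtain ⟨V', hV'o, ⟨y₀, hy₀⟩, hV'⟩ :=
      Groth.Agent.S4487.exists_open_const Pf hPf i₀ hbf hfgf N
    have hemb := PrimeSpectrum.localization_away_isOpenEmbedding Af f
    let V : Set (PrimeSpectrum A) := PrimeSpectrum.comap (algebraMap A Af) '' V'
    have hVo : IsOpen V := hemb.isOpenMap V' hV'o
    have hVsub : V ⊆ V₀ := by
      rintro _ ⟨y, -, rfl⟩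
      apply hWV
      have : PrimeSpectrum.comap (algebraMap A Af) y ∈
          Set.range (PrimeSpectrum.comap (algebraMap A Af)) := ⟨y, rfl⟩
      rw [hrange] at this
      exact this
    have hx : PrimeSpectrum.comap (algebraMap A Af) y₀ ∈ V := ⟨y₀, hy₀, rfl⟩
    refine ⟨_, hVsub hx, V, hVo, hx, ?_⟩
    rintro q hq _ ⟨y, hy, rfl⟩
    rw [← Groth.Agent.S2440.result P hP q, ← Groth.Agent.S2440.result P hP q]
    exact hV' q hq y hy y₀ hy₀
  · intro p hp
    rw [IsLocallyConstant.iff_exists_open]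
    rintro ⟨x, V, hVo, hxV, hV⟩
    refine ⟨Subtype.val ⁻¹' V, hVo.preimage continuous_subtype_val, hxV, ?_⟩
    rintro ⟨x', hx'U⟩ hx'
    exact hV p hp x' hx'

end Groth.Agent.S4487
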