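import Groth.Statements.S4488
import Mathlib
import Mathlib
import Groth.Agent.H19.FlatCxRed
import Groth.Agent.S4485
import Groth.Agent.S2446
import Groth.Agent.S2406
import Groth.Agent.S2407

set_option autoImplicit false
universe u
open FlatCx

namespace Groth.Agent.S4488

open CategoryTheory CategoryTheory.Limits in
/-- For the homological functor T_q(M) = H_q(P ⊗_A M) of a chain complex P of flat modules over a
commutative local ring A with residue field k. Suppose P_i = 0 for i < i₀ and that every T_n(A) is a
finitely presented A-module, and let p be an integer. If T_q takes injections to injections and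
surjections to surjections for every q ≤ p, then dim_{k(x)} T_q(k(x)) = dim_k T_q(k) for every point
x of Spec A and every q ≤ p. Conversely, if A is reduced and this equality holds at the generic
point of every irreducible component of Spec A (every minimal prime) for every q ≤ p, then T_q takes
injections to injections and surjections to surjections for every q ≤ p. No Noetherian hypothesis on
A. -/
theorem result {A : Type u} [CommRing A] [IsLocalRing A]
    (P : ChainComplex (ModuleCat.{u} A) ℤ) (hP : ∀ i, Module.Flat A (P.X i)) (i₀ : ℤ)
    (hb : ∀ i < i₀, IsZero (P.X i))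
    (hfp : ∀ n : ℤ, Module.FinitePresentation A (CohIII.T P n (ModuleCat.of A A))) (p : ℤ) :
    ((∀ q ≤ p, (CohIII.TFun P q).PreservesMonomorphisms ∧ (CohIII.TFun P q).PreservesEpimorphisms) →
        ∀ (x : PrimeSpectrum A), ∀ q ≤ p, CohIII.dRank P q x = CohIII.dRank P q (IsLocalRing.closedPoint A)) ∧
      (IsReduced A →
        (∀ x : PrimeSpectrum A, x.asIdeal ∈ minimalPrimes A →
          ∀ q ≤ p, CohIII.dRank P q x = CohIII.dRank P q (IsLocalRing.closedPoint A)) →
        ∀ q ≤ p, (CohIII.TFun P q).PreservesMonomorphisms ∧ (CohIII.TFun P q).PreservesEpimorphisms) := by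
  constructor
  · intro hex x q hq
    have hlc := Groth.Agent.S4485.result P hP q (hex q hq) (hfp q)
    obtain ⟨U, hUo, hcU, hU⟩ := (IsLocallyConstant.iff_exists_open _).1 hlc (IsLocalRing.closedPoint A)
    apply hU
    have hsp : x ⤳ IsLocalRing.closedPoint A :=
      (PrimeSpectrum.le_iff_specializes x (IsLocalRing.closedPoint A)).1
        (IsLocalRing.le_maximalIdeal x.2.ne_top)
    exact hsp.mem_open hUo hcU
  · intro hred hmin
    have hS : ∀ a : A, (∀ x ∈ {x : PrimeSpectrum A | x.asIdeal ∈ minimalPrimes A}, a ∈ x.asIdeal) →
        a = 0 := by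
      intro a ha
      have h1 : a ∈ sInf (minimalPrimes A) := by
        rw [Ideal.mem_sInf]
        intro I hI
        exact ha ⟨I, hI.1.1⟩ hI
      have h2 : sInf (minimalPrimes A) = (⊥ : Ideal A).radical := Ideal.sInf_minimalPrimes
      rw [h2] at h1
      have h3 : (⊥ : Ideal A).radical = ⊥ := by
        have := nilradical_eq_zero A
        exact this
      rw [h3] at h1
      exact h1
    have key : ∀ (k : ℕ) (q : ℤ), q < i₀ + k → q ≤ p →
        Module.Flat A ((CohIII.TFun P q).obj (ModuleCat.of A A)) := by
      intro k
      induction k with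
      | zero =>
        intro q hq _
        have hz : IsZero ((CohIII.TFun P q).obj (ModuleCat.of A A)) := by
          have h1 : IsZero ((CohIII.tensorObj P (ModuleCat.of A A)).X q) :=
            (MonoidalCategory.tensorRight (ModuleCat.of A A)).map_isZero (hb q (by simpa using hq))
          exact ((CohIII.tensorObj P (ModuleCat.of A A)).sc q).isZero_homology_of_isZero_X₂ h1
        haveI : Subsingleton ((CohIII.TFun P q).obj (ModuleCat.of A A)) :=
          ModuleCat.subsingleton_of_isZero hz
        infer_instance
      | succ k ih =>
        intro q hq hqp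
        have hbelow : ∀ q' ≤ q - 1, Module.Flat A ((CohIII.TFun P q').obj (ModuleCat.of A A)) :=
          fun q' hq' => ih q' (by push_cast at hq; omega) (by omega)
        have hex := (Groth.Agent.S2446.result P hP i₀ hb (q - 1)).2 hbelow
        have hmono : (CohIII.TFun P (q - 1)).PreservesMonomorphisms := (hex (q - 1) le_rfl).1
        have hepi : (CohIII.TFun P q).PreservesEpimorphisms :=
          (Groth.Agent.S2406.result P hP q (q - 1) (by omega)).2 hmono
        obtain ⟨N, ⟨e⟩⟩ := (Groth.Agent.S2407.result P hP q).1 hepi
        let eN : (CohIII.TFun P q).obj (ModuleCat.of A A) ≃ₗ[A] N :=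
          (e.app (ModuleCat.of A A)).toLinearEquiv ≪≫ₗ TensorProduct.rid A N
        haveI : Module.Finite A ((CohIII.TFun P q).obj (ModuleCat.of A A)) := by
          haveI : Module.FinitePresentation A ((CohIII.TFun P q).obj (ModuleCat.of A A)) := hfp q
          infer_instance
        haveI : Module.Finite A N := Module.Finite.equiv eN
        haveI : Module.Free A N := by
          apply Groth.Agent.H19.FlatCxRed.free_of_finrank_eq N
            {x : PrimeSpectrum A | x.asIdeal ∈ minimalPrimes A} hS
          intro x hx
          rw [← Groth.Agent.H19.FlatCxRed.dRank_eq_finrank_of_iso P q N e x, hmin x hx q hqp,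
            Groth.Agent.H19.FlatCxRed.dRank_eq_finrank_of_iso P q N e,
            Groth.Agent.H19.FlatCxRed.finrank_closedPoint]
        exact Module.Flat.of_linearEquiv eN
    refine (Groth.Agent.S2446.result P hP i₀ hb p).2 (fun q hq => key (q - i₀ + 1).toNat q ?_ hq)
    have := Int.self_le_toNat (q - i₀ + 1)
    omega

end Groth.Agent.S4488
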