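import Groth.Statements.S4489
import Mathlib
import Groth.Agent.S2375
import Groth.Agent.S2406

set_option autoImplicit false
universe u
open FlatCx

namespace Groth.Agent.S4489

open CategoryTheory CategoryTheory.Limits in
theorem flat_opcycles_iff_flat_homology {A : Type u} [CommRing A] [IsDedekindDomain A]
    (P : ChainComplex (ModuleCat.{u} A) ℤ) (hP : ∀ i, Module.Flat A (P.X i)) (p : ℤ) :
    Module.Flat A (P.opcycles p) ↔ Module.Flat A (P.homology p) := by
  have hmono : Function.Injective (P.homologyι p).hom :=
    (ModuleCat.mono_iff_injective _).mp inferInstance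
  constructor
  · intro h
    haveI : Module.IsTorsionFree A (P.opcycles p) := inferInstance
    haveI : Module.IsTorsionFree A (P.homology p) :=
      Function.Injective.moduleIsTorsionFree (P.homologyι p).hom hmono (fun r m => map_smul _ r m)
    infer_instance
  · intro h
    haveI : Module.IsTorsionFree A (P.homology p) := inferInstance
    haveI := hP (p - 1)
    haveI : Module.IsTorsionFree A (P.X (p - 1)) := inferInstance
    have hnext : (ComplexShape.down ℤ).next p = p - 1 := by simp
    have hker := P.homologyIsKernel p (p - 1) hnext
    have hex : Function.Exact (P.homologyι p).hom (P.fromOpcycles p (p - 1)).hom := by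
      have h1 : (ShortComplex.mk (P.homologyι p) (P.fromOpcycles p (p - 1))
          (P.homologyι_comp_fromOpcycles p (p - 1))).Exact :=
        ShortComplex.exact_of_f_is_kernel _ hker
      exact (ShortComplex.ShortExact.moduleCat_exact_iff_function_exact _).mp h1
    haveI : Module.IsTorsionFree A (P.opcycles p) := by
      refine ⟨fun r hr x y hxy => ?_⟩
      have hr0 : r ≠ 0 := hr.ne_zero
      have hsub : r • (x - y) = 0 := by
        rw [smul_sub]; exact sub_eq_zero.mpr hxy
      have h1 : (P.fromOpcycles p (p - 1)).hom (x - y) = 0 := by
        have : r • (P.fromOpcycles p (p - 1)).hom (x - y) = 0 := by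
          rw [← map_smul, hsub, map_zero]
        exact (smul_eq_zero_iff_right hr0).mp this
      obtain ⟨z, hz⟩ := (hex (x - y)).mp h1
      have h2 : r • z = 0 := by
        apply hmono
        rw [map_smul, hz, hsub, map_zero]
      have h3 : z = 0 := (smul_eq_zero_iff_right hr0).mp h2
      rw [h3, map_zero] at hz
      exact sub_eq_zero.mp hz.symm
    infer_instance

open CategoryTheory CategoryTheory.Limits in
/-- For the homological functor T_p(M) = H_p(P ⊗_A M) of a chain complex P of flat modules, stated over
a Dedekind domain A. (The published statement allows A to be a finite product of Dedekind domains,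
that is, a Noetherian regular ring of dimension at most 1; this row takes A a Dedekind domain.) Then
T_p takes injections to injections if and only if H_p(P) is a flat A-module; and, with q + 1 = p,
T_p takes injections to injections and surjections to surjections if and only if H_p(P) and H_q(P)
are both flat. -/
theorem result {A : Type u} [CommRing A] [IsDedekindDomain A]
    (P : ChainComplex (ModuleCat.{u} A) ℤ) (hP : ∀ i, Module.Flat A (P.X i)) (p q : ℤ) (hpq : q + 1 = p) :
    ((CohIII.TFun P p).PreservesMonomorphisms ↔ Module.Flat A (P.homology p)) ∧
      (((CohIII.TFun P p).PreservesMonomorphisms ∧ (CohIII.TFun P p).PreservesEpimorphisms) ↔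
        (Module.Flat A (P.homology p) ∧ Module.Flat A (P.homology q))) := by
  have h1 : ∀ i, (CohIII.TFun P i).PreservesMonomorphisms ↔ Module.Flat A (P.homology i) :=
    fun i => (Groth.Agent.S2375.result P hP i).trans
      (Groth.Agent.S4489.flat_opcycles_iff_flat_homology P hP i)
  refine ⟨h1 p, ?_⟩
  rw [Groth.Agent.S2406.result P hP p q hpq, h1 p, h1 q]

end Groth.Agent.S4489
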