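import Groth.Statements.S4491
import Mathlib
import Groth.Agent.H19.FlatCxLib

set_option autoImplicit false
universe u
open FlatCx

namespace Groth.Agent.S4491

open CategoryTheory CategoryTheory.Limits Groth.Agent.H19.FlatCxLib in
theorem smul_injective_T {A : Type u} [CommRing A]
    (P : ChainComplex (ModuleCat.{u} A) ℤ) (hP : ∀ i, Module.Flat A (P.X i)) (p q : ℤ) (hpq : q + 1 = p)
    (hex : (CohIII.TFun P p).PreservesEpimorphisms)
    (M : ModuleCat.{u} A) (f : A) (hf : Function.Injective (fun x : M => f • x)) :
    Function.Injective (fun y : CohIII.T P q M => f • y) := by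
  haveI hmono : Mono (f • 𝟙 M) := by
    rw [ModuleCat.mono_iff_injective]
    exact hf
  have hS : (ShortComplex.mk (f • 𝟙 M) (cokernel.π (f • 𝟙 M)) (cokernel.condition _)).ShortExact :=
    ShortComplex.ShortExact.mk' (ShortComplex.exact_cokernel _) hmono inferInstance
  have h1 := (epi_iff_mono P hP _ hS p q hpq).1 (hex.preserves _)
  have h2 : Function.Injective ((CohIII.TFun P q).map (f • 𝟙 M)).hom :=
    (ModuleCat.mono_iff_injective _).mp h1
  intro y y' hyy
  apply h2
  exact (TFun_map_smul_id_apply P q M f y).trans (hyy.trans (TFun_map_smul_id_apply P q M f y').symm)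

open CategoryTheory CategoryTheory.Limits in
/-- For the homological functor T_i(M) = H_i(P ⊗_A M) of a chain complex P of flat modules over a
commutative ring A. Let q + 1 = p and suppose T_p takes surjections to surjections. If
multiplication by f ∈ A is injective on an A-module M, then multiplication by f is injective on
T_q(M). In particular, when A is a domain, T_q(A) is torsion-free. -/
theorem result {A : Type u} [CommRing A]
    (P : ChainComplex (ModuleCat.{u} A) ℤ) (hP : ∀ i, Module.Flat A (P.X i)) (p q : ℤ) (hpq : q + 1 = p)
    (hex : (CohIII.TFun P p).PreservesEpimorphisms) :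
    (∀ (M : ModuleCat.{u} A) (f : A), Function.Injective (fun x : M => f • x) →
        Function.Injective (fun y : CohIII.T P q M => f • y)) ∧
      (IsDomain A → NoZeroSMulDivisors A (CohIII.T P q (ModuleCat.of A A))) := by
  refine ⟨fun M f hf => Groth.Agent.S4491.smul_injective_T P hP p q hpq hex M f hf, ?_⟩
  intro hdom
  refine ⟨fun {a y} hay => ?_⟩
  by_cases ha : a = 0
  · exact Or.inl ha
  · right
    have hinj : Function.Injective (fun x : (ModuleCat.of A A : ModuleCat.{u} A) => a • x) := by
      intro x x' hxx
      exact mul_left_cancel₀ ha hxx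
    have := Groth.Agent.S4491.smul_injective_T P hP p q hpq hex (ModuleCat.of A A) a hinj
    apply this
    show a • y = a • 0
    rw [hay, smul_zero]

end Groth.Agent.S4491
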