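import Groth.Statements.S4493
import Mathlib
import Mathlib
import Groth.Agent.H19.LocExact

set_option autoImplicit false
universe u
open FlatCx

namespace Groth.Agent.S4493

open CategoryTheory CategoryTheory.Limits in
/-- Let A be a commutative ring and T an additive A-linear endofunctor of the category of A-modules
which preserves filtered colimits. For a maximal ideal m write T_m for T precomposed with
restriction of scalars along A → A_m (a functor from A_m-modules to A-modules). If T_m is left exact
for every maximal ideal m then T is left exact, and if T_m is right exact for every maximal ideal m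
then T is right exact (exactness meaning preservation of finite limits, resp. finite colimits). -/
theorem result {A : Type u} [CommRing A]
    (T : ModuleCat.{u} A ⥤ ModuleCat.{u} A) [T.Additive] [T.Linear A]
    (hT : ∀ (J : Type u) [SmallCategory J] [IsFiltered J], PreservesColimitsOfShape J T) :
    ((∀ (m : Ideal A) [m.IsMaximal],
        PreservesFiniteLimits (ModuleCat.restrictScalars (algebraMap A (Localization.AtPrime m)) ⋙ T)) →
      PreservesFiniteLimits T) ∧
    ((∀ (m : Ideal A) [m.IsMaximal],
        PreservesFiniteColimits (ModuleCat.restrictScalars (algebraMap A (Localization.AtPrime m)) ⋙ T)) →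
      PreservesFiniteColimits T) := by
  constructor
  · intro h
    rw [Functor.preservesFiniteLimits_iff_forall_exact_map_and_mono]
    intro S hS
    have key : ∀ (P : Ideal A) [P.IsMaximal],
        ((Groth.Agent.H19.LocExact.LS P S).map (Groth.Agent.H19.LocExact.TP P T)).Exact ∧
          Mono ((Groth.Agent.H19.LocExact.TP P T).map (Groth.Agent.H19.LocExact.LS P S).f) :=
      fun P _ => (Functor.preservesFiniteLimits_iff_forall_exact_map_and_mono _).1 (h P) _
        (Groth.Agent.H19.LocExact.LS_shortExact P S hS)
    constructor
    · rw [ShortComplex.ShortExact.moduleCat_exact_iff_function_exact]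
      exact Groth.Agent.H19.LocExact.exact_of_local T hT S.f S.g (fun P _ =>
        (ShortComplex.ShortExact.moduleCat_exact_iff_function_exact _).1 (key P).1)
    · rw [ModuleCat.mono_iff_injective]
      exact Groth.Agent.H19.LocExact.injective_of_local T hT S.f (fun P _ =>
        (ModuleCat.mono_iff_injective _).1 (key P).2)
  · intro h
    rw [Functor.preservesFiniteColimits_iff_forall_exact_map_and_epi]
    intro S hS
    have key : ∀ (P : Ideal A) [P.IsMaximal],
        ((Groth.Agent.H19.LocExact.LS P S).map (Groth.Agent.H19.LocExact.TP P T)).Exact ∧
          Epi ((Groth.Agent.H19.LocExact.TP P T).map (Groth.Agent.H19.LocExact.LS P S).g) :=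
      fun P _ => (Functor.preservesFiniteColimits_iff_forall_exact_map_and_epi _).1 (h P) _
        (Groth.Agent.H19.LocExact.LS_shortExact P S hS)
    constructor
    · rw [ShortComplex.ShortExact.moduleCat_exact_iff_function_exact]
      exact Groth.Agent.H19.LocExact.exact_of_local T hT S.f S.g (fun P _ =>
        (ShortComplex.ShortExact.moduleCat_exact_iff_function_exact _).1 (key P).1)
    · rw [ModuleCat.epi_iff_surjective]
      exact Groth.Agent.H19.LocExact.surjective_of_local T hT S.g (fun P _ =>
        (ModuleCat.epi_iff_surjective _).1 (key P).2)

end Groth.Agent.S4493
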