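import Groth.Statements.S4495
import Mathlib

set_option autoImplicit false
universe u
open FlatCx

namespace Groth.Agent.S4495

open CategoryTheory AlgebraicGeometry Opposite TopologicalSpace

lemma idem_local {R : Type*} [CommRing R] [IsLocalRing R] {e : R} (he : IsIdempotentElem e) :
    e = 0 ∨ e = 1 := by
  rcases IsLocalRing.isUnit_or_isUnit_one_sub_self e with h | h
  · right
    have : e * e = e * 1 := by rw [mul_one]; exact he
    exact h.mul_left_cancel this
  · left
    have : (1 - e) * e = (1 - e) * 0 := by
      rw [mul_zero, sub_mul, one_mul, he.eq, sub_self]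
    exact h.mul_left_cancel this

lemma secext (Z : LocallyRingedSpace.{u}) (U : Opens Z) (s t : Z.presheaf.obj (op U))
    (h : ∀ (x : Z) (hx : x ∈ U), Z.presheaf.germ U x hx s = Z.presheaf.germ U x hx t) : s = t :=
  TopCat.Presheaf.section_ext Z.sheaf U s t h

theorem result (Z : LocallyRingedSpace.{u}) :
    PreconnectedSpace Z ↔
      ∀ e : Z.presheaf.obj (op ⊤), IsIdempotentElem e → e = 0 ∨ e = 1 := by
  constructor
  · intro hZ e he
    have hgerm : ∀ x : Z, Z.presheaf.Γgerm x e = 0 ∨ Z.presheaf.Γgerm x e = 1 := by
      intro x
      apply idem_local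
      show _ * _ = _
      rw [← map_mul, he.eq]
    let s : Set Z := {x | Z.presheaf.Γgerm x e = 1}
    have hs1 : s = SetLike.coe (Z.toRingedSpace.basicOpen e) := by
      ext x
      simp only [s, Set.mem_ofPred_eq, SetLike.mem_coe]
      rw [RingedSpace.mem_top_basicOpen]
      constructor
      · intro h; rw [h]; exact isUnit_one
      · intro h
        rcases hgerm x with h0 | h1
        · rw [h0] at h; exact absurd h not_isUnit_zero
        · exact h1
    have hs2 : sᶜ = SetLike.coe (Z.toRingedSpace.basicOpen (1 - e)) := by
      ext x
      simp only [s, Set.mem_compl_iff, Set.mem_ofPred_eq, SetLike.mem_coe]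
      rw [RingedSpace.mem_top_basicOpen, map_sub, map_one]
      constructor
      · intro h
        rcases hgerm x with h0 | h1
        · rw [h0, sub_zero]; exact isUnit_one
        · exact absurd h1 h
      · intro h h1
        rw [h1, sub_self] at h
        exact not_isUnit_zero h
    have hclopen : IsClopen s := by
      constructor
      · rw [← isOpen_compl_iff, hs2]; exact (Z.toRingedSpace.basicOpen (1 - e)).2
      · rw [hs1]; exact (Z.toRingedSpace.basicOpen e).2
    rcases (preconnectedSpace_iff_clopen.mp hZ) s hclopen with h | h
    · left
      apply secext Z ⊤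
      intro x hx
      have hx' : x ∉ s := by rw [h]; exact Set.notMem_empty x
      rcases hgerm x with h0 | h1
      · rw [map_zero]; exact h0
      · exact absurd h1 hx'
    · right
      apply secext Z ⊤
      intro x hx
      have hx' : x ∈ s := by rw [h]; exact Set.mem_univ x
      rw [map_one]; exact hx'
  · intro H
    rw [preconnectedSpace_iff_clopen]
    intro s hs
    let U : Bool → Opens Z := fun b => if b then ⟨s, hs.2⟩ else ⟨sᶜ, hs.1.isOpen_compl⟩
    let sf : ∀ b : Bool, Z.presheaf.obj (op (U b)) := fun b => if b then 1 else 0
    have hcompat : TopCat.Presheaf.IsCompatible Z.sheaf.1 U sf := by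
      intro i j
      apply secext Z
      intro x hx
      have hi : x ∈ U i := hx.1
      have hj : x ∈ U j := hx.2
      have hij : i = j := by
        cases i <;> cases j
        · rfl
        · exact absurd hj hi
        · exact absurd hi hj
        · rfl
      subst hij
      rfl
    have hcover : (⊤ : Opens Z) ≤ iSup U := by
      intro x _
      rw [Opens.mem_iSup]
      by_cases hx : x ∈ s
      · exact ⟨true, hx⟩
      · exact ⟨false, hx⟩
    have hglue : ∃ e : Z.presheaf.obj (op ⊤),
        ∀ b, (Z.presheaf.map (homOfLE le_top : U b ⟶ ⊤).op).hom e = sf b := by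
      obtain ⟨e, he0, -⟩ := TopCat.Sheaf.existsUnique_gluing' Z.sheaf U ⊤
        (fun b => homOfLE le_top) hcover sf hcompat
      exact ⟨e, he0⟩
    have hloc : ∀ s t : Z.presheaf.obj (op ⊤),
        (∀ b, (Z.presheaf.map (homOfLE le_top : U b ⟶ ⊤).op).hom s =
          (Z.presheaf.map (homOfLE le_top : U b ⟶ ⊤).op).hom t) → s = t :=
      fun s t h => TopCat.Sheaf.eq_of_locally_eq' Z.sheaf U ⊤ (fun b => homOfLE le_top) hcover s t h
    obtain ⟨e, he⟩ := hglue
    have hidem : IsIdempotentElem e := by
      apply hloc
      intro b
      rw [map_mul, he b]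
      cases b
      · exact mul_zero _
      · exact mul_one _
    rcases H e hidem with h0 | h1
    · left
      rw [Set.eq_empty_iff_forall_notMem]
      intro x hx
      have h := he true
      rw [h0, map_zero] at h
      have hxU : x ∈ U true := hx
      have h2 := congrArg (Z.presheaf.germ (U true) x hxU) h
      rw [map_zero] at h2
      simp only [sf, if_true, map_one] at h2
      exact zero_ne_one h2
    · right
      rw [Set.eq_univ_iff_forall]
      intro x
      by_contra hx
      have h := he false
      rw [h1, map_one] at h
      have hxU : x ∈ U false := hx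
      have h2 := congrArg (Z.presheaf.germ (U false) x hxU) h
      rw [map_one] at h2
      simp only [sf, Bool.false_eq_true, if_false, map_zero] at h2
      exact one_ne_zero h2

end Groth.Agent.S4495
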