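import Groth.Statements.S4496
import Mathlib
import Mathlib
import Groth.Agent.H19.FlatCxEW

set_option autoImplicit false
universe u
open FlatCx

namespace Groth.Agent.S4496

open CategoryTheory CategoryTheory.Limits MonoidalCategory in
/-- For the homological functor T_p(M) = H_p(P ⊗_A M) of a chain complex P of flat modules over a
commutative ring A: T_p takes injections to injections and surjections to surjections if and only if
T_p is isomorphic to the functor M ↦ N ⊗_A M for some flat A-module N (which is then isomorphic to
T_p(A)). -/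
theorem result {A : Type u} [CommRing A]
    (P : ChainComplex (ModuleCat.{u} A) ℤ) (hP : ∀ i, Module.Flat A (P.X i)) (p : ℤ) :
    ((CohIII.TFun P p).PreservesMonomorphisms ∧ (CohIII.TFun P p).PreservesEpimorphisms) ↔
      ∃ N : ModuleCat.{u} A, Module.Flat A N ∧ Nonempty (CohIII.TFun P p ≅ tensorLeft N) := by
  constructor
  · rintro ⟨hmono, hepi⟩
    refine ⟨P.homology p, ?_, ⟨Groth.Agent.H19.FlatCxEW.ewIso P p hP hmono hepi⟩⟩
    have hrel : (ComplexShape.down ℤ).Rel p (p - 1) := by simp
    have f1 : Module.Flat A (P.opcycles p) := (Groth.Agent.S2375.result P hP p).mp hmono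
    have f2 : Module.Flat A (P.opcycles (p - 1)) :=
      (Groth.Agent.S2375.result P hP (p - 1)).mp
        ((Groth.Agent.S2406.result P hP p (p - 1) (by omega)).mp hepi)
    have f3 := Groth.Agent.S2446.flat_bdry P (p - 1) (hP _) f2
    exact Groth.Agent.S2446.flat_homology_of P p (p - 1) hrel f1 f3
  · rintro ⟨N, hN, ⟨α⟩⟩
    haveI : (tensorLeft N).PreservesMonomorphisms := ⟨fun {X Y} f hf => by
      rw [ModuleCat.mono_iff_injective] at hf ⊢
      exact Module.Flat.lTensor_preserves_injective_linearMap (M := N) f.hom hf⟩
    haveI : (tensorLeft N).PreservesEpimorphisms := ⟨fun {X Y} f hf => by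
      rw [ModuleCat.epi_iff_surjective] at hf ⊢
      exact LinearMap.lTensor_surjective N hf⟩
    exact ⟨Functor.PreservesMonomorphisms.of_iso α.symm, Functor.PreservesEpimorphisms.of_iso α.symm⟩

end Groth.Agent.S4496
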