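import Groth.Statements.S4497
import Mathlib
import Mathlib
import Groth.Agent.H19.FlatCxArt2

set_option autoImplicit false
universe u
open FlatCx

namespace Groth.Agent.S4497

open CategoryTheory CategoryTheory.Limits in
/-- For the homological functor T_i(M) = H_i(P ⊗_A M) of a chain complex P of flat modules over a
commutative Artinian local ring A with residue field k; the terms of P need not be finitely
generated. With p + 1 = q: T_p takes injections to injections and surjections to surjections if and
only if the maps T_p(A) → T_p(k) and T_q(A) → T_q(k) induced by A → k are both surjective. If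
moreover T_p(k) has finite length d, these conditions are also equivalent to: length T_p(M) = d ·
length M for every A-module M of finite length (lengths valued in ℕ∞). -/
theorem result {A : Type u} [CommRing A] [IsArtinianRing A]
    [IsLocalRing A] (P : ChainComplex (ModuleCat.{u} A) ℤ) (hP : ∀ i, Module.Flat A (P.X i)) (p q : ℤ)
    (hpq : p + 1 = q) :
    (((CohIII.TFun P p).PreservesMonomorphisms ∧ (CohIII.TFun P p).PreservesEpimorphisms) ↔
      (Function.Surjective ((CohIII.TFun P p).map
          (ModuleCat.ofHom (Algebra.linearMap A (IsLocalRing.ResidueField A)))).hom ∧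
        Function.Surjective ((CohIII.TFun P q).map
          (ModuleCat.ofHom (Algebra.linearMap A (IsLocalRing.ResidueField A)))).hom)) ∧
    (Module.length A (CohIII.T P p (ModuleCat.of A (IsLocalRing.ResidueField A))) ≠ ⊤ →
      (((CohIII.TFun P p).PreservesMonomorphisms ∧ (CohIII.TFun P p).PreservesEpimorphisms) ↔
        ∀ M : ModuleCat.{u} A, Module.length A M ≠ ⊤ →
          Module.length A (CohIII.T P p M) =
            Module.length A (CohIII.T P p (ModuleCat.of A (IsLocalRing.ResidueField A))) * Module.length A M)) := by
  refine ⟨Groth.Agent.H19.FlatCxArt2.exact_iff_surj P p hP q hpq, ?_⟩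
  intro hd
  constructor
  · rintro ⟨hmono, hepi⟩ M hM
    obtain ⟨n, hn⟩ := ENat.ne_top_iff_exists.mp hM
    have h := Groth.Agent.H19.FlatCxArt2.length_T_eq P p hP hmono hepi n M hn.symm
    rw [← hn]
    exact h
  · intro h
    rw [Groth.Agent.H19.FlatCxArt2.exact_iff_surj P p hP q hpq]
    exact Groth.Agent.H19.FlatCxArt2.surj_of_length_eq P p hP q hpq hd
      (h (ModuleCat.of A A) Module.length_ne_top)

end Groth.Agent.S4497
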