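import Groth.Statements.S4499
import Mathlib
import Mathlib
import Groth.Agent.H19.TorShift

set_option autoImplicit false
universe u
attribute [local instance] HasDerivedCategory.standard
open FlatCx

namespace Groth.Agent.S4499

open TensorProduct Function

/-- `ker (g ⊗ k) / im (K ⊗ k) ≃ ker (I ⊗ k → P₀ ⊗ k)` for `g = j ∘ π`. -/
theorem quotKerEquiv {A : Type u} [CommRing A] {P₁ P₀ I K k : Type u}
    [AddCommGroup P₁] [Module A P₁] [AddCommGroup P₀] [Module A P₀] [AddCommGroup I] [Module A I]
    [AddCommGroup K] [Module A K] [AddCommGroup k] [Module A k]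
    (ι : K →ₗ[A] P₁) (π : P₁ →ₗ[A] I) (j : I →ₗ[A] P₀) (hπ : Surjective π) (hex : Exact ι π) :
    Nonempty ((↥(LinearMap.ker ((j ∘ₗ π).rTensor k)) ⧸
          Submodule.comap (LinearMap.ker ((j ∘ₗ π).rTensor k)).subtype
            (LinearMap.range (ι.rTensor k))) ≃ₗ[A] LinearMap.ker (j.rTensor k)) := by
  have hcomp : ∀ x, (j ∘ₗ π).rTensor k x = j.rTensor k (π.rTensor k x) := fun x => by
    rw [LinearMap.rTensor_comp]; rfl
  let φ : LinearMap.ker ((j ∘ₗ π).rTensor k) →ₗ[A] LinearMap.ker (j.rTensor k) :=
    ((π.rTensor k) ∘ₗ (LinearMap.ker ((j ∘ₗ π).rTensor k)).subtype).codRestrict _ (fun x => by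
      rw [LinearMap.mem_ker]
      have := LinearMap.mem_ker.1 x.2
      rw [hcomp] at this
      exact this)
  have hsurj : Surjective φ := by
    rintro ⟨y, hy⟩
    obtain ⟨v, rfl⟩ := LinearMap.rTensor_surjective k hπ y
    refine ⟨⟨v, ?_⟩, rfl⟩
    rw [LinearMap.mem_ker, hcomp]; exact hy
  have hexk : Exact (ι.rTensor k) (π.rTensor k) := rTensor_exact k hex hπ
  have hker : Submodule.comap (LinearMap.ker ((j ∘ₗ π).rTensor k)).subtype
      (LinearMap.range (ι.rTensor k)) = LinearMap.ker φ := by
    ext ⟨x, hx⟩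
    rw [Submodule.mem_comap, LinearMap.mem_ker]
    constructor
    · rintro ⟨u, hu⟩
      apply Subtype.ext
      show π.rTensor k x = 0
      have hxu : ι.rTensor k u = x := hu
      rw [← hxu]; exact hexk.apply_apply_eq_zero u
    · intro h
      have hπx : π.rTensor k x = 0 := congrArg Subtype.val h
      exact (hexk x).1 hπx
  exact ⟨(Submodule.quotEquivOfEq _ _ hker).trans (φ.quotKerEquivOfSurjective hsurj)⟩

/-- Let A be a Noetherian local ring with residue field k, and d : P₁ → P₀ an A-linear map between flat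
A-modules, viewed as a two-term chain complex, so that H₁ = Ker d, H₀ = Coker d and H₁ of the
complex tensored with k is Ker(d ⊗ 1_k). Let α : (Ker d) ⊗_A k → P₁ ⊗_A k be the map induced by the
inclusion Ker d → P₁; its image lies in Ker(d ⊗ 1_k). Then there is an exact sequence 0 →
Tor₂^A(Coker d, k) → (Ker d) ⊗_A k → Ker(d ⊗ 1_k) → Tor₁^A(Coker d, k) → 0 with middle map α, stated
here as: Ker α is isomorphic to Tor₂^A(Coker d, k), and the quotient of Ker(d ⊗ 1_k) by the image of
α is isomorphic to Tor₁^A(Coker d, k) (existence of A-linear isomorphisms only; Tor is Mathlib's,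
left derived in the second variable). (In the published statement the cokernel is printed without
its prime, as the module of 0-cycles; the proof is about the cokernel of d.) -/
theorem result {A : Type u} [CommRing A] [IsNoetherianRing A]
    [IsLocalRing A] {P₁ P₀ : Type u} [AddCommGroup P₁] [Module A P₁] [AddCommGroup P₀] [Module A P₀]
    [Module.Flat A P₁] [Module.Flat A P₀] (d : P₁ →ₗ[A] P₀) :
    Nonempty (LinearMap.ker ((LinearMap.ker d).subtype.rTensor (IsLocalRing.ResidueField A)) ≃ₗ[A]
        DRing.Tor A 2 (P₀ ⧸ LinearMap.range d) (IsLocalRing.ResidueField A)) ∧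
      LinearMap.range ((LinearMap.ker d).subtype.rTensor (IsLocalRing.ResidueField A)) ≤
        LinearMap.ker (d.rTensor (IsLocalRing.ResidueField A)) ∧
      Nonempty ((↥(LinearMap.ker (d.rTensor (IsLocalRing.ResidueField A))) ⧸
          Submodule.comap (LinearMap.ker (d.rTensor (IsLocalRing.ResidueField A))).subtype
            (LinearMap.range ((LinearMap.ker d).subtype.rTensor (IsLocalRing.ResidueField A)))) ≃ₗ[A]
        DRing.Tor A 1 (P₀ ⧸ LinearMap.range d) (IsLocalRing.ResidueField A)) := by
  have hex1 : Function.Exact (LinearMap.ker d).subtype (LinearMap.rangeRestrict d) := by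
    intro x
    constructor
    · intro hx
      refine ⟨⟨x, ?_⟩, rfl⟩
      rw [LinearMap.mem_ker]
      exact congrArg Subtype.val hx
    · rintro ⟨y, rfl⟩
      apply Subtype.ext
      exact LinearMap.mem_ker.1 y.2
  have hex2 : Function.Exact (LinearMap.range d).subtype (LinearMap.range d).mkQ := by
    intro x
    constructor
    · intro hx
      have : x ∈ LinearMap.range d := (Submodule.Quotient.mk_eq_zero _).1 hx
      exact ⟨⟨x, this⟩, rfl⟩
    · rintro ⟨y, rfl⟩
      exact (Submodule.Quotient.mk_eq_zero _).2 y.2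
  have hd : d = (LinearMap.range d).subtype ∘ₗ LinearMap.rangeRestrict d := by
    ext x; rfl
  obtain ⟨t1⟩ := Groth.Agent.H19.TorShift.tor_one_equiv' (LinearMap.range d).subtype
    (LinearMap.range d).mkQ (Submodule.injective_subtype _) (Submodule.mkQ_surjective _) hex2
    (IsLocalRing.ResidueField A)
  obtain ⟨t2⟩ := Groth.Agent.H19.TorShift.tor_succ_succ_equiv' (LinearMap.range d).subtype
    (LinearMap.range d).mkQ (Submodule.injective_subtype _) (Submodule.mkQ_surjective _) hex2
    (IsLocalRing.ResidueField A) 0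
  obtain ⟨t3⟩ := Groth.Agent.H19.TorShift.tor_one_equiv' (LinearMap.ker d).subtype
    (LinearMap.rangeRestrict d) (Submodule.injective_subtype _)
    (LinearMap.surjective_rangeRestrict d) hex1 (IsLocalRing.ResidueField A)
  refine ⟨⟨(t2.trans t3).symm⟩, ?_, ?_⟩
  · rintro _ ⟨x, rfl⟩
    rw [LinearMap.mem_ker, ← LinearMap.comp_apply, ← LinearMap.rTensor_comp]
    have : d ∘ₗ (LinearMap.ker d).subtype = 0 := by
      ext y; exact LinearMap.mem_ker.1 y.2
    rw [this, LinearMap.rTensor_zero, LinearMap.zero_apply]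
  · obtain ⟨q⟩ := Groth.Agent.S4499.quotKerEquiv (k := IsLocalRing.ResidueField A)
      (LinearMap.ker d).subtype (LinearMap.rangeRestrict d)
      (LinearMap.range d).subtype (LinearMap.surjective_rangeRestrict d) hex1
    rw [← hd] at q
    exact ⟨q.trans t1.symm⟩

end Groth.Agent.S4499
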