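import Groth.Statements.S4512
import Mathlib
import Groth.Agent.H27.RegSmoothBC
import Groth.Agent.H29.RegPowerSeries

set_option autoImplicit false
universe u
open EGA41

namespace Groth.Agent.S4512

open IsLocalRing in
/-- Let k be a field and A a Noetherian local k-algebra with residue field K, and suppose A is formally
smooth over k for the adic topology of its maximal ideal (k discrete). Then A is geometrically
regular over k, i.e. A ⊗_k k' is a regular ring for every finite extension k' of k; and the adic
completion of A is isomorphic, as a ring, to a power series ring K[[T_1, …, T_n]] (existence of a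
ring isomorphism; no compatibility with k is asserted, and none holds in general when K is
inseparable over k). -/
theorem result {k A : Type u} [Field k] [CommRing A]
    [IsLocalRing A] [IsNoetherianRing A] [Algebra k A] (h : CAlgX.IsAdicFormallySmooth k A (maximalIdeal A)) :
    CAlg.IsGeometricallyRegular k A ∧
      ∃ n : ℕ, Nonempty (AdicCompletion (maximalIdeal A) A ≃+* MvPowerSeries (Fin n) (ResidueField A)) := by
  refine ⟨?_, (Groth.Agent.H27.RegSmoothU.main_general h).2⟩
  intro k' _ _ hfin
  haveI := hfin
  haveI : IsNoetherianRing (TensorProduct k k' A) := Groth.Agent.H27.RegSmoothBC.noeth_tensor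
  apply Groth.Agent.H29.isRegularRing_of_forall_isMaximal
  intro n hn
  have hsm := Groth.Agent.H27.RegSmoothBC.adicSmooth_loc_baseChange h n
  exact (Groth.Agent.H27.RegSmoothU.main_general hsm).1

end Groth.Agent.S4512
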