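import Groth.Statements.S4513
import Mathlib
import Groth.Agent.S4512
import Groth.Agent.H29.RegLocal2

set_option autoImplicit false
universe u
open EGA41

namespace Groth.Agent.S4513

open TensorProduct in
theorem map_incl {k A : Type u} [Field k] [CommRing A] [Algebra k A]
    {F₁ F₂ : IntermediateField k (AlgebraicClosure k)} (h : F₁ ≤ F₂) (x' : F₁ ⊗[k] A) :
    Algebra.TensorProduct.map F₂.val (AlgHom.id k A)
      (Algebra.TensorProduct.map (IntermediateField.inclusion h) (AlgHom.id k A) x') =
      Algebra.TensorProduct.map F₁.val (AlgHom.id k A) x' := by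
  induction x' using TensorProduct.induction_on with
  | zero => simp
  | tmul a b =>
    rw [Algebra.TensorProduct.map_tmul, Algebra.TensorProduct.map_tmul,
      Algebra.TensorProduct.map_tmul]
    rfl
  | add x y hx hy => rw [map_add, map_add, map_add, hx, hy]

open TensorProduct in
theorem mem_range_of_finite {k A : Type u} [Field k] [CommRing A] [Algebra k A]
    (x : AlgebraicClosure k ⊗[k] A) :
    ∃ F : IntermediateField k (AlgebraicClosure k), FiniteDimensional k F ∧
      x ∈ Set.range (Algebra.TensorProduct.map F.val (AlgHom.id k A)) := by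
  induction x using TensorProduct.induction_on with
  | zero => exact ⟨⊥, inferInstance, 0, map_zero _⟩
  | tmul a b =>
    refine ⟨IntermediateField.adjoin k {a}, ?_,
      ⟨(⟨a, IntermediateField.mem_adjoin_simple_self k a⟩ : IntermediateField.adjoin k {a}) ⊗ₜ b,
        ?_⟩⟩
    · exact IntermediateField.adjoin.finiteDimensional (Algebra.IsIntegral.isIntegral a)
    · rw [Algebra.TensorProduct.map_tmul]
      rfl
  | add x y hx hy =>
    obtain ⟨F₁, hF₁, x', rfl⟩ := hx
    obtain ⟨F₂, hF₂, y', rfl⟩ := hy
    haveI := hF₁
    haveI := hF₂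
    refine ⟨F₁ ⊔ F₂, IntermediateField.finiteDimensional_sup F₁ F₂, ?_⟩
    refine ⟨(Algebra.TensorProduct.map (IntermediateField.inclusion (le_sup_left : F₁ ≤ F₁ ⊔ F₂))
        (AlgHom.id k A) : F₁ ⊗[k] A →ₐ[k] ↥(F₁ ⊔ F₂) ⊗[k] A) x' +
      (Algebra.TensorProduct.map (IntermediateField.inclusion (le_sup_right : F₂ ≤ F₁ ⊔ F₂))
        (AlgHom.id k A) : F₂ ⊗[k] A →ₐ[k] ↥(F₁ ⊔ F₂) ⊗[k] A) y', ?_⟩
    rw [map_add, map_incl, map_incl]

theorem isReduced_of_isRegularRing (R : Type u) [CommRing R] [IsRegularRing R] : IsReduced R := by
  apply isReduced_ofLocalizationMaximal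
  intro P hP
  haveI : IsDomain (Localization.AtPrime P) :=
    Groth.Agent.H29.isDomain_of_isRegularLocalRing _
  infer_instance

open TensorProduct in
theorem geomReduced_of_geomRegular {k A : Type u} [Field k] [CommRing A] [Algebra k A]
    (h : CAlg.IsGeometricallyRegular k A) : Algebra.IsGeometricallyReduced k A := by
  rw [Algebra.isGeometricallyReduced_field_iff]
  refine ⟨fun x hx => ?_⟩
  obtain ⟨F, hF, x', rfl⟩ := mem_range_of_finite x
  haveI := hF
  haveI hregF : IsRegularRing (F ⊗[k] A) := h F inferInstance
  have hred := isReduced_of_isRegularRing (↥F ⊗[k] A)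
  have hinj : Function.Injective (Algebra.TensorProduct.map F.val (AlgHom.id k A)) :=
    Module.Flat.rTensor_preserves_injective_linearMap _ (RingHom.injective _)
  have hx' : IsNilpotent x' := by
    obtain ⟨m, hm⟩ := hx
    refine ⟨m, hinj ?_⟩
    rw [map_pow, hm, map_zero]
  rw [hred.eq_zero x' hx', map_zero]


open IsLocalRing in
/-- Let A be a Noetherian local ring and k a field mapping to A such that A is formally smooth over k
for the adic topology of its maximal ideal (k discrete). Then every field K with k → K → A
(compatible ring maps) is a separable extension of k, i.e. K is geometrically reduced over k. -/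
theorem result {k A K : Type u} [Field k] [CommRing A]
    [IsLocalRing A] [IsNoetherianRing A] [Algebra k A] (h : CAlgX.IsAdicFormallySmooth k A (maximalIdeal A))
    [Field K] [Algebra k K] [Algebra K A] [IsScalarTower k K A] :
    Algebra.IsGeometricallyReduced k K := by
  have hreg := (Groth.Agent.S4512.result h).1
  haveI := geomReduced_of_geomRegular hreg
  exact Algebra.IsGeometricallyReduced.of_injective (IsScalarTower.toAlgHom k K A)
    (RingHom.injective (algebraMap K A))

end Groth.Agent.S4513
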