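import Groth.Statements.S4515
import Mathlib.RingTheory.Flat.EquationalCriterion
import Mathlib.Tactic

set_option autoImplicit false
universe u
open EGA41

namespace Groth.Agent.S4515

/-- Let A be a ring, J an ideal of A, and M, N two A-modules which are Hausdorff for the J-adic
topology; suppose moreover that N is J-adically complete and M is flat. Let u : N → M be A-linear.
If the induced map N/JN → M/JM is bijective (surjectivity and injectivity written out below), then u
is bijective. -/
theorem result {A : Type u} [CommRing A] (J : Ideal A)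
    {M N : Type u} [AddCommGroup M] [Module A M] [AddCommGroup N] [Module A N]
    [IsHausdorff J M] [IsAdicComplete J N] [Module.Flat A M] (u : N →ₗ[A] M)
    (hsurj : ∀ m : M, ∃ n : N, m - u n ∈ (J • ⊤ : Submodule A M))
    (hinj : ∀ n : N, u n ∈ (J • ⊤ : Submodule A M) → n ∈ (J • ⊤ : Submodule A N)) :
    Function.Bijective u := by
  classical
  have hS0 : ∀ (k : ℕ) (n : N), n ∈ (J ^ k • ⊤ : Submodule A N) →
      u n ∈ (J ^ k • ⊤ : Submodule A M) := by
    intro k n hn
    refine Submodule.smul_induction_on hn (fun a ha x _ => ?_) (fun x y hx hy => ?_)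
    · rw [map_smul]
      exact Submodule.smul_mem_smul ha Submodule.mem_top
    · rw [map_add]
      exact add_mem hx hy
  have hS1 : ∀ (k : ℕ) (x : M), x ∈ (J ^ k • ⊤ : Submodule A M) →
      ∃ n : N, n ∈ (J ^ k • ⊤ : Submodule A N) ∧
        x - u n ∈ (J ^ (k + 1) • ⊤ : Submodule A M) := by
    intro k x hx
    refine Submodule.smul_induction_on hx (fun a ha m _ => ?_) (fun x y hx hy => ?_)
    · obtain ⟨n₀, hn₀⟩ := hsurj m
      refine ⟨a • n₀, Submodule.smul_mem_smul ha Submodule.mem_top, ?_⟩
      rw [map_smul, ← smul_sub, pow_succ, Submodule.mul_smul]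
      exact Submodule.smul_mem_smul ha hn₀
    · obtain ⟨n₁, h1, h1'⟩ := hx
      obtain ⟨n₂, h2, h2'⟩ := hy
      refine ⟨n₁ + n₂, add_mem h1 h2, ?_⟩
      have h3 : x + y - u (n₁ + n₂) = (x - u n₁) + (y - u n₂) := by
        rw [map_add]
        abel
      rw [h3]
      exact add_mem h1' h2'
  have hsurj' : Function.Surjective u := by
    intro m
    have hS1' : ∀ (k : ℕ) (x : M), ∃ n : N, x ∈ (J ^ k • ⊤ : Submodule A M) →
        (n ∈ (J ^ k • ⊤ : Submodule A N) ∧ x - u n ∈ (J ^ (k + 1) • ⊤ : Submodule A M)) := by
      intro k x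
      by_cases hx : x ∈ (J ^ k • ⊤ : Submodule A M)
      · obtain ⟨n, hn⟩ := hS1 k x hx
        exact ⟨n, fun _ => hn⟩
      · exact ⟨0, fun h => absurd h hx⟩
    choose c hc using hS1'
    let s : ℕ → N := fun k => Nat.rec (0 : N) (fun k sk => sk + c k (m - u sk)) k
    have hss : ∀ k, s (k + 1) = s k + c k (m - u (s k)) := fun k => rfl
    have hmem : ∀ k, m - u (s k) ∈ (J ^ k • ⊤ : Submodule A M) := by
      intro k
      induction k with
      | zero =>
        rw [pow_zero, Ideal.one_eq_top, Submodule.top_smul]
        exact Submodule.mem_top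
      | succ k ih =>
        rw [hss, map_add, ← sub_sub]
        exact (hc k _ ih).2
    have hdiff : ∀ k, s (k + 1) - s k ∈ (J ^ k • ⊤ : Submodule A N) := by
      intro k
      rw [hss, add_sub_cancel_left]
      exact (hc k _ (hmem k)).1
    have hcauchy : ∀ {a b : ℕ}, a ≤ b → s a ≡ s b [SMOD (J ^ a • ⊤ : Submodule A N)] := by
      intro a b hab
      induction b, hab using Nat.le_induction with
      | base => exact SModEq.refl _
      | succ b hab ih =>
        refine ih.trans ?_
        rw [SModEq.sub_mem]
        have h1 : s b - s (b + 1) = -(s (b + 1) - s b) := by abel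
        rw [h1]
        refine neg_mem ?_
        exact Submodule.smul_mono_left (Ideal.pow_le_pow_right hab) (hdiff b)
    obtain ⟨L, hL⟩ := IsPrecomplete.prec (inferInstance : IsPrecomplete J N) hcauchy
    refine ⟨L, ?_⟩
    have hzero : m - u L = 0 := by
      refine IsHausdorff.haus' (I := J) _ fun k => ?_
      rw [SModEq.zero]
      have h1 : m - u L = (m - u (s k)) + u (s k - L) := by
        rw [map_sub]
        abel
      rw [h1]
      exact add_mem (hmem k) (hS0 k _ (SModEq.sub_mem.1 (hL k)))
    exact (sub_eq_zero.1 hzero).symm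
  have hinj' : Function.Injective u := by
    rw [injective_iff_map_eq_zero]
    intro n hn
    refine IsHausdorff.haus' (I := J) n fun k => ?_
    rw [SModEq.zero]
    induction k with
    | zero =>
      rw [pow_zero, Ideal.one_eq_top, Submodule.top_smul]
      exact Submodule.mem_top
    | succ k ih =>
      have hspan : (⊤ : Submodule A N) = Submodule.span A (Set.range (id : N → N)) := by
        rw [Set.range_id, Submodule.span_univ]
      rw [hspan, Submodule.mem_ideal_smul_span_iff_exists_sum] at ih
      obtain ⟨a, ha, hsum⟩ := ih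
      have hsum' : ∑ i ∈ a.support, a i • i = n := hsum
      have hrel : ∑ i : a.support, a i.1 • u i.1 = 0 := by
        rw [Finset.sum_coe_sort a.support (fun i => a i • u i), ← hn, ← hsum', map_sum]
        exact Finset.sum_congr rfl fun i _ => (map_smul u _ _).symm
      obtain ⟨κ, b, y, hxy₀, hab₀⟩ := Module.Flat.isTrivialRelation_of_sum_smul_eq_zero hrel
      have hxy : ∀ i : a.support, u i.1 = ∑ j, b i j • y j := hxy₀
      have hab : ∀ j, ∑ i : a.support, a i.1 * b i j = 0 := hab₀
      choose n' hn' using fun j => hsurj' (y j)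
      have hstep : ∀ i : a.support, i.1 - ∑ j, b i j • n' j ∈ (J • ⊤ : Submodule A N) := by
        intro i
        apply hinj
        rw [map_sub, map_sum]
        have h3 : ∑ j, u (b i j • n' j) = u i.1 := by
          rw [hxy i]
          exact Finset.sum_congr rfl fun j _ => by rw [map_smul, hn']
        rw [h3, sub_self]
        exact zero_mem _
      have hdecomp : n = ∑ i : a.support, a i.1 • (i.1 - ∑ j, b i j • n' j) := by
        have h2 : ∑ i : a.support, a i.1 • ∑ j, b i j • n' j = 0 := by
          simp_rw [Finset.smul_sum, smul_smul]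
          rw [Finset.sum_comm]
          refine Finset.sum_eq_zero fun j _ => ?_
          rw [← Finset.sum_smul, hab j, zero_smul]
        simp_rw [smul_sub]
        rw [Finset.sum_sub_distrib, h2, sub_zero,
          Finset.sum_coe_sort a.support (fun i => a i • i)]
        exact hsum'.symm
      rw [hdecomp, pow_succ, Submodule.mul_smul]
      exact Submodule.sum_mem _ fun i _ => Submodule.smul_mem_smul (ha i.1) (hstep i)
  exact ⟨hinj', hsurj'⟩

end Groth.Agent.S4515
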