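import Groth.Statements.S4516
import Mathlib

set_option autoImplicit false
universe u
open EGA41

namespace Groth.Agent.S4516

/-- Let p be a prime, B an A-algebra of characteristic p and A' an A-subalgebra of B contained in
A[B^p]. Then the canonical map between Ω_{B/A} and Ω_{B/A'} is bijective (every A-derivation of B
vanishes on A[B^p]). -/
theorem result (p : ℕ) [Fact p.Prime] {A B : Type u}
    [CommRing A] [CommRing B] [Algebra A B] [CharP B p] (A' : Subalgebra A B)
    (hA' : A' ≤ EGA41.pPowerSubalgebra p A B) :
    Function.Bijective (KaehlerDifferential.map A A' B B) := by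
  refine ⟨?_, KaehlerDifferential.map_surjective A A' B⟩
  -- every A-derivation vanishes on A[B^p]
  have h0 : ∀ x ∈ EGA41.pPowerSubalgebra p A B, KaehlerDifferential.D A B x = 0 := by
    intro x hx
    unfold EGA41.pPowerSubalgebra at hx
    induction hx using Algebra.adjoin_induction with
    | mem x hx =>
      obtain ⟨b, rfl⟩ := hx
      simp only
      rw [Derivation.leibniz_pow]
      have hp : (p : B) = 0 := CharP.cast_eq_zero B p
      rw [← Nat.cast_smul_eq_nsmul B, hp, zero_smul]
    | algebraMap r => exact Derivation.map_algebraMap _ r
    | add x y _ _ hx hy => rw [map_add, hx, hy, add_zero]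
    | mul x y _ _ hx hy => rw [Derivation.leibniz, hx, hy, smul_zero, smul_zero, add_zero]
  -- the universal A-derivation is A'-linear
  let D' : Derivation A' B (Ω[B⁄A]) :=
    { toFun := KaehlerDifferential.D A B
      map_add' := map_add _
      map_smul' := by
        intro a x
        simp only [RingHom.id_apply]
        rw [Subalgebra.smul_def, smul_eq_mul, Derivation.leibniz, h0 _ (hA' a.2), smul_zero,
          add_zero]
        exact algebraMap_smul B a _
      map_one_eq_zero' := Derivation.map_one_eq_zero _
      leibniz' := Derivation.leibniz _ }
  have key : D'.liftKaehlerDifferential ∘ₗ (KaehlerDifferential.map A A' B B) = LinearMap.id := by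
    apply Derivation.liftKaehlerDifferential_unique
    ext x
    show D'.liftKaehlerDifferential (KaehlerDifferential.map A A' B B (KaehlerDifferential.D A B x))
      = KaehlerDifferential.D A B x
    rw [KaehlerDifferential.map_D, Algebra.algebraMap_self, RingHom.id_apply,
      Derivation.liftKaehlerDifferential_comp_D]
    rfl
  exact Function.LeftInverse.injective (g := D'.liftKaehlerDifferential)
    (fun x => LinearMap.congr_fun key x)

end Groth.Agent.S4516
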