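import Groth.Statements.S4518
import Mathlib

set_option autoImplicit false
universe u
open EGA41

namespace Groth.Agent.S4518

section general
variable (p : ℕ) {R T : Type u} [CommRing R] [CommRing T] [Algebra R T]

theorem mem_pPower (hpow : ∀ t : T, t ^ p ∈ Set.range (algebraMap R T)) {s : T}
    (hs : s ∈ EGA41.pPowerSubalgebra p R T) : ∃ r, algebraMap R T r = s := by
  have hle : EGA41.pPowerSubalgebra p R T ≤ ⊥ := by
    apply Algebra.adjoin_le
    rintro _ ⟨t, rfl⟩
    exact SetLike.mem_coe.2 (Algebra.mem_bot.2 (hpow t))
  exact Algebra.mem_bot.1 (hle hs)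

theorem gen_iff (hpow : ∀ t : T, t ^ p ∈ Set.range (algebraMap R T)) {idx : Type*}
    (v : idx → T) :
    Submodule.span (EGA41.pPowerSubalgebra p R T) (Set.range v) = ⊤ ↔
      Submodule.span R (Set.range v) = ⊤ := by
  have h1 : ∀ t, t ∈ Submodule.span (EGA41.pPowerSubalgebra p R T) (Set.range v) →
      t ∈ Submodule.span R (Set.range v) := by
    intro t ht
    induction ht using Submodule.span_induction with
    | mem t ht => exact Submodule.subset_span ht
    | zero => exact Submodule.zero_mem _
    | add a b _ _ ha hb => exact Submodule.add_mem _ ha hb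
    | smul s t _ ht =>
      obtain ⟨r, hr⟩ := mem_pPower p hpow s.2
      have h0 : s • t = r • t := by
        rw [Subalgebra.smul_def, smul_eq_mul, Algebra.smul_def, hr]
      rw [h0]; exact Submodule.smul_mem _ _ ht
  have h2 : ∀ t, t ∈ Submodule.span R (Set.range v) →
      t ∈ Submodule.span (EGA41.pPowerSubalgebra p R T) (Set.range v) := by
    intro t ht
    induction ht using Submodule.span_induction with
    | mem t ht => exact Submodule.subset_span ht
    | zero => exact Submodule.zero_mem _
    | add a b _ _ ha hb => exact Submodule.add_mem _ ha hb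
    | smul r t _ ht =>
      have h0 : r • t = (⟨algebraMap R T r, Subalgebra.algebraMap_mem _ r⟩ :
          EGA41.pPowerSubalgebra p R T) • t := by
        rw [Subalgebra.smul_def, smul_eq_mul, Algebra.smul_def]
      rw [h0]; exact Submodule.smul_mem _ _ ht
  constructor
  · intro h; rw [eq_top_iff]; intro t _; exact h1 t (by rw [h]; exact Submodule.mem_top)
  · intro h; rw [eq_top_iff]; intro t _; exact h2 t (by rw [h]; exact Submodule.mem_top)

theorem ind_iff (hpow : ∀ t : T, t ^ p ∈ Set.range (algebraMap R T)) {idx : Type*}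
    (v : idx → T) :
    LinearIndependent (EGA41.pPowerSubalgebra p R T) v ↔
      ∀ (s : Finset idx) (a : idx → R), ∑ e ∈ s, a e • v e = 0 →
        ∀ e ∈ s, algebraMap R T (a e) = 0 := by
  rw [linearIndependent_iff']
  constructor
  · intro h s a hs e he
    have hsum : ∑ e ∈ s, (⟨algebraMap R T (a e), Subalgebra.algebraMap_mem _ (a e)⟩ :
        EGA41.pPowerSubalgebra p R T) • v e = 0 := by
      rw [← hs]
      refine Finset.sum_congr rfl (fun e _ => ?_)
      rw [Subalgebra.smul_def, smul_eq_mul, Algebra.smul_def]
    have h1 := h s _ hsum e he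
    exact congrArg Subtype.val h1
  · intro h s g hs e he
    choose a ha using fun e => mem_pPower p hpow (g e).2
    have hsum : ∑ e ∈ s, a e • v e = 0 := by
      rw [← hs]
      refine Finset.sum_congr rfl (fun e _ => ?_)
      rw [Subalgebra.smul_def, smul_eq_mul, Algebra.smul_def, ha e]
    have h1 := h s a hsum e he
    apply Subtype.ext
    rw [← ha e, h1]; rfl

end general

section tower
variable (p : ℕ) {A C B : Type u} [CommRing A] [CommRing C] [CommRing B] [Algebra A C]
  [Algebra C B] [Algebra A B] [IsScalarTower A C B] {ι κ : Type u}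

/-- index types -/
abbrev IX (p : ℕ) (ι : Type u) := {e : ι →₀ ℕ // ∀ i, e i < p}

noncomputable def pair (e : IX p ι) (f : IX p κ) : IX p (ι ⊕ κ) :=
  ⟨Finsupp.sumElim e.1 f.1, by
    rintro (i | j)
    · exact e.2 i
    · exact f.2 j⟩

noncomputable def fstX (g : IX p (ι ⊕ κ)) : IX p ι :=
  ⟨g.1.comapDomain Sum.inl Sum.inl_injective.injOn, fun i => g.2 (Sum.inl i)⟩

noncomputable def sndY (g : IX p (ι ⊕ κ)) : IX p κ :=
  ⟨g.1.comapDomain Sum.inr Sum.inr_injective.injOn, fun j => g.2 (Sum.inr j)⟩

theorem pair_eta (g : IX p (ι ⊕ κ)) : pair p (fstX p g) (sndY p g) = g :=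
  Subtype.ext (Finsupp.comapDomain_sumElim_comapDomain g.1)

theorem fstX_pair (e : IX p ι) (f : IX p κ) : fstX p (pair p e f) = e :=
  Subtype.ext (Finsupp.comapDomain_inl_sumElim e.1 f.1)

theorem sndY_pair (e : IX p ι) (f : IX p κ) : sndY p (pair p e f) = f :=
  Subtype.ext (Finsupp.comapDomain_inr_sumElim e.1 f.1)

theorem mon_pair (x : ι → C) (y : κ → B) (e : IX p ι) (f : IX p κ) :
    EGA41.pMonomial (Sum.elim (fun i => algebraMap C B (x i)) y) (pair p e f).1 =
      algebraMap C B (EGA41.pMonomial x e.1) * EGA41.pMonomial y f.1 := by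
  unfold EGA41.pMonomial
  show (Finsupp.sumElim e.1 f.1).prod _ = _
  rw [Finsupp.prod_sumElim, map_finsuppProd]
  congr 1
  refine Finsupp.prod_congr (fun i _ => ?_)
  simp only [Function.comp_apply, Sum.elim_inl, map_pow]

theorem dsum (x : ι → C) (y : κ → B) (sX : Finset (IX p ι)) (sY : Finset (IX p κ))
    (w : IX p ι → IX p κ → A) [DecidableEq (IX p (ι ⊕ κ))] :
    ∑ f ∈ sY, (∑ e ∈ sX, w e f • EGA41.pMonomial x e.1) • EGA41.pMonomial y f.1 =
      ∑ g ∈ (sX ×ˢ sY).image (fun q => pair p q.1 q.2),
        w (fstX p g) (sndY p g) •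
          EGA41.pMonomial (Sum.elim (fun i => algebraMap C B (x i)) y) g.1 := by
  rw [Finset.sum_image, Finset.sum_product_right]
  · refine Finset.sum_congr rfl (fun f _ => ?_)
    rw [Finset.sum_smul]
    refine Finset.sum_congr rfl (fun e _ => ?_)
    rw [fstX_pair, sndY_pair, mon_pair, smul_assoc, Algebra.smul_def (EGA41.pMonomial x e.1)]
  · intro q _ q' _ h
    have h1 := congrArg (fstX p) h
    have h2 := congrArg (sndY p) h
    simp only [fstX_pair, sndY_pair] at h1 h2
    exact Prod.ext h1 h2

end tower

/-- Let p be a prime and A → C → B rings of characteristic p with C → B injective and every p-th power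
of B in the image of A (so, identifying, B^p ⊆ A ⊆ C ⊆ B up to replacing A by its image); let x be a
family of elements of C and y a family of elements of B. (i) If x is a system of p-generators of C
over A and y one of B over C, then the family obtained by putting x (viewed in B) and y together is
a system of p-generators of B over A. (ii) If x is a p-basis of C over A, then y is p-independent
over C if and only if the combined family is p-independent over A. (The published statement only
asks B^p ⊆ C and reduces to B^p ⊆ A by enlarging A to A[B^p]; but p-independence of x in C over A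
refers to A[C^p], which can be smaller than A[B^p] — for A = 𝔽_p, C = 𝔽_p(t^p) ⊂ B = 𝔽_p(t), x =
(t^p), y = (t), x is a p-basis of C over A and y is p-independent over C while (t^p, t) is not
p-independent over A — so this row assumes B^p ⊆ A, the case the published proof treats.) -/
theorem result (p : ℕ) [Fact p.Prime] {A C B : Type u} [CommRing A] [CommRing C]
    [CommRing B] [Algebra A C] [Algebra C B] [Algebra A B] [IsScalarTower A C B] [CharP B p]
    (hinj : Function.Injective (algebraMap C B)) (hpow : ∀ b : B, b ^ p ∈ Set.range (algebraMap A B))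
    {ι κ : Type u} (x : ι → C) (y : κ → B) :
    (EGA41.IsPGenerating p A x → EGA41.IsPGenerating p C y →
      EGA41.IsPGenerating p A (Sum.elim (fun i => algebraMap C B (x i)) y)) ∧
    (EGA41.IsPBasis p A x →
      (EGA41.IsPIndependent p C y ↔ EGA41.IsPIndependent p A (Sum.elim (fun i => algebraMap C B (x i)) y))) := by
  classical
  have hpowCB : ∀ b : B, b ^ p ∈ Set.range (algebraMap C B) := by
    intro b
    obtain ⟨a, ha⟩ := hpow b
    exact ⟨algebraMap A C a, by rw [← IsScalarTower.algebraMap_apply, ha]⟩
  have hpowAC : ∀ c : C, c ^ p ∈ Set.range (algebraMap A C) := by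
    intro c
    obtain ⟨a, ha⟩ := hpow (algebraMap C B c)
    refine ⟨a, hinj ?_⟩
    rw [← IsScalarTower.algebraMap_apply, ha, map_pow]
  constructor
  · -- generation
    intro hx hy
    unfold EGA41.IsPGenerating at hx hy ⊢
    rw [gen_iff p hpowAC] at hx
    rw [gen_iff p hpowCB] at hy
    rw [gen_iff p hpow, eq_top_iff]
    intro b _
    have Q : ∀ (c : C) (f : IX p κ), c • EGA41.pMonomial y f.1 ∈ Submodule.span A (Set.range
        fun g : IX p (ι ⊕ κ) =>
          EGA41.pMonomial (Sum.elim (fun i => algebraMap C B (x i)) y) g.1) := by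
      intro c f
      have hc : c ∈ Submodule.span A (Set.range fun e : IX p ι => EGA41.pMonomial x e.1) := by
        rw [hx]; exact Submodule.mem_top
      induction hc using Submodule.span_induction with
      | mem c hc =>
        obtain ⟨e, rfl⟩ := hc
        refine Submodule.subset_span ⟨pair p e f, ?_⟩
        show EGA41.pMonomial _ (pair p e f).1 = _
        rw [mon_pair, Algebra.smul_def]
      | zero => rw [zero_smul]; exact Submodule.zero_mem _
      | add c₁ c₂ _ _ h₁ h₂ => rw [add_smul]; exact Submodule.add_mem _ h₁ h₂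
      | smul a c _ h => rw [smul_assoc]; exact Submodule.smul_mem _ _ h
    have hb : b ∈ Submodule.span C (Set.range fun f : IX p κ => EGA41.pMonomial y f.1) := by
      rw [hy]; exact Submodule.mem_top
    obtain ⟨l, hl⟩ := Finsupp.mem_span_range_iff_exists_finsupp.1 hb
    rw [← hl, Finsupp.sum]
    exact Submodule.sum_mem _ (fun f _ => Q (l f) f)
  · -- independence
    rintro ⟨hxI, hxG⟩
    unfold EGA41.IsPIndependent at hxI ⊢
    unfold EGA41.IsPGenerating at hxG
    rw [ind_iff p hpowAC] at hxI
    rw [gen_iff p hpowAC] at hxG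
    rw [ind_iff p hpowCB, ind_iff p hpow]
    constructor
    · intro hyI s a hs g hg
      obtain ⟨a', ha'⟩ : ∃ a' : IX p (ι ⊕ κ) → A, a' = fun g => if g ∈ s then a g else 0 :=
        ⟨_, rfl⟩
      have ha's : ∀ g ∈ s, a' g = a g := fun g hg => by rw [ha']; exact if_pos hg
      have ha'n : ∀ g, g ∉ s → a' g = 0 := fun g hg => by rw [ha']; exact if_neg hg
      have hsub : s ⊆ ((s.image (fstX p)) ×ˢ (s.image (sndY p))).image
          (fun q => pair p q.1 q.2) := by
        intro g hg
        refine Finset.mem_image.2 ⟨(fstX p g, sndY p g), Finset.mem_product.2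
          ⟨Finset.mem_image_of_mem _ hg, Finset.mem_image_of_mem _ hg⟩, pair_eta p g⟩
      have h1 := dsum p x y (s.image (fstX p)) (s.image (sndY p))
        (fun e f => a' (pair p e f))
      have h2 : ∑ g ∈ ((s.image (fstX p)) ×ˢ (s.image (sndY p))).image
          (fun q => pair p q.1 q.2), a' (pair p (fstX p g) (sndY p g)) •
            EGA41.pMonomial (Sum.elim (fun i => algebraMap C B (x i)) y) g.1 = 0 := by
        rw [← hs]
        symm
        rw [← Finset.sum_subset hsub]
        · refine Finset.sum_congr rfl (fun g hg => ?_)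
          rw [pair_eta, ha's g hg]
        · intro g _ hg
          rw [pair_eta, ha'n g hg, zero_smul]
      rw [← h1] at h2
      have h3 := hyI _ _ h2 (sndY p g) (Finset.mem_image_of_mem _ hg)
      have h4 := hinj (h3.trans (map_zero _).symm)
      have h5 := hxI _ _ h4 (fstX p g) (Finset.mem_image_of_mem _ hg)
      rw [pair_eta, ha's g hg] at h5
      rw [IsScalarTower.algebraMap_apply A C B, h5, map_zero]
    · intro hxyI s c hs f hf
      have hc : ∀ f, ∃ l : IX p ι →₀ A, (l.sum fun e a => a • EGA41.pMonomial x e.1) = c f := by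
        intro f
        apply Finsupp.mem_span_range_iff_exists_finsupp.1
        rw [hxG]; exact Submodule.mem_top
      choose l hl using hc
      obtain ⟨sX, hsX⟩ : ∃ sX : Finset (IX p ι), sX = s.biUnion (fun f => (l f).support) :=
        ⟨_, rfl⟩
      have hcf : ∀ f ∈ s, c f = ∑ e ∈ sX, l f e • EGA41.pMonomial x e.1 := by
        intro f hf
        rw [← hl f, Finsupp.sum]
        apply Finset.sum_subset
        · intro e he
          rw [hsX]; exact Finset.mem_biUnion.2 ⟨f, hf, he⟩
        · intro e _ he
          rw [Finsupp.notMem_support_iff.1 he, zero_smul]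
      have h1 := dsum p x y sX s (fun e f => l f e)
      have h2 : ∑ f ∈ s, (∑ e ∈ sX, l f e • EGA41.pMonomial x e.1) • EGA41.pMonomial y f.1
          = 0 := by
        rw [← hs]
        refine Finset.sum_congr rfl (fun f hf => ?_)
        rw [← hcf f hf]
      rw [h1] at h2
      have h3 : ∀ e ∈ sX, algebraMap A C (l f e) = 0 := by
        intro e he
        have h4 := hxyI _ _ h2 (pair p e f) (Finset.mem_image.2 ⟨(e, f),
          Finset.mem_product.2 ⟨he, hf⟩, rfl⟩)
        rw [fstX_pair, sndY_pair, IsScalarTower.algebraMap_apply A C B] at h4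
        exact hinj (h4.trans (map_zero _).symm)
      have h5 : c f = 0 := by
        rw [hcf f hf]
        apply Finset.sum_eq_zero
        intro e he
        rw [Algebra.smul_def, h3 e he, zero_mul]
      rw [h5, map_zero]

end Groth.Agent.S4518
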