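import Groth.Statements.S4519
import Mathlib
import Groth.Agent.S2464

set_option autoImplicit false
universe u
open EGA41

namespace Groth.Agent.S4519

/-- Let p be a prime, B a ring of characteristic p and A a subring of B with B^p ⊆ A (here: A → B
injective with every p-th power in its image; R → A → B with the image of R in B equal to the set of
p-th powers, so that R stands for B^p). If B admits a p-basis over A, then B is a formally smooth
A-algebra relative to R for the discrete topologies (square-zero liftings, as in the prelude's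
relative notion). -/
theorem result (p : ℕ) [Fact p.Prime] {R A B : Type u} [CommRing R] [CommRing A]
    [CommRing B] [Algebra R A] [Algebra A B] [Algebra R B] [IsScalarTower R A B] [CharP B p]
    (hinj : Function.Injective (algebraMap A B)) (hpow : ∀ b : B, b ^ p ∈ Set.range (algebraMap A B))
    (hR : Set.range (algebraMap R B) = Set.range fun b : B => b ^ p)
    {ι : Type u} (x : ι → B) (hx : EGA41.IsPBasis p A x) :
    EGA41.IsFormallySmoothRel R A B := by
  intro C _ _ _ _ J hJ u₀ ⟨u, hu⟩
  classical
  have hpp : p.Prime := Fact.out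
  let φ : (B × C) →ₐ[A] (C ⧸ J) := u₀.comp (AlgHom.fst A B C)
  let ψ : (B × C) →ₐ[A] (C ⧸ J) := (Ideal.Quotient.mkₐ A J).comp (AlgHom.snd A B C)
  let E : Subalgebra A (B × C) := AlgHom.equalizer φ ψ
  let q : E →ₐ[A] B := (AlgHom.fst A B C).comp E.val
  have hmemE : ∀ z : B × C, z ∈ E ↔ u₀ z.1 = Ideal.Quotient.mk J z.2 := fun z => Iff.rfl
  have hq : Function.Surjective q := by
    intro b
    obtain ⟨c, hc⟩ := Ideal.Quotient.mk_surjective (u₀ b)
    exact ⟨⟨(b, c), (hmemE _).2 hc.symm⟩, rfl⟩
  have hker : ∀ z : E, z ∈ RingHom.ker q.toRingHom →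
      (z : B × C).1 = 0 ∧ (z : B × C).2 ∈ J := by
    intro z hz
    have h1 : (z : B × C).1 = 0 := hz
    refine ⟨h1, ?_⟩
    have h2 := (hmemE z.1).1 z.2
    rw [h1, map_zero] at h2
    exact Ideal.Quotient.eq_zero_iff_mem.1 h2.symm
  have hK2 : RingHom.ker q.toRingHom ^ 2 = ⊥ := by
    rw [sq, ← le_bot_iff, Ideal.mul_le]
    intro z hz w hw
    obtain ⟨hz1, hz2⟩ := hker z hz
    obtain ⟨hw1, hw2⟩ := hker w hw
    rw [Ideal.mem_bot]
    apply Subtype.ext
    apply Prod.ext
    · show (z : B × C).1 * (w : B × C).1 = 0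
      rw [hz1, zero_mul]
    · show (z : B × C).2 * (w : B × C).2 = 0
      have h0 : (z : B × C).2 * (w : B × C).2 ∈ J ^ 2 := by
        rw [sq]; exact Ideal.mul_mem_mul hz2 hw2
      rw [hJ] at h0
      exact h0
  have hK : RingHom.ker q.toRingHom ^ p = ⊥ := by
    rw [← le_bot_iff, ← hK2]
    exact Ideal.pow_le_pow_right hpp.two_le
  have hcharC : (p : C) = 0 := by
    have hA : (p : A) = 0 := by
      apply hinj
      rw [map_natCast, map_zero]
      exact CharP.cast_eq_zero B p
    have h0 := congrArg (algebraMap A C) hA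
    rwa [map_natCast, map_zero] at h0
  obtain ⟨h1, -⟩ := Groth.Agent.S2464.result p hinj hpow x hx q hq hK
  have hcond : ∀ (z : E) (a : A), algebraMap A B a = q z ^ p → algebraMap A E a = z ^ p := by
    intro z a ha
    apply Subtype.ext
    apply Prod.ext
    · show algebraMap A B a = (z : B × C).1 ^ p
      exact ha
    · show algebraMap A C a = (z : B × C).2 ^ p
      have hzE := (hmemE z.1).1 z.2
      have hub : Ideal.Quotient.mk J (u (z : B × C).1) = u₀ (z : B × C).1 :=
        AlgHom.congr_fun hu (z : B × C).1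
      have hdiff : (z : B × C).2 - u (z : B × C).1 ∈ J := by
        rw [← Ideal.Quotient.eq_zero_iff_mem, map_sub, hub, hzE, sub_self]
      have hcp : (z : B × C).2 ^ p = (u (z : B × C).1) ^ p := by
        rcases subsingleton_or_nontrivial C with hC | hC
        · exact Subsingleton.elim _ _
        haveI : CharP C p := (CharP.charP_iff_prime_eq_zero hpp).2 hcharC
        obtain ⟨j, hj⟩ : ∃ j, j = (z : B × C).2 - u (z : B × C).1 := ⟨_, rfl⟩
        have hjJ : j ∈ J := hj ▸ hdiff
        have hc : (z : B × C).2 = u (z : B × C).1 + j := by rw [hj]; ring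
        have hjj : j ^ 2 = 0 := by
          have h0 : j ^ 2 ∈ J ^ 2 := Ideal.pow_mem_pow hjJ 2
          rw [hJ] at h0
          exact h0
        have hjp : j ^ p = 0 := by
          obtain ⟨n, hn⟩ := Nat.exists_eq_add_of_le hpp.two_le
          rw [hn, pow_add, hjj, zero_mul]
        rw [hc, add_pow_char (u (z : B × C).1) j p, hjp, add_zero]
      have hbp : (z : B × C).1 ^ p ∈ Set.range (algebraMap R B) := by rw [hR]; exact ⟨_, rfl⟩
      obtain ⟨r, hr⟩ := hbp
      have har : a = algebraMap R A r := by
        apply hinj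
        rw [ha, ← IsScalarTower.algebraMap_apply, hr]
        rfl
      rw [hcp, ← map_pow, ← hr, AlgHom.commutes, har, ← IsScalarTower.algebraMap_apply]
  obtain ⟨v', hv'⟩ := h1.2 hcond
  refine ⟨(AlgHom.snd A B C).comp (E.val.comp v'), ?_⟩
  ext b
  have hmem := (hmemE (v' b).1).1 (v' b).2
  have hqb : ((v' b : E) : B × C).1 = b := AlgHom.congr_fun hv' b
  show Ideal.Quotient.mk J ((v' b : E) : B × C).2 = u₀ b
  rw [← hmem, hqb]

end Groth.Agent.S4519
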