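import Groth.Statements.S4521
import Mathlib

set_option autoImplicit false
universe u
open EGA41

namespace Groth.Agent.S4521

section helpers
open EGA41

variable (p : ℕ) [hp : Fact p.Prime] {k K : Type u} [Field k] [Field K] [Algebra k K] [CharP K p]
  {ι : Type u} (x : ι → K)

/-- index type of reduced exponent vectors -/
abbrev E (p : ℕ) (ι : Type u) := {e : ι →₀ ℕ // ∀ i, e i < p}

lemma pMon_zero : pMonomial x (0 : ι →₀ ℕ) = 1 := Finsupp.prod_zero_index

lemma pMon_add (e e' : ι →₀ ℕ) : pMonomial x (e + e') = pMonomial x e * pMonomial x e' :=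
  Finsupp.prod_add_index' (fun _ => pow_zero _) (fun _ _ _ => pow_add _ _ _)

lemma pMon_single (a : ι) (n : ℕ) : pMonomial x (Finsupp.single a n) = x a ^ n :=
  Finsupp.prod_single_index (pow_zero _)

lemma pMon_erase (e : ι →₀ ℕ) (a : ι) :
    x a ^ (e a) * pMonomial x (e.erase a) = pMonomial x e :=
  Finsupp.mul_prod_erase' e a (fun i n => x i ^ n) (fun _ => pow_zero _)

lemma pMon_divmod (e : ι →₀ ℕ) :
    pMonomial x e = (pMonomial x (e.mapRange (· / p) (Nat.zero_div p))) ^ p *
      pMonomial x (e.mapRange (· % p) (Nat.zero_mod p)) := by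
  unfold pMonomial
  rw [Finsupp.prod_mapRange_index (fun _ => pow_zero _),
    Finsupp.prod_mapRange_index (fun _ => pow_zero _)]
  rw [Finsupp.prod, Finsupp.prod, Finsupp.prod, ← Finset.prod_pow, ← Finset.prod_mul_distrib]
  apply Finset.prod_congr rfl
  intro i _
  rw [← pow_mul, ← pow_add, Nat.div_add_mod']

lemma pow_indep (F : IntermediateField k K) (hF : ∀ y : K, y ^ p ∈ F) (z : K) (hz : z ∉ F)
    (c : ℕ → K) (hc : ∀ j, c j ∈ F) (hsum : ∑ j ∈ Finset.range p, c j * z ^ j = 0) :
    ∀ j < p, c j = 0 := by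
  have hpp : p.Prime := hp.out
  obtain ⟨a', ha'⟩ : ∃ a' : F, a' = ⟨z ^ p, hF z⟩ := ⟨_, rfl⟩
  have hne : ∀ b : F, b ^ p ≠ a' := by
    intro b hb
    have h1 : ((b : K)) ^ p = z ^ p := by
      have h0 := congrArg Subtype.val hb
      rw [ha'] at h0
      simpa using h0
    have h2 : (b : K) = z := frobenius_inj K p (by rw [frobenius_def, frobenius_def]; exact h1)
    exact hz (h2 ▸ b.2)
  have hirr : Irreducible (Polynomial.X ^ p - Polynomial.C a' : Polynomial F) :=
    X_pow_sub_C_irreducible_of_prime hpp hne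
  have hmonic : (Polynomial.X ^ p - Polynomial.C a' : Polynomial F).Monic :=
    Polynomial.monic_X_pow_sub_C a' hpp.ne_zero
  have haeval : Polynomial.aeval z (Polynomial.X ^ p - Polynomial.C a' : Polynomial F) = 0 := by
    rw [map_sub, map_pow, Polynomial.aeval_X, Polynomial.aeval_C, ha']
    exact sub_self _
  have hmin := minpoly.eq_of_irreducible_of_monic hirr haeval hmonic
  have hli := linearIndependent_pow (K := F) z
  rw [← hmin, Polynomial.natDegree_X_pow_sub_C] at hli
  intro j hj
  have h0 := Fintype.linearIndependent_iff.1 hli (fun i => ⟨c i, hc i⟩) ?_ ⟨j, hj⟩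
  · exact congrArg Subtype.val h0
  · refine Eq.trans ?_ hsum
    rw [← Fin.sum_univ_eq_sum_range (fun j => c j * z ^ j) p]
    rfl

lemma fiber_sum_zero
    (h : ∀ a : ι, x a ∉ IntermediateField.adjoin k
      ((Set.range fun y : K => y ^ p) ∪ x '' {b | b ≠ a}))
    (a : ι) (s : Finset (E p ι)) (g : E p ι → pPowerSubalgebra p k K)
    (hsum : ∑ e ∈ s, g e • pMonomial x e.1 = 0) (j : ℕ) (hj : j < p) :
    ∑ e ∈ s.filter (fun e => e.1 a = j), g e • pMonomial x e.1 = 0 := by
  classical
  obtain ⟨F, hF⟩ : ∃ F : IntermediateField k K, F = IntermediateField.adjoin k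
    ((Set.range fun y : K => y ^ p) ∪ x '' {b | b ≠ a}) := ⟨_, rfl⟩
  have hFp : ∀ y : K, y ^ p ∈ F := fun y => by
    rw [hF]; exact IntermediateField.subset_adjoin _ _ (Or.inl ⟨y, rfl⟩)
  have hFx : ∀ b, b ≠ a → x b ∈ F := fun b hb => by
    rw [hF]; exact IntermediateField.subset_adjoin _ _ (Or.inr ⟨b, hb, rfl⟩)
  have hza : x a ∉ F := by rw [hF]; exact h a
  have hL : ∀ c : pPowerSubalgebra p k K, (c : K) ∈ F := by
    intro c
    have hle : pPowerSubalgebra p k K ≤ F.toSubalgebra := by
      apply Algebra.adjoin_le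
      rintro _ ⟨y, rfl⟩
      exact hFp y
    exact hle c.2
  have hm : ∀ e : E p ι, pMonomial x (e.1.erase a) ∈ F := by
    intro e
    unfold pMonomial
    rw [Finsupp.prod]
    apply prod_mem
    intro i hi
    apply pow_mem
    apply hFx
    rintro rfl
    rw [Finsupp.mem_support_iff, Finsupp.erase_same] at hi
    exact hi rfl
  obtain ⟨c, hcdef⟩ : ∃ c : ℕ → K, c = fun j =>
    ∑ e ∈ s.filter (fun e => e.1 a = j), (g e : K) * pMonomial x (e.1.erase a) := ⟨_, rfl⟩
  have hcF : ∀ j, c j ∈ F := by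
    intro j
    rw [hcdef]
    exact sum_mem fun e _ => mul_mem (hL _) (hm e)
  have hterm : ∀ j, ∀ e ∈ s.filter (fun e => e.1 a = j),
      g e • pMonomial x e.1 = ((g e : K) * pMonomial x (e.1.erase a)) * x a ^ j := by
    intro j e he
    have hej : e.1 a = j := (Finset.mem_filter.1 he).2
    rw [Subalgebra.smul_def, smul_eq_mul, ← pMon_erase x e.1 a, hej]
    ring
  have hfib : ∀ j, ∑ e ∈ s.filter (fun e => e.1 a = j), g e • pMonomial x e.1 =
      c j * x a ^ j := by
    intro j
    rw [hcdef, Finset.sum_mul]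
    exact Finset.sum_congr rfl (hterm j)
  have htot : ∑ j ∈ Finset.range p, c j * x a ^ j = 0 := by
    rw [← hsum, ← Finset.sum_fiberwise_of_maps_to (s := s) (t := Finset.range p)
      (g := fun e => e.1 a) (fun e _ => Finset.mem_range.2 (e.2 a))]
    exact Finset.sum_congr rfl fun j _ => (hfib j).symm
  rw [hfib j, pow_indep p F hFp (x a) hza c hcF htot j hj, zero_mul]

lemma backward
    (h : ∀ a : ι, x a ∉ IntermediateField.adjoin k
      ((Set.range fun y : K => y ^ p) ∪ x '' {b | b ≠ a})) :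
    IsPIndependent p k x := by
  classical
  have hx0 : ∀ b, x b ≠ 0 := by
    intro b hb
    apply h b
    rw [hb]
    exact zero_mem _
  show LinearIndependent (pPowerSubalgebra p k K) (fun e : E p ι => pMonomial x e.1)
  rw [linearIndependent_iff']
  intro s
  induction s using Finset.strongInduction with
  | H s ih =>
    intro g hsum i hi
    have hsum' : ∑ e ∈ s, g e • pMonomial x e.1 = 0 := hsum
    by_cases hd : ∃ a : ι, ∃ i₁ ∈ s, ∃ i₂ ∈ s, i₁.1 a ≠ i₂.1 a
    · obtain ⟨a, i₁, hi₁, i₂, hi₂, hne⟩ := hd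
      have hsub : s.filter (fun e => e.1 a = i.1 a) ⊂ s := by
        rw [Finset.filter_ssubset]
        by_cases h1 : i₁.1 a = i.1 a
        · exact ⟨i₂, hi₂, fun h2 => hne (h1.trans h2.symm)⟩
        · exact ⟨i₁, hi₁, h1⟩
      exact ih _ hsub g (fiber_sum_zero p x h a s g hsum' (i.1 a) (i.2 a)) i
        (Finset.mem_filter.2 ⟨hi, rfl⟩)
    · push Not at hd
      have hall : ∀ i' ∈ s, i' = i := fun i' hi' =>
        Subtype.ext (Finsupp.ext fun a => hd a i' hi' i hi)
      have hone : ∑ e ∈ s, g e • pMonomial x e.1 = g i • pMonomial x i.1 :=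
        Finset.sum_eq_single_of_mem i hi (fun b hb hne => absurd (hall b hb) hne)
      rw [hone, Subalgebra.smul_def, smul_eq_mul, mul_eq_zero] at hsum'
      rcases hsum' with h0 | h0
      · exact Subtype.ext h0
      · exfalso
        have hne0 : pMonomial x i.1 ≠ 0 := by
          unfold pMonomial
          rw [Finsupp.prod_ne_zero_iff]
          intro b _
          exact pow_ne_zero _ (hx0 b)
        exact hne0 h0

lemma forward (h : IsPIndependent p k x) (a : ι) :
    x a ∉ IntermediateField.adjoin k ((Set.range fun y : K => y ^ p) ∪ x '' {b | b ≠ a}) := by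
  classical
  intro hxa
  have hpp : p.Prime := hp.out
  have h2p : 2 ≤ p := hpp.two_le
  have hli : LinearIndependent (pPowerSubalgebra p k K)
      (fun e : E p ι => pMonomial x e.1) := h
  obtain ⟨W, hW⟩ : ∃ W : Submodule (pPowerSubalgebra p k K) K,
    W = Submodule.span (pPowerSubalgebra p k K)
      ((fun e : E p ι => pMonomial x e.1) '' {e : E p ι | e.1 a = 0}) := ⟨_, rfl⟩
  have hpow : ∀ y : K, y ^ p ∈ pPowerSubalgebra p k K := fun y => Algebra.subset_adjoin ⟨y, rfl⟩
  have hgen : ∀ e : E p ι, e.1 a = 0 → pMonomial x e.1 ∈ W := fun e he => by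
    rw [hW]; exact Submodule.subset_span ⟨e, he, rfl⟩
  have h1 : (1 : K) ∈ W := by
    have h0 := hgen ⟨0, fun i => hpp.pos⟩ rfl
    have h00 : pMonomial x (0 : ι →₀ ℕ) ∈ W := h0
    rwa [pMon_zero] at h00
  have hLW : ∀ c : pPowerSubalgebra p k K, (c : K) ∈ W := by
    intro c
    have h0 := W.smul_mem c h1
    rwa [Subalgebra.smul_def, smul_eq_mul, mul_one] at h0
  have hgg : ∀ e e' : E p ι, e.1 a = 0 → e'.1 a = 0 →
      pMonomial x e.1 * pMonomial x e'.1 ∈ W := by
    intro e e' he he'
    rw [← pMon_add, pMon_divmod p x (e.1 + e'.1)]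
    have hmem : pMonomial x ((e.1 + e'.1).mapRange (· % p) (Nat.zero_mod p)) ∈ W :=
      hgen ⟨(e.1 + e'.1).mapRange (· % p) (Nat.zero_mod p), fun i => by
        rw [Finsupp.mapRange_apply]; exact Nat.mod_lt _ hpp.pos⟩ (by
        show ((e.1 + e'.1).mapRange (· % p) (Nat.zero_mod p)) a = 0
        rw [Finsupp.mapRange_apply, Finsupp.add_apply, he, he', add_zero, Nat.zero_mod])
    have h0 := W.smul_mem
      ⟨_, hpow (pMonomial x ((e.1 + e'.1).mapRange (· / p) (Nat.zero_div p)))⟩ hmem
    rw [Subalgebra.smul_def, smul_eq_mul] at h0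
    exact h0
  have hmul1 : ∀ e : E p ι, e.1 a = 0 → ∀ w ∈ W, pMonomial x e.1 * w ∈ W := by
    intro e he w hw
    rw [hW] at hw
    induction hw using Submodule.span_induction with
    | mem w hw' =>
      obtain ⟨e', he', rfl⟩ := hw'
      exact hgg e e' he he'
    | zero => rw [mul_zero]; exact W.zero_mem
    | add w₁ w₂ _ _ ih₁ ih₂ => rw [mul_add]; exact W.add_mem ih₁ ih₂
    | smul c w _ ih =>
      rw [Subalgebra.smul_def, smul_eq_mul, mul_left_comm]
      have h0 := W.smul_mem c ih
      rwa [Subalgebra.smul_def, smul_eq_mul] at h0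
  have hmul : ∀ w' ∈ W, ∀ w ∈ W, w' * w ∈ W := by
    intro w' hw' w hw
    rw [hW] at hw'
    induction hw' using Submodule.span_induction with
    | mem w' hw'' =>
      obtain ⟨e, he, rfl⟩ := hw''
      exact hmul1 e he w hw
    | zero => rw [zero_mul]; exact W.zero_mem
    | add w₁ w₂ _ _ ih₁ ih₂ => rw [add_mul]; exact W.add_mem ih₁ ih₂
    | smul c w₁ _ ih =>
      rw [Subalgebra.smul_def, smul_eq_mul, mul_assoc]
      have h0 := W.smul_mem c ih
      rwa [Subalgebra.smul_def, smul_eq_mul] at h0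
  let S : Subalgebra k K :=
    { carrier := W
      mul_mem' := fun {a b} ha hb => hmul a ha b hb
      one_mem' := h1
      add_mem' := fun {a b} ha hb => W.add_mem ha hb
      zero_mem' := W.zero_mem
      algebraMap_mem' := fun r => hLW ⟨algebraMap k K r, Subalgebra.algebraMap_mem _ r⟩ }
  have hSW : ∀ w, w ∈ S ↔ w ∈ W := fun w => Iff.rfl
  have hinv : ∀ w ∈ S, w⁻¹ ∈ S := by
    intro w hw
    by_cases hw0 : w = 0
    · rw [hw0, inv_zero]; exact S.zero_mem
    obtain ⟨n, hn⟩ : ∃ n, p = n + 1 := ⟨p - 1, by omega⟩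
    have hid : w⁻¹ = w ^ n * (w⁻¹) ^ (n + 1) := by
      rw [pow_succ, ← mul_assoc, ← mul_pow, mul_inv_cancel₀ hw0, one_pow, one_mul]
    rw [hid]
    refine S.mul_mem (S.pow_mem hw n) ?_
    rw [hSW, ← hn]
    exact hLW ⟨_, hpow w⁻¹⟩
  have hle : IntermediateField.adjoin k ((Set.range fun y : K => y ^ p) ∪ x '' {b | b ≠ a}) ≤
      S.toIntermediateField hinv := by
    rw [IntermediateField.adjoin_le_iff]
    rintro _ (⟨y, rfl⟩ | ⟨b, hb, rfl⟩)
    · show _ ∈ W
      exact hLW ⟨_, hpow y⟩
    · show _ ∈ W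
      have h0 : pMonomial x (Finsupp.single b 1) ∈ W :=
        hgen ⟨Finsupp.single b 1, fun i => by
          rw [Finsupp.single_apply]; split_ifs <;> omega⟩ (by
          show (Finsupp.single b 1) a = 0
          rw [Finsupp.single_apply, if_neg hb])
      rwa [pMon_single, pow_one] at h0
  have hxaW : x a ∈ W := hle hxa
  have hnot := hli.notMem_span_image (s := {e : E p ι | e.1 a = 0})
    (x := ⟨Finsupp.single a 1, fun i => by
      rw [Finsupp.single_apply]; split_ifs <;> omega⟩) (by simp)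
  apply hnot
  rw [← hW]
  show pMonomial x (Finsupp.single a 1) ∈ W
  rw [pMon_single, pow_one]
  exact hxaW

end helpers

/-- Let k ⊆ K be fields of characteristic p > 0 and (x_α) a family of elements of K. Then (x_α) is
p-independent over k if and only if, for every α, x_α does not lie in the subfield generated over k
by K^p and the x_β with β ≠ α. -/
theorem result (p : ℕ) [Fact p.Prime] {k K : Type u} [Field k] [Field K]
    [Algebra k K] [CharP K p] {ι : Type u} (x : ι → K) :
    EGA41.IsPIndependent p k x ↔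
      ∀ a : ι, x a ∉ IntermediateField.adjoin k ((Set.range fun y : K => y ^ p) ∪ x '' {b | b ≠ a}) := by
  exact ⟨fun h a => forward p x h a, fun h => backward p x h⟩

end Groth.Agent.S4521
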