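import Groth.Statements.S4522
import Mathlib
import Groth.Agent.S2468
import Groth.Agent.S2467
import Groth.Agent.S4521

set_option autoImplicit false
universe u
open EGA41

namespace Groth.Agent.S4522

section helpers
open EGA41 TensorProduct

lemma injective_of_basis_of_linearIndependent {R M N ι : Type*} [CommRing R] [AddCommGroup M]
    [Module R M] [AddCommGroup N] [Module R N]
    (f : M →ₗ[R] N) (b : Module.Basis ι R M) (h : LinearIndependent R (fun i => f (b i))) :
    Function.Injective f := by
  rw [← LinearMap.ker_eq_bot, LinearMap.ker_eq_bot']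
  intro m hm
  have h1 : Finsupp.linearCombination R (fun i => f (b i)) (b.repr m) = 0 := by
    have h0 := Finsupp.apply_linearCombination R f b (b.repr m)
    rw [b.linearCombination_repr, hm] at h0
    exact h0.symm
  have h2 := linearIndependent_iff.1 h _ h1
  exact b.repr.map_eq_zero_iff.1 h2

end helpers

/-- Let L be a field of characteristic p > 0 and K a subfield with L^p ⊆ K ⊆ L (here R → K → L with the
image of R in L the set of p-th powers and every p-th power of L in the image of K). Then the
canonical L-linear map L ⊗_K Ω_{K/L^p} → Ω_{L/L^p} is injective, so that 0 → Ω_{K/L^p} ⊗_K L →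
Ω_{L/L^p} → Ω_{L/K} → 0 is exact: the imperfection module of L over K relative to L^p vanishes. -/
theorem result (p : ℕ) [Fact p.Prime] {R K L : Type u} [Field R] [Field K] [Field L]
    [Algebra R K] [Algebra K L] [Algebra R L] [IsScalarTower R K L] [CharP L p]
    (hR : Set.range (algebraMap R L) = Set.range fun y : L => y ^ p)
    (hK : ∀ y : L, y ^ p ∈ Set.range (algebraMap K L)) :
    Function.Injective (KaehlerDifferential.mapBaseChange R K L) := by
  haveI : CharP K p := RingHom.charP (algebraMap K L) (algebraMap K L).injective p
  have hgen : IsPGenerating p R (Subtype.val : ↥(Set.univ : Set K) → K) := by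
    rw [(Groth.Agent.S2468.result p (Subtype.val : ↥(Set.univ : Set K) → K)).2.1]
    rw [eq_top_iff, ← KaehlerDifferential.span_range_derivation R K]
    apply Submodule.span_mono
    rintro _ ⟨y, rfl⟩
    exact ⟨⟨y, Set.mem_univ y⟩, rfl⟩
  have hind : IsPIndependent p R (Subtype.val : ↥(∅ : Set K) → K) := by
    rw [(Groth.Agent.S2468.result p (Subtype.val : ↥(∅ : Set K) → K)).1]
    exact linearIndependent_empty_type
  obtain ⟨B, -, -, hB⟩ := Groth.Agent.S2467.result p (Set.univ : Set K) ∅ (Set.empty_subset _)
    hgen hind
  obtain ⟨bK, hbK⟩ := (Groth.Agent.S2468.result p (Subtype.val : B → K)).2.2.1 hB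
  have hKcrit := (Groth.Agent.S4521.result p (Subtype.val : B → K)).1 hB.1
  have hLind : IsPIndependent p R (fun i : B => algebraMap K L (i : K)) := by
    rw [Groth.Agent.S4521.result p (fun i : B => algebraMap K L (i : K))]
    intro a ha
    apply hKcrit a
    have hle : IntermediateField.adjoin R ((Set.range fun y : L => y ^ p) ∪
          (fun i : B => algebraMap K L (i : K)) '' {b | b ≠ a}) ≤
        (IntermediateField.adjoin R ((Set.range fun y : K => y ^ p) ∪
          (Subtype.val : B → K) '' {b | b ≠ a})).map (IsScalarTower.toAlgHom R K L) := by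
      rw [IntermediateField.adjoin_le_iff]
      rintro _ (⟨y, rfl⟩ | ⟨b, hb, rfl⟩)
      · have hy : y ^ p ∈ Set.range (algebraMap R L) := by rw [hR]; exact ⟨y, rfl⟩
        obtain ⟨r, hr⟩ := hy
        refine (IntermediateField.mem_map _).2 ⟨algebraMap R K r,
          IntermediateField.algebraMap_mem _ r, ?_⟩
        show (IsScalarTower.toAlgHom R K L) (algebraMap R K r) = y ^ p
        rw [← hr]
        exact (IsScalarTower.algebraMap_apply R K L r).symm
      · exact (IntermediateField.mem_map _).2 ⟨(b : K),
          IntermediateField.subset_adjoin _ _ (Or.inr ⟨b, hb, rfl⟩), rfl⟩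
    obtain ⟨y, hy, hya⟩ := (IntermediateField.mem_map _).1 (hle ha)
    have hyeq : y = (a : K) := (algebraMap K L).injective hya
    rw [← hyeq]
    exact hy
  have hLli : LinearIndependent L
      (fun i : B => KaehlerDifferential.D R L (algebraMap K L (i : K))) :=
    (Groth.Agent.S2468.result p (fun i : B => algebraMap K L (i : K))).1.1 hLind
  refine injective_of_basis_of_linearIndependent _ (bK.baseChange L) ?_
  have hfun : (fun i : B => (KaehlerDifferential.mapBaseChange R K L) ((bK.baseChange L) i)) =
      (fun i : B => KaehlerDifferential.D R L (algebraMap K L (i : K))) := by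
    funext i
    rw [Module.Basis.baseChange_apply, hbK, KaehlerDifferential.mapBaseChange_tmul, one_smul,
      KaehlerDifferential.map_D]
  rw [hfun]
  exact hLli

end Groth.Agent.S4522
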