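import Groth.Statements.S4524
import Mathlib

set_option autoImplicit false
universe u
open EGA41

namespace Groth.Agent.S4524

open Polynomial in
lemma nontrivial_kaehler_ratFunc (k : Type*) [Field k] : Nontrivial (Ω[RatFunc k⁄k]) := by
  by_contra h
  rw [not_nontrivial_iff_subsingleton] at h
  have h0 : KaehlerDifferential.map k k k[X] (RatFunc k) (KaehlerDifferential.D k k[X] X) = 0 :=
    Subsingleton.elim _ _
  obtain ⟨c, hc⟩ := (IsLocalizedModule.eq_zero_iff (nonZeroDivisors k[X])
    (KaehlerDifferential.map k k k[X] (RatFunc k))).1 h0
  rw [Submonoid.smul_def] at hc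
  have h1 := congrArg (KaehlerDifferential.polynomialEquiv (R := k)) hc
  rw [map_smul, map_zero, KaehlerDifferential.polynomialEquiv_D, Polynomial.derivative_X,
    smul_eq_mul, mul_one] at h1
  exact nonZeroDivisors.coe_ne_zero c h1

lemma formallySmooth_of_charZero (F K : Type*) [Field F] [Field K] [Algebra F K] [CharZero F] :
    Algebra.FormallySmooth F K := by
  obtain ⟨s, hs⟩ := exists_isTranscendenceBasis F K
  have h1 : Algebra.IsAlgebraic (IntermediateField.adjoin F (Set.range ((↑) : s → K))) K :=
    hs.isAlgebraic_field
  have h0 : CharZero (IntermediateField.adjoin F (Set.range ((↑) : s → K))) :=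
    charZero_of_injective_algebraMap (algebraMap F _).injective
  have h2 : Algebra.IsSeparable (IntermediateField.adjoin F (Set.range ((↑) : s → K))) K :=
    inferInstance
  exact Algebra.FormallySmooth.of_algebraicIndependent_of_isSeparable hs.1

/-- Let k be a field of characteristic 0 and K an extension of k. Then Ω_{K/k} = 0 if and only if K is
an algebraic extension of k. -/
theorem result {k K : Type u} [Field k] [CharZero k] [Field K] [Algebra k K] :
    Subsingleton (Ω[K⁄k]) ↔ Algebra.IsAlgebraic k K := by
  constructor
  · intro hΩ
    by_contra hna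
    rw [← Algebra.transcendental_iff_not_isAlgebraic] at hna
    obtain ⟨⟨x, hx⟩⟩ := hna
    let F := IntermediateField.adjoin k {x}
    have hcF : CharZero F := charZero_of_injective_algebraMap (algebraMap k F).injective
    have hsm : Algebra.FormallySmooth F K := formallySmooth_of_charZero F K
    have hinjΩ : Function.Injective (KaehlerDifferential.mapBaseChange k F K) := by
      rw [injective_iff_map_eq_zero]
      intro y hy
      obtain ⟨z, rfl⟩ := (Algebra.H1Cotangent.exact_δ_mapBaseChange k F K y).mp hy
      rw [Subsingleton.elim z 0, map_zero]
    have hntF : Nontrivial (Ω[F⁄k]) := by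
      by_contra h
      rw [not_nontrivial_iff_subsingleton] at h
      have hun : Algebra.FormallyUnramified k F := ⟨h⟩
      have hun' : Algebra.FormallyUnramified k (RatFunc k) :=
        Algebra.FormallyUnramified.of_equiv (RatFunc.algEquivOfTranscendental x hx).symm
      have hnt' := nontrivial_kaehler_ratFunc k
      exact not_subsingleton (Ω[RatFunc k⁄k]) hun'.subsingleton_kaehlerDifferential
    have hfree : Module.Free F K := Module.Free.of_divisionRing F K
    have hff : Module.FaithfullyFlat F K := inferInstance
    have hnt : Nontrivial (TensorProduct F K (Ω[F⁄k])) :=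
      Module.FaithfullyFlat.lTensor_nontrivial (R := F) (M := K) (Ω[F⁄k])
    exact not_subsingleton _ hinjΩ.subsingleton
  · intro h
    have h1 : Algebra.IsSeparable k K := inferInstance
    have h2 : Algebra.FormallyUnramified k K := Algebra.FormallyUnramified.of_isSeparable k K
    exact Algebra.FormallyUnramified.subsingleton_kaehlerDifferential

end Groth.Agent.S4524
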