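import Groth.Statements.S4529
import Mathlib.Tactic
import Mathlib.RingTheory.Nakayama
import Mathlib.RingTheory.FiniteType
import Mathlib.RingTheory.Nilpotent.Basic

set_option autoImplicit false
universe u
open EGA41

namespace Groth.Agent.S4529

/-- Let A be a ring, M, N two A-modules with N projective, u : M → N a homomorphism and J an ideal of A;
suppose either (i) J is nilpotent, or (ii) J is contained in the Jacobson radical of A and M is of
finite type. Then u is left invertible if and only if the induced map u₀ : M/JM → N/JN is left
invertible. (A left inverse of u₀ composed with N → N/JN is an A-linear map v : N → M/JM with v ∘ u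
the projection, and conversely; the right-hand side is written in that form.) -/
theorem result {A : Type u} [CommRing A] {M N : Type u} [AddCommGroup M] [Module A M]
    [AddCommGroup N] [Module A N] [Module.Projective A N] (u : M →ₗ[A] N) (J : Ideal A)
    (hJ : IsNilpotent J ∨ (J ≤ (⊥ : Ideal A).jacobson ∧ Module.Finite A M)) :
    (∃ w : N →ₗ[A] M, w ∘ₗ u = LinearMap.id) ↔
      ∃ v : N →ₗ[A] M ⧸ (J • ⊤ : Submodule A M), v ∘ₗ u = (J • ⊤ : Submodule A M).mkQ := by
  constructor
  · rintro ⟨w, hw⟩
    refine ⟨(J • ⊤ : Submodule A M).mkQ ∘ₗ w, ?_⟩
    rw [LinearMap.comp_assoc, hw, LinearMap.comp_id]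
  · rintro ⟨v, hv⟩
    -- lift v through the quotient map using projectivity of N
    obtain ⟨w₀, hw₀⟩ := Module.projective_lifting_property (J • ⊤ : Submodule A M).mkQ v
      (Submodule.mkQ_surjective _)
    -- e = w₀ ∘ u is congruent to the identity modulo J M
    set e : M →ₗ[A] M := w₀ ∘ₗ u with he
    have hd : ∀ m : M, m - e m ∈ (J • ⊤ : Submodule A M) := by
      intro m
      rw [← Submodule.Quotient.eq]
      have h1 := congrArg (fun f => f m) hv
      have h2 := congrArg (fun f => f (u m)) hw₀
      simp only [LinearMap.comp_apply, Submodule.mkQ_apply] at h1 h2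
      rw [he, LinearMap.comp_apply, h2, h1]
    suffices hbij : Function.Bijective e by
      let E := LinearEquiv.ofBijective e hbij
      refine ⟨E.symm.toLinearMap ∘ₗ w₀, ?_⟩
      ext m
      simp only [LinearMap.comp_apply, LinearEquiv.coe_coe, LinearMap.id_apply]
      rw [LinearEquiv.symm_apply_eq]
      rfl
    rcases hJ with hnil | ⟨hjac, hfin⟩
    · -- nilpotent case: d = 1 - e is nilpotent
      set d : Module.End A M := 1 - e with hddef
      have hdJ : ∀ (k : ℕ) (m : M), (d ^ k) m ∈ (J ^ k • ⊤ : Submodule A M) := by
        intro k
        induction k with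
        | zero => intro m; simp
        | succ k ih =>
          intro m
          rw [pow_succ' d k, Module.End.mul_apply]
          have h3 : (d ^ k) m ∈ (J ^ k • ⊤ : Submodule A M) := ih m
          have h4 : (J ^ k • ⊤ : Submodule A M).map d ≤ (J ^ (k + 1) • ⊤ : Submodule A M) := by
            rw [Submodule.map_smul'', pow_succ J k, mul_smul]
            apply Submodule.smul_mono le_rfl
            rintro _ ⟨m', -, rfl⟩
            have := hd m'
            simpa [hddef] using this
          exact h4 ⟨_, h3, rfl⟩
      obtain ⟨n, hn⟩ := hnil
      have hdn : d ^ n = 0 := by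
        ext m
        have := hdJ n m
        rw [hn, Ideal.zero_eq_bot, Submodule.bot_smul] at this
        simpa using this
      have hu : IsUnit (1 - d) := IsNilpotent.isUnit_one_sub ⟨n, hdn⟩
      have he' : (1 - d : Module.End A M) = e := by rw [hddef]; abel
      rw [he'] at hu
      exact (Module.End.isUnit_iff e).1 hu
    · -- Jacobson radical case
      have hsurj : Function.Surjective e := by
        rw [← LinearMap.range_eq_top]
        apply top_le_iff.1
        apply Submodule.le_of_le_smul_of_le_jacobson_bot (I := J) (Module.Finite.fg_top) hjac
        intro m _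
        have h5 := hd m
        have : m = e m + (m - e m) := by abel
        rw [this]
        exact Submodule.add_mem _ (Submodule.mem_sup_left (LinearMap.mem_range_self e m))
          (Submodule.mem_sup_right h5)
      exact OrzechProperty.bijective_of_surjective_endomorphism e hsurj

end Groth.Agent.S4529
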