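import Groth.Statements.S4530
import Mathlib
import Groth.Agent.Lib.Helper4.LeftInv

set_option autoImplicit false
universe u
open EGA41

namespace Groth.Agent.S4530

open TensorProduct in
/-- Let A be a ring, M an A-module of finite type, N a projective A-module, u : M → N a homomorphism.
For a prime ideal 𝔭 the following are equivalent: (a) u_𝔭 : M_𝔭 → N_𝔭 is left invertible; (b) u ⊗ 1
: M ⊗ k(𝔭) → N ⊗ k(𝔭) is injective; (d) there is f ∉ 𝔭 with u_f : M_f → N_f left invertible.
Moreover the set of such 𝔭 is open in Spec A. (The published statement also has a determinant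
criterion (c); this row omits it.) -/
theorem result {A : Type u} [CommRing A] {M N : Type u} [AddCommGroup M] [Module A M]
    [Module.Finite A M] [AddCommGroup N] [Module A N] [Module.Projective A N] (u : M →ₗ[A] N) :
    (∀ p : PrimeSpectrum A,
      [∃ w : LocalizedModule p.asIdeal.primeCompl N →ₗ[A] LocalizedModule p.asIdeal.primeCompl M,
          w ∘ₗ LocalizedModule.map p.asIdeal.primeCompl u = LinearMap.id,
       Function.Injective (u.lTensor p.asIdeal.ResidueField),
       ∃ f : A, f ∉ p.asIdeal ∧
          ∃ w : LocalizedModule (Submonoid.powers f) N →ₗ[A] LocalizedModule (Submonoid.powers f) M,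
            w ∘ₗ LocalizedModule.map (Submonoid.powers f) u = LinearMap.id].TFAE) ∧
    IsOpen {p : PrimeSpectrum A |
      ∃ w : LocalizedModule p.asIdeal.primeCompl N →ₗ[A] LocalizedModule p.asIdeal.primeCompl M,
        w ∘ₗ LocalizedModule.map p.asIdeal.primeCompl u = LinearMap.id} := by
  constructor
  · intro p
    have hunit : ∀ s : A, s ∉ p.asIdeal → IsUnit (algebraMap A p.asIdeal.ResidueField s) :=
      fun s hs => IsUnit.mk0 _ (fun h => hs (Ideal.algebraMap_residueField_eq_zero.mp h))
    tfae_have 1 → 2 := by
      rintro ⟨w, hw⟩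
      exact Groth.Agent.Helper4.LeftInv.lTensor_injective_of_localized_leftInv
        p.asIdeal.primeCompl p.asIdeal.ResidueField (fun s hs => hunit s hs) u w
        (fun y => LinearMap.congr_fun hw y)
    tfae_have 2 → 3 := by
      intro hinj
      obtain ⟨a, ha, w, hw⟩ := Groth.Agent.Helper4.LeftInv.key u p.asIdeal hinj
      obtain ⟨w', hw'⟩ := Groth.Agent.Helper4.LeftInv.localized_leftInv_of_smul
        (Submonoid.powers a) u a (Submonoid.mem_powers a) w hw
      exact ⟨a, ha, w', LinearMap.ext fun y => hw' y⟩
    tfae_have 3 → 2 := by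
      rintro ⟨f, hf, w, hw⟩
      refine Groth.Agent.Helper4.LeftInv.lTensor_injective_of_localized_leftInv
        (Submonoid.powers f) p.asIdeal.ResidueField ?_ u w
        (fun y => LinearMap.congr_fun hw y)
      rintro s ⟨n, rfl⟩
      rw [map_pow]
      exact (hunit f hf).pow n
    tfae_have 2 → 1 := by
      intro hinj
      obtain ⟨a, ha, w, hw⟩ := Groth.Agent.Helper4.LeftInv.key u p.asIdeal hinj
      obtain ⟨w', hw'⟩ := Groth.Agent.Helper4.LeftInv.localized_leftInv_of_smul
        p.asIdeal.primeCompl u a ha w hw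
      exact ⟨w', LinearMap.ext fun y => hw' y⟩
    tfae_finish
  · have hset : {p : PrimeSpectrum A |
        ∃ w : LocalizedModule p.asIdeal.primeCompl N →ₗ[A] LocalizedModule p.asIdeal.primeCompl M,
          w ∘ₗ LocalizedModule.map p.asIdeal.primeCompl u = LinearMap.id} =
        (PrimeSpectrum.zeroLocus (Groth.Agent.Helper4.LeftInv.factorIdeal u : Set A))ᶜ := by
      ext p
      rw [Set.mem_compl_iff, PrimeSpectrum.mem_zeroLocus, SetLike.coe_subset_coe,
        ← Groth.Agent.Helper4.LeftInv.localized_leftInv_iff u p.asIdeal, Set.mem_ofPred_eq]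
      constructor
      · rintro ⟨w, hw⟩
        exact ⟨w, fun y => LinearMap.congr_fun hw y⟩
      · rintro ⟨w, hw⟩
        exact ⟨w, LinearMap.ext fun y => hw y⟩
    rw [hset]
    exact (PrimeSpectrum.isClosed_zeroLocus _).isOpen_compl

end Groth.Agent.S4530
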