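import Groth.Statements.S4533
import Mathlib
import Groth.Agent.Lib.Helper4.PSEval

set_option autoImplicit false
universe u
open EGA41

namespace Groth.Agent.S4533

/-- Let A carry the 𝔞-adic topology and let B = A[[T_1, …, T_n]] carry the product topology, i.e. the
adic topology of the ideal 𝔞B + (T_1, …, T_n) (the kernel of the constant-coefficient map added to
the extension of 𝔞). Then B is a formally smooth A-algebra for these topologies. (The published
statement allows any linearly topologized base ring and any set of indeterminates with the product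
topology; this row takes an adic base and finitely many indeterminates, where the product topology
is adic.) -/
theorem result (A : Type u) [CommRing A] (𝔞 : Ideal A) (n : ℕ) :
    EGA41.IsFormallySmoothAdic A 𝔞 (MvPowerSeries (Fin n) A)
      (𝔞.map (MvPowerSeries.C : A →+* MvPowerSeries (Fin n) A) ⊔
        RingHom.ker (MvPowerSeries.constantCoeff : MvPowerSeries (Fin n) A →+* A)) := by
  intro C _ _ J hJ hC u hu
  obtain ⟨k, hk⟩ := hu
  obtain ⟨N, hN⟩ := hJ
  rw [Ideal.zero_eq_bot] at hN
  have hnilu : ∀ i, IsNilpotent (u (MvPowerSeries.X i)) := by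
    intro i
    refine ⟨k, ?_⟩
    rw [← map_pow]
    apply hk
    apply Ideal.pow_mem_pow
    apply Ideal.mem_sup_right
    rw [RingHom.mem_ker, MvPowerSeries.constantCoeff_X]
  have hz : ∀ i, ∃ z : C, Ideal.Quotient.mk J z = u (MvPowerSeries.X i) := fun i =>
    Ideal.Quotient.mk_surjective _
  choose z hz using hz
  have hznil : ∀ i, IsNilpotent (z i) := by
    intro i
    obtain ⟨m, hm⟩ := hnilu i
    rw [← hz i, ← map_pow, Ideal.Quotient.eq_zero_iff_mem] at hm
    refine ⟨m * N, ?_⟩
    have h1 := Ideal.pow_mem_pow hm N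
    rw [hN, Ideal.mem_bot, ← pow_mul] at h1
    exact h1
  obtain ⟨g, ⟨m, hm⟩, hgz⟩ := Groth.Agent.Helper4.exists_psAlgHom 𝔞 hC z hznil
  refine ⟨g, ?_⟩
  apply Groth.Agent.Helper4.psAlgHom_ext 𝔞 _ _ m k _ hk
  · intro i
    rw [AlgHom.comp_apply, hgz, ← hz i]
    rfl
  · intro x hx
    rw [AlgHom.comp_apply, hm x hx, map_zero]

end Groth.Agent.S4533
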