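import Groth.Statements.S4534
import Mathlib

set_option autoImplicit false
universe u
open EGA41

namespace Groth.Agent.S4534

/-- Let A → B → C be continuous homomorphisms of adic rings (A with the 𝔞-adic, B the 𝔟-adic, C the
𝔠-adic topology; continuity: a power of 𝔞 maps into 𝔟 and a power of 𝔟 into 𝔠). If B is formally
smooth over A and C formally smooth over B, then C is formally smooth over A. -/
theorem result {A B C : Type u} [CommRing A] [CommRing B] [CommRing C] [Algebra A B] [Algebra B C]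
    [Algebra A C] [IsScalarTower A B C] (𝔞 : Ideal A) (𝔟 : Ideal B) (𝔠 : Ideal C)
    (hAB : ∃ k : ℕ, (𝔞 ^ k).map (algebraMap A B) ≤ 𝔟) (hBC : ∃ k : ℕ, (𝔟 ^ k).map (algebraMap B C) ≤ 𝔠)
    (hB : EGA41.IsFormallySmoothAdic A 𝔞 B 𝔟) (hC : EGA41.IsFormallySmoothAdic B 𝔟 C 𝔠) :
    EGA41.IsFormallySmoothAdic A 𝔞 C 𝔠 := by
  intro E _ _ J hJ hA u hu
  obtain ⟨k₂, hk₂⟩ := hBC
  obtain ⟨k', hk'⟩ := hu
  obtain ⟨n, hn⟩ := hJ
  -- continuity of the composite
  have hcont : ∀ x ∈ 𝔟 ^ (k₂ * k'), u (algebraMap B C x) = 0 := by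
    intro x hx
    apply hk'
    have h1 : algebraMap B C x ∈ (𝔟 ^ (k₂ * k')).map (algebraMap B C) :=
      Ideal.mem_map_of_mem _ hx
    rw [pow_mul, Ideal.map_pow] at h1
    exact Ideal.pow_right_mono hk₂ k' h1
  let u₁ : B →ₐ[A] E ⧸ J := u.comp (IsScalarTower.toAlgHom A B C)
  obtain ⟨w, hw⟩ := hB E J ⟨n, hn⟩ hA u₁ ⟨k₂ * k', fun x hx => hcont x hx⟩
  have hw' : ∀ b : B, Ideal.Quotient.mk J (w b) = u (algebraMap B C b) := fun b =>
    AlgHom.congr_fun hw b
  letI : Algebra B E := w.toRingHom.toAlgebra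
  haveI : IsScalarTower A B E := IsScalarTower.of_algebraMap_eq (fun a => (w.commutes a).symm)
  have hBE : ∃ k : ℕ, (𝔟 ^ k).map (algebraMap B E) = ⊥ := by
    refine ⟨(k₂ * k') * n, ?_⟩
    rw [pow_mul, Ideal.map_pow, eq_bot_iff]
    have h1 : (𝔟 ^ (k₂ * k')).map (algebraMap B E) ≤ J := by
      rw [Ideal.map_le_iff_le_comap]
      intro x hx
      rw [Ideal.mem_comap]
      have : Ideal.Quotient.mk J (w x) = 0 := by rw [hw', hcont x hx]
      exact Ideal.Quotient.eq_zero_iff_mem.mp this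
    exact (Ideal.pow_right_mono h1 n).trans (le_of_eq hn)
  let u' : C →ₐ[B] E ⧸ J :=
    { u.toRingHom with
      commutes' := fun b => (hw' b).symm }
  obtain ⟨v, hv⟩ := hC E J ⟨n, hn⟩ hBE u' ⟨k', hk'⟩
  refine ⟨v.restrictScalars A, ?_⟩
  ext x
  exact AlgHom.congr_fun hv x

end Groth.Agent.S4534
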