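import Groth.Statements.S4535
import Mathlib

set_option autoImplicit false
universe u
open EGA41

namespace Groth.Agent.S4535

open TensorProduct in
/-- Let B (𝔟-adic) be formally smooth over A (𝔞-adic) and let A' (𝔞'-adic) be a topological A-algebra (a
power of 𝔞 maps into 𝔞'). Then the A'-algebra A' ⊗_A B, with the tensor product topology, i.e. the
adic topology of the ideal generated by the images of 𝔞' and 𝔟, is formally smooth over A'. -/
theorem result {A B A' : Type u} [CommRing A] [CommRing B] [CommRing A'] [Algebra A B] [Algebra A A']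
    (𝔞 : Ideal A) (𝔟 : Ideal B) (𝔞' : Ideal A') (hAA' : ∃ k : ℕ, (𝔞 ^ k).map (algebraMap A A') ≤ 𝔞')
    (hB : EGA41.IsFormallySmoothAdic A 𝔞 B 𝔟) :
    EGA41.IsFormallySmoothAdic A' 𝔞' (A' ⊗[A] B)
      (𝔞'.map (algebraMap A' (A' ⊗[A] B)) ⊔
        𝔟.map (Algebra.TensorProduct.includeRight : B →ₐ[A] A' ⊗[A] B).toRingHom) := by
  intro E _ _ J hJ hA' u hu
  obtain ⟨k₀, hk₀⟩ := hAA'
  obtain ⟨k, hk⟩ := hA'
  obtain ⟨m, hm⟩ := hu
  letI : Algebra A E := ((algebraMap A' E).comp (algebraMap A A')).toAlgebra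
  haveI : IsScalarTower A A' E := IsScalarTower.of_algebraMap_eq (fun a => rfl)
  have hAE : ∃ k : ℕ, (𝔞 ^ k).map (algebraMap A E) = ⊥ := by
    refine ⟨k₀ * k, ?_⟩
    rw [eq_bot_iff]
    calc (𝔞 ^ (k₀ * k)).map (algebraMap A E)
        = ((𝔞 ^ (k₀ * k)).map (algebraMap A A')).map (algebraMap A' E) := by
          rw [Ideal.map_map, ← IsScalarTower.algebraMap_eq]
      _ ≤ (𝔞' ^ k).map (algebraMap A' E) := by
          apply Ideal.map_mono
          rw [pow_mul, Ideal.map_pow]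
          exact Ideal.pow_right_mono hk₀ k
      _ = ⊥ := hk
  let u₁ : B →ₐ[A] E ⧸ J := (u.restrictScalars A).comp Algebra.TensorProduct.includeRight
  have hcont : ∀ x ∈ 𝔟 ^ m, u₁ x = 0 := by
    intro x hx
    show u ((Algebra.TensorProduct.includeRight : B →ₐ[A] A' ⊗[A] B).toRingHom x) = 0
    apply hm
    have h1 : (Algebra.TensorProduct.includeRight : B →ₐ[A] A' ⊗[A] B).toRingHom x ∈
        (𝔟 ^ m).map (Algebra.TensorProduct.includeRight : B →ₐ[A] A' ⊗[A] B).toRingHom :=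
      Ideal.mem_map_of_mem _ hx
    rw [Ideal.map_pow] at h1
    exact Ideal.pow_right_mono le_sup_right m h1
  obtain ⟨w, hw⟩ := hB E J hJ hAE u₁ ⟨m, hcont⟩
  let v : A' ⊗[A] B →ₐ[A'] E :=
    Algebra.TensorProduct.lift (Algebra.ofId A' E) w (fun _ _ => Commute.all _ _)
  refine ⟨v, Algebra.TensorProduct.ext' fun a b => ?_⟩
  have h1 : (a ⊗ₜ[A] b : A' ⊗[A] B) = a • ((1 : A') ⊗ₜ[A] b) := by
    rw [TensorProduct.smul_tmul', smul_eq_mul, mul_one]
  have h2 : Ideal.Quotient.mk J (w b) = u ((1 : A') ⊗ₜ[A] b) := AlgHom.congr_fun hw b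
  have hv1 : v ((1 : A') ⊗ₜ[A] b) = w b := by
    show Algebra.TensorProduct.lift (Algebra.ofId A' E) w _ ((1 : A') ⊗ₜ[A] b) = w b
    rw [Algebra.TensorProduct.lift_tmul, map_one, one_mul]
  calc (Ideal.Quotient.mkₐ A' J) (v (a ⊗ₜ[A] b))
      = (Ideal.Quotient.mkₐ A' J) (v (a • ((1 : A') ⊗ₜ[A] b))) := by rw [← h1]
    _ = a • (Ideal.Quotient.mkₐ A' J) (w b) := by rw [map_smul, map_smul, hv1]
    _ = a • u ((1 : A') ⊗ₜ[A] b) := by rw [← h2]; rfl
    _ = u (a ⊗ₜ[A] b) := by rw [← map_smul, ← h1]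

end Groth.Agent.S4535
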