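import Groth.Statements.S4536
import Mathlib

set_option autoImplicit false
universe u
open EGA41

namespace Groth.Agent.S4536

/-- Let A carry the 𝔞-adic and B the 𝔟-adic topology, A → B being continuous (a power of 𝔞 maps into 𝔟).
Then B is formally smooth over A if and only if for every n the (A/𝔞ⁿ)-algebra B/𝔞ⁿB, with the adic
topology of the image of 𝔟, is formally smooth over the discrete ring A/𝔞ⁿ. -/
theorem result {A B : Type u} [CommRing A] [CommRing B] [Algebra A B]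
    (𝔞 : Ideal A) (𝔟 : Ideal B) (hAB : ∃ k : ℕ, (𝔞 ^ k).map (algebraMap A B) ≤ 𝔟) :
    EGA41.IsFormallySmoothAdic A 𝔞 B 𝔟 ↔
      ∀ n : ℕ, EGA41.IsFormallySmoothAdic (A ⧸ 𝔞 ^ n) ⊥ (B ⧸ (𝔞 ^ n).map (algebraMap A B))
        (𝔟.map (Ideal.Quotient.mk ((𝔞 ^ n).map (algebraMap A B)))) := by
  constructor
  · intro hB n E _ _ J hJ _ u hu
    obtain ⟨m, hm⟩ := hu
    letI : Algebra A E := ((algebraMap (A ⧸ 𝔞 ^ n) E).comp (Ideal.Quotient.mk (𝔞 ^ n))).toAlgebra
    have hzero : ∀ a ∈ 𝔞 ^ n, algebraMap A E a = 0 := by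
      intro a ha
      show algebraMap (A ⧸ 𝔞 ^ n) E (Ideal.Quotient.mk (𝔞 ^ n) a) = 0
      rw [Ideal.Quotient.eq_zero_iff_mem.mpr ha, map_zero]
    have hAE : ∃ k : ℕ, (𝔞 ^ k).map (algebraMap A E) = ⊥ := by
      refine ⟨n, ?_⟩
      rw [eq_bot_iff, Ideal.map_le_iff_le_comap]
      intro a ha
      rw [Ideal.mem_comap, Ideal.mem_bot]
      exact hzero a ha
    let u₁ : B →ₐ[A] E ⧸ J :=
      { (u.toRingHom.comp (Ideal.Quotient.mk ((𝔞 ^ n).map (algebraMap A B)))) with
        commutes' := fun a => by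
          show u (Ideal.Quotient.mk _ (algebraMap A B a)) =
            Ideal.Quotient.mk J (algebraMap (A ⧸ 𝔞 ^ n) E (Ideal.Quotient.mk (𝔞 ^ n) a))
          have h1 : Ideal.Quotient.mk ((𝔞 ^ n).map (algebraMap A B)) (algebraMap A B a) =
              algebraMap (A ⧸ 𝔞 ^ n) (B ⧸ (𝔞 ^ n).map (algebraMap A B))
                (Ideal.Quotient.mk _ a) := rfl
          rw [h1, u.commutes]
          rfl }
    have hcont : ∀ x ∈ 𝔟 ^ m, u₁ x = 0 := by
      intro x hx
      show u (Ideal.Quotient.mk ((𝔞 ^ n).map (algebraMap A B)) x) = 0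
      apply hm
      rw [← Ideal.map_pow]
      exact Ideal.mem_map_of_mem _ hx
    obtain ⟨w, hw⟩ := hB E J hJ hAE u₁ ⟨m, hcont⟩
    have hker : ∀ x ∈ (𝔞 ^ n).map (algebraMap A B), w.toRingHom x = 0 := by
      have h1 : (𝔞 ^ n).map (algebraMap A B) ≤ RingHom.ker w.toRingHom := by
        rw [Ideal.map_le_iff_le_comap]
        intro a ha
        rw [Ideal.mem_comap, RingHom.mem_ker]
        show w (algebraMap A B a) = 0
        rw [w.commutes]
        exact hzero a ha
      intro x hx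
      exact h1 hx
    let v₀ : B ⧸ (𝔞 ^ n).map (algebraMap A B) →+* E := Ideal.Quotient.lift _ w.toRingHom hker
    have hv₀ : ∀ b, v₀ (Ideal.Quotient.mk _ b) = w b := fun b => Ideal.Quotient.lift_mk _ _ _
    let v : B ⧸ (𝔞 ^ n).map (algebraMap A B) →ₐ[A ⧸ 𝔞 ^ n] E :=
      { v₀ with
        commutes' := fun r => by
          obtain ⟨a, rfl⟩ := Ideal.Quotient.mk_surjective r
          show v₀ (Ideal.Quotient.mk _ (algebraMap A B a)) =
            algebraMap (A ⧸ 𝔞 ^ n) E (Ideal.Quotient.mk (𝔞 ^ n) a)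
          rw [hv₀]
          exact w.commutes a }
    refine ⟨v, ?_⟩
    apply AlgHom.ext
    intro x
    obtain ⟨b, rfl⟩ := Ideal.Quotient.mk_surjective x
    show Ideal.Quotient.mk J (v₀ (Ideal.Quotient.mk _ b)) = u (Ideal.Quotient.mk _ b)
    rw [hv₀]
    exact AlgHom.congr_fun hw b
  · intro h E _ _ J hJ hA u hu
    obtain ⟨n, hn⟩ := hA
    obtain ⟨m, hm⟩ := hu
    have hzero : ∀ a ∈ 𝔞 ^ n, algebraMap A E a = 0 := by
      intro a ha
      have h1 : algebraMap A E a ∈ (𝔞 ^ n).map (algebraMap A E) := Ideal.mem_map_of_mem _ ha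
      rw [hn] at h1
      exact h1
    letI : Algebra (A ⧸ 𝔞 ^ n) E :=
      (Ideal.Quotient.lift (𝔞 ^ n) (algebraMap A E) hzero).toAlgebra
    have hku : ∀ x ∈ (𝔞 ^ n).map (algebraMap A B), u.toRingHom x = 0 := by
      have h1 : (𝔞 ^ n).map (algebraMap A B) ≤ RingHom.ker u.toRingHom := by
        rw [Ideal.map_le_iff_le_comap]
        intro a ha
        rw [Ideal.mem_comap, RingHom.mem_ker]
        show u (algebraMap A B a) = 0
        rw [u.commutes]
        show Ideal.Quotient.mk J (algebraMap A E a) = 0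
        rw [hzero a ha, map_zero]
      intro x hx
      exact h1 hx
    let ub₀ : B ⧸ (𝔞 ^ n).map (algebraMap A B) →+* E ⧸ J :=
      Ideal.Quotient.lift _ u.toRingHom hku
    have hub₀ : ∀ b, ub₀ (Ideal.Quotient.mk _ b) = u b := fun b => Ideal.Quotient.lift_mk _ _ _
    let ub : B ⧸ (𝔞 ^ n).map (algebraMap A B) →ₐ[A ⧸ 𝔞 ^ n] E ⧸ J :=
      { ub₀ with
        commutes' := fun r => by
          obtain ⟨a, rfl⟩ := Ideal.Quotient.mk_surjective r
          show ub₀ (Ideal.Quotient.mk _ (algebraMap A B a)) =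
            Ideal.Quotient.mk J (algebraMap A E a)
          rw [hub₀]
          exact u.commutes a }
    have hubc : ∀ x ∈ (𝔟.map (Ideal.Quotient.mk ((𝔞 ^ n).map (algebraMap A B)))) ^ m,
        ub x = 0 := by
      have h1 : (𝔟.map (Ideal.Quotient.mk ((𝔞 ^ n).map (algebraMap A B)))) ^ m ≤
          RingHom.ker ub₀ := by
        rw [← Ideal.map_pow, Ideal.map_le_iff_le_comap]
        intro b hb
        rw [Ideal.mem_comap, RingHom.mem_ker, hub₀]
        exact hm b hb
      intro x hx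
      exact h1 hx
    obtain ⟨vb, hvb⟩ := h n E J hJ ⟨1, by simp⟩ ub ⟨m, hubc⟩
    let v : B →ₐ[A] E :=
      { (vb.toRingHom.comp (Ideal.Quotient.mk ((𝔞 ^ n).map (algebraMap A B)))) with
        commutes' := fun a => by
          show vb (Ideal.Quotient.mk _ (algebraMap A B a)) = algebraMap A E a
          have h1 : Ideal.Quotient.mk ((𝔞 ^ n).map (algebraMap A B)) (algebraMap A B a) =
              algebraMap (A ⧸ 𝔞 ^ n) (B ⧸ (𝔞 ^ n).map (algebraMap A B))
                (Ideal.Quotient.mk _ a) := rfl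
          rw [h1, vb.commutes]
          rfl }
    refine ⟨v, ?_⟩
    apply AlgHom.ext
    intro b
    show Ideal.Quotient.mk J (vb (Ideal.Quotient.mk _ b)) = u b
    rw [← hub₀ b]
    exact AlgHom.congr_fun hvb (Ideal.Quotient.mk _ b)

end Groth.Agent.S4536
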