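import Groth.Statements.S4537
import Mathlib

set_option autoImplicit false
universe u
open EGA41

namespace Groth.Agent.S4537

/-- For a discrete base and an adic algebra: let A be a discrete ring and B an A-algebra with the 𝔫-adic
topology. If every continuous A-algebra map from B to a quotient C/J with J² = 0 lifts to C, then
the same holds for every nilpotent J; hence the square-zero and the nilpotent forms of adic formal
smoothness agree. -/
theorem result {A B : Type u} [CommRing A] [CommRing B] [Algebra A B]
    (𝔫 : Ideal B) :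
    CAlgX.IsAdicFormallySmooth A B 𝔫 ↔ EGA41.IsFormallySmoothAdic A ⊥ B 𝔫 := by
  constructor
  · intro h
    -- main claim by strong induction on the nilpotency index
    have main : ∀ n : ℕ, ∀ (C : Type u) [CommRing C] [Algebra A C] (J : Ideal C), J ^ n = ⊥ →
        ∀ u : B →ₐ[A] C ⧸ J, (∃ k : ℕ, ∀ x ∈ 𝔫 ^ k, u x = 0) →
        ∃ v : B →ₐ[A] C, (Ideal.Quotient.mkₐ A J).comp v = u := by
      intro n
      induction n using Nat.strong_induction_on with
      | _ n ih =>
        intro C _ _ J hJ u hu
        by_cases hn : n ≤ 2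
        · have h2 : J ^ 2 = ⊥ := by
            rw [eq_bot_iff, ← hJ]
            exact Ideal.pow_le_pow_right hn
          exact h C J h2 u hu
        · rw [not_le] at hn
          obtain ⟨k, hk⟩ := hu
          obtain ⟨I, hI⟩ : ∃ I : Ideal C, I = J ^ 2 := ⟨_, rfl⟩
          have hIJ : I ≤ J := by
            rw [hI]
            calc J ^ 2 ≤ J ^ 1 := Ideal.pow_le_pow_right (by norm_num)
              _ = J := pow_one J
          let J' : Ideal (C ⧸ I) := J.map (Ideal.Quotient.mkₐ A I)
          have hJ'2 : J' ^ 2 = ⊥ := by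
            show (J.map (Ideal.Quotient.mkₐ A I)) ^ 2 = ⊥
            rw [← Ideal.map_pow, ← hI]
            exact Ideal.map_quotient_self I
          let e := DoubleQuot.quotQuotEquivQuotOfLEₐ A hIJ
          let u' : B →ₐ[A] (C ⧸ I) ⧸ J' := (e.symm : (C ⧸ J) →ₐ[A] _).comp u
          have hu'0 : ∀ x ∈ 𝔫 ^ k, u' x = 0 := fun x hx => by
            show e.symm (u x) = 0
            rw [hk x hx, map_zero]
          obtain ⟨v', hv'⟩ := h (C ⧸ I) J' hJ'2 u' ⟨k, hu'0⟩
          have hv'J : ∀ x ∈ 𝔫 ^ k, v' x ∈ J' := by
            intro x hx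
            have h1 : Ideal.Quotient.mk J' (v' x) = u' x := AlgHom.congr_fun hv' x
            rw [← Ideal.Quotient.eq_zero_iff_mem, h1]
            exact hu'0 x hx
          have hv'c : ∀ x ∈ 𝔫 ^ (k * 2), v' x = 0 := by
            have h1 : (𝔫 ^ k).map v'.toRingHom ≤ J' := by
              rw [Ideal.map_le_iff_le_comap]
              intro x hx
              exact hv'J x hx
            have h2 : (𝔫 ^ (k * 2)).map v'.toRingHom ≤ ⊥ := by
              rw [pow_mul, Ideal.map_pow, ← hJ'2]
              exact Ideal.pow_right_mono h1 2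
            intro x hx
            have h3 := h2 (Ideal.mem_map_of_mem v'.toRingHom hx)
            exact Ideal.mem_bot.mp h3
          have hIn : I ^ ((n + 1) / 2) = ⊥ := by
            rw [hI, ← pow_mul, eq_bot_iff, ← hJ]
            apply Ideal.pow_le_pow_right
            omega
          obtain ⟨v, hv⟩ := ih ((n + 1) / 2) (by omega) C I hIn v' ⟨k * 2, hv'c⟩
          refine ⟨v, ?_⟩
          apply AlgHom.ext
          intro b
          show Ideal.Quotient.mk J (v b) = u b
          have h3 : Ideal.Quotient.mk I (v b) = v' b := AlgHom.congr_fun hv b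
          have h4 : Ideal.Quotient.mk J' (v' b) = e.symm (u b) := AlgHom.congr_fun hv' b
          have h5 : e (Ideal.Quotient.mk J' (Ideal.Quotient.mk I (v b))) =
              Ideal.Quotient.mk J (v b) :=
            DoubleQuot.quotQuotEquivQuotOfLE_quotQuotMk (v b) hIJ
          rw [← h5, h3, h4, AlgEquiv.apply_symm_apply]
    intro C _ _ J hJ _ u hu
    obtain ⟨n, hn⟩ := hJ
    exact main n C J hn u hu
  · intro h C _ _ J hJ u hu
    exact h C J ⟨2, hJ⟩ ⟨1, by simp⟩ u hu

end Groth.Agent.S4537
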