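import Groth.Statements.S4539
import Mathlib
import Groth.Agent.Lib.Helper4.CartierDim
import Groth.Agent.H11.GeomRedSmooth2

set_option autoImplicit false
universe u
open EGA41

namespace Groth.Agent.S4539

theorem tensor_eq_zero {R M N : Type*} [CommRing R] [AddCommGroup M] [Module R M]
    [AddCommGroup N] [Module R N] (h : ∀ w : N, w = 0) (z : TensorProduct R M N) : z = 0 := by
  induction z using TensorProduct.induction_on with
  | zero => rfl
  | tmul a w => rw [h w, TensorProduct.tmul_zero]
  | add a b ha hb => rw [ha, hb, add_zero]

open IsLocalRing in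
theorem main (p : ℕ) [hp : (Ideal.span {(p : ℤ)}).IsPrime] (P : Type) [CommRing P] [IsLocalRing P]
    [Algebra ℤ P] [hloc : IsLocalization.AtPrime P (Ideal.span {(p : ℤ)})]
    {A : Type} [CommRing A] [IsLocalRing A] [CharP (ResidueField A) p] [Algebra P A]
    [IsLocalHom (algebraMap P A)] :
    EGA41.IsCohenAlgebra P A ↔ EGA41.IsCohenRingEGA A := by
  classical
  haveI hdomP : IsDomain P := IsLocalization.isDomain_of_atPrime P (Ideal.span {(p : ℤ)})
  haveI hDed : IsDedekindDomain P :=
    IsLocalization.AtPrime.isDedekindDomain ℤ (Ideal.span {(p : ℤ)}) P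
  haveI hNP : IsNoetherianRing P :=
    IsLocalization.isNoetherianRing (Ideal.span {(p : ℤ)}).primeCompl P inferInstance
  have hcastP : ∀ n : ℤ, algebraMap ℤ P n = (n : P) := fun n => eq_intCast (algebraMap ℤ P) n
  have hmP : maximalIdeal P = Ideal.span {(p : P)} := by
    rw [← IsLocalization.AtPrime.map_eq_maximalIdeal (Ideal.span {(p : ℤ)}) P, Ideal.map_span,
      Set.image_singleton, hcastP]
    simp
  have hmPA : (maximalIdeal P).map (algebraMap P A) = Ideal.span {(p : A)} := by
    rw [hmP, Ideal.map_span, Set.image_singleton, map_natCast]
  have hgr : Algebra.IsGeometricallyReduced (ResidueField P) (ResidueField A) := by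
    rw [Groth.Agent.H11.GeomRedSmooth.geomReduced_iff']
    have hU : ∀ (inst : Algebra ℤ (ResidueField P)),
        @Algebra.FormallyUnramified ℤ (ResidueField P) _ _ inst := by
      haveI : Algebra.FormallyUnramified ℤ P :=
        Algebra.FormallyUnramified.of_isLocalization (M := (Ideal.span {(p : ℤ)}).primeCompl)
      have hU0 : Algebra.FormallyUnramified ℤ (ResidueField P) :=
        Algebra.FormallyUnramified.of_surjective (R := ℤ) (A := P)
          (IsScalarTower.toAlgHom ℤ P (ResidueField P)) residue_surjective
      intro inst
      convert hU0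
      exact Subsingleton.elim _ _
    refine @Function.injective_of_subsingleton _ _ ⟨fun x y => ?_⟩ _
    exact (tensor_eq_zero (fun w => @Subsingleton.elim _
      ((hU _).subsingleton_kaehlerDifferential) w 0) x).trans
      (tensor_eq_zero (fun w => @Subsingleton.elim _
      ((hU _).subsingleton_kaehlerDifferential) w 0) y).symm
  have common : ∀ (_ : IsDomain A) (_ : CharZero A), IsNoetherianRing A →
      IsAdicComplete (maximalIdeal A) A → maximalIdeal A = Ideal.span {(p : A)} →
      EGA41.IsCohenAlgebra P A := by
    intro hdom hchar hNA hcomp hmA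
    have hinj : Function.Injective (algebraMap P A) := by
      rw [injective_iff_map_eq_zero]
      intro x hx
      obtain ⟨⟨n, s⟩, hns⟩ := IsLocalization.surj (Ideal.span {(p : ℤ)}).primeCompl x
      dsimp only at hns
      have h1 : algebraMap P A (algebraMap ℤ P n) = 0 := by rw [← hns, map_mul, hx, zero_mul]
      rw [hcastP, map_intCast, Int.cast_eq_zero] at h1
      have hu : IsUnit (algebraMap ℤ P (s : ℤ)) := IsLocalization.map_units P s
      rw [h1, map_zero] at hns
      exact (hu.mul_left_eq_zero).1 hns
    haveI : Module.IsTorsionFree P A := Module.isTorsionFree_iff_algebraMap_injective.2 hinj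
    exact ⟨hNP, hNA, hcomp, inferInstance, by rw [hmPA, hmA], hgr⟩
  constructor
  · rintro ⟨_, hNA, hcomp, hflat, hmax, _⟩
    haveI := hNA
    have hmA : maximalIdeal A = Ideal.span {(p : A)} := by rw [← hmax, hmPA]
    by_cases hp0 : p = 0
    · left
      have hbot : maximalIdeal A = ⊥ := by rw [hmA, hp0]; simp
      refine ⟨isField_iff_maximalIdeal_eq.2 hbot, ?_⟩
      haveI : CharP (ResidueField A) 0 := hp0 ▸ (inferInstance : CharP (ResidueField A) p)
      haveI : CharZero (ResidueField A) := CharP.charP_to_charZero _
      exact RingHom.charZero (residue A)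
    · right
      have hpP0 : (p : P) ≠ 0 := by
        intro h0
        have h1 : algebraMap ℤ P (p : ℤ) = algebraMap ℤ P 0 := by
          rw [hcastP, hcastP]; simpa using h0
        have h2 := IsLocalization.injective P
          (Ideal.primeCompl_le_nonZeroDivisors (Ideal.span {(p : ℤ)})) h1
        exact hp0 (by exact_mod_cast h2)
      have hreg : IsSMulRegular A (p : P) :=
        Module.Flat.isSMulRegular_of_nonZeroDivisors (mem_nonZeroDivisors_of_ne_zero hpP0)
      have hnzd : (p : A) ∈ nonZeroDivisors A := by
        rw [mem_nonZeroDivisors_iff_left]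
        intro a ha
        apply hreg
        change (p : P) • a = (p : P) • 0
        rw [smul_zero, Algebra.smul_def, map_natCast, ha]
      obtain ⟨hdom, hdvr⟩ :=
        Groth.Agent.Helper4.CartierDim.dvr_of_maximalIdeal_eq_span (p : A) hnzd hmA
      have hprime : p.Prime := by
        have h1 : Prime (p : ℤ) :=
          (Ideal.span_singleton_prime (by exact_mod_cast hp0)).1 hp
        exact Nat.prime_iff_prime_int.2 h1
      exact ⟨hdom, hdvr, hcomp, p, hprime, hmA⟩
  · intro h
    rcases h with ⟨hf, hchar⟩ | ⟨hdom, hdvr, hcomp, q, hq, hmq⟩
    · have hbot : maximalIdeal A = ⊥ := isField_iff_maximalIdeal_eq.1 hf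
      have hresinj : Function.Injective (residue A) := by
        rw [RingHom.injective_iff_ker_eq_bot, ker_residue, hbot]
      haveI := hchar
      haveI : CharZero (ResidueField A) := charZero_of_injective_ringHom hresinj
      have hp0 : p = 0 := CharP.eq (ResidueField A) (inferInstance : CharP (ResidueField A) p)
        (CharP.ofCharZero _)
      have hNA : IsNoetherianRing A := by
        rw [isNoetherianRing_iff_ideal_fg]
        intro I
        by_cases hI : I = ⊤
        · rw [hI]
          exact ⟨{1}, by rw [Finset.coe_singleton]; exact Ideal.span_singleton_one⟩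
        · have h1 := le_maximalIdeal hI
          rw [hbot, le_bot_iff] at h1
          rw [h1]; exact Submodule.fg_bot
      exact common hf.isDomain hchar hNA (by rw [hbot]; infer_instance)
        (by rw [hbot, hp0]; simp)
    · haveI := hdom
      haveI := hdvr
      have hqmem : (q : A) ∈ maximalIdeal A := by
        rw [hmq]; exact Ideal.subset_span rfl
      have hq0 : ((q : ℕ) : ResidueField A) = 0 := by
        rw [← map_natCast (residue A), residue_eq_zero_iff]; exact hqmem
      have hdvd : p ∣ q := (CharP.cast_eq_zero_iff (ResidueField A) p q).1 hq0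
      have hpq : p = q := by
        rcases (Nat.dvd_prime hq).1 hdvd with h1 | h1
        · exact absurd h1 (CharP.char_ne_one (ResidueField A) p)
        · exact h1
      have hmA : maximalIdeal A = Ideal.span {(p : A)} := by rw [hpq]; exact hmq
      have hpA0 : (p : A) ≠ 0 := by
        intro h0
        apply IsDiscreteValuationRing.not_a_field A
        rw [hmA, h0]
        exact Ideal.span_singleton_eq_bot.2 rfl
      have hchar : CharZero A := by
        obtain ⟨ℓ, hℓ⟩ := CharP.exists A
        rcases CharP.char_is_prime_or_zero A ℓ with hprime | h0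
        · exfalso
          have hℓ0 : ((ℓ : ℕ) : ResidueField A) = 0 := by
            rw [← map_natCast (residue A), CharP.cast_eq_zero A ℓ, map_zero]
          have hdvd2 : p ∣ ℓ := (CharP.cast_eq_zero_iff (ResidueField A) p ℓ).1 hℓ0
          rcases (Nat.dvd_prime hprime).1 hdvd2 with h1 | h1
          · exact CharP.char_ne_one (ResidueField A) p h1
          · apply hpA0; rw [h1]; exact CharP.cast_eq_zero A ℓ
        · subst h0
          exact CharP.charP_to_charZero A
      exact common hdom hchar inferInstance hcomp hmA

open IsLocalRing in
/-- Let A be a local ring with residue characteristic p (p = 0 or a prime), P the prime local ring ℤ_(p)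
(ℚ if p = 0) and P → A its unique local homomorphism. Then A is a Cohen ring, i.e. a Cohen P-algebra
— Noetherian and complete, flat over P, with pA its maximal ideal (and residue field separable over
the prime field) — if and only if A is a field of characteristic 0 or a complete discrete valuation
ring of residue characteristic > 0 whose maximal ideal is generated by p·1. -/
theorem result (p : ℕ) [hp : (Ideal.span {(p : ℤ)}).IsPrime]
    {A : Type} [CommRing A] [IsLocalRing A] [CharP (ResidueField A) p]
    [Algebra (Localization.AtPrime (Ideal.span {(p : ℤ)})) A]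
    [IsLocalHom (algebraMap (Localization.AtPrime (Ideal.span {(p : ℤ)})) A)] :
    EGA41.IsCohenAlgebra (Localization.AtPrime (Ideal.span {(p : ℤ)})) A ↔ EGA41.IsCohenRingEGA A := by
  exact main p (Localization.AtPrime (Ideal.span {(p : ℤ)}))

end Groth.Agent.S4539
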