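import Mathlib
import Groth.Agent.H11.AdicOmega
import Groth.Agent.S0397
import Groth.Statements.S4540

set_option autoImplicit false
universe u
open EGA41

namespace Groth.Agent.S4540

open IsLocalRing TensorProduct in
/-- Let A, B be Noetherian local rings and A → B a local homomorphism making B a formally smooth
A-algebra for the adic topologies of the maximal ideals. Then for every ideal of definition 𝔟 of B,
the (B/𝔟)-module Ω_{B/A} ⊗_B (B/𝔟) is free. -/
theorem result {A B : Type u} [CommRing A] [IsLocalRing A]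
    [IsNoetherianRing A] [CommRing B] [IsLocalRing B] [IsNoetherianRing B] [Algebra A B] [IsLocalHom (algebraMap A B)]
    (h : EGA41.IsFormallySmoothAdic A (maximalIdeal A) B (maximalIdeal B))
    (𝔟 : Ideal B) (hle : 𝔟 ≤ maximalIdeal B) (hpow : ∃ k : ℕ, maximalIdeal B ^ k ≤ 𝔟) :
    Module.Free (B ⧸ 𝔟) ((B ⧸ 𝔟) ⊗[B] Ω[B⁄A]) := by

    classical
    obtain ⟨k, hk⟩ := hpow
    have hloc : (maximalIdeal A).map (algebraMap A B) ≤ maximalIdeal B :=
      ((IsLocalRing.local_hom_TFAE (algebraMap A B)).out 0 2).mp (by infer_instance)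
    have ha : (maximalIdeal A ^ k).map (algebraMap A B) ≤ 𝔟 := by
      rw [Ideal.map_pow]
      exact (Ideal.pow_right_mono hloc k).trans hk
    have hproj := Groth.Agent.H11.AdicOmega.projective_of_formallySmoothAdic h 𝔟 ⟨k, hk⟩ ⟨k, ha⟩
    have hne : 𝔟 ≠ ⊤ := fun h' => (IsLocalRing.maximalIdeal.isMaximal B).ne_top (top_le_iff.mp (h' ▸ hle))
    haveI : Nontrivial (B ⧸ 𝔟) := Ideal.Quotient.nontrivial_iff.mpr hne
    haveI : IsLocalRing (B ⧸ 𝔟) :=
      IsLocalRing.of_surjective' (Ideal.Quotient.mk 𝔟) Ideal.Quotient.mk_surjective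
    have hmax : maximalIdeal (B ⧸ 𝔟) ≤ (maximalIdeal B).map (Ideal.Quotient.mk 𝔟) := by
      intro x hx
      obtain ⟨b, rfl⟩ := Ideal.Quotient.mk_surjective x
      refine Ideal.mem_map_of_mem _ ?_
      rw [IsLocalRing.mem_maximalIdeal, mem_nonunits_iff] at hx ⊢
      exact fun hb => hx (hb.map _)
    have hnil : IsNilpotent (maximalIdeal (B ⧸ 𝔟)) := by
      refine ⟨k, ?_⟩
      rw [Ideal.zero_eq_bot, ← le_bot_iff]
      refine (Ideal.pow_right_mono hmax k).trans ?_
      rw [← Ideal.map_pow]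
      refine (Ideal.map_mono hk).trans ?_
      rw [Ideal.map_quotient_self]
    haveI : Module.Flat (B ⧸ 𝔟) ((B ⧸ 𝔟) ⊗[B] Ω[B⁄A]) := inferInstance
    exact Groth.Agent.S0397.result hnil

end Groth.Agent.S4540
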