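import Groth.Statements.S4541
import Mathlib
import Groth.Agent.S2464

set_option autoImplicit false
universe u
open EGA41

namespace Groth.Agent.S4541

section helpers
open EGA41

variable (p : ℕ) [hpf : Fact p.Prime] {A B : Type u} [CommRing A] [CommRing B] [Algebra A B]

/-- `A[B^p]` viewed over itself has the same underlying set -/
lemma mem_pPower_self_iff (c : B) :
    c ∈ pPowerSubalgebra p (pPowerSubalgebra p A B) B ↔ c ∈ pPowerSubalgebra p A B := by
  constructor
  · intro hc
    let Q : Subalgebra (pPowerSubalgebra p A B) B :=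
      { carrier := pPowerSubalgebra p A B
        mul_mem' := fun {a b} ha hb => (pPowerSubalgebra p A B).mul_mem ha hb
        one_mem' := (pPowerSubalgebra p A B).one_mem
        add_mem' := fun {a b} ha hb => (pPowerSubalgebra p A B).add_mem ha hb
        zero_mem' := (pPowerSubalgebra p A B).zero_mem
        algebraMap_mem' := fun r => r.2 }
    have hle : pPowerSubalgebra p (pPowerSubalgebra p A B) B ≤ Q := by
      apply Algebra.adjoin_le
      rintro _ ⟨b, rfl⟩
      exact Algebra.subset_adjoin ⟨b, rfl⟩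
    exact hle hc
  · intro hc
    exact Subalgebra.algebraMap_mem _ (⟨c, hc⟩ : pPowerSubalgebra p A B)

lemma isPBasis_self {ι : Type u} (x : ι → B) (hx : IsPBasis p A x) :
    IsPBasis p (pPowerSubalgebra p A B) x := by
  obtain ⟨hli, hsp⟩ := hx
  constructor
  · show LinearIndependent (pPowerSubalgebra p (pPowerSubalgebra p A B) B)
      (fun e : {e : ι →₀ ℕ // ∀ i, e i < p} => pMonomial x e.1)
    have hli' : LinearIndependent (pPowerSubalgebra p A B)
      (fun e : {e : ι →₀ ℕ // ∀ i, e i < p} => pMonomial x e.1) := hli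
    rw [linearIndependent_iff'] at hli' ⊢
    intro s g hsum i hi
    have h0 := hli' s (fun e => ⟨(g e : B), (mem_pPower_self_iff p (g e : B)).1 (g e).2⟩) ?_ i hi
    · apply Subtype.ext
      have h1 := congrArg (fun c : pPowerSubalgebra p A B => (c : B)) h0
      exact h1
    · rw [← hsum]
      apply Finset.sum_congr rfl
      intro e _
      rw [Subalgebra.smul_def, Subalgebra.smul_def]
  · show Submodule.span (pPowerSubalgebra p (pPowerSubalgebra p A B) B)
      (Set.range fun e : {e : ι →₀ ℕ // ∀ i, e i < p} => pMonomial x e.1) = ⊤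
    have hsp' : Submodule.span (pPowerSubalgebra p A B)
      (Set.range fun e : {e : ι →₀ ℕ // ∀ i, e i < p} => pMonomial x e.1) = ⊤ := hsp
    have key : ∀ b : B, b ∈ Submodule.span (pPowerSubalgebra p A B)
        (Set.range fun e : {e : ι →₀ ℕ // ∀ i, e i < p} => pMonomial x e.1) →
        b ∈ Submodule.span (pPowerSubalgebra p (pPowerSubalgebra p A B) B)
          (Set.range fun e : {e : ι →₀ ℕ // ∀ i, e i < p} => pMonomial x e.1) := by
      intro b hb
      induction hb using Submodule.span_induction with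
      | mem w hw => exact Submodule.subset_span hw
      | zero => exact Submodule.zero_mem _
      | add w₁ w₂ _ _ ih₁ ih₂ => exact Submodule.add_mem _ ih₁ ih₂
      | smul c w _ ih =>
        have h0 := Submodule.smul_mem _ (⟨(c : B), (mem_pPower_self_iff p (c : B)).2 c.2⟩ :
          pPowerSubalgebra p (pPowerSubalgebra p A B) B) ih
        rw [Subalgebra.smul_def] at h0 ⊢
        exact h0
    rw [eq_top_iff]
    intro b _
    exact key b (by rw [hsp']; trivial)

variable [CharP A p] [PerfectRing A p] [CharP B p]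

lemma mem_pPower_iff_of_perfect (c : B) :
    c ∈ pPowerSubalgebra p A B ↔ ∃ b : B, b ^ p = c := by
  constructor
  · intro hc
    let S₀ : Subalgebra A B :=
      { carrier := Set.range fun b : B => b ^ p
        mul_mem' := by
          rintro _ _ ⟨a, rfl⟩ ⟨b, rfl⟩
          exact ⟨a * b, mul_pow a b p⟩
        one_mem' := ⟨1, one_pow p⟩
        add_mem' := by
          rintro _ _ ⟨a, rfl⟩ ⟨b, rfl⟩
          exact ⟨a + b, add_pow_char a b p⟩
        zero_mem' := ⟨0, zero_pow hpf.out.ne_zero⟩
        algebraMap_mem' := fun r => ⟨algebraMap A B ((frobeniusEquiv A p).symm r), by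
          show algebraMap A B ((frobeniusEquiv A p).symm r) ^ p = algebraMap A B r
          rw [← map_pow, frobeniusEquiv_symm_pow_p]⟩ }
    have hle : pPowerSubalgebra p A B ≤ S₀ := Algebra.adjoin_le (fun _ h => h)
    exact hle hc
  · rintro ⟨b, rfl⟩
    exact Algebra.subset_adjoin ⟨b, rfl⟩

variable [IsReduced B] {ι : Type u} (x : ι → B)

lemma core (hx : IsPBasis p A x) {E E' : Type u} [CommRing E] [CommRing E'] [Algebra A E]
    [Algebra A E']
    (π : E →ₐ[A] E') (hπ : Function.Surjective π) (hK : RingHom.ker π ^ p = ⊥)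
    (v : B →ₐ[A] E') (z : ι → E) (hz : ∀ i, π (z i) = v (x i)) :
    ∃! w : B →ₐ[A] E, π.comp w = v ∧ ∀ i, w (x i) = z i := by
  classical
  have hpp : p.Prime := hpf.out
  let Epb : Subalgebra A (B × E) :=
    AlgHom.equalizer (v.comp (AlgHom.fst A B E)) (π.comp (AlgHom.snd A B E))
  have hmem : ∀ t : B × E, t ∈ Epb ↔ v t.1 = π t.2 := fun t => Iff.rfl
  let q : Epb →ₐ[A] B := (AlgHom.fst A B E).comp Epb.val
  let g : Epb →ₐ[A] E := (AlgHom.snd A B E).comp Epb.val
  have hq : Function.Surjective q := by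
    intro b
    obtain ⟨e, he⟩ := hπ (v b)
    exact ⟨⟨(b, e), (hmem _).2 he.symm⟩, rfl⟩
  have hqg : ∀ t : Epb, v (q t) = π (g t) := fun t => (hmem t.1).1 t.2
  have hext : ∀ t t' : Epb, q t = q t' → g t = g t' → t = t' :=
    fun t t' h1 h2 => Subtype.ext (Prod.ext h1 h2)
  have hKq : RingHom.ker q ^ p = ⊥ := by
    rw [← le_bot_iff]
    intro t ht
    rw [Ideal.mem_bot]
    apply hext
    · have h0 : t ∈ RingHom.ker q := Ideal.pow_le_self hpp.ne_zero ht
      rw [map_zero]
      exact h0
    · rw [map_zero]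
      have hmap : (RingHom.ker q).map g.toRingHom ≤ RingHom.ker π := by
        rw [Ideal.map_le_iff_le_comap]
        intro s hs
        rw [Ideal.mem_comap, RingHom.mem_ker]
        have h0 := hqg s
        rw [(RingHom.mem_ker).1 hs, map_zero] at h0
        exact h0.symm
      have h1 : g.toRingHom t ∈ (RingHom.ker q ^ p).map g.toRingHom :=
        Ideal.mem_map_of_mem _ ht
      rw [Ideal.map_pow] at h1
      have h2 := Ideal.pow_right_mono hmap p h1
      rw [hK] at h2
      exact h2
  have hpE : (p : Epb) = 0 := by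
    have h0 := congrArg (algebraMap A Epb) (CharP.cast_eq_zero A p)
    rwa [map_natCast, map_zero] at h0
  haveI : Nontrivial B := CharP.nontrivial_of_char_ne_one (R := B) hpp.ne_one
  haveI : Nontrivial Epb := hq.nontrivial
  haveI : CharP Epb p := (CharP.charP_iff_prime_eq_zero hpp).2 hpE
  have hfrob : RingHom.ker q.toRingHom ≤ RingHom.ker (frobenius Epb p) := by
    intro t ht
    rw [RingHom.mem_ker, frobenius_def]
    have h0 : t ^ p ∈ RingHom.ker q ^ p := Ideal.pow_mem_pow (show t ∈ RingHom.ker q from ht) p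
    rw [hKq] at h0
    exact h0
  let σ : B →+* Epb := RingHom.liftOfSurjective q.toRingHom hq ⟨frobenius Epb p, hfrob⟩
  have hσ : ∀ t : Epb, σ (q t) = t ^ p := fun t =>
    RingHom.liftOfSurjective_comp_apply q.toRingHom hq ⟨frobenius Epb p, hfrob⟩ t
  let Fr : B →+* pPowerSubalgebra p A B :=
    RingHom.codRestrict (frobenius B p) (pPowerSubalgebra p A B)
      (fun b => Algebra.subset_adjoin ⟨b, rfl⟩)
  have hFr_bij : Function.Bijective Fr := by
    constructor
    · intro a b hab
      exact frobenius_inj B p (congrArg Subtype.val hab)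
    · intro c
      obtain ⟨b, hb⟩ := (mem_pPower_iff_of_perfect p (c : B)).1 c.2
      exact ⟨b, Subtype.ext hb⟩
  let Fe : B ≃+* pPowerSubalgebra p A B := RingEquiv.ofBijective Fr hFr_bij
  have hFe : ∀ b : B, ((Fe b : pPowerSubalgebra p A B) : B) = b ^ p := fun b => rfl
  let τ : pPowerSubalgebra p A B →+* Epb := σ.comp Fe.symm.toRingHom
  have hτ : ∀ t : Epb, τ (Fe (q t)) = t ^ p := fun t => by
    show σ (Fe.symm (Fe (q t))) = t ^ p
    rw [RingEquiv.symm_apply_apply, hσ]
  letI algP : Algebra (pPowerSubalgebra p A B) Epb := τ.toAlgebra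
  have hqτ : ∀ c : pPowerSubalgebra p A B, q (τ c) = (c : B) := by
    intro c
    obtain ⟨b, rfl⟩ := Fe.surjective c
    obtain ⟨t, rfl⟩ := hq b
    rw [hτ, map_pow]
    rfl
  let q' : Epb →ₐ[pPowerSubalgebra p A B] B :=
    { q.toRingHom with commutes' := fun c => hqτ c }
  have hKq' : RingHom.ker q'.toRingHom ^ p = ⊥ := by
    have h0 : RingHom.ker q'.toRingHom = RingHom.ker q := by
      ext t
      exact Iff.rfl
    rw [h0]
    exact hKq
  have hx' := isPBasis_self p x hx
  have hinjP : Function.Injective (algebraMap (pPowerSubalgebra p A B) B) :=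
    Subtype.val_injective
  have hpowP : ∀ b : B, b ^ p ∈ Set.range (algebraMap (pPowerSubalgebra p A B) B) :=
    fun b => ⟨⟨b ^ p, Algebra.subset_adjoin ⟨b, rfl⟩⟩, rfl⟩
  obtain ⟨-, h2⟩ := Groth.Agent.S2464.result p hinjP hpowP x hx' q' hq hKq'
  have hH : ∀ (t : Epb) (a : pPowerSubalgebra p A B),
      algebraMap (pPowerSubalgebra p A B) B a = q' t ^ p →
      algebraMap (pPowerSubalgebra p A B) Epb a = t ^ p := by
    intro t a ha
    have ha' : a = Fe (q t) := Subtype.ext ha
    rw [ha']
    exact hτ t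
  obtain ⟨hex, hsec⟩ := h2 hH (fun i => ⟨(x i, z i), (hmem _).2 (hz i).symm⟩) (fun i => rfl)
  obtain ⟨v', hv', hv'uniq⟩ := hex
  have hv'sec := hsec v' hv'
  have hτA : ∀ a : A, τ (algebraMap A (pPowerSubalgebra p A B) a) = algebraMap A Epb a := by
    intro a
    obtain ⟨α, rfl⟩ : ∃ α : A, α ^ p = a :=
      ⟨(frobeniusEquiv A p).symm a, frobeniusEquiv_symm_pow_p A p a⟩
    have h1 : algebraMap A (pPowerSubalgebra p A B) (α ^ p) = Fe (q (algebraMap A Epb α)) := by
      apply Subtype.ext
      show algebraMap A B (α ^ p) = (q (algebraMap A Epb α)) ^ p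
      rw [AlgHom.commutes, map_pow]
    rw [h1, hτ, ← map_pow]
  have hv'A : ∀ a : A, v' (algebraMap A B a) = algebraMap A Epb a := by
    intro a
    have h0 := v'.commutes (algebraMap A (pPowerSubalgebra p A B) a)
    rw [← hτA a]
    exact h0
  let w : B →ₐ[A] E :=
    { g.toRingHom.comp v'.toRingHom with
      commutes' := fun a => by
        show g (v' (algebraMap A B a)) = algebraMap A E a
        rw [hv'A, AlgHom.commutes] }
  have hqv' : ∀ b, q (v' b) = b := fun b => AlgHom.congr_fun hv'sec b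
  refine ⟨w, ⟨?_, ?_⟩, ?_⟩
  · ext b
    show π (g (v' b)) = v b
    rw [← hqg, hqv']
  · intro i
    show g (v' (x i)) = z i
    rw [hv' i]
    rfl
  · rintro w₂ ⟨hw₂π, hw₂x⟩
    let r₂ : B →+* Epb := RingHom.codRestrict ((RingHom.id B).prod w₂.toRingHom) Epb
      (fun b => (hmem _).2 (by
        show v b = π (w₂ b)
        exact (AlgHom.congr_fun hw₂π b).symm))
    have hq₂ : ∀ b, q (r₂ b) = b := fun b => rfl
    have hg₂ : ∀ b, g (r₂ b) = w₂ b := fun b => rfl
    let v₂ : B →ₐ[pPowerSubalgebra p A B] Epb :=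
      { r₂ with
        commutes' := fun c => by
          obtain ⟨b₀, rfl⟩ := Fe.surjective c
          show r₂ ((Fe b₀ : pPowerSubalgebra p A B) : B) = τ (Fe b₀)
          have h0 : τ (Fe b₀) = (r₂ b₀) ^ p := by
            have h00 := hτ (r₂ b₀)
            rwa [hq₂] at h00
          rw [h0, hFe, map_pow] }
    have hv₂ : v₂ = v' := hv'uniq v₂ (fun i => hext _ _ rfl (hw₂x i))
    apply AlgHom.ext
    intro b
    show w₂ b = g (v' b)
    rw [← hv₂]
    rfl

lemma nilp (hx : IsPBasis p A x) : ∀ (n : ℕ) (E E' : Type u) [CommRing E] [CommRing E']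
    [Algebra A E] [Algebra A E']
    (π : E →ₐ[A] E') (_ : Function.Surjective π) (_ : RingHom.ker π ^ n = ⊥)
    (v : B →ₐ[A] E') (z : ι → E) (_ : ∀ i, π (z i) = v (x i)),
    ∃! w : B →ₐ[A] E, π.comp w = v ∧ ∀ i, w (x i) = z i := by
  have hpp : p.Prime := hpf.out
  intro n
  induction n with
  | zero =>
    intro E E' _ _ _ _ π hπ hK v z hz
    refine core p x hx π hπ ?_ v z hz
    rw [pow_zero, Ideal.one_eq_top] at hK
    rw [← le_bot_iff, ← hK]
    exact le_top
  | succ n ih =>
    rcases n with _ | m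
    · intro E E' _ _ _ _ π hπ hK v z hz
      refine core p x hx π hπ ?_ v z hz
      rw [zero_add, pow_one] at hK
      rw [hK, ← Ideal.zero_eq_bot, zero_pow hpp.ne_zero]
    · intro E E' _ _ _ _ π hπ hK v z hz
      obtain ⟨K, hKdef⟩ : ∃ K : Ideal E, K = RingHom.ker π := ⟨_, rfl⟩
      obtain ⟨I, hIdef⟩ : ∃ I : Ideal E, I = K ^ (m + 1) := ⟨_, rfl⟩
      have hIK : ∀ a ∈ I, π a = 0 := fun a ha => by
        have h0 : a ∈ K := Ideal.pow_le_self (Nat.succ_ne_zero m) (hIdef ▸ ha)
        rw [hKdef] at h0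
        exact h0
      let π₁ : E →ₐ[A] E ⧸ I := Ideal.Quotient.mkₐ A I
      let π₂ : E ⧸ I →ₐ[A] E' := Ideal.Quotient.liftₐ I π hIK
      have hπ₂π₁ : π₂.comp π₁ = π := Ideal.Quotient.liftₐ_comp I π hIK
      have hπ₁s : Function.Surjective π₁ := Ideal.Quotient.mkₐ_surjective A I
      have hπ₂s : Function.Surjective π₂ := by
        intro e'
        obtain ⟨e, rfl⟩ := hπ e'
        exact ⟨π₁ e, AlgHom.congr_fun hπ₂π₁ e⟩
      have hK₁ : RingHom.ker π₁ ^ p = ⊥ := by
        have h1 : RingHom.ker π₁ = I := Ideal.mk_ker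
        rw [h1, ← le_bot_iff, ← hK, ← hKdef, hIdef, ← pow_mul]
        apply Ideal.pow_le_pow_right
        calc m + 1 + 1 ≤ (m + 1) * 2 := by omega
          _ ≤ (m + 1) * p := Nat.mul_le_mul_left _ hpp.two_le
      have hK₂ : RingHom.ker π₂ ^ (m + 1) = ⊥ := by
        have h1 : RingHom.ker π₂ ≤ K.map (Ideal.Quotient.mk I) := by
          intro t ht
          obtain ⟨e, rfl⟩ := Ideal.Quotient.mk_surjective t
          apply Ideal.mem_map_of_mem
          rw [hKdef, RingHom.mem_ker]
          exact (RingHom.mem_ker).1 ht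
        rw [← le_bot_iff]
        calc RingHom.ker π₂ ^ (m + 1) ≤ (K.map (Ideal.Quotient.mk I)) ^ (m + 1) :=
              Ideal.pow_right_mono h1 _
          _ = (K ^ (m + 1)).map (Ideal.Quotient.mk I) := (Ideal.map_pow _ _ _).symm
          _ = ⊥ := by rw [← hIdef]; exact Ideal.map_quotient_self I
      obtain ⟨v₁, ⟨hv₁π, hv₁x⟩, hv₁u⟩ := ih (E ⧸ I) E' π₂ hπ₂s hK₂ v (fun i => π₁ (z i))
        (fun i => by
          rw [← hz i]
          exact AlgHom.congr_fun hπ₂π₁ (z i))
      obtain ⟨w, ⟨hwπ, hwx⟩, hwu⟩ := core p x hx π₁ hπ₁s hK₁ v₁ z (fun i => (hv₁x i).symm)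
      refine ⟨w, ⟨?_, hwx⟩, ?_⟩
      · rw [← hπ₂π₁, AlgHom.comp_assoc, hwπ, hv₁π]
      · rintro w' ⟨hw'π, hw'x⟩
        apply hwu
        refine ⟨?_, hw'x⟩
        apply hv₁u
        refine ⟨?_, fun i => ?_⟩
        · rw [← AlgHom.comp_assoc, hπ₂π₁, hw'π]
        · show π₁ (w' (x i)) = π₁ (z i)
          rw [hw'x]

end helpers

/-- Let p be a prime, A a perfect ring of characteristic p and B a reduced A-algebra of characteristic p
which admits a p-basis (x_α) over A. Then B is a formally smooth A-algebra (discrete topologies);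
more precisely, for every A-algebra E, every nilpotent ideal R of E, every A-algebra homomorphism v
: B → E/R and every family (z_α) of elements of E lifting the v(x_α), there is a unique A-algebra
homomorphism w : B → E lifting v with w(x_α) = z_α for all α. (The published statement assumes,
instead of A perfect and B reduced, that the canonical map A^(p) ⊗_A B → B^(p), a ⊗ b ↦ a b^p with
Frobenius-twisted structures, is injective; when A is perfect that condition says exactly that B is
reduced, which is the case stated here. The published statement also treats admissible topological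
E; only discrete E is stated.) -/
theorem result (p : ℕ) [Fact p.Prime] {A B : Type u} [CommRing A] [CharP A p]
    [PerfectRing A p] [CommRing B] [Algebra A B] [CharP B p] [IsReduced B]
    {ι : Type u} (x : ι → B) (hx : EGA41.IsPBasis p A x) :
    Algebra.FormallySmooth A B ∧
    ∀ (E : Type u) [CommRing E] [Algebra A E] (R : Ideal E), IsNilpotent R →
      ∀ (v : B →ₐ[A] E ⧸ R) (z : ι → E), (∀ i, Ideal.Quotient.mk R (z i) = v (x i)) →
        ∃! w : B →ₐ[A] E, (Ideal.Quotient.mkₐ A R).comp w = v ∧ ∀ i, w (x i) = z i := by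
  have hmain : ∀ (E : Type u) [CommRing E] [Algebra A E] (R : Ideal E), IsNilpotent R →
      ∀ (v : B →ₐ[A] E ⧸ R) (z : ι → E), (∀ i, Ideal.Quotient.mk R (z i) = v (x i)) →
        ∃! w : B →ₐ[A] E, (Ideal.Quotient.mkₐ A R).comp w = v ∧ ∀ i, w (x i) = z i := by
    intro E _ _ R hR v z hz
    obtain ⟨n, hn⟩ := hR
    refine nilp p x hx n E (E ⧸ R) (Ideal.Quotient.mkₐ A R)
      (Ideal.Quotient.mkₐ_surjective A R) ?_ v z hz
    have h1 : RingHom.ker (Ideal.Quotient.mkₐ A R) = R := Ideal.mk_ker
    rw [h1]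
    exact hn
  refine ⟨?_, hmain⟩
  apply Algebra.FormallySmooth.of_comp_surjective
  intro C _ _ I hI f
  choose z hz using fun i => Ideal.Quotient.mk_surjective (f (x i))
  obtain ⟨w, ⟨hw, -⟩, -⟩ := hmain C I ⟨2, hI⟩ f z hz
  exact ⟨w, hw⟩

end Groth.Agent.S4541
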