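import Groth.Statements.S4543
import Mathlib
import Groth.Agent.Lib.Helper4.FSAdicLift

set_option autoImplicit false
universe u
open EGA41

namespace Groth.Agent.S4543

open IsLocalRing in
/-- Let A be a Noetherian ring, J an ideal of A, B and B' two A-algebras which are Noetherian local
rings, the structure maps being continuous for the J-adic topology on A (JB and JB' lie in the
maximal ideals); suppose B and B' are complete for the J-adic topologies, B is a formally smooth
A-algebra for the J-adic topology on A and the JB-adic topology on B (nilpotent test ideals, test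
algebras killed by a power of J, test maps killing a power of JB), and B' is a flat A-module. Then
every (A/J)-algebra isomorphism u₀ : B/JB ≅ B'/JB' comes from an A-algebra isomorphism u : B ≅ B' by
passing to quotients. (B is taken formally smooth for the JB-adic topology, the topology along which
the argument lifts B → B'/JB' to B'; read with the convention that a local ring carries the adic
topology of its maximal ideal, the published hypothesis would be formal smoothness for the
maximal-ideal topology on B, a weaker condition when JB is strictly smaller than the maximal ideal,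
and that reading is not what the argument establishes.) -/
theorem result {A B B' : Type u} [CommRing A] [IsNoetherianRing A] (J : Ideal A)
    [CommRing B] [IsLocalRing B] [IsNoetherianRing B] [Algebra A B]
    [CommRing B'] [IsLocalRing B'] [IsNoetherianRing B'] [Algebra A B']
    (hB : J.map (algebraMap A B) ≤ maximalIdeal B) (hB' : J.map (algebraMap A B') ≤ maximalIdeal B')
    [IsAdicComplete (J.map (algebraMap A B)) B] [IsAdicComplete (J.map (algebraMap A B')) B']
    (hfs : EGA41.IsFormallySmoothAdic A J B (J.map (algebraMap A B))) [Module.Flat A B']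
    (u₀ : (B ⧸ J.map (algebraMap A B)) ≃ₐ[A ⧸ J] (B' ⧸ J.map (algebraMap A B'))) :
    ∃ u : B ≃ₐ[A] B', ∀ b : B,
      Ideal.Quotient.mk (J.map (algebraMap A B')) (u b) = u₀ (Ideal.Quotient.mk (J.map (algebraMap A B)) b) := by
  classical
  obtain ⟨u, hu⟩ : ∃ u : B →ₐ[A] (B' ⧸ J.map (algebraMap A B')),
      u = (u₀.toAlgHom.restrictScalars A).comp (Ideal.Quotient.mkₐ A _) := ⟨_, rfl⟩
  have hub : ∀ b, u b = u₀ (Ideal.Quotient.mk _ b) := fun b => by rw [hu]; rfl
  have hbot : (J.map (algebraMap A B')).map (Ideal.Quotient.mk (J.map (algebraMap A B'))) = ⊥ :=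
    Ideal.map_mk_eq_bot_of_le le_rfl
  have : IsHausdorff ((J.map (algebraMap A B')).map
      (Ideal.Quotient.mk (J.map (algebraMap A B')))) (B' ⧸ J.map (algebraMap A B')) := by
    rw [hbot]
    refine ⟨fun x hx => ?_⟩
    have h1 := hx 1
    rw [pow_one, SModEq.zero, Submodule.bot_smul] at h1
    exact (Submodule.mem_bot _).mp h1
  have hu1 : ∃ k : ℕ, ((J.map (algebraMap A B)) ^ k).map u.toRingHom ≤
      (J.map (algebraMap A B')).map (Ideal.Quotient.mk (J.map (algebraMap A B'))) := by
    refine ⟨1, ?_⟩
    rw [pow_one, hbot, Ideal.map_le_iff_le_comap]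
    intro x hx
    rw [Ideal.mem_comap, Ideal.mem_bot]
    change u x = 0
    rw [hub, Ideal.Quotient.eq_zero_iff_mem.mpr hx, map_zero]
  obtain ⟨v, -, hv⟩ := Groth.Agent.Helper4.lift_complete hfs (J.map (algebraMap A B'))
    ⟨1, le_of_eq (by rw [pow_one])⟩ (J.map (algebraMap A B')) ⟨1, le_of_eq (by rw [pow_one])⟩ u hu1
  have hvb : ∀ b, Ideal.Quotient.mk (J.map (algebraMap A B')) (v b) =
      u₀ (Ideal.Quotient.mk _ b) := by
    intro b
    have h1 := congrArg (fun g => g b) hv
    simp only [AlgHom.comp_apply] at h1
    rw [← hub, ← h1]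
    rfl
  -- surjectivity
  have hmap : (J.map (algebraMap A B)).map v.toRingHom = J.map (algebraMap A B') := by
    rw [Ideal.map_map]
    congr 1
    exact v.comp_algebraMap
  have : IsHausdorff ((J.map (algebraMap A B)).map v.toRingHom) B' := by
    rw [hmap]; infer_instance
  have hsurj : Function.Surjective v.toRingHom := by
    apply surjective_of_mk_map_comp_surjective (I := J.map (algebraMap A B)) v.toRingHom
    intro y
    obtain ⟨y', rfl⟩ := Ideal.Quotient.mk_surjective y
    obtain ⟨x, hx⟩ := Ideal.Quotient.mk_surjective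
      (u₀.symm (Ideal.Quotient.mk (J.map (algebraMap A B')) y'))
    refine ⟨x, ?_⟩
    change Ideal.Quotient.mk _ (v x) = Ideal.Quotient.mk _ y'
    rw [Ideal.Quotient.eq, hmap, ← Ideal.Quotient.eq, hvb, hx, AlgEquiv.apply_symm_apply]
  have hsurj' : Function.Surjective v.toLinearMap := hsurj
  -- injectivity
  have hker : RingHom.ker v.toRingHom = ⊥ := by
    have hinj := LinearMap.lTensor_injective_of_exact_of_flat v.toLinearMap hsurj'
      (LinearMap.ker v.toLinearMap).subtype (Submodule.injective_subtype _)
      (LinearMap.exact_subtype_ker_map _) (A ⧸ J)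
    have hJker : J.map (algebraMap A B) ≤
        RingHom.ker (Algebra.TensorProduct.includeRight : B →ₐ[A] TensorProduct A (A ⧸ J) B) := by
      rw [Ideal.map_le_iff_le_comap]
      intro a ha
      rw [Ideal.mem_comap, RingHom.mem_ker, AlgHom.commutes,
        Algebra.TensorProduct.algebraMap_apply, Ideal.Quotient.algebraMap_eq,
        Ideal.Quotient.eq_zero_iff_mem.mpr ha, TensorProduct.zero_tmul]
    have key : ∀ x (hx : x ∈ LinearMap.ker v.toLinearMap),
        (⟨x, hx⟩ : LinearMap.ker v.toLinearMap) ∈
          (J • ⊤ : Submodule A (LinearMap.ker v.toLinearMap)) := by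
      intro x hx
      have hvx : v x = 0 := hx
      have hxJ : x ∈ J.map (algebraMap A B) := by
        have h1 := hvb x
        rw [hvx, map_zero] at h1
        have h2 := (map_eq_zero_iff u₀ u₀.injective).mp h1.symm
        exact Ideal.Quotient.eq_zero_iff_mem.mp h2
      have h0 : (1 : A ⧸ J) ⊗ₜ[A] x = 0 := hJker hxJ
      have h1 : (LinearMap.ker v.toLinearMap).subtype.lTensor (A ⧸ J)
          ((1 : A ⧸ J) ⊗ₜ[A] (⟨x, hx⟩ : LinearMap.ker v.toLinearMap)) = 0 := by
        rw [LinearMap.lTensor_tmul]
        exact h0
      have h2 : (1 : A ⧸ J) ⊗ₜ[A] (⟨x, hx⟩ : LinearMap.ker v.toLinearMap) = 0 :=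
        hinj (by rw [h1, map_zero])
      have h3 := congrArg (TensorProduct.quotTensorEquivQuotSMul (LinearMap.ker v.toLinearMap) J) h2
      rw [← map_one (Ideal.Quotient.mk J), TensorProduct.quotTensorEquivQuotSMul_mk_tmul, map_zero,
        one_smul, Submodule.Quotient.mk_eq_zero] at h3
      exact h3
    have key2 : (J • ⊤ : Submodule A (LinearMap.ker v.toLinearMap)) ≤
        Submodule.comap (LinearMap.ker v.toLinearMap).subtype
          (((J.map (algebraMap A B)) • (RingHom.ker v.toRingHom)).restrictScalars A) := by
      rw [Submodule.smul_le]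
      intro a ha z _
      rw [Submodule.mem_comap, Submodule.restrictScalars_mem, smul_eq_mul]
      have h1 : (LinearMap.ker v.toLinearMap).subtype (a • z) = algebraMap A B a * (z : B) := by
        rw [map_smul, Algebra.smul_def]
        rfl
      rw [h1]
      exact Ideal.mul_mem_mul (Ideal.mem_map_of_mem _ ha) z.2
    apply Submodule.eq_bot_of_le_smul_of_le_jacobson_bot (J.map (algebraMap A B))
      (RingHom.ker v.toRingHom) (IsNoetherian.noetherian _)
    · intro x hx
      exact key2 (key x hx)
    · rw [IsLocalRing.jacobson_eq_maximalIdeal ⊥ bot_ne_top]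
      exact hB
  have hinj : Function.Injective v := by
    rw [injective_iff_map_eq_zero]
    intro x hx
    have h1 : x ∈ RingHom.ker v.toRingHom := hx
    rw [hker] at h1
    exact h1
  refine ⟨AlgEquiv.ofBijective v ⟨hinj, hsurj⟩, fun b => ?_⟩
  exact hvb b

end Groth.Agent.S4543
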