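import Groth.Statements.S4544
import Mathlib
import Groth.Agent.Lib.Helper4.FSAdic

set_option autoImplicit false
universe u
open EGA41

namespace Groth.Agent.S4544

set_option maxHeartbeats 1000000 in
open TensorProduct in
/-- Let B (𝔟-adic) be a formally smooth topological A-algebra over A (𝔞-adic), the structure map being
continuous (a power of 𝔞 maps into 𝔟); squares of open ideals of B are then open. For every open
ideal 𝔄 of B (an ideal containing a power of 𝔟), Ω_{B/A} ⊗_B (B/𝔄) = Ω_{B/A}/𝔄Ω_{B/A} is a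
projective (B/𝔄)-module. -/
theorem result {A B : Type u} [CommRing A] [CommRing B] [Algebra A B]
    (𝔞 : Ideal A) (𝔟 : Ideal B) (hAB : ∃ k : ℕ, (𝔞 ^ k).map (algebraMap A B) ≤ 𝔟)
    (h : EGA41.IsFormallySmoothAdic A 𝔞 B 𝔟) (𝔄 : Ideal B) (h𝔄 : ∃ n : ℕ, 𝔟 ^ n ≤ 𝔄) :
    Module.Projective (B ⧸ 𝔄) ((B ⧸ 𝔄) ⊗[B] Ω[B⁄A]) := by
  classical
  obtain ⟨k, hk⟩ := hAB
  obtain ⟨n, hn⟩ := h𝔄
  refine Module.Projective.of_lifting_property'' fun f hf => ?_
  -- the surjection of trivial square-zero extensions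
  have hπsurj : Function.Surjective
      ((TrivSqZeroExt.map f).restrictScalars A) := by
    intro x
    obtain ⟨m, hm⟩ := hf x.snd
    refine ⟨TrivSqZeroExt.inl x.fst + TrivSqZeroExt.inr m, ?_⟩
    ext
    · simp
    · simp [hm]
  have hker : ∀ x, x ∈ RingHom.ker ((TrivSqZeroExt.map f).restrictScalars A) →
      x ∈ TrivSqZeroExt.kerIdeal (B ⧸ 𝔄) (((B ⧸ 𝔄) ⊗[B] Ω[B⁄A]) →₀ (B ⧸ 𝔄)) := by
    intro x hx
    have h0 : (TrivSqZeroExt.map f) x = 0 := hx
    have h1 : TrivSqZeroExt.fst ((TrivSqZeroExt.map f) x) = 0 := by rw [h0, TrivSqZeroExt.fst_zero]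
    rw [TrivSqZeroExt.fst_map] at h1
    exact h1
  have hnil : IsNilpotent (RingHom.ker ((TrivSqZeroExt.map f).restrictScalars A)) := by
    refine ⟨2, ?_⟩
    have h1 : RingHom.ker ((TrivSqZeroExt.map f).restrictScalars A) ^ 2 ≤
        TrivSqZeroExt.kerIdeal (B ⧸ 𝔄) (((B ⧸ 𝔄) ⊗[B] Ω[B⁄A]) →₀ (B ⧸ 𝔄)) ^ 2 :=
      Ideal.pow_right_mono (fun x hx => hker x hx) 2
    rw [TrivSqZeroExt.kerIdeal_sq] at h1
    exact le_bot_iff.mp h1
  have hmem : ∀ a ∈ 𝔞 ^ (k * n), algebraMap A B a ∈ 𝔄 := by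
    intro a ha
    have h1 : algebraMap A B a ∈ (𝔞 ^ (k * n)).map (algebraMap A B) :=
      Ideal.mem_map_of_mem _ ha
    rw [pow_mul, Ideal.map_pow] at h1
    exact hn (Ideal.pow_right_mono hk n h1)
  have hC : ∃ K : ℕ, (𝔞 ^ K).map (algebraMap A
      (TrivSqZeroExt (B ⧸ 𝔄) (((B ⧸ 𝔄) ⊗[B] Ω[B⁄A]) →₀ (B ⧸ 𝔄)))) = ⊥ := by
    refine ⟨k * n, ?_⟩
    rw [Ideal.map_eq_bot_iff_le_ker]
    intro a ha
    rw [RingHom.mem_ker, TrivSqZeroExt.algebraMap_eq_inl', IsScalarTower.algebraMap_apply A B (B ⧸ 𝔄),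
      Ideal.Quotient.algebraMap_eq, Ideal.Quotient.eq_zero_iff_mem.mpr (hmem a ha),
      TrivSqZeroExt.inl_zero]
  have hu : ∃ K : ℕ, ∀ x ∈ 𝔟 ^ K, Groth.Agent.Helper4.tszeD A 𝔄 x = 0 := by
    refine ⟨n * 2, fun x hx => ?_⟩
    have h1 : x ∈ 𝔄 ^ 2 := by
      rw [pow_mul] at hx
      exact Ideal.pow_right_mono hn 2 hx
    have h2 : 𝔄 ^ 2 ≤ RingHom.ker (Groth.Agent.Helper4.tszeD A 𝔄) := by
      rw [pow_two, Ideal.mul_le]
      intro a ha b hb
      rw [RingHom.mem_ker, map_mul]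
      have ea : Groth.Agent.Helper4.tszeD A 𝔄 a =
          TrivSqZeroExt.inr ((1 : B ⧸ 𝔄) ⊗ₜ[B] KaehlerDifferential.D A B a) := by
        rw [Groth.Agent.Helper4.tszeD_apply, Ideal.Quotient.eq_zero_iff_mem.mpr ha, TrivSqZeroExt.inl_zero, zero_add]
      have eb : Groth.Agent.Helper4.tszeD A 𝔄 b =
          TrivSqZeroExt.inr ((1 : B ⧸ 𝔄) ⊗ₜ[B] KaehlerDifferential.D A B b) := by
        rw [Groth.Agent.Helper4.tszeD_apply, Ideal.Quotient.eq_zero_iff_mem.mpr hb, TrivSqZeroExt.inl_zero, zero_add]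
      rw [ea, eb, TrivSqZeroExt.inr_mul_inr]
    exact h2 h1
  obtain ⟨v, hv⟩ := Groth.Agent.Helper4.fsAdic_lift_of_surjective h
    ((TrivSqZeroExt.map f).restrictScalars A) hπsurj hnil hC
    (Groth.Agent.Helper4.tszeD A 𝔄) hu
  have hv' : ∀ b, (TrivSqZeroExt.map f) (v b) = Groth.Agent.Helper4.tszeD A 𝔄 b := fun b =>
    congrArg (fun w => w b) hv
  have hfst : ∀ b, TrivSqZeroExt.fst (v b) = Ideal.Quotient.mk 𝔄 b := by
    intro b
    have h1 := congrArg TrivSqZeroExt.fst (hv' b)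
    rw [TrivSqZeroExt.fst_map] at h1
    rw [h1]
    rw [Groth.Agent.Helper4.tszeD_apply]
    simp
  have hsnd : ∀ b, f (TrivSqZeroExt.snd (v b)) = (1 : B ⧸ 𝔄) ⊗ₜ[B] KaehlerDifferential.D A B b := by
    intro b
    have h1 := congrArg TrivSqZeroExt.snd (hv' b)
    rw [TrivSqZeroExt.snd_map] at h1
    rw [h1]
    rw [Groth.Agent.Helper4.tszeD_apply]
    simp
  -- the derivation
  let δ₀ : B →ₗ[A] (((B ⧸ 𝔄) ⊗[B] Ω[B⁄A]) →₀ (B ⧸ 𝔄)) :=
    { toFun := fun b => TrivSqZeroExt.snd (v b)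
      map_add' := fun a b => by rw [map_add, TrivSqZeroExt.snd_add]
      map_smul' := fun a b => by rw [map_smul, TrivSqZeroExt.snd_smul, RingHom.id_apply] }
  have hleib : ∀ a b : B, TrivSqZeroExt.snd (v (a * b)) =
      a • TrivSqZeroExt.snd (v b) + b • TrivSqZeroExt.snd (v a) := by
    intro a b
    rw [map_mul, TrivSqZeroExt.snd_mul, hfst, hfst, op_smul_eq_smul]
    rw [Groth.Agent.Helper4.mk_smul_eq 𝔄 a]
    rw [Groth.Agent.Helper4.mk_smul_eq 𝔄 b (TrivSqZeroExt.snd (v a))]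
  let δ : Derivation A B (((B ⧸ 𝔄) ⊗[B] Ω[B⁄A]) →₀ (B ⧸ 𝔄)) :=
    Derivation.mk' δ₀ (fun a b => hleib a b)
  have hδ : ∀ b, δ b = TrivSqZeroExt.snd (v b) := fun b => rfl
  refine ⟨LinearMap.liftBaseChange (B ⧸ 𝔄) δ.liftKaehlerDifferential, ?_⟩
  have key : (f.restrictScalars B).comp δ.liftKaehlerDifferential =
      TensorProduct.mk B (B ⧸ 𝔄) (Ω[B⁄A]) 1 := by
    refine LinearMap.ext_on_range (KaehlerDifferential.span_range_derivation A B) fun b => ?_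
    rw [LinearMap.comp_apply, Derivation.liftKaehlerDifferential_comp_D, hδ,
      LinearMap.restrictScalars_apply, hsnd, TensorProduct.mk_apply]
  apply LinearMap.ext
  intro x
  induction x using TensorProduct.induction_on with
  | zero => simp
  | tmul r ω =>
    rw [LinearMap.comp_apply, LinearMap.liftBaseChange_tmul, map_smul, LinearMap.id_apply]
    have h1 := LinearMap.congr_fun key ω
    rw [LinearMap.comp_apply, LinearMap.restrictScalars_apply, TensorProduct.mk_apply] at h1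
    rw [h1, TensorProduct.smul_tmul', smul_eq_mul, mul_one]
  | add x y hx hy => rw [map_add, hx, hy, map_add]

end Groth.Agent.S4544
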