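import Groth.Statements.S4547
import Mathlib

set_option autoImplicit false
universe u
open EGA41

namespace Groth.Agent.S4547

open IsLocalRing TensorProduct in
/-- Let A be a local ring with residue field k, M an A-module of finite type, N a projective A-module
and u : M → N a homomorphism. Then u is left invertible if and only if there is a finite system of
generators (x_i) of M such that the elements 1 ⊗ u(x_i) of k ⊗_A N are linearly independent over k;
and such a system (x_i) is then a basis of M. -/
theorem result {A : Type u} [CommRing A] [IsLocalRing A] {M N : Type u}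
    [AddCommGroup M] [Module A M] [Module.Finite A M] [AddCommGroup N] [Module A N] [Module.Projective A N]
    (u : M →ₗ[A] N) :
    ((∃ w : N →ₗ[A] M, w ∘ₗ u = LinearMap.id) ↔
      ∃ (m : ℕ) (x : Fin m → M), Submodule.span A (Set.range x) = ⊤ ∧
        LinearIndependent (ResidueField A) (fun i => (1 : ResidueField A) ⊗ₜ[A] u (x i))) ∧
    ∀ (m : ℕ) (x : Fin m → M), Submodule.span A (Set.range x) = ⊤ →
      LinearIndependent (ResidueField A) (fun i => (1 : ResidueField A) ⊗ₜ[A] u (x i)) →
        ∃ b : Module.Basis (Fin m) A M, ∀ i, b i = x i := by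
  classical
  have main : ∀ (m : ℕ) (x : Fin m → M), Submodule.span A (Set.range x) = ⊤ →
      LinearIndependent (ResidueField A) (fun i => (1 : ResidueField A) ⊗ₜ[A] u (x i)) →
      (∃ b : Module.Basis (Fin m) A M, ∀ i, b i = x i) ∧
        ∃ w : N →ₗ[A] M, w ∘ₗ u = LinearMap.id := by
    intro m x hspan hli
    -- the left inverse over the residue field
    have hinj := linearIndependent_iff_injective_fintypeLinearCombination.mp hli
    obtain ⟨Λ, hΛ⟩ := LinearMap.exists_leftInverse_of_injective
      (Fintype.linearCombination (ResidueField A) (fun i => (1 : ResidueField A) ⊗ₜ[A] u (x i)))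
      (LinearMap.ker_eq_bot.mpr hinj)
    obtain ⟨g, hg⟩ : ∃ g : N →ₗ[A] (Fin m → ResidueField A),
        ∀ n, g n = Λ ((1 : ResidueField A) ⊗ₜ[A] n) :=
      ⟨(Λ.restrictScalars A) ∘ₗ (TensorProduct.mk A (ResidueField A) N 1), fun n => rfl⟩
    obtain ⟨p, hp⟩ : ∃ p : (Fin m → A) →ₗ[A] (Fin m → ResidueField A),
        ∀ f i, p f i = algebraMap A (ResidueField A) (f i) :=
      ⟨(Algebra.linearMap A (ResidueField A)).compLeft (Fin m), fun f i => rfl⟩
    have hpsurj : Function.Surjective p := by
      intro f
      choose f' hf' using fun i => IsLocalRing.residue_surjective (f i)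
      refine ⟨f', ?_⟩
      ext i
      rw [hp]
      exact hf' i
    obtain ⟨θ, hθ⟩ := Module.projective_lifting_property p g hpsurj
    obtain ⟨xt, hxt⟩ : ∃ xt : (Fin m → A) →ₗ[A] M, xt = Fintype.linearCombination A x := ⟨_, rfl⟩
    have hxtsurj : Function.Surjective xt := by
      rw [← LinearMap.range_eq_top, hxt, Fintype.range_linearCombination, hspan]
    have hxt1 : ∀ l, xt (Pi.single l 1) = x l := by
      intro l
      rw [hxt, Fintype.linearCombination_apply_single, one_smul]
    obtain ⟨φ, hφ⟩ : ∃ φ : (Fin m → A) →ₗ[A] (Fin m → A), φ = θ ∘ₗ u ∘ₗ xt := ⟨_, rfl⟩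
    have hentry : ∀ j l, algebraMap A (ResidueField A) (LinearMap.toMatrix' φ j l) =
        (1 : Matrix (Fin m) (Fin m) (ResidueField A)) j l := by
      intro j l
      rw [LinearMap.toMatrix'_apply, hφ, LinearMap.comp_apply, LinearMap.comp_apply]
      rw [hxt1 l, ← hp, ← LinearMap.comp_apply p θ, hθ, hg]
      have h2 : Λ ((1 : ResidueField A) ⊗ₜ[A] u (x l)) = Pi.single l 1 := by
        have := LinearMap.congr_fun hΛ (Pi.single l 1)
        rw [LinearMap.comp_apply, Fintype.linearCombination_apply_single, one_smul] at this
        exact this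
      rw [h2, Matrix.one_apply, Pi.single_apply]
    have hdet : IsUnit (LinearMap.toMatrix' φ).det := by
      have h3 : (algebraMap A (ResidueField A)) (LinearMap.toMatrix' φ).det = 1 := by
        rw [RingHom.map_det]
        have : (algebraMap A (ResidueField A)).mapMatrix (LinearMap.toMatrix' φ) = 1 := by
          ext j l
          exact hentry j l
        rw [this, Matrix.det_one]
      have h4 : IsUnit ((IsLocalRing.residue A) (LinearMap.toMatrix' φ).det) := by
        have : (IsLocalRing.residue A) (LinearMap.toMatrix' φ).det = 1 := h3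
        rw [this]
        exact isUnit_one
      exact isUnit_of_map_unit (IsLocalRing.residue A) _ h4
    have hφbij : Function.Bijective φ := by
      have h5 : IsUnit (LinearMap.toMatrix' φ) := (Matrix.isUnit_iff_isUnit_det _).mpr hdet
      have h6 : IsUnit φ := by
        have := h5.map (LinearMap.toMatrixAlgEquiv' (R := A) (n := Fin m)).symm
        simpa using this
      exact (Module.End.isUnit_iff φ).mp h6
    have hxtinj : Function.Injective xt := by
      have : Function.Injective (θ ∘ₗ u ∘ₗ xt) := hφ ▸ hφbij.1
      intro a b hab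
      apply this
      simp only [LinearMap.comp_apply, hab]
    constructor
    · have hli' : LinearIndependent A x := by
        rw [linearIndependent_iff_injective_fintypeLinearCombination, ← hxt]
        exact hxtinj
      refine ⟨Module.Basis.mk hli' (by rw [hspan]), fun i => ?_⟩
      rw [Module.Basis.mk_apply]
    · obtain ⟨e, he⟩ : ∃ e : (Fin m → A) ≃ₗ[A] (Fin m → A), ∀ f, e f = φ f :=
        ⟨LinearEquiv.ofBijective φ hφbij, fun f => rfl⟩
      refine ⟨xt ∘ₗ e.symm.toLinearMap ∘ₗ θ, ?_⟩
      rw [← LinearMap.cancel_right hxtsurj]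
      apply LinearMap.ext
      intro f
      simp only [LinearMap.comp_apply, LinearEquiv.coe_coe, LinearMap.id_comp]
      have : θ (u (xt f)) = e f := by
        rw [he, hφ]
        rfl
      rw [this, LinearEquiv.symm_apply_apply]
  refine ⟨⟨?_, ?_⟩, fun m x hspan hli => (main m x hspan hli).1⟩
  · rintro ⟨w, hw⟩
    haveI : Module.Projective A M := Module.Projective.of_split u w hw
    haveI : Module.Free A M := Module.free_of_flat_of_isLocalRing
    obtain ⟨b⟩ : Nonempty (Module.Basis (Fin (Module.finrank A M)) A M) :=
      ⟨Module.finBasis A M⟩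
    refine ⟨Module.finrank A M, b, b.span_eq, ?_⟩
    have hker : LinearMap.ker (u.baseChange (ResidueField A)) = ⊥ := by
      rw [LinearMap.ker_eq_bot]
      apply Function.LeftInverse.injective (g := w.baseChange (ResidueField A))
      intro z
      rw [← LinearMap.comp_apply, ← LinearMap.baseChange_comp, hw, LinearMap.baseChange_id,
        LinearMap.id_apply]
    have := (b.baseChange (ResidueField A)).linearIndependent.map' (u.baseChange (ResidueField A))
      hker
    have hfun : (fun i => (1 : ResidueField A) ⊗ₜ[A] u (b i)) =
        (u.baseChange (ResidueField A)) ∘ (b.baseChange (ResidueField A)) := by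
      funext i
      simp
    rw [hfun]
    exact this
  · rintro ⟨m, x, hspan, hli⟩
    exact (main m x hspan hli).2

end Groth.Agent.S4547
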