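import Groth.Statements.S4550
import Mathlib

set_option linter.style.haveILetI false
set_option maxHeartbeats 400000

set_option autoImplicit false
universe u
open EGA41

namespace Groth.Agent.S4550

section Aux

open MvPowerSeries

variable {k : Type u} [Field k] {r : ℕ}

/-- Power series all of whose coefficients lie in a subfield `F`. -/
def coeffSubring (F : Subfield k) : Subring (MvPowerSeries (Fin r) k) where
  carrier := {f | ∀ n, coeff n f ∈ F}
  mul_mem' := by
    intro f g hf hg n
    classical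
    rw [coeff_mul]
    exact sum_mem fun pq _ => mul_mem (hf _) (hg _)
  one_mem' := by
    intro n
    classical
    rw [coeff_one]
    split_ifs
    · exact one_mem F
    · exact zero_mem F
  add_mem' := by
    intro f g hf hg n
    rw [map_add]
    exact add_mem (hf n) (hg n)
  zero_mem' := by
    intro n
    rw [map_zero]
    exact zero_mem F
  neg_mem' := by
    intro f hf n
    rw [map_neg]
    exact neg_mem (hf n)

theorem mem_coeffSubring_iff (F : Subfield k) (f : MvPowerSeries (Fin r) k) :
    f ∈ coeffSubring (r := r) F ↔ ∀ n, coeff n f ∈ F := Iff.rfl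

theorem mem_closure_image_iff (F : Subfield k)
    (x : FractionRing (MvPowerSeries (Fin r) k)) :
    x ∈ Subfield.closure (algebraMap (MvPowerSeries (Fin r) k)
        (FractionRing (MvPowerSeries (Fin r) k)) '' {f | ∀ n, coeff n f ∈ F}) ↔
      ∃ a ∈ coeffSubring (r := r) F, ∃ b ∈ coeffSubring (r := r) F,
        algebraMap (MvPowerSeries (Fin r) k) (FractionRing (MvPowerSeries (Fin r) k)) a /
          algebraMap (MvPowerSeries (Fin r) k) (FractionRing (MvPowerSeries (Fin r) k)) b = x := by
  have h1 : Subring.closure (algebraMap (MvPowerSeries (Fin r) k)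
      (FractionRing (MvPowerSeries (Fin r) k)) '' {f | ∀ n, coeff n f ∈ F}) =
      (coeffSubring (r := r) F).map (algebraMap (MvPowerSeries (Fin r) k)
        (FractionRing (MvPowerSeries (Fin r) k))) := by
    have h2 : {f : MvPowerSeries (Fin r) k | ∀ n, coeff n f ∈ F} =
        (coeffSubring (r := r) F : Set (MvPowerSeries (Fin r) k)) := rfl
    rw [h2, ← RingHom.map_closure, Subring.closure_eq]
  rw [Subfield.mem_closure_iff, h1]
  constructor
  · rintro ⟨_, ⟨a, ha, rfl⟩, _, ⟨b, hb, rfl⟩, h⟩
    exact ⟨a, ha, b, hb, h⟩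
  · rintro ⟨a, ha, b, hb, h⟩
    exact ⟨_, ⟨a, ha, rfl⟩, _, ⟨b, hb, rfl⟩, h⟩

theorem mem_of_mul_mem (F : Subfield k) (f b : MvPowerSeries (Fin r) k)
    (hb : b ∈ coeffSubring (r := r) F) (hb0 : b ≠ 0)
    (hfb : f * b ∈ coeffSubring (r := r) F) : f ∈ coeffSubring (r := r) F := by
  classical
  let ι : F →ₗ[F] k := Algebra.linearMap F k
  have hι : LinearMap.ker ι = ⊥ := LinearMap.ker_eq_bot.mpr (fun x y h => Subtype.ext h)
  obtain ⟨g, hg⟩ := LinearMap.exists_leftInverse_of_injective ι hι
  have hg' : ∀ x : F, g (x : k) = x := fun x => LinearMap.congr_fun hg x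
  have hgk_mul : ∀ (x c : k) (hc : c ∈ F), ((g (x * c) : F) : k) = ((g x : F) : k) * c := by
    intro x c hc
    have e : x * c = (⟨c, hc⟩ : F) • x := by
      rw [Algebra.smul_def]
      exact mul_comm _ _
    rw [e, map_smul, smul_eq_mul, Subfield.coe_mul]
    exact mul_comm _ _
  let f' : MvPowerSeries (Fin r) k := fun n => ((g (coeff n f) : F) : k)
  have key : f' * b = f * b := by
    ext n
    have h1 : ((g (coeff n (f * b)) : F) : k) = coeff n (f * b) :=
      congrArg Subtype.val (hg' ⟨coeff n (f * b), hfb n⟩)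
    rw [← h1, coeff_mul, coeff_mul, map_sum, AddSubmonoidClass.coe_finset_sum]
    refine Finset.sum_congr rfl fun pq _ => ?_
    rw [hgk_mul _ _ (hb pq.2)]
    rfl
  have hff : f' = f := by
    have h0 : (f' - f) * b = 0 := by rw [sub_mul, key, sub_self]
    rcases mul_eq_zero.mp h0 with h | h
    · exact sub_eq_zero.mp h
    · exact absurd h hb0
  intro n
  rw [← hff]
  exact (g (coeff n f)).2

theorem pow_mem_coeffSubring (F : Subfield k) (p : ℕ) [ExpChar k p] (e : ℕ)
    (hF : ∀ x : k, x ^ p ^ e ∈ F) (b : MvPowerSeries (Fin r) k) :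
    b ^ p ^ e ∈ coeffSubring (r := r) F := by
  classical
  haveI : ExpChar (MvPowerSeries (Fin r) k) p :=
    expChar_of_injective_algebraMap (algebraMap k (MvPowerSeries (Fin r) k)).injective p
  have hΨ : ∀ x : MvPowerSeries (Fin r) k,
      iterateFrobenius (MvPowerSeries (Fin r) k) p e x = x ^ p ^ e :=
    fun x => iterateFrobenius_def p e x
  have hX : ∀ i : Fin r, (X i : MvPowerSeries (Fin r) k) ∈ coeffSubring (r := r) F := by
    intro i n
    rw [coeff_X]
    split_ifs
    · exact one_mem F
    · exact zero_mem F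
  have hC : ∀ c ∈ F, (C c : MvPowerSeries (Fin r) k) ∈ coeffSubring (r := r) F := by
    intro c hc n
    rw [coeff_C]
    split_ifs
    · exact hc
    · exact zero_mem F
  have hpoly : ∀ P : MvPolynomial (Fin r) k,
      (P : MvPowerSeries (Fin r) k) ^ p ^ e ∈ coeffSubring (r := r) F := by
    intro P
    induction P using MvPolynomial.induction_on with
    | C a =>
      rw [MvPolynomial.coe_C, ← map_pow]
      exact hC _ (hF a)
    | add P Q hP hQ =>
      rw [MvPolynomial.coe_add, ← hΨ, map_add, hΨ, hΨ]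
      exact add_mem hP hQ
    | mul_X P i hP =>
      rw [MvPolynomial.coe_mul, MvPolynomial.coe_X, mul_pow]
      exact mul_mem hP (pow_mem (hX i) _)
  intro n
  have hδ : ∀ m, m ≤ n → coeff m (b - (trunc' k n b : MvPowerSeries (Fin r) k)) = 0 := by
    intro m hm
    rw [map_sub, MvPolynomial.coeff_coe, coeff_trunc', if_pos hm, sub_self]
  have hq : 0 < p ^ e := pow_pos (Nat.pos_of_ne_zero (expChar_ne_zero k p)) e
  have e1 : b ^ p ^ e = (trunc' k n b : MvPowerSeries (Fin r) k) ^ p ^ e +
      (b - (trunc' k n b : MvPowerSeries (Fin r) k)) ^ p ^ e := by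
    rw [← hΨ, ← hΨ, ← hΨ, ← map_add]
    congr 1
    ring
  have e2 : coeff n ((b - (trunc' k n b : MvPowerSeries (Fin r) k)) ^ p ^ e) = 0 := by
    obtain ⟨q', hq'⟩ := Nat.exists_eq_succ_of_ne_zero hq.ne'
    rw [hq', pow_succ', coeff_mul]
    refine Finset.sum_eq_zero fun pq hpq => ?_
    rw [Finset.HasAntidiagonal.mem_antidiagonal] at hpq
    have hle : pq.1 ≤ n := by
      rw [← hpq]
      exact le_self_add
    rw [hδ _ hle, zero_mul]
  rw [e1, map_add, e2, add_zero]
  exact hpoly (trunc' k n b) n

end Aux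

/-- Let k be a field, (k_α) a decreasing filtered family of subfields of k with intersection k₀, and
suppose there is a power q of the characteristic exponent of k with k^q ⊆ k₀. Then, inside k((T_1,
…, T_r)), one has ⋂_α k_α((T_1, …, T_r)) = k₀((T_1, …, T_r)); here F((T)) is the subfield of the
fraction field of k[[T]] generated by the power series with all coefficients in F. -/
theorem result {k : Type u} [Field k] {ι : Type u} [Nonempty ι] (F : ι → Subfield k)
    (hdir : ∀ a b : ι, ∃ c, F c ≤ F a ⊓ F b) (e : ℕ) (hq : ∀ x : k, x ^ ringExpChar k ^ e ∈ ⨅ i, F i) (r : ℕ) :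
    (⨅ i, Subfield.closure (algebraMap (MvPowerSeries (Fin r) k) (FractionRing (MvPowerSeries (Fin r) k)) ''
        {f | ∀ n, MvPowerSeries.coeff n f ∈ F i})) =
      Subfield.closure (algebraMap (MvPowerSeries (Fin r) k) (FractionRing (MvPowerSeries (Fin r) k)) ''
        {f | ∀ n, MvPowerSeries.coeff n f ∈ ⨅ i, F i}) := by
  classical
  have hpow : ∀ b : MvPowerSeries (Fin r) k,
      b ^ ringExpChar k ^ e ∈ coeffSubring (r := r) (⨅ i, F i) :=
    fun b => pow_mem_coeffSubring _ (ringExpChar k) e hq b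
  have hinj : Function.Injective (algebraMap (MvPowerSeries (Fin r) k)
      (FractionRing (MvPowerSeries (Fin r) k))) := IsFractionRing.injective _ _
  apply le_antisymm
  · intro x hx
    rw [Subfield.mem_iInf] at hx
    by_cases hx0 : x = 0
    · rw [hx0]
      exact zero_mem _
    obtain ⟨i₀⟩ := ‹Nonempty ι›
    obtain ⟨a₀, ha₀, b₀, hb₀, hab⟩ := (mem_closure_image_iff (F i₀) x).mp (hx i₀)
    have hb₀0 : b₀ ≠ 0 := by
      rintro rfl
      rw [map_zero, div_zero] at hab
      exact hx0 hab.symm
    have hqpos : 0 < ringExpChar k ^ e :=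
      pow_pos (Nat.pos_of_ne_zero (expChar_ne_zero k (ringExpChar k))) e
    obtain ⟨q', hq'⟩ := Nat.exists_eq_succ_of_ne_zero hqpos.ne'
    have hg' : b₀ ^ ringExpChar k ^ e ∈ coeffSubring (r := r) (⨅ i, F i) := hpow b₀
    have hg'0 : b₀ ^ ringExpChar k ^ e ≠ 0 := pow_ne_zero _ hb₀0
    have hψb : algebraMap (MvPowerSeries (Fin r) k)
        (FractionRing (MvPowerSeries (Fin r) k)) b₀ ≠ 0 := (map_ne_zero_iff _ hinj).mpr hb₀0
    have hψg : algebraMap (MvPowerSeries (Fin r) k)
        (FractionRing (MvPowerSeries (Fin r) k)) (b₀ ^ ringExpChar k ^ e) ≠ 0 :=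
      (map_ne_zero_iff _ hinj).mpr hg'0
    have hx' : algebraMap (MvPowerSeries (Fin r) k) (FractionRing (MvPowerSeries (Fin r) k))
        (a₀ * b₀ ^ q') / algebraMap (MvPowerSeries (Fin r) k)
        (FractionRing (MvPowerSeries (Fin r) k)) (b₀ ^ ringExpChar k ^ e) = x := by
      rw [← hab, div_eq_div_iff hψg hψb, ← map_mul, ← map_mul]
      congr 1
      rw [hq', Nat.succ_eq_add_one]
      ring
    have hf' : a₀ * b₀ ^ q' ∈ coeffSubring (r := r) (⨅ i, F i) := by
      rw [mem_coeffSubring_iff]
      intro n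
      rw [Subfield.mem_iInf]
      intro i
      obtain ⟨a, ha, b, hb, habi⟩ := (mem_closure_image_iff (F i) x).mp (hx i)
      have hb0 : b ≠ 0 := by
        rintro rfl
        rw [map_zero, div_zero] at habi
        exact hx0 habi.symm
      have hψbi : algebraMap (MvPowerSeries (Fin r) k)
          (FractionRing (MvPowerSeries (Fin r) k)) b ≠ 0 := (map_ne_zero_iff _ hinj).mpr hb0
      have h1 := hx'.trans habi.symm
      rw [div_eq_div_iff hψg hψbi, ← map_mul, ← map_mul] at h1
      have h2 : a₀ * b₀ ^ q' * b = a * b₀ ^ ringExpChar k ^ e := hinj h1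
      have h3 : a₀ * b₀ ^ q' * b ∈ coeffSubring (r := r) (F i) := by
        rw [h2]
        refine mul_mem ha ?_
        rw [mem_coeffSubring_iff]
        intro m
        exact (Subfield.mem_iInf.mp (hg' m)) i
      exact mem_of_mul_mem (F i) _ b hb hb0 h3 n
    exact (mem_closure_image_iff _ x).mpr ⟨_, hf', _, hg', hx'⟩
  · refine le_iInf fun i => Subfield.closure_mono (Set.image_mono fun f hf n => ?_)
    exact (Subfield.mem_iInf.mp (hf n)) i

end Groth.Agent.S4550
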