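import Groth.Statements.S4551
import Mathlib

set_option linter.style.haveILetI false

set_option autoImplicit false
universe u
open EGA41

namespace Groth.Agent.S4551

section Aux
open TensorProduct

theorem reduced_tensor_of_finite (k : Type u) [Field k] (r : ℕ) (B : Type u) [CommRing B]
    [IsDomain B] [Algebra k B] [Module.Finite k B] :
    IsReduced (FractionRing (MvPowerSeries (Fin r) k) ⊗[k] B) := by
  classical
  let φ : MvPowerSeries (Fin r) k →ₐ[k] MvPowerSeries (Fin r) B :=
    MvPowerSeries.mapAlgHom (Algebra.ofId k B)
  have hφ : Function.Injective φ := by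
    intro a b hab
    ext m
    have h1 := congrArg (MvPowerSeries.coeff m) hab
    simp only [φ, MvPowerSeries.mapAlgHom_apply, MvPowerSeries.coeff_map] at h1
    exact (algebraMap k B).injective h1
  let ψ : MvPowerSeries (Fin r) k →ₐ[k] FractionRing (MvPowerSeries (Fin r) B) :=
    (IsScalarTower.toAlgHom k (MvPowerSeries (Fin r) B)
      (FractionRing (MvPowerSeries (Fin r) B))).comp φ
  have hψ : Function.Injective ψ :=
    (IsFractionRing.injective (MvPowerSeries (Fin r) B)
      (FractionRing (MvPowerSeries (Fin r) B))).comp hφ
  let f : FractionRing (MvPowerSeries (Fin r) k) →ₐ[k] FractionRing (MvPowerSeries (Fin r) B) :=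
    IsFractionRing.liftAlgHom hψ
  let g : B →ₐ[k] FractionRing (MvPowerSeries (Fin r) B) :=
    { toRingHom := (algebraMap (MvPowerSeries (Fin r) B)
        (FractionRing (MvPowerSeries (Fin r) B))).comp MvPowerSeries.C
      commutes' := fun c => by
        show algebraMap (MvPowerSeries (Fin r) B) (FractionRing (MvPowerSeries (Fin r) B))
          (MvPowerSeries.C (algebraMap k B c)) = algebraMap k _ c
        rw [← MvPowerSeries.algebraMap_apply, ← IsScalarTower.algebraMap_apply] }
  refine isReduced_of_injective (Algebra.TensorProduct.productMap f g) ?_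
  rw [injective_iff_map_eq_zero]
  intro z hz
  let e := Module.finBasis k B
  let bK := Algebra.TensorProduct.basis (FractionRing (MvPowerSeries (Fin r) k)) e
  let x := fun i => bK.repr z i
  have hzsum : z = ∑ i, x i ⊗ₜ[k] e i := by
    conv_lhs => rw [← bK.sum_repr z]
    refine Finset.sum_congr rfl fun i _ => ?_
    exact Algebra.TensorProduct.basis_repr_symm_apply' _ _ _
  have hΦ : ∑ i, f (x i) * g (e i) = 0 := by
    rw [← hz, hzsum, map_sum]
    refine Finset.sum_congr rfl fun i _ => ?_
    rw [Algebra.TensorProduct.productMap_apply_tmul]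
  obtain ⟨d, hd⟩ := IsLocalization.exist_integer_multiples_of_finite
    (nonZeroDivisors (MvPowerSeries (Fin r) k)) x
  choose F hF using hd
  have hd0 : (d : MvPowerSeries (Fin r) k) ≠ 0 := nonZeroDivisors.ne_zero d.2
  have hF' : ∀ i, algebraMap (MvPowerSeries (Fin r) k) (FractionRing (MvPowerSeries (Fin r) k))
      (F i) = algebraMap (MvPowerSeries (Fin r) k) (FractionRing (MvPowerSeries (Fin r) k)) d *
        x i := fun i => by rw [hF i, Algebra.smul_def]
  have hsumQ : ∑ i, φ (F i) * MvPowerSeries.C (e i) = 0 := by
    apply IsFractionRing.injective (MvPowerSeries (Fin r) B)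
      (FractionRing (MvPowerSeries (Fin r) B))
    rw [map_zero, map_sum]
    have h2 : ∑ i, algebraMap (MvPowerSeries (Fin r) B) (FractionRing (MvPowerSeries (Fin r) B))
        (φ (F i) * MvPowerSeries.C (e i)) =
        f (algebraMap (MvPowerSeries (Fin r) k) (FractionRing (MvPowerSeries (Fin r) k)) d) *
          ∑ i, f (x i) * g (e i) := by
      rw [Finset.mul_sum]
      refine Finset.sum_congr rfl fun i _ => ?_
      have h1 : f (algebraMap (MvPowerSeries (Fin r) k)
          (FractionRing (MvPowerSeries (Fin r) k)) (F i)) =
          algebraMap (MvPowerSeries (Fin r) B) (FractionRing (MvPowerSeries (Fin r) B))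
            (φ (F i)) := by
        show IsFractionRing.lift hψ _ = _
        rw [IsFractionRing.lift_algebraMap]
        rfl
      have h3 : g (e i) = algebraMap (MvPowerSeries (Fin r) B)
          (FractionRing (MvPowerSeries (Fin r) B)) (MvPowerSeries.C (e i)) := rfl
      rw [map_mul (algebraMap (MvPowerSeries (Fin r) B) (FractionRing (MvPowerSeries (Fin r) B))),
        ← h1, hF' i, map_mul f, h3, mul_assoc]
    rw [h2, hΦ, mul_zero]
  have hFz : ∀ i, F i = 0 := by
    intro i
    ext m
    have hm := congrArg (MvPowerSeries.coeff m) hsumQ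
    rw [map_sum, map_zero] at hm
    have hm' : ∑ j, (MvPowerSeries.coeff m (F j)) • e j = 0 := by
      rw [← hm]
      refine Finset.sum_congr rfl fun j _ => ?_
      rw [MvPowerSeries.coeff_mul_C, Algebra.smul_def]
      rfl
    have h3 := Fintype.linearIndependent_iff.mp e.linearIndependent _ hm' i
    rw [h3, map_zero]
  have hxz : ∀ i, x i = 0 := by
    intro i
    have h1 := hF' i
    rw [hFz i, map_zero] at h1
    rcases mul_eq_zero.mp h1.symm with h | h
    · exact absurd ((map_eq_zero_iff _ (IsFractionRing.injective (MvPowerSeries (Fin r) k)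
        (FractionRing (MvPowerSeries (Fin r) k)))).mp h) hd0
    · exact h
  rw [hzsum]
  exact Finset.sum_eq_zero fun i _ => by rw [hxz i, TensorProduct.zero_tmul]

end Aux

/-- For every field k (any characteristic) the field of fractions k((T_1, …, T_r)) of the power series
ring k[[T_1, …, T_r]] is a separable extension of k, i.e. it is geometrically reduced over k. -/
theorem result (k : Type u) [Field k] (r : ℕ) :
    Algebra.IsGeometricallyReduced k (FractionRing (MvPowerSeries (Fin r) k)) := by
  rw [Algebra.isGeometricallyReduced_field_iff]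
  have h1 : IsReduced (TensorProduct k (FractionRing (MvPowerSeries (Fin r) k))
      (AlgebraicClosure k)) := by
    apply IsReduced.tensorProduct_of_flat_of_forall_fg
    intro B hB
    haveI : Algebra.FiniteType k B := B.fg_iff_finiteType.mp hB
    haveI : Algebra.IsIntegral k B :=
      ⟨fun x => (isIntegral_algHom_iff B.val Subtype.val_injective).mp
        (Algebra.IsIntegral.isIntegral (x : AlgebraicClosure k))⟩
    haveI : Module.Finite k B := Algebra.IsIntegral.finite
    exact reduced_tensor_of_finite k r B
  exact isReduced_of_injective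
    (Algebra.TensorProduct.comm k (AlgebraicClosure k) (FractionRing (MvPowerSeries (Fin r) k)))
    (AlgEquiv.injective _)

end Groth.Agent.S4551
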