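import Groth.Statements.S4552
import Mathlib

set_option autoImplicit false
universe u
open EGA41

namespace Groth.Agent.S4552

/-- For the 𝔞-adic topology on A and the deduced topology on M: the topological A-module M is formally
projective (for every open ideal 𝔞ⁿ, every pair of (A/𝔞ⁿ)-modules P, Q, every surjection P → Q and
every continuous A-linear map M → Q — here automatically continuous — there is a continuous A-linear
lift M → P) if and only if it is strictly formally projective, i.e. M/𝔞ⁿM is a projective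
(A/𝔞ⁿ)-module for every n. -/
theorem result {A : Type u} [CommRing A] (𝔞 : Ideal A) (M : Type u)
    [AddCommGroup M] [Module A M] :
    (∀ (n : ℕ) (P Q : Type u) [AddCommGroup P] [Module A P] [AddCommGroup Q] [Module A Q],
      (∀ a ∈ 𝔞 ^ n, ∀ y : P, a • y = 0) → (∀ a ∈ 𝔞 ^ n, ∀ y : Q, a • y = 0) →
      ∀ f : P →ₗ[A] Q, Function.Surjective f → ∀ v : M →ₗ[A] Q, ∃ w : M →ₗ[A] P, f ∘ₗ w = v) ↔
    ∀ n : ℕ, Module.Projective (A ⧸ 𝔞 ^ n) (M ⧸ (𝔞 ^ n • ⊤ : Submodule A M)) := by
  classical
  constructor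
  · intro h n
    refine Module.Projective.of_lifting_property'' fun f hf => ?_
    -- `f` as an `A`-linear map
    have hsm : ∀ (a : A) (y : (M ⧸ (𝔞 ^ n • ⊤ : Submodule A M)) →₀ A ⧸ 𝔞 ^ n),
        a • y = Ideal.Quotient.mk (𝔞 ^ n) a • y := by
      intro a y
      rw [← Ideal.Quotient.algebraMap_eq, algebraMap_smul]
    have hsm' : ∀ (a : A) (y : M ⧸ (𝔞 ^ n • ⊤ : Submodule A M)),
        a • y = Ideal.Quotient.mk (𝔞 ^ n) a • y := by
      intro a y
      obtain ⟨m, rfl⟩ := Submodule.Quotient.mk_surjective _ y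
      rfl
    let fA : ((M ⧸ (𝔞 ^ n • ⊤ : Submodule A M)) →₀ A ⧸ 𝔞 ^ n) →ₗ[A]
        (M ⧸ (𝔞 ^ n • ⊤ : Submodule A M)) :=
      { toFun := fun y => f y
        map_add' := fun y y' => map_add f y y'
        map_smul' := fun a y => by
          rw [RingHom.id_apply, hsm, map_smul, ← hsm'] }
    obtain ⟨w, hw⟩ := h n ((M ⧸ (𝔞 ^ n • ⊤ : Submodule A M)) →₀ A ⧸ 𝔞 ^ n)
      (M ⧸ (𝔞 ^ n • ⊤ : Submodule A M))
      (fun a ha y => by
        rw [hsm, Ideal.Quotient.eq_zero_iff_mem.mpr ha, zero_smul])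
      (fun a ha y => by
        rw [hsm', Ideal.Quotient.eq_zero_iff_mem.mpr ha, zero_smul])
      fA hf (Submodule.mkQ _)
    have hwker : (𝔞 ^ n • ⊤ : Submodule A M) ≤ LinearMap.ker w := by
      rw [Submodule.smul_le]
      intro a ha m _
      rw [LinearMap.mem_ker, map_smul, hsm, Ideal.Quotient.eq_zero_iff_mem.mpr ha, zero_smul]
    let wbar : (M ⧸ (𝔞 ^ n • ⊤ : Submodule A M)) →ₗ[A ⧸ 𝔞 ^ n]
        ((M ⧸ (𝔞 ^ n • ⊤ : Submodule A M)) →₀ A ⧸ 𝔞 ^ n) :=
      { toFun := fun y => Submodule.liftQ _ w hwker y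
        map_add' := fun y y' => map_add _ y y'
        map_smul' := fun r y => by
          obtain ⟨a, rfl⟩ := Ideal.Quotient.mk_surjective r
          rw [RingHom.id_apply, ← hsm', map_smul, hsm] }
    refine ⟨wbar, ?_⟩
    apply LinearMap.ext
    intro y
    obtain ⟨m, rfl⟩ := Submodule.Quotient.mk_surjective _ y
    change f (Submodule.liftQ _ w hwker (Submodule.Quotient.mk m)) = Submodule.Quotient.mk m
    rw [Submodule.liftQ_apply]
    exact LinearMap.congr_fun hw m
  · intro h n P Q _ _ _ _ hP hQ f hf v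
    have hPt : Module.IsTorsionBySet A P (𝔞 ^ n : Ideal A) := fun x a => hP a.1 a.2 x
    have hQt : Module.IsTorsionBySet A Q (𝔞 ^ n : Ideal A) := fun x a => hQ a.1 a.2 x
    letI : Module (A ⧸ 𝔞 ^ n) P := hPt.module
    letI : Module (A ⧸ 𝔞 ^ n) Q := hQt.module
    have hsmP : ∀ (a : A) (y : P), Ideal.Quotient.mk (𝔞 ^ n) a • y = a • y := fun a y => rfl
    have hsmQ : ∀ (a : A) (y : Q), Ideal.Quotient.mk (𝔞 ^ n) a • y = a • y := fun a y => rfl
    have hsm' : ∀ (a : A) (y : M ⧸ (𝔞 ^ n • ⊤ : Submodule A M)),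
        a • y = Ideal.Quotient.mk (𝔞 ^ n) a • y := by
      intro a y
      obtain ⟨m, rfl⟩ := Submodule.Quotient.mk_surjective _ y
      rfl
    let fR : P →ₗ[A ⧸ 𝔞 ^ n] Q :=
      { toFun := fun y => f y
        map_add' := fun y y' => map_add f y y'
        map_smul' := fun r y => by
          obtain ⟨a, rfl⟩ := Ideal.Quotient.mk_surjective r
          rw [RingHom.id_apply, hsmP, hsmQ, map_smul] }
    have hvker : (𝔞 ^ n • ⊤ : Submodule A M) ≤ LinearMap.ker v := by
      rw [Submodule.smul_le]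
      intro a ha m _
      rw [LinearMap.mem_ker, map_smul, hQ a ha]
    let vR : (M ⧸ (𝔞 ^ n • ⊤ : Submodule A M)) →ₗ[A ⧸ 𝔞 ^ n] Q :=
      { toFun := fun y => Submodule.liftQ _ v hvker y
        map_add' := fun y y' => map_add _ y y'
        map_smul' := fun r y => by
          obtain ⟨a, rfl⟩ := Ideal.Quotient.mk_surjective r
          rw [RingHom.id_apply, ← hsm', map_smul, hsmQ] }
    haveI := h n
    obtain ⟨g, hg⟩ := Module.projective_lifting_property fR vR hf
    refine ⟨{ toFun := fun m => g (Submodule.Quotient.mk m)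
              map_add' := fun m m' => by rw [Submodule.Quotient.mk_add, map_add]
              map_smul' := fun a m => by
                rw [RingHom.id_apply, Submodule.Quotient.mk_smul, hsm', map_smul, hsmP] }, ?_⟩
    apply LinearMap.ext
    intro m
    have h1 := LinearMap.congr_fun hg (Submodule.Quotient.mk m)
    change f (g (Submodule.Quotient.mk m)) = v m
    have h2 : f (g (Submodule.Quotient.mk m)) = vR (Submodule.Quotient.mk m) := h1
    rw [h2]
    change Submodule.liftQ _ v hvker (Submodule.Quotient.mk m) = v m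
    rw [Submodule.liftQ_apply]

end Groth.Agent.S4552
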