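import Groth.Statements.S5080
import Mathlib
import Groth.Agent.S4528

set_option linter.style.haveILetI false

set_option autoImplicit false
universe u
open EGA418

namespace Groth.Agent.S5080

section Aux

open IsLocalRing TensorProduct

/-- Choosing vectors from sets that escape every proper subspace gives a spanning family. -/
theorem exists_choice_span_top {κ V : Type u} [Field κ] [AddCommGroup V] [Module κ V]
    [FiniteDimensional κ V] (M : ℕ) (hM : Module.finrank κ V = M) (S : Fin M → Set V)
    (hS : ∀ i, ∀ W : Submodule κ V, W ≠ ⊤ → ∃ w ∈ S i, w ∉ W) :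
    ∃ v : Fin M → V, (∀ i, v i ∈ S i) ∧ Submodule.span κ (Set.range v) = ⊤ := by
  classical
  have hne : ∀ i, ∃ w, w ∈ S i := by
    intro i
    have hpos : 0 < Module.finrank κ V := by rw [hM]; exact Fin.pos i
    haveI : Nontrivial V := Module.finrank_pos_iff.mp hpos
    obtain ⟨w, hw, -⟩ := hS i ⊥ bot_ne_top
    exact ⟨w, hw⟩
  choose v₀ hv₀ using hne
  have key : ∀ s : Finset (Fin M), ∃ v : Fin M → V, (∀ i, v i ∈ S i) ∧
      LinearIndepOn κ v (s : Set (Fin M)) := by
    intro s
    induction s using Finset.induction_on with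
    | empty => exact ⟨v₀, hv₀, by simp⟩
    | insert a s has ih =>
      obtain ⟨v, hv, hli⟩ := ih
      have hW : Submodule.span κ (v '' (s : Set (Fin M))) ≠ ⊤ := by
        intro htop
        have h1 : Module.finrank κ V ≤ s.card := by
          rw [← finrank_top κ V, ← htop, ← Finset.coe_image]
          exact (finrank_span_finset_le_card _).trans Finset.card_image_le
        have h2 : s.card < M := by
          have := Finset.card_lt_univ_of_notMem has
          simpa using this
        omega
      obtain ⟨w, hw, hwW⟩ := hS a _ hW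
      refine ⟨Function.update v a w, ?_, ?_⟩
      · intro i
        by_cases hi : i = a
        · subst hi; rw [Function.update_self]; exact hw
        · rw [Function.update_of_ne hi]; exact hv i
      · have heq : Set.EqOn v (Function.update v a w) (s : Set (Fin M)) := by
          intro i hi
          have hia : i ≠ a := fun h => has (h ▸ Finset.mem_coe.mp hi)
          rw [Function.update_of_ne hia]
        rw [Finset.coe_insert]
        refine (hli.congr heq).insert ?_
        rw [Function.update_self, ← heq.image_eq]
        exact hwW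
  obtain ⟨v, hv, hli⟩ := key Finset.univ
  refine ⟨v, hv, ?_⟩
  rw [Finset.coe_univ, linearIndepOn_univ_iff] at hli
  exact hli.span_eq_top_of_card_eq_finrank' (by rw [Fintype.card_fin, hM])

/-- Nakayama: a family spans a finite module over a local ring iff it spans the fibre. -/
theorem span_tmul_eq_top_iff {B N : Type u} [CommRing B] [IsLocalRing B] [AddCommGroup N]
    [Module B N] [Module.Finite B N] {ι : Type*} (f : ι → N) :
    Submodule.span (ResidueField B) (Set.range (fun i => (1 : ResidueField B) ⊗ₜ[B] f i)) = ⊤ ↔
      Submodule.span B (Set.range f) = ⊤ := by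
  rw [← IsLocalRing.map_tensorProduct_mk_eq_top (N := Submodule.span B (Set.range f)),
    Submodule.map_span, ← Submodule.restrictScalars_span B (ResidueField B)
      Ideal.Quotient.mk_surjective, Submodule.restrictScalars_eq_top_iff, ← Set.range_comp]
  exact Iff.rfl

/-- The differentials `d a` generate the completed module of differentials. -/
theorem span_of_D_eq_top {k A : Type u} [Field k] [CommRing A] [IsLocalRing A]
    [IsNoetherianRing A] [Algebra k A]
    [Module.Finite A (AdicCompletion (maximalIdeal A) (Ω[A⁄k]))] :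
    Submodule.span A (Set.range (fun a : A => AdicCompletion.of (maximalIdeal A) (Ω[A⁄k])
      (KaehlerDifferential.D k A a))) = ⊤ := by
  have hof : ∀ ω : Ω[A⁄k], AdicCompletion.of (maximalIdeal A) (Ω[A⁄k]) ω ∈
      Submodule.span A (Set.range (fun a : A => AdicCompletion.of (maximalIdeal A) (Ω[A⁄k])
        (KaehlerDifferential.D k A a))) := by
    intro ω
    have h1 : ω ∈ Submodule.span A (Set.range (KaehlerDifferential.D k A)) := by
      rw [KaehlerDifferential.span_range_derivation]; trivial
    have h2 : Submodule.map (AdicCompletion.of (maximalIdeal A) (Ω[A⁄k]))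
        (Submodule.span A (Set.range (KaehlerDifferential.D k A))) =
        Submodule.span A (Set.range (fun a : A => AdicCompletion.of (maximalIdeal A) (Ω[A⁄k])
          (KaehlerDifferential.D k A a))) := by
      rw [Submodule.map_span, ← Set.range_comp]; rfl
    rw [← h2]; exact Submodule.mem_map_of_mem h1
  rw [← IsLocalRing.map_mkQ_eq_top, eq_top_iff]
  rintro y -
  obtain ⟨x, rfl⟩ := Submodule.mkQ_surjective _ y
  obtain ⟨ω, hω⟩ := Submodule.Quotient.mk_surjective _ (x.val 1)
  refine ⟨AdicCompletion.of _ _ ω, hof ω, ?_⟩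
  rw [Submodule.mkQ_apply, Submodule.mkQ_apply, Submodule.Quotient.eq]
  have hker := AdicCompletion.pow_smul_top_eq_ker_eval (I := maximalIdeal A) (M := Ω[A⁄k]) (n := 1)
    (IsNoetherian.noetherian _)
  have hker' : (maximalIdeal A • ⊤ : Submodule A (AdicCompletion (maximalIdeal A) (Ω[A⁄k]))) =
      LinearMap.ker (AdicCompletion.eval (maximalIdeal A) (Ω[A⁄k]) 1) :=
    (by rw [pow_one] : (maximalIdeal A • ⊤ : Submodule A (AdicCompletion (maximalIdeal A) (Ω[A⁄k])))
      = maximalIdeal A ^ 1 • ⊤).trans hker
  rw [hker', LinearMap.mem_ker, map_sub, AdicCompletion.eval_of, sub_eq_zero]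
  exact hω

variable {A : Type u} [CommRing A] [IsLocalRing A] (p : Ideal A) [p.IsPrime]
  (Ωh : Type u) [AddCommGroup Ωh] [Module A Ωh]

local notation "BB" => Localization.AtPrime p
local notation "NN" => LocalizedModule p.primeCompl Ωh
local notation "κκ" => ResidueField (Localization.AtPrime p)
local notation "VV" => ResidueField (Localization.AtPrime p) ⊗[Localization.AtPrime p]
  LocalizedModule p.primeCompl Ωh

theorem main [Module.Finite A Ωh]
    (d : A → Ωh) (d_add : ∀ a b, d (a + b) = d a + d b)
    (d_mul : ∀ a b, d (a * b) = a • d b + b • d a)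
    (hd : Submodule.span A (Set.range d) = ⊤) (M : ℕ)
    (hgen : ∃ s : Fin M → NN, Submodule.span BB (Set.range s) = ⊤)
    (hmin : ∀ s : Finset NN, Submodule.span BB (↑s : Set NN) = ⊤ → M ≤ s.card)
    (x : Fin M → A) (hx : ∀ i, x i ∉ p) :
    ∃ u : Fin M → Aˣ, Submodule.span BB
      (Set.range (fun i => LocalizedModule.mkLinearMap p.primeCompl Ωh
        (d ((u i : A) * x i)))) = ⊤ := by
  classical
  let ι : Ωh →ₗ[A] NN := LocalizedModule.mkLinearMap p.primeCompl Ωh
  let ρ : A →+* κκ := (residue BB).comp (algebraMap A BB)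
  let δ : A → VV := fun a => (1 : κκ) ⊗ₜ[BB] ι (d a)
  have d_one : d 1 = 0 := by
    have h := d_mul 1 1
    rw [mul_one, one_smul] at h
    exact left_eq_add.mp h
  have δ_add : ∀ a b, δ (a + b) = δ a + δ b := by
    intro a b
    simp only [δ, d_add, map_add, TensorProduct.tmul_add]
  have δ_one : δ 1 = 0 := by simp only [δ, d_one, map_zero, TensorProduct.tmul_zero]
  have h1 : ∀ (c : A) (n : NN), (1 : κκ) ⊗ₜ[BB] (c • n) = ρ c • ((1 : κκ) ⊗ₜ[BB] n) := by
    intro c n
    have e1 : (1 : κκ) ⊗ₜ[BB] (c • n) = (algebraMap A BB c • (1 : κκ)) ⊗ₜ[BB] n := by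
      rw [← algebraMap_smul BB c n, TensorProduct.smul_tmul]
    have e2 : ρ c • ((1 : κκ) ⊗ₜ[BB] n) = (ρ c • (1 : κκ)) ⊗ₜ[BB] n :=
      TensorProduct.smul_tmul' _ _ _
    have e3 : algebraMap A BB c • (1 : κκ) = ρ c • (1 : κκ) := by
      rw [Algebra.smul_def, smul_eq_mul]; rfl
    rw [e1, e2, e3]
  have δ_mul : ∀ a b, δ (a * b) = ρ a • δ b + ρ b • δ a := by
    intro a b
    simp only [δ, d_mul, map_add, map_smul, TensorProduct.tmul_add, h1]
  haveI : Module.Finite BB NN := inferInstance
  haveI : Module.Finite κκ VV := inferInstance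
  have hspanN : Submodule.span BB (Set.range (fun a => ι (d a))) = ⊤ := by
    have := span_eq_top_of_isLocalizedModule BB p.primeCompl ι hd
    rw [← Set.range_comp] at this
    exact this
  have hspanV : Submodule.span κκ (Set.range δ) = ⊤ :=
    (span_tmul_eq_top_iff (fun a => ι (d a))).mpr hspanN
  have hle : Module.finrank κκ VV ≤ M := by
    obtain ⟨s, hs⟩ := hgen
    have h := (span_tmul_eq_top_iff s).mpr hs
    have h2 := finrank_range_le_card (R := κκ) (fun i => (1 : κκ) ⊗ₜ[BB] s i)
    rw [Set.finrank, h, finrank_top, Fintype.card_fin] at h2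
    exact h2
  have hge : M ≤ Module.finrank κκ VV := by
    let b := Module.finBasis κκ VV
    have hsurj : Function.Surjective (TensorProduct.mk BB κκ NN 1) :=
      TensorProduct.mk_surjective BB NN κκ Ideal.Quotient.mk_surjective
    choose n hn using fun i => hsurj (b i)
    have h : Submodule.span κκ (Set.range (fun i => (1 : κκ) ⊗ₜ[BB] n i)) = ⊤ := by
      have hb : (fun i => (1 : κκ) ⊗ₜ[BB] n i) = b := funext hn
      rw [hb, b.span_eq]
    have h2 := (span_tmul_eq_top_iff n).mp h
    have h3 := hmin (Finset.univ.image n)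
      (by rw [Finset.coe_image, Finset.coe_univ, Set.image_univ]; exact h2)
    calc M ≤ (Finset.univ.image n).card := h3
      _ ≤ (Finset.univ : Finset (Fin (Module.finrank κκ VV))).card := Finset.card_image_le
      _ = Module.finrank κκ VV := by rw [Finset.card_univ, Fintype.card_fin]
  have hM : Module.finrank κκ VV = M := le_antisymm hle hge
  have hS : ∀ i, ∀ W : Submodule κκ VV, W ≠ ⊤ →
      ∃ w ∈ (Set.range fun u : Aˣ => δ ((u : A) * x i)), w ∉ W := by
    intro i W hW
    by_contra hcon
    push_neg at hcon
    have hall : ∀ u : Aˣ, δ ((u : A) * x i) ∈ W := fun u => hcon _ ⟨u, rfl⟩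
    have hx1 : δ (x i) ∈ W := by simpa using hall 1
    have hρ : ρ (x i) ≠ 0 := by
      have hu : IsUnit (algebraMap A BB (x i)) :=
        IsLocalization.map_units BB (⟨x i, hx i⟩ : p.primeCompl)
      exact (hu.map (residue BB)).ne_zero
    have hunit : ∀ u : Aˣ, δ (u : A) ∈ W := by
      intro u
      have h1 := hall u
      rw [δ_mul] at h1
      have h2 : ρ (u : A) • δ (x i) ∈ W := W.smul_mem _ hx1
      have h3 := (Submodule.add_mem_iff_right W h2).mp h1
      exact (Submodule.smul_mem_iff W hρ).mp h3
    have hrange : ∀ a : A, δ a ∈ W := by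
      intro a
      rcases IsLocalRing.isUnit_or_isUnit_one_sub_self a with h | h
      · have := hunit h.unit
        rwa [IsUnit.unit_spec] at this
      · have h1 : δ (1 - a) ∈ W := by
          have := hunit h.unit
          rwa [IsUnit.unit_spec] at this
        have h2 : δ a + δ (1 - a) = 0 := by rw [← δ_add, add_sub_cancel, δ_one]
        rw [eq_neg_of_add_eq_zero_left h2]
        exact W.neg_mem h1
    apply hW
    rw [eq_top_iff, ← hspanV, Submodule.span_le]
    rintro _ ⟨a, rfl⟩
    exact hrange a
  obtain ⟨v, hv, hvspan⟩ := exists_choice_span_top M hM _ hS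
  choose u hu using hv
  refine ⟨u, ?_⟩
  rw [← span_tmul_eq_top_iff]
  have hfun : (fun i => (1 : κκ) ⊗ₜ[BB] (LocalizedModule.mkLinearMap p.primeCompl Ωh
      (d ((u i : A) * x i)))) = v := funext hu
  rw [hfun]
  exact hvspan

end Aux

/-- Let k be a field, A a complete Noetherian local k-algebra with maximal ideal m whose residue field
is a finite extension of k, p a prime ideal distinct from m, Ω̂ the completion of the module of
differentials of A over k, and M the least number of generators of the A_p-module Ω̂_p. Then for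
every family x_1, …, x_M of elements of m not in p there are units u_1, …, u_M of A such that the
images in Ω̂_p of the differentials d(u_i x_i) generate Ω̂_p. -/
theorem result (k A : Type u) [Field k] [CommRing A]
    [IsLocalRing A] [IsNoetherianRing A] [Algebra k A] [IsAdicComplete (IsLocalRing.maximalIdeal A) A]
    [Module.Finite k (IsLocalRing.ResidueField A)] (p : Ideal A) [p.IsPrime] (hp : p ≠ IsLocalRing.maximalIdeal A)
    (M : ℕ) (hgen : ∃ s : Fin M → (LocalizedModule p.primeCompl (AdicCompletion (IsLocalRing.maximalIdeal A) (KaehlerDifferential k A))), Submodule.span (Localization.AtPrime p) (Set.range s) = ⊤)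
    (hmin : ∀ (s : Finset (LocalizedModule p.primeCompl (AdicCompletion (IsLocalRing.maximalIdeal A) (KaehlerDifferential k A)))), Submodule.span (Localization.AtPrime p) (↑s : Set (LocalizedModule p.primeCompl (AdicCompletion (IsLocalRing.maximalIdeal A) (KaehlerDifferential k A)))) = ⊤ → M ≤ s.card)
    (x : Fin M → A) (hx : ∀ i, x i ∈ IsLocalRing.maximalIdeal A ∧ x i ∉ p) :
    ∃ u : Fin M → Aˣ, Submodule.span (Localization.AtPrime p)
      (Set.range (fun i => LocalizedModule.mkLinearMap p.primeCompl (AdicCompletion (IsLocalRing.maximalIdeal A) (KaehlerDifferential k A)) (AdicCompletion.of (IsLocalRing.maximalIdeal A) (KaehlerDifferential k A) (KaehlerDifferential.D k A ((u i : A) * x i))))) = ⊤ := by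
  haveI : Module.Finite A (AdicCompletion (IsLocalRing.maximalIdeal A) (Ω[A⁄k])) :=
    Groth.Agent.S4528.result
  refine main p (AdicCompletion (IsLocalRing.maximalIdeal A) (KaehlerDifferential k A))
    (fun a => AdicCompletion.of (IsLocalRing.maximalIdeal A) (KaehlerDifferential k A)
      (KaehlerDifferential.D k A a)) ?_ ?_ span_of_D_eq_top M hgen hmin x (fun i => (hx i).2)
  · intro a b
    rw [map_add, map_add]
  · intro a b
    rw [Derivation.leibniz, map_add, map_smul, map_smul]

end Groth.Agent.S5080
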