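import Groth.Statements.S5991
import Mathlib
import Groth.Agent.S4528

set_option linter.style.haveILetI false

set_option autoImplicit false
universe u
open scoped TensorProduct
open EGA418

namespace Groth.Agent.S5991

section Aux

open IsLocalRing TensorProduct

/-- A finite module over an `I`-adically complete ring is `I`-adically precomplete. -/
theorem isPrecomplete_of_finite {A : Type u} [CommRing A] (I : Ideal A) [IsAdicComplete I A]
    (M : Type u) [AddCommGroup M] [Module A M] [Module.Finite A M] : IsPrecomplete I M := by
  obtain ⟨n, f, hf⟩ := Module.Finite.exists_fin' A M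
  haveI : IsAdicComplete I (Fin n → A) := Groth.Agent.H15.AdicProj.isAdicComplete_pi I n
  rw [← AdicCompletion.of_surjective_iff]
  intro y
  obtain ⟨z, rfl⟩ := AdicCompletion.map_surjective I hf y
  obtain ⟨w, rfl⟩ := (AdicCompletion.of_surjective_iff (I := I) (M := Fin n → A)).mpr
    inferInstance z
  exact ⟨f w, (AdicCompletion.map_of I f w).symm⟩

/-- A finite module over a complete Noetherian local ring is complete. -/
theorem isAdicComplete_of_finite {A : Type u} [CommRing A] [IsNoetherianRing A] [IsLocalRing A]
    [IsAdicComplete (maximalIdeal A) A]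
    (M : Type u) [AddCommGroup M] [Module A M] [Module.Finite A M] :
    IsAdicComplete (maximalIdeal A) M :=
  { toIsHausdorff := inferInstance
    toIsPrecomplete := isPrecomplete_of_finite (maximalIdeal A) M }

/-- `Ω[A/k] / 𝔪 Ω[A/k]` is a finite module when `Ω[κ/k]` is finite. -/
theorem quot_finite {k A : Type u} [Field k] [CommRing A] [IsLocalRing A]
    [IsNoetherianRing A] [Algebra k A] [Module.Finite (ResidueField A) (Ω[ResidueField A⁄k])] :
    Module.Finite A ((Ω[A⁄k]) ⧸ (maximalIdeal A • ⊤ : Submodule A (Ω[A⁄k]))) := by
  have hsurjK : Function.Surjective (algebraMap A (ResidueField A)) := residue_surjective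
  have hex := KaehlerDifferential.exact_kerCotangentToTensor_mapBaseChange k A (ResidueField A)
    hsurjK
  let φ : ResidueField A ⊗[A] Ω[A⁄k] →ₗ[A] Ω[ResidueField A⁄k] :=
    (KaehlerDifferential.mapBaseChange k A (ResidueField A)).restrictScalars A
  have hφsurj : Function.Surjective φ :=
    KaehlerDifferential.mapBaseChange_surjective k A (ResidueField A) hsurjK
  haveI : Module.Finite A (ResidueField A) :=
    Module.Finite.of_surjective (Algebra.linearMap A (ResidueField A)) hsurjK
  haveI : Module.Finite A (Ω[ResidueField A⁄k]) := Module.Finite.trans (ResidueField A) _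
  have hkerφ : LinearMap.ker φ =
      LinearMap.range (KaehlerDifferential.kerCotangentToTensor k A (ResidueField A)) :=
    (LinearMap.exact_iff (f := KaehlerDifferential.kerCotangentToTensor k A (ResidueField A))
      (g := φ)).mp hex
  haveI : Module.Finite A (RingHom.ker (algebraMap A (ResidueField A))).Cotangent :=
    Module.Finite.of_surjective _ (Ideal.toCotangent_surjective _)
  haveI : Module.Finite A (LinearMap.ker φ) := by
    rw [hkerφ]
    exact Module.Finite.range _
  haveI : Module.Finite A ((ResidueField A ⊗[A] Ω[A⁄k]) ⧸ LinearMap.ker φ) :=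
    Module.Finite.equiv (φ.quotKerEquivOfSurjective hφsurj).symm
  have hfin : Module.Finite A (ResidueField A ⊗[A] Ω[A⁄k]) :=
    Module.Finite.of_submodule_quotient (LinearMap.ker φ)
  haveI hfin' : Module.Finite A ((A ⧸ maximalIdeal A) ⊗[A] Ω[A⁄k]) := hfin
  exact Module.Finite.equiv (TensorProduct.quotTensorEquivQuotSMul (Ω[A⁄k]) (maximalIdeal A))

/-- Completion preserves exactness of `M' → M → M'' → 0` when the completion of `M` is a finite
module over a Noetherian ring and `I` is contained in the Jacobson radical. -/
theorem range_map_eq_ker {A : Type u} [CommRing A] [IsNoetherianRing A] (I : Ideal A)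
    (hI : I ≤ Ideal.jacobson ⊥)
    {M' M M'' : Type u} [AddCommGroup M'] [Module A M'] [AddCommGroup M] [Module A M]
    [AddCommGroup M''] [Module A M'']
    (f : M' →ₗ[A] M) (g : M →ₗ[A] M'') (hfg : Function.Exact f g) (hg : Function.Surjective g)
    [Module.Finite A (AdicCompletion I M)] :
    LinearMap.range (AdicCompletion.map I f) = LinearMap.ker (AdicCompletion.map I g) := by
  have hIfg : I.FG := IsNoetherian.noetherian I
  refine le_antisymm ?_ ?_
  · rw [LinearMap.range_le_ker_iff, AdicCompletion.map_comp]
    have h0 : g ∘ₗ f = 0 := hfg.linearMap_comp_eq_zero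
    rw [h0, AdicCompletion.map_zero]
  · intro x hx
    rw [LinearMap.mem_ker] at hx
    let P : Submodule A (AdicCompletion I M) :=
      (LinearMap.range (AdicCompletion.map I f)).restrictScalars A
    suffices h : x ∈ P from h
    have hkey : ∀ n : ℕ, ∃ p ∈ P, x - p ∈ (I ^ n • ⊤ : Submodule A (AdicCompletion I M)) := by
      intro n
      obtain ⟨m, hm⟩ := Submodule.Quotient.mk_surjective _ (x.val n)
      have h1 : g m ∈ (I ^ n • ⊤ : Submodule A M'') := by
        have h2 : (AdicCompletion.map I g x).val n = 0 := by rw [hx]; rfl
        rw [AdicCompletion.map_val_apply, ← hm, LinearMap.reduceModIdeal_apply] at h2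
        exact (Submodule.Quotient.mk_eq_zero _).mp h2
      have h3 : ∃ m₁ ∈ (I ^ n • ⊤ : Submodule A M), g m₁ = g m := by
        have h30 : (I ^ n • ⊤ : Submodule A M'') = Submodule.map g (I ^ n • ⊤) := by
          rw [Submodule.map_smul'', Submodule.map_top, LinearMap.range_eq_top.mpr hg]
        rw [h30] at h1
        exact h1
      obtain ⟨m₁, hm₁, hgm⟩ := h3
      have h4 : m - m₁ ∈ LinearMap.range f := by
        rw [← hfg.linearMap_ker_eq, LinearMap.mem_ker, map_sub, hgm, sub_self]
      obtain ⟨m', hm'⟩ := h4
      refine ⟨AdicCompletion.map I f (AdicCompletion.of I M' m'),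
        (Submodule.restrictScalars_mem A _ _).mpr (LinearMap.mem_range_self _ _), ?_⟩
      rw [AdicCompletion.map_of, hm', AdicCompletion.pow_smul_top_eq_ker_eval hIfg,
        LinearMap.mem_ker, map_sub, AdicCompletion.eval_of, sub_eq_zero]
      show x.val n = _
      rw [← hm]
      symm
      rw [Submodule.mkQ_apply, Submodule.Quotient.eq]
      have h5 : m - m₁ - m = -m₁ := by abel
      rw [h5]
      exact neg_mem hm₁
    have hH : IsHausdorff I (AdicCompletion I M ⧸ P) := IsHausdorff.of_le_jacobson I _ hI
    have h0 : P.mkQ x = 0 := by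
      apply hH.haus
      intro n
      rw [SModEq.zero]
      obtain ⟨p, hp, hxp⟩ := hkey n
      have h6 : P.mkQ x = P.mkQ (x - p) := by
        rw [map_sub, Submodule.mkQ_apply _ p, (Submodule.Quotient.mk_eq_zero P).mpr hp, sub_zero]
      rw [h6]
      have h7 : Submodule.map P.mkQ (I ^ n • ⊤) ≤
          (I ^ n • ⊤ : Submodule A (AdicCompletion I M ⧸ P)) := by
        rw [Submodule.map_smul'']
        exact Submodule.smul_mono le_rfl le_top
      exact h7 (Submodule.mem_map_of_mem hxp)
    exact (Submodule.Quotient.mk_eq_zero P).mp h0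

end Aux

/-- Let k be a field, R and S complete Noetherian local k-algebras such that the module of differentials
of the residue field of S over k is finite-dimensional, and let S be a finite R-algebra through a
k-algebra homomorphism R → S. Write m for the maximal ideal of S and complete m-adically. Then the
S-module Ω_{S/R} is m-adically complete (it is its own completion), and the sequence of completed
modules (S ⊗_R Ω_{R/k})^ ⟶ (Ω_{S/k})^ ⟶ (Ω_{S/R})^ ⟶ 0, induced by the canonical maps S ⊗_R Ω_{R/k}
⟶ Ω_{S/k} ⟶ Ω_{S/R}, is exact: the second map is surjective and its kernel is the image of the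
first. -/
theorem result (k R S : Type u) [Field k] [CommRing R] [IsNoetherianRing R]
    [IsLocalRing R] [Algebra k R] [IsAdicComplete (IsLocalRing.maximalIdeal R) R]
    [CommRing S] [IsNoetherianRing S] [IsLocalRing S] [Algebra k S]
    [IsAdicComplete (IsLocalRing.maximalIdeal S) S] [Algebra R S] [IsScalarTower k R S]
    [Module.Finite R S] [Module.Finite (IsLocalRing.ResidueField S) (Ω[IsLocalRing.ResidueField S⁄k])] :
    IsAdicComplete (IsLocalRing.maximalIdeal S) (Ω[S⁄R]) ∧
      Function.Surjective (AdicCompletion.map (IsLocalRing.maximalIdeal S) (KaehlerDifferential.map k R S S)) ∧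
      LinearMap.range (AdicCompletion.map (IsLocalRing.maximalIdeal S) (KaehlerDifferential.mapBaseChange k R S)) =
        LinearMap.ker (AdicCompletion.map (IsLocalRing.maximalIdeal S) (KaehlerDifferential.map k R S S)) := by
  haveI : Module.Finite S (Ω[S⁄R]) := inferInstance
  haveI := quot_finite (k := k) (A := S)
  haveI : Module.Finite S (AdicCompletion (IsLocalRing.maximalIdeal S) (Ω[S⁄k])) :=
    Groth.Agent.S4528.finite_adicCompletion (IsLocalRing.maximalIdeal S)
      (IsNoetherian.noetherian _) (Ω[S⁄k])
  refine ⟨isAdicComplete_of_finite (Ω[S⁄R]), ?_, ?_⟩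
  · exact AdicCompletion.map_surjective _ (KaehlerDifferential.map_surjective k R S)
  · exact range_map_eq_ker (IsLocalRing.maximalIdeal S) (IsLocalRing.maximalIdeal_le_jacobson _)
      _ _ (KaehlerDifferential.exact_mapBaseChange_map k R S)
      (KaehlerDifferential.map_surjective k R S)

end Groth.Agent.S5991
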