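import Groth.Statements.S4557
import Mathlib
import Groth.Agent.S2477
import Groth.Agent.S5080
import Groth.Agent.S5991

set_option linter.style.haveILetI false
set_option maxHeartbeats 400000

set_option autoImplicit false
universe u
open EGA41

namespace Groth.Agent.S4557

section Aux

open IsLocalRing TensorProduct

theorem poly_rel {k P A M : Type*} [CommRing k] [CommRing P] [CommRing A] [Algebra k P]
    [Algebra P A] [Algebra k A] [IsScalarTower k P A] [AddCommGroup M] [Module A M] [Module k M]
    [IsScalarTower k A M] (d : Derivation k A M) (a : A) (Q : Polynomial P) :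
    d (Polynomial.aeval a Q) - (Polynomial.aeval a (Polynomial.derivative Q)) • d a ∈
      Submodule.span A (Set.range fun p : P => d (algebraMap P A p)) := by
  induction Q using Polynomial.induction_on' with
  | add Q₁ Q₂ h₁ h₂ =>
    have e : d (Polynomial.aeval a (Q₁ + Q₂)) -
        (Polynomial.aeval a (Polynomial.derivative (Q₁ + Q₂))) • d a =
        (d (Polynomial.aeval a Q₁) - (Polynomial.aeval a (Polynomial.derivative Q₁)) • d a) +
        (d (Polynomial.aeval a Q₂) - (Polynomial.aeval a (Polynomial.derivative Q₂)) • d a) := by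
      rw [map_add, map_add, Polynomial.derivative_add, map_add, add_smul]
      abel
    rw [e]
    exact add_mem h₁ h₂
  | monomial n p =>
    rw [Polynomial.derivative_monomial, Polynomial.aeval_monomial, Polynomial.aeval_monomial,
      Derivation.leibniz, Derivation.leibniz_pow]
    have e : algebraMap P A p • (n • a ^ (n - 1) • d a) + a ^ n • d (algebraMap P A p) -
        (algebraMap P A (p * (n : P)) * a ^ (n - 1)) • d a = a ^ n • d (algebraMap P A p) := by
      rw [map_mul, map_natCast, ← Nat.cast_smul_eq_nsmul A n, smul_smul, smul_smul]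
      module
    rw [e]
    exact Submodule.smul_mem _ _ (Submodule.subset_span ⟨p, rfl⟩)

theorem of_eq_zero_iff {R : Type*} [CommRing R] (I : Ideal R) {M : Type*} [AddCommGroup M]
    [Module R M] (x : M) :
    AdicCompletion.of I M x = 0 ↔ ∀ n : ℕ, x ∈ (I ^ n • ⊤ : Submodule R M) := by
  constructor
  · intro h n
    have h1 := congrArg (fun z : AdicCompletion I M => z.val n) h
    simp only [AdicCompletion.of_apply, AdicCompletion.val_zero_apply] at h1
    rwa [Submodule.mkQ_apply, Submodule.Quotient.mk_eq_zero] at h1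
  · intro h
    apply AdicCompletion.ext
    intro n
    rw [AdicCompletion.of_apply, AdicCompletion.val_zero_apply, Submodule.mkQ_apply,
      Submodule.Quotient.mk_eq_zero]
    exact h n

theorem map_pow_smul_mem {R S : Type*} [CommRing R] [CommRing S] [Algebra R S] (I : Ideal R)
    (J : Ideal S) (hIJ : I.map (algebraMap R S) ≤ J) {M N : Type*} [AddCommGroup M] [Module R M]
    [AddCommGroup N] [Module S N] [Module R N] [IsScalarTower R S N] (f : M →ₗ[R] N) (n : ℕ)
    {x : M} (hx : x ∈ (I ^ n • ⊤ : Submodule R M)) :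
    f x ∈ (J ^ n • ⊤ : Submodule S N) := by
  refine Submodule.smul_induction_on hx ?_ ?_
  · intro r hr m _
    rw [map_smul, ← algebraMap_smul S r (f m)]
    refine Submodule.smul_mem_smul ?_ Submodule.mem_top
    have h1 : (I ^ n).map (algebraMap R S) ≤ J ^ n := by
      rw [Ideal.map_pow]
      exact Ideal.pow_right_mono hIJ n
    exact h1 (Ideal.mem_map_of_mem _ hr)
  · intro a b ha hb
    rw [map_add]
    exact add_mem ha hb

theorem dh_alg_mem (k : Type u) [Field k] (r : ℕ) (A : Type u) [CommRing A] [IsLocalRing A]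
    [Algebra (MvPowerSeries (Fin r) k) A] [Algebra k A]
    [IsScalarTower k (MvPowerSeries (Fin r) k) A]
    (hloc : (maximalIdeal (MvPowerSeries (Fin r) k)).map
      (algebraMap (MvPowerSeries (Fin r) k) A) ≤ maximalIdeal A)
    (p : MvPowerSeries (Fin r) k) :
    AdicCompletion.of (maximalIdeal A) (Ω[A⁄k])
        (KaehlerDifferential.D k A (algebraMap (MvPowerSeries (Fin r) k) A p)) ∈
      Submodule.span A (Set.range fun i : Fin r => AdicCompletion.of (maximalIdeal A) (Ω[A⁄k])
        (KaehlerDifferential.D k A
          (algebraMap (MvPowerSeries (Fin r) k) A (MvPowerSeries.X i)))) := by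
  classical
  have hfg : (maximalIdeal (MvPowerSeries (Fin r) k)).FG := by
    rw [Groth.Agent.H15.ObsPS2.max_eq_span]
    exact Submodule.fg_span (Set.finite_range _)
  have hsurj := Groth.Agent.S2477.surj_to_completion (maximalIdeal (MvPowerSeries (Fin r) k)) hfg
    (Ω[MvPowerSeries (Fin r) k⁄k])
    (fun i : Fin r => KaehlerDifferential.D k (MvPowerSeries (Fin r) k) (MvPowerSeries.X i))
    (Groth.Agent.S2477.span_dX k r)
  obtain ⟨c, hc⟩ := hsurj (AdicCompletion.of _ _
    (KaehlerDifferential.D k (MvPowerSeries (Fin r) k) p))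
  have hc' : AdicCompletion.of (maximalIdeal (MvPowerSeries (Fin r) k))
      (Ω[MvPowerSeries (Fin r) k⁄k])
      (∑ i, c i • KaehlerDifferential.D k (MvPowerSeries (Fin r) k) (MvPowerSeries.X i)) =
      AdicCompletion.of _ _ (KaehlerDifferential.D k (MvPowerSeries (Fin r) k) p) := by
    rw [← hc, LinearMap.comp_apply, Fintype.linearCombination_apply]
  have h0 : AdicCompletion.of (maximalIdeal (MvPowerSeries (Fin r) k))
      (Ω[MvPowerSeries (Fin r) k⁄k])
      (KaehlerDifferential.D k (MvPowerSeries (Fin r) k) p -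
        ∑ i, c i • KaehlerDifferential.D k (MvPowerSeries (Fin r) k) (MvPowerSeries.X i)) = 0 := by
    rw [map_sub, hc', sub_self]
  rw [of_eq_zero_iff] at h0
  have h1 : AdicCompletion.of (maximalIdeal A) (Ω[A⁄k])
      (KaehlerDifferential.map k k (MvPowerSeries (Fin r) k) A
        (KaehlerDifferential.D k (MvPowerSeries (Fin r) k) p -
        ∑ i, c i • KaehlerDifferential.D k (MvPowerSeries (Fin r) k) (MvPowerSeries.X i))) = 0 := by
    rw [of_eq_zero_iff]
    intro n
    exact map_pow_smul_mem _ _ hloc (KaehlerDifferential.map k k (MvPowerSeries (Fin r) k) A) n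
      (h0 n)
  rw [map_sub, map_sum, KaehlerDifferential.map_D, map_sub, sub_eq_zero] at h1
  rw [h1, map_sum]
  refine Submodule.sum_mem _ fun i _ => ?_
  rw [map_smul, KaehlerDifferential.map_D, ← algebraMap_smul A (c i), map_smul]
  exact Submodule.smul_mem _ _ (Submodule.subset_span ⟨i, rfl⟩)

theorem deriv_ne_zero (k : Type u) [Field k] (r : ℕ) (A : Type u) [CommRing A] [IsDomain A]
    [Algebra (MvPowerSeries (Fin r) k) A]
    (hinj : Function.Injective (algebraMap (MvPowerSeries (Fin r) k) A))
    (a : A) (Q : Polynomial (MvPowerSeries (Fin r) k)) (hQ : Polynomial.aeval a Q = 0)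
    (hsep : (Q.map (algebraMap (MvPowerSeries (Fin r) k)
      (FractionRing (MvPowerSeries (Fin r) k)))).Separable) :
    Polynomial.aeval a (Polynomial.derivative Q) ≠ 0 := by
  intro h0
  have hg : Function.Injective ((algebraMap A (FractionRing A)).comp
      (algebraMap (MvPowerSeries (Fin r) k) A)) :=
    (IsFractionRing.injective A (FractionRing A)).comp hinj
  obtain ⟨φ, hφ0⟩ : ∃ φ : FractionRing (MvPowerSeries (Fin r) k) →+* FractionRing A,
      ∀ x, φ (algebraMap (MvPowerSeries (Fin r) k) (FractionRing (MvPowerSeries (Fin r) k)) x) =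
        (algebraMap A (FractionRing A)) (algebraMap (MvPowerSeries (Fin r) k) A x) :=
    ⟨IsFractionRing.lift hg, fun x => IsFractionRing.lift_algebraMap hg x⟩
  have hφ : φ.comp (algebraMap (MvPowerSeries (Fin r) k)
      (FractionRing (MvPowerSeries (Fin r) k))) =
        (algebraMap A (FractionRing A)).comp (algebraMap (MvPowerSeries (Fin r) k) A) := by
    apply RingHom.ext
    intro x
    rw [RingHom.comp_apply, RingHom.comp_apply]
    exact hφ0 x
  obtain ⟨u, v, huv⟩ := hsep
  have h1 := congrArg (Polynomial.eval₂ φ (algebraMap A (FractionRing A) a)) huv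
  rw [Polynomial.eval₂_add, Polynomial.eval₂_mul, Polynomial.eval₂_mul, Polynomial.eval₂_one,
    Polynomial.derivative_map, Polynomial.eval₂_map, Polynomial.eval₂_map, hφ] at h1
  have e1 : Polynomial.eval₂ ((algebraMap A (FractionRing A)).comp
      (algebraMap (MvPowerSeries (Fin r) k) A)) (algebraMap A (FractionRing A) a) Q =
      algebraMap A (FractionRing A) (Polynomial.aeval a Q) := by
    rw [Polynomial.aeval_def, Polynomial.hom_eval₂]
  have e2 : Polynomial.eval₂ ((algebraMap A (FractionRing A)).comp
      (algebraMap (MvPowerSeries (Fin r) k) A)) (algebraMap A (FractionRing A) a)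
      (Polynomial.derivative Q) =
      algebraMap A (FractionRing A) (Polynomial.aeval a (Polynomial.derivative Q)) := by
    rw [Polynomial.aeval_def, Polynomial.hom_eval₂]
  rw [e1, e2, hQ, h0, map_zero, mul_zero, mul_zero, add_zero] at h1
  exact zero_ne_one h1

theorem finite_residue (k : Type u) [Field k] (r : ℕ) (A : Type u) [CommRing A] [IsLocalRing A]
    [Algebra (MvPowerSeries (Fin r) k) A] [Algebra k A]
    [IsScalarTower k (MvPowerSeries (Fin r) k) A] [Module.Finite (MvPowerSeries (Fin r) k) A]
    (hloc : (maximalIdeal (MvPowerSeries (Fin r) k)).map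
      (algebraMap (MvPowerSeries (Fin r) k) A) ≤ maximalIdeal A) :
    Module.Finite k (ResidueField A) := by
  classical
  haveI : Module.Finite (MvPowerSeries (Fin r) k) (ResidueField A) :=
    Module.Finite.of_surjective
      ((IsScalarTower.toAlgHom (MvPowerSeries (Fin r) k) A (ResidueField A)).toLinearMap)
      residue_surjective
  obtain ⟨m, x, hx⟩ := Module.Finite.exists_fin (R := MvPowerSeries (Fin r) k)
    (M := ResidueField A)
  refine ⟨⟨Finset.univ.image x, ?_⟩⟩
  rw [Finset.coe_image, Finset.coe_univ, Set.image_univ, eq_top_iff]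
  rintro y -
  have hy : y ∈ Submodule.span (MvPowerSeries (Fin r) k) (Set.range x) := by rw [hx]; trivial
  refine Submodule.span_induction (p := fun y _ => y ∈ Submodule.span k (Set.range x))
    ?_ ?_ ?_ ?_ hy
  · rintro _ ⟨j, rfl⟩
    exact Submodule.subset_span ⟨j, rfl⟩
  · exact Submodule.zero_mem _
  · intro a b _ _ ha hb
    exact Submodule.add_mem _ ha hb
  · intro p z _ hz
    have hp : p - MvPowerSeries.C (MvPowerSeries.constantCoeff p) ∈
        maximalIdeal (MvPowerSeries (Fin r) k) := by
      rw [mem_maximalIdeal, mem_nonunits_iff, MvPowerSeries.isUnit_iff_constantCoeff, map_sub,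
        MvPowerSeries.constantCoeff_C, sub_self]
      exact not_isUnit_zero
    have hpA : algebraMap (MvPowerSeries (Fin r) k) A
        (p - algebraMap k (MvPowerSeries (Fin r) k) (MvPowerSeries.constantCoeff p)) ∈
        maximalIdeal A := hloc (Ideal.mem_map_of_mem _ hp)
    have e : p • z = (MvPowerSeries.constantCoeff p) • z := by
      rw [← algebraMap_smul A p z, ← algebraMap_smul A (MvPowerSeries.constantCoeff p) z,
        IsScalarTower.algebraMap_apply k (MvPowerSeries (Fin r) k) A, ← sub_eq_zero, ← sub_smul,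
        ← map_sub, Algebra.smul_def, ResidueField.algebraMap_eq,
        (residue_eq_zero_iff _).mpr hpA, zero_mul]
    rw [e]
    exact Submodule.smul_mem _ _ hz

theorem span_top (k : Type u) [Field k] (r : ℕ) (A : Type u) [CommRing A] [IsDomain A]
    [IsLocalRing A] [IsNoetherianRing A] [Algebra (MvPowerSeries (Fin r) k) A] [Algebra k A]
    [IsScalarTower k (MvPowerSeries (Fin r) k) A]
    [Module.Finite A (AdicCompletion (maximalIdeal A) (Ω[A⁄k]))]
    (hinj : Function.Injective (algebraMap (MvPowerSeries (Fin r) k) A))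
    (hloc : (maximalIdeal (MvPowerSeries (Fin r) k)).map
      (algebraMap (MvPowerSeries (Fin r) k) A) ≤ maximalIdeal A)
    (hsep : ∀ a : A, ∃ Q : Polynomial (MvPowerSeries (Fin r) k), Polynomial.aeval a Q = 0 ∧
      (Q.map (algebraMap (MvPowerSeries (Fin r) k)
        (FractionRing (MvPowerSeries (Fin r) k)))).Separable) :
    Submodule.span (FractionRing A) (Set.range fun i : Fin r =>
      (1 : FractionRing A) ⊗ₜ[A] AdicCompletion.of (maximalIdeal A) (Ω[A⁄k])
        (KaehlerDifferential.D k A
          (algebraMap (MvPowerSeries (Fin r) k) A (MvPowerSeries.X i)))) = ⊤ := by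
  set S : Submodule (FractionRing A)
      (FractionRing A ⊗[A] AdicCompletion (maximalIdeal A) (Ω[A⁄k])) :=
    Submodule.span (FractionRing A) (Set.range fun i : Fin r =>
      (1 : FractionRing A) ⊗ₜ[A] AdicCompletion.of (maximalIdeal A) (Ω[A⁄k])
        (KaehlerDifferential.D k A
          (algebraMap (MvPowerSeries (Fin r) k) A (MvPowerSeries.X i)))) with hS
  let τ : AdicCompletion (maximalIdeal A) (Ω[A⁄k]) →ₗ[A]
      FractionRing A ⊗[A] AdicCompletion (maximalIdeal A) (Ω[A⁄k]) :=
    TensorProduct.mk A (FractionRing A) _ 1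
  have hi : Submodule.span A (Set.range fun i : Fin r =>
      AdicCompletion.of (maximalIdeal A) (Ω[A⁄k]) (KaehlerDifferential.D k A
        (algebraMap (MvPowerSeries (Fin r) k) A (MvPowerSeries.X i)))) ≤
      (S.restrictScalars A).comap τ := by
    rw [Submodule.span_le]
    rintro _ ⟨i, rfl⟩
    rw [SetLike.mem_coe, Submodule.mem_comap, Submodule.restrictScalars_mem]
    exact Submodule.subset_span ⟨i, rfl⟩
  have hP : ∀ p : MvPowerSeries (Fin r) k, τ (AdicCompletion.of (maximalIdeal A) (Ω[A⁄k])
      (KaehlerDifferential.D k A (algebraMap (MvPowerSeries (Fin r) k) A p))) ∈ S :=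
    fun p => hi (dh_alg_mem k r A hloc p)
  have hA : ∀ a : A, τ (AdicCompletion.of (maximalIdeal A) (Ω[A⁄k])
      (KaehlerDifferential.D k A a)) ∈ S := by
    intro a
    obtain ⟨Q, hQ0, hQsep⟩ := hsep a
    have hc := deriv_ne_zero k r A hinj a Q hQ0 hQsep
    have hrel := poly_rel (KaehlerDifferential.D k A) a Q
    rw [hQ0, map_zero, zero_sub] at hrel
    have h2 : Submodule.span A (Set.range fun p : MvPowerSeries (Fin r) k =>
        KaehlerDifferential.D k A (algebraMap (MvPowerSeries (Fin r) k) A p)) ≤
        ((S.restrictScalars A).comap τ).comap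
          (AdicCompletion.of (maximalIdeal A) (Ω[A⁄k])) := by
      rw [Submodule.span_le]
      rintro _ ⟨p, rfl⟩
      rw [SetLike.mem_coe, Submodule.mem_comap, Submodule.mem_comap,
        Submodule.restrictScalars_mem]
      exact hP p
    have h3 := h2 hrel
    rw [Submodule.mem_comap, Submodule.mem_comap, Submodule.restrictScalars_mem, map_neg,
      map_smul, map_neg, map_smul, neg_mem_iff,
      ← algebraMap_smul (FractionRing A) (Polynomial.aeval a (Polynomial.derivative Q))] at h3
    have hcE : algebraMap A (FractionRing A) (Polynomial.aeval a (Polynomial.derivative Q)) ≠ 0 :=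
      (map_ne_zero_iff _ (IsFractionRing.injective A (FractionRing A))).mpr hc
    have h4 := S.smul_mem
      (algebraMap A (FractionRing A) (Polynomial.aeval a (Polynomial.derivative Q)))⁻¹ h3
    rwa [smul_smul, inv_mul_cancel₀ hcE, one_smul] at h4
  have hall : (⊤ : Submodule A (AdicCompletion (maximalIdeal A) (Ω[A⁄k]))) ≤
      (S.restrictScalars A).comap τ := by
    rw [← Groth.Agent.S5080.span_of_D_eq_top (k := k) (A := A), Submodule.span_le]
    rintro _ ⟨a, rfl⟩
    rw [SetLike.mem_coe, Submodule.mem_comap, Submodule.restrictScalars_mem]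
    exact hA a
  rw [eq_top_iff]
  rintro z -
  induction z using TensorProduct.induction_on with
  | zero => exact S.zero_mem
  | tmul e x =>
    have h1 : τ x ∈ S := hall (Submodule.mem_top (x := x))
    have h2 : e ⊗ₜ[A] x = e • τ x := by
      show _ = e • ((1 : FractionRing A) ⊗ₜ[A] x)
      rw [TensorProduct.smul_tmul', smul_eq_mul, mul_one]
    rw [h2]
    exact S.smul_mem e h1
  | add a b ha hb => exact S.add_mem ha hb

theorem exists_deriv_ext {k P E : Type u} [CommRing k] [CommRing P] [CommRing E] [Algebra k P]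
    [Algebra P E] [Algebra k E] [IsScalarTower k P E] [Algebra.FormallyEtale P E]
    (d : Derivation k P P) :
    ∃ D' : Derivation k E E, ∀ p, D' (algebraMap P E p) = algebraMap P E (d p) := by
  let g : Ω[P⁄k] →ₗ[P] E := (Algebra.linearMap P E) ∘ₗ d.liftKaehlerDifferential
  let lam : Ω[E⁄k] →ₗ[E] E := (LinearMap.liftBaseChange E g) ∘ₗ
    (KaehlerDifferential.tensorKaehlerEquivOfFormallyEtale k P E).symm.toLinearMap
  refine ⟨lam.compDer (KaehlerDifferential.D k E), fun p => ?_⟩
  show LinearMap.liftBaseChange E g
    ((KaehlerDifferential.tensorKaehlerEquivOfFormallyEtale k P E).symm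
      (KaehlerDifferential.D k E (algebraMap P E p))) = _
  rw [KaehlerDifferential.tensorKaehlerEquivOfFormallyEtale_symm_D_algebraMap,
    LinearMap.liftBaseChange_tmul, one_smul]
  show algebraMap P E (d.liftKaehlerDifferential (KaehlerDifferential.D k P p)) = _
  rw [Derivation.liftKaehlerDifferential_comp_D]

theorem formallyEtale_PE (k : Type u) [Field k] (r : ℕ) (A : Type u) [CommRing A] [IsDomain A]
    [Algebra (MvPowerSeries (Fin r) k) A]
    (hinj : Function.Injective (algebraMap (MvPowerSeries (Fin r) k) A))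
    (hsep : ∀ a : A, ∃ Q : Polynomial (MvPowerSeries (Fin r) k), Polynomial.aeval a Q = 0 ∧
      (Q.map (algebraMap (MvPowerSeries (Fin r) k)
        (FractionRing (MvPowerSeries (Fin r) k)))).Separable) :
    Algebra.FormallyEtale (MvPowerSeries (Fin r) k) (FractionRing A) := by
  have hinjE : Function.Injective (algebraMap (MvPowerSeries (Fin r) k) (FractionRing A)) := by
    rw [IsScalarTower.algebraMap_eq (MvPowerSeries (Fin r) k) A (FractionRing A)]
    exact (IsFractionRing.injective A (FractionRing A)).comp hinj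
  haveI : FaithfulSMul (MvPowerSeries (Fin r) k) (FractionRing A) :=
    (faithfulSMul_iff_algebraMap_injective _ _).mpr hinjE
  letI : Algebra (FractionRing (MvPowerSeries (Fin r) k)) (FractionRing A) :=
    FractionRing.liftAlgebra _ _
  haveI : IsScalarTower (MvPowerSeries (Fin r) k) (FractionRing (MvPowerSeries (Fin r) k))
      (FractionRing A) := FractionRing.isScalarTower_liftAlgebra _ _
  haveI : Algebra.IsSeparable (FractionRing (MvPowerSeries (Fin r) k)) (FractionRing A) := by
    have key : ∀ a : A, algebraMap A (FractionRing A) a ∈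
        separableClosure (FractionRing (MvPowerSeries (Fin r) k)) (FractionRing A) := by
      intro a
      rw [mem_separableClosure_iff]
      obtain ⟨Q, hQ0, hQsep⟩ := hsep a
      refine Polynomial.Separable.of_dvd hQsep (minpoly.dvd _ _ ?_)
      rw [Polynomial.aeval_map_algebraMap, Polynomial.aeval_algebraMap_apply, hQ0, map_zero]
    refine ⟨fun x => ?_⟩
    obtain ⟨a, s, -, rfl⟩ := IsFractionRing.div_surjective (A := A) x
    rw [← mem_separableClosure_iff]
    exact div_mem (key a) (key s)
  haveI : Algebra.FormallyEtale (MvPowerSeries (Fin r) k)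
      (FractionRing (MvPowerSeries (Fin r) k)) :=
    Algebra.FormallyEtale.of_isLocalization (nonZeroDivisors (MvPowerSeries (Fin r) k))
  haveI : Algebra.FormallyEtale (FractionRing (MvPowerSeries (Fin r) k)) (FractionRing A) :=
    Algebra.FormallyEtale.of_isSeparable _ _
  exact Algebra.FormallyEtale.comp _ (FractionRing (MvPowerSeries (Fin r) k)) _

theorem exists_functional (k : Type u) [Field k] (r : ℕ) (A : Type u) [CommRing A] [IsDomain A]
    [IsLocalRing A] [IsNoetherianRing A] [IsAdicComplete (maximalIdeal A) A]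
    [Algebra (MvPowerSeries (Fin r) k) A] [Algebra k A]
    [IsScalarTower k (MvPowerSeries (Fin r) k) A] [Module.Finite (MvPowerSeries (Fin r) k) A]
    [IsScalarTower k (MvPowerSeries (Fin r) k) (FractionRing A)]
    [Algebra.FormallyEtale (MvPowerSeries (Fin r) k) (FractionRing A)] (i : Fin r) :
    ∃ Λ : AdicCompletion (maximalIdeal A) (Ω[A⁄k]) →ₗ[A] FractionRing A,
      ∀ j : Fin r, Λ (AdicCompletion.of (maximalIdeal A) (Ω[A⁄k]) (KaehlerDifferential.D k A
        (algebraMap (MvPowerSeries (Fin r) k) A (MvPowerSeries.X j)))) =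
          if i = j then 1 else 0 := by
  classical
  obtain ⟨Dt, hDt⟩ := exists_deriv_ext (k := k) (E := FractionRing A) (MvPowerSeries.pderiv k i)
  let d : Derivation k A (FractionRing A) := Dt.compAlgebraMap A
  have hd : ∀ a, d a = Dt (algebraMap A (FractionRing A) a) := fun a => rfl
  have hdP : ∀ p : MvPowerSeries (Fin r) k, d (algebraMap (MvPowerSeries (Fin r) k) A p) =
      algebraMap A (FractionRing A)
        (algebraMap (MvPowerSeries (Fin r) k) A (MvPowerSeries.pderiv k i p)) := by
    intro p
    rw [hd, ← IsScalarTower.algebraMap_apply (MvPowerSeries (Fin r) k) A (FractionRing A) p, hDt,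
      IsScalarTower.algebraMap_apply (MvPowerSeries (Fin r) k) A (FractionRing A)]
  obtain ⟨m, b, hb⟩ := Module.Finite.exists_fin (R := MvPowerSeries (Fin r) k) (M := A)
  let Mf : Submodule A (FractionRing A) :=
    Submodule.span A (insert (1 : FractionRing A) (Set.range fun j : Fin m => d (b j)))
  have h1M : (1 : FractionRing A) ∈ Mf := Submodule.subset_span (Set.mem_insert _ _)
  have hbM : ∀ j, d (b j) ∈ Mf :=
    fun j => Submodule.subset_span (Set.mem_insert_of_mem _ ⟨j, rfl⟩)
  have hdM : ∀ a : A, d a ∈ Mf := by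
    intro a
    have ha : a ∈ Submodule.span (MvPowerSeries (Fin r) k) (Set.range b) := by rw [hb]; trivial
    refine Submodule.span_induction (p := fun a _ => d a ∈ Mf) ?_ ?_ ?_ ?_ ha
    · rintro _ ⟨j, rfl⟩
      exact hbM j
    · rw [map_zero]
      exact Mf.zero_mem
    · intro x y _ _ hx hy
      rw [map_add]
      exact Mf.add_mem hx hy
    · intro p x _ hx
      rw [Algebra.smul_def, Derivation.leibniz, hdP]
      refine Mf.add_mem (Mf.smul_mem _ hx) (Mf.smul_mem _ ?_)
      rw [Algebra.algebraMap_eq_smul_one]
      exact Mf.smul_mem _ h1M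
  let ℓ : Ω[A⁄k] →ₗ[A] FractionRing A := d.liftKaehlerDifferential
  have hℓ : ∀ ω, ℓ ω ∈ Mf := by
    intro ω
    have hω : ω ∈ Submodule.span A (Set.range (KaehlerDifferential.D k A)) := by
      rw [KaehlerDifferential.span_range_derivation]; trivial
    refine Submodule.span_induction (p := fun ω _ => ℓ ω ∈ Mf) ?_ ?_ ?_ ?_ hω
    · rintro _ ⟨a, rfl⟩
      show d.liftKaehlerDifferential (KaehlerDifferential.D k A a) ∈ Mf
      rw [Derivation.liftKaehlerDifferential_comp_D]
      exact hdM a
    · rw [map_zero]
      exact Mf.zero_mem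
    · intro x y _ _ hx hy
      rw [map_add]
      exact Mf.add_mem hx hy
    · intro c x _ hx
      rw [map_smul]
      exact Mf.smul_mem _ hx
  let ℓ' : Ω[A⁄k] →ₗ[A] Mf := LinearMap.codRestrict Mf ℓ hℓ
  haveI : Module.Finite A Mf :=
    Module.Finite.span_of_finite A (Set.Finite.insert _ (Set.finite_range _))
  haveI : IsAdicComplete (maximalIdeal A) Mf := Groth.Agent.S5991.isAdicComplete_of_finite Mf
  let Λ : AdicCompletion (maximalIdeal A) (Ω[A⁄k]) →ₗ[A] FractionRing A :=
    Mf.subtype ∘ₗ (AdicCompletion.ofLinearEquiv (maximalIdeal A) Mf).symm.toLinearMap ∘ₗ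
      (AdicCompletion.map (maximalIdeal A) ℓ').restrictScalars A
  have hΛ : ∀ ω, Λ (AdicCompletion.of (maximalIdeal A) (Ω[A⁄k]) ω) = ℓ ω := by
    intro ω
    show (((AdicCompletion.ofLinearEquiv (maximalIdeal A) Mf).symm
      (AdicCompletion.map (maximalIdeal A) ℓ'
        (AdicCompletion.of (maximalIdeal A) (Ω[A⁄k]) ω)) : Mf) : FractionRing A) = ℓ ω
    rw [AdicCompletion.map_of, AdicCompletion.ofLinearEquiv_symm_of]
    rfl
  refine ⟨Λ, fun j => ?_⟩
  rw [hΛ]
  show d.liftKaehlerDifferential (KaehlerDifferential.D k A _) = _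
  rw [Derivation.liftKaehlerDifferential_comp_D, hdP, MvPowerSeries.pderiv_X, Pi.single_apply]
  by_cases hij : i = j
  · rw [if_pos hij.symm, if_pos hij, map_one, map_one]
  · rw [if_neg (fun h => hij h.symm), if_neg hij, map_zero, map_zero]

theorem linIndep (k : Type u) [Field k] (r : ℕ) (A : Type u) [CommRing A] [IsDomain A]
    [IsLocalRing A] [IsNoetherianRing A] [IsAdicComplete (maximalIdeal A) A]
    [Algebra (MvPowerSeries (Fin r) k) A] [Algebra k A]
    [IsScalarTower k (MvPowerSeries (Fin r) k) A] [Module.Finite (MvPowerSeries (Fin r) k) A]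
    [IsScalarTower k (MvPowerSeries (Fin r) k) (FractionRing A)]
    [Algebra.FormallyEtale (MvPowerSeries (Fin r) k) (FractionRing A)] :
    LinearIndependent (FractionRing A) (fun i : Fin r =>
      (1 : FractionRing A) ⊗ₜ[A] AdicCompletion.of (maximalIdeal A) (Ω[A⁄k])
        (KaehlerDifferential.D k A
          (algebraMap (MvPowerSeries (Fin r) k) A (MvPowerSeries.X i)))) := by
  classical
  choose Λ hΛ using exists_functional k r A
  rw [Fintype.linearIndependent_iff]
  intro g hg i
  have h1 := congrArg (LinearMap.liftBaseChange (FractionRing A) (Λ i)) hg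
  rw [map_sum, map_zero] at h1
  have h2 : ∀ j, LinearMap.liftBaseChange (FractionRing A) (Λ i)
      (g j • ((1 : FractionRing A) ⊗ₜ[A] AdicCompletion.of (maximalIdeal A) (Ω[A⁄k])
        (KaehlerDifferential.D k A
          (algebraMap (MvPowerSeries (Fin r) k) A (MvPowerSeries.X j))))) =
      g j * (if i = j then 1 else 0) := by
    intro j
    rw [map_smul, LinearMap.liftBaseChange_tmul, one_smul, hΛ i j, smul_eq_mul]
  rw [Finset.sum_congr rfl (fun j _ => h2 j), Finset.sum_eq_single i] at h1
  · rwa [if_pos rfl, mul_one] at h1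
  · intro j _ hj
    rw [if_neg (Ne.symm hj), mul_zero]
  · intro h
    exact absurd (Finset.mem_univ _) h

end Aux

open IsLocalRing TensorProduct in
/-- Let A be a complete Noetherian local integral domain, A₀ a subring of A isomorphic to a power series
ring k[[T_1, …, T_r]] over a field k such that A is a finite A₀-algebra and the field of fractions E
of A is a separable extension of the field of fractions L₀ of A₀ (here: A₀ = k[[T]] → A injective
and finite, A a k-algebra through A₀, and every element of A is a root of a polynomial over A₀ which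
is separable over L₀). Then rk_A Ω̂_{A/k} = rk_E (Ω̂_{A/k} ⊗_A E) = dim A = r, where Ω̂_{A/k} is the
𝔪-adic completion of Ω_{A/k}; stated as dim_E (E ⊗_A Ω̂_{A/k}) = r. -/
theorem result (k : Type u) [Field k] (r : ℕ) (A : Type u) [CommRing A]
    [IsDomain A] [IsLocalRing A] [IsNoetherianRing A] [IsAdicComplete (maximalIdeal A) A]
    [Algebra (MvPowerSeries (Fin r) k) A] [Algebra k A] [IsScalarTower k (MvPowerSeries (Fin r) k) A]
    (hinj : Function.Injective (algebraMap (MvPowerSeries (Fin r) k) A)) [Module.Finite (MvPowerSeries (Fin r) k) A]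
    (hsep : ∀ a : A, ∃ P : Polynomial (MvPowerSeries (Fin r) k), Polynomial.aeval a P = 0 ∧
      (P.map (algebraMap (MvPowerSeries (Fin r) k) (FractionRing (MvPowerSeries (Fin r) k)))).Separable) :
    Module.finrank (FractionRing A) (FractionRing A ⊗[A] AdicCompletion (maximalIdeal A) (Ω[A⁄k])) = r := by
  haveI : FaithfulSMul (MvPowerSeries (Fin r) k) A :=
    (faithfulSMul_iff_algebraMap_injective _ _).mpr hinj
  have hloc : (maximalIdeal (MvPowerSeries (Fin r) k)).map
      (algebraMap (MvPowerSeries (Fin r) k) A) ≤ maximalIdeal A := by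
    rw [Ideal.map_le_iff_le_comap]
    intro p hp
    exact map_nonunit (algebraMap (MvPowerSeries (Fin r) k) A) p hp
  haveI : Module.Finite k (ResidueField A) := finite_residue k r A hloc
  haveI : Module.Finite A (AdicCompletion (maximalIdeal A) (Ω[A⁄k])) :=
    Groth.Agent.S4528.result
  haveI : IsScalarTower k (MvPowerSeries (Fin r) k) (FractionRing A) :=
    IsScalarTower.of_algebraMap_eq fun c => by
      rw [IsScalarTower.algebraMap_apply k A (FractionRing A),
        IsScalarTower.algebraMap_apply k (MvPowerSeries (Fin r) k) A,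
        ← IsScalarTower.algebraMap_apply (MvPowerSeries (Fin r) k) A (FractionRing A)]
  haveI : Algebra.FormallyEtale (MvPowerSeries (Fin r) k) (FractionRing A) :=
    formallyEtale_PE k r A hinj hsep
  apply le_antisymm
  · have h := span_top k r A hinj hloc hsep
    have h2 := finrank_range_le_card (R := FractionRing A) (fun i : Fin r =>
      (1 : FractionRing A) ⊗ₜ[A] AdicCompletion.of (maximalIdeal A) (Ω[A⁄k])
        (KaehlerDifferential.D k A
          (algebraMap (MvPowerSeries (Fin r) k) A (MvPowerSeries.X i))))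
    rw [Set.finrank, h, finrank_top, Fintype.card_fin] at h2
    exact h2
  · have h := (linIndep k r A).fintype_card_le_finrank
    rwa [Fintype.card_fin] at h

end Groth.Agent.S4557
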