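import Groth.Statements.S4558
import Mathlib
import Groth.Agent.S4528

set_option linter.style.haveILetI false

set_option autoImplicit false
universe u
open EGA41

namespace Groth.Agent.S4558

section Aux

open TensorProduct

theorem finite_of_quot_finite {A : Type u} [CommRing A] (I : Ideal A) [IsAdicComplete I A]
    (M : Type u) [AddCommGroup M] [Module A M] [IsHausdorff I M]
    [Module.Finite A (M ⧸ (I • ⊤ : Submodule A M))] : Module.Finite A M := by
  classical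
  obtain ⟨s, g, hg⟩ := Module.Finite.exists_fin (R := A) (M := M ⧸ (I • ⊤ : Submodule A M))
  choose m hm using fun i => Submodule.mkQ_surjective (I • ⊤ : Submodule A M) (g i)
  let f : (Fin s → A) →ₗ[A] M := Fintype.linearCombination A m
  have hf : Function.Surjective ((I • ⊤ : Submodule A M).mkQ ∘ₗ f) := by
    rw [← LinearMap.range_eq_top, eq_top_iff, ← hg, Submodule.span_le]
    rintro _ ⟨i, rfl⟩
    refine ⟨Pi.single i 1, ?_⟩
    rw [LinearMap.comp_apply, Fintype.linearCombination_apply_single, one_smul, hm]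
  haveI : IsAdicComplete I (Fin s → A) := Groth.Agent.H15.AdicProj.isAdicComplete_pi I s
  exact Module.Finite.of_surjective f (surjective_of_mkQ_comp_surjective hf)

theorem isHausdorff_ideal {B : Type u} [CommRing B] (𝔫 : Ideal B) [hB : IsHausdorff 𝔫 B] :
    IsHausdorff 𝔫 𝔫 := by
  refine ⟨fun x hx => ?_⟩
  apply Subtype.ext
  apply IsHausdorff.haus hB
  intro n
  have h1 := hx n
  rw [SModEq.zero] at h1 ⊢
  have h2 : (x : B) ∈ Submodule.map (Submodule.subtype 𝔫) (𝔫 ^ n • (⊤ : Submodule B 𝔫)) :=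
    ⟨x, h1, rfl⟩
  rw [Submodule.map_smul''] at h2
  exact Submodule.smul_mono le_rfl le_top h2

theorem quot_finite' {A B : Type u} [CommRing A] [CommRing B] [Algebra A B] (𝔫 : Ideal B)
    [Module.Finite (B ⧸ 𝔫) (Ω[B ⧸ 𝔫⁄A])] [Module.Finite B 𝔫.Cotangent] :
    Module.Finite B ((Ω[B⁄A]) ⧸ (𝔫 • ⊤ : Submodule B (Ω[B⁄A]))) := by
  have hsurjK : Function.Surjective (algebraMap B (B ⧸ 𝔫)) := Ideal.Quotient.mk_surjective
  have hex := KaehlerDifferential.exact_kerCotangentToTensor_mapBaseChange A B (B ⧸ 𝔫) hsurjK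
  let φ : (B ⧸ 𝔫) ⊗[B] Ω[B⁄A] →ₗ[B] Ω[(B ⧸ 𝔫)⁄A] :=
    (KaehlerDifferential.mapBaseChange A B (B ⧸ 𝔫)).restrictScalars B
  have hφsurj : Function.Surjective φ :=
    KaehlerDifferential.mapBaseChange_surjective A B (B ⧸ 𝔫) hsurjK
  haveI : Module.Finite B (B ⧸ 𝔫) :=
    Module.Finite.of_surjective (Algebra.linearMap B (B ⧸ 𝔫)) hsurjK
  haveI : Module.Finite B (Ω[(B ⧸ 𝔫)⁄A]) := Module.Finite.trans (B ⧸ 𝔫) _
  have hkerφ : LinearMap.ker φ =
      LinearMap.range (KaehlerDifferential.kerCotangentToTensor A B (B ⧸ 𝔫)) :=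
    (LinearMap.exact_iff (f := KaehlerDifferential.kerCotangentToTensor A B (B ⧸ 𝔫))
      (g := φ)).mp hex
  haveI : Module.Finite B (RingHom.ker (algebraMap B (B ⧸ 𝔫))).Cotangent := by
    have h : ∀ J : Ideal B, J = 𝔫 → Module.Finite B J.Cotangent := by
      rintro _ rfl
      infer_instance
    exact h _ (by rw [Ideal.Quotient.algebraMap_eq, Ideal.mk_ker])
  haveI : Module.Finite B (LinearMap.ker φ) := by
    rw [hkerφ]
    exact Module.Finite.range _
  haveI : Module.Finite B (((B ⧸ 𝔫) ⊗[B] Ω[B⁄A]) ⧸ LinearMap.ker φ) :=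
    Module.Finite.equiv (φ.quotKerEquivOfSurjective hφsurj).symm
  haveI hfin : Module.Finite B ((B ⧸ 𝔫) ⊗[B] Ω[B⁄A]) :=
    Module.Finite.of_submodule_quotient (LinearMap.ker φ)
  exact Module.Finite.equiv (TensorProduct.quotTensorEquivQuotSMul (Ω[B⁄A]) 𝔫)

end Aux

/-- Let A be a discrete ring, B an adic topological A-algebra with ideal of definition 𝔫 (B separated
and complete for the 𝔫-adic topology) and B₀ = B/𝔫. If Ω_{B₀/A} and 𝔫/𝔫² are B₀-modules of finite
type, then Ω̂_{B/A}, the 𝔫-adic completion of Ω_{B/A}, is a B-module of finite type. -/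
theorem result {A B : Type u} [CommRing A] [CommRing B] [Algebra A B] (𝔫 : Ideal B)
    [IsAdicComplete 𝔫 B] [Module.Finite (B ⧸ 𝔫) (Ω[B ⧸ 𝔫⁄A])] [Module.Finite (B ⧸ 𝔫) 𝔫.Cotangent] :
    Module.Finite B (AdicCompletion 𝔫 (Ω[B⁄A])) := by
  haveI : IsHausdorff 𝔫 𝔫 := isHausdorff_ideal 𝔫
  haveI : Module.Finite B (B ⧸ 𝔫) :=
    Module.Finite.of_surjective (Algebra.linearMap B (B ⧸ 𝔫)) Ideal.Quotient.mk_surjective
  haveI hcot : Module.Finite B 𝔫.Cotangent := Module.Finite.trans (B ⧸ 𝔫) _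
  haveI : Module.Finite B (𝔫 ⧸ (𝔫 • ⊤ : Submodule B 𝔫)) := hcot
  haveI : Module.Finite B 𝔫 := finite_of_quot_finite 𝔫 𝔫
  have hfg : 𝔫.FG := Module.Finite.iff_fg.mp inferInstance
  haveI := quot_finite' (A := A) 𝔫
  exact Groth.Agent.S4528.finite_adicCompletion 𝔫 hfg (Ω[B⁄A])

end Groth.Agent.S4558
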