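import Groth.Statements.S4560
import Mathlib

set_option linter.style.haveILetI false

set_option autoImplicit false
universe u
open EGA41

namespace Groth.Agent.S4560

section Aux

open TensorProduct

attribute [local instance] Algebra.TensorProduct.rightAlgebra

variable {A B : Type u} [CommRing A] [CommRing B] [Algebra A B]

/-- If `(A/I) ⊗ B` is formally unramified over `A/I` then `Ω[B/A] = I Ω[B/A]`. -/
theorem smul_top_of_unram (I : Ideal A)
    [Algebra.FormallyUnramified (A ⧸ I) ((A ⧸ I) ⊗[A] B)] :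
    I • (⊤ : Submodule A (Ω[B⁄A])) = ⊤ := by
  have h1 : Subsingleton ((A ⧸ I) ⊗[A] Ω[B⁄A]) :=
    (KaehlerDifferential.tensorKaehlerEquivBase A (A ⧸ I) B ((A ⧸ I) ⊗[A] B)).injective.subsingleton
  have h2 : Subsingleton ((Ω[B⁄A]) ⧸ (I • (⊤ : Submodule A (Ω[B⁄A])))) :=
    (TensorProduct.quotTensorEquivQuotSMul (Ω[B⁄A]) I).symm.injective.subsingleton
  exact Submodule.Quotient.subsingleton_iff.mp h2

/-- Conversely. -/
theorem unram_of_smul_top (I : Ideal A) (h : I • (⊤ : Submodule A (Ω[B⁄A])) = ⊤) :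
    Algebra.FormallyUnramified (A ⧸ I) ((A ⧸ I) ⊗[A] B) := by
  have h2 : Subsingleton ((Ω[B⁄A]) ⧸ (I • (⊤ : Submodule A (Ω[B⁄A])))) :=
    Submodule.Quotient.subsingleton_iff.mpr h
  have h1 : Subsingleton ((A ⧸ I) ⊗[A] Ω[B⁄A]) :=
    (TensorProduct.quotTensorEquivQuotSMul (Ω[B⁄A]) I).injective.subsingleton
  exact ⟨(KaehlerDifferential.tensorKaehlerEquivBase A (A ⧸ I) B
    ((A ⧸ I) ⊗[A] B)).symm.injective.subsingleton⟩

theorem pow_smul_top (I : Ideal A) (M : Type u) [AddCommGroup M] [Module A M]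
    (h : I • (⊤ : Submodule A M) = ⊤) (k : ℕ) : (I ^ k) • (⊤ : Submodule A M) = ⊤ := by
  induction k with
  | zero => rw [pow_zero, Ideal.one_eq_top, Submodule.top_smul]
  | succ k ih => rw [pow_succ, Submodule.mul_smul, h, ih]

end Aux

/-- Let A be a ring, 𝔪 an ideal of A, B an A-algebra; give A the 𝔪-adic topology and B the topology
deduced from it (the 𝔪B-adic topology), and put A₀ = A/𝔪, B₀ = B/𝔪B. Then B is a formally unramified
A-algebra (for these topologies: E discrete means killed by a power of 𝔪, and continuity of maps B →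
E is then automatic) if and only if Ω_{B₀/A₀} = 0, i.e. B₀ is a formally unramified A₀-algebra. -/
theorem result {A B : Type u} [CommRing A] [CommRing B] [Algebra A B] (𝔪 : Ideal A) :
    (∀ (E : Type u) [CommRing E] [Algebra A E], (∃ k : ℕ, (𝔪 ^ k).map (algebraMap A E) = ⊥) →
      ∀ J : Ideal E, IsNilpotent J → ∀ v₁ v₂ : B →ₐ[A] E,
        (∀ b : B, Ideal.Quotient.mk J (v₁ b) = Ideal.Quotient.mk J (v₂ b)) → v₁ = v₂) ↔
    Subsingleton (Ω[B ⧸ 𝔪.map (algebraMap A B)⁄A ⧸ 𝔪]) := by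
  constructor
  · intro hyp
    rw [← Algebra.formallyUnramified_iff, Algebra.FormallyUnramified.iff_comp_injective]
    intro C _ _ I hI f₁ f₂ hf
    letI : Algebra A C := ((algebraMap (A ⧸ 𝔪) C).comp (algebraMap A (A ⧸ 𝔪))).toAlgebra
    haveI : IsScalarTower A (A ⧸ 𝔪) C := IsScalarTower.of_algebraMap_eq' rfl
    have hk : (𝔪 ^ 1).map (algebraMap A C) = ⊥ := by
      rw [pow_one, Ideal.map_eq_bot_iff_le_ker]
      intro a ha
      rw [RingHom.mem_ker, IsScalarTower.algebraMap_apply A (A ⧸ 𝔪) C,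
        Ideal.Quotient.algebraMap_eq, Ideal.Quotient.eq_zero_iff_mem.mpr ha, map_zero]
    have key := hyp C ⟨1, hk⟩ I ⟨2, hI⟩
      ((f₁.restrictScalars A).comp (Ideal.Quotient.mkₐ A (𝔪.map (algebraMap A B))))
      ((f₂.restrictScalars A).comp (Ideal.Quotient.mkₐ A (𝔪.map (algebraMap A B))))
      (fun b => AlgHom.congr_fun hf (Ideal.Quotient.mk _ b))
    ext x
    obtain ⟨b, rfl⟩ := Ideal.Quotient.mk_surjective x
    exact AlgHom.congr_fun key b
  · intro hΩ E _ _ hE J hJ v₁ v₂ hv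
    obtain ⟨k, hk⟩ := hE
    haveI : Algebra.FormallyUnramified (A ⧸ 𝔪) (B ⧸ 𝔪.map (algebraMap A B)) := ⟨hΩ⟩
    haveI : Algebra.FormallyUnramified (A ⧸ 𝔪) (TensorProduct A (A ⧸ 𝔪) B) :=
      .of_equiv (Algebra.TensorProduct.quotIdealMapEquivQuotTensor B 𝔪)
    have h1 := smul_top_of_unram (A := A) (B := B) 𝔪
    have hk1 := pow_smul_top 𝔪 (Ω[B⁄A]) h1 k
    haveI := unram_of_smul_top (A := A) (B := B) (𝔪 ^ k) hk1
    have hkill : ∀ a ∈ 𝔪 ^ k, algebraMap A E a = 0 := fun a ha =>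
      (Ideal.map_eq_bot_iff_le_ker _).mp hk ha
    letI : Algebra (A ⧸ 𝔪 ^ k) E := (Ideal.Quotient.lift (𝔪 ^ k) (algebraMap A E) hkill).toAlgebra
    haveI : IsScalarTower A (A ⧸ 𝔪 ^ k) E := IsScalarTower.of_algebraMap_eq' (by ext a; rfl)
    let w₁ : TensorProduct A (A ⧸ 𝔪 ^ k) B →ₐ[A ⧸ 𝔪 ^ k] E :=
      Algebra.TensorProduct.lift (Algebra.ofId (A ⧸ 𝔪 ^ k) E) v₁ (fun _ _ => Commute.all _ _)
    let w₂ : TensorProduct A (A ⧸ 𝔪 ^ k) B →ₐ[A ⧸ 𝔪 ^ k] E :=
      Algebra.TensorProduct.lift (Algebra.ofId (A ⧸ 𝔪 ^ k) E) v₂ (fun _ _ => Commute.all _ _)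
    have hw : (Ideal.Quotient.mkₐ (A ⧸ 𝔪 ^ k) J).comp w₁ =
        (Ideal.Quotient.mkₐ (A ⧸ 𝔪 ^ k) J).comp w₂ := by
      apply Algebra.TensorProduct.ext'
      intro a b
      simp only [AlgHom.comp_apply, w₁, w₂, Algebra.TensorProduct.lift_tmul, map_mul,
        Ideal.Quotient.mkₐ_eq_mk]
      rw [hv b]
    have hww := Algebra.FormallyUnramified.lift_unique J hJ w₁ w₂ hw
    ext b
    have := AlgHom.congr_fun hww ((1 : A ⧸ 𝔪 ^ k) ⊗ₜ[A] b)
    simpa [w₁, w₂, Algebra.TensorProduct.lift_tmul] using this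

end Groth.Agent.S4560
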