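import Groth.Statements.S4559
import Mathlib
import Groth.Agent.S4560

set_option linter.style.haveILetI false

set_option autoImplicit false
universe u
open EGA41

namespace Groth.Agent.S4559

section Aux

open TensorProduct

variable {A B : Type u} [CommRing A] [CommRing B] [Algebra A B]

/-- If `B/I²` is formally unramified over `A` then `Ω[B/A] = I Ω[B/A]`. -/
theorem smul_top_of_quot_sq (I : Ideal B) [Algebra.FormallyUnramified A (B ⧸ I ^ 2)] :
    I • (⊤ : Submodule B (Ω[B⁄A])) = ⊤ := by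
  have hD : ∀ x ∈ I ^ 2, KaehlerDifferential.D A B x ∈ I • (⊤ : Submodule B (Ω[B⁄A])) := by
    intro x hx
    rw [pow_two] at hx
    refine Submodule.mul_induction_on hx ?_ ?_
    · intro y hy z hz
      rw [Derivation.leibniz]
      exact add_mem (Submodule.smul_mem_smul hy Submodule.mem_top)
        (Submodule.smul_mem_smul hz Submodule.mem_top)
    · intro y z hy hz
      rw [map_add]
      exact add_mem hy hz
  have hsurj : Function.Surjective (algebraMap B (B ⧸ I ^ 2)) := Ideal.Quotient.mk_surjective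
  have hex := KaehlerDifferential.exact_kerCotangentToTensor_mapBaseChange A B (B ⧸ I ^ 2) hsurj
  refine eq_top_iff.mpr (le_of_eq_of_le (KaehlerDifferential.span_range_derivation A B).symm
    (Submodule.span_le.mpr ?_))
  rintro _ ⟨b, rfl⟩
  have h0 : KaehlerDifferential.mapBaseChange A B (B ⧸ I ^ 2)
      ((1 : B ⧸ I ^ 2) ⊗ₜ[B] KaehlerDifferential.D A B b) = 0 := Subsingleton.elim _ _
  obtain ⟨c, hc⟩ := (hex _).mp h0
  obtain ⟨x, rfl⟩ := Ideal.toCotangent_surjective _ c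
  rw [KaehlerDifferential.kerCotangentToTensor_toCotangent] at hc
  have hx : (x : B) ∈ I ^ 2 := by
    have h : Ideal.Quotient.mk (I ^ 2) (x : B) = 0 := RingHom.mem_ker.mp x.2
    exact Ideal.Quotient.eq_zero_iff_mem.mp h
  have h1 : (1 : B ⧸ I ^ 2) ⊗ₜ[B]
      (KaehlerDifferential.D A B b - KaehlerDifferential.D A B x.1) = 0 := by
    rw [TensorProduct.tmul_sub, hc, sub_self]
  have h2 := congrArg (TensorProduct.quotTensorEquivQuotSMul (Ω[B⁄A]) (I ^ 2)) h1
  rw [map_zero, TensorProduct.quotTensorEquivQuotSMul_mk_one_tmul,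
    Submodule.Quotient.mk_eq_zero] at h2
  have h3 : KaehlerDifferential.D A B b - KaehlerDifferential.D A B x.1 ∈
      I • (⊤ : Submodule B (Ω[B⁄A])) :=
    Submodule.smul_mono_left (Ideal.pow_le_self two_ne_zero) h2
  have h4 := add_mem h3 (hD x.1 hx)
  rwa [sub_add_cancel] at h4

/-- If `Ω[B/A] = J Ω[B/A]` then `B/J` is formally unramified over `A`. -/
theorem unram_quot_of_smul_top (J : Ideal B) (h : J • (⊤ : Submodule B (Ω[B⁄A])) = ⊤) :
    Algebra.FormallyUnramified A (B ⧸ J) := by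
  have h2 : Subsingleton ((Ω[B⁄A]) ⧸ (J • (⊤ : Submodule B (Ω[B⁄A])))) :=
    Submodule.Quotient.subsingleton_iff.mpr h
  have h1 : Subsingleton ((B ⧸ J) ⊗[B] Ω[B⁄A]) :=
    (TensorProduct.quotTensorEquivQuotSMul (Ω[B⁄A]) J).injective.subsingleton
  exact ⟨(KaehlerDifferential.mapBaseChange_surjective A B (B ⧸ J)
    Ideal.Quotient.mk_surjective).subsingleton⟩

theorem subsingleton_adic_iff (I : Ideal B) (M : Type u) [AddCommGroup M] [Module B M] :
    Subsingleton (AdicCompletion I M) ↔ I • (⊤ : Submodule B M) = ⊤ := by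
  constructor
  · intro h
    have h1 : Subsingleton (M ⧸ (I ^ 1 • ⊤ : Submodule B M)) :=
      (AdicCompletion.eval_surjective I M 1).subsingleton
    rw [Submodule.Quotient.subsingleton_iff, pow_one] at h1
    exact h1
  · intro h
    refine ⟨fun x y => AdicCompletion.ext fun n => ?_⟩
    have : Subsingleton (M ⧸ (I ^ n • ⊤ : Submodule B M)) :=
      Submodule.Quotient.subsingleton_iff.mpr (Groth.Agent.S4560.pow_smul_top I M h n)
    exact Subsingleton.elim _ _

end Aux

/-- Let A be 𝔞-adic and B a topological A-algebra for the 𝔟-adic topology (a power of 𝔞 maps into 𝔟).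
Then B is a formally unramified A-algebra (for every homomorphism E → C of discrete A-algebras with
nilpotent kernel and every continuous u : B → C there is at most one continuous lift B → E; here E
discrete means killed by a power of 𝔞, and one may take C = E/J) if and only if the separated
completion of Ω_{B/A}, i.e. its 𝔟-adic completion, is zero. -/
theorem result {A B : Type u} [CommRing A] [CommRing B] [Algebra A B]
    (𝔞 : Ideal A) (𝔟 : Ideal B) (hAB : ∃ k : ℕ, (𝔞 ^ k).map (algebraMap A B) ≤ 𝔟) :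
    (∀ (E : Type u) [CommRing E] [Algebra A E], (∃ k : ℕ, (𝔞 ^ k).map (algebraMap A E) = ⊥) →
      ∀ J : Ideal E, IsNilpotent J → ∀ v₁ v₂ : B →ₐ[A] E,
        (∃ m : ℕ, ∀ x ∈ 𝔟 ^ m, v₁ x = 0) → (∃ m : ℕ, ∀ x ∈ 𝔟 ^ m, v₂ x = 0) →
        (∀ b : B, Ideal.Quotient.mk J (v₁ b) = Ideal.Quotient.mk J (v₂ b)) → v₁ = v₂) ↔
    Subsingleton (AdicCompletion 𝔟 (Ω[B⁄A])) := by
  constructor
  · intro hyp
    haveI : Algebra.FormallyUnramified A (B ⧸ 𝔟 ^ 2) := by
      rw [Algebra.FormallyUnramified.iff_comp_injective]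
      intro C _ _ I hI f₁ f₂ hf
      obtain ⟨k, hk⟩ := hAB
      have hkill : (𝔞 ^ (k * 2)).map (algebraMap A C) = ⊥ := by
        rw [Ideal.map_eq_bot_iff_le_ker]
        intro a ha
        rw [RingHom.mem_ker, ← f₁.commutes a]
        have hmem : algebraMap A B a ∈ 𝔟 ^ 2 := by
          have h1 : algebraMap A B a ∈ ((𝔞 ^ k) ^ 2).map (algebraMap A B) :=
            Ideal.mem_map_of_mem _ (by rwa [← pow_mul])
          rw [Ideal.map_pow] at h1
          exact Ideal.pow_right_mono hk 2 h1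
        rw [IsScalarTower.algebraMap_apply A B (B ⧸ 𝔟 ^ 2), Ideal.Quotient.algebraMap_eq,
          Ideal.Quotient.eq_zero_iff_mem.mpr hmem, map_zero]
      have key := hyp C ⟨k * 2, hkill⟩ I ⟨2, hI⟩
        (f₁.comp (Ideal.Quotient.mkₐ A (𝔟 ^ 2))) (f₂.comp (Ideal.Quotient.mkₐ A (𝔟 ^ 2)))
        ⟨2, fun x hx => by
          rw [AlgHom.comp_apply, Ideal.Quotient.mkₐ_eq_mk,
            Ideal.Quotient.eq_zero_iff_mem.mpr hx, map_zero]⟩
        ⟨2, fun x hx => by
          rw [AlgHom.comp_apply, Ideal.Quotient.mkₐ_eq_mk,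
            Ideal.Quotient.eq_zero_iff_mem.mpr hx, map_zero]⟩
        (fun b => AlgHom.congr_fun hf (Ideal.Quotient.mk _ b))
      ext x
      obtain ⟨b, rfl⟩ := Ideal.Quotient.mk_surjective x
      exact AlgHom.congr_fun key b
    have h1 := smul_top_of_quot_sq (A := A) 𝔟
    exact (subsingleton_adic_iff 𝔟 _).mpr h1
  · intro hsub E _ _ hE J hJ v₁ v₂ hv₁ hv₂ hv
    obtain ⟨m₁, h₁⟩ := hv₁
    obtain ⟨m₂, h₂⟩ := hv₂
    have htop := (subsingleton_adic_iff 𝔟 (Ω[B⁄A])).mp hsub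
    haveI : Algebra.FormallyUnramified A (B ⧸ 𝔟 ^ (m₁ + m₂)) :=
      unram_quot_of_smul_top _ (Groth.Agent.S4560.pow_smul_top 𝔟 _ htop _)
    have hk₁ : ∀ x ∈ 𝔟 ^ (m₁ + m₂), v₁ x = 0 := fun x hx =>
      h₁ x (Ideal.pow_le_pow_right (Nat.le_add_right _ _) hx)
    have hk₂ : ∀ x ∈ 𝔟 ^ (m₁ + m₂), v₂ x = 0 := fun x hx =>
      h₂ x (Ideal.pow_le_pow_right (Nat.le_add_left _ _) hx)
    let w₁ : B ⧸ 𝔟 ^ (m₁ + m₂) →ₐ[A] E := Ideal.Quotient.liftₐ _ v₁ hk₁
    let w₂ : B ⧸ 𝔟 ^ (m₁ + m₂) →ₐ[A] E := Ideal.Quotient.liftₐ _ v₂ hk₂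
    have hww : w₁ = w₂ := by
      apply Algebra.FormallyUnramified.ext J hJ
      intro x
      obtain ⟨b, rfl⟩ := Ideal.Quotient.mk_surjective x
      simpa [w₁, w₂] using hv b
    ext b
    have := AlgHom.congr_fun hww (Ideal.Quotient.mk _ b)
    simpa [w₁, w₂] using this

end Groth.Agent.S4559
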