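import Groth.Statements.S4561
import Mathlib

set_option linter.style.haveILetI false


set_option autoImplicit false
universe u
open EGA41

namespace Groth.Agent.S4561

section Aux

open MvPowerSeries

theorem decomp (p : ℕ) [Fact p.Prime] {k₀ K₀ : Type u} [Field k₀] [Field K₀] [Algebra k₀ K₀]
    (hfin : Module.Finite (Subfield.closure (Set.range fun x : k₀ => x ^ p)) k₀) :
    ∃ (m : ℕ) (b : Fin m → k₀),
      ∀ y ∈ Subfield.closure (Set.range (algebraMap k₀ K₀) ∪ Set.range fun y : K₀ => y ^ p),
        ∃ c : Fin m → Subfield.closure (Set.range fun y : K₀ => y ^ p),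
          ∑ j, (c j : K₀) * algebraMap k₀ K₀ (b j) = y := by
  classical
  have hα : Subfield.closure (Set.range fun x : k₀ => x ^ p) ≤
      (Subfield.closure (Set.range fun y : K₀ => y ^ p)).comap (algebraMap k₀ K₀) := by
    rw [Subfield.closure_le]
    rintro _ ⟨x, rfl⟩
    show algebraMap k₀ K₀ (x ^ p) ∈ Subfield.closure (Set.range fun y : K₀ => y ^ p)
    rw [map_pow]
    exact Subfield.subset_closure ⟨_, rfl⟩
  obtain ⟨m, b, hb⟩ := Module.Finite.exists_fin
    (R := Subfield.closure (Set.range fun x : k₀ => x ^ p)) (M := k₀)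
  refine ⟨m, b, ?_⟩
  let V : Submodule (Subfield.closure (Set.range fun y : K₀ => y ^ p)) K₀ :=
    Submodule.span _ (Set.range fun j => algebraMap k₀ K₀ (b j))
  have hβ : ∀ c : k₀, algebraMap k₀ K₀ c ∈ V := by
    intro c
    have hc : c ∈ Submodule.span (Subfield.closure (Set.range fun x : k₀ => x ^ p))
        (Set.range b) := by rw [hb]; trivial
    obtain ⟨w, hw⟩ := (Submodule.mem_span_range_iff_exists_fun _).mp hc
    rw [← hw, map_sum]
    refine Submodule.sum_mem _ fun j _ => ?_
    have e : algebraMap k₀ K₀ (w j • b j) =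
        (⟨algebraMap k₀ K₀ (w j : k₀), hα (w j).2⟩ :
          Subfield.closure (Set.range fun y : K₀ => y ^ p)) • algebraMap k₀ K₀ (b j) := by
      rw [Algebra.smul_def, Algebra.smul_def, map_mul]
      rfl
    rw [e]
    exact Submodule.smul_mem _ _ (Submodule.subset_span ⟨j, rfl⟩)
  have h1 : (1 : K₀) ∈ V := by
    have := hβ 1
    rwa [map_one] at this
  have hmul1 : ∀ j, ∀ y ∈ V, algebraMap k₀ K₀ (b j) * y ∈ V := by
    intro j y hy
    refine Submodule.span_induction (p := fun y _ => algebraMap k₀ K₀ (b j) * y ∈ V)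
      ?_ ?_ ?_ ?_ hy
    · rintro _ ⟨i, rfl⟩
      rw [← map_mul]
      exact hβ _
    · rw [mul_zero]
      exact V.zero_mem
    · intro x y _ _ hx hy
      rw [mul_add]
      exact V.add_mem hx hy
    · intro l x _ hx
      rw [mul_smul_comm]
      exact V.smul_mem l hx
  have hmul : ∀ x y, x ∈ V → y ∈ V → x * y ∈ V := by
    intro x y hx hy
    refine Submodule.span_induction (p := fun x _ => x * y ∈ V) ?_ ?_ ?_ ?_ hx
    · rintro _ ⟨j, rfl⟩
      exact hmul1 j y hy
    · rw [zero_mul]
      exact V.zero_mem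
    · intro a c _ _ ha hc
      rw [add_mul]
      exact V.add_mem ha hc
    · intro l a _ ha
      rw [smul_mul_assoc]
      exact V.smul_mem l ha
  have halg : ∀ y : K₀, IsAlgebraic (Subfield.closure (Set.range fun y : K₀ => y ^ p)) y := by
    intro y
    refine ⟨Polynomial.X ^ p - Polynomial.C
      (⟨y ^ p, Subfield.subset_closure ⟨y, rfl⟩⟩ :
        Subfield.closure (Set.range fun y : K₀ => y ^ p)), ?_, ?_⟩
    · exact Polynomial.X_pow_sub_C_ne_zero (Fact.out : p.Prime).pos _
    · rw [map_sub, map_pow, Polynomial.aeval_X, Polynomial.aeval_C]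
      exact sub_self _
  have hinv : ∀ x ∈ V.toSubalgebra h1 hmul, x⁻¹ ∈ V.toSubalgebra h1 hmul :=
    fun x hx => (V.toSubalgebra h1 hmul).inv_mem_of_algebraic (x := ⟨x, hx⟩) (halg x)
  have hle : Subfield.closure (Set.range (algebraMap k₀ K₀) ∪ Set.range fun y : K₀ => y ^ p) ≤
      ((V.toSubalgebra h1 hmul).toIntermediateField hinv).toSubfield := by
    rw [Subfield.closure_le]
    rintro _ (⟨c, rfl⟩ | ⟨y, rfl⟩)
    · exact hβ c
    · have e : y ^ p = (⟨y ^ p, Subfield.subset_closure ⟨y, rfl⟩⟩ :
          Subfield.closure (Set.range fun y : K₀ => y ^ p)) • (1 : K₀) := by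
        rw [Algebra.smul_def, mul_one]
        rfl
      show y ^ p ∈ V
      rw [e]
      exact V.smul_mem _ h1
  intro y hy
  have hyV : y ∈ V := hle hy
  obtain ⟨c, hc⟩ := (Submodule.mem_span_range_iff_exists_fun _).mp hyV
  refine ⟨c, ?_⟩
  rw [← hc]
  refine Finset.sum_congr rfl fun j _ => ?_
  rw [Algebra.smul_def]
  rfl

end Aux

/-- Let k₀ be a field of characteristic p > 0 with [k₀ : k₀^p] < ∞ and K₀ an extension of k₀. Inside
K₀((T_1, …, T_r)) one has (k₀(K₀^p))((T_1, …, T_r)) = k₀(K₀^p((T_1, …, T_r))); here, for a subfield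
F of K₀, F((T)) denotes the subfield of the fraction field of K₀[[T]] generated by the power series
with all coefficients in F. -/
theorem result (p : ℕ) [Fact p.Prime] {k₀ K₀ : Type u} [Field k₀] [Field K₀] [Algebra k₀ K₀] [CharP k₀ p]
    (hfin : Module.Finite (Subfield.closure (Set.range fun x : k₀ => x ^ p)) k₀) (r : ℕ) :
    Subfield.closure (algebraMap (MvPowerSeries (Fin r) K₀) (FractionRing (MvPowerSeries (Fin r) K₀)) ''
        {f | ∀ n, MvPowerSeries.coeff n f ∈
          Subfield.closure (Set.range (algebraMap k₀ K₀) ∪ Set.range fun y : K₀ => y ^ p)}) =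
      Subfield.closure
        (Set.range (algebraMap k₀ (FractionRing (MvPowerSeries (Fin r) K₀))) ∪
          (Subfield.closure (algebraMap (MvPowerSeries (Fin r) K₀) (FractionRing (MvPowerSeries (Fin r) K₀)) ''
            {f | ∀ n, MvPowerSeries.coeff n f ∈ Subfield.closure (Set.range fun y : K₀ => y ^ p)}) :
            Set (FractionRing (MvPowerSeries (Fin r) K₀)))) := by
  classical
  obtain ⟨m, b, hdec⟩ := decomp p (K₀ := K₀) hfin
  have halg : ∀ c : k₀, algebraMap k₀ (FractionRing (MvPowerSeries (Fin r) K₀)) c =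
      algebraMap (MvPowerSeries (Fin r) K₀) (FractionRing (MvPowerSeries (Fin r) K₀))
        (MvPowerSeries.C (algebraMap k₀ K₀ c)) := by
    intro c
    rw [IsScalarTower.algebraMap_apply k₀ (MvPowerSeries (Fin r) K₀)
      (FractionRing (MvPowerSeries (Fin r) K₀)), MvPowerSeries.algebraMap_apply]
  apply le_antisymm
  · rw [Subfield.closure_le]
    rintro _ ⟨f, hf, rfl⟩
    choose c hc using fun n => hdec (MvPowerSeries.coeff n f) (hf n)
    let fj : Fin m → MvPowerSeries (Fin r) K₀ := fun j n =>
      ((c n j : Subfield.closure (Set.range fun y : K₀ => y ^ p)) : K₀)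
    have e : f = ∑ j, MvPowerSeries.C (σ := Fin r) (algebraMap k₀ K₀ (b j)) * fj j := by
      ext n
      rw [map_sum, ← hc n]
      refine Finset.sum_congr rfl fun j _ => ?_
      rw [MvPowerSeries.coeff_C_mul, mul_comm]
      rfl
    rw [SetLike.mem_coe, e, map_sum]
    refine sum_mem fun j _ => ?_
    rw [map_mul, ← halg]
    refine mul_mem (Subfield.subset_closure (Or.inl ⟨b j, rfl⟩)) ?_
    refine Subfield.subset_closure (Or.inr (Subfield.subset_closure ⟨_, ?_, rfl⟩))
    intro n
    exact (c n j).2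
  · rw [Subfield.closure_le]
    rintro x (⟨c, rfl⟩ | hx)
    · rw [SetLike.mem_coe, halg]
      refine Subfield.subset_closure ⟨_, ?_, rfl⟩
      intro n
      rw [MvPowerSeries.coeff_C]
      split_ifs
      · exact Subfield.subset_closure (Or.inl ⟨c, rfl⟩)
      · exact zero_mem _
    · refine Subfield.closure_mono (Set.image_mono ?_) hx
      intro f hf
      rw [Set.mem_setOf_eq] at hf ⊢
      intro n
      exact Subfield.closure_mono Set.subset_union_right (hf n)

end Groth.Agent.S4561
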