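import Groth.Statements.S4562
import Mathlib

set_option autoImplicit false
universe u
open CAlg IntermediateField

namespace Groth.Agent.S4562

lemma pi_fixed (K N : Type*) [Field K] [Field N] [Algebra K N] [Normal K N]
    [FiniteDimensional K N] :
    IsPurelyInseparable K (IntermediateField.fixedField (⊤ : Subgroup (N ≃ₐ[K] N))) := by
  rw [isPurelyInseparable_iff]
  intro x
  refine ⟨Algebra.IsIntegral.isIntegral x, fun hsep => ?_⟩
  have hx : ∀ σ : N ≃ₐ[K] N, σ (x : N) = x := fun σ =>
    (IntermediateField.mem_fixedField_iff _ _).mp x.2 σ (Subgroup.mem_top σ)
  have hmin : minpoly K x = minpoly K (x : N) := IntermediateField.minpoly_eq x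
  have hsep' : (minpoly K (x : N)).Separable := by
    rw [← hmin]
    exact hsep
  have hsplit : ((minpoly K (x : N)).map (algebraMap K N)).Splits :=
    Normal.splits inferInstance (x : N)
  have hcard := Polynomial.card_rootSet_eq_natDegree hsep' hsplit
  have hsub : ∀ y ∈ (minpoly K (x : N)).rootSet N, y = (x : N) := by
    intro y hy
    have hy' : Polynomial.aeval y (minpoly K (x : N)) = 0 := (Polynomial.mem_rootSet.mp hy).2
    obtain ⟨σ, hσ⟩ := minpoly.exists_algEquiv_of_root'
      (Algebra.IsAlgebraic.isAlgebraic (x : N)) hy'
    rw [← hσ, hx σ]
  have hle : Fintype.card ((minpoly K (x : N)).rootSet N) ≤ 1 := by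
    rw [Fintype.card_le_one_iff]
    rintro ⟨a, ha⟩ ⟨b, hb⟩
    exact Subtype.ext ((hsub a ha).trans (hsub b hb).symm)
  have hpos := minpoly.natDegree_pos (Algebra.IsIntegral.isIntegral (R := K) (x : N))
  have h1 : (minpoly K x).natDegree = 1 := by
    rw [hmin]
    omega
  exact minpoly.natDegree_eq_one_iff.mp h1

lemma finite_of_sep (A K K' N : Type*) [CommRing A] [IsDomain A] [IsNoetherianRing A]
    [Field K] [Algebra A K] [IsFractionRing A K]
    [Field K'] [Algebra A K'] [Algebra K K'] [IsScalarTower A K K'] [FiniteDimensional K K']
    [Field N] [Algebra A N] [Algebra K' N] [IsScalarTower A K' N]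
    [FiniteDimensional K' N] [Algebra.IsSeparable K' N]
    (hfin : Module.Finite A (integralClosure A K')) : Module.Finite A (integralClosure A N) := by
  have : IsFractionRing (integralClosure A K') K' :=
    integralClosure.isFractionRing_of_finite_extension K K'
  have : IsIntegrallyClosed (integralClosure A K') :=
    integralClosure.isIntegrallyClosedOfFiniteExtension K
  have : IsNoetherianRing (integralClosure A K') :=
    Algebra.FiniteType.isNoetherianRing A (integralClosure A K')
  have : Module.Finite (integralClosure A K') (integralClosure (integralClosure A K') N) :=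
    IsIntegralClosure.finite (integralClosure A K') K' N (integralClosure (integralClosure A K') N)
  have : Module.Finite A (integralClosure (integralClosure A K') N) :=
    Module.Finite.trans (integralClosure A K') _
  have : IsNoetherian A (integralClosure (integralClosure A K') N) :=
    isNoetherian_of_isNoetherianRing_of_finite A _
  let f : integralClosure A N →ₗ[A] integralClosure (integralClosure A K') N :=
    { toFun := fun x => ⟨x.1, IsIntegral.tower_top x.2⟩
      map_add' := fun x y => rfl
      map_smul' := fun a x => rfl }
  exact Module.Finite.of_injective f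
    (fun x y hxy => Subtype.ext (by
      have h := congrArg Subtype.val hxy
      exact h))

lemma finite_of_le (A L N : Type*) [CommRing A] [IsNoetherianRing A] [Field L] [Field N]
    [Algebra A L] [Algebra A N] [Algebra L N] [IsScalarTower A L N]
    (h : Module.Finite A (integralClosure A N)) : Module.Finite A (integralClosure A L) := by
  have : IsNoetherian A (integralClosure A N) := isNoetherian_of_isNoetherianRing_of_finite A _
  let f : integralClosure A L →ₗ[A] integralClosure A N :=
    { toFun := fun x => ⟨algebraMap L N x.1, x.2.algebraMap⟩
      map_add' := fun x y => Subtype.ext (map_add _ _ _)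
      map_smul' := fun a x => Subtype.ext (map_smul (IsScalarTower.toAlgHom A L N) a x.1) }
  exact Module.Finite.of_injective f
    (fun x y hxy => Subtype.ext ((algebraMap L N).injective
      (by
        have h := congrArg Subtype.val hxy
        exact h)))

end Groth.Agent.S4562

namespace Groth.Agent.S4562

/-- Let A be a Noetherian domain with fraction field K. If the integral closure of A in every finite
purely inseparable extension of K is a finitely generated A-module, then A is Japanese (N-2). -/
theorem result (A : Type u) [CommRing A] [IsDomain A]
    [IsNoetherianRing A]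
    (h : ∀ (K' : Type u) [Field K'] [Algebra A K'] [Algebra (FractionRing A) K']
      [IsScalarTower A (FractionRing A) K'], FiniteDimensional (FractionRing A) K' →
      IsPurelyInseparable (FractionRing A) K' → Module.Finite A (integralClosure A K')) :
    CAlg.IsN2 A := by
  intro L _ _ _ _ hfd
  have : Algebra.IsAlgebraic (FractionRing A) L := Algebra.IsAlgebraic.of_finite _ _
  have : IsAlgClosure (FractionRing A) (AlgebraicClosure L) :=
    IsAlgClosure.ofAlgebraic (FractionRing A) L (AlgebraicClosure L)
  have : Normal (FractionRing A) (AlgebraicClosure L) := IsAlgClosure.normal _ _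
  obtain ⟨N, hN⟩ : ∃ N : IntermediateField (FractionRing A) (AlgebraicClosure L),
    N = normalClosure (FractionRing A) L (AlgebraicClosure L) := ⟨_, rfl⟩
  subst hN
  have hpi := pi_fixed (FractionRing A) (normalClosure (FractionRing A) L (AlgebraicClosure L))
  have hgal : IsGalois (IntermediateField.fixedField
      (⊤ : Subgroup (normalClosure (FractionRing A) L (AlgebraicClosure L) ≃ₐ[FractionRing A]
        normalClosure (FractionRing A) L (AlgebraicClosure L))))
      (normalClosure (FractionRing A) L (AlgebraicClosure L)) := by
    classical
    exact IsGalois.of_fixed_field _ (⊤ : Subgroup _)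
  have : IsScalarTower A (IntermediateField.fixedField
      (⊤ : Subgroup (normalClosure (FractionRing A) L (AlgebraicClosure L) ≃ₐ[FractionRing A]
        normalClosure (FractionRing A) L (AlgebraicClosure L))))
      (normalClosure (FractionRing A) L (AlgebraicClosure L)) :=
    IsScalarTower.of_algebraMap_eq (fun x => rfl)
  have : IsScalarTower A L (normalClosure (FractionRing A) L (AlgebraicClosure L)) :=
    IsScalarTower.of_algebraMap_eq (fun x => by
      rw [IsScalarTower.algebraMap_apply A (FractionRing A)
          (normalClosure (FractionRing A) L (AlgebraicClosure L)),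
        IsScalarTower.algebraMap_apply A (FractionRing A) L,
        ← IsScalarTower.algebraMap_apply (FractionRing A) L
          (normalClosure (FractionRing A) L (AlgebraicClosure L))])
  have h1 := h (IntermediateField.fixedField
      (⊤ : Subgroup (normalClosure (FractionRing A) L (AlgebraicClosure L) ≃ₐ[FractionRing A]
        normalClosure (FractionRing A) L (AlgebraicClosure L)))) inferInstance hpi
  have h2 := finite_of_sep A (FractionRing A) (IntermediateField.fixedField
      (⊤ : Subgroup (normalClosure (FractionRing A) L (AlgebraicClosure L) ≃ₐ[FractionRing A]
        normalClosure (FractionRing A) L (AlgebraicClosure L))))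
      (normalClosure (FractionRing A) L (AlgebraicClosure L)) h1
  exact finite_of_le A L (normalClosure (FractionRing A) L (AlgebraicClosure L)) h2

end Groth.Agent.S4562
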