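import Groth.Statements.S4569
import Mathlib

set_option autoImplicit false
universe u
open CAlg

namespace Groth.Agent.S4569

theorem key {A : Type u} [CommRing A] (x : A)
    (hx : x ∈ nonZeroDivisors A) [hp : (Ideal.span ({x} : Set A)).IsPrime] :
    ∀ (n : ℕ) (u a : A), u ∉ Ideal.span ({x} : Set A) → x ^ n ∣ u * a → x ^ n ∣ a := by
  intro n
  induction n with
  | zero => intro u a _ _; simp
  | succ n ih =>
    intro u a hu h
    have h1 : u * a ∈ Ideal.span ({x} : Set A) := by
      rw [Ideal.mem_span_singleton]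
      exact dvd_trans (dvd_pow_self x (Nat.succ_ne_zero n)) h
    have h2 : a ∈ Ideal.span ({x} : Set A) := (hp.mem_or_mem h1).resolve_left hu
    rw [Ideal.mem_span_singleton] at h2
    obtain ⟨a', rfl⟩ := h2
    obtain ⟨c, hc⟩ := h
    have h3 : x * (u * a') = x * (x ^ n * c) := by
      rw [pow_succ] at hc
      calc x * (u * a') = u * (x * a') := by ring
        _ = x ^ n * x * c := hc
        _ = x * (x ^ n * c) := by ring
    have h4 : u * a' = x ^ n * c := (mul_cancel_left_mem_nonZeroDivisors hx).mp h3
    have h5 := ih u a' hu ⟨c, h4⟩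
    rw [pow_succ, mul_comm]
    exact mul_dvd_mul_left x h5

/-- Let A be a ring, x a non-zero-divisor of A with p = xA prime. For every n > 0 the inverse image in A
of x^n A_p is x^n A. -/
theorem result {A : Type u} [CommRing A] (x : A)
    (hx : x ∈ nonZeroDivisors A) [(Ideal.span ({x} : Set A)).IsPrime] (n : ℕ) (hn : 0 < n) :
    Ideal.comap (algebraMap A (Localization.AtPrime (Ideal.span ({x} : Set A))))
      (Ideal.map (algebraMap A (Localization.AtPrime (Ideal.span ({x} : Set A)))) (Ideal.span ({x ^ n} : Set A))) =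
      Ideal.span ({x ^ n} : Set A) := by
  apply le_antisymm
  · intro a ha
    rw [Ideal.mem_comap, IsLocalization.mem_map_algebraMap_iff
      (Ideal.span ({x} : Set A)).primeCompl] at ha
    obtain ⟨⟨⟨i, hi⟩, ⟨m, hm⟩⟩, h⟩ := ha
    simp only at h
    rw [← map_mul, IsLocalization.eq_iff_exists (Ideal.span ({x} : Set A)).primeCompl] at h
    obtain ⟨⟨c, hc⟩, h⟩ := h
    simp only at h
    rw [Ideal.mem_span_singleton] at hi ⊢
    have hcm : c * m ∉ Ideal.span ({x} : Set A) := by
      intro hcm
      rcases Ideal.IsPrime.mem_or_mem inferInstance hcm with h' | h'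
      · exact hc h'
      · exact hm h'
    apply key x hx n (c * m) a hcm
    have : c * m * a = c * i := by rw [← h]; ring
    rw [this]
    exact Dvd.dvd.mul_left hi c
  · rw [← Ideal.map_le_iff_le_comap]

end Groth.Agent.S4569
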