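import Groth.Statements.S4575
import Groth.Agent.H29.RegParam

set_option autoImplicit false
universe u
open IsLocalRing
open EGA41

namespace Groth.Agent.S4575

/-- Let R be a regular local ring with maximal ideal m and n a proper ideal with R/n regular. Then
(n/n²) ⊗_R K → (m/m²) ⊗_R K is injective, K the residue field; stated in the equivalent form n ∩ m²
= m·n (the kernel of n/mn → m/m² is (n ∩ m²)/mn). -/
theorem result {R : Type u} [CommRing R] [IsRegularLocalRing R]
    (n : Ideal R) (hn : n ≠ ⊤) (hreg : IsRegularRing (R ⧸ n)) :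
    n ⊓ maximalIdeal R ^ 2 = maximalIdeal R * n := by
  open Groth.Agent.H29 in
  set_option linter.style.haveILetI false in
  haveI : IsLocalRing (R ⧸ n) := isLocalRing_quotient_of_ne_top R n hn
  haveI : IsRegularLocalRing (R ⧸ n) := by
    have h1 : IsRegularLocalRing (Localization.AtPrime (maximalIdeal (R ⧸ n))) :=
      hreg.isRegularLocalRing_localization _
    have e : (R ⧸ n) ≃ₐ[R ⧸ n] Localization.AtPrime (maximalIdeal (R ⧸ n)) :=
      IsLocalization.atUnits (R ⧸ n) (maximalIdeal (R ⧸ n)).primeCompl (by
        intro u hu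
        exact IsLocalRing.notMem_maximalIdeal.mp hu)
    exact IsRegularLocalRing.of_ringEquiv e.symm.toRingEquiv
  obtain ⟨c, x, hli, hI⟩ := exists_linearIndependent_generators R n
  apply le_antisymm
  · intro f hf
    obtain ⟨hfn, hfm⟩ := Ideal.mem_inf.mp hf
    have hfn' : f ∈ Ideal.span (Set.range fun i => (x i : R)) := by rw [← hI]; exact hfn
    obtain ⟨a, ha⟩ := Ideal.mem_span_range_iff_exists_fun.mp hfn'
    have hfm' : f ∈ maximalIdeal R := Ideal.pow_le_self two_ne_zero hfm
    have h0 : (maximalIdeal R).toCotangent ⟨f, hfm'⟩ = 0 :=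
      (Ideal.toCotangent_eq_zero _ _).mpr hfm
    have hsum : (⟨f, hfm'⟩ : maximalIdeal R) = ∑ i, a i • x i := by
      apply Subtype.ext
      show f = ((∑ i, a i • x i : maximalIdeal R) : R)
      rw [← ha]
      simp
    rw [hsum, map_sum] at h0
    simp only [map_smul] at h0
    have h0' : ∑ i, (algebraMap R (ResidueField R) (a i)) •
        (maximalIdeal R).toCotangent (x i) = 0 := by
      rw [← h0]
      exact Finset.sum_congr rfl fun i _ => algebraMap_smul _ _ _
    have hz := Fintype.linearIndependent_iff.mp hli _ h0'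
    have ham : ∀ i, a i ∈ maximalIdeal R := fun i => by
      have := hz i
      rwa [IsLocalRing.ResidueField.algebraMap_eq, IsLocalRing.residue_eq_zero_iff] at this
    rw [← ha]
    refine Ideal.sum_mem _ fun i _ => Ideal.mul_mem_mul (ham i) ?_
    rw [hI]
    exact Ideal.subset_span ⟨i, rfl⟩
  · intro f hf
    refine Ideal.mem_inf.mpr ⟨Ideal.mul_le_right hf, ?_⟩
    rw [pow_two]
    exact Ideal.mul_mono_right (IsLocalRing.le_maximalIdeal hn) hf

end Groth.Agent.S4575
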