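import Groth.Statements.S4577
import Mathlib

set_option autoImplicit false
universe u
open EGA41

namespace Groth.Agent.S4577

open scoped TensorProduct

theorem projective_of_flat_of_fg_ker {C : Type*} [CommRing C] {P W : Type*} [AddCommGroup P]
    [Module C P] [AddCommGroup W] [Module C W] [Module.Projective C P] [Module.Flat C W]
    (g : P →ₗ[C] W) (hg : Function.Surjective g) (hfg : (LinearMap.ker g).FG) :
    Module.Projective C W := by
  classical
  obtain ⟨s, hs⟩ := Module.projective_def'.mp (inferInstance : Module.Projective C P)
  obtain ⟨G, hG⟩ := hfg
  let T : Finset P := G.biUnion (fun x => (s x).support)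
  have hT : ∀ x ∈ LinearMap.ker g, ∀ p ∈ (s x).support, p ∈ T := by
    intro x hx
    rw [← hG] at hx
    induction hx using Submodule.span_induction with
    | mem x hx =>
      intro p hp
      exact Finset.mem_biUnion.mpr ⟨x, hx, hp⟩
    | zero =>
      intro p hp
      simp at hp
    | add x y _ _ ihx ihy =>
      intro p hp
      rw [map_add] at hp
      rcases Finset.mem_union.mp (Finsupp.support_add hp) with h | h
      · exact ihx p h
      · exact ihy p h
    | smul c x _ ihx =>
      intro p hp
      rw [map_smul] at hp
      exact ihx p (Finsupp.support_smul hp)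
  let π₀ : (↥(T : Set P) →₀ C) →ₗ[C] P :=
    Finsupp.linearCombination C (fun t : ↥(T : Set P) => (t : P))
  let a' : P →ₗ[C] (↥(T : Set P) →₀ C) := (Finsupp.lsubtypeDomain (T : Set P)).comp s
  have hπa : ∀ x ∈ LinearMap.ker g, π₀ (a' x) = x := by
    intro x hx
    have h1 : (Finsupp.linearCombination C id) (s x) = x := by
      have := LinearMap.congr_fun hs x
      simpa using this
    conv_rhs => rw [← h1]
    show Finsupp.linearCombination C _ (Finsupp.subtypeDomain (fun p => p ∈ (T : Set P)) (s x)) = _
    rw [Finsupp.linearCombination_apply, Finsupp.linearCombination_apply]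
    exact Finsupp.sum_subtypeDomain_index (h := fun p c => c • p) (fun p hp => hT x hx p hp)
  have : Module.Finite C (LinearMap.ker g) := Module.Finite.of_fg ⟨G, hG⟩
  let f : LinearMap.ker g →ₗ[C] (↥(T : Set P) →₀ C) := a'.comp (LinearMap.ker g).subtype
  have hxf : (g.comp π₀).comp f = 0 := by
    ext x
    show g (π₀ (a' x.1)) = 0
    rw [hπa x.1 x.2]
    exact x.2
  obtain ⟨k, a, y, hya, haf⟩ := Module.Flat.exists_factorization_of_comp_eq_zero_of_free hxf
  obtain ⟨y', hy'⟩ := Module.projective_lifting_property g y hg
  let θ : P →ₗ[C] P := (π₀ - y'.comp a).comp a'
  have hgθ : ∀ p, g (θ p) = 0 := by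
    intro p
    show g (π₀ (a' p) - y' (a (a' p))) = 0
    rw [map_sub]
    have h1 : g (π₀ (a' p)) = y (a (a' p)) := LinearMap.congr_fun hya (a' p)
    have h2 : g (y' (a (a' p))) = y (a (a' p)) := LinearMap.congr_fun hy' (a (a' p))
    rw [h1, h2, sub_self]
  have hθN : ∀ x ∈ LinearMap.ker g, θ x = x := by
    intro x hx
    show π₀ (a' x) - y' (a (a' x)) = x
    have h1 : a (a' x) = 0 := LinearMap.congr_fun haf ⟨x, hx⟩
    rw [h1, map_zero, sub_zero, hπa x hx]
  let ψ : P →ₗ[C] P := LinearMap.id - θ
  have hψ : LinearMap.ker g ≤ LinearMap.ker ψ := by
    intro x hx
    show x - θ x = 0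
    rw [hθN x hx, sub_self]
  let i : W →ₗ[C] P :=
    ((LinearMap.ker g).liftQ ψ hψ).comp (g.quotKerEquivOfSurjective hg).symm.toLinearMap
  refine Module.Projective.of_split i g ?_
  ext w
  obtain ⟨p, rfl⟩ := hg w
  show g (((LinearMap.ker g).liftQ ψ hψ) ((g.quotKerEquivOfSurjective hg).symm (g p))) = g p
  rw [LinearMap.quotKerEquivOfSurjective_symm_apply, Submodule.liftQ_apply]
  show g (p - θ p) = g p
  rw [map_sub, hgθ, sub_zero]

end Groth.Agent.S4577

namespace Groth.Agent.S4577

/-- Let B be a formally smooth A-algebra (discrete topologies) and C = B/J a quotient with J/J² finitely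
generated. Then C is formally smooth over A if and only if C_m is formally smooth over A for every
maximal ideal m of C (hence also if and only if every C_p, p prime, is). (Not stated: the variant of
the localised condition with C_m formally smooth over A_q, q the contraction of m to A, and the
further assertion that for B Noetherian the discrete topologies in the localised condition may be
replaced by the adic ones.) -/
theorem result {A B C : Type u} [CommRing A] [CommRing B] [CommRing C]
    [Algebra A B] [Algebra B C] [Algebra A C] [IsScalarTower A B C] [Algebra.FormallySmooth A B]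
    (hsurj : Function.Surjective (algebraMap B C)) [Module.Finite B (RingHom.ker (algebraMap B C)).Cotangent] :
    Algebra.FormallySmooth A C ↔
      ∀ (m : Ideal C) [m.IsMaximal], Algebra.FormallySmooth A (Localization.AtPrime m) := by
  constructor
  · intro h m _
    infer_instance
  · intro h
    have hH1 : Subsingleton (Algebra.H1Cotangent A C) := by
      refine Module.subsingleton_of_localization_maximal
        (fun (m : Ideal C) [m.IsMaximal] => Algebra.H1Cotangent A (Localization.AtPrime m))
        (fun (m : Ideal C) [m.IsMaximal] =>
          Algebra.H1Cotangent.map A A C (Localization.AtPrime m)) ?_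
      intro m _
      have := h m
      infer_instance
    have hflat : Module.Flat C Ω[C⁄A] := by
      refine Module.flat_of_isLocalized_maximal C Ω[C⁄A]
        (fun (m : Ideal C) [m.IsMaximal] => Ω[Localization.AtPrime m⁄A])
        (fun (m : Ideal C) [m.IsMaximal] =>
          KaehlerDifferential.map A A C (Localization.AtPrime m)) ?_
      intro m _
      have := h m
      exact Module.Flat.trans C (Localization.AtPrime m) _
    have hproj : Module.Projective C Ω[C⁄A] := by
      have hfg : (LinearMap.ker (KaehlerDifferential.mapBaseChange A B C)).FG := by
        obtain ⟨G, hG⟩ := (Module.Finite.fg_top :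
          (⊤ : Submodule B (RingHom.ker (algebraMap B C)).Cotangent).FG)
        have hr := KaehlerDifferential.range_kerCotangentToTensor A B C hsurj
        have hmem : ∀ n ∈ Submodule.span B (G : Set (RingHom.ker (algebraMap B C)).Cotangent),
            KaehlerDifferential.kerCotangentToTensor A B C n ∈
              Submodule.span C ((KaehlerDifferential.kerCotangentToTensor A B C) '' (G : Set _)) := by
          intro n hn
          induction hn using Submodule.span_induction with
          | mem n hn => exact Submodule.subset_span ⟨n, hn, rfl⟩
          | zero =>
            rw [map_zero]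
            exact Submodule.zero_mem _
          | add n₁ n₂ _ _ h₁ h₂ =>
            rw [map_add]
            exact Submodule.add_mem _ h₁ h₂
          | smul b n _ hn =>
            rw [map_smul, ← algebraMap_smul C b]
            exact Submodule.smul_mem _ _ hn
        have heq : LinearMap.ker (KaehlerDifferential.mapBaseChange A B C) =
            Submodule.span C ((KaehlerDifferential.kerCotangentToTensor A B C) '' (G : Set _)) := by
          apply le_antisymm
          · intro x hx
            have hx' : x ∈ (LinearMap.ker (KaehlerDifferential.mapBaseChange A B C)).restrictScalars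
                B := hx
            rw [← hr] at hx'
            obtain ⟨n, rfl⟩ := hx'
            exact hmem n (by rw [hG]; trivial)
          · rw [Submodule.span_le]
            rintro _ ⟨n, _, rfl⟩
            have hn : KaehlerDifferential.kerCotangentToTensor A B C n ∈
                (LinearMap.ker (KaehlerDifferential.mapBaseChange A B C)).restrictScalars B := by
              rw [← hr]
              exact ⟨n, rfl⟩
            exact hn
        rw [heq]
        exact Submodule.fg_span ((G.finite_toSet).image _)
      exact projective_of_flat_of_fg_ker (KaehlerDifferential.mapBaseChange A B C)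
        (KaehlerDifferential.mapBaseChange_surjective A B C hsurj) hfg
    exact ⟨hproj, hH1⟩

end Groth.Agent.S4577
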