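import Groth.Statements.S4581
import Mathlib
import Groth.Agent.S3441

set_option autoImplicit false
universe u
open EGA41

namespace Groth.Agent.S4581

open TensorProduct KaehlerDifferential

section
variable (Λ : Type u) {A : Type u} [CommRing Λ] [CommRing A] [Algebra Λ A] (I : Ideal A)

theorem d_mem (n : ℕ) (x : A) (hx : x ∈ I ^ (n + 1)) :
    KaehlerDifferential.D Λ A x ∈ (I ^ n • ⊤ : Submodule A Ω[A⁄Λ]) := by
  induction n generalizing x with
  | zero =>
    rw [pow_zero, Ideal.one_eq_top, Submodule.top_smul]; exact Submodule.mem_top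
  | succ n ih =>
    rw [pow_succ] at hx
    refine Submodule.mul_induction_on hx ?_ ?_
    · intro y hy z hz
      rw [Derivation.leibniz]
      refine Submodule.add_mem _ ?_ ?_
      · exact Submodule.smul_mem_smul hy Submodule.mem_top
      · have h1 := ih y hy
        rw [pow_succ', Submodule.mul_smul]
        exact Submodule.smul_mem_smul hz h1
    · intro y z hy hz
      rw [map_add]; exact Submodule.add_mem _ hy hz

theorem mem_pow_of_smodEq {n : ℕ} {x y : A} (h : x ≡ y [SMOD (I ^ n • ⊤ : Submodule A A)]) :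
    x - y ∈ I ^ n := by
  rw [SModEq.sub_mem] at h
  simpa using h

/-- derivative of a Cauchy sequence -/
noncomputable def dseq (a : AdicCompletion.AdicCauchySequence I A) :
    AdicCompletion.AdicCauchySequence I Ω[A⁄Λ] :=
  ⟨fun n => KaehlerDifferential.D Λ A (a (n + 1)), by
    intro m n hmn
    rw [SModEq.sub_mem, ← map_sub]
    exact d_mem Λ I m _ (mem_pow_of_smodEq I (a.property (Nat.succ_le_succ hmn)))⟩

theorem dseq_apply (a : AdicCompletion.AdicCauchySequence I A) (n : ℕ) :
    dseq Λ I a n = KaehlerDifferential.D Λ A (a (n + 1)) := rfl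

theorem dseq_wd (a b : AdicCompletion.AdicCauchySequence I A)
    (h : AdicCompletion.mk I A a = AdicCompletion.mk I A b) :
    AdicCompletion.mk I Ω[A⁄Λ] (dseq Λ I a) = AdicCompletion.mk I Ω[A⁄Λ] (dseq Λ I b) := by
  apply AdicCompletion.ext
  intro n
  rw [AdicCompletion.mk_apply_coe, AdicCompletion.mk_apply_coe, Submodule.mkQ_apply,
    Submodule.mkQ_apply, Submodule.Quotient.eq, dseq_apply, dseq_apply, ← map_sub]
  apply d_mem
  have h1 := congrArg (fun x => x.val (n + 1)) h
  simp only [AdicCompletion.mk_apply_coe, Submodule.mkQ_apply] at h1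
  rw [Submodule.Quotient.eq] at h1
  simpa using h1

noncomputable def rep (x : AdicCompletion I A) : AdicCompletion.AdicCauchySequence I A :=
  Classical.choose (AdicCompletion.mk_surjective I A x)

theorem mk_rep (x : AdicCompletion I A) : AdicCompletion.mk I A (rep I x) = x :=
  Classical.choose_spec (AdicCompletion.mk_surjective I A x)

noncomputable def dhat (x : AdicCompletion I A) : AdicCompletion I Ω[A⁄Λ] :=
  AdicCompletion.mk I _ (dseq Λ I (rep I x))

theorem dhat_mk (a : AdicCompletion.AdicCauchySequence I A) :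
    dhat Λ I (AdicCompletion.mk I A a) = AdicCompletion.mk I _ (dseq Λ I a) :=
  dseq_wd Λ I _ _ (mk_rep I _)

theorem dhat_add (x y : AdicCompletion I A) :
    dhat Λ I (x + y) = dhat Λ I x + dhat Λ I y := by
  obtain ⟨a, rfl⟩ := AdicCompletion.mk_surjective I A x
  obtain ⟨b, rfl⟩ := AdicCompletion.mk_surjective I A y
  rw [← map_add, dhat_mk, dhat_mk, dhat_mk, ← map_add]
  congr 1
  apply AdicCompletion.AdicCauchySequence.ext
  intro n
  show KaehlerDifferential.D Λ A (a (n + 1) + b (n + 1)) = _
  rw [map_add]; rfl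

theorem dhat_mul (x y : AdicCompletion I A) :
    dhat Λ I (x * y) = x • dhat Λ I y + y • dhat Λ I x := by
  obtain ⟨a, rfl⟩ := AdicCompletion.mk_surjective I A x
  obtain ⟨b, rfl⟩ := AdicCompletion.mk_surjective I A y
  have hmul : AdicCompletion.mk I A a * AdicCompletion.mk I A b = AdicCompletion.mk I A (a * b) :=
    rfl
  rw [hmul, dhat_mk, dhat_mk, dhat_mk]
  apply AdicCompletion.ext
  intro n
  rw [AdicCompletion.val_add_apply, AdicCompletion.smul_eval, AdicCompletion.smul_eval]
  show Submodule.Quotient.mk (p := (I ^ n • ⊤ : Submodule A Ω[A⁄Λ]))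
      (KaehlerDifferential.D Λ A ((a * b) (n + 1))) =
    a n • Submodule.Quotient.mk (p := (I ^ n • ⊤ : Submodule A Ω[A⁄Λ]))
      (KaehlerDifferential.D Λ A (b (n + 1))) +
      b n • Submodule.Quotient.mk (p := (I ^ n • ⊤ : Submodule A Ω[A⁄Λ]))
        (KaehlerDifferential.D Λ A (a (n + 1)))
  rw [← Submodule.Quotient.mk_smul, ← Submodule.Quotient.mk_smul, ← Submodule.Quotient.mk_add,
    Submodule.Quotient.eq]
  have ha : a (n + 1) - a n ∈ I ^ n := by
    have := mem_pow_of_smodEq I (a.property (Nat.le_succ n))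
    rw [← neg_sub]; exact neg_mem this
  have hb : b (n + 1) - b n ∈ I ^ n := by
    have := mem_pow_of_smodEq I (b.property (Nat.le_succ n))
    rw [← neg_sub]; exact neg_mem this
  have hcalc : KaehlerDifferential.D Λ A ((a * b) (n + 1)) -
      (a n • KaehlerDifferential.D Λ A (b (n + 1)) + b n • KaehlerDifferential.D Λ A (a (n + 1)))
      = (a (n + 1) - a n) • KaehlerDifferential.D Λ A (b (n + 1)) +
        (b (n + 1) - b n) • KaehlerDifferential.D Λ A (a (n + 1)) := by
    rw [AdicCompletion.mul_apply, Derivation.leibniz, sub_smul, sub_smul]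
    abel
  rw [hcalc]
  exact Submodule.add_mem _ (Submodule.smul_mem_smul ha Submodule.mem_top)
    (Submodule.smul_mem_smul hb Submodule.mem_top)

theorem dhat_of (a : A) :
    dhat Λ I (AdicCompletion.of I A a) = AdicCompletion.of I _ (KaehlerDifferential.D Λ A a) := by
  have h1 : AdicCompletion.of I A a = AdicCompletion.mk I A ⟨fun _ => a, fun _ => SModEq.rfl⟩ := by
    apply AdicCompletion.ext; intro n; rfl
  rw [h1, dhat_mk]
  apply AdicCompletion.ext; intro n; rfl

end



/-- Let A₀ be a semi-local Noetherian ring, A a module-finite A₀-algebra and Â the completion of A for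
the adic topology of its Jacobson radical. For the discrete topologies, Â is a formally smooth
A-algebra relative to A₀. -/
theorem result {A₀ A : Type u} [CommRing A₀]
    [IsNoetherianRing A₀] [Finite (MaximalSpectrum A₀)] [CommRing A] [Algebra A₀ A] [Module.Finite A₀ A] :
    EGA41.IsFormallySmoothRel A₀ A (AdicCompletion (Ideal.jacobson (⊥ : Ideal A)) A) := by
  haveI : IsNoetherianRing A := Algebra.FiniteType.isNoetherianRing A₀ A
  haveI : Module.Finite A Ω[A⁄A₀] := inferInstance
  obtain ⟨I, hI⟩ : ∃ I : Ideal A, I = Ideal.jacobson (⊥ : Ideal A) := ⟨_, rfl⟩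
  rw [← hI]
  obtain ⟨e, he⟩ : ∃ e : AdicCompletion I A ⊗[A] Ω[A⁄A₀] ≃ₗ[AdicCompletion I A]
      AdicCompletion I Ω[A⁄A₀], ∀ ω : Ω[A⁄A₀], e.symm (AdicCompletion.of I _ ω) = 1 ⊗ₜ ω :=
    ⟨AdicCompletion.ofTensorProductEquivOfFiniteNoetherian I Ω[A⁄A₀],
      fun ω => AdicCompletion.ofTensorProductEquivOfFiniteNoetherian_symm_of I _ ω⟩
  have hleib : ∀ x y : AdicCompletion I A, e.symm (dhat A₀ I (x * y)) =
      x • e.symm (dhat A₀ I y) + y • e.symm (dhat A₀ I x) := by
    intro x y
    rw [dhat_mul, map_add, map_smul, map_smul]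
  have hzero : ∀ r : A₀, dhat A₀ I (algebraMap A₀ (AdicCompletion I A) r) = 0 := by
    intro r
    rw [AdicCompletion.algebraMap_apply, dhat_of, Derivation.map_algebraMap, map_zero]
  obtain ⟨Dh, hDh⟩ : ∃ Dh : Derivation A₀ (AdicCompletion I A) (AdicCompletion I A ⊗[A] Ω[A⁄A₀]),
      ∀ x, Dh x = e.symm (dhat A₀ I x) := by
    refine ⟨Derivation.mk' { toFun := fun x => e.symm (dhat A₀ I x), map_add' := ?_, map_smul' := ?_ } ?_, fun x => rfl⟩
    · intro x y
      rw [dhat_add, map_add]
    · intro r x
      rw [Algebra.smul_def, hleib, hzero, map_zero, smul_zero, add_zero, RingHom.id_apply, algebraMap_smul]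
    · intro x y
      exact hleib x y
  refine (Groth.Agent.S3441.result A₀ A (AdicCompletion I A)).mp ⟨Dh.liftKaehlerDifferential, ?_⟩
  apply TensorProduct.AlgebraTensorModule.ext
  intro x ω
  rw [LinearMap.comp_apply, LinearMap.id_apply]
  have hω : ω ∈ Submodule.span A (Set.range (KaehlerDifferential.D A₀ A)) := by
    rw [KaehlerDifferential.span_range_derivation]; exact Submodule.mem_top
  revert x
  induction hω using Submodule.span_induction with
  | mem ω h =>
    intro x
    obtain ⟨a, rfl⟩ := h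
    rw [KaehlerDifferential.mapBaseChange_tmul, map_smul, KaehlerDifferential.map_D,
      Derivation.liftKaehlerDifferential_comp_D, hDh, AdicCompletion.algebraMap_apply,
      Algebra.algebraMap_self, RingHom.id_apply, dhat_of, he, TensorProduct.smul_tmul', smul_eq_mul, mul_one]
  | zero => intro x; rw [TensorProduct.tmul_zero, map_zero, map_zero]
  | add ω₁ ω₂ _ _ h₁ h₂ => intro x; rw [TensorProduct.tmul_add, map_add, map_add, h₁, h₂]
  | smul r ω _ h =>
    intro x
    rw [← TensorProduct.smul_tmul]
    exact h (r • x)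

end Groth.Agent.S4581
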