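import Groth.Statements.S4584
import Mathlib

set_option autoImplicit false
universe u
open AlgebraicGeometry CategoryTheory Topology
open EGA41

namespace Groth.Agent.S4584aux

open CategoryTheory CategoryTheory.Limits AlgebraicGeometry TopologicalSpace

theorem sdiff_case (X : Scheme.{u}) [QuasiSeparatedSpace X] (W : X.affineOpens)
    (s : Set X.affineOpens) (hs : s.Finite) :
    ∃ (X' : Scheme.{u}) (f : X' ⟶ X), IsAffine X' ∧ LocallyOfFinitePresentation f ∧
      Set.range f.base = ((W : X.Opens) : Set X) \ ⋃ j ∈ s, ((j : X.Opens) : Set X) := by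
  have hW : IsAffineOpen (W : X.Opens) := W.2
  obtain ⟨V, hV⟩ : ∃ V : Set X, V = ⋃ j ∈ s, ((j : X.Opens) : Set X) := ⟨_, rfl⟩
  rw [← hV]
  have hVo : IsOpen V := by rw [hV]; exact isOpen_biUnion fun j _ => (j : X.Opens).2
  have hVc : IsCompact V := by rw [hV]; exact hs.isCompact_biUnion fun j _ => j.2.isCompact
  have hT : IsCompact (hW.fromSpec.base ⁻¹' V) ∧ IsOpen (hW.fromSpec.base ⁻¹' V) :=
    ⟨QuasiCompact.isCompact_preimage (f := hW.fromSpec) V hVo hVc,
      hVo.preimage hW.fromSpec.continuous⟩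
  obtain ⟨I, hI, hIT⟩ := (PrimeSpectrum.isCompact_isOpen_iff_ideal (R := Γ(X, W))).1 hT
  let ψ : Γ(X, W) ⟶ CommRingCat.of (Γ(X, W) ⧸ I) := CommRingCat.ofHom (Ideal.Quotient.mk I)
  haveI : LocallyOfFinitePresentation (Spec.map ψ) := by
    rw [HasRingHomProperty.Spec_iff (P := @LocallyOfFinitePresentation)]
    exact RingHom.FinitePresentation.of_surjective _ Ideal.Quotient.mk_surjective
      (by rw [CommRingCat.hom_ofHom, Ideal.mk_ker]; exact hI)
  refine ⟨Spec (CommRingCat.of (Γ(X, W) ⧸ I)), Spec.map ψ ≫ hW.fromSpec, inferInstance,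
    inferInstance, ?_⟩
  have hr : Set.range (Spec.map ψ).base = PrimeSpectrum.zeroLocus (I : Set Γ(X, W)) := by
    have := range_comap_of_surjective _ (Ideal.Quotient.mk I)
      Ideal.Quotient.mk_surjective
    rw [Ideal.mk_ker] at this
    exact this
  have h1 : Set.range (Spec.map ψ ≫ hW.fromSpec).base =
      hW.fromSpec.base '' Set.range (Spec.map ψ).base := by
    rw [Scheme.Hom.comp_base, TopCat.coe_comp, Set.range_comp]
  have h2 : Set.range hW.fromSpec.base = ((W : X.Opens) : Set X) := hW.range_fromSpec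
  rw [h1, hr]
  have h3 : PrimeSpectrum.zeroLocus (I : Set Γ(X, W)) = (hW.fromSpec.base ⁻¹' V)ᶜ :=
    (compl_compl (PrimeSpectrum.zeroLocus (I : Set Γ(X, W)))).symm.trans
      (congrArg (fun T => Tᶜ) hIT)
  exact (congrArg (fun T => hW.fromSpec.base '' T) h3).trans
    (Set.image_compl_preimage.trans (by rw [h2]))

theorem union_case (X : Scheme.{u}) {X₁ X₂ : Scheme.{u}} [IsAffine X₁] [IsAffine X₂]
    (f₁ : X₁ ⟶ X) (f₂ : X₂ ⟶ X) [LocallyOfFinitePresentation f₁]
    [LocallyOfFinitePresentation f₂] :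
    IsAffine (X₁ ⨿ X₂) ∧ LocallyOfFinitePresentation (coprod.desc f₁ f₂) ∧
      Set.range (coprod.desc f₁ f₂).base = Set.range f₁.base ∪ Set.range f₂.base := by
  refine ⟨inferInstance, ?_, ?_⟩
  · apply IsZariskiLocalAtSource.of_openCover (P := @LocallyOfFinitePresentation)
      (coprodOpenCover.{_, 0} X₁ X₂)
    rintro (⟨⟩ | ⟨⟩)
    · show LocallyOfFinitePresentation (coprod.inl ≫ coprod.desc f₁ f₂)
      rw [coprod.inl_desc]; infer_instance
    · show LocallyOfFinitePresentation (coprod.inr ≫ coprod.desc f₁ f₂)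
      rw [coprod.inr_desc]; infer_instance
  · ext x
    constructor
    · rintro ⟨y, rfl⟩
      obtain ⟨(a | b), rfl⟩ := (coprodMk X₁ X₂).surjective y
      · left
        refine ⟨a, ?_⟩
        rw [coprodMk_inl, ← Scheme.Hom.comp_apply, coprod.inl_desc]
      · right
        refine ⟨b, ?_⟩
        rw [coprodMk_inr, ← Scheme.Hom.comp_apply, coprod.inr_desc]
    · rintro (⟨a, rfl⟩ | ⟨b, rfl⟩)
      · refine ⟨(coprod.inl : X₁ ⟶ X₁ ⨿ X₂) a, ?_⟩
        rw [← Scheme.Hom.comp_apply, coprod.inl_desc]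
      · refine ⟨(coprod.inr : X₂ ⟶ X₁ ⨿ X₂) b, ?_⟩
        rw [← Scheme.Hom.comp_apply, coprod.inr_desc]

theorem aux (X : Scheme.{u}) [CompactSpace X] [QuasiSeparatedSpace X] (Z : Set X)
    (hZ : IsConstructible Z) :
    ∃ (X' : Scheme.{u}) (f : X' ⟶ X), IsAffine X' ∧ LocallyOfFinitePresentation f ∧
      Set.range f.base = Z := by
  haveI : Nonempty X.affineOpens := ⟨⟨⊥, isAffineOpen_bot X⟩⟩
  have hbasis : IsTopologicalBasis
      (Set.range (fun U : X.affineOpens => ((U : X.Opens) : Set X))) := by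
    have h := X.isBasis_affineOpens
    rw [Opens.IsBasis] at h
    convert h using 1
    ext t
    constructor
    · rintro ⟨U, rfl⟩; exact ⟨U.1, U.2, rfl⟩
    · rintro ⟨U, hU, rfl⟩; exact ⟨⟨U, hU⟩, rfl⟩
  induction Z, hZ using IsConstructible.induction_of_isTopologicalBasis
      (fun U : X.affineOpens => ((U : X.Opens) : Set X)) hbasis with
  | isCompact_basis U => exact U.2.isCompact
  | sdiff W s hs => exact sdiff_case X W s hs
  | union s hs t ht Hs Ht =>
    obtain ⟨X₁, f₁, h₁, hf₁, hr₁⟩ := Hs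
    obtain ⟨X₂, f₂, h₂, hf₂, hr₂⟩ := Ht
    obtain ⟨ha, hb, hc⟩ := union_case X f₁ f₂
    exact ⟨X₁ ⨿ X₂, coprod.desc f₁ f₂, ha, hb, by rw [hc, hr₁, hr₂]⟩

end Groth.Agent.S4584aux

namespace Groth.Agent.S4584

/-- Given a scheme X that is quasi-compact and quasi-separated, together with a constructible subset Z
of X, one can find an affine scheme X' with a morphism X' → X of finite presentation whose image
equals Z. -/
theorem result (X : Scheme.{u}) [CompactSpace X]
    [QuasiSeparatedSpace X] (Z : Set X) (hZ : IsConstructible Z) :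
    ∃ (X' : Scheme.{u}) (f : X' ⟶ X), IsAffine X' ∧ LocallyOfFinitePresentation f ∧ QuasiCompact f ∧
      QuasiSeparated f ∧ Set.range f.base = Z := by
  obtain ⟨X', f, hX', hf, hr⟩ := Groth.Agent.S4584aux.aux X Z hZ
  haveI := hX'
  exact ⟨X', f, hX', hf, inferInstance, inferInstance, hr⟩

end Groth.Agent.S4584
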