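import Groth.Statements.S4585
import Mathlib
import Groth.Agent.Lib.Helper18.GenericImage

set_option autoImplicit false
universe u
open AlgebraicGeometry CategoryTheory
open EGA41

namespace Groth.Agent.S4585

/-- Let Y be an irreducible scheme with generic point η and f : X → Y locally of finite type with
nonempty fibre over η. Then some open neighbourhood of η is contained in f(X). (The second
assertion, on fibres of a quasi-coherent module of finite type, is not stated.) -/
theorem result {X Y : Scheme.{u}} (f : X ⟶ Y)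
    [LocallyOfFiniteType f] [IrreducibleSpace Y] (h : genericPoint Y ∈ Set.range f.base) :
    genericPoint Y ∈ interior (Set.range f.base) := by

  obtain ⟨x, hx⟩ := h
  obtain ⟨_, ⟨U, hU, rfl⟩, hηU, -⟩ := Y.isBasis_affineOpens.exists_subset_of_mem_open
    (Set.mem_univ (genericPoint Y)) isOpen_univ
  have hU' : IsAffineOpen U := hU
  have hxU : x ∈ f ⁻¹ᵁ U := by
    change f.base x ∈ U
    rw [hx]; exact hηU
  obtain ⟨_, ⟨V, hV, rfl⟩, hxV, hVU⟩ := X.isBasis_affineOpens.exists_subset_of_mem_open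
    hxU (f ⁻¹ᵁ U).isOpen
  have hV' : IsAffineOpen V := hV
  have e : V ≤ f ⁻¹ᵁ U := hVU
  have hft : (f.appLE U V e).hom.FiniteType := LocallyOfFiniteType.finiteType_appLE f hU' hV' e
  algebraize [(f.appLE U V e).hom]
  have hq : (hV'.primeIdealOf ⟨x, hxV⟩).comap (f.appLE U V e).hom =
      hU'.primeIdealOf ⟨f.base x, e hxV⟩ :=
    IsAffineOpen.comap_primeIdealOf_appLE U hU' V hV' e hxV
  have hηp : hU'.fromSpec.base (hU'.primeIdealOf ⟨f.base x, e hxV⟩) = genericPoint Y := by
    rw [← hx]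
    exact hU'.fromSpec_primeIdealOf ⟨f.base x, e hxV⟩
  have hcomap : (hV'.primeIdealOf ⟨x, hxV⟩).asIdeal.comap (algebraMap Γ(Y, U) Γ(X, V)) =
      (hU'.primeIdealOf ⟨f.base x, e hxV⟩).asIdeal := by
    rw [← hq]; rfl
  have hmin : ∀ P : Ideal Γ(Y, U), P.IsPrime →
      (hV'.primeIdealOf ⟨x, hxV⟩).asIdeal.comap (algebraMap Γ(Y, U) Γ(X, V)) ≤ P := by
    intro P hP
    rw [hcomap]
    have h1 : genericPoint Y ⤳ hU'.fromSpec.base ⟨P, hP⟩ := genericPoint_specializes _
    rw [← hηp] at h1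
    have h2 := (hU'.fromSpec.isOpenEmbedding.isInducing.specializes_iff).1 h1
    exact (PrimeSpectrum.le_iff_specializes _ _).2 h2
  obtain ⟨a, ha, hlift⟩ := Groth.Agent.Helper18.GenericImage.exists_notMem_lift Γ(Y, U) Γ(X, V)
    (hV'.primeIdealOf ⟨x, hxV⟩).asIdeal hmin
  rw [hcomap] at ha
  rw [mem_interior]
  refine ⟨(Y.basicOpen a : Set Y), ?_, (Y.basicOpen a).isOpen, ?_⟩
  · intro y hy
    have hy' : y ∈ (hU'.fromSpec ''ᵁ PrimeSpectrum.basicOpen a : Y.Opens) := by
      rw [hU'.fromSpec_image_basicOpen]; exact hy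
    obtain ⟨P, hPa, rfl⟩ := hy'
    have hPa' : a ∉ P.asIdeal := hPa
    obtain ⟨Q, hQprime, hQover⟩ := hlift P.asIdeal P.isPrime hPa'
    refine ⟨hV'.fromSpec.base ⟨Q, hQprime⟩, ?_⟩
    have h1 := congrArg (fun g => g.base (⟨Q, hQprime⟩ : PrimeSpectrum Γ(X, V)))
      (IsAffineOpen.SpecMap_appLE_fromSpec f hU' hV' e)
    simp only [Scheme.Hom.comp_base, TopCat.comp_app] at h1
    rw [← h1]
    congr 1
    apply PrimeSpectrum.ext
    exact hQover
  · have : genericPoint Y ∈ (hU'.fromSpec ''ᵁ PrimeSpectrum.basicOpen a : Y.Opens) :=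
      ⟨hU'.primeIdealOf ⟨f.base x, e hxV⟩, ha, hηp⟩
    rw [hU'.fromSpec_image_basicOpen] at this
    exact this


end Groth.Agent.S4585
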