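import Groth.Statements.S4587
import Mathlib

set_option autoImplicit false
universe u
open AlgebraicGeometry CategoryTheory
open EGA41

namespace Groth.Agent.S4587

theorem isPreirreducible_preimage_val {X : Type*} [TopologicalSpace X] {S t : Set X}
    (ht : IsPreirreducible t) (hts : t ⊆ S) :
    IsPreirreducible ((Subtype.val : S → X) ⁻¹' t) := by
  intro u v hu hv hnu hnv
  obtain ⟨u', hu', rfl⟩ := isOpen_induced_iff.mp hu
  obtain ⟨v', hv', rfl⟩ := isOpen_induced_iff.mp hv
  obtain ⟨⟨x, hxS⟩, hxt, hxu⟩ := hnu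
  obtain ⟨⟨y, hyS⟩, hyt, hyv⟩ := hnv
  obtain ⟨z, hzt, hzu, hzv⟩ := ht u' v' hu' hv' ⟨x, hxt, hxu⟩ ⟨y, hyt, hyv⟩
  exact ⟨⟨z, hts hzt⟩, hzt, hzu, hzv⟩

/-- maximality of the image of an irreducible component of a subspace -/
theorem eq_of_image_component_subset {X : Type*} [TopologicalSpace X] {S : Set X}
    {Z : Set S} (hZ : Z ∈ irreducibleComponents S) {T' : Set X} (hT' : IsIrreducible T')
    (hT'S : T' ⊆ S) (hsub : Subtype.val '' Z ⊆ T') : T' = Subtype.val '' Z := by
  have hZ' : IsIrreducible ((Subtype.val : S → X) ⁻¹' T') := by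
    refine ⟨?_, isPreirreducible_preimage_val hT'.isPreirreducible hT'S⟩
    obtain ⟨x, hx⟩ := hT'.nonempty
    exact ⟨⟨x, hT'S hx⟩, hx⟩
  have hle : Z ≤ (Subtype.val : S → X) ⁻¹' T' := fun z hz => hsub ⟨z, hz, rfl⟩
  have hge : (Subtype.val : S → X) ⁻¹' T' ≤ Z := hZ.2 hZ' hle
  apply Set.Subset.antisymm
  · intro x hx
    exact ⟨⟨x, hT'S hx⟩, hge hx, rfl⟩
  · exact hsub

/-- A morphism of schemes f : X → Y is generizing if and only if, for every irreducible closed subset Y'
of Y, each irreducible component of f⁻¹(Y') has dense image in Y'. -/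
theorem result {X Y : Scheme.{u}} (f : X ⟶ Y) :
    GeneralizingMap f.base ↔
      ∀ Y' : Set Y, IsClosed Y' → IsIrreducible Y' →
        ∀ Z ∈ irreducibleComponents ↥(f.base ⁻¹' Y'), closure (f.base '' (Subtype.val '' Z)) = Y' := by
  constructor
  · intro hgen Y' hY'c hY'i Z hZ
    have hSc : IsClosed (f.base ⁻¹' Y') := hY'c.preimage f.base.hom.continuous
    have hZirr : IsIrreducible Z := hZ.1
    have hZc : IsClosed Z := isClosed_of_mem_irreducibleComponents Z hZ
    have hTirr : IsIrreducible (Subtype.val '' Z) :=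
      hZirr.image _ continuous_subtype_val.continuousOn
    have hTc : IsClosed (Subtype.val '' Z) := (hSc.isClosedEmbedding_subtypeVal).isClosedMap Z hZc
    have hTS : Subtype.val '' Z ⊆ f.base ⁻¹' Y' := by rintro _ ⟨z, _, rfl⟩; exact z.2
    obtain ⟨ξ, hξ⟩ := QuasiSober.sober hTirr hTc
    obtain ⟨η, hη⟩ := QuasiSober.sober hY'i hY'c
    have hξT : ξ ∈ Subtype.val '' Z := hξ.mem
    have hfξ : f.base ξ ∈ Y' := hTS hξT
    have hspec : η ⤳ f.base ξ := by
      rw [specializes_iff_mem_closure, hη.def]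
      exact hfξ
    obtain ⟨ξ', hξ'ξ, hfξ'⟩ := hgen hspec
    -- closure {ξ'} is an irreducible subset of S containing T
    have hcl_irr : IsIrreducible (closure ({ξ'} : Set X)) := isIrreducible_singleton.closure
    have hcl_sub : closure ({ξ'} : Set X) ⊆ f.base ⁻¹' Y' := by
      apply hSc.closure_subset_iff.mpr
      intro z hz
      rw [Set.mem_singleton_iff] at hz
      subst hz
      show f.base z ∈ Y'
      rw [hfξ']
      exact hη.mem
    have hT_sub : Subtype.val '' Z ⊆ closure ({ξ'} : Set X) := by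
      rw [← hξ.def]
      apply closure_minimal _ isClosed_closure
      intro z hz
      rw [Set.mem_singleton_iff] at hz
      subst hz
      exact specializes_iff_mem_closure.mp hξ'ξ
    have heq := eq_of_image_component_subset hZ hcl_irr hcl_sub hT_sub
    have hξ'T : ξ' ∈ Subtype.val '' Z := by
      rw [← heq]
      exact subset_closure rfl
    apply Set.Subset.antisymm
    · apply hY'c.closure_subset_iff.mpr
      rintro _ ⟨x, hx, rfl⟩
      exact hTS hx
    · have h1 : Y' ⊆ closure {η} := hη.def.symm.subset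
      refine h1.trans ?_
      apply closure_mono
      intro z hz
      rw [Set.mem_singleton_iff] at hz
      subst hz
      exact ⟨ξ', hξ'T, hfξ'⟩
  · intro h x y' hy'
    have hY'c : IsClosed (closure ({y'} : Set Y)) := isClosed_closure
    have hY'i : IsIrreducible (closure ({y'} : Set Y)) := isIrreducible_singleton.closure
    have hSc : IsClosed (f.base ⁻¹' closure ({y'} : Set Y)) := hY'c.preimage f.base.hom.continuous
    have hxS : x ∈ f.base ⁻¹' closure ({y'} : Set Y) := specializes_iff_mem_closure.mp hy'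
    have hZ : irreducibleComponent (⟨x, hxS⟩ : ↥(f.base ⁻¹' closure ({y'} : Set Y))) ∈
        irreducibleComponents ↥(f.base ⁻¹' closure ({y'} : Set Y)) :=
      irreducibleComponent_mem_irreducibleComponents _
    have hxZ : (⟨x, hxS⟩ : ↥(f.base ⁻¹' closure ({y'} : Set Y))) ∈
        irreducibleComponent (⟨x, hxS⟩ : ↥(f.base ⁻¹' closure ({y'} : Set Y))) :=
      mem_irreducibleComponent
    generalize irreducibleComponent (⟨x, hxS⟩ : ↥(f.base ⁻¹' closure ({y'} : Set Y))) = Z at hZ hxZ
    have hZirr : IsIrreducible Z := hZ.1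
    have hZc : IsClosed Z := isClosed_of_mem_irreducibleComponents Z hZ
    have hTirr : IsIrreducible (Subtype.val '' Z) :=
      hZirr.image _ continuous_subtype_val.continuousOn
    have hTc : IsClosed (Subtype.val '' Z) := (hSc.isClosedEmbedding_subtypeVal).isClosedMap Z hZc
    obtain ⟨ξ, hξ⟩ := QuasiSober.sober hTirr hTc
    have hxT : x ∈ Subtype.val '' Z := ⟨⟨x, hxS⟩, hxZ, rfl⟩
    have hξx : ξ ⤳ x := by
      rw [specializes_iff_mem_closure, hξ.def]
      exact hxT
    refine ⟨ξ, hξx, ?_⟩
    have hcl := h (closure ({y'} : Set Y)) hY'c hY'i Z hZ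
    -- f(T) ⊆ closure {f ξ}
    have himg : f.base '' (Subtype.val '' Z) ⊆ closure ({f.base ξ} : Set Y) := by
      rintro _ ⟨t, ht, rfl⟩
      have : ξ ⤳ t := by
        rw [specializes_iff_mem_closure, hξ.def]
        exact ht
      exact specializes_iff_mem_closure.mp (this.map f.base.hom.continuous)
    have h1 : closure ({y'} : Set Y) ⊆ closure ({f.base ξ} : Set Y) := by
      rw [← hcl]
      exact closure_minimal himg isClosed_closure
    have h2 : f.base ξ ∈ closure ({y'} : Set Y) := by
      obtain ⟨z, _, hz⟩ := hξ.mem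
      rw [← hz]; exact z.2
    -- y' ⤳ f ξ and f ξ ⤳ y'
    have s1 : y' ⤳ f.base ξ := specializes_iff_mem_closure.mpr h2
    have s2 : f.base ξ ⤳ y' := specializes_iff_mem_closure.mpr (h1 (subset_closure rfl))
    exact (s2.antisymm s1).eq

end Groth.Agent.S4587
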