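import Mathlib
import Groth.Statements.S4588
import Groth.Agent.Lib.Helper9.MonicFamReg
-- import your own Groth.Agent.* helpers here

set_option autoImplicit false
universe u
open IsLocalRing
open EGA41

namespace Groth.Agent.S4588


/-- Let A be a regular local ring with maximal ideal m and residue field K, and F_i(T_i) = T_i^{d_i} +
Σ_{k<d_i} c_{ik} T_i^k (1 ≤ i ≤ r) monic one-variable polynomials of degrees d_i ≥ 2 with all
non-leading coefficients in m; put A' = A[T_1, …, T_r]/(F_1, …, F_r). Then (i) A' is local with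
residue field K, and (ii) A' is regular if and only if the classes in m/m² of the constant terms
c_{i0} are linearly independent over K. -/
theorem result {A : Type u} [CommRing A]
    [IsRegularLocalRing A] {r : ℕ} (d : Fin r → ℕ) (hd : ∀ i, 2 ≤ d i) (c : Fin r → ℕ → A)
    (hc : ∀ i k, c i k ∈ maximalIdeal A) :
    let F : Fin r → MvPolynomial (Fin r) A := fun i =>
      MvPolynomial.X i ^ d i + (Finset.range (d i)).sum fun k => MvPolynomial.C (c i k) * MvPolynomial.X i ^ k
    IsLocalRing (MvPolynomial (Fin r) A ⧸ Ideal.span (Set.range F)) ∧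
    (∀ (M : Ideal (MvPolynomial (Fin r) A ⧸ Ideal.span (Set.range F))) [M.IsMaximal],
      Function.Surjective ((Ideal.Quotient.mk M).comp (algebraMap A _))) ∧
    (IsRegularRing (MvPolynomial (Fin r) A ⧸ Ideal.span (Set.range F)) ↔
      LinearIndependent (ResidueField A) (fun i => (maximalIdeal A).toCotangent ⟨c i 0, hc i 0⟩)) := by
  intro F
  have hd0 : ∀ i, d i ≠ 0 := fun i => by have := hd i; omega
  haveI hloc : IsLocalRing (Groth.Agent.Helper9.MonicFam.Q d c) :=
    Groth.Agent.Helper9.MonicFam.isLocalRing d c hd0 hc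
  refine ⟨hloc, ?_, ?_⟩
  · intro M hM
    have hM' : M = @IsLocalRing.maximalIdeal (Groth.Agent.Helper9.MonicFam.Q d c) _ hloc :=
      @IsLocalRing.eq_maximalIdeal (Groth.Agent.Helper9.MonicFam.Q d c) _ hloc M hM
    subst hM'
    exact Groth.Agent.Helper9.MonicFam.surjective_mk_comp d c hd0 hc
  · exact Groth.Agent.Helper9.MonicFam.isRegularRing_iff d c hd hc

end Groth.Agent.S4588
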