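import Groth.Statements.S4590
import Mathlib

set_option autoImplicit false
universe u
open CAlg

namespace Groth.Agent.S4590

section aux

variable {S : Type*} [CommRing S]

/-- ideal generated by `a^i s^j`, `i + j = D`, `j ≥ 1` -/
def J (a s : S) (D : ℕ) : Ideal S :=
  Ideal.span {z | ∃ i j : ℕ, i + j = D ∧ 1 ≤ j ∧ z = a ^ i * s ^ j}

theorem gen_mem (a s : S) {i j D : ℕ} (h : i + j = D) (hj : 1 ≤ j) :
    a ^ i * s ^ j ∈ J a s D :=
  Ideal.subset_span ⟨i, j, h, hj, rfl⟩

theorem J_mul_le (a s : S) (D E : ℕ) : J a s D * J a s E ≤ J a s (D + E) := by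
  unfold J
  rw [Ideal.span_mul_span']
  refine Ideal.span_le.mpr ?_
  rintro _ ⟨_, ⟨i, j, h, hj, rfl⟩, _, ⟨i', j', h', hj', rfl⟩, rfl⟩
  exact Ideal.subset_span ⟨i + i', j + j', by omega, by omega, by ring⟩

theorem pow_mul_mem (a s : S) (E : ℕ) {D : ℕ} {z : S} (hz : z ∈ J a s D) :
    a ^ E * z ∈ J a s (D + E) := by
  refine Submodule.span_induction (p := fun z _ => a ^ E * z ∈ J a s (D + E)) ?_ ?_ ?_ ?_ hz
  · rintro _ ⟨i, j, h, hj, rfl⟩
    exact Ideal.subset_span ⟨E + i, j, by omega, hj, by ring⟩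
  · simp
  · intro z w _ _ hz hw
    rw [mul_add]; exact Ideal.add_mem _ hz hw
  · intro c z _ hz
    rw [smul_eq_mul, mul_left_comm]; exact Ideal.mul_mem_left _ _ hz

theorem pow_mem_J (a s : S) (M : ℕ) {t : S} (ht : t ∈ J a s M) :
    ∀ k, 1 ≤ k → t ^ k ∈ J a s (M * k) := by
  intro k hk
  induction k, hk using Nat.le_induction with
  | base => simpa using ht
  | succ k hk ih =>
    rw [pow_succ, Nat.mul_succ]
    exact J_mul_le a s _ _ (Ideal.mul_mem_mul ih ht)

theorem claimD (a s : S) (M N : ℕ) {t : S} (ht : t ∈ J a s M) (hν : (t + a ^ M) ^ N = 0) :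
    a ^ (M * N) ∈ J a s (M * N) := by
  rw [add_pow, Finset.sum_range_succ'] at hν
  simp only [pow_zero, one_mul, tsub_zero, Nat.choose_zero_right, Nat.cast_one,
    mul_one] at hν
  have h1 : a ^ (M * N) = - ∑ m ∈ Finset.range N,
      t ^ (m + 1) * (a ^ M) ^ (N - (m + 1)) * (Nat.choose N (m + 1) : S) := by
    rw [pow_mul]; linear_combination hν
  rw [h1]
  refine neg_mem (Ideal.sum_mem _ fun m hm => ?_)
  have hm' : m < N := Finset.mem_range.mp hm
  have h2 : t ^ (m + 1) ∈ J a s (M * (m + 1)) := pow_mem_J a s M ht _ (by omega)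
  have h3 := pow_mul_mem a s (M * (N - (m + 1))) h2
  have h4 : M * (m + 1) + M * (N - (m + 1)) = M * N := by
    rw [← Nat.mul_add]; congr 1; omega
  rw [h4] at h3
  have h5 : t ^ (m + 1) * (a ^ M) ^ (N - (m + 1)) * (Nat.choose N (m + 1) : S)
      = (Nat.choose N (m + 1) : S) * (a ^ (M * (N - (m + 1))) * t ^ (m + 1)) := by
    rw [pow_mul]; ring
  rw [h5]; exact Ideal.mul_mem_left _ _ h3

theorem claimA {A : Type*} [CommRing A] {K : Type*} [Field K] [Algebra A K]
    (a s : A) (x : K) (hs : algebraMap A K s ≠ 0)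
    (hx : x * algebraMap A K s = algebraMap A K a)
    (D : ℕ) (h : a ^ D ∈ J a s D) : IsIntegral A x := by
  have key : ∀ z ∈ J a s D, ∃ G : Polynomial A, G.degree < D ∧
      algebraMap A K z = (algebraMap A K s) ^ D * Polynomial.aeval x G := by
    intro z hz
    refine Submodule.span_induction (p := fun z _ => ∃ G : Polynomial A, G.degree < D ∧
      algebraMap A K z = (algebraMap A K s) ^ D * Polynomial.aeval x G) ?_ ?_ ?_ ?_ hz
    · rintro _ ⟨i, j, h, hj, rfl⟩
      refine ⟨Polynomial.X ^ i, ?_, ?_⟩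
      · exact (Polynomial.degree_X_pow_le i).trans_lt (by exact_mod_cast (by omega : i < D))
      · rw [map_mul, map_pow, map_pow, ← hx, map_pow, Polynomial.aeval_X, ← h, pow_add]; ring
    · exact ⟨0, by simp, by simp⟩
    · rintro z w _ _ ⟨G, hG, hz⟩ ⟨H, hH, hw⟩
      exact ⟨G + H, (Polynomial.degree_add_le _ _).trans_lt (max_lt hG hH),
        by rw [map_add, map_add, hz, hw, mul_add]⟩
    · rintro c z _ ⟨G, hG, hz⟩
      exact ⟨c • G, (Polynomial.degree_smul_le c G).trans_lt hG,
        by rw [smul_eq_mul, map_mul, hz, map_smul, Algebra.smul_def]; ring⟩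
  obtain ⟨G, hG, hGeq⟩ := key _ h
  refine ⟨Polynomial.X ^ D - G, Polynomial.monic_X_pow_sub hG, ?_⟩
  have h1 : algebraMap A K (a ^ D) = (algebraMap A K s) ^ D * x ^ D := by
    rw [map_pow, ← hx, mul_pow]; ring
  have h2 : (algebraMap A K s) ^ D * (x ^ D - Polynomial.aeval x G) = 0 := by
    rw [mul_sub, ← h1, hGeq, sub_self]
  have h3 := (mul_eq_zero.mp h2).resolve_left (pow_ne_zero _ hs)
  rw [Polynomial.eval₂_sub, Polynomial.eval₂_X_pow]
  rw [Polynomial.aeval_def] at h3
  exact h3

end aux

section main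

variable {A B : Type u} [CommRing A] [IsDomain A] [CommRing B] [Algebra A B]
  [Module.FaithfullyFlat A B]

theorem int_descends
    (R : Type u) [CommRing R] [Algebra (B ⧸ nilradical B) R]
    [IsFractionRing (B ⧸ nilradical B) R]
    [Algebra A R] [IsScalarTower A (B ⧸ nilradical B) R] [Algebra (FractionRing A) R]
    [IsScalarTower A (FractionRing A) R] (x : FractionRing A)
    (hint : IsIntegral (B ⧸ nilradical B) (algebraMap (FractionRing A) R x)) :
    IsIntegral A x := by
  obtain ⟨a, s, hs, hxas⟩ := IsFractionRing.div_surjective (A := A) x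
  have hsK : algebraMap A (FractionRing A) s ≠ 0 :=
    IsFractionRing.to_map_ne_zero_of_mem_nonZeroDivisors hs
  have hx : x * algebraMap A (FractionRing A) s = algebraMap A (FractionRing A) a := by
    rw [← hxas]; exact div_mul_cancel₀ _ hsK
  obtain ⟨p, hp, hpx⟩ := hint
  obtain ⟨M, hM⟩ : ∃ M, M = p.natDegree := ⟨_, rfl⟩
  have e1 : ∀ y : A, algebraMap (B ⧸ nilradical B) R (algebraMap A (B ⧸ nilradical B) y)
      = algebraMap (FractionRing A) R (algebraMap A (FractionRing A) y) := fun y =>
    (IsScalarTower.algebraMap_apply A (B ⧸ nilradical B) R y).symm.trans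
      (IsScalarTower.algebraMap_apply A (FractionRing A) R y)
  have hcompat : algebraMap (B ⧸ nilradical B) R (algebraMap A (B ⧸ nilradical B) s)
      * algebraMap (FractionRing A) R x
      = algebraMap (B ⧸ nilradical B) R (algebraMap A (B ⧸ nilradical B) a) := by
    rw [e1, e1, ← map_mul, mul_comm, hx]
  have h0 := Polynomial.scaleRoots_eval₂_eq_zero (algebraMap (B ⧸ nilradical B) R)
    (s := algebraMap A (B ⧸ nilradical B) s) hpx
  rw [hcompat, Polynomial.eval₂_at_apply] at h0
  have h1 : Polynomial.eval (algebraMap A (B ⧸ nilradical B) a)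
      (Polynomial.scaleRoots p (algebraMap A (B ⧸ nilradical B) s)) = 0 :=
    IsFractionRing.injective (B ⧸ nilradical B) R (by rw [h0, map_zero])
  rw [Polynomial.eval_eq_sum_range, Polynomial.natDegree_scaleRoots, ← hM,
    Finset.sum_range_succ] at h1
  simp only [Polynomial.coeff_scaleRoots, ← hM] at h1
  have hlead : p.coeff M = 1 := by rw [hM]; exact hp.coeff_natDegree
  rw [hlead, Nat.sub_self, pow_zero, mul_one, one_mul] at h1
  choose Pc hPc using fun i => Ideal.Quotient.mk_surjective (I := nilradical B) (p.coeff i)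
  obtain ⟨t, ht⟩ : ∃ t : B, t = ∑ i ∈ Finset.range M,
      Pc i * ((algebraMap A B a) ^ i * (algebraMap A B s) ^ (M - i)) := ⟨_, rfl⟩
  have htJ : t ∈ J (algebraMap A B a) (algebraMap A B s) M := by
    rw [ht]
    refine Ideal.sum_mem _ fun i hi => Ideal.mul_mem_left _ _ (gen_mem _ _ ?_ ?_)
    · have := Finset.mem_range.mp hi; omega
    · have := Finset.mem_range.mp hi; omega
  have hmk : Ideal.Quotient.mk (nilradical B) (t + (algebraMap A B a) ^ M) = 0 := by
    have e2 : Ideal.Quotient.mk (nilradical B) (algebraMap A B a)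
        = algebraMap A (B ⧸ nilradical B) a := rfl
    have e3 : Ideal.Quotient.mk (nilradical B) (algebraMap A B s)
        = algebraMap A (B ⧸ nilradical B) s := rfl
    refine Eq.trans ?_ h1
    rw [ht, map_add, map_sum, map_pow, e2]
    congr 1
    refine Finset.sum_congr rfl fun i _ => ?_
    rw [map_mul, map_mul, map_pow, map_pow, hPc, e2, e3]; ring
  obtain ⟨N, hN⟩ := mem_nilradical.mp (Ideal.Quotient.eq_zero_iff_mem.mp hmk)
  have hD := claimD _ _ M N htJ hN
  have hle : J (algebraMap A B a) (algebraMap A B s) (M * N)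
      ≤ Ideal.map (algebraMap A B) (J a s (M * N)) := by
    refine Ideal.span_le.mpr ?_
    rintro _ ⟨i, j, h, hj, rfl⟩
    have := Ideal.mem_map_of_mem (algebraMap A B) (gen_mem a s h hj)
    rw [map_mul, map_pow, map_pow] at this
    exact this
  have hmem : a ^ (M * N) ∈ J a s (M * N) := by
    have h6 : a ^ (M * N) ∈ Ideal.comap (algebraMap A B)
        (Ideal.map (algebraMap A B) (J a s (M * N))) := by
      rw [Ideal.mem_comap, map_pow]; exact hle hD
    rwa [Ideal.comap_map_eq_self_of_faithfullyFlat] at h6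
  exact claimA a s x hsK hx (M * N) hmem

end main

/-- Let A be a domain with fraction field K, B a faithfully flat A-algebra, C = B_red and R the total
ring of fractions of C. Then A → C is injective with nonzero elements going to non-zero-divisors, so
that K embeds in R, and an element of K is integral over C in R if and only if it is integral over
A. -/
theorem result {A B : Type u} [CommRing A] [IsDomain A]
    [CommRing B] [Algebra A B] [Module.FaithfullyFlat A B] :
    Function.Injective (algebraMap A (B ⧸ nilradical B)) ∧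
    (∀ a : A, a ≠ 0 → algebraMap A (B ⧸ nilradical B) a ∈ nonZeroDivisors (B ⧸ nilradical B)) ∧
    ∀ (R : Type u) [CommRing R] [Algebra (B ⧸ nilradical B) R] [IsFractionRing (B ⧸ nilradical B) R]
      [Algebra A R] [IsScalarTower A (B ⧸ nilradical B) R] [Algebra (FractionRing A) R]
      [IsScalarTower A (FractionRing A) R] (x : FractionRing A),
      IsIntegral (B ⧸ nilradical B) (algebraMap (FractionRing A) R x) ↔ IsIntegral A x := by
  refine ⟨?_, ?_, ?_⟩
  · rw [injective_iff_map_eq_zero]
    intro a ha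
    have ha' : Ideal.Quotient.mk (nilradical B) (algebraMap A B a) = 0 := ha
    rw [Ideal.Quotient.eq_zero_iff_mem, mem_nilradical] at ha'
    obtain ⟨n, hn⟩ := ha'
    rw [← map_pow] at hn
    have h0 : a ^ n = 0 := (FaithfulSMul.algebraMap_injective A B) (hn.trans (map_zero _).symm)
    exact IsNilpotent.eq_zero (⟨n, h0⟩ : IsNilpotent a)
  · intro a ha
    rw [mem_nonZeroDivisors_iff_right]
    intro c hc
    obtain ⟨c, rfl⟩ := Ideal.Quotient.mk_surjective c
    have hc' : Ideal.Quotient.mk (nilradical B) (c * algebraMap A B a) = 0 := by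
      rw [map_mul]; exact hc
    rw [Ideal.Quotient.eq_zero_iff_mem, mem_nilradical] at hc'
    obtain ⟨n, hn⟩ := hc'
    rw [Ideal.Quotient.eq_zero_iff_mem, mem_nilradical]
    refine ⟨n, ?_⟩
    have hreg : IsSMulRegular B (algebraMap A B (a ^ n)) :=
      IsSMulRegular.of_flat (IsRegular.of_ne_zero (pow_ne_zero n ha)).left.isSMulRegular
    apply hreg
    show algebraMap A B (a ^ n) • c ^ n = algebraMap A B (a ^ n) • (0 : B)
    rw [smul_zero, smul_eq_mul, map_pow, ← mul_pow, mul_comm]; exact hn
  · intro R _ _ _ _ _ _ _ x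
    constructor
    · exact int_descends R x
    · intro hx
      exact (hx.map (IsScalarTower.toAlgHom A (FractionRing A) R)).tower_top

end Groth.Agent.S4590
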