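import Groth.Statements.S4591
import Mathlib
import Groth.Agent.H11.ProCons
-- import your own Groth.Agent.* helpers here

set_option autoImplicit false
universe u
open AlgebraicGeometry
open EGA41

namespace Groth.Agent.S4591


open Topology Set in
lemma isProConstructible_compl {X : Type*} [TopologicalSpace X] {E : Set X}
    (hE : ProCons.IsIndConstructible E) : ProCons.IsProConstructible Eᶜ := by
  intro x
  obtain ⟨U, hU, hxU, S, hS, hES⟩ := hE x
  refine ⟨U, hU, hxU, compl '' S, ?_, ?_⟩
  · rintro _ ⟨T, hT, rfl⟩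
    exact Groth.Agent.H11.isLocallyConstructible_compl (hS T hT)
  · rw [preimage_compl, hES, compl_sUnion]

/-- Let X be a quasi-compact scheme, F a pro-constructible subset and (E_i) a family of
ind-constructible subsets covering F. Then some finite subfamily covers F. -/
theorem result (X : Scheme.{u}) [CompactSpace X]
    (F : Set X) (hF : ProCons.IsProConstructible F) {ι : Type u} (E : ι → Set X)
    (hE : ∀ i, ProCons.IsIndConstructible (E i)) (h : F ⊆ ⋃ i, E i) :
    ∃ J : Finset ι, F ⊆ ⋃ i ∈ J, E i := by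
  classical
  have h1 : ⋂ i, (E i)ᶜ ⊆ Fᶜ := by
    intro x hx hxF
    obtain ⟨i, hi⟩ := Set.mem_iUnion.mp (h hxF)
    exact (Set.mem_iInter.mp hx i) hi
  obtain ⟨J, hJ⟩ := Groth.Agent.H11.exists_finset_iInter_subset
    (Groth.Agent.H11.locSpectral_scheme X) (Groth.Agent.H11.isIndConstructible_compl hF)
    (fun i => (E i)ᶜ) (fun i => isProConstructible_compl (hE i)) h1
  refine ⟨J, fun x hxF => ?_⟩
  by_contra hcon
  have h2 : x ∈ ⋂ i ∈ J, (E i)ᶜ := by
    simp only [Set.mem_iInter, Set.mem_compl_iff]
    intro i hi hxi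
    exact hcon (Set.mem_biUnion hi hxi)
  exact hJ h2 hxF

end Groth.Agent.S4591
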