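import Groth.Statements.S4593
import Mathlib

set_option autoImplicit false
universe u
open CategoryTheory CategoryTheory.Limits AlgebraicGeometry
open EGA41

namespace Groth.Agent.S4593

/-- Let B be a ring, (A_i) a filtered system of B-algebras with colimit A. The image of Spec A in Spec B
is the intersection of the images of the Spec A_i. -/
theorem result {I : Type u} [SmallCategory I] [IsFiltered I]
    (B : CommRingCat.{u}) (D : I ⥤ CommRingCat.{u}) (s : (Functor.const I).obj B ⟶ D) (c : Cocone D)
    (hc : IsColimit c) (i₀ : I) :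
    Set.range (Spec.map (s.app i₀ ≫ c.ι.app i₀)).base = ⋂ i : I, Set.range (Spec.map (s.app i)).base := by
  classical
  -- all composites B ⟶ D i ⟶ c.pt agree
  have hcomp : ∀ i : I, s.app i ≫ c.ι.app i = s.app i₀ ≫ c.ι.app i₀ := by
    intro i
    have h1 : s.app i ≫ D.map (IsFiltered.leftToMax i i₀) = s.app (IsFiltered.max i i₀) := by
      have := s.naturality (IsFiltered.leftToMax i i₀)
      simpa using this.symm
    have h2 : s.app i₀ ≫ D.map (IsFiltered.rightToMax i i₀) = s.app (IsFiltered.max i i₀) := by
      have := s.naturality (IsFiltered.rightToMax i i₀)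
      simpa using this.symm
    rw [← c.w (IsFiltered.leftToMax i i₀), ← Category.assoc, h1,
      ← c.w (IsFiltered.rightToMax i i₀), ← Category.assoc, h2]
  have hsD : ∀ {i j : I} (φ : i ⟶ j), s.app i ≫ D.map φ = s.app j := by
    intro i j φ
    have := s.naturality φ
    simpa using this.symm
  set g : B ⟶ c.pt := s.app i₀ ≫ c.ι.app i₀ with hg
  apply Set.Subset.antisymm
  · -- easy inclusion
    intro p hp
    rw [Set.mem_iInter]
    intro i
    obtain ⟨q, rfl⟩ := hp
    refine ⟨(Spec.map (c.ι.app i)).base q, ?_⟩
    rw [← hcomp i, Spec.map_comp]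
    rfl
  · intro p hp
    rw [Set.mem_iInter] at hp
    -- translate to ideals
    have hp' : ∀ i, (p.asIdeal.map (s.app i).hom).comap (s.app i).hom = p.asIdeal := by
      intro i
      have := hp i
      exact (PrimeSpectrum.mem_range_comap_iff (f := (s.app i).hom) (p := p)).mp this
    suffices h : (p.asIdeal.map g.hom).comap g.hom = p.asIdeal from
      (PrimeSpectrum.mem_range_comap_iff (f := g.hom) (p := p)).mpr h
    apply le_antisymm _ Ideal.le_comap_map
    -- key: elements of the extended ideal come from a finite stage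
    have key : ∀ x ∈ p.asIdeal.map g.hom, ∃ (j : I) (y : D.obj j),
        y ∈ p.asIdeal.map (s.app j).hom ∧ (c.ι.app j).hom y = x := by
      intro x hx
      induction hx using Submodule.span_induction with
      | mem x hx =>
        obtain ⟨b, hb, rfl⟩ := hx
        exact ⟨i₀, (s.app i₀).hom b, Ideal.mem_map_of_mem _ hb, rfl⟩
      | zero => exact ⟨i₀, 0, Ideal.zero_mem _, map_zero _⟩
      | add x x' _ _ ihx ihx' =>
        obtain ⟨j, y, hy, rfl⟩ := ihx
        obtain ⟨j', y', hy', rfl⟩ := ihx'
        refine ⟨IsFiltered.max j j', (D.map (IsFiltered.leftToMax j j')).hom y +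
          (D.map (IsFiltered.rightToMax j j')).hom y', ?_, ?_⟩
        · apply Ideal.add_mem
          · have := Ideal.mem_map_of_mem (D.map (IsFiltered.leftToMax j j')).hom hy
            rwa [Ideal.map_map, ← CommRingCat.hom_comp, hsD] at this
          · have := Ideal.mem_map_of_mem (D.map (IsFiltered.rightToMax j j')).hom hy'
            rwa [Ideal.map_map, ← CommRingCat.hom_comp, hsD] at this
        · rw [map_add]
          congr 1
          · exact congrArg (fun φ : D.obj j ⟶ c.pt => φ.hom y) (c.w (IsFiltered.leftToMax j j'))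
          · exact congrArg (fun φ : D.obj j' ⟶ c.pt => φ.hom y') (c.w (IsFiltered.rightToMax j j'))
      | smul a x _ ihx =>
        obtain ⟨j, y, hy, rfl⟩ := ihx
        obtain ⟨j', a', rfl⟩ := Concrete.isColimit_exists_rep D hc a
        refine ⟨IsFiltered.max j j', (D.map (IsFiltered.rightToMax j j')).hom a' *
          (D.map (IsFiltered.leftToMax j j')).hom y, ?_, ?_⟩
        · apply Ideal.mul_mem_left
          have := Ideal.mem_map_of_mem (D.map (IsFiltered.leftToMax j j')).hom hy
          rwa [Ideal.map_map, ← CommRingCat.hom_comp, hsD] at this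
        · rw [map_mul, smul_eq_mul]
          congr 1
          · exact congrArg (fun φ : D.obj j' ⟶ c.pt => φ.hom a') (c.w (IsFiltered.rightToMax j j'))
          · exact congrArg (fun φ : D.obj j ⟶ c.pt => φ.hom y) (c.w (IsFiltered.leftToMax j j'))
    intro b hb
    rw [Ideal.mem_comap] at hb
    obtain ⟨j, y, hy, hyx⟩ := key _ hb
    have hgb : g.hom b = (c.ι.app j).hom ((s.app j).hom b) := by
      rw [← hcomp j]
      rfl
    rw [hgb] at hyx
    obtain ⟨k, f₁, f₂, hff⟩ := Concrete.isColimit_exists_of_rep_eq D hc y ((s.app j).hom b) hyx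
    have h1 : (D.map f₁).hom y ∈ p.asIdeal.map (s.app k).hom := by
      have := Ideal.mem_map_of_mem (D.map f₁).hom hy
      rwa [Ideal.map_map, ← CommRingCat.hom_comp, hsD] at this
    have h2 : (D.map f₂).hom ((s.app j).hom b) = (s.app k).hom b := by
      have := congrArg (fun φ : B ⟶ D.obj k => φ.hom b) (hsD f₂)
      exact this
    have h3 : (s.app k).hom b ∈ p.asIdeal.map (s.app k).hom := by
      rw [← h2]
      have : (D.map f₁).hom y = (D.map f₂).hom ((s.app j).hom b) := hff
      rw [← this]
      exact h1
    rw [← hp' k]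
    exact h3

end Groth.Agent.S4593
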