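import Groth.Statements.S4594
import Mathlib

set_option autoImplicit false
universe u
open TensorProduct KaehlerDifferential
open EGA41

namespace Groth.Agent.S4594

open TensorProduct in
theorem key {Λ A C : Type u} [CommRing Λ] [CommRing A] [CommRing C] [Algebra Λ A] [Algebra A C]
    [Algebra Λ C] [IsScalarTower Λ A C] (hsurj : Function.Surjective (algebraMap A C)) (p : ℕ)
    [Algebra (Λ ⧸ Ideal.span {(p : Λ)}) C] [IsScalarTower Λ (Λ ⧸ Ideal.span {(p : Λ)}) C]
    [Algebra.FormallySmooth (Λ ⧸ Ideal.span {(p : Λ)}) C]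
    (hp : (p : A) ∈ RingHom.ker (algebraMap A C)) (x : A)
    (hx : x ∈ RingHom.ker (algebraMap A C))
    (h0 : (1 : C) ⊗ₜ[A] (KaehlerDifferential.D Λ A x) = 0) :
    x ∈ RingHom.ker (algebraMap A C) ^ 2 ⊔ Ideal.span {(p : A)} := by
  classical
  obtain ⟨I₂, hI₂⟩ : ∃ I₂ : Ideal A,
      I₂ = RingHom.ker (algebraMap A C) ^ 2 ⊔ Ideal.span {(p : A)} := ⟨_, rfl⟩
  rw [← hI₂]
  have hI₂ker : I₂ ≤ RingHom.ker (algebraMap A C) := by
    rw [hI₂]
    refine sup_le (Ideal.pow_le_self two_ne_zero) ?_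
    rw [Ideal.span_singleton_le_iff_mem]
    exact hp
  let π₀ : A ⧸ I₂ →+* C := Ideal.Quotient.lift I₂ (algebraMap A C) (fun a ha => hI₂ker ha)
  have hπ₀mk : ∀ a, π₀ (Ideal.Quotient.mk I₂ a) = algebraMap A C a := fun a => rfl
  have hpA' : algebraMap Λ (A ⧸ I₂) (p : Λ) = 0 := by
    rw [map_natCast, ← map_natCast (Ideal.Quotient.mk I₂), Ideal.Quotient.eq_zero_iff_mem, hI₂]
    exact Ideal.mem_sup_right (Ideal.mem_span_singleton_self _)
  let ι₀ : Λ ⧸ Ideal.span {(p : Λ)} →+* A ⧸ I₂ :=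
    Ideal.Quotient.lift _ (algebraMap Λ (A ⧸ I₂)) (fun r hr => by
      obtain ⟨s, rfl⟩ := Ideal.mem_span_singleton'.mp hr
      rw [map_mul, hpA', mul_zero])
  letI : Algebra (Λ ⧸ Ideal.span {(p : Λ)}) (A ⧸ I₂) := ι₀.toAlgebra
  haveI : IsScalarTower Λ (Λ ⧸ Ideal.span {(p : Λ)}) (A ⧸ I₂) :=
    IsScalarTower.of_algebraMap_eq (fun r => rfl)
  let π' : A ⧸ I₂ →ₐ[Λ ⧸ Ideal.span {(p : Λ)}] C :=
    { toRingHom := π₀
      commutes' := by
        intro r
        obtain ⟨r, rfl⟩ := Ideal.Quotient.mk_surjective r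
        show π₀ (ι₀ (Ideal.Quotient.mk _ r)) =
          algebraMap (Λ ⧸ Ideal.span {(p : Λ)}) C (Ideal.Quotient.mk _ r)
        have h1 : ι₀ (Ideal.Quotient.mk _ r) = Ideal.Quotient.mk I₂ (algebraMap Λ A r) := rfl
        rw [h1, hπ₀mk, ← IsScalarTower.algebraMap_apply Λ A C]
        exact IsScalarTower.algebraMap_apply Λ (Λ ⧸ Ideal.span {(p : Λ)}) C r }
  have hπsurj : Function.Surjective π' := by
    intro c
    obtain ⟨a, rfl⟩ := hsurj c
    exact ⟨Ideal.Quotient.mk I₂ a, rfl⟩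
  have hkermem : ∀ u : A ⧸ I₂, π₀ u = 0 → ∀ v, π₀ v = 0 → u * v = 0 := by
    intro u hu v hv
    obtain ⟨a, rfl⟩ := Ideal.Quotient.mk_surjective u
    obtain ⟨b, rfl⟩ := Ideal.Quotient.mk_surjective v
    rw [hπ₀mk] at hu hv
    rw [← map_mul, Ideal.Quotient.eq_zero_iff_mem, hI₂]
    refine Ideal.mem_sup_left ?_
    rw [pow_two]
    exact Ideal.mul_mem_mul ((RingHom.mem_ker).mpr hu) ((RingHom.mem_ker).mpr hv)
  have hnil : IsNilpotent (RingHom.ker (π' : A ⧸ I₂ →+* C)) := by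
    refine ⟨2, ?_⟩
    rw [Ideal.zero_eq_bot, eq_bot_iff, pow_two, Ideal.mul_le]
    intro u hu v hv
    rw [Ideal.mem_bot]
    exact hkermem u hu v hv
  obtain ⟨σ, hσdef⟩ : ∃ σ : C →ₐ[Λ ⧸ Ideal.span {(p : Λ)}] A ⧸ I₂, π'.comp σ = AlgHom.id _ C :=
    ⟨_, Algebra.FormallySmooth.comp_liftOfSurjective (AlgHom.id _ C) π' hπsurj hnil⟩
  have hσ : ∀ c, π₀ (σ c) = c := fun c => AlgHom.congr_fun hσdef c
  let Dlin : A →ₗ[Λ] A ⧸ I₂ := (Ideal.Quotient.mkₐ Λ I₂).toLinearMap -
    ((σ.toLinearMap.restrictScalars Λ).comp (IsScalarTower.toAlgHom Λ A C).toLinearMap)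
  have hDlin : ∀ a, Dlin a = Ideal.Quotient.mk I₂ a - σ (algebraMap A C a) := fun a => rfl
  have hDker : ∀ a, π₀ (Dlin a) = 0 := by
    intro a
    rw [hDlin, map_sub, hπ₀mk, hσ, sub_self]
  let δ : Derivation Λ A (A ⧸ I₂) := Derivation.mk' Dlin (by
    intro a b
    have huv := hkermem _ (hDker a) _ (hDker b)
    rw [hDlin a, hDlin b] at huv
    rw [hDlin (a * b), hDlin b, hDlin a]
    simp only [map_mul, Algebra.smul_def, Ideal.Quotient.algebraMap_eq]
    linear_combination (-1 : A ⧸ I₂) * huv)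
  have hδ : ∀ a, δ a = Dlin a := fun a => rfl
  have hLD : ∀ a, δ.liftKaehlerDifferential (KaehlerDifferential.D Λ A a) = Dlin a := fun a =>
    (Derivation.liftKaehlerDifferential_comp_D δ a).trans (hδ a)
  have hLker : ∀ ω, π₀ (δ.liftKaehlerDifferential ω) = 0 := by
    intro ω
    have hω : ω ∈ Submodule.span A (Set.range (KaehlerDifferential.D Λ A)) := by
      rw [KaehlerDifferential.span_range_derivation]; exact Submodule.mem_top
    refine Submodule.span_induction ?_ ?_ ?_ ?_ hω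
    · rintro _ ⟨a, rfl⟩
      rw [hLD]; exact hDker a
    · rw [map_zero, map_zero]
    · intro y z _ _ hy hz
      rw [map_add, map_add, hy, hz, add_zero]
    · intro a y _ hy
      rw [map_smul, Algebra.smul_def, map_mul, hy, mul_zero]
  let β : C →ₗ[A] Ω[A⁄Λ] →ₗ[A] A ⧸ I₂ :=
    LinearMap.mk₂ A (fun c ω => σ c * δ.liftKaehlerDifferential ω)
      (fun c₁ c₂ ω => by rw [map_add, add_mul])
      (fun a c ω => by
        have h1 := hkermem _ (hDker a) _ (hLker ω)
        rw [hDlin] at h1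
        rw [Algebra.smul_def, map_mul, Algebra.smul_def, Ideal.Quotient.algebraMap_eq]
        linear_combination (-(σ c)) * h1)
      (fun c ω₁ ω₂ => by rw [map_add, mul_add])
      (fun a c ω => by
        rw [map_smul, Algebra.smul_def, Algebra.smul_def]
        ring)
  have hΦ : TensorProduct.lift β ((1 : C) ⊗ₜ[A] KaehlerDifferential.D Λ A x) =
      Ideal.Quotient.mk I₂ x := by
    rw [TensorProduct.lift.tmul]
    show σ 1 * δ.liftKaehlerDifferential (KaehlerDifferential.D Λ A x) = _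
    rw [map_one, one_mul, hLD, hDlin, (RingHom.mem_ker).mp hx, map_zero, sub_zero]
  rw [h0, map_zero] at hΦ
  exact Ideal.Quotient.eq_zero_iff_mem.mp hΦ.symm



/-- Let Λ be a ring, A → C a surjection of Λ-algebras with kernel J, C of characteristic p > 0, and π
the class of p·1 in J/J². If C is formally smooth over Λ/pΛ for the discrete topologies, then 0 →
(J/J²)/Cπ → Ω_{A/Λ} ⊗_A C → Ω_{C/Λ} → 0 is exact: the kernel of the conormal map J/J² → Ω_{A/Λ} ⊗_A
C is the span of π, and the base-change map to Ω_{C/Λ} is surjective with kernel the image of J/J². -/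
theorem result {Λ A C : Type u} [CommRing Λ] [CommRing A]
    [CommRing C] [Algebra Λ A] [Algebra A C] [Algebra Λ C] [IsScalarTower Λ A C]
    (hsurj : Function.Surjective (algebraMap A C)) (p : ℕ) [Fact p.Prime] [CharP C p]
    [Algebra (Λ ⧸ Ideal.span {(p : Λ)}) C] [IsScalarTower Λ (Λ ⧸ Ideal.span {(p : Λ)}) C]
    [Algebra.FormallySmooth (Λ ⧸ Ideal.span {(p : Λ)}) C]
    (hp : (p : A) ∈ RingHom.ker (algebraMap A C)) :
    LinearMap.ker (kerCotangentToTensor Λ A C) =
        Submodule.span A {(RingHom.ker (algebraMap A C)).toCotangent ⟨(p : A), hp⟩} ∧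
      LinearMap.range (kerCotangentToTensor Λ A C) = (LinearMap.ker (mapBaseChange Λ A C)).restrictScalars A ∧
      Function.Surjective (mapBaseChange Λ A C) := by
  classical
  refine ⟨?_, KaehlerDifferential.range_kerCotangentToTensor Λ A C hsurj,
    KaehlerDifferential.mapBaseChange_surjective Λ A C hsurj⟩
  apply le_antisymm
  · intro y hy
    obtain ⟨⟨x, hx⟩, rfl⟩ := Ideal.toCotangent_surjective _ y
    rw [LinearMap.mem_ker, KaehlerDifferential.kerCotangentToTensor_toCotangent] at hy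
    have hx2 := key hsurj p hp x hx hy
    rw [Submodule.mem_sup] at hx2
    obtain ⟨j, hj, t, ht, hjt⟩ := hx2
    obtain ⟨a, rfl⟩ := Ideal.mem_span_singleton'.mp ht
    have hjJ : j ∈ RingHom.ker (algebraMap A C) := Ideal.pow_le_self two_ne_zero hj
    have e : (⟨x, hx⟩ : RingHom.ker (algebraMap A C)) =
        ⟨j, hjJ⟩ + a • ⟨(p : A), hp⟩ := Subtype.ext hjt.symm
    rw [e, map_add, map_smul, (Ideal.toCotangent_eq_zero _ ⟨j, hjJ⟩).mpr hj, zero_add]
    exact Submodule.smul_mem _ _ (Submodule.subset_span (Set.mem_singleton _))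
  · rw [Submodule.span_le, Set.singleton_subset_iff, SetLike.mem_coe, LinearMap.mem_ker,
      KaehlerDifferential.kerCotangentToTensor_toCotangent]
    show (1 : C) ⊗ₜ[A] (KaehlerDifferential.D Λ A) ((p : ℕ) : A) = 0
    rw [Derivation.map_natCast, TensorProduct.tmul_zero]

end Groth.Agent.S4594
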