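import Groth.Statements.S4597
import Mathlib

set_option autoImplicit false
universe u
open AlgebraicGeometry CategoryTheory CategoryTheory.Limits
open EGA41

namespace Groth.Agent.S4597

/-- Let f : X → Y, g : Y' → Y and f' : X ×_Y Y' → Y' the base change. If g is quasi-compact surjective
and f' quasi-compact, f is quasi-compact; if g is surjective and f' dominant, f is dominant. -/
theorem result {X Y Y' : Scheme.{u}} (f : X ⟶ Y)
    (g : Y' ⟶ Y) [Surjective g] :
    (QuasiCompact g → QuasiCompact (pullback.snd f g) → QuasiCompact f) ∧
    (IsDominant (pullback.snd f g) → IsDominant f) := by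
  constructor
  · intro hg hf'
    have : Surjective (pullback.fst f g) := inferInstance
    constructor
    intro U hU hU'
    have h1 : IsCompact ((g : Y' → Y) ⁻¹' U) := hg.isCompact_preimage U hU hU'
    have h1o : IsOpen ((g : Y' → Y) ⁻¹' U) := hU.preimage g.continuous
    have h2 : IsCompact ((pullback.snd f g : _ → Y') ⁻¹' ((g : Y' → Y) ⁻¹' U)) :=
      hf'.isCompact_preimage _ h1o h1
    have h3 : (f : X → Y) ⁻¹' U =
        (pullback.fst f g) '' ((pullback.snd f g : _ → Y') ⁻¹' ((g : Y' → Y) ⁻¹' U)) := by
      ext x
      constructor
      · intro hx
        obtain ⟨z, rfl⟩ := (pullback.fst f g).surjective x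
        refine ⟨z, ?_, rfl⟩
        have : (pullback.snd f g ≫ g) z = (pullback.fst f g ≫ f) z := by
          rw [pullback.condition]
        simp only [Set.mem_preimage] at hx ⊢
        have h4 : g ((pullback.snd f g) z) = f ((pullback.fst f g) z) := by
          simpa using this
        rw [h4]; exact hx
      · rintro ⟨z, hz, rfl⟩
        have : (pullback.snd f g ≫ g) z = (pullback.fst f g ≫ f) z := by
          rw [pullback.condition]
        have h4 : g ((pullback.snd f g) z) = f ((pullback.fst f g) z) := by
          simpa using this
        simp only [Set.mem_preimage] at hz ⊢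
        rw [← h4]; exact hz
    rw [h3]
    exact h2.image (pullback.fst f g).continuous
  · intro hf'
    have : IsDominant (pullback.snd f g ≫ g) := inferInstance
    have : IsDominant (pullback.fst f g ≫ f) := by
      rw [pullback.condition]; infer_instance
    exact IsDominant.of_comp (f := pullback.fst f g) (g := f)

end Groth.Agent.S4597
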