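import Groth.Statements.S4598
import Mathlib
import Groth.Agent.S4597

set_option autoImplicit false
universe u
open AlgebraicGeometry CategoryTheory CategoryTheory.Limits
open EGA41

namespace Groth.Agent.S4598

theorem quasiCompact_descendsAlong :
    MorphismProperty.DescendsAlong (@QuasiCompact.{u}) (@Surjective.{u} ⊓ @QuasiCompact.{u} : MorphismProperty Scheme.{u}) := by
  have : MorphismProperty.RespectsIso @QuasiCompact.{u} :=
    MorphismProperty.IsStableUnderBaseChange.respectsIso
  apply MorphismProperty.DescendsAlong.mk'
  intro X Y Z f g _ hf hfst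
  have hsurj : Surjective f := hf.1
  have hqc : QuasiCompact f := hf.2
  have h1 : QuasiCompact (pullback.snd g f) := by
    have : pullback.snd g f = (pullbackSymmetry g f).hom ≫ pullback.fst f g := by simp
    rw [this]
    have : QuasiCompact (pullback.fst f g) := hfst
    infer_instance
  exact (Groth.Agent.S4597.result g f).1 hqc h1

/-- If g : Y' → Y is quasi-compact and surjective and the base change X ×_Y Y' → Y' of f : X → Y is
quasi-separated, then f is quasi-separated. -/
theorem result {X Y Y' : Scheme.{u}} (f : X ⟶ Y)
    (g : Y' ⟶ Y) [QuasiCompact g] [Surjective g] [QuasiSeparated (pullback.snd f g)] :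
    QuasiSeparated f := by
  have hdesc := quasiCompact_descendsAlong.{u}
  have : MorphismProperty.RespectsIso @QuasiCompact.{u} :=
    MorphismProperty.IsStableUnderBaseChange.respectsIso
  have hs1 : MorphismProperty.IsStableUnderBaseChange (@Surjective.{u}) := inferInstance
  have hs2 : MorphismProperty.IsStableUnderBaseChange (@QuasiCompact.{u}) := inferInstance
  have hs : MorphismProperty.IsStableUnderBaseChange
      (@Surjective.{u} ⊓ @QuasiCompact.{u} : MorphismProperty Scheme.{u}) :=
    MorphismProperty.IsStableUnderBaseChange.inf
  have hdiag : MorphismProperty.DescendsAlong (MorphismProperty.diagonal @QuasiCompact.{u})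
      (@Surjective.{u} ⊓ @QuasiCompact.{u} : MorphismProperty Scheme.{u}) :=
    MorphismProperty.instDescendsAlongDiagonalOfRespectsIsoOfIsStableUnderBaseChange _ _
  rw [← quasiSeparated_eq_diagonal_is_quasiCompact] at hdiag
  exact MorphismProperty.of_pullback_snd_of_descendsAlong (P := @QuasiSeparated)
    (Q := (@Surjective ⊓ @QuasiCompact : MorphismProperty Scheme.{u})) (f := f) (g := g)
    ⟨inferInstance, inferInstance⟩ inferInstance

end Groth.Agent.S4598
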