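import Groth.Statements.S4600
import Mathlib

set_option autoImplicit false
universe u
open CategoryTheory CategoryTheory.Limits TensorProduct
open EGA41

namespace Groth.Agent.S4600

/-- Let (A_i) be a filtered system of rings with colimit A and B a finitely presented A-algebra. Then
some stage A_i carries a finitely presented algebra B_i with B isomorphic to A ⊗_{A_i} B_i as
A-algebras (existence of an isomorphism; the base change is along the colimit map A_i → A). -/
theorem result {I : Type u} [SmallCategory I] [IsFiltered I]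
    (D : I ⥤ CommRingCat.{u}) (c : Cocone D) (hc : IsColimit c) (B : Type u) [CommRing B] [Algebra c.pt B]
    [Algebra.FinitePresentation c.pt B] :
    ∃ (i : I) (Bi : Type u) (_ : CommRing Bi) (_ : Algebra (D.obj i) Bi),
      Algebra.FinitePresentation (D.obj i) Bi ∧
      (letI : Algebra (D.obj i) c.pt := (c.ι.app i).hom.toAlgebra
       Nonempty (B ≃ₐ[c.pt] (c.pt ⊗[D.obj i] Bi))) := by
  classical
  let P := Algebra.Presentation.ofFinitePresentation c.pt B
  -- finitely many elements of the colimit come from a common stage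
  have hfin : ∀ T : Set c.pt, T.Finite → ∃ i : I, T ⊆ Set.range (c.ι.app i).hom := by
    intro T hT
    induction T, hT using Set.Finite.induction_on with
    | empty =>
      obtain ⟨i⟩ := (IsFiltered.nonempty : Nonempty I)
      exact ⟨i, Set.empty_subset _⟩
    | @insert a T _ _ ih =>
      obtain ⟨j, hj⟩ := ih
      obtain ⟨j', a', ha'⟩ := Concrete.isColimit_exists_rep D hc a
      refine ⟨IsFiltered.max j j', ?_⟩
      intro x hx
      rcases hx with rfl | hx
      · refine ⟨(D.map (IsFiltered.rightToMax j j')).hom a', ?_⟩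
        rw [← ha']
        exact congrArg (fun φ : D.obj j' ⟶ c.pt => φ.hom a') (c.w (IsFiltered.rightToMax j j'))
      · obtain ⟨y, rfl⟩ := hj hx
        refine ⟨(D.map (IsFiltered.leftToMax j j')).hom y, ?_⟩
        exact congrArg (fun φ : D.obj j ⟶ c.pt => φ.hom y) (c.w (IsFiltered.leftToMax j j'))
  obtain ⟨i, hi⟩ := hfin P.coeffs P.finite_coeffs
  letI : Algebra (D.obj i) c.pt := (c.ι.app i).hom.toAlgebra
  letI : Algebra (D.obj i) B := ((algebraMap c.pt B).comp (c.ι.app i).hom).toAlgebra
  haveI : IsScalarTower (D.obj i) c.pt B := IsScalarTower.of_algebraMap_eq (fun _ => rfl)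
  haveI : P.HasCoeffs (D.obj i) := ⟨hi⟩
  exact ⟨i, P.ModelOfHasCoeffs (D.obj i), inferInstance, inferInstance, inferInstance,
    ⟨(P.tensorModelOfHasCoeffsEquiv (D.obj i)).symm⟩⟩

end Groth.Agent.S4600
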