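import Groth.Statements.S4601
import Mathlib

set_option autoImplicit false
universe u
open TensorProduct
open CAlg

namespace Groth.Agent.S4601

/-- Let A be a domain with fraction field K, B a Noetherian A-algebra which is flat over A, K' an
extension field of K, B₁ = B_red and R its total ring of fractions. For every sub-A-algebra A' of
K', the map (A' ⊗_A B)_red → (K' ⊗_A R)_red is injective, i.e. an element of A' ⊗_A B with nilpotent
image in K' ⊗_A R is nilpotent. -/
theorem result {A B K' R : Type u} [CommRing A]
    [IsDomain A] [CommRing B] [Algebra A B] [IsNoetherianRing B] [Module.Flat A B]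
    [Field K'] [Algebra A K'] [Algebra (FractionRing A) K'] [IsScalarTower A (FractionRing A) K']
    [CommRing R] [Algebra (B ⧸ nilradical B) R] [IsFractionRing (B ⧸ nilradical B) R]
    [Algebra B R] [IsScalarTower B (B ⧸ nilradical B) R] [Algebra A R] [IsScalarTower A B R]
    (A' : Subalgebra A K') (x : ↥A' ⊗[A] B)
    (hx : IsNilpotent (Algebra.TensorProduct.map A'.val (IsScalarTower.toAlgHom A B R) x)) :
    IsNilpotent x := by
  haveI : Module.Flat A K' := Module.Flat.trans A (FractionRing A) K'
  let g : B →ₐ[A] R := IsScalarTower.toAlgHom A B R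
  let f₁ : ↥A' ⊗[A] B →ₐ[A] K' ⊗[A] B := Algebra.TensorProduct.map A'.val (AlgHom.id A B)
  let f₂ : K' ⊗[A] B →ₐ[A] K' ⊗[A] R := Algebra.TensorProduct.map (AlgHom.id A K') g
  have hcomp : ∀ y, Algebra.TensorProduct.map A'.val g y = f₂ (f₁ y) := by
    intro y
    induction y using TensorProduct.induction_on with
    | zero => simp
    | tmul a b => simp [f₁, f₂]
    | add y z hy hz => simp only [map_add, hy, hz]
  have hf₁ : Function.Injective f₁ := by
    have hinj : Function.Injective (LinearMap.rTensor B A'.val.toLinearMap) :=
      Module.Flat.rTensor_preserves_injective_linearMap _ Subtype.val_injective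
    have e : ∀ w, LinearMap.rTensor B A'.val.toLinearMap w = f₁ w := by
      intro w
      induction w using TensorProduct.induction_on with
      | zero => simp
      | tmul a b => simp [f₁]
      | add y z hy hz => simp only [map_add, hy, hz]
    intro y z hyz
    apply hinj
    rw [e, e, hyz]
  have hker : ∀ b : B, g b = 0 → IsNilpotent b := by
    intro b hb
    have h1 : algebraMap (B ⧸ nilradical B) R (Ideal.Quotient.mk _ b) = 0 := by
      rw [← hb]
      exact (IsScalarTower.algebraMap_apply B (B ⧸ nilradical B) R b).symm
    have h2 : Ideal.Quotient.mk (nilradical B) b = 0 :=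
      (IsFractionRing.injective (B ⧸ nilradical B) R) (by rw [h1, map_zero])
    exact mem_nilradical.mp (Ideal.Quotient.eq_zero_iff_mem.mp h2)
  have hnil : ∀ z : K' ⊗[A] (LinearMap.ker g.toLinearMap),
      IsNilpotent (LinearMap.lTensor K' (LinearMap.ker g.toLinearMap).subtype z) := by
    intro z
    induction z using TensorProduct.induction_on with
    | zero => simp
    | tmul c n =>
      rw [LinearMap.lTensor_tmul]
      obtain ⟨m, hm⟩ := hker n.1 n.2
      refine ⟨m, ?_⟩
      rw [Submodule.subtype_apply, Algebra.TensorProduct.tmul_pow, hm, TensorProduct.tmul_zero]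
    | add z w hz hw =>
      rw [map_add]
      exact (Commute.all _ _).isNilpotent_add hz hw
  have hkerf₂ : ∀ y, f₂ y = 0 → IsNilpotent y := by
    intro y hy
    have hex : Function.Exact (LinearMap.lTensor K' (LinearMap.ker g.toLinearMap).subtype)
        (LinearMap.lTensor K' g.toLinearMap) :=
      Module.Flat.lTensor_exact K' (LinearMap.exact_subtype_ker_map g.toLinearMap)
    have e : ∀ w, LinearMap.lTensor K' g.toLinearMap w = f₂ w := by
      intro w
      induction w using TensorProduct.induction_on with
      | zero => simp
      | tmul a b => simp [f₂]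
      | add y z hy hz => simp only [map_add, hy, hz]
    obtain ⟨z, hz⟩ := (hex y).mp (by rw [e, hy])
    rw [← hz]
    exact hnil z
  obtain ⟨n, hn⟩ := hx
  rw [hcomp, ← map_pow, ← map_pow] at hn
  obtain ⟨m, hm⟩ := hkerf₂ _ hn
  rw [← map_pow] at hm
  refine ⟨n * m, ?_⟩
  apply hf₁
  rw [map_zero, pow_mul]
  exact hm

end Groth.Agent.S4601
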