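import Groth.Statements.S4603
import Mathlib
import Groth.Agent.Lib.Lead.QcClosure

set_option autoImplicit false
universe u
open AlgebraicGeometry CategoryTheory
open EGA41

namespace Groth.Agent.S4603

/-- Let f : X → Y be quasi-compact. The following are equivalent: f is dominant; the fibre of f over
every maximal point of Y (a point with no proper generization, i.e. the generic point of an
irreducible component) is nonempty; every maximal point of Y is the image of a maximal point of X. -/
theorem result {X Y : Scheme.{u}} (f : X ⟶ Y) [QuasiCompact f] :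
    [IsDominant f,
     ∀ y : Y, (∀ y' : Y, y' ⤳ y → y' = y) → y ∈ Set.range f.base,
     ∀ y : Y, (∀ y' : Y, y' ⤳ y → y' = y) → ∃ x : X, (∀ x' : X, x' ⤳ x → x' = x) ∧ f.base x = y].TFAE := by
  classical
  -- every point is a specialization of a maximal point
  have key : ∀ (Z : Scheme.{u}) (z : Z), ∃ z₀ : Z, (∀ z' : Z, z' ⤳ z₀ → z' = z₀) ∧ z₀ ⤳ z := by
    intro Z z
    have hmem := irreducibleComponent_mem_irreducibleComponents z
    have hirr : IsIrreducible (irreducibleComponent z) := isIrreducible_irreducibleComponent
    have hcl : IsClosed (irreducibleComponent z) := isClosed_irreducibleComponent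
    obtain ⟨z₀, hz₀⟩ := QuasiSober.sober hirr hcl
    refine ⟨z₀, ?_, ?_⟩
    · intro z' hz'
      have h1 : irreducibleComponent z ⊆ closure ({z'} : Set Z) := by
        rw [← hz₀.def]
        exact (isClosed_closure.closure_subset_iff).mpr
          (Set.singleton_subset_iff.mpr (specializes_iff_mem_closure.mp hz'))
      have h2 : closure ({z'} : Set Z) ⊆ irreducibleComponent z :=
        hmem.2 (isIrreducible_singleton (x := z')).closure h1
      have h3 : z' ∈ closure ({z₀} : Set Z) := by
        rw [hz₀.def]
        exact h2 (subset_closure rfl)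
      have h4 : z₀ ⤳ z' := specializes_iff_mem_closure.mpr h3
      exact (h4.antisymm hz').eq.symm
    · apply specializes_iff_mem_closure.mpr
      rw [hz₀.def]
      exact mem_irreducibleComponent
  tfae_have 1 → 2 := by
    intro hdom y hy
    have hy' : y ∈ closure (Set.range f.base) := by
      rw [hdom.denseRange.closure_range]; trivial
    obtain ⟨x, hx⟩ := Groth.Agent.Lead.exists_specializes_of_mem_closure_range f y hy'
    exact ⟨x, hy _ hx⟩
  tfae_have 2 → 3 := by
    intro h y hy
    obtain ⟨x₀, rfl⟩ := h y hy
    obtain ⟨x, hxmax, hx⟩ := key X x₀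
    exact ⟨x, hxmax, hy _ (hx.map f.continuous)⟩
  tfae_have 3 → 1 := by
    intro h
    refine ⟨fun y => ?_⟩
    obtain ⟨y₀, hy₀max, hy₀⟩ := key Y y
    obtain ⟨x, -, hx⟩ := h y₀ hy₀max
    have : y₀ ∈ closure (Set.range f.base) := subset_closure ⟨x, hx⟩
    exact hy₀.mem_closed isClosed_closure this
  tfae_finish

end Groth.Agent.S4603
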