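import Mathlib
import Groth.Statements.S4605
-- import your own Groth.Agent.* helpers here

set_option autoImplicit false
universe u
open IsLocalRing
open EGA41

namespace Groth.Agent.S4605


section Aux
variable {A : Type u} [CommRing A] [IsLocalRing A] (p : ℕ) [Fact p.Prime] [CharP (ResidueField A) p]
  {ι : Type u} (c : ι → Fin p → A) (f : ι → A)

noncomputable def F (i : ι) : MvPolynomial ι A :=
  MvPolynomial.X i ^ p + (p : MvPolynomial ι A) * (Finset.univ.sum fun j : Fin p =>
    if (j : ℕ) = 0 then 0 else MvPolynomial.C (c i j) * MvPolynomial.X i ^ (p - (j : ℕ))) - MvPolynomial.C (f i)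

noncomputable abbrev I : Ideal (MvPolynomial ι A) := Ideal.span (Set.range (F p c f))
abbrev Q := MvPolynomial ι A ⧸ I p c f
noncomputable abbrev M : Ideal (Q p c f) := (maximalIdeal A).map (algebraMap A (Q p c f))
noncomputable abbrev J : Ideal (MvPolynomial ι A) :=
  I p c f ⊔ (maximalIdeal A).map (MvPolynomial.C)
abbrev L := MvPolynomial ι A ⧸ J p c f

noncomputable def τ (i : ι) : L p c f := Ideal.Quotient.mk _ (MvPolynomial.X i)

theorem C_mem_J {a : A} (ha : a ∈ maximalIdeal A) : MvPolynomial.C a ∈ J p c f :=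
  Ideal.mem_sup_right (Ideal.mem_map_of_mem _ ha)

theorem natCast_L : (p : L p c f) = 0 := by
  have h1 : (p : A) ∈ maximalIdeal A := by
    rw [← IsLocalRing.residue_eq_zero_iff, map_natCast]
    exact CharP.cast_eq_zero _ p
  have : (p : L p c f) = Ideal.Quotient.mk (J p c f) (MvPolynomial.C (p : A)) := by
    rw [map_natCast, map_natCast]
  rw [this]
  exact Ideal.Quotient.eq_zero_iff_mem.mpr (C_mem_J p c f h1)

theorem algebraMap_eq_zero {a : A} (ha : a ∈ maximalIdeal A) :
    (algebraMap A (L p c f) : A →+* L p c f) a = 0 := by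
  show Ideal.Quotient.mk (J p c f) (MvPolynomial.C a) = 0
  exact Ideal.Quotient.eq_zero_iff_mem.mpr (C_mem_J p c f ha)

theorem tau_pow (i : ι) : τ p c f i ^ p = (algebraMap A (L p c f) : A →+* L p c f) (f i) := by
  have h1 : (Ideal.Quotient.mk (J p c f)) (F p c f i) = 0 :=
    Ideal.Quotient.eq_zero_iff_mem.mpr (Ideal.mem_sup_left (Ideal.subset_span ⟨i, rfl⟩))
  simp only [F, map_sub, map_add, map_mul, map_pow, map_natCast, map_zero] at h1
  rw [natCast_L, zero_mul, add_zero] at h1
  have h2 : (Ideal.Quotient.mk (J p c f)) (MvPolynomial.C (f i))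
      = (algebraMap A (L p c f) : A →+* L p c f) (f i) := rfl
  rw [h2] at h1
  exact sub_eq_zero.mp h1

theorem nontrivial_L : Nontrivial (L p c f) := by
  classical
  let K := ResidueField A
  let Kb := AlgebraicClosure K
  have hz : ∀ i, ∃ z : Kb, z ^ p = algebraMap K Kb (residue A (f i)) := fun i =>
    IsAlgClosed.exists_pow_nat_eq _ (Fact.out : p.Prime).pos
  choose z hz using hz
  let φ : A →+* Kb := (algebraMap K Kb).comp (residue A)
  let g : MvPolynomial ι A →+* Kb := MvPolynomial.eval₂Hom φ z
  have hp0 : (p : Kb) = 0 := by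
    rw [← map_natCast (algebraMap K Kb) p, CharP.cast_eq_zero K p, map_zero]
  have hg : I p c f ≤ RingHom.ker g := by
    rw [Ideal.span_le]
    rintro _ ⟨i, rfl⟩
    rw [SetLike.mem_coe, RingHom.mem_ker]
    simp only [F, map_sub, map_add, map_mul, map_pow, map_natCast, hp0, zero_mul, add_zero]
    simp only [g, MvPolynomial.coe_eval₂Hom, MvPolynomial.eval₂_X, MvPolynomial.eval₂_C]
    rw [hz i]; exact sub_self _
  have hg' : (maximalIdeal A).map (MvPolynomial.C) ≤ RingHom.ker g := by
    rw [Ideal.map_le_iff_le_comap]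
    intro a ha
    rw [Ideal.mem_comap, RingHom.mem_ker]
    have : g (MvPolynomial.C a) = φ a := by simp [g]
    rw [this]
    show algebraMap K Kb (residue A a) = 0
    rw [(IsLocalRing.residue_eq_zero_iff a).mpr ha, map_zero]
  let g'' : L p c f →+* Kb :=
    Ideal.Quotient.lift _ g (fun x hx => RingHom.mem_ker.mp (sup_le hg hg' hx))
  exact g''.domain_nontrivial

abbrev E (p : ℕ) (ι : Type u) := {e : ι →₀ ℕ // ∀ i, e i < p}

noncomputable def mon (e : ι →₀ ℕ) : L p c f := e.prod fun i n => τ p c f i ^ n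

theorem mon_split (e : ι →₀ ℕ) (i : ι) :
    mon p c f e = τ p c f i ^ (e i) * mon p c f (e.erase i) :=
  (Finsupp.mul_prod_erase' e i _ (fun _ => pow_zero _)).symm

theorem mon_update (e : ι →₀ ℕ) (i : ι) (k : ℕ) :
    mon p c f (e.update i k) = τ p c f i ^ k * mon p c f (e.erase i) := by
  classical
  rw [mon_split p c f (e.update i k) i, Finsupp.erase_update_eq_erase, Finsupp.coe_update,
    Function.update_self]

noncomputable abbrev S : Submodule A (L p c f) :=
  Submodule.span A (Set.range fun e : E p ι => mon p c f e.1)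

theorem update_lt (e : ι →₀ ℕ) (he : ∀ j, e j < p) (i : ι) (k : ℕ) (hk : k < p) :
    ∀ j, (e.update i k) j < p := by
  classical
  intro j
  rw [Finsupp.coe_update, Function.update_apply]
  split_ifs
  · exact hk
  · exact he j

theorem tau_mul_mon (i : ι) (e : ι →₀ ℕ) (he : ∀ j, e j < p) :
    τ p c f i * mon p c f e ∈ S p c f := by
  have h1 : τ p c f i * mon p c f e = τ p c f i ^ (e i + 1) * mon p c f (e.erase i) := by
    rw [mon_split p c f e i, pow_succ]; ring
  by_cases h : e i + 1 < p
  · rw [h1, ← mon_update]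
    exact Submodule.subset_span ⟨⟨e.update i (e i + 1), update_lt p e he i _ h⟩, rfl⟩
  · have h2 : e i + 1 = p := by have := he i; omega
    have h3 : mon p c f (e.erase i) = mon p c f (e.update i 0) := by
      rw [mon_update, pow_zero, one_mul]
    rw [h1, h2, tau_pow, h3, ← Algebra.smul_def]
    exact Submodule.smul_mem _ _ (Submodule.subset_span
      ⟨⟨e.update i 0, update_lt p e he i 0 (Fact.out : p.Prime).pos⟩, rfl⟩)

theorem tau_mul_mem (i : ι) {x : L p c f} (hx : x ∈ S p c f) : τ p c f i * x ∈ S p c f := by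
  induction hx using Submodule.span_induction with
  | mem x hx => obtain ⟨e, rfl⟩ := hx; exact tau_mul_mon p c f i e.1 e.2
  | zero => rw [mul_zero]; exact zero_mem _
  | add x y _ _ hx hy => rw [mul_add]; exact add_mem hx hy
  | smul a x _ hx => rw [mul_smul_comm]; exact Submodule.smul_mem _ _ hx

theorem mem_S (x : L p c f) : x ∈ S p c f := by
  obtain ⟨P, rfl⟩ := Ideal.Quotient.mk_surjective x
  induction P using MvPolynomial.induction_on with
  | C a =>
    have : (Ideal.Quotient.mk (J p c f)) (MvPolynomial.C a)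
        = a • mon p c f 0 := by
      rw [mon, Finsupp.prod_zero_index, Algebra.smul_def, mul_one]; rfl
    rw [this]
    exact Submodule.smul_mem _ _ (Submodule.subset_span
      ⟨⟨0, fun i => (Fact.out : p.Prime).pos⟩, rfl⟩)
  | add P Q hP hQ => rw [map_add]; exact add_mem hP hQ
  | mul_X P i hP =>
    rw [map_mul, mul_comm]
    exact tau_mul_mem p c f i hP

theorem mon_pow (e : ι →₀ ℕ) :
    mon p c f e ^ p = (algebraMap A (L p c f) : A →+* L p c f) (EGA41.pMonomial f e) := by
  unfold mon EGA41.pMonomial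
  rw [Finsupp.prod, Finsupp.prod, map_prod, ← Finset.prod_pow]
  refine Finset.prod_congr rfl fun i _ => ?_
  rw [← pow_mul, mul_comm, pow_mul, tau_pow, map_pow]

theorem sum_pow (l : E p ι →₀ A) :
    (l.sum fun e a => a • mon p c f e.1) ^ p =
      (algebraMap A (L p c f) : A →+* L p c f) (l.sum fun e a => a ^ p * EGA41.pMonomial f e.1) := by
  haveI := nontrivial_L p c f
  haveI : CharP (L p c f) p :=
    (CharP.charP_iff_prime_eq_zero (Fact.out : p.Prime)).mpr (natCast_L p c f)
  rw [Finsupp.sum, Finsupp.sum, sum_pow_char, map_sum]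
  refine Finset.sum_congr rfl fun e _ => ?_
  rw [smul_pow, mon_pow, Algebra.smul_def, map_mul]

include p in
theorem coeff_mem
    (hind : LinearIndependent (↥(frobenius (ResidueField A) p).fieldRange)
      (fun e : {e : ι →₀ ℕ // ∀ i, e i < p} => EGA41.pMonomial (fun i => residue A (f i)) e.1))
    (l : E p ι →₀ A)
    (h : residue A (l.sum fun e a => a ^ p * EGA41.pMonomial f e.1) = 0) :
    ∀ e, l e ∈ maximalIdeal A := by
  intro e
  by_cases he : e ∈ l.support
  swap
  · rw [Finsupp.notMem_support_iff.mp he]; exact zero_mem _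
  rw [linearIndependent_iff'] at hind
  have h1 := hind l.support
    (fun e => ⟨residue A (l e) ^ p, RingHom.mem_fieldRange.mpr ⟨residue A (l e), rfl⟩⟩) ?_ e he
  · have h2 : residue A (l e) ^ p = 0 := congrArg Subtype.val h1
    exact (IsLocalRing.residue_eq_zero_iff _).mp
      ((pow_eq_zero_iff (Fact.out : p.Prime).ne_zero).mp h2)
  · rw [Finsupp.sum, map_sum] at h
    rw [← h]
    refine Finset.sum_congr rfl fun e _ => ?_
    rw [map_mul, map_pow]
    have : residue A (EGA41.pMonomial f e.1)
        = EGA41.pMonomial (fun i => residue A (f i)) e.1 := by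
      unfold EGA41.pMonomial
      rw [Finsupp.prod, map_prod]
      simp [Finsupp.prod, map_pow]
    rw [this]; rfl

theorem isField_L
    (hind : LinearIndependent (↥(frobenius (ResidueField A) p).fieldRange)
      (fun e : {e : ι →₀ ℕ // ∀ i, e i < p} => EGA41.pMonomial (fun i => residue A (f i)) e.1)) :
    IsField (L p c f) := by
  haveI := nontrivial_L p c f
  refine ⟨exists_pair_ne _, mul_comm, fun {x} hx => ?_⟩
  have hxS := mem_S p c f x
  obtain ⟨l, rfl⟩ := (Finsupp.mem_span_range_iff_exists_finsupp).mp hxS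
  have hpow := sum_pow p c f l
  by_cases hk : residue A (l.sum fun e a => a ^ p * EGA41.pMonomial f e.1) = 0
  · exfalso; apply hx
    have hl := coeff_mem p f hind l hk
    rw [Finsupp.sum]
    refine Finset.sum_eq_zero fun e _ => ?_
    rw [Algebra.smul_def, algebraMap_eq_zero p c f (hl e), zero_mul]
  · have hu : IsUnit (l.sum fun e a => a ^ p * EGA41.pMonomial f e.1) :=
      IsLocalRing.notMem_maximalIdeal.mp
        (fun h => hk ((IsLocalRing.residue_eq_zero_iff _).mpr h))
    have hu' := hu.map (algebraMap A (L p c f))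
    rw [← hpow] at hu'
    have hx' := (isUnit_pow_iff (Fact.out : p.Prime).ne_zero).mp hu'
    obtain ⟨b, hb⟩ := hx'.exists_right_inv
    exact ⟨b, hb⟩

theorem main (hm : maximalIdeal A ^ 2 = ⊥)
    (hind : LinearIndependent (↥(frobenius (ResidueField A) p).fieldRange)
      (fun e : {e : ι →₀ ℕ // ∀ i, e i < p} => EGA41.pMonomial (fun i => residue A (f i)) e.1)) :
    ∃ _ : IsLocalRing (Q p c f), maximalIdeal (Q p c f) = M p c f := by
  have hL := isField_L p c f hind
  haveI := nontrivial_L p c f
  let π : Q p c f →+* L p c f := Ideal.Quotient.factor (le_sup_left : I p c f ≤ J p c f)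
  have hπ : ∀ P, π (Ideal.Quotient.mk _ P) = Ideal.Quotient.mk _ P := fun P => rfl
  have hker : RingHom.ker π = M p c f := by
    apply le_antisymm
    · intro x hx
      obtain ⟨P, rfl⟩ := Ideal.Quotient.mk_surjective x
      rw [RingHom.mem_ker, hπ, Ideal.Quotient.eq_zero_iff_mem] at hx
      obtain ⟨y, hy, z, hz, rfl⟩ := Submodule.mem_sup.mp hx
      have hy0 : Ideal.Quotient.mk (I p c f) y = 0 := Ideal.Quotient.eq_zero_iff_mem.mpr hy
      rw [map_add, hy0, zero_add]
      have h1 := Ideal.mem_map_of_mem (Ideal.Quotient.mk (I p c f)) hz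
      rw [Ideal.map_map] at h1
      exact h1
    · rw [Ideal.map_le_iff_le_comap]
      intro a ha
      rw [Ideal.mem_comap, RingHom.mem_ker]
      show π (Ideal.Quotient.mk _ (MvPolynomial.C a)) = 0
      rw [hπ]
      exact Ideal.Quotient.eq_zero_iff_mem.mpr (C_mem_J p c f ha)
  have hmax : (M p c f).IsMaximal := by
    rw [← hker, Ideal.isMaximal_iff]
    refine ⟨fun h => one_ne_zero (α := L p c f) (by rw [← map_one π]; exact h), ?_⟩
    intro K x hK hx hxK
    obtain ⟨b, hb⟩ := hL.mul_inv_cancel (a := π x) (fun h => hx h)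
    obtain ⟨y, rfl⟩ := Ideal.Quotient.mk_surjective b
    have h1 : x * Ideal.Quotient.mk _ y - 1 ∈ RingHom.ker π := by
      rw [RingHom.mem_ker, map_sub, map_mul, map_one, hπ, hb, sub_self]
    have h2 : (1 : Q p c f) = x * Ideal.Quotient.mk _ y - (x * Ideal.Quotient.mk _ y - 1) := by ring
    rw [h2]
    exact K.sub_mem (K.mul_mem_right _ hxK) (hK h1)
  have hsq : (M p c f) ^ 2 = ⊥ := by rw [← Ideal.map_pow, hm, Ideal.map_bot]
  have hle : ∀ K : Ideal (Q p c f), K.IsMaximal → M p c f ≤ K := by
    intro K hK x hx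
    have h2 : x ^ 2 ∈ (M p c f) ^ 2 := Ideal.pow_mem_pow hx 2
    rw [hsq, Ideal.mem_bot] at h2
    exact hK.isPrime.mem_of_pow_mem 2 (h2 ▸ K.zero_mem)
  have hloc : IsLocalRing (Q p c f) := IsLocalRing.of_unique_max_ideal
    ⟨M p c f, hmax, fun K hK => (hmax.eq_of_le hK.ne_top (hle K hK)).symm⟩
  exact ⟨hloc, (@IsLocalRing.eq_maximalIdeal _ _ hloc _ hmax).symm⟩

end Aux


/-- Let A be a local ring with maximal ideal m of square zero and residue field K of characteristic p >
0, F_i(T_i) = T_i^p + p Σ_{k=1}^{p-1} c_{ik} T_i^{p-k} − f_i (i in a finite index set) with c_{ik},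
f_i ∈ A, and suppose the residues of the f_i in K are p-independent over K^p. Then A' = A[T_i]/(F_i)
is local with maximal ideal m A'. (The identification of the residue field with K(a_i^{1/p}) is not
restated.) -/
theorem result {A : Type u} [CommRing A]
    [IsLocalRing A] (hm : maximalIdeal A ^ 2 = ⊥) (p : ℕ) [Fact p.Prime] [CharP (ResidueField A) p]
    {ι : Type u} [Finite ι] (c : ι → Fin p → A) (f : ι → A)
    (hind : LinearIndependent (↥(frobenius (ResidueField A) p).fieldRange)
      (fun e : {e : ι →₀ ℕ // ∀ i, e i < p} => EGA41.pMonomial (fun i => residue A (f i)) e.1)) :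
    let F : ι → MvPolynomial ι A := fun i =>
      MvPolynomial.X i ^ p + (p : MvPolynomial ι A) * (Finset.univ.sum fun j : Fin p =>
        if (j : ℕ) = 0 then 0 else MvPolynomial.C (c i j) * MvPolynomial.X i ^ (p - (j : ℕ))) - MvPolynomial.C (f i)
    ∃ _ : IsLocalRing (MvPolynomial ι A ⧸ Ideal.span (Set.range F)),
      maximalIdeal (MvPolynomial ι A ⧸ Ideal.span (Set.range F)) =
        (maximalIdeal A).map (algebraMap A (MvPolynomial ι A ⧸ Ideal.span (Set.range F))) := by
  intro F
  exact main p c f hm hind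

end Groth.Agent.S4605
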