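import Mathlib
import Groth.Agent.H11.AdicJac2
import Groth.Agent.H11.AdicSmall
import Groth.Agent.H11.SmoothSmallExt
import Groth.Statements.S4606

set_option autoImplicit false
universe u
open TensorProduct KaehlerDifferential IsLocalRing
open EGA41

namespace Groth.Agent.S4606

/-- Let B be a Noetherian A-algebra formally smooth for the discrete topologies, B → C a surjection with
kernel J, p a prime of C and q its contraction to A. Then C_p is formally smooth over A_q (A_q
discrete, C_p with the adic topology of its maximal ideal) if and only if κ(p) ⊗ J/J² → κ(p) ⊗ (C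
⊗_B Ω_{B/A}) is injective. (The equivalent variant with the q-adic topology on A_q is not stated.) -/
theorem result {A B C : Type u} [CommRing A]
    [CommRing B] [CommRing C] [Algebra A B] [Algebra B C] [Algebra A C] [IsScalarTower A B C] [IsNoetherianRing B]
    [Algebra.FormallySmooth A B] (hsurj : Function.Surjective (algebraMap B C)) (p : Ideal C) [p.IsPrime]
    [Algebra (Localization.AtPrime (p.comap (algebraMap A C))) (Localization.AtPrime p)]
    [IsScalarTower A (Localization.AtPrime (p.comap (algebraMap A C))) (Localization.AtPrime p)] :
    CAlgX.IsAdicFormallySmooth (Localization.AtPrime (p.comap (algebraMap A C))) (Localization.AtPrime p)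
        (maximalIdeal (Localization.AtPrime p)) ↔
      Function.Injective ((kerCotangentToTensor A B C).lTensor p.ResidueField) := by

  haveI : Module.Finite B (RingHom.ker (algebraMap B C)).Cotangent :=
    Module.Finite.of_surjective (RingHom.ker (algebraMap B C)).toCotangent
      (Ideal.toCotangent_surjective _)
  have tfae := Groth.Agent.H11.JacPrime.tfae_quotient (A := A) (B := B) (C := C) hsurj p
  have h01 : Algebra.FormallySmooth A (Localization.AtPrime p) ↔
      Function.Injective ((kerCotangentToTensor A B C).lTensor p.ResidueField) := tfae.out 0 1
  rw [← h01]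
  constructor
  · intro H
    have hSL := Groth.Agent.H11.AdicSmall.smallLift_of_adic (A := A) p
      (Localization.AtPrime (p.comap (algebraMap A C))) (Localization.AtPrime p) H
    let φ : B →ₐ[A] C := IsScalarTower.toAlgHom A B C
    have hφ : Function.Surjective φ := hsurj
    have hσ := fun N => Groth.Agent.H11.SmoothSmallExt.exists_sigma φ hφ p hSL N
    letI := Groth.Agent.H11.LocPres.algLS φ p
    have h₁ : Function.Surjective (algebraMap (Groth.Agent.H11.LocPres.Loc φ p)
        (Localization.AtPrime p)) := Groth.Agent.H11.LocPres.iota_surjective p hφ
    have hK : RingHom.ker (Groth.Agent.H11.LocPres.iota φ p) ≤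
        maximalIdeal (Groth.Agent.H11.LocPres.Loc φ p) :=
      le_maximalIdeal (RingHom.ker_ne_top _)
    exact Groth.Agent.H11.AdicJac2.formallySmooth_of_forall (R₀ := A)
      (L := Groth.Agent.H11.LocPres.Loc φ p) (S' := Localization.AtPrime p) h₁
      (fun f hf hdf => Groth.Agent.H11.AdicJac.mem_mul_of_forall (R₀ := A)
        (RingHom.ker (Groth.Agent.H11.LocPres.iota φ p)) hK hσ f hf hdf)
  · intro H
    haveI : Algebra.FormallySmooth A (Localization.AtPrime p) := H
    haveI : Algebra.FormallySmooth (Localization.AtPrime (p.comap (algebraMap A C)))
        (Localization.AtPrime p) :=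
      Algebra.FormallySmooth.localization_base (p.comap (algebraMap A C)).primeCompl
    exact Groth.Agent.H11.AdicSmall.adic_of_formallySmooth _

end Groth.Agent.S4606
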