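import Groth.Statements.S4607
import Mathlib

set_option autoImplicit false
universe u
open TensorProduct
open EGA41

namespace Groth.Agent.S4607

/-- First assertion, case of two factors: for A-algebras A' and A'' the image of Spec(A' ⊗_A A'') in
Spec A is the intersection of the images of Spec A' and Spec A''. -/
theorem result {A A' A'' : Type u} [CommRing A] [CommRing A'] [CommRing A'']
    [Algebra A A'] [Algebra A A''] :
    Set.range (PrimeSpectrum.comap (algebraMap A (A' ⊗[A] A''))) =
      Set.range (PrimeSpectrum.comap (algebraMap A A')) ∩ Set.range (PrimeSpectrum.comap (algebraMap A A'')) := by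
  classical
  apply Set.Subset.antisymm
  · rintro _ ⟨q, rfl⟩
    refine ⟨⟨PrimeSpectrum.comap (Algebra.TensorProduct.includeLeft (R := A) (S := A)
      (A := A') (B := A'')).toRingHom q, ?_⟩,
      ⟨PrimeSpectrum.comap (Algebra.TensorProduct.includeRight (R := A)
      (A := A') (B := A'')).toRingHom q, ?_⟩⟩
    · rw [← PrimeSpectrum.comap_comp_apply]
      have : (Algebra.TensorProduct.includeLeft (R := A) (S := A)
          (A := A') (B := A'')).toRingHom.comp (algebraMap A A') =
          algebraMap A (A' ⊗[A] A'') := RingHom.ext fun a => by simp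
      rw [this]
    · rw [← PrimeSpectrum.comap_comp_apply]
      have : (Algebra.TensorProduct.includeRight (R := A)
          (A := A') (B := A'')).toRingHom.comp (algebraMap A A'') =
          algebraMap A (A' ⊗[A] A'') := RingHom.ext fun a => by simp
      rw [this]
  · rintro p ⟨h1, h2⟩
    rw [← PrimeSpectrum.nontrivial_iff_mem_rangeComap] at h1 h2 ⊢
    have e1 : (p.asIdeal.ResidueField ⊗[A] A') ⊗[p.asIdeal.ResidueField]
        (p.asIdeal.ResidueField ⊗[A] A'') ≃ₗ[p.asIdeal.ResidueField]
        (p.asIdeal.ResidueField ⊗[A] A') ⊗[A] A'' :=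
      TensorProduct.AlgebraTensorModule.cancelBaseChange A p.asIdeal.ResidueField
        p.asIdeal.ResidueField (p.asIdeal.ResidueField ⊗[A] A') A''
    have e2 : (p.asIdeal.ResidueField ⊗[A] A') ⊗[A] A'' ≃ₗ[A]
        p.asIdeal.ResidueField ⊗[A] (A' ⊗[A] A'') :=
      TensorProduct.assoc A p.asIdeal.ResidueField A' A''
    have : Nontrivial ((p.asIdeal.ResidueField ⊗[A] A') ⊗[p.asIdeal.ResidueField]
        (p.asIdeal.ResidueField ⊗[A] A'')) :=
      Algebra.TensorProduct.nontrivial_of_algebraMap_injective_of_flat_left _ _ _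
        (algebraMap p.asIdeal.ResidueField (p.asIdeal.ResidueField ⊗[A] A'')).injective
    exact (e2.symm.toEquiv.trans e1.symm.toEquiv).nontrivial

end Groth.Agent.S4607
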