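import Groth.Statements.S4611
import Mathlib

set_option autoImplicit false
universe u
open EGA41

namespace Groth.Agent.S4611

/-- A local algebra essentially of finite type over a ring A is A-isomorphic to a quotient of a
localization A[T_1, …, T_n]_q of a polynomial algebra at a prime ideal q; stated as the existence of
a surjective A-algebra map from such a localization. -/
theorem result {A B : Type u} [CommRing A]
    [CommRing B] [IsLocalRing B] [Algebra A B] [Algebra.EssFiniteType A B] :
    ∃ (n : ℕ) (q : Ideal (MvPolynomial (Fin n) A)) (_ : q.IsPrime)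
      (φ : Localization.AtPrime q →ₐ[A] B), Function.Surjective φ := by
  classical
  obtain ⟨σ, hσ⟩ := (Algebra.essFiniteType_iff A B).mp (inferInstance : Algebra.EssFiniteType A B)
  let v : Fin σ.card → B := fun i => (σ.equivFin.symm i : B)
  have hrange : Set.range v = (σ : Set B) := by
    ext b
    constructor
    · rintro ⟨i, rfl⟩
      exact (σ.equivFin.symm i).2
    · intro hb
      exact ⟨σ.equivFin ⟨b, hb⟩, by simp [v]⟩
  let g : MvPolynomial (Fin σ.card) A →ₐ[A] B := MvPolynomial.aeval v
  have hg : Algebra.adjoin A (σ : Set B) = g.range := by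
    rw [← hrange]
    exact Algebra.adjoin_range_eq_range_aeval A v
  let q : Ideal (MvPolynomial (Fin σ.card) A) :=
    (IsLocalRing.maximalIdeal B).comap (g : MvPolynomial (Fin σ.card) A →+* B)
  haveI hq : q.IsPrime := Ideal.IsPrime.comap _
  have hunit : ∀ y : q.primeCompl, IsUnit (g y) := by
    intro y
    have hy : (y : MvPolynomial (Fin σ.card) A) ∉ q := y.2
    by_contra hnu
    exact hy ((IsLocalRing.mem_maximalIdeal _).mpr hnu)
  refine ⟨σ.card, q, hq, IsLocalization.liftAlgHom (M := q.primeCompl) hunit, ?_⟩
  intro b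
  obtain ⟨t, ht, htu, hbt⟩ := hσ b
  rw [hg] at ht hbt
  obtain ⟨y', rfl⟩ := ht
  obtain ⟨x', hx'⟩ := hbt
  have hy'q : y' ∈ q.primeCompl := by
    intro hmem
    exact (IsLocalRing.mem_maximalIdeal _).mp hmem htu
  refine ⟨IsLocalization.mk' (Localization.AtPrime q) x' ⟨y', hy'q⟩, ?_⟩
  rw [IsLocalization.liftAlgHom_apply, IsLocalization.lift_mk'_spec]
  change g x' = g y' * b
  rw [mul_comm]
  exact hx'

end Groth.Agent.S4611
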