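import Groth.Statements.S4613
import Mathlib

set_option autoImplicit false
universe u
open AlgebraicGeometry CategoryTheory
open EGA41

namespace Groth.Agent.S4613

/-- For a closed immersion j : X → Y: j is locally of finite presentation if and only if its ideal sheaf
is of finite type, i.e. for every affine open U of Y the kernel of Γ(U, O_Y) → Γ(j⁻¹U, O_X) is
finitely generated. (An immersion with image closed in an open U reduces to this case.) -/
theorem result {X Y : Scheme.{u}} (j : X ⟶ Y)
    [IsClosedImmersion j] :
    LocallyOfFinitePresentation j ↔ ∀ U : Y.affineOpens, (RingHom.ker (j.app U).hom).FG := by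
  have ker_fg_aux : ∀ {A B : Type u} [CommRing A] [CommRing B] (f : A →+* B),
      Function.Surjective f → f.FinitePresentation → (RingHom.ker f).FG := by
    intro A B _ _ f hf h
    algebraize [f]
    have := Algebra.FinitePresentation.ker_fG_of_surjective (Algebra.ofId A B) hf
    exact this
  constructor
  · intro h U
    have hU : IsAffineOpen (j ⁻¹ᵁ U.1) := U.2.preimage j
    have h1 : (j.appLE U.1 (j ⁻¹ᵁ U.1) le_rfl).hom.FinitePresentation :=
      HasRingHomProperty.appLE @LocallyOfFinitePresentation j h U ⟨_, hU⟩ le_rfl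
    rw [← Scheme.Hom.app_eq_appLE] at h1
    exact ker_fg_aux _ (j.app_surjective U.1 U.2) h1
  · intro h
    rw [HasRingHomProperty.iff_appLE (P := @LocallyOfFinitePresentation)]
    intro U V e
    have hU : IsAffineOpen (j ⁻¹ᵁ U.1) := U.2.preimage j
    have h1 : (j.app U.1).hom.FinitePresentation :=
      RingHom.FinitePresentation.of_surjective _ (j.app_surjective U.1 U.2) (h U)
    have h2 : ((𝟙 X : X ⟶ X).appLE (j ⁻¹ᵁ U.1) V.1 e).hom.FinitePresentation :=
      HasRingHomProperty.appLE @LocallyOfFinitePresentation (𝟙 X) inferInstance ⟨_, hU⟩ V e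
    have h3 : j.appLE U.1 V.1 e = j.app U.1 ≫ (𝟙 X : X ⟶ X).appLE (j ⁻¹ᵁ U.1) V.1 e := by
      simp only [Scheme.Hom.appLE, Scheme.Hom.id_app]
      congr 1
    rw [h3, CommRingCat.hom_comp]
    exact h2.comp h1

end Groth.Agent.S4613
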