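import Groth.Statements.S4617
import Mathlib
import Groth.Agent.FieldBC2
set_option linter.style.haveILetI false

set_option autoImplicit false
open CategoryTheory AlgebraicGeometry
universe u
open FBase

namespace Groth.Agent.S4617

/-- Let X be a scheme over a field k, K any extension field of k and Ω an algebraically closed extension
field of k. Then the set of irreducible components of X ⊗_k K has cardinality at most that of the
set of irreducible components of X ⊗_k Ω. In particular the cardinality of the set of irreducible
components of X ⊗_k Ω does not depend on the algebraically closed extension Ω. -/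
theorem result {k K Ω : Type u} [Field k] [Field K] [Algebra k K]
    [Field Ω] [Algebra k Ω] [IsAlgClosed Ω] {X : Scheme.{u}} (f : X ⟶ Spec (CommRingCat.of k)) :
    Cardinal.mk ↥(irreducibleComponents ↥(FBase.bc f K)) ≤ Cardinal.mk ↥(irreducibleComponents ↥(FBase.bc f Ω)) := by
  unfold FBase.bc
  obtain ⟨Ω', _, ψ, ι, h⟩ := Groth.Agent.FieldBC2.exists_compositum k K Ω
  letI : Algebra Ω Ω' := ι.toAlgebra
  obtain ⟨a, ha⟩ := Groth.Agent.FieldBC2.exists_dominating' f K Ω Ω' ψ ι h.symm
  have hsa : Function.Surjective a.base := Groth.Agent.FieldBC2.surjective_of_isPullback ha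
  have hfib : ∀ x, IsIrreducible ((CategoryTheory.Limits.pullback.fst
      (CategoryTheory.Limits.pullback.snd f (Spec.map (CommRingCat.ofHom (algebraMap k Ω))))
      (Spec.map (CommRingCat.ofHom ι))).base ⁻¹' {x}) := fun x =>
    Groth.Agent.AlgClosedBC.isIrreducible_fiber_bc Ω
      (CategoryTheory.Limits.pullback.snd f (Spec.map (CommRingCat.ofHom (algebraMap k Ω)))) Ω' x
  have ho : IsOpenMap (CategoryTheory.Limits.pullback.fst
      (CategoryTheory.Limits.pullback.snd f (Spec.map (CommRingCat.ofHom (algebraMap k Ω))))
      (Spec.map (CommRingCat.ofHom ι))).base :=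
    Groth.Agent.AlgClosedBC.bc_isOpenMap Ω
      (CategoryTheory.Limits.pullback.snd f (Spec.map (CommRingCat.ofHom (algebraMap k Ω)))) Ω'
  have hc : Continuous (CategoryTheory.Limits.pullback.fst
      (CategoryTheory.Limits.pullback.snd f (Spec.map (CommRingCat.ofHom (algebraMap k Ω))))
      (Spec.map (CommRingCat.ofHom ι))).base := (CategoryTheory.Limits.pullback.fst
      (CategoryTheory.Limits.pullback.snd f (Spec.map (CommRingCat.ofHom (algebraMap k Ω))))
      (Spec.map (CommRingCat.ofHom ι))).continuous
  have hsq : Function.Surjective (CategoryTheory.Limits.pullback.fst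
      (CategoryTheory.Limits.pullback.snd f (Spec.map (CommRingCat.ofHom (algebraMap k Ω))))
      (Spec.map (CommRingCat.ofHom ι))).base := fun x => (hfib x).nonempty
  have h1 := Groth.Agent.FieldBC2.mk_irreducibleComponents_le_of_surjective a.continuous hsa
  have h2 := Cardinal.mk_congr (irreducibleComponentsEquivOfIsPreirreducibleFiber _ hc ho
    (fun x => (hfib x).isPreirreducible) hsq).toEquiv
  exact h1.trans h2.ge

end Groth.Agent.S4617
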