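import Groth.Statements.S4622
import Mathlib
import Groth.Agent.Lib.Helper6.GeomBC

set_option autoImplicit false
open CategoryTheory AlgebraicGeometry
universe u
open FBase

namespace Groth.Agent.S4622

/-- Let k be a separably closed field, k' an algebraic closure of k and X a scheme over k. Then the
projection X ⊗_k k' → X is a universal homeomorphism. -/
theorem result {k k' : Type u} [Field k] [IsSepClosed k] [Field k'] [Algebra k k']
    [IsAlgClosure k k'] {X : Scheme.{u}} (f : X ⟶ Spec (CommRingCat.of k)) :
    FlatMor.IsUnivHomeo (FBase.bcπ f k') := by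
  haveI : Algebra.IsAlgebraic k k' := IsAlgClosure.isAlgebraic
  haveI : IsPurelyInseparable k k' := inferInstance
  -- a morphism which is integral, universally injective and surjective is a universal homeo
  have key : ∀ {W Z : Scheme.{u}} (g : W ⟶ Z) [IsIntegralHom g] [UniversallyInjective g]
      [Surjective g], FlatMor.IsUnivHomeo g := by
    intro W Z g _ _ _ W' Z' i₁ i₂ g' hpb
    haveI : IsIntegralHom g' := MorphismProperty.of_isPullback hpb.flip ‹_›
    haveI : UniversallyInjective g' := MorphismProperty.of_isPullback hpb.flip ‹_›
    haveI : Surjective g' := MorphismProperty.of_isPullback hpb.flip ‹_›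
    exact isHomeomorph_iff_continuous_isClosedMap_bijective.mpr
      ⟨g'.continuous, g'.isClosedMap, g'.injective, g'.surjective⟩
  haveI hint : IsIntegralHom (Spec.map (CommRingCat.ofHom (algebraMap k k'))) := by
    rw [IsIntegralHom.SpecMap_iff]
    exact algebraMap_isIntegral_iff.mpr inferInstance
  haveI hsurj : Surjective (Spec.map (CommRingCat.ofHom (algebraMap k k'))) :=
    Groth.Agent.Helper6.surjective_of_field_target _
  haveI hinj : UniversallyInjective (Spec.map (CommRingCat.ofHom (algebraMap k k'))) := by
    refine ((tfae_universallyInjective _).out 0 1).mpr ?_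
    intro L _ g₁ g₂ hg
    obtain ⟨φ₁, rfl⟩ := Spec.map_surjective g₁
    obtain ⟨φ₂, rfl⟩ := Spec.map_surjective g₂
    congr 1
    have h1 : CommRingCat.ofHom (algebraMap k k') ≫ φ₁ =
        CommRingCat.ofHom (algebraMap k k') ≫ φ₂ := by
      apply Spec.map_injective
      simpa [Spec.map_comp] using hg
    have h2 : φ₁.hom.comp (algebraMap k k') = φ₂.hom.comp (algebraMap k k') := by
      have := congrArg CommRingCat.Hom.hom h1
      simpa using this
    ext x
    have h3 := IsPurelyInseparable.injective_comp_algebraMap k k' L h2
    exact congrFun (congrArg DFunLike.coe h3) x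
  unfold FBase.bcπ
  haveI i1 : IsIntegralHom (Limits.pullback.fst f (Spec.map (CommRingCat.ofHom (algebraMap k k')))) :=
    MorphismProperty.pullback_fst (P := @IsIntegralHom) _ _ hint
  haveI i2 : UniversallyInjective
      (Limits.pullback.fst f (Spec.map (CommRingCat.ofHom (algebraMap k k')))) :=
    MorphismProperty.pullback_fst (P := @UniversallyInjective) _ _ hinj
  haveI i3 : Surjective (Limits.pullback.fst f (Spec.map (CommRingCat.ofHom (algebraMap k k')))) :=
    MorphismProperty.pullback_fst (P := @Surjective) _ _ hsurj
  exact @key _ _ _ i1 i2 i3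

end Groth.Agent.S4622
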