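import Groth.Statements.S4629
import Mathlib
import Groth.Agent.Lib.Helper6.GeomReduced

set_option autoImplicit false
open CategoryTheory AlgebraicGeometry
universe u
open FBase

namespace Groth.Agent.S4629

open CategoryTheory.Limits in
/-- If X and Y are schemes over a field k which are both geometrically reduced over k, then X ×_k Y is
geometrically reduced over k. -/
theorem result {k : Type u} [Field k] {X Y : Scheme.{u}}
    (f : X ⟶ Spec (CommRingCat.of k)) (g : Y ⟶ Spec (CommRingCat.of k)) [GeometricallyReduced f]
    [GeometricallyReduced g] : GeometricallyReduced (pullback.fst f g ≫ f) := by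
  refine ⟨geometrically_iff_of_isClosedUnderIsomorphisms.mpr fun K _ y => ?_⟩
  haveI hYK : IsReduced (Limits.pullback g y) :=
    pullback_of_geometrically (GeometricallyReduced.geometrically_isReduced (f := g)) K y
  haveI hT : IsReduced (Limits.pullback f (Limits.pullback.fst g y ≫ g)) :=
    Groth.Agent.Helper6.isReduced_pullback_of_geometricallyReduced_field f
      (Limits.pullback.fst g y ≫ g)
  -- the map T → X × Y
  let v : Limits.pullback f (Limits.pullback.fst g y ≫ g) ⟶ Limits.pullback f g :=
    Limits.pullback.lift (Limits.pullback.fst f (Limits.pullback.fst g y ≫ g))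
      (Limits.pullback.snd f (Limits.pullback.fst g y ≫ g) ≫ Limits.pullback.fst g y)
      (by rw [Category.assoc]; exact Limits.pullback.condition)
  have hv1 : v ≫ Limits.pullback.fst f g =
      Limits.pullback.fst f (Limits.pullback.fst g y ≫ g) := Limits.pullback.lift_fst _ _ _
  have hv2 : v ≫ Limits.pullback.snd f g =
      Limits.pullback.snd f (Limits.pullback.fst g y ≫ g) ≫ Limits.pullback.fst g y :=
    Limits.pullback.lift_snd _ _ _
  have hbig : IsPullback (Limits.pullback.snd f (Limits.pullback.fst g y ≫ g))
      (v ≫ Limits.pullback.fst f g) (Limits.pullback.fst g y ≫ g) f := by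
    rw [hv1]
    exact (IsPullback.of_hasPullback f (Limits.pullback.fst g y ≫ g)).flip
  have htop : IsPullback (Limits.pullback.snd f (Limits.pullback.fst g y ≫ g)) v
      (Limits.pullback.fst g y) (Limits.pullback.snd f g) :=
    IsPullback.of_bot hbig hv2.symm (IsPullback.of_hasPullback f g).flip
  have hpaste := IsPullback.paste_horiz htop (IsPullback.of_hasPullback g y).flip
  have hfinal : IsPullback v
      (Limits.pullback.snd f (Limits.pullback.fst g y ≫ g) ≫ Limits.pullback.snd g y)
      (Limits.pullback.fst f g ≫ f) y := by
    have hc : Limits.pullback.fst f g ≫ f = Limits.pullback.snd f g ≫ g :=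
      Limits.pullback.condition
    rw [hc]
    exact hpaste.flip
  show IsReduced (Limits.pullback (Limits.pullback.fst f g ≫ f) y)
  exact isReduced_of_isOpenImmersion hfinal.isoPullback.inv

end Groth.Agent.S4629
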