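import Groth.Statements.S4631
import Groth.Agent.Lib.Helper17.GeomInt

set_option autoImplicit false
open CategoryTheory AlgebraicGeometry
universe u
open FBase

namespace Groth.Agent.S4631

/-- Let X be a scheme over an algebraically closed field k and x a point of X. Then X is geometrically
pointwise integral at x over k if and only if the local ring of X at x is a domain. -/
theorem result {k : Type u} [Field k] [IsAlgClosed k] {X : Scheme.{u}}
    (f : X ⟶ Spec (CommRingCat.of k)) (x : X) :
    FBase.IsGeomPtIntegralAt f x ↔ IsDomain ↑(X.presheaf.stalk x) := by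
  constructor
  · intro h
    -- base change along the identity of k
    have hg : IsIso (Spec.map (CommRingCat.ofHom (algebraMap k k))) := by
      have h1 : CommRingCat.ofHom (algebraMap k k) = 𝟙 (CommRingCat.of k) := rfl
      rw [h1, Spec.map_id]
      infer_instance
    haveI := hg
    haveI hπ : IsIso (FBase.bcπ f k) := by
      unfold FBase.bcπ
      exact (IsPullback.of_hasPullback f (Spec.map (CommRingCat.ofHom (algebraMap k k)))).isIso_fst_of_isIso
    let x' : ↥(FBase.bc f k) := (inv (FBase.bcπ f k)) x
    have hx' : (FBase.bcπ f k) x' = x := by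
      have h2 : inv (FBase.bcπ f k) ≫ FBase.bcπ f k = 𝟙 X := IsIso.inv_hom_id _
      have h3 := congrArg (fun m : X ⟶ X => m x) h2
      exact h3
    haveI hd : IsDomain ↑((FBase.bc f k).presheaf.stalk x') := h k x' hx'
    haveI : IsIso ((FBase.bcπ f k).stalkMap x') := inferInstance
    let e : ↑(X.presheaf.stalk ((FBase.bcπ f k) x')) ≃+* ↑((FBase.bc f k).presheaf.stalk x') :=
      (asIso ((FBase.bcπ f k).stalkMap x')).commRingCatIsoToRingEquiv
    have h4 : IsDomain ↑(X.presheaf.stalk ((FBase.bcπ f k) x')) :=
      MulEquiv.isDomain _ e.toMulEquiv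
    rw [hx'] at h4
    exact h4
  · intro h
    exact Groth.Agent.Helper17.GeomInt.main_mpr f x h

end Groth.Agent.S4631
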