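import Groth.Statements.S4637
import Mathlib
import Groth.Agent.Lib.Helper4.FinLenSupp

set_option autoImplicit false
open CategoryTheory AlgebraicGeometry
universe u
open AssSch

namespace Groth.Agent.S4637

/-- Let X be a locally Noetherian scheme, F a coherent O_X-module and x a point of X. Then x is the
generic point of an irreducible component of Supp F (F_x ≠ 0 and every point y with F_y ≠ 0 that
specialises to x equals x) if and only if F_x is a nonzero module of finite length over the local
ring O_{X,x}. -/
theorem result {X : Scheme.{u}} [IsLocallyNoetherian X] (F : X.Modules)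
    (hF : Coh.IsCoh F) (x : X) :
    (Nontrivial ↑(F.presheaf.stalk x) ∧ ∀ y : X, Nontrivial ↑(F.presheaf.stalk y) → y ⤳ x → y = x) ↔
      (Nontrivial ↑(F.presheaf.stalk x) ∧ IsFiniteLength ↑(X.presheaf.stalk x) ↑(F.presheaf.stalk x)) := by
  haveI : F.IsQuasicoherent := hF.1
  haveI : SheafOfModules.IsFiniteType (R := X.ringCatSheaf) F := hF.2
  haveI := Groth.Agent.Helper4.CohDepth.finite_stalk F x
  haveI : IsNoetherianRing (X.presheaf.stalk x) := inferInstance
  rw [Groth.Agent.Helper4.FinLenSupp.isFiniteLength_iff_support_subset,
    Groth.Agent.Helper4.FinLenSupp.support_stalk_subset_iff F x]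

end Groth.Agent.S4637
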