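import Groth.Statements.S4638
import Mathlib
import Groth.Agent.Lead.QCoh
-- import your own Groth.Agent.* helpers here

set_option autoImplicit false
open CategoryTheory AlgebraicGeometry
universe u
open AssSch

namespace Groth.Agent.S4638

/-- Let X be a locally Noetherian scheme, F a quasi-coherent O_X-module and f a global section of O_X.
Then f is F-regular, i.e. multiplication by the germ of f is injective on every stalk of F, if and
only if every associated point of F lies in the open subset X_f where f does not vanish. -/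
theorem result {X : Scheme.{u}} [IsLocallyNoetherian X] (F : X.Modules)
    (hF : Coh.IsQCoh F) (f : Γ(X, ⊤)) :
    (∀ x : X, IsSMulRegular ↑(F.presheaf.stalk x) (X.presheaf.germ ⊤ x trivial f)) ↔
      AssSch.Ass F ⊆ (X.basicOpen f : Set ↥X) := by
  have : F.IsQuasicoherent := hF
  constructor
  · intro hreg x hxass
    by_contra hxf
    have hass : (⊥ : Submodule (X.presheaf.stalk x) (F.presheaf.stalk x)).IsAssociatedPrime
        (IsLocalRing.maximalIdeal (X.presheaf.stalk x)) := hxass
    rw [Submodule.isAssociatedPrime_def] at hass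
    obtain ⟨-, t, ht⟩ := hass
    have hnu : ¬ IsUnit (X.presheaf.germ ⊤ x trivial f) := by
      intro hu
      exact hxf ((Scheme.mem_basicOpen X f x (show x ∈ (⊤ : X.Opens) from trivial)).mpr hu)
    have hmem : X.presheaf.germ ⊤ x trivial f ∈ IsLocalRing.maximalIdeal (X.presheaf.stalk x) :=
      (IsLocalRing.mem_maximalIdeal _).mpr hnu
    rw [ht] at hmem
    obtain ⟨k, hk⟩ := hmem
    rw [Submodule.mem_colon_singleton, Submodule.mem_bot] at hk
    have ht0 : t = 0 := ((hreg x).pow k) (by beta_reduce; rw [hk, smul_zero])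
    have h1 : (1 : X.presheaf.stalk x) ∈ IsLocalRing.maximalIdeal (X.presheaf.stalk x) := by
      rw [ht]
      apply Ideal.le_radical
      rw [Submodule.mem_colon_singleton, Submodule.mem_bot, ht0, smul_zero]
    exact (IsLocalRing.maximalIdeal.isMaximal _).ne_top ((Ideal.eq_top_iff_one _).mpr h1)
  · intro hsub x
    rw [isSMulRegular_iff_right_eq_zero_of_smul]
    intro t htz
    by_contra htne
    obtain ⟨_, ⟨U, hU, rfl⟩, hxU, -⟩ :=
      X.isBasis_affineOpens.exists_subset_of_mem_open (Set.mem_univ x) isOpen_univ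
    have hU' : IsAffineOpen U := hU
    obtain ⟨b, m, hxb, hbt⟩ := Groth.Agent.Lead.QCoh.exists_smul_eq_germ F hU' x hxU t
    have hbu : IsUnit (X.presheaf.germ U x hxU b) := (Scheme.mem_basicOpen _ _ x hxU).mp hxb
    let a : Γ(X, U) := X.presheaf.map (homOfLE (le_top : U ≤ ⊤)).op f
    have hga : ∀ (y : X) (hy : y ∈ U), X.presheaf.germ U y hy a = X.presheaf.germ ⊤ y trivial f :=
      fun y hy => TopCat.Presheaf.germ_res_apply X.presheaf (homOfLE (le_top : U ≤ ⊤)) y hy f
    have h0 : F.presheaf.germ U x hxU (a • m) = 0 := by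
      rw [Groth.Agent.Lead.QCoh.germ_smul, hga, ← hbt, smul_comm, htz, smul_zero]
    obtain ⟨c, hxc, hcam⟩ := (Groth.Agent.Lead.QCoh.germ_eq_zero_iff F hU' x hxU (a • m)).mp h0
    have hcu : IsUnit (X.presheaf.germ U x hxU c) := (Scheme.mem_basicOpen _ _ x hxU).mp hxc
    have hm1 : F.presheaf.germ U x hxU (c • m) ≠ 0 := by
      rw [Groth.Agent.Lead.QCoh.germ_smul, ← hbt]
      intro h
      exact htne (hbu.smul_eq_zero.mp (hcu.smul_eq_zero.mp h))
    obtain ⟨y, hyU, hya, hN⟩ := Groth.Agent.Lead.QCoh.exists_weakAss_germ F hU' (c • m) x hxU hm1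
    have hya' : y ∉ X.basicOpen a := hya a (by rw [smul_comm]; exact hcam)
    have hyass : y ∈ AssSch.Ass F := by
      show (⊥ : Submodule (X.presheaf.stalk y) (F.presheaf.stalk y)).IsAssociatedPrime _
      rw [Submodule.isAssociatedPrime_def]
      refine ⟨(IsLocalRing.maximalIdeal.isMaximal _).isPrime, F.presheaf.germ U y hyU (c • m), (hN _ (fun α => ?_)).symm⟩
      rw [Submodule.mem_colon_singleton, Submodule.mem_bot]
    have hyf : y ∈ X.basicOpen f := hsub hyass
    apply hya'
    rw [Scheme.mem_basicOpen _ _ y hyU, hga]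
    exact (Scheme.mem_basicOpen X f y (show y ∈ (⊤ : X.Opens) from trivial)).mp hyf

end Groth.Agent.S4638
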