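import Groth.Statements.S4639
import Mathlib
import Groth.Agent.H21.EmbDescent
-- import your own Groth.Agent.* helpers here

set_option autoImplicit false
open CategoryTheory AlgebraicGeometry
universe u
open FDesc

namespace Groth.Agent.S4639

/-- The property of being quasi-compact and universally bicontinuous (every base change is a
homeomorphism onto its image) descends along a surjective, flat and quasi-compact base change. -/
theorem result :
    MorphismProperty.DescendsAlong
      (MorphismProperty.universally (topologically (fun f => Topology.IsEmbedding f)) ⊓ @QuasiCompact : MorphismProperty Scheme.{u})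
      (@Surjective ⊓ @Flat ⊓ @QuasiCompact : MorphismProperty Scheme.{u}) := by
  constructor
  intro A X Y Z fst snd f g h hf hfst
  obtain ⟨huniv, hqc⟩ := hfst
  have hqcg : QuasiCompact g :=
    (Groth.Agent.H21.descends_embedding_qc.of_isPullback h hf
      ⟨MorphismProperty.universally_le _ _ huniv, hqc⟩).2
  refine ⟨?_, hqcg⟩
  intro Y' Z' i₁ i₂ g' hg'
  have hX' : IsPullback (Limits.pullback.fst f i₂) (Limits.pullback.snd f i₂) f i₂ :=
    IsPullback.of_hasPullback f i₂
  have hQf' : (@Surjective ⊓ @Flat ⊓ @QuasiCompact : MorphismProperty Scheme.{u})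
      (Limits.pullback.snd f i₂) := MorphismProperty.of_isPullback hX' hf
  have hA' : IsPullback (Limits.pullback.fst (Limits.pullback.snd f i₂) g')
      (Limits.pullback.snd (Limits.pullback.snd f i₂) g') (Limits.pullback.snd f i₂) g' :=
    IsPullback.of_hasPullback _ _
  have hqcg' : QuasiCompact g' :=
    MorphismProperty.of_isPullback (P := @QuasiCompact) hg'.flip hqcg
  have hqca : QuasiCompact (Limits.pullback.fst (Limits.pullback.snd f i₂) g') :=
    MorphismProperty.of_isPullback (P := @QuasiCompact) hA'.flip hqcg'
  have hcomm : (Limits.pullback.fst (Limits.pullback.snd f i₂) g' ≫ Limits.pullback.fst f i₂) ≫ f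
      = (Limits.pullback.snd (Limits.pullback.snd f i₂) g' ≫ i₁) ≫ g := by
    rw [Category.assoc, hX'.w, ← Category.assoc, hA'.w, Category.assoc, hg'.w, Category.assoc]
  have hbig := hA'.flip.paste_horiz hg'.flip
  have hbig' : IsPullback (h.lift _ _ hcomm ≫ snd)
      (Limits.pullback.fst (Limits.pullback.snd f i₂) g') g (Limits.pullback.fst f i₂ ≫ f) := by
    rw [h.lift_snd, hX'.w]
    exact hbig
  have hleft := IsPullback.of_right hbig' (h.lift_fst _ _ hcomm) h.flip
  have hemb := huniv _ _ _ hleft.flip
  exact (Groth.Agent.H21.descends_embedding_qc.of_isPullback hA' hQf' ⟨hemb, hqca⟩).1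

end Groth.Agent.S4639
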