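import Groth.Statements.S4640
import Mathlib

set_option autoImplicit false
universe u
open FDesc

namespace Groth.Agent.S4640

open TensorProduct in
/-- Let A be a Dedekind domain with fraction field K, M an A-module and P' a K-submodule of K ⊗_A M. Let
φ : M → (K ⊗_A M)/P' be m ↦ class of 1 ⊗ m. Then a submodule Q of M equals ker φ if and only if M/Q
is a flat A-module and the kernel of the induced surjection K ⊗_A M → K ⊗_A (M/Q) is P'. Thus M/ker
φ is the unique flat quotient of M with generic fibre (K ⊗_A M)/P'. (The published statement takes A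
Noetherian, regular and of dimension 1; a field is allowed here, where the statement is immediate.) -/
theorem result {A K : Type u} [CommRing A] [IsDedekindDomain A] [Field K]
    [Algebra A K] [IsFractionRing A K] {M : Type u} [AddCommGroup M] [Module A M]
    (P' : Submodule K (K ⊗[A] M)) (Q : Submodule A M) :
    Q = LinearMap.ker ((P'.restrictScalars A).mkQ ∘ₗ TensorProduct.mk A K M 1) ↔
      (Module.Flat A (M ⧸ Q) ∧ LinearMap.ker (Q.mkQ.baseChange K) = P') := by
  classical
  have hker : ∀ m : M, m ∈ LinearMap.ker ((P'.restrictScalars A).mkQ ∘ₗ TensorProduct.mk A K M 1) ↔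
      (1 : K) ⊗ₜ[A] m ∈ P' := by
    intro m
    rw [LinearMap.mem_ker, LinearMap.comp_apply, Submodule.mkQ_apply,
      Submodule.Quotient.mk_eq_zero, Submodule.restrictScalars_mem, TensorProduct.mk_apply]
  have hP'smul : ∀ (s : nonZeroDivisors A) (x : K ⊗[A] M), (s : A) • x ∈ P' → x ∈ P' := by
    intro s x hx
    have hs : algebraMap A K (s : A) ≠ 0 :=
      IsFractionRing.to_map_ne_zero_of_mem_nonZeroDivisors s.2
    rw [← algebraMap_smul K (s : A) x] at hx
    have h1 := P'.smul_mem (algebraMap A K (s : A))⁻¹ hx
    rwa [smul_smul, inv_mul_cancel₀ hs, one_smul] at h1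
  have hbc : ∀ (k : K) (m : M), Q.mkQ.baseChange K (k ⊗ₜ[A] m) = k ⊗ₜ[A] Q.mkQ m :=
    fun k m => LinearMap.baseChange_tmul _ _ _
  constructor
  · intro hQ
    have hQmem : ∀ m : M, m ∈ Q ↔ (1 : K) ⊗ₜ[A] m ∈ P' := by
      intro m
      rw [← hker m, ← hQ]
    refine ⟨?_, ?_⟩
    · rw [IsDedekindDomain.flat_iff_torsion_eq_bot, eq_bot_iff]
      intro y hy
      obtain ⟨a, ha⟩ := (Submodule.mem_torsion_iff y).mp hy
      obtain ⟨m, rfl⟩ := Submodule.mkQ_surjective Q y
      rw [Submodule.mem_bot]
      have h1 : (a : A) • m ∈ Q := by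
        rw [← Submodule.Quotient.mk_eq_zero Q, Submodule.Quotient.mk_smul]
        exact ha
      rw [hQmem] at h1
      have h2 : (1 : K) ⊗ₜ[A] ((a : A) • m) = (a : A) • ((1 : K) ⊗ₜ[A] m) := by
        rw [TensorProduct.tmul_smul]
      rw [h2] at h1
      have h3 := hP'smul a _ h1
      rw [← hQmem] at h3
      rw [Submodule.mkQ_apply, Submodule.Quotient.mk_eq_zero]
      exact h3
    · apply le_antisymm
      · intro x hx
        rw [LinearMap.mem_ker] at hx
        have hex : Function.Exact (LinearMap.lTensor K Q.subtype) (LinearMap.lTensor K Q.mkQ) :=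
          lTensor_exact K (LinearMap.exact_subtype_mkQ Q) (Submodule.mkQ_surjective Q)
        have hx' : LinearMap.lTensor K Q.mkQ x = 0 := by
          have h0 := congrFun (LinearMap.baseChange_eq_ltensor (A := K) Q.mkQ) x
          rw [← h0]
          exact hx
        obtain ⟨y, rfl⟩ := (hex x).mp hx'
        clear hx hx'
        induction y using TensorProduct.induction_on with
        | zero => rw [map_zero]; exact P'.zero_mem
        | tmul k q =>
          rw [LinearMap.lTensor_tmul]
          have h4 : k ⊗ₜ[A] (Q.subtype q) = k • ((1 : K) ⊗ₜ[A] (q : M)) := by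
            rw [TensorProduct.smul_tmul', smul_eq_mul, mul_one]
            rfl
          rw [h4]
          exact P'.smul_mem k ((hQmem q).mp q.2)
        | add y z hy hz => rw [map_add]; exact P'.add_mem hy hz
      · intro x hx
        rw [LinearMap.mem_ker]
        obtain ⟨⟨m, s⟩, hms⟩ :=
          IsLocalizedModule.surj (nonZeroDivisors A) (TensorProduct.mk A K M 1) x
        have hms' : (s : A) • x = (1 : K) ⊗ₜ[A] m := hms
        have hsx : (s : A) • x ∈ P' := by
          rw [← algebraMap_smul K (s : A) x]
          exact P'.smul_mem _ hx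
        have h1 : (1 : K) ⊗ₜ[A] m ∈ P' := by
          rw [← hms']
          exact hsx
        have h2 : m ∈ Q := (hQmem m).mpr h1
        have h3 : Q.mkQ.baseChange K ((s : A) • x) = 0 := by
          rw [hms', hbc, Submodule.mkQ_apply, (Submodule.Quotient.mk_eq_zero Q).mpr h2,
            TensorProduct.tmul_zero]
        rw [← algebraMap_smul K (s : A) x, map_smul] at h3
        have hs : algebraMap A K (s : A) ≠ 0 :=
          IsFractionRing.to_map_ne_zero_of_mem_nonZeroDivisors s.2
        exact (smul_eq_zero.mp h3).resolve_left hs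
  · rintro ⟨hflat, hkerP⟩
    ext m
    rw [hker, ← hkerP, LinearMap.mem_ker, hbc]
    have htors : Submodule.torsion A (M ⧸ Q) = ⊥ := Module.Flat.torsion_eq_bot
    have hinj : ∀ y : M ⧸ Q, (1 : K) ⊗ₜ[A] y = 0 ↔ y = 0 := by
      intro y
      constructor
      · intro hy
        obtain ⟨s, hs⟩ := (IsLocalizedModule.eq_zero_iff (nonZeroDivisors A)
          (TensorProduct.mk A K (M ⧸ Q) 1) (m := y)).mp hy
        have hy' : y ∈ Submodule.torsion A (M ⧸ Q) := (Submodule.mem_torsion_iff y).mpr ⟨s, hs⟩
        rw [htors] at hy'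
        exact (Submodule.mem_bot A).mp hy'
      · rintro rfl
        exact TensorProduct.tmul_zero _ _
    rw [hinj, Submodule.mkQ_apply, Submodule.Quotient.mk_eq_zero]

end Groth.Agent.S4640
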