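import Groth.Statements.S4641
import Mathlib
import Groth.Agent.Lib.Helper4.WeakAss
import Groth.Agent.Lib.Helper4.AssFlat
import Groth.Agent.Lead.QCoh2
import Groth.Agent.Lead.UnitCoh

set_option autoImplicit false
open CategoryTheory AlgebraicGeometry
universe u
open AssSch

namespace Groth.Agent.S4641

/-- Let f : X → Y be a morphism of locally Noetherian schemes such that Y has no embedded associated
points, and let F be a quasi-coherent O_X-module which is flat over Y. Then for every associated
point x of F, f(x) is a maximal point of Y (every point of Y specialising to f(x) equals f(x)). (The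
published statement assumes only Y locally Noetherian; X is taken locally Noetherian here so that
associated points are those whose maximal ideal is an annihilator.) -/
theorem result {X Y : Scheme.{u}} (f : X ⟶ Y) [IsLocallyNoetherian X]
    [IsLocallyNoetherian Y] (hY : AssSch.NoEmbedded (Coh.structureModule Y)) (F : X.Modules) (hF : Coh.IsQCoh F)
    (hfl : FlatMod.IsFlatOver f F) (x : X) (hx : x ∈ AssSch.Ass F) (y : Y) (hy : y ⤳ f x) : y = f x := by
  classical
  have hfx : Curv2.IsAssPoint (Coh.structureModule Y) (f.base x) := by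
    rw [Groth.Agent.Lead.QCoh.isAssPoint_iff,
      Groth.Agent.Helper4.WeakAss.isWeakAssPoint_structureModule_iff]
    haveI : IsNoetherianRing (X.presheaf.stalk x) := inferInstance
    haveI : IsNoetherianRing (Y.presheaf.stalk (f.base x)) := inferInstance
    have hx' : IsAssociatedPrime (IsLocalRing.maximalIdeal (X.presheaf.stalk x))
        (F.presheaf.stalk x) := hx
    rw [isAssociatedPrime_iff] at hx'
    obtain ⟨-, t, ht⟩ := hx'
    letI := FlatMod.moduleStalkOver f F x
    haveI : Module.Flat (Y.presheaf.stalk (f.base x)) (F.presheaf.stalk x) := hfl x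
    have hB : IsAssociatedPrime (IsLocalRing.maximalIdeal (Y.presheaf.stalk (f.base x)))
        (F.presheaf.stalk x) := by
      rw [isAssociatedPrime_iff]
      refine ⟨(IsLocalRing.maximalIdeal.isMaximal _).isPrime, t, ?_⟩
      ext b
      rw [Submodule.mem_colon_singleton, Submodule.mem_bot]
      have h1 : b • t = (f.stalkMap x).hom b • t := rfl
      rw [h1]
      have h2 : (f.stalkMap x).hom b • t = 0 ↔
          (f.stalkMap x).hom b ∈ IsLocalRing.maximalIdeal (X.presheaf.stalk x) := by
        rw [ht, Submodule.mem_colon_singleton, Submodule.mem_bot]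
      rw [h2, IsLocalRing.mem_maximalIdeal, IsLocalRing.mem_maximalIdeal, mem_nonunits_iff,
        mem_nonunits_iff, isUnit_map_iff]
    have hBB : IsAssociatedPrime (IsLocalRing.maximalIdeal (Y.presheaf.stalk (f.base x)))
        (Y.presheaf.stalk (f.base x)) :=
      Groth.Agent.Helper4.associatedPrimes_subset_of_flat
        (B := Y.presheaf.stalk (f.base x)) (N := F.presheaf.stalk x) hB
    rw [isAssociatedPrime_iff] at hBB
    obtain ⟨-, b', hb'⟩ := hBB
    refine ⟨b', ?_⟩
    rw [← Groth.Agent.Lead.QCoh.colon_bot_singleton, ← hb']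
    exact (IsLocalRing.maximalIdeal.isMaximal _).isPrime.radical
  have hnt : Nontrivial ((Coh.structureModule Y).presheaf.stalk y) := by
    refine ⟨⟨(Coh.structureModule Y).presheaf.germ ⊤ y trivial
      (show ↑((Coh.structureModule Y).presheaf.obj (Opposite.op ⊤)) from (1 : Γ(Y, ⊤))), 0, ?_⟩⟩
    intro h0
    have h1 := (Groth.Agent.Helper4.WeakAss.germ_structureModule_eq_zero_iff (W := ⊤) y trivial
      (1 : Γ(Y, ⊤))).mp h0
    rw [map_one] at h1
    exact one_ne_zero h1
  haveI : (Coh.structureModule Y).IsQuasicoherent := Groth.Agent.Lead.UnitCoh.isQuasicoherent_unit Y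
  obtain ⟨η, hηy, hηw⟩ :=
    Groth.Agent.Lead.QCoh.exists_weakAssPoint_specializes (Coh.structureModule Y) y hnt
  have hηass : η ∈ AssSch.Ass (Coh.structureModule Y) :=
    (Groth.Agent.Lead.QCoh.isAssPoint_iff _ _).mpr hηw
  have heq : f.base x = η := hY (f.base x) hfx η hηass (hηy.trans hy)
  have hy' : y ⤳ η := heq ▸ hy
  exact ((hy'.antisymm hηy).eq).trans heq.symm

end Groth.Agent.S4641
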