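import Groth.Statements.S4651
import Mathlib
-- import your own Groth.Agent.* helpers here

set_option autoImplicit false
open CategoryTheory AlgebraicGeometry
universe u
open FDesc

namespace Groth.Agent.S4651

lemma locFin_of_generalizing {X Y : Type*} [TopologicalSpace X] [TopologicalSpace Y]
    [QuasiSober X] [T0Space X] [QuasiSober Y] [T0Space Y]
    (f : X → Y) (hcont : Continuous f)
    (hY : ∀ y : Y, ∃ U : Set Y, IsOpen U ∧ y ∈ U ∧
      {Z ∈ irreducibleComponents Y | (Z ∩ U).Nonempty}.Finite)
    (hf : GeneralizingMap f) (hfin : ∀ y : Y, (f ⁻¹' {y}).Finite) (x : X) :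
    ∃ U : Set X, IsOpen U ∧ x ∈ U ∧
      {T ∈ irreducibleComponents X | (T ∩ U).Nonempty}.Finite := by
  obtain ⟨U, hUo, hyU, hUfin⟩ := hY (f x)
  refine ⟨f ⁻¹' U, hUo.preimage hcont, hyU, ?_⟩
  have hSfin : (⋃ Z ∈ {Z ∈ irreducibleComponents Y | (Z ∩ U).Nonempty},
      {ξ : X | IsGenericPoint (f ξ) Z}).Finite := by
    refine Set.Finite.biUnion hUfin (fun Z _ => ?_)
    by_cases hne : ({ξ : X | IsGenericPoint (f ξ) Z}).Nonempty
    · obtain ⟨ξ₀, hξ₀⟩ := hne
      refine (hfin (f ξ₀)).subset (fun ξ hξ => ?_)
      exact IsGenericPoint.eq hξ hξ₀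
    · rw [Set.not_nonempty_iff_eq_empty.1 hne]; exact Set.finite_empty
  refine (hSfin.image (fun ξ => closure {ξ})).subset ?_
  rintro T ⟨hT, hTU⟩
  have hTirr : IsIrreducible T := hT.1
  have hTcl : IsClosed T := isClosed_of_mem_irreducibleComponents T hT
  have hξ : IsGenericPoint hTirr.genericPoint T := hTirr.isGenericPoint_genericPoint hTcl
  have hξU : hTirr.genericPoint ∈ f ⁻¹' U :=
    (hξ.mem_open_set_iff (hUo.preimage hcont)).2 hTU
  refine ⟨hTirr.genericPoint, ?_, hξ⟩
  refine Set.mem_biUnion (x := closure {f hTirr.genericPoint}) ⟨?_, ?_⟩ ?_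
  · -- closure {f ξ} is an irreducible component
    refine ⟨isIrreducible_singleton.closure, fun S' hS' hle => ?_⟩
    have hη := hS'.isGenericPoint_genericPoint_closure
    have hspec : hS'.genericPoint ⤳ f hTirr.genericPoint := by
      rw [specializes_iff_mem_closure, hη.def]
      exact subset_closure (hle (subset_closure rfl))
    obtain ⟨ξ', hξ'ξ, hfξ'⟩ := hf hspec
    have hT' : closure {ξ'} ≤ T := by
      refine hT.2 isIrreducible_singleton.closure ?_
      rw [← hξ.def]
      exact (specializes_iff_closure_subset.1 hξ'ξ)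
    have hξξ' : hTirr.genericPoint ⤳ ξ' := by
      rw [specializes_iff_mem_closure, hξ.def]
      exact hT' (subset_closure rfl)
    have heq : ξ' = hTirr.genericPoint := (hξ'ξ.antisymm hξξ').eq
    intro z hz
    have : z ∈ closure S' := subset_closure hz
    rw [← hη.def, ← hfξ', heq] at this
    exact this
  · exact ⟨f hTirr.genericPoint, subset_closure rfl, hξU⟩
  · exact (rfl : closure {f hTirr.genericPoint} = closure {f hTirr.genericPoint})


/-- Let Y be a scheme whose family of irreducible components is locally finite (every point has an open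
neighbourhood meeting only finitely many irreducible components), and let f : X → Y be a morphism
along which generizations lift (e.g. flat, quasi-flat or open) such that every fibre f⁻¹(y) is a
finite set (e.g. f quasi-finite or radicial). Then the family of irreducible components of X is
locally finite. -/
theorem result {X Y : Scheme.{u}} (f : X ⟶ Y)
    (hY : ∀ y : Y, ∃ U : Set ↥Y, IsOpen U ∧ y ∈ U ∧ {Z ∈ irreducibleComponents ↥Y | (Z ∩ U).Nonempty}.Finite)
    (hf : GeneralizingMap ⇑f) (hfin : ∀ y : Y, (⇑f ⁻¹' {y}).Finite) (x : X) :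
    ∃ U : Set ↥X, IsOpen U ∧ x ∈ U ∧ {T ∈ irreducibleComponents ↥X | (T ∩ U).Nonempty}.Finite := by
  exact locFin_of_generalizing (⇑f) f.continuous hY hf hfin x

end Groth.Agent.S4651
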