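import Groth.Statements.S9805
import Groth.Agent.S9806
-- import your own Groth.Agent.* helpers here

set_option autoImplicit false
universe u
open CategoryTheory AlgebraicGeometry TopologicalSpace
open Props

namespace Groth.Agent.S9805


section
open Opposite
open Groth.Agent.Lead.QCoh Groth.Agent.Lead.FinType Groth.Agent.Lead.FreeEpi Groth.Agent.Lead.FreeIso
open Groth.Agent.Lead.LocFree Groth.Agent.Lead.FPSec Groth.Agent.Lead.StalkLoc

set_option backward.isDefEq.respectTransparency false in
/-- stalks of a quasi-coherent module with finite sections over an affine open are finite. -/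
theorem finite_stalk {X : Scheme.{u}} (M : X.Modules) [M.IsQuasicoherent] {U : X.Opens}
    (hU : IsAffineOpen U) (x : X) (hx : x ∈ U) [Module.Finite Γ(X, U) Γ(M, U)] :
    Module.Finite (X.presheaf.stalk x) (M.presheaf.stalk x) := by
  letI : Algebra Γ(X, U) (X.presheaf.stalk x) := X.presheaf.algebra_section_stalk ⟨x, hx⟩
  haveI : IsLocalization.AtPrime (X.presheaf.stalk x) (hU.primeIdealOf ⟨x, hx⟩).asIdeal :=
    hU.isLocalization_stalk ⟨x, hx⟩
  letI : Module Γ(X, U) (M.presheaf.stalk x) := Module.compHom _ (X.presheaf.germ U x hx).hom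
  haveI : IsScalarTower Γ(X, U) (X.presheaf.stalk x) (M.presheaf.stalk x) :=
    IsScalarTower.of_algebraMap_smul (fun r m => rfl)
  obtain ⟨germL, -, hloc⟩ := isLocalizedModule_germ M hU x hx
  haveI := hloc
  exact Module.Finite.of_isLocalizedModule (hU.primeIdealOf ⟨x, hx⟩).asIdeal.primeCompl
    (Rₚ := X.presheaf.stalk x) germL

set_option backward.isDefEq.respectTransparency false in
theorem free_stalk_of_flat (X : Scheme.{u}) (M : X.Modules) [M.IsQuasicoherent]
    [SheafOfModules.IsFinitePresentation.{u, u, u} (R := X.ringCatSheaf) M] (x : X)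
    (hflat : Module.Flat (X.presheaf.stalk x) (M.presheaf.stalk x)) :
    Module.Free (X.presheaf.stalk x) (M.presheaf.stalk x) := by
  have hx0 : x ∈ (⨆ U : X.affineOpens, (U : X.Opens)) := by
    rw [iSup_affineOpens_eq_top]; trivial
  obtain ⟨U0, hxU0⟩ := Opens.mem_iSup.mp hx0
  haveI := finitePresentation_sections M U0.2
  haveI : Module.Finite Γ(X, U0.1) Γ(M, U0.1) := inferInstance
  haveI := finite_stalk M U0.2 x hxU0
  haveI := hflat
  exact Module.free_of_flat_of_isLocalRing
end

/-- A quasi-coherent module on a scheme is flat and of finite presentation if and only if it is finite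
locally free. -/
theorem result (X : Scheme.{u}) (M : X.Modules) (hM : Coh.IsQCoh M) :
    (FlatMod.IsFlat M ∧ CohB1.IsFP M) ↔ FlatMod.IsFinLocFree M := by
  haveI : M.IsQuasicoherent := hM
  constructor
  · rintro ⟨hflat, hfp⟩
    haveI : SheafOfModules.IsFinitePresentation.{u, u, u} (R := X.ringCatSheaf) M := hfp
    exact Groth.Agent.S9806.fwd X M (fun x => free_stalk_of_flat X M x (hflat x))
  · intro h
    refine ⟨fun x => ?_, Groth.Agent.Lead.StalkLoc.isFP_of_isFinLocFree M h⟩
    haveI := Groth.Agent.S9806.bwd X M h x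
    exact Module.Flat.of_free

end Groth.Agent.S9805
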