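import Groth.Statements.S4652
import Groth.Agent.S9805
-- import your own Groth.Agent.* helpers here

set_option autoImplicit false
open CategoryTheory AlgebraicGeometry
universe u
open FDesc

namespace Groth.Agent.S4652


section
open Opposite TopologicalSpace CategoryTheory CategoryTheory.Limits AlgebraicGeometry
open Groth.Agent.Lead.QCoh Groth.Agent.Lead.FinType Groth.Agent.Lead.FreeEpi Groth.Agent.Lead.FreeIso
open Groth.Agent.Lead.LocFree Groth.Agent.Lead.FPSec Groth.Agent.Lead.StalkLoc

set_option backward.isDefEq.respectTransparency false in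
theorem free_restrict_transport {X : Scheme.{u}} (F : X.Modules) (V : X.Opens)
    (W' : (V : Scheme.{u}).Opens)
    (h : Module.Free Γ(V, W') Γ(F.restrict V.ι, W')) :
    Module.Free Γ(X, V.ι ''ᵁ W') Γ(F, V.ι ''ᵁ W') := by
  letI : Module Γ(V, W') Γ(F, V.ι ''ᵁ W') :=
    (inferInstance : Module Γ(V, W') Γ(F.restrict V.ι, W'))
  haveI : Module.Free Γ(V, W') Γ(F, V.ι ''ᵁ W') := h
  exact free_transport (V.ι.appIso W').commRingCatIsoToRingEquiv
    (fun b m => restrict_smul F V W' b m m rfl)

/-- pullback along an open immersion of opens is restriction. -/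
noncomputable def pullbackIsoRestrict {X : Scheme.{u}} (U : X.Opens) (F : X.Modules) :
    (Scheme.Modules.pullback U.ι).obj F ≅ (Scheme.Modules.restrictFunctor U.ι).obj F :=
  ((Scheme.Modules.pullbackPushforwardAdjunction U.ι).leftAdjointUniq
    (Scheme.Modules.restrictAdjunction U.ι)).app F

set_option backward.isDefEq.respectTransparency false in
theorem fwd {X : Scheme.{u}} (F : X.Modules)
    [SheafOfModules.IsFinitePresentation.{u, u, u} (R := X.ringCatSheaf) F] (x : X)
    (hflat : Module.Flat (X.presheaf.stalk x) (F.presheaf.stalk x)) :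
    ∃ U : X.Opens, x ∈ U ∧ FlatMod.IsFinLocFree ((Scheme.Modules.pullback U.ι).obj F) := by
  classical
  haveI : F.IsQuasicoherent := inferInstance
  have hx0 : x ∈ (⨆ U : X.affineOpens, (U : X.Opens)) := by
    rw [iSup_affineOpens_eq_top]; trivial
  obtain ⟨U0, hxU0⟩ := Opens.mem_iSup.mp hx0
  haveI := finitePresentation_sections F U0.2
  haveI := Groth.Agent.S9805.free_stalk_of_flat X F x hflat
  obtain ⟨f, hxf, r, g, hg, hli⟩ := exists_basis_basicOpen' F U0.2 x hxU0
  have hV : IsAffineOpen (X.basicOpen f) := U0.2.basicOpen f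
  let g' : ULift.{u} (Fin r) → Γ(F, X.basicOpen f) := fun i => g i.down
  have hg' : Submodule.span Γ(X, X.basicOpen f) (Set.range g') = ⊤ := by
    rw [eq_top_iff, ← hg]
    apply Submodule.span_mono
    rintro _ ⟨i, rfl⟩
    exact ⟨⟨i⟩, rfl⟩
  have hli' : LinearIndependent Γ(X, X.basicOpen f) g' :=
    hli.comp (fun i : ULift.{u} (Fin r) => i.down) Equiv.ulift.injective
  obtain ⟨ε⟩ := exists_iso_free_restrict F hV (ULift.{u} (Fin r)) g' hg' hli'
  refine ⟨X.basicOpen f, hxf, ?_⟩
  let iso1 := pullbackIsoRestrict (X.basicOpen f) F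
  let ε' : freeM ((X.basicOpen f : X.Opens) : Scheme.{u}) (ULift.{u} (Fin r)) ≅
      (Scheme.Modules.restrictFunctor (X.basicOpen f).ι).obj F := ε
  exact isFinLocFree_of_retract _ (iso1.hom ≫ ε'.inv) (ε'.hom ≫ iso1.inv)
    (by simp only [Category.assoc, Iso.inv_hom_id_assoc, Iso.hom_inv_id])

set_option backward.isDefEq.respectTransparency false in
theorem bwd {X : Scheme.{u}} (F : X.Modules)
    [SheafOfModules.IsFinitePresentation.{u, u, u} (R := X.ringCatSheaf) F] (x : X)
    (U : X.Opens) (hxU : x ∈ U)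
    (h : FlatMod.IsFinLocFree ((Scheme.Modules.pullback U.ι).obj F)) :
    Module.Flat (X.presheaf.stalk x) (F.presheaf.stalk x) := by
  classical
  haveI : F.IsQuasicoherent := inferInstance
  let iso1 := pullbackIsoRestrict U F
  obtain ⟨V, n, hyV, ⟨e⟩⟩ := h ⟨x, hxU⟩
  -- transfer to the restriction
  let e' : (F.restrict U.ι).restrict V.ι ≅ FlatMod.freeMod (V : Scheme.{u}) n :=
    ((Scheme.Modules.restrictFunctor V.ι).mapIso iso1).symm ≪≫ e
  obtain ⟨W', hW'aff, hyW', -⟩ := Opens.isBasis_iff_nbhd.mp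
    (V : Scheme.{u}).isBasis_affineOpens
    (show (⟨⟨x, hxU⟩, hyV⟩ : V) ∈ (⊤ : (V : Scheme.{u}).Opens) from trivial)
  obtain ⟨b⟩ := exists_basis_of_iso_freeMod (F.restrict U.ι) V e' W'
  have h1 : Module.Free Γ(U, V.ι ''ᵁ W') Γ(F.restrict U.ι, V.ι ''ᵁ W') := Module.Free.of_basis b
  haveI := free_restrict_transport F U (V.ι ''ᵁ W') h1
  have haff : IsAffineOpen (U.ι ''ᵁ (V.ι ''ᵁ W')) :=
    (hW'aff.image_of_isOpenImmersion V.ι).image_of_isOpenImmersion U.ι
  haveI := free_stalk_of_free_sections F haff x ⟨⟨x, hxU⟩, ⟨⟨⟨x, hxU⟩, hyV⟩, hyW', rfl⟩, rfl⟩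
  exact Module.Flat.of_free
end

/-- Let X be a scheme, F a finitely presented O_X-module and x a point of X. Then F_x is a flat module
over the local ring O_{X,x} if and only if x has an open neighbourhood U such that the restriction
of F to U is finite locally free. -/
theorem result {X : Scheme.{u}} (F : X.Modules) (hF : CohB1.IsFP F) (x : X) :
    FlatMod.IsFlatAt F x ↔ ∃ U : X.Opens, x ∈ U ∧ FlatMod.IsFinLocFree ((Scheme.Modules.pullback U.ι).obj F) := by
  haveI : SheafOfModules.IsFinitePresentation.{u, u, u} (R := X.ringCatSheaf) F := hF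
  constructor
  · intro hflat
    exact fwd F x hflat
  · rintro ⟨U, hxU, h⟩
    exact bwd F x U hxU h

end Groth.Agent.S4652
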