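import Groth.Statements.S4654
import Groth.Agent.Lead.EpiStalk
-- import your own Groth.Agent.* helpers here

set_option autoImplicit false
open CategoryTheory AlgebraicGeometry
universe u
open FDesc

namespace Groth.Agent.S4654


section
open TensorProduct LinearMap

theorem flat_iff_of_exact {R M N P : Type*} [CommRing R] [AddCommGroup M] [AddCommGroup N]
    [AddCommGroup P] [Module R M] [Module R N] [Module R P] [Module.Flat R P]
    (g : M →ₗ[R] N) (f : N →ₗ[R] P) (hg : Function.Injective g) (hf : Function.Surjective f)
    (H : Function.Exact g f) : Module.Flat R N ↔ Module.Flat R M := by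
  have hinj : ∀ (A : Type _) [AddCommGroup A] [Module R A], Function.Injective (g.lTensor A) :=
    fun A _ _ => LinearMap.lTensor_injective_of_exact_of_flat f hf g hg H A
  have comm : ∀ I : Ideal R, (g.lTensor R).comp (rTensor M I.subtype) =
      (rTensor N I.subtype).comp (g.lTensor I) := fun I => by
    rw [LinearMap.lTensor_comp_rTensor, LinearMap.rTensor_comp_lTensor]
  constructor
  · intro hN
    rw [Module.Flat.iff_rTensor_injective']
    intro I
    have h2 : Function.Injective (rTensor N I.subtype) :=
      Module.Flat.rTensor_preserves_injective_linearMap _ I.subtype_injective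
    have h3 : Function.Injective ((g.lTensor R).comp (rTensor M I.subtype)) := by
      rw [comm I]; exact h2.comp (hinj I)
    exact Function.Injective.of_comp h3
  · intro hM
    rw [Module.Flat.iff_rTensor_injective']
    intro I
    rw [injective_iff_map_eq_zero]
    intro x hx
    have hexI : Function.Exact (g.lTensor I) (f.lTensor I) := lTensor_exact I H hf
    have commP : (f.lTensor R).comp (rTensor N I.subtype) =
        (rTensor P I.subtype).comp (f.lTensor I) := by
      rw [LinearMap.lTensor_comp_rTensor, LinearMap.rTensor_comp_lTensor]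
    have h1 : rTensor P I.subtype (f.lTensor I x) = 0 := by
      have := congrArg (fun φ => φ x) commP
      simp only [LinearMap.comp_apply] at this
      rw [← this, hx, map_zero]
    have hP : Function.Injective (rTensor P I.subtype) :=
      Module.Flat.rTensor_preserves_injective_linearMap _ I.subtype_injective
    have h2 : f.lTensor I x = 0 := by
      apply hP; rw [h1, map_zero]
    obtain ⟨y, rfl⟩ := (hexI x).mp h2
    have h3 : g.lTensor R (rTensor M I.subtype y) = 0 := by
      have := congrArg (fun φ => φ y) (comm I)
      simp only [LinearMap.comp_apply] at this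
      rw [this, hx]
    have h4 : rTensor M I.subtype y = 0 := by
      apply hinj R; rw [h3, map_zero]
    have hMi : Function.Injective (rTensor M I.subtype) :=
      Module.Flat.rTensor_preserves_injective_linearMap _ I.subtype_injective
    have h5 : y = 0 := by apply hMi; rw [h4, map_zero]
    rw [h5, map_zero]

end

section
open CategoryTheory AlgebraicGeometry Groth.Agent.Lead.QCoh Groth.Agent.Lead.EpiStalk

theorem key {X Y : Scheme.{u}} (f : X ⟶ Y) (S : ShortComplex X.Modules)
    (hS : S.ShortExact) (x : X) (h3 : FlatMod.IsFlatOverAt f S.X₃ x) :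
    FlatMod.IsFlatOverAt f S.X₂ x ↔ FlatMod.IsFlatOverAt f S.X₁ x := by
  unfold FlatMod.IsFlatOverAt at h3 ⊢
  letI m1 := FlatMod.moduleStalkOver f S.X₁ x
  letI m2 := FlatMod.moduleStalkOver f S.X₂ x
  letI m3 := FlatMod.moduleStalkOver f S.X₃ x
  haveI := hS.mono_f
  haveI := hS.epi_g
  let g : S.X₁.presheaf.stalk x →ₗ[Y.presheaf.stalk (f.base x)] S.X₂.presheaf.stalk x :=
    { toFun := stalkMap S.f x
      map_add' := map_add _
      map_smul' := fun a m => stalkMap_smul S.f x ((f.stalkMap x).hom a) m }
  let h : S.X₂.presheaf.stalk x →ₗ[Y.presheaf.stalk (f.base x)] S.X₃.presheaf.stalk x :=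
    { toFun := stalkMap S.g x
      map_add' := map_add _
      map_smul' := fun a m => stalkMap_smul S.g x ((f.stalkMap x).hom a) m }
  haveI : Module.Flat (Y.presheaf.stalk (f.base x)) (S.X₃.presheaf.stalk x) := h3
  refine flat_iff_of_exact g h (stalkMap_injective_of_mono S.f x)
    (stalkMap_surjective_of_epi S.g x) ?_
  intro t
  constructor
  · intro ht
    obtain ⟨s, hs⟩ := stalk_exact S hS x t ht
    exact ⟨s, hs⟩
  · rintro ⟨s, rfl⟩
    change stalkMap S.g x (stalkMap S.f x s) = 0
    obtain ⟨V, hxV, s', rfl⟩ := TopCat.Presheaf.exists_germ_eq S.X₁.presheaf s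
    rw [stalkMap_germ, stalkMap_germ]
    have : S.g.app V (S.f.app V s') = 0 := by
      have h0 : S.f ≫ S.g = 0 := S.zero
      have := congrArg (fun φ => (Scheme.Modules.Hom.app φ V) s') h0
      exact this
    rw [this, map_zero]

end

/-- Let f : X → Y be a morphism of schemes and 0 → F' → F → F'' → 0 a short exact sequence of
quasi-coherent O_X-modules such that F'' is flat over Y. Then F is flat over Y if and only if F' is
flat over Y. -/
theorem result {X Y : Scheme.{u}} (f : X ⟶ Y) (S : ShortComplex X.Modules)
    (hS : S.ShortExact) (h₁ : Coh.IsQCoh S.X₁) (h₂ : Coh.IsQCoh S.X₂) (h₃ : Coh.IsQCoh S.X₃)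
    (hflat : FlatMod.IsFlatOver f S.X₃) :
    FlatMod.IsFlatOver f S.X₂ ↔ FlatMod.IsFlatOver f S.X₁ := by
  constructor
  · intro h x
    exact (key f S hS x (hflat x)).mp (h x)
  · intro h x
    exact (key f S hS x (hflat x)).mpr (h x)

end Groth.Agent.S4654
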