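import Groth.Statements.S4662
import Groth.Agent.Lib.Helper17.ProdCompDim

set_option autoImplicit false
open CategoryTheory AlgebraicGeometry
universe u
open FBase

namespace Groth.Agent.S4662

open CategoryTheory.Limits in
set_option backward.isDefEq.respectTransparency.types false in
/-- Let X and Y be integral schemes locally of finite type over a field k. Then every irreducible
component of X ×_k Y has dimension dim X + dim Y (Krull dimensions of the underlying spaces, valued
in WithBot ℕ∞). -/
theorem result {k : Type u} [Field k] {X Y : Scheme.{u}}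
    (f : X ⟶ Spec (CommRingCat.of k)) (g : Y ⟶ Spec (CommRingCat.of k)) [IsIntegral X] [IsIntegral Y]
    [LocallyOfFiniteType f] [LocallyOfFiniteType g] (Z : Set ↥(pullback f g))
    (hZ : Z ∈ irreducibleComponents ↥(pullback f g)) :
    topologicalKrullDim ↥Z = topologicalKrullDim ↥X + topologicalKrullDim ↥Y := by
  obtain ⟨ζ, hζZ, hζmax⟩ := Groth.Agent.Helper17.CompBCS.comp_generic Z hZ
  apply le_antisymm
  · calc topologicalKrullDim ↥Z ≤ topologicalKrullDim ↥(pullback f g) :=
          topologicalKrullDim_subspace_le _ _
      _ = topologicalKrullDim ↥X + topologicalKrullDim ↥Y :=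
          Groth.Agent.Helper17.ProdDim.dim_pullback_add f g
  · rw [Groth.Agent.Helper17.FieldBC.dim_openCover X.affineCover,
      Groth.Agent.Helper17.FieldBC.dim_openCover Y.affineCover]
    apply Groth.Agent.Helper17.ProdDim.supsum
    intro i j
    rw [← hζZ]
    haveI h1 : IsOpenImmersion (X.affineCover.f i) := inferInstance
    haveI h2 : IsOpenImmersion (Y.affineCover.f j) := inferInstance
    exact @Groth.Agent.Helper17.ProdCompDim.chart_bound k _ X Y f g _ _ _ _ ζ hζmax _ _
      (X.affineCover.f i) h1 (Y.affineCover.f j) h2

end Groth.Agent.S4662
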