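import Groth.Statements.S4663
import Groth.Agent.Lib.Helper17.CompBCS

set_option autoImplicit false
open CategoryTheory AlgebraicGeometry
universe u
open FBase

namespace Groth.Agent.S4663

/-- Let X be a scheme locally of finite type over a field k, K an extension field of k, and Z an
irreducible closed subset of X. Then every irreducible component of the inverse image of Z in X ⊗_k
K has the same dimension as Z (Krull dimensions of the underlying topological spaces, valued in
WithBot ℕ∞). (In the published statement Z is a cycle associated to a quasi-coherent O_X-module,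
with its reduced subscheme structure, and the components are those of Z ⊗_k K; such cycles are
exactly the irreducible closed subsets of X, and Z ⊗_k K has the inverse image of Z as underlying
space.) -/
theorem result {k K : Type u} [Field k] [Field K] [Algebra k K]
    {X : Scheme.{u}} (f : X ⟶ Spec (CommRingCat.of k)) [LocallyOfFiniteType f]
    (Z : Set ↥X) (hZc : IsClosed Z) (hZi : IsIrreducible Z)
    (W : Set ↥(⇑(FBase.bcπ f K) ⁻¹' Z)) (hW : W ∈ irreducibleComponents ↥(⇑(FBase.bcπ f K) ⁻¹' Z)) :
    topologicalKrullDim ↥W = topologicalKrullDim ↥Z := by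
  classical
  have hScl : IsClosed (⇑(FBase.bcπ f K) ⁻¹' Z) := hZc.preimage (FBase.bcπ f K).continuous
  obtain ⟨ξ, hξ⟩ := QuasiSober.sober hZi hZc
  have hξZ : closure {ξ} = Z := hξ.def
  have hWcl : IsClosed W := isClosed_of_mem_irreducibleComponents W hW
  have hW'irr : IsIrreducible (Subtype.val '' W : Set ↥(FBase.bc f K)) :=
    hW.1.image Subtype.val continuous_subtype_val.continuousOn
  have hW'cl : IsClosed (Subtype.val '' W : Set ↥(FBase.bc f K)) :=
    hScl.isClosedEmbedding_subtypeVal.isClosedMap W hWcl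
  obtain ⟨η, hη⟩ := QuasiSober.sober hW'irr hW'cl
  have hηW : closure {η} = (Subtype.val '' W : Set ↥(FBase.bc f K)) := hη.def
  have hηmem : η ∈ (Subtype.val '' W : Set ↥(FBase.bc f K)) := by
    rw [← hηW]; exact subset_closure rfl
  obtain ⟨w, hwW, hwη⟩ := hηmem
  have hηS : η ∈ (⇑(FBase.bcπ f K) ⁻¹' Z) := by rw [← hwη]; exact w.2
  have h1 : ξ ⤳ (FBase.bcπ f K) η := by
    apply specializes_iff_mem_closure.mpr
    rw [hξZ]
    exact hηS
  have hmax : ∀ η' : ↥(FBase.bc f K), η' ⤳ η → ξ ⤳ (FBase.bcπ f K) η' → η' = η := by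
    intro η' hsp hξη'
    have hη'S : η' ∈ (⇑(FBase.bcπ f K) ⁻¹' Z) := by
      show (FBase.bcπ f K) η' ∈ Z
      rw [← hξZ]
      exact specializes_iff_mem_closure.mp hξη'
    have hsub : W ⊆ closure ({⟨η', hη'S⟩} : Set ↥(⇑(FBase.bcπ f K) ⁻¹' Z)) := by
      intro w' hw'
      rw [closure_subtype, Set.image_singleton]
      have : (w' : ↥(FBase.bc f K)) ∈ closure ({η} : Set ↥(FBase.bc f K)) := by
        rw [hηW]; exact ⟨w', hw', rfl⟩
      exact closure_minimal (Set.singleton_subset_iff.mpr (specializes_iff_mem_closure.mp hsp))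
        isClosed_closure this
    have hle : closure ({⟨η', hη'S⟩} : Set ↥(⇑(FBase.bcπ f K) ⁻¹' Z)) ⊆ W :=
      hW.2 isIrreducible_singleton.closure hsub
    have hη'W : (⟨η', hη'S⟩ : ↥(⇑(FBase.bcπ f K) ⁻¹' Z)) ∈ W := hle (subset_closure rfl)
    have h3 : η ⤳ η' := by
      apply specializes_iff_mem_closure.mpr
      rw [hηW]
      exact ⟨⟨η', hη'S⟩, hη'W, rfl⟩
    exact (hsp.antisymm h3).eq
  have hcore := (Groth.Agent.Helper17.CompBCS.core f ξ η h1 hmax).2
  rw [hηW, hξZ] at hcore
  rw [← hcore]
  exact IsHomeomorph.topologicalKrullDim_eq _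
    ((Topology.IsEmbedding.subtypeVal).homeomorphImage W).isHomeomorph

end Groth.Agent.S4663
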