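import Groth.Statements.S4874
import Mathlib

set_option autoImplicit false
universe u
open CategoryTheory AlgebraicGeometry
open EGA43

namespace Groth.Agent.S4874

theorem stalkMap_injective {X Y : Scheme.{u}} (f : X ⟶ Y) [Flat f] (x : X) :
    Function.Injective (f.stalkMap x).hom := by
  algebraize [(f.stalkMap x).hom]
  have : Module.FaithfullyFlat (Y.presheaf.stalk (f x)) (X.presheaf.stalk x) :=
    @Module.FaithfullyFlat.of_flat_of_isLocalHom _ _ _ _ _ _ _
      (Flat.stalkMap f x) (f.toLRSHom.prop x)
  exact ‹RingHom.FaithfullyFlat _›.injective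

theorem app_injective_of_flat_surjective {X' X : Scheme.{u}} (g : X' ⟶ X) [Flat g] [Surjective g]
    (V : X.Opens) (t : Γ(X, V)) (ht : g.app V t = 0) : t = 0 := by
  apply TopCat.Presheaf.section_ext X.sheaf V
  intro x hx
  change (X.presheaf.germ V x hx) t = (X.presheaf.germ V x hx) 0
  rw [map_zero]
  obtain ⟨x', rfl⟩ := g.surjective x
  apply stalkMap_injective g x'
  rw [map_zero]
  have := Scheme.Hom.germ_stalkMap_apply g V x' hx t
  rw [ht, map_zero] at this
  exact this

theorem main {X X' : Scheme.{u}} {ι : Type u} (Z : ι → Scheme.{u})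
    (f : ∀ i, Z i ⟶ X) (g : X' ⟶ X) [Flat g] [Surjective g]
    (h : (∀ (V : X'.Opens) (t : Γ(X', V)),
      (∀ i, (Limits.pullback.snd (f i) g).app V t = 0) → t = 0)) :
    (∀ (V : X.Opens) (t : Γ(X, V)), (∀ i, (f i).app V t = 0) → t = 0) := by
  intro V t ht
  apply app_injective_of_flat_surjective g V t
  apply h
  intro i
  have e := Scheme.Hom.congr_app (Limits.pullback.condition (f := f i) (g := g)).symm V
  have h1 : (Limits.pullback.snd (f i) g).app (g ⁻¹ᵁ V) (g.app V t) =
      ((Limits.pullback.snd (f i) g ≫ g).app V) t := by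
    rw [Scheme.Hom.comp_app]; rfl
  rw [h1, e]
  have h2 : ((Limits.pullback.fst (f i) g ≫ f i).app V) t = 0 := by
    have h3 : ((Limits.pullback.fst (f i) g ≫ f i).app V) t =
        (Limits.pullback.fst (f i) g).app (f i ⁻¹ᵁ V) ((f i).app V t) := by
      rw [Scheme.Hom.comp_app]; rfl
    rw [h3, ht i]; exact map_zero _
  rw [CommRingCat.comp_apply, h2]; exact map_zero _

/-- Let (f_i : Z_i ⟶ X) be a family of morphisms, g : X' ⟶ X a faithfully flat morphism and f'_i : Z_i
×_X X' ⟶ X' the base changes. If the family (f'_i) is schematically dominant, then so is the family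
(f_i). (Schematically dominant: a section of the structure sheaf over an open whose pullback along
every member of the family vanishes is zero.) -/
theorem result {X X' : Scheme.{u}} {ι : Type u} (Z : ι → Scheme.{u})
    (f : ∀ i, Z i ⟶ X) (g : X' ⟶ X) [Flat g] [Surjective g]
    (h : (∀ (V : (X').Opens) (t : Γ(X', V)), (∀ i, (Limits.pullback.snd (f i) g).app V t = 0) → t = 0)) :
    (∀ (V : (X).Opens) (t : Γ(X, V)), (∀ i, (f i).app V t = 0) → t = 0) := by
  exact main Z f g h

end Groth.Agent.S4874
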