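import Groth.Statements.S4666
import Mathlib
import Groth.Agent.S4874

set_option autoImplicit false
open CategoryTheory AlgebraicGeometry
universe u
open FDesc

namespace Groth.Agent.S4666

open CategoryTheory.Limits in
theorem ker_eq_bot_of_flat_surjective {P Z : Scheme.{u}} (p : P ⟶ Z) [Flat p] [Surjective p] :
    p.ker = ⊥ := by
  rw [eq_bot_iff, Scheme.IdealSheafData.le_def]
  intro U
  refine (Scheme.Hom.ideal_ker_le p U).trans ?_
  intro t ht
  rw [Scheme.IdealSheafData.ideal_bot, Pi.bot_apply, Ideal.mem_bot]
  exact Groth.Agent.S4874.app_injective_of_flat_surjective p U.1 t ht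

open CategoryTheory.Limits in
theorem map_comap_eq {X Y : Scheme.{u}} (f : X ⟶ Y) [Flat f] [Surjective f]
    (J : Y.IdealSheafData) : (J.comap f).map f = J := by
  have h1 : (pullback.snd f J.subschemeι).ker = ⊥ := ker_eq_bot_of_flat_surjective _
  rw [Scheme.IdealSheafData.comap, Scheme.IdealSheafData.map_ker, pullback.condition,
    Scheme.Hom.ker_comp, h1, Scheme.IdealSheafData.map_bot, Scheme.IdealSheafData.ker_subschemeι]

theorem main {X Y : Scheme.{u}} (f : X ⟶ Y) [Flat f] [Surjective f] :
    Function.Injective fun J : Y.IdealSheafData => J.comap f := by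
  intro J₁ J₂ h
  have h' : J₁.comap f = J₂.comap f := h
  rw [← map_comap_eq f J₁, ← map_comap_eq f J₂, h']

/-- Let f : X → Y be a flat and surjective morphism of schemes. Then the map sending a quasi-coherent
sheaf of ideals of O_Y (a closed subscheme of Y) to its inverse image in X is injective. -/
theorem result {X Y : Scheme.{u}} (f : X ⟶ Y) [Flat f] [Surjective f] :
    Function.Injective fun J : Y.IdealSheafData => J.comap f := by
  exact main f

end Groth.Agent.S4666
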