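import Groth.Statements.S4672
import Groth.Agent.Lib.Helper17.ProdComp

set_option autoImplicit false
open CategoryTheory AlgebraicGeometry
universe u
open FBase

namespace Groth.Agent.S4672

open CategoryTheory.Limits in
/-- Let X and Y be locally Noetherian schemes over a field k such that X ×_k Y is locally Noetherian,
with projections p and q. Then a subset W of X ×_k Y is an irreducible component of X ×_k Y if and
only if there exist an irreducible component X' of X and an irreducible component Y' of Y such that
W is a maximal irreducible subset of p⁻¹(X') ∩ q⁻¹(Y') (that is, an irreducible component of the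
space underlying X' ×_k Y' for the reduced structures on X' and Y'). -/
theorem result {k : Type u} [Field k] {X Y : Scheme.{u}}
    (f : X ⟶ Spec (CommRingCat.of k)) (g : Y ⟶ Spec (CommRingCat.of k)) [IsLocallyNoetherian X]
    [IsLocallyNoetherian Y] [IsLocallyNoetherian (pullback f g)] (W : Set ↥(pullback f g)) :
    W ∈ irreducibleComponents ↥(pullback f g) ↔
      ∃ X' ∈ irreducibleComponents ↥X, ∃ Y' ∈ irreducibleComponents ↥Y,
        Maximal (fun V : Set ↥(pullback f g) => IsIrreducible V ∧ V ⊆ ⇑(pullback.fst f g) ⁻¹' X' ∩ ⇑(pullback.snd f g) ⁻¹' Y') W := by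
  classical
  haveI : Flat f := inferInstance
  haveI : Flat g := inferInstance
  haveI : Flat (pullback.fst f g) := inferInstance
  haveI : Flat (pullback.snd f g) := inferInstance
  have hgp : GeneralizingMap ⇑(pullback.fst f g) := Flat.generalizingMap (pullback.fst f g)
  have hgq : GeneralizingMap ⇑(pullback.snd f g) := Flat.generalizingMap (pullback.snd f g)
  constructor
  · intro hW
    obtain ⟨ζ, hζW, hζmax⟩ := Groth.Agent.Helper17.CompBCS.comp_generic W hW
    have hx : ∀ x' : X, x' ⤳ (pullback.fst f g) ζ → x' = (pullback.fst f g) ζ := by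
      intro x' hx'
      obtain ⟨ζ', hζ', hpζ'⟩ := hgp hx'
      rw [← hpζ', hζmax ζ' hζ']
    have hy : ∀ y' : Y, y' ⤳ (pullback.snd f g) ζ → y' = (pullback.snd f g) ζ := by
      intro y' hy'
      obtain ⟨ζ', hζ', hqζ'⟩ := hgq hy'
      rw [← hqζ', hζmax ζ' hζ']
    refine ⟨closure {(pullback.fst f g) ζ},
      Groth.Agent.Helper17.ProdComp.closure_singleton_mem_irreducibleComponents _ hx,
      closure {(pullback.snd f g) ζ},
      Groth.Agent.Helper17.ProdComp.closure_singleton_mem_irreducibleComponents _ hy, ?_⟩
    refine ⟨⟨hW.1, ?_⟩, fun V hV hWV => hW.2 hV.1 hWV⟩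
    intro w hw
    rw [← hζW] at hw
    have hsp : ζ ⤳ w := specializes_iff_mem_closure.mpr hw
    exact ⟨specializes_iff_mem_closure.mp (hsp.map (pullback.fst f g).continuous),
      specializes_iff_mem_closure.mp (hsp.map (pullback.snd f g).continuous)⟩
  · rintro ⟨X', hX', Y', hY', ⟨hWirr, hWS⟩, hWmax⟩
    obtain ⟨ξ, hξX', hξmax⟩ := Groth.Agent.Helper17.CompBCS.comp_generic X' hX'
    obtain ⟨υ, hυY', hυmax⟩ := Groth.Agent.Helper17.CompBCS.comp_generic Y' hY'
    have hX'cl : IsClosed X' := isClosed_of_mem_irreducibleComponents X' hX'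
    have hY'cl : IsClosed Y' := isClosed_of_mem_irreducibleComponents Y' hY'
    have hScl : IsClosed (⇑(pullback.fst f g) ⁻¹' X' ∩ ⇑(pullback.snd f g) ⁻¹' Y') :=
      (hX'cl.preimage (pullback.fst f g).continuous).inter
        (hY'cl.preimage (pullback.snd f g).continuous)
    -- W is closed
    have hWcl : IsClosed W := by
      have h1 : closure W ⊆ W :=
        hWmax ⟨hWirr.closure, closure_minimal hWS hScl⟩ subset_closure
      exact closure_subset_iff_isClosed.mp h1
    obtain ⟨ζ, hζ⟩ := QuasiSober.sober hWirr hWcl
    have hζW : closure {ζ} = W := hζ.def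
    have hζmem : ζ ∈ W := by rw [← hζW]; exact subset_closure rfl
    have h1 : ξ ⤳ (pullback.fst f g) ζ := by
      apply specializes_iff_mem_closure.mpr
      rw [hξX']
      exact (hWS hζmem).1
    have h2 : υ ⤳ (pullback.snd f g) ζ := by
      apply specializes_iff_mem_closure.mpr
      rw [hυY']
      exact (hWS hζmem).2
    -- maximality of ζ
    have hmaxζ : ∀ ζ' : ↥(pullback f g), ζ' ⤳ ζ → ξ ⤳ (pullback.fst f g) ζ' →
        υ ⤳ (pullback.snd f g) ζ' → ζ' = ζ := by
      intro ζ' hsp h1' h2'
      have hζ'S : closure {ζ'} ⊆ ⇑(pullback.fst f g) ⁻¹' X' ∩ ⇑(pullback.snd f g) ⁻¹' Y' := by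
        apply closure_minimal _ hScl
        rw [Set.singleton_subset_iff]
        refine ⟨?_, ?_⟩
        · show (pullback.fst f g) ζ' ∈ X'
          rw [← hξX']
          exact specializes_iff_mem_closure.mp h1'
        · show (pullback.snd f g) ζ' ∈ Y'
          rw [← hυY']
          exact specializes_iff_mem_closure.mp h2'
      have hWsub : W ⊆ closure {ζ'} := by
        rw [← hζW]
        exact closure_minimal (Set.singleton_subset_iff.mpr (specializes_iff_mem_closure.mp hsp))
          isClosed_closure
      have hle : closure {ζ'} ⊆ W := hWmax ⟨isIrreducible_singleton.closure, hζ'S⟩ hWsub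
      have h3 : ζ ⤳ ζ' := by
        apply specializes_iff_mem_closure.mpr
        rw [hζW]
        exact hle (subset_closure rfl)
      exact (hsp.antisymm h3).eq
    obtain ⟨hpζ, hqζ⟩ := Groth.Agent.Helper17.ProdComp.key f g ξ υ ζ h1 h2 hmaxζ
    -- ζ has no proper generalizations
    have hζgen : ∀ t : ↥(pullback f g), t ⤳ ζ → t = ζ := by
      intro t ht
      have hpt : (pullback.fst f g) t = ξ := by
        apply hξmax
        rw [← hpζ]
        exact ht.map (pullback.fst f g).continuous
      have hqt : (pullback.snd f g) t = υ := by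
        apply hυmax
        rw [← hqζ]
        exact ht.map (pullback.snd f g).continuous
      exact hmaxζ t ht (by rw [hpt]) (by rw [hqt])
    have := Groth.Agent.Helper17.ProdComp.closure_singleton_mem_irreducibleComponents ζ hζgen
    rw [hζW] at this
    exact this

end Groth.Agent.S4672
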