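import Groth.Statements.S4673
import Groth.Agent.Lib.Helper17.CompBCS

set_option autoImplicit false
open CategoryTheory AlgebraicGeometry
universe u
open FBase

namespace Groth.Agent.S4673

/-- Let X be a scheme locally of finite type over a field k and K an extension field of k. Then the set
of dimensions of the irreducible components of X ⊗_k K is equal to the set of dimensions of the
irreducible components of X (Krull dimensions of the underlying spaces, valued in WithBot ℕ∞). -/
theorem result {k K : Type u} [Field k] [Field K] [Algebra k K]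
    {X : Scheme.{u}} (f : X ⟶ Spec (CommRingCat.of k)) [LocallyOfFiniteType f] :
    (fun Z : Set ↥(FBase.bc f K) => topologicalKrullDim ↥Z) '' irreducibleComponents ↥(FBase.bc f K) =
      (fun Z : Set ↥X => topologicalKrullDim ↥Z) '' irreducibleComponents ↥X := by
  classical
  have hsurj : Function.Surjective ⇑(FBase.bcπ f K) := by
    intro x
    let y : ↥(Spec (CommRingCat.of K)) := (default : PrimeSpectrum K)
    have hxy : f x = (Spec.map (CommRingCat.ofHom (algebraMap k K))) y :=
      Subsingleton.elim (α := PrimeSpectrum k) _ _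
    obtain ⟨z, hz, -⟩ := Scheme.Pullback.exists_preimage_pullback (f := f)
      (g := Spec.map (CommRingCat.ofHom (algebraMap k K))) x y hxy
    exact ⟨z, hz⟩
  ext d
  constructor
  · rintro ⟨W, hW, rfl⟩
    obtain ⟨η, hηW, hηmax⟩ := Groth.Agent.Helper17.CompBCS.comp_generic W hW
    have hZ := irreducibleComponent_mem_irreducibleComponents ((FBase.bcπ f K) η)
    obtain ⟨ξ, hξZ, -⟩ := Groth.Agent.Helper17.CompBCS.comp_generic _ hZ
    have h1 : ξ ⤳ (FBase.bcπ f K) η := by
      apply specializes_iff_mem_closure.mpr
      rw [hξZ]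
      exact mem_irreducibleComponent
    have hcore := (Groth.Agent.Helper17.CompBCS.core f ξ η h1
      (fun η' hsp _ => hηmax η' hsp)).2
    rw [hηW, hξZ] at hcore
    exact ⟨_, hZ, hcore.symm⟩
  · rintro ⟨Z, hZ, rfl⟩
    obtain ⟨ξ, hξZ, hξmax⟩ := Groth.Agent.Helper17.CompBCS.comp_generic Z hZ
    obtain ⟨η₁, hη₁⟩ := hsurj ξ
    have hW := irreducibleComponent_mem_irreducibleComponents η₁
    obtain ⟨η, hηW, hηmax⟩ := Groth.Agent.Helper17.CompBCS.comp_generic _ hW
    have h0 : η ⤳ η₁ := by
      apply specializes_iff_mem_closure.mpr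
      rw [hηW]
      exact mem_irreducibleComponent
    have h2 : (FBase.bcπ f K) η ⤳ ξ := by
      rw [← hη₁]
      exact h0.map (FBase.bcπ f K).continuous
    have h3 : (FBase.bcπ f K) η = ξ := hξmax _ h2
    have h1 : ξ ⤳ (FBase.bcπ f K) η := by rw [h3]
    have hcore := (Groth.Agent.Helper17.CompBCS.core f ξ η h1
      (fun η' hsp _ => hηmax η' hsp)).2
    rw [hηW, hξZ] at hcore
    exact ⟨_, hW, hcore⟩

end Groth.Agent.S4673
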