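import Groth.Statements.S4674
import Mathlib
-- import your own Groth.Agent.* helpers here

set_option autoImplicit false
open scoped TensorProduct
universe u v w
open FDesc

namespace Groth.Agent.S4674

/-- Let B be a flat A-algebra and M a finitely presented A-module. Then the annihilator of the B-module
B ⊗_A M is the ideal of B generated by the image of the annihilator of M. -/
theorem result {A : Type u} {B : Type v} [CommRing A] [CommRing B] [Algebra A B]
    [Module.Flat A B] (M : Type w) [AddCommGroup M] [Module A M] [Module.FinitePresentation A M] :
    Module.annihilator B (B ⊗[A] M) = (Module.annihilator A M).map (algebraMap A B) := by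
  classical
  have hfin : Module.Finite A M := inferInstance
  obtain ⟨s, hs⟩ := hfin.fg_top
  apply le_antisymm
  · intro b hb
    rw [Module.mem_annihilator] at hb
    let φ : A →ₗ[A] (s → M) := LinearMap.pi (fun i => LinearMap.toSpanSingleton A M (i : M))
    have hφ : ∀ a i, φ a i = a • (i : M) := fun a i => rfl
    have hker : ∀ a, a ∈ LinearMap.ker φ → a ∈ Module.annihilator A M := by
      intro a h
      rw [LinearMap.mem_ker] at h
      rw [Module.mem_annihilator]
      intro m
      have hm : m ∈ Submodule.span A (s : Set M) := by rw [hs]; trivial
      induction hm using Submodule.span_induction with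
      | mem x hx => exact congrFun h ⟨x, hx⟩
      | zero => simp
      | add x y _ _ hx hy => rw [smul_add, hx, hy, add_zero]
      | smul c x _ hx => rw [smul_comm, hx, smul_zero]
    have hex : Function.Exact (LinearMap.ker φ).subtype φ := LinearMap.exact_subtype_ker_map φ
    have hex2 := Module.Flat.lTensor_exact B hex
    have hz : LinearMap.lTensor B φ (b ⊗ₜ 1) = 0 := by
      apply (TensorProduct.piRight A A B (fun _ : s => M)).injective
      rw [map_zero]
      ext i
      rw [LinearMap.lTensor_tmul, TensorProduct.piRight_apply, TensorProduct.piRightHom_tmul]
      show b ⊗ₜ[A] ((1 : A) • (i : M)) = 0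
      rw [one_smul]
      have := hb ((1 : B) ⊗ₜ (i : M))
      rwa [TensorProduct.smul_tmul', smul_eq_mul, mul_one] at this
    obtain ⟨w, hw⟩ := (hex2 _).1 hz
    have key : ∀ w : B ⊗[A] (LinearMap.ker φ),
        TensorProduct.rid A B (LinearMap.lTensor B (LinearMap.ker φ).subtype w) ∈
          (Module.annihilator A M).map (algebraMap A B) := by
      intro w
      induction w using TensorProduct.induction_on with
      | zero => simp
      | tmul b' a =>
        rw [LinearMap.lTensor_tmul, TensorProduct.rid_tmul]
        show (a : A) • b' ∈ _
        rw [Algebra.smul_def]
        exact Ideal.mul_mem_right _ _ (Ideal.mem_map_of_mem _ (hker _ a.2))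
      | add x y hx hy => rw [map_add, map_add]; exact Ideal.add_mem _ hx hy
    have := key w
    rw [hw, TensorProduct.rid_tmul, one_smul] at this
    exact this
  · rw [Ideal.map_le_iff_le_comap]
    intro a ha
    rw [Ideal.mem_comap, Module.mem_annihilator]
    rw [Module.mem_annihilator] at ha
    intro x
    induction x using TensorProduct.induction_on with
    | zero => simp
    | tmul b m =>
      rw [TensorProduct.smul_tmul', algebraMap_smul, TensorProduct.smul_tmul, ha,
        TensorProduct.tmul_zero]
    | add x y hx hy => rw [smul_add, hx, hy, add_zero]

end Groth.Agent.S4674
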