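import Groth.Statements.S4675
import Mathlib
-- import your own Groth.Agent.* helpers here

set_option autoImplicit false
universe u v
open FDesc

namespace Groth.Agent.S4675

/-- Let B be a ring, not necessarily commutative, and V, W two left B-modules which are isomorphic. For
a B-linear map u : V → W the following are equivalent: every B-linear map V → W can be written
uniquely as u ∘ c with c a B-linear endomorphism of V (that is, u is a basis of Hom_B(V, W) for its
right module structure over End_B(V)); u is bijective. -/
theorem result {B : Type u} [Ring B] {V W : Type v} [AddCommGroup V] [AddCommGroup W]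
    [Module B V] [Module B W] (e : V ≃ₗ[B] W) (u : V →ₗ[B] W) :
    (∀ v : V →ₗ[B] W, ∃! c : V →ₗ[B] V, v = u ∘ₗ c) ↔ Function.Bijective u := by
  constructor
  · intro h
    obtain ⟨c, hc, -⟩ := h e.toLinearMap
    have hce : ∀ x, u (c x) = e x := fun x => (LinearMap.congr_fun hc x).symm
    have hsurj : Function.Surjective u := by
      intro w
      exact ⟨c (e.symm w), by rw [hce, e.apply_symm_apply]⟩
    refine ⟨?_, hsurj⟩
    -- the projection onto ker u
    set π : V →ₗ[B] V := LinearMap.id - c ∘ₗ e.symm.toLinearMap ∘ₗ u with hπ
    have hπ0 : u ∘ₗ π = u ∘ₗ (0 : V →ₗ[B] V) := by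
      ext x
      simp only [hπ, LinearMap.comp_apply, LinearMap.sub_apply, LinearMap.id_apply, map_sub,
        LinearEquiv.coe_coe, hce, e.apply_symm_apply, sub_self, LinearMap.zero_apply, map_zero]
    obtain ⟨c0, -, huniq⟩ := h (u ∘ₗ π)
    have e1 : π = c0 := huniq π rfl
    have e2 : (0 : V →ₗ[B] V) = c0 := huniq 0 hπ0
    have hπz : π = 0 := e1.trans e2.symm
    rw [injective_iff_map_eq_zero]
    intro x hx
    have := LinearMap.congr_fun hπz x
    simp only [hπ, LinearMap.comp_apply, LinearMap.sub_apply, LinearMap.id_apply,
      LinearEquiv.coe_coe, hx, map_zero, sub_zero, LinearMap.zero_apply] at this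
    exact this
  · intro hu v
    set ue := LinearEquiv.ofBijective u hu with hue
    refine ⟨ue.symm.toLinearMap ∘ₗ v, ?_, ?_⟩
    · ext x
      simp only [LinearMap.comp_apply, LinearEquiv.coe_coe]
      exact ((LinearEquiv.ofBijective u hu).apply_symm_apply (v x)).symm
    · intro c hc
      ext x
      simp only [LinearMap.comp_apply, LinearEquiv.coe_coe, hc]
      exact ((LinearEquiv.ofBijective u hu).symm_apply_apply (c x)).symm

end Groth.Agent.S4675
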