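import Groth.Statements.S4691
import Mathlib
import Groth.Agent.S3447

set_option autoImplicit false
universe u
open EGA4

namespace Groth.Agent.S4691

section Helpers
open AlgebraicGeometry CategoryTheory Order TopologicalSpace

theorem main {X Y : Scheme.{u}} (f : X ⟶ Y) [IsLocallyNoetherian Y]
    [LocallyOfFiniteType f] (n : ℕ) (h : ∀ y : Y, topologicalKrullDim (f.fiber y) ≤ n) :
    topologicalKrullDim X ≤ topologicalKrullDim Y + n := by
  rw [Groth.Agent.S3447.topDim_eq X, Order.krullDim_eq_iSup_coheight]
  apply iSup_le
  intro x
  rw [← ringKrullDim_stalk_eq_coheight]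
  have h1 := Groth.Agent.S3447.main f x
  have h3 : ringKrullDim (Y.presheaf.stalk (f.base x)) ≤ topologicalKrullDim Y := by
    rw [ringKrullDim_stalk_eq_coheight, Groth.Agent.S3447.topDim_eq]
    exact Order.coheight_le_krullDim _
  have h4 : ringKrullDim ((f.fiber (f.base x)).presheaf.stalk (f.asFiber x)) ≤ n := by
    rw [ringKrullDim_stalk_eq_coheight]
    exact (Order.coheight_le_krullDim _).trans
      ((Groth.Agent.S3447.topDim_eq _).symm.le.trans (h _))
  exact h1.trans (add_le_add h3 h4)

end Helpers

open AlgebraicGeometry CategoryTheory in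
/-- Let Y be a locally Noetherian scheme, f : X → Y a morphism locally of finite type and n a natural
number such that every fibre of f has dimension at most n. Then dim X ≤ dim Y + n. -/
theorem result {X Y : Scheme.{u}} (f : X ⟶ Y) [IsLocallyNoetherian Y]
    [LocallyOfFiniteType f] (n : ℕ) (h : ∀ y : Y, topologicalKrullDim (f.fiber y) ≤ n) :
    topologicalKrullDim X ≤ topologicalKrullDim Y + n := by
  exact main f n h

end Groth.Agent.S4691
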