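import Groth.Statements.S9296
import Groth.Agent.H29.ClosedCrit
import Groth.Agent.H29.RegLocalization
import Groth.Agent.Lib.Helper24.Rk

set_option autoImplicit false
universe u
open EGA4

namespace Groth.Agent.S9296


theorem reg_generization (A : Type u) [CommRing A] (p q : Ideal A) [p.IsPrime] [hq : q.IsPrime]
    (hqp : q ≤ p) (hp : IsRegularLocalRing (Localization.AtPrime p)) :
    IsRegularLocalRing (Localization.AtPrime q) := by
  have hdisj : Disjoint (p.primeCompl : Set A) (q : Set A) := by
    rw [Set.disjoint_left]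
    intro x hx hxq
    exact hx (hqp hxq)
  haveI hq' : (q.map (algebraMap A (Localization.AtPrime p))).IsPrime :=
    IsLocalization.isPrime_of_isPrime_disjoint p.primeCompl _ q hq hdisj
  have hcomap : (q.map (algebraMap A (Localization.AtPrime p))).comap
      (algebraMap A (Localization.AtPrime p)) = q :=
    IsLocalization.comap_map_of_isPrime_disjoint p.primeCompl _ hq hdisj
  haveI := hp
  have h1 := Groth.Agent.H29.isRegularLocalRing_localization_atPrime (Localization.AtPrime p)
    (q.map (algebraMap A (Localization.AtPrime p)))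
  rw [Groth.Agent.Helper24.Rk.rlr_loc_loc p _] at h1
  exact (Groth.Agent.Helper24.Rk.rlr_congr _ _ hcomap).1 h1


/-- For a Noetherian ring R, the set of primes at which R is regular is open in Spec R (R is J-1)
exactly when, for each such prime p, some nonempty open part of the closed set V(p) consists of
primes at which R is regular. Stated with an open U of Spec R whose trace on V(p) is nonempty and
contained in the regular locus. -/
theorem result (R : Type u) [CommRing R] [IsNoetherianRing R] :
    IsOpen (EGA4.regLocus R) ↔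
      ∀ p ∈ EGA4.regLocus R, ∃ U : Set (PrimeSpectrum R), IsOpen U ∧
        (U ∩ PrimeSpectrum.zeroLocus (p.asIdeal : Set R)).Nonempty ∧
        U ∩ PrimeSpectrum.zeroLocus (p.asIdeal : Set R) ⊆ EGA4.regLocus R := by
  constructor
  · intro h p hp
    exact ⟨_, h, ⟨p, hp, (PrimeSpectrum.mem_zeroLocus _ _).mpr le_rfl⟩, Set.inter_subset_left⟩
  · intro h
    have hcompl : (EGA4.regLocus R)ᶜ =
        {q | ∃ r ∈ (EGA4.regLocus R)ᶜ, r.asIdeal ≤ q.asIdeal} := by
      ext q
      constructor
      · intro hq
        exact ⟨q, hq, le_rfl⟩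
      · rintro ⟨r, hr, hrq⟩ hq
        exact hr (reg_generization R q.asIdeal r.asIdeal hrq hq)
    rw [← isClosed_compl_iff, hcompl]
    apply Groth.Agent.H29.ClosedCrit.isClosed_upperClosure
    intro p hp
    have hpreg : p ∈ EGA4.regLocus R := not_not.mp hp
    obtain ⟨U, hUo, ⟨q, hqU, hqp⟩, hUsub⟩ := h p hpreg
    obtain ⟨K, hK⟩ := (PrimeSpectrum.isClosed_iff_zeroLocus_ideal _).mp hUo.isClosed_compl
    have hKp : ¬ K ≤ p.asIdeal := by
      intro hle
      have : q ∈ Uᶜ := by
        rw [hK]
        exact (PrimeSpectrum.mem_zeroLocus _ _).mpr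
          (le_trans hle ((PrimeSpectrum.mem_zeroLocus _ _).mp hqp))
      exact this hqU
    refine ⟨p.asIdeal ⊔ K, lt_of_le_of_ne le_sup_left
      (fun heq => hKp (by rw [heq]; exact le_sup_right)), ?_⟩
    intro r hr hpr
    refine sup_le hpr ?_
    have : r ∈ Uᶜ := fun hrU => hr (hUsub ⟨hrU, (PrimeSpectrum.mem_zeroLocus _ _).mpr hpr⟩)
    rw [hK] at this
    exact (PrimeSpectrum.mem_zeroLocus _ _).mp this

end Groth.Agent.S9296
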