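import Groth.Statements.S4700
import Groth.Agent.H29.RegLocal
import Groth.Agent.S9296

set_option autoImplicit false
universe u
open EGA4

namespace Groth.Agent.S4700


open IsLocalRing

theorem exists_spread_generators (A : Type u) [CommRing A] [IsNoetherianRing A] (p : Ideal A)
    [p.IsPrime] (hreg : IsRegularLocalRing (Localization.AtPrime p)) :
    ∃ f : A, f ∉ p ∧ ∀ (q : Ideal A) [q.IsPrime], p ≤ q → f ∉ q →
      ((p.map (algebraMap A (Localization.AtPrime q))).spanFinrank : ℕ∞) ≤ p.height := by
  classical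
  haveI := hreg
  have hfg : (maximalIdeal (Localization.AtPrime p)).FG := IsNoetherian.noetherian _
  obtain ⟨T, hTcard, hTspan⟩ := Submodule.FG.exists_span_finset_card_eq_spanFinrank hfg
  have hTmem : ∀ y ∈ T, ∃ x : p × p.primeCompl,
      y * algebraMap A (Localization.AtPrime p) x.2 = algebraMap A (Localization.AtPrime p) x.1 := by
    intro y hy
    rw [← IsLocalization.mem_map_algebraMap_iff p.primeCompl,
      Localization.AtPrime.map_eq_maximalIdeal, ← hTspan]
    exact Submodule.subset_span hy
  choose! x hx using hTmem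
  set I₀ : Ideal A := Ideal.span ((T.image (fun y => ((x y).1 : A)) : Finset A) : Set A) with hI₀
  have hI₀p : I₀ ≤ p := by
    rw [hI₀, Ideal.span_le]
    intro a ha
    rw [Finset.coe_image] at ha
    obtain ⟨y, -, rfl⟩ := ha
    exact (x y).1.2
  have hmap : p.map (algebraMap A (Localization.AtPrime p)) ≤
      I₀.map (algebraMap A (Localization.AtPrime p)) := by
    rw [Localization.AtPrime.map_eq_maximalIdeal, ← hTspan, Submodule.span_le]
    intro y hy
    have h1 : algebraMap A (Localization.AtPrime p) ((x y).1 : A) ∈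
        I₀.map (algebraMap A (Localization.AtPrime p)) :=
      Ideal.mem_map_of_mem _ (Ideal.subset_span (Finset.mem_coe.mpr
        (Finset.mem_image_of_mem _ hy)))
    rw [← hx y hy] at h1
    exact (Ideal.mul_unit_mem_iff_mem _ (IsLocalization.map_units _ (x y).2)).mp h1
  have hK : ∀ g ∈ p, ∃ t : A, t ∉ p ∧ t * g ∈ I₀ := by
    intro g hg
    have h1 : algebraMap A (Localization.AtPrime p) g ∈
        I₀.map (algebraMap A (Localization.AtPrime p)) := hmap (Ideal.mem_map_of_mem _ hg)
    obtain ⟨⟨a, s⟩, has⟩ := (IsLocalization.mem_map_algebraMap_iff p.primeCompl _).mp h1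
    rw [← map_mul] at has
    obtain ⟨c, hc⟩ := (IsLocalization.eq_iff_exists p.primeCompl _).mp has
    refine ⟨(c : A) * (s : A), fun h => (c * s).2 h, ?_⟩
    have : (c : A) * (s : A) * g = c * a := by
      rw [← hc]
      ring
    rw [this]
    exact Ideal.mul_mem_left _ _ a.2
  obtain ⟨G, hG⟩ := (IsNoetherian.noetherian p : p.FG)
  have hGp : ∀ g ∈ G, g ∈ p := fun g hg => hG ▸ Submodule.subset_span (Finset.mem_coe.mpr hg)
  choose! t ht htg using hK
  refine ⟨∏ g ∈ G, t g, ?_, ?_⟩
  · intro hmem
    obtain ⟨g, hgG, hg⟩ := (Ideal.IsPrime.prod_mem_iff).mp hmem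
    exact ht g (hGp g hgG) hg
  · intro q _ hpq hfq
    have hfp : ∀ g ∈ p, (∏ g ∈ G, t g) * g ∈ I₀ := by
      intro g hg
      rw [← hG] at hg
      induction hg using Submodule.span_induction with
      | mem g hgG =>
        rw [← Finset.mul_prod_erase G t hgG, mul_comm (t g), mul_assoc]
        exact Ideal.mul_mem_left _ _ (htg g (hGp g hgG))
      | zero =>
        rw [mul_zero]
        exact zero_mem _
      | add a b _ _ ha hb =>
        rw [mul_add]
        exact add_mem ha hb
      | smul r a _ ha =>
        rw [smul_eq_mul, mul_left_comm]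
        exact Ideal.mul_mem_left _ _ ha
    have heq : p.map (algebraMap A (Localization.AtPrime q)) =
        I₀.map (algebraMap A (Localization.AtPrime q)) := by
      apply le_antisymm
      · rw [Ideal.map_le_iff_le_comap]
        intro g hg
        rw [Ideal.mem_comap]
        have h1 := Ideal.mem_map_of_mem (algebraMap A (Localization.AtPrime q)) (hfp g hg)
        rw [map_mul] at h1
        exact (Ideal.unit_mul_mem_iff_mem _
          (IsLocalization.map_units _ (⟨_, hfq⟩ : q.primeCompl))).mp h1
      · exact Ideal.map_mono hI₀p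
    rw [heq, hI₀, Ideal.map_span]
    have hfin : ((algebraMap A (Localization.AtPrime q)) ''
        ((T.image (fun y => ((x y).1 : A)) : Finset A) : Set A)).Finite :=
      (Finset.finite_toSet _).image _
    have h1 : (Ideal.span ((algebraMap A (Localization.AtPrime q)) ''
        ((T.image (fun y => ((x y).1 : A)) : Finset A) : Set A))).spanFinrank ≤
        ((algebraMap A (Localization.AtPrime q)) ''
          ((T.image (fun y => ((x y).1 : A)) : Finset A) : Set A)).ncard :=
      Submodule.spanFinrank_span_le_ncard_of_finite hfin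
    have h2 : ((algebraMap A (Localization.AtPrime q)) ''
        ((T.image (fun y => ((x y).1 : A)) : Finset A) : Set A)).ncard ≤ T.card := by
      refine le_trans (Set.ncard_image_le (Finset.finite_toSet _)) ?_
      rw [Set.ncard_coe_finset]
      exact Finset.card_image_le
    have h3 : ((T.card : ℕ) : ℕ∞) = p.height := by
      have h4 := IsRegularLocalRing.spanFinrank_maximalIdeal (R := Localization.AtPrime p)
      rw [IsLocalization.AtPrime.ringKrullDim_eq_height p, ← hTcard] at h4
      exact_mod_cast h4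
    rw [← h3]
    exact_mod_cast h1.trans h2

theorem reg_of_quot (A : Type u) [CommRing A] [IsNoetherianRing A] (p q : Ideal A) [p.IsPrime]
    [q.IsPrime] (hpq : p ≤ q)
    (hspan : ((p.map (algebraMap A (Localization.AtPrime q))).spanFinrank : ℕ∞) ≤ p.height)
    [hqbar : (q.map (Ideal.Quotient.mk p)).IsPrime]
    (hq : IsRegularLocalRing (Localization.AtPrime (q.map (Ideal.Quotient.mk p)))) :
    IsRegularLocalRing (Localization.AtPrime q) := by
  have hdisj : Disjoint (q.primeCompl : Set A) (p : Set A) := by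
    rw [Set.disjoint_left]
    intro x hx hxp
    exact hx (hpq hxp)
  haveI hP : (p.map (algebraMap A (Localization.AtPrime q))).IsPrime :=
    IsLocalization.isPrime_of_isPrime_disjoint q.primeCompl _ p ‹_› hdisj
  have hht : (p.map (algebraMap A (Localization.AtPrime q))).height = p.height :=
    IsLocalization.height_map_of_disjoint q.primeCompl p hdisj
  have hsub : Algebra.algebraMapSubmonoid (A ⧸ p) q.primeCompl =
      (q.map (Ideal.Quotient.mk p)).primeCompl := by
    ext y
    obtain ⟨x, rfl⟩ := Ideal.Quotient.mk_surjective y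
    constructor
    · rintro ⟨a, ha, hax⟩ hmem
      rw [← hax] at hmem
      exact ha ((Ideal.mem_quotient_iff_mem hpq).mp hmem)
    · intro hx
      exact ⟨x, fun hxq => hx ((Ideal.mem_quotient_iff_mem hpq).mpr hxq), rfl⟩
  haveI : IsLocalization.AtPrime
      (Localization.AtPrime q ⧸ p.map (algebraMap A (Localization.AtPrime q)))
      (q.map (Ideal.Quotient.mk p)) := by
    show IsLocalization (q.map (Ideal.Quotient.mk p)).primeCompl _
    rw [← hsub]
    infer_instance
  let e := IsLocalization.algEquiv (q.map (Ideal.Quotient.mk p)).primeCompl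
    (Localization.AtPrime (q.map (Ideal.Quotient.mk p)))
    (Localization.AtPrime q ⧸ p.map (algebraMap A (Localization.AtPrime q)))
  haveI := hq
  haveI : IsRegularLocalRing
      (Localization.AtPrime q ⧸ p.map (algebraMap A (Localization.AtPrime q))) :=
    IsRegularLocalRing.of_ringEquiv e.toRingEquiv
  apply Groth.Agent.H29.isRegularLocalRing_of_quotient_of_spanFinrank_eq_height
    (Localization.AtPrime q) (p.map (algebraMap A (Localization.AtPrime q)))
  apply le_antisymm
  · rw [hht]
    exact hspan
  · exact Ideal.height_le_spanFinrank _ hP.ne_top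


/-- Let A be a Noetherian ring. Suppose that for every prime p of A such that A_p is regular, the
regular locus of the domain A/p contains a nonempty open subset of Spec(A/p) (equivalently, is a
neighbourhood of the generic point). Then the regular locus of A is open in Spec A. -/
theorem result (A : Type u) [CommRing A] [IsNoetherianRing A]
    (h : ∀ p : PrimeSpectrum A, p ∈ EGA4.regLocus A →
      ∃ U : Set (PrimeSpectrum (A ⧸ p.asIdeal)), IsOpen U ∧ U.Nonempty ∧ U ⊆ EGA4.regLocus (A ⧸ p.asIdeal)) :
    IsOpen (EGA4.regLocus A) := by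
  rw [Groth.Agent.S9296.result]
  intro p hp
  obtain ⟨U, hUo, hUne, hUreg⟩ := h p hp
  obtain ⟨f, hfp, hf⟩ := exists_spread_generators A p.asIdeal hp
  obtain ⟨Kb, hKb⟩ := (PrimeSpectrum.isClosed_iff_zeroLocus_ideal _).mp hUo.isClosed_compl
  set K := Kb.comap (Ideal.Quotient.mk p.asIdeal) with hK
  refine ⟨{q | f ∉ q.asIdeal ∧ ¬ K ≤ q.asIdeal}, ?_,
    ⟨p, ⟨hfp, ?_⟩, (PrimeSpectrum.mem_zeroLocus _ _).mpr le_rfl⟩, ?_⟩
  · have : {q : PrimeSpectrum A | f ∉ q.asIdeal ∧ ¬ K ≤ q.asIdeal} =
        (PrimeSpectrum.basicOpen f : Set (PrimeSpectrum A)) ∩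
          (PrimeSpectrum.zeroLocus (K : Set A))ᶜ := by
      ext q
      rfl
    rw [this]
    exact (PrimeSpectrum.basicOpen f).isOpen.inter
      (PrimeSpectrum.isClosed_zeroLocus _).isOpen_compl
  · intro hKp
    have hKb0 : Kb = ⊥ := by
      rw [eq_bot_iff]
      intro y hy
      obtain ⟨x, rfl⟩ := Ideal.Quotient.mk_surjective y
      have hxK : x ∈ K := hy
      exact (Submodule.mem_bot _).mpr (Ideal.Quotient.eq_zero_iff_mem.mpr (hKp hxK))
    obtain ⟨u, hu⟩ := hUne
    have : u ∈ Uᶜ := by
      rw [hKb, hKb0]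
      exact (PrimeSpectrum.mem_zeroLocus _ _).mpr (SetLike.coe_subset_coe.mpr bot_le)
    exact this hu
  · rintro q ⟨⟨hfq, hKq⟩, hpq⟩
    rw [PrimeSpectrum.mem_zeroLocus, SetLike.coe_subset_coe] at hpq
    haveI hqbar : (q.asIdeal.map (Ideal.Quotient.mk p.asIdeal)).IsPrime :=
      Ideal.map_isPrime_of_surjective Ideal.Quotient.mk_surjective
        (by rw [Ideal.mk_ker]; exact hpq)
    have hqU : (⟨q.asIdeal.map (Ideal.Quotient.mk p.asIdeal), hqbar⟩ :
        PrimeSpectrum (A ⧸ p.asIdeal)) ∈ U := by
      by_contra hnU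
      have hmem : (⟨_, hqbar⟩ : PrimeSpectrum (A ⧸ p.asIdeal)) ∈ Uᶜ := hnU
      rw [hKb, PrimeSpectrum.mem_zeroLocus, SetLike.coe_subset_coe] at hmem
      apply hKq
      intro x hx
      exact (Ideal.mem_quotient_iff_mem hpq).mp (hmem hx)
    exact reg_of_quot A p.asIdeal q.asIdeal hpq (hf q.asIdeal hpq hfq) (hUreg hqU)

end Groth.Agent.S4700
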