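import Groth.Statements.S4701
import Groth.Agent.H29.ReducedR0S1
import Groth.Agent.S4700

set_option autoImplicit false
universe u
open EGA4

namespace Groth.Agent.S4701


theorem transport {R R' : Type u} [CommRing R] [CommRing R'] (e : R ≃+* R')
    (h : ∃ U : Set (PrimeSpectrum R), IsOpen U ∧ U.Nonempty ∧ U ⊆ EGA4.regLocus R) :
    ∃ U : Set (PrimeSpectrum R'), IsOpen U ∧ U.Nonempty ∧ U ⊆ EGA4.regLocus R' := by
  obtain ⟨U, hUo, ⟨u, hu⟩, hUreg⟩ := h
  refine ⟨(PrimeSpectrum.comap e.toRingHom) ⁻¹' U,
    (PrimeSpectrum.continuous_comap e.toRingHom).isOpen_preimage U hUo, ?_, ?_⟩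
  · refine ⟨PrimeSpectrum.comap e.symm.toRingHom u, ?_⟩
    show PrimeSpectrum.comap e.toRingHom (PrimeSpectrum.comap e.symm.toRingHom u) ∈ U
    have : PrimeSpectrum.comap e.toRingHom (PrimeSpectrum.comap e.symm.toRingHom u) = u := by
      apply PrimeSpectrum.ext
      ext x
      show e.symm (e x) ∈ u.asIdeal ↔ x ∈ u.asIdeal
      rw [e.symm_apply_apply]
    rw [this]
    exact hu
  · intro Q hQ
    have hreg : IsRegularLocalRing
        (Localization.AtPrime (PrimeSpectrum.comap e.toRingHom Q).asIdeal) := hUreg hQ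
    have H : (PrimeSpectrum.comap e.toRingHom Q).asIdeal.primeCompl.map e.toMonoidHom =
        Q.asIdeal.primeCompl := by
      ext y
      constructor
      · rintro ⟨x, hx, rfl⟩
        exact hx
      · intro hy
        refine ⟨e.symm y, ?_, e.apply_symm_apply y⟩
        show e.symm y ∉ (PrimeSpectrum.comap e.toRingHom Q).asIdeal
        intro hmem
        apply hy
        have : e (e.symm y) ∈ Q.asIdeal := hmem
        rwa [e.apply_symm_apply] at this
    haveI := hreg
    exact IsRegularLocalRing.of_ringEquiv (IsLocalization.ringEquivOfRingEquiv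
      (Localization.AtPrime (PrimeSpectrum.comap e.toRingHom Q).asIdeal)
      (Localization.AtPrime Q.asIdeal) e H)


/-- Let A be a Noetherian ring. The regular locus of every quotient ring A/I is open in its spectrum if
and only if, for every prime ideal p, the regular locus of the domain A/p contains a nonempty open
subset of Spec(A/p). (The published statement quantifies over all subschemes of Spec A; open
subschemes of the closed ones add nothing, so closed subschemes are used here.) -/
theorem result (A : Type u) [CommRing A] [IsNoetherianRing A] :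
    (∀ I : Ideal A, IsOpen (EGA4.regLocus (A ⧸ I))) ↔
      ∀ (p : Ideal A) [p.IsPrime],
        ∃ U : Set (PrimeSpectrum (A ⧸ p)), IsOpen U ∧ U.Nonempty ∧ U ⊆ EGA4.regLocus (A ⧸ p) := by
  constructor
  · intro h p _
    refine ⟨EGA4.regLocus (A ⧸ p), h p, ⟨⟨⊥, inferInstance⟩, ?_⟩, subset_rfl⟩
    show IsRegularLocalRing (Localization.AtPrime (⊥ : Ideal (A ⧸ p)))
    exact Groth.Agent.H29.hasRk_zero_of_isReduced (A ⧸ p) ⊥ (by rw [Ideal.height_bot]; simp)
  · intro h I
    apply Groth.Agent.S4700.result
    intro P _
    have hsurj : Function.Surjective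
        ((Ideal.Quotient.mk P.asIdeal).comp (Ideal.Quotient.mk I)) :=
      Ideal.Quotient.mk_surjective.comp Ideal.Quotient.mk_surjective
    haveI := P.isPrime
    haveI : IsDomain ((A ⧸ I) ⧸ P.asIdeal) := Ideal.Quotient.isDomain _
    haveI : (RingHom.ker ((Ideal.Quotient.mk P.asIdeal).comp (Ideal.Quotient.mk I))).IsPrime :=
      RingHom.ker_isPrime _
    exact transport (RingHom.quotientKerEquivOfSurjective hsurj)
      (h (RingHom.ker ((Ideal.Quotient.mk P.asIdeal).comp (Ideal.Quotient.mk I))))

end Groth.Agent.S4701
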