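import Groth.Statements.S4711
import Mathlib

set_option autoImplicit false
universe u
open EGA4

namespace Groth.Agent.S4711

open TopologicalSpace Topology in
theorem exists_isLocallyClosed_singleton_of_isConstructible {α : Type*} [TopologicalSpace α]
    [T0Space α] [CompactSpace α] [QuasiSeparatedSpace α] [PrespectralSpace α]
    (s : Set α) (hs : IsConstructible s) :
    s.Nonempty → ∃ x ∈ s, IsLocallyClosed ({x} : Set α) := by
  let ι := {U : Set α // IsOpen U ∧ IsCompact U}
  haveI : Nonempty ι := ⟨⟨∅, isOpen_empty, isCompact_empty⟩⟩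
  have hbasis : IsTopologicalBasis (Set.range (Subtype.val : ι → Set α)) := by
    rw [Subtype.range_coe]
    exact PrespectralSpace.isTopologicalBasis
  refine IsConstructible.induction_of_isTopologicalBasis
    (P := fun s _ => s.Nonempty → ∃ x ∈ s, IsLocallyClosed ({x} : Set α))
    (Subtype.val : ι → Set α) hbasis (fun i => i.2.2) ?_ ?_ s hs
  · intro i t ht hne
    have hopen : IsOpen (⋃ j ∈ t, (j : Set α)) := isOpen_biUnion (fun j _ => j.2.1)
    have hTc : IsCompact ((i : Set α) \ ⋃ j ∈ t, (j : Set α)) := i.2.2.diff hopen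
    haveI : CompactSpace ↥((i : Set α) \ ⋃ j ∈ t, (j : Set α)) :=
      isCompact_iff_compactSpace.mp hTc
    haveI : Nonempty ↥((i : Set α) \ ⋃ j ∈ t, (j : Set α)) := hne.to_subtype
    obtain ⟨x, -, hx⟩ := IsClosed.exists_closed_singleton
      (S := (Set.univ : Set ↥((i : Set α) \ ⋃ j ∈ t, (j : Set α)))) isClosed_univ
      Set.univ_nonempty
    obtain ⟨C, hC, hCx⟩ := isClosed_induced_iff.mp hx
    refine ⟨x.1, x.2, (i : Set α), C ∩ (⋃ j ∈ t, (j : Set α))ᶜ, i.2.1,
      hC.inter hopen.isClosed_compl, ?_⟩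
    ext y
    constructor
    · intro hy
      rw [Set.mem_singleton_iff] at hy
      subst hy
      have hxC : x ∈ Subtype.val ⁻¹' C := by rw [hCx]; rfl
      exact ⟨x.2.1, hxC, x.2.2⟩
    · rintro ⟨hyi, hyC, hyU⟩
      have hyx : (⟨y, hyi, hyU⟩ : ↥((i : Set α) \ ⋃ j ∈ t, (j : Set α))) ∈
          Subtype.val ⁻¹' C := hyC
      rw [hCx] at hyx
      rw [Set.mem_singleton_iff] at hyx
      rw [Set.mem_singleton_iff, ← hyx]
  · intro s hs t ht ihs iht
    rintro ⟨x, hx | hx⟩
    · obtain ⟨y, hy, hy'⟩ := ihs ⟨x, hx⟩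
      exact ⟨y, Or.inl hy, hy'⟩
    · obtain ⟨y, hy, hy'⟩ := iht ⟨x, hx⟩
      exact ⟨y, Or.inr hy, hy'⟩

open AlgebraicGeometry Topology in
/-- In any scheme X, every nonempty locally constructible subset E contains a point x such that the
one-point set {x} is locally closed in X (equivalently x is isolated in its closure). -/
theorem result (X : Scheme.{u}) (E : Set X)
    (hE : Topology.IsLocallyConstructible E) (hne : E.Nonempty) :
    ∃ x ∈ E, IsLocallyClosed ({x} : Set X) := by
  obtain ⟨e, he⟩ := hne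
  obtain ⟨V, hV, heV, -⟩ := exists_isAffineOpen_mem_and_subset (x := e) (U := ⊤) trivial
  have hVE : IsLocallyConstructible ((Subtype.val : ↥(V : Set X) → X) ⁻¹' E) :=
    hE.preimage_of_isOpenEmbedding V.isOpen.isOpenEmbedding_subtypeVal
  haveI : IsAffine V.toScheme := hV
  haveI : QuasiSeparatedSpace ↥(V : Set X) := quasiSeparatedSpace_of_isAffine V.toScheme
  haveI : CompactSpace ↥(V : Set X) := isCompact_iff_compactSpace.mp hV.isCompact
  haveI : PrespectralSpace ↥(V : Set X) := (inferInstance : PrespectralSpace V.toScheme)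
  have hc := hVE.isConstructible
  obtain ⟨x, hx, hxl⟩ := exists_isLocallyClosed_singleton_of_isConstructible _ hc
    ⟨⟨e, heV⟩, he⟩
  refine ⟨x.1, hx, ?_⟩
  have := hxl.image Topology.IsInducing.subtypeVal
    (by rw [Subtype.range_coe]; exact V.isOpen.isLocallyClosed)
  rwa [Set.image_singleton] at this

end Groth.Agent.S4711
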