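import Groth.Statements.S4712
import Mathlib
import Groth.Agent.Lib.Helper8.SpecOrder
import Groth.Agent.Lib.Helper8.LocClosedPoint

set_option autoImplicit false
universe u
open EGA4

namespace Groth.Agent.S4712

open Groth.Agent.Helper8

open AlgebraicGeometry in
/-- Let X be a locally Noetherian scheme and x a point such that {x} is locally closed in X. Then the
closure of {x} has dimension at most 1, and every point of that closure other than x is a closed
point of X. -/
theorem result (X : Scheme.{u}) [IsLocallyNoetherian X] (x : X)
    (hx : IsLocallyClosed ({x} : Set X)) :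
    topologicalKrullDim (closure ({x} : Set X)) ≤ 1 ∧
      ∀ y ∈ closure ({x} : Set X), y ≠ x → IsClosed ({y} : Set X) := by
  have hcl : ∀ y ∈ closure ({x} : Set X), y ≠ x → IsClosed ({y} : Set X) :=
    fun y hy hne => LocClosedPoint.isClosed_singleton_of_mem_closure X x hx y hy hne
  refine ⟨?_, hcl⟩
  haveI : QuasiSober (closure ({x} : Set X)) :=
    isClosed_closure.isClosedEmbedding_subtypeVal.quasiSober
  rw [SpecOrder.topologicalKrullDim_eq_krullDim_spec,
    @Order.krullDim_le_one_iff _ (specializationOrder _).toPreorder]
  intro c
  by_cases hc : c.1 = x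
  · right
    intro b _
    show c ⤳ b
    rw [subtype_specializes_iff, hc]
    exact specializes_iff_mem_closure.mpr b.2
  · left
    intro b hbc
    have h1 : c ⤳ b := hbc
    have h2 : (c : X) ⤳ b := (subtype_specializes_iff c b).mp h1
    have h3 := hcl c.1 c.2 hc
    have h4 : (b : X) = c := h2.mem_closed h3 (Set.mem_singleton _)
    have hbc' : b = c := Subtype.ext h4
    rw [hbc']
    exact (specializes_rfl : c ⤳ c)

end Groth.Agent.S4712
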