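import Groth.Statements.S4713
import Mathlib
import Groth.Agent.Lib.Helper8.LocClosedPoint

set_option autoImplicit false
universe u
open EGA4

namespace Groth.Agent.S4713

open Groth.Agent.Helper8

open AlgebraicGeometry in
/-- In a locally Noetherian scheme X, every nonempty closed subset contains a closed point of X. -/
theorem result (X : Scheme.{u}) [IsLocallyNoetherian X]
    (Z : Set X) (hZ : IsClosed Z) (hne : Z.Nonempty) : ∃ x ∈ Z, IsClosed ({x} : Set X) := by
  obtain ⟨z, hz⟩ := hne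
  obtain ⟨V, hV, hzV, -⟩ := exists_isAffineOpen_mem_and_subset (x := z) (U := ⊤) trivial
  have hTc : IsCompact (Z ∩ (V : Set X)) := hV.isCompact.inter_left hZ
  haveI : CompactSpace ↥(Z ∩ (V : Set X)) := isCompact_iff_compactSpace.mp hTc
  haveI : Nonempty ↥(Z ∩ (V : Set X)) := ⟨⟨z, hz, hzV⟩⟩
  obtain ⟨x, -, hx⟩ := IsClosed.exists_closed_singleton
    (S := (Set.univ : Set ↥(Z ∩ (V : Set X)))) isClosed_univ Set.univ_nonempty
  obtain ⟨C, hC, hCx⟩ := isClosed_induced_iff.mp hx
  have hloc : IsLocallyClosed ({x.1} : Set X) := by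
    refine ⟨V, C ∩ Z, V.isOpen, hC.inter hZ, ?_⟩
    ext y
    constructor
    · intro hy
      rw [Set.mem_singleton_iff] at hy
      subst hy
      have hxC : x ∈ Subtype.val ⁻¹' C := by rw [hCx]; rfl
      exact ⟨x.2.2, hxC, x.2.1⟩
    · rintro ⟨hyV, hyC, hyZ⟩
      have hyx : (⟨y, hyZ, hyV⟩ : ↥(Z ∩ (V : Set X))) ∈ Subtype.val ⁻¹' C := hyC
      rw [hCx, Set.mem_singleton_iff] at hyx
      rw [Set.mem_singleton_iff, ← hyx]
  by_cases hcl : closure ({x.1} : Set X) = {x.1}
  · exact ⟨x.1, x.2.1, closure_eq_iff_isClosed.mp hcl⟩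
  · have hex : ∃ y ∈ closure ({x.1} : Set X), y ≠ x.1 := by
      by_contra hcon
      push Not at hcon
      apply hcl
      apply Set.Subset.antisymm
      · intro y hy
        exact hcon y hy
      · exact subset_closure
    obtain ⟨y, hy, hyne⟩ := hex
    refine ⟨y, ?_, LocClosedPoint.isClosed_singleton_of_mem_closure X x.1 hloc y hy hyne⟩
    exact (closure_minimal (Set.singleton_subset_iff.mpr x.2.1) hZ) hy

end Groth.Agent.S4713
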