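import Groth.Statements.S4715
import Mathlib
import Groth.Agent.Lib.Helper8.SpecOrder

set_option autoImplicit false
universe u
open EGA4

namespace Groth.Agent.S4715

open Groth.Agent.Helper8

open AlgebraicGeometry CategoryTheory in
/-- Let f : X → Y be a quasi-finite morphism (of finite type with discrete fibres) of locally Noetherian
schemes. Then dim X is at most the dimension of the closure of f(X), which is at most dim Y. -/
theorem result {X Y : Scheme.{u}} (f : X ⟶ Y) [IsLocallyNoetherian X] [IsLocallyNoetherian Y]
    [LocallyQuasiFinite f] [LocallyOfFiniteType f] [QuasiCompact f] :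
    topologicalKrullDim X ≤ topologicalKrullDim (closure (Set.range f.base)) ∧
      topologicalKrullDim (closure (Set.range f.base)) ≤ topologicalKrullDim Y := by
  refine ⟨?_, topologicalKrullDim_subspace_le Y _⟩
  haveI : QuasiSober (closure (Set.range f.base)) :=
    (isClosed_closure.isClosedEmbedding_subtypeVal).quasiSober
  refine SpecOrder.topologicalKrullDim_le_of_fibres_incomparable
    (fun x => (⟨f.base x, subset_closure ⟨x, rfl⟩⟩ : closure (Set.range f.base)))
    (f.continuous.subtype_mk _) ?_
  intro x x' hsp heq
  have heq' : f.base x' = f.base x := congrArg Subtype.val heq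
  have hd := f.isDiscrete_preimage_singleton (f.base x)
  let a : f.base ⁻¹' {f.base x} := ⟨x, rfl⟩
  let a' : f.base ⁻¹' {f.base x} := ⟨x', heq'⟩
  have hsp' : a' ⤳ a := (subtype_specializes_iff a' a).mpr hsp
  haveI := hd.to_subtype
  exact congrArg Subtype.val hsp'.eq

end Groth.Agent.S4715
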