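import Groth.Statements.S4716
import Mathlib
import Groth.Agent.Lib.Helper8.SpecOrder

set_option autoImplicit false
universe u
open EGA4

namespace Groth.Agent.S4716

open Groth.Agent.Helper8

open AlgebraicGeometry CategoryTheory in
/-- Consider locally Noetherian schemes X and Y and a morphism f : X → Y that is surjective and whose
underlying map is either open or closed. Then dim X ≥ dim Y. -/
theorem result {X Y : Scheme.{u}} (f : X ⟶ Y) [IsLocallyNoetherian X]
    [IsLocallyNoetherian Y] (hs : Function.Surjective f.base) (h : IsOpenMap f.base ∨ IsClosedMap f.base) :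
    topologicalKrullDim Y ≤ topologicalKrullDim X := by
  rcases h with h | h
  · apply SpecOrder.topologicalKrullDim_le_of_generalizingMap f.base hs
    apply SpecOrder.generalizingMap_of_isOpenMap_of_locally_noetherian _ f.base f.continuous h
    intro x
    obtain ⟨W, hW, hxW, -⟩ := exists_isAffineOpen_mem_and_subset (x := x) (U := ⊤) trivial
    haveI := IsLocallyNoetherian.component_noetherian (X := X) ⟨W, hW⟩
    exact ⟨W, W.isOpen, hxW, noetherianSpace_of_isAffineOpen W hW⟩
  · exact SpecOrder.topologicalKrullDim_le_of_specializingMap f.base hs h.specializingMap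

end Groth.Agent.S4716
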