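import Groth.Statements.S4717
import Mathlib
import Groth.Agent.Lib.Helper8.SpecOrder

set_option autoImplicit false
universe u
open EGA4

namespace Groth.Agent.S4717

open Groth.Agent.Helper8

open AlgebraicGeometry CategoryTheory in
/-- Let f : X → Y be a finite morphism of locally Noetherian schemes. Then dim X equals the dimension of
the image f(X); in particular if f is surjective then dim X = dim Y. -/
theorem result {X Y : Scheme.{u}} (f : X ⟶ Y) [IsLocallyNoetherian X] [IsLocallyNoetherian Y]
    [IsFinite f] :
    topologicalKrullDim X = topologicalKrullDim (Set.range f.base) ∧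
      (Function.Surjective f.base → topologicalKrullDim X = topologicalKrullDim Y) := by
  have hcl : IsClosedMap f.base := f.isClosedMap
  have hrange : IsClosed (Set.range f.base) := hcl.isClosed_range
  haveI : QuasiSober (Set.range f.base) := hrange.isClosedEmbedding_subtypeVal.quasiSober
  have hinc : ∀ x x' : X, x' ⤳ x → f.base x' = f.base x → x' = x := by
    intro x x' hsp heq'
    have hd := f.isDiscrete_preimage_singleton (f.base x)
    let a : f.base ⁻¹' {f.base x} := ⟨x, rfl⟩
    let a' : f.base ⁻¹' {f.base x} := ⟨x', heq'⟩
    have hsp' : a' ⤳ a := (subtype_specializes_iff a' a).mpr hsp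
    haveI := hd.to_subtype
    exact congrArg Subtype.val hsp'.eq
  have h1 : topologicalKrullDim X = topologicalKrullDim (Set.range f.base) := by
    apply le_antisymm
    · refine SpecOrder.topologicalKrullDim_le_of_fibres_incomparable
        (Set.rangeFactorization f.base) (f.continuous.subtype_mk _) ?_
      intro x x' hsp heq
      exact hinc x x' hsp (congrArg Subtype.val heq)
    · refine SpecOrder.topologicalKrullDim_le_of_specializingMap
        (Set.rangeFactorization f.base) Set.rangeFactorization_surjective ?_
      intro x b hb
      have hb' : f.base x ⤳ b.1 := (subtype_specializes_iff _ _).mp hb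
      obtain ⟨x', hx', hfx'⟩ := hcl.specializingMap hb'
      exact ⟨x', hx', Subtype.ext hfx'⟩
  refine ⟨h1, fun hsurj => ?_⟩
  rw [h1]
  have hu : Set.range f.base = Set.univ := hsurj.range_eq
  rw [hu]
  exact IsHomeomorph.topologicalKrullDim_eq _ (Homeomorph.Set.univ Y).isHomeomorph

end Groth.Agent.S4717
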