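import Groth.Statements.S4721
import Groth.Agent.H29.Hartshorne

set_option autoImplicit false
universe u
open EGA4

namespace Groth.Agent.S4721

/-- Let A be a Noetherian ring whose spectrum is connected and d a natural number such that for every
prime p of height at least d the local ring A_p has depth at least 2. Then for any two distinct
minimal primes p', p'' of A there is a finite chain of minimal primes starting at p' and ending at
p'' such that any two consecutive members are both contained in a prime ideal of height at most d −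
1 (the spectrum is connected in codimension at most d − 1). -/
theorem result (A : Type u) [CommRing A] [IsNoetherianRing A]
    [ConnectedSpace (PrimeSpectrum A)] (d : ℕ)
    (h : ∀ (p : Ideal A) [p.IsPrime], (d : ℕ∞) ≤ p.height →
      (2 : ℕ∞) ≤ LocCoh.depth (Localization.AtPrime p) (Localization.AtPrime p))
    (p' p'' : Ideal A) (hp' : p' ∈ minimalPrimes A) (hp'' : p'' ∈ minimalPrimes A) (hne : p' ≠ p'') :
    ∃ (n : ℕ) (c : Fin (n + 1) → Ideal A), c 0 = p' ∧ c (Fin.last n) = p'' ∧ (∀ i, c i ∈ minimalPrimes A) ∧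
      ∀ i : Fin n, ∃ (q : Ideal A) (_ : q.IsPrime),
        c i.castSucc ≤ q ∧ c i.succ ≤ q ∧ q.height + 1 ≤ (d : ℕ∞) := by
  classical
  let Q : Ideal A → Prop := fun p => ∃ (n : ℕ) (c : Fin (n + 1) → Ideal A), c 0 = p' ∧
    c (Fin.last n) = p ∧ (∀ i, c i ∈ minimalPrimes A) ∧
      ∀ i : Fin n, ∃ (q : Ideal A) (_ : q.IsPrime),
        c i.castSucc ≤ q ∧ c i.succ ≤ q ∧ q.height + 1 ≤ (d : ℕ∞)
  show Q p''
  by_contra hcon
  have hQp' : Q p' := ⟨0, fun _ => p', rfl, rfl, fun _ => hp', fun i => i.elim0⟩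
  obtain ⟨q, hqprime, hdepth, p₁, hp₁, p₂, hp₂, hp₂', hp₁q, hp₂q⟩ :=
    Groth.Agent.H29.exists_prime_of_partition A {p | p ∈ minimalPrimes A ∧ Q p}
      (fun p hp => hp.1) p' ⟨hp', hQp'⟩ p'' hp'' (fun hh => hcon hh.2)
  have hht : q.height + 1 ≤ (d : ℕ∞) := by
    by_contra hlt
    apply hdepth
    have := hqprime
    apply h q
    push Not at hlt
    exact Order.le_of_lt_add_one hlt
  apply hp₂'
  refine ⟨hp₂, ?_⟩
  obtain ⟨n, c, hc0, hcl, hcmin, hcstep⟩ := hp₁.2
  refine ⟨n + 1, Fin.snoc (α := fun _ => Ideal A) c p₂, ?_, ?_, ?_, ?_⟩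
  · have e : (0 : Fin (n + 1 + 1)) = Fin.castSucc 0 := rfl
    rw [e, Fin.snoc_castSucc]
    exact hc0
  · exact Fin.snoc_last _ _
  · intro i
    refine Fin.lastCases ?_ (fun j => ?_) i
    · rw [Fin.snoc_last]
      exact hp₂
    · rw [Fin.snoc_castSucc]
      exact hcmin j
  · intro i
    refine Fin.lastCases ?_ (fun j => ?_) i
    · refine ⟨q, hqprime, ?_, ?_, hht⟩
      · rw [Fin.snoc_castSucc, hcl]
        exact hp₁q
      · rw [Fin.succ_last, Fin.snoc_last]
        exact hp₂q
    · obtain ⟨q', hq', h1, h2, h3⟩ := hcstep j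
      refine ⟨q', hq', ?_, ?_, h3⟩
      · rw [Fin.snoc_castSucc]
        exact h1
      · rw [Fin.succ_castSucc, Fin.snoc_castSucc]
        exact h2

end Groth.Agent.S4721
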