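import Groth.Statements.S4726
import Mathlib

set_option autoImplicit false
universe u
open EGA4

namespace Groth.Agent.S4726

open TensorProduct Module in
theorem linearCombination_mapRange_tmul {R D : Type*} [CommRing R] [CommRing D] [Algebra R D]
    {ι : Type*} {Q : Type*} [AddCommGroup Q] [Module R Q] (v : ι → Q) (x : ι →₀ R) :
    Finsupp.linearCombination D (fun g => (1 : D) ⊗ₜ[R] v g)
      (Finsupp.mapRange (algebraMap R D) (map_zero _) x) =
      (1 : D) ⊗ₜ[R] Finsupp.linearCombination R v x := by
  induction x using Finsupp.induction_linear with
  | zero => simp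
  | add x y hx hy => rw [Finsupp.mapRange_add (by simp), map_add, map_add, hx, hy, tmul_add]
  | single g a =>
    rw [Finsupp.mapRange_single, Finsupp.linearCombination_single,
      Finsupp.linearCombination_single, TensorProduct.smul_tmul', smul_eq_mul, mul_one,
      ← TensorProduct.smul_tmul, Algebra.smul_def, mul_one]

open Module in
theorem linearCombination_mapRange_of_tower {R D : Type*} [CommRing R] [CommRing D]
    [Algebra R D] {ι : Type*} {N : Type*} [AddCommGroup N] [Module R N] [Module D N]
    [IsScalarTower R D N] (v : ι → N) (x : ι →₀ R) :
    Finsupp.linearCombination D v (Finsupp.mapRange (algebraMap R D) (map_zero _) x) =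
      Finsupp.linearCombination R v x := by
  induction x using Finsupp.induction_linear with
  | zero => simp
  | add x y hx hy => rw [Finsupp.mapRange_add (by simp), map_add, map_add, hx, hy]
  | single g a =>
    rw [Finsupp.mapRange_single, Finsupp.linearCombination_single,
      Finsupp.linearCombination_single, algebraMap_smul]

open TensorProduct Module in
theorem isPresentation_baseChange {R D : Type u} [CommRing R] [CommRing D] [Algebra R D]
    (relD : Module.Relations.{u, u} D) (c : relD.R → (relD.G →₀ R))
    (hc : ∀ r, Finsupp.mapRange (algebraMap R D) (map_zero _) (c r) = relD.relation r) :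
    ∃ sol : relD.Solution
        (D ⊗[R] (⟨relD.G, relD.R, c⟩ : Module.Relations.{u, u} R).Quotient),
      sol.IsPresentation := by
  let relR : Module.Relations.{u, u} R := ⟨relD.G, relD.R, c⟩
  let sQ := Module.Relations.Solution.ofQuotient relR
  have hQ : sQ.IsPresentation := Module.Relations.Solution.ofQuotient_isPresentation relR
  let sol : relD.Solution (D ⊗[R] relR.Quotient) :=
    { var := fun g => (1 : D) ⊗ₜ[R] sQ.var g
      linearCombination_var_relation := fun r => by
        rw [← hc r, linearCombination_mapRange_tmul]
        have h0 : Finsupp.linearCombination R sQ.var (relR.relation r) = 0 :=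
          sQ.linearCombination_var_relation r
        have h1 : relR.relation r = c r := rfl
        rw [← h1, h0, tmul_zero] }
  refine ⟨sol, Module.Relations.Solution.IsPresentationCore.isPresentation ?_⟩
  refine
    { desc := fun {N} _ _ s =>
        letI : Module R N := Module.compHom N (algebraMap R D)
        haveI : IsScalarTower R D N := IsScalarTower.of_algebraMap_smul (fun _ _ => rfl)
        (hQ.desc (N := N)
          { var := s.var
            linearCombination_var_relation := fun r => by
              have h1 : relR.relation r = c r := rfl
              rw [h1, ← linearCombination_mapRange_of_tower (D := D), hc r]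
              exact s.linearCombination_var_relation r }).liftBaseChange D
      postcomp_desc := ?_
      postcomp_injective := ?_ }
  · intro N _ _ s
    ext g
    simp [sol, Module.Relations.Solution.postcomp]
  · intro N _ _ f f' h
    letI : Module R N := Module.compHom N (algebraMap R D)
    haveI : IsScalarTower R D N := IsScalarTower.of_algebraMap_smul (fun _ _ => rfl)
    apply (LinearMap.liftBaseChangeEquiv (R := R) (M := relR.Quotient) (N := N) D).symm.injective
    apply hQ.postcomp_injective
    ext g
    have h2 := Module.Relations.Solution.congr_var h g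
    simpa [sol, Module.Relations.Solution.postcomp] using h2

open TensorProduct in
/-- Let (A_i) be a directed system of commutative rings with direct limit A and M a finitely presented
A-module. Then there exist an index i and a finitely presented A_i-module M_i such that M is
isomorphic, as an A-module, to A ⊗_{A_i} M_i (A being an A_i-algebra through the canonical map). -/
theorem result (ι : Type u) [Preorder ι] [Nonempty ι] [IsDirectedOrder ι]
    (G : ι → Type u) [∀ i, CommRing (G i)] (f : ∀ i j, i ≤ j → G i →+* G j)
    [DirectedSystem G (fun i j h ↦ f i j h)] (M : Type u) [AddCommGroup M]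
    [Module (Ring.DirectLimit G (fun i j h ↦ f i j h)) M]
    [Module.FinitePresentation (Ring.DirectLimit G (fun i j h ↦ f i j h)) M] :
    ∃ (i : ι) (Mi : Type u) (_ : AddCommGroup Mi) (_ : Module (G i) Mi), Module.FinitePresentation (G i) Mi ∧
      letI : Algebra (G i) (Ring.DirectLimit G (fun i j h ↦ f i j h)) :=
        (Ring.DirectLimit.of G (fun i j h ↦ f i j h) i).toAlgebra
      Nonempty (M ≃ₗ[Ring.DirectLimit G (fun i j h ↦ f i j h)] (Ring.DirectLimit G (fun i j h ↦ f i j h)) ⊗[G i] Mi) := by
  classical
  obtain ⟨pres, hG, hR⟩ := (Module.finitePresentation_iff_exists_presentation.{_, _, u, u}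
    (A := Ring.DirectLimit G (fun i j h ↦ f i j h)) (M := M)).mp inferInstance
  have hex : ∀ (rg : pres.R × pres.G), ∃ i, ∃ x : G i,
      Ring.DirectLimit.of G (fun i j h ↦ f i j h) i x = pres.relation rg.1 rg.2 :=
    fun rg => Ring.DirectLimit.exists_of _
  choose idx x hx using hex
  obtain ⟨i₀, hi₀⟩ := Finite.exists_le idx
  letI : Algebra (G i₀) (Ring.DirectLimit G (fun i j h ↦ f i j h)) :=
    (Ring.DirectLimit.of G (fun i j h ↦ f i j h) i₀).toAlgebra
  let c : pres.R → (pres.G →₀ G i₀) := fun r =>
    Finsupp.equivFunOnFinite.symm (fun g => f (idx (r, g)) i₀ (hi₀ (r, g)) (x (r, g)))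
  have hc : ∀ r, Finsupp.mapRange (algebraMap (G i₀) (Ring.DirectLimit G (fun i j h ↦ f i j h)))
      (map_zero _) (c r) = pres.relation r := by
    intro r
    ext g
    rw [Finsupp.mapRange_apply]
    show Ring.DirectLimit.of G (fun i j h ↦ f i j h) i₀
      (f (idx (r, g)) i₀ (hi₀ (r, g)) (x (r, g))) = _
    rw [Ring.DirectLimit.of_f, hx]
  obtain ⟨sol, hsol⟩ := isPresentation_baseChange pres.toRelations c hc
  have hfp : Module.FinitePresentation (G i₀)
      (⟨pres.G, pres.R, c⟩ : Module.Relations.{u, u} (G i₀)).Quotient := by
    let p : Module.Presentation (G i₀)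
        (⟨pres.G, pres.R, c⟩ : Module.Relations.{u, u} (G i₀)).Quotient :=
      Module.Presentation.ofIsPresentation
        (Module.Relations.Solution.ofQuotient_isPresentation _)
    haveI : Finite p.G := hG
    haveI : Finite p.R := hR
    exact p.finitePresentation
  refine ⟨i₀, (⟨pres.G, pres.R, c⟩ : Module.Relations.{u, u} (G i₀)).Quotient,
    inferInstance, inferInstance, hfp, ?_⟩
  exact ⟨pres.toIsPresentation.uniq hsol⟩

end Groth.Agent.S4726
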