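import Groth.Statements.S4728
import Groth.Agent.H29.FibTransport
import Groth.Agent.Helper1.NormalCpl

set_option autoImplicit false
universe u
open EGA4

namespace Groth.Agent.S4728

/-- Let A be a Noetherian local domain of dimension 1 with maximal ideal m, A' a Noetherian local ring
and A → A' a local homomorphism which is normal (flat, with geometrically normal fibres). Then the
ideal m A' of A' is prime and the local ring of A' at m A' has dimension 1. (The remaining clauses
of the published item, describing A' inside its total ring of fractions, are not restated.) -/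
theorem result (A A' : Type u) [CommRing A] [CommRing A']
    [IsNoetherianRing A] [IsNoetherianRing A'] [IsLocalRing A] [IsLocalRing A'] [IsDomain A]
    (hA : ringKrullDim A = 1) [Algebra A A'] [IsLocalHom (algebraMap A A')] (h : EGA4.IsNormalHom A A') :
    ((IsLocalRing.maximalIdeal A).map (algebraMap A A')).IsPrime ∧
      ((IsLocalRing.maximalIdeal A).map (algebraMap A A')).height = 1 := by
  classical
  obtain ⟨hflat, hfib⟩ := h
  haveI := hflat
  set m := IsLocalRing.maximalIdeal A with hm
  set I := m.map (algebraMap A A') with hI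
  have hIle : I ≤ IsLocalRing.maximalIdeal A' :=
    ((IsLocalRing.local_hom_TFAE (algebraMap A A')).out 0 2).mp ‹IsLocalHom (algebraMap A A')›
  have hIne : I ≠ ⊤ := fun h => (IsLocalRing.maximalIdeal.isMaximal A').ne_top (top_le_iff.mp (h ▸ hIle))
  haveI : Nontrivial (A' ⧸ I) := Ideal.Quotient.nontrivial_iff.mpr hIne
  haveI : IsLocalRing (A' ⧸ I) :=
    IsLocalRing.of_surjective' (Ideal.Quotient.mk I) Ideal.Quotient.mk_surjective
  -- the closed fibre is a normal ring
  have hN : EGA4.IsNormalRing (m.Fiber A') :=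
    Groth.Agent.Helper1.NormalCpl.isNormalRing_of_isGeomNormal _ _ (hfib m)
  let e1 : (A ⧸ m) ≃ₐ[A] m.ResidueField :=
    AlgEquiv.ofBijective (IsScalarTower.toAlgHom A (A ⧸ m) m.ResidueField)
      (Ideal.bijective_algebraMap_quotient_residueField m)
  let e2 : TensorProduct A (A ⧸ m) A' ≃ₐ[A] TensorProduct A m.ResidueField A' :=
    Algebra.TensorProduct.congr e1 AlgEquiv.refl
  let e3 : TensorProduct A (A ⧸ m) A' ≃ₐ[A] TensorProduct A A' (A ⧸ m) :=
    Algebra.TensorProduct.comm A _ _
  let e4 : (A' ⧸ I) ≃ₐ[A'] TensorProduct A A' (A ⧸ m) :=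
    Algebra.TensorProduct.quotIdealMapEquivTensorQuot A' m
  have hN' : EGA4.IsNormalRing (A' ⧸ I) :=
    Groth.Agent.H29.FibTransport.isNormalRing_of_ringEquiv
      (e2.symm.toRingEquiv.trans (e3.toRingEquiv.trans e4.symm.toRingEquiv)) hN
  obtain ⟨hdom, -⟩ :=
    Groth.Agent.Helper1.NormalCpl.isDomain_and_isIntegrallyClosed_of_isNormalRing _ hN'
  have hprime : I.IsPrime := (Ideal.Quotient.isDomain_iff_prime I).mp hdom
  refine ⟨hprime, ?_⟩
  haveI := hprime
  haveI : I.LiesOver m := ⟨by
    have hle : m ≤ I.comap (algebraMap A A') := Ideal.le_comap_map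
    have hne : I.comap (algebraMap A A') ≠ ⊤ := Ideal.comap_ne_top _ hIne
    exact ((IsLocalRing.maximalIdeal.isMaximal A).eq_of_le hne hle)⟩
  rw [Ideal.height_eq_height_add_of_liesOver_of_hasGoingDown m I]
  have h0 : I.map (Ideal.Quotient.mk (m.map (algebraMap A A'))) = ⊥ := by
    rw [hI]; exact Ideal.map_quotient_self _
  rw [h0, Ideal.height_bot, add_zero]
  have h1 := IsLocalRing.maximalIdeal_height_eq_ringKrullDim (R := A)
  rw [hA] at h1
  exact_mod_cast h1

end Groth.Agent.S4728
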