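import Groth.Statements.S4729
import Mathlib

set_option autoImplicit false
universe u
open EGA4

namespace Groth.Agent.S4729

theorem comap_mem_support {A : Type*} [CommRing A] (S : Submonoid A) (M : Type*)
    [AddCommGroup M] [Module A M] (P' : PrimeSpectrum (Localization S))
    (h : P' ∈ Module.support (Localization S) (LocalizedModule S M)) :
    PrimeSpectrum.comap (algebraMap A (Localization S)) P' ∈ Module.support A M := by
  rw [Module.mem_support_iff'] at h ⊢
  obtain ⟨x, hx⟩ := h
  revert hx
  refine LocalizedModule.induction_on (fun m s hx => ?_) x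
  refine ⟨m, fun a ha hzero => ?_⟩
  have ha' : algebraMap A (Localization S) a ∉ P'.asIdeal := ha
  apply hx _ ha'
  rw [algebraMap_smul, LocalizedModule.smul'_mk, hzero, LocalizedModule.zero_mk]

theorem map_mem_support {A : Type*} [CommRing A] (S : Submonoid A) (M : Type*)
    [AddCommGroup M] [Module A M] (P : PrimeSpectrum A)
    (hd : Disjoint (S : Set A) (P.asIdeal : Set A)) (h : P ∈ Module.support A M)
    (hprime : (P.asIdeal.map (algebraMap A (Localization S))).IsPrime) :
    (⟨P.asIdeal.map (algebraMap A (Localization S)), hprime⟩ : PrimeSpectrum (Localization S)) ∈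
      Module.support (Localization S) (LocalizedModule S M) := by
  rw [Module.mem_support_iff'] at h ⊢
  obtain ⟨m, hm⟩ := h
  refine ⟨LocalizedModule.mk m 1, fun r hr hzero => ?_⟩
  obtain ⟨a, t, rfl⟩ := IsLocalization.exists_mk'_eq S r
  have hr' : IsLocalization.mk' (Localization S) a t ∉
      P.asIdeal.map (algebraMap A (Localization S)) := hr
  rw [IsLocalization.mk'_mem_map_algebraMap_iff] at hr'
  rw [← Localization.mk_eq_mk', LocalizedModule.mk_smul_mk, ← LocalizedModule.zero_mk 1,
    LocalizedModule.mk_eq] at hzero
  obtain ⟨u, hu⟩ := hzero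
  simp only [smul_zero, one_smul] at hu
  have hua : (u : A) * a ∉ P.asIdeal := fun hmem => hr' ⟨u, u.2, hmem⟩
  apply hm _ hua
  rw [mul_smul]
  exact hu

/-- Let A be a commutative ring, M a finite A-module and p ⊆ q prime ideals of A (so that p is a
generization of q). Then the dimension of the A_p-module M_p is at most the dimension of the
A_q-module M_q. -/
theorem result (A : Type u) [CommRing A] (M : Type u) [AddCommGroup M] [Module A M]
    [Module.Finite A M] (p q : Ideal A) [p.IsPrime] [q.IsPrime] (hpq : p ≤ q) :
    Module.supportDim (Localization.AtPrime p) (LocalizedModule p.primeCompl M) ≤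
      Module.supportDim (Localization.AtPrime q) (LocalizedModule q.primeCompl M) := by
  classical
  unfold Module.supportDim
  have hdis : ∀ P' : PrimeSpectrum (Localization.AtPrime p),
      Disjoint (q.primeCompl : Set A)
        ((P'.asIdeal.comap (algebraMap A (Localization.AtPrime p)) : Ideal A) : Set A) := by
    intro P'
    have h1 := ((IsLocalization.isPrime_iff_isPrime_disjoint p.primeCompl
      (Localization.AtPrime p) P'.asIdeal).mp P'.isPrime).2
    rw [Set.disjoint_left] at h1 ⊢
    intro a haq haP
    exact h1 (show a ∈ p.primeCompl from fun hap => haq (hpq hap)) haP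
  have hprime : ∀ P' : PrimeSpectrum (Localization.AtPrime p),
      ((P'.asIdeal.comap (algebraMap A (Localization.AtPrime p))).map
        (algebraMap A (Localization.AtPrime q))).IsPrime := fun P' =>
    IsLocalization.isPrime_of_isPrime_disjoint q.primeCompl (Localization.AtPrime q) _
      (Ideal.IsPrime.comap _) (hdis P')
  let g : Module.support (Localization.AtPrime p) (LocalizedModule p.primeCompl M) →
      Module.support (Localization.AtPrime q) (LocalizedModule q.primeCompl M) :=
    fun P' => ⟨⟨(P'.1.asIdeal.comap (algebraMap A (Localization.AtPrime p))).map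
        (algebraMap A (Localization.AtPrime q)), hprime P'.1⟩,
      map_mem_support q.primeCompl M (PrimeSpectrum.comap (algebraMap A _) P'.1) (hdis P'.1)
        (comap_mem_support p.primeCompl M P'.1 P'.2) (hprime P'.1)⟩
  apply Order.krullDim_le_of_strictMono g
  intro P' Q' hlt
  have hlt' : P'.1.asIdeal < Q'.1.asIdeal := hlt
  show (P'.1.asIdeal.comap (algebraMap A (Localization.AtPrime p))).map
      (algebraMap A (Localization.AtPrime q)) <
    (Q'.1.asIdeal.comap (algebraMap A (Localization.AtPrime p))).map
      (algebraMap A (Localization.AtPrime q))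
  refine lt_of_le_of_ne (Ideal.map_mono (Ideal.comap_mono hlt'.le)) (fun heq => ?_)
  have e1 := IsLocalization.under_map_of_isPrime_disjoint q.primeCompl (Localization.AtPrime q)
    (Ideal.IsPrime.comap (algebraMap A (Localization.AtPrime p)) (K := P'.1.asIdeal))
    (hdis P'.1)
  have e2 := IsLocalization.under_map_of_isPrime_disjoint q.primeCompl (Localization.AtPrime q)
    (Ideal.IsPrime.comap (algebraMap A (Localization.AtPrime p)) (K := Q'.1.asIdeal))
    (hdis Q'.1)
  rw [Ideal.under_def] at e1 e2
  have h2 : P'.1.asIdeal.comap (algebraMap A (Localization.AtPrime p)) =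
      Q'.1.asIdeal.comap (algebraMap A (Localization.AtPrime p)) := by
    rw [← e1, ← e2, heq]
  have h3 := congrArg (Ideal.map (algebraMap A (Localization.AtPrime p))) h2
  have e3 := IsLocalization.map_under p.primeCompl (Localization.AtPrime p) P'.1.asIdeal
  have e4 := IsLocalization.map_under p.primeCompl (Localization.AtPrime p) Q'.1.asIdeal
  rw [Ideal.under_def] at e3 e4
  rw [e3, e4] at h3
  exact hlt'.ne h3

end Groth.Agent.S4729
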