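import Groth.Statements.S4730
import Mathlib

set_option autoImplicit false
universe u
open EGA4

namespace Groth.Agent.S4730

attribute [local instance] Polynomial.algebra

open Polynomial in
/-- Let A be a Noetherian ring, p a prime ideal of A and q a prime ideal of the polynomial ring A[T]
lying over p. Then ht(p) + 1 = ht(q) + deg.tr_{κ(p)} κ(q), the transcendence degree being that of
the domain A[T]/q over the domain A/p. -/
theorem result (A : Type u) [CommRing A] [IsNoetherianRing A]
    (p : Ideal A) [p.IsPrime] (q : Ideal A[X]) [q.IsPrime] [q.LiesOver p] :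
    (p.height : Cardinal.{u}) + 1 = (q.height : Cardinal.{u}) + Algebra.trdeg (A ⧸ p) (A[X] ⧸ q) := by
  classical
  have hgd : q.height = p.height +
      (q.map (Ideal.Quotient.mk (p.map (algebraMap A A[X])))).height :=
    Ideal.height_eq_height_add_of_liesOver_of_hasGoingDown p q
  have hover : p = q.comap (algebraMap A A[X]) := Ideal.LiesOver.over
  have hpq : p.map (algebraMap A A[X]) ≤ q := by
    rw [Ideal.map_le_iff_le_comap, ← hover]
  have halg : ∀ a : A, algebraMap (A ⧸ p) (A[X] ⧸ q) (Ideal.Quotient.mk p a) =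
      Ideal.Quotient.mk q (C a) := fun a => by
    rw [Ideal.Quotient.algebraMap_mk_of_liesOver]
    rfl
  by_cases hq : q = p.map (algebraMap A A[X])
  · have h0 : (q.map (Ideal.Quotient.mk (p.map (algebraMap A A[X])))).height = 0 := by
      have hnt : Nontrivial (A[X] ⧸ p.map (algebraMap A A[X])) := by
        rw [Ideal.Quotient.nontrivial_iff, ← hq]
        exact Ideal.IsPrime.ne_top'
      rw [hq, Ideal.map_quotient_self]
      exact Ideal.height_bot
    rw [h0, add_zero] at hgd
    let r : (A ⧸ p)[X] ≃+* A[X] ⧸ q :=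
      (Ideal.polynomialQuotientEquivQuotientPolynomial p).trans (Ideal.quotEquivOfEq hq.symm)
    let r' : (A ⧸ p)[X] ≃ₐ[A ⧸ p] A[X] ⧸ q := AlgEquiv.ofRingEquiv (f := r) (by
      intro x
      obtain ⟨a, rfl⟩ := Ideal.Quotient.mk_surjective x
      rw [halg]
      show Ideal.quotEquivOfEq hq.symm
        (Ideal.polynomialQuotientEquivQuotientPolynomial p (C (Ideal.Quotient.mk p a))) = _
      rw [← Polynomial.map_C, Ideal.polynomialQuotientEquivQuotientPolynomial_map_mk]
      rfl)
    have ht : Algebra.trdeg (A ⧸ p) (A[X] ⧸ q) = 1 := by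
      rw [← r'.trdeg_eq]
      exact Polynomial.trdeg_of_isDomain
    rw [hgd, ht]
  · have hker : RingHom.ker (Ideal.Quotient.mk (p.map (algebraMap A A[X]))) =
        p.map (algebraMap A A[X]) := Ideal.mk_ker
    have hQ₁ : (q.map (Ideal.Quotient.mk (p.map (algebraMap A A[X])))).IsPrime :=
      Ideal.map_isPrime_of_surjective Ideal.Quotient.mk_surjective (by rw [hker]; exact hpq)
    have hQ₁ne : q.map (Ideal.Quotient.mk (p.map (algebraMap A A[X]))) ≠ ⊥ := by
      intro h
      rw [Ideal.map_eq_bot_iff_le_ker, hker] at h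
      exact hq (le_antisymm h hpq)
    let e : (A[X] ⧸ p.map (algebraMap A A[X])) ≃+* (A ⧸ p)[X] :=
      (Ideal.polynomialQuotientEquivQuotientPolynomial p).symm
    have hQ'p : ((q.map (Ideal.Quotient.mk (p.map (algebraMap A A[X])))).map e).IsPrime :=
      Ideal.map_isPrime_of_equiv e
    have hQ'h : ((q.map (Ideal.Quotient.mk (p.map (algebraMap A A[X])))).map e).height =
        (q.map (Ideal.Quotient.mk (p.map (algebraMap A A[X])))).height := e.height_map _
    have hQ'ne : (q.map (Ideal.Quotient.mk (p.map (algebraMap A A[X])))).map e ≠ ⊥ := by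
      intro h
      apply hQ₁ne
      rwa [Ideal.map_eq_bot_iff_of_injective e.injective] at h
    have hdisj : ∀ d : A ⧸ p,
        C d ∈ (q.map (Ideal.Quotient.mk (p.map (algebraMap A A[X])))).map e → d = 0 := by
      intro d hd
      obtain ⟨a, rfl⟩ := Ideal.Quotient.mk_surjective d
      have h1 : C (Ideal.Quotient.mk p a) =
          e (Ideal.Quotient.mk (p.map (algebraMap A A[X])) (C a)) := by
        show _ = (Ideal.polynomialQuotientEquivQuotientPolynomial p).symm
          (Ideal.Quotient.mk _ (C a))
        rw [Ideal.polynomialQuotientEquivQuotientPolynomial_symm_mk, Polynomial.map_C]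
      rw [h1, Ideal.mem_map_of_equiv] at hd
      obtain ⟨y, hy, hye⟩ := hd
      have hy' : y = Ideal.Quotient.mk (p.map (algebraMap A A[X])) (C a) := e.injective hye
      rw [hy', Ideal.mem_map_iff_of_surjective _ Ideal.Quotient.mk_surjective] at hy
      obtain ⟨x, hxq, hx⟩ := hy
      have h2 : x - C a ∈ p.map (algebraMap A A[X]) := by
        rw [← hker, RingHom.mem_ker, map_sub, hx, sub_self]
      have h3 : C a ∈ q := by
        have := q.sub_mem hxq (hpq h2)
        simpa using this
      have h4 : a ∈ p := by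
        rw [hover]
        exact h3
      exact Ideal.Quotient.eq_zero_iff_mem.mpr h4
    have hloc := Polynomial.isLocalization (nonZeroDivisors (A ⧸ p)) (FractionRing (A ⧸ p))
    have hdis : Disjoint
        (((nonZeroDivisors (A ⧸ p)).map (C : (A ⧸ p) →+* (A ⧸ p)[X]) :
          Submonoid (A ⧸ p)[X]) : Set (A ⧸ p)[X])
        (((q.map (Ideal.Quotient.mk (p.map (algebraMap A A[X])))).map e : Ideal (A ⧸ p)[X]) :
          Set (A ⧸ p)[X]) := by
      rw [Set.disjoint_left]
      rintro _ ⟨d, hd, rfl⟩ hmem
      exact (nonZeroDivisors.ne_zero hd) (hdisj d hmem)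
    have hh := IsLocalization.height_map_of_disjoint (S := (FractionRing (A ⧸ p))[X])
      ((nonZeroDivisors (A ⧸ p)).map (C : (A ⧸ p) →+* (A ⧸ p)[X]))
      ((q.map (Ideal.Quotient.mk (p.map (algebraMap A A[X])))).map e) hdis
    have hP'p := IsLocalization.isPrime_of_isPrime_disjoint
      ((nonZeroDivisors (A ⧸ p)).map (C : (A ⧸ p) →+* (A ⧸ p)[X]))
      (FractionRing (A ⧸ p))[X] _ hQ'p hdis
    have hP'ne : ((q.map (Ideal.Quotient.mk (p.map (algebraMap A A[X])))).map e).map
        (algebraMap (A ⧸ p)[X] (FractionRing (A ⧸ p))[X]) ≠ ⊥ := by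
      intro h
      apply hQ'ne
      rwa [Ideal.map_eq_bot_iff_of_injective
        (FaithfulSMul.algebraMap_injective (A ⧸ p)[X] (FractionRing (A ⧸ p))[X])] at h
    have hP'1 : (((q.map (Ideal.Quotient.mk (p.map (algebraMap A A[X])))).map e).map
        (algebraMap (A ⧸ p)[X] (FractionRing (A ⧸ p))[X])).height = 1 := by
      apply le_antisymm
      · have h5 := Ideal.height_le_ringKrullDim_of_ne_top hP'p.ne_top
        rw [IsPrincipalIdealRing.ringKrullDim_eq_one _
          (Polynomial.not_isField (FractionRing (A ⧸ p)))] at h5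
        exact_mod_cast h5
      · have h6 := Ideal.height_add_one_le_of_lt_of_isPrime (bot_lt_iff_ne_bot.mpr hP'ne)
        rwa [Ideal.height_bot, zero_add] at h6
    have hq1 : q.height = p.height + 1 := by
      rw [hgd, ← hQ'h, ← hh, hP'1]
    -- algebraicity
    obtain ⟨g, hgq, hgp⟩ : ∃ g ∈ q, g ∉ p.map (algebraMap A A[X]) := by
      by_contra hcon
      push Not at hcon
      exact hq (le_antisymm hcon hpq)
    have hX : IsAlgebraic (A ⧸ p) (Ideal.Quotient.mk q X) := by
      refine ⟨g.map (Ideal.Quotient.mk p), ?_, ?_⟩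
      · intro h0
        apply hgp
        show g ∈ p.map (C : A →+* A[X])
        rw [Ideal.mem_map_C_iff]
        intro n
        have := congrArg (fun f => f.coeff n) h0
        simpa [Polynomial.coeff_map, Ideal.Quotient.eq_zero_iff_mem] using this
      · rw [Polynomial.aeval_def, Polynomial.eval₂_map]
        have hcomp : (algebraMap (A ⧸ p) (A[X] ⧸ q)).comp (Ideal.Quotient.mk p) =
            (Ideal.Quotient.mk q).comp C := by
          ext a
          exact halg a
        rw [hcomp, ← Polynomial.hom_eval₂, Polynomial.eval₂_C_X]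
        exact Ideal.Quotient.eq_zero_iff_mem.mpr hgq
    have hall : ∀ f : A[X], Ideal.Quotient.mk q f ∈
        Subalgebra.algebraicClosure (A ⧸ p) (A[X] ⧸ q) := by
      intro f
      induction f using Polynomial.induction_on with
      | C a =>
        rw [← halg]
        exact Subalgebra.algebraMap_mem _ _
      | add f g hf hg =>
        rw [map_add]
        exact Subalgebra.add_mem _ hf hg
      | monomial n a _ =>
        rw [map_mul, map_pow, ← halg]
        exact Subalgebra.mul_mem _ (Subalgebra.algebraMap_mem _ _)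
          (Subalgebra.pow_mem _ hX _)
    have hIA : Algebra.IsAlgebraic (A ⧸ p) (A[X] ⧸ q) := ⟨fun y => by
      obtain ⟨f, rfl⟩ := Ideal.Quotient.mk_surjective y
      exact hall f⟩
    rw [hq1, trdeg_eq_zero, add_zero]
    push_cast
    rfl

end Groth.Agent.S4730
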