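import Groth.Statements.S4731
import Mathlib

set_option autoImplicit false
universe u
open EGA4

namespace Groth.Agent.S4731

theorem isNoetherian_of_quotient_ring {R : Type*} [CommRing R] (I : Ideal R) (Q : Type*)
    [AddCommGroup Q] [Module R Q] [Module (R ⧸ I) Q] [IsScalarTower R (R ⧸ I) Q]
    (h : IsNoetherian (R ⧸ I) Q) : IsNoetherian R Q := by
  rw [isNoetherian_iff'] at h ⊢
  let e : Submodule R Q → Submodule (R ⧸ I) Q := fun N =>
    { carrier := N
      add_mem' := N.add_mem
      zero_mem' := N.zero_mem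
      smul_mem' := by
        intro r x hx
        obtain ⟨r, rfl⟩ := Ideal.Quotient.mk_surjective r
        have h1 : (Ideal.Quotient.mk I r) • x = r • x := by
          rw [← Ideal.Quotient.algebraMap_eq, algebraMap_smul]
        rw [h1]
        exact N.smul_mem r hx }
  have he : StrictMono e := fun N N' hlt =>
    SetLike.coe_ssubset_coe.mp (show ((N : Set Q) ⊂ N') from SetLike.coe_ssubset_coe.mpr hlt)
  exact he.wellFoundedGT

theorem isNoetherian_quotient_smul_top {R : Type*} [CommRing R] (I : Ideal R)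
    [IsNoetherianRing (R ⧸ I)] (M : Type*) [AddCommGroup M] [Module R M] [Module.Finite R M] :
    IsNoetherian R (M ⧸ I • (⊤ : Submodule R M)) := by
  haveI : Module.Finite (R ⧸ I) (M ⧸ I • (⊤ : Submodule R M)) :=
    Module.Finite.of_restrictScalars_finite R (R ⧸ I) _
  have h : IsNoetherian (R ⧸ I) (M ⧸ I • (⊤ : Submodule R M)) :=
    isNoetherian_of_isNoetherianRing_of_finite _ _
  exact isNoetherian_of_quotient_ring I _ h

/-- Let S → R be an injective homomorphism of commutative rings making R a finite S-module, with R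
Noetherian; let c be the conductor of S in R, the ideal of those s in S with s R contained in (the
image of) S. If S/c is Noetherian, then every increasing sequence of ideals of S contained in c is
eventually constant. -/
theorem result (S R : Type u) [CommRing S] [CommRing R] [Algebra S R]
    [FaithfulSMul S R] [IsNoetherianRing R] [Module.Finite S R] (c : Ideal S)
    (hc : ∀ s : S, s ∈ c ↔ ∀ r : R, ∃ s' : S, algebraMap S R s' = algebraMap S R s * r)
    [IsNoetherianRing (S ⧸ c)] (a : ℕ →o Ideal S) (ha : ∀ n, a n ≤ c) :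
    ∃ N : ℕ, ∀ n, N ≤ n → a n = a N := by
  classical
  set φ := algebraMap S R with hφ
  have hinj : Function.Injective φ := FaithfulSMul.algebraMap_injective S R
  have L : ∀ s ∈ c, ∀ r : R, ∃ s' ∈ c, φ s' = φ s * r := by
    intro s hs r
    obtain ⟨s', hs'⟩ := (hc s).mp hs r
    refine ⟨s', (hc s').mpr (fun r' => ?_), hs'⟩
    obtain ⟨s'', hs''⟩ := (hc s).mp hs (r * r')
    exact ⟨s'', by rw [hs'', hs', mul_assoc]⟩
  let bR : ℕ →o Submodule R R :=
    ⟨fun n => (a n).map φ, fun m n hmn => Ideal.map_mono (a.monotone hmn)⟩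
  obtain ⟨N, hN⟩ := monotone_stabilizes_iff_noetherian.mpr (inferInstance : IsNoetherian R R) bR
  have hN' : ∀ n, N ≤ n → (a n).map φ = (a N).map φ := fun n hn => (hN n hn).symm
  have claim2 : ∀ n, N ≤ n → ∀ y ∈ (a N).map φ, ∀ s ∈ c, ∃ t ∈ a n, φ t = φ s * y := by
    intro n hn y hy
    rw [← hN' n hn] at hy
    change y ∈ Ideal.span (φ '' (a n : Set S)) at hy
    induction hy using Submodule.span_induction with
    | mem y hy =>
      obtain ⟨t₀, ht₀, rfl⟩ := hy
      intro s hs
      exact ⟨s * t₀, (a n).mul_mem_left s ht₀, by rw [map_mul]⟩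
    | zero =>
      intro s hs
      exact ⟨0, (a n).zero_mem, by simp⟩
    | add y z _ _ ihy ihz =>
      intro s hs
      obtain ⟨t₁, ht₁, e₁⟩ := ihy s hs
      obtain ⟨t₂, ht₂, e₂⟩ := ihz s hs
      exact ⟨t₁ + t₂, (a n).add_mem ht₁ ht₂, by rw [map_add, e₁, e₂, mul_add]⟩
    | smul r y _ ih =>
      intro s hs
      obtain ⟨s', hs', e'⟩ := L s hs r
      obtain ⟨t, ht, e⟩ := ih s' hs'
      exact ⟨t, ht, by rw [e, e', smul_eq_mul, mul_assoc]⟩
  let B : Submodule S R := ((a N).map φ).restrictScalars S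
  have hBfg : B.FG := Submodule.FG.restrictScalars (IsNoetherian.noetherian ((a N).map φ))
  haveI : Module.Finite S B := Module.Finite.iff_fg.mpr hBfg
  haveI := isNoetherian_quotient_smul_top c B
  let A' : ℕ → Submodule S B := fun n =>
    Submodule.comap B.subtype (Submodule.map (Algebra.linearMap S R) (a n))
  have hA'mono : Monotone A' := fun m n hmn =>
    Submodule.comap_mono (Submodule.map_mono (a.monotone hmn))
  have hcA' : ∀ n, N ≤ n → c • (⊤ : Submodule S B) ≤ A' n := by
    intro n hn
    rw [Submodule.smul_le]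
    intro s hs y _
    obtain ⟨t, ht, e⟩ := claim2 n hn y.1 y.2 s hs
    show (s • y : B).1 ∈ Submodule.map (Algebra.linearMap S R) (a n)
    refine ⟨t, ht, ?_⟩
    rw [Algebra.linearMap_apply, e]
    simp [Algebra.smul_def, hφ]
  let f : ℕ →o Submodule S (B ⧸ c • (⊤ : Submodule S B)) :=
    ⟨fun k => Submodule.map (Submodule.mkQ _) (A' (N + k)),
      fun k l hkl => Submodule.map_mono (hA'mono (by omega))⟩
  obtain ⟨K, hK⟩ := monotone_stabilizes_iff_noetherian.mpr inferInstance f
  refine ⟨N + K, fun n hn => ?_⟩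
  have hA'eq : A' n = A' (N + K) := by
    have h1 : ∀ m, N ≤ m → A' m = Submodule.comap (Submodule.mkQ _)
        (Submodule.map (Submodule.mkQ (c • (⊤ : Submodule S B))) (A' m)) := by
      intro m hm
      rw [Submodule.comap_map_mkQ, sup_eq_right.mpr (hcA' m hm)]
    rw [h1 n (by omega), h1 (N + K) (by omega)]
    have h4 := hK (n - N) (by omega)
    have h2 : N + (n - N) = n := by omega
    have h3 : f (n - N) = Submodule.map (Submodule.mkQ _) (A' n) := by
      show Submodule.map _ (A' (N + (n - N))) = _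
      rw [h2]
    have h5 : f K = Submodule.map (Submodule.mkQ _) (A' (N + K)) := rfl
    rw [← h3, ← h5, h4]
  have hmemB : ∀ m, N ≤ m → ∀ t ∈ a m, φ t ∈ B := by
    intro m hm t ht
    show φ t ∈ (a N).map φ
    rw [← hN' m hm]
    exact Ideal.mem_map_of_mem φ ht
  have key : ∀ m, N ≤ m → ∀ t, t ∈ a m ↔ ∃ h : φ t ∈ B, (⟨φ t, h⟩ : B) ∈ A' m := by
    intro m hm t
    constructor
    · intro ht
      exact ⟨hmemB m hm t ht, t, ht, rfl⟩
    · rintro ⟨_, t', ht', e⟩
      have h6 : t' = t := hinj e
      rwa [← h6]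
  ext t
  rw [key n (by omega), key (N + K) (by omega), hA'eq]

end Groth.Agent.S4731
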