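import Groth.Statements.S4734
import Groth.Agent.H29.LocLoc
import Groth.Agent.H29.NormFlatLoc
import Groth.Agent.H29.NormFlatNil

set_option autoImplicit false
universe u
open EGA4

namespace Groth.Agent.S4734

theorem key (A : Type u) [CommRing A] [IsNoetherianRing A]
    (I : Ideal A) (hI : IsNilpotent I) (M : Type u) [AddCommGroup M] [Module A M] [Module.Finite A M]
    (hsupp : Module.support A M = Set.univ) (hM : EGA4.IsNormallyFlat I M) (q : Ideal A) [q.IsPrime] :
    Module.supportDim (Localization.AtPrime q) (LocalizedModule q.primeCompl M) =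
        Module.supportDim (Localization.AtPrime q) (LocalizedModule q.primeCompl (A ⧸ I)) ∧
      LocCoh.depth (Localization.AtPrime q) (LocalizedModule q.primeCompl M) =
        LocCoh.depth (Localization.AtPrime q) (LocalizedModule q.primeCompl (A ⧸ I)) := by
  have hNF := Groth.Agent.H29.NormFlatLoc.isNormallyFlat_localization I M hM q.primeCompl
  have hnil : IsNilpotent (I.map (algebraMap A (Localization.AtPrime q))) := by
    obtain ⟨k, hk⟩ := hI
    refine ⟨k, ?_⟩
    rw [← Ideal.map_pow, hk, Ideal.zero_eq_bot, Ideal.map_bot]
    rfl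
  haveI : Nontrivial (LocalizedModule q.primeCompl M) := by
    have : (⟨q, inferInstance⟩ : PrimeSpectrum A) ∈ Module.support A M := by
      rw [hsupp]; exact Set.mem_univ _
    exact Module.mem_support_iff.mp this
  obtain ⟨h1, h2⟩ := Groth.Agent.H29.NFN.main (Localization.AtPrime q)
    (I.map (algebraMap A (Localization.AtPrime q))) hnil (LocalizedModule q.primeCompl M) hNF
  obtain ⟨h3, h4⟩ := Groth.Agent.H29.NormFlatLoc.depth_dim_quot I q
  exact ⟨h1.trans h4.symm, h2.trans h3.symm⟩


/-- Let A be a Noetherian ring, I a nilpotent ideal of A and M a finite A-module whose support is all of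
Spec A and which is normally flat along I. Then for every prime p of A: M satisfies Serre's
condition (S_n) at p if and only if the A-module A/I does; and the codepth of M_p is at most n if
and only if the codepth of the A_p-module (A/I)_p is at most n (codepth written additively as dim ≤
depth + n). -/
theorem result (n : ℕ) (A : Type u) [CommRing A] [IsNoetherianRing A]
    (I : Ideal A) (hI : IsNilpotent I) (M : Type u) [AddCommGroup M] [Module A M] [Module.Finite A M]
    (hsupp : Module.support A M = Set.univ) (hM : EGA4.IsNormallyFlat I M) (p : Ideal A) [p.IsPrime] :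
    (EGA4.HasSkAt n A M p ↔ EGA4.HasSkAt n A (A ⧸ I) p) ∧
      (Module.supportDim (Localization.AtPrime p) (LocalizedModule p.primeCompl M) ≤
          ((LocCoh.depth (Localization.AtPrime p) (LocalizedModule p.primeCompl M) : ℕ∞) : WithBot ℕ∞) + n ↔
        Module.supportDim (Localization.AtPrime p) (LocalizedModule p.primeCompl (A ⧸ I)) ≤
          ((LocCoh.depth (Localization.AtPrime p) (LocalizedModule p.primeCompl (A ⧸ I)) : ℕ∞) : WithBot ℕ∞) + n) := by
  have hk := fun (q : Ideal A) [q.IsPrime] => key A I hI M hsupp hM q
  constructor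
  · rw [Groth.Agent.H29.LocLoc.hasSkAt_iff, Groth.Agent.H29.LocLoc.hasSkAt_iff]
    constructor
    · intro h q _ hq
      obtain ⟨h1, h2⟩ := hk q
      rw [← h1, ← h2]
      exact h q hq
    · intro h q _ hq
      obtain ⟨h1, h2⟩ := hk q
      rw [h1, h2]
      exact h q hq
  · obtain ⟨h1, h2⟩ := hk p
    rw [h1, h2]

end Groth.Agent.S4734
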