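import Groth.Statements.S4741
import Mathlib
import Groth.Agent.Lib.Helper8.SpecOrder
import Groth.Agent.Lib.Helper8.FibreDim

set_option autoImplicit false
universe u
open EGA4

namespace Groth.Agent.S4741

open Groth.Agent.Helper8

open AlgebraicGeometry CategoryTheory in
/-- Suppose X and Y are locally Noetherian schemes, f : X → Y is a morphism that is surjective, and Z is
a closed subset of Y. Then codim(f⁻¹(Z), X) ≤ codim(Z, Y), where the codimension of a closed subset
means the infimum over its points of the dimensions of the local rings there; when f is in addition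
flat, these two codimensions coincide. (In the published version the equality part assumes f
quasi-flat; here f is taken to be flat.) -/
theorem result {X Y : Scheme.{u}} (f : X ⟶ Y) [IsLocallyNoetherian X]
    [IsLocallyNoetherian Y] (hf : Function.Surjective f.base) (Z : Set Y) (hZ : IsClosed Z) :
    (⨅ x ∈ f.base ⁻¹' Z, ringKrullDim (X.presheaf.stalk x)) ≤ ⨅ y ∈ Z, ringKrullDim (Y.presheaf.stalk y) ∧
      (Flat f → (⨅ x ∈ f.base ⁻¹' Z, ringKrullDim (X.presheaf.stalk x)) = ⨅ y ∈ Z, ringKrullDim (Y.presheaf.stalk y)) := by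
  have part1 : (⨅ x ∈ f.base ⁻¹' Z, ringKrullDim (X.presheaf.stalk x)) ≤
      ⨅ y ∈ Z, ringKrullDim (Y.presheaf.stalk y) := by
    refine le_iInf₂ (fun y hy => ?_)
    obtain ⟨x₀, rfl⟩ := hf y
    obtain ⟨x, hx, hdim⟩ := FibreDim.exists_point_fibre_dim_le f x₀
    refine le_trans (iInf₂_le x ?_) hdim
    show f.base x ∈ Z
    have hx' : f.base x = f.base x₀ := hx
    rw [hx']
    exact hy
  refine ⟨part1, fun hflat => le_antisymm part1 ?_⟩
  refine le_iInf₂ (fun x hx => ?_)
  refine le_trans (iInf₂_le (f.base x) hx) ?_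
  have hgen : GeneralizingMap f.base := Flat.generalizingMap f
  have key : Order.coheight (f.base x) ≤ Order.coheight x := by
    refine SpecOrder.coheight_le_coheight_of_lift_up (fun t => f.base t) ?_ x
    intro p q hq
    obtain ⟨h1, h2⟩ := lt_iff_le_not_ge.mp hq
    have h1' : q ⤳ f.base p := h1
    obtain ⟨p', hp', hfp'⟩ := hgen h1'
    refine ⟨p', lt_iff_le_not_ge.mpr ⟨hp', fun h => h2 ?_⟩, hfp'⟩
    have h3 : p ⤳ p' := h
    have h4 := h3.map f.continuous
    rw [← hfp']
    exact h4
  rw [ringKrullDim_stalk_eq_coheight, ringKrullDim_stalk_eq_coheight]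
  exact WithBot.coe_le_coe.mpr key

end Groth.Agent.S4741
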