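import Groth.Statements.S4742
import Mathlib
import Groth.Agent.Lib.Helper8.CatDim

set_option autoImplicit false
universe u
open EGA4

namespace Groth.Agent.S4742

theorem arith (a c₀ c e d : ℕ∞) (n : ℕ) (h1 : a + c₀ ≤ e) (hed : e + 1 = d) (h4 : d ≤ n + c)
    (hc : c ≤ c₀ + 1) (hc0 : c₀ ≠ ⊤) : a ≤ n := by
  lift c₀ to ℕ using hc0
  have hc' : c ≠ ⊤ := ne_top_of_le_ne_top (by simp) hc
  lift c to ℕ using hc'
  have hd' : d ≠ ⊤ := ne_top_of_le_ne_top (by simp) h4
  lift d to ℕ using hd'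
  have he' : e ≠ ⊤ := by
    rintro rfl
    simp at hed
  lift e to ℕ using he'
  have ha' : a ≠ ⊤ := ne_top_of_le_ne_top (by simp) (le_self_add.trans h1)
  lift a to ℕ using ha'
  norm_cast at *
  omega

open Order in
theorem key (A : Type u) [CommRing A] [IsNoetherianRing A] [IsLocalRing A]
    (hA : EGA4.IsEquidim A) (hA' : CAlg.IsCatenary A) (t : A)
    (ht : ringKrullDim (A ⧸ Ideal.span {t}) + 1 = ringKrullDim A) (p : PrimeSpectrum A) :
    ∃ p₀ : PrimeSpectrum A, p ≤ p₀ ∧ t ∈ p₀.asIdeal ∧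
      (p₀.asIdeal.map (Ideal.Quotient.mk (Ideal.span {t}))).height ≤ p.asIdeal.height := by
  have hfin : ∀ x : PrimeSpectrum A, coheight x ≠ ⊤ := fun x => (coheight_lt_top x).ne
  have hm : ∀ x : PrimeSpectrum A, x ≤ IsLocalRing.closedPoint A := fun x =>
    IsLocalRing.le_maximalIdeal x.2.ne_top
  -- dimension of A
  obtain ⟨d, hd⟩ : ∃ d : ℕ∞, ringKrullDim A = d := by
    have h0 : ringKrullDim A ≠ ⊥ := by
      have := ringKrullDim_nonneg_of_nontrivial (R := A)
      intro h; rw [h] at this; simp at this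
    obtain ⟨d, hd⟩ := WithBot.ne_bot_iff_exists.mp h0
    exact ⟨d, hd.symm⟩
  obtain ⟨e, he⟩ : ∃ e : ℕ∞, ringKrullDim (A ⧸ Ideal.span {t}) = e := by
    have h0 : ringKrullDim (A ⧸ Ideal.span {t}) ≠ ⊥ := by
      intro h; rw [h, hd] at ht; simp at ht
    obtain ⟨e, he⟩ := WithBot.ne_bot_iff_exists.mp h0
    exact ⟨e, he.symm⟩
  have hed : e + 1 = d := by
    rw [he, hd] at ht
    exact_mod_cast ht
  -- t is not a unit
  have htop : Ideal.span {t} ≠ ⊤ := by
    intro h
    have : Subsingleton (A ⧸ Ideal.span {t}) := by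
      rw [h]; exact Ideal.Quotient.subsingleton_iff.mpr rfl
    rw [ringKrullDim_eq_bot_of_subsingleton] at he
    simp at he
  have hI : p.asIdeal ⊔ Ideal.span {t} ≠ ⊤ := by
    have h1 : p.asIdeal ⊔ Ideal.span {t} ≤ IsLocalRing.maximalIdeal A :=
      sup_le (IsLocalRing.le_maximalIdeal p.2.ne_top) (IsLocalRing.le_maximalIdeal htop)
    intro h
    rw [h] at h1
    exact (IsLocalRing.maximalIdeal.isMaximal A).ne_top (top_le_iff.mp h1)
  obtain ⟨⟨P, hP⟩⟩ := Ideal.nonempty_minimalPrimes hI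
  have hPprime : P.IsPrime := hP.1.1
  let p₀ : PrimeSpectrum A := ⟨P, hPprime⟩
  have hle : p ≤ p₀ := le_sup_left.trans hP.1.2
  have htP : t ∈ P := hP.1.2 (le_sup_right (a := p.asIdeal) (Ideal.subset_span rfl))
  have htP' : Ideal.span {t} ≤ P := by
    rw [Ideal.span_le]; simpa using htP
  refine ⟨p₀, hle, htP, ?_⟩
  -- the three (in)equalities
  have hcov := Groth.Agent.Helper8.CatDim.eq_or_covBy_of_mem_minimalPrimes A p p₀ t hP
  have hc : coheight p ≤ coheight p₀ + 1 := by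
    rcases hcov with h | h
    · rw [h]; exact le_self_add
    · rw [Groth.Agent.S9128.coheight_eq_of_covBy _ hm hfin hA'.2 _ _ h]
  have hPbar : (P.map (Ideal.Quotient.mk (Ideal.span {t}))).IsPrime :=
    Ideal.isPrime_map_quotientMk_of_isPrime htP'
  let q : PrimeSpectrum (A ⧸ Ideal.span {t}) := ⟨_, hPbar⟩
  have h1 := Groth.Agent.Helper8.CatDim.height_add_coheight_le (A ⧸ Ideal.span {t}) q e he
  have h2 : coheight q = coheight p₀ := by
    have e1 := Groth.Agent.S9128.dim_quot (A ⧸ Ideal.span {t}) q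
    have e2 := Groth.Agent.S9128.dim_quot A p₀
    have e3 : ringKrullDim ((A ⧸ Ideal.span {t}) ⧸ q.asIdeal) = ringKrullDim (A ⧸ p₀.asIdeal) :=
      ringKrullDim_eq_of_ringEquiv (DoubleQuot.quotQuotEquivQuotOfLE htP')
    rw [e1, e2] at e3
    exact_mod_cast e3
  have h3 : (P.map (Ideal.Quotient.mk (Ideal.span {t}))).height = Order.height q :=
    PrimeSpectrum.height_eq_orderHeight q
  rw [h3]
  rw [h2] at h1
  -- the dimension formula at p
  by_cases hpt : p.asIdeal.height = ⊤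
  · rw [hpt]; exact le_top
  obtain ⟨n, hn⟩ := ENat.ne_top_iff_exists.mp hpt
  have h4 := Groth.Agent.Helper8.CatDim.dim_le_height_add_coheight A hA hA' d hd n p hn.symm
  rw [← hn]
  exact arith _ _ _ e d n h1 hed h4 hc (hfin p₀)

/-- Let A be a Noetherian local ring which is equidimensional and catenary, t an element of A belonging
to a system of parameters (dim A/tA + 1 = dim A), and Z a set of prime ideals of A stable under
specialization. Write X = Spec A, X₀ = V(t), X₁ = X ∖ X₀ and Z₀ = Z ∩ X₀, Z₁ = Z ∩ X₁. Then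
codim(Z₀, X₀) ≤ codim(Z, X) ≤ codim(Z₁, X₁), where each codimension is the infimum of the heights of
the primes concerned, heights for Z₀ being taken in A/tA. -/
theorem result (A : Type u) [CommRing A] [IsNoetherianRing A] [IsLocalRing A]
    (hA : EGA4.IsEquidim A) (hA' : CAlg.IsCatenary A) (t : A)
    (ht : ringKrullDim (A ⧸ Ideal.span {t}) + 1 = ringKrullDim A) (Z : Set (PrimeSpectrum A))
    (hZ : StableUnderSpecialization Z) :
    (⨅ p ∈ {p ∈ Z | t ∈ p.asIdeal}, (p.asIdeal.map (Ideal.Quotient.mk (Ideal.span {t}))).height) ≤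
        ⨅ p ∈ Z, p.asIdeal.height ∧
      (⨅ p ∈ Z, p.asIdeal.height) ≤ ⨅ p ∈ {p ∈ Z | t ∉ p.asIdeal}, p.asIdeal.height := by
  constructor
  · refine le_iInf₂ (fun p hp => ?_)
    obtain ⟨p₀, hle, htp₀, hht⟩ := key A hA hA' t ht p
    have hp₀Z : p₀ ∈ Z := hZ ((PrimeSpectrum.le_iff_specializes p p₀).mp hle) hp
    exact (iInf₂_le p₀ ⟨hp₀Z, htp₀⟩).trans hht
  · exact le_iInf₂ (fun p hp => iInf₂_le p hp.1)

end Groth.Agent.S4742
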