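import Mathlib
import Groth.Statements.S4752
-- import your own Groth.Agent.* helpers here

set_option autoImplicit false
universe u
open EGA4

namespace Groth.Agent.S4752


open TensorProduct

/-- Key lemma: reducedness of `C ⊗[B] B'` from the residue fields at minimal primes of `B'`. -/
theorem key_reduced {B C B' : Type u} [CommRing B] [CommRing C] [CommRing B'] [Algebra B C]
    [Algebra B B'] [Module.Flat B C] [IsNoetherianRing B'] [IsReduced B']
    (h : ∀ (Q : Ideal B') [Q.IsPrime], Q ∈ minimalPrimes B' → IsReduced (C ⊗[B] Q.ResidueField)) :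
    IsReduced (C ⊗[B] B') := by
  classical
  haveI : Finite {Q : Ideal B' // Q ∈ minimalPrimes B'} :=
    (minimalPrimes.finite_of_isNoetherianRing B').to_subtype
  haveI : Fintype {Q : Ideal B' // Q ∈ minimalPrimes B'} := Fintype.ofFinite _
  haveI hprime : ∀ Q : {Q : Ideal B' // Q ∈ minimalPrimes B'}, Q.1.IsPrime :=
    fun Q => Ideal.minimalPrimes_isPrime Q.2
  haveI hred : ∀ Q : {Q : Ideal B' // Q ∈ minimalPrimes B'}, IsReduced (C ⊗[B] Q.1.ResidueField) :=
    fun Q => h Q.1 Q.2
  let f : B' →ₐ[B] (∀ Q : {Q : Ideal B' // Q ∈ minimalPrimes B'}, Q.1.ResidueField) :=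
    Pi.algHom B _ (fun Q => IsScalarTower.toAlgHom B B' Q.1.ResidueField)
  have hf : Function.Injective f := by
    rw [injective_iff_map_eq_zero]
    intro x hx
    have hx' : ∀ Q : {Q : Ideal B' // Q ∈ minimalPrimes B'}, x ∈ Q.1 := fun Q => by
      have := congrFun hx Q
      exact Ideal.algebraMap_residueField_eq_zero.mp this
    have hmem : x ∈ sInf (minimalPrimes B') := by
      rw [Ideal.mem_sInf]
      intro Q hQ
      exact hx' ⟨Q, hQ⟩
    have hnil : sInf (minimalPrimes B') = (⊥ : Ideal B') := by
      show sInf ((⊥ : Ideal B').minimalPrimes) = ⊥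
      rw [Ideal.sInf_minimalPrimes]
      exact nilradical_eq_zero B'
    rw [hnil] at hmem
    exact hmem
  let g : C ⊗[B] B' →ₐ[B] C ⊗[B] (∀ Q : {Q : Ideal B' // Q ∈ minimalPrimes B'}, Q.1.ResidueField) :=
    Algebra.TensorProduct.map (AlgHom.id B C) f
  have hg : Function.Injective g :=
    Module.Flat.lTensor_preserves_injective_linearMap (M := C) f.toLinearMap hf
  let e := Algebra.TensorProduct.piRight B B C
    (fun Q : {Q : Ideal B' // Q ∈ minimalPrimes B'} => Q.1.ResidueField)
  haveI : IsReduced (C ⊗[B] (∀ Q : {Q : Ideal B' // Q ∈ minimalPrimes B'}, Q.1.ResidueField)) :=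
    isReduced_of_injective e e.injective
  exact isReduced_of_injective g hg

/-- Algebraicity of the residue field extension. -/
theorem alg_aux {A B B' K : Type u} [CommRing A] [CommRing B] [CommRing B'] [CommRing K]
    [Algebra A B] [Algebra A B'] [Algebra B B'] [IsScalarTower A B B'] [Algebra A K]
    (p : Ideal A) [p.IsPrime] [Algebra p.ResidueField K] [IsScalarTower A p.ResidueField K]
    [Algebra.IsIntegral p.ResidueField K]
    (γ : K →ₐ[A] B')
    (hgen : ∀ (P : B' → Prop), P 0 → (∀ x y, P x → P y → P (x + y)) →
      (∀ (b : B) (x : K), P (algebraMap B B' b * γ x)) → ∀ t, P t)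
    (Q : Ideal B') [Q.IsPrime] (q : Ideal B) [q.IsPrime] [Q.LiesOver q]
    [Algebra (Localization.AtPrime q) (Localization.AtPrime Q)]
    [Localization.AtPrime.IsLiesOverAlgebra q Q] :
    Algebra.IsAlgebraic q.ResidueField Q.ResidueField := by
  classical
  let ψ : p.ResidueField →ₐ[A] Q.ResidueField :=
    (IsScalarTower.toAlgHom A B' Q.ResidueField).comp
      (γ.comp (IsScalarTower.toAlgHom A p.ResidueField K))
  let ι : q.ResidueField →ₐ[A] Q.ResidueField :=
    IsScalarTower.toAlgHom A q.ResidueField Q.ResidueField
  have hιinj : Function.Injective ι := (algebraMap q.ResidueField Q.ResidueField).injective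
  have hψinj : Function.Injective ψ := ψ.toRingHom.injective
  have hf₁ : p ≤ RingHom.ker (Algebra.ofId A q.ResidueField) := by
    intro a ha
    rw [RingHom.mem_ker, Algebra.ofId_apply]
    apply hιinj
    rw [map_zero, ι.commutes, ← ψ.commutes, Ideal.algebraMap_residueField_eq_zero.mpr ha, map_zero]
  have hf₂ : p.primeCompl ≤
      (IsUnit.submonoid q.ResidueField).comap (Algebra.ofId A q.ResidueField) := by
    intro s hs
    show IsUnit (Algebra.ofId A q.ResidueField s)
    rw [Algebra.ofId_apply, isUnit_iff_ne_zero]
    intro h0
    refine hs ((Ideal.algebraMap_residueField_eq_zero (I := p)).mp ?_)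
    apply hψinj
    rw [map_zero, ψ.commutes, ← ι.commutes, h0, map_zero]
  let h : p.ResidueField →ₐ[A] q.ResidueField :=
    Ideal.ResidueField.liftₐ p (Algebra.ofId A q.ResidueField) hf₁ hf₂
  have hcomp : ι.comp h = ψ :=
    Ideal.ResidueField.algHom_ext
      (AlgHom.ext fun a => (AlgHom.commutes _ a).trans (AlgHom.commutes _ a).symm)
  -- the integral closure
  have hB : ∀ b : B, IsIntegral q.ResidueField (algebraMap B' Q.ResidueField (algebraMap B B' b)) := by
    intro b
    rw [← IsScalarTower.algebraMap_apply B B' Q.ResidueField,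
      IsScalarTower.algebraMap_apply B q.ResidueField Q.ResidueField]
    exact isIntegral_algebraMap
  have hK : ∀ x : K, IsIntegral q.ResidueField (algebraMap B' Q.ResidueField (γ x)) := by
    intro x
    obtain ⟨P, hPm, hP⟩ := Algebra.IsIntegral.isIntegral (R := p.ResidueField) x
    refine ⟨P.map h.toRingHom, hPm.map _, ?_⟩
    rw [Polynomial.eval₂_map]
    have e1 : (algebraMap q.ResidueField Q.ResidueField).comp h.toRingHom = ψ.toRingHom := by
      rw [← hcomp]; rfl
    rw [e1]
    have e2 : ψ.toRingHom = ((algebraMap B' Q.ResidueField).comp γ.toRingHom).comp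
        (algebraMap p.ResidueField K) := rfl
    rw [e2]
    have := Polynomial.hom_eval₂ P (algebraMap p.ResidueField K)
      ((algebraMap B' Q.ResidueField).comp γ.toRingHom) x
    rw [hP, map_zero] at this
    exact this.symm
  have hall : ∀ t : B', IsIntegral q.ResidueField (algebraMap B' Q.ResidueField t) := by
    apply hgen
    · rw [map_zero]; exact isIntegral_zero
    · intro x y hx hy; rw [map_add]; exact hx.add hy
    · intro b x; rw [map_mul]; exact (hB b).mul (hK x)
  refine ⟨fun y => ?_⟩
  obtain ⟨a, s, -, rfl⟩ := IsFractionRing.div_surjective (A := B' ⧸ Q) y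
  obtain ⟨a, rfl⟩ := Ideal.Quotient.mk_surjective a
  obtain ⟨s, rfl⟩ := Ideal.Quotient.mk_surjective s
  have ha : IsIntegral q.ResidueField (algebraMap (B' ⧸ Q) Q.ResidueField (Ideal.Quotient.mk Q a)) :=
    hall a
  have hs : IsIntegral q.ResidueField (algebraMap (B' ⧸ Q) Q.ResidueField (Ideal.Quotient.mk Q s)) :=
    hall s
  rw [div_eq_mul_inv]
  exact (ha.isAlgebraic).mul (hs.isAlgebraic.inv)

/-- Main technical step for a finite extension `K` of the residue field. -/
theorem main_step (A B C K : Type u) [CommRing A] [CommRing B] [CommRing C] [Field K]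
    [IsNoetherianRing B] [Algebra A B] [Algebra B C] [Algebra A C] [IsScalarTower A B C]
    [Module.Flat B C]
    (hBC : ∀ (q : Ideal B) [q.IsPrime], Algebra.IsGeometricallyReduced q.ResidueField (q.Fiber C))
    (p : Ideal A) [p.IsPrime] [Algebra A K] [Algebra p.ResidueField K]
    [IsScalarTower A p.ResidueField K] [Module.Finite p.ResidueField K]
    (hred : IsReduced (B ⊗[A] K)) : IsReduced (C ⊗[A] K) := by
  haveI : Algebra.EssFiniteType A K := Algebra.EssFiniteType.comp A p.ResidueField K
  haveI : IsNoetherianRing (B ⊗[A] K) := Algebra.EssFiniteType.isNoetherianRing B (B ⊗[A] K)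
  haveI : IsReduced (C ⊗[B] (B ⊗[A] K)) := by
    apply key_reduced
    intro Q _ _
    haveI : (Q.under B).IsPrime := inferInstance
    haveI : Q.LiesOver (Q.under B) := inferInstance
    letI := Localization.AtPrime.algebraOfLiesOver (Q.under B) Q
    haveI : Algebra.IsAlgebraic (Q.under B).ResidueField Q.ResidueField :=
      alg_aux (A := A) (B := B) (B' := B ⊗[A] K) (K := K) p
        (Algebra.TensorProduct.includeRight) (by
          intro P h0 hadd hmul t
          induction t using TensorProduct.induction_on with
          | zero => exact h0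
          | tmul b x =>
            have := hmul b x
            rwa [Algebra.TensorProduct.algebraMap_apply, Algebra.algebraMap_self_apply,
              Algebra.TensorProduct.includeRight_apply, Algebra.TensorProduct.tmul_mul_tmul,
              mul_one, one_mul] at this
          | add x y hx hy => exact hadd x y hx hy) Q (Q.under B)
    haveI := hBC (Q.under B)
    haveI : IsReduced (Q.ResidueField ⊗[(Q.under B).ResidueField] ((Q.under B).Fiber C)) :=
      inferInstance
    let e1 := Algebra.TensorProduct.cancelBaseChange B (Q.under B).ResidueField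
      (Q.under B).ResidueField Q.ResidueField C
    let e2 := Algebra.TensorProduct.comm B Q.ResidueField C
    haveI : IsReduced (Q.ResidueField ⊗[B] C) := isReduced_of_injective e1.symm e1.symm.injective
    exact isReduced_of_injective e2.symm e2.symm.injective
  let e := Algebra.TensorProduct.cancelBaseChange A B B C K
  exact isReduced_of_injective e.symm e.symm.injective

/-- Case of reduced morphisms, affine form: let A → B → C be homomorphisms of Noetherian rings, both
flat and with geometrically reduced fibres. Then the composite A → C is flat with geometrically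
reduced fibres. -/
theorem result (A B C : Type u) [CommRing A] [CommRing B] [CommRing C] [IsNoetherianRing A]
    [IsNoetherianRing B] [IsNoetherianRing C] [Algebra A B] [Algebra B C] [Algebra A C] [IsScalarTower A B C]
    [Module.Flat A B] [Module.Flat B C]
    (hAB : ∀ (p : Ideal A) [p.IsPrime], Algebra.IsGeometricallyReduced p.ResidueField (p.Fiber B))
    (hBC : ∀ (q : Ideal B) [q.IsPrime], Algebra.IsGeometricallyReduced q.ResidueField (q.Fiber C)) :
    Module.Flat A C ∧ ∀ (p : Ideal A) [p.IsPrime], Algebra.IsGeometricallyReduced p.ResidueField (p.Fiber C) := by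
  refine ⟨Module.Flat.trans A B C, fun p _ => ?_⟩
  rw [Algebra.isGeometricallyReduced_field_iff]
  -- base change of `B` to the algebraic closure is reduced
  have hBΩ : IsReduced (B ⊗[A] AlgebraicClosure p.ResidueField) := by
    haveI := (Algebra.isGeometricallyReduced_field_iff p.ResidueField (p.Fiber B)).mp (hAB p)
    let e1 := Algebra.TensorProduct.cancelBaseChange A p.ResidueField p.ResidueField
      (AlgebraicClosure p.ResidueField) B
    let e2 := Algebra.TensorProduct.comm A B (AlgebraicClosure p.ResidueField)
    haveI : IsReduced (AlgebraicClosure p.ResidueField ⊗[A] B) :=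
      isReduced_of_injective e1.symm e1.symm.injective
    exact isReduced_of_injective e2 e2.injective
  haveI : IsReduced ((p.Fiber C) ⊗[p.ResidueField] AlgebraicClosure p.ResidueField) := by
    apply IsReduced.tensorProduct_of_flat_of_forall_fg
    intro K hK
    haveI : Algebra.FiniteType p.ResidueField K := ⟨(Subalgebra.fg_top K).mpr hK⟩
    haveI : Algebra.IsIntegral p.ResidueField K :=
      Algebra.IsIntegral.of_injective K.val Subtype.val_injective
    haveI : Module.Finite p.ResidueField K := Algebra.IsIntegral.finite
    letI : Field K := (Subalgebra.isField_of_algebraic K).toField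
    have hBK : IsReduced (B ⊗[A] K) := by
      let g : B ⊗[A] K →ₐ[A] B ⊗[A] AlgebraicClosure p.ResidueField :=
        Algebra.TensorProduct.map (AlgHom.id A B) (K.val.restrictScalars A)
      have hg : Function.Injective g :=
        Module.Flat.lTensor_preserves_injective_linearMap (M := B)
          (K.val.restrictScalars A).toLinearMap Subtype.val_injective
      exact isReduced_of_injective g hg
    have hCK : IsReduced (C ⊗[A] K) := main_step A B C K hBC p hBK
    let e1 := Algebra.TensorProduct.comm p.ResidueField (p.Fiber C) K
    let e2 := Algebra.TensorProduct.cancelBaseChange A p.ResidueField p.ResidueField K C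
    let e3 := Algebra.TensorProduct.comm A K C
    haveI : IsReduced (K ⊗[A] C) := isReduced_of_injective e3 e3.injective
    haveI : IsReduced (K ⊗[p.ResidueField] (p.Fiber C)) := isReduced_of_injective e2 e2.injective
    exact isReduced_of_injective e1 e1.injective
  let e := Algebra.TensorProduct.comm p.ResidueField (AlgebraicClosure p.ResidueField) (p.Fiber C)
  exact isReduced_of_injective e e.injective

end Groth.Agent.S4752
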