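import Mathlib
import Groth.Statements.S4753
-- import your own Groth.Agent.* helpers here

set_option autoImplicit false
universe u
open EGA4

namespace Groth.Agent.S4753

open TensorProduct in
lemma pure_aux (A B C : Type u) [CommRing A] [CommRing B] [CommRing C] [Algebra A B] [Algebra B C]
    [Algebra A C] [IsScalarTower A B C] [Module.FaithfullyFlat B C]
    (N : Type*) [AddCommGroup N] [Module A N] :
    Function.Injective (LinearMap.rTensor N (IsScalarTower.toAlgHom A B C).toLinearMap) := by
  have h1 := Module.FaithfullyFlat.tensorProduct_mk_injective (A := B) (B := C) (B ⊗[A] N)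
  have h2 : (LinearMap.rTensor N (IsScalarTower.toAlgHom A B C).toLinearMap :
      B ⊗[A] N → C ⊗[A] N) =
      (TensorProduct.AlgebraTensorModule.cancelBaseChange A B C C N) ∘
        (TensorProduct.mk B C (B ⊗[A] N) 1) := by
    funext x
    induction x using TensorProduct.induction_on with
    | zero => simp
    | tmul b n =>
      simp [TensorProduct.AlgebraTensorModule.cancelBaseChange_tmul, Algebra.smul_def]
    | add x y hx hy =>
      simp only [map_add, Function.comp_apply] at hx hy ⊢
      rw [hx, hy]
  rw [h2]
  exact (LinearEquiv.injective _).comp h1


/-- Case of reduced morphisms, affine form: let A → B → C be homomorphisms of Noetherian rings such that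
B → C is faithfully flat with geometrically reduced fibres and the composite A → C is flat with
geometrically reduced fibres. Then A → B is flat with geometrically reduced fibres. -/
theorem result (A B C : Type u) [CommRing A] [CommRing B] [CommRing C]
    [IsNoetherianRing A] [IsNoetherianRing B] [IsNoetherianRing C] [Algebra A B] [Algebra B C] [Algebra A C]
    [IsScalarTower A B C] [Module.FaithfullyFlat B C] [Module.Flat A C]
    (hBC : ∀ (q : Ideal B) [q.IsPrime], Algebra.IsGeometricallyReduced q.ResidueField (q.Fiber C))
    (hAC : ∀ (p : Ideal A) [p.IsPrime], Algebra.IsGeometricallyReduced p.ResidueField (p.Fiber C)) :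
    Module.Flat A B ∧ ∀ (p : Ideal A) [p.IsPrime], Algebra.IsGeometricallyReduced p.ResidueField (p.Fiber B) := by
  have hpure : ∀ (N : Type u) [AddCommGroup N] [Module A N], Function.Injective
      (LinearMap.rTensor N (IsScalarTower.toAlgHom A B C).toLinearMap) :=
    fun N _ _ => pure_aux A B C N
  refine ⟨?_, fun p _ => ?_⟩
  · rw [Module.Flat.iff_lTensor_injective']
    intro I
    have hC : Function.Injective (LinearMap.lTensor C (I.subtype)) :=
      Module.Flat.lTensor_preserves_injective_linearMap _ Subtype.val_injective
    have hcomp : (LinearMap.lTensor C I.subtype) ∘ₗ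
        (LinearMap.rTensor I (IsScalarTower.toAlgHom A B C).toLinearMap) =
        (LinearMap.rTensor A (IsScalarTower.toAlgHom A B C).toLinearMap) ∘ₗ
          (LinearMap.lTensor B I.subtype) := by
      rw [LinearMap.lTensor_comp_rTensor, LinearMap.rTensor_comp_lTensor]
    have : Function.Injective ((LinearMap.rTensor A (IsScalarTower.toAlgHom A B C).toLinearMap) ∘ₗ
        (LinearMap.lTensor B I.subtype)) := by
      rw [← hcomp]
      exact hC.comp (hpure I)
    exact Function.Injective.of_comp this
  · let g : p.Fiber B →ₐ[p.ResidueField] p.Fiber C :=
      Algebra.TensorProduct.map (AlgHom.id _ _) (IsScalarTower.toAlgHom A B C)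
    have hg : Function.Injective g := by
      have h1 : Function.Injective
          (LinearMap.lTensor p.ResidueField (IsScalarTower.toAlgHom A B C).toLinearMap) :=
        (LinearMap.lTensor_inj_iff_rTensor_inj _ _).2 (hpure _)
      have h2 : (g : p.Fiber B → p.Fiber C) =
          LinearMap.lTensor p.ResidueField (IsScalarTower.toAlgHom A B C).toLinearMap := by
        funext x
        induction x using TensorProduct.induction_on with
        | zero => simp
        | tmul a b => simp [g]
        | add x y hx hy => rw [map_add, map_add, hx, hy]
      rw [h2]; exact h1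
    haveI := hAC p
    exact Algebra.IsGeometricallyReduced.of_injective g hg

end Groth.Agent.S4753
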