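import Mathlib
import Groth.Statements.S4759
import Groth.Agent.Lib.Helper9.Lim8

set_option autoImplicit false
universe u
open CategoryTheory AlgebraicGeometry
open Lim8

namespace Groth.Agent.S4759

open Groth.Agent.Helper9.Lim8 Topology

theorem result {I : Type u} [SmallCategory I] [IsCofiltered I]
    (D : I ⥤ Scheme.{u}) (c : Limits.Cone D) (hc : Limits.IsLimit c)
    [∀ (i j : I) (f : i ⟶ j), IsAffineHom (D.map f)] (i₀ : I) [CompactSpace (D.obj i₀)]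
    [QuasiSeparatedSpace (D.obj i₀)] (Z : Set c.pt) (hZ : Topology.IsConstructible Z) :
    ∃ (i : I) (_ : i ⟶ i₀) (Zi : Set (D.obj i)),
      Topology.IsConstructible Zi ∧ (⇑(c.π.app i) ⁻¹' Zi : Set c.pt) = Z := by
  have : ∀ {i j : I} (f : i ⟶ j), IsAffineHom (D.map f) := fun f => inferInstance
  have : IsAffineHom (c.π.app i₀) := isAffineHom_π_app D c hc i₀
  have : CompactSpace c.pt := QuasiCompact.compactSpace_of_compactSpace (c.π.app i₀)
  refine IsConstructible.sdiff_union_induction (P := fun Z => ∃ (i : I) (_ : i ⟶ i₀)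
    (Zi : Set (D.obj i)), Topology.IsConstructible Zi ∧ (⇑(c.π.app i) ⁻¹' Zi : Set c.pt) = Z)
    ?_ ?_ hZ
  · intro U V hU hU' hV hV'
    obtain ⟨k, φ, U', V', hU'c, hV'c, h⟩ := exists_sdiff_preimage_eq D c hc i₀ ⟨U, hU⟩ ⟨V, hV⟩
      hU'.isCompact hV'.isCompact
    have : QuasiSeparatedSpace (D.obj k) := quasiSeparatedSpace_of_hom D φ
    exact ⟨k, φ, (U' : Set (D.obj k)) \ V',
      (hU'c.isConstructible U'.2).sdiff (hV'c.isConstructible V'.2), h⟩
  · rintro s t ⟨i₁, φ₁, Z₁, hZ₁, rfl⟩ ⟨i₂, φ₂, Z₂, hZ₂, rfl⟩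
    obtain ⟨k, α, β, hαβ⟩ := IsCofiltered.cospan φ₁ φ₂
    refine ⟨k, α ≫ φ₁, ⇑(D.map α) ⁻¹' Z₁ ∪ ⇑(D.map β) ⁻¹' Z₂,
      ((D.map α).isConstructible_preimage hZ₁).union ((D.map β).isConstructible_preimage hZ₂), ?_⟩
    rw [Set.preimage_union, ← Set.preimage_comp, ← Set.preimage_comp, ← comp_coe, ← comp_coe,
      c.w, c.w]

end Groth.Agent.S4759
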