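import Mathlib
import Groth.Statements.S4760
import Groth.Agent.Lib.Helper9.Lim8

set_option autoImplicit false
universe u
open CategoryTheory AlgebraicGeometry
open Lim8

namespace Groth.Agent.S4760

open Groth.Agent.Helper9.Lim8 Topology

theorem result {I : Type u} [SmallCategory I] [IsCofiltered I]
    (D : I ⥤ Scheme.{u}) (c : Limits.Cone D) (hc : Limits.IsLimit c)
    [∀ (i j : I) (f : i ⟶ j), IsAffineHom (D.map f)] (i₀ : I)
    [CompactSpace (D.obj i₀)] [QuasiSeparatedSpace (D.obj i₀)] (Z : Set c.pt)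
    (hZ : Topology.IsConstructible Z) (hZ' : IsLocallyClosed Z) :
    ∃ (i : I) (_ : i ⟶ i₀) (Zi : Set (D.obj i)),
      Topology.IsConstructible Zi ∧ IsLocallyClosed Zi ∧ (⇑(c.π.app i) ⁻¹' Zi : Set c.pt) = Z := by
  have : ∀ {i j : I} (f : i ⟶ j), IsAffineHom (D.map f) := fun f => inferInstance
  have : IsAffineHom (c.π.app i₀) := isAffineHom_π_app D c hc i₀
  have : CompactSpace c.pt := QuasiCompact.compactSpace_of_compactSpace (c.π.app i₀)
  have : QuasiSeparatedSpace c.pt := quasiSeparatedSpace_of_quasiSeparated (c.π.app i₀)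
  have hZc : IsCompact Z := isCompact_of_isConstructible hZ
  obtain ⟨U₀, F, hU₀, hF, rfl⟩ := hZ'
  obtain ⟨W, hWc, hZW, hWU⟩ := exists_isCompact_open_between c.pt hZc hU₀ Set.inter_subset_left
  -- V := W \ Z is open and constructible, hence compact
  have hVeq : (W : Set c.pt) \ (U₀ ∩ F) = (W : Set c.pt) ∩ Fᶜ := by
    ext x
    simp only [Set.mem_sdiff, Set.mem_inter_iff, Set.mem_compl_iff, not_and]
    constructor
    · rintro ⟨hxW, h⟩
      exact ⟨hxW, h (hWU hxW)⟩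
    · rintro ⟨hxW, hxF⟩
      exact ⟨hxW, fun _ => hxF⟩
  have hVopen : IsOpen ((W : Set c.pt) \ (U₀ ∩ F)) := by
    rw [hVeq]; exact W.2.inter hF.isOpen_compl
  have hVcons : IsConstructible ((W : Set c.pt) \ (U₀ ∩ F)) :=
    (hWc.isConstructible W.2).sdiff hZ
  have hVc : IsCompact ((W : Set c.pt) \ (U₀ ∩ F)) := isCompact_of_isConstructible hVcons
  obtain ⟨k, φ, U', V', hU'c, hV'c, h⟩ := exists_sdiff_preimage_eq D c hc i₀ W
    ⟨_, hVopen⟩ hWc hVc
  have : QuasiSeparatedSpace (D.obj k) := quasiSeparatedSpace_of_hom D φ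
  refine ⟨k, φ, (U' : Set (D.obj k)) \ V',
    (hU'c.isConstructible U'.2).sdiff (hV'c.isConstructible V'.2), ?_, ?_⟩
  · exact ⟨U', (V' : Set (D.obj k))ᶜ, U'.2, V'.2.isClosed_compl, rfl⟩
  · rw [h]
    change (W : Set c.pt) \ ((W : Set c.pt) \ (U₀ ∩ F)) = U₀ ∩ F
    rw [Set.sdiff_sdiff_right_self, Set.inter_eq_right]
    exact hZW

end Groth.Agent.S4760
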