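import Mathlib
import Groth.Statements.S4762
import Groth.Agent.Lib.Helper9.Lim8

set_option autoImplicit false
universe u
open CategoryTheory AlgebraicGeometry
open Lim8

namespace Groth.Agent.S4762

open Groth.Agent.Helper9.Lim8 Topology

theorem result {I : Type u} [SmallCategory I] [IsCofiltered I]
    (D : I ⥤ Scheme.{u}) (c : Limits.Cone D) (hc : Limits.IsLimit c)
    [∀ (i j : I) (f : i ⟶ j), IsAffineHom (D.map f)] (i₁ : I)
    [CompactSpace (D.obj i₁)] (Z₁ : Set (D.obj i₁)) (hZ : Topology.IsConstructible Z₁) :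
    IsLocallyClosed (⇑(c.π.app i₁) ⁻¹' Z₁ : Set c.pt) ↔
      ∃ (j : I) (φ : j ⟶ i₁), IsLocallyClosed (⇑(D.map φ) ⁻¹' Z₁) := by
  have : ∀ {i j : I} (f : i ⟶ j), IsAffineHom (D.map f) := fun f => inferInstance
  constructor
  · intro h
    refine reduce_to_qcqs D c hc (fun s => IsLocallyClosed s) ?_ ?_ ?_ ?_ i₁ Z₁ hZ h
    · intro X Y _ _ f hf s hs
      exact hs.preimage hf
    · intro X Y _ _ f hf s hs
      exact hs.image hf.isInducing hf.isOpen_range.isLocallyClosed
    · intro X _ s T hT h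
      exact isLocallyClosed_of_finite_cover s T hT h
    · intro J _ _ D c hc _ i₁ _ _ Z₁ hZ h
      exact exists_isLocallyClosed_preimage_of_qcqs D c hc hZ h
  · rintro ⟨j, φ, hj⟩
    have : (⇑(c.π.app i₁) ⁻¹' Z₁ : Set c.pt) = ⇑(c.π.app j) ⁻¹' (⇑(D.map φ) ⁻¹' Z₁) := by
      rw [← Set.preimage_comp, ← comp_coe, c.w]
    rw [this]
    exact hj.preimage (c.π.app j).continuous

end Groth.Agent.S4762
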