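import Mathlib
import Groth.Statements.S4763

set_option autoImplicit false
universe u
open CategoryTheory AlgebraicGeometry
open Lim8

namespace Groth.Agent.S4763

set_option backward.isDefEq.respectTransparency false in
theorem result {I : Type u} [SmallCategory I] [IsCofiltered I]
    (D : I ⥤ Scheme.{u}) (c : Limits.Cone D) (hc : Limits.IsLimit c)
    [∀ (i j : I) (f : i ⟶ j), IsAffineHom (D.map f)] (i : I) :
    IsDominant (c.π.app i) ↔ ∀ (j : I) (φ : j ⟶ i), IsDominant (D.map φ) := by
  have : ∀ {i j : I} (f : i ⟶ j), IsAffineHom (D.map f) := fun f => inferInstance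
  constructor
  · intro h j φ
    refine ⟨?_⟩
    have h1 : DenseRange ⇑(c.π.app i) := h.denseRange
    refine Dense.mono ?_ h1
    rintro _ ⟨x, rfl⟩
    refine ⟨c.π.app j x, ?_⟩
    rw [← Scheme.Hom.comp_apply, c.w]
    rfl
  · intro h
    refine ⟨?_⟩
    rw [DenseRange, dense_iff_inter_open]
    rintro U hU ⟨s, hs⟩
    obtain ⟨_, ⟨V, hV : IsAffineOpen V, rfl⟩, hsV, hVU⟩ :=
      (D.obj i).isBasis_affineOpens.exists_subset_of_mem_open hs hU
    have hAff (j : Over i) : IsAffine ((opensDiagram D i V).obj j) := hV.preimage _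
    have hCpt (j : Over i) : CompactSpace ((opensDiagram D i V).obj j) := inferInstance
    have hNe (j : Over i) : Nonempty ((opensDiagram D i V).obj j) := by
      have := (h j.left j.hom).denseRange
      obtain ⟨_, hyV, ⟨y, rfl⟩⟩ := (dense_iff_inter_open.1 this) V V.2 ⟨s, hsV⟩
      exact ⟨⟨y, hyV⟩⟩
    have hne : Nonempty (opensCone D c i V).pt :=
      Scheme.nonempty_of_isLimit _ _ (isLimitOpensCone D c hc i V)
    obtain ⟨⟨x, hx⟩⟩ := hne
    exact ⟨c.π.app i x, hVU hx, x, rfl⟩

end Groth.Agent.S4763
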