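import Mathlib
import Groth.Statements.S4765

set_option autoImplicit false
universe u
open CategoryTheory AlgebraicGeometry
open Lim8

namespace Groth.Agent.S4765

theorem result {I : Type u} [SmallCategory I] [IsCofiltered I]
    (D : I ⥤ Scheme.{u}) (c : Limits.Cone D) (hc : Limits.IsLimit c)
    [∀ (i j : I) (f : i ⟶ j), IsAffineHom (D.map f)] (i : I)
    (hs : ∀ (j : I) (φ : j ⟶ i), Surjective (c.π.app j)) :
    IsOpenMap ⇑(c.π.app i) ↔ ∀ (j : I) (φ : j ⟶ i), IsOpenMap ⇑(D.map φ) := by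
  have : ∀ {i j : I} (f : i ⟶ j), IsAffineHom (D.map f) := fun f => inferInstance
  have hcomp : ∀ (j : I) (φ : j ⟶ i) (x : c.pt), D.map φ (c.π.app j x) = c.π.app i x := by
    intro j φ x
    rw [← Scheme.Hom.comp_apply, c.w]
  constructor
  · intro h j φ V hV
    have hsurj : Function.Surjective ⇑(c.π.app j) := (hs j φ).surj
    have : ⇑(D.map φ) '' V = ⇑(c.π.app i) '' (⇑(c.π.app j) ⁻¹' V) := by
      ext y
      constructor
      · rintro ⟨v, hv, rfl⟩
        obtain ⟨x, rfl⟩ := hsurj v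
        exact ⟨x, hv, (hcomp j φ x).symm⟩
      · rintro ⟨x, hx, rfl⟩
        exact ⟨c.π.app j x, hx, hcomp j φ x⟩
    rw [this]
    exact h _ (hV.preimage (c.π.app j).continuous)
  · intro h
    have hB := isBasis_preimage_isAffineOpen D c hc
    rw [TopologicalSpace.Opens.IsBasis] at hB
    rw [hB.isOpenMap_iff]
    rintro _ ⟨_, ⟨j, V, hV, rfl⟩, rfl⟩
    -- find k over both j and i
    obtain ⟨k, a, b⟩ : ∃ (k : I) (_ : k ⟶ j), Nonempty (k ⟶ i) :=
      ⟨IsCofiltered.min j i, IsCofiltered.minToLeft j i, ⟨IsCofiltered.minToRight j i⟩⟩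
    obtain ⟨b⟩ := b
    have hsurj : Function.Surjective ⇑(c.π.app k) := (hs k b).surj
    have : ⇑(c.π.app i) '' (⇑(c.π.app j) ⁻¹' (V : Set (D.obj j)))
        = ⇑(D.map b) '' (⇑(D.map a) ⁻¹' (V : Set (D.obj j))) := by
      ext y
      constructor
      · rintro ⟨x, hx, rfl⟩
        refine ⟨c.π.app k x, ?_, hcomp k b x⟩
        change D.map a (c.π.app k x) ∈ V
        have : D.map a (c.π.app k x) = c.π.app j x := by
          rw [← Scheme.Hom.comp_apply, c.w]
        rw [this]; exact hx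
      · rintro ⟨v, hv, rfl⟩
        obtain ⟨x, rfl⟩ := hsurj v
        refine ⟨x, ?_, (hcomp k b x).symm⟩
        change c.π.app j x ∈ V
        have : D.map a (c.π.app k x) = c.π.app j x := by
          rw [← Scheme.Hom.comp_apply, c.w]
        rw [← this]; exact hv
    change IsOpen (⇑(c.π.app i) '' (⇑(c.π.app j) ⁻¹' (V : Set (D.obj j))))
    rw [this]
    exact h k b _ (V.2.preimage (D.map a).continuous)

end Groth.Agent.S4765
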