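import Mathlib
import Groth.Statements.S4766
import Groth.Agent.Lib.Helper9.Lim8

set_option autoImplicit false
universe u
open CategoryTheory AlgebraicGeometry
open Lim8

namespace Groth.Agent.S4766

open Limits Groth.Agent.Helper9.Lim8 MorphismProperty

/-- If `g ≫ f` is universally open and `g` is surjective then `f` is universally open. -/
theorem universallyOpen_of_comp_of_surjective {X Y Z : Scheme.{u}} (g : X ⟶ Y) (f : Y ⟶ Z)
    [Surjective g] [UniversallyOpen (g ≫ f)] : UniversallyOpen f := by
  refine ⟨?_⟩
  intro Y' Z' i₁ i₂ f' sq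
  -- base change of g along i₁
  have sq1 : IsPullback (pullback.snd g i₁) (pullback.fst g i₁) i₁ g :=
    (IsPullback.of_hasPullback g i₁).flip
  have sq2 := sq1.paste_horiz sq
  have h1 : IsOpenMap ⇑(pullback.snd g i₁ ≫ f') :=
    (UniversallyOpen.universally_isOpenMap (f := g ≫ f)) _ _ _ sq2
  have hsurj : Function.Surjective ⇑(pullback.snd g i₁) :=
    (inferInstance : Surjective (pullback.snd g i₁)).surj
  intro V hV
  have : ⇑f' '' V = ⇑(pullback.snd g i₁ ≫ f') '' (⇑(pullback.snd g i₁) ⁻¹' V) := by
    ext y
    constructor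
    · rintro ⟨v, hv, rfl⟩
      obtain ⟨w, rfl⟩ := hsurj v
      exact ⟨w, hv, by simp⟩
    · rintro ⟨w, hw, rfl⟩
      exact ⟨pullback.snd g i₁ w, hw, by simp⟩
  rw [this]
  exact h1 _ (hV.preimage (pullback.snd g i₁).continuous)

set_option backward.isDefEq.respectTransparency false in
theorem result {I : Type u} [SmallCategory I] [IsCofiltered I]
    (D : I ⥤ Scheme.{u}) (c : Limits.Cone D) (hc : Limits.IsLimit c)
    [∀ (i j : I) (f : i ⟶ j), IsAffineHom (D.map f)] (i : I)
    (hs : ∀ (j : I) (φ : j ⟶ i), Surjective (c.π.app j)) :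
    UniversallyOpen (c.π.app i) ↔ ∀ (j : I) (φ : j ⟶ i), UniversallyOpen (D.map φ) := by
  have : ∀ {i j : I} (f : i ⟶ j), IsAffineHom (D.map f) := fun f => inferInstance
  constructor
  · intro h j φ
    have := hs j φ
    have : UniversallyOpen (c.π.app j ≫ D.map φ) := by rw [c.w]; exact h
    exact universallyOpen_of_comp_of_surjective (c.π.app j) (D.map φ)
  · intro h
    refine ⟨?_⟩
    intro X' Y' i₁ g f' sq
    have hiso : f' = sq.flip.isoPullback.hom ≫ pullback.snd (c.π.app i) g :=
      (sq.flip.isoPullback_hom_snd).symm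
    let j₀ : Over i := Over.mk (𝟙 i)
    have hIso : IsIso (pullback.snd (D.map j₀.hom) g) := by
      have : IsIso (D.map j₀.hom) := by
        have : D.map j₀.hom = 𝟙 _ := D.map_id i
        rw [this]; infer_instance
      infer_instance
    have hmain : IsOpenMap ⇑((bcCone D c g).π.app j₀) := by
      apply isOpenMap_π_of_forall (bcDiagram D g) (bcCone D c g) (bcIsLimit D c hc g) j₀
      · intro k _
        have hk : Surjective (c.π.app k.left) := hs k.left k.hom
        have : Surjective ((bcCone D c g).π.app k) :=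
          MorphismProperty.of_isPullback (P := @Surjective) (bcCone_isPullback D c g k).flip hk
        exact this.surj
      · intro k φ
        have hk : UniversallyOpen (D.map k.hom) := h k.left k.hom
        have e : (bcDiagram D g).map φ =
            pullback.snd (D.map k.hom) g ≫ inv (pullback.snd (D.map j₀.hom) g) := by
          rw [IsIso.eq_comp_inv, bcDiagram_map_snd]
        rw [e]
        exact (pullback.snd (D.map k.hom) g ≫ inv (pullback.snd (D.map j₀.hom) g)).isOpenMap
    have e2 : pullback.snd (c.π.app i) g =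
        (bcCone D c g).π.app j₀ ≫ pullback.snd (D.map j₀.hom) g := (bcCone_π_snd D c g j₀).symm
    change IsOpenMap ⇑f'
    rw [hiso, e2]
    have h3 : IsOpenMap ⇑(pullback.snd (D.map j₀.hom) g) :=
      (pullback.snd (D.map j₀.hom) g).isOpenMap
    have h4 : IsOpenMap ⇑(sq.flip.isoPullback.hom) := (sq.flip.isoPullback.hom).isOpenMap
    simp only [Scheme.Hom.comp_base, TopCat.hom_comp, ContinuousMap.coe_comp]
    exact (h3.comp hmain).comp h4

end Groth.Agent.S4766
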