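import Mathlib
import Groth.Statements.S4767
import Groth.Agent.Lib.Helper9.Lim8

set_option autoImplicit false
universe u
open CategoryTheory AlgebraicGeometry
open Lim8

namespace Groth.Agent.S4767

open Groth.Agent.Helper9.Lim8 Limits Topology

theorem result {I : Type u} [SmallCategory I] [IsCofiltered I]
    (D : I ⥤ Scheme.{u}) (c : Limits.Cone D) (hc : Limits.IsLimit c)
    [∀ (i j : I) (f : i ⟶ j), IsAffineHom (D.map f)] (i₀ : I)
    [CompactSpace (D.obj i₀)] [QuasiSeparatedSpace (D.obj i₀)]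
    [TopologicalSpace.NoetherianSpace c.pt] (h : ¬ IrreducibleSpace c.pt) :
    ∃ (i : I) (_ : i ⟶ i₀), ∀ (j : I) (_ : j ⟶ i), ¬ IrreducibleSpace (D.obj j) := by
  have hA : ∀ {i j : I} (f : i ⟶ j), IsAffineHom (D.map f) := fun f => inferInstance
  by_cases hne : Nonempty c.pt
  · have hnp : ¬ PreirreducibleSpace c.pt := fun hp =>
      h { toPreirreducibleSpace := hp, toNonempty := hne }
    have : ∃ U V : Set c.pt, IsOpen U ∧ IsOpen V ∧ U.Nonempty ∧ V.Nonempty ∧ U ∩ V = ∅ := by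
      by_contra hcon
      apply hnp
      refine PreirreducibleSpace.of_forall_nonempty_inter ?_
      intro U V hU hV hUn hVn
      by_contra hUV
      exact hcon ⟨U, V, hU, hV, hUn, hVn, Set.not_nonempty_iff_eq_empty.1 hUV⟩
    obtain ⟨U, V, hU, hV, hUn, hVn, hUV⟩ := this
    obtain ⟨k, b, U', V', hU', hV', hU's, hV's⟩ := exists_pair_preimage_eq D c hc i₀
      ⟨U, hU⟩ ⟨V, hV⟩ (TopologicalSpace.NoetherianSpace.isCompact U)
      (TopologicalSpace.NoetherianSpace.isCompact V)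
    replace hU's : ⇑(c.π.app k) ⁻¹' (U' : Set (D.obj k)) = U := hU's
    replace hV's : ⇑(c.π.app k) ⁻¹' (V' : Set (D.obj k)) = V := hV's
    have : CompactSpace (D.obj k) := compactSpace_of_hom D b
    have : QuasiSeparatedSpace (D.obj k) := quasiSeparatedSpace_of_hom D b
    have hUc : IsConstructible (U' : Set (D.obj k)) := hU'.isConstructible U'.2
    have hVc : IsConstructible (V' : Set (D.obj k)) := hV'.isConstructible V'.2
    obtain ⟨l, ψ, hl⟩ := exists_preimage_eq_empty D c hc (hUc.inter hVc) (by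
      rw [Set.preimage_inter, hU's, hV's]; exact hUV)
    refine ⟨l, ψ ≫ b, fun j φ hirr => ?_⟩
    have hsU : ⇑(c.π.app j) ⁻¹' (⇑(D.map (φ ≫ ψ)) ⁻¹' (U' : Set (D.obj k))) = U := by
      rw [← Set.preimage_comp, ← comp_coe, c.w, hU's]
    have hsV : ⇑(c.π.app j) ⁻¹' (⇑(D.map (φ ≫ ψ)) ⁻¹' (V' : Set (D.obj k))) = V := by
      rw [← Set.preimage_comp, ← comp_coe, c.w, hV's]
    have hUj : (⇑(D.map (φ ≫ ψ)) ⁻¹' (U' : Set (D.obj k))).Nonempty := by
      obtain ⟨x, hx⟩ := hUn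
      rw [← hsU] at hx
      exact ⟨_, hx⟩
    have hVj : (⇑(D.map (φ ≫ ψ)) ⁻¹' (V' : Set (D.obj k))).Nonempty := by
      obtain ⟨x, hx⟩ := hVn
      rw [← hsV] at hx
      exact ⟨_, hx⟩
    obtain ⟨y, hy⟩ := nonempty_preirreducible_inter (U'.2.preimage (D.map (φ ≫ ψ)).continuous)
      (V'.2.preimage (D.map (φ ≫ ψ)).continuous) hUj hVj
    rw [← Set.preimage_inter, D.map_comp, comp_coe, Set.preimage_comp] at hy
    have hy' : D.map φ y ∈ ⇑(D.map ψ) ⁻¹' ((U' : Set (D.obj k)) ∩ V') := hy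
    rw [hl] at hy'
    exact hy'
  · obtain ⟨j, φ, hj⟩ := exists_preimage_eq_empty D c hc (i := i₀) (E := Set.univ)
      IsConstructible.univ (by
        rw [Set.preimage_univ, Set.univ_eq_empty_iff]; exact not_nonempty_iff.1 hne)
    refine ⟨j, φ, fun j' φ' hirr => ?_⟩
    obtain ⟨x⟩ := hirr.toNonempty
    have : D.map φ' x ∈ ⇑(D.map φ) ⁻¹' (Set.univ : Set (D.obj i₀)) := trivial
    rw [hj] at this
    exact this

end Groth.Agent.S4767
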