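import Mathlib
import Groth.Statements.S4768
import Groth.Agent.Lib.Helper9.Lim8

set_option autoImplicit false
universe u
open CategoryTheory AlgebraicGeometry
open Lim8

namespace Groth.Agent.S4768

open Groth.Agent.Helper9.Lim8 Limits

theorem result {I : Type u} [SmallCategory I] [IsCofiltered I]
    (D : I ⥤ Scheme.{u}) (c : Limits.Cone D) (hc : Limits.IsLimit c)
    [∀ (i j : I) (f : i ⟶ j), IsAffineHom (D.map f)] (i₀ : I)
    [CompactSpace (D.obj i₀)] [QuasiSeparatedSpace (D.obj i₀)] (h : ¬ PreconnectedSpace c.pt) :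
    ∃ (i : I) (_ : i ⟶ i₀), ∀ (j : I) (_ : j ⟶ i), ¬ PreconnectedSpace (D.obj j) := by
  have hA : ∀ {i j : I} (f : i ⟶ j), IsAffineHom (D.map f) := fun f => inferInstance
  rw [preconnectedSpace_iff_clopen] at h
  push Not at h
  obtain ⟨s, hs, hs0, hs1⟩ := h
  obtain ⟨k, b, U', V', hU's, hV's, hinter, hunion⟩ := exists_disjoint_cover D c hc i₀ s hs
  refine ⟨k, b, fun j φ hpc => ?_⟩
  set U : Set (D.obj j) := ⇑(D.map φ) ⁻¹' (U' : Set (D.obj k)) with hU
  set V : Set (D.obj j) := ⇑(D.map φ) ⁻¹' (V' : Set (D.obj k)) with hV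
  have hUo : IsOpen U := U'.2.preimage (D.map φ).continuous
  have hVo : IsOpen V := V'.2.preimage (D.map φ).continuous
  have hsU : ⇑(c.π.app j) ⁻¹' U = s := by
    rw [hU, ← Set.preimage_comp, ← comp_coe, c.w, hU's]
  have hUV : U ∩ V = ∅ := by rw [hU, hV, ← Set.preimage_inter, hinter, Set.preimage_empty]
  have hUV' : U ∪ V = Set.univ := by rw [hU, hV, ← Set.preimage_union, hunion, Set.preimage_univ]
  have hcompl : Uᶜ = V := by
    ext x
    constructor
    · intro hx
      have : x ∈ U ∪ V := by rw [hUV']; trivial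
      exact this.resolve_left hx
    · intro hx hx'
      have : x ∈ U ∩ V := ⟨hx', hx⟩
      rw [hUV] at this
      exact this
  have hclopen : IsClopen U := ⟨⟨by rw [hcompl]; exact hVo⟩, hUo⟩
  rcases isClopen_iff.1 hclopen with h0 | h1
  · apply hs0.ne_empty; rw [← hsU, h0, Set.preimage_empty]
  · apply hs1; rw [← hsU, h1, Set.preimage_univ]

end Groth.Agent.S4768
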