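import Mathlib
import Groth.Statements.S4770
import Groth.Agent.Lib.Helper9.Lim8
import Groth.Agent.Lib.Helper9.NoethConn

set_option autoImplicit false
universe u
open CategoryTheory AlgebraicGeometry
open Lim8

namespace Groth.Agent.S4770

open Groth.Agent.Helper9 Groth.Agent.Helper9.Lim8 Limits

theorem result {I : Type u} [SmallCategory I] [IsCofiltered I]
    (D : I ⥤ Scheme.{u}) (c : Limits.Cone D) (hc : Limits.IsLimit c)
    [∀ (i j : I) (f : i ⟶ j), IsAffineHom (D.map f)] (i₀ : I)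
    [CompactSpace (D.obj i₀)] [TopologicalSpace.NoetherianSpace c.pt]
    (hd : ∀ (i j : I) (φ : i ⟶ j), IsDominant (D.map φ)) :
    ∃ (i : I) (_ : i ⟶ i₀), ∀ (j : I) (_ : j ⟶ i),
      Set.BijOn (fun C : Set c.pt => closure (⇑(c.π.app j) '' (C : Set c.pt) : Set (D.obj j)))
        (Set.range (connectedComponent : c.pt → Set c.pt))
        (Set.range (connectedComponent : D.obj j → Set (D.obj j))) := by
  classical
  have hA : ∀ {i j : I} (f : i ⟶ j), IsAffineHom (D.map f) := fun f => inferInstance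
  have hdom : ∀ j : I, IsDominant (c.π.app j) := fun j =>
    isDominant_π_of_forall D c hc j (fun k φ => hd k j φ)
  set 𝒞 : Set (Set c.pt) := Set.range (connectedComponent : c.pt → Set c.pt) with h𝒞
  have hfin : 𝒞.Finite := finite_range_connectedComponent
  have : Finite 𝒞 := hfin
  have := Fintype.ofFinite 𝒞
  have hCopen : ∀ C : 𝒞, IsOpen (C : Set c.pt) := by
    rintro ⟨_, x, rfl⟩; exact isOpen_connectedComponent_of_noetherianSpace x
  have hCclosed : ∀ C : 𝒞, IsClosed (C : Set c.pt) := by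
    rintro ⟨_, x, rfl⟩; exact isClosed_connectedComponent
  have hCconn : ∀ C : 𝒞, _root_.IsConnected (C : Set c.pt) := by
    rintro ⟨_, x, rfl⟩; exact isConnected_connectedComponent
  have hCdisj : ∀ C C' : 𝒞, C ≠ C' → (C : Set c.pt) ∩ C' = ∅ := by
    rintro ⟨_, x, rfl⟩ ⟨_, y, rfl⟩ hne
    by_contra h
    obtain ⟨z, hz1, hz2⟩ := Set.nonempty_iff_ne_empty.2 h
    apply hne
    apply Subtype.ext
    change connectedComponent x = connectedComponent y
    rw [connectedComponent_eq hz1, connectedComponent_eq hz2]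
  have hCcover : ⋃ C : 𝒞, (C : Set c.pt) = Set.univ := by
    rw [Set.eq_univ_iff_forall]
    intro x
    exact Set.mem_iUnion.2 ⟨⟨connectedComponent x, x, rfl⟩, mem_connectedComponent⟩
  have h1 : ∀ C : 𝒞, ∃ (k : I) (_ : k ⟶ i₀) (V : (D.obj k).Opens),
      ⇑(c.π.app k) ⁻¹' (V : Set (D.obj k)) = (C : Set c.pt) := by
    intro C
    obtain ⟨k, b, V, -, hV⟩ := exists_preimage_eq_over D c hc i₀ ⟨C, hCopen C⟩
      (hCclosed C).isCompact
    exact ⟨k, b, V, congrArg (fun W : c.pt.Opens => (W : Set c.pt)) hV⟩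
  choose k bk V hV using h1
  obtain ⟨S, hS⟩ := IsCofiltered.inf_objs_exists (insert i₀ (Finset.univ.image k))
  have b₀ : S ⟶ i₀ := (hS (Finset.mem_insert_self _ _)).some
  have bC : ∀ C : 𝒞, S ⟶ k C := fun C =>
    (hS (Finset.mem_insert_of_mem (Finset.mem_image_of_mem k (Finset.mem_univ C)))).some
  have : CompactSpace (D.obj S) := compactSpace_of_hom D b₀
  let U : 𝒞 → (D.obj S).Opens := fun C => D.map (bC C) ⁻¹ᵁ V C
  have hU : ∀ C, ⇑(c.π.app S) ⁻¹' (U C : Set (D.obj S)) = (C : Set c.pt) := by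
    intro C
    change ⇑(c.π.app S) ⁻¹' (⇑(D.map (bC C)) ⁻¹' (V C : Set _)) = _
    rw [← Set.preimage_comp, ← comp_coe, c.w, hV]
  obtain ⟨l, φ, hl⟩ := exists_preimage_eq_univ D c hc (⨆ C, U C) (by
    rw [TopologicalSpace.Opens.coe_iSup, Set.preimage_iUnion]
    simp_rw [hU]
    exact hCcover)
  refine ⟨l, φ ≫ b₀, fun j ψ => ?_⟩
  let W : 𝒞 → Set (D.obj j) := fun C => ⇑(D.map (ψ ≫ φ)) ⁻¹' (U C : Set (D.obj S))
  have hWopen : ∀ C, IsOpen (W C) := fun C => (U C).2.preimage (D.map (ψ ≫ φ)).continuous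
  have hWpre : ∀ C, ⇑(c.π.app j) ⁻¹' W C = (C : Set c.pt) := by
    intro C
    change ⇑(c.π.app j) ⁻¹' (⇑(D.map (ψ ≫ φ)) ⁻¹' (U C : Set (D.obj S))) = _
    rw [← Set.preimage_comp, ← comp_coe, c.w, hU]
  have hWcover : ⋃ C, W C = Set.univ := by
    change ⋃ C, ⇑(D.map (ψ ≫ φ)) ⁻¹' (U C : Set (D.obj S)) = Set.univ
    rw [← Set.preimage_iUnion, ← TopologicalSpace.Opens.coe_iSup, D.map_comp, comp_coe,
      Set.preimage_comp, hl, Set.preimage_univ]
  have hWdisj : ∀ C C', C ≠ C' → W C ∩ W C' = ∅ := by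
    intro C C' hne
    have := hdom j
    refine eq_empty_of_preimage_eq_empty (c.π.app j) ((hWopen C).inter (hWopen C')) ?_
    rw [Set.preimage_inter, hWpre, hWpre, hCdisj C C' hne]
  have hWclosed : ∀ C, IsClosed (W C) := by
    intro C
    rw [← isOpen_compl_iff]
    have : (W C)ᶜ = ⋃ (C' : 𝒞) (_ : C' ≠ C), W C' := by
      ext x
      simp only [Set.mem_compl_iff, Set.mem_iUnion, exists_prop]
      constructor
      · intro hx
        have hx' : x ∈ ⋃ C, W C := by rw [hWcover]; trivial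
        obtain ⟨C', hC'⟩ := Set.mem_iUnion.1 hx'
        refine ⟨C', ?_, hC'⟩
        rintro rfl
        exact hx hC'
      · rintro ⟨C', hne, hx'⟩ hx
        have : x ∈ W C' ∩ W C := ⟨hx', hx⟩
        rw [hWdisj C' C hne] at this
        exact this
    rw [this]
    exact isOpen_iUnion fun C' => isOpen_iUnion fun _ => hWopen C'
  have hWclos : ∀ C : 𝒞, closure (⇑(c.π.app j) '' (C : Set c.pt)) = W C := by
    intro C
    apply subset_antisymm
    · refine closure_minimal ?_ (hWclosed C)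
      rintro _ ⟨z, hz, rfl⟩
      rw [← hWpre C] at hz
      exact hz
    · intro x hx
      rw [mem_closure_iff]
      intro O hO hxO
      obtain ⟨_, ⟨hy1, hy2⟩, ⟨z, rfl⟩⟩ := (dense_iff_inter_open.1 (hdom j).denseRange) _
        (hO.inter (hWopen C)) ⟨x, hxO, hx⟩
      refine ⟨_, hy1, z, ?_, rfl⟩
      rw [← hWpre C]
      exact hy2
  have hWconn : ∀ C, _root_.IsConnected (W C) := by
    intro C
    rw [← hWclos]
    exact ((hCconn C).image _ (c.π.app j).continuous.continuousOn).closure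
  have hWcomp : ∀ C, ∀ x ∈ W C, connectedComponent x = W C := by
    intro C x hx
    apply subset_antisymm
    · have hclopen : IsClopen (W C) := ⟨hWclosed C, hWopen C⟩
      exact hclopen.connectedComponent_subset hx
    · exact (hWconn C).isPreconnected.subset_connectedComponent hx
  refine ⟨?_, ?_, ?_⟩
  · rintro _ ⟨x, rfl⟩
    let C : 𝒞 := ⟨connectedComponent x, x, rfl⟩
    change closure (⇑(c.π.app j) '' (C : Set c.pt)) ∈ _
    rw [hWclos C]
    obtain ⟨y, hy⟩ := (hWconn C).nonempty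
    exact ⟨y, hWcomp C y hy⟩
  · rintro _ ⟨x, rfl⟩ _ ⟨y, rfl⟩ h
    let C : 𝒞 := ⟨connectedComponent x, x, rfl⟩
    let C' : 𝒞 := ⟨connectedComponent y, y, rfl⟩
    change closure (⇑(c.π.app j) '' (C : Set c.pt)) = closure (⇑(c.π.app j) '' (C' : Set c.pt)) at h
    rw [hWclos, hWclos] at h
    by_contra hne
    have hne' : C ≠ C' := fun h' => hne (congrArg Subtype.val h')
    have := hWdisj C C' hne'
    rw [h, Set.inter_self] at this
    exact (hWconn C').nonempty.ne_empty this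
  · rintro _ ⟨y, rfl⟩
    have : y ∈ ⋃ C, W C := by rw [hWcover]; trivial
    obtain ⟨C, hyC⟩ := Set.mem_iUnion.1 this
    refine ⟨C, C.2, ?_⟩
    change closure _ = _
    rw [hWclos C, hWcomp C y hyC]

end Groth.Agent.S4770
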