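import Mathlib
import Groth.Statements.S4771
import Groth.Agent.Lib.Helper9.Lim8

set_option autoImplicit false
universe u
open CategoryTheory AlgebraicGeometry
open Lim8

namespace Groth.Agent.S4771

open Groth.Agent.Helper9.Lim8 Limits

/-- Let S = lim S_i be a cofiltered limit of schemes whose transition maps are affine and dominant, some
stage S_{i₀} being quasi-compact, and assume that the underlying topological space of S is
Noetherian. Then S is irreducible if and only if there is an index i over i₀ such that S_j is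
irreducible for every j over i. -/
theorem result {I : Type u} [SmallCategory I] [IsCofiltered I]
    (D : I ⥤ Scheme.{u}) (c : Limits.Cone D) (hc : Limits.IsLimit c)
    [∀ (i j : I) (f : i ⟶ j), IsAffineHom (D.map f)] (i₀ : I)
    [CompactSpace (D.obj i₀)] [TopologicalSpace.NoetherianSpace c.pt]
    (hd : ∀ (i j : I) (φ : i ⟶ j), IsDominant (D.map φ)) :
    IrreducibleSpace c.pt ↔ ∃ (i : I) (_ : i ⟶ i₀), ∀ (j : I) (_ : j ⟶ i), IrreducibleSpace (D.obj j) := by
  have hA : ∀ {i j : I} (f : i ⟶ j), IsAffineHom (D.map f) := fun f => inferInstance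
  have hdom : ∀ j : I, IsDominant (c.π.app j) := fun j =>
    isDominant_π_of_forall D c hc j (fun k φ => hd k j φ)
  constructor
  · intro hirr
    refine ⟨i₀, 𝟙 _, fun j _ => ?_⟩
    have hdr : DenseRange (⇑(c.π.app j) : c.pt → D.obj j) := (hdom j).denseRange
    have h1 : IsIrreducible (Set.univ : Set c.pt) := IrreducibleSpace.isIrreducible_univ c.pt
    have h2 := (h1.image (⇑(c.π.app j) : c.pt → D.obj j)
      (c.π.app j).continuous.continuousOn).closure
    rw [Set.image_univ, hdr.closure_range] at h2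
    exact (irreducibleSpace_def _).2 h2
  · rintro ⟨i, a, h⟩
    have : CompactSpace (D.obj i) := compactSpace_of_hom D a
    have hne : Nonempty c.pt := nonempty_of_forall_over D c hc i (fun j φ => (h j φ).toNonempty)
    suffices h1 : PreirreducibleSpace c.pt from { toPreirreducibleSpace := h1, toNonempty := hne }
    refine PreirreducibleSpace.of_forall_nonempty_inter ?_
    rintro U V hU hV ⟨x, hx⟩ ⟨y, hy⟩
    obtain ⟨_, ⟨i₁, A₁, -, rfl⟩, hxA, hAU⟩ :=
      TopologicalSpace.Opens.isBasis_iff_nbhd.1 (isBasis_preimage_isAffineOpen D c hc)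
        (U := ⟨U, hU⟩) (x := x) hx
    obtain ⟨_, ⟨i₂, A₂, -, rfl⟩, hyA, hAV⟩ :=
      TopologicalSpace.Opens.isBasis_iff_nbhd.1 (isBasis_preimage_isAffineOpen D c hc)
        (U := ⟨V, hV⟩) (x := y) hy
    let k := IsCofiltered.min (IsCofiltered.min i₁ i₂) i
    have b₁ : k ⟶ i₁ := IsCofiltered.minToLeft _ _ ≫ IsCofiltered.minToLeft _ _
    have b₂ : k ⟶ i₂ := IsCofiltered.minToLeft _ _ ≫ IsCofiltered.minToRight _ _
    have b : k ⟶ i := IsCofiltered.minToRight _ _
    have := h k b
    have hne1 : (⇑(D.map b₁) ⁻¹' (A₁ : Set (D.obj i₁))).Nonempty := by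
      refine ⟨c.π.app k x, ?_⟩
      change (D.map b₁) (c.π.app k x) ∈ A₁
      rw [← Scheme.Hom.comp_apply, c.w]
      exact hxA
    have hne2 : (⇑(D.map b₂) ⁻¹' (A₂ : Set (D.obj i₂))).Nonempty := by
      refine ⟨c.π.app k y, ?_⟩
      change (D.map b₂) (c.π.app k y) ∈ A₂
      rw [← Scheme.Hom.comp_apply, c.w]
      exact hyA
    have ho1 : IsOpen (⇑(D.map b₁) ⁻¹' (A₁ : Set (D.obj i₁))) :=
      A₁.2.preimage (D.map b₁).continuous
    have ho2 : IsOpen (⇑(D.map b₂) ⁻¹' (A₂ : Set (D.obj i₂))) :=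
      A₂.2.preimage (D.map b₂).continuous
    have hne3 := nonempty_preirreducible_inter ho1 ho2 hne1 hne2
    obtain ⟨_, ⟨hz1, hz2⟩, ⟨z, rfl⟩⟩ := (dense_iff_inter_open.1 (hdom k).denseRange) _
      (ho1.inter ho2) hne3
    refine ⟨z, hAU ?_, hAV ?_⟩
    · change (c.π.app i₁) z ∈ A₁
      rw [← c.w b₁, Scheme.Hom.comp_apply]
      exact hz1
    · change (c.π.app i₂) z ∈ A₂
      rw [← c.w b₂, Scheme.Hom.comp_apply]
      exact hz2

end Groth.Agent.S4771
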