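import Mathlib
import Groth.Statements.S4772
import Groth.Agent.Lib.Helper9.Lim8

set_option autoImplicit false
universe u
open CategoryTheory AlgebraicGeometry
open Lim8

namespace Groth.Agent.S4772

open Groth.Agent.Helper9.Lim8 Limits

/-- Let S = lim S_i be a cofiltered limit of schemes whose transition maps are affine and dominant, some
stage S_{i₀} being quasi-compact. Then S is connected (in particular nonempty) if and only if there
is an index i over i₀ such that S_j is connected for every j over i. -/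
theorem result {I : Type u} [SmallCategory I] [IsCofiltered I]
    (D : I ⥤ Scheme.{u}) (c : Limits.Cone D) (hc : Limits.IsLimit c)
    [∀ (i j : I) (f : i ⟶ j), IsAffineHom (D.map f)] (i₀ : I)
    [CompactSpace (D.obj i₀)] (hd : ∀ (i j : I) (φ : i ⟶ j), IsDominant (D.map φ)) :
    ConnectedSpace c.pt ↔ ∃ (i : I) (_ : i ⟶ i₀), ∀ (j : I) (_ : j ⟶ i), ConnectedSpace (D.obj j) := by
  have hA : ∀ {i j : I} (f : i ⟶ j), IsAffineHom (D.map f) := fun f => inferInstance
  have hdom : ∀ j : I, IsDominant (c.π.app j) := fun j =>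
    isDominant_π_of_forall D c hc j (fun k φ => hd k j φ)
  constructor
  · intro hconn
    refine ⟨i₀, 𝟙 _, fun j _ => ?_⟩
    have hdr : DenseRange (⇑(c.π.app j) : c.pt → D.obj j) := (hdom j).denseRange
    have hpc : PreconnectedSpace c.pt := inferInstance
    have h1 : PreconnectedSpace (D.obj j) :=
      @DenseRange.preconnectedSpace c.pt (D.obj j) _ _ hpc _ hdr (c.π.app j).continuous
    have h2 : Nonempty (D.obj j) := ⟨c.π.app j (Classical.arbitrary c.pt)⟩
    exact { toPreconnectedSpace := h1, toNonempty := h2 }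
  · rintro ⟨i, a, h⟩
    have : CompactSpace (D.obj i) := compactSpace_of_hom D a
    have hne : Nonempty c.pt := nonempty_of_forall_over D c hc i (fun j φ => (h j φ).toNonempty)
    have : IsAffineHom (c.π.app i) := isAffineHom_π_app D c hc i
    have : CompactSpace c.pt := QuasiCompact.compactSpace_of_compactSpace (c.π.app i)
    suffices h1 : PreconnectedSpace c.pt from { toPreconnectedSpace := h1, toNonempty := hne }
    rw [preconnectedSpace_iff_clopen]
    intro s hs
    obtain ⟨k₁, a₁, V₁, -, h₁⟩ := exists_preimage_eq_over D c hc i ⟨s, hs.isOpen⟩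
      hs.isClosed.isCompact
    obtain ⟨k₂, a₂, V₂, -, h₂⟩ := exists_preimage_eq_over D c hc i ⟨sᶜ, hs.compl.isOpen⟩
      hs.compl.isClosed.isCompact
    let k := IsCofiltered.min k₁ k₂
    let b₁ : k ⟶ k₁ := IsCofiltered.minToLeft k₁ k₂
    let b₂ : k ⟶ k₂ := IsCofiltered.minToRight k₁ k₂
    have : CompactSpace (D.obj k) := compactSpace_of_hom D (b₁ ≫ a₁)
    have hU : ⇑(c.π.app k) ⁻¹' (D.map b₁ ⁻¹ᵁ V₁ : Set (D.obj k)) = s := by
      have : ⇑(c.π.app k₁) ⁻¹' (V₁ : Set (D.obj k₁)) = s :=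
        congrArg (fun U : c.pt.Opens => (U : Set c.pt)) h₁
      rw [← this, ← c.w b₁]
      rfl
    have hV : ⇑(c.π.app k) ⁻¹' (D.map b₂ ⁻¹ᵁ V₂ : Set (D.obj k)) = sᶜ := by
      have : ⇑(c.π.app k₂) ⁻¹' (V₂ : Set (D.obj k₂)) = sᶜ :=
        congrArg (fun U : c.pt.Opens => (U : Set c.pt)) h₂
      rw [← this, ← c.w b₂]
      rfl
    obtain ⟨l, φ, hl⟩ := exists_preimage_eq_univ D c hc (D.map b₁ ⁻¹ᵁ V₁ ⊔ D.map b₂ ⁻¹ᵁ V₂) (by
      rw [TopologicalSpace.Opens.coe_sup, Set.preimage_union, hU, hV, Set.union_compl_self])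
    rw [TopologicalSpace.Opens.coe_sup, Set.preimage_union] at hl
    set U' : Set (D.obj l) := ⇑(D.map φ) ⁻¹' (D.map b₁ ⁻¹ᵁ V₁ : Set (D.obj k)) with hU'
    set V' : Set (D.obj l) := ⇑(D.map φ) ⁻¹' (D.map b₂ ⁻¹ᵁ V₂ : Set (D.obj k)) with hV'
    have hU'o : IsOpen U' := (D.map b₁ ⁻¹ᵁ V₁).2.preimage (D.map φ).continuous
    have hV'o : IsOpen V' := (D.map b₂ ⁻¹ᵁ V₂).2.preimage (D.map φ).continuous
    have hsU' : ⇑(c.π.app l) ⁻¹' U' = s := by
      rw [hU', ← Set.preimage_comp, ← comp_coe, c.w, hU]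
    have hsV' : ⇑(c.π.app l) ⁻¹' V' = sᶜ := by
      rw [hV', ← Set.preimage_comp, ← comp_coe, c.w, hV]
    have hinter : U' ∩ V' = ∅ := by
      have := hdom l
      refine eq_empty_of_preimage_eq_empty (c.π.app l) (hU'o.inter hV'o) ?_
      rw [Set.preimage_inter, hsU', hsV', Set.inter_compl_self]
    have hcompl : U'ᶜ = V' := by
      ext x
      constructor
      · intro hx
        have : x ∈ U' ∪ V' := by rw [hl]; trivial
        exact this.resolve_left hx
      · intro hx hx'
        have : x ∈ U' ∩ V' := ⟨hx', hx⟩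
        rw [hinter] at this
        exact this
    have hclopen : IsClopen U' := ⟨⟨by rw [hcompl]; exact hV'o⟩, hU'o⟩
    have := h l (φ ≫ b₁ ≫ a₁)
    rcases isClopen_iff.1 hclopen with h0 | h1
    · left; rw [← hsU', h0, Set.preimage_empty]
    · right; rw [← hsU', h1, Set.preimage_univ]

end Groth.Agent.S4772
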