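import Mathlib
import Groth.Statements.S4776
import Groth.Agent.Lib.Helper9.Lim8Red
import Groth.Agent.Lib.Helper9.Lim8Flat
import Groth.Agent.S4771
import Groth.Agent.S4775

set_option autoImplicit false
universe u
open CategoryTheory AlgebraicGeometry
open Lim8

namespace Groth.Agent.S4776

theorem result {I : Type u} [SmallCategory I] [IsCofiltered I]
    (D : I ⥤ Scheme.{u}) (c : Limits.Cone D) (hc : Limits.IsLimit c)
    [∀ (i j : I) (f : i ⟶ j), IsAffineHom (D.map f)] (i₀ : I)
    [CompactSpace (D.obj i₀)] [TopologicalSpace.NoetherianSpace c.pt]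
    (hf : ∀ (i j : I) (φ : i ⟶ j), Flat (D.map φ) ∧ Surjective (D.map φ)) :
    IsIntegral c.pt ↔ ∃ (i : I) (_ : i ⟶ i₀), ∀ (j : I) (_ : j ⟶ i), IsIntegral (D.obj j) := by
  have hA : ∀ {i j : I} (f : i ⟶ j), IsAffineHom (D.map f) := fun f => inferInstance
  have hd : ∀ (i j : I) (φ : i ⟶ j), IsDominant (D.map φ) := fun i j φ =>
    have := (hf i j φ).2
    inferInstance
  have hirr := Groth.Agent.S4771.result D c hc i₀ hd
  have hred := Groth.Agent.S4775.result D c hc hf
  constructor
  · intro hint
    obtain ⟨i, a, hi⟩ := hirr.1 inferInstance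
    have hr := hred.1 inferInstance
    refine ⟨i, a, fun j φ => ?_⟩
    have := hi j φ
    have := hr j
    exact isIntegral_of_irreducibleSpace_of_isReduced _
  · rintro ⟨i, a, hi⟩
    have h1 : IrreducibleSpace c.pt := hirr.2 ⟨i, a, fun j φ => by
      have := hi j φ
      infer_instance⟩
    have h2 : IsReduced c.pt := by
      by_contra hcon
      obtain ⟨i', hi'⟩ := Groth.Agent.Helper9.Lim8.eventually_not_isReduced D c hc hcon
      have := hi _ (IsCofiltered.minToLeft i i')
      exact hi' _ (IsCofiltered.minToRight i i') inferInstance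
    exact isIntegral_of_irreducibleSpace_of_isReduced _

end Groth.Agent.S4776
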