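import Groth.Statements.S9208
import Mathlib
import Groth.Agent.H21.FPColim2
import Groth.Agent.Lib.Helper9.Lim8

set_option autoImplicit false
universe u
open CategoryTheory AlgebraicGeometry
open Lim

namespace Groth.Agent.S9208

open CategoryTheory Limits Groth.Agent.H21.FPColim in
theorem finiteType' {A B : CommRingCat.{u}} (f : A ⟶ B)
    (hsec : ∀ (J : Type u) [Preorder J] [IsDirected J (· ≤ ·)] [Nonempty J] (S : Sys f J),
      (∀ x : B, ∃ (j : J) (y : S.R j), x = S.ψ j y) →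
      (∀ (j : J) (x y : S.R j), S.ψ j x = S.ψ j y →
        ∃ (k : J) (hk : j ≤ k), S.φ hk x = S.φ hk y) →
      ∃ (j : J) (u : B ⟶ S.R j), f ≫ u = S.a j ∧ u ≫ S.ψ j = 𝟙 B) :
    f.hom.FiniteType := by
  classical
  letI : Algebra A B := f.hom.toAlgebra
  obtain ⟨s, u, hu1, hu2⟩ := hsec _ (sys1 f)
    (fun x => ⟨{x}, ⟨x, Algebra.subset_adjoin (by simp)⟩, rfl⟩)
    (fun s x y hxy => ⟨s, le_refl s, by
      have : x = y := Subtype.ext hxy
      rw [this]⟩)
  change Algebra.FiniteType A B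
  refine ⟨s, ?_⟩
  rw [eq_top_iff]
  intro b _
  have hb : b = ((u ≫ (sys1 f).ψ s) b) := by rw [hu2]; rfl
  rw [hb]
  exact (u b).2

open CategoryTheory Limits Groth.Agent.H21.FPColim in
theorem ker_fg' {A B : CommRingCat.{u}} (f : A ⟶ B) {n : ℕ}
    (π : MvPolynomial (Fin n) A →+* B) (hπ : π.comp MvPolynomial.C = f.hom)
    (hs : Function.Surjective π)
    (hsec : ∀ (J : Type u) [Preorder J] [IsDirected J (· ≤ ·)] [Nonempty J] (S : Sys f J),
      (∀ x : B, ∃ (j : J) (y : S.R j), x = S.ψ j y) →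
      (∀ (j : J) (x y : S.R j), S.ψ j x = S.ψ j y →
        ∃ (k : J) (hk : j ≤ k), S.φ hk x = S.φ hk y) →
      ∃ (j : J) (u : B ⟶ S.R j), f ≫ u = S.a j ∧ u ≫ S.ψ j = 𝟙 B) :
    (RingHom.ker π).FG := by
  classical
  obtain ⟨t, u, hu1, hu2⟩ := hsec _ (sys2 f π hπ)
    (fun x => by
      obtain ⟨p, rfl⟩ := hs x
      exact ⟨∅, Ideal.Quotient.mk _ p, rfl⟩)
    (fun t x y hxy => by
      obtain ⟨p, rfl⟩ := Ideal.Quotient.mk_surjective x
      obtain ⟨q, rfl⟩ := Ideal.Quotient.mk_surjective y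
      have hpq : p - q ∈ RingHom.ker π := by
        rw [RingHom.mem_ker, map_sub, sub_eq_zero]
        exact hxy
      refine ⟨t ∪ {⟨p - q, hpq⟩}, Finset.subset_union_left, ?_⟩
      change Ideal.Quotient.mk _ p = Ideal.Quotient.mk _ q
      rw [Ideal.Quotient.eq]
      exact mem_It π ⟨p - q, hpq⟩ (Finset.mem_union_right _ (Finset.mem_singleton_self _)))
  have hq : ∀ i : Fin n, ∃ q : MvPolynomial (Fin n) A,
      Ideal.Quotient.mk (It π t) q = u (π (MvPolynomial.X i)) :=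
    fun i => Ideal.Quotient.mk_surjective _
  choose q hq using hq
  have hu2' : ∀ b : B, (sys2 f π hπ).ψ t (u b) = b := fun b =>
    congrArg (fun g => g.hom b) hu2
  have hr : ∀ i, q i - MvPolynomial.X i ∈ RingHom.ker π := by
    intro i
    rw [RingHom.mem_ker, map_sub, sub_eq_zero]
    have e : π (q i) = ((sys2 f π hπ).ψ t) (Ideal.Quotient.mk (It π t) (q i)) := rfl
    rw [e, hq, hu2']
  obtain ⟨t', ht'⟩ : ∃ t' : Finset (RingHom.ker π),
      t' = t ∪ Finset.image (fun i => (⟨q i - MvPolynomial.X i, hr i⟩ : RingHom.ker π))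
        Finset.univ := ⟨_, rfl⟩
  have htt' : t ≤ t' := by rw [ht']; exact Finset.subset_union_left
  have key : (Ideal.Quotient.mk (It π t')) =
      ((Ideal.Quotient.factor (It_mono π htt')).comp u.hom).comp π := by
    apply MvPolynomial.ringHom_ext
    · intro a
      have e1 : π (MvPolynomial.C a) = f.hom a := congrArg (fun g => g a) hπ
      have e2 : u (f.hom a) = Ideal.Quotient.mk (It π t) (MvPolynomial.C a) :=
        congrArg (fun g => g.hom a) hu1
      simp only [RingHom.comp_apply]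
      rw [e1]
      change _ = Ideal.Quotient.factor (It_mono π htt') (u (f.hom a))
      rw [e2]
      rfl
    · intro i
      simp only [RingHom.comp_apply]
      change _ = Ideal.Quotient.factor (It_mono π htt') (u (π (MvPolynomial.X i)))
      rw [← hq]
      change Ideal.Quotient.mk _ _ = Ideal.Quotient.mk _ (q i)
      rw [eq_comm, Ideal.Quotient.eq]
      apply mem_It π ⟨q i - MvPolynomial.X i, hr i⟩
      rw [ht']
      exact Finset.mem_union_right _ (Finset.mem_image_of_mem _ (Finset.mem_univ i))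
  have hle : RingHom.ker π ≤ It π t' := by
    intro p hp
    rw [← Ideal.Quotient.eq_zero_iff_mem, key]
    simp only [RingHom.comp_apply]
    rw [RingHom.mem_ker.1 hp]
    simp
  have heq : RingHom.ker π = It π t' := le_antisymm hle (It_le π t')
  rw [heq, It]
  refine ⟨Finset.image (fun x : RingHom.ker π => (x : MvPolynomial (Fin n) A)) t', ?_⟩
  rw [Finset.coe_image]

open CategoryTheory Limits Groth.Agent.H21.FPColim in
theorem main' {A B : CommRingCat.{u}} (f : A ⟶ B)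
    (hsec : ∀ (J : Type u) [Preorder J] [IsDirected J (· ≤ ·)] [Nonempty J] (S : Sys f J),
      (∀ x : B, ∃ (j : J) (y : S.R j), x = S.ψ j y) →
      (∀ (j : J) (x y : S.R j), S.ψ j x = S.ψ j y →
        ∃ (k : J) (hk : j ≤ k), S.φ hk x = S.φ hk y) →
      ∃ (j : J) (u : B ⟶ S.R j), f ≫ u = S.a j ∧ u ≫ S.ψ j = 𝟙 B) :
    f.hom.FinitePresentation := by
  have hft := finiteType' f hsec
  letI : Algebra A B := f.hom.toAlgebra
  change Algebra.FiniteType A B at hft
  obtain ⟨n, π, hπs⟩ := Algebra.FiniteType.iff_quotient_mvPolynomial''.1 hft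
  have hπ : π.toRingHom.comp MvPolynomial.C = f.hom := by
    ext a
    exact π.commutes a
  have hfg := ker_fg' f π.toRingHom hπ hπs hsec
  change Algebra.FinitePresentation A B
  exact ⟨n, π, hπs, hfg⟩

set_option backward.defeqAttrib.useBackward true in
set_option backward.isDefEq.respectTransparency false in
open AlgebraicGeometry CategoryTheory Limits Opposite Groth.Agent.H21.FPColim in
theorem sec_of_h {X S : Scheme.{u}} (f : X ⟶ S)
    (h : ∀ (J : Type u) [Preorder J] [IsDirected J (· ≤ ·)] [Nonempty J] (D : Jᵒᵖ ⥤ Scheme.{u})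
      (t : D ⟶ (Functor.const Jᵒᵖ).obj S) (c : Limits.Cone D) (_ : Limits.IsLimit c),
      (∀ j, IsAffine (D.obj j)) → ∀ (j₀ : Jᵒᵖ) (g : c.pt ⟶ X), g ≫ f = c.π.app j₀ ≫ t.app j₀ →
        ∃ (j : Jᵒᵖ) (gj : D.obj j ⟶ X), gj ≫ f = t.app j ∧ c.π.app j ≫ gj = g)
    {U : S.Opens} (hU : IsAffineOpen U) {V : X.Opens} (hV : IsAffineOpen V) (e : V ≤ f ⁻¹ᵁ U)
    (J : Type u) [Preorder J] [IsDirected J (· ≤ ·)] [Nonempty J]
    (Sy : Sys (f.appLE U V e) J)
    (hsurj : ∀ x : Γ(X, V), ∃ (j : J) (y : Sy.R j), x = Sy.ψ j y)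
    (hinj : ∀ (j : J) (x y : Sy.R j), Sy.ψ j x = Sy.ψ j y →
      ∃ (k : J) (hk : j ≤ k), Sy.φ hk x = Sy.φ hk y) :
    ∃ (j : J) (u : Γ(X, V) ⟶ Sy.R j), f.appLE U V e ≫ u = Sy.a j ∧ u ≫ Sy.ψ j = 𝟙 _ := by
  classical
  have hcU : IsColimit Sy.c := isColimitUnder Sy.F Sy.c hsurj (fun i x y hxy => by
    obtain ⟨k, hk, e⟩ := hinj i x y hxy
    exact ⟨k, homOfLE hk, e⟩)
  haveI : IsFiltered J := inferInstance
  haveI : IsConnected J := IsFiltered.isConnected J
  have hcR : IsColimit ((Under.forget _).mapCocone Sy.c) :=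
    isColimitOfPreserves (Under.forget _) hcU
  haveI : PreservesLimitsOfSize.{u, u} Scheme.Spec :=
    ΓSpec.adjunction.rightAdjoint_preservesLimits
  obtain ⟨D, hD⟩ : ∃ D : Jᵒᵖ ⥤ Scheme.{u}, D = (Sy.F ⋙ Under.forget _).op ⋙ Scheme.Spec :=
    ⟨_, rfl⟩
  subst hD
  obtain ⟨c, hcdef⟩ : ∃ c : Cone ((Sy.F ⋙ Under.forget _).op ⋙ Scheme.Spec),
      c = Scheme.Spec.mapCone ((Under.forget _).mapCocone Sy.c).op := ⟨_, rfl⟩
  have hc : IsLimit c := by
    rw [hcdef]
    exact isLimitOfPreserves Scheme.Spec hcR.op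
  have hDmap : ∀ {a b : Jᵒᵖ} (φ : a ⟶ b),
      ((Sy.F ⋙ Under.forget _).op ⋙ Scheme.Spec).map φ = Spec.map (Sy.φ (leOfHom φ.unop)) :=
    fun φ => rfl
  let t : ((Sy.F ⋙ Under.forget _).op ⋙ Scheme.Spec) ⟶ (Functor.const Jᵒᵖ).obj S :=
    { app := fun j => Spec.map (Sy.a j.unop) ≫ hU.fromSpec
      naturality := fun j k φ => by
        rw [hDmap φ]
        show Spec.map (Sy.φ (leOfHom φ.unop)) ≫ Spec.map (Sy.a k.unop) ≫ hU.fromSpec =
          (Spec.map (Sy.a j.unop) ≫ hU.fromSpec) ≫ 𝟙 S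
        rw [Category.comp_id, ← Spec.map_comp_assoc, Sy.aφ] }
  have htapp : ∀ j : Jᵒᵖ, t.app j = Spec.map (Sy.a j.unop) ≫ hU.fromSpec := fun j => rfl
  obtain ⟨j₀⟩ : Nonempty J := inferInstance
  have hg : (show c.pt ⟶ X from (hcdef ▸ hV.fromSpec)) ≫ f = c.π.app (op j₀) ≫ t.app (op j₀) := by
    subst hcdef
    show hV.fromSpec ≫ f = Spec.map (Sy.ψ j₀) ≫ Spec.map (Sy.a j₀) ≫ hU.fromSpec
    rw [← Spec.map_comp_assoc, Sy.aψ, IsAffineOpen.SpecMap_appLE_fromSpec]
  subst hcdef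
  obtain ⟨j, gj, hgj1, hgj2⟩ := h J _ t _ hc (fun j => by
    show IsAffine (Spec (Sy.R j.unop)); infer_instance) (op j₀) hV.fromSpec hg
  haveI : CompactSpace (((Sy.F ⋙ Under.forget _).op ⋙ Scheme.Spec).obj j) := by
    show CompactSpace (Spec (Sy.R j.unop)); infer_instance
  haveI hDaff : ∀ {a b : Jᵒᵖ} (φ : a ⟶ b),
      IsAffineHom (((Sy.F ⋙ Under.forget _).op ⋙ Scheme.Spec).map φ) := fun {a b} φ => by
    haveI : IsAffine (((Sy.F ⋙ Under.forget _).op ⋙ Scheme.Spec).obj a) := by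
      show IsAffine (Spec (Sy.R a.unop)); infer_instance
    haveI : IsAffine (((Sy.F ⋙ Under.forget _).op ⋙ Scheme.Spec).obj b) := by
      show IsAffine (Spec (Sy.R b.unop)); infer_instance
    infer_instance
  have hmemV : ∀ x, hV.fromSpec x ∈ V := fun x => by
    have : hV.fromSpec x ∈ Set.range hV.fromSpec := Set.mem_range_self x
    rw [hV.range_fromSpec] at this
    exact this
  have hpre : ⇑((Scheme.Spec.mapCone ((Under.forget _).mapCocone Sy.c).op).π.app j) ⁻¹'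
      ((gj ⁻¹ᵁ V : Scheme.Opens _) : Set _) = Set.univ := by
    rw [Set.eq_univ_iff_forall]
    intro x
    show gj (((Scheme.Spec.mapCone ((Under.forget _).mapCocone Sy.c).op).π.app j) x) ∈ V
    rw [← Scheme.Hom.comp_apply, hgj2]
    exact hmemV x
  obtain ⟨j', φ, hφ⟩ := Groth.Agent.Helper9.Lim8.exists_preimage_eq_univ _ _ hc (gj ⁻¹ᵁ V) hpre
  have hrange : Set.range (((Sy.F ⋙ Under.forget _).op ⋙ Scheme.Spec).map φ ≫ gj) ⊆
      Set.range hV.fromSpec := by
    rw [hV.range_fromSpec]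
    rintro _ ⟨x, rfl⟩
    have hx : x ∈ ⇑(((Sy.F ⋙ Under.forget _).op ⋙ Scheme.Spec).map φ) ⁻¹'
        ((gj ⁻¹ᵁ V : Scheme.Opens _) : Set _) := by rw [hφ]; trivial
    rw [Scheme.Hom.comp_apply]
    exact hx
  obtain ⟨ℓ, hℓ⟩ : ∃ ℓ : Spec (Sy.R j'.unop) ⟶ Spec Γ(X, V),
      ℓ ≫ hV.fromSpec = ((Sy.F ⋙ Under.forget _).op ⋙ Scheme.Spec).map φ ≫ gj :=
    ⟨IsOpenImmersion.lift hV.fromSpec _ hrange, IsOpenImmersion.lift_fac _ _ _⟩
  obtain ⟨u, hu⟩ : ∃ u : Γ(X, V) ⟶ Sy.R j'.unop, Spec.map u = ℓ :=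
    ⟨Spec.preimage ℓ, Spec.map_preimage ℓ⟩
  refine ⟨j'.unop, u, ?_, ?_⟩
  · apply Spec.map_injective
    rw [Spec.map_comp, hu, ← cancel_mono hU.fromSpec, Category.assoc,
      IsAffineOpen.SpecMap_appLE_fromSpec f hU hV e, reassoc_of% hℓ, hgj1]
    exact (t.naturality φ).trans (Category.comp_id _)
  · apply Spec.map_injective
    rw [Spec.map_comp, Spec.map_id, hu, ← cancel_mono hV.fromSpec, Category.assoc, hℓ,
      Category.id_comp, ← hgj2, ← Category.assoc]
    congr 1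
    exact (Scheme.Spec.mapCone ((Under.forget _).mapCocone Sy.c).op).w φ


/-- Let f : X → S be a morphism of schemes. Suppose that for every inverse system (T_j) of affine
schemes over S indexed by a nonempty directed preordered set, with limit T, the canonical map
colim_j Mor_S(T_j, X) → Mor_S(T, X) is surjective: every S-morphism T → X is the composite of the
projection T → T_j with an S-morphism T_j → X for some j. Then f is locally of finite presentation
(surjectivity alone suffices; bijectivity is not required). -/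
theorem result {X S : Scheme.{u}} (f : X ⟶ S)
    (h : ∀ (J : Type u) [Preorder J] [IsDirected J (· ≤ ·)] [Nonempty J] (D : Jᵒᵖ ⥤ Scheme.{u})
      (t : D ⟶ (Functor.const Jᵒᵖ).obj S) (c : Limits.Cone D) (_ : Limits.IsLimit c),
      (∀ j, IsAffine (D.obj j)) → ∀ (j₀ : Jᵒᵖ) (g : c.pt ⟶ X), g ≫ f = c.π.app j₀ ≫ t.app j₀ →
        ∃ (j : Jᵒᵖ) (gj : D.obj j ⟶ X), gj ≫ f = t.app j ∧ c.π.app j ≫ gj = g) :
    LocallyOfFinitePresentation f := by
  rw [HasRingHomProperty.iff_appLE (P := @LocallyOfFinitePresentation)]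
  intro U V e
  exact main' (f.appLE U V e) (fun J _ _ _ Sy hsurj hinj =>
    sec_of_h f h U.2 V.2 e J Sy hsurj hinj)

end Groth.Agent.S9208
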