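import Groth.Statements.S4778
import Mathlib
import Groth.Agent.H21.FPColim2
import Groth.Agent.Lib.Helper9.Lim8
import Groth.Agent.S9208

set_option autoImplicit false
universe u
open CategoryTheory AlgebraicGeometry
open Lim8

namespace Groth.Agent.S4778

set_option backward.defeqAttrib.useBackward true in
set_option backward.isDefEq.respectTransparency false in
open AlgebraicGeometry CategoryTheory Limits Opposite Groth.Agent.H21.FPColim in
theorem sec_of_h2 {X S : Scheme.{u}} (f : X ⟶ S)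
    (h : ∀ (U : S.Opens), IsAffineOpen U →
      ∀ (J : Type u) [Preorder J] [IsDirected J (· ≤ ·)] [Nonempty J]
        (Z : Jᵒᵖ ⥤ Over (U : Scheme.{u})),
      (∀ j, IsAffine (Z.obj j).left) →
      Limits.PreservesColimit (Z ⋙ Over.map U.ι).op (yoneda.obj (Over.mk f)))
    {U : S.Opens} (hU : IsAffineOpen U) {V : X.Opens} (hV : IsAffineOpen V) (e : V ≤ f ⁻¹ᵁ U)
    (J : Type u) [Preorder J] [IsDirected J (· ≤ ·)] [Nonempty J]
    (Sy : Sys (f.appLE U V e) J)
    (hsurj : ∀ x : Γ(X, V), ∃ (j : J) (y : Sy.R j), x = Sy.ψ j y)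
    (hinj : ∀ (j : J) (x y : Sy.R j), Sy.ψ j x = Sy.ψ j y →
      ∃ (k : J) (hk : j ≤ k), Sy.φ hk x = Sy.φ hk y) :
    ∃ (j : J) (u : Γ(X, V) ⟶ Sy.R j), f.appLE U V e ≫ u = Sy.a j ∧ u ≫ Sy.ψ j = 𝟙 _ := by
  classical
  have hcU : IsColimit Sy.c := isColimitUnder Sy.F Sy.c hsurj (fun i x y hxy => by
    obtain ⟨k, hk, e⟩ := hinj i x y hxy
    exact ⟨k, homOfLE hk, e⟩)
  haveI : IsFiltered J := inferInstance
  haveI : IsConnected J := IsFiltered.isConnected J
  have hcR : IsColimit ((Under.forget _).mapCocone Sy.c) :=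
    isColimitOfPreserves (Under.forget _) hcU
  haveI : PreservesLimitsOfSize.{u, u} Scheme.Spec :=
    ΓSpec.adjunction.rightAdjoint_preservesLimits
  have hc : IsLimit (Scheme.Spec.mapCone ((Under.forget _).mapCocone Sy.c).op) :=
    isLimitOfPreserves Scheme.Spec hcR.op
  have hDmap : ∀ {a b : Jᵒᵖ} (φ : a ⟶ b),
      ((Sy.F ⋙ Under.forget _).op ⋙ Scheme.Spec).map φ = Spec.map (Sy.φ (leOfHom φ.unop)) :=
    fun φ => rfl
  obtain ⟨j₀⟩ : Nonempty J := inferInstance
  have hsq : ∀ j : J, Spec.map (Sy.ψ j) ≫ Spec.map (Sy.a j) ≫ hU.fromSpec = hV.fromSpec ≫ f :=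
    fun j => by
      rw [← Spec.map_comp_assoc, Sy.aψ, IsAffineOpen.SpecMap_appLE_fromSpec]
  -- the diagram over U
  let Zd : Jᵒᵖ ⥤ Over (U : Scheme.{u}) :=
    { obj := fun j => Over.mk (Spec.map (Sy.a j.unop) ≫ hU.isoSpec.inv)
      map := fun {j k} φ => Over.homMk (Spec.map (Sy.φ (leOfHom φ.unop))) (by
        show Spec.map (Sy.φ (leOfHom φ.unop)) ≫ Spec.map (Sy.a k.unop) ≫ hU.isoSpec.inv =
          Spec.map (Sy.a j.unop) ≫ hU.isoSpec.inv
        rw [← Spec.map_comp_assoc, Sy.aφ])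
      map_id := fun j => by
        apply Over.OverMorphism.ext
        show Spec.map (Sy.φ (leOfHom (𝟙 j : j ⟶ j).unop)) = 𝟙 _
        have h1 : Sy.φ (leOfHom (𝟙 j : j ⟶ j).unop) = 𝟙 _ := Sy.φ_id _
        rw [h1, Spec.map_id]
      map_comp := fun {j k l} φ ψ => by
        apply Over.OverMorphism.ext
        show Spec.map (Sy.φ (leOfHom (φ ≫ ψ).unop)) =
          Spec.map (Sy.φ (leOfHom φ.unop)) ≫ Spec.map (Sy.φ (leOfHom ψ.unop))
        rw [← Spec.map_comp, Sy.φ_comp] }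
  have hfromSpec : hU.fromSpec = hU.isoSpec.inv ≫ U.ι := rfl
  let cO : Cone (Zd ⋙ Over.map U.ι) :=
    { pt := Over.mk (hV.fromSpec ≫ f)
      π :=
        { app := fun j => Over.homMk (Spec.map (Sy.ψ j.unop)) (by
            show Spec.map (Sy.ψ j.unop) ≫ (Spec.map (Sy.a j.unop) ≫ hU.isoSpec.inv) ≫ U.ι =
              hV.fromSpec ≫ f
            rw [Category.assoc, ← hfromSpec]
            exact hsq j.unop)
          naturality := fun j k φ => by
            apply Over.OverMorphism.ext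
            show 𝟙 _ ≫ Spec.map (Sy.ψ k.unop) =
              Spec.map (Sy.ψ j.unop) ≫ Spec.map (Sy.φ (leOfHom φ.unop))
            rw [Category.id_comp, ← Spec.map_comp, Sy.φψ] } }
  let mkCone : Cone (Zd ⋙ Over.map U.ι) →
      Cone ((Sy.F ⋙ Under.forget _).op ⋙ Scheme.Spec) := fun s =>
    ⟨s.pt.left,
      { app := fun j => (s.π.app j).left
        naturality := fun j k φ => congrArg CommaMorphism.left (s.π.naturality φ) }⟩
  have hcO : IsLimit cO :=
    { lift := fun s => Over.homMk (hc.lift (mkCone s)) (by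
          show hc.lift (mkCone s) ≫ hV.fromSpec ≫ f = s.pt.hom
          rw [← hsq j₀]
          have h1 : hc.lift (mkCone s) ≫ Spec.map (Sy.ψ j₀) = (s.π.app (op j₀)).left :=
            hc.fac (mkCone s) (op j₀)
          have h2 : (s.π.app (op j₀)).left ≫ (Spec.map (Sy.a j₀) ≫ hU.isoSpec.inv) ≫ U.ι =
            s.pt.hom := Over.w (s.π.app (op j₀))
          rw [← h2, Category.assoc, ← hfromSpec, ← h1, Category.assoc])
      fac := fun s j => by
        apply Over.OverMorphism.ext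
        exact hc.fac (mkCone s) j
      uniq := fun s m hm => by
        apply Over.OverMorphism.ext
        exact hc.uniq (mkCone s) m.left (fun j => congrArg CommaMorphism.left (hm j)) }
  have hP := h U hU J Zd (fun j => by
    show IsAffine (Spec (Sy.R j.unop)); infer_instance)
  have hcol' := isColimitOfPreserves (yoneda.obj (Over.mk f)) hcO.op
  obtain ⟨jj, gjO, hgjO⟩ := Types.jointly_surjective_of_isColimit hcol'
    (Over.homMk hV.fromSpec rfl : cO.pt ⟶ Over.mk f)
  obtain ⟨j, hjj⟩ : ∃ j : Jᵒᵖ, j = jj.unop := ⟨_, rfl⟩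
  obtain ⟨gj, hgj1, hgj2⟩ : ∃ gj : Spec (Sy.R j.unop) ⟶ X,
      gj ≫ f = Spec.map (Sy.a j.unop) ≫ hU.fromSpec ∧
      Spec.map (Sy.ψ j.unop) ≫ gj = hV.fromSpec := by
    subst hjj
    refine ⟨gjO.left, ?_, ?_⟩
    · have := Over.w gjO
      rw [hfromSpec, ← Category.assoc]
      exact this
    · exact congrArg CommaMorphism.left hgjO
  haveI : CompactSpace (((Sy.F ⋙ Under.forget _).op ⋙ Scheme.Spec).obj j) := by
    show CompactSpace (Spec (Sy.R j.unop)); infer_instance
  haveI hDaff : ∀ {a b : Jᵒᵖ} (φ : a ⟶ b),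
      IsAffineHom (((Sy.F ⋙ Under.forget _).op ⋙ Scheme.Spec).map φ) := fun {a b} φ => by
    haveI : IsAffine (((Sy.F ⋙ Under.forget _).op ⋙ Scheme.Spec).obj a) := by
      show IsAffine (Spec (Sy.R a.unop)); infer_instance
    haveI : IsAffine (((Sy.F ⋙ Under.forget _).op ⋙ Scheme.Spec).obj b) := by
      show IsAffine (Spec (Sy.R b.unop)); infer_instance
    infer_instance
  have hmemV : ∀ x, hV.fromSpec x ∈ V := fun x => by
    have : hV.fromSpec x ∈ Set.range hV.fromSpec := Set.mem_range_self x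
    rw [hV.range_fromSpec] at this
    exact this
  obtain ⟨gj', hgj'⟩ : ∃ gj' : ((Sy.F ⋙ Under.forget _).op ⋙ Scheme.Spec).obj j ⟶ X,
      gj' = gj := ⟨gj, rfl⟩
  have hgj2' : (Scheme.Spec.mapCone ((Under.forget _).mapCocone Sy.c).op).π.app j ≫ gj' =
      hV.fromSpec := by rw [hgj']; exact hgj2
  have hpre : ⇑((Scheme.Spec.mapCone ((Under.forget _).mapCocone Sy.c).op).π.app j) ⁻¹'
      ((gj' ⁻¹ᵁ V : Scheme.Opens _) : Set _) = Set.univ := by
    rw [Set.eq_univ_iff_forall]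
    intro x
    show gj' (((Scheme.Spec.mapCone ((Under.forget _).mapCocone Sy.c).op).π.app j) x) ∈ V
    rw [← Scheme.Hom.comp_apply, hgj2']
    exact hmemV x
  obtain ⟨j', φ, hφ⟩ := Groth.Agent.Helper9.Lim8.exists_preimage_eq_univ _ _ hc (gj' ⁻¹ᵁ V) hpre
  have hrange : Set.range (((Sy.F ⋙ Under.forget _).op ⋙ Scheme.Spec).map φ ≫ gj') ⊆
      Set.range hV.fromSpec := by
    rw [hV.range_fromSpec]
    rintro _ ⟨x, rfl⟩
    have hx : x ∈ ⇑(((Sy.F ⋙ Under.forget _).op ⋙ Scheme.Spec).map φ) ⁻¹'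
        ((gj' ⁻¹ᵁ V : Scheme.Opens _) : Set _) := by rw [hφ]; trivial
    rw [Scheme.Hom.comp_apply]
    exact hx
  obtain ⟨ℓ, hℓ⟩ : ∃ ℓ : Spec (Sy.R j'.unop) ⟶ Spec Γ(X, V),
      ℓ ≫ hV.fromSpec = ((Sy.F ⋙ Under.forget _).op ⋙ Scheme.Spec).map φ ≫ gj' :=
    ⟨IsOpenImmersion.lift hV.fromSpec _ hrange, IsOpenImmersion.lift_fac _ _ _⟩
  obtain ⟨u, hu⟩ : ∃ u : Γ(X, V) ⟶ Sy.R j'.unop, Spec.map u = ℓ :=
    ⟨Spec.preimage ℓ, Spec.map_preimage ℓ⟩
  refine ⟨j'.unop, u, ?_, ?_⟩
  · apply Spec.map_injective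
    rw [Spec.map_comp, hu, ← cancel_mono hU.fromSpec, Category.assoc,
      IsAffineOpen.SpecMap_appLE_fromSpec f hU hV e, reassoc_of% hℓ, hgj', hgj1]
    show Spec.map (Sy.φ (leOfHom φ.unop)) ≫ Spec.map (Sy.a j.unop) ≫ hU.fromSpec = _
    rw [← Spec.map_comp_assoc, Sy.aφ]
  · apply Spec.map_injective
    rw [Spec.map_comp, Spec.map_id, hu, ← cancel_mono hV.fromSpec, Category.assoc, hℓ,
      Category.id_comp, ← hgj2', ← Category.assoc]
    congr 1
    exact (Scheme.Spec.mapCone ((Under.forget _).mapCocone Sy.c).op).w φ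


/-- Let f : X ⟶ S be a morphism of schemes. Suppose that for every affine open U of S and every
projective system (Z_λ) of U-schemes indexed by a nonempty directed preordered set, with every Z_λ
an affine scheme, the functor Hom_S(-, X) takes the limit of the system to the colimit of the
Hom_S(Z_λ, X) (the canonical map from the colimit is bijective). Then f is locally of finite
presentation. -/
theorem result {X S : Scheme.{u}} (f : X ⟶ S)
    (h : ∀ (U : S.Opens), IsAffineOpen U →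
      ∀ (J : Type u) [Preorder J] [IsDirected J (· ≤ ·)] [Nonempty J] (Z : Jᵒᵖ ⥤ Over (U : Scheme.{u})),
      (∀ j, IsAffine (Z.obj j).left) →
      Limits.PreservesColimit (Z ⋙ Over.map U.ι).op (yoneda.obj (Over.mk f))) :
    LocallyOfFinitePresentation f := by
  rw [HasRingHomProperty.iff_appLE (P := @LocallyOfFinitePresentation)]
  intro U V e
  exact Groth.Agent.S9208.main' (f.appLE U V e) (fun J _ _ _ Sy hsurj hinj =>
    sec_of_h2 f h U.2 V.2 e J Sy hsurj hinj)

end Groth.Agent.S4778
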