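import Mathlib
import Groth.Statements.S4779
import Groth.Agent.Lib.Helper9.Lim8

set_option autoImplicit false
universe u
open CategoryTheory AlgebraicGeometry
open Lim8

namespace Groth.Agent.S4779

open Limits Groth.Agent.Helper9.Lim8

set_option backward.isDefEq.respectTransparency false in
theorem result {I : Type u} [SmallCategory I] [IsCofiltered I]
    (D : I ⥤ Scheme.{u}) (c : Limits.Cone D) (hc : Limits.IsLimit c)
    [∀ (i j : I) (f : i ⟶ j), IsAffineHom (D.map f)] (i₀ : I)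
    {X₀ Y₀ : Scheme.{u}} (f₀ : X₀ ⟶ Y₀) (g₀ : Y₀ ⟶ D.obj i₀)
    {X Y : Scheme.{u}} (f : X ⟶ Y) (g : Y ⟶ c.pt) (qY : Y ⟶ Y₀) (qX : X ⟶ X₀)
    (hY : IsPullback qY g g₀ (c.π.app i₀)) (hX : IsPullback qX f f₀ qY)
    (h : ∃ (i : I) (φ : i ⟶ i₀), ∀ (j : I) (ψ : j ⟶ i) (Xj Yj : Scheme.{u}) (fj : Xj ⟶ Yj)
      (gj : Yj ⟶ D.obj j) (pY : Yj ⟶ Y₀) (pX : Xj ⟶ X₀),
      IsPullback pY gj g₀ (D.map (ψ ≫ φ)) → IsPullback pX fj f₀ pY → IsOpenMap ⇑fj) :
    IsOpenMap ⇑f := by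
  have hA : ∀ {i j : I} (f : i ⟶ j), IsAffineHom (D.map f) := fun f => inferInstance
  obtain ⟨i, φ, h⟩ := h
  have hbig : IsPullback qX (f ≫ g) (f₀ ≫ g₀) (c.π.app i₀) := hX.paste_vert hY
  let e := hbig.flip.isoPullback
  have he1 : e.inv ≫ (f ≫ g) = pullback.fst (c.π.app i₀) (f₀ ≫ g₀) := hbig.flip.isoPullback_inv_fst
  have he2 : e.inv ≫ qX = pullback.snd (c.π.app i₀) (f₀ ≫ g₀) := hbig.flip.isoPullback_inv_snd
  -- the map from the limit
  let F : pullback (c.π.app i₀) (f₀ ≫ g₀) ⟶ Y := e.inv ≫ f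
  have hF : IsOpenMap ⇑F := by
    refine isOpenMap_of_forall_image_preimage (bcDiagram D (f₀ ≫ g₀)) (bcCone D c (f₀ ≫ g₀))
      (bcIsLimit D c hc (f₀ ≫ g₀)) (⇑F) ?_
    intro j
    obtain ⟨k, a, b, hab⟩ := IsCofiltered.cospan j.hom φ
    let k' : Over i₀ := Over.mk (b ≫ φ)
    let α : k' ⟶ j := Over.homMk a hab
    refine ⟨k', α, ?_⟩
    -- the stage `k`
    let fj : pullback (D.map k'.hom) (f₀ ≫ g₀) ⟶ pullback (D.map k'.hom) g₀ :=
      pullback.lift (pullback.fst _ _) (pullback.snd _ _ ≫ f₀) (by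
        rw [pullback.condition, Category.assoc])
    have hfj1 : fj ≫ pullback.fst _ _ = pullback.fst _ _ := pullback.lift_fst _ _ _
    have hfj2 : fj ≫ pullback.snd _ _ = pullback.snd _ _ ≫ f₀ := pullback.lift_snd _ _ _
    have sqY : IsPullback (pullback.snd (D.map k'.hom) g₀) (pullback.fst (D.map k'.hom) g₀) g₀
        (D.map (b ≫ φ)) := (IsPullback.of_hasPullback (D.map k'.hom) g₀).flip
    have sqXbig : IsPullback (pullback.snd (D.map k'.hom) (f₀ ≫ g₀))
        (fj ≫ pullback.fst (D.map k'.hom) g₀) (f₀ ≫ g₀) (D.map (b ≫ φ)) := by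
      rw [hfj1]
      exact (IsPullback.of_hasPullback (D.map k'.hom) (f₀ ≫ g₀)).flip
    have sqX : IsPullback (pullback.snd (D.map k'.hom) (f₀ ≫ g₀)) fj f₀
        (pullback.snd (D.map k'.hom) g₀) := IsPullback.of_bot sqXbig hfj2.symm sqY
    have hopen : IsOpenMap ⇑fj := h k b _ _ fj _ _ _ sqY sqX
    -- the map `Y ⟶ Y_k`
    let qYk : Y ⟶ pullback (D.map k'.hom) g₀ :=
      pullback.lift (g ≫ c.π.app k) qY (by
        rw [Category.assoc]
        have : c.π.app k ≫ D.map k'.hom = c.π.app i₀ := c.w (b ≫ φ)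
        rw [this, hY.w])
    have hq1 : qYk ≫ pullback.fst _ _ = g ≫ c.π.app k := pullback.lift_fst _ _ _
    have hq2 : qYk ≫ pullback.snd _ _ = qY := pullback.lift_snd _ _ _
    have sqYk : IsPullback qYk g (pullback.fst (D.map k'.hom) g₀) (c.π.app k) := by
      refine IsPullback.of_right ?_ hq1 sqY
      rw [hq2]
      have : c.π.app k ≫ D.map (b ≫ φ) = c.π.app i₀ := c.w (b ≫ φ)
      rw [this]
      exact hY
    have hcomm : (bcCone D c (f₀ ≫ g₀)).π.app k' ≫ fj = F ≫ qYk := by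
      apply pullback.hom_ext
      · rw [Category.assoc, hfj1, Category.assoc, hq1, bcCone_π_fst]
        change _ = (e.inv ≫ f) ≫ g ≫ c.π.app k
        rw [← he1]
        simp only [Category.assoc]
        rfl
      · rw [Category.assoc, hfj2, Category.assoc, hq2, bcCone_π_snd_assoc]
        change _ = (e.inv ≫ f) ≫ qY
        rw [← he2, Category.assoc, Category.assoc, hX.w]
    have sqTop : IsPullback ((bcCone D c (f₀ ≫ g₀)).π.app k') F fj qYk := by
      refine IsPullback.of_bot ?_ hcomm sqYk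
      have h1 : F ≫ g = pullback.fst (c.π.app i₀) (f₀ ≫ g₀) := by
        change (e.inv ≫ f) ≫ g = _
        rw [Category.assoc, he1]
      rw [h1, hfj1]
      exact bcCone_isPullback D c (f₀ ≫ g₀) k'
    intro U hU
    have := Scheme.image_preimage_eq_of_isPullback sqTop U
    change ⇑F '' (⇑((bcCone D c (f₀ ≫ g₀)).π.app k') ⁻¹' U) = ⇑qYk ⁻¹' (⇑fj '' U) at this
    rw [this]
    exact (hopen U hU).preimage qYk.continuous
  have hf : f = e.hom ≫ F := by
    change f = e.hom ≫ e.inv ≫ f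
    rw [Iso.hom_inv_id_assoc]
  rw [hf]
  have h4 : IsOpenMap ⇑(e.hom) := (e.hom).isOpenEmbedding.isOpenMap
  simp only [Scheme.Hom.comp_base, TopCat.hom_comp, ContinuousMap.coe_comp]
  exact hF.comp h4

end Groth.Agent.S4779
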