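import Mathlib
import Groth.Statements.S4782
import Groth.Agent.Lib.Helper9.Lim8OpenImm
import Groth.Agent.Lib.Helper9.Lim8Red
import Groth.Agent.Lib.Helper9.ReducedLocus

set_option autoImplicit false
universe u
open CategoryTheory AlgebraicGeometry
open Lim8

namespace Groth.Agent.S4782

open Groth.Agent.Helper9 Groth.Agent.Helper9.Lim8

theorem isReduced_stalk_of_isIso {X Y : Scheme.{u}} (f : X ⟶ Y) (x : X)
    (hiso : IsIso (f.stalkMap x)) (h : _root_.IsReduced (X.presheaf.stalk x)) :
    _root_.IsReduced (Y.presheaf.stalk (f x)) :=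
  isReduced_of_injective (f.stalkMap x).hom (ConcreteCategory.bijective_of_isIso (f.stalkMap x)).1

theorem isReduced_stalk_of_isIso' {X Y : Scheme.{u}} (f : X ⟶ Y) (x : X)
    (hiso : IsIso (f.stalkMap x)) (h : _root_.IsReduced (Y.presheaf.stalk (f x))) :
    _root_.IsReduced (X.presheaf.stalk x) :=
  isReduced_of_injective (inv (f.stalkMap x)).hom
    (ConcreteCategory.bijective_of_isIso (inv (f.stalkMap x))).1

theorem result {I : Type u} [SmallCategory I] [IsCofiltered I]
    (D : I ⥤ Scheme.{u}) (c : Limits.Cone D) (hc : Limits.IsLimit c)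
    [∀ (i j : I) (f : i ⟶ j), IsAffineHom (D.map f)] (i₀ : I)
    [CompactSpace (D.obj i₀)] (hoi : ∀ (i j : I) (φ : i ⟶ j), IsOpenImmersion (D.map φ))
    (hN : ∀ U : (D.obj i₀).affineOpens, (nilradical Γ(D.obj i₀, U)).FG) :
    IsReduced c.pt ↔ ∃ (i : I) (_ : i ⟶ i₀), ∀ (j : I) (_ : j ⟶ i), IsReduced (D.obj j) := by
  have hA : ∀ {i j : I} (f : i ⟶ j), IsAffineHom (D.map f) := fun f => inferInstance
  constructor
  · intro hred
    have hopen := isOpen_setOf_isReduced_stalk (D.obj i₀) hN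
    let W : (D.obj i₀).Opens := ⟨_, hopen⟩
    have hW : ⇑(c.π.app i₀) ⁻¹' (W : Set (D.obj i₀)) = Set.univ := by
      rw [Set.eq_univ_iff_forall]
      intro s
      have hiso := isIso_stalkMap_π_of_isOpenImmersion D c hc i₀ (fun j φ => hoi j i₀ φ) s
      have hs : _root_.IsReduced (c.pt.presheaf.stalk s) := inferInstance
      exact isReduced_stalk_of_isIso (X := c.pt) (Y := D.obj i₀) (c.π.app i₀) s hiso hs
    obtain ⟨j, φ, hj⟩ := exists_preimage_eq_univ D c hc W hW
    refine ⟨j, φ, fun j' ψ => ?_⟩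
    have hoi' := hoi j' i₀ (ψ ≫ φ)
    have : ∀ z : D.obj j', _root_.IsReduced ((D.obj j').presheaf.stalk z) := by
      intro z
      have hz : D.map ψ z ∈ ⇑(D.map φ) ⁻¹' (W : Set (D.obj i₀)) := by
        rw [hj]; trivial
      have hz' : _root_.IsReduced ((D.obj i₀).presheaf.stalk (D.map (ψ ≫ φ) z)) := by
        have : D.map (ψ ≫ φ) z = D.map φ (D.map ψ z) := by
          rw [D.map_comp, Scheme.Hom.comp_apply]
        rw [this]
        exact hz
      have hiso : IsIso ((D.map (ψ ≫ φ)).stalkMap z) := inferInstance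
      exact isReduced_stalk_of_isIso' (D.map (ψ ≫ φ)) z hiso hz'
    exact isReduced_of_isReduced_stalk _
  · rintro ⟨i, a, h⟩
    by_contra hcon
    obtain ⟨i', hi'⟩ := eventually_not_isReduced D c hc hcon
    exact hi' _ (IsCofiltered.minToRight i i') (h _ (IsCofiltered.minToLeft i i'))

end Groth.Agent.S4782
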