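import Mathlib
import Groth.Statements.S4783
import Groth.Agent.Lib.Helper9.Lim8OpenImm
import Groth.Agent.Lib.Helper9.Lim8Red
import Groth.Agent.S4782

set_option autoImplicit false
universe u
open CategoryTheory AlgebraicGeometry
open Lim8

namespace Groth.Agent.S4783

open Groth.Agent.Helper9 Groth.Agent.Helper9.Lim8 Limits TopologicalSpace

section
variable {I : Type u} [SmallCategory I] [IsCofiltered I]
  (D : I ⥤ Scheme.{u}) (c : Limits.Cone D) (hc : Limits.IsLimit c)

include hc in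
/-- The image of the projection is stable under generization when the transition maps are open
immersions. -/
theorem mem_range_π_of_specializes [∀ {i j : I} (f : i ⟶ j), IsAffineHom (D.map f)] (i : I)
    (hoi : ∀ (j : I) (φ : j ⟶ i), IsOpenImmersion (D.map φ)) {z y : D.obj i} (hzy : z ⤳ y)
    (hy : y ∈ Set.range ⇑(c.π.app i)) : z ∈ Set.range ⇑(c.π.app i) := by
  rw [range_π_eq D c hc i] at hy ⊢
  simp only [Set.mem_iInter] at hy ⊢
  intro j φ
  have := hoi j φ
  exact hzy.mem_open (D.map φ).isOpenEmbedding.isOpen_range (hy j φ)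

include hc in
/-- If `S` is irreducible then eventually the stages are irreducible (Noetherian stage `i₀`,
open immersions as transition maps). -/
theorem eventually_irreducible [∀ {i j : I} (f : i ⟶ j), IsAffineHom (D.map f)] (i₀ : I)
    [NoetherianSpace (D.obj i₀)]
    (hoi : ∀ (i j : I) (φ : i ⟶ j), IsOpenImmersion (D.map φ)) (hirr : IrreducibleSpace c.pt) :
    ∃ (i : I) (_ : i ⟶ i₀), ∀ (j : I) (_ : j ⟶ i), IrreducibleSpace (D.obj j) := by
  have hT : IsIrreducible (closure (Set.range ⇑(c.π.app i₀))) := by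
    have h1 : IsIrreducible (Set.univ : Set c.pt) := IrreducibleSpace.isIrreducible_univ c.pt
    have h2 := (h1.image (⇑(c.π.app i₀) : c.pt → D.obj i₀)
      (c.π.app i₀).continuous.continuousOn).closure
    rwa [Set.image_univ] at h2
  obtain ⟨Z, hZpre, hTZ, hZmax⟩ := exists_preirreducible _ hT.2
  have hZirr : IsIrreducible Z := ⟨hT.1.mono hTZ, hZpre⟩
  have hZcomp : Z ∈ irreducibleComponents (D.obj i₀) := by
    refine ⟨hZirr, ?_⟩
    intro u hu hZu
    exact (hZmax u hu.2 hZu).le
  have hfin : (irreducibleComponents (D.obj i₀)).Finite :=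
    NoetherianSpace.finite_irreducibleComponents
  set F : Set (D.obj i₀) := ⋃₀ (irreducibleComponents (D.obj i₀) \ {Z}) with hF
  have hFclosed : IsClosed F := by
    rw [hF, Set.sUnion_eq_biUnion]
    refine Set.Finite.isClosed_biUnion (hfin.subset Set.sdiff_subset) ?_
    intro Z' hZ'
    exact isClosed_of_mem_irreducibleComponents _ hZ'.1
  have hFZ : Fᶜ ⊆ Z := by
    intro x hx
    have hx' : x ∈ ⋃₀ irreducibleComponents (D.obj i₀) := by
      rw [sUnion_irreducibleComponents]; trivial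
    obtain ⟨Z', hZ', hxZ'⟩ := Set.mem_sUnion.1 hx'
    by_cases h : Z' = Z
    · rw [← h]; exact hxZ'
    · have hxF : x ∈ F := Set.mem_sUnion.2 ⟨Z', ⟨hZ', h⟩, hxZ'⟩
      exact absurd hxF hx
  have hdisj : ⇑(c.π.app i₀) ⁻¹' Fᶜ = Set.univ := by
    rw [Set.eq_univ_iff_forall]
    intro s hs
    obtain ⟨Z', ⟨hZ', hne⟩, hsZ'⟩ := Set.mem_sUnion.1 hs
    have hZ'closed := isClosed_of_mem_irreducibleComponents _ hZ'
    have hgen := hZ'.1.isGenericPoint_genericPoint hZ'closed
    have hspec : hZ'.1.genericPoint ⤳ c.π.app i₀ s := hgen.specializes hsZ'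
    have hmem := mem_range_π_of_specializes D c hc i₀ (fun j φ => hoi j i₀ φ) hspec ⟨s, rfl⟩
    have hsub : Z' ⊆ Z := by
      rw [← hgen.def]
      exact (closure_minimal (Set.singleton_subset_iff.2 (subset_closure hmem))
        isClosed_closure).trans hTZ
    exact hne (subset_antisymm hsub (hZ'.2 hZirr hsub))
  obtain ⟨l, φ, hl⟩ := exists_preimage_eq_univ D c hc ⟨Fᶜ, hFclosed.isOpen_compl⟩ hdisj
  refine ⟨l, φ, fun j ψ => ?_⟩
  have := hoi j i₀ (ψ ≫ φ)
  have hpre : ⇑(D.map (ψ ≫ φ)) ⁻¹' Z = Set.univ := by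
    rw [Set.eq_univ_iff_forall]
    intro x
    apply hFZ
    have : D.map ψ x ∈ ⇑(D.map φ) ⁻¹' Fᶜ := by
      have h3 : ⇑(D.map φ) ⁻¹' Fᶜ = Set.univ := hl
      rw [h3]; trivial
    have h4 : D.map (ψ ≫ φ) x = D.map φ (D.map ψ x) := by
      rw [D.map_comp, Scheme.Hom.comp_apply]
    rw [Set.mem_preimage, h4] at *
    exact this
  have hpi : PreirreducibleSpace (D.obj j) := by
    refine ⟨?_⟩
    rw [← hpre]
    exact hZpre.preimage (D.map (ψ ≫ φ)).isOpenEmbedding
  have hne : Nonempty (D.obj j) := ⟨c.π.app j (Classical.arbitrary c.pt)⟩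
  exact { toPreirreducibleSpace := hpi, toNonempty := hne }

include hc in
/-- If the stages over `i` are irreducible, so is `S` (open immersions as transition maps). -/
theorem irreducibleSpace_of_forall [∀ {i j : I} (f : i ⟶ j), IsAffineHom (D.map f)] (i : I)
    (hoi : ∀ (i j : I) (φ : i ⟶ j), IsOpenImmersion (D.map φ))
    (h : ∀ (j : I) (_ : j ⟶ i), IrreducibleSpace (D.obj j)) : IrreducibleSpace c.pt := by
  have hi := h i (𝟙 i)
  have hemb := isEmbedding_π_of_isOpenImmersion D c hc i (fun j φ => hoi j i φ)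
  have hη : genericPoint (D.obj i) ∈ Set.range ⇑(c.π.app i) := by
    rw [range_π_eq D c hc i]
    simp only [Set.mem_iInter]
    intro j φ
    have := hoi j i φ
    have := h j φ
    rw [IsGenericPoint.mem_open_set_iff (genericPoint_spec (D.obj i)) (D.map φ).isOpenEmbedding.isOpen_range]
    rw [Set.univ_inter]
    exact Set.range_nonempty _
  obtain ⟨s₀, hs₀⟩ := hη
  have hne : Nonempty c.pt := ⟨s₀⟩
  suffices h1 : PreirreducibleSpace c.pt from { toPreirreducibleSpace := h1, toNonempty := hne }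
  refine PreirreducibleSpace.of_forall_nonempty_inter ?_
  intro U V hU hV hUn hVn
  obtain ⟨U', hU', rfl⟩ := hemb.isInducing.isOpen_iff.1 hU
  obtain ⟨V', hV', rfl⟩ := hemb.isInducing.isOpen_iff.1 hV
  refine ⟨s₀, ?_, ?_⟩
  · obtain ⟨x, hx⟩ := hUn
    change c.π.app i s₀ ∈ U'
    rw [hs₀, IsGenericPoint.mem_open_set_iff (genericPoint_spec (D.obj i)) hU', Set.univ_inter]
    exact ⟨_, hx⟩
  · obtain ⟨x, hx⟩ := hVn
    change c.π.app i s₀ ∈ V'
    rw [hs₀, IsGenericPoint.mem_open_set_iff (genericPoint_spec (D.obj i)) hV', Set.univ_inter]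
    exact ⟨_, hx⟩

end

theorem result {I : Type u} [SmallCategory I] [IsCofiltered I]
    (D : I ⥤ Scheme.{u}) (c : Limits.Cone D) (hc : Limits.IsLimit c)
    [∀ (i j : I) (f : i ⟶ j), IsAffineHom (D.map f)] (i₀ : I)
    [IsNoetherian (D.obj i₀)] (hoi : ∀ (i j : I) (φ : i ⟶ j), IsOpenImmersion (D.map φ)) :
    IsIntegral c.pt ↔ ∃ (i : I) (_ : i ⟶ i₀), ∀ (j : I) (_ : j ⟶ i), IsIntegral (D.obj j) := by
  have hA : ∀ {i j : I} (f : i ⟶ j), IsAffineHom (D.map f) := fun f => inferInstance
  have hN : ∀ U : (D.obj i₀).affineOpens, (nilradical Γ(D.obj i₀, U)).FG := by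
    intro U
    have := IsLocallyNoetherian.component_noetherian U
    exact IsNoetherian.noetherian _
  have hred := Groth.Agent.S4782.result D c hc i₀ hoi hN
  constructor
  · intro hint
    obtain ⟨i₁, a₁, h₁⟩ := hred.1 inferInstance
    obtain ⟨i₂, a₂, h₂⟩ := eventually_irreducible D c hc i₀ hoi inferInstance
    obtain ⟨i, b₁, b₂, hb⟩ := IsCofiltered.cospan a₁ a₂
    refine ⟨i, b₁ ≫ a₁, fun j ψ => ?_⟩
    have := h₁ j (ψ ≫ b₁)
    have := h₂ j (ψ ≫ b₂)
    exact isIntegral_of_irreducibleSpace_of_isReduced _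
  · rintro ⟨i, a, h⟩
    have h1 : IrreducibleSpace c.pt := irreducibleSpace_of_forall D c hc i hoi (fun j φ => by
      have := h j φ
      infer_instance)
    have h2 : IsReduced c.pt := hred.2 ⟨i, a, fun j φ => by
      have := h j φ
      infer_instance⟩
    exact isIntegral_of_irreducibleSpace_of_isReduced _

end Groth.Agent.S4783
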