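import Groth.Statements.S4805
import Mathlib
import Groth.Agent.S2580
import Groth.Agent.S9193
import Groth.Agent.S4599
import Groth.Agent.Lib.Helper9.Lim8

set_option autoImplicit false
universe u
open CategoryTheory AlgebraicGeometry
open Lim8

namespace Groth.Agent.S4805

set_option backward.defeqAttrib.useBackward true in
set_option backward.isDefEq.respectTransparency false in
open AlgebraicGeometry CategoryTheory Limits Groth.Agent.Helper9.Lim8 in
theorem bc_rsq {I : Type u} [SmallCategory I] [IsCofiltered I] (D : I ⥤ Scheme.{u}) {i : I}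
    {Xi : Scheme.{u}} (x : Xi ⟶ D.obj i) {l k : Over i} (θ : l ⟶ k) :
    IsPullback ((bcDiagram D x).map θ) (pullback.fst (D.map l.hom) x)
      (pullback.fst (D.map k.hom) x) (D.map θ.left) := by
  have sK := (IsPullback.of_hasPullback (D.map l.hom) x).flip
  have tL := (IsPullback.of_hasPullback (D.map k.hom) x).flip
  have s' : IsPullback ((bcDiagram D x).map θ ≫ pullback.snd (D.map k.hom) x)
      (pullback.fst (D.map l.hom) x) x (D.map θ.left ≫ D.map k.hom) := by
    rw [bcDiagram_map_snd, ← D.map_comp, Over.w θ]; exact sK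
  exact IsPullback.of_right s' (bcDiagram_map_fst D x θ) tL

set_option backward.defeqAttrib.useBackward true in
set_option backward.isDefEq.respectTransparency false in
open AlgebraicGeometry CategoryTheory Limits Groth.Agent.Helper9.Lim8 Groth.Agent.S9189
  Groth.Agent.S9193 in
theorem core_iso {I : Type u} [SmallCategory I] [IsCofiltered I]
    (D : I ⥤ Scheme.{u}) (c : Cone D) (hc : IsLimit c)
    [hD : ∀ {i j : I} (f : i ⟶ j), IsAffineHom (D.map f)] (i : I)
    [CompactSpace (D.obj i)] [QuasiSeparatedSpace (D.obj i)]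
    {Xi : Scheme.{u}} (x : Xi ⟶ D.obj i) [CompactSpace Xi] [QuasiSeparatedSpace Xi]
    [LocallyOfFinitePresentation x] [IsIso (pullback.fst (c.π.app i) x)] :
    ∃ k : Over i, ∀ (l : Over i) (_ : l ⟶ k), IsIso (pullback.fst (D.map l.hom) x) := by
  haveI hDc : ∀ l : Over i, CompactSpace (D.obj l.left) := fun l => compactSpace_of_hom D l.hom
  haveI hDq : ∀ l : Over i, QuasiSeparatedSpace (D.obj l.left) := fun l =>
    quasiSeparatedSpace_of_hom D l.hom
  haveI hPc' : ∀ l : Over i, CompactSpace ↥(pullback (D.map l.hom) x) := fun l => by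
    infer_instance
  -- a. open immersion at a stage
  have hVtop : IsCompact ((⊤ : (D.obj i).Opens) : Set (D.obj i)) := by
    rw [TopologicalSpace.Opens.coe_top]; exact isCompact_univ
  have hsubq : Set.range x ⊆ Set.range (⊤ : (D.obj i).Opens).ι := by
    rw [Scheme.Opens.range_ι, TopologicalSpace.Opens.coe_top]; exact Set.subset_univ _
  obtain ⟨q, hq⟩ : ∃ q : Xi ⟶ ((⊤ : (D.obj i).Opens) : Scheme.{u}),
      q ≫ (⊤ : (D.obj i).Opens).ι = x :=
    ⟨IsOpenImmersion.lift _ _ hsubq, IsOpenImmersion.lift_fac _ _ _⟩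
  have hFsurj : Function.Surjective (pullback.fst (c.π.app i) x) :=
    (inferInstance : Surjective (pullback.fst (c.π.app i) x)).surj
  have hrange : Set.range (pullback.fst (c.π.app i) x) =
      ((c.π.app i ⁻¹ᵁ (⊤ : (D.obj i).Opens) : c.pt.Opens) : Set c.pt) := by
    rw [hFsurj.range_eq]
    ext p
    simp
  obtain ⟨k₁, hk₁⟩ := Groth.Agent.S2580.oi_core D c hc i x ⊤ hVtop q hq hrange
  -- b. surjectivity at a later stage
  have hRopen : IsOpen (Set.range (pullback.fst (D.map k₁.hom) x)) :=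
    (pullback.fst (D.map k₁.hom) x).isOpenEmbedding.isOpen_range
  have hRc : IsCompact (Set.range (pullback.fst (D.map k₁.hom) x)) :=
    isCompact_range (pullback.fst (D.map k₁.hom) x).continuous
  have hRcons : Topology.IsConstructible (Set.range (pullback.fst (D.map k₁.hom) x)) :=
    hRc.isConstructible hRopen
  have hempty : ⇑(c.π.app k₁.left) ⁻¹' (Set.range (pullback.fst (D.map k₁.hom) x))ᶜ = ∅ := by
    ext p
    simp only [Set.mem_preimage, Set.mem_compl_iff, Set.mem_empty_iff_false, iff_false,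
      not_not]
    obtain ⟨w, rfl⟩ := hFsurj p
    refine ⟨((bcCone D c x).π.app k₁) w, ?_⟩
    exact (Scheme.Hom.comp_apply _ _ w).symm.trans
      ((hom_congr_apply (bcCone_π_fst D c x k₁) w).trans (Scheme.Hom.comp_apply _ _ w))
  obtain ⟨j, φ, hφ⟩ := exists_preimage_eq_empty D c hc (i := k₁.left) hRcons.compl hempty
  refine ⟨Over.mk (φ ≫ k₁.hom), fun l ψ => ?_⟩
  obtain ⟨θ, hθ⟩ : ∃ θ : l ⟶ k₁, θ.left = ψ.left ≫ φ :=
    ⟨Over.homMk (ψ.left ≫ φ) (by
      have := Over.w ψ
      simp only [Over.mk_hom] at this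
      rw [Category.assoc, this]), rfl⟩
  have rsq := bc_rsq D x θ
  haveI : IsOpenImmersion (pullback.fst (D.map l.hom) x) :=
    MorphismProperty.of_isPullback (P := @IsOpenImmersion) rsq hk₁
  have hsurj : Surjective (pullback.fst (D.map l.hom) x) := by
    refine ⟨fun p => ?_⟩
    have hmem : p ∈ Set.range (pullback.fst (D.map l.hom) x) := by
      have hr := isPullback_range_fst rsq.flip
      refine (Set.ext_iff.mp hr p).mpr ?_
      show (D.map θ.left) p ∈ Set.range (pullback.fst (D.map k₁.hom) x)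
      by_contra hp
      have h1 : (D.map ψ.left) p ∈ ⇑(D.map φ) ⁻¹'
          (Set.range (pullback.fst (D.map k₁.hom) x))ᶜ := by
        show (D.map φ) ((D.map ψ.left) p) ∉ Set.range (pullback.fst (D.map k₁.hom) x)
        have e : (D.map φ) ((D.map ψ.left) p) = (D.map θ.left) p := by
          rw [hθ, D.map_comp]; rfl
        rw [e]
        exact hp
      rw [hφ] at h1
      exact h1
    exact hmem
  exact (isIso_iff_isOpenImmersion_and_surjective _).mpr ⟨inferInstance, hsurj⟩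

set_option backward.defeqAttrib.useBackward true in
set_option backward.isDefEq.respectTransparency false in
open AlgebraicGeometry CategoryTheory Limits Groth.Agent.Helper9.Lim8 Groth.Agent.S9189 in
theorem perV {I : Type u} [SmallCategory I] [IsCofiltered I]
    (D : I ⥤ Scheme.{u}) (c : Cone D) (hc : IsLimit c)
    [hD : ∀ {i j : I} (f : i ⟶ j), IsAffineHom (D.map f)] (i : I)
    {Xi : Scheme.{u}} (x : Xi ⟶ D.obj i) [LocallyOfFinitePresentation x] [QuasiCompact x]
    [QuasiSeparated x]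
    [IsIso (pullback.fst (c.π.app i) x)] (W : (D.obj i).Opens)
    (hW : IsAffineOpen W) :
    ∃ k : Over i, ∀ (l : Over i) (_ : l ⟶ k),
      IsIso (pullback.fst (D.map l.hom) x ∣_ (D.map l.hom ⁻¹ᵁ W)) := by
  haveI : IsAffineHom (c.π.app i) := isAffineHom_π_app D c hc i
  haveI hEaff : ∀ j : Over i, IsAffine ((opensDiagram D i W).obj j) := fun j =>
    (hW.preimage (D.map j.hom) : IsAffineOpen (D.map j.hom ⁻¹ᵁ W))
  haveI hEaff' : ∀ j : Over i,
      IsAffine ((D.map j.hom ⁻¹ᵁ W : (D.obj j.left).Opens) : Scheme.{u}) := fun j => hEaff j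
  obtain ⟨j₀⟩ : Nonempty (Over i) := ⟨Over.mk (𝟙 i)⟩
  have hEι : ∀ {k j : Over i} (φ : k ⟶ j), (opensDiagram D i W).map φ ≫
      (D.map j.hom ⁻¹ᵁ W).ι = (D.map k.hom ⁻¹ᵁ W).ι ≫ D.map φ.left := by
    intro k j φ
    rw [opensDiagram_map]
    exact Scheme.Hom.resLE_comp_ι _ _
  have hconeι : ∀ k : Over i, (opensCone D c i W).π.app k ≫ (D.map k.hom ⁻¹ᵁ W).ι =
      (c.π.app i ⁻¹ᵁ W).ι ≫ c.π.app k.left := fun k => by
    rw [opensCone_π_app]; exact Scheme.Hom.resLE_comp_ι _ _
  obtain ⟨y₀, hy₀⟩ : ∃ y₀ : (opensDiagram D i W).obj j₀ ⟶ D.obj i,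
      y₀ = (D.map j₀.hom ⁻¹ᵁ W).ι ≫ D.map j₀.hom := ⟨_, rfl⟩
  haveI : CompactSpace ↥((opensDiagram D i W).obj j₀) := inferInstance
  haveI : QuasiSeparatedSpace ↥((opensDiagram D i W).obj j₀) := inferInstance
  haveI : CompactSpace ↥(pullback y₀ x) :=
    QuasiCompact.compactSpace_of_compactSpace (pullback.fst y₀ x)
  haveI : QuasiSeparatedSpace ↥(pullback y₀ x) :=
    quasiSeparatedSpace_of_quasiSeparated (pullback.fst y₀ x)
  haveI : IsIso (pullback.fst ((opensCone D c i W).π.app j₀) (pullback.fst y₀ x)) := by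
    refine bc_transfer (MorphismProperty.isomorphisms Scheme.{u}) x (pullback.fst (c.π.app i) x)
      (pullback.snd (c.π.app i) x) (c.π.app i) (IsPullback.of_hasPullback (c.π.app i) x).flip
      (inferInstance : IsIso (pullback.fst (c.π.app i) x)) y₀ ((opensCone D c i W).π.app j₀)
      (c.π.app i ⁻¹ᵁ W).ι ?_
    rw [hy₀, reassoc_of% (hconeι j₀), c.w]
  obtain ⟨k₂, hk₂⟩ := core_iso (opensDiagram D i W) (opensCone D c i W)
    (isLimitOpensCone D c hc i W) j₀ (pullback.fst y₀ x)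
  refine ⟨k₂.left, fun l ψ => ?_⟩
  obtain ⟨h, hh⟩ : ∃ h : l ⟶ j₀, h = ψ ≫ k₂.hom := ⟨_, rfl⟩
  have hcl : IsIso (pullback.fst ((opensDiagram D i W).map h) (pullback.fst y₀ x)) :=
    hk₂ (Over.mk h) (Over.homMk ψ hh.symm)
  have sqB := (IsPullback.of_hasPullback ((opensDiagram D i W).map h)
    (pullback.fst y₀ x)).flip.paste_horiz (IsPullback.of_hasPullback y₀ x).flip
  have hbottom : (opensDiagram D i W).map h ≫ y₀ = (D.map l.hom ⁻¹ᵁ W).ι ≫ D.map l.hom := by
    rw [hy₀, reassoc_of% (hEι h), ← D.map_comp, Over.w h]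
  rw [hbottom] at sqB
  have sqA := (isPullback_morphismRestrict (pullback.fst (D.map l.hom) x)
    (D.map l.hom ⁻¹ᵁ W)).flip.paste_horiz (IsPullback.of_hasPullback (D.map l.hom) x).flip
  exact of_two_pullbacks (MorphismProperty.isomorphisms Scheme.{u}) sqB sqA hcl

set_option backward.defeqAttrib.useBackward true in
set_option backward.isDefEq.respectTransparency false in
open AlgebraicGeometry CategoryTheory Limits Groth.Agent.Helper9.Lim8 in
theorem core_iso' {I : Type u} [SmallCategory I] [IsCofiltered I]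
    (D : I ⥤ Scheme.{u}) (c : Cone D) (hc : IsLimit c)
    [hD : ∀ {i j : I} (f : i ⟶ j), IsAffineHom (D.map f)] (i : I) [CompactSpace (D.obj i)]
    {Xi : Scheme.{u}} (x : Xi ⟶ D.obj i) [LocallyOfFinitePresentation x] [QuasiCompact x]
    [QuasiSeparated x] [IsIso (pullback.fst (c.π.app i) x)] :
    ∃ k : Over i, ∀ (l : Over i) (_ : l ⟶ k), IsIso (pullback.fst (D.map l.hom) x) := by
  classical
  let 𝒰 := (D.obj i).affineCover.finiteSubcover
  have hWa : ∀ a : 𝒰.I₀, IsAffineOpen (𝒰.f a).opensRange := fun a =>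
    isAffineOpen_opensRange (𝒰.f a)
  choose j hj using fun a : 𝒰.I₀ => perV D c hc i x (𝒰.f a).opensRange (hWa a)
  obtain ⟨k, hk⟩ := IsCofiltered.inf_objs_exists (Finset.univ.image j)
  refine ⟨k, fun l φ => ?_⟩
  have hsup : ⨆ a : 𝒰.I₀, D.map l.hom ⁻¹ᵁ (𝒰.f a).opensRange = ⊤ := by
    rw [eq_top_iff]
    intro p _
    have hp : (D.map l.hom) p ∈ (⊤ : (D.obj i).Opens) := trivial
    rw [← 𝒰.iSup_opensRange, TopologicalSpace.Opens.mem_iSup] at hp
    obtain ⟨a, ha⟩ := hp
    exact TopologicalSpace.Opens.mem_iSup.mpr ⟨a, ha⟩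
  apply IsZariskiLocalAtTarget.of_iSup_eq_top (P := MorphismProperty.isomorphisms Scheme.{u})
    (fun a : 𝒰.I₀ => D.map l.hom ⁻¹ᵁ (𝒰.f a).opensRange) hsup ?_
  intro a
  obtain ⟨ψ⟩ := hk (Finset.mem_image_of_mem j (Finset.mem_univ a))
  exact hj a l (φ ≫ ψ)

set_option backward.defeqAttrib.useBackward true in
set_option backward.isDefEq.respectTransparency false in
open AlgebraicGeometry CategoryTheory Limits Groth.Agent.Helper9.Lim8 in
theorem mainIso {I : Type u} [SmallCategory I] [IsCofiltered I]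
    (D : I ⥤ Scheme.{u}) (c : Limits.Cone D) (hc : Limits.IsLimit c)
    [hD : ∀ (i j : I) (f : i ⟶ j), IsAffineHom (D.map f)] (i₀ : I) [CompactSpace (D.obj i₀)]
    {X₀ Y₀ : Scheme.{u}} (f₀ : X₀ ⟶ Y₀) (g₀ : Y₀ ⟶ D.obj i₀) [CompactSpace Y₀]
    [LocallyOfFinitePresentation f₀] [QuasiCompact f₀] [QuasiSeparated f₀]
    {X Y : Scheme.{u}} (f : X ⟶ Y) (g : Y ⟶ c.pt) (qY : Y ⟶ Y₀) (qX : X ⟶ X₀)
    (hY : IsPullback qY g g₀ (c.π.app i₀)) (hX : IsPullback qX f f₀ qY)
    [IsIso f] :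
    ∃ (i : I) (φ : i ⟶ i₀) (Xi Yi : Scheme.{u}) (fi : Xi ⟶ Yi) (gi : Yi ⟶ D.obj i) (pY : Yi ⟶ Y₀)
      (pX : Xi ⟶ X₀), IsPullback pY gi g₀ (D.map φ) ∧ IsPullback pX fi f₀ pY ∧
        IsIso fi := by
  haveI hD' : ∀ {i j : I} (a : i ⟶ j), IsAffineHom (D.map a) := fun a => hD _ _ a
  haveI hYc' : ∀ m : Over i₀, CompactSpace ↥(pullback (D.map m.hom) g₀) := fun m => by
    infer_instance
  haveI hYc : ∀ m : Over i₀, CompactSpace ((bcDiagram D g₀).obj m) := fun m => hYc' m
  obtain ⟨j₁⟩ : Nonempty (Over i₀) := ⟨Over.mk (𝟙 i₀)⟩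
  haveI : IsIso (pullback.fst ((bcCone D c g₀).π.app j₁)
      (pullback.fst (pullback.snd (D.map j₁.hom) g₀) f₀)) :=
    Groth.Agent.S9189.bc_transfer (MorphismProperty.isomorphisms Scheme.{u}) f₀ f qX qY hX
      (inferInstance : IsIso f) (pullback.snd (D.map j₁.hom) g₀)
      ((bcCone D c g₀).π.app j₁) hY.flip.isoPullback.inv
      (by rw [IsPullback.isoPullback_inv_snd, bcCone_π_snd])
  obtain ⟨k, hk⟩ := core_iso' (bcDiagram D g₀) (bcCone D c g₀) (bcIsLimit D c hc g₀) j₁
    (pullback.fst (pullback.snd (D.map j₁.hom) g₀) f₀)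
  have hk' := hk k (𝟙 k)
  refine ⟨k.left.left, k.left.hom,
    pullback ((bcDiagram D g₀).map k.hom) (pullback.fst (pullback.snd (D.map j₁.hom) g₀) f₀),
    pullback (D.map k.left.hom) g₀,
    pullback.fst ((bcDiagram D g₀).map k.hom) (pullback.fst (pullback.snd (D.map j₁.hom) g₀) f₀),
    pullback.fst (D.map k.left.hom) g₀, pullback.snd (D.map k.left.hom) g₀,
    pullback.snd ((bcDiagram D g₀).map k.hom)
        (pullback.fst (pullback.snd (D.map j₁.hom) g₀) f₀) ≫
      pullback.snd (pullback.snd (D.map j₁.hom) g₀) f₀,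
    (IsPullback.of_hasPullback (D.map k.left.hom) g₀).flip, ?_, hk'⟩
  have left := (IsPullback.of_hasPullback ((bcDiagram D g₀).map k.hom)
    (pullback.fst (pullback.snd (D.map j₁.hom) g₀) f₀)).flip
  have right := (IsPullback.of_hasPullback (pullback.snd (D.map j₁.hom) g₀) f₀).flip
  have big := left.paste_horiz right
  rw [bcDiagram_map_snd] at big
  exact big


/-- Let S = lim S_i be a cofiltered limit of schemes with affine transition maps and S_{i₀} a
quasi-compact stage; let Y₀ ⟶ S_{i₀} be of finite type and quasi-separated, X₀ ⟶ S_{i₀} of finite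
presentation (locally of finite presentation, quasi-compact and quasi-separated), f₀ : X₀ ⟶ Y₀ an
S_{i₀}-morphism, and f : X ⟶ Y its base change along S ⟶ S_{i₀} (base changes are expressed by
pullback squares). If f is an isomorphism, then for some index j over i₀ the base change f_j : X_j ⟶
Y_j of f₀ along S_j ⟶ S_{i₀} is an isomorphism. (Note the hypotheses: the stage S_{i₀} is only
assumed quasi-compact, and Y₀ only of finite type and quasi-separated over it.) -/
theorem result {I : Type u} [SmallCategory I] [IsCofiltered I]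
    (D : I ⥤ Scheme.{u}) (c : Limits.Cone D) (hc : Limits.IsLimit c)
    [∀ (i j : I) (f : i ⟶ j), IsAffineHom (D.map f)] (i₀ : I) [CompactSpace (D.obj i₀)]
    {X₀ Y₀ : Scheme.{u}} (f₀ : X₀ ⟶ Y₀) (g₀ : Y₀ ⟶ D.obj i₀)
    [LocallyOfFiniteType g₀] [QuasiCompact g₀] [QuasiSeparated g₀]
    [LocallyOfFinitePresentation (f₀ ≫ g₀)] [QuasiCompact (f₀ ≫ g₀)] [QuasiSeparated (f₀ ≫ g₀)]
    {X Y : Scheme.{u}} (f : X ⟶ Y) (g : Y ⟶ c.pt) (qY : Y ⟶ Y₀) (qX : X ⟶ X₀)
    (hY : IsPullback qY g g₀ (c.π.app i₀)) (hX : IsPullback qX f f₀ qY) [IsIso f] :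
    ∃ (j : I) (φ : j ⟶ i₀) (Xj Yj : Scheme.{u}) (fj : Xj ⟶ Yj) (gj : Yj ⟶ D.obj j) (pY : Yj ⟶ Y₀)
      (pX : Xj ⟶ X₀), IsPullback pY gj g₀ (D.map φ) ∧ IsPullback pX fj f₀ pY ∧ IsIso fj := by
  haveI : CompactSpace Y₀ := QuasiCompact.compactSpace_of_compactSpace g₀
  haveI : LocallyOfFinitePresentation f₀ :=
    Groth.Agent.S4599.lfp_of_comp_of_lft (f := f₀) (g := g₀) inferInstance inferInstance
  haveI : QuasiCompact f₀ := QuasiCompact.of_comp f₀ g₀
  haveI : QuasiSeparated f₀ := QuasiSeparated.of_comp f₀ g₀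
  exact mainIso D c hc i₀ f₀ g₀ f g qY qX hY hX

end Groth.Agent.S4805
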