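import Groth.Statements.S9218
import Mathlib
import Groth.Agent.Lib.Helper9.Lim8

set_option autoImplicit false
universe u
open CategoryTheory CategoryTheory.Limits AlgebraicGeometry
open Lim

namespace Groth.Agent.S9218

set_option backward.defeqAttrib.useBackward true in
set_option backward.isDefEq.respectTransparency false in
open AlgebraicGeometry CategoryTheory Limits Groth.Agent.Helper9.Lim8 in
theorem main {I : Type u} [SmallCategory I] [IsCofiltered I]
    (D : I ⥤ Scheme.{u}) (c : Limits.Cone D) (hc : Limits.IsLimit c)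
    [hD : ∀ (i j : I) (f : i ⟶ j), IsAffineHom (D.map f)] (i : I)
    {Xi Yi : Scheme.{u}} (xi : Xi ⟶ D.obj i) (yi : Yi ⟶ D.obj i)
    [CompactSpace Xi] [QuasiSeparatedSpace Xi] [LocallyOfFinitePresentation xi]
    [CompactSpace Yi] [QuasiSeparatedSpace Yi] [LocallyOfFinitePresentation yi]
    {X Y : Scheme.{u}} (qX : X ⟶ Xi) (pX : X ⟶ c.pt) (hX : IsPullback qX pX xi (c.π.app i))
    (qY : Y ⟶ Yi) (pY : Y ⟶ c.pt) (hY : IsPullback qY pY yi (c.π.app i))
    (f : X ⟶ Y) (hf : f ≫ pY = pX) :
    ∃ (j : I) (φ : j ⟶ i) (fj : pullback xi (D.map φ) ⟶ pullback yi (D.map φ))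
      (sX : X ⟶ pullback xi (D.map φ)) (sY : Y ⟶ pullback yi (D.map φ)),
      fj ≫ pullback.snd yi (D.map φ) = pullback.snd xi (D.map φ) ∧
      sX ≫ pullback.fst xi (D.map φ) = qX ∧ sX ≫ pullback.snd xi (D.map φ) = pX ≫ c.π.app j ∧
      sY ≫ pullback.fst yi (D.map φ) = qY ∧ sY ≫ pullback.snd yi (D.map φ) = pY ≫ c.π.app j ∧
      sX ≫ fj = f ≫ sY := by
  haveI hD' : ∀ {i j : I} (a : i ⟶ j), IsAffineHom (D.map a) := fun a => hD _ _ a
  haveI : ∀ j : Over i, CompactSpace ((bcDiagram D xi).obj j) := fun j => by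
    show CompactSpace ↥(pullback (D.map j.hom) xi)
    infer_instance
  haveI : ∀ j : Over i, QuasiSeparatedSpace ((bcDiagram D xi).obj j) := fun j => by
    show QuasiSeparatedSpace ↥(pullback (D.map j.hom) xi)
    exact quasiSeparatedSpace_of_quasiSeparated (pullback.snd (D.map j.hom) xi)
  let t : bcDiagram D xi ⟶ (Functor.const (Over i)).obj (D.obj i) :=
    { app := fun j => pullback.snd (D.map j.hom) xi ≫ xi
      naturality := fun j k φ => by
        simp only [Functor.const_obj_obj, Functor.const_obj_map, Category.comp_id]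
        rw [← Category.assoc, bcDiagram_map_snd D xi φ] }
  -- maps between X and the canonical pullback
  obtain ⟨ρ, hρ1, hρ2⟩ : ∃ ρ : pullback (c.π.app i) xi ⟶ X,
      ρ ≫ qX = pullback.snd (c.π.app i) xi ∧ ρ ≫ pX = pullback.fst (c.π.app i) xi :=
    ⟨hX.lift (pullback.snd (c.π.app i) xi) (pullback.fst (c.π.app i) xi)
      pullback.condition.symm, hX.lift_fst _ _ _, hX.lift_snd _ _ _⟩
  obtain ⟨σ, hσ1, hσ2⟩ : ∃ σ : X ⟶ pullback (c.π.app i) xi,
      σ ≫ pullback.fst (c.π.app i) xi = pX ∧ σ ≫ pullback.snd (c.π.app i) xi = qX :=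
    ⟨pullback.lift pX qX hX.w.symm, pullback.lift_fst _ _ _, pullback.lift_snd _ _ _⟩
  have hσρ : σ ≫ ρ = 𝟙 X := by
    apply hX.hom_ext
    · rw [Category.assoc, hρ1, hσ2, Category.id_comp]
    · rw [Category.assoc, hρ2, hσ1, Category.id_comp]
  have ha : (bcCone D c xi).π ≫ t = (Functor.const (Over i)).map ((ρ ≫ f ≫ qY) ≫ yi) := by
    ext j
    simp only [NatTrans.comp_app, Functor.const_map_app]
    show (bcCone D c xi).π.app j ≫ pullback.snd (D.map j.hom) xi ≫ xi = _
    rw [← Category.assoc, bcCone_π_snd]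
    simp only [Category.assoc]
    rw [hY.w, ← Category.assoc f, hf, ← Category.assoc ρ, hρ2]
    exact pullback.condition.symm
  obtain ⟨j, g', hg1, hg2⟩ := Scheme.exists_π_app_comp_eq_of_locallyOfFinitePresentation
    (bcDiagram D xi) t yi (bcCone D c xi) (bcIsLimit D c hc xi) (ρ ≫ f ≫ qY) ha
  have hg2' : g' ≫ yi = pullback.snd (D.map j.hom) xi ≫ xi := hg2
  obtain ⟨fj, hfj1, hfj2⟩ : ∃ fj : pullback xi (D.map j.hom) ⟶ pullback yi (D.map j.hom),
      fj ≫ pullback.fst yi (D.map j.hom) = (pullbackSymmetry xi (D.map j.hom)).hom ≫ g' ∧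
      fj ≫ pullback.snd yi (D.map j.hom) = pullback.snd xi (D.map j.hom) :=
    ⟨pullback.lift ((pullbackSymmetry xi (D.map j.hom)).hom ≫ g')
      (pullback.snd xi (D.map j.hom)) (by
        rw [Category.assoc, hg2', ← Category.assoc, pullbackSymmetry_hom_comp_snd]
        exact pullback.condition), pullback.lift_fst _ _ _, pullback.lift_snd _ _ _⟩
  obtain ⟨sX, hsX1, hsX2⟩ : ∃ sX : X ⟶ pullback xi (D.map j.hom),
      sX ≫ pullback.fst xi (D.map j.hom) = qX ∧
      sX ≫ pullback.snd xi (D.map j.hom) = pX ≫ c.π.app j.left :=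
    ⟨pullback.lift qX (pX ≫ c.π.app j.left) (by
        rw [Category.assoc, c.w j.hom]; exact hX.w), pullback.lift_fst _ _ _,
      pullback.lift_snd _ _ _⟩
  obtain ⟨sY, hsY1, hsY2⟩ : ∃ sY : Y ⟶ pullback yi (D.map j.hom),
      sY ≫ pullback.fst yi (D.map j.hom) = qY ∧
      sY ≫ pullback.snd yi (D.map j.hom) = pY ≫ c.π.app j.left :=
    ⟨pullback.lift qY (pY ≫ c.π.app j.left) (by
        rw [Category.assoc, c.w j.hom]; exact hY.w), pullback.lift_fst _ _ _,
      pullback.lift_snd _ _ _⟩
  refine ⟨j.left, j.hom, fj, sX, sY, hfj2, hsX1, hsX2, hsY1, hsY2, ?_⟩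
  have hkey : sX ≫ (pullbackSymmetry xi (D.map j.hom)).hom = σ ≫ (bcCone D c xi).π.app j := by
    apply pullback.hom_ext
    · rw [Category.assoc, pullbackSymmetry_hom_comp_fst, hsX2, Category.assoc, bcCone_π_fst,
        ← Category.assoc, hσ1]
    · rw [Category.assoc, pullbackSymmetry_hom_comp_snd, hsX1, Category.assoc, bcCone_π_snd, hσ2]
  apply pullback.hom_ext
  · rw [Category.assoc, hfj1, ← Category.assoc, hkey, Category.assoc, hg1, Category.assoc,
      hsY1, ← Category.assoc, hσρ, Category.id_comp]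
  · rw [Category.assoc, hfj2, hsX2, Category.assoc, hsY2, ← Category.assoc, hf]

/-- Let S = lim S_i be a cofiltered limit of schemes with affine transition morphisms (the S_i are not
assumed quasi-compact or quasi-separated), i an index, and X_i → S_i, Y_i → S_i morphisms locally of
finite presentation with X_i, Y_i quasi-compact and quasi-separated; let X, Y be their base changes
to S (pullback squares). Then every S-morphism f : X → Y comes from some stage: for some index j
over i there is an S_j-morphism f_j : X_i ×_{S_i} S_j → Y_i ×_{S_i} S_j whose base change to S is f,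
in the sense that the canonical morphisms X → X_i ×_{S_i} S_j and Y → Y_i ×_{S_i} S_j intertwine f
and f_j. This is the fullness part of the equivalence between the colimit of the categories of
quasi-compact quasi-separated schemes locally of finite presentation over the S_i and the
corresponding category over S. -/
theorem result {I : Type u} [SmallCategory I] [IsCofiltered I]
    (D : I ⥤ Scheme.{u}) (c : Limits.Cone D) (hc : Limits.IsLimit c)
    [∀ (i j : I) (f : i ⟶ j), IsAffineHom (D.map f)] (i : I)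
    {Xi Yi : Scheme.{u}} (xi : Xi ⟶ D.obj i) (yi : Yi ⟶ D.obj i)
    [CompactSpace Xi] [QuasiSeparatedSpace Xi] [LocallyOfFinitePresentation xi]
    [CompactSpace Yi] [QuasiSeparatedSpace Yi] [LocallyOfFinitePresentation yi]
    {X Y : Scheme.{u}} (qX : X ⟶ Xi) (pX : X ⟶ c.pt) (hX : IsPullback qX pX xi (c.π.app i))
    (qY : Y ⟶ Yi) (pY : Y ⟶ c.pt) (hY : IsPullback qY pY yi (c.π.app i))
    (f : X ⟶ Y) (hf : f ≫ pY = pX) :
    ∃ (j : I) (φ : j ⟶ i) (fj : pullback xi (D.map φ) ⟶ pullback yi (D.map φ))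
      (sX : X ⟶ pullback xi (D.map φ)) (sY : Y ⟶ pullback yi (D.map φ)),
      fj ≫ pullback.snd yi (D.map φ) = pullback.snd xi (D.map φ) ∧
      sX ≫ pullback.fst xi (D.map φ) = qX ∧ sX ≫ pullback.snd xi (D.map φ) = pX ≫ c.π.app j ∧
      sY ≫ pullback.fst yi (D.map φ) = qY ∧ sY ≫ pullback.snd yi (D.map φ) = pY ≫ c.π.app j ∧
      sX ≫ fj = f ≫ sY := by
  exact main D c hc i xi yi qX pX hX qY pY hY f hf

end Groth.Agent.S9218
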