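import Groth.Statements.S4795
import Mathlib
import Groth.Agent.S4805
import Groth.Agent.S9218
import Groth.Agent.S4599
import Groth.Agent.Lib.Helper9.Lim8

set_option autoImplicit false
universe u
open CategoryTheory AlgebraicGeometry
open Lim8

namespace Groth.Agent.S4795

open AlgebraicGeometry CategoryTheory Limits in
theorem backward {I : Type u} [SmallCategory I]
    (D : I ⥤ Scheme.{u}) (c : Limits.Cone D) (i₀ : I)
    {X₀ Y₀ : Scheme.{u}} (a₀ : X₀ ⟶ D.obj i₀) (b₀ : Y₀ ⟶ D.obj i₀)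
    {X Y : Scheme.{u}} (a : X ⟶ c.pt) (b : Y ⟶ c.pt) (qX : X ⟶ X₀) (qY : Y ⟶ Y₀)
    (hX : IsPullback qX a a₀ (c.π.app i₀)) (hY : IsPullback qY b b₀ (c.π.app i₀))
    (j : I) (φ : j ⟶ i₀) (Xj Yj : Scheme.{u}) (aj : Xj ⟶ D.obj j) (bj : Yj ⟶ D.obj j)
    (pX : Xj ⟶ X₀) (pY : Yj ⟶ Y₀) (h1 : IsPullback pX aj a₀ (D.map φ))
    (h2 : IsPullback pY bj b₀ (D.map φ)) (e : Xj ≅ Yj) (he : e.hom ≫ bj = aj) :
    ∃ e' : X ≅ Y, e'.hom ≫ b = a := by
  have hcX : qX ≫ a₀ = (a ≫ c.π.app j) ≫ D.map φ := by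
    rw [hX.w, Category.assoc, c.w]
  have hcY : qY ≫ b₀ = (b ≫ c.π.app j) ≫ D.map φ := by
    rw [hY.w, Category.assoc, c.w]
  obtain ⟨sX, hsX1, hsX2⟩ : ∃ sX : X ⟶ Xj, sX ≫ pX = qX ∧ sX ≫ aj = a ≫ c.π.app j :=
    ⟨h1.lift _ _ hcX, h1.lift_fst _ _ _, h1.lift_snd _ _ _⟩
  obtain ⟨sY, hsY1, hsY2⟩ : ∃ sY : Y ⟶ Yj, sY ≫ pY = qY ∧ sY ≫ bj = b ≫ c.π.app j :=
    ⟨h2.lift _ _ hcY, h2.lift_fst _ _ _, h2.lift_snd _ _ _⟩
  have hX' : IsPullback sX a aj (c.π.app j) := by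
    have s : IsPullback (sX ≫ pX) a a₀ (c.π.app j ≫ D.map φ) := by
      rw [hsX1, c.w]; exact hX
    exact IsPullback.of_right s hsX2 h1
  have hY' : IsPullback sY b bj (c.π.app j) := by
    have s : IsPullback (sY ≫ pY) b b₀ (c.π.app j ≫ D.map φ) := by
      rw [hsY1, c.w]; exact hY
    exact IsPullback.of_right s hsY2 h2
  have hu : (sX ≫ e.hom) ≫ bj = a ≫ c.π.app j := by
    rw [Category.assoc, he, hsX2]
  have hv : (sY ≫ e.inv) ≫ aj = b ≫ c.π.app j := by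
    rw [Category.assoc, ← he, e.inv_hom_id_assoc, hsY2]
  obtain ⟨u, hu1, hu2⟩ : ∃ u : X ⟶ Y, u ≫ sY = sX ≫ e.hom ∧ u ≫ b = a :=
    ⟨hY'.lift _ _ hu, hY'.lift_fst _ _ _, hY'.lift_snd _ _ _⟩
  obtain ⟨v, hv1, hv2⟩ : ∃ v : Y ⟶ X, v ≫ sX = sY ≫ e.inv ∧ v ≫ a = b :=
    ⟨hX'.lift _ _ hv, hX'.lift_fst _ _ _, hX'.lift_snd _ _ _⟩
  refine ⟨⟨u, v, ?_, ?_⟩, hu2⟩
  · apply hX'.hom_ext
    · rw [Category.assoc, hv1, ← Category.assoc, hu1, Category.assoc, e.hom_inv_id,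
        Category.comp_id, Category.id_comp]
    · rw [Category.assoc, hv2, hu2, Category.id_comp]
  · apply hY'.hom_ext
    · rw [Category.assoc, hu1, ← Category.assoc, hv1, Category.assoc, e.inv_hom_id,
        Category.comp_id, Category.id_comp]
    · rw [Category.assoc, hu2, hv2, Category.id_comp]

set_option backward.defeqAttrib.useBackward true in
set_option backward.isDefEq.respectTransparency false in
open AlgebraicGeometry CategoryTheory Limits Groth.Agent.Helper9.Lim8 in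
theorem forward {I : Type u} [SmallCategory I] [IsCofiltered I]
    (D : I ⥤ Scheme.{u}) (c : Limits.Cone D) (hc : Limits.IsLimit c)
    [hD : ∀ (i j : I) (f : i ⟶ j), IsAffineHom (D.map f)] (i₀ : I)
    [CompactSpace (D.obj i₀)] [QuasiSeparatedSpace (D.obj i₀)]
    {X₀ Y₀ : Scheme.{u}} (a₀ : X₀ ⟶ D.obj i₀) (b₀ : Y₀ ⟶ D.obj i₀)
    [LocallyOfFinitePresentation a₀] [QuasiCompact a₀] [QuasiSeparated a₀]
    [LocallyOfFinitePresentation b₀] [QuasiCompact b₀] [QuasiSeparated b₀]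
    {X Y : Scheme.{u}} (a : X ⟶ c.pt) (b : Y ⟶ c.pt) (qX : X ⟶ X₀) (qY : Y ⟶ Y₀)
    (hX : IsPullback qX a a₀ (c.π.app i₀)) (hY : IsPullback qY b b₀ (c.π.app i₀))
    (e : X ≅ Y) (he : e.hom ≫ b = a) :
    ∃ (j : I) (φ : j ⟶ i₀) (Xj Yj : Scheme.{u}) (aj : Xj ⟶ D.obj j) (bj : Yj ⟶ D.obj j)
      (pX : Xj ⟶ X₀) (pY : Yj ⟶ Y₀), IsPullback pX aj a₀ (D.map φ) ∧
      IsPullback pY bj b₀ (D.map φ) ∧ ∃ e : Xj ≅ Yj, e.hom ≫ bj = aj := by
  haveI hD' : ∀ {i j : I} (f : i ⟶ j), IsAffineHom (D.map f) := fun f => hD _ _ f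
  haveI : CompactSpace X₀ := QuasiCompact.compactSpace_of_compactSpace a₀
  haveI : QuasiSeparatedSpace X₀ := quasiSeparatedSpace_of_quasiSeparated a₀
  haveI : CompactSpace Y₀ := QuasiCompact.compactSpace_of_compactSpace b₀
  haveI : QuasiSeparatedSpace Y₀ := quasiSeparatedSpace_of_quasiSeparated b₀
  obtain ⟨j, φ, fj, sX, sY, r1, r2, r3, r4, r5, r6⟩ :=
    Groth.Agent.S9218.main D c hc i₀ a₀ b₀ qX a hX qY b hY e.hom he
  haveI : CompactSpace (D.obj j) := compactSpace_of_hom D φ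
  haveI : CompactSpace ↥(pullback b₀ (D.map φ)) :=
    QuasiCompact.compactSpace_of_compactSpace (pullback.snd b₀ (D.map φ))
  haveI : LocallyOfFinitePresentation (fj ≫ pullback.snd b₀ (D.map φ)) := by
    rw [r1]; infer_instance
  haveI : QuasiCompact (fj ≫ pullback.snd b₀ (D.map φ)) := by
    rw [r1]; infer_instance
  haveI : QuasiSeparated (fj ≫ pullback.snd b₀ (D.map φ)) := by
    rw [r1]; infer_instance
  haveI : LocallyOfFinitePresentation fj :=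
    Groth.Agent.S4599.lfp_of_comp_of_lft (f := fj) (g := pullback.snd b₀ (D.map φ))
      inferInstance inferInstance
  haveI : QuasiCompact fj := QuasiCompact.of_comp fj (pullback.snd b₀ (D.map φ))
  haveI : QuasiSeparated fj := QuasiSeparated.of_comp fj (pullback.snd b₀ (D.map φ))
  have hY' : IsPullback sY b (pullback.snd b₀ (D.map φ)) (c.π.app j) := by
    have s : IsPullback (sY ≫ pullback.fst b₀ (D.map φ)) b b₀ (c.π.app j ≫ D.map φ) := by
      rw [r4, c.w]; exact hY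
    exact IsPullback.of_right s r5 (IsPullback.of_hasPullback b₀ (D.map φ))
  have hXj : IsPullback sX a (pullback.snd a₀ (D.map φ)) (c.π.app j) := by
    have s : IsPullback (sX ≫ pullback.fst a₀ (D.map φ)) a a₀ (c.π.app j ≫ D.map φ) := by
      rw [r2, c.w]; exact hX
    exact IsPullback.of_right s r3 (IsPullback.of_hasPullback a₀ (D.map φ))
  have hX' : IsPullback sX e.hom fj sY := by
    have s : IsPullback sX (e.hom ≫ b) (fj ≫ pullback.snd b₀ (D.map φ)) (c.π.app j) := by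
      rw [he, r1]; exact hXj
    exact IsPullback.of_bot s r6 hY'
  obtain ⟨k, ψ, Xk, Yk, fk, gk, pY, pX, h1, h2, hfk⟩ :=
    Groth.Agent.S4805.mainIso D c hc j fj (pullback.snd b₀ (D.map φ)) e.hom b sY sX hY' hX'
  refine ⟨k, ψ ≫ φ, Xk, Yk, fk ≫ gk, gk, pX ≫ pullback.fst a₀ (D.map φ),
    pY ≫ pullback.fst b₀ (D.map φ), ?_, ?_, asIso fk, rfl⟩
  · have v := h2.paste_vert h1
    rw [r1] at v
    have w := v.paste_horiz (IsPullback.of_hasPullback a₀ (D.map φ))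
    rw [← D.map_comp] at w
    exact w
  · have w := h1.paste_horiz (IsPullback.of_hasPullback b₀ (D.map φ))
    rw [← D.map_comp] at w
    exact w


/-- Let S = lim S_i be a cofiltered limit of schemes with affine transition maps and S_{i₀} a
quasi-compact quasi-separated stage; let X₀ and Y₀ be schemes of finite presentation over S_{i₀},
and let X, Y be their base changes along S ⟶ S_{i₀} (base changes are expressed by pullback
squares). Then X and Y are isomorphic over S if and only if, for some index j over i₀, the base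
changes X_j and Y_j of X₀ and Y₀ along S_j ⟶ S_{i₀} are isomorphic over S_j. -/
theorem result {I : Type u} [SmallCategory I] [IsCofiltered I]
    (D : I ⥤ Scheme.{u}) (c : Limits.Cone D) (hc : Limits.IsLimit c)
    [∀ (i j : I) (f : i ⟶ j), IsAffineHom (D.map f)] (i₀ : I)
    [CompactSpace (D.obj i₀)] [QuasiSeparatedSpace (D.obj i₀)]
    {X₀ Y₀ : Scheme.{u}} (a₀ : X₀ ⟶ D.obj i₀) (b₀ : Y₀ ⟶ D.obj i₀)
    [LocallyOfFinitePresentation a₀] [QuasiCompact a₀] [QuasiSeparated a₀]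
    [LocallyOfFinitePresentation b₀] [QuasiCompact b₀] [QuasiSeparated b₀]
    {X Y : Scheme.{u}} (a : X ⟶ c.pt) (b : Y ⟶ c.pt) (qX : X ⟶ X₀) (qY : Y ⟶ Y₀)
    (hX : IsPullback qX a a₀ (c.π.app i₀)) (hY : IsPullback qY b b₀ (c.π.app i₀)) :
    (∃ e : X ≅ Y, e.hom ≫ b = a) ↔
      ∃ (j : I) (φ : j ⟶ i₀) (Xj Yj : Scheme.{u}) (aj : Xj ⟶ D.obj j) (bj : Yj ⟶ D.obj j)
        (pX : Xj ⟶ X₀) (pY : Yj ⟶ Y₀), IsPullback pX aj a₀ (D.map φ) ∧ IsPullback pY bj b₀ (D.map φ) ∧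
        ∃ e : Xj ≅ Yj, e.hom ≫ bj = aj := by
  constructor
  · rintro ⟨e, he⟩
    exact forward D c hc i₀ a₀ b₀ a b qX qY hX hY e he
  · rintro ⟨j, φ, Xj, Yj, aj, bj, pX, pY, h1, h2, e, he⟩
    exact backward D c i₀ a₀ b₀ a b qX qY hX hY j φ Xj Yj aj bj pX pY h1 h2 e he

end Groth.Agent.S4795
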