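import Groth.Statements.S9190
import Mathlib
import Groth.Agent.S9189

set_option autoImplicit false
universe u
open CategoryTheory AlgebraicGeometry
open Lim

namespace Groth.Agent.S9190

open AlgebraicGeometry CategoryTheory Limits in
theorem diag_sq {X Y X₀ Y₀ : Scheme.{u}} {f : X ⟶ Y} {f₀ : X₀ ⟶ Y₀} {qX : X ⟶ X₀}
    {qY : Y ⟶ Y₀} (hX : IsPullback qX f f₀ qY) :
    ∃ μ : pullback f f ⟶ pullback f₀ f₀,
      IsPullback μ (pullback.fst f f ≫ f) (pullback.fst f₀ f₀ ≫ f₀) qY ∧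
      IsPullback qX (pullback.diagonal f) (pullback.diagonal f₀) μ := by
  have hc : (pullback.fst f f ≫ qX) ≫ f₀ = (pullback.snd f f ≫ qX) ≫ f₀ := by
    rw [Category.assoc, Category.assoc, hX.w, ← Category.assoc, ← Category.assoc,
      pullback.condition]
  obtain ⟨μ, hμ1, hμ2⟩ : ∃ μ : pullback f f ⟶ pullback f₀ f₀,
      μ ≫ pullback.fst f₀ f₀ = pullback.fst f f ≫ qX ∧
      μ ≫ pullback.snd f₀ f₀ = pullback.snd f f ≫ qX :=
    ⟨pullback.lift _ _ hc, pullback.lift_fst _ _ _, pullback.lift_snd _ _ _⟩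
  have sA := (IsPullback.of_hasPullback f f).flip
  have big := sA.paste_horiz hX
  have right := (IsPullback.of_hasPullback f₀ f₀).flip
  have s : IsPullback (μ ≫ pullback.snd f₀ f₀) (pullback.fst f f) f₀ (qX ≫ f₀) := by
    rw [hμ2, hX.w]; exact big
  have hA := IsPullback.of_right s hμ1 right
  refine ⟨μ, hA.paste_vert hX, ?_⟩
  have p : qX ≫ pullback.diagonal f₀ = pullback.diagonal f ≫ μ := by
    apply pullback.hom_ext
    · simp only [Category.assoc]
      rw [pullback.diagonal_fst, Category.comp_id, hμ1, ← Category.assoc, pullback.diagonal_fst,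
        Category.id_comp]
    · simp only [Category.assoc]
      rw [pullback.diagonal_snd, Category.comp_id, hμ2, ← Category.assoc, pullback.diagonal_snd,
        Category.id_comp]
  have s' : IsPullback qX (pullback.diagonal f ≫ pullback.fst f f)
      (pullback.diagonal f₀ ≫ pullback.fst f₀ f₀) qX := by
    rw [pullback.diagonal_fst, pullback.diagonal_fst]
    exact IsPullback.of_vert_isIso ⟨by simp⟩
  exact IsPullback.of_bot s' p hA

set_option backward.defeqAttrib.useBackward true in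
set_option backward.isDefEq.respectTransparency false in
open AlgebraicGeometry CategoryTheory Limits Groth.Agent.S9189 in
theorem mainS {I : Type u} [SmallCategory I] [IsCofiltered I]
    (D : I ⥤ Scheme.{u}) (c : Limits.Cone D) (hc : Limits.IsLimit c)
    [hD : ∀ (i j : I) (f : i ⟶ j), IsAffineHom (D.map f)] (i₀ : I) [CompactSpace (D.obj i₀)]
    [QuasiSeparatedSpace (D.obj i₀)] {X₀ Y₀ : Scheme.{u}} (f₀ : X₀ ⟶ Y₀) (g₀ : Y₀ ⟶ D.obj i₀)
    [CompactSpace X₀] [QuasiSeparatedSpace X₀] [CompactSpace Y₀] [QuasiSeparatedSpace Y₀]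
    {X Y : Scheme.{u}} (f : X ⟶ Y) (g : Y ⟶ c.pt) (qY : Y ⟶ Y₀) (qX : X ⟶ X₀)
    (hY : IsPullback qY g g₀ (c.π.app i₀)) (hX : IsPullback qX f f₀ qY) [IsSeparated f] :
    ∃ (i : I) (φ : i ⟶ i₀) (Xi Yi : Scheme.{u}) (fi : Xi ⟶ Yi) (gi : Yi ⟶ D.obj i) (pY : Yi ⟶ Y₀)
      (pX : Xi ⟶ X₀), IsPullback pY gi g₀ (D.map φ) ∧ IsPullback pX fi f₀ pY ∧
        IsSeparated fi := by
  haveI hf₀qc : QuasiCompact f₀ := by infer_instance
  haveI hf₀qs : QuasiSeparated f₀ := by infer_instance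
  haveI : CompactSpace ↥(pullback f₀ f₀) :=
    QuasiCompact.compactSpace_of_compactSpace (pullback.fst f₀ f₀)
  haveI : QuasiSeparatedSpace ↥(pullback f₀ f₀) :=
    quasiSeparatedSpace_of_quasiSeparated (pullback.fst f₀ f₀)
  haveI : LocallyOfFiniteType (pullback.diagonal f₀) := by infer_instance
  obtain ⟨μ, hi, hss⟩ := diag_sq hX
  have hY' := hi.paste_vert hY
  haveI : IsClosedImmersion (pullback.diagonal f) := by infer_instance
  obtain ⟨i, φ, Xi, Yi, fi, gi, pY, pX, h1, h2, hfi⟩ :=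
    Groth.Agent.S9189.main D c hc i₀ (pullback.diagonal f₀)
      ((pullback.fst f₀ f₀ ≫ f₀) ≫ g₀) (pullback.diagonal f) ((pullback.fst f f ≫ f) ≫ g) μ qX
      hY' hss
  refine ⟨i, φ, pullback (pullback.snd (D.map φ) g₀) f₀, pullback (D.map φ) g₀,
    pullback.fst (pullback.snd (D.map φ) g₀) f₀, pullback.fst (D.map φ) g₀,
    pullback.snd (D.map φ) g₀, pullback.snd (pullback.snd (D.map φ) g₀) f₀,
    (IsPullback.of_hasPullback (D.map φ) g₀).flip,
    (IsPullback.of_hasPullback (pullback.snd (D.map φ) g₀) f₀).flip, ?_⟩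
  obtain ⟨μ', hi', hss'⟩ := diag_sq (IsPullback.of_hasPullback (pullback.snd (D.map φ) g₀) f₀).flip
  have hcomp : μ' ≫ (pullback.fst f₀ f₀ ≫ f₀) ≫ g₀ =
      ((pullback.fst (pullback.fst (pullback.snd (D.map φ) g₀) f₀)
          (pullback.fst (pullback.snd (D.map φ) g₀) f₀) ≫
        pullback.fst (pullback.snd (D.map φ) g₀) f₀) ≫ pullback.fst (D.map φ) g₀) ≫ D.map φ := by
    rw [← Category.assoc μ', hi'.w]
    simp only [Category.assoc]
    rw [pullback.condition]
  have hcl : IsClosedImmersion (pullback.fst μ' (pullback.diagonal f₀)) :=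
    bc_transfer0 @IsClosedImmersion (pullback.diagonal f₀) fi pX pY h2 hfi μ'
      (h1.lift μ' _ hcomp) (h1.lift_fst _ _ _)
  have hΔ : IsClosedImmersion (pullback.diagonal (pullback.fst (pullback.snd (D.map φ) g₀) f₀)) :=
    of_two_pullbacks @IsClosedImmersion (IsPullback.of_hasPullback μ' (pullback.diagonal f₀)).flip
      hss' hcl
  exact ⟨hΔ⟩


/-- Let S = lim S_i be a cofiltered limit of schemes with affine transition morphisms, S_{i₀} a
quasi-compact quasi-separated stage, f₀ : X₀ → Y₀ a morphism of quasi-compact quasi-separated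
schemes over S_{i₀}, and f : X → Y its base change along S → S_{i₀} (base changes expressed by
pullback squares). If f is separated, then for some index i over i₀ the base change f_i : X_i → Y_i
of f₀ along S_i → S_{i₀} is separated. No finiteness hypothesis on f₀ is needed. -/
theorem result {I : Type u} [SmallCategory I] [IsCofiltered I]
    (D : I ⥤ Scheme.{u}) (c : Limits.Cone D) (hc : Limits.IsLimit c)
    [∀ (i j : I) (f : i ⟶ j), IsAffineHom (D.map f)] (i₀ : I) [CompactSpace (D.obj i₀)]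
    [QuasiSeparatedSpace (D.obj i₀)] {X₀ Y₀ : Scheme.{u}} (f₀ : X₀ ⟶ Y₀) (g₀ : Y₀ ⟶ D.obj i₀)
    [CompactSpace X₀] [QuasiSeparatedSpace X₀] [CompactSpace Y₀] [QuasiSeparatedSpace Y₀]
    {X Y : Scheme.{u}} (f : X ⟶ Y) (g : Y ⟶ c.pt) (qY : Y ⟶ Y₀) (qX : X ⟶ X₀)
    (hY : IsPullback qY g g₀ (c.π.app i₀)) (hX : IsPullback qX f f₀ qY) [IsSeparated f] :
    ∃ (i : I) (φ : i ⟶ i₀) (Xi Yi : Scheme.{u}) (fi : Xi ⟶ Yi) (gi : Yi ⟶ D.obj i) (pY : Yi ⟶ Y₀)
      (pX : Xi ⟶ X₀), IsPullback pY gi g₀ (D.map φ) ∧ IsPullback pX fi f₀ pY ∧ IsSeparated fi := by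
  exact mainS D c hc i₀ f₀ g₀ f g qY qX hY hX

end Groth.Agent.S9190
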