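import Groth.Statements.S4804
import Mathlib
import Groth.Agent.S9189
import Groth.Agent.S9190
import Groth.Agent.S4599
import Groth.Agent.S4818
import Groth.Agent.Lib.Helper9.Lim8

set_option autoImplicit false
universe u
open CategoryTheory AlgebraicGeometry
open Lim8

namespace Groth.Agent.S4804

set_option backward.defeqAttrib.useBackward true in
set_option backward.isDefEq.respectTransparency false in
open AlgebraicGeometry CategoryTheory Limits Groth.Agent.Helper9.Lim8 in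
theorem mainCI' {I : Type u} [SmallCategory I] [IsCofiltered I]
    (D : I ⥤ Scheme.{u}) (c : Limits.Cone D) (hc : Limits.IsLimit c)
    [hD : ∀ (i j : I) (f : i ⟶ j), IsAffineHom (D.map f)] (i₀ : I)
    {X₀ Y₀ : Scheme.{u}} (f₀ : X₀ ⟶ Y₀) (g₀ : Y₀ ⟶ D.obj i₀) [CompactSpace Y₀]
    [LocallyOfFinitePresentation f₀] [QuasiCompact f₀] [QuasiSeparated f₀]
    {X Y : Scheme.{u}} (f : X ⟶ Y) (g : Y ⟶ c.pt) (qY : Y ⟶ Y₀) (qX : X ⟶ X₀)
    (hY : IsPullback qY g g₀ (c.π.app i₀)) (hX : IsPullback qX f f₀ qY)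
    [IsClosedImmersion f] :
    ∃ (i : I) (φ : i ⟶ i₀) (Xi Yi : Scheme.{u}) (fi : Xi ⟶ Yi) (gi : Yi ⟶ D.obj i) (pY : Yi ⟶ Y₀)
      (pX : Xi ⟶ X₀), IsPullback pY gi g₀ (D.map φ) ∧ IsPullback pX fi f₀ pY ∧
        IsClosedImmersion fi := by
  haveI hD' : ∀ {i j : I} (a : i ⟶ j), IsAffineHom (D.map a) := fun a => hD _ _ a
  haveI hYc' : ∀ m : Over i₀, CompactSpace ↥(pullback (D.map m.hom) g₀) := fun m => by
    infer_instance
  haveI hYc : ∀ m : Over i₀, CompactSpace ((bcDiagram D g₀).obj m) := fun m => hYc' m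
  obtain ⟨j₁⟩ : Nonempty (Over i₀) := ⟨Over.mk (𝟙 i₀)⟩
  haveI : IsClosedImmersion (pullback.fst ((bcCone D c g₀).π.app j₁)
      (pullback.fst (pullback.snd (D.map j₁.hom) g₀) f₀)) :=
    Groth.Agent.S9189.bc_transfer @IsClosedImmersion f₀ f qX qY hX
      (inferInstance : IsClosedImmersion f) (pullback.snd (D.map j₁.hom) g₀)
      ((bcCone D c g₀).π.app j₁) hY.flip.isoPullback.inv
      (by rw [IsPullback.isoPullback_inv_snd, bcCone_π_snd])
  obtain ⟨k, hk⟩ := Groth.Agent.S4818.core_ci' (bcDiagram D g₀) (bcCone D c g₀)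
    (bcIsLimit D c hc g₀) j₁ (pullback.fst (pullback.snd (D.map j₁.hom) g₀) f₀)
  have hk' := hk k (𝟙 k)
  refine ⟨k.left.left, k.left.hom,
    pullback ((bcDiagram D g₀).map k.hom) (pullback.fst (pullback.snd (D.map j₁.hom) g₀) f₀),
    pullback (D.map k.left.hom) g₀,
    pullback.fst ((bcDiagram D g₀).map k.hom) (pullback.fst (pullback.snd (D.map j₁.hom) g₀) f₀),
    pullback.fst (D.map k.left.hom) g₀, pullback.snd (D.map k.left.hom) g₀,
    pullback.snd ((bcDiagram D g₀).map k.hom)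
        (pullback.fst (pullback.snd (D.map j₁.hom) g₀) f₀) ≫
      pullback.snd (pullback.snd (D.map j₁.hom) g₀) f₀,
    (IsPullback.of_hasPullback (D.map k.left.hom) g₀).flip, ?_, hk'⟩
  have left := (IsPullback.of_hasPullback ((bcDiagram D g₀).map k.hom)
    (pullback.fst (pullback.snd (D.map j₁.hom) g₀) f₀)).flip
  have right := (IsPullback.of_hasPullback (pullback.snd (D.map j₁.hom) g₀) f₀).flip
  have big := left.paste_horiz right
  rw [bcDiagram_map_snd] at big
  exact big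


set_option backward.defeqAttrib.useBackward true in
set_option backward.isDefEq.respectTransparency false in
open AlgebraicGeometry CategoryTheory Limits in
theorem mainIff {I : Type u} [SmallCategory I] [IsCofiltered I]
    (D : I ⥤ Scheme.{u}) (c : Limits.Cone D) (hc : Limits.IsLimit c)
    [hD : ∀ (i j : I) (f : i ⟶ j), IsAffineHom (D.map f)] (i₀ : I)
    {X₀ Y₀ : Scheme.{u}} (f₀ : X₀ ⟶ Y₀) (g₀ : Y₀ ⟶ D.obj i₀) [CompactSpace Y₀]
    [LocallyOfFiniteType f₀] [QuasiCompact f₀] [QuasiSeparated f₀]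
    {X Y : Scheme.{u}} (f : X ⟶ Y) (g : Y ⟶ c.pt) (qY : Y ⟶ Y₀) (qX : X ⟶ X₀)
    (hY : IsPullback qY g g₀ (c.π.app i₀)) (hX : IsPullback qX f f₀ qY) :
    IsSeparated f ↔
      ∃ (j : I) (φ : j ⟶ i₀) (Xj Yj : Scheme.{u}) (fj : Xj ⟶ Yj) (gj : Yj ⟶ D.obj j) (pY : Yj ⟶ Y₀)
        (pX : Xj ⟶ X₀), IsPullback pY gj g₀ (D.map φ) ∧ IsPullback pX fj f₀ pY ∧ IsSeparated fj := by
  constructor
  · intro hsep
    haveI := hsep
    haveI : CompactSpace ↥(pullback f₀ f₀) :=
      QuasiCompact.compactSpace_of_compactSpace (pullback.fst f₀ f₀ ≫ f₀)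
    haveI : LocallyOfFinitePresentation (pullback.diagonal f₀) := Groth.Agent.S4599.result f₀
    haveI : QuasiCompact (pullback.diagonal f₀) := by infer_instance
    haveI : QuasiSeparated (pullback.diagonal f₀) := by infer_instance
    obtain ⟨μ, hi, hss⟩ := Groth.Agent.S9190.diag_sq hX
    have hY' := hi.paste_vert hY
    haveI : IsClosedImmersion (pullback.diagonal f) := by infer_instance
    obtain ⟨i, φ, Xi, Yi, fi, gi, pY, pX, h1, h2, hfi⟩ :=
      mainCI' D c hc i₀ (pullback.diagonal f₀)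
        ((pullback.fst f₀ f₀ ≫ f₀) ≫ g₀) (pullback.diagonal f) ((pullback.fst f f ≫ f) ≫ g) μ qX
        hY' hss
    refine ⟨i, φ, pullback (pullback.snd (D.map φ) g₀) f₀, pullback (D.map φ) g₀,
      pullback.fst (pullback.snd (D.map φ) g₀) f₀, pullback.fst (D.map φ) g₀,
      pullback.snd (D.map φ) g₀, pullback.snd (pullback.snd (D.map φ) g₀) f₀,
      (IsPullback.of_hasPullback (D.map φ) g₀).flip,
      (IsPullback.of_hasPullback (pullback.snd (D.map φ) g₀) f₀).flip, ?_⟩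
    obtain ⟨μ', hi', hss'⟩ := Groth.Agent.S9190.diag_sq
      (IsPullback.of_hasPullback (pullback.snd (D.map φ) g₀) f₀).flip
    have hcomp : μ' ≫ (pullback.fst f₀ f₀ ≫ f₀) ≫ g₀ =
        ((pullback.fst (pullback.fst (pullback.snd (D.map φ) g₀) f₀)
            (pullback.fst (pullback.snd (D.map φ) g₀) f₀) ≫
          pullback.fst (pullback.snd (D.map φ) g₀) f₀) ≫ pullback.fst (D.map φ) g₀) ≫
            D.map φ := by
      rw [← Category.assoc μ', hi'.w]
      simp only [Category.assoc]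
      rw [pullback.condition]
    have hcl : IsClosedImmersion (pullback.fst μ' (pullback.diagonal f₀)) :=
      Groth.Agent.S9189.bc_transfer0 @IsClosedImmersion (pullback.diagonal f₀) fi pX pY h2 hfi μ'
        (h1.lift μ' _ hcomp) (h1.lift_fst _ _ _)
    have hΔ : IsClosedImmersion
        (pullback.diagonal (pullback.fst (pullback.snd (D.map φ) g₀) f₀)) :=
      Groth.Agent.S9189.of_two_pullbacks @IsClosedImmersion
        (IsPullback.of_hasPullback μ' (pullback.diagonal f₀)).flip hss' hcl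
    exact ⟨hΔ⟩
  · rintro ⟨j, φ, Xj, Yj, fj, gj, pY, pX, h1, h2, h3⟩
    have hw : qY ≫ g₀ = (g ≫ c.π.app j) ≫ D.map φ := by
      rw [Category.assoc, c.w φ]; exact hY.w
    have h4 : IsSeparated (pullback.fst qY f₀) :=
      Groth.Agent.S9189.bc_transfer0 @IsSeparated f₀ fj pX pY h2 h3 qY
        (h1.lift qY (g ≫ c.π.app j) hw) (h1.lift_fst _ _ hw)
    exact Groth.Agent.S9189.of_two_pullbacks @IsSeparated
      (IsPullback.of_hasPullback qY f₀).flip hX h4

/-- Let S = lim S_i be a cofiltered limit of schemes with affine transition maps, let f₀ : X₀ ⟶ Y₀ be a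
morphism of schemes over a stage S_{i₀}, with Y₀ quasi-compact and f₀ of finite type and
quasi-separated, and let f : X ⟶ Y be the base change of f₀ along S ⟶ S_{i₀} (base changes are
expressed by pullback squares). Then f is separated if and only if, for some index j over i₀, the
base change f_j : X_j ⟶ Y_j of f₀ along S_j ⟶ S_{i₀} is separated. -/
theorem result {I : Type u} [SmallCategory I] [IsCofiltered I]
    (D : I ⥤ Scheme.{u}) (c : Limits.Cone D) (hc : Limits.IsLimit c)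
    [∀ (i j : I) (f : i ⟶ j), IsAffineHom (D.map f)] (i₀ : I)
    {X₀ Y₀ : Scheme.{u}} (f₀ : X₀ ⟶ Y₀) (g₀ : Y₀ ⟶ D.obj i₀) [CompactSpace Y₀]
    [LocallyOfFiniteType f₀] [QuasiCompact f₀] [QuasiSeparated f₀]
    {X Y : Scheme.{u}} (f : X ⟶ Y) (g : Y ⟶ c.pt) (qY : Y ⟶ Y₀) (qX : X ⟶ X₀)
    (hY : IsPullback qY g g₀ (c.π.app i₀)) (hX : IsPullback qX f f₀ qY) :
    IsSeparated f ↔
      ∃ (j : I) (φ : j ⟶ i₀) (Xj Yj : Scheme.{u}) (fj : Xj ⟶ Yj) (gj : Yj ⟶ D.obj j) (pY : Yj ⟶ Y₀)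
        (pX : Xj ⟶ X₀), IsPullback pY gj g₀ (D.map φ) ∧ IsPullback pX fj f₀ pY ∧ IsSeparated fj := by
  exact mainIff D c hc i₀ f₀ g₀ f g qY qX hY hX

end Groth.Agent.S4804
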