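import Groth.Statements.S4806
import Mathlib
import Groth.Agent.Lib.Helper5.FibMono

set_option autoImplicit false
universe u
open CategoryTheory AlgebraicGeometry
open Lim8

namespace Groth.Agent.S4806

lemma mono_of_isEmpty {Z W : Scheme.{u}} (g : Z ⟶ W) [IsEmpty Z] : Mono g := by
  constructor
  intro T a b _
  haveI : IsEmpty T := ⟨fun t => isEmptyElim (a t)⟩
  exact isInitialOfIsEmpty.hom_ext a b

/-- Let f : X ⟶ Y be a proper morphism of finite presentation. Then f is a closed immersion if and only
if, for every point y of Y, the scheme-theoretic fibre of f at y is empty or its structure morphism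
to Spec κ(y) is an isomorphism. -/
theorem result {X Y : Scheme.{u}} (f : X ⟶ Y) [IsProper f]
    [LocallyOfFinitePresentation f] :
    IsClosedImmersion f ↔ ∀ y : Y, IsEmpty (f.fiber y) ∨ IsIso (f.fiberToSpecResidueField y) := by
  constructor
  · intro hf y
    haveI : IsClosedImmersion (f.fiberToSpecResidueField y) :=
      MorphismProperty.pullback_snd _ _ hf
    by_cases hne : Nonempty (f.fiber y)
    · right
      haveI : Subsingleton ↥(Spec (Y.residueField y)) :=
        inferInstanceAs (Subsingleton (PrimeSpectrum (Y.residueField y)))
      haveI : Surjective (f.fiberToSpecResidueField y) := by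
        constructor
        intro z
        obtain ⟨x⟩ := hne
        exact ⟨x, Subsingleton.elim _ _⟩
      exact isIso_of_isClosedImmersion_of_surjective _
    · left
      exact not_nonempty_iff.mp hne
  · intro h
    have hm : ∀ y, Mono (f.fiberToSpecResidueField y) := by
      intro y
      rcases h y with he | hi
      · exact mono_of_isEmpty _
      · infer_instance
    exact (IsClosedImmersion.iff_isProper_and_mono f).mpr
      ⟨inferInstance, Groth.Agent.Helper5.FibMono.mono_of_mono_fibers f hm⟩

end Groth.Agent.S4806
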