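import Groth.Statements.S4808
import Mathlib
import Groth.Agent.Lib.Helper5.BirNormal

set_option autoImplicit false
universe u
open CategoryTheory AlgebraicGeometry
open Lim8

namespace Groth.Agent.S4808
open Groth.Agent.Helper5.BirNormal Groth.Agent.Helper5.FibClosed

/-- Let Y' and Y be integral schemes, Y normal (every local ring of Y is integrally closed), and u : Y'
⟶ Y a finite morphism which is birational: u maps the generic point of Y' to the generic point of Y
and the stalk map of u at the generic point of Y', which is the induced homomorphism of function
fields, is an isomorphism. Then u is an isomorphism. -/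
theorem result {Y' Y : Scheme.{u}} [IsIntegral Y'] [IsIntegral Y]
    (hN : ∀ y : Y, IsIntegrallyClosed (Y.presheaf.stalk y)) (u : Y' ⟶ Y) [IsFinite u]
    (hgen : u (genericPoint Y') = genericPoint Y)
    (hbir : IsIso (u.stalkMap (genericPoint Y'))) : IsIso u := by
  have hfib : ∀ y, IsIso (u.fiberToSpecResidueField y) := fun y =>
    isIso_fiber_of_integral_birational u _ rfl hgen hbir y (hN y)
  haveI : Mono u := Groth.Agent.Helper5.FibMono.mono_of_mono_fibers u (fun y => by
    haveI := hfib y
    infer_instance)
  haveI : IsClosedImmersion u :=
    (IsClosedImmersion.iff_isFinite_and_mono u).mpr ⟨inferInstance, inferInstance⟩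
  haveI : Surjective u := ⟨fun y => by
    haveI := hfib y
    have z : u.fiber y :=
      (u.fiberToSpecResidueField y).homeomorph.symm (IsLocalRing.closedPoint (Y.residueField y))
    refine ⟨u.fiberι y z, ?_⟩
    have h1 : u.fiberι y z ∈ Set.range (u.fiberι y) := ⟨z, rfl⟩
    rw [u.range_fiberι] at h1
    exact h1⟩
  exact isIso_of_isClosedImmersion_of_surjective u

end Groth.Agent.S4808
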