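import Groth.Statements.S4816
import Mathlib
import Groth.Agent.S4805

set_option autoImplicit false
universe u
open CategoryTheory AlgebraicGeometry
open Lim8

namespace Groth.Agent.S4816

open AlgebraicGeometry CategoryTheory Limits in
theorem backward {I : Type u} [SmallCategory I]
    (D : I ⥤ Scheme.{u}) (c : Limits.Cone D) (i₀ : I)
    {Z₁ Z₂ : Scheme.{u}} (ι₁ : Z₁ ⟶ D.obj i₀) (ι₂ : Z₂ ⟶ D.obj i₀)
    (j : I) (φ : j ⟶ i₀) (k : pullback ι₁ (D.map φ) ⟶ pullback ι₂ (D.map φ))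
    (hk : k ≫ pullback.snd ι₂ (D.map φ) = pullback.snd ι₁ (D.map φ)) :
    ∃ k' : pullback ι₁ (c.π.app i₀) ⟶ pullback ι₂ (c.π.app i₀),
      k' ≫ pullback.snd ι₂ (c.π.app i₀) = pullback.snd ι₁ (c.π.app i₀) := by
  have hm : pullback.fst ι₁ (c.π.app i₀) ≫ ι₁ =
      (pullback.snd ι₁ (c.π.app i₀) ≫ c.π.app j) ≫ D.map φ := by
    rw [pullback.condition, Category.assoc, c.w]
  obtain ⟨m, hm1, hm2⟩ : ∃ m : pullback ι₁ (c.π.app i₀) ⟶ pullback ι₁ (D.map φ),
      m ≫ pullback.fst ι₁ (D.map φ) = pullback.fst ι₁ (c.π.app i₀) ∧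
      m ≫ pullback.snd ι₁ (D.map φ) = pullback.snd ι₁ (c.π.app i₀) ≫ c.π.app j :=
    ⟨pullback.lift _ _ hm, pullback.lift_fst _ _ _, pullback.lift_snd _ _ _⟩
  have hcomm : (m ≫ k ≫ pullback.fst ι₂ (D.map φ)) ≫ ι₂ =
      pullback.snd ι₁ (c.π.app i₀) ≫ c.π.app i₀ := by
    simp only [Category.assoc]
    rw [pullback.condition, reassoc_of% hk, reassoc_of% hm2, c.w]
  exact ⟨pullback.lift _ _ hcomm, pullback.lift_snd _ _ _⟩

set_option backward.defeqAttrib.useBackward true in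
set_option backward.isDefEq.respectTransparency false in
open AlgebraicGeometry CategoryTheory Limits in
theorem forward {I : Type u} [SmallCategory I] [IsCofiltered I]
    (D : I ⥤ Scheme.{u}) (c : Limits.Cone D) (hc : Limits.IsLimit c)
    [hD : ∀ (i j : I) (f : i ⟶ j), IsAffineHom (D.map f)] (i₀ : I) [CompactSpace (D.obj i₀)]
    {Z₁ Z₂ : Scheme.{u}} (ι₁ : Z₁ ⟶ D.obj i₀) (ι₂ : Z₂ ⟶ D.obj i₀)
    [IsImmersion ι₁] [LocallyOfFinitePresentation ι₁] [QuasiCompact ι₁]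
    [IsImmersion ι₂] [LocallyOfFinitePresentation ι₂] [QuasiCompact ι₂]
    (k : pullback ι₁ (c.π.app i₀) ⟶ pullback ι₂ (c.π.app i₀))
    (hk : k ≫ pullback.snd ι₂ (c.π.app i₀) = pullback.snd ι₁ (c.π.app i₀)) :
    ∃ (j : I) (φ : j ⟶ i₀) (k : pullback ι₁ (D.map φ) ⟶ pullback ι₂ (D.map φ)),
      k ≫ pullback.snd ι₂ (D.map φ) = pullback.snd ι₁ (D.map φ) := by
  haveI : CompactSpace Z₁ := QuasiCompact.compactSpace_of_compactSpace ι₁
  haveI : LocallyOfFinitePresentation (pullback.fst ι₁ ι₂) := by infer_instance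
  haveI : QuasiCompact (pullback.fst ι₁ ι₂) := by infer_instance
  haveI : IsImmersion (pullback.fst ι₁ ι₂) := by infer_instance
  haveI : QuasiSeparated (pullback.fst ι₁ ι₂) := by infer_instance
  have hqX : pullback.fst ι₁ (c.π.app i₀) ≫ ι₁ = (k ≫ pullback.fst ι₂ (c.π.app i₀)) ≫ ι₂ := by
    have h0 : (k ≫ pullback.fst ι₂ (c.π.app i₀)) ≫ ι₂ =
        pullback.snd ι₁ (c.π.app i₀) ≫ c.π.app i₀ := by
      rw [Category.assoc, pullback.condition, reassoc_of% hk]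
    exact pullback.condition.trans h0.symm
  obtain ⟨qX, hqX1, hqX2⟩ : ∃ qX : pullback ι₁ (c.π.app i₀) ⟶ pullback ι₁ ι₂,
      qX ≫ pullback.fst ι₁ ι₂ = pullback.fst ι₁ (c.π.app i₀) ∧
      qX ≫ pullback.snd ι₁ ι₂ = k ≫ pullback.fst ι₂ (c.π.app i₀) :=
    ⟨pullback.lift _ _ hqX, pullback.lift_fst _ _ _, pullback.lift_snd _ _ _⟩
  have hw : qX ≫ pullback.fst ι₁ ι₂ = 𝟙 _ ≫ pullback.fst ι₁ (c.π.app i₀) := by
    rw [hqX1, Category.id_comp]
  have hX : IsPullback qX (𝟙 (pullback ι₁ (c.π.app i₀))) (pullback.fst ι₁ ι₂)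
      (pullback.fst ι₁ (c.π.app i₀)) := by
    refine ⟨⟨hw⟩, ⟨PullbackCone.IsLimit.mk hw (fun s => s.snd) (fun s => ?_)
      (fun s => Category.comp_id _) (fun s m _ h2 => ?_)⟩⟩
    · apply pullback.hom_ext
      · rw [Category.assoc, hqX1, s.condition]
      · rw [← cancel_mono ι₂]
        simp only [Category.assoc]
        rw [reassoc_of% hqX2, pullback.condition (f := ι₂) (g := c.π.app i₀), reassoc_of% hk,
          ← pullback.condition (f := ι₁) (g := c.π.app i₀),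
          ← pullback.condition (f := ι₁) (g := ι₂), reassoc_of% s.condition]
    · rw [← h2, Category.comp_id]
  obtain ⟨j, φ, Xj, Yj, fj, gj, pY, pX, h1, h2, hfj⟩ :=
    Groth.Agent.S4805.mainIso D c hc i₀ (pullback.fst ι₁ ι₂) ι₁ (𝟙 _)
      (pullback.snd ι₁ (c.π.app i₀)) (pullback.fst ι₁ (c.π.app i₀)) qX
      (IsPullback.of_hasPullback ι₁ (c.π.app i₀)) hX
  have hcomm : (h1.isoPullback.inv ≫ inv fj ≫ pX ≫ pullback.snd ι₁ ι₂) ≫ ι₂ =
      pullback.snd ι₁ (D.map φ) ≫ D.map φ := by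
    simp only [Category.assoc]
    rw [← pullback.condition (f := ι₁) (g := ι₂), reassoc_of% h2.w, h1.w,
      IsIso.inv_hom_id_assoc, ← Category.assoc, h1.isoPullback_inv_snd]
  exact ⟨j, φ, pullback.lift _ _ hcomm, pullback.lift_snd _ _ _⟩


open CategoryTheory.Limits in
/-- Let S = lim S_i be a cofiltered limit of schemes with affine transition maps and S_{i₀} a
quasi-compact stage; let ι₁ : Z₁ ⟶ S_{i₀} and ι₂ : Z₂ ⟶ S_{i₀} be two subschemes of finite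
presentation of S_{i₀} (immersions which are locally of finite presentation and quasi-compact), with
base changes Z₁ ×_{S_{i₀}} T ⟶ T to T = S and to T = S_j. Then Z₁ ×_{S_{i₀}} S is a subscheme of Z₂
×_{S_{i₀}} S (its immersion into S factors through that of Z₂ ×_{S_{i₀}} S) if and only if, for some
index j over i₀, Z₁ ×_{S_{i₀}} S_j is a subscheme of Z₂ ×_{S_{i₀}} S_j. -/
theorem result {I : Type u} [SmallCategory I] [IsCofiltered I]
    (D : I ⥤ Scheme.{u}) (c : Limits.Cone D) (hc : Limits.IsLimit c)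
    [∀ (i j : I) (f : i ⟶ j), IsAffineHom (D.map f)] (i₀ : I) [CompactSpace (D.obj i₀)]
    {Z₁ Z₂ : Scheme.{u}} (ι₁ : Z₁ ⟶ D.obj i₀) (ι₂ : Z₂ ⟶ D.obj i₀)
    [IsImmersion ι₁] [LocallyOfFinitePresentation ι₁] [QuasiCompact ι₁]
    [IsImmersion ι₂] [LocallyOfFinitePresentation ι₂] [QuasiCompact ι₂] :
    (∃ k : pullback ι₁ (c.π.app i₀) ⟶ pullback ι₂ (c.π.app i₀),
        k ≫ pullback.snd ι₂ (c.π.app i₀) = pullback.snd ι₁ (c.π.app i₀)) ↔
      ∃ (j : I) (φ : j ⟶ i₀) (k : pullback ι₁ (D.map φ) ⟶ pullback ι₂ (D.map φ)),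
        k ≫ pullback.snd ι₂ (D.map φ) = pullback.snd ι₁ (D.map φ) := by
  constructor
  · rintro ⟨k, hk⟩
    exact forward D c hc i₀ ι₁ ι₂ k hk
  · rintro ⟨j, φ, k, hk⟩
    exact backward D c i₀ ι₁ ι₂ j φ k hk

end Groth.Agent.S4816
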