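import Groth.Statements.S4817
import Mathlib
import Groth.Agent.S2580
import Groth.Agent.S9189
import Groth.Agent.Lib.Helper9.Lim8

set_option autoImplicit false
universe u
open CategoryTheory AlgebraicGeometry
open Lim8

namespace Groth.Agent.S4817

open AlgebraicGeometry CategoryTheory Limits Groth.Agent.S9189 in
theorem core_of_exists (P : MorphismProperty Scheme.{u}) [P.IsStableUnderBaseChange]
    {I : Type u} [SmallCategory I] (D : I ⥤ Scheme.{u}) (i : I)
    {Xi : Scheme.{u}} (x : Xi ⟶ D.obj i)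
    (h : ∃ (j : I) (φ : j ⟶ i) (Xj Yj : Scheme.{u}) (fj : Xj ⟶ Yj) (gj : Yj ⟶ D.obj j)
      (pY : Yj ⟶ D.obj i) (pX : Xj ⟶ Xi), IsPullback pY gj (𝟙 (D.obj i)) (D.map φ) ∧
        IsPullback pX fj x pY ∧ P fj) :
    ∃ k : Over i, ∀ (l : Over i) (_ : l ⟶ k), P (pullback.fst (D.map l.hom) x) := by
  obtain ⟨j, φ, Xj, Yj, fj, gj, pY, pX, h1, h2, h3⟩ := h
  refine ⟨Over.mk φ, fun l ψ => ?_⟩
  have hw : D.map l.hom ≫ 𝟙 (D.obj i) = D.map ψ.left ≫ D.map φ := by
    rw [Category.comp_id, ← D.map_comp]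
    congr 1
    exact (Over.w ψ).symm
  exact bc_transfer0 P x fj pX pY h2 h3 (D.map l.hom) (h1.lift (D.map l.hom) (D.map ψ.left) hw)
    (h1.lift_fst _ _ hw)

set_option backward.defeqAttrib.useBackward true in
set_option backward.isDefEq.respectTransparency false in
open AlgebraicGeometry CategoryTheory Limits Groth.Agent.Helper9.Lim8 in
theorem core_oi {I : Type u} [SmallCategory I] [IsCofiltered I]
    (D : I ⥤ Scheme.{u}) (c : Cone D) (hc : IsLimit c)
    [hD : ∀ {i j : I} (f : i ⟶ j), IsAffineHom (D.map f)] (i : I)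
    [CompactSpace (D.obj i)] [QuasiSeparatedSpace (D.obj i)]
    {Xi : Scheme.{u}} (x : Xi ⟶ D.obj i) [LocallyOfFinitePresentation x] [QuasiCompact x]
    [QuasiSeparated x] [IsOpenImmersion (pullback.fst (c.π.app i) x)] :
    ∃ k : Over i, ∀ (l : Over i) (_ : l ⟶ k),
      IsOpenImmersion (pullback.fst (D.map l.hom) x) := by
  haveI hD' : ∀ (i j : I) (f : i ⟶ j), IsAffineHom (D.map f) := fun _ _ f => hD f
  haveI : CompactSpace Xi := QuasiCompact.compactSpace_of_compactSpace x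
  haveI : QuasiSeparatedSpace Xi := quasiSeparatedSpace_of_quasiSeparated x
  exact core_of_exists @IsOpenImmersion D i x
    (Groth.Agent.S2580.main D c hc i x (𝟙 _) (pullback.fst (c.π.app i) x) (𝟙 c.pt) (c.π.app i)
      (pullback.snd (c.π.app i) x) (IsPullback.id_vert (c.π.app i))
      (IsPullback.of_hasPullback (c.π.app i) x).flip)

set_option backward.defeqAttrib.useBackward true in
set_option backward.isDefEq.respectTransparency false in
open AlgebraicGeometry CategoryTheory Limits Groth.Agent.Helper9.Lim8 Groth.Agent.S9189 in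
theorem perV_oi {I : Type u} [SmallCategory I] [IsCofiltered I]
    (D : I ⥤ Scheme.{u}) (c : Cone D) (hc : IsLimit c)
    [hD : ∀ {i j : I} (f : i ⟶ j), IsAffineHom (D.map f)] (i : I)
    {Xi : Scheme.{u}} (x : Xi ⟶ D.obj i) [LocallyOfFinitePresentation x] [QuasiCompact x]
    [QuasiSeparated x]
    [IsOpenImmersion (pullback.fst (c.π.app i) x)] (W : (D.obj i).Opens)
    (hW : IsAffineOpen W) :
    ∃ k : Over i, ∀ (l : Over i) (_ : l ⟶ k),
      IsOpenImmersion (pullback.fst (D.map l.hom) x ∣_ (D.map l.hom ⁻¹ᵁ W)) := by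
  haveI : IsAffineHom (c.π.app i) := isAffineHom_π_app D c hc i
  haveI hEaff : ∀ j : Over i, IsAffine ((opensDiagram D i W).obj j) := fun j =>
    (hW.preimage (D.map j.hom) : IsAffineOpen (D.map j.hom ⁻¹ᵁ W))
  haveI hEaff' : ∀ j : Over i,
      IsAffine ((D.map j.hom ⁻¹ᵁ W : (D.obj j.left).Opens) : Scheme.{u}) := fun j => hEaff j
  obtain ⟨j₀⟩ : Nonempty (Over i) := ⟨Over.mk (𝟙 i)⟩
  have hEι : ∀ {k j : Over i} (φ : k ⟶ j), (opensDiagram D i W).map φ ≫
      (D.map j.hom ⁻¹ᵁ W).ι = (D.map k.hom ⁻¹ᵁ W).ι ≫ D.map φ.left := by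
    intro k j φ
    rw [opensDiagram_map]
    exact Scheme.Hom.resLE_comp_ι _ _
  have hconeι : ∀ k : Over i, (opensCone D c i W).π.app k ≫ (D.map k.hom ⁻¹ᵁ W).ι =
      (c.π.app i ⁻¹ᵁ W).ι ≫ c.π.app k.left := fun k => by
    rw [opensCone_π_app]; exact Scheme.Hom.resLE_comp_ι _ _
  obtain ⟨y₀, hy₀⟩ : ∃ y₀ : (opensDiagram D i W).obj j₀ ⟶ D.obj i,
      y₀ = (D.map j₀.hom ⁻¹ᵁ W).ι ≫ D.map j₀.hom := ⟨_, rfl⟩
  haveI : CompactSpace ↥((opensDiagram D i W).obj j₀) := inferInstance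
  haveI : QuasiSeparatedSpace ↥((opensDiagram D i W).obj j₀) := inferInstance
  haveI : CompactSpace ↥(pullback y₀ x) :=
    QuasiCompact.compactSpace_of_compactSpace (pullback.fst y₀ x)
  haveI : QuasiSeparatedSpace ↥(pullback y₀ x) :=
    quasiSeparatedSpace_of_quasiSeparated (pullback.fst y₀ x)
  haveI : IsOpenImmersion (pullback.fst ((opensCone D c i W).π.app j₀) (pullback.fst y₀ x)) := by
    refine bc_transfer @IsOpenImmersion x (pullback.fst (c.π.app i) x)
      (pullback.snd (c.π.app i) x) (c.π.app i) (IsPullback.of_hasPullback (c.π.app i) x).flip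
      (inferInstance : IsOpenImmersion (pullback.fst (c.π.app i) x)) y₀ ((opensCone D c i W).π.app j₀)
      (c.π.app i ⁻¹ᵁ W).ι ?_
    rw [hy₀, reassoc_of% (hconeι j₀), c.w]
  obtain ⟨k₂, hk₂⟩ := core_oi (opensDiagram D i W) (opensCone D c i W)
    (isLimitOpensCone D c hc i W) j₀ (pullback.fst y₀ x)
  refine ⟨k₂.left, fun l ψ => ?_⟩
  obtain ⟨h, hh⟩ : ∃ h : l ⟶ j₀, h = ψ ≫ k₂.hom := ⟨_, rfl⟩
  have hcl : IsOpenImmersion (pullback.fst ((opensDiagram D i W).map h) (pullback.fst y₀ x)) :=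
    hk₂ (Over.mk h) (Over.homMk ψ hh.symm)
  have sqB := (IsPullback.of_hasPullback ((opensDiagram D i W).map h)
    (pullback.fst y₀ x)).flip.paste_horiz (IsPullback.of_hasPullback y₀ x).flip
  have hbottom : (opensDiagram D i W).map h ≫ y₀ = (D.map l.hom ⁻¹ᵁ W).ι ≫ D.map l.hom := by
    rw [hy₀, reassoc_of% (hEι h), ← D.map_comp, Over.w h]
  rw [hbottom] at sqB
  have sqA := (isPullback_morphismRestrict (pullback.fst (D.map l.hom) x)
    (D.map l.hom ⁻¹ᵁ W)).flip.paste_horiz (IsPullback.of_hasPullback (D.map l.hom) x).flip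
  exact of_two_pullbacks @IsOpenImmersion sqB sqA hcl

set_option backward.defeqAttrib.useBackward true in
set_option backward.isDefEq.respectTransparency false in
open AlgebraicGeometry CategoryTheory Limits Groth.Agent.Helper9.Lim8 in
theorem core_oi' {I : Type u} [SmallCategory I] [IsCofiltered I]
    (D : I ⥤ Scheme.{u}) (c : Cone D) (hc : IsLimit c)
    [hD : ∀ {i j : I} (f : i ⟶ j), IsAffineHom (D.map f)] (i : I) [CompactSpace (D.obj i)]
    {Xi : Scheme.{u}} (x : Xi ⟶ D.obj i) [LocallyOfFinitePresentation x] [QuasiCompact x]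
    [QuasiSeparated x] [IsOpenImmersion (pullback.fst (c.π.app i) x)] :
    ∃ k : Over i, ∀ (l : Over i) (_ : l ⟶ k), IsOpenImmersion (pullback.fst (D.map l.hom) x) := by
  classical
  let 𝒰 := (D.obj i).affineCover.finiteSubcover
  have hWa : ∀ a : 𝒰.I₀, IsAffineOpen (𝒰.f a).opensRange := fun a =>
    isAffineOpen_opensRange (𝒰.f a)
  choose j hj using fun a : 𝒰.I₀ => perV_oi D c hc i x (𝒰.f a).opensRange (hWa a)
  obtain ⟨k, hk⟩ := IsCofiltered.inf_objs_exists (Finset.univ.image j)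
  refine ⟨k, fun l φ => ?_⟩
  have hsup : ⨆ a : 𝒰.I₀, D.map l.hom ⁻¹ᵁ (𝒰.f a).opensRange = ⊤ := by
    rw [eq_top_iff]
    intro p _
    have hp : (D.map l.hom) p ∈ (⊤ : (D.obj i).Opens) := trivial
    rw [← 𝒰.iSup_opensRange, TopologicalSpace.Opens.mem_iSup] at hp
    obtain ⟨a, ha⟩ := hp
    exact TopologicalSpace.Opens.mem_iSup.mpr ⟨a, ha⟩
  apply IsZariskiLocalAtTarget.of_iSup_eq_top (P := @IsOpenImmersion)
    (fun a : 𝒰.I₀ => D.map l.hom ⁻¹ᵁ (𝒰.f a).opensRange) hsup ?_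
  intro a
  obtain ⟨ψ⟩ := hk (Finset.mem_image_of_mem j (Finset.mem_univ a))
  exact hj a l (φ ≫ ψ)



open CategoryTheory.Limits in
/-- Let S = lim S_i be a cofiltered limit of schemes with affine transition maps and S_{i₀} a
quasi-compact stage; let ι₀ : Z₀ ⟶ S_{i₀} be a subscheme of finite presentation (an immersion which
is locally of finite presentation and quasi-compact). Then the base change Z₀ ×_{S_{i₀}} S ⟶ S of ι₀
is an open immersion if and only if, for some index j over i₀, the base change Z₀ ×_{S_{i₀}} S_j ⟶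
S_j is an open immersion. This is the case of open subschemes. -/
theorem result {I : Type u} [SmallCategory I] [IsCofiltered I]
    (D : I ⥤ Scheme.{u}) (c : Limits.Cone D) (hc : Limits.IsLimit c)
    [∀ (i j : I) (f : i ⟶ j), IsAffineHom (D.map f)] (i₀ : I) [CompactSpace (D.obj i₀)]
    {Z₀ : Scheme.{u}} (ι₀ : Z₀ ⟶ D.obj i₀) [IsImmersion ι₀] [LocallyOfFinitePresentation ι₀] [QuasiCompact ι₀] :
    IsOpenImmersion (pullback.snd ι₀ (c.π.app i₀)) ↔
      ∃ (j : I) (φ : j ⟶ i₀), IsOpenImmersion (pullback.snd ι₀ (D.map φ)) := by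
  haveI hD' : ∀ {i j : I} (f : i ⟶ j), IsAffineHom (D.map f) := fun f => inferInstance
  constructor
  · intro h
    haveI : IsOpenImmersion (pullback.fst (c.π.app i₀) ι₀) :=
      Groth.Agent.S9189.of_two_pullbacks @IsOpenImmersion
        (IsPullback.of_hasPullback ι₀ (c.π.app i₀))
        (IsPullback.of_hasPullback (c.π.app i₀) ι₀).flip h
    obtain ⟨k, hk⟩ := core_oi' D c hc i₀ ι₀
    refine ⟨k.left, k.hom, ?_⟩
    exact Groth.Agent.S9189.of_two_pullbacks @IsOpenImmersion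
      (IsPullback.of_hasPullback (D.map k.hom) ι₀).flip
      (IsPullback.of_hasPullback ι₀ (D.map k.hom)) (hk k (𝟙 k))
  · rintro ⟨j, φ, h⟩
    have h1 : IsOpenImmersion (pullback.fst (c.π.app i₀) ι₀) :=
      Groth.Agent.S9189.bc_transfer0 @IsOpenImmersion ι₀ (pullback.snd ι₀ (D.map φ))
        (pullback.fst ι₀ (D.map φ)) (D.map φ)
        (IsPullback.of_hasPullback ι₀ (D.map φ)) h (c.π.app i₀) (c.π.app j) (c.w φ)
    exact Groth.Agent.S9189.of_two_pullbacks @IsOpenImmersion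
      (IsPullback.of_hasPullback (c.π.app i₀) ι₀).flip
      (IsPullback.of_hasPullback ι₀ (c.π.app i₀)) h1

end Groth.Agent.S4817
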