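import Groth.Statements.S4821
import Mathlib

set_option autoImplicit false
universe u
open Cons9

namespace Groth.Agent.S4821

attribute [local instance] MvPolynomial.algebraMvPolynomial in
theorem aux {A : Type u} [CommRing A] [IsDomain A] {m : ℕ} (J : Ideal (MvPolynomial (Fin m) A))
    (h : J.map (MvPolynomial.map (algebraMap A (FractionRing A))) = ⊤) :
    ∃ f : A, f ≠ 0 ∧ MvPolynomial.C f ∈ J := by
  have h1 : J.map (algebraMap (MvPolynomial (Fin m) A)
      (MvPolynomial (Fin m) (FractionRing A))) = ⊤ := h
  by_contra hcon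
  push_neg at hcon
  have h2 := (IsLocalization.map_algebraMap_ne_top_iff_disjoint
    ((nonZeroDivisors A).map (MvPolynomial.C (σ := Fin m)))
    (MvPolynomial (Fin m) (FractionRing A)) J).mpr (by
      rw [Set.disjoint_left]
      rintro _ ⟨f, hf, rfl⟩ hmem
      exact hcon f (nonZeroDivisors.ne_zero hf) hmem)
  exact h2 h1


/-- Let A be an integral domain with fraction field K, and (P_i) a finite family of polynomials in
A[T_1, …, T_m], generating an ideal 𝔞; for a point s of Spec A write 𝔞_s for the ideal of κ(s)[T_1,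
…, T_m] generated by the images of the P_i. If the zero locus of 𝔞_η in affine m-space over K = κ(η)
is empty, that is if 𝔞_η is the unit ideal, then there is an open neighbourhood D(f) (f ≠ 0) of the
generic point such that 𝔞_s is the unit ideal (its zero locus is empty) for every s in D(f). -/
theorem result {A : Type u} [CommRing A] [IsDomain A] {m : ℕ}
    (P : Finset (MvPolynomial (Fin m) A))
    (hη : Ideal.span ((MvPolynomial.map (algebraMap A (FractionRing A))) '' (P : Set (MvPolynomial (Fin m) A))) = ⊤) :
    ∃ f : A, f ≠ 0 ∧ ∀ p : PrimeSpectrum A, f ∉ p.asIdeal →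
      Ideal.span ((MvPolynomial.map (algebraMap A p.asIdeal.ResidueField)) '' (P : Set (MvPolynomial (Fin m) A))) = ⊤ := by
  have hmap : (Ideal.span (P : Set (MvPolynomial (Fin m) A))).map
      (MvPolynomial.map (algebraMap A (FractionRing A))) = ⊤ := by
    rw [Ideal.map_span]; exact hη
  obtain ⟨f, hf0, hfJ⟩ := aux _ hmap
  refine ⟨f, hf0, fun p hp => ?_⟩
  rw [← Ideal.map_span]
  have h1 : MvPolynomial.map (algebraMap A p.asIdeal.ResidueField) (MvPolynomial.C f) ∈
      (Ideal.span (P : Set (MvPolynomial (Fin m) A))).map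
        (MvPolynomial.map (algebraMap A p.asIdeal.ResidueField)) :=
    Ideal.mem_map_of_mem _ hfJ
  rw [MvPolynomial.map_C] at h1
  apply Ideal.eq_top_of_isUnit_mem _ h1
  apply IsUnit.map (MvPolynomial.C (σ := Fin m) (R := p.asIdeal.ResidueField))
  rw [isUnit_iff_ne_zero]
  intro h0
  apply hp
  exact Ideal.algebraMap_residueField_eq_zero.mp h0

end Groth.Agent.S4821
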