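import Groth.Statements.S4835
import Mathlib
import Groth.Agent.S4834

set_option autoImplicit false
open CategoryTheory CategoryTheory.Limits
universe u
open Lim8

namespace Groth.Agent.S4835


section helpers

open Groth.Agent.S4834

variable {A : Type u} [CommRing A] (M : ModuleCat.{u} A) {J : Type u} [SmallCategory J]
  (N : J ⥤ ModuleCat.{u} A)

lemma exists_common_rep [IsFiltered J] (S : Finset (colimit N : ModuleCat.{u} A)) :
    ∃ k : J, ∀ x ∈ S, ∃ y : N.obj k, (colimit.ι N k).hom y = x := by
  classical
  induction S using Finset.induction_on with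
  | empty => exact ⟨IsFiltered.nonempty.some, fun x hx => by simp at hx⟩
  | insert x S _ ih =>
    obtain ⟨k₁, h₁⟩ := ih
    obtain ⟨j, y, hy⟩ := Concrete.colimit_exists_rep N x
    have hy' : (colimit.ι N j).hom y = x := hy
    refine ⟨IsFiltered.max k₁ j, ?_⟩
    intro x' hx'
    rcases Finset.mem_insert.1 hx' with rfl | hx''
    · exact ⟨(N.map (IsFiltered.rightToMax k₁ j)).hom y, by rw [ι_map_apply, hy']⟩
    · obtain ⟨y', hy''⟩ := h₁ x' hx''
      exact ⟨(N.map (IsFiltered.leftToMax k₁ j)).hom y', by rw [ι_map_apply, hy'']⟩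

/-- surjectivity of the comparison map for finitely presented modules -/
theorem post_surjective [IsFiltered J] [Module.FinitePresentation A M] :
    Function.Surjective (colimit.post N (coyoneda.obj (Opposite.op M))) := by
  classical
  intro G₀
  let G : M ⟶ colimit N := G₀
  obtain ⟨n, m, p, q, hp, hex⟩ := Module.FinitePresentation.exists_fin' A M
  -- step 1: representatives of the images of the basis vectors at a common index
  obtain ⟨k, hk⟩ := exists_common_rep N
    (Finset.univ.image fun i : Fin n => G.hom (p (Pi.single i 1)))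
  have hk' : ∀ i : Fin n, ∃ y : N.obj k, (colimit.ι N k).hom y = G.hom (p (Pi.single i 1)) :=
    fun i => hk _ (Finset.mem_image_of_mem _ (Finset.mem_univ i))
  choose y hy using hk'
  -- step 2: the induced map out of the free module
  let h₀ : (Fin n → A) →ₗ[A] N.obj k := (Pi.basisFun A (Fin n)).constr A y
  have h2 : (colimit.ι N k).hom ∘ₗ h₀ = G.hom ∘ₗ p := by
    apply (Pi.basisFun A (Fin n)).ext
    intro i
    rw [LinearMap.comp_apply, LinearMap.comp_apply, Module.Basis.constr_basis, hy i,
      Pi.basisFun_apply]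
  have h2' : ∀ v, (colimit.ι N k).hom (h₀ v) = G.hom (p v) := fun v =>
    LinearMap.congr_fun h2 v
  -- step 3: the relations die at a later stage
  have h3 : (ModuleCat.ofHom (h₀ ∘ₗ q) : ModuleCat.of A (Fin m → A) ⟶ N.obj k) ≫ colimit.ι N k =
      (0 : ModuleCat.of A (Fin m → A) ⟶ N.obj k) ≫ colimit.ι N k := by
    rw [Limits.zero_comp]
    apply ModuleCat.hom_ext
    apply LinearMap.ext
    intro z
    show (colimit.ι N k).hom (h₀ (q z)) = 0
    rw [h2', hex.apply_apply_eq_zero, map_zero]
  obtain ⟨k', φ, hφ⟩ := exists_eq_of_comp_ι_eq (ModuleCat.of A (Fin m → A)) N _ _ h3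
  rw [Limits.zero_comp] at hφ
  have hφ' : ∀ z, (N.map φ).hom (h₀ (q z)) = 0 := fun z =>
    congrArg (fun t => t.hom z) hφ
  -- step 4: descend to `M`
  let h₁ : (Fin n → A) →ₗ[A] N.obj k' := (N.map φ).hom ∘ₗ h₀
  have hle : LinearMap.ker p ≤ LinearMap.ker h₁ := by
    intro v hv
    obtain ⟨z, rfl⟩ := (hex v).1 hv
    exact hφ' z
  let e := p.quotKerEquivOfSurjective hp
  let F : M →ₗ[A] N.obj k' := (LinearMap.ker p).liftQ h₁ hle ∘ₗ e.symm.toLinearMap
  have hF : ∀ v, F (p v) = h₁ v := by
    intro v
    have h4 : e.symm (p v) = Submodule.Quotient.mk v := by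
      rw [LinearEquiv.symm_apply_eq]
      exact (LinearMap.quotKerEquivOfSurjective_apply_mk p hp v).symm
    show (LinearMap.ker p).liftQ h₁ hle (e.symm (p v)) = h₁ v
    rw [h4, Submodule.liftQ_apply]
  -- step 5
  have h5 : ModuleCat.ofHom F ≫ colimit.ι N k' = G := by
    apply ModuleCat.hom_ext
    apply LinearMap.ext
    intro w
    obtain ⟨v, rfl⟩ := hp w
    show (colimit.ι N k').hom (F (p v)) = G.hom (p v)
    rw [hF]
    show (colimit.ι N k').hom ((N.map φ).hom (h₀ v)) = G.hom (p v)
    rw [ι_map_apply, h2']
  exact ⟨colimit.ι (N ⋙ coyoneda.obj (Opposite.op M)) k' (ModuleCat.ofHom F),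
    (post_ι M N k' _).trans h5⟩

end helpers

/-- Let A be a commutative ring, M an A-module of finite presentation and (N_λ) an inductive system of
A-modules indexed by a nonempty directed preordered set. Then the canonical map colim_λ Hom_A(M,
N_λ) → Hom_A(M, colim_λ N_λ), sending a compatible system of homomorphisms to its inductive limit,
is bijective. This is the form established in the source's proof (finite presentation case). -/
theorem result {A : Type u} [CommRing A] (M : ModuleCat.{u} A)
    [Module.FinitePresentation A M] {J : Type u} [Preorder J] [IsDirected J (· ≤ ·)] [Nonempty J]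
    (N : J ⥤ ModuleCat.{u} A) :
    Function.Bijective (colimit.post N (coyoneda.obj (Opposite.op M))) := by
  exact ⟨Groth.Agent.S4834.post_injective M N, post_surjective M N⟩

end Groth.Agent.S4835
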