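import Groth.Statements.S4841
import Groth.Agent.Lib.Helper9.Lim8
import Groth.Agent.Lib.Helper9.NoethConn
import Groth.Agent.H10.Lim8Emb
import Mathlib

set_option autoImplicit false
universe u
open CategoryTheory AlgebraicGeometry
open Lim8

namespace Groth.Agent.S4841

open Groth.Agent.Helper9 Groth.Agent.Helper9.Lim8 Limits TopologicalSpace


/-- Let S = lim S_i be a cofiltered limit of schemes whose transition maps are affine and topological
embeddings (homeomorphisms onto subspaces), some stage S_{i₀} having Noetherian underlying space,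
and assume that the underlying space of S is Noetherian. Then there is an index i over i₀ such that,
for every j over i, the map sending an irreducible component Y of S to the closure of its image
under S ⟶ S_j is a bijection from the set of irreducible components of S onto the set of irreducible
components of S_j. -/
theorem result {I : Type u} [SmallCategory I] [IsCofiltered I]
    (D : I ⥤ Scheme.{u}) (c : Limits.Cone D) (hc : Limits.IsLimit c)
    [∀ (i j : I) (f : i ⟶ j), IsAffineHom (D.map f)] (i₀ : I)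
    [TopologicalSpace.NoetherianSpace (D.obj i₀)] [TopologicalSpace.NoetherianSpace c.pt]
    (he : ∀ (i j : I) (φ : i ⟶ j), Topology.IsEmbedding ⇑(D.map φ)) :
    ∃ (i : I) (_ : i ⟶ i₀), ∀ (j : I) (_ : j ⟶ i),
      Set.BijOn (fun Y : Set c.pt => closure (⇑(c.π.app j) '' (Y : Set c.pt) : Set (D.obj j)))
        (irreducibleComponents c.pt) (irreducibleComponents (D.obj j)) := by
  classical
  have hA : ∀ {i j : I} (f : i ⟶ j), IsAffineHom (D.map f) := fun f => inferInstance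
  obtain ⟨i₁, a₁, hdomE⟩ := Groth.Agent.H10.Lim8Emb.eventually_isDominant D c hc i₀ he
  set 𝒴 : Set (Set c.pt) := irreducibleComponents c.pt with h𝒴
  have hfin : 𝒴.Finite := NoetherianSpace.finite_irreducibleComponents
  have : Finite 𝒴 := hfin
  have := Fintype.ofFinite 𝒴
  have hYirr : ∀ Y : 𝒴, IsIrreducible (Y : Set c.pt) := fun Y => Y.2.1
  have hYclosed : ∀ Y : 𝒴, IsClosed (Y : Set c.pt) :=
    fun Y => isClosed_of_mem_irreducibleComponents _ Y.2
  have hYcover : ⋃ Y : 𝒴, (Y : Set c.pt) = Set.univ := by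
    rw [← Set.sUnion_eq_iUnion]
    exact sUnion_irreducibleComponents
  have hYincomp : ∀ Y Y' : 𝒴, Y ≠ Y' → ¬ (Y : Set c.pt) ⊆ Y' := by
    intro Y Y' hne hsub
    exact hne (Subtype.ext (subset_antisymm hsub (Y.2.2 Y'.2.1 hsub)))
  have h1 : ∀ Y : 𝒴, ∃ (k : I) (_ : k ⟶ i₀) (V : (D.obj k).Opens),
      ⇑(c.π.app k) ⁻¹' (V : Set (D.obj k)) = (Y : Set c.pt)ᶜ := by
    intro Y
    obtain ⟨k, b, V, -, hV⟩ := exists_preimage_eq_over D c hc i₀ ⟨_, (hYclosed Y).isOpen_compl⟩
      (NoetherianSpace.isCompact _)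
    exact ⟨k, b, V, congrArg (fun W : c.pt.Opens => (W : Set c.pt)) hV⟩
  choose k bk V hV using h1
  obtain ⟨S, hS⟩ := IsCofiltered.inf_objs_exists (insert i₁ (insert i₀ (Finset.univ.image k)))
  have b₁ : S ⟶ i₁ := (hS (Finset.mem_insert_self _ _)).some
  have b₀ : S ⟶ i₀ := (hS (Finset.mem_insert_of_mem (Finset.mem_insert_self _ _))).some
  have bY : ∀ Y : 𝒴, S ⟶ k Y := fun Y =>
    (hS (Finset.mem_insert_of_mem (Finset.mem_insert_of_mem (Finset.mem_image_of_mem k (Finset.mem_univ Y))))).some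
  refine ⟨S, b₀, fun j ψ => ?_⟩
  have hdom : IsDominant (c.π.app j) := hdomE j (ψ ≫ b₁)
  let W : 𝒴 → Set (D.obj j) := fun Y => ⇑(D.map (ψ ≫ bY Y)) ⁻¹' (V Y : Set (D.obj (k Y)))
  have hWopen : ∀ Y, IsOpen (W Y) := fun Y => (V Y).2.preimage (D.map (ψ ≫ bY Y)).continuous
  have hWpre : ∀ Y : 𝒴, ⇑(c.π.app j) ⁻¹' W Y = (Y : Set c.pt)ᶜ := by
    intro Y
    change ⇑(c.π.app j) ⁻¹' (⇑(D.map (ψ ≫ bY Y)) ⁻¹' (V Y : Set (D.obj (k Y)))) = _
    rw [← Set.preimage_comp, ← comp_coe, c.w, hV]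
  let Z : 𝒴 → Set (D.obj j) := fun Y => closure (⇑(c.π.app j) '' (Y : Set c.pt))
  have hZirr : ∀ Y, IsIrreducible (Z Y) := fun Y =>
    ((hYirr Y).image _ (c.π.app j).continuous.continuousOn).closure
  have hZclosed : ∀ Y, IsClosed (Z Y) := fun Y => isClosed_closure
  have hZcover : ⋃ Y, Z Y = Set.univ := by
    have h2 : Set.range ⇑(c.π.app j) = ⋃ Y : 𝒴, ⇑(c.π.app j) '' (Y : Set c.pt) := by
      rw [← Set.image_iUnion, hYcover, Set.image_univ]
    have h3 := hdom.denseRange.closure_range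
    rw [h2, closure_iUnion_of_finite] at h3
    exact h3
  have hZincomp : ∀ Y Y' : 𝒴, Y ≠ Y' → ¬ Z Y ⊆ Z Y' := by
    intro Y Y' hne hsub
    obtain ⟨y, hy, hy'⟩ := Set.not_subset.1 (hYincomp Y Y' hne)
    have h4 : c.π.app j y ∈ Z Y' := hsub (subset_closure ⟨y, hy, rfl⟩)
    have h5 : c.π.app j y ∈ W Y' := by
      have : y ∈ ⇑(c.π.app j) ⁻¹' W Y' := by rw [hWpre]; exact hy'
      exact this
    obtain ⟨_, hz1, ⟨z, hz, rfl⟩⟩ := mem_closure_iff.1 h4 (W Y') (hWopen Y') h5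
    have : z ∈ ⇑(c.π.app j) ⁻¹' W Y' := hz1
    rw [hWpre] at this
    exact this hz
  have hsub_one : ∀ T : Set (D.obj j), IsIrreducible T → ∃ Y, T ⊆ Z Y := by
    intro T hT
    obtain ⟨z, hz, hTz⟩ := isIrreducible_iff_sUnion_isClosed.1 hT (Finset.univ.image Z)
      (by
        intro z hz
        obtain ⟨Y, -, rfl⟩ := Finset.mem_image.1 hz
        exact hZclosed Y)
      (by
        intro x _
        have : x ∈ ⋃ Y, Z Y := by rw [hZcover]; trivial
        obtain ⟨Y, hY⟩ := Set.mem_iUnion.1 this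
        exact Set.mem_sUnion.2 ⟨Z Y, by simp, hY⟩)
    obtain ⟨Y, -, rfl⟩ := Finset.mem_image.1 hz
    exact ⟨Y, hTz⟩
  refine ⟨?_, ?_, ?_⟩
  · intro Y hY
    let Y' : 𝒴 := ⟨Y, hY⟩
    change Z Y' ∈ irreducibleComponents (D.obj j)
    refine ⟨hZirr Y', ?_⟩
    intro T hT hle
    obtain ⟨Y'', hY''⟩ := hsub_one T hT
    have : Y' = Y'' := by
      by_contra hne
      exact hZincomp Y' Y'' hne (hle.trans hY'')
    rw [this]
    exact hY''
  · intro Y hY Y₂ hY₂ h
    let Y' : 𝒴 := ⟨Y, hY⟩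
    let Y₂' : 𝒴 := ⟨Y₂, hY₂⟩
    change Z Y' = Z Y₂' at h
    by_contra hne
    have hne' : Y' ≠ Y₂' := fun h' => hne (congrArg Subtype.val h')
    exact hZincomp Y' Y₂' hne' h.le
  · intro T hT
    obtain ⟨Y, hY⟩ := hsub_one T hT.1
    refine ⟨Y, Y.2, ?_⟩
    change Z Y = T
    exact subset_antisymm (hT.2 (hZirr Y) hY) hY


end Groth.Agent.S4841
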