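import Mathlib
import Groth.Agent.H11.FlatNil
import Groth.Statements.S4853

set_option autoImplicit false
universe u
open TensorProduct
open EGA43

namespace Groth.Agent.S4853

/-- Let A be a commutative ring and M an A-module such that (A/J) ⊗_A M is free over A/J for some
nilpotent ideal J of A. Then among the ideals R of A such that (A/R) ⊗_A M is free over A/R there is
a least one, R₀, which is also the least ideal R such that (A/R) ⊗_A M is flat over A/R; and for
every commutative A-algebra A', the module A' ⊗_A M is free over A' if and only if it is flat over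
A', if and only if R₀ generates the zero ideal of A'. -/
theorem result {A : Type u} [CommRing A]
    (M : Type u) [AddCommGroup M] [Module A M]
    (J : Ideal A) (hJ : IsNilpotent J) (hfree : Module.Free (A ⧸ J) ((A ⧸ J) ⊗[A] M)) :
    ∃ R₀ : Ideal A,
      IsLeast {R : Ideal A | Module.Free (A ⧸ R) ((A ⧸ R) ⊗[A] M)} R₀ ∧
      IsLeast {R : Ideal A | Module.Flat (A ⧸ R) ((A ⧸ R) ⊗[A] M)} R₀ ∧
      ∀ (A' : Type u) [CommRing A'] [Algebra A A'],
        (Module.Free A' (A' ⊗[A] M) ↔ Ideal.map (algebraMap A A') R₀ = ⊥) ∧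
        (Module.Flat A' (A' ⊗[A] M) ↔ Ideal.map (algebraMap A A') R₀ = ⊥) := by

    obtain ⟨R₀, hR₀⟩ := Groth.Agent.H11.FlatNil.exists_ideal M J hJ hfree
    have hmap : ∀ R : Ideal A, Ideal.map (algebraMap A (A ⧸ R)) R₀ = ⊥ ↔ R₀ ≤ R := by
      intro R
      rw [Ideal.map_eq_bot_iff_le_ker]
      have : RingHom.ker (algebraMap A (A ⧸ R)) = R := Ideal.mk_ker
      rw [this]
    refine ⟨R₀, ⟨?_, ?_⟩, ⟨?_, ?_⟩, hR₀⟩
    · exact ((hR₀ (A ⧸ R₀)).1).2 ((hmap R₀).2 le_rfl)
    · intro R hR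
      exact (hmap R).1 (((hR₀ (A ⧸ R)).1).1 hR)
    · exact ((hR₀ (A ⧸ R₀)).2).2 ((hmap R₀).2 le_rfl)
    · intro R hR
      exact (hmap R).1 (((hR₀ (A ⧸ R)).2).1 hR)

end Groth.Agent.S4853
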