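import Mathlib
import Groth.Agent.H11.Goldman
import Groth.Statements.S4860

set_option autoImplicit false
universe u
open EGA43

namespace Groth.Agent.S4860

/-- For an integral domain B the following are equivalent: a) the localization B_f is a field for some
nonzero f; b) the fraction field of B is a finitely generated B-algebra; c) there is a field
containing B (an injective algebra map from B) which is a finitely generated B-algebra; d) the
generic point of Spec B is open. -/
theorem result (B : Type u) [CommRing B] [IsDomain B] :
    [∃ f : B, f ≠ 0 ∧ IsField (Localization.Away f),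
      Algebra.FiniteType B (FractionRing B),
      ∃ (K : Type u) (_ : Field K) (_ : Algebra B K), Function.Injective (algebraMap B K) ∧ Algebra.FiniteType B K,
      IsOpen ({⟨⊥, Ideal.bot_prime⟩} : Set (PrimeSpectrum B))].TFAE := by
  tfae_have 1 → 2 := by
    rintro ⟨f, hf0, hf⟩
    exact Groth.Agent.H11.finiteType_fractionRing_of_isField_away hf0 hf
  tfae_have 2 → 3 := by
    intro h
    exact ⟨FractionRing B, inferInstance, inferInstance, IsFractionRing.injective B _, h⟩
  tfae_have 3 → 1 := by
    rintro ⟨K, hK, hA, hinj, hft⟩
    exact Groth.Agent.H11.exists_away_isField_of_finiteType_field hinj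
  tfae_have 1 → 4 := by
    rintro ⟨f, hf0, hf⟩
    have : ({⟨⊥, Ideal.bot_prime⟩} : Set (PrimeSpectrum B)) =
        (PrimeSpectrum.basicOpen f : Set (PrimeSpectrum B)) := by
      ext q
      constructor
      · intro hq
        have hq' : q = ⟨⊥, Ideal.bot_prime⟩ := hq
        rw [hq']
        show f ∉ (⊥ : Ideal B)
        rw [Ideal.mem_bot]
        exact hf0
      · intro hq
        have hfq : f ∉ q.asIdeal := hq
        by_contra hne
        have hq0 : q.asIdeal ≠ ⊥ := fun h => hne (PrimeSpectrum.ext h)
        have := q.2
        exact hfq (Groth.Agent.H11.mem_of_isField_away hf hq0)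
    rw [this]
    exact (PrimeSpectrum.basicOpen f).2
  tfae_have 4 → 1 := by
    intro hopen
    obtain ⟨_, ⟨f, rfl⟩, hmem, hsub⟩ :=
      PrimeSpectrum.isTopologicalBasis_basic_opens.exists_subset_of_mem_open
        (Set.mem_singleton _) hopen
    have hf0 : f ≠ 0 := by
      rintro rfl
      exact hmem (zero_mem _)
    refine ⟨f, hf0, Groth.Agent.H11.isField_away_of_forall_mem hf0 ?_⟩
    intro q hq hq0
    by_contra hfq
    have : (⟨q, hq⟩ : PrimeSpectrum B) ∈ ({⟨⊥, Ideal.bot_prime⟩} : Set (PrimeSpectrum B)) :=
      hsub hfq
    exact hq0 (congrArg PrimeSpectrum.asIdeal this)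
  tfae_finish

end Groth.Agent.S4860
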