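import Mathlib
import Groth.Agent.H11.Goldman
import Groth.Statements.S4862

set_option autoImplicit false
universe u
open EGA43

namespace Groth.Agent.S4862

/-- For a commutative ring A the following are equivalent: a) A is a Jacobson ring; b) for every prime
ideal p of A which is not maximal and every nonzero f of B = A/p, the localization B_f is not a
field; b′) every finitely generated A-algebra which is a field is a finite A-module. -/
theorem result (A : Type u) [CommRing A] :
    [IsJacobsonRing A,
      ∀ (p : Ideal A) [p.IsPrime], ¬ p.IsMaximal → ∀ f : A ⧸ p, f ≠ 0 → ¬ IsField (Localization.Away f),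
      ∀ (K : Type u) [Field K] [Algebra A K], Algebra.FiniteType A K → Module.Finite A K].TFAE := by
  tfae_have 1 → 3 := by
    intro hJ K _ _ hft
    exact finite_of_finite_type_of_isJacobsonRing A K
  tfae_have 2 → 1 := fun h => Groth.Agent.H11.isJacobsonRing_of_forall_not_isField_away h
  tfae_have 3 → 2 := by
    intro h p hp hpm f hf0 hfield
    have hdom : IsDomain (A ⧸ p) := Ideal.Quotient.isDomain p
    let _ := hfield.toField
    have hft1 : Algebra.FiniteType A (A ⧸ p) :=
      Algebra.FiniteType.of_surjective (Algebra.ofId A (A ⧸ p)) Ideal.Quotient.mk_surjective
    have hft2 : Algebra.FiniteType (A ⧸ p) (Localization.Away f) :=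
      IsLocalization.finiteType_of_monoid_fg (Submonoid.powers f) (Localization.Away f)
    have hft : Algebra.FiniteType A (Localization.Away f) := Algebra.FiniteType.trans hft1 hft2
    have hfin : Module.Finite A (Localization.Away f) := h (Localization.Away f) hft
    have hfin2 : Module.Finite (A ⧸ p) (Localization.Away f) :=
      Module.Finite.of_restrictScalars_finite A (A ⧸ p) (Localization.Away f)
    have hint : Algebra.IsIntegral (A ⧸ p) (Localization.Away f) := Algebra.IsIntegral.of_finite _ _
    have hinj : Function.Injective (algebraMap (A ⧸ p) (Localization.Away f)) :=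
      IsLocalization.injective (Localization.Away f) (M := Submonoid.powers f)
        (powers_le_nonZeroDivisors_of_noZeroDivisors hf0)
    have hF : IsField (A ⧸ p) := isField_of_isIntegral_of_isField hinj hfield
    exact hpm (Ideal.Quotient.maximal_of_isField p hF)
  tfae_finish

end Groth.Agent.S4862
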