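import Mathlib
import Groth.Statements.S4872
-- import your own Groth.Agent.* helpers here

set_option autoImplicit false
universe u
open CategoryTheory AlgebraicGeometry
open EGA43

namespace Groth.Agent.S4872


open Limits

lemma app_eqToHom_zero {X Z : Scheme.{u}} (f : Z ⟶ X) {W W' : X.Opens} (e : W' = W) (t : Γ(X, W))
    (h : f.app W t = 0) : f.app W' ((X.presheaf.map (eqToHom e).op).hom t) = 0 := by
  subst e
  simpa using h

lemma eq_zero_of_eqToHom {X : Scheme.{u}} {W W' : X.Opens} (e : W' = W) (t : Γ(X, W))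
    (h : (X.presheaf.map (eqToHom e).op).hom t = 0) : t = 0 := by
  subst e
  simpa using h

/-- Conditions b), c), d) (schematically dominant families): let p : X ⟶ S be a morphism and (f_i : Z_i
⟶ X) a family of morphisms. The following are equivalent: b) for every open V of X, a section of O_X
over V whose images in all the Γ(f_i⁻¹(V), O_{Z_i}) are zero is zero; c) for every open U of X, a
closed immersion j : Y ⟶ U through which each restriction f_i⁻¹(U) ⟶ U factors is an isomorphism; d)
for every separated S-scheme X', every open U of X and every pair of S-morphisms u, v : U ⟶ X'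
having the same composite with each f_i⁻¹(U) ⟶ U, one has u = v. -/
theorem result {X S : Scheme.{u}} (p : X ⟶ S) {ι : Type u} (Z : ι → Scheme.{u})
    (f : ∀ i, Z i ⟶ X) :
    [(∀ (V : (X).Opens) (t : Γ(X, V)), (∀ i, (f i).app V t = 0) → t = 0),
      ∀ (U : X.Opens) (Y : Scheme.{u}) (j : Y ⟶ (U : Scheme.{u})), IsClosedImmersion j →
        (∀ i, ∃ g : ((f i) ⁻¹ᵁ U : Scheme.{u}) ⟶ Y, g ≫ j = (f i) ∣_ U) → IsIso j,
      ∀ (X' : Scheme.{u}) (q : X' ⟶ S), IsSeparated q → ∀ (U : X.Opens) (u v : (U : Scheme.{u}) ⟶ X'),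
        u ≫ q = U.ι ≫ p → v ≫ q = U.ι ≫ p → (∀ i, ((f i) ∣_ U) ≫ u = ((f i) ∣_ U) ≫ v) → u = v].TFAE := by
  tfae_have 1 → 2 := by
    intro h1 U Y j hj hg
    haveI := hj
    rw [IsClosedImmersion.isIso_iff_ker_eq_bot]
    ext1
    funext W
    rw [Scheme.Hom.ker_apply]
    simp only [Scheme.IdealSheafData.ideal_bot, Pi.bot_apply]
    rw [eq_bot_iff]
    intro t ht
    rw [RingHom.mem_ker] at ht
    rw [Ideal.mem_bot]
    refine h1 (U.ι ''ᵁ W.1) t (fun i => ?_)
    obtain ⟨g, hgj⟩ := hg i
    have h2 : ((f i ∣_ U).app W.1).hom t = 0 := by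
      rw [← hgj, Scheme.Hom.comp_app]
      show (g.app (j ⁻¹ᵁ W.1)).hom ((j.app W.1).hom t) = 0
      rw [ht, map_zero]
    rw [morphismRestrict_app] at h2
    have h2' : ((Z i).presheaf.map
        (eqToHom (image_morphismRestrict_preimage (f i) U W.1)).op).hom
        (((f i).app (U.ι ''ᵁ W.1)).hom t) = 0 := h2
    exact eq_zero_of_eqToHom _ _ h2'
  tfae_have 2 → 3 := by
    intro h2 X' q hq U a b ha hb hab
    haveI := hq
    have hab' : a ≫ q = b ≫ q := ha.trans hb.symm
    obtain ⟨k, hk⟩ : ∃ k, k = pullback.snd (pullback.diagonal q) (pullback.lift a b hab') :=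
      ⟨_, rfl⟩
    haveI : IsClosedImmersion k := by rw [hk]; infer_instance
    have hiso : IsIso k := by
      apply h2 U _ k inferInstance
      intro i
      have hcond : ((f i ∣_ U) ≫ a) ≫ pullback.diagonal q =
          (f i ∣_ U) ≫ pullback.lift a b hab' := by
        apply pullback.hom_ext
        · rw [Category.assoc, pullback.diagonal_fst, Category.comp_id, Category.assoc,
            pullback.lift_fst]
        · rw [Category.assoc, pullback.diagonal_snd, Category.comp_id, Category.assoc,
            pullback.lift_snd, hab i]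
      exact ⟨pullback.lift ((f i ∣_ U) ≫ a) (f i ∣_ U) hcond,
        by rw [hk]; exact pullback.lift_snd _ _ _⟩
    rw [← cancel_epi k]
    have hc : pullback.fst (pullback.diagonal q) (pullback.lift a b hab') ≫ pullback.diagonal q =
        k ≫ pullback.lift a b hab' := by rw [hk]; exact pullback.condition
    have e1 := congrArg (· ≫ pullback.fst q q) hc
    have e2 := congrArg (· ≫ pullback.snd q q) hc
    simp only [Category.assoc, pullback.diagonal_fst, pullback.diagonal_snd, Category.comp_id,
      pullback.lift_fst, pullback.lift_snd] at e1 e2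
    rw [← e1, ← e2]
  tfae_have 3 → 1 := by
    intro h3 V t ht
    have e : V.ι ''ᵁ ⊤ = V := V.ι_image_top
    obtain ⟨t', ht'⟩ : ∃ t' : Γ(V, ⊤), t' = (X.presheaf.map (eqToHom e).op).hom t := ⟨_, rfl⟩
    have hab : AffineSpace.homOfVector (n := PUnit.{u+1}) (V.ι ≫ p) (fun _ => t') =
        AffineSpace.homOfVector (n := PUnit.{u+1}) (V.ι ≫ p) (fun _ => 0) := by
      apply h3 𝔸(PUnit.{u+1}; S) (𝔸(PUnit.{u+1}; S) ↘ S) inferInstance V _ _
        (AffineSpace.homOfVector_over _ _) (AffineSpace.homOfVector_over _ _)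
      intro i
      apply AffineSpace.hom_ext
      · rw [Category.assoc, Category.assoc, AffineSpace.homOfVector_over,
          AffineSpace.homOfVector_over]
      · intro _
        rw [Scheme.Hom.comp_appTop, Scheme.Hom.comp_appTop]
        simp only [CommRingCat.comp_apply, AffineSpace.homOfVector_appTop_coord, map_zero]
        rw [morphismRestrict_appTop]
        show ((Z i).presheaf.map (eqToHom (image_morphismRestrict_preimage (f i) V ⊤)).op).hom
          (((f i).app (V.ι ''ᵁ ⊤)).hom t') = 0
        rw [ht']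
        have h0 : ((f i).app (V.ι ''ᵁ ⊤)).hom ((X.presheaf.map (eqToHom e).op).hom t) = 0 :=
          app_eqToHom_zero (f i) e t (ht i)
        rw [h0, map_zero]
    have h4 := congrArg (fun c => c.appTop (AffineSpace.coord S PUnit.unit)) hab
    simp only [AffineSpace.homOfVector_appTop_coord] at h4
    rw [ht'] at h4
    exact eq_zero_of_eqToHom e t h4
  tfae_finish

end Groth.Agent.S4872
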