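import Groth.Statements.S4873
import Mathlib

set_option autoImplicit false
universe u
open CategoryTheory AlgebraicGeometry
open EGA43

namespace Groth.Agent.S4873

theorem sec_eq_zero_of_eq_bot {Z : Scheme.{u}} (W : Z.Opens) (hW : W = ⊥) (s : Γ(Z, W)) :
    s = 0 := by
  subst hW
  exact Subsingleton.elim _ _

theorem main {X : Scheme.{u}} {ι : Type u} (Z : ι → Scheme.{u}) (f : ∀ i, Z i ⟶ X) :
    ((∀ (V : X.Opens) (t : Γ(X, V)), (∀ i, (f i).app V t = 0) → t = 0) →
      Dense (⋃ i, Set.range (f i))) ∧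
    (IsReduced X → Dense (⋃ i, Set.range (f i)) →
      (∀ (V : X.Opens) (t : Γ(X, V)), (∀ i, (f i).app V t = 0) → t = 0)) := by
  constructor
  · intro h
    rw [dense_iff_inter_open]
    intro U hU hne
    by_contra hcon
    rw [Set.not_nonempty_iff_eq_empty] at hcon
    have h1 : (1 : Γ(X, (⟨U, hU⟩ : X.Opens))) = 0 := by
      apply h ⟨U, hU⟩ 1
      intro i
      apply sec_eq_zero_of_eq_bot
      refine eq_bot_iff.mpr fun z hz => ?_
      exact (Set.eq_empty_iff_forall_notMem.mp hcon (f i z)
        ⟨hz, Set.mem_iUnion.mpr ⟨i, z, rfl⟩⟩).elim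
    have h2 : (⟨U, hU⟩ : X.Opens) = ⊥ := by
      have := X.basicOpen_one (U := (⟨U, hU⟩ : X.Opens))
      rw [h1, X.basicOpen_zero] at this
      exact this.symm
    obtain ⟨x, hx⟩ := hne
    have hx' : x ∈ (⟨U, hU⟩ : X.Opens) := hx
    rw [h2] at hx'
    exact hx'
  · intro hred hd V t ht
    rw [← basicOpen_eq_bot_iff]
    by_contra hne
    have hne' : (X.basicOpen t : Set X).Nonempty := by
      rw [Set.nonempty_iff_ne_empty]
      intro he
      exact hne (SetLike.ext' he)
    obtain ⟨x, hx1, hx2⟩ := dense_iff_inter_open.mp hd _ (X.basicOpen t).2 hne'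
    obtain ⟨i, z, rfl⟩ := Set.mem_iUnion.mp hx2
    have hz : z ∈ (f i) ⁻¹ᵁ X.basicOpen t := hx1
    rw [Scheme.preimage_basicOpen, ht i, Scheme.basicOpen_zero] at hz
    exact hz

/-- Let (f_i : Z_i ⟶ X) be a family of morphisms. If the family is schematically dominant, i.e. a
section of O_X over an open V whose pullback to every f_i⁻¹(V) vanishes is zero, then the union of
the images f_i(Z_i) is dense in X. Conversely, if X is reduced and this union is dense, the family
is schematically dominant. -/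
theorem result {X : Scheme.{u}} {ι : Type u} (Z : ι → Scheme.{u})
    (f : ∀ i, Z i ⟶ X) :
    ((∀ (V : (X).Opens) (t : Γ(X, V)), (∀ i, (f i).app V t = 0) → t = 0) → Dense (⋃ i, Set.range (f i))) ∧
    (IsReduced X → Dense (⋃ i, Set.range (f i)) → (∀ (V : (X).Opens) (t : Γ(X, V)), (∀ i, (f i).app V t = 0) → t = 0)) := by
  exact main Z f

end Groth.Agent.S4873
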