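import Mathlib
import Groth.Statements.S4878

set_option autoImplicit false
universe u
open TensorProduct
open EGA43

namespace Groth.Agent.S4878

theorem coord_nat {A : Type u} [CommRing A] {M M' N : Type u} [DecidableEq N] [AddCommGroup M] [Module A M]
    [AddCommGroup M'] [Module A M'] (u : M →ₗ[A] M') (t : M ⊗[A] (N →₀ A)) (n : N) :
    (finsuppScalarRight A A M' N (LinearMap.rTensor (N →₀ A) u t)) n
      = u ((finsuppScalarRight A A M N t) n) := by
  induction t using TensorProduct.induction_on with
  | zero => simp
  | tmul m p => simp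
  | add x y hx hy => simp [hx, hy]

/-- Let A be a commutative ring, (u_i : M → M_i) a family of A-linear maps whose kernels have zero
intersection, and N a projective A-module. Then the kernels of the maps u_i ⊗ 1 : M ⊗_A N → M_i ⊗_A
N have zero intersection. -/
theorem result {A : Type u} [CommRing A]
    {M : Type u} [AddCommGroup M] [Module A M] {ι : Type u} (M' : ι → Type u)
    [∀ i, AddCommGroup (M' i)] [∀ i, Module A (M' i)] (u : ∀ i, M →ₗ[A] M' i)
    (hu : ⨅ i, LinearMap.ker (u i) = ⊥)
    (N : Type u) [AddCommGroup N] [Module A N] [Module.Projective A N] :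
    ⨅ i, LinearMap.ker ((u i).rTensor N) = ⊥ := by
  classical
  obtain ⟨s, hs⟩ := (Module.projective_def' (R := A) (P := N)).1 inferInstance
  rw [eq_bot_iff]
  intro z hz
  rw [Submodule.mem_iInf] at hz
  rw [Submodule.mem_bot]
  have hz' : (LinearMap.lTensor M s) z = 0 := by
    apply (finsuppScalarRight A A M N).injective
    rw [map_zero]
    ext n
    have hmem : (finsuppScalarRight A A M N (LinearMap.lTensor M s z)) n
        ∈ ⨅ i, LinearMap.ker (u i) := by
      rw [Submodule.mem_iInf]
      intro i
      rw [LinearMap.mem_ker, ← coord_nat]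
      have h1 : (LinearMap.rTensor (N →₀ A) (u i)) ((LinearMap.lTensor M s) z)
          = (LinearMap.lTensor (M' i) s) ((LinearMap.rTensor N (u i)) z) := by
        rw [← LinearMap.comp_apply, ← LinearMap.comp_apply, LinearMap.rTensor_comp_lTensor,
          LinearMap.lTensor_comp_rTensor]
      rw [h1, LinearMap.mem_ker.1 (hz i), map_zero, map_zero]
      rfl
    rw [hu, Submodule.mem_bot] at hmem
    rw [hmem]
    rfl
  have h2 : z = (LinearMap.lTensor M (Finsupp.linearCombination A id)) ((LinearMap.lTensor M s) z) := by
    rw [← LinearMap.lTensor_comp_apply, hs, LinearMap.lTensor_id, LinearMap.id_apply]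
  rw [h2, hz', map_zero]

end Groth.Agent.S4878
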