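import Mathlib
import Groth.Agent.H11.GoldmanSch
import Groth.Statements.S4880

set_option autoImplicit false
universe u
open CategoryTheory AlgebraicGeometry
open EGA43

namespace Groth.Agent.S4880

/-- For a Noetherian irreducible scheme X the following are equivalent: a) the generic point of X is an
isolated point; b) the underlying set of X is finite; c) X has dimension at most 1 and finitely many
closed points. -/
theorem result (X : Scheme.{u}) [IsNoetherian X]
    [IrreducibleSpace X] :
    [IsOpen ({genericPoint X} : Set X),
      Finite X,
      topologicalKrullDim X ≤ 1 ∧ {x : X | IsClosed ({x} : Set X)}.Finite].TFAE := by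
  have hgen : IsGenericPoint (genericPoint X) (Set.univ : Set X) := genericPoint_spec X
  have hη : ∀ x : X, genericPoint X ⤳ x := fun x => hgen.specializes (Set.mem_univ x)
  have h21 : Finite X → IsOpen ({genericPoint X} : Set X) := by
    intro hfin
    have hcl : IsClosed (⋃ x ∈ {x : X | x ≠ genericPoint X}, closure ({x} : Set X)) :=
      (Set.toFinite {x : X | x ≠ genericPoint X}).isClosed_biUnion (fun x _ => isClosed_closure)
    have heq : (⋃ x ∈ {x : X | x ≠ genericPoint X}, closure ({x} : Set X)) =
        ({genericPoint X} : Set X)ᶜ := by
      ext y
      simp only [Set.mem_iUnion, Set.mem_ofPred_eq, Set.mem_compl_iff, Set.mem_singleton_iff,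
        exists_prop]
      constructor
      · rintro ⟨x, hx, hy⟩ rfl
        exact hx ((specializes_iff_mem_closure.2 hy).antisymm (hη x)).eq
      · intro hy
        exact ⟨y, hy, subset_closure rfl⟩
    rw [heq] at hcl
    exact isClosed_compl_iff.1 hcl
  tfae_have 1 → 2 := by
    intro h
    have := Groth.Agent.H11.finite_closure_of_isLocallyClosed_singleton h.isLocallyClosed
    rw [hgen.def] at this
    exact Set.finite_univ_iff.1 this
  tfae_have 2 → 1 := h21
  tfae_have 2 → 3 := by
    intro hfin
    refine ⟨?_, Set.toFinite _⟩
    have hopen := h21 hfin
    rw [topologicalKrullDim, Order.krullDim_le_one_iff]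
    intro T
    obtain ⟨g, hg⟩ := QuasiSober.sober T.isIrreducible T.isClosed
    by_cases hgη : g = genericPoint X
    · right
      intro T' _
      intro a _
      have : (T : Set X) = Set.univ := by
        rw [← hg.def, hgη, hgen.def]
      show a ∈ (T : Set X)
      rw [this]
      exact Set.mem_univ a
    · left
      have hgcl : IsClosed ({g} : Set X) :=
        Groth.Agent.H11.isClosed_singleton_of_mem_closure_of_isLocallyClosed hopen.isLocallyClosed
          (by rw [hgen.def]; exact Set.mem_univ g) hgη
      have hT : (T : Set X) = {g} := by rw [← hg.def, hgcl.closure_eq]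
      intro T' hT'
      obtain ⟨a, ha⟩ := T'.isIrreducible.nonempty
      have haT : a ∈ (T : Set X) := hT' ha
      rw [hT] at haT
      intro b hb
      have hbg : b ∈ (T : Set X) := hb
      rw [hT] at hbg
      have : b = a := by rw [Set.mem_singleton_iff.1 hbg, Set.mem_singleton_iff.1 haT]
      rw [this]
      exact ha
  tfae_have 3 → 2 := by
    rintro ⟨hdim, hfin⟩
    rw [topologicalKrullDim, Order.krullDim_le_one_iff] at hdim
    have hsub : (Set.univ : Set X) ⊆ insert (genericPoint X) {x : X | IsClosed ({x} : Set X)} := by
      intro x _
      by_cases hx : x = genericPoint X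
      · exact Or.inl hx
      · right
        rcases hdim ⟨closure {x}, isIrreducible_singleton.closure, isClosed_closure⟩ with hmin | hmax
        · show IsClosed ({x} : Set X)
          rw [← closure_eq_iff_isClosed]
          refine subset_antisymm ?_ subset_closure
          intro z hz
          have hle : (⟨closure {z}, isIrreducible_singleton.closure, isClosed_closure⟩ :
              TopologicalSpace.IrreducibleCloseds X) ≤
              ⟨closure {x}, isIrreducible_singleton.closure, isClosed_closure⟩ := by
            show closure {z} ⊆ closure {x}
            exact (isClosed_closure.closure_subset_iff).2 (Set.singleton_subset_iff.2 hz)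
          have hge := hmin hle
          have hxz : x ∈ closure ({z} : Set X) := hge (subset_closure rfl : x ∈ closure {x})
          exact ((specializes_iff_mem_closure.2 hz).antisymm
            (specializes_iff_mem_closure.2 hxz)).eq.symm
        · exfalso
          have hle : (⟨closure {x}, isIrreducible_singleton.closure, isClosed_closure⟩ :
              TopologicalSpace.IrreducibleCloseds X) ≤
              ⟨Set.univ, (IrreducibleSpace.isIrreducible_univ X), isClosed_univ⟩ := by
            show closure {x} ⊆ Set.univ
            exact Set.subset_univ _
          have hge := hmax hle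
          have hηx : genericPoint X ∈ closure ({x} : Set X) := hge (Set.mem_univ _)
          exact hx ((specializes_iff_mem_closure.2 hηx).antisymm (hη x)).eq
    exact Set.finite_univ_iff.1 ((hfin.insert _).subset hsub)
  tfae_finish

end Groth.Agent.S4880
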