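import Groth.Statements.S4881
import Mathlib
import Groth.Agent.H29.DimFun

set_option autoImplicit false
universe u
open CategoryTheory AlgebraicGeometry
open EGA43

namespace Groth.Agent.S4881


open TopologicalSpace in
/-- A chain of irreducible closed subsets of `X` all contained in `C` bounds `dim C` from below. -/
lemma length_le_dim_of_subset {X : Type*} [TopologicalSpace X] (C : Set X)
    (p : LTSeries (IrreducibleCloseds X)) (hp : ∀ i, (p i : Set X) ⊆ C) :
    (p.length : WithBot ℕ∞) ≤ topologicalKrullDim ↥C := by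
  have hirr : ∀ Z : IrreducibleCloseds X, (Z : Set X) ⊆ C →
      IsIrreducible ((↑) ⁻¹' (Z : Set X) : Set C) := by
    intro Z hZ
    obtain ⟨⟨z, hz⟩, hpre⟩ := Z.isIrreducible
    refine ⟨⟨⟨z, hZ hz⟩, hz⟩, ?_⟩
    intro u v hu hv ⟨a, haZ, hau⟩ ⟨b, hbZ, hbv⟩
    obtain ⟨u', hu', rfl⟩ := isOpen_induced_iff.mp hu
    obtain ⟨v', hv', rfl⟩ := isOpen_induced_iff.mp hv
    obtain ⟨c, hcZ, hcu, hcv⟩ := hpre u' v' hu' hv' ⟨a.1, haZ, hau⟩ ⟨b.1, hbZ, hbv⟩
    exact ⟨⟨c, hZ hcZ⟩, hcZ, hcu, hcv⟩
  let ψ : Fin (p.length + 1) → IrreducibleCloseds ↥C := fun i =>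
    ⟨(↑) ⁻¹' (p i : Set X), hirr (p i) (hp i), (p i).isClosed.preimage continuous_subtype_val⟩
  have hψ : StrictMono ψ := by
    intro i j hij
    have h := p.strictMono hij
    have hle : (p i : Set X) ⊆ p j := SetLike.coe_subset_coe.mpr h.le
    refine lt_of_le_of_ne (SetLike.le_def.mpr (fun x hx => hle hx)) ?_
    intro heq
    apply h.ne
    apply SetLike.coe_injective
    apply Set.Subset.antisymm hle
    intro x hx
    have hxC : x ∈ C := hp j hx
    have h1 : (⟨x, hxC⟩ : C) ∈ ψ j := hx
    rw [← heq] at h1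
    exact h1
  exact Order.LTSeries.length_le_krullDim (LTSeries.mk p.length ψ hψ)

/-- Let X be a locally Noetherian scheme which is Jacobson, whose local rings are universally catenary,
and whose irreducible components X' are equidimensional in the sense that for every closed point x
of X' the dimension of X' equals the dimension of the set of generizations of x in X'. Then for
every dense open subset U of X, dim U = dim X. -/
theorem result (X : Scheme.{u}) [IsLocallyNoetherian X] [JacobsonSpace X]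
    (h2 : ∀ x : X, CAlg.IsUniversallyCatenary (X.presheaf.stalk x))
    (h3 : ∀ X' ∈ irreducibleComponents (X : Type u), ∀ x ∈ X', IsClosed ({x} : Set X) →
      topologicalKrullDim (↥X' : Type u) = topologicalKrullDim ↥{t : X | t ∈ X' ∧ t ⤳ x})
    (U : Set X) (hU : IsOpen U) (hd : Dense U) :
    topologicalKrullDim ↥U = topologicalKrullDim X := by
  apply le_antisymm (topologicalKrullDim_subspace_le X U)
  show Order.krullDim (TopologicalSpace.IrreducibleCloseds X) ≤ _
  refine iSup_le fun p => ?_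
  obtain ⟨X', hX', hZX'⟩ := exists_mem_irreducibleComponents_subset_of_isIrreducible
    (p.last : Set X) p.last.isIrreducible
  have hX'irr : IsIrreducible X' := hX'.1
  have hX'cl : IsClosed X' := isClosed_of_mem_irreducibleComponents X' hX'
  have hη := hX'irr.isGenericPoint_genericPoint hX'cl
  obtain ⟨η, hηdef⟩ : ∃ η : X, η = hX'irr.genericPoint := ⟨_, rfl⟩
  rw [← hηdef] at hη
  have hηgen : ∀ ξ' : X, ξ' ⤳ η → ξ' = η := by
    intro ξ' h
    have h1 : X' ⊆ closure {ξ'} := by
      rw [← hη.def]; exact specializes_iff_closure_subset.mp h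
    have h2 : closure {ξ'} = X' := le_antisymm (hX'.2 isIrreducible_singleton.closure h1) h1
    have h3' : IsGenericPoint ξ' X' := h2
    exact h3'.eq hη
  obtain ⟨W, hηW, hW⟩ := Groth.Agent.H29.DimFun.exists_open_generic_specializes X η
  have hWX' : (W : Set X) ⊆ X' := by
    intro w hw
    obtain ⟨ξ, hξw, hξgen⟩ := Groth.Agent.H29.DimFun.exists_generic_specializes X w
    have hξW : ξ ∈ W := hξw.mem_open W.2 hw
    have h1 : ξ ⤳ η := hW ξ hξW hξgen
    have h2 : ξ = η := hηgen ξ h1
    rw [← hη.def]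
    exact specializes_iff_mem_closure.mp (h2 ▸ hξw)
  obtain ⟨u, huW, huU⟩ := hd.inter_open_nonempty (W : Set X) W.2 ⟨η, hηW⟩
  have hWUopen : IsOpen ((W : Set X) ∩ U) := W.2.inter hU
  obtain ⟨x, ⟨hxW, hxU⟩, hxcl⟩ := nonempty_inter_closedPoints
    (show ((W : Set X) ∩ U).Nonempty from ⟨u, huW, huU⟩) hWUopen.isLocallyClosed
  have hxX' : x ∈ X' := hWX' hxW
  have hdim := h3 X' hX' x hxX' hxcl
  have hchain : ∀ i, (p i : Set X) ⊆ X' := by
    intro i
    have h1 : p i ≤ p.last := p.monotone (Fin.le_last i)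
    exact (SetLike.coe_subset_coe.mpr h1).trans hZX'
  have h1 := length_le_dim_of_subset X' p hchain
  rw [hdim] at h1
  refine h1.trans ?_
  have hGU : {t : X | t ∈ X' ∧ t ⤳ x} ⊆ U := fun t ht => ht.2.mem_open hU hxU
  exact (Topology.IsEmbedding.inclusion hGU).isInducing.topologicalKrullDim_le

end Groth.Agent.S4881
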