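import Mathlib
import Groth.Statements.S4882

set_option autoImplicit false
universe u
open EGA43

namespace Groth.Agent.S4882

/-- Let X be a Jacobson space and Z a locally quasi-constructible subset of X, i.e. every point of X has
an open neighbourhood U such that U ∩ Z is a finite union of locally closed subsets of X. Then the
subspace Z is a Jacobson space, and a point of Z is closed in Z if and only if it is closed in X. -/
theorem result {X : Type u} [TopologicalSpace X] [JacobsonSpace X]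
    (Z : Set X)
    (hZ : ∀ x : X, ∃ U : Set X, IsOpen U ∧ x ∈ U ∧
      ∃ T : Set (Set X), T.Finite ∧ (∀ t ∈ T, IsLocallyClosed t) ∧ U ∩ Z = ⋃₀ T) :
    JacobsonSpace ↥Z ∧ ∀ z : ↥Z, IsClosed ({z} : Set ↥Z) ↔ IsClosed ({(z : X)} : Set X) := by
  have hA : ∀ z : ↥Z, IsClosed ({z} : Set ↥Z) → IsClosed ({(z : X)} : Set X) := by
    intro z hz
    obtain ⟨U, hU, hzU, T, -, hT, hUZ⟩ := hZ z
    have hzT : (z : X) ∈ ⋃₀ T := hUZ ▸ ⟨hzU, z.2⟩
    obtain ⟨t, ht, hzt⟩ := hzT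
    obtain ⟨C, hC, hCz⟩ := isClosed_induced_iff.1 hz
    apply isClosed_singleton_of_isLocallyClosed_singleton
    have : ({(z : X)} : Set X) = t ∩ C := by
      ext a
      constructor
      · rintro rfl
        refine ⟨hzt, ?_⟩
        have : z ∈ Subtype.val ⁻¹' C := by rw [hCz]; rfl
        exact this
      · rintro ⟨hat, haC⟩
        have haUZ : a ∈ U ∩ Z := hUZ ▸ ⟨t, ht, hat⟩
        have : (⟨a, haUZ.2⟩ : Z) ∈ Subtype.val ⁻¹' C := haC
        rw [hCz] at this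
        exact congrArg Subtype.val this
    rw [this]
    exact (hT t ht).inter hC.isLocallyClosed
  have hB : ∀ z : ↥Z, IsClosed ({(z : X)} : Set X) → IsClosed ({z} : Set ↥Z) := by
    intro z hz
    have := hz.preimage (continuous_subtype_val (p := fun x => x ∈ Z))
    rwa [← Set.image_singleton, Set.preimage_image_eq _ Subtype.val_injective] at this
  refine ⟨?_, fun z => ⟨hA z, hB z⟩⟩
  rw [jacobsonSpace_iff_locallyClosed]
  intro W hWne hW
  obtain ⟨W', hW', rfl⟩ := (Topology.IsInducing.subtypeVal (t := Z)).isLocallyClosed_iff.1 hW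
  obtain ⟨w, hw⟩ := hWne
  obtain ⟨U, hU, hwU, T, -, hT, hUZ⟩ := hZ w
  have hwT : (w : X) ∈ ⋃₀ T := hUZ ▸ ⟨hwU, w.2⟩
  obtain ⟨t, ht, hwt⟩ := hwT
  have hlc : IsLocallyClosed (t ∩ W') := (hT t ht).inter hW'
  have hne : (t ∩ W').Nonempty := ⟨(w : X), hwt, hw⟩
  obtain ⟨x, ⟨hxt, hxW'⟩, hxcl⟩ := nonempty_inter_closedPoints hne hlc
  have hxZ : x ∈ Z := (hUZ ▸ (⟨t, ht, hxt⟩ : x ∈ ⋃₀ T) : x ∈ U ∩ Z).2
  exact ⟨⟨x, hxZ⟩, hxW', hB ⟨x, hxZ⟩ hxcl⟩

end Groth.Agent.S4882
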