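import Mathlib
import Groth.Statements.S4886
import Groth.Agent.Lib.Helper9.FinZ
-- import your own Groth.Agent.* helpers here

set_option autoImplicit false
universe u
open CategoryTheory AlgebraicGeometry
open EGA43

namespace Groth.Agent.S4886

open Groth.Agent.Helper9

/-- Let Y be a scheme of finite type over ℤ. (i) A point y of Y is closed if and only if the residue
field k(y) is finite. (ii) For every prime number p and every integer d ≥ 1, the set of points y of
Y such that k(y) is an extension of 𝔽_p of degree dividing d, i.e. admits a ring homomorphism into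
the field with p^d elements, is finite. -/
theorem result (Y : Scheme.{u}) [CompactSpace Y]
    [LocallyOfFiniteType (Limits.IsTerminal.from specULiftZIsTerminal Y)] :
    (∀ y : Y, IsClosed ({y} : Set Y) ↔ Finite ↑(Y.residueField y)) ∧
    ∀ (p d : ℕ) [Fact p.Prime], 0 < d →
      {y : Y | Nonempty (↑(Y.residueField y) →+* GaloisField p d)}.Finite := by
  haveI := FinZ.ulift_isJacobsonRing.{u}
  haveI : JacobsonSpace (Spec (CommRingCat.of (ULift.{u} ℤ))) := inferInstance
  haveI : JacobsonSpace Y :=
    LocallyOfFiniteType.jacobsonSpace (Limits.IsTerminal.from specULiftZIsTerminal Y)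
  have e1 : Γ(Spec (CommRingCat.of (ULift.{u} ℤ)), ⊤) ≃+* ℤ :=
    (Scheme.ΓSpecIso (CommRingCat.of (ULift.{u} ℤ))).commRingCatIsoToRingEquiv.trans
      ULift.ringEquiv
  have hs := FinZ.intCast_surjective_of_equiv e1
  refine ⟨fun y => ⟨fun hcl => ?_, fun hfin => ?_⟩, ?_⟩
  · haveI : LocallyOfFiniteType (Y.fromSpecResidueField y) :=
      isClosed_singleton_iff_locallyOfFiniteType.mp hcl
    haveI : IsFinite (Y.fromSpecResidueField y ≫
        Limits.IsTerminal.from specULiftZIsTerminal Y) :=
      isFinite_iff_locallyOfFiniteType_of_jacobsonSpace.mpr inferInstance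
    have hfin := (Y.fromSpecResidueField y ≫
      Limits.IsTerminal.from specULiftZIsTerminal Y).finite_appTop
    have hbij := ConcreteCategory.bijective_of_isIso (Scheme.ΓSpecIso (Y.residueField y)).hom
    have h2 : (((Scheme.ΓSpecIso (Y.residueField y)).hom.hom.comp (Y.fromSpecResidueField y ≫
        Limits.IsTerminal.from specULiftZIsTerminal Y).appTop.hom).comp
        (Int.castRingHom _)).Finite :=
      ((RingHom.Finite.of_surjective _ hbij.2).comp hfin).comp
        (RingHom.Finite.of_surjective _ hs)
    haveI : Module.Finite ℤ (Y.residueField y) := by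
      rw [← RingHom.finite_algebraMap, Subsingleton.elim (algebraMap ℤ (Y.residueField y))
        (((Scheme.ΓSpecIso (Y.residueField y)).hom.hom.comp (Y.fromSpecResidueField y ≫
        Limits.IsTerminal.from specULiftZIsTerminal Y).appTop.hom).comp (Int.castRingHom _))]
      exact h2
    exact FinZ.finite_of_moduleFinite_int _
  · rw [isClosed_singleton_iff_locallyOfFiniteType]
    haveI : Finite (Y.residueField y) := hfin
    haveI : Finite Γ(Spec (Y.residueField y), ⊤) :=
      Finite.of_equiv _ (Scheme.ΓSpecIso (Y.residueField y)).commRingCatIsoToRingEquiv.symm.toEquiv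
    haveI : LocallyOfFiniteType (Y.fromSpecResidueField y ≫
        Limits.IsTerminal.from specULiftZIsTerminal Y) := by
      rw [HasRingHomProperty.iff_of_isAffine (P := @LocallyOfFiniteType)]
      have hf : ((Y.fromSpecResidueField y ≫
          Limits.IsTerminal.from specULiftZIsTerminal Y).appTop).hom.Finite := by
        letI := ((Y.fromSpecResidueField y ≫
          Limits.IsTerminal.from specULiftZIsTerminal Y).appTop).hom.toAlgebra
        exact Module.Finite.of_finite
      exact hf.finiteType
    exact locallyOfFiniteType_of_comp _ (Limits.IsTerminal.from specULiftZIsTerminal Y)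
  · intro p d _ hd
    have key : ∀ U : Y.Opens, IsAffineOpen U →
        {y : Y | y ∈ U ∧ Nonempty (↑(Y.residueField y) →+* GaloisField p d)}.Finite := by
      intro U hU
      have hft : (algebraMap ℤ Γ(Y, U)).FiniteType := by
        have h1 := (Limits.IsTerminal.from specULiftZIsTerminal Y).finiteType_appLE
          (isAffineOpen_top _) hU le_top
        have h2 := h1.comp (RingHom.FiniteType.of_surjective (Int.castRingHom _) hs)
        rw [Subsingleton.elim (algebraMap ℤ Γ(Y, U)) _]
        exact h2
      haveI : Algebra.FiniteType ℤ Γ(Y, U) := RingHom.finiteType_algebraMap.mp hft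
      haveI := FinZ.finite_ringHom_of_finiteType Γ(Y, U) (GaloisField p d)
      let Ψ : {y : Y | y ∈ U ∧ Nonempty (↑(Y.residueField y) →+* GaloisField p d)} →
          (Γ(Y, U) →+* GaloisField p d) :=
        fun y => (Classical.choice y.2.2).comp (Y.evaluation U y.1 y.2.1).hom
      have hmem : ∀ (q : Spec Γ(Y, U)) (b : Γ(Y, U)),
          b ∈ q.asIdeal ↔ hU.fromSpec q ∉ Y.basicOpen b := by
        intro q b
        have h0 := hU.fromSpec_preimage_basicOpen b
        have h1 : q ∈ hU.fromSpec ⁻¹ᵁ Y.basicOpen b ↔ b ∉ q.asIdeal := by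
          rw [h0]; exact PrimeSpectrum.mem_basicOpen _ _
        constructor
        · intro hb hm; exact (h1.mp hm) hb
        · intro hn; by_contra hb; exact hn (h1.mpr hb)
      have hker : ∀ (y : Y) (hyU : y ∈ U)
          (hy : Nonempty (↑(Y.residueField y) →+* GaloisField p d)) (b : Γ(Y, U)),
          Ψ ⟨y, hyU, hy⟩ b = 0 ↔ y ∉ Y.basicOpen b := by
        intro y hyU hy b
        show (Classical.choice hy) ((Y.evaluation U y hyU).hom b) = 0 ↔ _
        rw [map_eq_zero_iff _ (Classical.choice hy).injective]
        exact Y.evaluation_eq_zero_iff_notMem_basicOpen y hyU b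
      have hΨ : Function.Injective Ψ := by
        rintro ⟨y, hyU, hy⟩ ⟨y', hy'U, hy'⟩ h
        apply Subtype.ext
        show y = y'
        obtain ⟨q, rfl⟩ : ∃ q, hU.fromSpec q = y := by
          have : y ∈ Set.range hU.fromSpec := by rw [hU.range_fromSpec]; exact hyU
          exact this
        obtain ⟨q', rfl⟩ : ∃ q', hU.fromSpec q' = y' := by
          have : y' ∈ Set.range hU.fromSpec := by rw [hU.range_fromSpec]; exact hy'U
          exact this
        congr 1
        apply PrimeSpectrum.ext
        ext b
        rw [hmem q b, hmem q' b, ← hker _ hyU hy b, ← hker _ hy'U hy' b, h]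
      haveI : Finite ↥{y : Y | y ∈ U ∧ Nonempty (↑(Y.residueField y) →+* GaloisField p d)} :=
        Finite.of_injective Ψ hΨ
      exact Set.toFinite _
    have hcov : ∀ y : Y, ∃ U : Y.Opens, IsAffineOpen U ∧ y ∈ U := by
      intro y
      obtain ⟨_, ⟨U, hU, rfl⟩, hyU, -⟩ := Y.isBasis_affineOpens.exists_subset_of_mem_open
        (Set.mem_univ y) isOpen_univ
      exact ⟨U, hU, hyU⟩
    choose Uy hUy hyU using hcov
    obtain ⟨t, -, ht⟩ := isCompact_univ.elim_nhds_subcover (fun y => (Uy y : Set Y))
      (fun y _ => (Uy y).isOpen.mem_nhds (hyU y))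
    refine Set.Finite.subset (Set.Finite.biUnion t.finite_toSet
      (fun y _ => key (Uy y) (hUy y))) ?_
    intro y hy
    obtain ⟨z, hz, hyz⟩ := Set.mem_iUnion₂.mp (ht (Set.mem_univ y))
    exact Set.mem_biUnion hz ⟨hyz, hy⟩

end Groth.Agent.S4886
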