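import Groth.Statements.S4894
import Mathlib

set_option autoImplicit false
universe u
open EGA43

namespace Groth.Agent.S4894

/-- Let f : X → Y be continuous and (W_i) an open covering of Y such that every restriction f⁻¹(W_i) →
W_i is a quasi-homeomorphism (taking preimages is a bijection on open subsets). Then f is a
quasi-homeomorphism. -/
theorem result {X Y : Type u} [TopologicalSpace X]
    [TopologicalSpace Y] (f : X → Y) (hf : Continuous f) {ι : Type u} (W : ι → Set Y)
    (hWo : ∀ i, IsOpen (W i)) (hWc : ⋃ i, W i = Set.univ)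
    (h : ∀ i, ((∀ U₁ U₂ : Set ↥(W i), IsOpen U₁ → IsOpen U₂ → ((W i).restrictPreimage f) ⁻¹' U₁ = ((W i).restrictPreimage f) ⁻¹' U₂ → U₁ = U₂) ∧ (∀ V : Set ↥(f ⁻¹' W i), IsOpen V → ∃ U : Set ↥(W i), IsOpen U ∧ ((W i).restrictPreimage f) ⁻¹' U = V))) :
    ((∀ U₁ U₂ : Set Y, IsOpen U₁ → IsOpen U₂ → (f) ⁻¹' U₁ = (f) ⁻¹' U₂ → U₁ = U₂) ∧ (∀ V : Set X, IsOpen V → ∃ U : Set Y, IsOpen U ∧ (f) ⁻¹' U = V)) := by
  constructor
  · intro U₁ U₂ hU₁ hU₂ hU
    have key : ∀ i, (Subtype.val ⁻¹' U₁ : Set (W i)) = Subtype.val ⁻¹' U₂ := by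
      intro i
      apply (h i).1 _ _ (hU₁.preimage continuous_subtype_val) (hU₂.preimage continuous_subtype_val)
      ext ⟨x, hx⟩
      have := Set.ext_iff.mp hU x
      simpa using this
    ext y
    have hy : y ∈ ⋃ i, W i := by rw [hWc]; trivial
    obtain ⟨i, hi⟩ := Set.mem_iUnion.mp hy
    have := Set.ext_iff.mp (key i) ⟨y, hi⟩
    simpa using this
  · intro V hV
    have key : ∀ i, ∃ U : Set ↥(W i), IsOpen U ∧ ((W i).restrictPreimage f) ⁻¹' U = (Subtype.val ⁻¹' V : Set (f ⁻¹' W i)) :=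
      fun i => (h i).2 _ (hV.preimage continuous_subtype_val)
    choose U hUo hU using key
    refine ⟨⋃ i, Subtype.val '' (U i), isOpen_iUnion fun i => (hWo i).isOpenMap_subtype_val _ (hUo i), ?_⟩
    ext x
    simp only [Set.mem_preimage, Set.mem_iUnion, Set.mem_image, Subtype.exists, exists_and_right, exists_eq_right]
    constructor
    · rintro ⟨i, hi, hxU⟩
      have := Set.ext_iff.mp (hU i) ⟨x, hi⟩
      simp only [Set.mem_preimage, Set.restrictPreimage_mk] at this
      exact this.mp hxU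
    · intro hxV
      have hy : f x ∈ ⋃ i, W i := by rw [hWc]; trivial
      obtain ⟨i, hi⟩ := Set.mem_iUnion.mp hy
      refine ⟨i, hi, ?_⟩
      have := Set.ext_iff.mp (hU i) ⟨x, hi⟩
      simp only [Set.mem_preimage, Set.restrictPreimage_mk] at this
      exact this.mpr hxV

end Groth.Agent.S4894
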