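import Groth.Statements.S4903
import Mathlib
-- import your own Groth.Agent.* helpers here

set_option autoImplicit false
universe u
open EGA43

namespace Groth.Agent.S4903


abbrev QC {X : Type u} [TopologicalSpace X] (Z : Set X) : Prop :=
  ∃ T : Set (Set X), T.Finite ∧ (∀ t ∈ T, IsLocallyClosed t) ∧ Z = ⋃₀ T
abbrev LQC {X : Type u} [TopologicalSpace X] (Z : Set X) : Prop :=
  ∀ x : X, ∃ U : Set X, IsOpen U ∧ x ∈ U ∧ ∃ T : Set (Set X), T.Finite ∧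
    (∀ t ∈ T, IsLocallyClosed t) ∧ U ∩ Z = ⋃₀ T

section
variable {X : Type u} [TopologicalSpace X]

theorem QC_empty : QC (∅ : Set X) :=
  ⟨∅, Set.finite_empty, fun t ht => absurd ht (Set.notMem_empty t), Set.sUnion_empty.symm⟩

theorem QC_of_lc {t : Set X} (ht : IsLocallyClosed t) : QC t :=
  ⟨{t}, Set.finite_singleton t, fun s hs => by
    rw [Set.mem_singleton_iff] at hs; rw [hs]; exact ht, (Set.sUnion_singleton t).symm⟩

theorem QC_union {A B : Set X} (hA : QC A) (hB : QC B) : QC (A ∪ B) := by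
  obtain ⟨TA, hfA, hlA, rfl⟩ := hA
  obtain ⟨TB, hfB, hlB, rfl⟩ := hB
  refine ⟨TA ∪ TB, hfA.union hfB, ?_, (Set.sUnion_union TA TB).symm⟩
  rintro t (ht | ht)
  · exact hlA t ht
  · exact hlB t ht

theorem QC_inter {A B : Set X} (hA : QC A) (hB : QC B) : QC (A ∩ B) := by
  obtain ⟨TA, hfA, hlA, rfl⟩ := hA
  obtain ⟨TB, hfB, hlB, rfl⟩ := hB
  refine ⟨Set.image2 (· ∩ ·) TA TB, hfA.image2 _ hfB, ?_, ?_⟩
  · rintro _ ⟨a, ha, b, hb, rfl⟩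
    exact (hlA a ha).inter (hlB b hb)
  · ext x
    simp only [Set.mem_inter_iff, Set.mem_sUnion, Set.mem_image2]
    constructor
    · rintro ⟨⟨a, ha, hxa⟩, ⟨b, hb, hxb⟩⟩
      exact ⟨a ∩ b, ⟨a, ha, b, hb, rfl⟩, hxa, hxb⟩
    · rintro ⟨_, ⟨a, ha, b, hb, rfl⟩, hxa, hxb⟩
      exact ⟨⟨a, ha, hxa⟩, ⟨b, hb, hxb⟩⟩

theorem QC_compl_lc {t : Set X} (ht : IsLocallyClosed t) : QC tᶜ := by
  obtain ⟨U, C, hU, hC, rfl⟩ := ht
  rw [Set.compl_inter]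
  exact QC_union (QC_of_lc hU.isClosed_compl.isLocallyClosed)
    (QC_of_lc hC.isOpen_compl.isLocallyClosed)

theorem QC_compl_aux (T : Set (Set X)) (hf : T.Finite) :
    (∀ t ∈ T, IsLocallyClosed t) → QC (⋃₀ T)ᶜ := by
  refine Set.Finite.induction_on (motive := fun T _ => (∀ t ∈ T, IsLocallyClosed t) → QC (⋃₀ T)ᶜ)
    T hf ?_ ?_
  · intro _
    rw [Set.sUnion_empty, Set.compl_empty]
    exact QC_of_lc isOpen_univ.isLocallyClosed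
  · intro a s _ _ ih hl
    rw [Set.sUnion_insert, Set.compl_union]
    exact QC_inter (QC_compl_lc (hl _ (Set.mem_insert _ _)))
      (ih (fun t ht => hl t (Set.mem_insert_of_mem _ ht)))

theorem QC_compl {A : Set X} (hA : QC A) : QC Aᶜ := by
  obtain ⟨T, hf, hl, rfl⟩ := hA
  exact QC_compl_aux T hf hl

theorem QC_diff {A B : Set X} (hA : QC A) (hB : QC B) : QC (A \ B) := by
  rw [Set.diff_eq]
  exact QC_inter hA (QC_compl hB)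

theorem QC_open_inter {V A : Set X} (hV : IsOpen V) (hA : QC A) : QC (V ∩ A) :=
  QC_inter (QC_of_lc hV.isLocallyClosed) hA

theorem LQC_of_QC {Z : Set X} (hZ : QC Z) : LQC Z := by
  intro x
  obtain ⟨T, hf, hl, hT⟩ := hZ
  exact ⟨Set.univ, isOpen_univ, Set.mem_univ x, T, hf, hl, by rw [Set.univ_inter]; exact hT⟩

theorem LQC_open_inter {V Z : Set X} (hV : IsOpen V) (hZ : LQC Z) : LQC (V ∩ Z) := by
  intro x
  obtain ⟨U, hU, hxU, hq⟩ := hZ x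
  have hq' : QC (U ∩ Z) := hq
  have : QC (U ∩ (V ∩ Z)) := by
    rw [Set.inter_left_comm]
    exact QC_open_inter hV hq'
  exact ⟨U, hU, hxU, this⟩

theorem LQC_diff {Z Z' : Set X} (hZ : LQC Z) (hZ' : LQC Z') : LQC (Z \ Z') := by
  intro x
  obtain ⟨U₁, hU₁, hxU₁, hq₁⟩ := hZ x
  obtain ⟨U₂, hU₂, hxU₂, hq₂⟩ := hZ' x
  have hq₁' : QC (U₁ ∩ Z) := hq₁
  have hq₂' : QC (U₂ ∩ Z') := hq₂
  have heq : (U₁ ∩ U₂) ∩ (Z \ Z') = (U₂ ∩ (U₁ ∩ Z)) \ (U₁ ∩ (U₂ ∩ Z')) := by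
    ext y
    simp only [Set.mem_inter_iff, Set.mem_diff]
    tauto
  have : QC ((U₁ ∩ U₂) ∩ (Z \ Z')) := by
    rw [heq]
    exact QC_diff (QC_open_inter hU₂ hq₁') (QC_open_inter hU₁ hq₂')
  exact ⟨U₁ ∩ U₂, hU₁.inter hU₂, ⟨hxU₁, hxU₂⟩, this⟩

theorem sub_of (X₀ : Set X) (h2 : ∀ Z : Set X, LQC Z → Z.Nonempty → (Z ∩ X₀).Nonempty)
    (Z Z' : Set X) (hZ : LQC Z) (hZ' : LQC Z') (heq : Z ∩ X₀ = Z' ∩ X₀) : Z ⊆ Z' := by
  intro x hx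
  by_contra hx'
  obtain ⟨y, ⟨hyZ, hyZ'⟩, hy0⟩ := h2 (Z \ Z') (LQC_diff hZ hZ') ⟨x, hx, hx'⟩
  have : y ∈ Z' ∩ X₀ := heq ▸ (⟨hyZ, hy0⟩ : y ∈ Z ∩ X₀)
  exact hyZ' this.1

theorem tfae_part (X₀ : Set X) :
    [∀ Z : Set X, IsLocallyClosed Z → Z.Nonempty → (Z ∩ X₀).Nonempty,
      ∀ Z : Set X, LQC Z → Z.Nonempty → (Z ∩ X₀).Nonempty,
      ∀ Z : Set X, LQC Z → Z ⊆ closure (Z ∩ X₀),
      ∀ Z Z' : Set X, QC Z → QC Z' → Z ∩ X₀ = Z' ∩ X₀ → Z = Z',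
      ∀ Z Z' : Set X, LQC Z → LQC Z' → Z ∩ X₀ = Z' ∩ X₀ → Z = Z'].TFAE := by
  tfae_have 1 → 2 := by
    intro h1 Z hZ hne
    obtain ⟨x, hx⟩ := hne
    obtain ⟨U, hUo, hxU, T, hTf, hTlc, hUZ⟩ := hZ x
    have hxT : x ∈ ⋃₀ T := by rw [← hUZ]; exact ⟨hxU, hx⟩
    obtain ⟨t, ht, hxt⟩ := hxT
    obtain ⟨y, hyt, hy0⟩ := h1 t (hTlc t ht) ⟨x, hxt⟩
    have hyU : y ∈ U ∩ Z := by rw [hUZ]; exact ⟨t, ht, hyt⟩
    exact ⟨y, hyU.2, hy0⟩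
  tfae_have 2 → 3 := by
    intro h2 Z hZ x hx
    rw [mem_closure_iff]
    intro V hV hxV
    obtain ⟨y, ⟨hyV, hyZ⟩, hy0⟩ := h2 (V ∩ Z) (LQC_open_inter hV hZ) ⟨x, hxV, hx⟩
    exact ⟨y, hyV, hyZ, hy0⟩
  tfae_have 3 → 1 := by
    intro h3 Z hZ hne
    obtain ⟨x, hx⟩ := hne
    have := h3 Z (LQC_of_QC (QC_of_lc hZ)) hx
    by_contra hemp
    rw [Set.not_nonempty_iff_eq_empty] at hemp
    rw [hemp, closure_empty] at this
    exact this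
  tfae_have 2 → 5 := by
    intro h2 Z Z' hZ hZ' heq
    exact Set.Subset.antisymm (sub_of X₀ h2 Z Z' hZ hZ' heq) (sub_of X₀ h2 Z' Z hZ' hZ heq.symm)
  tfae_have 5 → 4 := by
    intro h5 Z Z' hZ hZ' heq
    exact h5 Z Z' (LQC_of_QC hZ) (LQC_of_QC hZ') heq
  tfae_have 4 → 1 := by
    intro h4 Z hZ hne
    by_contra hemp
    rw [Set.not_nonempty_iff_eq_empty] at hemp
    have := h4 Z ∅ (QC_of_lc hZ) QC_empty (by rw [hemp, Set.empty_inter])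
    rw [this] at hne
    exact Set.not_nonempty_empty hne
  tfae_finish

theorem lift_lc (X₀ : Set X) (t₀ : Set ↥X₀) (ht : IsLocallyClosed t₀) :
    ∃ t : Set X, IsLocallyClosed t ∧ Subtype.val ⁻¹' t = t₀ := by
  obtain ⟨O₀, C₀, hO, hC, rfl⟩ := ht
  obtain ⟨O, hO', rfl⟩ := isOpen_induced_iff.mp hO
  obtain ⟨C, hC', rfl⟩ := isClosed_induced_iff.mp hC
  exact ⟨O ∩ C, ⟨O, C, hO', hC', rfl⟩, rfl⟩

theorem lift_QC_aux (X₀ : Set X) (T₀ : Set (Set ↥X₀)) (hf : T₀.Finite) :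
    (∀ t ∈ T₀, IsLocallyClosed t) → ∃ Q : Set X, QC Q ∧ Subtype.val ⁻¹' Q = ⋃₀ T₀ := by
  refine Set.Finite.induction_on (motive := fun T₀ _ => (∀ t ∈ T₀, IsLocallyClosed t) →
    ∃ Q : Set X, QC Q ∧ Subtype.val ⁻¹' Q = ⋃₀ T₀) T₀ hf ?_ ?_
  · intro _
    exact ⟨∅, QC_empty, by rw [Set.sUnion_empty, Set.preimage_empty]⟩
  · intro a s _ _ ih hl
    obtain ⟨Q, hQ, hQe⟩ := ih (fun t ht => hl t (Set.mem_insert_of_mem _ ht))
    obtain ⟨t, htl, hte⟩ := lift_lc X₀ a (hl _ (Set.mem_insert _ _))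
    exact ⟨t ∪ Q, QC_union (QC_of_lc htl) hQ, by
      rw [Set.sUnion_insert, Set.preimage_union, hte, hQe]⟩

theorem trace_eq (X₀ : Set X) (A B : Set X)
    (h : (Subtype.val ⁻¹' A : Set ↥X₀) = Subtype.val ⁻¹' B) : A ∩ X₀ = B ∩ X₀ := by
  ext y
  constructor
  · rintro ⟨hyA, hy0⟩
    have : (⟨y, hy0⟩ : ↥X₀) ∈ (Subtype.val ⁻¹' A : Set ↥X₀) := hyA
    rw [h] at this
    exact ⟨this, hy0⟩
  · rintro ⟨hyB, hy0⟩
    have : (⟨y, hy0⟩ : ↥X₀) ∈ (Subtype.val ⁻¹' B : Set ↥X₀) := hyB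
    rw [← h] at this
    exact ⟨this, hy0⟩

theorem last_part (X₀ : Set X)
    (h1 : ∀ Z : Set X, IsLocallyClosed Z → Z.Nonempty → (Z ∩ X₀).Nonempty)
    (Z₀ : Set ↥X₀) (hZ₀ : LQC Z₀) : ∃ Z : Set X, LQC Z ∧ Subtype.val ⁻¹' Z = Z₀ := by
  classical
  have h4 : ∀ Z Z' : Set X, QC Z → QC Z' → Z ∩ X₀ = Z' ∩ X₀ → Z = Z' :=
    ((tfae_part X₀).out 0 3).mp h1
  -- local data
  have hloc : ∀ a : ↥X₀, ∃ U Q : Set X, IsOpen U ∧ (a : X) ∈ U ∧ QC Q ∧ Q ⊆ U ∧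
      (Subtype.val ⁻¹' Q : Set ↥X₀) = (Subtype.val ⁻¹' U) ∩ Z₀ := by
    intro a
    obtain ⟨U₀, hU₀, haU₀, T₀, hT₀f, hT₀l, hUZ⟩ := hZ₀ a
    obtain ⟨U, hU, rfl⟩ := isOpen_induced_iff.mp hU₀
    obtain ⟨Q, hQ, hQe⟩ := lift_QC_aux X₀ T₀ hT₀f hT₀l
    refine ⟨U, U ∩ Q, hU, haU₀, QC_open_inter hU hQ, Set.inter_subset_left, ?_⟩
    rw [Set.preimage_inter, hQe, ← hUZ, ← Set.inter_assoc, Set.inter_self]
  choose U Q hUo haU hQ hQU hQe using hloc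
  have hcover : ∀ x : X, ∃ a : ↥X₀, x ∈ U a := by
    intro x
    by_contra hcon
    push_neg at hcon
    have hC : IsClosed (⋃ a, U a)ᶜ := (isOpen_iUnion hUo).isClosed_compl
    have hx : x ∈ (⋃ a, U a)ᶜ := by
      rw [Set.mem_compl_iff, Set.mem_iUnion]
      push_neg
      exact hcon
    obtain ⟨y, hyC, hy0⟩ := h1 _ hC.isLocallyClosed ⟨x, hx⟩
    exact hyC (Set.mem_iUnion.mpr ⟨⟨y, hy0⟩, haU ⟨y, hy0⟩⟩)
  have hswap : ∀ a b : ↥X₀, U a ∩ Q b = U b ∩ Q a := by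
    intro a b
    apply h4 _ _ (QC_open_inter (hUo a) (hQ b)) (QC_open_inter (hUo b) (hQ a))
    apply trace_eq
    rw [Set.preimage_inter, Set.preimage_inter, hQe, hQe]
    ext y
    simp only [Set.mem_inter_iff, Set.mem_preimage]
    tauto
  refine ⟨⋃ a, Q a, ?_, ?_⟩
  · intro x
    obtain ⟨a, hxa⟩ := hcover x
    have hUZ : U a ∩ ⋃ b, Q b = Q a := by
      apply Set.Subset.antisymm
      · rintro y ⟨hyU, hyQ⟩
        obtain ⟨b, hyb⟩ := Set.mem_iUnion.mp hyQ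
        have : y ∈ U b ∩ Q a := by rw [← hswap a b]; exact ⟨hyU, hyb⟩
        exact this.2
      · intro y hy
        exact ⟨hQU a hy, Set.mem_iUnion.mpr ⟨a, hy⟩⟩
    have : QC (U a ∩ ⋃ b, Q b) := by rw [hUZ]; exact hQ a
    exact ⟨U a, hUo a, hxa, this⟩
  · rw [Set.preimage_iUnion]
    ext y
    simp only [Set.mem_iUnion]
    constructor
    · rintro ⟨a, hya⟩
      rw [hQe] at hya
      exact hya.2
    · intro hy
      refine ⟨y, ?_⟩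
      rw [hQe]
      exact ⟨haU y, hy⟩
end

/-- Conditions a), b), b′), c″), c‴) and its last assertion: given a topological space X and a subset X₀
⊆ X, the statements below are equivalent. Every locally closed subset of X that is nonempty
intersects X₀. Every nonempty locally quasi-constructible subset of X intersects X₀; here a subset
is locally quasi-constructible when each point of X has an open neighbourhood on which the subset's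
trace can be written as a union of finitely many locally closed sets. Each locally
quasi-constructible Z ⊆ X is contained in the closure of Z ∩ X₀. Any two quasi-constructible subsets
of X (unions of finitely many locally closed sets) having equal traces on X₀ coincide. Any two
locally quasi-constructible subsets of X having equal traces on X₀ coincide. Assuming these
conditions, each locally quasi-constructible subset of the subspace X₀ arises as the trace on X₀ of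
some locally quasi-constructible subset of X. -/
theorem result {X : Type u} [TopologicalSpace X] (X₀ : Set X) :
    [∀ Z : Set X, IsLocallyClosed Z → Z.Nonempty → (Z ∩ X₀).Nonempty,
      ∀ Z : Set X, (∀ x : X, ∃ U : Set X, IsOpen U ∧ x ∈ U ∧ ∃ T : Set (Set X), T.Finite ∧ (∀ t ∈ T, IsLocallyClosed t) ∧ U ∩ Z = ⋃₀ T) → Z.Nonempty → (Z ∩ X₀).Nonempty,
      ∀ Z : Set X, (∀ x : X, ∃ U : Set X, IsOpen U ∧ x ∈ U ∧ ∃ T : Set (Set X), T.Finite ∧ (∀ t ∈ T, IsLocallyClosed t) ∧ U ∩ Z = ⋃₀ T) → Z ⊆ closure (Z ∩ X₀),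
      ∀ Z Z' : Set X, (∃ T : Set (Set X), T.Finite ∧ (∀ t ∈ T, IsLocallyClosed t) ∧ Z = ⋃₀ T) → (∃ T : Set (Set X), T.Finite ∧ (∀ t ∈ T, IsLocallyClosed t) ∧ Z' = ⋃₀ T) → Z ∩ X₀ = Z' ∩ X₀ → Z = Z',
      ∀ Z Z' : Set X, (∀ x : X, ∃ U : Set X, IsOpen U ∧ x ∈ U ∧ ∃ T : Set (Set X), T.Finite ∧ (∀ t ∈ T, IsLocallyClosed t) ∧ U ∩ Z = ⋃₀ T) → (∀ x : X, ∃ U : Set X, IsOpen U ∧ x ∈ U ∧ ∃ T : Set (Set X), T.Finite ∧ (∀ t ∈ T, IsLocallyClosed t) ∧ U ∩ Z' = ⋃₀ T) → Z ∩ X₀ = Z' ∩ X₀ → Z = Z'].TFAE ∧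
    ((∀ Z : Set X, IsLocallyClosed Z → Z.Nonempty → (Z ∩ X₀).Nonempty) →
      ∀ Z₀ : Set ↥X₀, (∀ x : ↥X₀, ∃ U : Set ↥X₀, IsOpen U ∧ x ∈ U ∧ ∃ T : Set (Set ↥X₀), T.Finite ∧ (∀ t ∈ T, IsLocallyClosed t) ∧ U ∩ Z₀ = ⋃₀ T) →
        ∃ Z : Set X, (∀ x : X, ∃ U : Set X, IsOpen U ∧ x ∈ U ∧ ∃ T : Set (Set X), T.Finite ∧ (∀ t ∈ T, IsLocallyClosed t) ∧ U ∩ Z = ⋃₀ T) ∧ Subtype.val ⁻¹' Z = Z₀) := by
  exact ⟨tfae_part X₀, last_part X₀⟩

end Groth.Agent.S4903
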