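import Groth.Statements.S4914
import Mathlib

set_option autoImplicit false
open CategoryTheory AlgebraicGeometry
universe u v w
open EGA43

namespace Groth.Agent.S4914

/-- Let ψ : X → Y be a continuous map, x a point of X, and (Y_i) a locally finite covering of Y by
closed subsets. If for every index i with ψ x ∈ Y_i the restriction ψ⁻¹(Y_i) → Y_i of ψ is open at
x, then ψ is open at x. -/
theorem result {α : Type u} {β : Type v} {ι : Type w} [TopologicalSpace α]
    [TopologicalSpace β] (ψ : α → β) (hψ : Continuous ψ) (x : α) (Y : ι → Set β) (hY : LocallyFinite Y)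
    (hcl : ∀ i, IsClosed (Y i)) (hcov : ⋃ i, Y i = Set.univ)
    (h : ∀ i, ∀ hi : ψ x ∈ Y i, EGA43.IsOpenAt ((Y i).restrictPreimage ψ) ⟨x, hi⟩) :
    EGA43.IsOpenAt ψ x := by
  intro U hU
  have h1 : nhds (ψ x) = ⨆ i, nhdsWithin (ψ x) (Y i) := by
    rw [← hY.nhdsWithin_iUnion, hcov, nhdsWithin_univ]
  rw [h1, Filter.mem_iSup]
  intro i
  by_cases hi : ψ x ∈ Y i
  · rw [nhdsWithin_eq_map_subtype_coe hi, Filter.mem_map]
    have hU' : Subtype.val ⁻¹' U ∈ nhds (⟨x, hi⟩ : ↥(ψ ⁻¹' Y i)) :=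
      continuous_subtype_val.continuousAt hU
    refine Filter.mem_of_superset (h i hi _ hU') ?_
    rintro _ ⟨u, hu, rfl⟩
    exact ⟨u.1, hu, rfl⟩
  · have : nhdsWithin (ψ x) (Y i) = ⊥ := by
      rw [← notMem_closure_iff_nhdsWithin_eq_bot, (hcl i).closure_eq]
      exact hi
    rw [this]
    exact Filter.mem_bot

end Groth.Agent.S4914
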