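import Groth.Statements.S4925
import Groth.Agent.Lib.Helper12.UnivOpenAt

set_option autoImplicit false
open CategoryTheory AlgebraicGeometry
universe u v w
open EGA43

namespace Groth.Agent.S4925

/-- Let f : X ⟶ Y and g : Y ⟶ Z be morphisms of schemes and x a point of X. If f is universally open at
x and g is universally open at f x, then f ≫ g is universally open at x. -/
theorem result {X Y Z : Scheme.{u}} (f : X ⟶ Y) (g : Y ⟶ Z) (x : X)
    (hf : EGA43.IsUnivOpenAt f x) (hg : EGA43.IsUnivOpenAt g (f.base x)) :
    EGA43.IsUnivOpenAt (f ≫ g) x := by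
  intro Z' h x' hx'
  obtain ⟨f', hpb, hsnd⟩ := Groth.Agent.Helper12.exists_factor_pullback_comp f g h
  have h1 : EGA43.IsOpenAt f'.base x' := Groth.Agent.Helper12.isOpenAt_of_isPullback hf hpb x' hx'
  have hy : (Limits.pullback.fst g h).base (f'.base x') = f.base x := by
    have hw := congrArg (fun φ => φ.base x') hpb.w
    rw [← hx']
    exact hw.symm
  have h2 : EGA43.IsOpenAt (Limits.pullback.snd g h).base (f'.base x') := hg Z' h _ hy
  have h3 := Groth.Agent.Helper12.isOpenAt_comp f'.base (Limits.pullback.snd g h).base x' h1 h2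
  have e : (Limits.pullback.snd (f ≫ g) h).base = (Limits.pullback.snd g h).base ∘ f'.base := by
    rw [← hsnd]
    rfl
  rw [e]
  exact h3

end Groth.Agent.S4925
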