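import Groth.Statements.S4926
import Groth.Agent.Lib.Helper12.UnivOpenAt

set_option autoImplicit false
open CategoryTheory AlgebraicGeometry
universe u v w
open EGA43

namespace Groth.Agent.S4926

/-- Let f : X ⟶ Y and g : Y ⟶ Z be morphisms of schemes and x a point of X. If f ≫ g is universally open
at x, then g is universally open at the point f x. -/
theorem result {X Y Z : Scheme.{u}} (f : X ⟶ Y) (g : Y ⟶ Z) (x : X)
    (h : EGA43.IsUnivOpenAt (f ≫ g) x) : EGA43.IsUnivOpenAt g (f.base x) := by
  intro Z' k y' hy'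
  obtain ⟨f', hpb, hsnd⟩ := Groth.Agent.Helper12.exists_factor_pullback_comp f g k
  obtain ⟨x', hx'1, hx'2⟩ := Scheme.exists_preimage_of_isPullback hpb x y' hy'.symm
  have h1 := h Z' k x' hx'1
  have e : (Limits.pullback.snd (f ≫ g) k).base = (Limits.pullback.snd g k).base ∘ f'.base := by
    rw [← hsnd]
    rfl
  rw [e] at h1
  have h2 := Groth.Agent.Helper12.isOpenAt_of_isOpenAt_comp (Limits.pullback.snd g k).base f'.base
    f'.continuous x' h1
  rw [hx'2] at h2
  exact h2

end Groth.Agent.S4926
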