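import Groth.Statements.S4929
import Groth.Agent.Lib.Helper12.UnivOpenAt

set_option autoImplicit false
open CategoryTheory AlgebraicGeometry
universe u v w
open EGA43

namespace Groth.Agent.S4929

open CategoryTheory.Limits in
/-- Let f : X ⟶ Y be a morphism of schemes, x a point of X, and (Y_i ⟶ Y) a finite family of closed
immersions whose images cover Y. If for every i the base change X ×_Y Y_i ⟶ Y_i is universally open
at every point lying over x, then f is universally open at x. -/
theorem result {X Y : Scheme.{u}} (f : X ⟶ Y) (x : X) {ι : Type w}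
    [Finite ι] (T : ι → Scheme.{u}) (g : ∀ i, T i ⟶ Y) [∀ i, IsClosedImmersion (g i)]
    (hcov : ⋃ i, Set.range (g i).base = Set.univ)
    (h : ∀ i, ∀ x' : ↥(pullback f (g i)), (pullback.fst f (g i)).base x' = x →
      EGA43.IsUnivOpenAt (pullback.snd f (g i)) x') :
    EGA43.IsUnivOpenAt f x := by
  intro Y' k x' hx'
  refine Groth.Agent.Helper12.isOpenAt_of_finite_closedEmbedding_cover
    (pullback.snd f k).base x' (C := fun i => ↥(pullback (g i) k))
    (fun i => (pullback.snd (g i) k).base)
    (fun i => (pullback.snd (g i) k).isClosedEmbedding) ?_ ?_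
  · have hr : ∀ i, Set.range (pullback.snd (g i) k).base = k.base ⁻¹' Set.range (g i).base :=
      fun i => Scheme.Pullback.range_snd (g i) k
    simp only [hr]
    rw [← Set.preimage_iUnion, hcov, Set.preimage_univ]
  · intro i c hc U hU
    obtain ⟨q, hq1, hq2⟩ := Scheme.Pullback.exists_preimage_pullback
      (f := pullback.snd f k) (g := pullback.snd (g i) k) x' c hc.symm
    have hopen := Groth.Agent.Helper12.isOpenAt_snd_snd_of_forall f (g i) k x (h i) q
      (by rw [hq1, hx'])
    have hmem : (pullback.fst (pullback.snd f k) (pullback.snd (g i) k)).base ⁻¹' U ∈ nhds q := by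
      refine (pullback.fst (pullback.snd f k) (pullback.snd (g i) k)).continuous.continuousAt ?_
      rw [hq1]
      exact hU
    have h3 := hopen _ hmem
    rw [Scheme.image_preimage_eq_of_isPullback (IsPullback.of_hasPullback _ _), hq2] at h3
    exact h3

end Groth.Agent.S4929
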