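import Groth.Statements.S4935
import Mathlib
import Groth.Agent.Lib.Helper12.Unibranch

set_option autoImplicit false
universe u
open EGA43

namespace Groth.Agent.S4935

/-- Let A be a unibranch local domain, B a domain containing A and integral over A, and 𝔫 a prime ideal
of B lying over the maximal ideal of A. Then Spec B_𝔫 → Spec A is surjective: for every prime ideal
𝔭 of A there is a prime ideal 𝔮 ⊆ 𝔫 of B with 𝔮 ∩ A = 𝔭. -/
theorem result {A B : Type u} [CommRing A] [IsDomain A]
    [IsLocalRing A] (hA : CAlg2.IsUnibranch A) [CommRing B] [IsDomain B] [Algebra A B]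
    (hinj : Function.Injective (algebraMap A B)) [Algebra.IsIntegral A B] (n : Ideal B) [n.IsPrime]
    (hn : n.comap (algebraMap A B) = IsLocalRing.maximalIdeal A) (p : Ideal A) [p.IsPrime] :
    ∃ q : Ideal B, q.IsPrime ∧ q ≤ n ∧ q.comap (algebraMap A B) = p := by
  classical
  obtain ⟨hdom, hloc⟩ := hA
  haveI := hdom
  haveI := hloc
  haveI : IsIntegrallyClosed (CAlg2.normRed A) :=
    integralClosure.isIntegrallyClosedOfFiniteExtension (R := CAlg2.red A)
      (FractionRing (CAlg2.red A)) (L := FractionRing (CAlg2.red A))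
  have hnil : ∀ a ∈ nilradical A, a = 0 := fun a ha => (mem_nilradical.mp ha).eq_zero
  obtain ⟨f0, hf0⟩ : ∃ f0 : A →+* FractionRing B,
      f0 = (algebraMap B (FractionRing B)).comp (algebraMap A B) := ⟨_, rfl⟩
  have hf0inj : Function.Injective f0 := by
    rw [hf0]
    exact (IsFractionRing.injective B (FractionRing B)).comp hinj
  obtain ⟨j, hj⟩ : ∃ j : CAlg2.red A →+* FractionRing B,
      ∀ a, j (Ideal.Quotient.mk (nilradical A) a) = f0 a :=
    ⟨Ideal.Quotient.lift (nilradical A) f0 (fun a ha => by rw [hnil a ha, map_zero]),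
      fun a => Ideal.Quotient.lift_mk _ _ _⟩
  have hjinj : Function.Injective j := by
    rw [injective_iff_map_eq_zero]
    intro x hx
    obtain ⟨a, rfl⟩ := Ideal.Quotient.mk_surjective x
    rw [hj] at hx
    have : a = 0 := hf0inj (by rw [hx, map_zero])
    rw [this, map_zero]
  obtain ⟨ψ, hψ⟩ : ∃ ψ : FractionRing (CAlg2.red A) →+* FractionRing B,
      ∀ x, ψ (algebraMap (CAlg2.red A) (FractionRing (CAlg2.red A)) x) = j x :=
    ⟨IsFractionRing.lift hjinj, fun x => IsFractionRing.lift_algebraMap hjinj x⟩
  obtain ⟨φ', hφ'⟩ : ∃ φ' : CAlg2.normRed A →+* FractionRing B,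
      ∀ x, φ' x = ψ (x : FractionRing (CAlg2.red A)) :=
    ⟨ψ.comp (Subalgebra.val _).toRingHom, fun x => rfl⟩
  have hφ'inj : Function.Injective φ' := by
    intro x y hxy
    rw [hφ', hφ'] at hxy
    exact Subtype.ext (ψ.injective hxy)
  letI : Algebra (CAlg2.normRed A) (FractionRing B) := φ'.toAlgebra
  have halg : ∀ x : CAlg2.normRed A, algebraMap (CAlg2.normRed A) (FractionRing B) x = φ' x :=
    fun x => rfl
  obtain ⟨g, hgdef⟩ : ∃ g : A →+* CAlg2.normRed A,
      g = (algebraMap (CAlg2.red A) (CAlg2.normRed A)).comp (Ideal.Quotient.mk (nilradical A)) :=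
    ⟨_, rfl⟩
  have hgφ : ∀ a, φ' (g a) = f0 a := by
    intro a
    rw [hφ', hgdef]
    have : (((algebraMap (CAlg2.red A) (CAlg2.normRed A)).comp
        (Ideal.Quotient.mk (nilradical A))) a : FractionRing (CAlg2.red A)) =
        algebraMap (CAlg2.red A) (FractionRing (CAlg2.red A))
          (Ideal.Quotient.mk (nilradical A) a) := rfl
    rw [this, hψ, hj]
  have hg : g.IsIntegral := by
    rw [hgdef]
    refine RingHom.IsIntegral.trans _ _
      (RingHom.isIntegral_of_surjective _ Ideal.Quotient.mk_surjective) ?_
    exact fun x => Algebra.IsIntegral.isIntegral (R := CAlg2.red A) x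
  have hginj : Function.Injective g := by
    intro a b hab
    have := congrArg φ' hab
    rw [hgφ, hgφ] at this
    exact hf0inj this
  have hmemC : ∀ b : B, algebraMap B (FractionRing B) b ∈
      integralClosure (CAlg2.normRed A) (FractionRing B) := by
    intro b
    obtain ⟨P, hP, hPb⟩ := Algebra.IsIntegral.isIntegral (R := A) b
    refine ⟨P.map g, hP.map g, ?_⟩
    rw [Polynomial.eval₂_map]
    have h1 : (algebraMap (CAlg2.normRed A) (FractionRing B)).comp g = f0 :=
      RingHom.ext fun a => hgφ a
    rw [h1, hf0, ← Polynomial.hom_eval₂, hPb, map_zero]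
  obtain ⟨ιB, hιBdef⟩ : ∃ ιB : B →+* integralClosure (CAlg2.normRed A) (FractionRing B),
      ∀ b, (ιB b : FractionRing B) = algebraMap B (FractionRing B) b :=
    ⟨RingHom.codRestrict (algebraMap B (FractionRing B))
      (integralClosure (CAlg2.normRed A) (FractionRing B)) hmemC, fun b => rfl⟩
  have hιBinj : Function.Injective ιB := by
    intro b b' hbb
    have := congrArg (fun c : integralClosure (CAlg2.normRed A) (FractionRing B) =>
      (c : FractionRing B)) hbb
    simp only [hιBdef] at this
    exact IsFractionRing.injective B (FractionRing B) this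
  have hcomm : (algebraMap (CAlg2.normRed A)
      (integralClosure (CAlg2.normRed A) (FractionRing B))).comp g = ιB.comp (algebraMap A B) := by
    apply RingHom.ext
    intro a
    apply Subtype.ext
    show algebraMap (CAlg2.normRed A) (FractionRing B) (g a) = (ιB (algebraMap A B a) : FractionRing B)
    rw [hιBdef, halg, hgφ, hf0]
    rfl
  have hιB : @RingHom.IsIntegral B (integralClosure (CAlg2.normRed A) (FractionRing B)) _ _ ιB := by
    apply RingHom.IsIntegral.tower_top (T := integralClosure (CAlg2.normRed A) (FractionRing B))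
      (algebraMap A B) ιB
    rw [← hcomm]
    have h2 : @RingHom.IsIntegral (CAlg2.normRed A)
        (integralClosure (CAlg2.normRed A) (FractionRing B)) _ _
        (algebraMap (CAlg2.normRed A) (integralClosure (CAlg2.normRed A) (FractionRing B))) :=
      fun x => Algebra.IsIntegral.isIntegral (R := CAlg2.normRed A) x
    exact RingHom.IsIntegral.trans (R := A) (S := CAlg2.normRed A)
      (T := integralClosure (CAlg2.normRed A) (FractionRing B)) g _ hg h2
  haveI : FaithfulSMul (CAlg2.normRed A) (integralClosure (CAlg2.normRed A) (FractionRing B)) := by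
    rw [faithfulSMul_iff_algebraMap_injective]
    intro x y hxy
    have := congrArg (fun c : integralClosure (CAlg2.normRed A) (FractionRing B) =>
      (c : FractionRing B)) hxy
    exact hφ'inj this
  exact Groth.Agent.Helper12.Unibranch.going_down_core
    (C := integralClosure (CAlg2.normRed A) (FractionRing B))
    (algebraMap A B) g ιB hg hginj hιB hιBinj hcomm n hn p

end Groth.Agent.S4935
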