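import Groth.Statements.S4941
import Mathlib

set_option autoImplicit false
open CategoryTheory AlgebraicGeometry
universe u v w
open EGA43

namespace Groth.Agent.S4941

open CategoryTheory.Limits in
/-- Let v : Y₁ ⟶ Y be a surjective morphism of schemes whose underlying map is closed, f : X ⟶ Y a
morphism and x a point of X. If the base change f₁ : X ×_Y Y₁ ⟶ Y₁ is open at every point of X ×_Y
Y₁ lying over x, then f is open at x. -/
theorem result {X Y Y₁ : Scheme.{u}} (v : Y₁ ⟶ Y)
    (hv : IsClosedMap v.base) [Surjective v] (f : X ⟶ Y) (x : X)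
    (h : ∀ x₁ : ↥(pullback f v), (pullback.fst f v).base x₁ = x → EGA43.IsOpenAt (pullback.snd f v).base x₁) :
    EGA43.IsOpenAt f.base x := by
  intro U hU
  obtain ⟨U', hU'U, hU'o, hxU'⟩ := mem_nhds_iff.mp hU
  refine Filter.mem_of_superset ?_ (Set.image_mono hU'U)
  have hfib : v.base ⁻¹' {f.base x} ⊆ interior (v.base ⁻¹' (f.base '' U')) := by
    intro y₁ hy₁
    have hy₁' : f.base x = v.base y₁ := hy₁.symm
    obtain ⟨x₁, hx₁1, hx₁2⟩ := Scheme.Pullback.exists_preimage_pullback (f := f) (g := v) x y₁ hy₁'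
    have hmem : (pullback.fst f v).base ⁻¹' U' ∈ nhds x₁ := by
      refine (hU'o.preimage (pullback.fst f v).continuous).mem_nhds ?_
      change (pullback.fst f v).base x₁ ∈ U'
      rw [hx₁1]
      exact hxU'
    have h1 := h x₁ hx₁1 _ hmem
    rw [Scheme.image_preimage_eq_of_isPullback (IsPullback.of_hasPullback f v), hx₁2] at h1
    exact mem_interior_iff_mem_nhds.mpr h1
  have hC : IsClosed (v.base '' (interior (v.base ⁻¹' (f.base '' U')))ᶜ) :=
    hv _ isOpen_interior.isClosed_compl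
  have hy : f.base x ∈ (v.base '' (interior (v.base ⁻¹' (f.base '' U')))ᶜ)ᶜ := by
    rintro ⟨y₁, hy₁W, hy₁⟩
    exact hy₁W (hfib hy₁)
  refine Filter.mem_of_superset (hC.isOpen_compl.mem_nhds hy) ?_
  intro z hz
  obtain ⟨z₁, rfl⟩ := v.surjective z
  have hz₁ : z₁ ∈ interior (v.base ⁻¹' (f.base '' U')) := by
    by_contra hc
    exact hz ⟨z₁, hc, rfl⟩
  have hz₂ : z₁ ∈ v.base ⁻¹' (f.base '' U') := interior_subset hz₁
  exact hz₂

end Groth.Agent.S4941
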