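import Groth.Statements.S4942
import Groth.Agent.Lib.Helper12.UnivOpenAt
import Groth.Agent.S4941

set_option autoImplicit false
open CategoryTheory AlgebraicGeometry
universe u v w
open EGA43

namespace Groth.Agent.S4942

open CategoryTheory.Limits in
/-- Let v : Y₁ ⟶ Y be a universally closed surjective morphism of schemes, f : X ⟶ Y a morphism and x a
point of X. If the base change f₁ : X ×_Y Y₁ ⟶ Y₁ is universally open at every point of X ×_Y Y₁
lying over x, then f is universally open at x. -/
theorem result {X Y Y₁ : Scheme.{u}} (v : Y₁ ⟶ Y)
    [UniversallyClosed v] [Surjective v] (f : X ⟶ Y) (x : X)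
    (h : ∀ x₁ : ↥(pullback f v), (pullback.fst f v).base x₁ = x → EGA43.IsUnivOpenAt (pullback.snd f v) x₁) :
    EGA43.IsUnivOpenAt f x := by
  intro Y' g x' hx'
  have hcl : IsClosedMap (pullback.snd v g).base := (pullback.snd v g).isClosedMap
  refine Groth.Agent.S4941.result (pullback.snd v g) hcl (pullback.snd f g) x' ?_
  intro q hq
  -- the big rectangle
  have s := IsPullback.of_hasPullback (pullback.snd f g) (pullback.snd v g)
  have t := IsPullback.of_hasPullback f g
  have big : IsPullback (pullback.fst (pullback.snd f g) (pullback.snd v g) ≫ pullback.fst f g)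
      (pullback.snd (pullback.snd f g) (pullback.snd v g)) f (pullback.snd v g ≫ g) :=
    s.paste_horiz t
  rw [← pullback.condition] at big
  have key := IsPullback.of_right' big (IsPullback.of_hasPullback f v)
  -- the point of `pullback f v` below `q`
  have hx₁ : (pullback.fst f v).base (((IsPullback.of_hasPullback f v).lift
      (pullback.fst (pullback.snd f g) (pullback.snd v g) ≫ pullback.fst f g)
      (pullback.snd (pullback.snd f g) (pullback.snd v g) ≫ pullback.fst v g)
      (by rw [big.w, Category.assoc])).base q) = x := by
    have e : (IsPullback.of_hasPullback f v).lift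
        (pullback.fst (pullback.snd f g) (pullback.snd v g) ≫ pullback.fst f g)
        (pullback.snd (pullback.snd f g) (pullback.snd v g) ≫ pullback.fst v g)
        (by rw [big.w, Category.assoc]) ≫ pullback.fst f v =
        pullback.fst (pullback.snd f g) (pullback.snd v g) ≫ pullback.fst f g :=
      (IsPullback.of_hasPullback f v).lift_fst _ _ _
    have e' := congrArg (fun φ => φ.base q) e
    refine e'.trans ?_
    change (pullback.fst f g).base ((pullback.fst (pullback.snd f g) (pullback.snd v g)).base q) = x
    rw [hq, hx']
  exact Groth.Agent.Helper12.isOpenAt_of_isPullback (h _ hx₁) key q rfl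

end Groth.Agent.S4942
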