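import Groth.Statements.S4959
import Mathlib

set_option autoImplicit false
open CategoryTheory AlgebraicGeometry
universe u v w
open EGA43

namespace Groth.Agent.S4959

open CategoryTheory.Limits in
/-- Let f : X ⟶ Y be a morphism of schemes and g : Y' ⟶ Y a surjective morphism which is either proper,
or flat and quasi-compact. If the base change f' : X ×_Y Y' ⟶ Y' is universally submersive (all of
its base changes are topological quotient maps), then f is universally submersive. -/
theorem result {X Y Y' : Scheme.{u}} (f : X ⟶ Y) (g : Y' ⟶ Y) [Surjective g]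
    (hg : IsProper g ∨ (Flat g ∧ QuasiCompact g))
    (h : MorphismProperty.universally (topologically @Topology.IsQuotientMap) (pullback.snd f g)) :
    MorphismProperty.universally (topologically @Topology.IsQuotientMap) f := by
  intro TX T i₁ i₂ fT hT
  -- base change of g
  let p : pullback i₂ g ⟶ T := pullback.fst i₂ g
  let q : pullback i₂ g ⟶ Y' := pullback.snd i₂ g
  have hp : Topology.IsQuotientMap p := by
    rcases hg with hg | ⟨hg1, hg2⟩
    · haveI : IsProper p := inferInstanceAs (IsProper (pullback.fst i₂ g))
      haveI : Surjective p := inferInstanceAs (Surjective (pullback.fst i₂ g))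
      exact (Scheme.Hom.isClosedMap p).isQuotientMap p.continuous p.surjective
    · haveI : Flat p := inferInstanceAs (Flat (pullback.fst i₂ g))
      haveI : QuasiCompact p := inferInstanceAs (QuasiCompact (pullback.fst i₂ g))
      haveI : Surjective p := inferInstanceAs (Surjective (pullback.fst i₂ g))
      exact Flat.isQuotientMap_of_surjective p
  let a : pullback fT p ⟶ TX := pullback.fst fT p
  let b : pullback fT p ⟶ pullback i₂ g := pullback.snd fT p
  have hc : (a ≫ i₁) ≫ f = (b ≫ q) ≫ g := by
    have e1 : i₁ ≫ f = fT ≫ i₂ := hT.w.symm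
    have e2 : a ≫ fT = b ≫ p := pullback.condition
    have e3 : p ≫ i₂ = q ≫ g := pullback.condition
    rw [Category.assoc, e1, ← Category.assoc, e2, Category.assoc, e3, Category.assoc]
  let c : pullback fT p ⟶ pullback f g := pullback.lift (a ≫ i₁) (b ≫ q) hc
  have hbig : IsPullback (c ≫ pullback.fst f g) b f (q ≫ g) := by
    have h1 : IsPullback a b fT p := IsPullback.of_hasPullback fT p
    have h2 := h1.paste_horiz hT.flip
    have e3 : p ≫ i₂ = q ≫ g := pullback.condition
    have e4 : c ≫ pullback.fst f g = a ≫ i₁ := pullback.lift_fst _ _ _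
    rw [e4, ← e3]
    exact h2
  have hpb : IsPullback c b (pullback.snd f g) q :=
    IsPullback.of_right hbig (pullback.lift_snd _ _ _) (IsPullback.of_hasPullback f g)
  have hb : Topology.IsQuotientMap b := h c q b hpb.flip
  have h1 : Topology.IsQuotientMap (⇑p ∘ ⇑b) := hp.comp hb
  have h2 : (⇑p ∘ ⇑b) = (⇑fT ∘ ⇑a) := by
    funext w
    have e2 : a ≫ fT = b ≫ p := pullback.condition
    have := congrArg (fun φ : pullback fT p ⟶ T => φ w) e2
    simpa [Scheme.Hom.comp_apply] using this.symm
  rw [h2] at h1
  exact Topology.IsQuotientMap.of_comp a.continuous fT.continuous h1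

end Groth.Agent.S4959
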