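import Groth.Statements.S4971
import Mathlib

set_option autoImplicit false
universe u
open EGA43

namespace Groth.Agent.S4971

/-- Let B be a Noetherian local ring, M, N, P three B-modules with N finitely generated, u : M → N and v
: N → P linear maps with v ∘ u = 0, and t an element of the maximal ideal of B which is P-regular.
If the induced sequence M/tM → N/tN → P/tP is exact, then M → N → P is exact. -/
theorem result {B : Type u} [CommRing B] [IsNoetherianRing B] [IsLocalRing B]
    {M N P : Type u} [AddCommGroup M] [Module B M] [AddCommGroup N] [Module B N] [Module.Finite B N]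
    [AddCommGroup P] [Module B P] (u : M →ₗ[B] N) (v : N →ₗ[B] P) (huv : v ∘ₗ u = 0) (t : B)
    (ht : t ∈ IsLocalRing.maximalIdeal B) (hreg : IsSMulRegular P t)
    (hu : (Ideal.span {t} • ⊤ : Submodule B M) ≤ (Ideal.span {t} • ⊤ : Submodule B N).comap u)
    (hv : (Ideal.span {t} • ⊤ : Submodule B N) ≤ (Ideal.span {t} • ⊤ : Submodule B P).comap v)
    (hex : LinearMap.ker ((Ideal.span {t} • ⊤ : Submodule B N).mapQ (Ideal.span {t} • ⊤ : Submodule B P) v hv) ≤
      LinearMap.range ((Ideal.span {t} • ⊤ : Submodule B M).mapQ (Ideal.span {t} • ⊤ : Submodule B N) u hu)) :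
    LinearMap.ker v ≤ LinearMap.range u := by
  have hfg : (LinearMap.ker v).FG := IsNoetherian.noetherian _
  refine Submodule.le_of_le_smul_of_le_jacobson_bot (I := Ideal.span {t}) hfg ?_ ?_
  · rw [Ideal.span_le, Set.singleton_subset_iff]
    exact IsLocalRing.maximalIdeal_le_jacobson ⊥ ht
  · intro x hx
    have hx' : v x = 0 := hx
    have h1 : (Submodule.Quotient.mk x : N ⧸ (Ideal.span {t} • ⊤ : Submodule B N)) ∈
        LinearMap.ker ((Ideal.span {t} • ⊤ : Submodule B N).mapQ
          (Ideal.span {t} • ⊤ : Submodule B P) v hv) := by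
      rw [LinearMap.mem_ker, Submodule.mapQ_apply, hx', Submodule.Quotient.mk_zero]
    obtain ⟨mbar, hm⟩ := hex h1
    obtain ⟨m, rfl⟩ := Submodule.Quotient.mk_surjective _ mbar
    rw [Submodule.mapQ_apply, Submodule.Quotient.eq, Submodule.ideal_span_singleton_smul,
      Submodule.mem_smul_pointwise_iff_exists] at hm
    obtain ⟨n, -, hn⟩ := hm
    have hvu : v (u m) = 0 := by
      have := LinearMap.congr_fun huv m
      simpa using this
    have hvn : v n = 0 := by
      apply hreg.right_eq_zero_of_smul
      rw [← map_smul, hn, map_sub, hvu, hx', sub_zero]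
    have hxe : x = u m + t • (-n) := by
      rw [smul_neg, hn]; abel
    rw [hxe]
    refine Submodule.add_mem_sup ⟨m, rfl⟩ ?_
    exact Submodule.smul_mem_smul (Ideal.mem_span_singleton_self t)
      ((LinearMap.ker v).neg_mem hvn)

end Groth.Agent.S4971
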