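import Groth.Statements.S4988
import Mathlib
import Groth.Agent.S4987

set_option autoImplicit false
universe u
open CategoryTheory CategoryTheory.Limits AlgebraicGeometry TopologicalSpace
open Unram17

namespace Groth.Agent.S4988

section Helpers
open AlgebraicGeometry CategoryTheory CategoryTheory.Limits TopologicalSpace
open Groth.Agent.S4987

set_option backward.isDefEq.respectTransparency false in
theorem main4988 {X Y S : Scheme.{u}} (h : Y ⟶ S)
    [FormallyUnramified h] [LocallyOfFiniteType h] [IsSeparated h]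
    (f g : X ⟶ Y) (w : g ≫ h = f ≫ h)
    (ho : IsOpenMap (f ≫ h).base) (hc : IsClosedMap (f ≫ h).base) (s : ↥S)
    (hs : (f ≫ h).fiberι s ≫ f = (f ≫ h).fiberι s ≫ g) :
    ∃ V : S.Opens, IsClosed (V : Set ↥S) ∧ s ∈ V ∧
      ((f ≫ h) ⁻¹ᵁ V).ι ≫ f = ((f ≫ h) ⁻¹ᵁ V).ι ≫ g := by
  have hZclosed : IsClosed (eqOpens h f g w : Set X) := by
    have h1 : IsClosed (Set.range ⇑(pullback.diagonal h)) :=
      (pullback.diagonal h).isClosedEmbedding.isClosed_range
    exact h1.preimage (pullback.lift f g w.symm).continuous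
  have hC : IsClosed ((f ≫ h).base '' ((eqOpens h f g w : Set X)ᶜ)) :=
    hc _ (eqOpens h f g w).isOpen.isClosed_compl
  have hO : IsOpen ((f ≫ h).base '' ((eqOpens h f g w : Set X)ᶜ)) :=
    ho _ hZclosed.isOpen_compl
  let V : S.Opens := ⟨((f ≫ h).base '' ((eqOpens h f g w : Set X)ᶜ))ᶜ, hC.isOpen_compl⟩
  have hsV : s ∈ V := by
    rintro ⟨c, hcZ, hcs⟩
    exact hcZ (fiber_subset_eqOpens h f g w s hs c hcs)
  have hle : (f ≫ h) ⁻¹ᵁ V ≤ eqOpens h f g w := by
    intro x hx
    by_contra hxZ
    exact hx ⟨x, hxZ, rfl⟩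
  refine ⟨V, hO.isClosed_compl, hsV, ?_⟩
  rw [← X.homOfLE_ι hle, Category.assoc, Category.assoc, eqOpens_ι_comp]

end Helpers

/-- Let h : Y ⟶ S be formally unramified, locally of finite type and separated, let f, g : X ⟶ Y be
morphisms over S whose common composite X ⟶ S is both open and closed as a map of topological
spaces, and let s be a point of S. If f and g have the same restriction to the scheme-theoretic
fibre of X over s, then there is an open and closed subset V of S containing s such that f and g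
agree on the preimage of V; in particular f = g when S is connected. -/
theorem result {X Y S : Scheme.{u}} (h : Y ⟶ S)
    [FormallyUnramified h] [LocallyOfFiniteType h] [IsSeparated h]
    (f g : X ⟶ Y) (w : g ≫ h = f ≫ h)
    (ho : IsOpenMap (f ≫ h).base) (hc : IsClosedMap (f ≫ h).base) (s : ↥S)
    (hs : (f ≫ h).fiberι s ≫ f = (f ≫ h).fiberι s ≫ g) :
    ∃ V : S.Opens, IsClosed (V : Set ↥S) ∧ s ∈ V ∧
      ((f ≫ h) ⁻¹ᵁ V).ι ≫ f = ((f ≫ h) ⁻¹ᵁ V).ι ≫ g := by
  exact main4988 h f g w ho hc s hs

end Groth.Agent.S4988
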