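import Groth.Statements.S4990
import Mathlib

set_option autoImplicit false
universe u
open CategoryTheory CategoryTheory.Limits AlgebraicGeometry TopologicalSpace
open Unram17

namespace Groth.Agent.S4990

section Helpers
open AlgebraicGeometry CategoryTheory

theorem ringKrullDim_eq_add_fibre {A : Type u} {B : Type u} [CommRing A] [CommRing B]
    [IsLocalRing A] [IsLocalRing B] [IsNoetherianRing A] [IsNoetherianRing B] (f : A →+* B)
    [IsLocalHom f] (hf : f.Flat) :
    ringKrullDim B = ringKrullDim A +
      ringKrullDim (B ⧸ (IsLocalRing.maximalIdeal A).map f) := by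
  letI : Algebra A B := f.toAlgebra
  haveI : Module.Flat A B := hf
  have hlo : (IsLocalRing.maximalIdeal B).LiesOver (IsLocalRing.maximalIdeal A) := ⟨by
    rw [Ideal.under_def]; exact (IsLocalRing.maximalIdeal_comap f).symm⟩
  have h := Ideal.height_eq_height_add_of_liesOver_of_hasGoingDown (IsLocalRing.maximalIdeal A)
    (IsLocalRing.maximalIdeal B)
  have hle : (IsLocalRing.maximalIdeal A).map f ≤ IsLocalRing.maximalIdeal B := by
    rw [Ideal.map_le_iff_le_comap, IsLocalRing.maximalIdeal_comap]
  haveI : Nontrivial (B ⧸ (IsLocalRing.maximalIdeal A).map f) :=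
    Ideal.Quotient.nontrivial_iff.mpr (fun htop =>
      (IsLocalRing.maximalIdeal.isMaximal B).ne_top (top_le_iff.mp (htop ▸ hle)))
  haveI : IsLocalRing (B ⧸ (IsLocalRing.maximalIdeal A).map f) :=
    IsLocalRing.of_surjective' (Ideal.Quotient.mk _) Ideal.Quotient.mk_surjective
  have hmaxI : ((IsLocalRing.maximalIdeal B).map
      (Ideal.Quotient.mk ((IsLocalRing.maximalIdeal A).map f))).IsMaximal :=
    Ideal.IsMaximal.map_of_surjective_of_ker_le Ideal.Quotient.mk_surjective
      (by rw [Ideal.mk_ker]; exact hle)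
  have hmax : (IsLocalRing.maximalIdeal B).map
      (Ideal.Quotient.mk ((IsLocalRing.maximalIdeal A).map f)) =
      IsLocalRing.maximalIdeal (B ⧸ (IsLocalRing.maximalIdeal A).map f) :=
    IsLocalRing.eq_maximalIdeal hmaxI
  rw [← IsLocalRing.maximalIdeal_height_eq_ringKrullDim (R := B),
    ← IsLocalRing.maximalIdeal_height_eq_ringKrullDim (R := A),
    ← IsLocalRing.maximalIdeal_height_eq_ringKrullDim
      (R := B ⧸ (IsLocalRing.maximalIdeal A).map f), ← hmax, ← WithBot.coe_add]
  exact congrArg _ h

theorem flat_stalkMap_of_restrict {X Y : Scheme.{u}} (f : X ⟶ Y) (U : X.Opens)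
    [Flat (U.ι ≫ f)] (x' : U) :
    (f.stalkMap (U.ι.base x')).hom.Flat := by
  have h1 : ((U.ι ≫ f).stalkMap x').hom.Flat := Flat.stalkMap (U.ι ≫ f) x'
  rw [Scheme.Hom.stalkMap_comp] at h1
  have hb : Function.Bijective (U.ι.stalkMap x').hom :=
    ((asIso (U.ι.stalkMap x')).commRingCatIsoToRingEquiv).bijective
  exact (RingHom.Flat.comp_iff_of_bijective_left hb).mp h1

theorem main {X Y : Scheme.{u}} (f : X ⟶ Y)
    [IsLocallyNoetherian Y] [LocallyOfFiniteType f] (x : ↥X)
    (hx : ∃ U : X.Opens, x ∈ U ∧ Smooth (U.ι ≫ f)) :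
    ringKrullDim ↑(X.presheaf.stalk x) =
      ringKrullDim ↑(Y.presheaf.stalk (f.base x)) +
        ringKrullDim (↑(X.presheaf.stalk x) ⧸
          (IsLocalRing.maximalIdeal ↑(Y.presheaf.stalk (f.base x))).map (f.stalkMap x).hom) := by
  obtain ⟨U, hxU, hU⟩ := hx
  haveI : IsLocallyNoetherian X := LocallyOfFiniteType.isLocallyNoetherian f
  obtain ⟨x', rfl⟩ : ∃ x' : U, U.ι.base x' = x := ⟨⟨x, hxU⟩, rfl⟩
  exact ringKrullDim_eq_add_fibre (f.stalkMap (U.ι.base x')).hom (flat_stalkMap_of_restrict f U x')

end Helpers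

/-- Let Y be locally Noetherian and f : X ⟶ Y locally of finite type, smooth on an open neighbourhood of
a point x with image y. Then the Krull dimension of the local ring of X at x is the sum of the Krull
dimension of the local ring of Y at y and of the Krull dimension of the local ring of the fibre, the
quotient of the local ring at x by the extension of the maximal ideal at y. -/
theorem result {X Y : Scheme.{u}} (f : X ⟶ Y)
    [IsLocallyNoetherian Y] [LocallyOfFiniteType f] (x : ↥X)
    (hx : ∃ U : X.Opens, x ∈ U ∧ Smooth (U.ι ≫ f)) :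
    ringKrullDim ↑(X.presheaf.stalk x) =
      ringKrullDim ↑(Y.presheaf.stalk (f.base x)) +
        ringKrullDim (↑(X.presheaf.stalk x) ⧸
          (IsLocalRing.maximalIdeal ↑(Y.presheaf.stalk (f.base x))).map (f.stalkMap x).hom) := by
  exact main f x hx

end Groth.Agent.S4990
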