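import Groth.Statements.S5807
import Mathlib.RingTheory.RegularLocalRing.Polynomial
import Mathlib.RingTheory.Localization.LocalizationLocalization
import Mathlib.RingTheory.Localization.Submodule

set_option autoImplicit false
universe u
open EGA41

namespace Groth.Agent.S5807

/-- A localization of a regular ring is regular. -/
theorem isRegularRing_localization {P : Type*} [CommRing P] [IsRegularRing P] (T : Submonoid P) :
    IsRegularRing (Localization T) := by
  have : IsNoetherianRing (Localization T) := IsLocalization.isNoetherianRing T _ inferInstance
  rw [isRegularRing_iff]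
  intro q hq
  let p : Ideal P := q.comap (algebraMap P (Localization T))
  have : p.IsPrime := Ideal.comap_isPrime _ q
  have : IsLocalization.AtPrime (Localization.AtPrime q) p :=
    IsLocalization.isLocalization_isLocalization_atPrime_isLocalization T (Localization.AtPrime q) q
  have : IsRegularLocalRing (Localization.AtPrime p) := inferInstance
  exact IsRegularLocalRing.of_ringEquiv (IsLocalization.algEquiv p.primeCompl
    (Localization.AtPrime p) (Localization.AtPrime q)).toRingEquiv

/-- Let A be a Noetherian ring which is a quotient of a regular ring B, and C an A-algebra of finite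
type. Then every ring of fractions of C is a quotient of a regular ring. -/
theorem result (B A C : Type u) [CommRing B]
    [IsRegularRing B] [CommRing A] (π : B →+* A) (hπ : Function.Surjective π) [CommRing C] [Algebra A C]
    [Algebra.FiniteType A C] (S : Submonoid C) :
    ∃ (R : Type u) (_ : CommRing R) (_ : IsRegularRing R) (f : R →+* Localization S),
      Function.Surjective f := by
  obtain ⟨n, φ, hφ⟩ := Algebra.FiniteType.iff_quotient_mvPolynomial''.1
    (inferInstance : Algebra.FiniteType A C)
  let ψ : MvPolynomial (Fin n) B →+* C := (φ : MvPolynomial (Fin n) A →+* C).comp (MvPolynomial.map π)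
  have hψ : Function.Surjective ψ := hφ.comp (MvPolynomial.map_surjective π hπ)
  let T : Submonoid (MvPolynomial (Fin n) B) := S.comap ψ
  have hT : T ≤ S.comap ψ := le_rfl
  refine ⟨Localization T, inferInstance, isRegularRing_localization T,
    IsLocalization.map (Localization S) ψ hT, ?_⟩
  intro y
  obtain ⟨c, s, rfl⟩ := IsLocalization.exists_mk'_eq S y
  obtain ⟨p, rfl⟩ := hψ c
  obtain ⟨t, ht⟩ := hψ s
  have htT : t ∈ T := by
    change ψ t ∈ S
    rw [ht]; exact s.2
  refine ⟨IsLocalization.mk' (Localization T) p ⟨t, htT⟩, ?_⟩
  rw [IsLocalization.map_mk']
  congr 1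
  exact Subtype.ext ht

end Groth.Agent.S5807
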