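import Groth.Statements.S9721
import Mathlib

set_option autoImplicit false
universe u
open CategoryTheory AlgebraicGeometry
open Mor

namespace Groth.Agent.S9721

section Helpers
open AlgebraicGeometry CategoryTheory CategoryTheory.Limits TopologicalSpace

theorem smooth_ι_comp_iff {X S : Scheme.{u}} (f : X ⟶ S) {W : S.Opens} (hW : IsAffineOpen W)
    {D : X.Opens} (hD : IsAffineOpen D) (e : D ≤ f ⁻¹ᵁ W) :
    Smooth (D.ι ≫ f) ↔ (f.appLE W D e).hom.Smooth := by
  haveI : IsAffine D.toScheme := hD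
  haveI : IsAffine W.toScheme := hW
  have h1 : Smooth (D.ι ≫ f) ↔ Smooth (f.resLE W D e) := by
    rw [← Scheme.Hom.resLE_comp_ι f e]
    exact ⟨fun h => MorphismProperty.of_postcomp (W := @Smooth) (W' := @IsOpenImmersion)
        (f.resLE W D e) W.ι inferInstance h,
      fun h => MorphismProperty.comp_mem _ _ _ h inferInstance⟩
  rw [h1, HasRingHomProperty.iff_of_isAffine (P := @Smooth)]
  exact RingHom.Smooth.respectsIso.arrow_mk_iso_iff (arrowResLEAppIso f W D e)

theorem isStandardSmooth_comp_away {A B C : Type u} [CommRing A] [CommRing B] [CommRing C]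
    [Algebra A B] (ρ : B →+* C) (b : B) (hloc : @IsLocalization.Away B _ b C _ ρ.toAlgebra)
    [Algebra.IsStandardSmooth A (Localization.Away b)] (ψ : A →+* C)
    (hψ : ψ = ρ.comp (algebraMap A B)) :
    ψ.IsStandardSmooth := by
  subst hψ
  letI := ρ.toAlgebra
  letI : Algebra A C := (ρ.comp (algebraMap A B)).toAlgebra
  haveI : IsScalarTower A B C := IsScalarTower.of_algebraMap_eq' rfl
  haveI : IsLocalization.Away b C := hloc
  let e : Localization.Away b ≃ₐ[B] C := IsLocalization.algEquiv (Submonoid.powers b) _ _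
  exact Algebra.IsStandardSmooth.of_algEquiv (e.restrictScalars A)

set_option backward.isDefEq.respectTransparency false in
theorem main9721 {X S : Scheme.{u}} (f : X ⟶ S) (x : X)
    (V : S.Opens) (hV : IsAffineOpen V) (hxV : f x ∈ V) :
    (∃ W : X.Opens, x ∈ W ∧ Smooth (W.ι ≫ f)) ↔
      ∃ (U : X.Opens) (_ : IsAffineOpen U) (_ : x ∈ U) (e : U ≤ f ⁻¹ᵁ V),
        (f.appLE V U e).hom.IsStandardSmooth := by
  constructor
  · rintro ⟨W, hxW, hW⟩
    obtain ⟨U₀, hU₀, hxU₀, hle⟩ := Opens.isBasis_iff_nbhd.mp X.isBasis_affineOpens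
      (show x ∈ W ⊓ f ⁻¹ᵁ V from ⟨hxW, hxV⟩)
    have hU₀W : U₀ ≤ W := hle.trans inf_le_left
    have e₀ : U₀ ≤ f ⁻¹ᵁ V := hle.trans inf_le_right
    have het₀ : Smooth (Scheme.Opens.ι U₀ ≫ f) := by
      rw [← X.homOfLE_ι hU₀W, Category.assoc]
      exact MorphismProperty.comp_mem _ _ _ inferInstance hW
    have hring : (f.appLE V U₀ e₀).hom.Smooth := (smooth_ι_comp_iff f hV hU₀ e₀).mp het₀
    letI := (f.appLE V U₀ e₀).hom.toAlgebra
    haveI : Algebra.Smooth Γ(S, V) Γ(X, U₀) := hring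
    let 𝔮 := hU₀.primeIdealOf ⟨x, hxU₀⟩
    have hfs : hU₀.fromSpec 𝔮 = x := hU₀.fromSpec_primeIdealOf ⟨x, hxU₀⟩
    haveI : Algebra.IsSmoothAt Γ(S, V) 𝔮.asIdeal := by
      haveI : Algebra.FormallySmooth Γ(X, U₀) (Localization.AtPrime 𝔮.asIdeal) :=
        Algebra.FormallySmooth.of_isLocalization 𝔮.asIdeal.primeCompl
      exact Algebra.FormallySmooth.comp Γ(S, V) Γ(X, U₀) _
    obtain ⟨b, hb, hstd⟩ := Algebra.IsSmoothAt.exists_notMem_isStandardSmooth Γ(S, V) 𝔮.asIdeal
    have hDU : X.basicOpen b ≤ U₀ := X.basicOpen_le b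
    refine ⟨X.basicOpen b, hU₀.basicOpen b, ?_, hDU.trans e₀, ?_⟩
    · have h3 : 𝔮 ∈ (PrimeSpectrum.basicOpen b) := hb
      rw [← hU₀.fromSpec_preimage_basicOpen] at h3
      have h4 : hU₀.fromSpec 𝔮 ∈ X.basicOpen b := h3
      rwa [hfs] at h4
    · have h2 : (f.appLE V (X.basicOpen b) (hDU.trans e₀)).hom =
          (X.presheaf.map (homOfLE hDU).op).hom.comp (f.appLE V U₀ e₀).hom := by
        rw [← f.appLE_map e₀ (homOfLE hDU).op]; rfl
      exact isStandardSmooth_comp_away (A := Γ(S, V)) (X.presheaf.map (homOfLE hDU).op).hom b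
        (hU₀.isLocalization_basicOpen b) _ h2
  · rintro ⟨U, hU, hxU, e, hstd⟩
    refine ⟨U, hxU, (smooth_ι_comp_iff f hV hU e).mpr ?_⟩
    letI := (f.appLE V U e).hom.toAlgebra
    haveI : Algebra.IsStandardSmooth Γ(S, V) Γ(X, U) := hstd
    exact (inferInstance : Algebra.Smooth Γ(S, V) Γ(X, U))

end Helpers


/-- Let f : X ⟶ S be a morphism, x a point of X and V an affine open neighbourhood of f(x) in S. Then f
is smooth on some open neighbourhood of x if and only if there is an affine open neighbourhood U of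
x with f(U) ⊆ V such that the induced ring map Γ(S, V) ⟶ Γ(X, U) is standard smooth. -/
theorem result {X S : Scheme.{u}} (f : X ⟶ S) (x : X)
    (V : S.Opens) (hV : IsAffineOpen V) (hxV : f x ∈ V) :
    (∃ W : X.Opens, x ∈ W ∧ Smooth (W.ι ≫ f)) ↔
      ∃ (U : X.Opens) (_ : IsAffineOpen U) (_ : x ∈ U) (e : U ≤ f ⁻¹ᵁ V),
        (f.appLE V U e).hom.IsStandardSmooth := by
  exact main9721 f x V hV hxV


end Groth.Agent.S9721
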