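import Groth.Statements.S4991
import Mathlib
import Groth.Agent.S4990
import Groth.Agent.S9721
import Groth.Agent.S5807
import Groth.Agent.H29.FFDescent
import Groth.Agent.H29.RegLocalization
import Groth.Agent.Lib.Helper26.RegularSmooth

set_option autoImplicit false
universe u
open CategoryTheory CategoryTheory.Limits AlgebraicGeometry TopologicalSpace
open Unram17

namespace Groth.Agent.S4991

section Helpers
open AlgebraicGeometry CategoryTheory CategoryTheory.Limits TopologicalSpace TensorProduct

attribute [local instance] Algebra.TensorProduct.rightAlgebra in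
theorem reg_of_smooth_local (R S : Type u) [CommRing R] [CommRing S] [Algebra R S]
    [Algebra.Smooth R S] (q : Ideal S) [q.IsPrime] (p : Ideal R) [p.IsPrime]
    (hqp : q.comap (algebraMap R S) = p)
    (hp : IsRegularLocalRing (Localization.AtPrime p)) :
    IsRegularLocalRing (Localization.AtPrime q) := by
  haveI : IsRegularRing (Localization.AtPrime p) :=
    Groth.Agent.H29.isRegularRing_of_isRegularLocalRing (Localization.AtPrime p)
  haveI : IsRegularRing (Localization.AtPrime p ⊗[R] S) :=
    H26.isRegularRing_of_smooth (Localization.AtPrime p) (Localization.AtPrime p ⊗[R] S)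
  let T : Submonoid S := Algebra.algebraMapSubmonoid S p.primeCompl
  haveI hloc : IsLocalization T (Localization.AtPrime p ⊗[R] S) :=
    IsLocalization.tensorRight (Localization.AtPrime p) p.primeCompl
  have hle : T ≤ q.primeCompl := by
    rintro _ ⟨r, hr, rfl⟩
    intro hmem
    apply hr
    rw [← hqp]
    exact hmem
  have hunits : ∀ y : T, IsUnit (algebraMap S (Localization.AtPrime q) y) := fun y =>
    IsLocalization.map_units (Localization.AtPrime q) (⟨y.1, hle y.2⟩ : q.primeCompl)
  letI : Algebra (Localization.AtPrime p ⊗[R] S) (Localization.AtPrime q) :=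
    (IsLocalization.lift (M := T) (S := Localization.AtPrime p ⊗[R] S) hunits).toAlgebra
  haveI : IsScalarTower S (Localization.AtPrime p ⊗[R] S) (Localization.AtPrime q) :=
    IsScalarTower.of_algebraMap_eq (fun x => (IsLocalization.lift_eq hunits x).symm)
  haveI hW : IsLocalization (q.primeCompl.map (algebraMap S (Localization.AtPrime p ⊗[R] S)))
      (Localization.AtPrime q) :=
    IsLocalization.isLocalization_of_submonoid_le (Localization.AtPrime p ⊗[R] S)
      (Localization.AtPrime q) T q.primeCompl hle
  haveI : IsRegularRing (Localization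
      (q.primeCompl.map (algebraMap S (Localization.AtPrime p ⊗[R] S)))) :=
    Groth.Agent.S5807.isRegularRing_localization _
  haveI : IsRegularRing (Localization.AtPrime q) :=
    IsRegularRing.of_ringEquiv (IsLocalization.algEquiv
      (q.primeCompl.map (algebraMap S (Localization.AtPrime p ⊗[R] S)))
      (Localization (q.primeCompl.map (algebraMap S (Localization.AtPrime p ⊗[R] S))))
      (Localization.AtPrime q)).toRingEquiv
  exact IsRegularLocalRing.of_isRegularRing_of_isLocalRing (Localization.AtPrime q)

set_option backward.isDefEq.respectTransparency false in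
theorem main4991 {X Y : Scheme.{u}} (f : X ⟶ Y)
    [IsLocallyNoetherian Y] [LocallyOfFiniteType f] (x : ↥X)
    (hx : ∃ U : X.Opens, x ∈ U ∧ Smooth (U.ι ≫ f)) :
    IsRegularLocalRing ↑(X.presheaf.stalk x) ↔
      IsRegularLocalRing ↑(Y.presheaf.stalk (f.base x)) := by
  haveI : IsLocallyNoetherian X := LocallyOfFiniteType.isLocallyNoetherian f
  constructor
  · intro hreg
    obtain ⟨U, hxU, hU⟩ := hx
    have hflat : (f.stalkMap x).hom.Flat :=
      Groth.Agent.S4990.flat_stalkMap_of_restrict f U ⟨x, hxU⟩
    letI := (f.stalkMap x).hom.toAlgebra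
    haveI : Module.Flat (Y.presheaf.stalk (f.base x)) (X.presheaf.stalk x) := hflat
    haveI : IsLocalHom (algebraMap (Y.presheaf.stalk (f.base x)) (X.presheaf.stalk x)) :=
      inferInstanceAs (IsLocalHom (f.stalkMap x).hom)
    haveI : Module.FaithfullyFlat (Y.presheaf.stalk (f.base x)) (X.presheaf.stalk x) :=
      Module.FaithfullyFlat.of_flat_of_isLocalHom
    haveI := hreg
    exact Groth.Agent.H29.FFDescent.isRegularLocalRing_descent (Y.presheaf.stalk (f.base x))
      (X.presheaf.stalk x)
  · intro hreg
    obtain ⟨V, hV, hfxV, -⟩ := exists_isAffineOpen_mem_and_subset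
      (x := f.base x) (U := ⊤) (TopologicalSpace.Opens.mem_top _)
    obtain ⟨U, hU, hxU, e, hstd⟩ := (Groth.Agent.S9721.main9721 f x V hV hfxV).mp hx
    letI := (f.appLE V U e).hom.toAlgebra
    haveI : Algebra.IsStandardSmooth Γ(Y, V) Γ(X, U) := hstd
    haveI : Algebra.Smooth Γ(Y, V) Γ(X, U) := inferInstance
    have hqp : (hU.primeIdealOf ⟨x, hxU⟩).asIdeal.comap (algebraMap Γ(Y, V) Γ(X, U)) =
        (hV.primeIdealOf ⟨f.base x, hfxV⟩).asIdeal :=
      congrArg PrimeSpectrum.asIdeal (IsAffineOpen.comap_primeIdealOf_appLE V hV U hU e hxU)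
    letI := Y.presheaf.algebra_section_stalk ⟨f.base x, hfxV⟩
    haveI := hV.isLocalization_stalk ⟨f.base x, hfxV⟩
    letI := X.presheaf.algebra_section_stalk ⟨x, hxU⟩
    haveI := hU.isLocalization_stalk ⟨x, hxU⟩
    haveI := hreg
    have h1 : IsRegularLocalRing (Localization.AtPrime (hV.primeIdealOf ⟨f.base x, hfxV⟩).asIdeal) :=
      IsRegularLocalRing.of_ringEquiv (IsLocalization.algEquiv
        (hV.primeIdealOf ⟨f.base x, hfxV⟩).asIdeal.primeCompl (Y.presheaf.stalk (f.base x))
        (Localization.AtPrime (hV.primeIdealOf ⟨f.base x, hfxV⟩).asIdeal)).toRingEquiv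
    haveI h3 : IsRegularLocalRing (Localization.AtPrime (hU.primeIdealOf ⟨x, hxU⟩).asIdeal) :=
      reg_of_smooth_local Γ(Y, V) Γ(X, U) _ _ hqp h1
    exact IsRegularLocalRing.of_ringEquiv (IsLocalization.algEquiv
      (hU.primeIdealOf ⟨x, hxU⟩).asIdeal.primeCompl
      (Localization.AtPrime (hU.primeIdealOf ⟨x, hxU⟩).asIdeal) (X.presheaf.stalk x)).toRingEquiv

end Helpers


/-- Let Y be locally Noetherian and f : X ⟶ Y locally of finite type, smooth on an open neighbourhood of
a point x with image y. Then the local ring of X at x is regular if and only if the local ring of Y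
at y is regular. -/
theorem result {X Y : Scheme.{u}} (f : X ⟶ Y)
    [IsLocallyNoetherian Y] [LocallyOfFiniteType f] (x : ↥X)
    (hx : ∃ U : X.Opens, x ∈ U ∧ Smooth (U.ι ≫ f)) :
    IsRegularLocalRing ↑(X.presheaf.stalk x) ↔ IsRegularLocalRing ↑(Y.presheaf.stalk (f.base x)) := by
  exact main4991 f x hx


end Groth.Agent.S4991
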