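import Groth.Statements.S4992
import Groth.Agent.S2768
import Groth.Agent.H29.FibreLocal

set_option autoImplicit false
universe u
open CategoryTheory CategoryTheory.Limits AlgebraicGeometry TopologicalSpace
open Unram17

namespace Groth.Agent.S4992


/-- A smooth morphism is, near any point of the source, smooth of some relative dimension. -/
theorem exists_smoothOfRelDim_nhd {X Y : Scheme.{u}} (f : X ⟶ Y) [Smooth f] (x : X) :
    ∃ (n : ℕ) (V : X.Opens), x ∈ V ∧ SmoothOfRelativeDimension n (V.ι ≫ f) := by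
  obtain ⟨U, hU, V, hV, hxV, e, hstd⟩ := Smooth.exists_isStandardSmooth f x
  have hex : ∃ n, (f.appLE U V e).hom.IsStandardSmoothOfRelativeDimension n := by
    letI := (f.appLE U V e).hom.toAlgebra
    have hstd' : Algebra.IsStandardSmooth Γ(Y, U) Γ(X, V) := hstd
    obtain ⟨ι, σ, hσ, hι, ⟨P⟩⟩ := hstd'.out
    exact ⟨P.dimension,
      (⟨ι, σ, hσ, hι, P, rfl⟩ : Algebra.IsStandardSmoothOfRelativeDimension P.dimension _ _)⟩
  obtain ⟨n, hn⟩ := hex
  refine ⟨n, V, hxV, ⟨fun v => ?_⟩⟩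
  have : IsAffine V.toScheme := hV
  have e' : (⊤ : V.toScheme.Opens) ≤ (V.ι ≫ f) ⁻¹ᵁ U := fun y _ => e y.2
  refine ⟨U, hU, ⊤, isAffineOpen_top _, trivial, e', ?_⟩
  rw [Scheme.Hom.comp_appLE, Scheme.Opens.ι_appLE]
  have h5 : (f.appLE U (V.ι ''ᵁ ⊤)
      (Set.image_subset_iff.mpr e')).hom.IsStandardSmoothOfRelativeDimension n :=
    (f.appLE_congr _ rfl V.ι_image_top.symm
      (fun f => RingHom.IsStandardSmoothOfRelativeDimension n f.hom)).mp hn
  exact h5

/-- Let f : X ⟶ Y and g : Y ⟶ Z be smooth. For every point x of X, the local dimension at x of the fibre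
of f ≫ g through x equals the local dimension at x of the fibre of f through x plus the local
dimension at f(x) of the fibre of g through f(x). -/
theorem result {X Y Z : Scheme.{u}} (f : X ⟶ Y) (g : Y ⟶ Z) [Smooth f] [Smooth g]
    (x : ↥X) :
    FlatMor.fibreDimAt (f ≫ g) x = FlatMor.fibreDimAt f x + FlatMor.fibreDimAt g (f.base x) := by
  obtain ⟨b, V, hfxV, hV⟩ := exists_smoothOfRelDim_nhd g (f.base x)
  obtain ⟨a, U', hxU', hU'⟩ := exists_smoothOfRelDim_nhd (f ∣_ V) ⟨x, hfxV⟩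
  let j : U'.toScheme ⟶ X := U'.ι ≫ (f ⁻¹ᵁ V).ι
  let u : U'.toScheme := ⟨⟨x, hfxV⟩, hxU'⟩
  have hju : j u = x := rfl
  have h1 := Groth.Agent.H29.FibreLocal.fibreDimAt_comp_openImmersion j (f ≫ g) u
  have hfac : j ≫ f ≫ g = (U'.ι ≫ f ∣_ V) ≫ (V.ι ≫ g) := by
    simp only [j, Category.assoc, morphismRestrict_ι_assoc]
  have inst1 : SmoothOfRelativeDimension (a + b) ((U'.ι ≫ f ∣_ V) ≫ (V.ι ≫ g)) := inferInstance
  have h2 := Groth.Agent.S2768.result (a + b) ((U'.ι ≫ f ∣_ V) ≫ (V.ι ≫ g)) u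
  have h3 := Groth.Agent.H29.FibreLocal.fibreDimAt_comp_openImmersion j f u
  have hfac' : j ≫ f = (U'.ι ≫ f ∣_ V) ≫ V.ι := by
    simp only [j, Category.assoc, morphismRestrict_ι]
  have inst2 : SmoothOfRelativeDimension (a + 0) ((U'.ι ≫ f ∣_ V) ≫ V.ι) := inferInstance
  have h4 := Groth.Agent.S2768.result (a + 0) ((U'.ι ≫ f ∣_ V) ≫ V.ι) u
  have h5 := Groth.Agent.H29.FibreLocal.fibreDimAt_comp_openImmersion V.ι g ⟨f.base x, hfxV⟩
  have h6 := Groth.Agent.S2768.result b (V.ι ≫ g) ⟨f.base x, hfxV⟩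
  rw [hfac] at h1
  rw [hfac'] at h3
  rw [hju] at h1 h3
  have h7 : (V.ι : V.toScheme ⟶ Y) ⟨f.base x, hfxV⟩ = f.base x := rfl
  rw [h7] at h5
  rw [← h1, ← h3, ← h5, h2, h4, h6]
  push_cast
  simp

end Groth.Agent.S4992
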