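import Groth.Statements.S4996
import Mathlib
import Groth.Agent.Lib.Helper24.RegSmoothAt
import Groth.Agent.S1468

set_option autoImplicit false
universe u
open Unram17

namespace Groth.Agent.S4996

section Helpers
open TensorProduct

theorem mem_range_of_splits4996 {k k' D : Type*} [Field k] [Field k'] [CommRing D] [IsDomain D]
    [Algebra k k'] [Algebra k' D] [Algebra k D] [IsScalarTower k k' D]
    (P : Polynomial k) (hP0 : P ≠ 0) (hP : (P.map (algebraMap k k')).Splits)
    (d : D) (hd : Polynomial.aeval d P = 0) : d ∈ (algebraMap k' D).range := by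
  have hQ0 : P.map (algebraMap k k') ≠ 0 := Polynomial.map_ne_zero hP0
  have h1 : Polynomial.aeval d (P.map (algebraMap k k')) = 0 := by
    rw [Polynomial.aeval_map_algebraMap]; exact hd
  rw [hP.eq_prod_roots, map_mul, Polynomial.aeval_C, map_multiset_prod, Multiset.map_map] at h1
  rcases mul_eq_zero.mp h1 with h2 | h2
  · exfalso
    have h3 : (P.map (algebraMap k k')).leadingCoeff = 0 :=
      (map_eq_zero_iff _ (algebraMap k' D).injective).mp h2
    exact hQ0 (Polynomial.leadingCoeff_eq_zero.mp h3)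
  · rw [Multiset.prod_eq_zero_iff] at h2
    obtain ⟨a, _, h3⟩ := Multiset.mem_map.mp h2
    have h4 : d - algebraMap k' D a = 0 := by simpa using h3
    exact ⟨a, (sub_eq_zero.mp h4).symm⟩

theorem surj_quot4996 (k k' F : Type u) [Field k] [Field k'] [CommRing F] [Algebra k k']
    [Algebra k F] [Normal k k'] (m : Ideal F) [m.IsMaximal] [Module.Finite k (F ⧸ m)]
    (σ : (F ⧸ m) →ₐ[k] k')
    (q' : Ideal (k' ⊗[k] F)) [q'.IsPrime] (hq' : ∀ x : F, x ∈ m → (1 : k') ⊗ₜ[k] x ∈ q') :
    Function.Surjective (algebraMap k' ((k' ⊗[k] F) ⧸ q')) := by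
  letI : Field (F ⧸ m) := Ideal.Quotient.field m
  have hσ : Function.Injective σ := (σ : (F ⧸ m) →+* k').injective
  intro y
  obtain ⟨s, rfl⟩ := Ideal.Quotient.mk_surjective y
  induction s using TensorProduct.induction_on with
  | zero => exact ⟨0, by simp⟩
  | add a b ha hb =>
    obtain ⟨a', ha'⟩ := ha
    obtain ⟨b', hb'⟩ := hb
    exact ⟨a' + b', by rw [map_add, ha', hb', map_add]⟩
  | tmul c x =>
    have key : Ideal.Quotient.mk q' ((1 : k') ⊗ₜ[k] x) ∈
        (algebraMap k' ((k' ⊗[k] F) ⧸ q')).range := by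
      have hint : IsIntegral k (Ideal.Quotient.mk m x) := Algebra.IsIntegral.isIntegral _
      have hP0 : minpoly k (Ideal.Quotient.mk m x) ≠ 0 := minpoly.ne_zero hint
      have hsplit : ((minpoly k (Ideal.Quotient.mk m x)).map (algebraMap k k')).Splits := by
        have h0 := Normal.splits (inferInstance : Normal k k') (σ (Ideal.Quotient.mk m x))
        rwa [minpoly.algHom_eq σ hσ] at h0
      refine mem_range_of_splits4996 (minpoly k (Ideal.Quotient.mk m x)) hP0 hsplit _ ?_
      have h1 : Polynomial.aeval x (minpoly k (Ideal.Quotient.mk m x)) ∈ m := by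
        rw [← Ideal.Quotient.eq_zero_iff_mem]
        have h5 : Ideal.Quotient.mk m (Polynomial.aeval x (minpoly k (Ideal.Quotient.mk m x))) =
            Polynomial.aeval (Ideal.Quotient.mk m x) (minpoly k (Ideal.Quotient.mk m x)) := by
          rw [← Ideal.Quotient.mkₐ_eq_mk k, Polynomial.aeval_algHom_apply]
        rw [h5]; exact minpoly.aeval k _
      have h2 := hq' _ h1
      have h3 : Polynomial.aeval (Ideal.Quotient.mk q' ((1 : k') ⊗ₜ[k] x))
          (minpoly k (Ideal.Quotient.mk m x)) =
          Ideal.Quotient.mk q' ((1 : k') ⊗ₜ[k]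
            Polynomial.aeval x (minpoly k (Ideal.Quotient.mk m x))) := by
        have e1 : (1 : k') ⊗ₜ[k] x =
          (Algebra.TensorProduct.includeRight : F →ₐ[k] k' ⊗[k] F) x := rfl
        have e2 : (1 : k') ⊗ₜ[k] Polynomial.aeval x (minpoly k (Ideal.Quotient.mk m x)) =
          (Algebra.TensorProduct.includeRight : F →ₐ[k] k' ⊗[k] F)
            (Polynomial.aeval x (minpoly k (Ideal.Quotient.mk m x))) := rfl
        rw [e1, e2, ← Ideal.Quotient.mkₐ_eq_mk k, Polynomial.aeval_algHom_apply,
          Polynomial.aeval_algHom_apply]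
      rw [h3]; exact Ideal.Quotient.eq_zero_iff_mem.mpr h2
    obtain ⟨a, ha⟩ := key
    refine ⟨c * a, ?_⟩
    rw [map_mul, ha]
    have h6 : algebraMap k' ((k' ⊗[k] F) ⧸ q') c = Ideal.Quotient.mk q' (c ⊗ₜ[k] (1 : F)) := rfl
    rw [h6, ← map_mul, Algebra.TensorProduct.tmul_mul_tmul, mul_one, one_mul]

theorem smoothAt_over4996 (k k' F : Type u) [Field k] [Field k'] [CommRing F] [Algebra k k']
    [Algebra k F] [Algebra.FiniteType k F] [Normal k k'] (m : Ideal F) [m.IsMaximal]
    [Module.Finite k (F ⧸ m)] (σ : (F ⧸ m) →ₐ[k] k') [IsRegularRing (k' ⊗[k] F)]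
    (q' : Ideal (k' ⊗[k] F)) [q'.IsPrime] (hq' : ∀ x : F, x ∈ m → (1 : k') ⊗ₜ[k] x ∈ q') :
    Algebra.IsSmoothAt k' q' := by
  have hsurj := surj_quot4996 k k' F m σ q' hq'
  have hinj : Function.Injective (algebraMap k' ((k' ⊗[k] F) ⧸ q')) :=
    (algebraMap k' ((k' ⊗[k] F) ⧸ q')).injective
  have hfield : IsField ((k' ⊗[k] F) ⧸ q') :=
    (RingEquiv.ofBijective (algebraMap k' ((k' ⊗[k] F) ⧸ q'))
      ⟨hinj, hsurj⟩).symm.toMulEquiv.isField (Field.toIsField k')
  haveI : q'.IsMaximal := Ideal.Quotient.maximal_of_isField q' hfield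
  have hbij := Ideal.bijective_algebraMap_quotient_residueField q'
  have hsurj2 : Function.Surjective (algebraMap k' q'.ResidueField) := by
    rw [IsScalarTower.algebraMap_eq k' ((k' ⊗[k] F) ⧸ q') q'.ResidueField]
    exact hbij.surjective.comp hsurj
  let e : k' ≃ₐ[k'] q'.ResidueField :=
    AlgEquiv.ofBijective (Algebra.ofId k' q'.ResidueField)
      ⟨(algebraMap k' q'.ResidueField).injective, hsurj2⟩
  haveI : Algebra.FormallySmooth k' q'.ResidueField := Algebra.FormallySmooth.of_equiv e
  haveI : Algebra.FiniteType k' (k' ⊗[k] F) := inferInstance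
  exact Groth.Agent.Helper24.RegSmoothAt.smoothAt_of_regular k' (k' ⊗[k] F) q'

attribute [local instance] Algebra.TensorProduct.rightAlgebra in
theorem isIntegral_right4996 (k k' F : Type*) [Field k] [Field k'] [CommRing F] [Algebra k k']
    [Algebra k F] [Algebra.IsIntegral k k'] : Algebra.IsIntegral F (k' ⊗[k] F) := by
  refine ⟨fun s => ?_⟩
  induction s using TensorProduct.induction_on with
  | zero => exact isIntegral_zero
  | add a b ha hb => exact ha.add hb
  | tmul c x =>
    have h1 : c ⊗ₜ[k] x =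
        (Algebra.TensorProduct.includeLeft (R := k) (S := k) (A := k') (B := F) c) *
          algebraMap F (k' ⊗[k] F) x := by
      rw [Algebra.TensorProduct.right_algebraMap_apply, Algebra.TensorProduct.includeLeft_apply,
        Algebra.TensorProduct.tmul_mul_tmul, mul_one, one_mul]
    rw [h1]
    refine IsIntegral.mul ?_ isIntegral_algebraMap
    have h2 : IsIntegral k c := Algebra.IsIntegral.isIntegral c
    have h3 : IsIntegral k
        ((Algebra.TensorProduct.includeLeft (R := k) (S := k) (A := k') (B := F)) c) :=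
      h2.map _
    exact h3.tower_top

attribute [local instance] Algebra.TensorProduct.rightAlgebra in
theorem smoothAt_max4996 (k k' F : Type u) [Field k] [Field k'] [CommRing F] [Algebra k k']
    [Algebra k F] [Algebra.FiniteType k F] [Normal k k'] [Module.Finite k k']
    (m : Ideal F) [hm : m.IsMaximal] [Module.Finite k (F ⧸ m)] (σ : (F ⧸ m) →ₐ[k] k')
    [IsRegularRing (k' ⊗[k] F)] : Algebra.IsSmoothAt k m := by
  haveI : Algebra.FinitePresentation k F :=
    Algebra.FinitePresentation.of_finiteType.mp inferInstance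
  haveI : Algebra.IsIntegral F (k' ⊗[k] F) := isIntegral_right4996 k k' F
  haveI : Algebra.FinitePresentation k' (k' ⊗[k] F) := inferInstance
  have hA : ∀ (Q : Ideal (k' ⊗[k] F)) [Q.IsPrime],
      Q.comap (algebraMap F (k' ⊗[k] F)) = m → Algebra.IsSmoothAt k' Q := by
    intro Q _ hQ
    refine smoothAt_over4996 k k' F m σ Q (fun x hx => ?_)
    have h0 : x ∈ Q.comap (algebraMap F (k' ⊗[k] F)) := by rw [hQ]; exact hx
    exact h0
  have hI' : PrimeSpectrum.zeroLocus
      ((PrimeSpectrum.vanishingIdeal (Algebra.smoothLocus k' (k' ⊗[k] F))ᶜ :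
        Ideal (k' ⊗[k] F)) : Set (k' ⊗[k] F)) = (Algebra.smoothLocus k' (k' ⊗[k] F))ᶜ := by
    rw [PrimeSpectrum.zeroLocus_vanishingIdeal_eq_closure]
    exact (Algebra.isOpen_smoothLocus.isClosed_compl).closure_eq
  have hnot : ¬ (PrimeSpectrum.vanishingIdeal (Algebra.smoothLocus k' (k' ⊗[k] F))ᶜ).comap
      (algebraMap F (k' ⊗[k] F)) ≤ m := by
    intro hle
    obtain ⟨Q, hQI, hQp, hQm⟩ := Ideal.exists_ideal_over_prime_of_isIntegral m _ hle
    have h1 : (⟨Q, hQp⟩ : PrimeSpectrum (k' ⊗[k] F)) ∈ PrimeSpectrum.zeroLocus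
        ((PrimeSpectrum.vanishingIdeal (Algebra.smoothLocus k' (k' ⊗[k] F))ᶜ :
          Ideal (k' ⊗[k] F)) : Set (k' ⊗[k] F)) := hQI
    rw [hI'] at h1
    exact h1 (hA Q hQm)
  obtain ⟨f, hfI, hfm⟩ := SetLike.not_le_iff_exists.mp hnot
  have hfI' : (1 : k') ⊗ₜ[k] f ∈
      PrimeSpectrum.vanishingIdeal (Algebra.smoothLocus k' (k' ⊗[k] F))ᶜ := hfI
  have hsub : (PrimeSpectrum.basicOpen ((1 : k') ⊗ₜ[k] f) : Set (PrimeSpectrum (k' ⊗[k] F))) ⊆
      Algebra.smoothLocus k' (k' ⊗[k] F) := by
    intro Q hQ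
    by_contra hns
    have h2 : Q ∈ PrimeSpectrum.zeroLocus
        ((PrimeSpectrum.vanishingIdeal (Algebra.smoothLocus k' (k' ⊗[k] F))ᶜ :
          Ideal (k' ⊗[k] F)) : Set (k' ⊗[k] F)) := by rw [hI']; exact hns
    exact hQ (h2 hfI')
  haveI hsm : Algebra.Smooth k' (Localization.Away ((1 : k') ⊗ₜ[k] f)) :=
    Algebra.basicOpen_subset_smoothLocus_iff_smooth.mp hsub
  haveI : Algebra.FinitePresentation F (Localization.Away f) :=
    IsLocalization.Away.finitePresentation f
  haveI : Algebra.FinitePresentation k (Localization.Away f) :=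
    Algebra.FinitePresentation.trans k F (Localization.Away f)
  let e := IsLocalization.Away.tensorProductEquivTMulRight k k' f (Localization.Away f)
  haveI : Algebra.Smooth k' (k' ⊗[k] Localization.Away f) :=
    ⟨Algebra.FormallySmooth.of_equiv e.symm, inferInstance⟩
  haveI hsm2 : Algebra.Smooth k (Localization.Away f) :=
    Algebra.Smooth.of_smooth_tensorProduct_of_faithfullyFlat k'
  have hsub2 := Algebra.basicOpen_subset_smoothLocus_iff_smooth.mpr hsm2
  exact hsub2 (show (⟨m, hm.isPrime⟩ : PrimeSpectrum F) ∈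
    (PrimeSpectrum.basicOpen f : Set (PrimeSpectrum F)) from hfm)

theorem formallySmooth_of_geomRegular4996 (k F : Type u) [Field k] [CommRing F] [Algebra k F]
    [Algebra.FiniteType k F] (h : CAlg.IsGeometricallyRegular k F) :
    Algebra.FormallySmooth k F := by
  haveI : Algebra.FinitePresentation k F :=
    Algebra.FinitePresentation.of_finiteType.mp inferInstance
  have hopen := Algebra.isOpen_smoothLocus (R := k) (A := F)
  rw [← Algebra.smoothLocus_eq_univ_iff]
  suffices hmax : ∀ (m : Ideal F) (hm : m.IsMaximal),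
      (⟨m, hm.isPrime⟩ : PrimeSpectrum F) ∈ Algebra.smoothLocus k F by
    refine Set.eq_univ_of_forall fun x => ?_
    obtain ⟨M, hM, hxM⟩ := Ideal.exists_le_maximal x.asIdeal x.2.ne_top
    have hspec : x ⤳ ⟨M, hM.isPrime⟩ :=
      (PrimeSpectrum.le_iff_specializes x ⟨M, hM.isPrime⟩).mp hxM
    exact hspec.mem_open hopen (hmax M hM)
  intro m hm
  haveI := hm
  letI : Field (F ⧸ m) := Ideal.Quotient.field m
  haveI : Module.Finite k (F ⧸ m) := finite_of_finite_type_of_isJacobsonRing k (F ⧸ m)
  haveI : Algebra.IsAlgebraic k (F ⧸ m) := inferInstance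
  haveI : IsRegularRing
      ((IntermediateField.normalClosure k (F ⧸ m) (AlgebraicClosure (F ⧸ m))) ⊗[k] F) :=
    h _ inferInstance
  exact smoothAt_max4996 k
    (IntermediateField.normalClosure k (F ⧸ m) (AlgebraicClosure (F ⧸ m))) F m
    (IsScalarTower.toAlgHom k (F ⧸ m) _)

end Helpers

open TensorProduct in
/-- Let B be a finitely presented algebra over a commutative ring A. Then B is smooth over A if and only
if B is flat over A and every fibre ring κ(p) ⊗_A B, p a prime of A, is geometrically regular over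
the residue field κ(p), i.e. stays a regular ring after base change to any finite extension of κ(p). -/
theorem result (A B : Type u) [CommRing A] [CommRing B]
    [Algebra A B] [Algebra.FinitePresentation A B] :
    Algebra.Smooth A B ↔
      Module.Flat A B ∧ ∀ (p : Ideal A) [p.IsPrime], CAlg.IsGeometricallyRegular p.ResidueField (p.Fiber B) := by
  constructor
  · intro hsm
    haveI := hsm
    have h := Groth.Agent.S1468.regularHom1468 A B
    exact ⟨h.1, fun p _ => (h.2 p).2⟩
  · rintro ⟨hflat, hfib⟩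
    haveI := hflat
    refine Algebra.Smooth.of_formallySmooth_fiber (R := A) (S := B) (fun p _ => ?_)
    haveI : Algebra.FiniteType p.ResidueField (p.Fiber B) := inferInstance
    exact formallySmooth_of_geomRegular4996 p.ResidueField (p.Fiber B) (hfib p)

end Groth.Agent.S4996
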