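import Groth.Statements.S4997
import Mathlib
import Groth.Agent.S3830
import Groth.Agent.S5067

set_option autoImplicit false
universe u
open CategoryTheory CategoryTheory.Limits AlgebraicGeometry TopologicalSpace
open Unram17

namespace Groth.Agent.S4997

section Helpers
open AlgebraicGeometry CategoryTheory

theorem etale_of_smooth_quasiFinite {A B : Type u} [CommRing A] [CommRing B] [Algebra A B]
    [Algebra.Smooth A B] [Algebra.QuasiFinite A B] : Algebra.Etale A B := by
  rw [← Algebra.etaleLocus_eq_univ_iff_etale]
  refine Set.eq_univ_iff_forall.mpr fun q => ?_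
  have hs : Algebra.IsSmoothAt A q.asIdeal := Algebra.FormallySmooth.comp A B _
  exact Groth.Agent.S3830.result A B q.asIdeal hs

theorem ringHom_etale_of_smooth_quasiFinite {A B : Type u} [CommRing A] [CommRing B]
    (φ : A →+* B) (h1 : φ.Smooth) (h2 : φ.QuasiFinite) : φ.Etale := by
  letI := φ.toAlgebra
  haveI : Algebra.Smooth A B := h1
  haveI : Algebra.QuasiFinite A B := h2
  exact etale_of_smooth_quasiFinite

end Helpers

/-- A morphism of schemes is etale if and only if it is smooth and locally quasi-finite. -/
theorem result {X Y : Scheme.{u}} (f : X ⟶ Y) :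
    Etale f ↔ Smooth f ∧ LocallyQuasiFinite f := by
  constructor
  · intro h
    haveI := h
    exact ⟨inferInstance, Groth.Agent.S5067.lqf_of_etale f⟩
  · rintro ⟨hs, hq⟩
    rw [HasRingHomProperty.iff_appLE (P := @Etale)]
    intro U V e
    exact ringHom_etale_of_smooth_quasiFinite _
      ((HasRingHomProperty.iff_appLE (P := @Smooth)).mp hs U V e)
      ((HasRingHomProperty.iff_appLE (P := @LocallyQuasiFinite)).mp hq U V e)

end Groth.Agent.S4997
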