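import Groth.Statements.S4998
import Mathlib

set_option autoImplicit false
universe u
open Unram17

namespace Groth.Agent.S4998

/-- Let A be an algebra of finite type over a field k. Then A is formally unramified over k if and only
if A is finite over k and every element of A has separable minimal polynomial over k (equivalently,
A is a finite product of finite separable extensions of k). -/
theorem result (k A : Type u) [Field k] [CommRing A]
    [Algebra k A] [Algebra.FiniteType k A] :
    Algebra.FormallyUnramified k A ↔ Module.Finite k A ∧ Algebra.IsSeparable k A := by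
  classical
  constructor
  · intro h
    have hfin : Module.Finite k A := Algebra.FormallyUnramified.finite_of_free k A
    refine ⟨hfin, ?_⟩
    have hEt : Algebra.FormallyEtale k A :=
      Algebra.FormallyEtale.of_formallyUnramified_of_field k A
    obtain ⟨I, _, Ai, _, _, e, hsep⟩ :=
      (Algebra.FormallyEtale.iff_exists_algEquiv_prod k A).1 hEt
    have : Fintype I := Fintype.ofFinite I
    refine ⟨fun x => ?_⟩
    show (minpoly k x).Separable
    rw [← minpoly.algEquiv_eq e x]
    set y := e x with hy
    let p : I → Polynomial k := fun i => minpoly k (y i)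
    have hint : ∀ i, IsIntegral k (y i) := fun i => Algebra.IsSeparable.isIntegral k (y i)
    have hirr : ∀ i, Irreducible (p i) := fun i => minpoly.irreducible (hint i)
    have hmonic : ∀ i, (p i).Monic := fun i => minpoly.monic (hint i)
    have hpsep : ∀ i, (p i).Separable := fun i => Algebra.IsSeparable.isSeparable k (y i)
    let S : Finset (Polynomial k) := Finset.univ.image p
    let q : Polynomial k := ∏ r ∈ S, r
    have hqsep : q.Separable := by
      refine Polynomial.separable_prod' (f := fun r : Polynomial k => r) ?_ ?_
      · intro r₁ hr₁ r₂ hr₂ hne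
        obtain ⟨i, -, rfl⟩ := Finset.mem_image.1 hr₁
        obtain ⟨j, -, rfl⟩ := Finset.mem_image.1 hr₂
        refine (hirr i).coprime_iff_not_dvd.2 (fun hdvd => hne ?_)
        exact Polynomial.eq_of_monic_of_associated (hmonic i) (hmonic j)
          ((hirr i).associated_of_dvd (hirr j) hdvd)
      · intro r hr
        obtain ⟨i, -, rfl⟩ := Finset.mem_image.1 hr
        exact hpsep i
    have hq0 : Polynomial.aeval y q = 0 := by
      funext i
      have h1 : (Polynomial.aeval y q) i = Polynomial.aeval (y i) q := by
        have := Polynomial.aeval_algHom_apply (Pi.evalAlgHom k Ai i) y q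
        exact this.symm
      rw [h1]
      have hdvd : p i ∣ q := Finset.dvd_prod_of_mem (fun r => r)
        (Finset.mem_image.2 ⟨i, Finset.mem_univ _, rfl⟩)
      obtain ⟨c, hc⟩ := hdvd
      rw [hc, map_mul, minpoly.aeval, zero_mul]
      rfl
    exact hqsep.of_dvd (minpoly.dvd k y hq0)
  · rintro ⟨hfin, hsep⟩
    have hArt : IsArtinianRing A := IsArtinianRing.of_finite k A
    have hred : IsReduced A := by
      refine ⟨fun x hx => ?_⟩
      obtain ⟨n, hn⟩ := hx
      rcases Nat.eq_zero_or_pos n with rfl | hpos
      · rw [pow_zero] at hn
        have : Subsingleton A := subsingleton_of_zero_eq_one hn.symm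
        exact Subsingleton.elim _ _
      have h1 : minpoly k x ∣ (Polynomial.X : Polynomial k) ^ n :=
        minpoly.dvd k x (by simp [hn])
      have hs : (minpoly k x).Separable := Algebra.IsSeparable.isSeparable k x
      have h2 : minpoly k x ∣ (Polynomial.X : Polynomial k) :=
        (hs.squarefree.dvd_pow_iff_dvd hpos.ne').1 h1
      obtain ⟨c, hc⟩ := h2
      have := congrArg (Polynomial.aeval x) hc
      rw [Polynomial.aeval_X, map_mul, minpoly.aeval, zero_mul] at this
      exact this
    letI : ∀ I : MaximalSpectrum A, Field (A ⧸ I.asIdeal) :=
      fun I => Ideal.Quotient.field I.asIdeal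
    have hq : ∀ I : MaximalSpectrum A, Algebra.FormallyUnramified k (A ⧸ I.asIdeal) := by
      intro I
      have : Algebra.IsSeparable k (A ⧸ I.asIdeal) := by
        refine ⟨fun z => ?_⟩
        obtain ⟨a, rfl⟩ := Ideal.Quotient.mk_surjective z
        show (minpoly k (Ideal.Quotient.mk I.asIdeal a)).Separable
        have hs : (minpoly k a).Separable := Algebra.IsSeparable.isSeparable k a
        refine hs.of_dvd (minpoly.dvd k _ ?_)
        have := Polynomial.aeval_algHom_apply (Ideal.Quotient.mkₐ k I.asIdeal) a (minpoly k a)
        rw [minpoly.aeval, map_zero] at this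
        exact this
      exact Algebra.FormallyUnramified.of_isSeparable k (A ⧸ I.asIdeal)
    have hpi : Algebra.FormallyUnramified k (Π I : MaximalSpectrum A, A ⧸ I.asIdeal) :=
      (Algebra.FormallyUnramified.pi_iff _).2 hq
    exact Algebra.FormallyUnramified.of_equiv
      ((IsArtinianRing.equivPi A).restrictScalars k).symm

end Groth.Agent.S4998
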