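import Groth.Statements.S5000
import Mathlib
import Groth.Agent.S2063
import Groth.Agent.S2141
import Groth.Agent.S2143
import Groth.Agent.H11.Cartier

set_option autoImplicit false
universe u
open Unram17

namespace Groth.Agent.S5000

section Aux
open TensorProduct

theorem aux_inj (k B : Type u) [Field k] [CharZero k] [CommRing B] [Algebra k B] [IsLocalRing B]
    [Module.Free B (Ω[B⁄k])] [Module.Finite B (Ω[B⁄k])]
    (hnil : ∀ x ∈ IsLocalRing.maximalIdeal B, IsNilpotent x) :
    Function.Injective (KaehlerDifferential.mapBaseChange k B (IsLocalRing.ResidueField B)) := by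
  classical
  let b := Module.Free.chooseBasis B (Ω[B⁄k])
  have hkey : ∀ x ∈ IsLocalRing.maximalIdeal B, ∀ i,
      b.repr (KaehlerDifferential.D k B x) i ∈ IsLocalRing.maximalIdeal B := by
    intro x hx i
    by_contra hc
    have hu : IsUnit (b.repr (KaehlerDifferential.D k B x) i) := by
      by_contra h
      exact hc ((IsLocalRing.mem_maximalIdeal _).2 h)
    have hex : ∃ n : ℕ, x ^ n = 0 := hnil x hx
    obtain ⟨N, hN0, hmin⟩ : ∃ N : ℕ, x ^ N = 0 ∧ ∀ m < N, x ^ m ≠ 0 :=
      ⟨Nat.find hex, Nat.find_spec hex, fun m hm => Nat.find_min hex hm⟩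
    cases N with
    | zero =>
      rw [pow_zero] at hN0
      exact one_ne_zero hN0
    | succ m =>
      have h1 : x ^ m ≠ 0 := hmin m (Nat.lt_succ_self m)
      apply h1
      have h2 : KaehlerDifferential.D k B (x ^ (m + 1)) = 0 := by
        rw [hN0, map_zero]
      rw [Derivation.leibniz_pow] at h2
      have h3 : ((m + 1 : ℕ) : B) * (x ^ m * b.repr (KaehlerDifferential.D k B x) i) = 0 := by
        have := congrArg (fun ω => b.repr ω i) h2
        simpa [nsmul_eq_mul, smul_eq_mul] using this
      have hunit : IsUnit (((m + 1 : ℕ) : B)) := by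
        have h0 : ((m + 1 : ℕ) : k) ≠ 0 := Nat.cast_ne_zero.2 (Nat.succ_ne_zero m)
        have := (IsUnit.mk0 _ h0).map (algebraMap k B)
        rwa [map_natCast] at this
      have h4 : x ^ m * b.repr (KaehlerDifferential.D k B x) i = 0 :=
        hunit.mul_right_eq_zero.1 h3
      exact hu.mul_left_eq_zero.1 h4
  have hzero : ∀ x ∈ IsLocalRing.maximalIdeal B,
      (1 : IsLocalRing.ResidueField B) ⊗ₜ[B] KaehlerDifferential.D k B x = 0 := by
    intro x hx
    rw [← b.sum_repr (KaehlerDifferential.D k B x), TensorProduct.tmul_sum]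
    refine Finset.sum_eq_zero fun i _ => ?_
    have hci : algebraMap B (IsLocalRing.ResidueField B)
        (b.repr (KaehlerDifferential.D k B x) i) = 0 :=
      (IsLocalRing.residue_eq_zero_iff _).2 (hkey x hx i)
    rw [show (1 : IsLocalRing.ResidueField B) ⊗ₜ[B]
        (b.repr (KaehlerDifferential.D k B x) i • b i) =
        (b.repr (KaehlerDifferential.D k B x) i • (1 : IsLocalRing.ResidueField B)) ⊗ₜ[B] b i from
        (TensorProduct.smul_tmul _ _ _).symm, Algebra.smul_def, mul_one, hci,
      TensorProduct.zero_tmul]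
  have hex := KaehlerDifferential.exact_kerCotangentToTensor_mapBaseChange k B
    (IsLocalRing.ResidueField B) IsLocalRing.residue_surjective
  rw [injective_iff_map_eq_zero]
  intro y hy
  obtain ⟨c, rfl⟩ := (hex y).1 hy
  obtain ⟨x, rfl⟩ := Ideal.toCotangent_surjective _ c
  rw [KaehlerDifferential.kerCotangentToTensor_toCotangent]
  apply hzero
  have hx2 := x.2
  rw [RingHom.mem_ker] at hx2
  exact (IsLocalRing.residue_eq_zero_iff _).1 hx2

theorem aux_main (k A : Type u) [Field k] [CharZero k] [CommRing A]
    [Algebra k A] [Algebra.FiniteType k A] (q : Ideal A) [q.IsPrime]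
    (hfree : Module.Free (Localization.AtPrime q) (Ω[Localization.AtPrime q⁄k])) :
    Algebra.IsSmoothAt k q := by
  classical
  haveI hNS : IsNoetherianRing A := Algebra.FiniteType.isNoetherianRing k A
  haveI hfetS : Algebra.FormallyEtale A (Localization.AtPrime q) :=
    Algebra.FormallyEtale.of_isLocalization (Rₘ := Localization.AtPrime q) q.primeCompl
  haveI hfpS : Algebra.FinitePresentation k A :=
    Algebra.FinitePresentation.of_finiteType.mp inferInstance
  haveI hfinΩ : Module.Finite (Localization.AtPrime q) (Ω[Localization.AtPrime q⁄k]) :=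
    inferInstance
  let e1 : Localization.AtPrime q ⊗[A] Ω[A⁄k] ≃ₗ[Localization.AtPrime q]
      Ω[Localization.AtPrime q⁄k] :=
    KaehlerDifferential.tensorKaehlerEquivOfFormallyEtale k A (Localization.AtPrime q)
  let Ψ : q.ResidueField ⊗[A] Ω[A⁄k] ≃ₗ[q.ResidueField]
      q.ResidueField ⊗[Localization.AtPrime q] Ω[Localization.AtPrime q⁄k] :=
    (TensorProduct.AlgebraTensorModule.cancelBaseChange A (Localization.AtPrime q)
      q.ResidueField q.ResidueField (Ω[A⁄k])).symm ≪≫ₗ
      TensorProduct.AlgebraTensorModule.congr (LinearEquiv.refl q.ResidueField q.ResidueField) e1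
  have hrq : Module.finrank q.ResidueField (q.ResidueField ⊗[A] Ω[A⁄k]) =
      Module.finrank (Localization.AtPrime q) (Ω[Localization.AtPrime q⁄k]) := by
    have h := Ψ.finrank_eq
    have h' : Module.finrank q.ResidueField
        (q.ResidueField ⊗[Localization.AtPrime q] Ω[Localization.AtPrime q⁄k]) =
        Module.finrank (Localization.AtPrime q) (Ω[Localization.AtPrime q⁄k]) :=
      Module.finrank_baseChange
    rw [h'] at h
    exact h
  obtain ⟨p0, hp0, hle⟩ := Ideal.exists_minimalPrimes_le (bot_le : (⊥ : Ideal A) ≤ q)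
  haveI hp0prime : p0.IsPrime := hp0.1.1
  haveI hfetS0 : Algebra.FormallyEtale A (Localization.AtPrime p0) :=
    Algebra.FormallyEtale.of_isLocalization (Rₘ := Localization.AtPrime p0) p0.primeCompl
  haveI hfinΩ0 : Module.Finite (Localization.AtPrime p0) (Ω[Localization.AtPrime p0⁄k]) :=
    inferInstance
  have hunits : ∀ y : q.primeCompl, IsUnit (algebraMap A (Localization.AtPrime p0) y) := by
    intro y
    exact IsLocalization.map_units (Localization.AtPrime p0)
      (⟨y.1, fun hy => y.2 (hle hy)⟩ : p0.primeCompl)
  letI algQB : Algebra (Localization.AtPrime q) (Localization.AtPrime p0) :=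
    (IsLocalization.lift (M := q.primeCompl) (S := Localization.AtPrime q) hunits).toAlgebra
  haveI tow1 : IsScalarTower A (Localization.AtPrime q) (Localization.AtPrime p0) :=
    IsScalarTower.of_algebraMap_eq (fun x => (IsLocalization.lift_eq hunits x).symm)
  haveI tow2 : IsScalarTower k (Localization.AtPrime q) (Localization.AtPrime p0) :=
    IsScalarTower.of_algebraMap_eq (fun x => by
      rw [IsScalarTower.algebraMap_apply k A (Localization.AtPrime p0),
        IsScalarTower.algebraMap_apply k A (Localization.AtPrime q)]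
      exact IsScalarTower.algebraMap_apply A (Localization.AtPrime q) (Localization.AtPrime p0) _)
  haveI hlocQB : IsLocalization (p0.primeCompl.map (algebraMap A (Localization.AtPrime q)))
      (Localization.AtPrime p0) :=
    IsLocalization.isLocalization_of_submonoid_le (Localization.AtPrime q)
      (Localization.AtPrime p0) q.primeCompl p0.primeCompl (fun y hy hy0 => hy (hle hy0))
  haveI hfetQB : Algebra.FormallyEtale (Localization.AtPrime q) (Localization.AtPrime p0) :=
    Algebra.FormallyEtale.of_isLocalization (Rₘ := Localization.AtPrime p0)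
      (p0.primeCompl.map (algebraMap A (Localization.AtPrime q)))
  let e2 : Localization.AtPrime p0 ⊗[Localization.AtPrime q] Ω[Localization.AtPrime q⁄k]
      ≃ₗ[Localization.AtPrime p0] Ω[Localization.AtPrime p0⁄k] :=
    KaehlerDifferential.tensorKaehlerEquivOfFormallyEtale k (Localization.AtPrime q)
      (Localization.AtPrime p0)
  haveI hfreeB : Module.Free (Localization.AtPrime p0) (Ω[Localization.AtPrime p0⁄k]) :=
    Module.Free.of_equiv e2
  have hrB : Module.finrank (Localization.AtPrime p0) (Ω[Localization.AtPrime p0⁄k]) =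
      Module.finrank (Localization.AtPrime q) (Ω[Localization.AtPrime q⁄k]) := by
    rw [← e2.finrank_eq]
    exact Module.finrank_baseChange
  have hnil : ∀ x ∈ IsLocalRing.maximalIdeal (Localization.AtPrime p0), IsNilpotent x := by
    intro x hx
    have h1 := IsLocalization.AtPrime.radical_map_of_mem_minimalPrimes
      (A := Localization.AtPrime p0) (q := p0) (I := ⊥) hp0
    rw [Ideal.map_bot,
      IsLocalization.AtPrime.map_eq_maximalIdeal p0 (Localization.AtPrime p0)] at h1
    rw [← h1] at hx
    obtain ⟨n, hn⟩ := Ideal.mem_radical_iff.1 hx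
    exact ⟨n, Ideal.mem_bot.1 hn⟩
  haveI hessK : Algebra.EssFiniteType k p0.ResidueField :=
    Algebra.EssFiniteType.of_surjective
      (IsScalarTower.toAlgHom k (Localization.AtPrime p0) p0.ResidueField)
      IsLocalRing.residue_surjective
  obtain ⟨hfinΩK, _, htr, hcart⟩ := Groth.Agent.H11.Cartier.cartier k p0.ResidueField
  haveI := hfinΩK
  obtain ⟨t, ht⟩ := Cardinal.lt_aleph0.1 htr
  haveI hfsK : Algebra.FormallySmooth k p0.ResidueField := Algebra.FormallySmooth.of_perfectField
  haveI hsub : Subsingleton (Algebra.H1Cotangent k p0.ResidueField) :=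
    hfsK.subsingleton_h1Cotangent
  have hH0 : Module.finrank p0.ResidueField (Algebra.H1Cotangent k p0.ResidueField) = 0 :=
    Module.finrank_zero_of_subsingleton
  have hΩt : Module.finrank p0.ResidueField (Ω[p0.ResidueField⁄k]) = t := by
    rw [hH0, ht, Cardinal.toNat_natCast] at hcart
    have : (Module.finrank p0.ResidueField (Ω[p0.ResidueField⁄k]) : ℤ) = (t : ℤ) := by
      simpa using hcart
    exact_mod_cast this
  have hinj := aux_inj k (Localization.AtPrime p0) hnil
  have hle1 : Module.finrank p0.ResidueField
      (p0.ResidueField ⊗[Localization.AtPrime p0] Ω[Localization.AtPrime p0⁄k]) ≤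
      Module.finrank p0.ResidueField (Ω[p0.ResidueField⁄k]) :=
    LinearMap.finrank_le_finrank_of_injective hinj
  have h'' : Module.finrank p0.ResidueField
      (p0.ResidueField ⊗[Localization.AtPrime p0] Ω[Localization.AtPrime p0⁄k]) =
      Module.finrank (Localization.AtPrime p0) (Ω[Localization.AtPrime p0⁄k]) :=
    Module.finrank_baseChange
  have hrt : Module.finrank q.ResidueField (q.ResidueField ⊗[A] Ω[A⁄k]) ≤ t := by
    rw [hrq, ← hrB, ← h'', ← hΩt]
    exact hle1
  have hloc := Groth.Agent.S2141.result (k := k) p0 t ht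
  have hlow : ((t : ℕ) : WithBot ℕ∞) ≤
      FlatMor.localDim (PrimeSpectrum A) ⟨p0, inferInstance⟩ := by
    rw [hloc]
    exact le_add_of_nonneg_left ringKrullDim_nonneg_of_nontrivial
  have hmono : FlatMor.localDim (PrimeSpectrum A) ⟨p0, inferInstance⟩ ≤
      FlatMor.localDim (PrimeSpectrum A) ⟨q, inferInstance⟩ := by
    rw [Groth.Agent.S2143.result (k := k) p0, Groth.Agent.S2143.result (k := k) q]
    exact le_iInf fun m => iInf_le_of_le ⟨m.1, m.2.1, hle.trans m.2.2⟩ le_rfl
  have hfin : ((Module.finrank q.ResidueField (q.ResidueField ⊗[A] Ω[A⁄k]) : ℕ∞) : WithBot ℕ∞) ≤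
      ((t : ℕ) : WithBot ℕ∞) := WithBot.coe_le_coe.2 (Nat.cast_le.2 hrt)
  exact (Groth.Agent.S2063.result (k := k) q).2 (hfin.trans (hlow.trans hmono))

end Aux


/-- Let k be a field of characteristic zero, A a k-algebra of finite type and q a prime of A. Then A is
smooth over k at q if and only if the module of differentials of the local ring A_q over k is free. -/
theorem result (k A : Type u) [Field k] [CharZero k] [CommRing A]
    [Algebra k A] [Algebra.FiniteType k A] (q : Ideal A) [q.IsPrime] :
    Algebra.IsSmoothAt k q ↔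
      Module.Free (Localization.AtPrime q) (KaehlerDifferential k (Localization.AtPrime q)) := by
  classical
  constructor
  · intro hsm
    haveI hfs : Algebra.FormallySmooth k (Localization.AtPrime q) := hsm
    haveI hNS : IsNoetherianRing A := Algebra.FiniteType.isNoetherianRing k A
    haveI hfpS : Algebra.FinitePresentation k A :=
      Algebra.FinitePresentation.of_finiteType.mp inferInstance
    haveI hfinΩ : Module.Finite (Localization.AtPrime q) (Ω[Localization.AtPrime q⁄k]) :=
      inferInstance
    exact Module.free_of_flat_of_isLocalRing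
  · intro hfree
    exact aux_main k A q hfree

end Groth.Agent.S5000
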