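import Groth.Statements.S5001
import Mathlib
import Groth.Agent.S2790

set_option autoImplicit false
universe u
open Unram17

namespace Groth.Agent.S5001

/-- Let k be a field, A a k-algebra of finite type equipped with a k-algebra map from the polynomial
ring in n variables, with images g_i of the variables, and p a prime of A such that Spec A has local
dimension n at p, the residue field of p is a finite separable extension of k, and every g_i lies in
p. Then A is etale over the polynomial ring at p if and only if the images of the g_i generate the
maximal ideal of the local ring A_p. -/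
theorem result (k A : Type u) [Field k] [CommRing A] [Algebra k A]
    [Algebra.FiniteType k A] (n : ℕ) [Algebra (MvPolynomial (Fin n) k) A]
    [IsScalarTower k (MvPolynomial (Fin n) k) A] (p : Ideal A) [p.IsPrime]
    (hn : FlatMor.localDim (PrimeSpectrum A) ⟨p, inferInstance⟩ = (n : WithBot ℕ∞))
    [Module.Finite k p.ResidueField] [Algebra.IsSeparable k p.ResidueField]
    (hg : ∀ i : Fin n, algebraMap (MvPolynomial (Fin n) k) A (MvPolynomial.X i) ∈ p) :
    Algebra.IsEtaleAt (MvPolynomial (Fin n) k) p ↔
      Ideal.span (Set.range fun i : Fin n =>
        algebraMap A (Localization.AtPrime p) (algebraMap (MvPolynomial (Fin n) k) A (MvPolynomial.X i))) =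
        IsLocalRing.maximalIdeal (Localization.AtPrime p) := by
  classical
  haveI hNA : IsNoetherianRing A := Algebra.FiniteType.isNoetherianRing k A
  haveI hNL : IsNoetherianRing (Localization.AtPrime p) :=
    IsLocalization.isNoetherianRing p.primeCompl (Localization.AtPrime p) hNA
  haveI hT : IsScalarTower k (MvPolynomial (Fin n) k) (Localization.AtPrime p) :=
    IsScalarTower.of_algebraMap_eq (fun x => by
      rw [IsScalarTower.algebraMap_apply k A (Localization.AtPrime p),
        IsScalarTower.algebraMap_apply k (MvPolynomial (Fin n) k) A,
        ← IsScalarTower.algebraMap_apply (MvPolynomial (Fin n) k) A (Localization.AtPrime p)])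
  have hgi : ∀ i : Fin n, algebraMap A (Localization.AtPrime p)
      (algebraMap (MvPolynomial (Fin n) k) A (MvPolynomial.X i)) =
      algebraMap (MvPolynomial (Fin n) k) (Localization.AtPrime p) (MvPolynomial.X i) := fun i =>
    (IsScalarTower.algebraMap_apply (MvPolynomial (Fin n) k) A (Localization.AtPrime p) _).symm
  have hgm : ∀ i : Fin n, algebraMap A (Localization.AtPrime p)
      (algebraMap (MvPolynomial (Fin n) k) A (MvPolynomial.X i)) ∈
      IsLocalRing.maximalIdeal (Localization.AtPrime p) := fun i =>
    (IsLocalization.AtPrime.to_map_mem_maximal_iff (Localization.AtPrime p) p _).2 (hg i)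
  have hJle : Ideal.span (Set.range fun i : Fin n =>
        algebraMap A (Localization.AtPrime p)
          (algebraMap (MvPolynomial (Fin n) k) A (MvPolynomial.X i))) ≤
        IsLocalRing.maximalIdeal (Localization.AtPrime p) := by
    rw [Ideal.span_le]
    rintro _ ⟨i, rfl⟩
    exact hgm i
  rw [Groth.Agent.S2790.result k A n p hn]
  constructor
  · intro hspan
    -- recover unramifiedness
    have het : Algebra.IsEtaleAt (MvPolynomial (Fin n) k) p :=
      (Groth.Agent.S2790.result k A n p hn).mpr hspan
    haveI : Algebra.FormallyEtale (MvPolynomial (Fin n) k) (Localization.AtPrime p) := het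
    haveI hunr : Algebra.FormallyUnramified (MvPolynomial (Fin n) k) (Localization.AtPrime p) :=
      inferInstance
    haveI hFT : Algebra.FiniteType (MvPolynomial (Fin n) k) A :=
      Algebra.FiniteType.of_restrictScalars_finiteType k (MvPolynomial (Fin n) k) A
    haveI hunrAt : Algebra.IsUnramifiedAt (MvPolynomial (Fin n) k) p := hunr
    letI := Localization.AtPrime.algebraOfLiesOver (p.under (MvPolynomial (Fin n) k)) p
    obtain ⟨hsep, hmap⟩ := (Algebra.isUnramifiedAt_iff_map_eq (MvPolynomial (Fin n) k)
      (p.under (MvPolynomial (Fin n) k)) p).mp hunrAt
    refine le_antisymm hJle ?_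
    rw [← hmap, Ideal.map_le_iff_le_comap]
    have hX : ∀ f : MvPolynomial (Fin n) k,
        f - MvPolynomial.C (MvPolynomial.constantCoeff f) ∈
          Ideal.span (Set.range (MvPolynomial.X : Fin n → MvPolynomial (Fin n) k)) := by
      intro f
      induction f using MvPolynomial.induction_on with
      | C a => rw [MvPolynomial.constantCoeff_C, sub_self]; exact Ideal.zero_mem _
      | add f g hf hg =>
        have : f + g - MvPolynomial.C (MvPolynomial.constantCoeff (f + g)) =
            (f - MvPolynomial.C (MvPolynomial.constantCoeff f)) +
            (g - MvPolynomial.C (MvPolynomial.constantCoeff g)) := by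
          rw [map_add, map_add]; ring
        rw [this]
        exact Ideal.add_mem _ hf hg
      | mul_X f i hf =>
        rw [map_mul, MvPolynomial.constantCoeff_X, mul_zero, map_zero, sub_zero]
        exact Ideal.mul_mem_left _ f (Ideal.subset_span ⟨i, rfl⟩)
    have hXle : Ideal.span (Set.range (MvPolynomial.X : Fin n → MvPolynomial (Fin n) k)) ≤
        (Ideal.span (Set.range fun i : Fin n =>
        algebraMap A (Localization.AtPrime p)
          (algebraMap (MvPolynomial (Fin n) k) A (MvPolynomial.X i)))).comap
          (algebraMap (MvPolynomial (Fin n) k) (Localization.AtPrime p)) := by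
      rw [Ideal.span_le]
      rintro _ ⟨i, rfl⟩
      rw [SetLike.mem_coe, Ideal.mem_comap, ← hgi i]
      exact Ideal.subset_span ⟨i, rfl⟩
    intro f hf
    have hfm : algebraMap (MvPolynomial (Fin n) k) (Localization.AtPrime p) f ∈
        IsLocalRing.maximalIdeal (Localization.AtPrime p) := by
      rw [IsScalarTower.algebraMap_apply (MvPolynomial (Fin n) k) A (Localization.AtPrime p)]
      exact (IsLocalization.AtPrime.to_map_mem_maximal_iff (Localization.AtPrime p) p _).2 hf
    have h1 := hXle (hX f)
    have h1m := hJle h1
    have hc : MvPolynomial.constantCoeff f = 0 := by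
      by_contra hc
      have hu : IsUnit (algebraMap (MvPolynomial (Fin n) k) (Localization.AtPrime p)
          (MvPolynomial.C (MvPolynomial.constantCoeff f))) :=
        ((isUnit_iff_ne_zero.2 hc).map MvPolynomial.C).map _
      have h2 : algebraMap (MvPolynomial (Fin n) k) (Localization.AtPrime p)
          (MvPolynomial.C (MvPolynomial.constantCoeff f)) ∈
          IsLocalRing.maximalIdeal (Localization.AtPrime p) := by
        have h3 := Ideal.sub_mem _ hfm h1m
        rw [← map_sub, sub_sub_cancel] at h3
        exact h3
      exact (IsLocalRing.mem_maximalIdeal _).1 h2 hu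
    rw [hc, map_zero, sub_zero] at h1
    exact h1
  · intro hJ
    haveI hfinΩ : Module.Finite (Localization.AtPrime p) (Ω[Localization.AtPrime p⁄k]) :=
      inferInstance
    -- differentials of elements of the maximal ideal
    have hDm : ∀ y : Localization.AtPrime p, y ∈ IsLocalRing.maximalIdeal (Localization.AtPrime p) →
        KaehlerDifferential.D k (Localization.AtPrime p) y ∈
          Submodule.span (Localization.AtPrime p)
            (Set.range fun i : Fin n => KaehlerDifferential.D k (Localization.AtPrime p)
              (algebraMap A (Localization.AtPrime p)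
                (algebraMap (MvPolynomial (Fin n) k) A (MvPolynomial.X i)))) ⊔
          IsLocalRing.maximalIdeal (Localization.AtPrime p) •
            (⊤ : Submodule (Localization.AtPrime p) (Ω[Localization.AtPrime p⁄k])) := by
      intro y hy
      rw [← hJ] at hy
      induction hy using Submodule.span_induction with
      | mem z hz =>
        obtain ⟨i, rfl⟩ := hz
        exact Submodule.mem_sup_left (Submodule.subset_span ⟨i, rfl⟩)
      | zero => rw [map_zero]; exact Submodule.zero_mem _
      | add y z _ _ hy hz => rw [map_add]; exact add_mem hy hz
      | smul a y hy' hy =>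
        rw [smul_eq_mul, Derivation.leibniz]
        refine add_mem (Submodule.smul_mem _ _ hy) (Submodule.mem_sup_right ?_)
        refine Submodule.smul_mem_smul ?_ trivial
        rw [← hJ]
        exact hy'
    have hDx : ∀ x : Localization.AtPrime p,
        KaehlerDifferential.D k (Localization.AtPrime p) x ∈
          Submodule.span (Localization.AtPrime p)
            (Set.range fun i : Fin n => KaehlerDifferential.D k (Localization.AtPrime p)
              (algebraMap A (Localization.AtPrime p)
                (algebraMap (MvPolynomial (Fin n) k) A (MvPolynomial.X i)))) ⊔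
          IsLocalRing.maximalIdeal (Localization.AtPrime p) •
            (⊤ : Submodule (Localization.AtPrime p) (Ω[Localization.AtPrime p⁄k])) := by
      intro x
      have hsepx : (minpoly k (IsLocalRing.residue (Localization.AtPrime p) x)).Separable :=
        Algebra.IsSeparable.isSeparable k (IsLocalRing.residue (Localization.AtPrime p) x)
      have hres : ∀ f : Polynomial k,
          Polynomial.aeval (IsLocalRing.residue (Localization.AtPrime p) x) f =
          IsLocalRing.residue (Localization.AtPrime p) (Polynomial.aeval x f) := by
        intro f
        exact Polynomial.aeval_algHom_apply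
          (IsScalarTower.toAlgHom k (Localization.AtPrime p) p.ResidueField) x f
      have h0 : Polynomial.aeval x (minpoly k (IsLocalRing.residue (Localization.AtPrime p) x)) ∈
          IsLocalRing.maximalIdeal (Localization.AtPrime p) := by
        rw [← IsLocalRing.residue_eq_zero_iff, ← hres]
        exact minpoly.aeval _ _
      have h1 : IsUnit (Polynomial.aeval x (Polynomial.derivative
          (minpoly k (IsLocalRing.residue (Localization.AtPrime p) x)))) := by
        by_contra hnu
        have hm : Polynomial.aeval x (Polynomial.derivative
          (minpoly k (IsLocalRing.residue (Localization.AtPrime p) x))) ∈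
            IsLocalRing.maximalIdeal (Localization.AtPrime p) :=
          (IsLocalRing.mem_maximalIdeal _).2 hnu
        rw [← IsLocalRing.residue_eq_zero_iff, ← hres] at hm
        exact hsepx.aeval_derivative_ne_zero (minpoly.aeval _ _) hm
      have h2 := hDm _ h0
      rw [Derivation.map_aeval] at h2
      obtain ⟨u, hu⟩ := h1
      have h3 : KaehlerDifferential.D k (Localization.AtPrime p) x =
          (↑u⁻¹ : Localization.AtPrime p) • ((u : Localization.AtPrime p) •
            KaehlerDifferential.D k (Localization.AtPrime p) x) := by
        rw [smul_smul, Units.inv_mul, one_smul]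
      rw [h3, hu]
      exact Submodule.smul_mem _ _ h2
    rw [eq_top_iff]
    refine Submodule.le_of_le_smul_of_le_jacobson_bot (Module.finite_def.mp hfinΩ)
      (IsLocalRing.maximalIdeal_le_jacobson ⊥) ?_
    intro ω _
    have hω : ω ∈ Submodule.span (Localization.AtPrime p)
        (Set.range (KaehlerDifferential.D k (Localization.AtPrime p))) := by
      rw [KaehlerDifferential.span_range_derivation]; trivial
    exact (Submodule.span_le.2 (by rintro _ ⟨x, rfl⟩; exact hDx x)) hω

end Groth.Agent.S5001
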