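import Groth.Statements.S5002
import Mathlib

set_option autoImplicit false
universe u
open PP16

namespace Groth.Agent.S5002

open scoped TensorProduct

/-- Suppose A is a commutative ring and B is a finite-type A-algebra. For each n, the ring of principal
parts of order n of B over A is then finitely generated as a B-module, where B acts via the first
factor. -/
theorem result (n : ℕ) (A B : Type u) [CommRing A] [CommRing B] [Algebra A B]
    [Algebra.FiniteType A B] : Module.Finite B (PP16.P n A B) := by
  haveI : Algebra.FiniteType B (B ⊗[A] B) := inferInstance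
  haveI : Algebra.FiniteType B (PP16.P n A B) :=
    Algebra.FiniteType.of_surjective
      (Ideal.Quotient.mkₐ B ((KaehlerDifferential.ideal A B) ^ (n + 1)))
      (Ideal.Quotient.mkₐ_surjective B _)
  have hnil : ∀ x : PP16.P n A B, IsNilpotent x → IsIntegral B x := by
    rintro x ⟨m, hm⟩
    exact ⟨Polynomial.X ^ m, Polynomial.monic_X_pow m, by simp [hm]⟩
  have hint : ∀ s : B ⊗[A] B, IsIntegral B
      (Ideal.Quotient.mk ((KaehlerDifferential.ideal A B) ^ (n + 1)) s) := by
    intro s
    induction s using TensorProduct.induction_on with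
    | zero => rw [map_zero]; exact isIntegral_zero
    | tmul b b' =>
      have h1 : b ⊗ₜ[A] b' = b • ((1 : B) ⊗ₜ[A] b' - b' ⊗ₜ[A] (1 : B)) + (b * b') • (1 : B ⊗[A] B) := by
        rw [smul_sub, TensorProduct.smul_tmul', TensorProduct.smul_tmul', smul_eq_mul, mul_one,
          smul_eq_mul, Algebra.TensorProduct.one_def, TensorProduct.smul_tmul', smul_eq_mul, mul_one]
        abel
      rw [h1, map_add]
      apply IsIntegral.add
      · have : (Ideal.Quotient.mk ((KaehlerDifferential.ideal A B) ^ (n + 1)))
            (b • ((1 : B) ⊗ₜ[A] b' - b' ⊗ₜ[A] (1 : B))) =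
            b • (Ideal.Quotient.mk ((KaehlerDifferential.ideal A B) ^ (n + 1)))
              ((1 : B) ⊗ₜ[A] b' - b' ⊗ₜ[A] (1 : B)) := rfl
        rw [this]
        apply IsIntegral.smul
        apply hnil
        refine ⟨n + 1, ?_⟩
        rw [← map_pow, Ideal.Quotient.eq_zero_iff_mem]
        exact Ideal.pow_mem_pow (KaehlerDifferential.one_smul_sub_smul_one_mem_ideal A b') _
      · have : (Ideal.Quotient.mk ((KaehlerDifferential.ideal A B) ^ (n + 1)))
            ((b * b') • (1 : B ⊗[A] B)) = algebraMap B (PP16.P n A B) (b * b') := by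
          rw [Algebra.smul_def, mul_one]; rfl
        rw [this]
        exact isIntegral_algebraMap
    | add x y hx hy => rw [map_add]; exact hx.add hy
  haveI : Algebra.IsIntegral B (PP16.P n A B) := by
    refine ⟨fun x => ?_⟩
    obtain ⟨s, rfl⟩ := Ideal.Quotient.mk_surjective x
    exact hint s
  exact Algebra.IsIntegral.finite

end Groth.Agent.S5002
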