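import Groth.Statements.S5006
import Mathlib

set_option autoImplicit false
universe u
open Nrm16

namespace Groth.Agent.S5006


/-- Let A be a commutative ring, I a finitely generated ideal and p a prime ideal containing I. Then
some basic open neighbourhood of p in Spec A is contained in the closed set V(I) (so that V(I) ⟶
Spec A is a local homeomorphism onto an open set near p) if and only if there is an integer n > 0
with I^n A_p = I^(n+1) A_p in the local ring at p. Affine form. -/
theorem result (A : Type u) [CommRing A] (I : Ideal A) (hI : I.FG)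
    (p : Ideal A) [p.IsPrime] (hp : I ≤ p) :
    (∃ f : A, f ∉ p ∧ ∀ q : Ideal A, q.IsPrime → f ∉ q → I ≤ q) ↔
      ∃ n : ℕ, 0 < n ∧
        (I ^ n).map (algebraMap A (Localization.AtPrime p)) =
          (I ^ (n + 1)).map (algebraMap A (Localization.AtPrime p)) := by
  constructor
  · rintro ⟨f, hfp, hf⟩
    have hJ : I.map (algebraMap A (Localization.AtPrime p)) ≤ nilradical (Localization.AtPrime p) := by
      rw [Ideal.map, Ideal.span_le]
      rintro _ ⟨x, hx, rfl⟩
      have hfx : IsNilpotent (f * x) := by
        change f * x ∈ nilradical A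
        rw [nilradical_eq_sInf, Ideal.mem_sInf]
        intro q hq
        by_cases hfq : f ∈ q
        · exact q.mul_mem_right _ hfq
        · exact q.mul_mem_left _ (hf q hq hfq hx)
      obtain ⟨m, hm⟩ := hfx
      change IsNilpotent (algebraMap A (Localization.AtPrime p) x)
      refine ⟨m, ?_⟩
      have hu : IsUnit (algebraMap A (Localization.AtPrime p) f) :=
        IsLocalization.map_units (Localization.AtPrime p) (⟨f, hfp⟩ : p.primeCompl)
      have h1 := congrArg (algebraMap A (Localization.AtPrime p)) hm
      rw [map_pow, map_mul, mul_pow, map_zero] at h1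
      exact (hu.pow m).mul_right_eq_zero.mp h1
    have hFG : (I.map (algebraMap A (Localization.AtPrime p))).FG := hI.map _
    obtain ⟨n, hn⟩ := (Ideal.FG.isNilpotent_iff_le_nilradical hFG).mpr hJ
    refine ⟨n + 1, Nat.succ_pos _, ?_⟩
    rw [Ideal.map_pow, Ideal.map_pow, pow_succ, pow_succ, pow_succ, hn]
    simp
  · rintro ⟨n, hn0, hn⟩
    set J := I.map (algebraMap A (Localization.AtPrime p)) with hJdef
    have hK : (I ^ n).map (algebraMap A (Localization.AtPrime p)) = ⊥ := by
      rw [Ideal.map_pow, Ideal.map_pow] at hn
      have hle : J ^ n ≤ J • (J ^ n) := by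
        rw [smul_eq_mul, ← pow_succ']
        exact hn.le
      have hFG : (J ^ n).FG := (hI.map _).pow
      have hjac : J ≤ Ideal.jacobson ⊥ := by
        rw [IsLocalRing.jacobson_eq_maximalIdeal ⊥ bot_ne_top]
        rw [hJdef, Ideal.map_le_iff_le_comap]
        have := Localization.AtPrime.under_maximalIdeal (I := p)
        intro x hx
        change x ∈ Ideal.under A (IsLocalRing.maximalIdeal (Localization.AtPrime p))
        rw [this]
        exact hp hx
      rw [Ideal.map_pow]
      exact Submodule.eq_bot_of_le_smul_of_le_jacobson_bot J (J ^ n) hFG hle hjac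
    obtain ⟨S, hS⟩ := (hI.pow (n := n))
    have hex : ∀ x ∈ S, ∃ s : A, s ∉ p ∧ s * x = 0 := by
      intro x hx
      have hx' : x ∈ I ^ n := by rw [← hS]; exact Ideal.subset_span hx
      have h0 : algebraMap A (Localization.AtPrime p) x = 0 := by
        have : algebraMap A (Localization.AtPrime p) x ∈ (I ^ n).map (algebraMap A (Localization.AtPrime p)) :=
          Ideal.mem_map_of_mem _ hx'
        rw [hK] at this
        exact this
      obtain ⟨m, hm⟩ := (IsLocalization.map_eq_zero_iff p.primeCompl (Localization.AtPrime p) x).mp h0
      exact ⟨m.1, m.2, hm⟩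
    choose! s hs using hex
    classical
    refine ⟨∏ x ∈ S, s x, ?_, ?_⟩
    · intro hmem
      obtain ⟨x, hx, hxp⟩ := (Ideal.IsPrime.prod_mem_iff).mp hmem
      exact (hs x hx).1 hxp
    · intro q hq hfq
      have hall : ∀ y ∈ I ^ n, (∏ x ∈ S, s x) * y = 0 := by
        intro y hy
        rw [← hS] at hy
        induction hy using Submodule.span_induction with
        | mem y hy =>
          rw [← Finset.mul_prod_erase S s hy, mul_comm (s y), mul_assoc, (hs y hy).2, mul_zero]
        | zero => simp
        | add a b _ _ ha hb => rw [mul_add, ha, hb, add_zero]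
        | smul a b _ hb => rw [smul_eq_mul, mul_left_comm, hb, mul_zero]
      have hle : I ^ n ≤ q := by
        intro y hy
        have := hall y hy
        have h2 : (∏ x ∈ S, s x) * y ∈ q := by rw [this]; exact q.zero_mem
        exact (hq.mem_or_mem h2).resolve_left hfq
      exact hq.le_of_pow_le hle

end Groth.Agent.S5006
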