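import Groth.Statements.S5007
import Mathlib
import Groth.Agent.H20.UnramLocus

set_option autoImplicit false
universe u
open CategoryTheory CategoryTheory.Limits AlgebraicGeometry TopologicalSpace
open Unram17

namespace Groth.Agent.S5007

section Helpers
open AlgebraicGeometry CategoryTheory CategoryTheory.Limits TopologicalSpace

set_option backward.isDefEq.respectTransparency false in
theorem main5007 {X Y S : Scheme.{u}} (g : Y ⟶ S) (h : X ⟶ S)
    [LocallyOfFinitePresentation g] [LocallyOfFinitePresentation h] (f : X ⟶ Y) (w : f ≫ g = h) :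
    FormallyUnramified f ↔ ∀ s : ↥S, FormallyUnramified (pullback.snd f (g.fiberι s)) := by
  constructor
  · intro hf s
    exact MorphismProperty.pullback_snd _ _ hf
  · intro H
    subst w
    haveI : LocallyOfFiniteType f := locallyOfFiniteType_of_comp f g
    have key : ∀ x : X, ∃ U : X.Opens, x ∈ U ∧ FormallyUnramified (U.ι ≫ f) := by
      intro x
      obtain ⟨y', hy'⟩ : f x ∈ Set.range (g.fiberι (g (f x))) := by
        rw [Scheme.Hom.range_fiberι]; rfl
      obtain ⟨x', hx'1, hx'2⟩ := Scheme.Pullback.exists_preimage_pullback
        (f := f) (g := g.fiberι (g (f x))) x y' hy'.symm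
      have h1 := Groth.Agent.H20.UnramLocus.fu_nbhd_of_pullback f (g.fiberι (g (f x))) x'
        ⟨⊤, trivial, MorphismProperty.comp_mem _ _ _ inferInstance (H (g (f x)))⟩
      rwa [hx'1] at h1
    choose U hxU hU using key
    refine IsZariskiLocalAtSource.of_iSup_eq_top (P := @FormallyUnramified) U ?_ hU
    rw [eq_top_iff]
    intro x _
    exact Opens.mem_iSup.mpr ⟨x, hxU x⟩

end Helpers

/-- Let g : Y ⟶ S and h : X ⟶ S be locally of finite presentation and f : X ⟶ Y a morphism over S. Then
f is (formally) unramified if and only if for every point s of S the base change of f along the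
fibre Y_s ⟶ Y, which is the fibre map X_s ⟶ Y_s, is (formally) unramified. -/
theorem result {X Y S : Scheme.{u}} (g : Y ⟶ S) (h : X ⟶ S)
    [LocallyOfFinitePresentation g] [LocallyOfFinitePresentation h] (f : X ⟶ Y) (w : f ≫ g = h) :
    FormallyUnramified f ↔ ∀ s : ↥S, FormallyUnramified (pullback.snd f (g.fiberι s)) := by
  exact main5007 g h f w

end Groth.Agent.S5007
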