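import Groth.Statements.S5008
import Mathlib

set_option autoImplicit false
universe u
open CategoryTheory CategoryTheory.Limits AlgebraicGeometry TopologicalSpace
open Unram17

namespace Groth.Agent.S5008

section Helpers
open AlgebraicGeometry CategoryTheory Limits IsLocalRing

/-- A morphism from the spectrum of a local ring to `X` sending the closed point to `x` factors
through `Spec 𝒪_{X,x}`. -/
theorem factor5008 {X : Scheme.{u}} (B : Type u) [CommRing B] [IsLocalRing B]
    (α : Spec (CommRingCat.of B) ⟶ X) (x : X) (hx : α.base (closedPoint B) = x) :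
    ∃ a : X.presheaf.stalk x ⟶ CommRingCat.of B, Spec.map a ≫ X.fromSpecStalk x = α := by
  subst hx
  exact ⟨Scheme.stalkClosedPointTo α, Scheme.Spec_stalkClosedPointTo_fromSpecStalk α⟩

theorem isLocalRing_of_sq_zero5008 {B' B : Type*} [CommRing B'] [CommRing B] [IsLocalRing B]
    (φ : B' →+* B) (hφ : Function.Surjective φ) (hker : RingHom.ker φ ^ 2 = ⊥) :
    IsLocalRing B' := by
  haveI : Nontrivial B' := by
    refine ⟨⟨0, 1, fun h => ?_⟩⟩
    have := congrArg φ h
    simp at this
  have key : ∀ a : B', IsUnit (φ a) → IsUnit a := by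
    intro a ha
    obtain ⟨b, hb⟩ := ha.exists_right_inv
    obtain ⟨b', rfl⟩ := hφ b
    have hn : 1 - a * b' ∈ RingHom.ker φ := by
      rw [RingHom.mem_ker, map_sub, map_mul, map_one, hb, sub_self]
    have hnil : IsNilpotent (1 - a * b') := ⟨2, by
      have : (1 - a * b') ^ 2 ∈ RingHom.ker φ ^ 2 := Ideal.pow_mem_pow hn 2
      rwa [hker, Ideal.mem_bot] at this⟩
    have hu : IsUnit (a * b') := by
      have := hnil.isUnit_one_sub
      simpa using this
    exact isUnit_of_mul_isUnit_left hu
  refine IsLocalRing.of_isUnit_or_isUnit_one_sub_self fun a => ?_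
  rcases IsLocalRing.isUnit_or_isUnit_one_sub_self (φ a) with h | h
  · exact Or.inl (key a h)
  · exact Or.inr (key (1 - a) (by simpa using h))

set_option backward.isDefEq.respectTransparency false in
theorem fwd5008 {X Y : Scheme.{u}} (f : X ⟶ Y) (x : X)
    (H : (f.stalkMap x).hom.FormallySmooth)
    (B B' : Type u) [CommRing B] [CommRing B'] [IsLocalRing B] [IsLocalRing B'] (φ : B' →+* B)
    (hφ : Function.Surjective φ) (hker : RingHom.ker φ ^ 2 = ⊥)
    (α : Spec (CommRingCat.of B) ⟶ X) (β : Spec (CommRingCat.of B') ⟶ Y)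
    (hα : α.base (closedPoint B) = x)
    (hcomm : Spec.map (CommRingCat.ofHom φ) ≫ β = α ≫ f) :
    ∃ γ : Spec (CommRingCat.of B') ⟶ X,
      Spec.map (CommRingCat.ofHom φ) ≫ γ = α ∧ γ ≫ f = β := by
  haveI : IsLocalHom φ := IsLocalHom.of_surjective φ hφ
  have hβ : β.base (closedPoint B') = f.base x := by
    have h1 : (Spec.map (CommRingCat.ofHom φ)).base (closedPoint B) = closedPoint B' :=
      IsLocalRing.comap_closedPoint φ
    rw [← h1, ← Scheme.Hom.comp_apply, hcomm, Scheme.Hom.comp_apply, hα]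
  obtain ⟨a, ha⟩ := factor5008 B α x hα
  obtain ⟨b, hb⟩ := factor5008 B' β (f.base x) hβ
  have hcompat : b ≫ CommRingCat.ofHom φ = f.stalkMap x ≫ a := by
    apply Spec.map_injective
    rw [← cancel_mono (Y.fromSpecStalk (f.base x)), Spec.map_comp, Spec.map_comp, Category.assoc,
      Category.assoc, hb, hcomm, ← ha, Category.assoc, Scheme.SpecMap_stalkMap_fromSpecStalk]
  letI : Algebra (Y.presheaf.stalk (f.base x)) (X.presheaf.stalk x) :=
    (f.stalkMap x).hom.toAlgebra
  haveI : Algebra.FormallySmooth (Y.presheaf.stalk (f.base x)) (X.presheaf.stalk x) := H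
  letI : Algebra (Y.presheaf.stalk (f.base x)) B' := b.hom.toAlgebra
  letI : Algebra (Y.presheaf.stalk (f.base x)) B := (φ.comp b.hom).toAlgebra
  let φA : B' →ₐ[Y.presheaf.stalk (f.base x)] B := { φ with commutes' := fun r => rfl }
  let aA : X.presheaf.stalk x →ₐ[Y.presheaf.stalk (f.base x)] B :=
    { a.hom with
      commutes' := fun r => by
        have := congr($(hcompat).hom r)
        exact this.symm }
  let c := Algebra.FormallySmooth.liftOfSurjective aA φA hφ ⟨2, hker⟩
  have hc : ∀ r, φ (c r) = a.hom r :=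
    Algebra.FormallySmooth.liftOfSurjective_apply aA φA hφ ⟨2, hker⟩
  have hc2 : ∀ r, c ((f.stalkMap x).hom r) = b.hom r := fun r => c.commutes r
  refine ⟨Spec.map (CommRingCat.ofHom c.toRingHom) ≫ X.fromSpecStalk x, ?_, ?_⟩
  · rw [← ha, ← Category.assoc, ← Spec.map_comp]
    congr 2
    ext r
    exact hc r
  · rw [Category.assoc, ← Scheme.SpecMap_stalkMap_fromSpecStalk, ← hb, ← Category.assoc,
      ← Spec.map_comp]
    congr 2
    ext r
    exact hc2 r

set_option backward.isDefEq.respectTransparency false in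
theorem bwd5008 {X Y : Scheme.{u}} (f : X ⟶ Y) (x : X)
    (H : ∀ (B B' : Type u) [CommRing B] [CommRing B'] [IsLocalRing B] [IsLocalRing B']
      (φ : B' →+* B),
      Function.Surjective φ → RingHom.ker φ ^ 2 = ⊥ →
      ∀ (α : Spec (CommRingCat.of B) ⟶ X) (β : Spec (CommRingCat.of B') ⟶ Y),
        α.base (IsLocalRing.closedPoint B) = x → Spec.map (CommRingCat.ofHom φ) ≫ β = α ≫ f →
        ∃ γ : Spec (CommRingCat.of B') ⟶ X,
          Spec.map (CommRingCat.ofHom φ) ≫ γ = α ∧ γ ≫ f = β) :
    (f.stalkMap x).hom.FormallySmooth := by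
  letI : Algebra (Y.presheaf.stalk (f.base x)) (X.presheaf.stalk x) :=
    (f.stalkMap x).hom.toAlgebra
  show Algebra.FormallySmooth (Y.presheaf.stalk (f.base x)) (X.presheaf.stalk x)
  let π : MvPolynomial (X.presheaf.stalk x) (Y.presheaf.stalk (f.base x)) →ₐ[
      Y.presheaf.stalk (f.base x)] X.presheaf.stalk x := MvPolynomial.aeval id
  have hπ : Function.Surjective π := fun c => ⟨MvPolynomial.X c, by simp [π]⟩
  rw [Algebra.FormallySmooth.iff_split_surjection π hπ]
  have hφ : Function.Surjective π.kerSquareLift := fun c => by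
    obtain ⟨p, rfl⟩ := hπ c
    exact ⟨Ideal.Quotient.mk _ p, AlgHom.kerSquareLift_mk π p⟩
  have hker : RingHom.ker π.kerSquareLift.toRingHom ^ 2 = ⊥ := by
    rw [AlgHom.ker_kerSquareLift, Ideal.cotangentIdeal_square]
  haveI : IsLocalRing (MvPolynomial (X.presheaf.stalk x) (Y.presheaf.stalk (f.base x)) ⧸
      RingHom.ker π.toRingHom ^ 2) :=
    isLocalRing_of_sq_zero5008 π.kerSquareLift.toRingHom hφ hker
  have hα : (X.fromSpecStalk x).base (closedPoint (X.presheaf.stalk x)) = x :=
    Scheme.fromSpecStalk_closedPoint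
  have hcomm : Spec.map (CommRingCat.ofHom π.kerSquareLift.toRingHom) ≫
      (Spec.map (CommRingCat.ofHom (algebraMap (Y.presheaf.stalk (f.base x))
        (MvPolynomial (X.presheaf.stalk x) (Y.presheaf.stalk (f.base x)) ⧸
          RingHom.ker π.toRingHom ^ 2))) ≫ Y.fromSpecStalk (f.base x)) =
      X.fromSpecStalk x ≫ f := by
    rw [← Category.assoc, ← Spec.map_comp, ← Scheme.SpecMap_stalkMap_fromSpecStalk]
    congr 2
    ext r
    exact π.kerSquareLift.commutes r
  obtain ⟨γ, hγ1, hγ2⟩ := H (X.presheaf.stalk x) _ π.kerSquareLift.toRingHom hφ hker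
    (X.fromSpecStalk x) _ hα hcomm
  have hγx : γ.base (closedPoint _) = x := by
    haveI : IsLocalHom π.kerSquareLift.toRingHom := IsLocalHom.of_surjective _ hφ
    have h1 : (Spec.map (CommRingCat.ofHom π.kerSquareLift.toRingHom)).base
        (closedPoint (X.presheaf.stalk x)) = closedPoint _ :=
      IsLocalRing.comap_closedPoint π.kerSquareLift.toRingHom
    rw [← h1, ← Scheme.Hom.comp_apply, hγ1]
    exact hα
  obtain ⟨g, hg⟩ := factor5008 _ γ x hγx
  have hg1 : g ≫ CommRingCat.ofHom π.kerSquareLift.toRingHom = 𝟙 (X.presheaf.stalk x) := by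
    apply Spec.map_injective
    rw [← cancel_mono (X.fromSpecStalk x), Spec.map_comp, Category.assoc, hg, hγ1, Spec.map_id]
    exact (Category.id_comp _).symm
  have hg2 : f.stalkMap x ≫ g = CommRingCat.ofHom (algebraMap (Y.presheaf.stalk (f.base x))
      (MvPolynomial (X.presheaf.stalk x) (Y.presheaf.stalk (f.base x)) ⧸
        RingHom.ker π.toRingHom ^ 2)) := by
    apply Spec.map_injective
    rw [← cancel_mono (Y.fromSpecStalk (f.base x)), Spec.map_comp, Category.assoc,
      Scheme.SpecMap_stalkMap_fromSpecStalk, ← Category.assoc, hg, hγ2]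
  refine ⟨{ g.hom with commutes' := fun r => congr($(hg2).hom r) }, ?_⟩
  ext c
  exact congr($(hg1).hom c)

end Helpers

/-- Let f : X ⟶ Y be locally of finite presentation and x a point of X. Then f is smooth at x if and
only if for every surjection of local rings B' → B with square-zero kernel, every morphism Spec B ⟶
X sending the closed point to x and every morphism Spec B' ⟶ Y making the square commute, there is a
lift Spec B' ⟶ X compatible with both. (No Noetherian hypothesis on Y.) -/
theorem result {X Y : Scheme.{u}} (f : X ⟶ Y)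
    [LocallyOfFinitePresentation f] (x : ↥X) :
    x ∈ f.smoothLocus ↔ ∀ (B B' : Type u) [CommRing B] [CommRing B'] [IsLocalRing B] [IsLocalRing B'] (φ : B' →+* B),
      Function.Surjective φ → RingHom.ker φ ^ 2 = ⊥ →
      ∀ (α : Spec (CommRingCat.of B) ⟶ X) (β : Spec (CommRingCat.of B') ⟶ Y),
        α.base (IsLocalRing.closedPoint B) = x → Spec.map (CommRingCat.ofHom φ) ≫ β = α ≫ f →
        ∃ γ : Spec (CommRingCat.of B') ⟶ X, Spec.map (CommRingCat.ofHom φ) ≫ γ = α ∧ γ ≫ f = β := by
  rw [Scheme.Hom.mem_smoothLocus]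
  constructor
  · intro H B B' _ _ _ _ φ hφ hker α β hα hcomm
    exact fwd5008 f x H B B' φ hφ hker α β hα hcomm
  · intro H
    exact bwd5008 f x H

end Groth.Agent.S5008
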