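import Groth.Statements.S5009
import Mathlib
import Groth.Agent.S9565

set_option autoImplicit false
universe u
open CategoryTheory CategoryTheory.Limits AlgebraicGeometry TopologicalSpace
open Unram17

namespace Groth.Agent.S5009

section Helpers
open AlgebraicGeometry CategoryTheory CategoryTheory.Limits TopologicalSpace

theorem fu_of_unique_lift {R A : Type u} [CommRing R] [CommRing A] [Algebra R A] [IsLocalRing A]
    (H : ∀ (B' : Type u) [CommRing B'] [IsLocalRing B'] (φ : B' →+* A), Function.Surjective φ →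
      RingHom.ker φ ^ 2 = ⊥ →
      ∀ ψ₁ ψ₂ : A →+* B', φ.comp ψ₁ = RingHom.id A → φ.comp ψ₂ = RingHom.id A →
        ψ₁.comp (algebraMap R A) = ψ₂.comp (algebraMap R A) → ψ₁ = ψ₂) :
    Algebra.FormallyUnramified R A := by
  letI : Module Aᵐᵒᵖ (Ω[A⁄R]) :=
    Module.compHom _ ((RingHom.id A).fromOpposite (fun x y => Commute.all _ _))
  haveI : IsCentralScalar A (Ω[A⁄R]) := ⟨fun a m => rfl⟩
  let φ : TrivSqZeroExt A (Ω[A⁄R]) →+* A := (TrivSqZeroExt.fstHom A A (Ω[A⁄R])).toRingHom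
  haveI : IsLocalHom φ := ⟨fun x hx => TrivSqZeroExt.isUnit_iff_isUnit_fst.mpr hx⟩
  haveI : IsLocalRing (TrivSqZeroExt A (Ω[A⁄R])) := φ.domain_isLocalRing
  have hφs : Function.Surjective φ := fun a => ⟨TrivSqZeroExt.inl a, TrivSqZeroExt.fst_inl (Ω[A⁄R]) a⟩
  have hker : RingHom.ker φ ^ 2 = ⊥ := by
    rw [eq_bot_iff, pow_two, Ideal.mul_le]
    intro x hx y hy
    have hx' : x.fst = 0 := hx
    have hy' : y.fst = 0 := hy
    rw [Ideal.mem_bot]
    apply TrivSqZeroExt.ext
    · simp [hx', hy']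
    · simp [hx', hy']
  let ψ₁ : A →+* TrivSqZeroExt A (Ω[A⁄R]) := TrivSqZeroExt.inlHom A (Ω[A⁄R])
  let ψ₂ : A →+* TrivSqZeroExt A (Ω[A⁄R]) :=
    { toFun := fun a => TrivSqZeroExt.inl a + TrivSqZeroExt.inr (KaehlerDifferential.D R A a)
      map_one' := by simp
      map_mul' := fun a b => by
        apply TrivSqZeroExt.ext
        · simp
        · simp [Derivation.leibniz, add_comm]
      map_zero' := by simp
      map_add' := fun a b => by
        apply TrivSqZeroExt.ext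
        · simp
        · simp }
  have h12 := H (TrivSqZeroExt A (Ω[A⁄R])) φ hφs hker ψ₁ ψ₂
    (by ext a; simp [φ, ψ₁]) (by ext a; simp [φ, ψ₂])
    (by ext r <;> simp [ψ₁, ψ₂])
  have hD : ∀ a, KaehlerDifferential.D R A a = 0 := by
    intro a
    have := congrArg (fun ψ : A →+* TrivSqZeroExt A (Ω[A⁄R]) => (ψ a).snd) h12
    simpa [ψ₁, ψ₂] using this.symm
  constructor
  have : (⊥ : Submodule A (Ω[A⁄R])) = ⊤ := by
    rw [← KaehlerDifferential.span_range_derivation R A, eq_comm, Submodule.span_eq_bot]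
    rintro _ ⟨a, rfl⟩
    exact hD a
  exact (Submodule.subsingleton_iff A).mp (subsingleton_of_bot_eq_top this)

set_option backward.isDefEq.respectTransparency false in
theorem nilpotent_ker {B B' : Type u} [CommRing B] [CommRing B'] (φ : B' →+* B)
    (hker : RingHom.ker φ ^ 2 = ⊥) :
    IsNilpotent (Spec.map (CommRingCat.ofHom φ)).ker := by
  refine ⟨2, ?_⟩
  apply Scheme.IdealSheafData.equivOfIsAffine.injective
  rw [map_pow, map_zero]
  change ((Spec.map (CommRingCat.ofHom φ)).ker.ideal ⟨⊤, isAffineOpen_top _⟩) ^ 2 = 0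
  rw [Scheme.ker_of_isAffine]
  have hsimp : (Scheme.IdealSheafData.ofIdealTop
      (RingHom.ker (Spec.map (CommRingCat.ofHom φ)).appTop.hom)).ideal
        ⟨⊤, isAffineOpen_top _⟩ = RingHom.ker (Spec.map (CommRingCat.ofHom φ)).appTop.hom := by
    simp
  rw [hsimp, Ideal.zero_eq_bot, eq_bot_iff, pow_two, Ideal.mul_le]
  intro a ha b hb
  have hnat := Scheme.ΓSpecIso_naturality (CommRingCat.ofHom φ)
  have key : ∀ c, (Spec.map (CommRingCat.ofHom φ)).appTop.hom c = 0 →
      (Scheme.ΓSpecIso (CommRingCat.of B')).hom.hom c ∈ RingHom.ker φ := by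
    intro c hc
    have h1 := congrArg (fun k => k.hom c) hnat
    simp only [CommRingCat.hom_comp, RingHom.comp_apply, CommRingCat.hom_ofHom] at h1
    rw [RingHom.mem_ker, ← h1, hc, map_zero]
  have hab : (Scheme.ΓSpecIso (CommRingCat.of B')).hom.hom (a * b) ∈ RingHom.ker φ ^ 2 := by
    rw [map_mul, pow_two]
    exact Ideal.mul_mem_mul (key a ha) (key b hb)
  rw [hker, Ideal.mem_bot] at hab
  have hinj : Function.Injective (Scheme.ΓSpecIso (CommRingCat.of B')).hom.hom :=
    (ConcreteCategory.bijective_of_isIso (Scheme.ΓSpecIso (CommRingCat.of B')).hom).1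
  rw [Ideal.mem_bot]
  exact hinj (by rw [hab, map_zero])

set_option backward.isDefEq.respectTransparency false in
theorem unique_of_nbhd {X Y : Scheme.{u}} (f : X ⟶ Y) (x : X) (U : X.Opens) (hxU : x ∈ U)
    [FormallyUnramified (U.ι ≫ f)]
    (B B' : Type u) [CommRing B] [CommRing B'] [IsLocalRing B] [IsLocalRing B'] (φ : B' →+* B)
    (hφ : Function.Surjective φ) (hker : RingHom.ker φ ^ 2 = ⊥)
    (α : Spec (CommRingCat.of B) ⟶ X) (hα : α.base (IsLocalRing.closedPoint B) = x)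
    (γ₁ γ₂ : Spec (CommRingCat.of B') ⟶ X)
    (h1 : Spec.map (CommRingCat.ofHom φ) ≫ γ₁ = α) (h2 : Spec.map (CommRingCat.ofHom φ) ≫ γ₂ = α)
    (h12 : γ₁ ≫ f = γ₂ ≫ f) : γ₁ = γ₂ := by
  haveI : IsLocalHom φ := hφ.isLocalHom
  have hcl : (Spec.map (CommRingCat.ofHom φ)) (IsLocalRing.closedPoint B) =
      IsLocalRing.closedPoint B' := IsLocalRing.comap_closedPoint φ
  have hrange : ∀ γ : Spec (CommRingCat.of B') ⟶ X, Spec.map (CommRingCat.ofHom φ) ≫ γ = α →
      Set.range ⇑γ ⊆ Set.range ⇑U.ι := by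
    intro γ hγ
    rintro _ ⟨p, rfl⟩
    have hp : p ⤳ IsLocalRing.closedPoint B' := IsLocalRing.specializes_closedPoint p
    have hγcl : γ (IsLocalRing.closedPoint B') = x := by
      rw [← hcl, ← Scheme.Hom.comp_apply, hγ]; exact hα
    have h3 : γ p ⤳ γ (IsLocalRing.closedPoint B') := hp.map γ.continuous
    have h4 : γ p ∈ U := h3.mem_open U.isOpen (hγcl ▸ hxU)
    rw [Scheme.Opens.range_ι]; exact h4
  have e1 : IsOpenImmersion.lift U.ι γ₁ (hrange γ₁ h1) ≫ U.ι = γ₁ :=
    IsOpenImmersion.lift_fac _ _ _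
  have e2 : IsOpenImmersion.lift U.ι γ₂ (hrange γ₂ h2) ≫ U.ι = γ₂ :=
    IsOpenImmersion.lift_fac _ _ _
  haveI : IsClosedImmersion (Spec.map (CommRingCat.ofHom φ)) :=
    IsClosedImmersion.spec_of_surjective _ hφ
  have hnil : IsNilpotent (Spec.map (CommRingCat.ofHom φ)).ker := nilpotent_ker φ hker
  have : IsOpenImmersion.lift U.ι γ₁ (hrange γ₁ h1) =
      IsOpenImmersion.lift U.ι γ₂ (hrange γ₂ h2) := by
    apply FormallyUnramified.hom_ext (Spec.map (CommRingCat.ofHom φ)) hnil (U.ι ≫ f)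
    · rw [← cancel_mono U.ι, Category.assoc, Category.assoc, e1, e2, h1, h2]
    · rw [← Category.assoc, ← Category.assoc, e1, e2, h12]
  rw [← e1, ← e2, this]

set_option backward.isDefEq.respectTransparency false in
theorem stalk_fu_of_unique {X Y : Scheme.{u}} (f : X ⟶ Y) (x : X)
    (H : ∀ (B B' : Type u) [CommRing B] [CommRing B'] [IsLocalRing B] [IsLocalRing B']
      (φ : B' →+* B),
      Function.Surjective φ → RingHom.ker φ ^ 2 = ⊥ →
      ∀ (α : Spec (CommRingCat.of B) ⟶ X) (β : Spec (CommRingCat.of B') ⟶ Y),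
        α.base (IsLocalRing.closedPoint B) = x → Spec.map (CommRingCat.ofHom φ) ≫ β = α ≫ f →
        ∀ γ₁ γ₂ : Spec (CommRingCat.of B') ⟶ X,
          Spec.map (CommRingCat.ofHom φ) ≫ γ₁ = α → γ₁ ≫ f = β →
          Spec.map (CommRingCat.ofHom φ) ≫ γ₂ = α → γ₂ ≫ f = β → γ₁ = γ₂) :
    (f.stalkMap x).hom.FormallyUnramified := by
  letI := (f.stalkMap x).hom.toAlgebra
  show Algebra.FormallyUnramified (Y.presheaf.stalk (f x)) (X.presheaf.stalk x)
  apply fu_of_unique_lift
  intro B' _ _ φ hφ hker ψ₁ ψ₂ h1 h2 h12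
  have hφψ : ∀ ψ : (X.presheaf.stalk x) →+* B', φ.comp ψ = RingHom.id _ →
      Spec.map (CommRingCat.ofHom φ) ≫ Spec.map (CommRingCat.ofHom ψ) ≫ X.fromSpecStalk x =
        X.fromSpecStalk x := by
    intro ψ hψ
    rw [← Category.assoc, ← Spec.map_comp, ← CommRingCat.ofHom_comp, hψ]
    simp
  have h12' : Spec.map (CommRingCat.ofHom ψ₂) ≫ X.fromSpecStalk x ≫ f =
      Spec.map (CommRingCat.ofHom ψ₁) ≫ X.fromSpecStalk x ≫ f := by
    rw [← Scheme.SpecMap_stalkMap_fromSpecStalk, ← Category.assoc, ← Category.assoc,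
      ← Spec.map_comp, ← Spec.map_comp]
    congr 2
    ext a
    exact (RingHom.congr_fun h12 a).symm
  have := H (X.presheaf.stalk x) B' φ hφ hker (X.fromSpecStalk x)
    (Spec.map (CommRingCat.ofHom ψ₁) ≫ X.fromSpecStalk x ≫ f) Scheme.fromSpecStalk_closedPoint
    (by rw [← Category.assoc, ← Category.assoc, Category.assoc _ _ (X.fromSpecStalk x),
      hφψ ψ₁ h1])
    (Spec.map (CommRingCat.ofHom ψ₁) ≫ X.fromSpecStalk x)
    (Spec.map (CommRingCat.ofHom ψ₂) ≫ X.fromSpecStalk x)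
    (hφψ ψ₁ h1) (Category.assoc _ _ _) (hφψ ψ₂ h2) ((Category.assoc _ _ _).trans h12')
  rw [cancel_mono] at this
  have h3 := Spec.map_injective this
  have h4 := congrArg CommRingCat.Hom.hom h3
  exact h4

end Helpers

/-- Let f : X ⟶ Y be locally of finite presentation and x a point of X. Then f is (formally) unramified
on an open neighbourhood of x if and only if for every surjection of local rings B' → B with
square-zero kernel, every morphism Spec B ⟶ X sending the closed point to x and every morphism Spec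
B' ⟶ Y making the square commute, any two lifts Spec B' ⟶ X compatible with both are equal. -/
theorem result {X Y : Scheme.{u}} (f : X ⟶ Y)
    [LocallyOfFinitePresentation f] (x : ↥X) :
    (∃ U : X.Opens, x ∈ U ∧ FormallyUnramified (U.ι ≫ f)) ↔
      ∀ (B B' : Type u) [CommRing B] [CommRing B'] [IsLocalRing B] [IsLocalRing B'] (φ : B' →+* B),
      Function.Surjective φ → RingHom.ker φ ^ 2 = ⊥ →
      ∀ (α : Spec (CommRingCat.of B) ⟶ X) (β : Spec (CommRingCat.of B') ⟶ Y),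
        α.base (IsLocalRing.closedPoint B) = x → Spec.map (CommRingCat.ofHom φ) ≫ β = α ≫ f →
        ∀ γ₁ γ₂ : Spec (CommRingCat.of B') ⟶ X,
          Spec.map (CommRingCat.ofHom φ) ≫ γ₁ = α → γ₁ ≫ f = β →
          Spec.map (CommRingCat.ofHom φ) ≫ γ₂ = α → γ₂ ≫ f = β → γ₁ = γ₂ := by
  constructor
  · rintro ⟨U, hxU, hU⟩ B B' _ _ _ _ φ hφ hker α β hα hβ γ₁ γ₂ h1 h1' h2 h2'
    exact unique_of_nbhd f x U hxU B B' φ hφ hker α hα γ₁ γ₂ h1 h2 (h1'.trans h2'.symm)
  · intro H
    exact Groth.Agent.S9565.nbhd_of_stalk_fu f x (stalk_fu_of_unique f x H)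

end Groth.Agent.S5009
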