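import Groth.Statements.S5011
import Mathlib

set_option autoImplicit false
universe u
open CategoryTheory CategoryTheory.Limits AlgebraicGeometry TopologicalSpace
open Unram17

namespace Groth.Agent.S5011

open IsLocalRing

theorem lemmaA {R S : Type u} [CommRing R] [CommRing S] [IsLocalRing R] [IsLocalRing S]
    [Algebra R S] [IsLocalHom (algebraMap R S)] [Algebra.EssFiniteType R S] :
    Algebra.FormallyUnramified R S ↔
      (IsField (S ⧸ (maximalIdeal R).map (algebraMap R S)) ∧
        Module.Finite (R ⧸ maximalIdeal R) (S ⧸ (maximalIdeal R).map (algebraMap R S)) ∧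
        Algebra.IsSeparable (R ⧸ maximalIdeal R) (S ⧸ (maximalIdeal R).map (algebraMap R S))) := by
  constructor
  · intro hφ
    have hfield : IsField (S ⧸ (maximalIdeal R).map (algebraMap R S)) :=
      Algebra.FormallyUnramified.isField_quotient_map_maximalIdeal
    have : Algebra.FormallyUnramified (R ⧸ maximalIdeal R)
        (S ⧸ (maximalIdeal R).map (algebraMap R S)) := .of_restrictScalars R _ _
    have : Algebra.EssFiniteType (R ⧸ maximalIdeal R)
        (S ⧸ (maximalIdeal R).map (algebraMap R S)) := .of_comp R _ _
    letI : Field (R ⧸ maximalIdeal R) := Ideal.Quotient.field _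
    have hfinite : Module.Finite (R ⧸ maximalIdeal R)
        (S ⧸ (maximalIdeal R).map (algebraMap R S)) :=
      Algebra.FormallyUnramified.finite_of_free _ _
    letI := hfield.toField
    have hsep : Algebra.IsSeparable (R ⧸ maximalIdeal R)
        (S ⧸ (maximalIdeal R).map (algebraMap R S)) :=
      Algebra.FormallyUnramified.isSeparable _ _
    exact ⟨hfield, hfinite, hsep⟩
  · rintro ⟨hfield, hfinite, hsep⟩
    have hmax : ((maximalIdeal R).map (algebraMap R S)).IsMaximal :=
      Ideal.Quotient.maximal_of_isField _ hfield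
    have H : (maximalIdeal R).map (algebraMap R S) = maximalIdeal S := eq_maximalIdeal hmax
    let e0 : (S ⧸ (maximalIdeal R).map (algebraMap R S)) ≃+* ResidueField S :=
      Ideal.quotEquivOfEq H
    letI : Algebra (ResidueField R) (S ⧸ (maximalIdeal R).map (algebraMap R S)) :=
      (inferInstance : Algebra (R ⧸ maximalIdeal R) (S ⧸ (maximalIdeal R).map (algebraMap R S)))
    let e : (S ⧸ (maximalIdeal R).map (algebraMap R S)) ≃ₐ[ResidueField R] ResidueField S :=
      AlgEquiv.ofRingEquiv (f := e0) (by
        intro x
        obtain ⟨r, rfl⟩ := Ideal.Quotient.mk_surjective x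
        rfl)
    haveI : Algebra.IsSeparable (ResidueField R)
        (S ⧸ (maximalIdeal R).map (algebraMap R S)) := hsep
    haveI : Algebra.IsSeparable (ResidueField R) (ResidueField S) :=
      AlgEquiv.Algebra.isSeparable e
    exact Algebra.FormallyUnramified.of_map_maximalIdeal H

theorem lemmaB {R S : Type u} [CommRing R] [CommRing S] [IsLocalRing R] [IsLocalRing S]
    [Algebra R S] [IsLocalHom (algebraMap R S)] [Algebra.EssFiniteType R S]
    (alg : Algebra (R ⧸ maximalIdeal R) (S ⧸ (maximalIdeal R).map (algebraMap R S)))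
    (halg : ∀ r, @algebraMap _ _ _ _ alg r =
      Ideal.quotientMap ((maximalIdeal R).map (algebraMap R S)) (algebraMap R S)
        Ideal.le_comap_map r) :
    Algebra.FormallyUnramified R S ↔
      (IsField (S ⧸ (maximalIdeal R).map (algebraMap R S)) ∧
        Module.Finite (R ⧸ maximalIdeal R) (S ⧸ (maximalIdeal R).map (algebraMap R S)) ∧
        Algebra.IsSeparable (R ⧸ maximalIdeal R) (S ⧸ (maximalIdeal R).map (algebraMap R S))) := by
  obtain rfl : alg = Ideal.Quotient.algebraQuotientMapQuotient :=
    Algebra.algebra_ext _ _ halg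
  exact lemmaA

theorem ringLemma {R S : Type u} [CommRing R] [CommRing S] [IsLocalRing R] [IsLocalRing S]
    (φ : R →+* S) [IsLocalHom φ] (hfin : φ.EssFiniteType) :
    φ.FormallyUnramified ↔
      (letI := (Ideal.quotientMap ((maximalIdeal R).map φ) φ Ideal.le_comap_map).toAlgebra
       IsField (S ⧸ (maximalIdeal R).map φ) ∧
        Module.Finite (R ⧸ maximalIdeal R) (S ⧸ (maximalIdeal R).map φ) ∧
        Algebra.IsSeparable (R ⧸ maximalIdeal R) (S ⧸ (maximalIdeal R).map φ)) := by
  letI := φ.toAlgebra
  haveI : IsLocalHom (algebraMap R S) := ‹IsLocalHom φ›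
  haveI : Algebra.EssFiniteType R S := hfin
  exact lemmaB (R := R) (S := S)
    (Ideal.quotientMap ((maximalIdeal R).map φ) φ Ideal.le_comap_map).toAlgebra (fun r => rfl)


/-- Let f : X ⟶ Y be locally of finite presentation. Then f is etale if and only if f is flat and, for
every point x of X with image y, the quotient of the local ring of X at x by the extension of the
maximal ideal of the local ring of Y at y is a field, finite and separable over the residue field
κ(y); that is, every fibre of f is a sum of spectra of finite separable extensions of the residue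
field. -/
theorem result {X Y : Scheme.{u}} (f : X ⟶ Y)
    [LocallyOfFinitePresentation f] :
    Etale f ↔ Flat f ∧ ∀ x : ↥X,
      letI φ := (f.stalkMap x).hom
      letI 𝔪 := IsLocalRing.maximalIdeal ↑(Y.presheaf.stalk (f.base x))
      letI := (Ideal.quotientMap (𝔪.map φ) φ Ideal.le_comap_map).toAlgebra
      IsField (↑(X.presheaf.stalk x) ⧸ 𝔪.map φ) ∧
        Module.Finite (↑(Y.presheaf.stalk (f.base x)) ⧸ 𝔪) (↑(X.presheaf.stalk x) ⧸ 𝔪.map φ) ∧
        Algebra.IsSeparable (↑(Y.presheaf.stalk (f.base x)) ⧸ 𝔪) (↑(X.presheaf.stalk x) ⧸ 𝔪.map φ) := by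
  constructor
  · intro hf
    refine ⟨inferInstance, fun x => ?_⟩
    exact (ringLemma (f.stalkMap x).hom (LocallyOfFiniteType.stalkMap f x)).mp
      (FormallyUnramified.stalkMap f x)
  · rintro ⟨hflat, h⟩
    haveI : FormallyUnramified f :=
      HasRingHomProperty.of_stalkMap RingHom.FormallyUnramified.ofLocalizationPrime
        (fun x => (ringLemma (f.stalkMap x).hom (LocallyOfFiniteType.stalkMap f x)).mpr (h x))
    exact Etale.of_formallyUnramified_of_flat f

end Groth.Agent.S5011
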