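import Groth.Statements.S5012
import Mathlib
import Groth.Agent.H11.GeomRedSmooth

set_option autoImplicit false
universe u
open Unram17

namespace Groth.Agent.S5012

section Helpers
open TopologicalSpace

theorem artinian5012 (A : Type u) [CommRing A] [IsNoetherianRing A] (p : Ideal A) [p.IsPrime]
    (hp : p ∈ minimalPrimes A) : IsArtinianRing (Localization.AtPrime p) := by
  haveI : IsNoetherianRing (Localization.AtPrime p) :=
    IsLocalization.isNoetherianRing p.primeCompl (Localization.AtPrime p) inferInstance
  rw [isArtinianRing_iff_isNoetherianRing_krullDimLE_zero]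
  refine ⟨inferInstance, ?_⟩
  rw [Ring.krullDimLE_iff, IsLocalization.AtPrime.ringKrullDim_eq_height p,
    Ideal.height_eq_zero_iff.mpr hp]
  simp

theorem fwd5012 (k A : Type u) [Field k] [CommRing A] [Algebra k A] [Algebra.FiniteType k A]
    (U : Opens (PrimeSpectrum A)) (hU : Dense (U : Set (PrimeSpectrum A)))
    (hsm : ∀ p ∈ U, Algebra.IsSmoothAt k p.asIdeal)
    (p : Ideal A) [p.IsPrime] (hp : p ∈ minimalPrimes A) :
    Algebra.IsGeometricallyReduced k (Localization.AtPrime p) := by
  haveI : IsNoetherianRing A := Algebra.FiniteType.isNoetherianRing k A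
  have hpU : (⟨p, inferInstance⟩ : PrimeSpectrum A) ∈ U := by
    let T : Set (PrimeSpectrum A) :=
      ⋃ p' ∈ (minimalPrimes A \ {p}), PrimeSpectrum.zeroLocus (p' : Set A)
    have hT : IsClosed T :=
      Set.Finite.isClosed_biUnion
        ((minimalPrimes.finite_of_isNoetherianRing A).subset Set.diff_subset)
        fun p' _ => PrimeSpectrum.isClosed_zeroLocus _
    have hpT : (⟨p, inferInstance⟩ : PrimeSpectrum A) ∉ T := by
      intro h
      obtain ⟨p', hp', hmem⟩ := Set.mem_iUnion₂.mp h
      have hle : p' ≤ p := (PrimeSpectrum.mem_zeroLocus _ _).mp hmem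
      have hge : p ≤ p' := hp.2 ⟨hp'.1.1.1, bot_le⟩ hle
      exact hp'.2 (le_antisymm hle hge)
    obtain ⟨q, hqT, hqU⟩ := hU.inter_open_nonempty Tᶜ hT.isOpen_compl ⟨_, hpT⟩
    obtain ⟨p'', hp''min, hp''le⟩ :=
      Ideal.exists_minimalPrimes_le (bot_le : (⊥ : Ideal A) ≤ q.asIdeal)
    have hp''eq : p'' = p := by
      by_contra hne
      apply hqT
      exact Set.mem_biUnion (⟨hp''min, hne⟩ : p'' ∈ minimalPrimes A \ {p})
        ((PrimeSpectrum.mem_zeroLocus _ _).mpr hp''le)
    rw [hp''eq] at hp''le
    have hspec : (⟨p, inferInstance⟩ : PrimeSpectrum A) ⤳ q :=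
      (PrimeSpectrum.le_iff_specializes _ _).mp hp''le
    exact hspec.mem_open U.2 hqU
  haveI hsmp : Algebra.FormallySmooth k (Localization.AtPrime p) := hsm ⟨p, inferInstance⟩ hpU
  haveI := artinian5012 A p hp
  haveI : IsReduced (Localization.AtPrime p) :=
    Groth.Agent.H11.GeomRedSmooth.isReduced_of_formallySmooth_of_isArtinianRing k _
  have hF : IsField (Localization.AtPrime p) :=
    IsArtinianRing.isField_of_isReduced_of_isLocalRing _
  letI : Field (Localization.AtPrime p) := hF.toField
  exact Groth.Agent.H11.GeomRedSmooth.isGeometricallyReduced_of_formallySmooth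

theorem bwd5012 (k A : Type u) [Field k] [CommRing A] [Algebra k A] [Algebra.FiniteType k A]
    (h : ∀ (p : Ideal A) [p.IsPrime], p ∈ minimalPrimes A →
      Algebra.IsGeometricallyReduced k (Localization.AtPrime p)) :
    ∃ U : Opens (PrimeSpectrum A), Dense (U : Set (PrimeSpectrum A)) ∧
      ∀ p ∈ U, Algebra.IsSmoothAt k p.asIdeal := by
  haveI : IsNoetherianRing A := Algebra.FiniteType.isNoetherianRing k A
  haveI : Algebra.FinitePresentation k A :=
    Algebra.FinitePresentation.of_finiteType.mp inferInstance
  refine ⟨⟨Algebra.smoothLocus k A, Algebra.isOpen_smoothLocus⟩, ?_, fun p hp => hp⟩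
  rw [dense_iff_inter_open]
  rintro O hO ⟨q, hq⟩
  obtain ⟨p, hpmin, hple⟩ :=
    Ideal.exists_minimalPrimes_le (bot_le : (⊥ : Ideal A) ≤ q.asIdeal)
  haveI : p.IsPrime := hpmin.1.1
  have hspec : (⟨p, inferInstance⟩ : PrimeSpectrum A) ⤳ q :=
    (PrimeSpectrum.le_iff_specializes _ _).mp hple
  refine ⟨⟨p, inferInstance⟩, hspec.mem_open hO hq, ?_⟩
  show Algebra.FormallySmooth k (Localization.AtPrime p)
  haveI := h p hpmin
  haveI : IsReduced (Localization.AtPrime p) := Algebra.isReduced_of_isGeometricallyReduced k
  haveI := artinian5012 A p hpmin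
  have hF : IsField (Localization.AtPrime p) :=
    IsArtinianRing.isField_of_isReduced_of_isLocalRing _
  letI : Field (Localization.AtPrime p) := hF.toField
  exact Groth.Agent.H27.FieldSmooth.formallySmooth_of_geomReduced

end Helpers

/-- Let A be an algebra of finite type over a field k. Then Spec A has a dense open subset consisting of
points at which A is smooth over k if and only if, for every minimal prime p of A, the local ring
A_p is geometrically reduced over k (that is, A_p is a field and a separable extension of k). -/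
theorem result (k A : Type u) [Field k] [CommRing A] [Algebra k A]
    [Algebra.FiniteType k A] :
    (∃ U : TopologicalSpace.Opens (PrimeSpectrum A), Dense (U : Set (PrimeSpectrum A)) ∧
        ∀ p ∈ U, Algebra.IsSmoothAt k p.asIdeal) ↔
      ∀ (p : Ideal A) [p.IsPrime], p ∈ minimalPrimes A →
        Algebra.IsGeometricallyReduced k (Localization.AtPrime p) := by
  constructor
  · rintro ⟨U, hU, hsm⟩ p _ hp
    exact fwd5012 k A U hU hsm p hp
  · intro h
    exact bwd5012 k A h

end Groth.Agent.S5012
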