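import Groth.Statements.S5014
import Mathlib

set_option autoImplicit false
universe u
open Unram17

namespace Groth.Agent.S5014


/-- Let C be a smooth algebra over a commutative ring A, equipped with an A-algebra map from the
polynomial ring in r variables (images s_i of the variables), and let q be a prime of C. Then C is
etale at q over the polynomial ring if and only if the differentials of the s_i are linearly
independent and generate the module of differentials of the local ring C_q over A, i.e. form a basis
of it. -/
theorem result (A C : Type u) [CommRing A] [CommRing C]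
    [Algebra A C] [Algebra.Smooth A C] (r : ℕ) [Algebra (MvPolynomial (Fin r) A) C]
    [IsScalarTower A (MvPolynomial (Fin r) A) C] (q : Ideal C) [q.IsPrime] :
    Algebra.IsEtaleAt (MvPolynomial (Fin r) A) q ↔
      LinearIndependent (Localization.AtPrime q)
          (fun i : Fin r => KaehlerDifferential.D A (Localization.AtPrime q)
            (algebraMap C (Localization.AtPrime q) (algebraMap (MvPolynomial (Fin r) A) C (MvPolynomial.X i)))) ∧
        Submodule.span (Localization.AtPrime q)
          (Set.range fun i : Fin r => KaehlerDifferential.D A (Localization.AtPrime q)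
            (algebraMap C (Localization.AtPrime q) (algebraMap (MvPolynomial (Fin r) A) C (MvPolynomial.X i)))) = ⊤ := by
  haveI : Algebra.FormallySmooth C (Localization.AtPrime q) :=
    Algebra.FormallySmooth.of_isLocalization q.primeCompl
  haveI : Algebra.FormallySmooth A (Localization.AtPrime q) :=
    Algebra.FormallySmooth.comp A C (Localization.AtPrime q)
  have hH1 : Subsingleton (Algebra.H1Cotangent A (Localization.AtPrime q)) :=
    Algebra.FormallySmooth.subsingleton_h1Cotangent
  let m := KaehlerDifferential.mapBaseChange A (MvPolynomial (Fin r) A) (Localization.AtPrime q)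
  let β := (KaehlerDifferential.mvPolynomialBasis A (Fin r)).baseChange (Localization.AtPrime q)
  have hmβ : ∀ i, m (β i) = KaehlerDifferential.D A (Localization.AtPrime q)
      (algebraMap C (Localization.AtPrime q) (algebraMap (MvPolynomial (Fin r) A) C (MvPolynomial.X i))) := by
    intro i
    simp only [m, β, Module.Basis.baseChange_apply, KaehlerDifferential.mvPolynomialBasis_apply,
      KaehlerDifferential.mapBaseChange_tmul, KaehlerDifferential.map_D, one_smul]
    rw [← IsScalarTower.algebraMap_apply]
  have hfun : (fun i : Fin r => KaehlerDifferential.D A (Localization.AtPrime q)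
      (algebraMap C (Localization.AtPrime q) (algebraMap (MvPolynomial (Fin r) A) C (MvPolynomial.X i)))) =
      m ∘ β := by
    funext i; exact (hmβ i).symm
  rw [hfun]
  have step1 : Algebra.IsEtaleAt (MvPolynomial (Fin r) A) q ↔ Function.Bijective m := by
    unfold Algebra.IsEtaleAt
    rw [Algebra.formallyEtale_iff]
    have hex1 := KaehlerDifferential.exact_mapBaseChange_map A (MvPolynomial (Fin r) A)
      (Localization.AtPrime q)
    have hsurj := KaehlerDifferential.map_surjective A (MvPolynomial (Fin r) A)
      (Localization.AtPrime q)
    have hex2 := Algebra.H1Cotangent.exact_δ_mapBaseChange A (MvPolynomial (Fin r) A)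
      (Localization.AtPrime q)
    have hex3 := Algebra.H1Cotangent.exact_map_δ A (MvPolynomial (Fin r) A)
      (Localization.AtPrime q)
    constructor
    · rintro ⟨h1, h2⟩
      constructor
      · rw [injective_iff_map_eq_zero]
        intro x hx
        obtain ⟨y, rfl⟩ := (hex2 x).mp hx
        rw [Subsingleton.elim y 0, map_zero]
      · intro z
        exact (hex1 z).mp (Subsingleton.elim _ _)
    · rintro ⟨hinj, hsur⟩
      constructor
      · refine ⟨fun a b => ?_⟩
        obtain ⟨a', rfl⟩ := hsurj a
        obtain ⟨b', rfl⟩ := hsurj b
        obtain ⟨a'', rfl⟩ := hsur a'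
        obtain ⟨b'', rfl⟩ := hsur b'
        rw [(hex1 _).mpr ⟨a'', rfl⟩, (hex1 _).mpr ⟨b'', rfl⟩]
      · have hδ0 : ∀ y, Algebra.H1Cotangent.δ A (MvPolynomial (Fin r) A) (Localization.AtPrime q) y = 0 := by
          intro y
          apply hinj
          rw [map_zero]
          exact (hex2 _).mpr ⟨y, rfl⟩
        have hy0 : ∀ y : Algebra.H1Cotangent (MvPolynomial (Fin r) A) (Localization.AtPrime q), y = 0 := by
          intro y
          obtain ⟨z, rfl⟩ := (hex3 y).mp (hδ0 y)
          rw [Subsingleton.elim z 0, map_zero]
        exact ⟨fun a b => (hy0 a).trans (hy0 b).symm⟩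
  rw [step1]
  constructor
  · intro hbij
    constructor
    · exact β.linearIndependent.map' m (LinearMap.ker_eq_bot.mpr hbij.1)
    · rw [Set.range_comp, ← Submodule.map_span, β.span_eq, Submodule.map_top,
        LinearMap.range_eq_top.mpr hbij.2]
  · rintro ⟨hli, hsp⟩
    let β' := Module.Basis.mk hli hsp.ge
    have : m = (β.equiv β' (Equiv.refl _)).toLinearMap := by
      apply β.ext
      intro i
      simp [β']
    rw [this]
    exact (β.equiv β' (Equiv.refl _)).bijective

end Groth.Agent.S5014
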