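import Groth.Statements.S5017
import Mathlib

set_option autoImplicit false
universe u
open CategoryTheory CategoryTheory.Limits AlgebraicGeometry TopologicalSpace
open Unram17

namespace Groth.Agent.S5017


/-- Let f : X ⟶ Y be locally of finite type. Then f is a monomorphism if and only if, for every point x
of X with image y, x is the only point of its fibre and the canonical map from the residue field
κ(y) to the quotient of the local ring of X at x by the extension of the maximal ideal at y is
bijective (each nonempty fibre is Spec κ(y)). -/
theorem result {X Y : Scheme.{u}} (f : X ⟶ Y) [LocallyOfFiniteType f] :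
    Mono f ↔ ∀ x : ↥X,
      (∀ x' : ↥X, f.base x' = f.base x → x' = x) ∧
        Function.Bijective
          (Ideal.quotientMap
            ((IsLocalRing.maximalIdeal ↑(Y.presheaf.stalk (f.base x))).map (f.stalkMap x).hom)
            (f.stalkMap x).hom Ideal.le_comap_map) := by
  constructor
  · intro hmono x
    haveI : UniversallyInjective f := inferInstance
    obtain ⟨hinj, hpi⟩ := ((tfae_universallyInjective f).out 0 2).mp ‹_›
    haveI : IsIso (pullback.diagonal f) := (pullback.isIso_diagonal_iff f).mpr inferInstance
    haveI : FormallyUnramified f := inferInstance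
    refine ⟨fun x' h => hinj h, ?_⟩
    -- surjectivity of residue field map
    have hsurj : Function.Surjective (f.residueFieldMap x).hom := by
      letI : Algebra (Y.residueField (f.base x)) (X.residueField x) :=
        (f.residueFieldMap x).hom.toAlgebra
      haveI : Algebra.IsSeparable (Y.residueField (f.base x)) (X.residueField x) := inferInstance
      haveI : IsPurelyInseparable (Y.residueField (f.base x)) (X.residueField x) := hpi x
      exact IsPurelyInseparable.surjective_algebraMap_of_isSeparable _ _
    algebraize [(f.stalkMap x).hom]
    haveI : IsLocalHom (algebraMap (Y.presheaf.stalk (f.base x)) (X.presheaf.stalk x)) :=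
      inferInstanceAs <| IsLocalHom (f.stalkMap x).hom
    haveI : Algebra.EssFiniteType (Y.presheaf.stalk (f.base x)) (X.presheaf.stalk x) := by
      rw [← RingHom.essFiniteType_algebraMap, RingHom.algebraMap_toAlgebra]
      exact LocallyOfFiniteType.stalkMap f x
    haveI : Algebra.FormallyUnramified (Y.presheaf.stalk (f.base x)) (X.presheaf.stalk x) := by
      rw [← RingHom.formallyUnramified_algebraMap, RingHom.algebraMap_toAlgebra]
      exact FormallyUnramified.stalkMap f x
    have hmax : (IsLocalRing.maximalIdeal (Y.presheaf.stalk (f.base x))).map (f.stalkMap x).hom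
        = IsLocalRing.maximalIdeal (X.presheaf.stalk x) :=
      Algebra.FormallyUnramified.map_maximalIdeal
    constructor
    · -- injective: field to nontrivial ring
      haveI : Nontrivial (↑(X.presheaf.stalk x) ⧸
          (IsLocalRing.maximalIdeal ↑(Y.presheaf.stalk (f.base x))).map (f.stalkMap x).hom) := by
        rw [hmax]; infer_instance
      haveI : (IsLocalRing.maximalIdeal ↑(Y.presheaf.stalk (f.base x))).IsMaximal := inferInstance
      letI : Field (↑(Y.presheaf.stalk (f.base x)) ⧸
          IsLocalRing.maximalIdeal ↑(Y.presheaf.stalk (f.base x))) := Ideal.Quotient.field _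
      exact RingHom.injective _
    · intro b
      obtain ⟨b, rfl⟩ := Ideal.Quotient.mk_surjective b
      obtain ⟨a, ha⟩ := hsurj (X.residue x b)
      obtain ⟨a, rfl⟩ := IsLocalRing.residue_surjective a
      refine ⟨Ideal.Quotient.mk _ a, ?_⟩
      rw [Ideal.quotientMap_mk, Ideal.Quotient.eq, hmax]
      have h1 : (f.residueFieldMap x).hom (IsLocalRing.residue _ a)
          = X.residue x ((f.stalkMap x).hom a) := by
        have := congrArg (fun g : Y.presheaf.stalk (f.base x) ⟶ X.residueField x => g.hom a) (Scheme.residue_residueFieldMap f x)
        exact this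
      rw [h1] at ha
      have h2 : X.residue x ((f.stalkMap x).hom a - b) = 0 := by
        rw [map_sub, ha, sub_self]
      exact (IsLocalRing.residue_eq_zero_iff _).mp h2
  · intro H
    have hinj : Function.Injective f.base := fun a b h => (H b).1 a h
    have key : ∀ x : X,
        (IsLocalRing.maximalIdeal (Y.presheaf.stalk (f.base x))).map (f.stalkMap x).hom
          = IsLocalRing.maximalIdeal (X.presheaf.stalk x) ∧
        Function.Surjective (f.residueFieldMap x).hom := by
      intro x
      obtain ⟨-, hbij⟩ := H x
      have hfield : IsField (↑(X.presheaf.stalk x) ⧸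
          (IsLocalRing.maximalIdeal ↑(Y.presheaf.stalk (f.base x))).map (f.stalkMap x).hom) := by
        haveI : (IsLocalRing.maximalIdeal ↑(Y.presheaf.stalk (f.base x))).IsMaximal := inferInstance
        exact (RingEquiv.ofBijective _ hbij).symm.toMulEquiv.isField
          ((Ideal.Quotient.maximal_ideal_iff_isField_quotient _).mp inferInstance)
      have hJmax := Ideal.Quotient.maximal_of_isField _ hfield
      have hJ := IsLocalRing.eq_maximalIdeal hJmax
      refine ⟨hJ, ?_⟩
      intro b
      obtain ⟨b, rfl⟩ := IsLocalRing.residue_surjective b
      obtain ⟨a, ha⟩ := hbij.2 (Ideal.Quotient.mk _ b)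
      obtain ⟨a, rfl⟩ := Ideal.Quotient.mk_surjective a
      refine ⟨IsLocalRing.residue _ a, ?_⟩
      rw [Ideal.quotientMap_mk, Ideal.Quotient.eq, hJ] at ha
      have h1 : (f.residueFieldMap x).hom (IsLocalRing.residue _ a)
          = X.residue x ((f.stalkMap x).hom a) := by
        have := congrArg (fun g : Y.presheaf.stalk (f.base x) ⟶ X.residueField x => g.hom a)
          (Scheme.residue_residueFieldMap f x)
        exact this
      rw [h1]
      have h2 : X.residue x ((f.stalkMap x).hom a - b) = 0 :=
        (IsLocalRing.residue_eq_zero_iff _).mpr ha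
      rw [map_sub, sub_eq_zero] at h2
      exact h2
    haveI : FormallyUnramified f := by
      apply HasRingHomProperty.of_stalkMap (P := @FormallyUnramified)
        RingHom.FormallyUnramified.ofLocalizationPrime
      intro x
      obtain ⟨hJ, hs⟩ := key x
      algebraize [(f.stalkMap x).hom]
      haveI : IsLocalHom (algebraMap (Y.presheaf.stalk (f.base x)) (X.presheaf.stalk x)) :=
        inferInstanceAs <| IsLocalHom (f.stalkMap x).hom
      haveI : Algebra.EssFiniteType (Y.presheaf.stalk (f.base x)) (X.presheaf.stalk x) := by
        rw [← RingHom.essFiniteType_algebraMap, RingHom.algebraMap_toAlgebra]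
        exact LocallyOfFiniteType.stalkMap f x
      haveI : Algebra.IsSeparable (IsLocalRing.ResidueField (Y.presheaf.stalk (f.base x)))
          (IsLocalRing.ResidueField (X.presheaf.stalk x)) :=
        ⟨fun b => by
          obtain ⟨a, ha⟩ := hs b
          have hb : b = algebraMap (IsLocalRing.ResidueField (Y.presheaf.stalk (f.base x)))
            (IsLocalRing.ResidueField (X.presheaf.stalk x)) a := ha.symm
          rw [hb]
          exact isSeparable_algebraMap (F := IsLocalRing.ResidueField (Y.presheaf.stalk (f.base x)))
            (K := IsLocalRing.ResidueField (X.presheaf.stalk x)) a⟩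
      rw [← RingHom.algebraMap_toAlgebra (f.stalkMap x).hom, RingHom.formallyUnramified_algebraMap]
      exact Algebra.FormallyUnramified.of_map_maximalIdeal hJ
    haveI : UniversallyInjective f := by
      have h02 := (tfae_universallyInjective f).out 0 2
      refine h02.mpr ⟨hinj, fun x => ?_⟩
      obtain ⟨-, hs⟩ := key x
      unfold RingHom.IsPurelyInseparable
      letI : Algebra (Y.residueField (f.base x)) (X.residueField x) :=
        (f.residueFieldMap x).hom.toAlgebra
      refine (isPurelyInseparable_iff).mpr fun b => ?_
      obtain ⟨a, rfl⟩ := hs b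
      exact ⟨isIntegral_algebraMap, fun _ => ⟨a, rfl⟩⟩
    haveI : IsOpenImmersion (pullback.diagonal f) := inferInstance
    haveI : Surjective (pullback.diagonal f) := (UniversallyInjective.iff_diagonal f).mp ‹_›
    haveI : IsIso (pullback.diagonal f) :=
      (isIso_iff_isOpenImmersion_and_surjective _).mpr ⟨‹_›, ‹_›⟩
    exact (pullback.isIso_diagonal_iff f).mp ‹_›

end Groth.Agent.S5017
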