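import Groth.Statements.S5025
import Mathlib
import Groth.Agent.S2156
import Groth.Agent.Lib.Helper24.RegSmoothAt
import Groth.Agent.Lib.Helper24.FiberStalk
import Groth.Agent.Helper1.FlatLocalCM
import Groth.Agent.H29.RegLocal3

set_option autoImplicit false
universe u
open CategoryTheory CategoryTheory.Limits AlgebraicGeometry TopologicalSpace
open Unram17

namespace Groth.Agent.S5025

section Helpers
open AlgebraicGeometry CategoryTheory Limits IsLocalRing

theorem ringReg5025 (k S : Type u) [CommRing k] (hk : IsField k) [CommRing S] [Algebra k S]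
    [Algebra.FiniteType k S] (q : Ideal S) [q.IsPrime] (h : Algebra.IsSmoothAt k q) :
    IsRegularLocalRing (Localization.AtPrime q) := by
  letI : Field k := hk.toField
  exact Groth.Agent.Helper24.RegSmoothAt.regular_of_smoothAt k S q h

set_option backward.isDefEq.respectTransparency false in
/-- The local ring of the fibre at a smooth point is regular. -/
theorem regular_fiberStalk5025 {X Y : Scheme.{u}} (f : X ⟶ Y) [LocallyOfFinitePresentation f]
    (x : X) (hx : x ∈ f.smoothLocus) :
    IsRegularLocalRing ((f.fiber (f x)).presheaf.stalk (f.asFiber x)) := by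
  obtain ⟨-, hz⟩ := Groth.Agent.S2156.fwd2156 f x hx
  obtain ⟨W, hW, hzW, -⟩ :=
    exists_isAffineOpen_mem_and_subset (x := f.asFiber x) (U := ⊤) trivial
  have e : W ≤ (f.fiberToSpecResidueField (f x)) ⁻¹ᵁ ⊤ := le_top
  have hfp := (f.fiberToSpecResidueField (f x)).finitePresentation_appLE
    (isAffineOpen_top _) hW e
  have hk : IsField Γ(Spec (Y.residueField (f x)), ⊤) :=
    MulEquiv.isField (Field.toIsField _)
      (Scheme.ΓSpecIso _).commRingCatIsoToRingEquiv.toMulEquiv
  algebraize [((f.fiberToSpecResidueField (f x)).appLE ⊤ W e).hom]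
  rw [Scheme.Hom.mem_smoothLocus,
    formallySmooth_stalkMap_iff ⊤ (isAffineOpen_top _) W hW e hzW] at hz
  haveI := ringReg5025 _ _ hk (hW.primeIdealOf ⟨f.asFiber x, hzW⟩).asIdeal hz
  letI := (f.fiber (f x)).presheaf.algebra_section_stalk (U := W) ⟨f.asFiber x, hzW⟩
  haveI := hW.isLocalization_stalk ⟨f.asFiber x, hzW⟩
  exact IsRegularLocalRing.of_ringEquiv (IsLocalization.algEquiv
      (hW.primeIdealOf ⟨f.asFiber x, hzW⟩).asIdeal.primeCompl
      (Localization.AtPrime (hW.primeIdealOf ⟨f.asFiber x, hzW⟩).asIdeal)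
      ((f.fiber (f x)).presheaf.stalk (f.asFiber x))).toRingEquiv

theorem codepth5025 (A B : Type u) [CommRing A] [CommRing B] [IsNoetherianRing A]
    [IsLocalRing A] [IsNoetherianRing B] [IsLocalRing B] [Algebra A B]
    [IsLocalHom (algebraMap A B)] [Module.Flat A B]
    (hF : IsRegularLocalRing (B ⧸ (maximalIdeal A).map (algebraMap A B))) :
    ringKrullDim B + ((LocCoh.depth A A : ℕ∞) : WithBot ℕ∞) =
      ringKrullDim A + ((LocCoh.depth B B : ℕ∞) : WithBot ℕ∞) := by
  haveI : IsLocalRing (B ⧸ (maximalIdeal A).map (algebraMap A B)) :=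
    Groth.Agent.Helper1.CMAscent.isLocalRing_quot A B
  have hdim := Groth.Agent.Helper1.FlatLocalCM.dim_eq_add A B
    ((maximalIdeal A).map (algebraMap A B)) rfl
  have hdep := Groth.Agent.Helper1.FlatLocalCM.depth_eq_add A B
    ((maximalIdeal A).map (algebraMap A B)) rfl
  have hCM := (Groth.Agent.H29.isCohenMacaulayLocalRing_of_isRegularLocalRing
    (B ⧸ (maximalIdeal A).map (algebraMap A B))).supportDim_eq_depth
  rw [Module.supportDim_self_eq_ringKrullDim] at hCM
  rw [hdim, hdep, hCM]
  push_cast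
  abel

set_option backward.isDefEq.respectTransparency false in
theorem main5025 {X Y : Scheme.{u}} (f : X ⟶ Y) [IsLocallyNoetherian Y] [LocallyOfFiniteType f]
    (x : X) (hx : ∃ U : X.Opens, x ∈ U ∧ Smooth (U.ι ≫ f)) :
    ringKrullDim ↑(X.presheaf.stalk x) +
        ((LocCoh.depth ↑(Y.presheaf.stalk (f x)) ↑(Y.presheaf.stalk (f x)) : ℕ∞) :
          WithBot ℕ∞) =
      ringKrullDim ↑(Y.presheaf.stalk (f x)) +
        ((LocCoh.depth ↑(X.presheaf.stalk x) ↑(X.presheaf.stalk x) : ℕ∞) : WithBot ℕ∞) := by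
  haveI : LocallyOfFinitePresentation f :=
    LocallyOfFinitePresentation.iff_locallyOfFiniteType.mpr inferInstance
  haveI : IsLocallyNoetherian X := LocallyOfFiniteType.isLocallyNoetherian f
  obtain ⟨U, hxU, hU⟩ := hx
  haveI := hU
  have hxs : x ∈ f.smoothLocus := by
    have h1 : U.ι ⁻¹ᵁ f.smoothLocus = ⊤ := by
      rw [Scheme.Hom.preimage_smoothLocus_eq]; exact Scheme.Hom.smoothLocus_eq_top _
    have h2 : (⟨x, hxU⟩ : U) ∈ U.ι ⁻¹ᵁ f.smoothLocus := by rw [h1]; trivial
    exact h2
  obtain ⟨hfl, -⟩ := Groth.Agent.S2156.fwd2156 f x hxs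
  have hreg := regular_fiberStalk5025 f x hxs
  obtain ⟨eq⟩ := Groth.Agent.Helper24.FiberStalk.fiberStalkQuot f x
  letI : Algebra (Y.presheaf.stalk (f x)) (X.presheaf.stalk x) := (f.stalkMap x).hom.toAlgebra
  haveI : Module.Flat (Y.presheaf.stalk (f x)) (X.presheaf.stalk x) := hfl
  haveI : IsLocalHom (algebraMap (Y.presheaf.stalk (f x)) (X.presheaf.stalk x)) :=
    inferInstanceAs (IsLocalHom (f.stalkMap x).hom)
  haveI := hreg
  have hF : IsRegularLocalRing (X.presheaf.stalk x ⧸
      (maximalIdeal (Y.presheaf.stalk (f x))).map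
        (algebraMap (Y.presheaf.stalk (f x)) (X.presheaf.stalk x))) :=
    IsRegularLocalRing.of_ringEquiv eq
  exact codepth5025 _ _ hF

end Helpers

/-- Let Y be locally Noetherian and f : X ⟶ Y locally of finite type, smooth on an open neighbourhood of
a point x with image y. Then the local rings of X at x and of Y at y have the same codepth (Krull
dimension minus depth); written without subtraction: dim O_{X,x} + depth O_{Y,y} = dim O_{Y,y} +
depth O_{X,x}. -/
theorem result {X Y : Scheme.{u}} (f : X ⟶ Y)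
    [IsLocallyNoetherian Y] [LocallyOfFiniteType f] (x : ↥X)
    (hx : ∃ U : X.Opens, x ∈ U ∧ Smooth (U.ι ≫ f)) :
    ringKrullDim ↑(X.presheaf.stalk x) +
        ((LocCoh.depth ↑(Y.presheaf.stalk (f.base x)) ↑(Y.presheaf.stalk (f.base x)) : ℕ∞) : WithBot ℕ∞) =
      ringKrullDim ↑(Y.presheaf.stalk (f.base x)) +
        ((LocCoh.depth ↑(X.presheaf.stalk x) ↑(X.presheaf.stalk x) : ℕ∞) : WithBot ℕ∞) := by
  exact main5025 f x hx

end Groth.Agent.S5025
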