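import Groth.Statements.S5026
import Mathlib
import Groth.Agent.S2790
import Groth.Agent.S2141
import Groth.Agent.S2143
import Groth.Agent.H29.RegLocal3
import Groth.Agent.H11.Cartier
import Groth.Agent.S11457

set_option autoImplicit false
universe u
open Unram17

namespace Groth.Agent.S5026

/-- Let k be a field, A a k-algebra of finite type equipped with a k-algebra map from the polynomial
ring in n variables (images g_i of the variables), p a prime of A such that Spec A has local
dimension n at p, r the Krull dimension of the local ring A_p, and suppose g_i ∈ p for the indices i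
< r. Then A is etale at p over the polynomial ring if and only if the images of the g_i with i < r
generate the maximal ideal of A_p and the differentials of the residue classes of the g_i with i ≥ r
generate the module of differentials of the residue field κ(p) over k. (The published statement adds
that these conditions imply that A is smooth at p over k and that κ(p) is separable over k; this row
does not state that consequence.) -/
theorem result (k A : Type u) [Field k]
    [CommRing A] [Algebra k A] [Algebra.FiniteType k A] (n r : ℕ) [Algebra (MvPolynomial (Fin n) k) A]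
    [IsScalarTower k (MvPolynomial (Fin n) k) A] (p : Ideal A) [p.IsPrime]
    (hn : FlatMor.localDim (PrimeSpectrum A) ⟨p, inferInstance⟩ = (n : WithBot ℕ∞))
    (hr : ringKrullDim (Localization.AtPrime p) = (r : WithBot ℕ∞))
    (hg : ∀ i : Fin n, (i : ℕ) < r → algebraMap (MvPolynomial (Fin n) k) A (MvPolynomial.X i) ∈ p) :
    Algebra.IsEtaleAt (MvPolynomial (Fin n) k) p ↔
      Ideal.span ((fun i : Fin n =>
          algebraMap A (Localization.AtPrime p) (algebraMap (MvPolynomial (Fin n) k) A (MvPolynomial.X i))) ''
            {i : Fin n | (i : ℕ) < r}) = IsLocalRing.maximalIdeal (Localization.AtPrime p) ∧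
        Submodule.span p.ResidueField ((fun i : Fin n =>
          KaehlerDifferential.D k p.ResidueField
            (IsLocalRing.residue (Localization.AtPrime p)
              (algebraMap A (Localization.AtPrime p) (algebraMap (MvPolynomial (Fin n) k) A (MvPolynomial.X i))))) ''
            {i : Fin n | r ≤ (i : ℕ)}) = ⊤ := by
  classical
  haveI hNA : IsNoetherianRing A := Algebra.FiniteType.isNoetherianRing k A
  haveI hNL : IsNoetherianRing (Localization.AtPrime p) :=
    IsLocalization.isNoetherianRing p.primeCompl (Localization.AtPrime p) hNA
  haveI hT : IsScalarTower k (MvPolynomial (Fin n) k) (Localization.AtPrime p) :=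
    IsScalarTower.of_algebraMap_eq (fun x => by
      rw [IsScalarTower.algebraMap_apply k A (Localization.AtPrime p),
        IsScalarTower.algebraMap_apply k (MvPolynomial (Fin n) k) A,
        ← IsScalarTower.algebraMap_apply (MvPolynomial (Fin n) k) A (Localization.AtPrime p)])
  have hgi : ∀ i : Fin n, algebraMap A (Localization.AtPrime p)
      (algebraMap (MvPolynomial (Fin n) k) A (MvPolynomial.X i)) =
      algebraMap (MvPolynomial (Fin n) k) (Localization.AtPrime p) (MvPolynomial.X i) := fun i =>
    (IsScalarTower.algebraMap_apply (MvPolynomial (Fin n) k) A (Localization.AtPrime p) _).symm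
  have hgm : ∀ i : Fin n, (i : ℕ) < r → algebraMap A (Localization.AtPrime p)
      (algebraMap (MvPolynomial (Fin n) k) A (MvPolynomial.X i)) ∈
      IsLocalRing.maximalIdeal (Localization.AtPrime p) := fun i hi =>
    (IsLocalization.AtPrime.to_map_mem_maximal_iff (Localization.AtPrime p) p _).2 (hg i hi)
  have hJle : Ideal.span ((fun i : Fin n =>
        algebraMap A (Localization.AtPrime p)
          (algebraMap (MvPolynomial (Fin n) k) A (MvPolynomial.X i))) '' {i : Fin n | (i : ℕ) < r}) ≤
        IsLocalRing.maximalIdeal (Localization.AtPrime p) := by
    rw [Ideal.span_le]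
    rintro _ ⟨i, hi, rfl⟩
    exact hgm i hi
  have hsurj : Function.Surjective (algebraMap (Localization.AtPrime p) p.ResidueField) :=
    IsLocalRing.residue_surjective
  have hψD : ∀ x : Localization.AtPrime p,
      KaehlerDifferential.map k k (Localization.AtPrime p) p.ResidueField
        (KaehlerDifferential.D k (Localization.AtPrime p) x) =
      KaehlerDifferential.D k p.ResidueField (IsLocalRing.residue (Localization.AtPrime p) x) :=
    fun x => KaehlerDifferential.map_D k k (Localization.AtPrime p) p.ResidueField x
  have hsmul : ∀ (c : Localization.AtPrime p) (η : Ω[p.ResidueField⁄k]),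
      c • η = (IsLocalRing.residue (Localization.AtPrime p) c) • η := fun c η =>
    (algebraMap_smul p.ResidueField c η).symm
  rw [Groth.Agent.S2790.result k A n p hn]
  constructor
  · intro hN
    refine ⟨?_, ?_⟩
    · have het : Algebra.IsEtaleAt (MvPolynomial (Fin n) k) p :=
        (Groth.Agent.S2790.result k A n p hn).mpr hN
      haveI : Algebra.FormallyEtale (MvPolynomial (Fin n) k) (Localization.AtPrime p) := het
      haveI hunr : Algebra.FormallyUnramified (MvPolynomial (Fin n) k) (Localization.AtPrime p) :=
        inferInstance
      haveI hFT : Algebra.FiniteType (MvPolynomial (Fin n) k) A :=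
        Algebra.FiniteType.of_restrictScalars_finiteType k (MvPolynomial (Fin n) k) A
      haveI hunrAt : Algebra.IsUnramifiedAt (MvPolynomial (Fin n) k) p := hunr
      letI := Localization.AtPrime.algebraOfLiesOver (p.under (MvPolynomial (Fin n) k)) p
      obtain ⟨hsep, hmap⟩ := (Algebra.isUnramifiedAt_iff_map_eq (MvPolynomial (Fin n) k)
        (p.under (MvPolynomial (Fin n) k)) p).mp hunrAt
      have hcast : ∀ a b : ℕ, (a : WithBot ℕ∞) = (b : WithBot ℕ∞) → a = b := by
        intro a b h
        have h' : ((a : ℕ∞) : WithBot ℕ∞) = ((b : ℕ∞) : WithBot ℕ∞) := h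
        exact_mod_cast WithBot.coe_injective h'
      have hcastle : ∀ a b : ℕ, (a : WithBot ℕ∞) ≤ (b : WithBot ℕ∞) → a ≤ b := by
        intro a b h
        have h' : ((a : ℕ∞) : WithBot ℕ∞) ≤ ((b : ℕ∞) : WithBot ℕ∞) := h
        exact_mod_cast WithBot.coe_le_coe.1 h'
      have hcastadd : ∀ a b : ℕ, ((a + b : ℕ) : WithBot ℕ∞) =
          (a : WithBot ℕ∞) + (b : WithBot ℕ∞) := by
        intro a b; push_cast; rfl
      haveI hessp : Algebra.EssFiniteType k p.ResidueField :=
        Algebra.EssFiniteType.of_surjective
          (IsScalarTower.toAlgHom k (Localization.AtPrime p) p.ResidueField)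
          IsLocalRing.residue_surjective
      haveI hessq : Algebra.EssFiniteType k (p.under (MvPolynomial (Fin n) k)).ResidueField :=
        Algebra.EssFiniteType.of_surjective
          (IsScalarTower.toAlgHom k (Localization.AtPrime (p.under (MvPolynomial (Fin n) k)))
            (p.under (MvPolynomial (Fin n) k)).ResidueField)
          IsLocalRing.residue_surjective
      obtain ⟨_, _, htrp, _⟩ := Groth.Agent.H11.Cartier.cartier k p.ResidueField
      obtain ⟨_, _, htrq, _⟩ := Groth.Agent.H11.Cartier.cartier k
        (p.under (MvPolynomial (Fin n) k)).ResidueField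
      obtain ⟨tp, htp⟩ := Cardinal.lt_aleph0.1 htrp
      obtain ⟨tq, htq⟩ := Cardinal.lt_aleph0.1 htrq
      haveI hfin : Module.Finite (p.under (MvPolynomial (Fin n) k)).ResidueField p.ResidueField :=
        inferInstance
      haveI halg : Algebra.IsAlgebraic (p.under (MvPolynomial (Fin n) k)).ResidueField
          p.ResidueField := Algebra.IsAlgebraic.of_finite _ _
      have htpq : tq = tp := by
        have htr := trdeg_add_eq k (p.under (MvPolynomial (Fin n) k)).ResidueField
          (A := p.ResidueField)
        rw [(trdeg_eq_zero : Algebra.trdeg (p.under (MvPolynomial (Fin n) k)).ResidueField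
          p.ResidueField = 0), add_zero, htp, htq] at htr
        exact_mod_cast htr
      have h1 := Groth.Agent.S2141.result p tp htp
      rw [hn, hr, ← hcastadd] at h1
      have h1' : n = r + tp := hcast _ _ h1
      -- the polynomial ring in the remaining variables
      let π : MvPolynomial (Fin n) k →ₐ[k] MvPolynomial (Fin tp) k :=
        MvPolynomial.aeval (fun i : Fin n => if h : r ≤ (i : ℕ) then
          (MvPolynomial.X (⟨(i : ℕ) - r, by have := i.2; omega⟩ : Fin tp)) else 0)
      let e : Fin tp → Fin n := fun j => ⟨r + (j : ℕ), by have := j.2; omega⟩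
      let ρ : MvPolynomial (Fin tp) k →ₐ[k] MvPolynomial (Fin n) k := MvPolynomial.rename e
      have hπX1 : ∀ (i : Fin n) (h : r ≤ (i : ℕ)), π (MvPolynomial.X i) =
          MvPolynomial.X (⟨(i : ℕ) - r, by have := i.2; omega⟩ : Fin tp) := by
        intro i h
        show MvPolynomial.aeval _ (MvPolynomial.X i) = _
        rw [MvPolynomial.aeval_X]
        exact dif_pos h
      have hπX0 : ∀ i : Fin n, ¬ r ≤ (i : ℕ) → π (MvPolynomial.X i) = 0 := by
        intro i h
        show MvPolynomial.aeval _ (MvPolynomial.X i) = _
        rw [MvPolynomial.aeval_X]
        exact dif_neg h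
      have hπρ : ∀ f : MvPolynomial (Fin tp) k, π (ρ f) = f := by
        intro f
        have hcomp : π.comp ρ = AlgHom.id k _ := by
          apply MvPolynomial.algHom_ext
          intro j
          rw [AlgHom.comp_apply, AlgHom.id_apply]
          show π (MvPolynomial.rename e (MvPolynomial.X j)) = _
          rw [MvPolynomial.rename_X, hπX1 (e j) (by show r ≤ r + (j : ℕ); omega)]
          congr 1
          apply Fin.ext
          show r + (j : ℕ) - r = (j : ℕ)
          omega
        exact AlgHom.congr_fun hcomp f
      have hdecomp : ∀ f : MvPolynomial (Fin n) k, f - ρ (π f) ∈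
          Ideal.span ((MvPolynomial.X : Fin n → MvPolynomial (Fin n) k) ''
            {i : Fin n | (i : ℕ) < r}) := by
        intro f
        induction f using MvPolynomial.induction_on with
        | C a =>
          have hC : ρ (π (MvPolynomial.C a)) = MvPolynomial.C a := by
            rw [← MvPolynomial.algebraMap_eq, AlgHom.commutes, AlgHom.commutes]
          rw [hC, sub_self]; exact Ideal.zero_mem _
        | add f g hf hg =>
          have hadd : f + g - ρ (π (f + g)) = (f - ρ (π f)) + (g - ρ (π g)) := by
            rw [map_add, map_add]; ring
          rw [hadd]; exact Ideal.add_mem _ hf hg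
        | mul_X f i hf =>
          by_cases hi : r ≤ (i : ℕ)
          · have hρX : ρ (MvPolynomial.X (⟨(i : ℕ) - r, by have := i.2; omega⟩ : Fin tp)) =
                MvPolynomial.X i := by
              show MvPolynomial.rename e (MvPolynomial.X _) = _
              rw [MvPolynomial.rename_X]
              congr 1
              apply Fin.ext
              show r + ((i : ℕ) - r) = (i : ℕ)
              omega
            have hmul : f * MvPolynomial.X i - ρ (π (f * MvPolynomial.X i)) =
                (f - ρ (π f)) * MvPolynomial.X i := by
              rw [map_mul, map_mul, hπX1 i hi, hρX]; ring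
            rw [hmul]; exact Ideal.mul_mem_right _ _ hf
          · rw [map_mul, hπX0 i hi, mul_zero, map_zero, sub_zero]
            exact Ideal.mul_mem_left _ f (Ideal.subset_span ⟨i, not_le.1 hi, rfl⟩)
      have hπsurj : Function.Surjective π := fun f => ⟨ρ f, hπρ f⟩
      have hq0le : Ideal.span ((MvPolynomial.X : Fin n → MvPolynomial (Fin n) k) ''
            {i : Fin n | (i : ℕ) < r}) ≤ p.under (MvPolynomial (Fin n) k) := by
        rw [Ideal.span_le]
        rintro _ ⟨i, hi, rfl⟩
        exact hg i hi
      have hkerle : RingHom.ker π ≤ p.under (MvPolynomial (Fin n) k) := by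
        intro f hf
        have hf' : π f = 0 := hf
        have h := hdecomp f
        rw [hf', map_zero, sub_zero] at h
        exact hq0le h
      let q' : Ideal (MvPolynomial (Fin tp) k) := (p.under (MvPolynomial (Fin n) k)).map π
      haveI hq'prime : q'.IsPrime := Ideal.map_isPrime_of_surjective hπsurj hkerle
      have hcomap : p.under (MvPolynomial (Fin n) k) = q'.comap π.toRingHom := by
        have h := Ideal.comap_map_of_surjective' π hπsurj (p.under (MvPolynomial (Fin n) k))
        rw [sup_eq_left.2 hkerle] at h
        apply le_antisymm
        · intro f hf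
          exact Ideal.mem_map_of_mem π hf
        · intro f hf
          have hf' : f ∈ ((p.under (MvPolynomial (Fin n) k)).map π).comap π := hf
          rw [h] at hf'
          exact hf'
      haveI hessq' : Algebra.EssFiniteType k q'.ResidueField :=
        Algebra.EssFiniteType.of_surjective
          (IsScalarTower.toAlgHom k (Localization.AtPrime q') q'.ResidueField)
          IsLocalRing.residue_surjective
      obtain ⟨_, _, htrq', _⟩ := Groth.Agent.H11.Cartier.cartier k q'.ResidueField
      obtain ⟨tq', htq'⟩ := Cardinal.lt_aleph0.1 htrq'
      have hle_t : tq ≤ tq' := by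
        let μ := Ideal.ResidueField.mapₐ (p.under (MvPolynomial (Fin n) k)) q' π hcomap
        have hμ : Function.Injective μ := μ.toRingHom.injective
        have h := trdeg_le_of_injective μ hμ
        rw [htq, htq'] at h
        exact_mod_cast h
      haveI hNQ' : IsNoetherianRing (Localization.AtPrime q') :=
        IsLocalization.isNoetherianRing q'.primeCompl _ inferInstance
      obtain ⟨dq', hdq'⟩ := Groth.Agent.H29.ringKrullDim_eq_natCast_of_isLocalRing
        (Localization.AtPrime q')
      have h3 := Groth.Agent.S2141.result (k := k) q' tq' htq'
      have hlocle : FlatMor.localDim (PrimeSpectrum (MvPolynomial (Fin tp) k))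
          ⟨q', inferInstance⟩ ≤ (tp : WithBot ℕ∞) := by
        rw [Groth.Agent.S2143.result (k := k) q']
        obtain ⟨m, hm, hqm⟩ := Ideal.exists_le_maximal q' (Ideal.IsPrime.ne_top inferInstance)
        refine le_trans (iInf_le _ ⟨m, hm, hqm⟩) ?_
        haveI := hm.isPrime'
        rw [IsLocalization.AtPrime.ringKrullDim_eq_height m (Localization.AtPrime m)]
        refine le_trans (Ideal.height_le_ringKrullDim_of_ne_top hm.ne_top) ?_
        rw [MvPolynomial.ringKrullDim_of_isNoetherianRing, ringKrullDim_eq_zero_of_field]
        simp
      rw [h3, hdq', ← hcastadd] at hlocle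
      have h4 : dq' + tq' ≤ tp := hcastle _ _ hlocle
      have hdq'0 : dq' = 0 := by omega
      have hq'bot : q' = ⊥ := by
        have hh : q'.height = 0 := by
          have h5 := IsLocalization.AtPrime.ringKrullDim_eq_height q' (Localization.AtPrime q')
          rw [hdq', hdq'0] at h5
          have h0 : ((q'.height : ℕ∞) : WithBot ℕ∞) = (((0 : ℕ) : ℕ∞) : WithBot ℕ∞) := h5.symm
          have h6 := WithBot.coe_injective h0
          simpa using h6
        rw [Ideal.height_eq_zero_iff, IsDomain.minimalPrimes_eq_singleton_bot] at hh
        exact hh
      have hqle : p.under (MvPolynomial (Fin n) k) ≤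
          Ideal.span ((MvPolynomial.X : Fin n → MvPolynomial (Fin n) k) ''
            {i : Fin n | (i : ℕ) < r}) := by
        intro f hf
        have h1 : π f ∈ q' := Ideal.mem_map_of_mem π hf
        rw [hq'bot, Ideal.mem_bot] at h1
        have h := hdecomp f
        rw [h1, map_zero, sub_zero] at h
        exact h
      refine le_antisymm hJle ?_
      rw [← hmap]
      refine le_trans (Ideal.map_mono hqle) ?_
      rw [Ideal.map_span, Set.image_image]
      apply Ideal.span_mono
      rintro _ ⟨i, hi, rfl⟩
      exact ⟨i, hi, hgi i⟩
    · rw [eq_top_iff]
      intro η hη'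
      clear hη'
      obtain ⟨ω, rfl⟩ := KaehlerDifferential.map_surjective_of_surjective k k
        (Localization.AtPrime p) p.ResidueField hsurj η
      have hω : ω ∈ (⊤ : Submodule (Localization.AtPrime p) (Ω[Localization.AtPrime p⁄k])) :=
        trivial
      rw [← hN] at hω
      induction hω using Submodule.span_induction with
      | mem y hy =>
        obtain ⟨i, rfl⟩ := hy
        simp only []
        rw [hψD]
        by_cases hi : (i : ℕ) < r
        · rw [(IsLocalRing.residue_eq_zero_iff _).2 (hgm i hi), map_zero]
          exact Submodule.zero_mem _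
        · exact Submodule.subset_span ⟨i, not_lt.1 hi, rfl⟩
      | zero => rw [map_zero]; exact Submodule.zero_mem _
      | add y z _ _ hy hz => rw [map_add]; exact add_mem hy hz
      | smul c y _ hy =>
        rw [map_smul, hsmul]
        exact Submodule.smul_mem _ _ hy
  · rintro ⟨hJ, hS⟩
    haveI hfinΩ : Module.Finite (Localization.AtPrime p) (Ω[Localization.AtPrime p⁄k]) :=
      inferInstance
    have hDm : ∀ y : Localization.AtPrime p, y ∈ IsLocalRing.maximalIdeal (Localization.AtPrime p) →
        KaehlerDifferential.D k (Localization.AtPrime p) y ∈
          Submodule.span (Localization.AtPrime p)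
            (Set.range fun i : Fin n => KaehlerDifferential.D k (Localization.AtPrime p)
              (algebraMap A (Localization.AtPrime p)
                (algebraMap (MvPolynomial (Fin n) k) A (MvPolynomial.X i)))) ⊔
          IsLocalRing.maximalIdeal (Localization.AtPrime p) •
            (⊤ : Submodule (Localization.AtPrime p) (Ω[Localization.AtPrime p⁄k])) := by
      intro y hy
      rw [← hJ] at hy
      induction hy using Submodule.span_induction with
      | mem z hz =>
        obtain ⟨i, hi, rfl⟩ := hz
        exact Submodule.mem_sup_left (Submodule.subset_span ⟨i, rfl⟩)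
      | zero => rw [map_zero]; exact Submodule.zero_mem _
      | add y z _ _ hy hz => rw [map_add]; exact add_mem hy hz
      | smul a y hy' hy =>
        rw [smul_eq_mul, Derivation.leibniz]
        refine add_mem (Submodule.smul_mem _ _ hy) (Submodule.mem_sup_right ?_)
        refine Submodule.smul_mem_smul ?_ trivial
        rw [← hJ]
        exact hy'
    have hlift : ∀ η : Ω[p.ResidueField⁄k], η ∈ Submodule.span p.ResidueField ((fun i : Fin n =>
          KaehlerDifferential.D k p.ResidueField
            (IsLocalRing.residue (Localization.AtPrime p)
              (algebraMap A (Localization.AtPrime p)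
                (algebraMap (MvPolynomial (Fin n) k) A (MvPolynomial.X i))))) ''
            {i : Fin n | r ≤ (i : ℕ)}) →
        ∃ ν ∈ Submodule.span (Localization.AtPrime p)
            (Set.range fun i : Fin n => KaehlerDifferential.D k (Localization.AtPrime p)
              (algebraMap A (Localization.AtPrime p)
                (algebraMap (MvPolynomial (Fin n) k) A (MvPolynomial.X i)))),
          KaehlerDifferential.map k k (Localization.AtPrime p) p.ResidueField ν = η := by
      intro η hη
      induction hη using Submodule.span_induction with
      | mem z hz =>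
        obtain ⟨i, hi, rfl⟩ := hz
        exact ⟨_, Submodule.subset_span ⟨i, rfl⟩, hψD _⟩
      | zero => exact ⟨0, Submodule.zero_mem _, map_zero _⟩
      | add y z _ _ hy hz =>
        obtain ⟨ν1, h1, e1⟩ := hy
        obtain ⟨ν2, h2, e2⟩ := hz
        exact ⟨ν1 + ν2, add_mem h1 h2, by rw [map_add, e1, e2]⟩
      | smul c y _ hy =>
        obtain ⟨ν1, h1, e1⟩ := hy
        obtain ⟨c', rfl⟩ := IsLocalRing.residue_surjective c
        exact ⟨c' • ν1, Submodule.smul_mem _ _ h1, by rw [map_smul, e1, hsmul]⟩
    have hker : ∀ ω : Ω[Localization.AtPrime p⁄k],
        KaehlerDifferential.map k k (Localization.AtPrime p) p.ResidueField ω = 0 →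
        ω ∈ Submodule.span (Localization.AtPrime p)
            (Set.range fun i : Fin n => KaehlerDifferential.D k (Localization.AtPrime p)
              (algebraMap A (Localization.AtPrime p)
                (algebraMap (MvPolynomial (Fin n) k) A (MvPolynomial.X i)))) ⊔
          IsLocalRing.maximalIdeal (Localization.AtPrime p) •
            (⊤ : Submodule (Localization.AtPrime p) (Ω[Localization.AtPrime p⁄k])) := by
      intro ω hω
      have hex := KaehlerDifferential.exact_kerCotangentToTensor_mapBaseChange k
        (Localization.AtPrime p) p.ResidueField hsurj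
      have h0 : KaehlerDifferential.mapBaseChange k (Localization.AtPrime p) p.ResidueField
          ((1 : p.ResidueField) ⊗ₜ[Localization.AtPrime p] ω) = 0 := by
        rw [KaehlerDifferential.mapBaseChange_tmul, one_smul]; exact hω
      obtain ⟨c, hc⟩ := (hex _).1 h0
      obtain ⟨⟨y, hy⟩, rfl⟩ := Ideal.toCotangent_surjective _ c
      rw [KaehlerDifferential.kerCotangentToTensor_toCotangent] at hc
      have hym : y ∈ IsLocalRing.maximalIdeal (Localization.AtPrime p) := by
        rw [RingHom.mem_ker] at hy
        exact (IsLocalRing.residue_eq_zero_iff _).1 hy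
      have hz : (1 : Localization.AtPrime p ⧸ IsLocalRing.maximalIdeal (Localization.AtPrime p))
          ⊗ₜ[Localization.AtPrime p] (ω - KaehlerDifferential.D k (Localization.AtPrime p) y) = 0 := by
        rw [TensorProduct.tmul_sub]
        exact sub_eq_zero.2 hc.symm
      have hmem := (Groth.Agent.S11457.one_tmul_eq_zero_iff
        (IsLocalRing.maximalIdeal (Localization.AtPrime p)) _).1 hz
      have : ω = KaehlerDifferential.D k (Localization.AtPrime p) y +
          (ω - KaehlerDifferential.D k (Localization.AtPrime p) y) := by abel
      rw [this]
      exact add_mem (hDm y hym) (Submodule.mem_sup_right hmem)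
    have hDx : ∀ x : Localization.AtPrime p,
        KaehlerDifferential.D k (Localization.AtPrime p) x ∈
          Submodule.span (Localization.AtPrime p)
            (Set.range fun i : Fin n => KaehlerDifferential.D k (Localization.AtPrime p)
              (algebraMap A (Localization.AtPrime p)
                (algebraMap (MvPolynomial (Fin n) k) A (MvPolynomial.X i)))) ⊔
          IsLocalRing.maximalIdeal (Localization.AtPrime p) •
            (⊤ : Submodule (Localization.AtPrime p) (Ω[Localization.AtPrime p⁄k])) := by
      intro x
      have hη : KaehlerDifferential.D k p.ResidueField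
          (IsLocalRing.residue (Localization.AtPrime p) x) ∈
          Submodule.span p.ResidueField ((fun i : Fin n =>
          KaehlerDifferential.D k p.ResidueField
            (IsLocalRing.residue (Localization.AtPrime p)
              (algebraMap A (Localization.AtPrime p)
                (algebraMap (MvPolynomial (Fin n) k) A (MvPolynomial.X i))))) ''
            {i : Fin n | r ≤ (i : ℕ)}) := by
        rw [hS]; trivial
      obtain ⟨ν, hν, hψν⟩ := hlift _ hη
      have h1 := hker (KaehlerDifferential.D k (Localization.AtPrime p) x - ν) (by
        rw [map_sub, hψD, hψν, sub_self])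
      have : KaehlerDifferential.D k (Localization.AtPrime p) x =
          ν + (KaehlerDifferential.D k (Localization.AtPrime p) x - ν) := by abel
      rw [this]
      exact add_mem (Submodule.mem_sup_left hν) h1
    rw [eq_top_iff]
    refine Submodule.le_of_le_smul_of_le_jacobson_bot (Module.finite_def.mp hfinΩ)
      (IsLocalRing.maximalIdeal_le_jacobson ⊥) ?_
    intro ω _
    have hω : ω ∈ Submodule.span (Localization.AtPrime p)
        (Set.range (KaehlerDifferential.D k (Localization.AtPrime p))) := by
      rw [KaehlerDifferential.span_range_derivation]; trivial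
    exact (Submodule.span_le.2 (by rintro _ ⟨x, rfl⟩; exact hDx x)) hω

end Groth.Agent.S5026
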