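import Groth.Statements.S5027
import Mathlib
import Groth.Agent.H11.Cartier
import Groth.Agent.S2141
import Groth.Agent.H27.FieldSmooth
import Groth.Agent.H27.AdicSmooth

set_option autoImplicit false
universe u
open Unram17

namespace Groth.Agent.S5027

/-- Let A be an algebra of finite type over a field k, p a prime of A such that Spec A has local
dimension n at p, and r the Krull dimension of the local ring A_p. Then A_p is regular and the
residue field κ(p) is a separable extension of k (geometrically reduced over k) if and only if there
exist n elements of the local ring A_p (germs at p in place of sections over an open neighbourhood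
of p, which is equivalent) of which those with index < r generate the maximal ideal and the residue
classes of the remaining ones have differentials generating the module of differentials of κ(p) over
k. -/
theorem result (k A : Type u) [Field k]
    [CommRing A] [Algebra k A] [Algebra.FiniteType k A] (n r : ℕ) (p : Ideal A) [p.IsPrime]
    (hn : FlatMor.localDim (PrimeSpectrum A) ⟨p, inferInstance⟩ = (n : WithBot ℕ∞))
    (hr : ringKrullDim (Localization.AtPrime p) = (r : WithBot ℕ∞)) :
    (IsRegularLocalRing (Localization.AtPrime p) ∧ Algebra.IsGeometricallyReduced k p.ResidueField) ↔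
      ∃ g : Fin n → Localization.AtPrime p,
        Ideal.span (g '' {i : Fin n | (i : ℕ) < r}) = IsLocalRing.maximalIdeal (Localization.AtPrime p) ∧
          Submodule.span p.ResidueField ((fun i : Fin n =>
            KaehlerDifferential.D k p.ResidueField (IsLocalRing.residue (Localization.AtPrime p) (g i))) ''
              {i : Fin n | r ≤ (i : ℕ)}) = ⊤ := by
  classical
  haveI hNA : IsNoetherianRing A := Algebra.FiniteType.isNoetherianRing k A
  haveI hNL : IsNoetherianRing (Localization.AtPrime p) :=
    IsLocalization.isNoetherianRing p.primeCompl (Localization.AtPrime p) hNA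
  haveI hess : Algebra.EssFiniteType k p.ResidueField :=
    Algebra.EssFiniteType.of_surjective
      (IsScalarTower.toAlgHom k (Localization.AtPrime p) p.ResidueField)
      IsLocalRing.residue_surjective
  obtain ⟨hΩfin, hH1fin, htr, hcart⟩ := Groth.Agent.H11.Cartier.cartier k p.ResidueField
  haveI := hΩfin
  haveI := hH1fin
  obtain ⟨t, ht⟩ := Cardinal.lt_aleph0.1 htr
  have hcart' : (Module.finrank p.ResidueField (Ω[p.ResidueField⁄k]) : ℤ) -
      Module.finrank p.ResidueField (Algebra.H1Cotangent k p.ResidueField) = (t : ℤ) := by
    rw [hcart, ht]; simp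
  have hcast : ∀ a b : ℕ, (a : WithBot ℕ∞) = (b : WithBot ℕ∞) → a = b := by
    intro a b h
    have h' : ((a : ℕ∞) : WithBot ℕ∞) = ((b : ℕ∞) : WithBot ℕ∞) := h
    exact_mod_cast WithBot.coe_injective h'
  have hnrt : n = r + t := by
    have h1 := Groth.Agent.S2141.result p t ht
    rw [hn, hr] at h1
    have h2 : (n : WithBot ℕ∞) = ((r + t : ℕ) : WithBot ℕ∞) := by
      rw [h1]; push_cast; rfl
    exact hcast _ _ h2
  constructor
  · rintro ⟨hreg, hgr⟩
    haveI := hgr
    haveI : Algebra.FormallySmooth k p.ResidueField :=
      Groth.Agent.H27.FieldSmooth.formallySmooth_of_geomReduced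
    have hH1 : Module.finrank p.ResidueField (Algebra.H1Cotangent k p.ResidueField) = 0 :=
      Module.finrank_zero_of_subsingleton
    have hΩt : Module.finrank p.ResidueField (Ω[p.ResidueField⁄k]) = t := by
      have h := hcart'
      rw [hH1] at h
      simpa using h
    have hspan : (IsLocalRing.maximalIdeal (Localization.AtPrime p)).spanFinrank = r := by
      have h := hreg.spanFinrank_maximalIdeal
      rw [hr] at h
      exact hcast _ _ h
    obtain ⟨s, hscard, hsspan⟩ := Submodule.FG.exists_span_finset_card_eq_spanFinrank
      (IsNoetherian.noetherian (IsLocalRing.maximalIdeal (Localization.AtPrime p)))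
    rw [hspan] at hscard
    let e : Fin r ≃ s := (Finset.equivFinOfCardEq hscard).symm
    let x : Fin r → Localization.AtPrime p := fun j => (e j : Localization.AtPrime p)
    have hx : Set.range x = (s : Set (Localization.AtPrime p)) := by
      ext w
      constructor
      · rintro ⟨j, rfl⟩
        exact (e j).2
      · intro hw
        exact ⟨e.symm ⟨w, hw⟩, by simp [x]⟩
    have hD := KaehlerDifferential.span_range_derivation k p.ResidueField
    obtain ⟨f, hfmem, hfspan, -⟩ := Submodule.exists_fun_fin_finrank_span_eq p.ResidueField
      (Set.range (KaehlerDifferential.D k p.ResidueField))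
    have hcardf : Module.finrank p.ResidueField (Submodule.span p.ResidueField
        (Set.range (KaehlerDifferential.D k p.ResidueField))) = t := by
      rw [hD, finrank_top, hΩt]
    choose a ha using hfmem
    choose b hb using fun i => IsLocalRing.residue_surjective (R := Localization.AtPrime p) (a i)
    let y : Fin t → Localization.AtPrime p := fun j => b (Fin.cast hcardf.symm j)
    let g : Fin n → Localization.AtPrime p := fun i =>
      if h : (i : ℕ) < r then x ⟨i, h⟩ else y ⟨(i : ℕ) - r, by have := i.2; omega⟩
    refine ⟨g, ?_, ?_⟩
    · have himg : g '' {i : Fin n | (i : ℕ) < r} = Set.range x := by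
        ext w
        constructor
        · rintro ⟨i, hi, rfl⟩
          have hi' : (i : ℕ) < r := hi
          have hg : g i = x ⟨i, hi'⟩ := dif_pos hi'
          exact ⟨⟨i, hi'⟩, hg.symm⟩
        · rintro ⟨j, rfl⟩
          have hj : (j : ℕ) < n := by have := j.2; omega
          refine ⟨⟨j, hj⟩, j.2, ?_⟩
          show g ⟨j, hj⟩ = x j
          exact dif_pos j.2
      rw [himg, hx]
      exact hsspan
    · have himg : (fun i : Fin n => KaehlerDifferential.D k p.ResidueField
          (IsLocalRing.residue (Localization.AtPrime p) (g i))) '' {i : Fin n | r ≤ (i : ℕ)} =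
          Set.range f := by
        ext w
        constructor
        · rintro ⟨i, hi, rfl⟩
          have hi' : ¬ (i : ℕ) < r := not_lt.2 hi
          have hlt : (i : ℕ) - r < t := by have := i.2; omega
          refine ⟨Fin.cast hcardf.symm ⟨(i : ℕ) - r, hlt⟩, ?_⟩
          have hg : g i = b (Fin.cast hcardf.symm ⟨(i : ℕ) - r, hlt⟩) := dif_neg hi'
          show f _ = KaehlerDifferential.D k p.ResidueField
            (IsLocalRing.residue (Localization.AtPrime p) (g i))
          rw [hg, hb, ha]
        · rintro ⟨j, rfl⟩
          have hj't : (j : ℕ) < t := by have := j.2; omega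
          have hjn : r + (j : ℕ) < n := by omega
          have hnot : ¬ (r + (j : ℕ) < r) := by omega
          have hlt : r + (j : ℕ) - r < t := by omega
          refine ⟨⟨r + (j : ℕ), hjn⟩, by show r ≤ r + (j : ℕ); omega, ?_⟩
          have hg : g ⟨r + (j : ℕ), hjn⟩ = b (Fin.cast hcardf.symm ⟨r + (j : ℕ) - r, hlt⟩) :=
            dif_neg hnot
          have hidx : Fin.cast hcardf.symm ⟨r + (j : ℕ) - r, hlt⟩ = j := Fin.ext (by simp)
          show KaehlerDifferential.D k p.ResidueField
            (IsLocalRing.residue (Localization.AtPrime p) (g ⟨r + (j : ℕ), hjn⟩)) = f j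
          rw [hg, hb, ha, hidx]
      rw [himg, hfspan, hD]
  · rintro ⟨g, hg1, hg2⟩
    constructor
    · apply IsRegularLocalRing.of_spanFinrank_maximalIdeal_le
      rw [← hg1, hr]
      have hfin : (g '' {i : Fin n | (i : ℕ) < r}).Finite := Set.toFinite _
      have h1 := Submodule.spanFinrank_span_le_ncard_of_finite (R := Localization.AtPrime p) hfin
      have h2 : (g '' {i : Fin n | (i : ℕ) < r}).ncard ≤ r := by
        refine (Set.ncard_image_le (Set.toFinite _)).trans ?_
        rw [← Set.ncard_image_of_injective _ Fin.val_injective]
        have hsub : Fin.val '' {i : Fin n | (i : ℕ) < r} ⊆ ((Finset.range r : Finset ℕ) : Set ℕ) := by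
          rintro _ ⟨i, hi, rfl⟩
          simpa using hi
        exact (Set.ncard_le_ncard hsub (Finset.finite_toSet _)).trans
          (by rw [Set.ncard_coe_finset, Finset.card_range])
      have h3 : (((Ideal.span (g '' {i : Fin n | (i : ℕ) < r})).spanFinrank : ℕ∞) : WithBot ℕ∞) ≤
          ((r : ℕ∞) : WithBot ℕ∞) := WithBot.coe_le_coe.2 (Nat.cast_le.2 (h1.trans h2))
      exact h3
    · have hfr : Module.finrank p.ResidueField (Ω[p.ResidueField⁄k]) ≤ t := by
        let v : {i : Fin n // r ≤ (i : ℕ)} → Ω[p.ResidueField⁄k] := fun i =>
          KaehlerDifferential.D k p.ResidueField (IsLocalRing.residue (Localization.AtPrime p) (g i))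
        have hv : Submodule.span p.ResidueField (Set.range v) = ⊤ := by
          rw [← hg2]
          congr 1
          ext w
          constructor
          · rintro ⟨i, rfl⟩
            exact ⟨i.1, i.2, rfl⟩
          · rintro ⟨i, hi, rfl⟩
            exact ⟨⟨i, hi⟩, rfl⟩
        have h1 := finrank_le_of_span_eq_top hv
        have h2 : Fintype.card {i : Fin n // r ≤ (i : ℕ)} ≤ t := by
          have hinj : Function.Injective (fun i : {i : Fin n // r ≤ (i : ℕ)} =>
              (⟨(i : ℕ) - r, by have := i.1.2; have := i.2; omega⟩ : Fin t)) := by
            intro a b hab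
            have h := congrArg Fin.val hab
            have ha := a.2
            have hb := b.2
            apply Subtype.ext
            apply Fin.ext
            simp only at h
            omega
          simpa using Fintype.card_le_of_injective _ hinj
        exact h1.trans h2
      have hH1 : Module.finrank p.ResidueField (Algebra.H1Cotangent k p.ResidueField) = 0 := by
        have h1 : (Module.finrank p.ResidueField (Ω[p.ResidueField⁄k]) : ℤ) ≤ t := by
          exact_mod_cast hfr
        have h3 : (Module.finrank p.ResidueField (Algebra.H1Cotangent k p.ResidueField) : ℤ) ≤ 0 := by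
          linarith
        have h4 : (0 : ℤ) ≤ Module.finrank p.ResidueField (Algebra.H1Cotangent k p.ResidueField) :=
          Int.natCast_nonneg _
        exact_mod_cast le_antisymm h3 h4
      haveI : Subsingleton (Algebra.H1Cotangent k p.ResidueField) :=
        Module.finrank_zero_iff.1 hH1
      haveI : Algebra.FormallySmooth k p.ResidueField := ⟨inferInstance, inferInstance⟩
      exact Groth.Agent.H27.AdicSmooth.geomReduced_of_formallySmooth

end Groth.Agent.S5027
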