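import Groth.Statements.S5033
import Groth.Agent.H29.RegParam

set_option autoImplicit false
universe u
open CInt

namespace Groth.Agent.S5033

/-- Let A be a Noetherian local ring and J an ideal such that A/J is a regular local ring. Then A is a
regular local ring if and only if J is generated by a regular sequence of A. -/
theorem result (A : Type u) [CommRing A] [IsNoetherianRing A]
    [IsLocalRing A] (J : Ideal A) [IsRegularLocalRing (A ⧸ J)] :
    IsRegularLocalRing A ↔ CInt.IsRegularIdeal J := by
  open Groth.Agent.H29 IsLocalRing in
  constructor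
  · intro hA
    obtain ⟨c, x, hli, hI⟩ := exists_linearIndependent_generators A J
    obtain ⟨s, y, hcs, hspan⟩ := exists_extension_generators A x hli
    have h3 := IsRegularLocalRing.spanFinrank_maximalIdeal (R := A)
    rw [← hcs] at h3
    have hset : Set.range (Fin.append (fun i => (x i : A)) (fun j => (y j : A))) =
        Set.range (fun i => (x i : A)) ∪ Set.range (fun j => (y j : A)) := by
      ext a
      constructor
      · rintro ⟨i, rfl⟩
        refine Fin.addCases (fun i => ?_) (fun j => ?_) i
        · rw [Fin.append_left]
          exact Or.inl ⟨i, rfl⟩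
        · rw [Fin.append_right]
          exact Or.inr ⟨j, rfl⟩
      · rintro (⟨i, rfl⟩ | ⟨j, rfl⟩)
        · exact ⟨Fin.castAdd s i, Fin.append_left _ _ i⟩
        · exact ⟨Fin.natAdd c j, Fin.append_right _ _ j⟩
    have hreg := isRegular_ofFn_of_span_eq_maximalIdeal A (c + s) h3.symm
      (Fin.append (fun i => (x i : A)) (fun j => (y j : A))) (by rw [hset]; exact hspan)
    rw [List.ofFn_fin_append] at hreg
    have hw := ((RingTheory.Sequence.isWeaklyRegular_append_iff A _ _).mp
      hreg.toIsWeaklyRegular).1
    have hof : Ideal.ofList (List.ofFn fun i => (x i : A)) = J := by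
      rw [hI, Ideal.ofList]
      congr 1
      ext a
      simp [List.mem_ofFn]
    refine ⟨List.ofFn fun i => (x i : A), ⟨hw, ?_⟩, hof⟩
    rw [hof]
    intro h
    have hJ : J = ⊤ := by rw [h, smul_eq_mul, Ideal.mul_top]
    exact (Ideal.Quotient.nontrivial_iff.mp inferInstance) hJ
  · rintro ⟨rs, hreg, rfl⟩
    have hne : Ideal.ofList rs ≠ ⊤ := Ideal.Quotient.nontrivial_iff.mp inferInstance
    have hmem : ∀ r ∈ rs, r ∈ maximalIdeal A := fun r hr =>
      IsLocalRing.le_maximalIdeal hne (Ideal.subset_span hr)
    let x : Fin rs.length → maximalIdeal A := fun i => ⟨rs.get i, hmem _ (List.get_mem rs i)⟩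
    have hspan : Ideal.span (Set.range fun i => (x i : A)) = Ideal.ofList rs := by
      rw [Ideal.ofList]
      congr 1
      ext a
      simp [x, List.mem_iff_get]
    have hdim := ringKrullDim_add_length_eq_ringKrullDim_of_isRegular rs hreg
    have hB : IsRegularLocalRing (A ⧸ Ideal.span (Set.range fun i => (x i : A))) := by
      rw [hspan]
      infer_instance
    exact (isRegularLocalRing_of_quotient_span_range A x (by rw [hspan]; exact hdim) hB).1

end Groth.Agent.S5033
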