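import Groth.Statements.S5034
import Mathlib

set_option autoImplicit false
universe u
open Hensel

namespace Groth.Agent.S5034


/-- a') implies a): let R be a local ring such that for every monic polynomial F over R the quotient
ring R[T]/(F) is isomorphic, as a ring, to a finite product of local rings. Then R is henselian. -/
theorem result (R : Type u) [CommRing R] [IsLocalRing R]
    (h : ∀ F : Polynomial R, F.Monic →
      ∃ (ι : Type u) (_ : Fintype ι) (A : ι → Type u) (_ : ∀ i, CommRing (A i)),
        (∀ i, IsLocalRing (A i)) ∧ Nonempty (AdjoinRoot F ≃+* (∀ i, A i))) :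
    HenselianLocalRing R := by
  classical
  refine ⟨fun f hf a₀ h₁ h₂ => ?_⟩
  obtain ⟨ι, _, A, _, hloc, ⟨φ⟩⟩ := h f hf
  have hroot : f.eval₂ (IsLocalRing.residue R) (IsLocalRing.residue R a₀) = 0 := by
    rw [Polynomial.eval₂_at_apply]; exact (IsLocalRing.residue_eq_zero_iff _).mpr h₁
  let χ : AdjoinRoot f →+* IsLocalRing.ResidueField R :=
    AdjoinRoot.lift (IsLocalRing.residue R) (IsLocalRing.residue R a₀) hroot
  let χ' : (∀ i, A i) →+* IsLocalRing.ResidueField R := χ.comp φ.symm.toRingHom
  have hsum : ∑ i, χ' (Pi.single i 1) = 1 := by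
    have := Finset.univ_sum_single (1 : ∀ i, A i)
    simp only [Pi.one_apply] at this
    rw [← map_sum, this, map_one]
  have hidem : ∀ i, χ' (Pi.single i 1) * χ' (Pi.single i 1) = χ' (Pi.single i 1) := by
    intro i
    rw [← map_mul, ← Pi.single_mul, mul_one]
  obtain ⟨i₀, hi₀⟩ : ∃ i₀, χ' (Pi.single i₀ 1) = 1 := by
    by_contra hcon
    push Not at hcon
    have hz : ∀ i, χ' (Pi.single i 1) = 0 := by
      intro i
      by_contra hne
      apply hcon i
      have := hidem i
      exact mul_right_cancel₀ hne (this.trans (one_mul _).symm)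
    rw [Finset.sum_eq_zero (fun i _ => hz i)] at hsum
    exact zero_ne_one hsum
  haveI := hloc i₀
  let π : AdjoinRoot f →+* A i₀ := (Pi.evalRingHom A i₀).comp φ.toRingHom
  have hπsurj : Function.Surjective π := by
    intro y
    refine ⟨φ.symm (Pi.single i₀ y), ?_⟩
    simp [π]
  let ρ : R →+* A i₀ := π.comp (AdjoinRoot.of f)
  let τ : A i₀ := π (AdjoinRoot.root f)
  let χ₀ : A i₀ →+* IsLocalRing.ResidueField R :=
    { toFun := fun y => χ' (Pi.single i₀ y)
      map_one' := hi₀
      map_mul' := fun x y => by rw [Pi.single_mul, map_mul]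
      map_zero' := by rw [Pi.single_zero, map_zero]
      map_add' := fun x y => by rw [Pi.single_add, map_add] }
  have hχ₀π : ∀ b, χ₀ (π b) = χ b := by
    intro b
    have h1 : Pi.single i₀ (π b) = φ b * Pi.single i₀ 1 := by
      ext j
      by_cases hj : j = i₀
      · subst hj; simp [π]
      · simp [Pi.single_eq_of_ne hj]
    change χ' (Pi.single i₀ (π b)) = χ b
    rw [h1, map_mul, hi₀, mul_one]
    simp [χ']
  have hχ₀ρ : ∀ r, χ₀ (ρ r) = IsLocalRing.residue R r := by
    intro r
    change χ₀ (π (AdjoinRoot.of f r)) = _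
    rw [hχ₀π]; simp [χ]
  have hχ₀τ : χ₀ τ = IsLocalRing.residue R a₀ := by
    change χ₀ (π (AdjoinRoot.root f)) = _
    rw [hχ₀π]; simp [χ]
  have hχ₀surj : Function.Surjective χ₀ := by
    intro z
    obtain ⟨r, rfl⟩ := IsLocalRing.residue_surjective z
    exact ⟨ρ r, hχ₀ρ r⟩
  have hunit : ∀ y : A i₀, χ₀ y ≠ 0 → IsUnit y := by
    intro y hy
    by_contra hnu
    apply hy
    have : y ∈ IsLocalRing.maximalIdeal (A i₀) := hnu
    rw [← IsLocalRing.ker_eq_maximalIdeal χ₀ hχ₀surj] at this
    exact this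
  have hπmk : ∀ p : Polynomial R, π (AdjoinRoot.mk f p) = p.eval₂ ρ τ := by
    intro p
    rw [← AdjoinRoot.aeval_eq, Polynomial.aeval_def, Polynomial.hom_eval₂]
    rfl
  -- injectivity of ρ
  have hρinj : Function.Injective ρ := by
    rw [injective_iff_map_eq_zero]
    intro r hr
    obtain ⟨p₀, hp₀⟩ := AdjoinRoot.mk_surjective (g := f) (φ.symm (Pi.single i₀ 1))
    set p := p₀ %ₘ f with hp
    have hmk : AdjoinRoot.mk f p = φ.symm (Pi.single i₀ 1) := by
      rw [← hp₀, AdjoinRoot.mk_eq_mk]
      have := Polynomial.modByMonic_add_div p₀ f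
      exact ⟨-(p₀ /ₘ f), by rw [hp]; linear_combination this⟩
    have hχe : χ (AdjoinRoot.mk f p) = 1 := by
      rw [hmk]
      have : χ (φ.symm (Pi.single i₀ 1)) = χ' (Pi.single i₀ 1) := rfl
      rw [this, hi₀]
    have hzero : AdjoinRoot.of f r * AdjoinRoot.mk f p = 0 := by
      apply φ.injective
      rw [map_mul, hmk, map_zero, RingEquiv.apply_symm_apply]
      ext j
      by_cases hj : j = i₀
      · subst hj
        simp only [Pi.mul_apply, Pi.single_eq_same, mul_one, Pi.zero_apply]
        exact hr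
      · simp [Pi.single_eq_of_ne hj]
    have hdvd : f ∣ Polynomial.C r * p := by
      rw [← AdjoinRoot.mk_eq_zero, map_mul, AdjoinRoot.mk_C]
      exact hzero
    have hdeg : (Polynomial.C r * p).degree < f.degree := by
      rw [← Polynomial.smul_eq_C_mul]
      exact lt_of_le_of_lt (Polynomial.degree_smul_le _ _) (Polynomial.degree_modByMonic_lt p₀ hf)
    have hCp : Polynomial.C r * p = 0 := by
      by_contra hne
      exact hf.not_dvd_of_degree_lt hne hdeg hdvd
    have hex : ∃ j, IsLocalRing.residue R (p.coeff j) ≠ 0 := by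
      by_contra hcon
      push Not at hcon
      have : χ (AdjoinRoot.mk f p) = 0 := by
        simp only [χ, AdjoinRoot.lift_mk]
        rw [Polynomial.eval₂_eq_sum_range]
        apply Finset.sum_eq_zero
        intro j _
        rw [hcon j, zero_mul]
      rw [this] at hχe
      exact zero_ne_one hχe
    obtain ⟨j, hj⟩ := hex
    have hju : IsUnit (p.coeff j) := by
      by_contra hnu
      exact hj ((IsLocalRing.residue_eq_zero_iff _).mpr hnu)
    have := congrArg (fun q => Polynomial.coeff q j) hCp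
    simp only [Polynomial.coeff_C_mul, Polynomial.coeff_zero] at this
    exact (hju.mul_left_eq_zero).mp this
  -- the division f = (X - a₀) g + f(a₀)
  set g := f /ₘ (Polynomial.X - Polynomial.C a₀) with hg
  have hdiv : Polynomial.C (f.eval a₀) + (Polynomial.X - Polynomial.C a₀) * g = f := by
    have := Polynomial.modByMonic_add_div f (Polynomial.X - Polynomial.C a₀)
    rw [Polynomial.modByMonic_X_sub_C_eq_C_eval] at this
    exact this
  have hga₀ : g.eval a₀ = f.derivative.eval a₀ := by
    have := congrArg (fun q => (Polynomial.derivative q).eval a₀) hdiv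
    simp only [Polynomial.derivative_add, Polynomial.derivative_C, zero_add,
      Polynomial.derivative_mul, Polynomial.derivative_sub, Polynomial.derivative_X, sub_zero,
      one_mul, Polynomial.eval_add, Polynomial.eval_mul, Polynomial.eval_sub, Polynomial.eval_X,
      Polynomial.eval_C, sub_self, zero_mul, add_zero] at this
    exact this
  have hτ : (τ - ρ a₀) * g.eval₂ ρ τ = - ρ (f.eval a₀) := by
    have h0 : f.eval₂ ρ τ = 0 := by
      rw [← hπmk, AdjoinRoot.mk_self, map_zero]
    rw [← hdiv] at h0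
    simp only [Polynomial.eval₂_add, Polynomial.eval₂_mul, Polynomial.eval₂_sub, Polynomial.eval₂_X,
      Polynomial.eval₂_C] at h0
    linear_combination h0
  have hGunit : IsUnit (g.eval₂ ρ τ) := by
    apply hunit
    rw [Polynomial.hom_eval₂, hχ₀τ]
    have : χ₀.comp ρ = IsLocalRing.residue R := RingHom.ext hχ₀ρ
    rw [this, Polynomial.eval₂_at_apply, hga₀]
    intro h0
    exact ((IsLocalRing.residue_eq_zero_iff _).mp h0) h₂
  obtain ⟨G', hG'⟩ := hGunit.exists_right_inv
  have hδ : τ - ρ a₀ = ρ (-(f.eval a₀)) * G' := by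
    rw [map_neg]
    calc τ - ρ a₀ = (τ - ρ a₀) * (g.eval₂ ρ τ * G') := by rw [hG', mul_one]
      _ = ((τ - ρ a₀) * g.eval₂ ρ τ) * G' := by ring
      _ = -ρ (f.eval a₀) * G' := by rw [hτ]
  -- module structure and Nakayama
  letI : Algebra R (A i₀) := ρ.toAlgebra
  have halg : ∀ r : R, algebraMap R (A i₀) r = ρ r := fun r => rfl
  let πl : AdjoinRoot f →ₗ[R] A i₀ :=
    { toFun := π
      map_add' := map_add π
      map_smul' := fun r b => by
        rw [Algebra.smul_def, map_mul, RingHom.id_apply, Algebra.smul_def]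
        rfl }
  haveI : Module.Finite R (AdjoinRoot f) := hf.finite_adjoinRoot
  haveI : Module.Finite R (A i₀) := Module.Finite.of_surjective πl hπsurj
  have hNak : (⊤ : Submodule R (A i₀)) ≤ LinearMap.range (Algebra.linearMap R (A i₀)) := by
    apply Submodule.le_of_le_smul_of_le_jacobson_bot (I := IsLocalRing.maximalIdeal R)
      Module.Finite.fg_top (IsLocalRing.maximalIdeal_le_jacobson _)
    intro y _
    obtain ⟨b, rfl⟩ := hπsurj y
    obtain ⟨p, rfl⟩ := AdjoinRoot.mk_surjective b
    rw [hπmk]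
    have h1 : p.eval₂ ρ τ = ρ (p.eval a₀) + (p.eval₂ ρ τ - p.eval₂ ρ (ρ a₀)) := by
      rw [Polynomial.eval₂_at_apply]; ring
    rw [h1]
    apply Submodule.add_mem_sup
    · exact ⟨p.eval a₀, rfl⟩
    · obtain ⟨w, hw⟩ := Polynomial.sub_dvd_eval_sub τ (ρ a₀) (p.map ρ)
      rw [Polynomial.eval_map, Polynomial.eval_map] at hw
      rw [hw, hδ]
      have : ρ (-(f.eval a₀)) * G' * w = (-(f.eval a₀)) • (G' * w) := by
        rw [Algebra.smul_def, halg]; ring
      rw [this]
      apply Submodule.smul_mem_smul _ Submodule.mem_top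
      exact neg_mem h₁
  obtain ⟨a, ha⟩ := hNak (Submodule.mem_top : τ ∈ ⊤)
  have ha' : ρ a = τ := ha
  refine ⟨a, ?_, ?_⟩
  · apply hρinj
    rw [map_zero, ← Polynomial.eval₂_at_apply, ha', ← hπmk, AdjoinRoot.mk_self, map_zero]
  · rw [← IsLocalRing.residue_eq_zero_iff, map_sub, ← hχ₀ρ a, ha', hχ₀τ, sub_self]

end Groth.Agent.S5034
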