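import Groth.Statements.S5038
import Groth.Agent.Lib.Helper18.HensSection

set_option autoImplicit false
open CategoryTheory AlgebraicGeometry
universe u
open Hensel

namespace Groth.Agent.S5038

/-- Let A be a henselian local ring with residue field k, S = Spec A, and f : X ⟶ S a smooth morphism.
Then the map from sections of f to k-points of the closed fibre is surjective: every u₀ : Spec k ⟶ X
lying over the closed point extends to a section u of f. -/
theorem result (A : Type u) [CommRing A] [HenselianLocalRing A]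
    {X : Scheme.{u}} (f : X ⟶ Spec (CommRingCat.of A)) [Smooth f]
    (u₀ : Spec (CommRingCat.of (IsLocalRing.ResidueField A)) ⟶ X)
    (h₀ : u₀ ≫ f = Spec.map (CommRingCat.ofHom (IsLocalRing.residue A))) :
    ∃ u : Spec (CommRingCat.of A) ⟶ X, u ≫ f = 𝟙 _ ∧
      Spec.map (CommRingCat.ofHom (IsLocalRing.residue A)) ≫ u = u₀ := by
  haveI : Subsingleton ↥(Spec (CommRingCat.of (IsLocalRing.ResidueField A))) :=
    inferInstanceAs (Subsingleton (PrimeSpectrum (IsLocalRing.ResidueField A)))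
  obtain ⟨pt⟩ : Nonempty ↥(Spec (CommRingCat.of (IsLocalRing.ResidueField A))) :=
    inferInstanceAs (Nonempty (PrimeSpectrum (IsLocalRing.ResidueField A)))
  obtain ⟨_, ⟨U, (hU : IsAffineOpen U), rfl⟩, hxU, -⟩ :=
    X.isBasis_affineOpens.exists_subset_of_mem_open (Set.mem_univ (u₀ pt)) isOpen_univ
  have hrange : Set.range u₀ ⊆ Set.range hU.fromSpec := by
    rw [hU.range_fromSpec]
    rintro _ ⟨y, rfl⟩
    rw [Subsingleton.elim y pt]
    exact hxU
  have hu₀' : IsOpenImmersion.lift hU.fromSpec u₀ hrange ≫ hU.fromSpec = u₀ :=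
    IsOpenImmersion.lift_fac _ _ _
  obtain ⟨θ, hθ⟩ := Spec.map_surjective (IsOpenImmersion.lift hU.fromSpec u₀ hrange)
  obtain ⟨ψ, hψ⟩ := Spec.map_surjective (hU.fromSpec ≫ f)
  have hsm : ψ.hom.Smooth := by
    have : Smooth (Spec.map ψ) := by rw [hψ]; infer_instance
    exact (HasRingHomProperty.Spec_iff (P := @Smooth)).mp this
  have hcomp : ψ ≫ θ = CommRingCat.ofHom (IsLocalRing.residue A) := by
    apply Spec.map_injective
    rw [Spec.map_comp, hθ, hψ, ← Category.assoc, hu₀', h₀]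
  algebraize [ψ.hom]
  obtain ⟨θA, hθA⟩ : ∃ θA : Γ(X, U) →ₐ[A] IsLocalRing.ResidueField A, ∀ b, θA b = θ.hom b :=
    ⟨{ θ.hom with commutes' := fun a => congrArg (fun g => g.hom a) hcomp }, fun _ => rfl⟩
  obtain ⟨φ, hφ⟩ := Groth.Agent.Helper18.HensSection.smooth_lift A Γ(X, U) θA
  refine ⟨Spec.map (CommRingCat.ofHom φ.toRingHom) ≫ hU.fromSpec, ?_, ?_⟩
  · rw [Category.assoc, ← hψ, ← Spec.map_comp]
    have : ψ ≫ CommRingCat.ofHom φ.toRingHom = 𝟙 _ := by
      ext a
      exact φ.commutes a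
    rw [this, Spec.map_id]
  · rw [← Category.assoc, ← Spec.map_comp, ← hu₀', ← hθ]
    refine congrArg (fun g => Spec.map g ≫ hU.fromSpec) ?_
    ext b
    exact (hφ b).trans (hθA b)

end Groth.Agent.S5038
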