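import Mathlib
import Groth.Agent.H11.HCUnique
import Groth.Agent.H11.HCFibre
import Groth.Agent.H11.FlatUnramAss
import Groth.Agent.S0509
import Groth.Agent.S0511
import Groth.Statements.S5043

set_option autoImplicit false
universe u
open Hensel

namespace Groth.Agent.S5043

/-- Let R be a Noetherian local ring with henselization S. A prime ideal P of S is an associated prime
of S if and only if its inverse image in R is an associated prime of R. -/
theorem result (R S : Type u) [CommRing R] [IsLocalRing R] [IsNoetherianRing R]
    [CommRing S] [IsLocalRing S] [Algebra R S] [IsLocalHom (algebraMap R S)] [Hensel.IsHenselization R S]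
    (P : Ideal S) [P.IsPrime] :
    P ∈ associatedPrimes S S ↔ P.comap (algebraMap R S) ∈ associatedPrimes R R := by
  obtain ⟨e⟩ := Groth.Agent.H11.HC.nonempty_algEquiv_hens R S
  haveI : Module.FaithfullyFlat R S := Groth.Agent.S0509.result R S
  haveI : IsNoetherianRing S := (Groth.Agent.S0511.result R S).1 inferInstance
  have hU : Groth.Agent.H11.FUL.IsLocallyGenerated R S :=
    Groth.Agent.H11.FUL.IsLocallyGenerated.of_algEquiv e
      (fun q _ x hx => Groth.Agent.H11.HC.exists_not_mem_mul_mem_map_lim q x hx)
  exact Groth.Agent.H11.FUL.mem_associatedPrimes_iff hU P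

end Groth.Agent.S5043
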