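import Groth.Statements.S5048
import Mathlib

set_option autoImplicit false
open CategoryTheory AlgebraicGeometry
universe u
open Unram

namespace Groth.Agent.S5048


/-- Let Y be an irreducible scheme with generic point η and f : X ⟶ Y flat, locally of finite type and
locally quasi-finite. Then a point x of X maps to η if and only if its closure is an irreducible
component of X; thus the irreducible components of X are in canonical bijection with the fibre over
η. -/
theorem result {X Y : Scheme.{u}} [IrreducibleSpace ↥Y] (f : X ⟶ Y)
    [Flat f] [LocallyOfFiniteType f] [LocallyQuasiFinite f] (x : X) :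
    f.base x = genericPoint Y ↔ closure ({x} : Set ↥X) ∈ irreducibleComponents ↥X := by
  constructor
  · intro hx
    refine ⟨isIrreducible_singleton.closure, ?_⟩
    intro Z hZ hle
    have hZc : IsIrreducible (closure Z) := hZ.closure
    obtain ⟨x', hx'⟩ := QuasiSober.sober hZc isClosed_closure
    have hxZ : x ∈ closure Z := subset_closure (hle (subset_closure rfl))
    have hspec : x' ⤳ x := by
      rw [specializes_iff_mem_closure, hx'.def]; exact hxZ
    have hfx' : f.base x' = genericPoint Y := by
      have h1 : f.base x' ⤳ f.base x := hspec.map f.continuous
      rw [hx] at h1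
      exact (h1.antisymm (genericPoint_specializes _)).eq
    have hdisc := f.isDiscrete_preimage_singleton (genericPoint Y)
    rw [isDiscrete_iff_forall_mem_exists_isOpen] at hdisc
    obtain ⟨U, hU, hUS⟩ := hdisc x hx
    have hx'U : x' ∈ U := hspec.mem_open hU (by
      have : x ∈ U ∩ f ⁻¹' {genericPoint Y} := by rw [hUS]; rfl
      exact this.1)
    have : x' ∈ U ∩ f ⁻¹' {genericPoint Y} := ⟨hx'U, hfx'⟩
    rw [hUS] at this
    have hxx : x' = x := this
    have h2 : closure ({x} : Set X) = closure Z := by rw [← hxx]; exact hx'.def
    rw [h2]
    exact subset_closure
  · intro hx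
    have hgen := Flat.generalizingMap f
    obtain ⟨x', hx'x, hfx'⟩ := hgen (genericPoint_specializes (f.base x))
    have hle : closure ({x} : Set X) ≤ closure {x'} := by
      apply closure_minimal _ isClosed_closure
      rw [Set.singleton_subset_iff, ← specializes_iff_mem_closure]
      exact hx'x
    have hge := hx.2 isIrreducible_singleton.closure hle
    have : x ⤳ x' := by
      rw [specializes_iff_mem_closure]
      exact hge (subset_closure rfl)
    have hxx : x = x' := (this.antisymm hx'x).eq
    rw [hxx]; exact hfx'

end Groth.Agent.S5048
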