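import Groth.Statements.S5049
import Mathlib

set_option autoImplicit false
open CategoryTheory AlgebraicGeometry
universe u
open Unram

namespace Groth.Agent.S5049

open CategoryTheory AlgebraicGeometry in
theorem fiber_finite {X Y : Scheme.{u}} (f : X ⟶ Y) [LocallyQuasiFinite f] (U : X.Opens)
    (V : Y.Opens) (hU : IsAffineOpen U) (hV : IsAffineOpen V) (e : U ≤ f ⁻¹ᵁ V) (y : Y)
    (hy : y ∈ V) : (↑U ∩ f ⁻¹' {y} : Set X).Finite := by
  haveI : IsAffine U.toScheme := hU
  haveI : IsAffine V.toScheme := hV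
  have hfin := (f.resLE V U e).finite_preimage_singleton ⟨y, hy⟩
  have : (↑U ∩ f ⁻¹' {y} : Set X) ⊆ U.ι '' ((f.resLE V U e) ⁻¹' {⟨y, hy⟩}) := by
    rintro ξ ⟨hξU, hξy⟩
    refine ⟨⟨ξ, hξU⟩, ?_, rfl⟩
    have h1 := congrArg (fun φ => φ.base ⟨ξ, hξU⟩) (Scheme.Hom.resLE_comp_ι f e)
    apply Subtype.ext
    exact h1.trans hξy
  exact (hfin.image _).subset this

open CategoryTheory AlgebraicGeometry in
theorem image_generic {X Y : Scheme.{u}} (f : X ⟶ Y) [Flat f] (ξ : X)
    (hξ : closure ({ξ} : Set X) ∈ irreducibleComponents X) :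
    closure ({f.base ξ} : Set Y) ∈ irreducibleComponents Y := by
  refine ⟨isIrreducible_singleton.closure, ?_⟩
  intro W hW hle
  obtain ⟨y', hy'⟩ := QuasiSober.sober hW.closure isClosed_closure
  have hspec : y' ⤳ f.base ξ := by
    rw [specializes_iff_mem_closure, hy'.def]
    exact subset_closure (hle (subset_closure rfl))
  obtain ⟨ξ', hξ'ξ, hfξ'⟩ := Flat.generalizingMap f hspec
  have hle' : closure ({ξ} : Set X) ≤ closure {ξ'} := by
    apply closure_minimal _ isClosed_closure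
    rw [Set.singleton_subset_iff, ← specializes_iff_mem_closure]
    exact hξ'ξ
  have hge := hξ.2 isIrreducible_singleton.closure hle'
  have h1 : ξ ⤳ ξ' := by
    rw [specializes_iff_mem_closure]
    exact hge (subset_closure rfl)
  have hxx : ξ = ξ' := (h1.antisymm hξ'ξ).eq
  have h2 : closure ({f.base ξ} : Set Y) = closure W := by
    rw [hxx, hfξ']; exact hy'.def
  rw [h2]
  exact subset_closure

/-- Let f : X ⟶ Y be flat, locally of finite type and locally quasi-finite. If the irreducible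
components of Y form a locally finite family of subsets, then so do the irreducible components of X. -/
theorem result {X Y : Scheme.{u}} (f : X ⟶ Y)
    [Flat f] [LocallyOfFiniteType f] [LocallyQuasiFinite f]
    (hY : LocallyFinite (fun Z : ↥(irreducibleComponents ↥Y) => (Z : Set ↥Y))) :
    LocallyFinite (fun Z : ↥(irreducibleComponents ↥X) => (Z : Set ↥X)) := by
  classical
  intro x
  obtain ⟨t, ht, hfin⟩ := hY (f.base x)
  obtain ⟨O, hOt, hO, hxO⟩ := mem_nhds_iff.mp ht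
  have hxO' : f.base x ∈ (⟨O, hO⟩ : Y.Opens) := hxO
  obtain ⟨V, hV, hxV, hVO⟩ :=
    (TopologicalSpace.Opens.isBasis_iff_nbhd.mp Y.isBasis_affineOpens) hxO'
  have hxfV : x ∈ f ⁻¹ᵁ V := hxV
  obtain ⟨U, hU, hxU, hUV⟩ :=
    (TopologicalSpace.Opens.isBasis_iff_nbhd.mp X.isBasis_affineOpens) hxfV
  refine ⟨U, U.2.mem_nhds hxU, ?_⟩
  -- generic points
  have hgen : ∀ Z : irreducibleComponents X, ∃ ξ : X, closure ({ξ} : Set X) = Z := by
    intro Z
    obtain ⟨ξ, hξ⟩ := QuasiSober.sober Z.2.1 (isClosed_of_mem_irreducibleComponents _ Z.2)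
    exact ⟨ξ, hξ.def⟩
  choose Ψ hΨ using hgen
  have hΨinj : Function.Injective Ψ := by
    intro Z Z' h
    apply Subtype.ext
    rw [← hΨ Z, ← hΨ Z', h]
  set S := {Z : irreducibleComponents X | ((Z : Set X) ∩ ↑U).Nonempty} with hS
  set Wfin := {W : irreducibleComponents Y | ((W : Set Y) ∩ t).Nonempty} with hWfin
  -- the finite target set
  have hT : ∀ W : irreducibleComponents Y,
      {ξ : X | ξ ∈ U ∧ closure ({f.base ξ} : Set Y) = W}.Finite := by
    intro W
    by_cases hne : {ξ : X | ξ ∈ U ∧ closure ({f.base ξ} : Set Y) = W}.Nonempty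
    · obtain ⟨ξ₀, hξ₀U, hξ₀W⟩ := hne
      have hy : f.base ξ₀ ∈ V := hUV hξ₀U
      apply (fiber_finite f U V hU hV hUV (f.base ξ₀) hy).subset
      rintro ξ ⟨hξU, hξW⟩
      refine ⟨hξU, ?_⟩
      have : Inseparable (f.base ξ) (f.base ξ₀) := by
        rw [inseparable_iff_closure_eq, hξW, hξ₀W]
      exact this.eq
    · rw [Set.not_nonempty_iff_eq_empty] at hne
      rw [hne]; exact Set.finite_empty
  have hTfin : (⋃ W ∈ Wfin, {ξ : X | ξ ∈ U ∧ closure ({f.base ξ} : Set Y) = W}).Finite :=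
    Set.Finite.biUnion hfin (fun W _ => hT W)
  have hsub : Ψ '' S ⊆ ⋃ W ∈ Wfin, {ξ : X | ξ ∈ U ∧ closure ({f.base ξ} : Set Y) = W} := by
    rintro _ ⟨Z, hZS, rfl⟩
    obtain ⟨z, hzZ, hzU⟩ := hZS
    have hΨU : Ψ Z ∈ U := by
      have h1 : Ψ Z ⤳ z := by
        rw [specializes_iff_mem_closure, hΨ Z]; exact hzZ
      exact h1.mem_open U.2 hzU
    have hcomp : closure ({f.base (Ψ Z)} : Set Y) ∈ irreducibleComponents Y :=
      image_generic f (Ψ Z) (by rw [hΨ Z]; exact Z.2)
    simp only [Set.mem_iUnion, Set.mem_ofPred_eq, exists_prop]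
    refine ⟨⟨_, hcomp⟩, ?_, hΨU, rfl⟩
    refine ⟨f.base (Ψ Z), subset_closure rfl, hOt (hVO (hUV hΨU))⟩
  exact Set.Finite.of_finite_image (hTfin.subset hsub) hΨinj.injOn

end Groth.Agent.S5049
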