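import Groth.Statements.S5050
import Mathlib.RingTheory.Filtration

set_option autoImplicit false
universe u v
open CInt

namespace Groth.Agent.S5050


/-- Let A be a Noetherian ring, N a finitely generated A-module, E and F submodules of N and Q an ideal
of A. For every natural number k there is h > 0 with E ⊓ (F ⊔ Q^h N) ≤ (E ⊓ F) ⊔ Q^k N. -/
theorem result {A : Type u} [CommRing A] [IsNoetherianRing A] {N : Type v} [AddCommGroup N]
    [Module A N] [Module.Finite A N] (E F : Submodule A N) (Q : Ideal A) (k : ℕ) :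
    ∃ h : ℕ, 0 < h ∧ E ⊓ (F ⊔ Q ^ h • (⊤ : Submodule A N)) ≤ (E ⊓ F) ⊔ Q ^ k • (⊤ : Submodule A N) := by
  obtain ⟨c, hc⟩ := Ideal.exists_pow_inf_eq_pow_smul Q (E.map F.mkQ)
  refine ⟨k + c + 1, Nat.succ_pos _, ?_⟩
  rintro x ⟨hxE, hxFQ⟩
  obtain ⟨y, hy, z, hz, rfl⟩ := Submodule.mem_sup.mp hxFQ
  have h1 : F.mkQ (y + z) ∈ Q ^ (k + c + 1) • (⊤ : Submodule A (N ⧸ F)) ⊓ E.map F.mkQ := by
    refine ⟨?_, Submodule.mem_map_of_mem hxE⟩
    have : F.mkQ (y + z) = F.mkQ z := by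
      have hy0 : F.mkQ y = 0 := (Submodule.Quotient.mk_eq_zero F).mpr hy
      rw [map_add, hy0, zero_add]
    rw [this]
    have h2 : (Q ^ (k + c + 1) • (⊤ : Submodule A N)).map F.mkQ = Q ^ (k + c + 1) • (⊤ : Submodule A (N ⧸ F)) := by
      rw [Submodule.map_smul'', Submodule.map_top, Submodule.range_mkQ]
    rw [← h2]
    exact Submodule.mem_map_of_mem hz
  rw [hc (k + c + 1) (by omega)] at h1
  have h3 : Q ^ (k + c + 1 - c) • (Q ^ c • (⊤ : Submodule A (N ⧸ F)) ⊓ E.map F.mkQ) ≤ (Q ^ k • E).map F.mkQ := by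
    rw [Submodule.map_smul'']
    exact Submodule.smul_mono (Ideal.pow_le_pow_right (by omega)) inf_le_right
  obtain ⟨w, hw, hwx⟩ := h3 h1
  have hwE : w ∈ E := Submodule.smul_le_right hw
  have hdiff : y + z - w ∈ F := by
    rw [← Submodule.Quotient.mk_eq_zero F]
    change F.mkQ (y + z - w) = 0
    rw [map_sub, hwx, sub_self]
  have : y + z = (y + z - w) + w := by abel
  rw [this]
  refine Submodule.add_mem_sup ⟨E.sub_mem hxE hwE, hdiff⟩ ?_
  exact Submodule.smul_mono le_rfl le_top hw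

end Groth.Agent.S5050
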