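import Groth.Statements.S5062
import Groth.Agent.Lib.Helper18.HensSection

set_option autoImplicit false
open CategoryTheory AlgebraicGeometry
universe u
open Hensel

namespace Groth.Agent.S5062

/-- a) iff c): a local ring A is henselian with separably closed residue field if and only if, for every
étale morphism f : X ⟶ Spec A and every point x of X lying over the closed point s, there is a
section u of f with u s = x. -/
theorem result (A : Type u) [CommRing A] [IsLocalRing A] :
    (HenselianLocalRing A ∧ IsSepClosed (IsLocalRing.ResidueField A)) ↔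
      ∀ (X : Scheme.{u}) (f : X ⟶ Spec (CommRingCat.of A)), Etale f →
        ∀ x : X, f.base x = IsLocalRing.closedPoint A →
          ∃ u : Spec (CommRingCat.of A) ⟶ X, u ≫ f = 𝟙 _ ∧ u.base (IsLocalRing.closedPoint A) = x := by
  classical
  constructor
  · rintro ⟨hH, hS⟩ X f hf x hx
    haveI := hH
    haveI := hS
    haveI := hf
    obtain ⟨_, ⟨U, (hU : IsAffineOpen U), rfl⟩, hxU, -⟩ :=
      X.isBasis_affineOpens.exists_subset_of_mem_open (Set.mem_univ x) isOpen_univ
    obtain ⟨ψ, hψ⟩ := Spec.map_surjective (hU.fromSpec ≫ f)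
    have het : ψ.hom.Etale := by
      have : Etale (Spec.map ψ) := by rw [hψ]; infer_instance
      exact (HasRingHomProperty.Spec_iff (P := @Etale)).mp this
    have hfs : hU.fromSpec (hU.primeIdealOf ⟨x, hxU⟩) = x :=
      hU.fromSpec_primeIdealOf ⟨x, hxU⟩
    have hpt : Spec.map ψ (hU.primeIdealOf ⟨x, hxU⟩) = IsLocalRing.closedPoint A := by
      rw [hψ, Scheme.Hom.comp_apply, hfs]
      exact hx
    algebraize [ψ.hom]
    obtain ⟨φ, hφ⟩ := Groth.Agent.Helper18.HensSection.etale_section A Γ(X, U)
      (hU.primeIdealOf ⟨x, hxU⟩).asIdeal (congrArg PrimeSpectrum.asIdeal hpt)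
    refine ⟨Spec.map (CommRingCat.ofHom φ.toRingHom) ≫ hU.fromSpec, ?_, ?_⟩
    · rw [Category.assoc, ← hψ, ← Spec.map_comp]
      have : ψ ≫ CommRingCat.ofHom φ.toRingHom = 𝟙 _ := by
        ext a
        exact φ.commutes a
      rw [this, Spec.map_id]
    · have h1 : Spec.map (CommRingCat.ofHom φ.toRingHom) (IsLocalRing.closedPoint A) =
          hU.primeIdealOf ⟨x, hxU⟩ := PrimeSpectrum.ext hφ
      exact (Scheme.Hom.comp_apply _ _ _).trans ((congrArg hU.fromSpec h1).trans hfs)
  · intro H
    have sec : ∀ (S : Type u) [CommRing S] [Algebra A S] [Algebra.Etale A S] (q : Ideal S)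
        [q.IsPrime], q.comap (algebraMap A S) = IsLocalRing.maximalIdeal A →
          Nonempty (S →ₐ[A] A) := by
      intro S _ _ _ q _ hq
      have het : Etale (Spec.map (CommRingCat.ofHom (algebraMap A S))) :=
        (HasRingHomProperty.Spec_iff (P := @Etale)).mpr
          (RingHom.etale_algebraMap.mpr inferInstance)
      obtain ⟨u, hu, -⟩ := H (Spec (.of S)) _ het ⟨q, inferInstance⟩ (PrimeSpectrum.ext hq)
      obtain ⟨φ, rfl⟩ := Spec.map_surjective u
      have h1 : CommRingCat.ofHom (algebraMap A S) ≫ φ = 𝟙 _ := by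
        apply Spec.map_injective
        rw [Spec.map_comp, hu, Spec.map_id]
      exact ⟨{ φ.hom with commutes' := fun a => congrArg (fun g => g.hom a) h1 }⟩
    refine ⟨Groth.Agent.H11.HensEt2.henselian_of_etale_retraction A
      (fun S _ _ _ q _ hlo _ => sec S q hlo.over.symm), ?_⟩
    apply IsSepClosed.of_exists_root
    intro pb hmon hirr hsep
    haveI : Fact (Irreducible pb) := ⟨hirr⟩
    obtain ⟨P, hPmap, -, hPmon⟩ := Polynomial.lifts_and_degree_eq_and_monic
      ((Polynomial.mem_lifts _).mpr
        (Polynomial.map_surjective (IsLocalRing.residue A) IsLocalRing.residue_surjective pb))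
      hmon
    let Pr : StandardEtalePair A := ⟨P, hPmon, Polynomial.derivative P, ⟨1, 0, 1, by simp⟩⟩
    have hroot : Polynomial.aeval (AdjoinRoot.root pb) P = 0 := by
      rw [← Polynomial.aeval_map_algebraMap (IsLocalRing.ResidueField A)]
      show Polynomial.aeval _ (P.map (IsLocalRing.residue A)) = 0
      rw [hPmap, AdjoinRoot.aeval_eq, AdjoinRoot.mk_self]
    have hder : Polynomial.aeval (AdjoinRoot.root pb) (Polynomial.derivative P) ≠ 0 := by
      rw [← Polynomial.aeval_map_algebraMap (IsLocalRing.ResidueField A),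
        ← Polynomial.derivative_map]
      show Polynomial.aeval _ (Polynomial.derivative (P.map (IsLocalRing.residue A))) ≠ 0
      rw [hPmap, AdjoinRoot.aeval_eq, Ne, AdjoinRoot.mk_eq_zero]
      intro hdvd
      have hcop : IsCoprime pb (Polynomial.derivative pb) := hsep
      exact hirr.not_isUnit (hcop.isUnit_of_dvd' (dvd_refl _) hdvd)
    have hmap : Pr.HasMap (AdjoinRoot.root pb) := ⟨hroot, isUnit_iff_ne_zero.mpr hder⟩
    haveI : (RingHom.ker (Pr.lift (AdjoinRoot.root pb) hmap).toRingHom).IsPrime :=
      RingHom.ker_isPrime _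
    have hq : (RingHom.ker (Pr.lift (AdjoinRoot.root pb) hmap).toRingHom).comap
        (algebraMap A Pr.Ring) = IsLocalRing.maximalIdeal A := by
      ext a
      rw [Ideal.mem_comap, RingHom.mem_ker]
      show (Pr.lift (AdjoinRoot.root pb) hmap) (algebraMap A Pr.Ring a) = 0 ↔ _
      rw [AlgHom.commutes,
        IsScalarTower.algebraMap_apply A (IsLocalRing.ResidueField A) (AdjoinRoot pb),
        map_eq_zero]
      exact IsLocalRing.residue_eq_zero_iff a
    obtain ⟨φ⟩ := sec Pr.Ring _ hq
    refine ⟨IsLocalRing.residue A (φ Pr.X), ?_⟩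
    rw [← hPmap, Polynomial.eval_map_apply]
    have h0 : Polynomial.aeval (φ Pr.X) P = 0 := by
      have : Polynomial.aeval Pr.X P = 0 := Pr.hasMap_X.1
      rw [Polynomial.aeval_algHom_apply, this, map_zero]
    rw [Polynomial.coe_aeval_eq_eval] at h0
    rw [h0, map_zero]

end Groth.Agent.S5062
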