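import Groth.Statements.S5063
import Mathlib
import Groth.Agent.H20.UnramLocus

set_option autoImplicit false
open CategoryTheory CategoryTheory.Limits AlgebraicGeometry
universe u
open Unram

namespace Groth.Agent.S5063

section Helpers
open AlgebraicGeometry CategoryTheory CategoryTheory.Limits TopologicalSpace

theorem graph_lemma {X Y Z : Scheme.{u}} (f : X ⟶ Y) (g : Z ⟶ Y) [Etale g] (D : X.Opens)
    (j : D.toScheme ⟶ Z) [IsClosedImmersion j] (w : D.ι ≫ f = j ≫ g) :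
    ∃ U : (pullback f g).Opens, IsClosedImmersion (U.ι ≫ pullback.snd f g) ∧
      ∀ x ∈ D, x ∈ (pullback.fst f g).base '' (U : Set ↥(pullback f g)) := by
  let γ : D.toScheme ⟶ pullback f g := pullback.lift D.ι j w
  have h1 : γ ≫ pullback.fst f g = D.ι := pullback.lift_fst _ _ _
  have h2 : γ ≫ pullback.snd f g = j := pullback.lift_snd _ _ _
  haveI : Mono γ := mono_of_mono_fac h1
  haveI : Etale (γ ≫ pullback.fst f g) := by rw [h1]; infer_instance
  haveI : Etale γ := Etale.of_comp γ (pullback.fst f g)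
  haveI : IsOpenImmersion γ := IsOpenImmersion.of_flat_of_mono γ
  refine ⟨γ.opensRange, ?_, ?_⟩
  · have h : γ.opensRange.ι ≫ pullback.snd f g = γ.isoOpensRange.inv ≫ j := by
      rw [← cancel_epi γ.isoOpensRange.hom, Scheme.Hom.isoOpensRange_hom_ι_assoc, h2,
        Iso.hom_inv_id_assoc]
    rw [h]
    infer_instance
  · intro x hx
    refine ⟨γ ⟨x, hx⟩, ⟨⟨x, hx⟩, rfl⟩, ?_⟩
    rw [← Scheme.Hom.comp_apply, h1]
    rfl

set_option backward.isDefEq.respectTransparency false in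
theorem exists_local5063 {X Y : Scheme.{u}} (f : X ⟶ Y) [LocallyOfFiniteType f]
    [FormallyUnramified f] (x : X) :
    ∃ (Y' : Scheme.{u}) (g : Y' ⟶ Y) (U : (pullback f g).Opens), Etale g ∧
      x ∈ (pullback.fst f g).base '' (U : Set ↥(pullback f g)) ∧
      IsClosedImmersion (U.ι ≫ pullback.snd f g) := by
  obtain ⟨W, hW, hyW, -⟩ := Opens.isBasis_iff_nbhd.mp Y.isBasis_affineOpens
    (Opens.mem_top (f x))
  obtain ⟨V, hV, hxV, eV⟩ := Opens.isBasis_iff_nbhd.mp X.isBasis_affineOpens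
    (show x ∈ f ⁻¹ᵁ W from hyW)
  letI := (f.appLE W V eV).hom.toAlgebra
  haveI : Algebra.FiniteType Γ(Y, W) Γ(X, V) := f.finiteType_appLE hW hV eV
  haveI : Algebra.FormallyUnramified Γ(Y, W) Γ(X, V) :=
    (HasRingHomProperty.iff_appLE (P := @FormallyUnramified)).mp inferInstance ⟨W, hW⟩ ⟨V, hV⟩ eV
  obtain ⟨𝔮, h𝔮⟩ : ∃ 𝔮 : PrimeSpectrum Γ(X, V), hV.fromSpec 𝔮 = x :=
    ⟨hV.primeIdealOf ⟨x, hxV⟩, hV.fromSpec_primeIdealOf ⟨x, hxV⟩⟩
  haveI : Algebra.FormallyUnramified Γ(X, V) (Localization.AtPrime 𝔮.asIdeal) :=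
    Algebra.FormallyUnramified.of_isLocalization 𝔮.asIdeal.primeCompl
  haveI : Algebra.IsUnramifiedAt Γ(Y, W) 𝔮.asIdeal :=
    Algebra.FormallyUnramified.comp Γ(Y, W) Γ(X, V) _
  obtain ⟨g₀, hg₀, P, φ, hφ⟩ :=
    Algebra.IsUnramifiedAt.exists_hasStandardEtaleSurjectionOn (R := Γ(Y, W)) 𝔮.asIdeal
  have hDV : X.basicOpen g₀ ≤ V := X.basicOpen_le g₀
  have hD : IsAffineOpen (X.basicOpen g₀) := hV.basicOpen g₀
  have hxD : x ∈ X.basicOpen g₀ := by
    have h1 : 𝔮 ∈ PrimeSpectrum.basicOpen g₀ := hg₀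
    rw [← hV.fromSpec_preimage_basicOpen] at h1
    have h2 : hV.fromSpec 𝔮 ∈ X.basicOpen g₀ := h1
    rwa [h𝔮] at h2
  letI algD : Algebra Γ(X, V) Γ(X, X.basicOpen g₀) :=
    (X.presheaf.map (homOfLE hDV).op).hom.toAlgebra
  haveI : IsLocalization.Away g₀ Γ(X, X.basicOpen g₀) := hV.isLocalization_basicOpen g₀
  let e : Localization.Away g₀ ≃ₐ[Γ(X, V)] Γ(X, X.basicOpen g₀) :=
    IsLocalization.algEquiv (Submonoid.powers g₀) _ _
  let ψ : P.Ring →+* Γ(X, X.basicOpen g₀) :=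
    (e : Localization.Away g₀ →+* Γ(X, X.basicOpen g₀)).comp φ.toRingHom
  have hψsurj : Function.Surjective ψ := e.surjective.comp hφ
  have hψA : ψ.comp (algebraMap Γ(Y, W) P.Ring) =
      (f.appLE W (X.basicOpen g₀) (hDV.trans eV)).hom := by
    ext a
    show e (φ (algebraMap _ _ a)) = _
    rw [φ.commutes, IsScalarTower.algebraMap_apply Γ(Y, W) Γ(X, V) (Localization.Away g₀),
      e.commutes, ← f.appLE_map eV (homOfLE hDV).op]
    rfl
  let j : (X.basicOpen g₀).toScheme ⟶ Spec (CommRingCat.of P.Ring) :=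
    hD.isoSpec.hom ≫ Spec.map (CommRingCat.ofHom ψ)
  haveI : IsClosedImmersion (Spec.map (CommRingCat.ofHom ψ)) :=
    IsClosedImmersion.spec_of_surjective _ hψsurj
  haveI : IsClosedImmersion j := inferInstance
  let g : Spec (CommRingCat.of P.Ring) ⟶ Y :=
    Spec.map (CommRingCat.ofHom (algebraMap Γ(Y, W) P.Ring)) ≫ hW.fromSpec
  haveI : Etale (Spec.map (CommRingCat.ofHom (algebraMap Γ(Y, W) P.Ring))) :=
    (HasRingHomProperty.Spec_iff (P := @Etale)).mpr (RingHom.etale_algebraMap.mpr inferInstance)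
  haveI : Etale g := inferInstance
  have w : (X.basicOpen g₀).ι ≫ f = j ≫ g := by
    show _ = (hD.isoSpec.hom ≫ Spec.map (CommRingCat.ofHom ψ)) ≫
      Spec.map (CommRingCat.ofHom (algebraMap Γ(Y, W) P.Ring)) ≫ hW.fromSpec
    rw [Category.assoc, ← Spec.map_comp_assoc, ← CommRingCat.ofHom_comp, hψA,
      CommRingCat.ofHom_hom, IsAffineOpen.SpecMap_appLE_fromSpec f hW hD, ← Category.assoc,
      hD.isoSpec_hom_fromSpec]
  obtain ⟨U, hU1, hU2⟩ := graph_lemma f g (X.basicOpen g₀) j w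
  exact ⟨_, g, U, inferInstance, hU2 x hxD, hU1⟩

theorem forward5063 {X Y : Scheme.{u}} (f : X ⟶ Y) [LocallyOfFinitePresentation f]
    [FormallyUnramified f] :
    ∃ (ι : Type u) (Y' : ι → Scheme.{u}) (g : ∀ a, Y' a ⟶ Y) (U : ∀ a, (pullback f (g a)).Opens),
      (∀ a, Etale (g a)) ∧
      (∀ x : X, ∃ a, x ∈ (pullback.fst f (g a)).base '' (U a : Set ↥(pullback f (g a)))) ∧
        ∀ a, IsClosedImmersion ((U a).ι ≫ pullback.snd f (g a)) := by
  have key := exists_local5063 f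
  choose Y' g U h1 h2 h3 using key
  exact ⟨X, Y', g, U, h1, fun x => ⟨x, h2 x⟩, h3⟩

theorem backward5063 {X Y : Scheme.{u}} (f : X ⟶ Y) [LocallyOfFinitePresentation f]
    (h : ∃ (ι : Type u) (Y' : ι → Scheme.{u}) (g : ∀ a, Y' a ⟶ Y)
      (U : ∀ a, (pullback f (g a)).Opens),
      (∀ a, Flat (g a)) ∧
      (∀ x : X, ∃ a, x ∈ (pullback.fst f (g a)).base '' (U a : Set ↥(pullback f (g a)))) ∧
        ∀ a, IsClosedImmersion ((U a).ι ≫ pullback.snd f (g a))) : FormallyUnramified f := by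
  obtain ⟨ι, Y', g, U, -, hcov, hU⟩ := h
  have key : ∀ x : X, ∃ V : X.Opens, x ∈ V ∧ FormallyUnramified (V.ι ≫ f) := by
    intro x
    obtain ⟨a, u, hu, rfl⟩ := hcov x
    haveI := hU a
    haveI : IsOpenImmersion (pullback.diagonal ((U a).ι ≫ pullback.snd f (g a))) :=
      inferInstance
    exact Groth.Agent.H20.UnramLocus.fu_nbhd_of_pullback f (g a) u ⟨U a, hu, inferInstance⟩
  choose V hxV hV using key
  exact IsZariskiLocalAtSource.of_iSup_eq_top V
    (eq_top_iff.mpr fun x _ => Opens.mem_iSup.mpr ⟨x, hxV x⟩) hV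

end Helpers

/-- Let f : X ⟶ Y be locally of finite presentation. If f is unramified then there are étale morphisms
g_a : Y'_a ⟶ Y and opens U_a of the fibre products X ×_Y Y'_a whose images under the first
projections cover X, such that each U_a ⟶ Y'_a (inclusion followed by the second projection) is a
closed immersion. Conversely, the existence of such a family with the g_a only assumed flat implies
that f is unramified. -/
theorem result {X Y : Scheme.{u}} (f : X ⟶ Y) [LocallyOfFinitePresentation f] :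
    (FormallyUnramified f → ∃ (ι : Type u) (Y' : ι → Scheme.{u}) (g : ∀ a, Y' a ⟶ Y) (U : ∀ a, (pullback f (g a)).Opens),
      (∀ a, Etale (g a)) ∧ (∀ x : X, ∃ a, x ∈ (pullback.fst f (g a)).base '' (U a : Set ↥(pullback f (g a)))) ∧
        ∀ a, IsClosedImmersion ((U a).ι ≫ pullback.snd f (g a))) ∧
    ((∃ (ι : Type u) (Y' : ι → Scheme.{u}) (g : ∀ a, Y' a ⟶ Y) (U : ∀ a, (pullback f (g a)).Opens),
      (∀ a, Flat (g a)) ∧ (∀ x : X, ∃ a, x ∈ (pullback.fst f (g a)).base '' (U a : Set ↥(pullback f (g a)))) ∧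
        ∀ a, IsClosedImmersion ((U a).ι ≫ pullback.snd f (g a))) → FormallyUnramified f) := by
  exact ⟨fun hE => by haveI := hE; exact forward5063 f, backward5063 f⟩

end Groth.Agent.S5063
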