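import Mathlib
import Groth.Agent.S0526
import Groth.Agent.H11.PairEt
import Groth.Agent.H11.HensEtale2
import Groth.Statements.S5066

set_option autoImplicit false
universe u
open Hensel

namespace Groth.Agent.S5066

/-- Case of a local ring, affine étale schemes: a local ring A with maximal ideal m is henselian if and
only if, for every finite A-algebra C and every étale A-algebra E, composing with the projection C →
C/mC is a bijection from the set of A-algebra homomorphisms E → C onto the set of A-algebra
homomorphisms E → C/mC. -/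
theorem result (A : Type u) [CommRing A] [IsLocalRing A] :
    HenselianLocalRing A ↔
      ∀ (C : Type u) [CommRing C] [Algebra A C] [Module.Finite A C] (E : Type u) [CommRing E] [Algebra A E] [Algebra.Etale A E],
        Function.Bijective (fun φ : E →ₐ[A] C =>
          (Ideal.Quotient.mkₐ A (Ideal.map (algebraMap A C) (IsLocalRing.maximalIdeal A))).comp φ) := by

  classical
  constructor
  · intro hH C _ _ _ E _ _ _
    haveI : HenselianRing A (IsLocalRing.maximalIdeal A) := inferInstance
    haveI : Algebra.IsIntegral A C := Algebra.IsIntegral.of_finite A C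
    have hC : HenselianRing C (Ideal.map (algebraMap A C) (IsLocalRing.maximalIdeal A)) :=
      Groth.Agent.S0526.result A (IsLocalRing.maximalIdeal A) C
    constructor
    · intro φ ψ h
      apply Groth.Agent.H11.PH.algHom_ext_of_etale _ hC φ ψ
      intro r
      have h1 := DFunLike.congr_fun h r
      simp only [AlgHom.comp_apply, Ideal.Quotient.mkₐ_eq_mk] at h1
      exact Ideal.Quotient.eq.1 h1
    · intro σ
      obtain ⟨τ, hτ⟩ := Groth.Agent.H11.PH.exists_algHom_lift_of_etale _ hC σ
      exact ⟨τ, hτ⟩
  · intro h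
    apply Groth.Agent.H11.HensEt2.henselian_of_etale_retraction A
    intro S _ _ _ q _ hqlies hsurj
    set 𝔪' : Ideal A := Ideal.map (algebraMap A A) (IsLocalRing.maximalIdeal A) with h𝔪'
    have h𝔪'eq : 𝔪' = IsLocalRing.maximalIdeal A := Ideal.map_id _
    have hkill : ∀ a ∈ 𝔪', algebraMap A q.ResidueField a = 0 := by
      intro a ha
      rw [h𝔪'eq] at ha
      rw [IsScalarTower.algebraMap_apply A S q.ResidueField, Ideal.algebraMap_residueField_eq_zero]
      have : a ∈ q.under A := by rw [← hqlies.over]; exact ha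
      exact this
    let ι : A ⧸ 𝔪' →ₐ[A] q.ResidueField :=
      Ideal.Quotient.liftₐ 𝔪' (Algebra.ofId A q.ResidueField) hkill
    haveI : 𝔪'.IsMaximal := h𝔪'eq ▸ inferInstance
    letI : Field (A ⧸ 𝔪') := Ideal.Quotient.field 𝔪'
    have hιinj : Function.Injective ι := (ι : A ⧸ 𝔪' →+* q.ResidueField).injective
    have hιsurj : Function.Surjective ι := by
      intro y
      obtain ⟨a, rfl⟩ := hsurj y
      exact ⟨Ideal.Quotient.mk 𝔪' a, rfl⟩
    let e : (A ⧸ 𝔪') ≃ₐ[A] q.ResidueField := AlgEquiv.ofBijective ι ⟨hιinj, hιsurj⟩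
    let θ : S →ₐ[A] A ⧸ 𝔪' := (e.symm : q.ResidueField →ₐ[A] A ⧸ 𝔪').comp
      (IsScalarTower.toAlgHom A S q.ResidueField)
    obtain ⟨φ, -⟩ := (h A S).2 θ
    exact ⟨φ⟩

end Groth.Agent.S5066
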