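import Mathlib
import Mathlib
import Groth.Agent.H11.HensQF4
import Groth.Statements.S5072

set_option autoImplicit false
open scoped TensorProduct
universe u
open Hensel

namespace Groth.Agent.S5072

/-- Case of a local ring A and a local finite A-algebra B: let S be a strict henselization of A and T a
strict henselization of B. Then there is a maximal ideal q of B ⊗_A S such that T is isomorphic, as
a B-algebra, to the local ring (B ⊗_A S)_q. -/
theorem result (A B S T : Type u) [CommRing A] [IsLocalRing A]
    [CommRing B] [IsLocalRing B] [Algebra A B] [Module.Finite A B]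
    [CommRing S] [IsLocalRing S] [Algebra A S] [IsLocalHom (algebraMap A S)] [Hensel.IsStrictHenselization A S]
    [CommRing T] [IsLocalRing T] [Algebra B T] [IsLocalHom (algebraMap B T)] [Hensel.IsStrictHenselization B T] :
    ∃ (q : Ideal (B ⊗[A] S)) (_ : q.IsMaximal), Nonempty (Localization.AtPrime q ≃ₐ[B] T) := by

  obtain ⟨Q, hQmax, e, he⟩ := Groth.Agent.H11.HensQF4.exists_equiv_local A B S T
  let c : B ⊗[A] S ≃ₐ[A] S ⊗[A] B := Algebra.TensorProduct.comm A B S
  have hc : ∀ (b : B) (s : S), c (b ⊗ₜ[A] s) = s ⊗ₜ[A] b := fun b s => rfl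
  let q : Ideal (B ⊗[A] S) := Q.comap c.toRingEquiv.toRingHom
  have hqmax : q.IsMaximal := Ideal.comap_isMaximal_of_surjective _ c.toRingEquiv.surjective
  haveI hqp : q.IsPrime := hqmax.isPrime
  haveI hQp : Q.IsPrime := hQmax.isPrime
  have hmap : q.primeCompl.map c.toRingEquiv.toMonoidHom = Q.primeCompl := by
    ext y
    constructor
    · rintro ⟨x, hx, rfl⟩
      exact hx
    · intro hy
      refine ⟨c.symm y, ?_, ?_⟩
      · show c.symm y ∉ q
        intro h
        apply hy
        have : c (c.symm y) ∈ Q := h
        rwa [AlgEquiv.apply_symm_apply] at this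
      · exact c.apply_symm_apply y
  let eloc : Localization.AtPrime q ≃+* Localization.AtPrime Q :=
    IsLocalization.ringEquivOfRingEquiv (Localization.AtPrime q) (Localization.AtPrime Q)
      c.toRingEquiv hmap
  have heloc : ∀ x : B ⊗[A] S, eloc (algebraMap _ _ x) = algebraMap _ _ (c x) := fun x =>
    IsLocalization.ringEquivOfRingEquiv_eq (S := Localization.AtPrime q)
      (Q := Localization.AtPrime Q) (j := c.toRingEquiv) hmap x
  refine ⟨q, hqmax, ⟨AlgEquiv.ofRingEquiv (f := eloc.trans e) ?_⟩⟩
  intro b
  rw [IsScalarTower.algebraMap_apply B (B ⊗[A] S) (Localization.AtPrime q),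
    Algebra.TensorProduct.algebraMap_apply, Algebra.algebraMap_self_apply]
  show e (eloc (algebraMap _ _ (b ⊗ₜ[A] (1 : S)))) = _
  rw [heloc, hc, he]

end Groth.Agent.S5072
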