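import Groth.Statements.S5092
import Mathlib
import Groth.Agent.Lib.Helper4.SchDense
import Groth.Agent.Lib.Helper4.BlowupIso

set_option autoImplicit false
universe u
open CategoryTheory CategoryTheory.Limits AlgebraicGeometry TopologicalSpace
open Mero

namespace Groth.Agent.S5092

/-- Suppose X and Y are schemes, both locally Noetherian, and f : X → Y is a morphism carrying each
associated point of O_X (that is, a point whose local ring has its maximal ideal among its
associated primes) to an associated point of O_Y. Then, given any open subset U of Y and any regular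
function s on U (one whose germ at each point of U is a non-zero-divisor), the function on f⁻¹(U)
obtained by pulling s back along f is again regular; as a result, every meromorphic function and
every divisor on Y admits a well-defined pullback along f. -/
theorem result {X Y : Scheme.{u}} [IsLocallyNoetherian X] [IsLocallyNoetherian Y]
    (f : X ⟶ Y)
    (hf : ∀ x : ↥X, IsAssociatedPrime (IsLocalRing.maximalIdeal ↑(X.presheaf.stalk x)) ↑(X.presheaf.stalk x) →
      IsAssociatedPrime (IsLocalRing.maximalIdeal ↑(Y.presheaf.stalk (f x))) ↑(Y.presheaf.stalk (f x))) :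
    ∀ (U : Y.Opens) (s : Γ(Y, U)), s ∈ Mero.regSub Y U → f.app U s ∈ Mero.regSub X (f ⁻¹ᵁ U) := by
  intro U s hs x
  obtain ⟨x, hxU⟩ := x
  obtain ⟨_, ⟨W, hW, rfl⟩, hxW, hWU⟩ :=
    X.isBasis_affineOpens.exists_subset_of_mem_open hxU (f ⁻¹ᵁ U).isOpen
  have hWU' : W ≤ f ⁻¹ᵁ U := hWU
  have hxW' : x ∈ W := hxW
  haveI : IsNoetherianRing Γ(X, W) := IsLocallyNoetherian.component_noetherian ⟨W, hW⟩
  set s' : Γ(X, W) := X.presheaf.map (homOfLE hWU').op (f.app U s) with hs'
  have hgerm : ∀ (z : X) (hz : z ∈ W), X.presheaf.germ W z hz s' =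
      X.presheaf.germ (f ⁻¹ᵁ U) z (hWU' hz) (f.app U s) := fun z hz =>
    TopCat.Presheaf.germ_res_apply X.presheaf (homOfLE hWU') z hz (f.app U s)
  -- `s'` is a nonzerodivisor of `Γ(X, W)`
  have hnzd : s' ∈ nonZeroDivisors Γ(X, W) := by
    rw [mem_nonZeroDivisors_iff_right]
    intro a ha
    by_contra ha0
    obtain ⟨p, c, hp, hpc⟩ := Groth.Agent.Helper4.SchDense.exists_prime_eq_colon a ha0
    haveI := hp
    have hs'p : s' ∈ p := by
      rw [hpc, Submodule.mem_colon_singleton, Submodule.mem_bot, smul_eq_mul]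
      calc s' * (c * a) = c * (a * s') := by ring
        _ = 0 := by rw [ha, mul_zero]
    let q : PrimeSpectrum Γ(X, W) := ⟨p, hp⟩
    have hzW : hW.fromSpec q ∈ W := by
      have : hW.fromSpec q ∈ Set.range hW.fromSpec := ⟨q, rfl⟩
      rw [hW.range_fromSpec] at this
      exact this
    letI algz : Algebra Γ(X, W) (X.presheaf.stalk (hW.fromSpec q)) :=
      TopCat.Presheaf.algebra_section_stalk X.presheaf ⟨hW.fromSpec q, hzW⟩
    haveI hlocz : IsLocalization.AtPrime (X.presheaf.stalk (hW.fromSpec q)) p :=
      hW.isLocalization_stalk' q hzW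
    have hass : IsAssociatedPrime (IsLocalRing.maximalIdeal (X.presheaf.stalk (hW.fromSpec q)))
        (X.presheaf.stalk (hW.fromSpec q)) :=
      Groth.Agent.Helper4.SchDense.isAssociatedPrime_maximalIdeal_of_eq_colon p (c * a) hpc
    have hmem : X.presheaf.germ W (hW.fromSpec q) hzW s' ∈
        IsLocalRing.maximalIdeal (X.presheaf.stalk (hW.fromSpec q)) :=
      (IsLocalization.AtPrime.to_map_mem_maximal_iff (X.presheaf.stalk (hW.fromSpec q)) p s').mpr
        hs'p
    have hassY := hf (hW.fromSpec q) hass
    have hzU : f (hW.fromSpec q) ∈ U := hWU' hzW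
    have hsn : Y.presheaf.germ U (f (hW.fromSpec q)) hzU s ∈
        nonZeroDivisors (Y.presheaf.stalk (f (hW.fromSpec q))) := hs ⟨f (hW.fromSpec q), hzU⟩
    have hunit : IsUnit (Y.presheaf.germ U (f (hW.fromSpec q)) hzU s) := by
      rw [isAssociatedPrime_iff] at hassY
      obtain ⟨-, t, ht⟩ := hassY
      rw [← IsLocalRing.notMem_maximalIdeal]
      intro hm
      rw [ht, Submodule.mem_colon_singleton, Submodule.mem_bot, smul_eq_mul] at hm
      have ht0 : t = 0 := (mem_nonZeroDivisors_iff.mp hsn).1 t hm
      apply (IsLocalRing.maximalIdeal.isMaximal (Y.presheaf.stalk (f (hW.fromSpec q)))).ne_top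
      rw [ht, ht0]
      ext z
      simp [Submodule.mem_colon_singleton]
    have hunit' : IsUnit (X.presheaf.germ W (hW.fromSpec q) hzW s') := by
      rw [hgerm _ hzW, ← Scheme.Hom.germ_stalkMap_apply f U (hW.fromSpec q) hzU s]
      exact hunit.map (f.stalkMap (hW.fromSpec q)).hom
    exact (IsLocalRing.notMem_maximalIdeal.mpr hunit') hmem
  have := Groth.Agent.Helper4.BlowupIso.germ_mem_nonZeroDivisors hW s' hnzd x hxW'
  rw [hgerm x hxW'] at this
  exact this

end Groth.Agent.S5092
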