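import Groth.Statements.S5106
import Mathlib
import Groth.Agent.S2152

set_option autoImplicit false
universe u
open CategoryTheory CategoryTheory.Limits AlgebraicGeometry TopologicalSpace
open Lim8

namespace Groth.Agent.S5106

open AlgebraicGeometry CategoryTheory Limits in
theorem exists_max_gen (X : Scheme.{u}) (y : X) :
    ∃ m : X, (∀ z : X, z ⤳ m → z = m) ∧ m ⤳ y := by
  obtain ⟨η, hη⟩ := QuasiSober.sober (isIrreducible_irreducibleComponent (x := y))
    isClosed_irreducibleComponent
  refine ⟨η, fun z hz => ?_, ?_⟩
  · have h1 : irreducibleComponent y ⊆ closure {z} := by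
      rw [← hη.def]
      exact specializes_iff_closure_subset.mp hz
    have h2 : closure ({z} : Set X) = irreducibleComponent y :=
      eq_irreducibleComponent (isIrreducible_singleton.closure.isPreirreducible) h1
    have hz' : IsGenericPoint z (irreducibleComponent y) := h2
    exact hz'.eq hη
  · rw [specializes_iff_mem_closure, hη.def]
    exact mem_irreducibleComponent

set_option backward.defeqAttrib.useBackward true in
set_option backward.isDefEq.respectTransparency false in
open AlgebraicGeometry CategoryTheory Limits in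
theorem main {I : Type u} [SmallCategory I] [IsCofiltered I]
    (D : I ⥤ Scheme.{u}) (c : Limits.Cone D) (hc : Limits.IsLimit c)
    [hD : ∀ {i j : I} (g : i ⟶ j), IsAffineHom (D.map g)]
    (hfin : ∀ i : I, {s : ↥(D.obj i) | ∀ z : ↥(D.obj i), z ⤳ s → z = s}.Finite)
    (hsys : ∀ (i j : I) (g : i ⟶ j) (s : ↥(D.obj i)), (∀ z : ↥(D.obj i), z ⤳ s → z = s) →
      ∀ z : ↥(D.obj j), z ⤳ D.map g s → z = D.map g s)
    (s : ↥c.pt) :
    (∀ z : ↥c.pt, z ⤳ s → z = s) ↔
      ∀ (i : I) (z : ↥(D.obj i)), z ⤳ c.π.app i s → z = c.π.app i s := by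
  have hbasis := isBasis_preimage_isAffineOpen D c hc
  have hnb := fun {U : c.pt.Opens} {a : c.pt} (h : a ∈ U) =>
    (TopologicalSpace.Opens.isBasis_iff_nbhd.mp hbasis) h
  constructor
  · intro hs i z hz
    classical
    let E : Over i → Type u := fun j =>
      {m : D.obj j.left // (∀ z : D.obj j.left, z ⤳ m → z = m) ∧ m ⤳ c.π.app j.left s}
    let F : Over i ⥤ Type u :=
      { obj := E
        map := fun {j k} φ => TypeCat.ofHom (fun (m : E j) =>
          (⟨D.map φ.left m.1, hsys _ _ φ.left m.1 m.2.1, by
            have h1 := m.2.2.map (D.map φ.left).continuous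
            have h2 : D.map φ.left (c.π.app j.left s) = c.π.app k.left s := by
              rw [← c.w φ.left]; rfl
            rw [h2] at h1
            exact h1⟩ : E k))
        map_id := fun j => by
          apply ConcreteCategory.hom_ext
          intro m
          apply Subtype.ext
          show D.map (𝟙 j : j ⟶ j).left m.1 = m.1
          rw [Over.id_left, D.map_id]; rfl
        map_comp := fun {j k l} φ ψ => by
          apply ConcreteCategory.hom_ext
          intro m
          apply Subtype.ext
          show D.map (φ ≫ ψ).left m.1 = D.map ψ.left (D.map φ.left m.1)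
          rw [Over.comp_left, D.map_comp]; rfl }
    haveI : ∀ j, Finite (F.obj j) := fun j => by
      haveI : Finite {m : D.obj j.left // ∀ z : D.obj j.left, z ⤳ m → z = m} :=
        (hfin j.left).to_subtype
      refine Finite.of_injective
        (fun m : E j => (⟨m.1, m.2.1⟩ : {m : D.obj j.left // ∀ z : D.obj j.left, z ⤳ m → z = m}))
        (fun a b h => ?_)
      have h' : (a.1 : D.obj j.left) = b.1 :=
        congrArg (fun q : {m : D.obj j.left // ∀ z : D.obj j.left, z ⤳ m → z = m} => q.1) h
      exact Subtype.ext h'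
    haveI : ∀ j, Nonempty (F.obj j) := fun j => by
      obtain ⟨m, hm1, hm2⟩ := exists_max_gen (D.obj j.left) (c.π.app j.left s)
      exact ⟨⟨m, hm1, hm2⟩⟩
    obtain ⟨u, hu⟩ := nonempty_sections_of_finite_cofiltered_system F
    have hcw : IsLimit (c.whisker (Over.forget i)) :=
      (Functor.Initial.isLimitWhiskerEquiv (Over.forget i) c).symm hc
    obtain ⟨a, ha⟩ := Groth.Agent.S2152.exists_point (Over.forget i ⋙ D)
      (c.whisker (Over.forget i)) hcw
      (fun j => (u j).1) (fun {j k} φ => by
        have h0 := congrArg Subtype.val (hu φ)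
        exact h0)
    have ha' : ∀ j : Over i, c.π.app j.left a = (u j).1 := fun j => ha j
    have has : a ⤳ s := by
      rw [specializes_iff_forall_open]
      intro U hU hsU
      obtain ⟨U', ⟨k, V, hV, rfl⟩, hsU', hU'U⟩ := hnb (U := ⟨U, hU⟩) hsU
      apply hU'U
      show c.π.app k a ∈ V
      obtain ⟨j, hj⟩ : ∃ j : Over i, j = Over.mk (IsCofiltered.minToLeft i k) := ⟨_, rfl⟩
      obtain ⟨ψ, hψ0⟩ : ∃ ψ : j.left ⟶ k, c.π.app j.left ≫ D.map ψ = c.π.app k := by
        subst hj
        exact ⟨IsCofiltered.minToRight i k, c.w _⟩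
      have h1 : (u j).1 ⤳ c.π.app j.left s := (u j).2.2
      have h2 := h1.map (D.map ψ).continuous
      have h3 : D.map ψ (c.π.app j.left s) = c.π.app k s := by
        rw [← hψ0]; rfl
      rw [h3] at h2
      have h4 : D.map ψ ((u j).1) ∈ V := h2.mem_open V.isOpen hsU'
      have h5 : c.π.app k a = D.map ψ ((u j).1) := by
        rw [← ha' j, ← hψ0]; rfl
      rw [h5]; exact h4
    have hEq : a = s := hs a has
    have h6 : c.π.app i s = (u (Over.mk (𝟙 i))).1 :=
      (congrArg (fun q : c.pt => c.π.app i q) hEq.symm).trans (ha' (Over.mk (𝟙 i)))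
    rw [h6] at hz ⊢
    exact (u (Over.mk (𝟙 i))).2.1 z hz
  · intro h z hz
    have hab : ∀ j, c.π.app j z = c.π.app j s := fun j =>
      h j _ (hz.map (c.π.app j).continuous)
    apply Inseparable.eq
    rw [inseparable_iff_forall_isOpen]
    intro U hU
    constructor
    · intro hzU
      obtain ⟨U', ⟨k, V, hV, rfl⟩, h1, h2⟩ := hnb (U := ⟨U, hU⟩) hzU
      apply h2
      show c.π.app k s ∈ V
      rw [← hab k]; exact h1
    · intro hsU
      obtain ⟨U', ⟨k, V, hV, rfl⟩, h1, h2⟩ := hnb (U := ⟨U, hU⟩) hsU
      apply h2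
      show c.π.app k z ∈ V
      rw [hab k]; exact h1


/-- Let (S_i) be a cofiltered system of schemes with affine transition morphisms and S its limit.
Suppose that every S_i has only finitely many maximal points (points with no proper generization,
i.e. generic points of irreducible components) and that the transition morphisms send maximal points
to maximal points. Then the set of maximal points of S is the limit of the sets of maximal points of
the S_i: a point of S is maximal if and only if its image in every S_i is a maximal point of S_i. -/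
theorem result {I : Type u} [SmallCategory I] [IsCofiltered I]
    (D : I ⥤ Scheme.{u}) (c : Limits.Cone D) (hc : Limits.IsLimit c)
    [∀ (i j : I) (g : i ⟶ j), IsAffineHom (D.map g)]
    (hfin : ∀ i : I, {s : ↥(D.obj i) | ∀ z : ↥(D.obj i), z ⤳ s → z = s}.Finite)
    (hsys : ∀ (i j : I) (g : i ⟶ j) (s : ↥(D.obj i)), (∀ z : ↥(D.obj i), z ⤳ s → z = s) →
      ∀ z : ↥(D.obj j), z ⤳ D.map g s → z = D.map g s)
    (s : ↥c.pt) :
    (∀ z : ↥c.pt, z ⤳ s → z = s) ↔ ∀ (i : I) (z : ↥(D.obj i)), z ⤳ c.π.app i s → z = c.π.app i s := by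
  haveI hD' : ∀ {i j : I} (f : i ⟶ j), IsAffineHom (D.map f) := fun f => inferInstance
  exact main D c hc hfin hsys s

end Groth.Agent.S5106
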