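import Groth.Statements.S5110
import Mathlib
import Groth.Agent.S2152
import Groth.Agent.S5106

set_option autoImplicit false
universe u
open CategoryTheory CategoryTheory.Limits AlgebraicGeometry TopologicalSpace
open Lim8

namespace Groth.Agent.S5110

open AlgebraicGeometry CategoryTheory Limits in
theorem dense_of_max {X : Scheme.{u}} (U : X.Opens)
    (h : ∀ m : X, (∀ z : X, z ⤳ m → z = m) → m ∈ U) : Dense (U : Set X) := by
  rw [dense_iff_inter_open]
  rintro W hW ⟨y, hy⟩
  obtain ⟨m, hm1, hm2⟩ := Groth.Agent.S5106.exists_max_gen X y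
  exact ⟨m, hm2.mem_open hW hy, h m hm1⟩

open AlgebraicGeometry CategoryTheory Limits in
theorem max_mem_of_dense {X : Scheme.{u}}
    (hfin : {s : X | ∀ z : X, z ⤳ s → z = s}.Finite) (U : X.Opens)
    (hU : Dense (U : Set X)) (m : X) (hm : ∀ z : X, z ⤳ m → z = m) : m ∈ U := by
  classical
  have hclosed : IsClosed (⋃ m' ∈ ({s : X | ∀ z : X, z ⤳ s → z = s} \ {m}),
      closure ({m'} : Set X)) :=
    (hfin.subset Set.sdiff_subset).isClosed_biUnion (fun _ _ => isClosed_closure)
  have hmW : m ∈ (⋃ m' ∈ ({s : X | ∀ z : X, z ⤳ s → z = s} \ {m}),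
      closure ({m'} : Set X))ᶜ := by
    intro hmem
    simp only [Set.mem_iUnion] at hmem
    obtain ⟨m', hm', hcl⟩ := hmem
    have h1 : m' ⤳ m := specializes_iff_mem_closure.mpr hcl
    exact hm'.2 (Set.mem_singleton_iff.mpr (hm m' h1))
  obtain ⟨y, hyW, hyU⟩ := (dense_iff_inter_open.mp hU) _ hclosed.isOpen_compl ⟨m, hmW⟩
  obtain ⟨m'', h1, h2⟩ := Groth.Agent.S5106.exists_max_gen X y
  have hmm : m'' = m := by
    by_contra hne
    apply hyW
    simp only [Set.mem_iUnion]
    exact ⟨m'', ⟨h1, fun h => hne (Set.mem_singleton_iff.mp h)⟩, specializes_iff_mem_closure.mp h2⟩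
  subst hmm
  exact h2.mem_open U.isOpen hyU

set_option backward.defeqAttrib.useBackward true in
set_option backward.isDefEq.respectTransparency false in
open AlgebraicGeometry CategoryTheory Limits in
theorem main {I : Type u} [SmallCategory I] [IsCofiltered I]
    (D : I ⥤ Scheme.{u}) (c : Limits.Cone D) (hc : Limits.IsLimit c)
    [hD : ∀ {i j : I} (g : i ⟶ j), IsAffineHom (D.map g)]
    (hfin : ∀ i : I, {s : ↥(D.obj i) | ∀ z : ↥(D.obj i), z ⤳ s → z = s}.Finite)
    (hsys : ∀ (i j : I) (g : i ⟶ j) (s : ↥(D.obj i)), (∀ z : ↥(D.obj i), z ⤳ s → z = s) →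
      ∀ z : ↥(D.obj j), z ⤳ D.map g s → z = D.map g s)
    (i₀ : I) (V₀ : (D.obj i₀).Opens) :
    (Dense (V₀ : Set ↥(D.obj i₀)) →
        (∀ (i : I) (g : i ⟶ i₀), Dense (((D.map g) ⁻¹ᵁ V₀ : (D.obj i).Opens) : Set ↥(D.obj i))) ∧
          Dense (((c.π.app i₀) ⁻¹ᵁ V₀ : c.pt.Opens) : Set ↥c.pt)) ∧
      (Dense (((c.π.app i₀) ⁻¹ᵁ V₀ : c.pt.Opens) : Set ↥c.pt) →
        {s : ↥c.pt | ∀ z : ↥c.pt, z ⤳ s → z = s}.Finite →
          ∃ (i : I) (g : i ⟶ i₀),
            Dense (((D.map g) ⁻¹ᵁ V₀ : (D.obj i).Opens) : Set ↥(D.obj i))) := by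
  have hmaxAll : ∀ (s : c.pt), (∀ z : c.pt, z ⤳ s → z = s) →
      ∀ (i : I) (z : D.obj i), z ⤳ c.π.app i s → z = c.π.app i s :=
    fun s hs => (Groth.Agent.S5106.main D c hc hfin hsys s).1 hs
  constructor
  · intro hV
    have hV₀max : ∀ m : D.obj i₀, (∀ z : D.obj i₀, z ⤳ m → z = m) → m ∈ V₀ :=
      fun m hm => max_mem_of_dense (hfin i₀) V₀ hV m hm
    constructor
    · intro i g
      apply dense_of_max
      intro m hm
      show D.map g m ∈ V₀
      exact hV₀max _ (hsys i i₀ g m hm)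
    · apply dense_of_max
      intro s hs
      show c.π.app i₀ s ∈ V₀
      exact hV₀max _ (hmaxAll s hs i₀)
  · intro hdense hfinS
    by_contra hcon
    push Not at hcon
    classical
    let E : Over i₀ → Type u := fun j =>
      {m : D.obj j.left // (∀ z : D.obj j.left, z ⤳ m → z = m) ∧ D.map j.hom m ∉ V₀}
    let F : Over i₀ ⥤ Type u :=
      { obj := E
        map := fun {j k} φ => TypeCat.ofHom (fun (m : E j) =>
          (⟨D.map φ.left m.1, hsys _ _ φ.left m.1 m.2.1, by
            have e : D.map φ.left ≫ D.map k.hom = D.map j.hom := by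
              rw [← D.map_comp, Over.w φ]
            have h2 : D.map k.hom (D.map φ.left m.1) = D.map j.hom m.1 := by
              have h3 : (D.map φ.left ≫ D.map k.hom) m.1 = D.map j.hom m.1 := by rw [e]
              exact h3
            rw [h2]; exact m.2.2⟩ : E k))
        map_id := fun j => by
          apply ConcreteCategory.hom_ext
          intro m
          apply Subtype.ext
          show D.map (𝟙 j : j ⟶ j).left m.1 = m.1
          rw [Over.id_left, D.map_id]; rfl
        map_comp := fun {j k l} φ ψ => by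
          apply ConcreteCategory.hom_ext
          intro m
          apply Subtype.ext
          show D.map (φ ≫ ψ).left m.1 = D.map ψ.left (D.map φ.left m.1)
          rw [Over.comp_left, D.map_comp]; rfl }
    haveI : ∀ j, Finite (F.obj j) := fun j => by
      haveI : Finite {m : D.obj j.left // ∀ z : D.obj j.left, z ⤳ m → z = m} :=
        (hfin j.left).to_subtype
      refine Finite.of_injective
        (fun m : E j => (⟨m.1, m.2.1⟩ : {m : D.obj j.left // ∀ z : D.obj j.left, z ⤳ m → z = m}))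
        (fun a b h => ?_)
      have h' : (a.1 : D.obj j.left) = b.1 :=
        congrArg (fun q : {m : D.obj j.left // ∀ z : D.obj j.left, z ⤳ m → z = m} => q.1) h
      exact Subtype.ext h'
    haveI : ∀ j, Nonempty (F.obj j) := fun j => by
      by_contra hne
      apply hcon j.left j.hom
      apply dense_of_max
      intro m hm
      by_contra hmem
      exact hne ⟨⟨m, hm, hmem⟩⟩
    obtain ⟨u, hu⟩ := nonempty_sections_of_finite_cofiltered_system F
    have hcw : IsLimit (c.whisker (Over.forget i₀)) :=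
      (Functor.Initial.isLimitWhiskerEquiv (Over.forget i₀) c).symm hc
    obtain ⟨a, ha⟩ := Groth.Agent.S2152.exists_point (Over.forget i₀ ⋙ D)
      (c.whisker (Over.forget i₀)) hcw
      (fun j => (u j).1) (fun {j k} φ => by
        have h0 := congrArg Subtype.val (hu φ)
        exact h0)
    have ha' : ∀ j : Over i₀, c.π.app j.left a = (u j).1 := fun j => ha j
    have hamax : ∀ z : c.pt, z ⤳ a → z = a := by
      apply (Groth.Agent.S5106.main D c hc hfin hsys a).2
      intro i z hz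
      obtain ⟨j, hj⟩ : ∃ j : Over i₀, j = Over.mk (IsCofiltered.minToLeft i₀ i) := ⟨_, rfl⟩
      obtain ⟨ψ, hψ0⟩ : ∃ ψ : j.left ⟶ i, c.π.app j.left ≫ D.map ψ = c.π.app i := by
        subst hj
        exact ⟨IsCofiltered.minToRight i₀ i, c.w _⟩
      have h5 : c.π.app i a = D.map ψ ((u j).1) := by
        rw [← ha' j, ← hψ0]; rfl
      rw [h5] at hz ⊢
      exact hsys _ _ ψ _ (u j).2.1 z hz
    have haV : a ∈ (c.π.app i₀ ⁻¹ᵁ V₀ : c.pt.Opens) :=
      max_mem_of_dense hfinS _ hdense a hamax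
    have hnot := (u (Over.mk (𝟙 i₀))).2.2
    apply hnot
    have h7 : D.map (Over.mk (𝟙 i₀)).hom ((u (Over.mk (𝟙 i₀))).1) = c.π.app i₀ a := by
      rw [← ha' (Over.mk (𝟙 i₀))]
      show D.map (𝟙 i₀) (c.π.app i₀ a) = c.π.app i₀ a
      rw [D.map_id]; rfl
    rw [h7]; exact haV


/-- Let (S_i) be a cofiltered system of schemes with affine transition morphisms and S its limit, such
that every S_i has finitely many maximal points and the transition morphisms send maximal points to
maximal points; let S_{i₀} be quasi-compact and V₀ an open subset of S_{i₀}, with inverse images V_i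
in the S_i over i₀ and V in S. If V₀ is dense in S_{i₀} then every V_i and V are dense. Conversely,
if V is dense in S and S has only finitely many maximal points, then V_i is dense in S_i for some i
over i₀. -/
theorem result {I : Type u} [SmallCategory I] [IsCofiltered I]
    (D : I ⥤ Scheme.{u}) (c : Limits.Cone D) (hc : Limits.IsLimit c)
    [∀ (i j : I) (g : i ⟶ j), IsAffineHom (D.map g)]
    (hfin : ∀ i : I, {s : ↥(D.obj i) | ∀ z : ↥(D.obj i), z ⤳ s → z = s}.Finite)
    (hsys : ∀ (i j : I) (g : i ⟶ j) (s : ↥(D.obj i)), (∀ z : ↥(D.obj i), z ⤳ s → z = s) →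
      ∀ z : ↥(D.obj j), z ⤳ D.map g s → z = D.map g s)
    (i₀ : I) [CompactSpace ↥(D.obj i₀)] (V₀ : (D.obj i₀).Opens) :
    (Dense (V₀ : Set ↥(D.obj i₀)) →
        (∀ (i : I) (g : i ⟶ i₀), Dense (((D.map g) ⁻¹ᵁ V₀ : (D.obj i).Opens) : Set ↥(D.obj i))) ∧
          Dense (((c.π.app i₀) ⁻¹ᵁ V₀ : c.pt.Opens) : Set ↥c.pt)) ∧
      (Dense (((c.π.app i₀) ⁻¹ᵁ V₀ : c.pt.Opens) : Set ↥c.pt) →
        {s : ↥c.pt | ∀ z : ↥c.pt, z ⤳ s → z = s}.Finite →
          ∃ (i : I) (g : i ⟶ i₀), Dense (((D.map g) ⁻¹ᵁ V₀ : (D.obj i).Opens) : Set ↥(D.obj i))) := by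
  haveI hD' : ∀ {i j : I} (f : i ⟶ j), IsAffineHom (D.map f) := fun f => inferInstance
  exact main D c hc hfin hsys i₀ V₀

end Groth.Agent.S5110
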