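import Groth.Statements.S5113

set_option autoImplicit false
universe u
open SGA1

namespace Groth.Agent.S5113

open AlgebraicGeometry CategoryTheory CategoryTheory.Limits in
/-- Let g : S' ⟶ S be submersive, i.e. surjective and making S a topological quotient of S'. Then the
sequence of sets of open subsets Ouv(S) → Ouv(S') ⇉ Ouv(S' ×_S S') (inverse images along g and along
the two projections) is exact: an open subset U' of S' whose inverse images under the two
projections of S' ×_S S' agree is the inverse image of one and only one open subset of S. -/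
theorem result {S' S : Scheme.{u}} (g : S' ⟶ S)
    (hg : Topology.IsQuotientMap g.base) (U' : S'.Opens)
    (h : (pullback.fst g g) ⁻¹ᵁ U' = (pullback.snd g g) ⁻¹ᵁ U') :
    ∃! U : S.Opens, g ⁻¹ᵁ U = U' := by
  have key : g.base ⁻¹' (g.base '' (U' : Set S')) = (U' : Set S') := by
    apply Set.Subset.antisymm
    · rintro x ⟨y, hy, hxy⟩
      obtain ⟨z, hz1, hz2⟩ := Scheme.Pullback.exists_preimage_pullback (f := g) (g := g) x y hxy.symm
      have hz : z ∈ (pullback.snd g g) ⁻¹ᵁ U' := by
        show (pullback.snd g g) z ∈ U'
        rw [hz2]; exact hy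
      rw [← h] at hz
      have : (pullback.fst g g) z ∈ U' := hz
      rwa [hz1] at this
    · exact Set.subset_preimage_image _ _
  have hopen : IsOpen (g.base '' (U' : Set S')) := by
    rw [← hg.isOpen_preimage, key]
    exact U'.isOpen
  refine ⟨⟨_, hopen⟩, ?_, ?_⟩
  · ext x
    exact Set.ext_iff.1 key x
  · intro V hV
    ext y
    have : (V : Set S) = g.base '' (g.base ⁻¹' (V : Set S)) :=
      (Set.image_preimage_eq _ hg.surjective).symm
    have hV' : g.base ⁻¹' (V : Set S) = (U' : Set S') := congrArg (fun W : S'.Opens => (W : Set S')) hV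
    rw [hV'] at this
    exact Set.ext_iff.1 this y


end Groth.Agent.S5113
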