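import Mathlib
import Groth.Statements.S5114
import Groth.Agent.Lib.Helper9.FinSplit
-- import your own Groth.Agent.* helpers here

set_option autoImplicit false
universe u
open SGA1

namespace Groth.Agent.S5114

open AlgebraicGeometry CategoryTheory CategoryTheory.Limits Groth.Agent.Helper9

theorem quasiFiniteAt_of_finite_fibre {X Y : Scheme.{u}} (f : X ⟶ Y) [LocallyOfFiniteType f] (x : X)
    (hfin : (f ⁻¹' {f x}).Finite) : f.QuasiFiniteAt x := by
  rw [Scheme.Hom.quasiFiniteAt_iff_isOpen_singleton_asFiber]
  haveI : Finite ↥(f ⁻¹' {f x}) := hfin.to_subtype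
  haveI : Finite ↥(f.fiber (f x)) := (f.fiberHomeo (f x)).toEquiv.finite_iff.mpr inferInstance
  haveI : LocallyOfFiniteType (f.fiberToSpecResidueField (f x)) := by
    unfold Scheme.Hom.fiberToSpecResidueField
    exact MorphismProperty.pullback_snd (P := @LocallyOfFiniteType) _ _ inferInstance
  haveI : LocallyQuasiFinite (f.fiberToSpecResidueField (f x)) :=
    LocallyQuasiFinite.of_finite_preimage_singleton _ (fun _ => Set.toFinite _)
  have hd := (f.fiberToSpecResidueField (f x)).isDiscrete_preimage_singleton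
    ((f.fiberToSpecResidueField (f x)) (f.asFiber x))
  have huniv : (f.fiberToSpecResidueField (f x)) ⁻¹'
      {(f.fiberToSpecResidueField (f x)) (f.asFiber x)} = Set.univ := by
    ext z
    simp only [Set.mem_preimage, Set.mem_singleton_iff, Set.mem_univ, iff_true]
    rw [Scheme.Hom.fiberToSpecResidueField_apply, Scheme.Hom.fiberToSpecResidueField_apply]
  rw [huniv, isDiscrete_univ_iff] at hd
  exact isOpen_discrete _

open AlgebraicGeometry CategoryTheory CategoryTheory.Limits in
/-- Let A be a complete Noetherian local ring, S = Spec A, and g : S' ⟶ S a surjective morphism of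
finite type whose fibre over the closed point s is finite. If every point of S' specialises to some
point of the fibre over s (equivalently: the disjoint union of the spectra of the local rings of S'
at the points over s maps onto S'), then g is universally submersive. (The published statement
asserts an equivalence and does not mention surjectivity of g; the converse fails: for A a complete
discrete valuation ring with fraction field K, S' = S ⊔ Spec K ⟶ S has a section, hence is
universally submersive, while the isolated point Spec K specialises to no point over s. This row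
states the implication the published proof establishes, with the surjectivity it uses.) -/
theorem result (A : Type u) [CommRing A]
    [IsNoetherianRing A] [IsLocalRing A] [IsAdicComplete (IsLocalRing.maximalIdeal A) A]
    {S' : Scheme.{u}} (g : S' ⟶ Spec (CommRingCat.of A)) [LocallyOfFiniteType g] [QuasiCompact g]
    [Surjective g]
    (hfin : (g.base ⁻¹' {IsLocalRing.closedPoint A}).Finite)
    (hsp : ∀ t : S', ∃ s' : S', g.base s' = IsLocalRing.closedPoint A ∧ t ⤳ s') :
    SGA1.UnivSubmersive g := by
  have step1 : ∀ x : S', g.base x = IsLocalRing.closedPoint A →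
      ∃ (T : Scheme.{u}) (v : T ⟶ S'), IsOpenImmersion v ∧ x ∈ Set.range v ∧ IsFinite (v ≫ g) := by
    intro x hx
    have hqf : g.QuasiFiniteAt x := quasiFiniteAt_of_finite_fibre g x (by
      have : g x = IsLocalRing.closedPoint A := hx
      rw [this]; exact hfin)
    obtain ⟨_, ⟨W : S'.Opens, hW, rfl⟩, hxW, hWsub⟩ :=
      S'.isBasis_affineOpens.exists_subset_of_mem_open
      (show x ∈ (g.quasiFiniteLocus : Set S') from hqf) g.quasiFiniteLocus.isOpen
    have hWq : W ≤ g.quasiFiniteLocus := hWsub
    haveI : LocallyQuasiFinite (W.ι ≫ g) := by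
      rw [← S'.homOfLE_ι hWq, Category.assoc]; infer_instance
    haveI : IsAffine (W : Scheme.{u}) := hW
    obtain ⟨U, -, -, hfinU, -, -, hfib⟩ :=
      FinSplit.core A (W : Scheme.{u}) (W.ι ≫ g) ⊤ (isAffineOpen_top _)
    refine ⟨U, U.ι ≫ W.ι, inferInstance, ?_, ?_⟩
    · have hxU : (⟨x, hxW⟩ : W) ∈ U := hfib ⟨x, hxW⟩ trivial hx
      exact ⟨⟨⟨x, hxW⟩, hxU⟩, rfl⟩
    · rw [Category.assoc]; exact hfinU
  choose T v hv1 hv2 hv3 using step1
  have hcov : ∀ t : S', ∃ (x : S') (hx : g.base x = IsLocalRing.closedPoint A),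
      t ∈ Set.range (v x hx) := by
    intro t
    obtain ⟨s', hs', hts'⟩ := hsp t
    haveI := hv1 s' hs'
    exact ⟨s', hs', hts'.mem_open (v s' hs').isOpenEmbedding.isOpen_range (hv2 s' hs')⟩
  intro X' Y' i₁ i₂ f' hpb
  change Topology.IsQuotientMap _
  have hl : ∀ (x : S') (hx : g.base x = IsLocalRing.closedPoint A),
      ∃ l : pullback (v x hx ≫ g) i₂ ⟶ X', l ≫ f' = pullback.snd (v x hx ≫ g) i₂ := by
    intro x hx
    refine ⟨hpb.lift (pullback.snd _ _) (pullback.fst _ _ ≫ v x hx) ?_, hpb.lift_fst _ _ _⟩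
    rw [Category.assoc, pullback.condition]
  choose l hl using hl
  have hsurj : ∀ y : Y', ∃ (x : S') (hx : g.base x = IsLocalRing.closedPoint A),
      ∃ p : ↥(pullback (v x hx ≫ g) i₂), pullback.snd (v x hx ≫ g) i₂ p = y := by
    intro y
    obtain ⟨s', hs'⟩ := g.surjective (i₂ y)
    obtain ⟨x, hx, w, hw⟩ := hcov s'
    obtain ⟨p, -, hp⟩ := Scheme.Pullback.exists_preimage_pullback (f := v x hx ≫ g) (g := i₂) w y
      (by rw [Scheme.Hom.comp_apply, hw, hs'])
    exact ⟨x, hx, p, hp⟩
  have hf'l : ∀ (x : S') (hx : g.base x = IsLocalRing.closedPoint A)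
      (p : ↥(pullback (v x hx ≫ g) i₂)), f' (l x hx p) = pullback.snd (v x hx ≫ g) i₂ p := by
    intro x hx p
    rw [← Scheme.Hom.comp_apply, hl]
  rw [Topology.isQuotientMap_iff_isClosed]
  refine ⟨?_, ?_⟩
  · intro y
    obtain ⟨x, hx, p, hp⟩ := hsurj y
    exact ⟨l x hx p, by rw [hf'l, hp]⟩
  · intro s
    refine ⟨fun hs => hs.preimage f'.continuous, fun hs => ?_⟩
    haveI : Finite ↥(g.base ⁻¹' {IsLocalRing.closedPoint A}) := hfin.to_subtype
    have hEq : s = ⋃ i : ↥(g.base ⁻¹' {IsLocalRing.closedPoint A}),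
        (pullback.snd (v i.1 i.2 ≫ g) i₂) '' ((l i.1 i.2) ⁻¹' (f' ⁻¹' s)) := by
      ext y
      simp only [Set.mem_iUnion, Set.mem_image, Set.mem_preimage]
      constructor
      · intro hy
        obtain ⟨x, hx, p, hp⟩ := hsurj y
        exact ⟨⟨x, hx⟩, p, by rw [hf'l, hp]; exact hy, hp⟩
      · rintro ⟨⟨x, hx⟩, p, hp1, hp2⟩
        rw [hf'l, hp2] at hp1
        exact hp1
    rw [hEq]
    refine isClosed_iUnion_of_finite (fun i => ?_)
    haveI := hv3 i.1 i.2
    exact (pullback.snd (v i.1 i.2 ≫ g) i₂).isClosedMap _ (hs.preimage (l i.1 i.2).continuous)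

end Groth.Agent.S5114
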