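import Groth.Statements.S5118
import Mathlib

set_option linter.style.haveILetI false

set_option autoImplicit false
universe u
open SGA1t

namespace Groth.Agent.S5118

section Aux

open Polynomial TensorProduct

variable {A : Type u} [CommRing A]

/-- If `A[X]/(f)` is formally unramified over `A` then `f'` is a unit in `A[X]/(f)`. -/
theorem isUnit_derivative_of_unram (f : A[X])
    [Algebra.FormallyUnramified A (A[X] ⧸ Ideal.span {f})] :
    IsUnit (Ideal.Quotient.mk (Ideal.span {f}) (derivative f)) := by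
  have hsurj : Function.Surjective (algebraMap A[X] (A[X] ⧸ Ideal.span {f})) :=
    Ideal.Quotient.mk_surjective
  have hex := KaehlerDifferential.exact_kerCotangentToTensor_mapBaseChange A A[X]
    (A[X] ⧸ Ideal.span {f}) hsurj
  have h0 : KaehlerDifferential.mapBaseChange A A[X] (A[X] ⧸ Ideal.span {f})
      ((1 : A[X] ⧸ Ideal.span {f}) ⊗ₜ[A[X]] KaehlerDifferential.D A A[X] X) = 0 :=
    Subsingleton.elim _ _
  obtain ⟨c, hc⟩ := (hex _).mp h0
  obtain ⟨x, rfl⟩ := Ideal.toCotangent_surjective _ c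
  rw [KaehlerDifferential.kerCotangentToTensor_toCotangent] at hc
  have hx : (x : A[X]) ∈ Ideal.span {f} := by
    have h : Ideal.Quotient.mk (Ideal.span {f}) (x : A[X]) = 0 := RingHom.mem_ker.mp x.2
    exact Ideal.Quotient.eq_zero_iff_mem.mp h
  obtain ⟨q, hq⟩ := Ideal.mem_span_singleton.mp hx
  let φ : (A[X] ⧸ Ideal.span {f}) ⊗[A[X]] Ω[A[X]⁄A] →ₗ[A[X] ⧸ Ideal.span {f}]
      (A[X] ⧸ Ideal.span {f}) :=
    (Algebra.TensorProduct.rid A[X] (A[X] ⧸ Ideal.span {f})
      (A[X] ⧸ Ideal.span {f})).toLinearMap ∘ₗ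
      (KaehlerDifferential.polynomialEquiv A).toLinearMap.baseChange (A[X] ⧸ Ideal.span {f})
  have hφ : ∀ g : A[X], φ ((1 : A[X] ⧸ Ideal.span {f}) ⊗ₜ[A[X]] KaehlerDifferential.D A A[X] g) =
      Ideal.Quotient.mk (Ideal.span {f}) (derivative g) := by
    intro g
    simp [φ, Algebra.smul_def]
  have h3 := congrArg φ hc
  rw [hφ, hφ, hq, derivative_mul, derivative_X, map_one, map_add, map_mul, map_mul,
    Ideal.Quotient.eq_zero_iff_mem.mpr (Ideal.mem_span_singleton_self f), zero_mul, add_zero]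
    at h3
  exact isUnit_iff_exists_inv.mpr ⟨_, h3⟩

theorem isUnit_of_etale (n : ℕ) (hE : Algebra.Etale A (AdjoinRoot ((X : A[X]) ^ n - 1))) :
    IsUnit ((n : ℕ) : A) := by
  haveI := hE.formallyEtale
  have h0 : Algebra.FormallyUnramified A (AdjoinRoot ((X : A[X]) ^ n - 1)) := inferInstance
  haveI : Algebra.FormallyUnramified A (A[X] ⧸ Ideal.span {(X : A[X]) ^ n - 1}) := h0
  have h1 := isUnit_derivative_of_unram ((X : A[X]) ^ n - 1)
  let ε : A[X] ⧸ Ideal.span {(X : A[X]) ^ n - 1} →+* A :=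
    Ideal.Quotient.lift _ (Polynomial.evalRingHom (1 : A)) (by
      intro a ha
      obtain ⟨q, rfl⟩ := Ideal.mem_span_singleton.mp ha
      simp)
  have h2 := h1.map ε
  rw [Ideal.Quotient.lift_mk] at h2
  simpa [derivative_X_pow] using h2

theorem etale_of_isUnit (n : ℕ) (hn : 1 ≤ n) (hu : IsUnit ((n : ℕ) : A)) :
    Algebra.Etale A (AdjoinRoot ((X : A[X]) ^ n - 1)) := by
  obtain ⟨m, rfl⟩ : ∃ m, n = m + 1 := ⟨n - 1, by omega⟩
  obtain ⟨u, hu'⟩ := hu.exists_left_inv
  have hmonic : ((X : A[X]) ^ (m + 1) - 1).Monic := by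
    simpa using monic_X_pow_sub_C (1 : A) (Nat.succ_ne_zero m)
  have hC : (C u : A[X]) * C (((m + 1 : ℕ) : A)) = 1 := by
    rw [← C_mul, hu', C_1]
  let Pair : StandardEtalePair A :=
    { f := (X : A[X]) ^ (m + 1) - 1
      monic_f := hmonic
      g := 1
      cond := ⟨C u * X, -1, 0, by
        rw [derivative_sub, derivative_X_pow, derivative_one, Nat.add_sub_cancel, pow_zero]
        linear_combination (X : A[X]) ^ (m + 1) * hC⟩ }
  haveI h1 : Algebra.Etale A (Localization.Away (AdjoinRoot.mk Pair.f Pair.g)) :=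
    Algebra.Etale.of_equiv Pair.equivAwayAdjoinRoot
  have H : Submonoid.powers (AdjoinRoot.mk Pair.f Pair.g) ≤
      IsUnit.submonoid (AdjoinRoot Pair.f) := by
    rw [Submonoid.powers_le]
    show IsUnit (AdjoinRoot.mk Pair.f 1)
    rw [map_one]
    exact isUnit_one
  let e : AdjoinRoot Pair.f ≃ₐ[A] Localization.Away (AdjoinRoot.mk Pair.f Pair.g) :=
    (IsLocalization.atUnits (AdjoinRoot Pair.f) (Submonoid.powers (AdjoinRoot.mk Pair.f Pair.g))
      H).restrictScalars A
  exact Algebra.Etale.of_equiv e.symm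

end Aux

open Polynomial in
/-- The etaleness criterion for the Kummer group scheme: Let A be a commutative ring and n ≥ 1. The
group scheme μ_n over Spec A is the spectrum of A[t]/(t^n − 1), a free A-module of rank n; it is
etale over A if and only if n is a unit of A (equivalently, n is prime to the characteristic of the
residue field at every point of Spec A). -/
theorem result (A : Type u) [CommRing A] (n : ℕ) (hn : 1 ≤ n) :
    Algebra.Etale A (AdjoinRoot ((X : A[X]) ^ n - 1)) ↔ IsUnit ((n : ℕ) : A) := by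
  exact ⟨isUnit_of_etale n, etale_of_isUnit n hn⟩

end Groth.Agent.S5118
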