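import Groth.Statements.S5120
import Mathlib

set_option autoImplicit false
universe u
open SGA1t

namespace Groth.Agent.S5120

open Polynomial in
lemma exists_repr (p : ℕ) (hp : 2 ≤ p) (A : Type u) [CommRing A] [Nontrivial A] :
    ∀ n : ℕ, ∀ q : A[X], q.natDegree < n →
      ∃ c : Fin p → A[X], q = ∑ i : Fin p, (c i).comp (X - X ^ p) * X ^ (i : ℕ) := by
  have hg : (X ^ p - X : A[X]).Monic :=
    monic_X_pow_sub (by rw [degree_X]; exact_mod_cast (by omega : 1 < p))
  have hgdeg : (X ^ p - X : A[X]).natDegree = p := by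
    rw [natDegree_sub_eq_left_of_natDegree_lt (by rw [natDegree_X_pow, natDegree_X]; omega),
      natDegree_X_pow]
  have hg1 : (X ^ p - X : A[X]) ≠ 1 := by
    intro h
    have := congrArg natDegree h
    rw [hgdeg, natDegree_one] at this
    omega
  intro n
  induction n with
  | zero => intro q hq; omega
  | succ n ih =>
    intro q hq
    by_cases hlt : q.natDegree < p
    · refine ⟨fun i => C (q.coeff i), ?_⟩
      simp only [C_comp]
      rw [Fin.sum_univ_eq_sum_range (fun i => C (q.coeff i) * X ^ i) p]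
      exact q.as_sum_range_C_mul_X_pow' hlt
    · push_neg at hlt
      have hq1 : (q /ₘ (X ^ p - X)).natDegree < n := by
        rw [natDegree_divByMonic _ hg, hgdeg]; omega
      obtain ⟨c1, hc1⟩ := ih _ hq1
      have hr : (q %ₘ (X ^ p - X)).natDegree < p := by
        have := natDegree_modByMonic_lt q hg hg1
        rwa [hgdeg] at this
      refine ⟨fun i => C ((q %ₘ (X ^ p - X)).coeff i) - X * c1 i, ?_⟩
      have hdiv := modByMonic_add_div q (X ^ p - X)
      simp only [sub_comp, C_comp, mul_comp, X_comp]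
      have h1 : ∑ i : Fin p, (C ((q %ₘ (X ^ p - X)).coeff i) -
          (X - X ^ p) * (c1 i).comp (X - X ^ p)) * X ^ (i : ℕ) =
          ∑ i : Fin p, C ((q %ₘ (X ^ p - X)).coeff i) * X ^ (i : ℕ) -
          (X - X ^ p) * ∑ i : Fin p, (c1 i).comp (X - X ^ p) * X ^ (i : ℕ) := by
        rw [Finset.mul_sum, ← Finset.sum_sub_distrib]
        refine Finset.sum_congr rfl fun i _ => ?_
        ring
      rw [h1, ← hc1,
        Fin.sum_univ_eq_sum_range (fun i => C ((q %ₘ (X ^ p - X)).coeff i) * X ^ i) p,
        ← (q %ₘ (X ^ p - X)).as_sum_range_C_mul_X_pow' hr]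
      conv_lhs => rw [← hdiv]
      ring

open Polynomial in
lemma unique_repr (p : ℕ) (hp : 2 ≤ p) (A : Type u) [CommRing A] [Nontrivial A]
    (d : Fin p → A[X]) (hd : ∑ i : Fin p, (d i).comp (X - X ^ p) * X ^ (i : ℕ) = 0) :
    ∀ i, d i = 0 := by
  classical
  have hudeg : (X - X ^ p : A[X]).natDegree = p := by
    rw [natDegree_sub_eq_right_of_natDegree_lt (by rw [natDegree_X_pow, natDegree_X]; omega),
      natDegree_X_pow]
  have hulc : (X - X ^ p : A[X]).leadingCoeff = -1 := by
    rw [leadingCoeff_sub_of_degree_lt' (by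
      rw [degree_X, degree_X_pow]; exact_mod_cast (by omega : 1 < p)), leadingCoeff_X_pow]
  have hne : ∀ e : A[X], e ≠ 0 → e.leadingCoeff * (X - X ^ p : A[X]).leadingCoeff ^ e.natDegree ≠ 0 := by
    intro e he
    rw [hulc]
    have hunit : IsUnit ((-1 : A) ^ e.natDegree) := (isUnit_one.neg).pow _
    rw [Ne, hunit.mul_left_eq_zero]
    exact leadingCoeff_ne_zero.mpr he
  have hcompdeg : ∀ e : A[X], e ≠ 0 → (e.comp (X - X ^ p)).natDegree = e.natDegree * p := by
    intro e he
    rw [natDegree_comp_eq_of_mul_ne_zero (hne e he), hudeg]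
  have hcompne : ∀ e : A[X], e ≠ 0 → e.comp (X - X ^ p) ≠ 0 := by
    intro e he h0
    have h1 := coeff_comp_degree_mul_degree (p := e) (q := (X - X ^ p : A[X])) (by rw [hudeg]; omega)
    rw [h0, coeff_zero] at h1
    exact hne e he h1.symm
  let T : Fin p → A[X] := fun i => (d i).comp (X - X ^ p) * X ^ (i : ℕ)
  have hTne : ∀ i, d i ≠ 0 → T i ≠ 0 := by
    intro i hi h0
    have : (d i).comp (X - X ^ p) = 0 := by
      have hm : (X ^ (i : ℕ) : A[X]).Monic := monic_X_pow _
      exact (hm.mul_left_eq_zero_iff).mp h0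
    exact hcompne _ hi this
  have hTdeg : ∀ i, d i ≠ 0 → (T i).degree = ((d i).natDegree * p + (i : ℕ) : ℕ) := by
    intro i hi
    rw [degree_eq_natDegree (hTne i hi)]
    congr 1
    show ((d i).comp (X - X ^ p) * X ^ (i : ℕ)).natDegree = _
    rw [natDegree_mul_X_pow _ (hcompne _ hi), hcompdeg _ hi]
  have hpair : Set.Pairwise {i | i ∈ (Finset.univ : Finset (Fin p)) ∧ T i ≠ 0}
      (Function.onFun Ne (degree ∘ T)) := by
    intro i hi j hj hij hdeg
    have hdi : d i ≠ 0 := fun h => hi.2 (by simp [T, h])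
    have hdj : d j ≠ 0 := fun h => hj.2 (by simp [T, h])
    simp only [Function.comp] at hdeg
    rw [hTdeg i hdi, hTdeg j hdj] at hdeg
    have hdeg' : (d i).natDegree * p + (i : ℕ) = (d j).natDegree * p + (j : ℕ) := by
      exact_mod_cast hdeg
    have hmod := congrArg (· % p) hdeg'
    simp only [Nat.mul_add_mod_self_right] at hmod
    rw [Nat.mod_eq_of_lt i.2, Nat.mod_eq_of_lt j.2] at hmod
    exact hij (Fin.ext hmod)
  have hsum := degree_sum_eq_of_disjoint T Finset.univ hpair
  have hT0 : ∑ i : Fin p, T i = 0 := hd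
  rw [hT0, degree_zero] at hsum
  intro i
  by_contra hi
  have h1 : (T i).degree ≤ ⊥ := by
    rw [hsum]
    exact Finset.le_sup (f := fun i => (T i).degree) (Finset.mem_univ i)
  rw [le_bot_iff, degree_eq_bot] at h1
  exact hTne i hi h1

open Polynomial in
/-- The computation behind the exactness of the Artin-Schreier sequence 0 → Z/p → G_a → G_a → 0 in
characteristic p, i.e. faithful flatness of ℘ = id − F: Let p be a prime and A a ring of
characteristic p. Then A[t] is free of rank p over itself via the endomorphism t ↦ t − t^p, with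
basis 1, t, …, t^{p−1}: every polynomial q can be written in exactly one way as Σ_{i<p} c_i(t − t^p)
t^i. -/
theorem result (p : ℕ) [Fact p.Prime] (A : Type u) [CommRing A] [CharP A p]
    (q : A[X]) :
    ∃! c : Fin p → A[X], q = ∑ i : Fin p, aeval (X - X ^ p : A[X]) (c i) * X ^ (i : ℕ) := by
  classical
  cases subsingleton_or_nontrivial A with
  | inl hsub =>
    refine ⟨fun _ => 0, Subsingleton.elim _ _, fun c' _ => ?_⟩
    funext i
    exact Subsingleton.elim _ _
  | inr hnt =>
    have hp : 2 ≤ p := (Fact.out : p.Prime).two_le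
    obtain ⟨c, hc⟩ := exists_repr p hp A (q.natDegree + 1) q (Nat.lt_succ_self _)
    refine ⟨c, hc, fun c' hc' => ?_⟩
    have hd : ∑ i : Fin p, ((c' i - c i)).comp (X - X ^ p) * X ^ (i : ℕ) = 0 := by
      simp only [sub_comp, sub_mul, Finset.sum_sub_distrib]
      have e1 : ∑ i : Fin p, (c' i).comp (X - X ^ p) * X ^ (i : ℕ) = q := hc'.symm
      have e2 : ∑ i : Fin p, (c i).comp (X - X ^ p) * X ^ (i : ℕ) = q := hc.symm
      rw [e1, e2, sub_self]
    funext i
    have := unique_repr p hp A (fun i => c' i - c i) hd i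
    exact sub_eq_zero.mp this

end Groth.Agent.S5120
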