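import Groth.Statements.S5132

set_option autoImplicit false
open CategoryTheory AlgebraicGeometry
universe u
open SGA1

namespace Groth.Agent.S5132

/-- Quasi-compactness of a morphism descends along a surjective and quasi-compact base change; flatness
of the base change is not needed for this property. -/
theorem result :
    MorphismProperty.DescendsAlong @QuasiCompact (@Surjective ⊓ @QuasiCompact : MorphismProperty Scheme.{u}) := by
  refine ⟨?_⟩
  intro A X Y Z fst snd f g h hf hfst
  obtain ⟨hf1, hf2⟩ := hf
  have hsnd : Surjective snd := MorphismProperty.of_isPullback h hf1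
  refine ⟨fun U hU hUc => ?_⟩
  have h1 : IsCompact (f ⁻¹' U) := hf2.1 U hU hUc
  have h2 : IsCompact (fst ⁻¹' (f ⁻¹' U)) :=
    hfst.1 _ (hU.preimage f.continuous) h1
  have h3 : fst ⁻¹' (f ⁻¹' U) = snd ⁻¹' (g ⁻¹' U) := by
    ext x
    simp only [Set.mem_preimage]
    rw [← Scheme.Hom.comp_apply, ← Scheme.Hom.comp_apply, h.w]
  rw [h3] at h2
  have h4 : g ⁻¹' U = snd '' (snd ⁻¹' (g ⁻¹' U)) := by
    rw [Set.image_preimage_eq _ hsnd.surj]
  rw [h4]
  exact h2.image snd.continuous
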