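import Groth.Statements.S5135
import Mathlib

set_option linter.style.haveILetI false

set_option autoImplicit false
universe u
open scoped TensorProduct
open SGA1

namespace Groth.Agent.S5135

/-- The affine case, in submodule form (descent of submodules, equivalently of quotient modules): for A
⟶ A' faithfully flat, M an A-module and N' an A'-submodule of A' ⊗ M whose two extensions to (A' ⊗
A') ⊗ M, along a ↦ a ⊗ 1 and a ↦ 1 ⊗ a, generate the same submodule, N' is the base change of the
submodule of M formed by the elements m with 1 ⊗ m in N'. -/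
theorem result (A A' : Type u) [CommRing A] [CommRing A'] [Algebra A A']
    [Module.FaithfullyFlat A A'] (M : Type u) [AddCommGroup M] [Module A M] (N' : Submodule A' (A' ⊗[A] M))
    (h : Submodule.span (A' ⊗[A] A')
          ((N'.restrictScalars A).map
            ((Algebra.TensorProduct.includeLeft : A' →ₐ[A] A' ⊗[A] A').toLinearMap.rTensor M) : Set ((A' ⊗[A] A') ⊗[A] M)) =
        Submodule.span (A' ⊗[A] A')
          ((N'.restrictScalars A).map
            ((Algebra.TensorProduct.includeRight : A' →ₐ[A] A' ⊗[A] A').toLinearMap.rTensor M) : Set ((A' ⊗[A] A') ⊗[A] M))) :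
    ((N'.restrictScalars A).comap (TensorProduct.mk A A' M 1)).baseChange A' = N' := by
  classical
  set πQ : (A' ⊗[A] M) →ₗ[A] ((A' ⊗[A] M) ⧸ N') := N'.mkQ.restrictScalars A with hπQ
  set f : M →ₗ[A] ((A' ⊗[A] M) ⧸ N') := πQ ∘ₗ (TensorProduct.mk A A' M 1) with hf
  have hN : (N'.restrictScalars A).comap (TensorProduct.mk A A' M 1) = LinearMap.ker f := by
    ext m
    rw [Submodule.mem_comap, LinearMap.mem_ker, hf, LinearMap.comp_apply, hπQ]
    show _ ↔ N'.mkQ _ = 0
    rw [Submodule.mkQ_apply, Submodule.Quotient.mk_eq_zero]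
    rfl
  rw [hN]
  let Θ : (A' ⊗[A] A') ⊗[A] M →ₗ[A] A' ⊗[A] ((A' ⊗[A] M) ⧸ N') :=
    (πQ.lTensor A') ∘ₗ (TensorProduct.assoc A A' A' M).toLinearMap
  have fact1 : ∀ x : A' ⊗[A] M, (f.lTensor A') x =
      Θ (((Algebra.TensorProduct.includeLeft : A' →ₐ[A] A' ⊗[A] A').toLinearMap.rTensor M) x) := by
    intro x
    induction x using TensorProduct.induction_on with
    | zero => simp
    | tmul b m =>
      simp only [Θ, hf, LinearMap.rTensor_tmul, AlgHom.toLinearMap_apply,
        Algebra.TensorProduct.includeLeft_apply, LinearMap.comp_apply, LinearEquiv.coe_coe,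
        TensorProduct.assoc_tmul, LinearMap.lTensor_tmul, TensorProduct.mk_apply]
    | add x y hx hy => simp only [map_add, hx, hy]
  have key : ∀ (b b₂ : A') (n' : A' ⊗[A] M),
      Θ ((b ⊗ₜ[A] b₂) •
        ((Algebra.TensorProduct.includeRight : A' →ₐ[A] A' ⊗[A] A').toLinearMap.rTensor M) n') =
      b ⊗ₜ[A] πQ (b₂ • n') := by
    intro b b₂ n'
    induction n' using TensorProduct.induction_on with
    | zero => simp
    | tmul b₁ m₁ =>
      simp only [Θ, LinearMap.rTensor_tmul, AlgHom.toLinearMap_apply,
        Algebra.TensorProduct.includeRight_apply, TensorProduct.smul_tmul', smul_eq_mul,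
        Algebra.TensorProduct.tmul_mul_tmul, mul_one, LinearMap.comp_apply, LinearEquiv.coe_coe,
        TensorProduct.assoc_tmul, LinearMap.lTensor_tmul]
    | add x y hx hy => simp only [map_add, smul_add, hx, hy, TensorProduct.tmul_add]
  have key2 : ∀ (t : A' ⊗[A] A') (n' : A' ⊗[A] M), n' ∈ N' →
      Θ (t • ((Algebra.TensorProduct.includeRight : A' →ₐ[A] A' ⊗[A] A').toLinearMap.rTensor M)
        n') = 0 := by
    intro t n' hn'
    induction t using TensorProduct.induction_on with
    | zero => simp
    | tmul b b₂ =>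
      rw [key b b₂ n']
      have h0 : πQ (b₂ • n') = 0 := by
        rw [hπQ]
        show N'.mkQ _ = 0
        rw [Submodule.mkQ_apply, Submodule.Quotient.mk_eq_zero]
        exact N'.smul_mem b₂ hn'
      rw [h0, TensorProduct.tmul_zero]
    | add x y hx hy => rw [add_smul, map_add, hx, hy, add_zero]
  have fact2 : ∀ z ∈ Submodule.span (A' ⊗[A] A')
      ((N'.restrictScalars A).map
        ((Algebra.TensorProduct.includeRight : A' →ₐ[A] A' ⊗[A] A').toLinearMap.rTensor M) :
          Set ((A' ⊗[A] A') ⊗[A] M)), ∀ t : A' ⊗[A] A', Θ (t • z) = 0 := by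
    intro z hz
    induction hz using Submodule.span_induction with
    | mem z hz =>
      obtain ⟨n', hn', rfl⟩ := hz
      intro t
      exact key2 t n' hn'
    | zero => intro t; rw [smul_zero, map_zero]
    | add x y _ _ hx hy => intro t; rw [smul_add, map_add, hx t, hy t, add_zero]
    | smul a x _ hx => intro t; rw [smul_smul]; exact hx (t * a)
  apply le_antisymm
  · rw [Submodule.baseChange_eq_span, Submodule.span_le]
    rintro _ ⟨m, hm, rfl⟩
    have h1 : f m = 0 := hm
    rw [hf, LinearMap.comp_apply, hπQ] at h1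
    have h2 : N'.mkQ (TensorProduct.mk A A' M 1 m) = 0 := h1
    rw [Submodule.mkQ_apply, Submodule.Quotient.mk_eq_zero] at h2
    exact h2
  · intro x hx
    have hxL : ((Algebra.TensorProduct.includeLeft : A' →ₐ[A] A' ⊗[A] A').toLinearMap.rTensor M) x ∈
        Submodule.span (A' ⊗[A] A')
          ((N'.restrictScalars A).map
            ((Algebra.TensorProduct.includeLeft : A' →ₐ[A] A' ⊗[A] A').toLinearMap.rTensor M) :
              Set ((A' ⊗[A] A') ⊗[A] M)) :=
      Submodule.subset_span ⟨x, hx, rfl⟩
    rw [h] at hxL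
    have h0 := fact2 _ hxL 1
    rw [one_smul, ← fact1 x] at h0
    have hk := Module.Flat.ker_lTensor_eq (R := A) A' A' f
    have hx0 : x ∈ LinearMap.ker (TensorProduct.AlgebraTensorModule.lTensor A' A' f) := by
      rw [LinearMap.mem_ker]
      exact h0
    rw [hk] at hx0
    exact hx0

end Groth.Agent.S5135
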