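import Groth.Statements.S5136
import Mathlib
import Groth.Agent.S4667
import Groth.Agent.S4666

set_option autoImplicit false
open CategoryTheory CategoryTheory.Limits AlgebraicGeometry
universe u
open SGA1

namespace Groth.Agent.S5136

theorem main {S S' : Scheme.{u}} (g : S' ⟶ S) [Flat g] [Surjective g]
    [QuasiCompact g] (J' : S'.IdealSheafData)
    (h : J'.comap (pullback.fst g g) = J'.comap (pullback.snd g g)) :
    ∃ J : S.IdealSheafData, J.comap g = J' := by
  refine ⟨J'.map g, ?_⟩
  have h1 : (J'.map g).comap g = (pullback.snd (J'.subschemeι ≫ g) g).ker :=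
    (Groth.Agent.S4667.main (J'.subschemeι ≫ g) g).symm
  have e2 := pullbackRightPullbackFstIso_hom_snd g g J'.subschemeι
  have h2 : (pullback.snd (J'.subschemeι ≫ g) g).ker =
      (pullback.snd J'.subschemeι (pullback.fst g g) ≫ pullback.snd g g).ker := by
    rw [← e2, Scheme.Hom.ker_comp_of_isIso]
  have e3 := pullbackSymmetry_hom_comp_fst J'.subschemeι (pullback.fst g g)
  have h3 : (pullback.snd J'.subschemeι (pullback.fst g g)).ker =
      J'.comap (pullback.fst g g) := by
    rw [Scheme.IdealSheafData.comap, ← e3, Scheme.Hom.ker_comp_of_isIso]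
  rw [h1, h2, Scheme.Hom.ker_comp, h3, h]
  exact Groth.Agent.S4666.map_comap_eq (pullback.snd g g) J'

/-- The existence half of the exactness of H(S) ⟶ H(S') ⇉ H(S'') for closed subschemes: for g : S' ⟶ S
flat, surjective and quasi-compact, a quasi-coherent ideal sheaf on S' whose pullbacks along the two
projections of S' ×_S S' agree is the pullback of a quasi-coherent ideal sheaf on S. (Injectivity of
the pullback of ideal sheaves along g is the other half.) -/
theorem result {S S' : Scheme.{u}} (g : S' ⟶ S) [Flat g] [Surjective g]
    [QuasiCompact g] (J' : S'.IdealSheafData)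
    (h : J'.comap (pullback.fst g g) = J'.comap (pullback.snd g g)) :
    ∃ J : S.IdealSheafData, J.comap g = J' := by
  exact main g J' h

end Groth.Agent.S5136
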