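import Groth.Statements.S5138
import Mathlib
import Groth.Agent.S9566
import Groth.Agent.S2807
import Groth.Agent.S5064

set_option autoImplicit false
open CategoryTheory AlgebraicGeometry
universe u
open SGA1

namespace Groth.Agent.S5138

section Helpers
open AlgebraicGeometry CategoryTheory Limits TopologicalSpace

theorem mem_etaleLocus_iff {X Y : Scheme.{u}} (f : X ⟶ Y) (x : X) :
    x ∈ Pi1X.etaleLocus f ↔ ∃ U : X.Opens, x ∈ U ∧ Etale (U.ι ≫ f) := by
  unfold Pi1X.etaleLocus
  rw [TopologicalSpace.Opens.mem_sSup]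
  constructor
  · rintro ⟨U, hU, hx⟩; exact ⟨U, hx, hU⟩
  · rintro ⟨U, hx, hU⟩; exact ⟨U, hU, hx⟩

set_option backward.isDefEq.respectTransparency false in
theorem main5138 {X X' Y : Scheme.{u}} (f : X ⟶ X') (g : X' ⟶ Y)
    [IsLocallyNoetherian Y] [LocallyOfFiniteType f] [LocallyOfFiniteType g] (x : X)
    (hf : ∃ U : X.Opens, x ∈ U ∧ Etale (U.ι ≫ f))
    (hfg : ∃ U : X.Opens, x ∈ U ∧ Etale (U.ι ≫ (f ≫ g))) :
    ∃ V : X'.Opens, f.base x ∈ V ∧ Etale (V.ι ≫ g) := by
  haveI : LocallyOfFinitePresentation g :=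
    LocallyOfFinitePresentation.iff_locallyOfFiniteType.mpr inferInstance
  have hfl : (f.stalkMap x).hom.Flat := by
    obtain ⟨U, hxU, hU⟩ := hf
    exact Groth.Agent.S9566.stalk_flat_of_nbhd f x ⟨U, hxU, inferInstance⟩
  have hfgfl : ((f ≫ g).stalkMap x).hom.Flat := by
    obtain ⟨U, hxU, hU⟩ := hfg
    exact Groth.Agent.S9566.stalk_flat_of_nbhd (f ≫ g) x ⟨U, hxU, inferInstance⟩
  have hfu : ∃ V : X'.Opens, f.base x ∈ V ∧ FormallyUnramified (V.ι ≫ g) := by
    apply Groth.Agent.S2807.main2807 g (f ≫ g) f rfl x hfl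
    obtain ⟨U, hxU, hU⟩ := hfg
    exact ⟨U, hxU, inferInstance⟩
  apply Groth.Agent.S9566.etale_nbhd_of_fu_flat g (f.base x) hfu
  letI : Algebra (Y.presheaf.stalk (g (f x))) (X'.presheaf.stalk (f x)) :=
    (g.stalkMap (f x)).hom.toAlgebra
  letI : Algebra (X'.presheaf.stalk (f x)) (X.presheaf.stalk x) := (f.stalkMap x).hom.toAlgebra
  letI : Algebra (Y.presheaf.stalk (g (f x))) (X.presheaf.stalk x) :=
    ((f ≫ g).stalkMap x).hom.toAlgebra
  haveI : IsScalarTower (Y.presheaf.stalk (g (f x))) (X'.presheaf.stalk (f x))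
      (X.presheaf.stalk x) :=
    IsScalarTower.of_algebraMap_eq'
      (congrArg CommRingCat.Hom.hom (Scheme.Hom.stalkMap_comp f g x))
  haveI : IsLocalHom (algebraMap (X'.presheaf.stalk (f x)) (X.presheaf.stalk x)) :=
    inferInstanceAs <| IsLocalHom (f.stalkMap x).hom
  haveI : Module.Flat (X'.presheaf.stalk (f x)) (X.presheaf.stalk x) := hfl
  haveI : Module.FaithfullyFlat (X'.presheaf.stalk (f x)) (X.presheaf.stalk x) :=
    Module.FaithfullyFlat.of_flat_of_isLocalHom
  haveI : Module.Flat (Y.presheaf.stalk (g (f x))) (X.presheaf.stalk x) := hfgfl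
  exact Groth.Agent.S5064.flat_of_faithfullyFlat_of_flat (Y.presheaf.stalk (g (f x)))
    (X'.presheaf.stalk (f x)) (X.presheaf.stalk x)

end Helpers

/-- For X ⟶ X' ⟶ Y locally of finite type over a locally Noetherian Y and a point x of X, if X ⟶ X' and
the composite X ⟶ Y are both etale near x then X' ⟶ Y is etale near the image of x; 'etale near a
point' is membership in the etale locus, the union of the opens on which the morphism is etale. (The
published statement takes the morphisms of finite type; quasi-compactness plays no role in this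
assertion about single points, so only local finiteness is assumed.) -/
theorem result {X X' Y : Scheme.{u}} (f : X ⟶ X') (g : X' ⟶ Y)
    [IsLocallyNoetherian Y] [LocallyOfFiniteType f] [LocallyOfFiniteType g] (x : X)
    (hf : x ∈ Pi1X.etaleLocus f) (hfg : x ∈ Pi1X.etaleLocus (f ≫ g)) : f.base x ∈ Pi1X.etaleLocus g := by
  rw [mem_etaleLocus_iff] at hf hfg ⊢
  exact main5138 f g x hf hfg

end Groth.Agent.S5138
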