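import Groth.Statements.S5139
import Groth.Agent.Lib.Helper22.FibLift
import Mathlib

set_option autoImplicit false
open CategoryTheory
universe u v u₂ v₂
open FibCat

namespace Groth.Agent.S5139

/-- A functor F : 𝒳 ⟶ 𝒴 over C is an equivalence over C exactly when its underlying functor is fully
faithful and every object η of 𝒴 admits an object ξ of 𝒳 and an isomorphism F ξ ≅ η lying over the
identity of the object of C under η. -/
theorem result {C : Type u} [Category.{v} C]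
    {𝒳 𝒴 : BasedCategory.{v₂, u₂} C} (F : 𝒳 ⥤ᵇ 𝒴) :
    FibCat.IsEquivOver F ↔
      (F.toFunctor.Full ∧ F.toFunctor.Faithful) ∧
        ∀ η : 𝒴.obj, ∃ (ξ : 𝒳.obj) (e : F.toFunctor.obj ξ ≅ η), 𝒴.p.IsHomLift (𝟙 (𝒴.p.obj η)) e.hom := by
  constructor
  · rintro ⟨G, ⟨i1⟩, ⟨i2⟩⟩
    let E1 : F.toFunctor ⋙ G.toFunctor ≅ 𝟭 _ := (BasedNatTrans.forgetful _ _).mapIso i1
    let E2 : G.toFunctor ⋙ F.toFunctor ≅ 𝟭 _ := (BasedNatTrans.forgetful _ _).mapIso i2
    let EQ : 𝒳.obj ≌ 𝒴.obj := CategoryTheory.Equivalence.mk F.toFunctor G.toFunctor E1.symm E2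
    haveI : F.toFunctor.IsEquivalence := EQ.isEquivalence_functor
    refine ⟨⟨inferInstance, inferInstance⟩, ?_⟩
    intro η
    exact ⟨G.obj η, E2.app η, i2.hom.isHomLift' η⟩
  · rintro ⟨⟨hfull, hfaith⟩, h⟩
    haveI := hfull
    haveI := hfaith
    exact Groth.Agent.Helper22.FibLift.isEquivOver_of_ff F h

end Groth.Agent.S5139
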