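import Groth.Statements.S5140
import Groth.Agent.Lib.Helper22.FibLift

set_option autoImplicit false
open CategoryTheory
universe u v u₂ v₂
open FibCat

namespace Groth.Agent.S5140

/-- If the structure functor of 𝒳 is transportable (isomorphisms of C lift to isomorphisms of 𝒳 with any
prescribed source over their source), then a functor 𝒳 ⟶ 𝒴 over C whose underlying functor is an
equivalence of categories is an equivalence over C. -/
theorem result {C : Type u} [Category.{v} C]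
    {𝒳 𝒴 : BasedCategory.{v₂, u₂} C}
    (h𝒳 : ∀ ⦃T S : C⦄ (α : T ≅ S) (ξ : 𝒳.obj), 𝒳.p.obj ξ = T →
      ∃ (ξ' : 𝒳.obj) (e : ξ ≅ ξ'), 𝒳.p.IsHomLift α.hom e.hom)
    (F : 𝒳 ⥤ᵇ 𝒴) [F.toFunctor.IsEquivalence] : FibCat.IsEquivOver F := by
  haveI : F.toFunctor.Full := inferInstance
  haveI : F.toFunctor.Faithful := inferInstance
  apply Groth.Agent.Helper22.FibLift.isEquivOver_of_ff F
  intro η
  obtain ⟨ξ₀, ⟨e₀⟩⟩ : ∃ ξ₀, Nonempty (F.toFunctor.obj ξ₀ ≅ η) :=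
    ⟨F.toFunctor.objPreimage η, ⟨F.toFunctor.objObjPreimageIso η⟩⟩
  obtain ⟨ξ', e, he⟩ := h𝒳 (𝒴.p.mapIso e₀) ξ₀ (F.w_obj ξ₀).symm
  haveI := he
  haveI h1 : 𝒴.p.IsHomLift (𝒴.p.mapIso e₀).hom (F.toFunctor.mapIso e).hom := by
    show 𝒴.p.IsHomLift (𝒴.p.mapIso e₀).hom (F.map e.hom)
    infer_instance
  haveI h2 : 𝒴.p.IsHomLift (𝒴.p.mapIso e₀).inv (F.toFunctor.mapIso e).inv := inferInstance
  haveI h3 : 𝒴.p.IsHomLift (𝒴.p.mapIso e₀).hom e₀.hom := by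
    show 𝒴.p.IsHomLift (𝒴.p.map e₀.hom) e₀.hom
    infer_instance
  have h4 : 𝒴.p.IsHomLift ((𝒴.p.mapIso e₀).inv ≫ (𝒴.p.mapIso e₀).hom)
      ((F.toFunctor.mapIso e).inv ≫ e₀.hom) := inferInstance
  rw [Iso.inv_hom_id] at h4
  exact ⟨ξ', (F.toFunctor.mapIso e).symm ≪≫ e₀, h4⟩

end Groth.Agent.S5140
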