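import Groth.Statements.S5141
import Groth.Agent.Lib.Helper22.PostEquiv

set_option autoImplicit false
open CategoryTheory
universe u v u₂ v₂
open FibCat

set_option backward.isDefEq.respectTransparency false
set_option backward.isDefEq.respectTransparency.types false

namespace Groth.Agent.S5141aux

open CategoryTheory FibCat

universe v₃ u₃

lemma cart_reflect {C : Type u} [Category.{v} C] {𝒳 : BasedCategory.{v₂, u₂} C}
    {𝒴 : BasedCategory.{v₃, u₃} C} (F : 𝒳 ⥤ᵇ 𝒴) [F.toFunctor.Full] [F.toFunctor.Faithful]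
    {R S : C} (f : R ⟶ S) {a b : 𝒳.obj} (φ : a ⟶ b) [𝒳.p.IsHomLift f φ]
    (h : 𝒴.p.IsCartesian f (F.map φ)) : 𝒳.p.IsCartesian f φ := by
  refine { toIsHomLift := inferInstance, universal_property := ?_ }
  intro a' φ' hφ'
  haveI : 𝒴.p.IsHomLift f (F.map φ') := inferInstance
  obtain ⟨χ', ⟨hχ'l, hχ'⟩, huniq⟩ := h.universal_property (F.map φ')
  refine ⟨F.toFunctor.preimage χ', ⟨?_, ?_⟩, ?_⟩
  · rw [← BasedFunctor.isHomLift_iff F]
    show 𝒴.p.IsHomLift (𝟙 R) (F.toFunctor.map (F.toFunctor.preimage χ'))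
    rw [F.toFunctor.map_preimage]
    exact hχ'l
  · apply F.toFunctor.map_injective
    rw [Functor.map_comp, F.toFunctor.map_preimage]
    exact hχ'
  · rintro χ ⟨hχl, hχ⟩
    apply F.toFunctor.map_injective
    rw [F.toFunctor.map_preimage]
    haveI := hχl
    apply huniq
    refine ⟨inferInstance, ?_⟩
    show F.toFunctor.map χ ≫ F.toFunctor.map φ = F.toFunctor.map φ'
    rw [← Functor.map_comp, hχ]

end Groth.Agent.S5141aux

namespace Groth.Agent.S5141

/-- In the sharper form given by its proof: for an equivalence F : 𝒳 ⟶ 𝒴 over C, a morphism φ of 𝒳 is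
cartesian (over its image in C) if and only if F φ is; in particular an equivalence over C is a
cartesian functor. -/
theorem result {C : Type u} [Category.{v} C]
    {𝒳 𝒴 : BasedCategory.{v₂, u₂} C} (F : 𝒳 ⥤ᵇ 𝒴) (hF : FibCat.IsEquivOver F) {a b : 𝒳.obj} (φ : a ⟶ b) :
    𝒴.p.IsCartesian (𝒳.p.map φ) (F.toFunctor.map φ) ↔ 𝒳.p.IsCartesian (𝒳.p.map φ) φ := by
  obtain ⟨G, ⟨e₁⟩, ⟨e₂⟩⟩ := hF
  have hF' : FibCat.IsEquivOver F := ⟨G, ⟨e₁⟩, ⟨e₂⟩⟩
  have hG' : FibCat.IsEquivOver G := ⟨F, ⟨e₂⟩, ⟨e₁⟩⟩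
  haveI := Groth.Agent.Helper12.isEquivalence_of_isEquivOver F hF'
  haveI := Groth.Agent.Helper12.isEquivalence_of_isEquivOver G hG'
  haveI : F.toFunctor.Full := inferInstance
  haveI : F.toFunctor.Faithful := inferInstance
  haveI : G.toFunctor.Full := inferInstance
  haveI : G.toFunctor.Faithful := inferInstance
  constructor
  · intro h
    exact Groth.Agent.S5141aux.cart_reflect F (𝒳.p.map φ) φ h
  · intro hφ
    haveI := hφ
    haveI i1 : 𝒳.p.IsHomLift (𝟙 (𝒳.p.obj a)) (Groth.Agent.Helper22.PostEquiv.appIso e₁ a).hom :=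
      e₁.hom.isHomLift' a
    haveI i2 : 𝒳.p.IsHomLift (𝟙 (𝒳.p.obj b))
        (Groth.Agent.Helper22.PostEquiv.appIso e₁ b).symm.hom := e₁.inv.isHomLift' b
    haveI k1 : 𝒳.p.IsCartesian (𝒳.p.map φ)
        ((Groth.Agent.Helper22.PostEquiv.appIso e₁ a).hom ≫ φ) := inferInstance
    have k2 : 𝒳.p.IsCartesian (𝒳.p.map φ)
        (((Groth.Agent.Helper22.PostEquiv.appIso e₁ a).hom ≫ φ) ≫
          (Groth.Agent.Helper22.PostEquiv.appIso e₁ b).symm.hom) := inferInstance
    have hkey : G.map (F.map φ) = ((Groth.Agent.Helper22.PostEquiv.appIso e₁ a).hom ≫ φ) ≫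
        (Groth.Agent.Helper22.PostEquiv.appIso e₁ b).symm.hom := by
      have nat : G.map (F.map φ) ≫ (Groth.Agent.Helper22.PostEquiv.appIso e₁ b).hom =
          (Groth.Agent.Helper22.PostEquiv.appIso e₁ a).hom ≫ φ :=
        e₁.hom.toNatTrans.naturality φ
      rw [← nat, Category.assoc, Iso.symm_hom, Iso.hom_inv_id, Category.comp_id]
    rw [← hkey] at k2
    haveI : 𝒴.p.IsHomLift (𝒳.p.map φ) (F.map φ) := inferInstance
    exact Groth.Agent.S5141aux.cart_reflect G (𝒳.p.map φ) (F.map φ) k2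

end Groth.Agent.S5141
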