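import Groth.Statements.S5143
import Groth.Agent.S5142

set_option autoImplicit false
open CategoryTheory
universe u v u₂ v₂
open FibCat


set_option backward.isDefEq.respectTransparency false
set_option backward.isDefEq.respectTransparency.types false

namespace Groth.Agent.S5143aux

open CategoryTheory CategoryTheory.Limits FibCat
open Groth.Agent.Helper22.RepDiag Groth.Agent.S5142aux

universe u₃ v₃

section main
variable {C : Type u} [Category.{v} C] {𝒳 : BasedCategory.{v₂, u₂} C}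
  {𝒴 : BasedCategory.{v₃, u₃} C}

theorem preFibered (h𝒳 : 𝒳.p.IsPreFibered) (h𝒴 : 𝒴.p.IsPreFibered) :
    (FibCat.fp (FibCat.toSelf 𝒳) (FibCat.toSelf 𝒴)).p.IsPreFibered := by
  haveI := h𝒳
  haveI := h𝒴
  refine ⟨?_⟩
  intro x R f₀
  obtain ⟨f, hff⟩ : ∃ f : R ⟶ 𝒳.p.obj x.obj.fst, f = f₀ := ⟨f₀, rfl⟩
  subst hff
  have hx₂ : 𝒴.p.obj x.obj.snd = 𝒳.p.obj x.obj.fst := Groth.Agent.H13.fp_obj_snd_proj _ _ x
  obtain ⟨a₁, φ₁, hφ₁⟩ :=
    CategoryTheory.IsPreFibered.exists_isCartesian 𝒳.p (a := x.obj.fst) rfl f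
  obtain ⟨a₂, φ₂, hφ₂⟩ := CategoryTheory.IsPreFibered.exists_isCartesian 𝒴.p hx₂ f
  haveI := hφ₁
  haveI := hφ₂
  have ha₁ : 𝒳.p.obj a₁ = R := IsHomLift.domain_eq 𝒳.p f φ₁
  have ha₂ : 𝒴.p.obj a₂ = R := IsHomLift.domain_eq 𝒴.p f φ₂
  let ι : (FibCat.toSelf 𝒳).obj a₁ ≅ (FibCat.toSelf 𝒴).obj a₂ := eqToIso (ha₁.trans ha₂.symm)
  have hι : (FibCat.selfOver C).p.IsHomLift (𝟙 (𝒳.p.obj a₁)) ι.hom :=
    lift_of_isEq ⟨ha₁.trans ha₂.symm, rfl⟩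
  let a : (FibCat.fp (FibCat.toSelf 𝒳) (FibCat.toSelf 𝒴)).obj := ⟨⟨a₁, a₂, ι⟩, hι⟩
  have hw : (FibCat.toSelf 𝒳).map φ₁ ≫ x.obj.iso.hom = ι.hom ≫ (FibCat.toSelf 𝒴).map φ₂ := by
    haveI hxp : (FibCat.selfOver C).p.IsHomLift (𝟙 (𝒳.p.obj x.obj.fst)) x.obj.iso.hom :=
      x.property
    haveI := hι
    haveI l1 : (FibCat.selfOver C).p.IsHomLift f ((FibCat.toSelf 𝒳).map φ₁) := inferInstance
    haveI l2 : (FibCat.selfOver C).p.IsHomLift f ((FibCat.toSelf 𝒴).map φ₂) := inferInstance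
    apply self_lift_ext f
    · exact IsHomLift.comp_lift_id_right' (FibCat.selfOver C).p f
        ((FibCat.toSelf 𝒳).map φ₁) (𝒳.p.obj x.obj.fst) x.obj.iso.hom
    · exact IsHomLift.comp_lift_id_left' (FibCat.selfOver C).p (𝒳.p.obj a₁) ι.hom f
        ((FibCat.toSelf 𝒴).map φ₂)
  let φ : a ⟶ x := ObjectProperty.homMk ⟨φ₁, φ₂, hw⟩
  have hφ : (FibCat.fp (FibCat.toSelf 𝒳) (FibCat.toSelf 𝒴)).p.IsHomLift f φ :=
    (Groth.Agent.H13.fp_isHomLift_iff _ _ φ _).2 (inferInstance : 𝒳.p.IsHomLift f φ₁)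
  exact ⟨a, φ, (main' φ f hφ).2 ⟨hφ₁, hφ₂⟩⟩

theorem fibered (h𝒳 : 𝒳.p.IsFibered) (h𝒴 : 𝒴.p.IsFibered) :
    (FibCat.fp (FibCat.toSelf 𝒳) (FibCat.toSelf 𝒴)).p.IsFibered := by
  haveI := h𝒳
  haveI := h𝒴
  haveI hpre : (FibCat.fp (FibCat.toSelf 𝒳) (FibCat.toSelf 𝒴)).p.IsPreFibered :=
    preFibered inferInstance inferInstance
  refine { toIsPreFibered := hpre, comp := ?_ }
  intro R S T f g a b c φ ψ hφ hψ
  haveI := hφ
  haveI := hψ
  have lφ : (FibCat.fp (FibCat.toSelf 𝒳) (FibCat.toSelf 𝒴)).p.IsHomLift f φ := inferInstance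
  have lψ : (FibCat.fp (FibCat.toSelf 𝒳) (FibCat.toSelf 𝒴)).p.IsHomLift g ψ := inferInstance
  have lφψ : (FibCat.fp (FibCat.toSelf 𝒳) (FibCat.toSelf 𝒴)).p.IsHomLift (f ≫ g) (φ ≫ ψ) :=
    inferInstance
  obtain ⟨c1, c2⟩ := (main' φ f lφ).1 hφ
  obtain ⟨d1, d2⟩ := (main' ψ g lψ).1 hψ
  haveI := c1
  haveI := c2
  haveI := d1
  haveI := d2
  refine (main' (φ ≫ ψ) (f ≫ g) lφψ).2 ⟨?_, ?_⟩
  · exact Functor.IsFibered.comp (p := 𝒳.p) f g φ.hom.fst ψ.hom.fst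
  · exact Functor.IsFibered.comp (p := 𝒴.p) f g φ.hom.snd ψ.hom.snd

end main

end Groth.Agent.S5143aux

namespace Groth.Agent.S5143

/-- The fibre product over C of two fibred (resp. prefibred) categories over C is fibred (resp.
prefibred); fibred and prefibred are Mathlib's notions for the structure functors, and the fibre
product is the 2-fibre product over C of the two structure functors. -/
theorem result {C : Type u} [Category.{v} C] {𝒳 𝒴 : BasedCategory.{v₂, u₂} C} :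
    (𝒳.p.IsFibered → 𝒴.p.IsFibered → (FibCat.fp (FibCat.toSelf 𝒳) (FibCat.toSelf 𝒴)).p.IsFibered) ∧
      (𝒳.p.IsPreFibered → 𝒴.p.IsPreFibered → (FibCat.fp (FibCat.toSelf 𝒳) (FibCat.toSelf 𝒴)).p.IsPreFibered) := by
  exact ⟨fun h1 h2 => Groth.Agent.S5143aux.fibered h1 h2,
    fun h1 h2 => Groth.Agent.S5143aux.preFibered h1 h2⟩

end Groth.Agent.S5143
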