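import Groth.Statements.S5144
import Mathlib
import Mathlib

set_option autoImplicit false
open CategoryTheory
universe u v u₂ v₂
open FibCat

namespace Groth.Agent.S5144

open Opposite Functor

section helpers

variable {C : Type u} [Category.{v} C] {𝒳 : Type u₂} [Category.{v₂} 𝒳] (p : 𝒳 ⥤ C)

theorem homLift_op {R S : C} {a b : 𝒳} (f : R ⟶ S) (φ : a ⟶ b) [h : p.IsHomLift f φ] :
    p.op.IsHomLift f.op φ.op := by
  obtain ⟨⟩ := h
  exact Functor.IsHomLift.map (p := p.op) φ.op

theorem homLift_unop {R S : Cᵒᵖ} {a b : 𝒳ᵒᵖ} (f : R ⟶ S) (φ : a ⟶ b) [h : p.op.IsHomLift f φ] :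
    p.IsHomLift f.unop φ.unop := by
  obtain ⟨⟩ := h
  exact Functor.IsHomLift.map (p := p) φ.unop

theorem fib_op [p.IsFibered] [p.op.IsPreFibered] : p.op.IsFibered where
  comp := by
    intro R S T f g a b c φ ψ hφ hψ
    refine ⟨?_⟩
    intro a' θ hθ
    have hR : p.obj a'.unop = R.unop := by
      have := IsHomLift.domain_eq p.op (f ≫ g) θ
      exact congrArg Opposite.unop this
    obtain ⟨y, γ, hγ⟩ := CategoryTheory.IsPreFibered.exists_isCartesian p hR f.unop
    haveI : p.IsStronglyCartesian f.unop γ := inferInstance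
    haveI : p.IsHomLift (g.unop ≫ f.unop) θ.unop := homLift_unop p (f ≫ g) θ
    obtain ⟨θ', ⟨hθ'l, hθ'f⟩, hθ'u⟩ :=
      IsStronglyCartesian.universal_property p f.unop γ g.unop (g.unop ≫ f.unop) rfl θ.unop
    haveI : p.op.IsHomLift g θ'.op := homLift_op p g.unop θ'
    obtain ⟨β, ⟨hβl, hβf⟩, hβu⟩ := hψ.universal_property θ'.op
    haveI : p.op.IsHomLift f γ.op := homLift_op p f.unop γ
    haveI : p.op.IsHomLift f (γ.op ≫ β) := inferInstance
    obtain ⟨χ, ⟨hχl, hχf⟩, hχu⟩ := hφ.universal_property (γ.op ≫ β)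
    refine ⟨χ, ⟨hχl, ?_⟩, ?_⟩
    · rw [← Category.assoc, hχf, Category.assoc, hβf, ← op_comp, hθ'f]; rfl
    · rintro χ' ⟨hχ'l, hχ'f⟩
      apply hχu
      refine ⟨hχ'l, ?_⟩
      haveI : p.op.IsHomLift f (χ' ≫ φ) := inferInstance
      haveI : p.IsHomLift f.unop (χ' ≫ φ).unop := homLift_unop p f (χ' ≫ φ)
      obtain ⟨β', ⟨hβ'l, hβ'f⟩, _⟩ := hγ.universal_property (χ' ≫ φ).unop
      have h1 : ψ.unop ≫ β' = θ' := by
        apply hθ'u
        refine ⟨?_, ?_⟩
        · haveI : p.IsHomLift g.unop ψ.unop := homLift_unop p g ψ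
          infer_instance
        · rw [Category.assoc, hβ'f, ← unop_comp, Category.assoc, hχ'f]
      have h2 : β'.op = β := by
        apply hβu
        refine ⟨homLift_op p (𝟙 _) β', ?_⟩
        rw [← h1]; rfl
      rw [← h2, ← op_comp, hβ'f]; rfl

theorem fib_unop [p.IsPreFibered] [p.op.IsFibered] : p.IsFibered where
  comp := by
    intro R S T f g a b c φ ψ hφ hψ
    refine ⟨?_⟩
    intro a' θ hθ
    have hR : p.op.obj (op a') = op R := by
      have := IsHomLift.domain_eq p (f ≫ g) θ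
      exact congrArg Opposite.op this
    obtain ⟨y, γ, hγ⟩ := CategoryTheory.IsPreFibered.exists_isCartesian p.op hR f.op
    haveI : p.op.IsStronglyCartesian f.op γ := inferInstance
    haveI : p.op.IsHomLift (g.op ≫ f.op) θ.op := homLift_op p (f ≫ g) θ
    obtain ⟨θ', ⟨hθ'l, hθ'f⟩, hθ'u⟩ :=
      IsStronglyCartesian.universal_property p.op f.op γ g.op (g.op ≫ f.op) rfl θ.op
    haveI : p.IsHomLift g θ'.unop := homLift_unop p g.op θ'
    obtain ⟨β, ⟨hβl, hβf⟩, hβu⟩ := hψ.universal_property θ'.unop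
    haveI : p.IsHomLift f γ.unop := homLift_unop p f.op γ
    haveI : p.IsHomLift f (γ.unop ≫ β) := inferInstance
    obtain ⟨χ, ⟨hχl, hχf⟩, hχu⟩ := hφ.universal_property (γ.unop ≫ β)
    refine ⟨χ, ⟨hχl, ?_⟩, ?_⟩
    · rw [← Category.assoc, hχf, Category.assoc, hβf, ← unop_comp, hθ'f]; rfl
    · rintro χ' ⟨hχ'l, hχ'f⟩
      apply hχu
      refine ⟨hχ'l, ?_⟩
      haveI : p.IsHomLift f (χ' ≫ φ) := inferInstance
      haveI : p.op.IsHomLift f.op (χ' ≫ φ).op := homLift_op p f (χ' ≫ φ)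
      obtain ⟨β', ⟨hβ'l, hβ'f⟩, _⟩ := hγ.universal_property (χ' ≫ φ).op
      have h1 : ψ.op ≫ β' = θ' := by
        apply hθ'u
        refine ⟨?_, ?_⟩
        · haveI : p.op.IsHomLift g.op ψ.op := homLift_op p g ψ
          infer_instance
        · rw [Category.assoc, hβ'f, ← op_comp, Category.assoc, hχ'f]
      have h2 : β'.unop = β := by
        apply hβu
        refine ⟨homLift_unop p (𝟙 _) β', ?_⟩
        rw [← h1]; rfl
      rw [← h2, ← unop_comp, hβ'f]; rfl

end helpers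

/-- If p : 𝒳 ⥤ C is both prefibred and co-prefibred (its opposite functor is prefibred), then p is
fibred if and only if it is co-fibred (its opposite functor is fibred). Prefibred and fibred are
Mathlib's notions, which are the source's. -/
theorem result {C : Type u} [Category.{v} C] {𝒳 : Type u₂} [Category.{v₂} 𝒳]
    (p : 𝒳 ⥤ C) [p.IsPreFibered] [p.op.IsPreFibered] : p.IsFibered ↔ p.op.IsFibered := by
  exact ⟨fun _ => fib_op p, fun _ => fib_unop p⟩

end Groth.Agent.S5144
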