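import Groth.Statements.S5147
import Mathlib
import Groth.Agent.H26.Galois

set_option linter.style.haveILetI false

set_option autoImplicit false
universe u v w
open CategoryTheory PreGaloisCategory
open Pi1

namespace Groth.Agent.S5147

open CategoryTheory.Limits in
/-- In the situation of the first assertion, the stabilizer U of a contains the normal subgroup
generated by the image of u (hence also its closure, U being open) if and only if H(X) is isomorphic
to a finite coproduct of copies of the final object of C'. -/
theorem result {C C' : Type u} [Category.{v} C] [Category.{v} C']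
    [GaloisCategory C] [GaloisCategory C'] (H : C ⥤ C') [PreservesFiniteLimits H] [PreservesFiniteColimits H]
    (F' : C' ⥤ FintypeCat.{w}) [FiberFunctor F'] [FiberFunctor (H ⋙ F')] (X : C) [IsConnected X]
    (a : (H ⋙ F').obj X) :
    Subgroup.normalClosure ((Pi1X.autWhisker H F').range : Set (Aut (H ⋙ F'))) ≤ MulAction.stabilizer (Aut (H ⋙ F')) a ↔
      ∃ n : ℕ, Nonempty (H.obj X ≅ ∐ fun _ : Fin n => ⊤_ C') := by
  constructor
  · intro hN
    apply Groth.Agent.H26.Galois.exists_split_of_trivial F' (H.obj X)
    intro σ y0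
    have key : ∀ y : (H ⋙ F').obj X, Pi1X.autWhisker H F' σ • y = y := by
      intro y
      obtain ⟨g, hg⟩ := MulAction.exists_smul_eq (Aut (H ⋙ F')) a y
      have hmem : g⁻¹ * Pi1X.autWhisker H F' σ * g ∈ MulAction.stabilizer (Aut (H ⋙ F')) a := by
        apply hN
        have h0 : Pi1X.autWhisker H F' σ ∈ Subgroup.normalClosure
            ((Pi1X.autWhisker H F').range : Set (Aut (H ⋙ F'))) :=
          Subgroup.subset_normalClosure ⟨σ, rfl⟩
        have h1 := (Subgroup.normalClosure_normal
          (s := ((Pi1X.autWhisker H F').range : Set (Aut (H ⋙ F'))))).conj_mem _ h0 g⁻¹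
        simpa using h1
      rw [MulAction.mem_stabilizer_iff, mul_smul, mul_smul, hg] at hmem
      have h2 : Pi1X.autWhisker H F' σ • y = g • a := by
        rw [← hmem, smul_inv_smul]
      rw [hg] at h2
      exact h2
    exact key y0
  · rintro ⟨n, ⟨e⟩⟩
    have htriv : ∀ (σ : Aut F') (y : F'.obj (H.obj X)), σ • y = y := fun σ y =>
      Groth.Agent.H26.Galois.smul_eq_of_split F' (H.obj X) n e σ y
    let N : Subgroup (Aut (H ⋙ F')) :=
      (MulAction.toPermHom (Aut (H ⋙ F')) ((H ⋙ F').obj X)).ker
    have hr : ((Pi1X.autWhisker H F').range : Set (Aut (H ⋙ F'))) ⊆ N := by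
      rintro _ ⟨σ, rfl⟩
      show _ ∈ (MulAction.toPermHom (Aut (H ⋙ F')) ((H ⋙ F').obj X)).ker
      rw [MonoidHom.mem_ker]
      ext y
      exact htriv σ y
    have hN : Subgroup.normalClosure ((Pi1X.autWhisker H F').range : Set (Aut (H ⋙ F'))) ≤ N :=
      Subgroup.normalClosure_le_normal hr
    intro g hg
    have hgN : MulAction.toPermHom (Aut (H ⋙ F')) ((H ⋙ F').obj X) g = 1 := hN hg
    rw [MulAction.mem_stabilizer_iff]
    have h3 := congrArg (fun p : Equiv.Perm ((H ⋙ F').obj X) => p a) hgN
    exact h3

end Groth.Agent.S5147
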