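import Groth.Statements.S5149
import Mathlib
import Groth.Agent.H26.Galois
import Groth.Agent.S5146
import Groth.Agent.S5148

set_option linter.style.haveILetI false

set_option autoImplicit false
universe u v w
open CategoryTheory PreGaloisCategory
open Pi1

namespace Groth.Agent.S5149

open CategoryTheory.Limits in
/-- For exact functors H : C ⥤ C', H' : C' ⥤ C'' of Galois categories with compatible fibre functors and
induced homomorphisms u' and u of fundamental groups, the kernel of u is contained in the image of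
u' if and only if every pointed connected object (X', a') of C' for which H'(X') has a section from
the final object through a' admits a morphism from a connected subobject of some H(X). (The
published statement writes this inclusion as Ker u ⊇ Im u', which is the condition that u ∘ u' be
trivial; this row states Ker u ⊆ Im u', which is what the published argument establishes.) -/
theorem result {C C' C'' : Type u} [Category.{v} C] [Category.{v} C'] [Category.{v} C'']
    [GaloisCategory C] [GaloisCategory C'] [GaloisCategory C'']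
    (H : C ⥤ C') [PreservesFiniteLimits H] [PreservesFiniteColimits H]
    (H' : C' ⥤ C'') [PreservesFiniteLimits H'] [PreservesFiniteColimits H']
    (F'' : C'' ⥤ FintypeCat.{w}) [FiberFunctor F''] [FiberFunctor (H' ⋙ F'')] [FiberFunctor (H ⋙ (H' ⋙ F''))] :
    (Pi1X.autWhisker H (H' ⋙ F'')).ker ≤ (Pi1X.autWhisker H' F'').range ↔
      ∀ (X' : C') (a' : (H' ⋙ F'').obj X'), IsConnected X' →
        (∃ s : ⊤_ C'' ⟶ H'.obj X', ∀ t : F''.obj (⊤_ C''), F''.map s t = a') →
          ∃ (X : C) (Y' : C') (i : Y' ⟶ H.obj X) (q : Y' ⟶ X'), Mono i ∧ IsConnected Y' := by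
  constructor
  · intro hle X' a' hX' hs
    haveI := hX'
    have h1 : (Pi1X.autWhisker H' F'').range ≤ MulAction.stabilizer (Aut (H' ⋙ F'')) a' :=
      (Groth.Agent.S5146.result H' F'' X' a').mpr hs
    have h2 : (Pi1X.autWhisker H (H' ⋙ F'')).ker ≤ MulAction.stabilizer (Aut (H' ⋙ F'')) a' :=
      hle.trans h1
    exact (Groth.Agent.S5148.result H (H' ⋙ F'') X' a').mp h2
  · intro hall σ hσ
    by_contra hnot
    -- the range is closed
    have hclosed : IsClosed ((Pi1X.autWhisker H' F'').range : Set (Aut (H' ⋙ F''))) := by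
      have h0 := Groth.Agent.H26.Galois.isClosed_range_whisker F'' H'
      have heq : ((Pi1X.autWhisker H' F'').range : Set (Aut (H' ⋙ F''))) =
          (Set.range (fun σ : Aut F'' => Functor.isoWhiskerLeft H' σ) : Set (Aut (H' ⋙ F''))) := by
        ext τ
        constructor
        · rintro ⟨ρ, rfl⟩
          exact ⟨ρ, rfl⟩
        · rintro ⟨ρ, rfl⟩
          exact ⟨ρ, rfl⟩
      rw [heq]
      exact h0
    -- a Galois neighbourhood of σ missing the range
    have hnhds : (fun g : Aut (H' ⋙ F'') => σ * g) ⁻¹'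
        ((Pi1X.autWhisker H' F'').range : Set (Aut (H' ⋙ F'')))ᶜ ∈ nhds (1 : Aut (H' ⋙ F'')) := by
      apply (continuous_mul_left σ).continuousAt
      have h1 : (fun x : Aut (H' ⋙ F'') => σ * x) 1 = σ := mul_one σ
      rw [h1]
      exact hclosed.isOpen_compl.mem_nhds hnot
    obtain ⟨A, -, hA⟩ := (nhds_one_has_basis_stabilizers (H' ⋙ F'')).mem_iff.mp hnhds
    haveI hNnormal : (MulAction.stabilizer (Aut (H' ⋙ F'')) A.pt).Normal :=
      stabilizer_normal_of_isGalois (H' ⋙ F'') A.obj A.pt
    have hNopen : IsOpen (MulAction.stabilizer (Aut (H' ⋙ F'')) A.pt : Set (Aut (H' ⋙ F''))) :=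
      stabilizer_isOpen (Aut (H' ⋙ F'')) A.pt
    set V : Subgroup (Aut (H' ⋙ F'')) :=
      (Pi1X.autWhisker H' F'').range ⊔ MulAction.stabilizer (Aut (H' ⋙ F'')) A.pt with hVdef
    have hVopen : IsOpen (V : Set (Aut (H' ⋙ F''))) :=
      Subgroup.isOpen_mono le_sup_right hNopen
    have hσV : σ ∉ V := by
      intro hmem
      obtain ⟨r, hr, m, hm, hrm⟩ :=
        Groth.Agent.H26.Galois.exists_mul_of_mem_sup_normal _ _ hmem
      have h1 : σ * m⁻¹ ∈ ((Pi1X.autWhisker H' F'').range : Set (Aut (H' ⋙ F'')))ᶜ :=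
        hA (inv_mem hm)
      apply h1
      rw [← hrm, mul_inv_cancel_right]
      exact hr
    obtain ⟨X', a', hconnX', hstab⟩ :=
      Groth.Agent.H26.Galois.exists_object_of_openSubgroup (H' ⋙ F'') V hVopen
    haveI := hconnX'
    have hfix : ∀ ρ : Aut F'', ρ.hom.app (H'.obj X') a' = a' := by
      intro ρ
      have h1 : Pi1X.autWhisker H' F'' ρ ∈ V := le_sup_left (a := (Pi1X.autWhisker H' F'').range) ⟨ρ, rfl⟩
      exact (hstab _).mpr h1
    obtain ⟨s, hs⟩ := Groth.Agent.H26.Galois.exists_section_of_fixed F'' (H'.obj X') a' hfix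
    have h3 := hall X' a' hconnX' ⟨s, hs⟩
    have h4 : (Pi1X.autWhisker H (H' ⋙ F'')).ker ≤ MulAction.stabilizer (Aut (H' ⋙ F'')) a' :=
      (Groth.Agent.S5148.result H (H' ⋙ F'') X' a').mpr h3
    exact hσV ((hstab σ).mp (MulAction.mem_stabilizer_iff.mp (h4 hσ)))

end Groth.Agent.S5149
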