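import Groth.Statements.S5150
import Mathlib.RingTheory.Depth.Rees

set_option autoImplicit false
universe u
open CategoryTheory
open LocCoh

namespace Groth.Agent.S5150

open RingTheory.Sequence LinearMap Ideal Abelian Limits Pointwise IsSMulRegular in
theorem aux (A : Type u) [CommRing A] (I : Ideal A) (N : Type u) [AddCommGroup N] [Module A N]
    (k : ℕ) (hann : ∀ a ∈ I, a ^ k ∈ Module.annihilator A (ModuleCat.of A N)) (n : ℕ) :
    ∀ (rs : List A) (M : Type u) [AddCommGroup M] [Module A M],
      RingTheory.Sequence.IsWeaklyRegular M rs → (∀ r ∈ rs, r ∈ I) → rs.length = n →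
      ∀ i < n, Subsingleton (Abelian.Ext (ModuleCat.of A N) (ModuleCat.of A M) i) := by
  induction n with
  | zero => intro rs M _ _ _ _ _ i hi; omega
  | succ n ih =>
    intro rs M _ _ reg mem len i hi
    match rs with
    | [] => simp at len
    | a :: rs' =>
      have hk := hann a (mem a List.mem_cons_self)
      simp only [isWeaklyRegular_cons_iff] at reg
      simp only [List.mem_cons, forall_eq_or_imp] at mem
      simp only [List.length_cons, Nat.add_left_inj] at len
      match i with
      | 0 =>
        have : Subsingleton ((ModuleCat.of A N) →ₗ[A] (ModuleCat.of A M)) := by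
          refine ⟨fun f g => ?_⟩
          apply LinearMap.ext
          intro x
          have h1 : a ^ k • (f x) = 0 := by
            rw [← map_smul, Module.mem_annihilator.mp hk x, map_zero]
          have h2 : a ^ k • (g x) = 0 := by
            rw [← map_smul, Module.mem_annihilator.mp hk x, map_zero]
          exact (reg.1.pow k) (h1.trans h2.symm)
        exact (Ext.addEquiv₀.trans ModuleCat.homAddEquiv).subsingleton
      | i + 1 =>
        let g := (AddCommGrpCat.ofHom ((Ext.mk₀ (ModuleCat.smulShortComplex (ModuleCat.of A M) a).f).postcomp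
          (ModuleCat.of A N) (add_zero (i + 1))))
        have mono_g : Mono g := by
          apply (Ext.covariant_sequence_exact₁' (ModuleCat.of A N)
            (IsSMulRegular.smulShortComplex_shortExact (M := ModuleCat.of A M) reg.1) i (i + 1)
            rfl).mono_g ((AddCommGrpCat.isZero_of_iff_subsingleton.mpr ?_).eq_zero_of_src _)
          exact ih rs' (QuotSMulTop a M) reg.2 mem.2 len i (by omega)
        let gk := AddCommGrpCat.ofHom ((Ext.mk₀ ((ModuleCat.of A M).smulShortComplex (a ^ k)).f).postcomp
          (ModuleCat.of A N) (add_zero (i + 1)))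
        have mono_gk : Mono gk := by
          simp only [ModuleCat.smulShortComplex_f_eq_smul_id, g, gk] at mono_g ⊢
          exact (Ext.postcomp_smul_id_mono_iff (a ^ k) (i + 1)).mpr <|
            ((Ext.postcomp_smul_id_mono_iff a (i + 1)).mp mono_g).pow k
        have zero_gk : gk = 0 := Ext.postcomp_smul_id_eq_zero_of_mem_annihilator hk (i + 1)
        exact AddCommGrpCat.subsingleton_of_isZero (IsZero.of_mono_eq_zero _ zero_gk)

/-- Let A be a commutative ring, I an ideal, M and N A-modules, and f_1, …, f_r a weakly M-regular
sequence of elements of I. If N is killed by a power of I then Ext^i_A(N, M) vanishes for all i < r.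
(No Noetherian or finiteness hypothesis on A, M or N.) -/
theorem result (A : Type u) [CommRing A] (I : Ideal A) (M N : Type u) [AddCommGroup M] [Module A M] [AddCommGroup N] [Module A N] (rs : List A) (hreg : RingTheory.Sequence.IsWeaklyRegular M rs) (hI : ∀ r ∈ rs, r ∈ I) (k : ℕ) (hN : (I ^ k) • (⊤ : Submodule A N) = ⊥) (i : ℕ) (hi : i < rs.length) : Subsingleton (Abelian.Ext (ModuleCat.of A N) (ModuleCat.of A M) i) := by
  classical
  have hann : ∀ a ∈ I, a ^ k ∈ Module.annihilator A (ModuleCat.of A N) := by
    intro a ha
    rw [Module.mem_annihilator]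
    intro n
    have h1 : a ^ k ∈ I ^ k := Ideal.pow_mem_pow ha k
    have h2 : (a ^ k) • n ∈ (I ^ k) • (⊤ : Submodule A N) :=
      Submodule.smul_mem_smul h1 Submodule.mem_top
    rw [hN] at h2
    exact (Submodule.mem_bot A).mp h2
  exact aux A I N k hann rs.length rs M hreg hI rfl i hi

end Groth.Agent.S5150
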