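import Groth.Statements.S5158
import Mathlib

set_option autoImplicit false
universe u
open scoped TensorProduct
open Matlis

namespace Groth.Agent.S5158

section
variable {A : Type u} [CommRing A] (J : Ideal A) {I : Type u} [AddCommGroup I] [Module A I]

/-- `x` is killed by `J ^ n`. -/
def Kills (n : ℕ) (x : I) : Prop := ∀ b ∈ J ^ n, b • x = 0

theorem Kills.mono {n k : ℕ} {x : I} (h : Kills J k x) (hkn : k ≤ n) : Kills J n x :=
  fun b hb => h b (Ideal.pow_le_pow_right hkn hb)

theorem Kills.of_mem_smul_top {n : ℕ} {x : I} (h : Kills J n x) {b : A}
    (hb : b ∈ (J ^ n • ⊤ : Submodule A A)) : b • x = 0 := by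
  apply h
  rwa [Ideal.smul_eq_mul, Ideal.mul_top] at hb

theorem val_eq_of_le {n n' : ℕ} (hnn : n ≤ n') (a : AdicCompletion J A) (a' : A)
    (h : (Submodule.Quotient.mk a' : A ⧸ (J ^ n' • ⊤ : Submodule A A)) = a.val n') :
    (Submodule.Quotient.mk a' : A ⧸ (J ^ n • ⊤ : Submodule A A)) = a.val n := by
  rw [← AdicCompletion.transitionMap_comp_eval_apply J A hnn a, ← h]
  rfl

/-- A chosen lift of the `n`-th component. -/
noncomputable def lift' (a : AdicCompletion J A) (n : ℕ) : A :=
  Classical.choose (Submodule.Quotient.mk_surjective _ (a.val n))

theorem lift'_spec (a : AdicCompletion J A) (n : ℕ) :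
    (Submodule.Quotient.mk (lift' J a n) : A ⧸ (J ^ n • ⊤ : Submodule A A)) = a.val n :=
  Classical.choose_spec (Submodule.Quotient.mk_surjective _ (a.val n))

variable (hI : ∀ x : I, ∃ n, Kills J n x)

/-- The action of the completion on a power torsion module. -/
noncomputable def act (a : AdicCompletion J A) (x : I) : I :=
  lift' J a (Classical.choose (hI x)) • x

theorem act_eq (a : AdicCompletion J A) (x : I) (n : ℕ) (a' : A) (hk : Kills J n x)
    (ha' : (Submodule.Quotient.mk a' : A ⧸ (J ^ n • ⊤ : Submodule A A)) = a.val n) :
    act J hI a x = a' • x := by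
  have hkN : Kills J (Classical.choose (hI x)) x := Classical.choose_spec (hI x)
  have h3 := lift'_spec J a (max n (Classical.choose (hI x)))
  have h3n := val_eq_of_le J (le_max_left n (Classical.choose (hI x))) a _ h3
  have h3N := val_eq_of_le J (le_max_right n (Classical.choose (hI x))) a _ h3
  have e1 : a' - lift' J a (max n (Classical.choose (hI x))) ∈ (J ^ n • ⊤ : Submodule A A) := by
    rw [← Submodule.Quotient.eq, ha', h3n]
  have e2 : lift' J a (Classical.choose (hI x)) - lift' J a (max n (Classical.choose (hI x))) ∈
      (J ^ (Classical.choose (hI x)) • ⊤ : Submodule A A) := by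
    rw [← Submodule.Quotient.eq, lift'_spec, h3N]
  have f1 := Kills.of_mem_smul_top J hk e1
  have f2 := Kills.of_mem_smul_top J hkN e2
  rw [sub_smul, sub_eq_zero] at f1 f2
  change lift' J a (Classical.choose (hI x)) • x = a' • x
  rw [f1, f2]

/-- The action as a bilinear map. -/
noncomputable def actB : AdicCompletion J A →ₗ[A] I →ₗ[A] I :=
  LinearMap.mk₂ A (act J hI)
    (fun a b x => by
      have hk : Kills J (Classical.choose (hI x)) x := Classical.choose_spec (hI x)
      rw [act_eq J hI (a + b) x _ (lift' J a _ + lift' J b _) hk
        (by rw [Submodule.Quotient.mk_add, lift'_spec, lift'_spec, AdicCompletion.val_add_apply]),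
        add_smul]
      rfl)
    (fun r a x => by
      have hk : Kills J (Classical.choose (hI x)) x := Classical.choose_spec (hI x)
      rw [act_eq J hI (r • a) x _ (r • lift' J a _) hk
        (by rw [Submodule.Quotient.mk_smul, lift'_spec, AdicCompletion.val_smul_apply]),
        smul_assoc]
      rfl)
    (fun a x y => by
      have hkx : Kills J (Classical.choose (hI x)) x := Classical.choose_spec (hI x)
      have hky : Kills J (Classical.choose (hI y)) y := Classical.choose_spec (hI y)
      have hx' := hkx.mono J (le_max_left _ (Classical.choose (hI y)))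
      have hy' := hky.mono J (le_max_right (Classical.choose (hI x)) _)
      have hxy : Kills J (max (Classical.choose (hI x)) (Classical.choose (hI y))) (x + y) := by
        intro b hb
        rw [smul_add, hx' b hb, hy' b hb, add_zero]
      rw [act_eq J hI a (x + y) _ _ hxy (lift'_spec J a _), act_eq J hI a x _ _ hx' (lift'_spec J a _),
        act_eq J hI a y _ _ hy' (lift'_spec J a _), smul_add])
    (fun r a x => by
      have hk : Kills J (Classical.choose (hI x)) x := Classical.choose_spec (hI x)
      have hk' : Kills J (Classical.choose (hI x)) (r • x) := by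
        intro b hb
        rw [smul_comm, hk b hb, smul_zero]
      rw [act_eq J hI a (r • x) _ _ hk' (lift'_spec J a _), smul_comm]
      rfl)

theorem actB_apply (a : AdicCompletion J A) (x : I) : actB J hI a x = act J hI a x := rfl

include hI in
theorem main (hfg : J.FG) :
    Function.Bijective (TensorProduct.mk A (AdicCompletion J A) I 1) := by
  constructor
  · -- a retraction
    have hret : Function.LeftInverse (TensorProduct.lift (actB J hI))
        (TensorProduct.mk A (AdicCompletion J A) I 1) := by
      intro x
      rw [TensorProduct.mk_apply, TensorProduct.lift.tmul, actB_apply]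
      have hk : Kills J (Classical.choose (hI x)) x := Classical.choose_spec (hI x)
      rw [act_eq J hI 1 x _ 1 hk (by rw [AdicCompletion.val_one]; rfl), one_smul]
    exact hret.injective
  · intro z
    induction z using TensorProduct.induction_on with
    | zero => exact ⟨0, map_zero _⟩
    | add z w hz hw =>
      obtain ⟨x, rfl⟩ := hz
      obtain ⟨y, rfl⟩ := hw
      exact ⟨x + y, map_add _ _ _⟩
    | tmul a x =>
      have hk : Kills J (Classical.choose (hI x)) x := Classical.choose_spec (hI x)
      set n := Classical.choose (hI x) with hn
      refine ⟨lift' J a n • x, ?_⟩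
      rw [TensorProduct.mk_apply, TensorProduct.tmul_smul, TensorProduct.smul_tmul']
      -- `(a' • 1) ⊗ x = a ⊗ x`
      have hb : a - lift' J a n • (1 : AdicCompletion J A) ∈
          (J ^ n • ⊤ : Submodule A (AdicCompletion J A)) := by
        rw [AdicCompletion.pow_smul_top_eq_ker_eval hfg, LinearMap.mem_ker, map_sub, map_smul,
          AdicCompletion.eval_apply, AdicCompletion.eval_apply, AdicCompletion.val_one,
          ← lift'_spec J a n, sub_eq_zero]
        change _ = lift' J a n • (Submodule.Quotient.mk 1 : A ⧸ (J ^ n • ⊤ : Submodule A A))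
        rw [← Submodule.Quotient.mk_smul]
        congr 1
        exact (mul_one _).symm
      have hzero : ∀ b ∈ (J ^ n • ⊤ : Submodule A (AdicCompletion J A)),
          b ⊗ₜ[A] x = (0 : AdicCompletion J A ⊗[A] I) := by
        intro b hb
        refine Submodule.smul_induction_on hb ?_ ?_
        · intro r hr c _
          rw [TensorProduct.smul_tmul, hk r hr, TensorProduct.tmul_zero]
        · intro c d hc hd
          rw [TensorProduct.add_tmul, hc, hd, add_zero]
      have := hzero _ hb
      rw [TensorProduct.sub_tmul, sub_eq_zero] at this
      exact this.symm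
end

/-- Let A be a Noetherian local ring, Â its m-adic completion and I an m-power torsion A-module (a union
of submodules of finite length). Then x ↦ 1 ⊗ x is a bijection I → Â ⊗_A I. -/
theorem result (A : Type u) [CommRing A] [IsLocalRing A] [IsNoetherianRing A] (I : Type u) [AddCommGroup I] [Module A I] (hI : LocCoh.IsPowerTorsion (IsLocalRing.maximalIdeal A) I) : Function.Bijective (TensorProduct.mk A (AdicCompletion (IsLocalRing.maximalIdeal A) A) I 1) := by
  exact main (IsLocalRing.maximalIdeal A) hI (IsNoetherian.noetherian _)

end Groth.Agent.S5158
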