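import Groth.Statements.S5163
import Mathlib

set_option autoImplicit false
set_option linter.style.haveILetI false
universe u
open LocCoh

namespace Groth.Agent.S5163

/-- For modules over a Noetherian ring. Let P be a finite A-module and H any A-module with Supp H ⊆ Supp
P. If Hom_A(P, H) = 0 then H = 0. (The published lemma is stated over an arbitrary prescheme; its
proof uses that a nonzero module has an associated prime, so the ring is taken Noetherian here.) -/
theorem result (A : Type u) [CommRing A] [IsNoetherianRing A] (P H : Type u) [AddCommGroup P] [Module A P] [Module.Finite A P] [AddCommGroup H] [Module A H] (hsupp : Module.support A H ⊆ Module.support A P) (hhom : Subsingleton (P →ₗ[A] H)) : Subsingleton H := by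
  by_contra hH
  rw [not_subsingleton_iff_nontrivial] at hH
  obtain ⟨p, hp⟩ := associatedPrimes.nonempty A H
  haveI hpp : p.IsPrime := hp.isPrime
  haveI : Module.FinitePresentation A P := Module.finitePresentation_of_finite A P
  -- all `A_p`-linear maps `P_p → H_p` vanish
  have hzero : ∀ g : LocalizedModule p.primeCompl P →ₗ[Localization.AtPrime p]
      LocalizedModule p.primeCompl H, g = 0 := by
    intro g
    obtain ⟨⟨f, s⟩, hfs⟩ := IsLocalizedModule.surj p.primeCompl
      (LocalizedModule.map p.primeCompl (M := P) (N := H)) g
    have hf : f = 0 := Subsingleton.elim _ _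
    rw [hf, map_zero] at hfs
    refine LinearMap.ext fun x => ?_
    have h1 : (s • g) x = 0 := by
      rw [hfs]
      rfl
    have h2 : s • g x = s • (0 : LocalizedModule p.primeCompl H) := by
      rw [smul_zero]
      exact h1
    exact IsLocalizedModule.smul_injective (LocalizedModule.mkLinearMap p.primeCompl H) s h2
  -- `p` lies in the support of `H`, hence of `P`
  obtain ⟨-, y, hy⟩ := isAssociatedPrime_iff.mp hp
  have hpH : (⟨p, hpp⟩ : PrimeSpectrum A) ∈ Module.support A H := by
    rw [Module.mem_support_iff']
    refine ⟨y, fun r hr h0 => hr ?_⟩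
    change r ∈ p
    rw [hy, Submodule.mem_colon_singleton, Submodule.mem_bot]
    exact h0
  have hpP := hsupp hpH
  haveI hN : Nontrivial (LocalizedModule p.primeCompl P) := Module.mem_support_iff.mp hpP
  -- an element of `H_p` with annihilator the maximal ideal
  have hm := Module.associatedPrimes.mem_associatedPrimes_atPrime_of_mem_associatedPrimes hp
  obtain ⟨-, z, hz⟩ := isAssociatedPrime_iff.mp hm
  have hz0 : z ≠ 0 := by
    intro h0
    apply (IsLocalRing.maximalIdeal.isMaximal (Localization.AtPrime p)).ne_top
    rw [hz, h0, Ideal.eq_top_iff_one, Submodule.mem_colon_singleton, smul_zero]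
    exact Submodule.zero_mem _
  -- a simple quotient of `P_p`
  rcases eq_top_or_exists_le_coatom
    (⊥ : Submodule (Localization.AtPrime p) (LocalizedModule p.primeCompl P)) with h | ⟨N', hN', -⟩
  · exact bot_ne_top h
  have hsimple : IsSimpleModule (Localization.AtPrime p)
      (LocalizedModule p.primeCompl P ⧸ N') := isSimpleModule_iff_isCoatom.mpr hN'
  obtain ⟨I, hI, ⟨e⟩⟩ := isSimpleModule_iff_quot_maximal.mp hsimple
  have hIm : I = IsLocalRing.maximalIdeal (Localization.AtPrime p) := IsLocalRing.eq_maximalIdeal hI
  subst hIm
  have hle : IsLocalRing.maximalIdeal (Localization.AtPrime p) ≤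
      LinearMap.ker (LinearMap.toSpanSingleton (Localization.AtPrime p)
        (LocalizedModule p.primeCompl H) z) := by
    intro r hr
    rw [hz, Submodule.mem_colon_singleton, Submodule.mem_bot] at hr
    rw [LinearMap.mem_ker, LinearMap.toSpanSingleton_apply]
    exact hr
  let θ := Submodule.liftQ (IsLocalRing.maximalIdeal (Localization.AtPrime p))
    (LinearMap.toSpanSingleton (Localization.AtPrime p) (LocalizedModule p.primeCompl H) z) hle
  have hg := hzero (θ ∘ₗ e.toLinearMap ∘ₗ N'.mkQ)
  obtain ⟨q, hq⟩ := e.surjective (Submodule.Quotient.mk 1)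
  obtain ⟨x, rfl⟩ := N'.mkQ_surjective q
  have h3 := LinearMap.congr_fun hg x
  simp only [LinearMap.comp_apply, LinearEquiv.coe_coe, LinearMap.zero_apply] at h3
  rw [hq] at h3
  change LinearMap.toSpanSingleton (Localization.AtPrime p) (LocalizedModule p.primeCompl H) z 1 = 0
    at h3
  rw [LinearMap.toSpanSingleton_apply, one_smul] at h3
  exact hz0 h3

end Groth.Agent.S5163
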