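import Groth.Statements.S5164
import Groth.Agent.H13.LCFalt4

set_option autoImplicit false
universe u
open LocCoh

namespace Groth.Agent.S5164

/-- Affine form. Let A be a Noetherian ring which is a quotient of a regular ring, I an ideal, M a
finite A-module and i ≥ 0; c(p) denotes the codimension of V(p) ∩ V(I) in V(p). Then the hypothesis
of the finiteness criterion — H^{i−c(p)}_{pA_p}(M_p) = 0 for all primes p ⊉ I — is equivalent to its
codimension-one case: H^{i−1}_{pA_p}(M_p) = 0 for all primes p ⊉ I with c(p) = 1. -/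
theorem result (R : Type u) [CommRing R] [IsRegularRing R] (A : Type u) [CommRing A] [IsNoetherianRing A] (π : R →+* A) (hπ : Function.Surjective π) (I : Ideal A) (M : Type u) [AddCommGroup M] [Module A M] [Module.Finite A M] (i : ℕ) : (∀ p : PrimeSpectrum A, ¬ I ≤ p.asIdeal → ∀ (c j : ℕ), SGA2.relCodim I p = c → j + c = i → Subsingleton (LocCoh.H (IsLocalRing.maximalIdeal (Localization.AtPrime p.asIdeal)) j (LocalizedModule p.asIdeal.primeCompl M))) ↔ (∀ p : PrimeSpectrum A, ¬ I ≤ p.asIdeal → SGA2.relCodim I p = 1 → ∀ j : ℕ, j + 1 = i → Subsingleton (LocCoh.H (IsLocalRing.maximalIdeal (Localization.AtPrime p.asIdeal)) j (LocalizedModule p.asIdeal.primeCompl M))) := by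
  let _ : Algebra R A := π.toAlgebra
  let _ : Module R M := Module.compHom M π
  have : IsScalarTower R A M := ⟨fun s r m => by
    change (π s * r) • m = π s • (r • m)
    rw [mul_smul]⟩
  have hg : Function.Surjective (algebraMap R A) := hπ
  constructor
  · intro h p hp hc j hj
    exact h p hp 1 j (by rw [hc]; rfl) hj
  · intro h1 p hp c j hc hj
    obtain ⟨p', hpp', hIp', hc1, hht⟩ :=
      Groth.Agent.H13.RelCodim.exists_codim_one I p hp c hc
    have hh : Order.height (⟨p', hpp'⟩ : Set.Ici p) ≠ ⊤ := by
      intro htop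
      rw [htop, top_add] at hht
      exact ENat.top_ne_natCast _ hht
    obtain ⟨d, hd⟩ := ENat.ne_top_iff_exists.mp hh
    rw [← hd] at hht
    have hcd : d + 1 = c := by exact_mod_cast hht
    have h2 := h1 p' hIp' hc1 (j + d) (by omega)
    exact Groth.Agent.H13.LC.propagate R A hg M p p' hpp' (j + d) j d hd.symm rfl h2

end Groth.Agent.S5164
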