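import Groth.Statements.S5166
import Mathlib
import Groth.Agent.S11652

set_option autoImplicit false
universe u
open LocCoh

namespace Groth.Agent.S5166

/-- In its local form at a point y ∈ Y (A = O_{X,y}). Let A be a Noetherian local ring and I ≠ A an
ideal contained in no minimal prime of A. Then some prime p ⊉ I has dim A/p = 1. -/
theorem result (A : Type u) [CommRing A] [IsLocalRing A] [IsNoetherianRing A] (I : Ideal A) (hI : I ≠ ⊤) (hdense : ∀ q ∈ minimalPrimes A, ¬ I ≤ q) : ∃ p : PrimeSpectrum A, ¬ I ≤ p.asIdeal ∧ ringKrullDim (A ⧸ p.asIdeal) = 1 := by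
  classical
  let m := IsLocalRing.maximalIdeal A
  have hIm : I ≤ m := IsLocalRing.le_maximalIdeal hI
  obtain ⟨q0, hq0⟩ := Ideal.nonempty_minimalPrimes (R := A) (I := ⊥) top_ne_bot.symm
  have hq0p : q0.IsPrime := hq0.1.1
  obtain ⟨p, ⟨hpp, hIp⟩, hmax⟩ := set_has_maximal_iff_noetherian.mpr
    (inferInstance : IsNoetherian A A) {p : Ideal A | p.IsPrime ∧ ¬ I ≤ p}
    ⟨q0, hq0p, hdense q0 hq0⟩
  have hpm : p < m := by
    refine lt_of_le_of_ne (IsLocalRing.le_maximalIdeal hpp.ne_top) ?_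
    intro h
    exact hIp (h ▸ hIm)
  obtain ⟨a, haI, hap⟩ := Set.not_subset.mp hIp
  have hmp : (m.map (Ideal.Quotient.mk p)).IsPrime :=
    Ideal.map_isPrime_of_surjective Ideal.Quotient.mk_surjective (by simpa using hpm.le)
  have hle : (m.map (Ideal.Quotient.mk p)).height ≤ 1 := by
    by_contra hcon
    push Not at hcon
    obtain ⟨t, htp, hpt, htm, hat⟩ := Groth.Agent.S11652.result A p m hpm hcon a (hIm haI) hap
    exact hmax t ⟨htp, fun h => hat (h haI)⟩ hpt
  have hne : (m.map (Ideal.Quotient.mk p)).height ≠ 0 := by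
    rw [Ne, Ideal.height_eq_zero_iff_eq_bot]
    intro h
    obtain ⟨z, hzm, hzp⟩ := Set.exists_of_ssubset hpm
    have : Ideal.Quotient.mk p z ∈ m.map (Ideal.Quotient.mk p) := Ideal.mem_map_of_mem _ hzm
    rw [h, Submodule.mem_bot, Ideal.Quotient.eq_zero_iff_mem] at this
    exact hzp this
  have h1 : (m.map (Ideal.Quotient.mk p)).height = 1 :=
    le_antisymm hle (Order.one_le_iff_pos.mpr (pos_iff_ne_zero.mpr hne))
  have hloc : IsLocalRing (A ⧸ p) :=
    IsLocalRing.of_surjective' (Ideal.Quotient.mk p) Ideal.Quotient.mk_surjective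
  have hmax' : (m.map (Ideal.Quotient.mk p)).IsMaximal :=
    (Ideal.map_eq_top_or_isMaximal_of_surjective (Ideal.Quotient.mk p)
      Ideal.Quotient.mk_surjective (IsLocalRing.maximalIdeal.isMaximal A)).resolve_left
      hmp.ne_top
  refine ⟨⟨p, hpp⟩, hIp, ?_⟩
  rw [← IsLocalRing.maximalIdeal_height_eq_ringKrullDim,
    ← IsLocalRing.eq_maximalIdeal hmax', h1]
  rfl

end Groth.Agent.S5166
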