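import Groth.Statements.S5168
import Mathlib

set_option autoImplicit false
universe u
open InjHull

namespace Groth.Agent.S5168

/-- Let A be a Noetherian ring, J an ideal and H a J-power torsion A-module. Then H is injective if and
only if Hom_A(−, H) is exact on finite A-modules killed by a power of J, i.e. every linear map to H
from a submodule of such a module M extends to M. -/
theorem result (A : Type u) [CommRing A] [IsNoetherianRing A] (J : Ideal A) (H : Type u) [AddCommGroup H] [Module A H] (hH : LocCoh.IsPowerTorsion J H) : Module.Injective A H ↔ ∀ (M : Type u) [AddCommGroup M] [Module A M], Module.Finite A M → (∃ k : ℕ, (J ^ k) • (⊤ : Submodule A M) = ⊥) → ∀ (N : Submodule A M) (g : N →ₗ[A] H), ∃ g' : M →ₗ[A] H, g'.comp N.subtype = g := by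
  classical
  constructor
  · intro hinj M _ _ _ _ N g
    obtain ⟨h, hh⟩ := hinj.out N.subtype (Submodule.subtype_injective _) g
    exact ⟨h, LinearMap.ext hh⟩
  · intro hext
    apply Module.Baer.injective
    intro 𝔞 g
    -- a uniform power of `J` killing the image of `g`
    have hk : ∃ k : ℕ, ∀ b ∈ J ^ k, ∀ x : 𝔞, b • g x = 0 := by
      obtain ⟨G, hG0⟩ : (𝔞 : Submodule A A).FG := IsNoetherian.noetherian _
      have hG : Submodule.span A (G : Set A) = 𝔞 := hG0
      have h1 : ∀ a : A, ∀ ha : a ∈ 𝔞, ∃ k : ℕ, ∀ b ∈ J ^ k, b • g ⟨a, ha⟩ = 0 :=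
        fun a ha => hH (g ⟨a, ha⟩)
      have hGmem : ∀ a ∈ G, a ∈ 𝔞 := fun a ha => hG ▸ Submodule.subset_span ha
      let kk : A → ℕ := fun a => if ha : a ∈ 𝔞 then Classical.choose (h1 a ha) else 0
      refine ⟨G.sup kk, fun b hb x => ?_⟩
      obtain ⟨x, hx⟩ := x
      have hx' : x ∈ Submodule.span A (G : Set A) := hG ▸ hx
      have key : ∀ y ∈ Submodule.span A (G : Set A), ∀ hy : y ∈ 𝔞, b • g ⟨y, hy⟩ = 0 := by
        intro y hy
        refine Submodule.span_induction (p := fun y _ => ∀ hy : y ∈ 𝔞, b • g ⟨y, hy⟩ = 0)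
          ?_ ?_ ?_ ?_ hy
        · intro a ha hy
          have hle : kk a ≤ G.sup kk := Finset.le_sup ha
          have hb' : b ∈ J ^ kk a := Ideal.pow_le_pow_right hle hb
          have hkk : kk a = Classical.choose (h1 a hy) := dif_pos hy
          rw [hkk] at hb'
          exact Classical.choose_spec (h1 a hy) b hb'
        · intro hy
          have : (⟨0, hy⟩ : 𝔞) = 0 := rfl
          rw [this, map_zero, smul_zero]
        · intro y z hy hz py pz hyz
          have hy' : y ∈ 𝔞 := hG ▸ hy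
          have hz' : z ∈ 𝔞 := hG ▸ hz
          have : (⟨y + z, hyz⟩ : 𝔞) = ⟨y, hy'⟩ + ⟨z, hz'⟩ := rfl
          rw [this, map_add, smul_add, py hy', pz hz', add_zero]
        · intro r y hy py hry
          have hy' : y ∈ 𝔞 := hG ▸ hy
          have : (⟨r • y, hry⟩ : 𝔞) = r • ⟨y, hy'⟩ := rfl
          rw [this, map_smul, smul_comm, py hy', smul_zero]
      exact key x hx' hx
    obtain ⟨k, hk⟩ := hk
    -- Artin–Rees
    obtain ⟨c, hc⟩ := Ideal.exists_pow_inf_eq_pow_smul J (𝔞 : Submodule A A)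
    set n := c + k with hn
    have hAR : ∀ y : A, y ∈ J ^ n → ∀ hy : y ∈ 𝔞, g ⟨y, hy⟩ = 0 := by
      intro y hyJ hy
      have h1 : y ∈ (J ^ n • ⊤ ⊓ 𝔞 : Submodule A A) := by
        refine ⟨?_, hy⟩
        rwa [Ideal.smul_eq_mul, Ideal.mul_top]
      rw [hc n (Nat.le_add_right c k)] at h1
      have h2 : y ∈ (J ^ k • (𝔞 : Submodule A A) : Submodule A A) := by
        have : n - c = k := by omega
        rw [this] at h1
        exact Submodule.smul_mono le_rfl inf_le_right h1
      have key : y ∈ 𝔞 ∧ ∀ hy : y ∈ 𝔞, g ⟨y, hy⟩ = 0 := by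
        refine Submodule.smul_induction_on h2 ?_ ?_
        · intro b hb x hx
          refine ⟨𝔞.smul_mem b hx, fun hbx => ?_⟩
          have : (⟨b • x, hbx⟩ : 𝔞) = b • ⟨x, hx⟩ := rfl
          rw [this, map_smul]
          exact hk b hb _
        · rintro y z ⟨hy, py⟩ ⟨hz, pz⟩
          refine ⟨𝔞.add_mem hy hz, fun hyz => ?_⟩
          have : (⟨y + z, hyz⟩ : 𝔞) = ⟨y, hy⟩ + ⟨z, hz⟩ := rfl
          rw [this, map_add, py hy, pz hz, add_zero]
      exact key.2 hy
    -- the quotient module `A ⧸ J ^ n`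
    let Q : Submodule A A := J ^ n
    let π : 𝔞 →ₗ[A] (A ⧸ Q) := Q.mkQ ∘ₗ (𝔞 : Submodule A A).subtype
    have hker : LinearMap.ker π ≤ LinearMap.ker g := by
      intro x hx
      rw [LinearMap.mem_ker] at hx ⊢
      have hx' : (x : A) ∈ Q := by
        have : Q.mkQ (x : A) = 0 := hx
        rwa [Submodule.mkQ_apply, Submodule.Quotient.mk_eq_zero] at this
      obtain ⟨x, hxa⟩ := x
      exact hAR x hx' hxa
    let gbar : LinearMap.range π →ₗ[A] H :=
      ((LinearMap.ker π).liftQ g hker) ∘ₗ π.quotKerEquivRange.symm.toLinearMap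
    have hfin : Module.Finite A (A ⧸ Q) := inferInstance
    have hkill : ∃ k : ℕ, (J ^ k) • (⊤ : Submodule A (A ⧸ Q)) = ⊥ := by
      refine ⟨n, ?_⟩
      rw [eq_bot_iff, Submodule.smul_le]
      intro b hb y _
      obtain ⟨r, rfl⟩ := Submodule.Quotient.mk_surjective _ y
      rw [Submodule.mem_bot, ← Submodule.Quotient.mk_smul, Submodule.Quotient.mk_eq_zero]
      exact Ideal.mul_mem_right _ _ hb
    obtain ⟨g', hg'⟩ := hext (A ⧸ Q) hfin hkill (LinearMap.range π) gbar
    refine ⟨g' ∘ₗ Q.mkQ, fun x hx => ?_⟩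
    have hmem : π ⟨x, hx⟩ ∈ LinearMap.range π := ⟨⟨x, hx⟩, rfl⟩
    have e1 : (g' ∘ₗ Q.mkQ) x = gbar ⟨π ⟨x, hx⟩, hmem⟩ := by
      rw [← hg']
      rfl
    rw [e1]
    change ((LinearMap.ker π).liftQ g hker) (π.quotKerEquivRange.symm ⟨π ⟨x, hx⟩, hmem⟩) = _
    rw [LinearMap.quotKerEquivRange_symm_apply_image]
    rfl

end Groth.Agent.S5168
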