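import Groth.Statements.S5171
import Groth.Agent.H13.LCDepth
import Groth.Agent.H29.DepthLocal

set_option autoImplicit false
universe u
open LocCoh

namespace Groth.Agent.S5171

/-- Let A be a Noetherian ring, J an ideal, n ≥ 0 and G a finite Cohen–Macaulay A-module (each
localization G_p is zero or Cohen–Macaulay). Then H^i_J(G) = 0 for i < n if and only if codim(V(J) ∩
Supp G, Supp G) ≥ n, i.e. dim Supp(G_p) ≥ n for every p ∈ V(J) ∩ Supp G. -/
theorem result (A : Type u) [CommRing A] [IsNoetherianRing A] (J : Ideal A) (G : Type u) [AddCommGroup G] [Module A G] [Module.Finite A G] (hCM : ∀ p : PrimeSpectrum A, Subsingleton (LocalizedModule p.asIdeal.primeCompl G) ∨ LocCoh.IsCohenMacaulayModule (Localization.AtPrime p.asIdeal) (LocalizedModule p.asIdeal.primeCompl G)) (n : ℕ) : (∀ i : ℕ, i < n → Subsingleton (LocCoh.H J i G)) ↔ ∀ p : PrimeSpectrum A, J ≤ p.asIdeal → p ∈ Module.support A G → (n : WithBot ℕ∞) ≤ Module.supportDim (Localization.AtPrime p.asIdeal) (LocalizedModule p.asIdeal.primeCompl G) := by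
  by_cases hIM : J • (⊤ : Submodule A G) = ⊤
  · have hP : ∀ i : ℕ, i < n → Subsingleton (LocCoh.H J i G) := by
      obtain ⟨r, hr1, hr2⟩ := Submodule.exists_sub_one_mem_and_smul_eq_zero_of_fg_of_le_smul J
        (⊤ : Submodule A G) Module.Finite.fg_top (by rw [hIM])
      have haJ : 1 - r ∈ J := by
        have := J.neg_mem hr1
        rwa [neg_sub] at this
      have hag : ∀ g : G, (1 - r) • g = g := by
        intro g
        rw [sub_smul, one_smul, hr2 g Submodule.mem_top, sub_zero]
      have hreg1 : IsSMulRegular G (1 - r) := by
        intro x y hxy
        simp only [hag] at hxy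
        exact hxy
      have hsub : Subsingleton (QuotSMulTop (1 - r) G) := by
        refine ⟨fun x y => ?_⟩
        induction x using Submodule.Quotient.induction_on with | H x => ?_
        induction y using Submodule.Quotient.induction_on with | H y => ?_
        rw [Submodule.Quotient.eq]
        have : x - y = (1 - r) • (x - y) := (hag _).symm
        rw [this]
        exact Submodule.smul_mem_pointwise_smul _ _ _ Submodule.mem_top
      have hreg : ∀ k : ℕ, RingTheory.Sequence.IsWeaklyRegular G (List.replicate k (1 - r)) := by
        intro k
        rcases k with _ | k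
        · exact RingTheory.Sequence.IsWeaklyRegular.nil A G
        · rw [List.replicate_succ, RingTheory.Sequence.isWeaklyRegular_cons_iff]
          refine ⟨hreg1, ⟨fun i hi => ?_⟩⟩
          exact fun x y _ => Subsingleton.elim _ _
      intro i hi
      have := Groth.Agent.H13.LC.subsingleton_of_isWeaklyRegular J (List.replicate n (1 - r)) G
        (hreg n) (fun x hx => (List.eq_of_mem_replicate hx) ▸ haJ) i (by simpa using hi)
      exact this
    have hQ : ∀ p : PrimeSpectrum A, J ≤ p.asIdeal → p ∈ Module.support A G → False := by
      intro p hJp hp
      have h1 : p ∈ Module.support A (G ⧸ J • (⊤ : Submodule A G)) := by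
        rw [Module.support_quotient]
        exact ⟨hp, (PrimeSpectrum.mem_zeroLocus _ _).mpr hJp⟩
      have : Subsingleton (G ⧸ J • (⊤ : Submodule A G)) := by
        rw [Submodule.Quotient.subsingleton_iff]
        exact hIM
      rw [Module.support_eq_empty] at h1
      exact h1
    exact ⟨fun _ p hJp hp => (hQ p hJp hp).elim, fun _ => hP⟩
  · have key := Groth.Agent.H13.LC.le_idealDepth_iff_subsingleton J G hIM n
    rw [Groth.Agent.H29.idealDepth_eq_iInf_depth_localizedModule] at key
    simp only [le_iInf_iff] at key
    refine key.symm.trans ?_
    constructor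
    · intro h p hJp hp
      rcases hCM p with hs | hcm
      · exfalso
        rw [Module.mem_support_iff] at hp
        exact not_subsingleton _ hs
      · rw [hcm]
        exact_mod_cast h p hJp
    · intro h p hJp
      by_cases hp : p ∈ Module.support A G
      · rcases hCM p with hs | hcm
        · exfalso
          rw [Module.mem_support_iff] at hp
          exact not_subsingleton _ hs
        · have := h p hJp hp
          rw [hcm] at this
          exact_mod_cast this
      · have : Subsingleton (LocalizedModule p.asIdeal.primeCompl G) := by
          rw [Module.mem_support_iff, not_nontrivial_iff_subsingleton] at hp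
          exact hp
        rw [Groth.Agent.H29.depth_eq_top_of_subsingleton]
        exact le_top

end Groth.Agent.S5171
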