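import Groth.Statements.S5175
import Mathlib
import Groth.Agent.Lib.Helper8.Coext
import Groth.Agent.S5155
import Groth.Agent.S0301

set_option autoImplicit false
universe u
open Matlis

namespace Groth.Agent.S5175

/-- Let k₀ be a field and A a Noetherian local k₀-algebra with [k : k₀] finite, k the residue field.
Then the topological dual A' = colim_n Hom_{k₀}(A/m^n, k₀), i.e. the submodule of Hom_{k₀}(A, k₀) of
forms killing some power of m (A acting through the source), is an injective hull of k (it is the
dualizing module of A). -/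
theorem result (k₀ : Type u) [Field k₀] (A : Type u) [CommRing A] [IsLocalRing A] [IsNoetherianRing A] [Algebra k₀ A] [Module.Finite k₀ (A ⧸ IsLocalRing.maximalIdeal A)] : ∃ f : IsLocalRing.ResidueField A →ₗ[A] ↥(⨆ n : ℕ, Submodule.torsionBySet A ((ModuleCat.coextendScalars (algebraMap k₀ A)).obj (ModuleCat.of k₀ k₀)) ((IsLocalRing.maximalIdeal A ^ n : Ideal A) : Set A)), InjHull.IsInjectiveHull f := by
  classical
  have hinj0 : Module.Injective k₀ k₀ := Module.injective_of_isSemisimpleRing k₀ k₀
  have hinjC : Module.Injective A (Groth.Agent.Helper8.Coext.Cx k₀ A k₀) :=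
    Groth.Agent.Helper8.Coext.injective_coext hinj0
  have hinjD := Groth.Agent.S0301.result A (Groth.Agent.Helper8.Coext.Cx k₀ A k₀) hinjC
    (IsLocalRing.maximalIdeal A)
  refine (Groth.Agent.S5155.result A _).2 ⟨hinjD, ?_, ?_⟩
  · rintro ⟨x, hx⟩
    have hdir : Directed (· ≤ ·) (fun n : ℕ => Submodule.torsionBySet A
        (Groth.Agent.Helper8.Coext.Cx k₀ A k₀)
        ((IsLocalRing.maximalIdeal A ^ n : Ideal A) : Set A)) := by
      apply Monotone.directed_le
      intro m n hmn
      exact Submodule.torsionBySet_le_torsionBySet_of_subset (Ideal.pow_le_pow_right hmn)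
    obtain ⟨n, hn⟩ := (Submodule.mem_iSup_of_directed _ hdir).1 hx
    refine ⟨n, fun a ha => ?_⟩
    apply Subtype.ext
    rw [Submodule.coe_smul, Submodule.coe_zero]
    exact (Submodule.mem_torsionBySet_iff _ _).1 hn ⟨a, ha⟩
  · haveI : Module.Finite k₀ (IsLocalRing.ResidueField A) :=
      ‹Module.Finite k₀ (A ⧸ IsLocalRing.maximalIdeal A)›
    have hlen : Module.length k₀ (IsLocalRing.ResidueField A →ₗ[k₀] k₀) =
        Module.length k₀ (IsLocalRing.ResidueField A) := by
      rw [Module.length_eq_finrank, Module.length_eq_finrank]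
      congr 1
      exact Subspace.dual_finrank_eq
    have hfin : Module.length k₀ (IsLocalRing.ResidueField A) ≠ ⊤ := by
      rw [Module.length_eq_finrank]; exact ENat.coe_ne_top _
    exact Groth.Agent.Helper8.Coext.simple_hom hlen hfin (Submodule.subtype _)
      (Submodule.subtype_injective _) (fun g hg => by
        rw [Submodule.range_subtype]
        refine Submodule.mem_iSup_of_mem 1 ?_
        rw [pow_one, Submodule.mem_torsionBySet_iff]
        rintro ⟨b, hb⟩
        exact hg b hb)

end Groth.Agent.S5175
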