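import Groth.Statements.S5204
-- import your own Groth.Agent.* helpers here

set_option autoImplicit false
open CategoryTheory CategoryTheory.Limits
universe w v₁ u₁
open DescCat

namespace Groth.Agent.S5204

/-- In a category with pullbacks: if `u` and `v` are effective epimorphisms and `v` is a universal
epimorphism (all its base changes are epimorphisms), then the composite `v ≫ u` is an effective
epimorphism. -/
theorem result {C : Type u₁} [Category.{v₁} C] [HasPullbacks C]
    {U T S : C} (v : U ⟶ T) (u : T ⟶ S) [EffectiveEpi u] [EffectiveEpi v]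
    (hv : MorphismProperty.universally (MorphismProperty.epimorphisms C) v) :
    EffectiveEpi (v ≫ u) := by
  refine ⟨⟨?_⟩⟩
  refine
    { desc := fun {W} φ hφ => EffectiveEpi.desc u (EffectiveEpi.desc v φ (fun g₁ g₂ h => hφ g₁ g₂ (by
          rw [← Category.assoc, h, Category.assoc]))) ?_
      fac := ?_
      uniq := ?_ }
  · intro Z h₁ h₂ h
    have e1 : Epi (pullback.fst h₁ v) := hv _ _ _ (IsPullback.of_hasPullback h₁ v)
    have e2 : Epi (pullback.fst (pullback.fst h₁ v ≫ h₂) v) :=
      hv _ _ _ (IsPullback.of_hasPullback (pullback.fst h₁ v ≫ h₂) v)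
    rw [← cancel_epi (pullback.fst h₁ v), ← cancel_epi (pullback.fst (pullback.fst h₁ v ≫ h₂) v)]
    have c1 : pullback.fst h₁ v ≫ h₁ = pullback.snd h₁ v ≫ v := pullback.condition
    have c2 : pullback.fst (pullback.fst h₁ v ≫ h₂) v ≫ (pullback.fst h₁ v ≫ h₂) =
        pullback.snd (pullback.fst h₁ v ≫ h₂) v ≫ v := pullback.condition
    have key := hφ (pullback.fst (pullback.fst h₁ v ≫ h₂) v ≫ pullback.snd h₁ v)
      (pullback.snd (pullback.fst h₁ v ≫ h₂) v) (by
        simp only [Category.assoc]
        rw [← Category.assoc (pullback.snd h₁ v), ← c1, ← Category.assoc (pullback.snd _ v) v u,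
          ← c2]
        simp only [Category.assoc]
        rw [h])
    have f1 : v ≫ EffectiveEpi.desc v φ (fun g₁ g₂ h => hφ g₁ g₂ (by
          rw [← Category.assoc, h, Category.assoc])) = φ := EffectiveEpi.fac v φ _
    rw [← Category.assoc (pullback.fst h₁ v) h₁, c1]
    rw [← Category.assoc _ h₂, ← Category.assoc _ (pullback.fst h₁ v ≫ h₂), c2]
    simp only [Category.assoc]
    rw [f1]
    simpa using key
  · intro W φ hφ
    rw [Category.assoc, EffectiveEpi.fac, EffectiveEpi.fac]
  · intro W φ hφ m hm
    apply EffectiveEpi.uniq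
    apply EffectiveEpi.uniq
    rw [← Category.assoc, hm]

end Groth.Agent.S5204
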