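import Groth.Statements.S5205
import Groth.Agent.S5204

set_option autoImplicit false
open CategoryTheory CategoryTheory.Limits
universe w v₁ u₁
open DescCat

namespace Groth.Agent.S5205

/-- First assertion: in a category with pullbacks: universal effective epimorphisms (morphisms all of
whose base changes are effective epimorphisms) are stable under composition. -/
theorem result {C : Type u₁} [Category.{v₁} C] [HasPullbacks C]
    {U T S : C} (v : U ⟶ T) (u : T ⟶ S)
    (hu : (MorphismProperty.universally (fun (A B : C) (p : A ⟶ B) => EffectiveEpi p)) u) (hv : (MorphismProperty.universally (fun (A B : C) (p : A ⟶ B) => EffectiveEpi p)) v) :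
    (MorphismProperty.universally (fun (A B : C) (p : A ⟶ B) => EffectiveEpi p)) (v ≫ u) := by
  intro X' Z' i₁ i₂ f' H
  have hw : f' ≫ i₂ = (i₁ ≫ v) ≫ u := H.w.trans (Category.assoc _ _ _).symm
  have h0 := pullback.lift_fst (f := i₂) (g := u) f' (i₁ ≫ v) hw
  rw [← h0] at H ⊢
  have hu' : EffectiveEpi (pullback.fst i₂ u) := hu _ _ _ (IsPullback.of_hasPullback _ _)
  have Hv := (H.of_right (pullback.lift_snd _ _ _) (IsPullback.of_hasPullback i₂ u))
  have hv' : EffectiveEpi (pullback.lift (f := i₂) (g := u) f' (i₁ ≫ v) hw) := hv _ _ _ Hv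
  have hv'' : (MorphismProperty.universally (fun (A B : C) (p : A ⟶ B) => EffectiveEpi p))
      (pullback.lift (f := i₂) (g := u) f' (i₁ ≫ v) hw) :=
    (MorphismProperty.universally_isStableUnderBaseChange
      (fun (A B : C) (p : A ⟶ B) => EffectiveEpi p)).of_isPullback Hv.flip hv
  refine Groth.Agent.S5204.result _ _ ?_
  intro A B j₁ j₂ g' Hg
  have : EffectiveEpi g' := hv'' _ _ _ Hg
  exact (inferInstance : Epi g')

end Groth.Agent.S5205
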