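import Groth.Statements.S5206
-- import your own Groth.Agent.* helpers here

set_option autoImplicit false
open CategoryTheory CategoryTheory.Limits
universe w v₁ u₁
open DescCat

namespace Groth.Agent.S5206

theorem effectiveEpi_of_comp_aux {C : Type u₁} [Category.{v₁} C] [HasPullbacks C]
    {U T S : C} (v : U ⟶ T) (u : T ⟶ S) [EffectiveEpi (v ≫ u)]
    (h : Epi (pullback.fst u (v ≫ u))) : EffectiveEpi u := by
  refine ⟨⟨?_⟩⟩
  have key : ∀ {W : C} (φ : T ⟶ W),
      (∀ {Z : C} (g₁ g₂ : Z ⟶ T), g₁ ≫ u = g₂ ≫ u → g₁ ≫ φ = g₂ ≫ φ) →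
      ∀ {Z : C} (g₁ g₂ : Z ⟶ U), g₁ ≫ (v ≫ u) = g₂ ≫ (v ≫ u) → g₁ ≫ (v ≫ φ) = g₂ ≫ (v ≫ φ) := by
    intro W φ hφ Z g₁ g₂ hg
    rw [← Category.assoc, ← Category.assoc]
    apply hφ
    simpa using hg
  refine
    { desc := fun {W} φ hφ => EffectiveEpi.desc (v ≫ u) (v ≫ φ) (key φ hφ)
      fac := ?_
      uniq := ?_ }
  · intro W φ hφ
    rw [← cancel_epi (pullback.fst u (v ≫ u))]
    have c : pullback.fst u (v ≫ u) ≫ u = pullback.snd u (v ≫ u) ≫ (v ≫ u) := pullback.condition
    have e1 := hφ (pullback.fst u (v ≫ u)) (pullback.snd u (v ≫ u) ≫ v) (by simpa using c)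
    rw [e1, ← Category.assoc, c, Category.assoc, EffectiveEpi.fac]
    simp
  · intro W φ hφ m hm
    apply EffectiveEpi.uniq
    rw [Category.assoc, hm]

/-- Second assertion: in a category with pullbacks: if `v ≫ u` is a universal effective epimorphism (all
base changes are effective epimorphisms), then so is `u`; nothing is assumed about `v`. -/
theorem result {C : Type u₁} [Category.{v₁} C] [HasPullbacks C]
    {U T S : C} (v : U ⟶ T) (u : T ⟶ S)
    (h : (MorphismProperty.universally (fun (A B : C) (p : A ⟶ B) => EffectiveEpi p)) (v ≫ u)) :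
    (MorphismProperty.universally (fun (A B : C) (p : A ⟶ B) => EffectiveEpi p)) u := by
  intro T' Y' i₁ i₂ u' H
  have H2 := (IsPullback.of_hasPullback i₁ v).paste_horiz H
  have : EffectiveEpi (pullback.fst i₁ v ≫ u') := h _ _ _ H2
  apply effectiveEpi_of_comp_aux (pullback.fst i₁ v) u'
  have H3 := (IsPullback.of_hasPullback u' (pullback.fst i₁ v ≫ u')).paste_vert H2
  have : EffectiveEpi (pullback.fst u' (pullback.fst i₁ v ≫ u')) := h _ _ _ H3
  infer_instance

end Groth.Agent.S5206
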