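import Groth.Statements.S5209
import Groth.Agent.DescCatLib

set_option autoImplicit false
open CategoryTheory CategoryTheory.Limits
universe w v₁ u₁
open DescCat

namespace Groth.Agent.S5209

/-- In a category with pullbacks, let `f : S' ⟶ S` be a universal effective epimorphism, that is, a
morphism all of whose base changes are effective epimorphisms. Then a morphism `g` over `S` is an
isomorphism (resp. a monomorphism) if and only if its base change along `f` is. -/
theorem result {C : Type u₁} [Category.{v₁} C] [HasPullbacks C]
    {S' S : C} (f : S' ⟶ S) (hf : (MorphismProperty.universally (fun (A B : C) (p : A ⟶ B) => EffectiveEpi p)) f) {X Y : Over S} (g : X ⟶ Y) :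
    (IsIso g ↔ IsIso ((Over.pullback f).map g)) ∧ (Mono g ↔ Mono ((Over.pullback f).map g)) := by
  -- the key pullback square
  have HY : IsPullback (pullback.fst Y.hom f) (pullback.snd Y.hom f) Y.hom f :=
    IsPullback.of_hasPullback Y.hom f
  have h1 : ((Over.pullback f).map g).left ≫ pullback.fst Y.hom f =
      pullback.fst X.hom f ≫ g.left := by
    exact pullback.lift_fst _ _ _
  have h2 : ((Over.pullback f).map g).left ≫ pullback.snd Y.hom f =
      pullback.snd X.hom f := by
    exact pullback.lift_snd _ _ _
  have Hbig : IsPullback (((Over.pullback f).map g).left ≫ pullback.snd Y.hom f)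
      (pullback.fst X.hom f) f (g.left ≫ Y.hom) := by
    rw [h2, Over.w g]
    exact (IsPullback.of_hasPullback X.hom f).flip
  have Hsq : IsPullback ((Over.pullback f).map g).left (pullback.fst X.hom f)
      (pullback.fst Y.hom f) g.left := IsPullback.of_right Hbig h1 HY.flip
  have hq : Groth.Agent.DescCatLib.UEE C (pullback.fst Y.hom f) :=
    Groth.Agent.DescCatLib.UEE.of_isPullback hf HY
  constructor
  · constructor
    · intro h
      infer_instance
    · intro h
      have : IsIso ((Over.pullback f).map g).left :=
        inferInstanceAs (IsIso ((Over.forget _).map ((Over.pullback f).map g)))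
      have : IsIso g.left := Groth.Agent.DescCatLib.isIso_of_isPullback Hsq hq
      have : IsIso ((Over.forget _).map g) := this
      exact isIso_of_reflects_iso g (Over.forget _)
  · constructor
    · intro h
      infer_instance
    · intro h
      have : Mono ((Over.pullback f).map g).left := inferInstance
      have : Mono g.left := Groth.Agent.DescCatLib.mono_of_isPullback Hsq hq
      exact Over.mono_of_mono_left g

end Groth.Agent.S5209
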