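import Groth.Statements.S5210
import Groth.Agent.DescCatLib

set_option autoImplicit false
open CategoryTheory CategoryTheory.Limits
universe w v₁ u₁
open DescCat

namespace Groth.Agent.S5210

/-- In a category with pullbacks, let `f : S' ⟶ S` be a universal effective epimorphism (all of its base
changes are effective epimorphisms) and `Y ⟶ S` a monomorphism. Then an object `X` over `S` admits a
morphism to `Y` over `S` if and only if it does so after base change along `f`. -/
theorem result {C : Type u₁} [Category.{v₁} C] [HasPullbacks C]
    {S' S : C} (f : S' ⟶ S) (hf : (MorphismProperty.universally (fun (A B : C) (p : A ⟶ B) => EffectiveEpi p)) f) (X Y : Over S) [Mono Y.hom] :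
    Nonempty (X ⟶ Y) ↔ Nonempty ((Over.pullback f).obj X ⟶ (Over.pullback f).obj Y) := by
  constructor
  · rintro ⟨g⟩
    exact ⟨(Over.pullback f).map g⟩
  · rintro ⟨h⟩
    have HX : IsPullback (pullback.fst X.hom f) (pullback.snd X.hom f) X.hom f :=
      IsPullback.of_hasPullback X.hom f
    have hp : Groth.Agent.DescCatLib.UEE C (pullback.fst X.hom f) :=
      Groth.Agent.DescCatLib.UEE.of_isPullback hf HX
    have hpe : EffectiveEpi (pullback.fst X.hom f) := hp.effectiveEpi
    have hw : h.left ≫ pullback.snd Y.hom f = pullback.snd X.hom f := Over.w h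
    have hφ : (h.left ≫ pullback.fst Y.hom f) ≫ Y.hom = pullback.fst X.hom f ≫ X.hom := by
      rw [Category.assoc, pullback.condition, ← Category.assoc, hw, pullback.condition]
    let k : X.left ⟶ Y.left := EffectiveEpi.desc (pullback.fst X.hom f)
      (h.left ≫ pullback.fst Y.hom f) (by
        intro Z a b hab
        rw [← cancel_mono Y.hom]
        have hφ' : h.left ≫ pullback.fst Y.hom f ≫ Y.hom = pullback.fst X.hom f ≫ X.hom := by
          rw [← Category.assoc]; exact hφ
        simp only [Category.assoc]
        rw [hφ', ← Category.assoc, ← Category.assoc, hab])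
    have hk : pullback.fst X.hom f ≫ k = h.left ≫ pullback.fst Y.hom f :=
      EffectiveEpi.fac _ _ _
    refine ⟨Over.homMk k ?_⟩
    rw [← cancel_epi (pullback.fst X.hom f), ← Category.assoc, hk, hφ]

end Groth.Agent.S5210
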