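import Groth.Statements.S5211
import Groth.Agent.DescCatLib

set_option autoImplicit false
open CategoryTheory CategoryTheory.Limits
universe w v₁ u₁
open DescCat

namespace Groth.Agent.S5211

/-- In a category with pullbacks: if `f : S' ⟶ S` is a universal effective epimorphism and the canonical
map `S' ×_S S' ⟶ S' ×_T S'` induced by `g : S ⟶ T` is an isomorphism, then `g` is a monomorphism. -/
theorem result {C : Type u₁} [Category.{v₁} C] [HasPullbacks C]
    {S' S T : C} (f : S' ⟶ S) (hf : (MorphismProperty.universally (fun (A B : C) (p : A ⟶ B) => EffectiveEpi p)) f) (g : S ⟶ T)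
    [IsIso (pullback.mapDesc f f g)] : Mono g := by
  constructor
  intro Z a b hab
  have e1 : EffectiveEpi (pullback.fst a f) := hf _ _ _ (IsPullback.of_hasPullback a f)
  have e2 : EffectiveEpi (pullback.fst (pullback.fst a f ≫ b) f) :=
    hf _ _ _ (IsPullback.of_hasPullback (pullback.fst a f ≫ b) f)
  have c1 : pullback.fst a f ≫ a = pullback.snd a f ≫ f := pullback.condition
  have c2 : pullback.fst (pullback.fst a f ≫ b) f ≫ (pullback.fst a f ≫ b) =
      pullback.snd (pullback.fst a f ≫ b) f ≫ f := pullback.condition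
  have w : (pullback.fst (pullback.fst a f ≫ b) f ≫ pullback.snd a f) ≫ (f ≫ g) =
      pullback.snd (pullback.fst a f ≫ b) f ≫ (f ≫ g) := by
    rw [Category.assoc, ← Category.assoc (pullback.snd a f), ← c1,
      ← Category.assoc (pullback.snd _ f) f g, ← c2]
    simp only [Category.assoc]
    rw [hab]
  obtain ⟨c, hcdef⟩ : ∃ c : pullback (pullback.fst a f ≫ b) f ⟶ pullback f f,
    c = pullback.lift _ _ w ≫ inv (pullback.mapDesc f f g) := ⟨_, rfl⟩
  have hm1 : pullback.mapDesc f f g ≫ pullback.fst (f ≫ g) (f ≫ g) = pullback.fst f f :=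
    (pullback.lift_fst _ _ _).trans (Category.comp_id _)
  have hm2 : pullback.mapDesc f f g ≫ pullback.snd (f ≫ g) (f ≫ g) = pullback.snd f f :=
    (pullback.lift_snd _ _ _).trans (Category.comp_id _)
  have hcm : c ≫ pullback.mapDesc f f g = pullback.lift _ _ w := by
    rw [hcdef, Category.assoc, IsIso.inv_hom_id, Category.comp_id]
  have hc1 : c ≫ pullback.fst f f = pullback.fst (pullback.fst a f ≫ b) f ≫ pullback.snd a f := by
    rw [← hm1, ← Category.assoc, hcm, pullback.lift_fst]
  have hc2 : c ≫ pullback.snd f f = pullback.snd (pullback.fst a f ≫ b) f := by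
    rw [← hm2, ← Category.assoc, hcm, pullback.lift_snd]
  rw [← cancel_epi (pullback.fst a f), ← cancel_epi (pullback.fst (pullback.fst a f ≫ b) f)]
  rw [c1, c2, ← Category.assoc, ← hc1, ← hc2, Category.assoc, pullback.condition, Category.assoc]

end Groth.Agent.S5211
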