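import Groth.Statements.S5212
import Mathlib

set_option autoImplicit false
universe u
open GrpQ

namespace Groth.Agent.S5212

private lemma dvd_algebraMap_norm {A A' : Type u} [CommRing A] [CommRing A'] [Algebra A A']
    [Module.Free A A'] [Module.Finite A A'] (a : A') :
    a ∣ algebraMap A A' (Algebra.norm A a) := by
  obtain ⟨P, hP⟩ : ∃ P, P = (Algebra.lmul A A' a).charpoly := ⟨_, rfl⟩
  have h2 : Polynomial.aeval (Algebra.lmul A A' a) P = 0 := by
    rw [hP]
    exact LinearMap.aeval_self_charpoly _
  rw [Polynomial.aeval_algHom_apply] at h2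
  have h1 : Polynomial.aeval a P = 0 := by
    have := LinearMap.congr_fun h2 1
    simpa using this
  have h3 : P.divX * Polynomial.X + Polynomial.C (P.coeff 0) = P := Polynomial.divX_mul_X_add P
  have h4 : algebraMap A A' (P.coeff 0) = - (Polynomial.aeval a P.divX) * a := by
    have h6 : Polynomial.aeval a (P.divX * Polynomial.X + Polynomial.C (P.coeff 0)) = 0 := by
      rw [h3]
      exact h1
    simp only [map_add, map_mul, Polynomial.aeval_X, Polynomial.aeval_C] at h6
    linear_combination h6
  have h5 : Algebra.norm A a = (-1) ^ Module.finrank A A' * P.coeff 0 := by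
    rw [Algebra.norm_apply, LinearMap.det_eq_sign_charpoly_coeff, hP]
  rw [h5, map_mul, h4]
  exact ⟨algebraMap A A' ((-1) ^ Module.finrank A A') * -(Polynomial.aeval a P.divX), by ring⟩

/-- For `A'` finite and free as an `A`-module, a prime `p` of `A` and `a ∈ A'`, the element `a` belongs
to some prime of `A'` lying over `p` if and only if its norm belongs to `p`. (The published
statement allows `A'` projective of constant rank over `A`; this row takes `A'` free, where the norm
is the determinant of multiplication.) -/
theorem result {A A' : Type u} [CommRing A] [CommRing A'] [Algebra A A']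
    [Module.Free A A'] [Module.Finite A A'] (p : Ideal A) [p.IsPrime] (a : A') :
    (∃ q : Ideal A', q.IsPrime ∧ q.LiesOver p ∧ a ∈ q) ↔ Algebra.norm A a ∈ p := by
  classical
  constructor
  · rintro ⟨q, hq, hqp, haq⟩
    obtain ⟨c, hc⟩ := dvd_algebraMap_norm (A := A) a
    have h1 : algebraMap A A' (Algebra.norm A a) ∈ q := by
      rw [hc]
      exact q.mul_mem_right _ haq
    rw [hqp.over]
    exact h1
  · intro hN
    by_contra hcon
    -- the ring hom to matrices over A/p
    let b := Module.Free.chooseBasis A A'
    let ψ : A' →+* Matrix (Module.Free.ChooseBasisIndex A A') (Module.Free.ChooseBasisIndex A A') (A ⧸ p) :=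
      (Ideal.Quotient.mk p).mapMatrix.comp (Algebra.leftMulMatrix b).toRingHom
    have hψalg : ∀ r : A, ψ (algebraMap A A' r) = Matrix.scalar _ (Ideal.Quotient.mk p r) := by
      intro r
      change (Ideal.Quotient.mk p).mapMatrix (Algebra.leftMulMatrix b (algebraMap A A' r)) = _
      rw [AlgHom.commutes]
      ext i j
      simp [Matrix.algebraMap_matrix_apply, Matrix.scalar_apply, Matrix.diagonal_apply]
      split_ifs <;> simp
    have hψdet : ∀ y : A', (ψ y).det = Ideal.Quotient.mk p (Algebra.norm A y) := by
      intro y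
      change ((Ideal.Quotient.mk p).mapMatrix (Algebra.leftMulMatrix b y)).det = _
      rw [Algebra.norm_eq_matrix_det b y, RingHom.map_det]
    have hker : Ideal.map (algebraMap A A') p ≤ RingHom.ker ψ := by
      rw [Ideal.map_le_iff_le_comap]
      intro r hr
      rw [Ideal.mem_comap, RingHom.mem_ker, hψalg, Ideal.Quotient.eq_zero_iff_mem.mpr hr, map_zero]
    -- the disjointness
    have hdisj : Disjoint ((Ideal.map (algebraMap A A') p ⊔ Ideal.span {a} : Ideal A') : Set A')
        (Submonoid.map (algebraMap A A') p.primeCompl : Set A') := by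
      rw [Set.disjoint_left]
      rintro _ hI ⟨s, hs, rfl⟩
      obtain ⟨x, hx, y, hy, hxy⟩ := Submodule.mem_sup.mp hI
      obtain ⟨c, rfl⟩ := Ideal.mem_span_singleton'.mp hy
      have e1 : ψ (algebraMap A A' s) = ψ c * ψ a := by
        rw [← hxy, map_add, map_mul, RingHom.mem_ker.mp (hker hx), zero_add]
      have e2 := congrArg Matrix.det e1
      rw [Matrix.det_mul, hψdet, hψdet, hψdet, Algebra.norm_algebraMap,
        Ideal.Quotient.eq_zero_iff_mem.mpr hN, mul_zero, Ideal.Quotient.eq_zero_iff_mem] at e2
      exact hs (Ideal.IsPrime.mem_of_pow_mem inferInstance _ e2)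
    obtain ⟨q, hq, hIq, hqd⟩ := Ideal.exists_le_prime_disjoint _ _ hdisj
    apply hcon
    refine ⟨q, hq, ⟨?_⟩, hIq (Ideal.mem_sup_right (Ideal.mem_span_singleton_self a))⟩
    apply le_antisymm
    · intro r hr
      exact hIq (Ideal.mem_sup_left (Ideal.mem_map_of_mem _ hr))
    · intro r hr
      by_contra hrp
      exact Set.disjoint_left.mp hqd hr ⟨r, hrp, rfl⟩

end Groth.Agent.S5212
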