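import Groth.Statements.S5214
import Groth.Agent.DescCatLib
import Groth.Agent.S5205

set_option autoImplicit false
open CategoryTheory CategoryTheory.Limits
universe w v₁ u₁
open DescCat

namespace Groth.Agent.S5214

set_option backward.defeqAttrib.useBackward true in
set_option backward.isDefEq.respectTransparency false in
theorem isPullback_prod_snd_with_id {C : Type u₁} [Category.{v₁} C] {A B : C} (f : A ⟶ B) (X : C)
    [HasBinaryProduct X A] [HasBinaryProduct X B] :
    IsPullback prod.snd (prod.map (𝟙 X) f) f prod.snd := by
  refine IsPullback.mk' (by simp) ?_ ?_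
  · intro T φ φ' h1 h2
    ext
    · have := congrArg (· ≫ prod.fst) h2
      simpa using this
    · exact h1
  · intro T a b hab
    refine ⟨prod.lift (b ≫ prod.fst) a, by simp, ?_⟩
    ext
    · simp
    · simp [hab]

/-- In a category with pullbacks and binary products: the product `u × u'` of two universal effective
epimorphisms (morphisms all of whose base changes are effective epimorphisms) is a universal
effective epimorphism. -/
theorem result {C : Type u₁} [Category.{v₁} C] [HasPullbacks C] [HasBinaryProducts C]
    {X Y X' Y' : C} (u : X ⟶ Y) (u' : X' ⟶ Y')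
    (hu : (MorphismProperty.universally (fun (A B : C) (p : A ⟶ B) => EffectiveEpi p)) u) (hu' : (MorphismProperty.universally (fun (A B : C) (p : A ⟶ B) => EffectiveEpi p)) u') :
    (MorphismProperty.universally (fun (A B : C) (p : A ⟶ B) => EffectiveEpi p)) (prod.map u u') := by
  have h1 : Groth.Agent.DescCatLib.UEE C (prod.map u (𝟙 X')) :=
    Groth.Agent.DescCatLib.UEE.of_isPullback hu (IsPullback.of_prod_fst_with_id u X').flip
  have h2 : Groth.Agent.DescCatLib.UEE C (prod.map (𝟙 Y) u') :=
    Groth.Agent.DescCatLib.UEE.of_isPullback hu' (isPullback_prod_snd_with_id u' Y).flip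
  have h3 := Groth.Agent.S5205.result _ _ h2 h1
  have e : prod.map u (𝟙 X') ≫ prod.map (𝟙 Y) u' = prod.map u u' := by simp
  rw [e] at h3
  exact h3

end Groth.Agent.S5214
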