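import Groth.Statements.S5219
import Mathlib

set_option autoImplicit false
open CategoryTheory
universe u
open ShfCat

namespace Groth.Agent.S5219

/-- For a small category `C` and a presheaf of rings `O` on it, the category of presheaves of
`O`-modules has enough injectives. (The published statement also asserts that `O` itself is a
generator; in general only the family of modules `O_S` induced on the objects `S` of `C` generates —
for the category with one non-identity arrow a → b and a module vanishing at b, no direct sum of
copies of `O` maps onto it — and the row keeps the conclusion the argument establishes.) -/
theorem result (C : Type u) [SmallCategory C] (O : Cᵒᵖ ⥤ RingCat.{u}) :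
    EnoughInjectives (PresheafOfModules.{u} O) := by
  have : HasSeparator (PresheafOfModules.{u} O) := by
    refine ⟨∐ (fun X : C => (PresheafOfModules.free O).obj (yoneda.obj X)), ?_⟩
    apply ObjectProperty.IsSeparating.isSeparator_coproduct
    exact PresheafOfModules.freeYoneda.isSeparating O
  have : Limits.ReflectsFiniteLimits (PresheafOfModules.toPresheaf O) := by
    constructor
    intro J _ _
    exact Limits.reflectsLimitsOfShape_of_reflectsIsomorphisms
  have : AB5OfSize.{u,u} (PresheafOfModules.{u} O) := by
    constructor
    intro J _ _
    exact HasExactColimitsOfShape.domain_of_functor J (PresheafOfModules.toPresheaf O)
  have : IsGrothendieckAbelian.{u} (PresheafOfModules.{u} O) := {}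
  infer_instance

end Groth.Agent.S5219
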