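import Groth.Statements.S5221
import Groth.Agent.S5220

set_option autoImplicit false
open CategoryTheory CategoryTheory.Limits
universe w v₁ u₁
open GrpQ

namespace Groth.Agent.S5221

/-- Existence part: in a category with pullbacks: with `d₀ d₁ : X₁ ⇉ X₀` admitting a common section and
`f₀ : Y₀ ⟶ X₀` an effective and universal epimorphism, the pair `(d₀, d₁)` has a coequalizer if and
only if its inverse-image pair on `Y₀` has one. -/
theorem result {C : Type u₁} [Category.{v₁} C] [HasPullbacks C]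
    {X₁ X₀ Y₀ : C} (d₀ d₁ : X₁ ⟶ X₀) (s : X₀ ⟶ X₁) (hs₀ : s ≫ d₀ = 𝟙 X₀) (hs₁ : s ≫ d₁ = 𝟙 X₀)
    (f₀ : Y₀ ⟶ X₀) [EffectiveEpi f₀]
    (hf : MorphismProperty.universally (MorphismProperty.epimorphisms C) f₀) :
    HasCoequalizer d₁ d₀ ↔
      HasCoequalizer (pullback.fst (pullback.snd f₀ d₁ ≫ d₀) f₀ ≫ pullback.fst f₀ d₁)
        (pullback.snd (pullback.snd f₀ d₁ ≫ d₀) f₀) := by
  have c1 : pullback.fst f₀ d₁ ≫ f₀ = pullback.snd f₀ d₁ ≫ d₁ := pullback.condition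
  have c2 : pullback.fst (pullback.snd f₀ d₁ ≫ d₀) f₀ ≫ (pullback.snd f₀ d₁ ≫ d₀) =
    pullback.snd (pullback.snd f₀ d₁ ≫ d₀) f₀ ≫ f₀ := pullback.condition
  -- a map out of X₀ coequalizing d₁, d₀ gives a map out of Y₀ coequalizing e₁, e₀
  have key : ∀ {T : C} (t : X₀ ⟶ T), d₁ ≫ t = d₀ ≫ t →
      (pullback.fst (pullback.snd f₀ d₁ ≫ d₀) f₀ ≫ pullback.fst f₀ d₁) ≫ (f₀ ≫ t) =
      pullback.snd (pullback.snd f₀ d₁ ≫ d₀) f₀ ≫ (f₀ ≫ t) := by
    intro T t ht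
    calc (pullback.fst (pullback.snd f₀ d₁ ≫ d₀) f₀ ≫ pullback.fst f₀ d₁) ≫ (f₀ ≫ t)
        = pullback.fst (pullback.snd f₀ d₁ ≫ d₀) f₀ ≫ (pullback.fst f₀ d₁ ≫ f₀) ≫ t := by
          simp only [Category.assoc]
      _ = pullback.fst (pullback.snd f₀ d₁ ≫ d₀) f₀ ≫ pullback.snd f₀ d₁ ≫ d₀ ≫ t := by
          rw [c1]; simp only [Category.assoc]; rw [ht]
      _ = (pullback.fst (pullback.snd f₀ d₁ ≫ d₀) f₀ ≫ (pullback.snd f₀ d₁ ≫ d₀)) ≫ t := by
          simp only [Category.assoc]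
      _ = _ := by rw [c2, Category.assoc]
  have hepi : Epi f₀ := inferInstance
  constructor
  · intro h
    refine HasColimit.mk ⟨Cofork.ofπ (f₀ ≫ coequalizer.π d₁ d₀)
      (key (coequalizer.π d₁ d₀) (coequalizer.condition d₁ d₀)), ?_⟩
    refine Cofork.IsColimit.ofExistsUnique ?_
    intro c
    obtain ⟨h₀, ⟨hh1, hh2⟩, huniq⟩ := Groth.Agent.S5220.result d₀ d₁ s hs₀ hs₁ f₀ hf c.π c.condition
    refine ⟨coequalizer.desc h₀ hh1, ?_, ?_⟩
    · change (f₀ ≫ coequalizer.π d₁ d₀) ≫ coequalizer.desc h₀ hh1 = c.π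
      rw [Category.assoc, coequalizer.π_desc, hh2]
    · intro k hk
      change (f₀ ≫ coequalizer.π d₁ d₀) ≫ k = c.π at hk
      refine coequalizer.hom_ext (f := d₁) (g := d₀) (k := k) ?_
      rw [coequalizer.π_desc]
      apply huniq
      refine ⟨?_, by rw [← hk, Category.assoc]⟩
      rw [← Category.assoc, coequalizer.condition, Category.assoc]
  · intro h
    obtain ⟨h₀, ⟨hh1, hh2⟩, huniq⟩ := Groth.Agent.S5220.result d₀ d₁ s hs₀ hs₁ f₀ hf
      (coequalizer.π (pullback.fst (pullback.snd f₀ d₁ ≫ d₀) f₀ ≫ pullback.fst f₀ d₁)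
        (pullback.snd (pullback.snd f₀ d₁ ≫ d₀) f₀)) (coequalizer.condition _ _)
    refine HasColimit.mk ⟨Cofork.ofπ h₀ hh1, ?_⟩
    refine Cofork.IsColimit.ofExistsUnique ?_
    intro c
    refine ⟨coequalizer.desc (f₀ ≫ c.π) (key c.π c.condition), ?_, ?_⟩
    · change h₀ ≫ _ = c.π
      rw [← cancel_epi f₀, ← Category.assoc, hh2, coequalizer.π_desc]
    · intro k hk
      change h₀ ≫ k = c.π at hk
      refine coequalizer.hom_ext (f := (pullback.fst (pullback.snd f₀ d₁ ≫ d₀) f₀ ≫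
        pullback.fst f₀ d₁)) (g := pullback.snd (pullback.snd f₀ d₁ ≫ d₀) f₀) (k := k) ?_
      rw [coequalizer.π_desc, ← hk, ← Category.assoc, hh2]

end Groth.Agent.S5221
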