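import Groth.Statements.S5222
import Mathlib

set_option autoImplicit false
open CategoryTheory CategoryTheory.Limits MonoidalCategory
universe v₁ u₁
open DescCat

namespace Groth.Agent.S5222

open MonObj CartesianMonoidalCategory SemiCartesianMonoidalCategory in
/-- In a cartesian monoidal category with pullbacks: for a homomorphism `f : G ⟶ G'` of group objects
with kernel `K = G ×_{G'} e`, the pair `G × K ⇉ G` given by the projection and by multiplication is
the kernel pair of `f`. -/
theorem result {C : Type u₁} [Category.{v₁} C]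
    [CartesianMonoidalCategory C] [HasPullbacks C]
    {G G' : C} [GrpObj G] [GrpObj G'] (f : G ⟶ G') [IsMonHom f] :
    IsKernelPair f (fst G (pullback f η[G']))
      ((G ◁ pullback.fst f η[G']) ≫ μ[G]) := by
  have hk : pullback.fst f η[G'] ≫ f = (1 : pullback f η[G'] ⟶ G') := by
    rw [pullback.condition, Hom.one_def]
    congr 1
    exact toUnit_unique _ _
  have hm : (G ◁ pullback.fst f η[G']) ≫ μ[G] =
      fst G (pullback f η[G']) * (snd G (pullback f η[G']) ≫ pullback.fst f η[G']) := by
    rw [Hom.mul_def]
    congr 1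
    apply CartesianMonoidalCategory.hom_ext <;> simp
  rw [hm]
  refine IsPullback.mk' ?_ ?_ ?_
  · rw [MonObj.mul_comp, Category.assoc, hk, MonObj.comp_one, _root_.mul_one]
  · intro T φ φ' h1 h2
    rw [MonObj.comp_mul, MonObj.comp_mul, h1] at h2
    have h3 := _root_.mul_left_cancel h2
    rw [← Category.assoc, ← Category.assoc, cancel_mono] at h3
    exact CartesianMonoidalCategory.hom_ext _ _ h1 h3
  · intro T x y hxy
    have hκ : (x⁻¹ * y) ≫ f = toUnit T ≫ η[G'] := by
      rw [MonObj.mul_comp, GrpObj.inv_comp, hxy, _root_.inv_mul_cancel, Hom.one_def]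
    refine ⟨lift x (pullback.lift (x⁻¹ * y) (toUnit T) hκ), ?_, ?_⟩
    · simp
    · rw [MonObj.comp_mul, lift_fst, ← Category.assoc, lift_snd, pullback.lift_fst,
        _root_.mul_inv_cancel_left]

end Groth.Agent.S5222
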