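import Groth.Statements.S5223
import Mathlib
import Groth.Agent.S5064

set_option autoImplicit false
open CategoryTheory CategoryTheory.Limits AlgebraicGeometry
universe u
open GrpQ

namespace Groth.Agent.S5223

section Helpers
open AlgebraicGeometry CategoryTheory CategoryTheory.Limits TopologicalSpace

/-- Ring-level: flatness at a prime is stable under base change (auxiliary form with a generic
localization `B''` of `B'` at the image of `B \ q`). -/
theorem flat_baseChange_atPrime_aux {A B A' B' : Type u} [CommRing A] [CommRing B] [CommRing A']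
    [CommRing B'] [Algebra A B] [Algebra A A'] [Algebra B B'] [Algebra A' B'] [Algebra A B']
    [IsScalarTower A B B'] [IsScalarTower A A' B'] [Algebra.IsPushout A B A' B']
    (q : Ideal B) [q.IsPrime] (Q : Ideal B') [Q.IsPrime] (hqQ : Q.comap (algebraMap B B') = q)
    (Bq : Type u) [CommRing Bq] [Algebra B Bq] [IsLocalization.AtPrime Bq q]
    [Algebra A Bq] [IsScalarTower A B Bq]
    (BQ : Type u) [CommRing BQ] [Algebra B' BQ] [IsLocalization.AtPrime BQ Q]
    [Algebra A' BQ] [IsScalarTower A' B' BQ]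
    (B'' : Type u) [CommRing B''] [Algebra B' B'']
    [IsLocalization (Algebra.algebraMapSubmonoid B' q.primeCompl) B'']
    [Module.Flat A Bq] : Module.Flat A' BQ := by
  have hSQ : Algebra.algebraMapSubmonoid B' q.primeCompl ≤ Q.primeCompl := by
    rintro _ ⟨b, hb, rfl⟩
    intro hmem
    apply hb
    rw [← hqQ]
    exact hmem
  have hy : q.primeCompl ≤ (Algebra.algebraMapSubmonoid B' q.primeCompl).comap
      (algebraMap B B') := fun b hb => ⟨b, hb, rfl⟩
  let φ : Bq →+* B'' :=
    IsLocalization.map (M := q.primeCompl) (T := Algebra.algebraMapSubmonoid B' q.primeCompl)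
      B'' (algebraMap B B') hy
  letI : Algebra Bq B'' := φ.toAlgebra
  letI : Algebra B B'' := ((algebraMap B' B'').comp (algebraMap B B')).toAlgebra
  letI : Algebra A' B'' := ((algebraMap B' B'').comp (algebraMap A' B')).toAlgebra
  letI : Algebra A B'' := ((algebraMap B' B'').comp (algebraMap A B')).toAlgebra
  haveI : IsScalarTower B B' B'' := IsScalarTower.of_algebraMap_eq' rfl
  haveI : IsScalarTower A' B' B'' := IsScalarTower.of_algebraMap_eq' rfl
  haveI : IsScalarTower A B' B'' := IsScalarTower.of_algebraMap_eq' rfl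
  haveI : IsScalarTower A A' B'' := IsScalarTower.of_algebraMap_eq (fun x => by
    show algebraMap B' B'' (algebraMap A B' x) =
      algebraMap B' B'' (algebraMap A' B' (algebraMap A A' x))
    rw [← IsScalarTower.algebraMap_apply A A' B'])
  haveI : IsScalarTower B Bq B'' := IsScalarTower.of_algebraMap_eq (fun b => by
    show algebraMap B' B'' (algebraMap B B' b) = φ (algebraMap B Bq b)
    exact (IsLocalization.map_eq hy b).symm)
  haveI : IsScalarTower A Bq B'' := IsScalarTower.of_algebraMap_eq (fun x => by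
    show algebraMap B' B'' (algebraMap A B' x) = φ (algebraMap A Bq x)
    rw [IsScalarTower.algebraMap_apply A B Bq, IsLocalization.map_eq hy,
      ← IsScalarTower.algebraMap_apply A B B'])
  have hp1 : Algebra.IsPushout B B' Bq B'' :=
    Algebra.isPushout_of_isLocalization q.primeCompl Bq B' B''
  have hp2 : Algebra.IsPushout B Bq B' B'' := hp1.symm
  have hp3 : Algebra.IsPushout A Bq A' B'' :=
    (Algebra.IsPushout.comp_iff A B A' (S' := B') (T := Bq) (T' := B'')).mpr hp2
  have hp4 : Algebra.IsPushout A A' Bq B'' := hp3.symm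
  haveI : Module.Flat A' B'' :=
    Module.Flat.isBaseChange (R := A) (S := A') (M := Bq) B'' hp4.out
  let ψ : B'' →+* BQ := IsLocalization.lift
    (M := Algebra.algebraMapSubmonoid B' q.primeCompl) (g := algebraMap B' BQ)
    (fun y => IsLocalization.map_units BQ (⟨y.1, hSQ y.2⟩ : Q.primeCompl))
  letI : Algebra B'' BQ := ψ.toAlgebra
  haveI : IsScalarTower B' B'' BQ := IsScalarTower.of_algebraMap_eq (fun b => by
    show algebraMap B' BQ b = ψ (algebraMap B' B'' b)
    exact (IsLocalization.lift_eq _ b).symm)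
  haveI : IsScalarTower A' B'' BQ := IsScalarTower.of_algebraMap_eq (fun x => by
    show algebraMap A' BQ x = ψ (algebraMap B' B'' (algebraMap A' B' x))
    rw [IsLocalization.lift_eq, ← IsScalarTower.algebraMap_apply A' B' BQ])
  haveI : IsLocalization (Q.primeCompl.map (algebraMap B' B'')) BQ :=
    IsLocalization.isLocalization_of_submonoid_le B'' BQ
      (Algebra.algebraMapSubmonoid B' q.primeCompl) Q.primeCompl hSQ
  haveI : Module.Flat B'' BQ :=
    IsLocalization.flat BQ (Q.primeCompl.map (algebraMap B' B''))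
  exact Module.Flat.trans A' B'' BQ

theorem flat_baseChange_atPrime {A B A' B' : Type u} [CommRing A] [CommRing B] [CommRing A']
    [CommRing B'] [Algebra A B] [Algebra A A'] [Algebra B B'] [Algebra A' B'] [Algebra A B']
    [IsScalarTower A B B'] [IsScalarTower A A' B'] [Algebra.IsPushout A B A' B']
    (q : Ideal B) [q.IsPrime] (Q : Ideal B') [Q.IsPrime] (hqQ : Q.comap (algebraMap B B') = q)
    (Bq : Type u) [CommRing Bq] [Algebra B Bq] [IsLocalization.AtPrime Bq q]
    [Algebra A Bq] [IsScalarTower A B Bq]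
    (BQ : Type u) [CommRing BQ] [Algebra B' BQ] [IsLocalization.AtPrime BQ Q]
    [Algebra A' BQ] [IsScalarTower A' B' BQ]
    [Module.Flat A Bq] : Module.Flat A' BQ :=
  flat_baseChange_atPrime_aux (A := A) (A' := A') q Q hqQ Bq BQ
    (Localization (Algebra.algebraMapSubmonoid B' q.primeCompl))

theorem flat_baseChange_cat {R A S B : CommRingCat.{u}} (φ : R ⟶ A) (ψ : R ⟶ S)
    (α : A ⟶ B) (β : S ⟶ B) (h : IsPushout φ ψ α β)
    (q : Ideal A) [q.IsPrime] (Q : Ideal B) [Q.IsPrime] (hqQ : Q.comap α.hom = q)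
    {Aq BQ : Type u} [CommRing Aq] [CommRing BQ] (γ : A →+* Aq) (δ : B →+* BQ)
    (hγ : @IsLocalization A _ q.primeCompl Aq _ γ.toAlgebra)
    (hδ : @IsLocalization B _ Q.primeCompl BQ _ δ.toAlgebra)
    (hfl : (γ.comp φ.hom).Flat) : (δ.comp β.hom).Flat := by
  letI := φ.hom.toAlgebra
  letI := ψ.hom.toAlgebra
  letI := α.hom.toAlgebra
  letI := β.hom.toAlgebra
  letI : Algebra R B := (α.hom.comp φ.hom).toAlgebra
  haveI : IsScalarTower R A B := IsScalarTower.of_algebraMap_eq' rfl
  haveI : IsScalarTower R S B := IsScalarTower.of_algebraMap_eq' (by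
    have := congrArg CommRingCat.Hom.hom h.w
    exact this)
  haveI : Algebra.IsPushout R A S B := CommRingCat.isPushout_iff_isPushout.mp h
  letI : Algebra A Aq := γ.toAlgebra
  letI : Algebra B BQ := δ.toAlgebra
  letI : Algebra R Aq := (γ.comp φ.hom).toAlgebra
  letI : Algebra S BQ := (δ.comp β.hom).toAlgebra
  haveI : IsScalarTower R A Aq := IsScalarTower.of_algebraMap_eq' rfl
  haveI : IsScalarTower S B BQ := IsScalarTower.of_algebraMap_eq' rfl
  haveI : IsLocalization.AtPrime Aq q := hγ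
  haveI : IsLocalization.AtPrime BQ Q := hδ
  haveI : Module.Flat R Aq := hfl
  exact (flat_baseChange_atPrime (A := R) (B := A) (A' := S) (B' := B) q Q hqQ Aq BQ :
    Module.Flat S BQ)

set_option backward.isDefEq.respectTransparency false in
theorem stalk_flat_iff_affine {X Y : Scheme.{u}} (f : X ⟶ Y) {W : Y.Opens} (hW : IsAffineOpen W)
    {V : X.Opens} (e : V ≤ f ⁻¹ᵁ W) (x : X) (hxV : x ∈ V) :
    (f.stalkMap x).hom.Flat ↔
      ((X.presheaf.germ V x hxV).hom.comp (f.appLE W V e).hom).Flat := by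
  have hsW : f x ∈ W := e hxV
  have e2 : f.appLE W V e ≫ X.presheaf.germ V x hxV =
      Y.presheaf.germ W (f x) hsW ≫ f.stalkMap x := by
    rw [Scheme.Hom.germ_stalkMap]
    simp only [Scheme.Hom.appLE, Category.assoc, TopCat.Presheaf.germ_res]
  have e3 : (X.presheaf.germ V x hxV).hom.comp (f.appLE W V e).hom =
      (f.stalkMap x).hom.comp (Y.presheaf.germ W (f x) hsW).hom :=
    congrArg CommRingCat.Hom.hom e2
  rw [e3]
  letI := Y.presheaf.algebra_section_stalk ⟨f x, hsW⟩
  haveI := hW.isLocalization_stalk ⟨f x, hsW⟩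
  constructor
  · intro h
    refine RingHom.Flat.comp ?_ h
    show Module.Flat Γ(Y, W) (Y.presheaf.stalk (f x))
    exact IsLocalization.flat _ (hW.primeIdealOf ⟨f x, hsW⟩).asIdeal.primeCompl
  · intro h
    letI : Algebra (Y.presheaf.stalk (f x)) (X.presheaf.stalk x) := (f.stalkMap x).hom.toAlgebra
    letI : Algebra Γ(Y, W) (X.presheaf.stalk x) :=
      ((f.stalkMap x).hom.comp (Y.presheaf.germ W (f x) hsW).hom).toAlgebra
    haveI : IsScalarTower Γ(Y, W) (Y.presheaf.stalk (f x)) (X.presheaf.stalk x) :=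
      IsScalarTower.of_algebraMap_eq' rfl
    have h1 : Module.Flat Γ(Y, W) (X.presheaf.stalk x) := h
    exact (Module.flat_iff_of_isLocalization (Y.presheaf.stalk (f x))
      (hW.primeIdealOf ⟨f x, hsW⟩).asIdeal.primeCompl (X.presheaf.stalk x)).mpr h1

set_option backward.isDefEq.respectTransparency false in
theorem flat_at_of_isPullback {F₂ F₁ X₁ X₀ : Scheme.{u}}
    {v : F₂ ⟶ F₁} {d' : F₂ ⟶ X₁} {d : F₁ ⟶ X₀} {u : X₁ ⟶ X₀}
    (h : IsPullback v d' d u) (x : F₂) (hd : (d.stalkMap (v x)).hom.Flat) :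
    (d'.stalkMap x).hom.Flat := by
  have hcond : d (v x) = u (d' x) := by
    rw [← Scheme.Hom.comp_apply, ← Scheme.Hom.comp_apply, h.w]
  obtain ⟨W, hW, hsW, -⟩ := Opens.isBasis_iff_nbhd.mp X₀.isBasis_affineOpens
    (Opens.mem_top (u (d' x)))
  obtain ⟨W', hW', hsW', eW'⟩ := Opens.isBasis_iff_nbhd.mp X₁.isBasis_affineOpens
    (show d' x ∈ u ⁻¹ᵁ W from hsW)
  obtain ⟨V, hV, hxV, eV⟩ := Opens.isBasis_iff_nbhd.mp F₁.isBasis_affineOpens
    (show v x ∈ d ⁻¹ᵁ W from by
      show d (v x) ∈ W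
      rw [hcond]; exact hsW)
  let V' : F₂.Opens := v ⁻¹ᵁ V ⊓ d' ⁻¹ᵁ W'
  have hx'V' : x ∈ V' := ⟨hxV, hsW'⟩
  have hV' : IsAffineOpen V' := by
    have : IsAffine _ := hW
    have : IsAffine _ := hW'
    have : IsAffine _ := hV
    exact .of_isIso (Scheme.Hom.isPullback_resLE h eW' eV rfl).isoPullback.hom
  have hpo : IsPushout (d.appLE W V eV) (u.appLE W W' eW')
      (v.appLE V V' inf_le_left) (d'.appLE W' V' inf_le_right) := by
    haveI := isIso_pushoutSection_of_isAffineOpen h eW' eV (rfl : V' = _) hW hW' hV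
    exact (isIso_pushoutSection_iff h eW' eV rfl).mp this
  rw [stalk_flat_iff_affine d' hW' inf_le_right x hx'V']
  rw [stalk_flat_iff_affine d hW eV (v x) hxV] at hd
  have hqQ : (hV'.primeIdealOf ⟨x, hx'V'⟩).asIdeal.comap (v.appLE V V' inf_le_left).hom =
      (hV.primeIdealOf ⟨v x, hxV⟩).asIdeal :=
    congr($(IsAffineOpen.comap_primeIdealOf_appLE V hV V' hV' inf_le_left hx'V').1)
  exact flat_baseChange_cat _ _ _ _ hpo _ _ hqQ
    (F₁.presheaf.germ V (v x) hxV).hom (F₂.presheaf.germ V' x hx'V').hom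
    (hV.isLocalization_stalk ⟨v x, hxV⟩) (hV'.isLocalization_stalk ⟨x, hx'V'⟩) hd

set_option backward.isDefEq.respectTransparency false in
theorem flat_at_descend {F₂ F₁ X₁ X₀ : Scheme.{u}}
    {v : F₂ ⟶ F₁} {d' : F₂ ⟶ X₁} {d : F₁ ⟶ X₀} {u : X₁ ⟶ X₀}
    (h : IsPullback v d' d u) [Flat u] (x : F₂) (hd' : (d'.stalkMap x).hom.Flat) :
    (d.stalkMap (v x)).hom.Flat := by
  haveI : Flat v := MorphismProperty.of_isPullback (P := @Flat) h.flip inferInstance
  have h1 : ((d' ≫ u).stalkMap x).hom.Flat := by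
    rw [Scheme.Hom.stalkMap_comp, CommRingCat.hom_comp]
    exact RingHom.Flat.comp (Flat.stalkMap u (d' x)) hd'
  rw [← h.w] at h1
  letI : Algebra (X₀.presheaf.stalk (d (v x))) (F₁.presheaf.stalk (v x)) :=
    (d.stalkMap (v x)).hom.toAlgebra
  letI : Algebra (F₁.presheaf.stalk (v x)) (F₂.presheaf.stalk x) := (v.stalkMap x).hom.toAlgebra
  letI : Algebra (X₀.presheaf.stalk (d (v x))) (F₂.presheaf.stalk x) :=
    ((v ≫ d).stalkMap x).hom.toAlgebra
  haveI : IsScalarTower (X₀.presheaf.stalk (d (v x))) (F₁.presheaf.stalk (v x))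
      (F₂.presheaf.stalk x) :=
    IsScalarTower.of_algebraMap_eq'
      (congrArg CommRingCat.Hom.hom (Scheme.Hom.stalkMap_comp v d x))
  haveI : IsLocalHom (algebraMap (F₁.presheaf.stalk (v x)) (F₂.presheaf.stalk x)) :=
    inferInstanceAs <| IsLocalHom (v.stalkMap x).hom
  haveI : Module.Flat (F₁.presheaf.stalk (v x)) (F₂.presheaf.stalk x) := Flat.stalkMap v x
  haveI : Module.FaithfullyFlat (F₁.presheaf.stalk (v x)) (F₂.presheaf.stalk x) :=
    Module.FaithfullyFlat.of_flat_of_isLocalHom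
  haveI : Module.Flat (X₀.presheaf.stalk (d (v x))) (F₂.presheaf.stalk x) := h1
  exact (Groth.Agent.S5064.flat_of_faithfullyFlat_of_flat (X₀.presheaf.stalk (d (v x)))
    (F₁.presheaf.stalk (v x)) (F₂.presheaf.stalk x) : Module.Flat _ _)

end Helpers

/-- In a cartesian square of schemes `F₂ = F₁ ×_{X₀} X₁` whose bottom map `u : X₁ ⟶ X₀` is flat, the
base-changed map `d' : F₂ ⟶ X₁` is flat at a point `x` if and only if `d : F₁ ⟶ X₀` is flat at the
image of `x` in `F₁`. -/
theorem result {F₂ F₁ X₁ X₀ : Scheme.{u}}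
    {v : F₂ ⟶ F₁} {d' : F₂ ⟶ X₁} {d : F₁ ⟶ X₀} {u : X₁ ⟶ X₀}
    (h : IsPullback v d' d u) [Flat u] (x : F₂) :
    (d'.stalkMap x).hom.Flat ↔ (d.stalkMap (v.base x)).hom.Flat := by
  constructor
  · exact fun hd' => flat_at_descend h x hd'
  · exact fun hd => flat_at_of_isPullback h x hd

end Groth.Agent.S5223
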