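import Groth.Statements.S5224
import Mathlib
import Groth.Agent.Lib.Helper18.QuotShLib

set_option autoImplicit false
open CategoryTheory CategoryTheory.Limits AlgebraicGeometry
universe u
open GrpQ

namespace Groth.Agent.S5224

/-- For the fppf topology: let `s, t : R ⇉ U` be an equivalence relation of schemes over `S` with `s`
faithfully flat and locally of finite presentation. A morphism `q : U ⟶ Y` over `S` is a faithfully
flat, locally finitely presented quotient with kernel pair `R` if and only if `q` identifies `h_Y`
with the fppf quotient sheaf `U/R`. -/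
theorem result {S : Scheme.{u}} {R U Y : Over S} (s t : R ⟶ U)
    [IsEquivalenceRelation s t]
    [Flat s.left] [Surjective s.left] [LocallyOfFinitePresentation s.left]
    (q : U ⟶ Y) :
    (IsKernelPair q s t ∧ Flat q.left ∧ Surjective q.left ∧ LocallyOfFinitePresentation q.left) ↔
      QuotSh.IsQuotient Scheme.fppfPrecoverage s t q := by
  haveI : (QuotSh.J (Scheme.precoverage
      (@Flat ⊓ @LocallyOfFinitePresentation : MorphismProperty Scheme.{u})) S).Subcanonical :=
    (inferInstance : (QuotSh.J Scheme.fppfPrecoverage S).Subcanonical)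
  haveI : (@Flat ⊓ @LocallyOfFinitePresentation : MorphismProperty Scheme.{u}).IsMultiplicative :=
    { id_mem := fun X => ⟨inferInstance, inferInstance⟩
      comp_mem := fun f g hf hg => by
        haveI := hf.1
        haveI := hf.2
        haveI := hg.1
        haveI := hg.2
        exact ⟨inferInstance, inferInstance⟩ }
  have hs : (@Flat ⊓ @LocallyOfFinitePresentation : MorphismProperty Scheme.{u}) s.left :=
    ⟨inferInstance, inferInstance⟩
  have key := Groth.Agent.Helper18.QuotShLib.isQuotient_iff
    (@Flat ⊓ @LocallyOfFinitePresentation : MorphismProperty Scheme.{u}) le_rfl s t hs q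
  constructor
  · rintro ⟨hk, hfl, hsurj, hfp⟩
    exact key.mp ⟨hk, ⟨hfl, hfp⟩, hsurj⟩
  · intro hq
    obtain ⟨hk, ⟨hfl, hfp⟩, hsurj⟩ := key.mpr hq
    exact ⟨hk, hfl, hsurj, hfp⟩

end Groth.Agent.S5224
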