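import Groth.Statements.S5225
import Mathlib
import Groth.Agent.Lib.Helper18.QuotShLib

set_option autoImplicit false
open CategoryTheory CategoryTheory.Limits AlgebraicGeometry
universe u
open GrpQ

namespace Groth.Agent.S5225

/-- For the étale topology: let `s, t : R ⇉ U` be an equivalence relation of schemes over `S` with `s`
étale and surjective. A morphism `q : U ⟶ Y` over `S` is an étale surjective quotient with kernel
pair `R` if and only if `q` identifies `h_Y` with the étale quotient sheaf `U/R`. -/
theorem result {S : Scheme.{u}} {R U Y : Over S} (s t : R ⟶ U)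
    [IsEquivalenceRelation s t] [Etale s.left] [Surjective s.left]
    (q : U ⟶ Y) :
    (IsKernelPair q s t ∧ Etale q.left ∧ Surjective q.left) ↔
      QuotSh.IsQuotient Scheme.etalePrecoverage s t q := by
  haveI : (QuotSh.J (Scheme.precoverage (@Etale : MorphismProperty Scheme.{u})) S).Subcanonical := by
    haveI : (Scheme.etaleTopology.{u}).Subcanonical :=
      .of_le (Scheme.etaleTopology_le_proetaleTopology.trans Scheme.proetaleTopology_le_fpqcTopology)
    exact (inferInstance : ((Scheme.etaleTopology.{u}).over S).Subcanonical)
  have hs : (@Etale : MorphismProperty Scheme.{u}) s.left := inferInstance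
  have hle : (@Etale : MorphismProperty Scheme.{u}) ≤
      (@Flat ⊓ @LocallyOfFinitePresentation : MorphismProperty Scheme.{u}) :=
    fun X Y f hf => ⟨inferInstance, inferInstance⟩
  exact Groth.Agent.Helper18.QuotShLib.isQuotient_iff
    (@Etale : MorphismProperty Scheme.{u}) hle s t hs q

end Groth.Agent.S5225
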