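import Groth.Statements.S5226
import Groth.Agent.Lib.Helper18.ShfCat
import Groth.Agent.S5215

set_option autoImplicit false
open CategoryTheory CategoryTheory.Limits
universe w v₁ u₁
open ShfCat

namespace Groth.Agent.S5226

/-- For sheaves of sets on a site with sheafification: if `R ⇉ X` is an equivalence relation with
(universally effective) quotient `X/R` and `Y ⊆ X` is a subsheaf with induced relation `R_Y`, then
the canonical map `Y/R_Y ⟶ X/R` is a monomorphism. Here `R_Y` is built as the iterated pullback of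
`R` along `Y ⟶ X` on both sides. -/
theorem result {C : Type u₁} [Category.{v₁} C]
    (J : GrothendieckTopology C) [HasSheafify J (Type w)]
    {R X Y : Sheaf J (Type w)} {p₁ p₂ : R ⟶ X} (e : UniversallyEffectiveEquivalenceRelation p₁ p₂)
    (ι : Y ⟶ X) [Mono ι]
    [HasCoequalizer (pullback.fst (pullback.fst p₁ ι ≫ p₂) ι ≫ pullback.snd p₁ ι)
      (pullback.snd (pullback.fst p₁ ι ≫ p₂) ι)]
    (g : coequalizer (pullback.fst (pullback.fst p₁ ι ≫ p₂) ι ≫ pullback.snd p₁ ι)
      (pullback.snd (pullback.fst p₁ ι ≫ p₂) ι) ⟶ e.B)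
    (hg : coequalizer.π _ _ ≫ g = ι ≫ e.π) :
    Mono g := by
  have hk : IsKernelPair (ι ≫ e.π)
      (pullback.fst (pullback.fst p₁ ι ≫ p₂) ι ≫ pullback.snd p₁ ι)
      (pullback.snd (pullback.fst p₁ ι ≫ p₂) ι) :=
    Groth.Agent.Helper18.ShfCat.isKernelPair_restrict e.isKernelPair ι
  let er : EquivalenceRelation
      (pullback.fst (pullback.fst p₁ ι ≫ p₂) ι ≫ pullback.snd p₁ ι)
      (pullback.snd (pullback.fst p₁ ι ≫ p₂) ι) :=
    hk.equivalenceRelation (ι ≫ e.π) _ _ (pullbackIsPullback _ _)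
  let e' := Groth.Agent.Helper18.ShfCat.sheafUEER J er
  have hcoeq := e'.toEffectiveEquivalenceRelation.isCoequalizer
  let iso := (colimit.isColimit (parallelPair
      (pullback.fst (pullback.fst p₁ ι ≫ p₂) ι ≫ pullback.snd p₁ ι)
      (pullback.snd (pullback.fst p₁ ι ≫ p₂) ι))).coconePointUniqueUpToIso hcoeq
  have hiso : coequalizer.π _ _ ≫ iso.hom = e'.π :=
    (colimit.isColimit _).comp_coconePointUniqueUpToIso_hom hcoeq WalkingParallelPair.one
  have h1 : e'.π ≫ iso.inv = coequalizer.π _ _ := (Iso.comp_inv_eq iso).mpr hiso.symm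
  have hg' : e'.π ≫ (iso.inv ≫ g) = ι ≫ e.π :=
    calc e'.π ≫ (iso.inv ≫ g) = (e'.π ≫ iso.inv) ≫ g := (Category.assoc _ _ _).symm
      _ = coequalizer.π _ _ ≫ g := by rw [h1]
      _ = ι ≫ e.π := hg
  have hm : Mono (iso.inv ≫ g) := (Groth.Agent.S5215.result e' (ι ≫ e.π) (iso.inv ≫ g) hg').mpr hk
  have hgeq : g = iso.hom ≫ (iso.inv ≫ g) := by rw [Iso.hom_inv_id_assoc]
  rw [hgeq]
  exact mono_comp _ _

end Groth.Agent.S5226
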