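import Groth.Statements.S5228
import Mathlib
import Groth.Agent.Lib.Helper18.DiagRigid

set_option autoImplicit false
universe w u
open HopfRep

namespace Groth.Agent.S5228

open TensorProduct Groth.Agent.Helper18.DiagRigid

section

variable {k : Type u} [CommRing k] {M : Type u} [CommGroup M]
variable {V : Type w} [AddCommGroup V] [Module k V] [HopfRep.Comod k (MonoidAlgebra k M) V]

/-- coefficient extraction on `V ⊗ k[M]` -/
noncomputable def qq (m : M) : V ⊗[k] MonoidAlgebra k M →ₗ[k] V :=
  (TensorProduct.rid k V).toLinearMap ∘ₗ LinearMap.lTensor V (cf (R := k) m)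

theorem qq_tmul (m : M) (v : V) (b : MonoidAlgebra k M) :
    qq (k := k) (M := M) m (v ⊗ₜ[k] b) = cf m b • v := by
  simp [qq]

/-- weight projection -/
noncomputable def pp (m : M) : V →ₗ[k] V :=
  qq (k := k) (M := M) m ∘ₗ HopfRep.Comod.coact (k := k) (A := MonoidAlgebra k M)

theorem pp_apply (m : M) (v : V) :
    pp (k := k) (M := M) m v
      = qq (k := k) (M := M) m (HopfRep.Comod.coact (k := k) (A := MonoidAlgebra k M) v) := rfl

theorem alg_decomp (b : MonoidAlgebra k M) (F' : Finset M)
    (hF : ∀ m, m ∉ F' → cf m b = 0) :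
    b = ∑ m ∈ F', cf m b • MonoidAlgebra.single m (1 : k) := by
  classical
  apply ext_cf
  intro m'
  rw [map_sum]
  simp only [map_smul, cf_single, smul_eq_mul, mul_ite, mul_one, mul_zero]
  rw [Finset.sum_ite_eq' F' m' (fun m => cf m b)]
  by_cases h : m' ∈ F'
  · rw [if_pos h]
  · rw [if_neg h, hF m' h]

theorem tensor_decomp (t : V ⊗[k] MonoidAlgebra k M) :
    ∃ F : Finset M, ∀ F' : Finset M, F ⊆ F' →
      t = ∑ m ∈ F', qq (k := k) (M := M) m t ⊗ₜ[k] MonoidAlgebra.single m (1 : k) := by
  classical
  induction t using TensorProduct.induction_on with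
  | zero =>
    refine ⟨∅, fun F' _ => ?_⟩
    simp
  | tmul v b =>
    refine ⟨(MonoidAlgebra.coeffLinearEquiv k b).support, fun F' hF' => ?_⟩
    have hb := alg_decomp b F' (fun m hm => by
      have : m ∉ (MonoidAlgebra.coeffLinearEquiv k b).support := fun h => hm (hF' h)
      exact Finsupp.notMem_support_iff.mp this)
    conv_lhs => rw [hb]
    rw [TensorProduct.tmul_sum]
    apply Finset.sum_congr rfl
    intro m _
    rw [qq_tmul, TensorProduct.tmul_smul, TensorProduct.smul_tmul']
  | add x y hx hy =>
    obtain ⟨F₁, h₁⟩ := hx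
    obtain ⟨F₂, h₂⟩ := hy
    refine ⟨F₁ ∪ F₂, fun F' hF' => ?_⟩
    conv_lhs => rw [h₁ F' (Finset.union_subset_left hF'), h₂ F' (Finset.union_subset_right hF')]
    rw [← Finset.sum_add_distrib]
    apply Finset.sum_congr rfl
    intro m _
    rw [map_add, TensorProduct.add_tmul]

theorem coact_decomp (v : V) :
    ∃ F : Finset M, ∀ F' : Finset M, F ⊆ F' →
      v = ∑ m ∈ F', pp (k := k) (M := M) m v ∧
      HopfRep.Comod.coact (k := k) (A := MonoidAlgebra k M) v
        = ∑ m ∈ F', pp (k := k) (M := M) m v ⊗ₜ[k] MonoidAlgebra.single m (1 : k) := by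
  obtain ⟨F, hF⟩ := tensor_decomp (HopfRep.Comod.coact (k := k) (A := MonoidAlgebra k M) v)
  refine ⟨F, fun F' hF' => ?_⟩
  have h2 := hF F' hF'
  refine ⟨?_, h2⟩
  have h3 := LinearMap.congr_fun
    (HopfRep.Comod.counit_comp (k := k) (A := MonoidAlgebra k M) (V := V)) v
  rw [LinearMap.comp_apply, h2, map_sum] at h3
  have h4 := congrArg (TensorProduct.rid k V) h3
  rw [map_sum] at h4
  simp only [LinearMap.lTensor_tmul, MonoidAlgebra.counit_single, CommSemiring.counit_apply,
    TensorProduct.rid_tmul, one_smul, LinearMap.flip_apply, TensorProduct.mk_apply] at h4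
  exact h4.symm

theorem pp_mem_of_subcomod (W : Submodule k V)
    (hW : HopfRep.IsSubcomod (k := k) (A := MonoidAlgebra k M) W) (m : M) (w : V) (hw : w ∈ W) :
    pp (k := k) (M := M) m w ∈ W := by
  obtain ⟨s, hs⟩ := hW w hw
  rw [pp_apply, ← hs]
  clear hs
  induction s using TensorProduct.induction_on with
  | zero => simp
  | tmul w' a =>
    rw [LinearMap.rTensor_tmul, qq_tmul]
    exact W.smul_mem _ w'.2
  | add x y hx hy =>
    rw [map_add, map_add]
    exact W.add_mem hx hy

/-- two-variable coefficient extraction -/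
noncomputable def LL (m m' : M) :
    V ⊗[k] (MonoidAlgebra k M ⊗[k] MonoidAlgebra k M) →ₗ[k] V :=
  (TensorProduct.rid k V).toLinearMap ∘ₗ
    LinearMap.lTensor V (LinearMap.mul' k k ∘ₗ TensorProduct.map (cf (R := k) m) (cf (R := k) m'))

theorem LL_assoc (m m' : M) (s : V ⊗[k] MonoidAlgebra k M) (a' : MonoidAlgebra k M) :
    LL (k := k) (M := M) (V := V) m m'
      (TensorProduct.assoc k V (MonoidAlgebra k M) (MonoidAlgebra k M) (s ⊗ₜ[k] a'))
      = cf m' a' • qq (k := k) (M := M) m s := by
  induction s using TensorProduct.induction_on with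
  | zero => simp
  | tmul x b =>
    rw [TensorProduct.assoc_tmul, qq_tmul]
    simp only [LL, LinearMap.comp_apply, LinearMap.lTensor_tmul, TensorProduct.map_tmul,
      LinearMap.mul'_apply, LinearEquiv.coe_coe, TensorProduct.rid_tmul]
    rw [smul_smul, mul_comm]
  | add x y hx hy =>
    rw [TensorProduct.add_tmul, map_add, map_add, hx, hy, map_add, smul_add]

theorem pp_pp [DecidableEq M] (m m' : M) (v : V) :
    pp (k := k) (M := M) m (pp (k := k) (M := M) m' v)
      = if m = m' then pp (k := k) (M := M) m v else 0 := by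
  classical
  have hco := LinearMap.congr_fun
    (HopfRep.Comod.coassoc (k := k) (A := MonoidAlgebra k M) (V := V)) v
  have hL := congrArg (LL (k := k) (M := M) (V := V) m m') hco
  simp only [LinearMap.comp_apply] at hL
  have hleft : ∀ t : V ⊗[k] MonoidAlgebra k M,
      LL (k := k) (M := M) (V := V) m m'
        ((TensorProduct.assoc k V (MonoidAlgebra k M) (MonoidAlgebra k M)).toLinearMap
          (LinearMap.rTensor (MonoidAlgebra k M)
            (HopfRep.Comod.coact (k := k) (A := MonoidAlgebra k M)) t))
        = pp (k := k) (M := M) m (qq (k := k) (M := M) m' t) := by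
    intro t
    induction t using TensorProduct.induction_on with
    | zero => simp
    | tmul v' a' =>
      rw [LinearMap.rTensor_tmul, LinearEquiv.coe_coe, LL_assoc, qq_tmul, map_smul, pp_apply]
    | add x y hx hy =>
      rw [map_add, map_add, map_add, hx, hy, map_add, map_add]
  have hright : ∀ t : V ⊗[k] MonoidAlgebra k M,
      LL (k := k) (M := M) (V := V) m m'
        (LinearMap.lTensor V (CoalgebraStruct.comul (R := k) (A := MonoidAlgebra k M)) t)
        = if m = m' then qq (k := k) (M := M) m t else 0 := by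
    intro t
    induction t using TensorProduct.induction_on with
    | zero => simp
    | tmul v' a =>
      rw [LinearMap.lTensor_tmul]
      simp only [LL, LinearMap.comp_apply, LinearMap.lTensor_tmul, LinearEquiv.coe_coe,
        TensorProduct.rid_tmul]
      rw [cf_comul, qq_tmul]
      split_ifs
      · rfl
      · rw [zero_smul]
    | add x y hx hy =>
      rw [map_add, map_add, hx, hy]
      split_ifs
      · rw [map_add]
      · rw [add_zero]
  rw [hleft, hright] at hL
  exact hL

end


/-- Over an affine base, in comodule form: for a representation `V` of a diagonalizable group `D(M)`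
over a commutative ring `k` (a `k[M]`-comodule), every sub-representation which is a direct summand
as a `k`-module is a direct summand as a representation. (The published statement: a short exact
sequence of quasi-coherent `D(M)`-modules that splits as a sequence of modules splits
equivariantly.) -/
theorem result {k : Type u} [CommRing k] {M : Type u} [CommGroup M]
    (V : Type w) [AddCommGroup V] [Module k V] [HopfRep.Comod k (MonoidAlgebra k M) V]
    (W : Submodule k V) (hW : HopfRep.IsSubcomod (k := k) (A := MonoidAlgebra k M) W)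
    (hsplit : ∃ W' : Submodule k V, IsCompl W W') :
    ∃ W'' : Submodule k V, HopfRep.IsSubcomod (k := k) (A := MonoidAlgebra k M) W'' ∧ IsCompl W W'' := by
  classical
  obtain ⟨W', hW'⟩ := hsplit
  obtain ⟨π', hπ'def⟩ : ∃ π' : V →ₗ[k] V,
      π' = W.subtype ∘ₗ (Submodule.projectionOnto W W' hW') := ⟨_, rfl⟩
  have hπmem : ∀ v, π' v ∈ W := by
    intro v; rw [hπ'def]; exact Submodule.coe_mem _
  have hπid : ∀ w ∈ W, π' w = w := by
    intro w hw
    rw [hπ'def, LinearMap.comp_apply,
      Submodule.projectionOnto_apply_left hW' ⟨w, hw⟩]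
    rfl
  have hpW : ∀ m, ∀ w ∈ W, pp (k := k) (M := M) (V := V) m w ∈ W := pp_mem_of_subcomod W hW
  obtain ⟨E, hE⟩ : ∃ E : M → (V →ₗ[k] V),
      E = fun m => pp (k := k) (M := M) (V := V) m ∘ₗ π' ∘ₗ pp (k := k) (M := M) (V := V) m :=
    ⟨_, rfl⟩
  have hEapp : ∀ m v, E m v = pp (k := k) (M := M) (V := V) m
      (π' (pp (k := k) (M := M) (V := V) m v)) := by
    intro m v; rw [hE]; rfl
  have hEW : ∀ m v, E m v ∈ W := fun m v => by
    rw [hEapp]; exact hpW m _ (hπmem _)
  have hEE : ∀ m v, E m (E m v) = E m v := by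
    intro m v
    rw [hEapp m (E m v), hEapp m v, pp_pp, if_pos rfl, hπid _ (hpW m _ (hπmem _)), pp_pp,
      if_pos rfl]
  have hEp : ∀ m m' v, E m' (pp (k := k) (M := M) (V := V) m v)
      = if m' = m then E m v else 0 := by
    intro m m' v
    rw [hEapp, pp_pp]
    by_cases h : m' = m
    · subst h
      rw [if_pos rfl, if_pos rfl, hEapp]
    · rw [if_neg h, if_neg h, map_zero, map_zero]
  refine ⟨⨅ m, LinearMap.ker (E m), ?_, ?_⟩
  · -- subcomodule
    intro v hv
    rw [Submodule.mem_iInf] at hv
    have hpmem : ∀ m, pp (k := k) (M := M) (V := V) m v ∈ ⨅ m', LinearMap.ker (E m') := by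
      intro m
      rw [Submodule.mem_iInf]
      intro m'
      rw [LinearMap.mem_ker, hEp]
      by_cases h : m' = m
      · rw [if_pos h]; exact LinearMap.mem_ker.mp (hv m)
      · rw [if_neg h]
    obtain ⟨F, hF⟩ := coact_decomp (k := k) (M := M) v
    rw [(hF F (Finset.Subset.refl F)).2]
    refine ⟨∑ m ∈ F, (⟨pp (k := k) (M := M) (V := V) m v, hpmem m⟩ :
      ↥(⨅ m', LinearMap.ker (E m'))) ⊗ₜ[k] MonoidAlgebra.single m (1 : k), ?_⟩
    rw [map_sum]
    apply Finset.sum_congr rfl
    intro m _
    rfl
  · constructor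
    · rw [Submodule.disjoint_def]
      intro v hvW hv
      rw [Submodule.mem_iInf] at hv
      obtain ⟨F, hF⟩ := coact_decomp (k := k) (M := M) v
      rw [(hF F (Finset.Subset.refl F)).1]
      apply Finset.sum_eq_zero
      intro m _
      have h1 := LinearMap.mem_ker.mp (hv m)
      rw [hEapp, hπid _ (hpW m v hvW), pp_pp, if_pos rfl] at h1
      exact h1
    · rw [codisjoint_iff, eq_top_iff]
      intro v _
      obtain ⟨F, hF⟩ := coact_decomp (k := k) (M := M) v
      rw [(hF F (Finset.Subset.refl F)).1]
      apply Submodule.sum_mem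
      intro m _
      have hsplit2 : pp (k := k) (M := M) (V := V) m v
          = E m v + (pp (k := k) (M := M) (V := V) m v - E m v) := by abel
      rw [hsplit2]
      apply Submodule.add_mem
      · exact Submodule.mem_sup_left (hEW m v)
      · apply Submodule.mem_sup_right
        rw [Submodule.mem_iInf]
        intro m'
        rw [LinearMap.mem_ker, map_sub, hEp]
        by_cases h : m' = m
        · subst h
          rw [if_pos rfl, hEE, sub_self]
        · rw [if_neg h, zero_sub, neg_eq_zero, hEapp m' (E m v), hEapp m v, pp_pp, if_neg h,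
            map_zero, map_zero]

end Groth.Agent.S5228
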