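import Groth.Statements.S5233
import Mathlib

set_option autoImplicit false
open CategoryTheory CategoryTheory.Limits AlgebraicGeometry
universe u
open GrpQ

namespace Groth.Agent.S5233

private lemma toImage_dominant {X Y : Scheme.{u}} (f : X ⟶ Y) [QuasiCompact f] :
    IsSchemeTheoreticallyDominant f.toImage := by
  rw [isSchemeTheoreticallyDominant_iff]
  refine Scheme.IdealSheafData.ext_of_iSup_eq_top
    (fun U : Y.affineOpens => ⟨f.imageι ⁻¹ᵁ U.1, U.2.preimage f.imageι⟩) ?_ ?_
  · exact f.imageι.iSup_preimage_eq_top (iSup_affineOpens_eq_top Y)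
  · intro U
    simp only [Scheme.Hom.ker_apply, Scheme.IdealSheafData.ideal_bot, Pi.bot_apply]
    exact (RingHom.injective_iff_ker_eq_bot _).mp (f.toImage_app_injective U)

private lemma le_of_pullback_le {X X' : Scheme.{u}} (π : X ⟶ X')
    [Flat π] [Surjective π] [QuasiCompact π] (A B : Subobject X')
    [IsClosedImmersion A.arrow] [IsClosedImmersion B.arrow]
    (hAB : (Subobject.pullback π).obj A ≤ (Subobject.pullback π).obj B) : A ≤ B := by
  have sqA := Subobject.isPullback π A
  have sqB := Subobject.isPullback π B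
  obtain ⟨u, hu⟩ : ∃ u : ((Subobject.pullback π).obj A : Scheme.{u}) ⟶
      ((Subobject.pullback π).obj B : Scheme.{u}),
      u ≫ ((Subobject.pullback π).obj B).arrow = ((Subobject.pullback π).obj A).arrow :=
    ⟨Subobject.ofLE _ _ hAB, Subobject.ofLE_arrow hAB⟩
  obtain ⟨tA, htA⟩ : ∃ t, t = Subobject.pullbackπ π A := ⟨_, rfl⟩
  obtain ⟨tB, htB⟩ : ∃ t, t = Subobject.pullbackπ π B := ⟨_, rfl⟩
  rw [← htA] at sqA
  rw [← htB] at sqB
  have hcov : (@Surjective ⊓ @Flat ⊓ @QuasiCompact : MorphismProperty Scheme.{u}) tA :=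
    ⟨⟨MorphismProperty.of_isPullback (P := @Surjective) sqA.flip ‹_›,
      MorphismProperty.of_isPullback (P := @Flat) sqA.flip ‹_›⟩,
      MorphismProperty.of_isPullback (P := @QuasiCompact) sqA.flip ‹_›⟩
  have hw : tA ≫ A.arrow = (u ≫ tB) ≫ B.arrow := by
    rw [sqA.w, Category.assoc, sqB.w, ← Category.assoc, hu]
  obtain ⟨ℓ, hℓ1, hℓ2⟩ : ∃ ℓ : ((Subobject.pullback π).obj A : Scheme.{u}) ⟶
      pullback A.arrow B.arrow, ℓ ≫ pullback.fst A.arrow B.arrow = tA ∧
        ℓ ≫ pullback.snd A.arrow B.arrow = u ≫ tB :=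
    ⟨pullback.lift tA (u ≫ tB) hw, pullback.lift_fst _ _ _, pullback.lift_snd _ _ _⟩
  have hiso : (MorphismProperty.isomorphisms Scheme.{u}) (pullback.fst A.arrow B.arrow) := by
    refine MorphismProperty.of_isPullback_of_descendsAlong
      (P := MorphismProperty.isomorphisms Scheme.{u})
      (Q := (@Surjective ⊓ @Flat ⊓ @QuasiCompact : MorphismProperty Scheme.{u}))
      (IsPullback.of_hasPullback tA (pullback.fst A.arrow B.arrow)) hcov ?_
    show IsIso (pullback.fst tA (pullback.fst A.arrow B.arrow))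
    haveI : IsSplitEpi (pullback.fst tA (pullback.fst A.arrow B.arrow)) :=
      IsSplitEpi.mk' ⟨pullback.lift (𝟙 _) ℓ (by rw [Category.id_comp, hℓ1]),
        pullback.lift_fst _ _ _⟩
    exact isIso_of_mono_of_isSplitEpi _
  haveI : IsIso (pullback.fst A.arrow B.arrow) := hiso
  refine Subobject.le_of_comm (inv (pullback.fst A.arrow B.arrow) ≫
    pullback.snd A.arrow B.arrow) ?_
  rw [Category.assoc, ← pullback.condition, IsIso.inv_hom_id_assoc]

private lemma surj_aux {X X' : Scheme.{u}} (π : X ⟶ X')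
    [Flat π] [Surjective π] [QuasiCompact π] (Y : Subobject X) [IsClosedImmersion Y.arrow]
    (hst : (Subobject.pullback (pullback.fst π π)).obj Y =
      (Subobject.pullback (pullback.snd π π)).obj Y) :
    Y ∈ (Subobject.pullback π).obj '' {Y' : Subobject X' | IsClosedImmersion Y'.arrow} := by
  -- the two pullback squares over `R = X ×_{X'} X` with the same left leg
  have sq1 := Subobject.isPullback (pullback.fst π π) Y
  have h2 : ∃ t2 : ((Subobject.pullback (pullback.snd π π)).obj Y : Scheme.{u}) ⟶ (Y : Scheme.{u}),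
      IsPullback t2 ((Subobject.pullback (pullback.snd π π)).obj Y).arrow Y.arrow
        (pullback.snd π π) := ⟨_, Subobject.isPullback (pullback.snd π π) Y⟩
  rw [← hst] at h2
  obtain ⟨t2, sq2⟩ := h2
  obtain ⟨t1, ht1⟩ : ∃ t, t = Subobject.pullbackπ (pullback.fst π π) Y := ⟨_, rfl⟩
  rw [← ht1] at sq1
  obtain ⟨a, ha⟩ : ∃ a, a = ((Subobject.pullback (pullback.fst π π)).obj Y).arrow := ⟨_, rfl⟩
  rw [← ha] at sq1 sq2
  -- the scheme theoretic image of `Y ⟶ X ⟶ X'`
  obtain ⟨i, hi⟩ : ∃ i, i = Y.arrow := ⟨_, rfl⟩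
  rw [← hi] at sq1 sq2
  haveI : IsClosedImmersion i := hi ▸ inferInstance
  obtain ⟨h, hh⟩ : ∃ h, h = i ≫ π := ⟨_, rfl⟩
  haveI : QuasiCompact h := hh ▸ inferInstance
  haveI := toImage_dominant h
  obtain ⟨τ, hτ⟩ : ∃ τ, τ = h.toImage := ⟨_, rfl⟩
  obtain ⟨ι, hι⟩ : ∃ ι, ι = h.imageι := ⟨_, rfl⟩
  haveI : IsClosedImmersion ι := hι ▸ inferInstance
  haveI : QuasiCompact τ := hτ ▸ inferInstance
  haveI : IsSchemeTheoreticallyDominant τ := hτ ▸ inferInstance
  have hτι : τ ≫ ι = i ≫ π := by rw [hτ, hι, h.toImage_imageι, hh]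
  -- `Z = π⁻¹(Y')`
  obtain ⟨j, hj1, hj2⟩ : ∃ j : (Y : Scheme.{u}) ⟶ pullback ι π,
      j ≫ pullback.fst ι π = τ ∧ j ≫ pullback.snd ι π = i :=
    ⟨pullback.lift τ i hτι, pullback.lift_fst _ _ _, pullback.lift_snd _ _ _⟩
  haveI : IsClosedImmersion (j ≫ pullback.snd ι π) := hj2 ▸ inferInstance
  haveI : IsClosedImmersion j := IsClosedImmersion.of_comp_isClosedImmersion j (pullback.snd ι π)
  -- `W = Y ×_{Y'} Z`
  have hdom : IsSchemeTheoreticallyDominant (pullback.snd τ (pullback.fst ι π)) := inferInstance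
  have hcomp : (pullback.fst τ (pullback.fst ι π) ≫ i) ≫ π =
      (pullback.snd τ (pullback.fst ι π) ≫ pullback.snd ι π) ≫ π := by
    rw [Category.assoc, ← hτι, ← Category.assoc, pullback.condition, Category.assoc,
      pullback.condition, Category.assoc]
  obtain ⟨r, hr1, hr2⟩ : ∃ r : pullback τ (pullback.fst ι π) ⟶ pullback π π,
      r ≫ pullback.fst π π = pullback.fst τ (pullback.fst ι π) ≫ i ∧
      r ≫ pullback.snd π π = pullback.snd τ (pullback.fst ι π) ≫ pullback.snd ι π :=
    ⟨pullback.lift _ _ hcomp, pullback.lift_fst _ _ _, pullback.lift_snd _ _ _⟩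
  obtain ⟨s, hs1, hs2⟩ : ∃ s, s ≫ t1 = pullback.fst τ (pullback.fst ι π) ∧ s ≫ a = r :=
    ⟨sq1.lift _ _ hr1.symm, sq1.lift_fst _ _ _, sq1.lift_snd _ _ _⟩
  have hψ : (s ≫ t2) ≫ j = pullback.snd τ (pullback.fst ι π) := by
    rw [← cancel_mono (pullback.snd ι π), Category.assoc, hj2, Category.assoc, sq2.w,
      ← Category.assoc, hs2, hr2]
  have hker : j.ker = ⊥ := by
    have h1 := Scheme.Hom.le_ker_comp (s ≫ t2) j
    rw [hψ, hdom.ker_eq_bot] at h1
    exact le_bot_iff.mp h1
  haveI : IsIso j := IsClosedImmersion.isIso_iff_ker_eq_bot.mpr hker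
  have sq : IsPullback τ i ι π :=
    IsPullback.of_iso_pullback ⟨hτι⟩ (asIso j) hj1 hj2
  refine ⟨Subobject.mk ι, ?_, ?_⟩
  · show IsClosedImmersion (Subobject.mk ι).arrow
    rw [← Subobject.underlyingIso_hom_comp_eq_mk]
    infer_instance
  · show (Subobject.pullback π).obj (Subobject.mk ι) = Y
    rw [Subobject.pullback_obj_mk sq]
    subst hi
    exact Subobject.mk_arrow Y

/-- For schemes, with (M) the faithfully flat quasi-compact morphisms and (N) the closed immersions: if
`π : X ⟶ X'` is flat, surjective and quasi-compact (so `X' = X/R` for its kernel pair `R ⇉ X`), then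
`Y' ↦ π⁻¹(Y')` is a bijection from closed subschemes of `X'` onto the closed subschemes of `X`
stable under `R`. -/
theorem result {X X' : Scheme.{u}} (π : X ⟶ X')
    [Flat π] [Surjective π] [QuasiCompact π] :
    Set.BijOn (Subobject.pullback π).obj
      {Y' : Subobject X' | IsClosedImmersion Y'.arrow}
      {Y : Subobject X | IsClosedImmersion Y.arrow ∧
        (Subobject.pullback (pullback.fst π π)).obj Y = (Subobject.pullback (pullback.snd π π)).obj Y} := by
  refine ⟨?_, ?_, ?_⟩
  · -- MapsTo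
    intro Y' hY'
    have hY'' : IsClosedImmersion Y'.arrow := hY'
    refine ⟨MorphismProperty.of_isPullback (P := @IsClosedImmersion)
      (Subobject.isPullback π Y') hY'', ?_⟩
    rw [← Subobject.pullback_comp, ← Subobject.pullback_comp, pullback.condition]
  · -- InjOn
    intro A hA B hB hAB
    have hA' : IsClosedImmersion A.arrow := hA
    have hB' : IsClosedImmersion B.arrow := hB
    have hAB' : (Subobject.pullback π).obj A = (Subobject.pullback π).obj B := hAB
    exact le_antisymm (le_of_pullback_le π A B hAB'.le) (le_of_pullback_le π B A hAB'.ge)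
  · -- SurjOn
    rintro Y ⟨hY, hst⟩
    have hY' : IsClosedImmersion Y.arrow := hY
    exact surj_aux π Y hst

end Groth.Agent.S5233
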