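import Groth.Statements.S5234
import Mathlib

set_option autoImplicit false
open CategoryTheory CategoryTheory.Limits AlgebraicGeometry MonoidalCategory
universe u
open RedSub

namespace Groth.Agent.S5234

private lemma flat_codescends :
    RingHom.CodescendsAlong RingHom.Flat RingHom.FaithfullyFlat := by
  refine .mk _ RingHom.Flat.respectsIso fun R S T _ _ _ _ _ h h' ↦ ?_
  rw [RingHom.flat_algebraMap_iff] at h' ⊢
  rw [RingHom.faithfullyFlat_algebraMap_iff] at h
  exact Module.Flat.of_flat_tensorProduct R T S

private instance flat_descends_fpqc :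
    MorphismProperty.DescendsAlong @Flat (@Surjective ⊓ @Flat ⊓ @QuasiCompact) :=
  HasRingHomProperty.descendsAlong_flat flat_codescends

open CartesianMonoidalCategory in
private lemma key {S : Scheme.{u}} {G X S' : Over S}
    [Flat G.hom] [Surjective G.hom] [LocallyOfFinitePresentation G.hom]
    (act : G ⊗ X ⟶ X) (hX : IsIso (lift act (snd G X))) (x : S' ⟶ X) :
    Surjective (pullback.snd X.hom S'.hom) ∧ Flat (pullback.snd X.hom S'.hom) ∧
      LocallyOfFinitePresentation (pullback.snd X.hom S'.hom) := by
  haveI := hX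
  obtain ⟨ψi, h1, h2⟩ : ∃ ψi : X ⊗ X ⟶ G ⊗ X, lift act (snd G X) ≫ ψi = 𝟙 _ ∧
      ψi ≫ lift act (snd G X) = 𝟙 _ :=
    ⟨inv (lift act (snd G X)), IsIso.hom_inv_id _, IsIso.inv_hom_id _⟩
  obtain ⟨φ, hφ⟩ : ∃ φ : G ⊗ S' ⟶ X ⊗ S', φ = lift ((G ◁ x) ≫ act) (snd G S') := ⟨_, rfl⟩
  obtain ⟨θ, hθ⟩ : ∃ θ : X ⊗ S' ⟶ G ⊗ S',
      θ = lift ((X ◁ x) ≫ ψi ≫ fst G X) (snd X S') := ⟨_, rfl⟩
  have hψsnd : ψi ≫ snd G X = snd X X := by
    have := congrArg (fun t => ψi ≫ t) (lift_snd act (snd G X))
    simp only [← Category.assoc, h2, Category.id_comp] at this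
    exact this.symm
  have hψact : ψi ≫ act = fst X X := by
    have := congrArg (fun t => ψi ≫ t) (lift_fst act (snd G X))
    simp only [← Category.assoc, h2, Category.id_comp] at this
    exact this.symm
  have hφθ : φ ≫ θ = 𝟙 _ := by
    rw [hφ, hθ]
    apply CartesianMonoidalCategory.hom_ext
    · simp only [Category.assoc, lift_fst, Category.id_comp]
      have e : lift ((G ◁ x) ≫ act) (snd G S') ≫ (X ◁ x) = (G ◁ x) ≫ lift act (snd G X) := by
        apply CartesianMonoidalCategory.hom_ext <;> simp
      rw [← Category.assoc, e, Category.assoc, ← Category.assoc (lift act (snd G X)), h1,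
        Category.id_comp, whiskerLeft_fst]
    · simp only [Category.assoc, lift_snd, Category.id_comp]
  have hθφ : θ ≫ φ = 𝟙 _ := by
    have e : θ ≫ (G ◁ x) = (X ◁ x) ≫ ψi := by
      rw [hθ]
      apply CartesianMonoidalCategory.hom_ext
      · simp only [Category.assoc, whiskerLeft_fst, lift_fst]
      · simp only [Category.assoc, whiskerLeft_snd, lift_snd_assoc, hψsnd]
    rw [hφ]
    apply CartesianMonoidalCategory.hom_ext
    · simp only [Category.assoc, lift_fst, Category.id_comp]
      rw [← Category.assoc, e, Category.assoc, hψact, whiskerLeft_fst]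
    · simp only [Category.assoc, lift_snd, Category.id_comp]
      rw [hθ, lift_snd]
  have hsnd : snd X S' = θ ≫ snd G S' := by rw [hθ, lift_snd]
  haveI : IsIso θ := ⟨φ, hθφ, hφθ⟩
  haveI : IsIso θ.left := inferInstanceAs (IsIso ((Over.forget S).map θ))
  have hl : pullback.snd X.hom S'.hom = θ.left ≫ pullback.snd G.hom S'.hom := by
    have := congrArg (fun t => t.left) hsnd
    simpa only [Over.comp_left, Over.snd_left] using this
  rw [hl]
  exact ⟨inferInstance, inferInstance, inferInstance⟩

open CartesianMonoidalCategory SemiCartesianMonoidalCategory in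
/-- (ii) ⇔ (iii), for schemes with the fppf topology: let `G` be an `S`-group scheme which is faithfully
flat and locally of finite presentation over `S`, acting on `X` so that `X` is formally principal
homogeneous. Then `X` is a torsor (its structure map is faithfully flat and locally of finite
presentation) if and only if `X` has a point over some faithfully flat, locally finitely presented
`S' ⟶ S`. -/
theorem result {S : Scheme.{u}} {G X : Over S} [GrpObj G]
    (a : AlgGrp.Action G X)
    [Flat G.hom] [Surjective G.hom] [LocallyOfFinitePresentation G.hom]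
    (hX : IsIso (lift a.act (snd G X))) :
    RedSub.IsTorsor a ↔
      ∃ S' : Over S, Surjective S'.hom ∧ Flat S'.hom ∧ LocallyOfFinitePresentation S'.hom ∧
        Nonempty (S' ⟶ X) := by

  constructor
  · rintro ⟨h1, h2, h3, -⟩
    exact ⟨X, h1, h2, h3, ⟨𝟙 X⟩⟩
  · rintro ⟨S', h1, h2, h3, ⟨x⟩⟩
    obtain ⟨k1, k2, k3⟩ := key a.act hX x
    have sq : IsPullback (pullback.snd X.hom S'.hom) (pullback.fst X.hom S'.hom) S'.hom X.hom :=
      (IsPullback.of_hasPullback X.hom S'.hom).flip
    have hQ : (@Surjective ⊓ @Flat ⊓ @LocallyOfFinitePresentation :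
        MorphismProperty Scheme.{u}) S'.hom := ⟨⟨h1, h2⟩, h3⟩
    refine ⟨?_, ?_, ?_, hX⟩
    · exact MorphismProperty.of_isPullback_of_descendsAlong (P := @Surjective) sq hQ k1
    · exact MorphismProperty.of_isPullback_of_descendsAlong (P := @Flat) sq hQ k2
    · exact MorphismProperty.of_isPullback_of_descendsAlong
        (P := @LocallyOfFinitePresentation) sq hQ k3


end Groth.Agent.S5234
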