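import Groth.Statements.S5235
import Mathlib

set_option autoImplicit false
open CategoryTheory CategoryTheory.Limits AlgebraicGeometry
universe u
open GrpQ

namespace Groth.Agent.S5235

private lemma range_pullback_arrow {X Y : Scheme.{u}} (f : X ⟶ Y) (y : Subobject Y) :
    Set.range ⇑((Subobject.pullback f).obj y).arrow = ⇑f ⁻¹' Set.range ⇑y.arrow := by
  have sq := Subobject.isPullback f y
  ext x
  constructor
  · rintro ⟨a, rfl⟩
    refine ⟨(Subobject.pullbackπ f y) a, ?_⟩
    rw [← Scheme.Hom.comp_apply, ← Scheme.Hom.comp_apply, sq.w]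
  · rintro ⟨b, hb⟩
    obtain ⟨p, hp1, hp2⟩ := Scheme.exists_preimage_of_isPullback sq b x hb
    exact ⟨p, hp2⟩

private lemma eq_of_range_eq {X : Scheme.{u}} (A B : Subobject X)
    [IsOpenImmersion A.arrow] [IsOpenImmersion B.arrow]
    (h : Set.range ⇑A.arrow = Set.range ⇑B.arrow) : A = B :=
  Subobject.eq_of_comm (IsOpenImmersion.isoOfRangeEq A.arrow B.arrow h)
    (IsOpenImmersion.isoOfRangeEq_hom_fac _ _ _)

/-- For schemes, with (M) the faithfully flat quasi-compact morphisms and (N) the open immersions: if `π
: X ⟶ X'` is flat, surjective and quasi-compact, then `Y' ↦ π⁻¹(Y')` is a bijection from open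
subschemes of `X'` onto the open subschemes of `X` stable under the kernel pair of `π`. -/
theorem result {X X' : Scheme.{u}} (π : X ⟶ X')
    [Flat π] [Surjective π] [QuasiCompact π] :
    Set.BijOn (Subobject.pullback π).obj
      {Y' : Subobject X' | IsOpenImmersion Y'.arrow}
      {Y : Subobject X | IsOpenImmersion Y.arrow ∧
        (Subobject.pullback (pullback.fst π π)).obj Y = (Subobject.pullback (pullback.snd π π)).obj Y} := by
  refine ⟨?_, ?_, ?_⟩
  · -- MapsTo
    intro Y' hY'
    have hY'' : IsOpenImmersion Y'.arrow := hY'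
    refine ⟨MorphismProperty.of_isPullback (P := @IsOpenImmersion)
      (Subobject.isPullback π Y') hY'', ?_⟩
    rw [← Subobject.pullback_comp, ← Subobject.pullback_comp, pullback.condition]
  · -- InjOn
    intro A hA B hB hAB
    have hA' : IsOpenImmersion A.arrow := hA
    have hB' : IsOpenImmersion B.arrow := hB
    apply eq_of_range_eq
    have h1 := range_pullback_arrow π A
    have h2 := range_pullback_arrow π B
    have hAB' : (Subobject.pullback π).obj A = (Subobject.pullback π).obj B := hAB
    rw [hAB'] at h1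
    exact (Function.Surjective.preimage_injective π.surjective) (h1.symm.trans h2)
  · -- SurjOn
    rintro Y ⟨hY, hst⟩
    have hY' : IsOpenImmersion Y.arrow := hY
    have hVo : IsOpen (Set.range ⇑Y.arrow) := Y.arrow.isOpenEmbedding.isOpen_range
    have hsat : ⇑π ⁻¹' (⇑π '' Set.range ⇑Y.arrow) = Set.range ⇑Y.arrow := by
      apply subset_antisymm
      · rintro x ⟨v, hv, hvx⟩
        obtain ⟨z, hz1, hz2⟩ :=
          Scheme.Pullback.exists_preimage_pullback (f := π) (g := π) v x hvx
        have h1 := range_pullback_arrow (pullback.fst π π) Y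
        have h2 := range_pullback_arrow (pullback.snd π π) Y
        rw [hst] at h1
        have h3 : ⇑(pullback.fst π π) ⁻¹' Set.range ⇑Y.arrow =
            ⇑(pullback.snd π π) ⁻¹' Set.range ⇑Y.arrow := h1.symm.trans h2
        have hz : z ∈ ⇑(pullback.fst π π) ⁻¹' Set.range ⇑Y.arrow := by
          show (pullback.fst π π) z ∈ Set.range ⇑Y.arrow
          rw [hz1]; exact hv
        rw [h3] at hz
        have hz' : (pullback.snd π π) z ∈ Set.range ⇑Y.arrow := hz
        rw [hz2] at hz'
        exact hz'
      · exact Set.subset_preimage_image _ _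
    have hqo : IsOpen (⇑π '' Set.range ⇑Y.arrow) := by
      rw [← (Flat.isQuotientMap_of_surjective π).isOpen_preimage, hsat]; exact hVo
    obtain ⟨W, hW⟩ : ∃ W : X'.Opens, (W : Set X') = ⇑π '' Set.range ⇑Y.arrow := ⟨⟨_, hqo⟩, rfl⟩
    have hmk : IsOpenImmersion (Subobject.mk W.ι).arrow := by
      rw [← Subobject.underlyingIso_hom_comp_eq_mk]
      infer_instance
    refine ⟨Subobject.mk W.ι, hmk, ?_⟩
    haveI : IsOpenImmersion ((Subobject.pullback π).obj (Subobject.mk W.ι)).arrow :=
      MorphismProperty.of_isPullback (P := @IsOpenImmersion) (Subobject.isPullback π _) hmk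
    apply eq_of_range_eq
    rw [range_pullback_arrow, ← hsat, ← hW]
    congr 1
    rw [← Subobject.underlyingIso_hom_comp_eq_mk, Scheme.Hom.comp_base, TopCat.coe_comp,
      Set.range_comp, Set.range_eq_univ.mpr (Subobject.underlyingIso W.ι).hom.surjective,
      Set.image_univ]
    exact W.range_ι

end Groth.Agent.S5235
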