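import Groth.Statements.S5236
import Mathlib

set_option autoImplicit false
open CategoryTheory CategoryTheory.Limits AlgebraicGeometry MonoidalCategory
universe u
open RedSub

namespace Groth.Agent.S5236

section
variable {C : Type*} [Category C] [CartesianMonoidalCategory C]
open CartesianMonoidalCategory

private lemma isPullback_whiskerRight {A B : C} (i : A ⟶ B) (Z : C) :
    IsPullback (i ▷ Z) (fst A Z) (fst B Z) i := by
  refine ⟨⟨by simp⟩, ⟨PullbackCone.IsLimit.mk _ (fun s => lift s.snd (s.fst ≫ snd B Z)) ?_ ?_ ?_⟩⟩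
  · intro s
    apply CartesianMonoidalCategory.hom_ext
    · simp only [Category.assoc, whiskerRight_fst, lift_fst_assoc]
      exact s.condition.symm
    · simp
  · intro s
    simp
  · intro s m h1 h2
    apply CartesianMonoidalCategory.hom_ext
    · simp [h2]
    · rw [lift_snd, ← h1, Category.assoc, whiskerRight_snd]

private lemma isPullback_whiskerLeft (Z : C) {A B : C} (t : A ⟶ B) :
    IsPullback (Z ◁ t) (snd Z A) (snd Z B) t := by
  refine ⟨⟨by simp⟩, ⟨PullbackCone.IsLimit.mk _ (fun s => lift (s.fst ≫ fst Z B) s.snd) ?_ ?_ ?_⟩⟩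
  · intro s
    apply CartesianMonoidalCategory.hom_ext
    · simp
    · simp only [Category.assoc, whiskerLeft_snd, lift_snd_assoc]
      exact s.condition.symm
  · intro s
    simp
  · intro s m h1 h2
    apply CartesianMonoidalCategory.hom_ext
    · rw [lift_fst, ← h1, Category.assoc, whiskerLeft_fst]
    · simp [h2]

end

/-- fppf coverings in `Over S` -/
private structure IsCov {S : Scheme.{u}} {A B : Over S} (p : A ⟶ B) : Prop where
  surj : Surjective p.left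
  flat : Flat p.left
  lfp : LocallyOfFinitePresentation p.left

section
open CartesianMonoidalCategory
variable {S : Scheme.{u}} {A B : Over S} {p : A ⟶ B}

private lemma IsCov.effectiveEpi (hp : IsCov p) : EffectiveEpi p.left := by
  haveI := hp.surj
  haveI := hp.flat
  haveI := hp.lfp
  infer_instance

private lemma IsCov.epi (hp : IsCov p) : Epi p := by
  haveI := hp.effectiveEpi
  haveI : Epi p.left := inferInstance
  exact Over.epi_of_epi_left p

private lemma IsCov.whiskerRight (hp : IsCov p) (W : Over S) : IsCov (p ▷ W) := by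
  haveI := hp.surj
  haveI := hp.flat
  haveI := hp.lfp
  have sq : IsPullback (fst A W).left (p ▷ W).left p.left (fst B W).left :=
    ((isPullback_whiskerRight p W).map (Over.forget S)).flip
  exact ⟨MorphismProperty.of_isPullback (P := @Surjective) sq ‹_›,
    MorphismProperty.of_isPullback (P := @Flat) sq ‹_›,
    MorphismProperty.of_isPullback (P := @LocallyOfFinitePresentation) sq ‹_›⟩

private lemma IsCov.whiskerLeft (hp : IsCov p) (W : Over S) : IsCov (W ◁ p) := by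
  haveI := hp.surj
  haveI := hp.flat
  haveI := hp.lfp
  have sq : IsPullback (snd W A).left (W ◁ p).left p.left (snd W B).left :=
    ((isPullback_whiskerLeft W p).map (Over.forget S)).flip
  exact ⟨MorphismProperty.of_isPullback (P := @Surjective) sq ‹_›,
    MorphismProperty.of_isPullback (P := @Flat) sq ‹_›,
    MorphismProperty.of_isPullback (P := @LocallyOfFinitePresentation) sq ‹_›⟩

private lemma IsCov.comp {D : Over S} {r : B ⟶ D} (hp : IsCov p) (hr : IsCov r) :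
    IsCov (p ≫ r) := by
  haveI := hp.surj
  haveI := hp.flat
  haveI := hp.lfp
  haveI := hr.surj
  haveI := hr.flat
  haveI := hr.lfp
  exact ⟨inferInstanceAs (Surjective (p.left ≫ r.left)),
    inferInstanceAs (Flat (p.left ≫ r.left)),
    inferInstanceAs (LocallyOfFinitePresentation (p.left ≫ r.left))⟩

private lemma IsCov.tensorHom {A' B' : Over S} {r : A' ⟶ B'} (hp : IsCov p) (hr : IsCov r) :
    IsCov (p ⊗ₘ r) := by
  rw [MonoidalCategory.tensorHom_def]
  exact (hp.whiskerRight A').comp (hr.whiskerLeft B)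

private lemma desc_over {W : Over S} (p : A ⟶ B) [EffectiveEpi p.left] (e : A ⟶ W)
    (h : ∀ (Z : Over S) (a₁ a₂ : Z ⟶ A), a₁ ≫ p = a₂ ≫ p → a₁ ≫ e = a₂ ≫ e) :
    ∃ d : B ⟶ W, p ≫ d = e := by
  have key : ∀ {Z : Scheme.{u}} (g₁ g₂ : Z ⟶ A.left), g₁ ≫ p.left = g₂ ≫ p.left →
      g₁ ≫ e.left = g₂ ≫ e.left := by
    intro Z g₁ g₂ h12
    have hA : g₂ ≫ A.hom = g₁ ≫ A.hom := by
      rw [← Over.w p, ← Category.assoc, ← h12, Category.assoc]
    obtain ⟨a₁, ha₁⟩ : ∃ a₁ : Over.mk (g₁ ≫ A.hom) ⟶ A, a₁.left = g₁ :=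
      ⟨Over.homMk g₁ rfl, rfl⟩
    obtain ⟨a₂, ha₂⟩ : ∃ a₂ : Over.mk (g₁ ≫ A.hom) ⟶ A, a₂.left = g₂ :=
      ⟨Over.homMk g₂ hA, rfl⟩
    have ha : a₁ ≫ p = a₂ ≫ p := by
      ext
      rw [Over.comp_left, Over.comp_left, ha₁, ha₂]
      exact h12
    have h4 := congrArg (fun k => k.left) (h _ a₁ a₂ ha)
    simp only [Over.comp_left, ha₁, ha₂] at h4
    exact h4
  haveI : Epi p.left := inferInstance
  obtain ⟨d, hd⟩ : ∃ d : B.left ⟶ W.left, p.left ≫ d = e.left :=
    ⟨EffectiveEpi.desc p.left e.left key, EffectiveEpi.fac p.left e.left key⟩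
  have hdW : d ≫ W.hom = B.hom := by
    rw [← cancel_epi p.left, ← Category.assoc, hd, Over.w e, Over.w p]
  obtain ⟨g, hg⟩ : ∃ g : B ⟶ W, g.left = d := ⟨Over.homMk d hdW, rfl⟩
  refine ⟨g, ?_⟩
  ext
  rw [Over.comp_left, hg]
  exact hd

end

section
open MonObj GrpObj CartesianMonoidalCategory
variable {S : Scheme.{u}} {H G Q : Over S} [GrpObj H] [hG : GrpObj G] (i : H ⟶ G) (q : G ⟶ Q)

private lemma mul_comp_q (hpb : IsPullback (fst G H) ((G ◁ i) ≫ μ[G]) q q) {Z : Over S}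
    (u : Z ⟶ G) (k : Z ⟶ H) : (u * (k ≫ i)) ≫ q = u ≫ q := by
  have h1 : lift u k ≫ (G ◁ i) = lift u (k ≫ i) := by
    apply CartesianMonoidalCategory.hom_ext <;> simp
  rw [Hom.mul_def, ← h1]
  simp only [Category.assoc]
  rw [← Category.assoc (G ◁ i), ← hpb.w, lift_fst_assoc]

private lemma exists_of_comp_q_eq (hpb : IsPullback (fst G H) ((G ◁ i) ≫ μ[G]) q q)
    {Z : Over S} (u v : Z ⟶ G) (h : u ≫ q = v ≫ q) : ∃ k : Z ⟶ H, v = u * (k ≫ i) := by
  obtain ⟨z, hz1, hz2⟩ : ∃ z, z ≫ fst G H = u ∧ z ≫ ((G ◁ i) ≫ μ[G]) = v :=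
    ⟨hpb.lift u v h, hpb.lift_fst _ _ _, hpb.lift_snd _ _ _⟩
  refine ⟨z ≫ snd G H, ?_⟩
  have hz : z ≫ (G ◁ i) = lift (z ≫ fst G H) ((z ≫ snd G H) ≫ i) := by
    apply CartesianMonoidalCategory.hom_ext <;> simp
  rw [← hz2, ← Category.assoc, hz, hz1, Hom.mul_def]

private lemma main [IsMonHom i] (hn : AlgGrp.IsNormalHom i)
    (hq : RedSub.IsQuotient i q) :
    ∃! s : GrpObj Q, @IsMonHom (Over S) _ _ G Q hG.toMonObj s.toMonObj q := by
  obtain ⟨hsurj, hflat, hlfp, hpb⟩ := hq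
  have hcov : IsCov q := ⟨hsurj, hflat, hlfp⟩
  have hcov2 : IsCov (q ⊗ₘ q) := hcov.tensorHom hcov
  have hcov3 : IsCov ((q ⊗ₘ q) ⊗ₘ q) := hcov2.tensorHom hcov
  haveI := hcov.effectiveEpi
  haveI := hcov2.effectiveEpi
  haveI : Epi q := hcov.epi
  haveI : Epi (q ⊗ₘ q) := hcov2.epi
  haveI : Epi ((q ⊗ₘ q) ⊗ₘ q) := hcov3.epi
  -- multiplication
  obtain ⟨mQ, hm⟩ : ∃ mQ : Q ⊗ Q ⟶ Q, (q ⊗ₘ q) ≫ mQ = μ[G] ≫ q := by
    refine desc_over (q ⊗ₘ q) (μ[G] ≫ q) ?_
    intro Z a₁ a₂ h12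
    have hx : (a₁ ≫ fst G G) ≫ q = (a₂ ≫ fst G G) ≫ q := by
      have := congrArg (fun t => t ≫ fst Q Q) h12
      simpa only [Category.assoc, tensorHom_fst] using this
    have hy : (a₁ ≫ snd G G) ≫ q = (a₂ ≫ snd G G) ≫ q := by
      have := congrArg (fun t => t ≫ snd Q Q) h12
      simpa only [Category.assoc, tensorHom_snd] using this
    obtain ⟨k, hk⟩ := exists_of_comp_q_eq i q hpb _ _ hx
    obtain ⟨k', hk'⟩ := exists_of_comp_q_eq i q hpb _ _ hy
    obtain ⟨n', hn'⟩ := hn Z (a₁ ≫ snd G G)⁻¹ k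
    have e1 : a₁ ≫ μ[G] = (a₁ ≫ fst G G) * (a₁ ≫ snd G G) := by
      rw [Hom.mul_def, lift_comp_fst_snd]
    have e2 : a₂ ≫ μ[G] = (a₂ ≫ fst G G) * (a₂ ≫ snd G G) := by
      rw [Hom.mul_def, lift_comp_fst_snd]
    have e3 : (a₂ ≫ fst G G) * (a₂ ≫ snd G G) =
        ((a₁ ≫ fst G G) * (a₁ ≫ snd G G)) * ((n' * k') ≫ i) := by
      rw [hk, hk', MonObj.mul_comp, ← hn']
      simp only [_root_.inv_inv, _root_.mul_assoc, _root_.mul_inv_cancel_left]
    rw [← Category.assoc, ← Category.assoc, e1, e2, e3, mul_comp_q i q hpb]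
  -- inverse
  obtain ⟨iQ, hi⟩ : ∃ iQ : Q ⟶ Q, q ≫ iQ = ι[G] ≫ q := by
    refine desc_over q (ι[G] ≫ q) ?_
    intro Z a₁ a₂ h12
    obtain ⟨k, hk⟩ := exists_of_comp_q_eq i q hpb _ _ h12
    obtain ⟨n', hn'⟩ := hn Z a₁ k
    have e3 : a₂⁻¹ = a₁⁻¹ * (n'⁻¹ ≫ i) := by
      rw [GrpObj.inv_comp, ← hn', hk]
      simp only [_root_.mul_inv_rev, _root_.inv_inv, _root_.mul_assoc, _root_.inv_mul_cancel_left]
    rw [← Category.assoc, ← Category.assoc, ← Hom.inv_def, ← Hom.inv_def, e3,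
      mul_comp_q i q hpb]
  have K1 : ∀ {X : Over S} (u v : X ⟶ G), lift (u ≫ q) (v ≫ q) ≫ mQ = (u * v) ≫ q := by
    intro X u v
    rw [← lift_map, Category.assoc, hm, ← Category.assoc, ← Hom.mul_def]
  have K3 : ∀ (X : Over S), toUnit X ≫ η[G] ≫ q = (1 : X ⟶ G) ≫ q := by
    intro X
    rw [← Category.assoc, ← Hom.one_def]
  have h_one_mul : ((η[G] ≫ q) ▷ Q) ≫ mQ = (λ_ Q).hom := by
    haveI : Epi (𝟙_ (Over S) ◁ q) := (hcov.whiskerLeft (𝟙_ (Over S))).epi
    rw [← cancel_epi (𝟙_ (Over S) ◁ q)]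
    have e1 : (𝟙_ (Over S) ◁ q) ≫ ((η[G] ≫ q) ▷ Q) =
        lift ((1 : 𝟙_ (Over S) ⊗ G ⟶ G) ≫ q) (snd (𝟙_ (Over S)) G ≫ q) := by
      apply CartesianMonoidalCategory.hom_ext
      · have hfst : fst (𝟙_ (Over S)) G = toUnit _ := toUnit_unique _ _
        simp only [Category.assoc, whiskerRight_fst, whiskerLeft_fst_assoc, lift_fst]
        rw [hfst, Hom.one_def, Category.assoc]
      · simp only [Category.assoc, whiskerRight_snd, whiskerLeft_snd, lift_snd]
    rw [← Category.assoc, e1, K1, _root_.one_mul, leftUnitor_hom, whiskerLeft_snd]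
  have h_mul_one : (Q ◁ (η[G] ≫ q)) ≫ mQ = (ρ_ Q).hom := by
    haveI : Epi (q ▷ 𝟙_ (Over S)) := (hcov.whiskerRight (𝟙_ (Over S))).epi
    rw [← cancel_epi (q ▷ 𝟙_ (Over S))]
    have e1 : (q ▷ 𝟙_ (Over S)) ≫ (Q ◁ (η[G] ≫ q)) =
        lift (fst G (𝟙_ (Over S)) ≫ q) ((1 : G ⊗ 𝟙_ (Over S) ⟶ G) ≫ q) := by
      apply CartesianMonoidalCategory.hom_ext
      · simp only [Category.assoc, whiskerLeft_fst, whiskerRight_fst, lift_fst]
      · have hsnd : snd G (𝟙_ (Over S)) = toUnit _ := toUnit_unique _ _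
        simp only [Category.assoc, whiskerLeft_snd, whiskerRight_snd_assoc, lift_snd]
        rw [hsnd, Hom.one_def, Category.assoc]
    rw [← Category.assoc, e1, K1, _root_.mul_one, rightUnitor_hom, whiskerRight_fst]
  have h_mul_assoc : (mQ ▷ Q) ≫ mQ = (α_ Q Q Q).hom ≫ (Q ◁ mQ) ≫ mQ := by
    rw [← cancel_epi ((q ⊗ₘ q) ⊗ₘ q)]
    have eP : ((q ⊗ₘ q) ⊗ₘ q) =
        lift (lift ((fst (G ⊗ G) G ≫ fst G G) ≫ q) ((fst (G ⊗ G) G ≫ snd G G) ≫ q))
          (snd (G ⊗ G) G ≫ q) := by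
      apply CartesianMonoidalCategory.hom_ext
      · apply CartesianMonoidalCategory.hom_ext
        · simp only [Category.assoc, tensorHom_fst, tensorHom_fst_assoc, lift_fst]
        · simp only [Category.assoc, tensorHom_fst_assoc, tensorHom_snd, lift_fst, lift_snd]
      · simp only [tensorHom_snd, lift_snd]
    rw [eP, lift_whiskerRight_assoc, K1, K1, lift_lift_associator_hom_assoc,
      lift_whiskerLeft_assoc, K1, K1, _root_.mul_assoc]
  have h_left_inv : lift iQ (𝟙 Q) ≫ mQ = toUnit Q ≫ (η[G] ≫ q) := by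
    rw [← cancel_epi q]
    have eL : q ≫ lift iQ (𝟙 Q) = lift ((𝟙 G)⁻¹ ≫ q) ((𝟙 G) ≫ q) := by
      rw [comp_lift, Category.comp_id, Category.id_comp, hi, Hom.inv_def, Category.id_comp]
    rw [← Category.assoc, eL, K1, _root_.inv_mul_cancel, ← Category.assoc q,
      toUnit_unique (q ≫ toUnit Q) (toUnit G), K3]
  have h_right_inv : lift (𝟙 Q) iQ ≫ mQ = toUnit Q ≫ (η[G] ≫ q) := by
    rw [← cancel_epi q]
    have eL : q ≫ lift (𝟙 Q) iQ = lift ((𝟙 G) ≫ q) ((𝟙 G)⁻¹ ≫ q) := by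
      rw [comp_lift, Category.comp_id, Category.id_comp, hi, Hom.inv_def, Category.id_comp]
    rw [← Category.assoc, eL, K1, _root_.mul_inv_cancel, ← Category.assoc q,
      toUnit_unique (q ≫ toUnit Q) (toUnit G), K3]
  letI sQ : GrpObj Q :=
    { one := η[G] ≫ q
      mul := mQ
      one_mul := h_one_mul
      mul_one := h_mul_one
      mul_assoc := h_mul_assoc
      inv := iQ
      left_inv := h_left_inv
      right_inv := h_right_inv }
  refine ⟨sQ, ?_, ?_⟩
  · beta_reduce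
    exact { one_hom := rfl, mul_hom := hm.symm }
  · intro s' hs'
    refine GrpObj.ext _ _ (MonObj.ext _ _ ?_)
    show @MonObj.mul _ _ _ Q s'.toMonObj = mQ
    rw [← cancel_epi (q ⊗ₘ q), hm]
    exact (@IsMonHom.mul_hom _ _ _ G Q hG.toMonObj s'.toMonObj q hs').symm

end

/-- For group schemes and the fppf topology: if `i : H ⟶ G` is a normal monomorphism of `S`-group
schemes and `q : G ⟶ Q` exhibits `Q` as the fppf quotient `G/H`, then there is exactly one
group-scheme structure on `Q` over `S` making `q` a homomorphism. -/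
theorem result {S : Scheme.{u}} {H G Q : Over S} [GrpObj H] [hG : GrpObj G]
    (i : H ⟶ G) [IsMonHom i] [Mono i] (hn : AlgGrp.IsNormalHom i)
    (q : G ⟶ Q) (hq : RedSub.IsQuotient i q) :
    ∃! s : GrpObj Q, @IsMonHom (Over S) _ _ G Q hG.toMonObj s.toMonObj q := by

  exact main i q hn hq


end Groth.Agent.S5236
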