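import Groth.Statements.S5237
import Mathlib

set_option autoImplicit false
open CategoryTheory CategoryTheory.Limits AlgebraicGeometry MonoidalCategory
universe u
open RedSub

namespace Groth.Agent.S5237

section
variable {C : Type*} [Category C] [CartesianMonoidalCategory C]
open CartesianMonoidalCategory

private lemma isPullback_whiskerRight {A B : C} (i : A ⟶ B) (Z : C) :
    IsPullback (i ▷ Z) (fst A Z) (fst B Z) i := by
  refine ⟨⟨by simp⟩, ⟨PullbackCone.IsLimit.mk _ (fun s => lift s.snd (s.fst ≫ snd B Z)) ?_ ?_ ?_⟩⟩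
  · intro s
    apply CartesianMonoidalCategory.hom_ext
    · simp only [Category.assoc, whiskerRight_fst, lift_fst_assoc]
      exact s.condition.symm
    · simp
  · intro s
    simp
  · intro s m h1 h2
    apply CartesianMonoidalCategory.hom_ext
    · simp [h2]
    · rw [lift_snd, ← h1, Category.assoc, whiskerRight_snd]

private lemma isPullback_whiskerLeft (Z : C) {A B : C} (t : A ⟶ B) :
    IsPullback (Z ◁ t) (snd Z A) (snd Z B) t := by
  refine ⟨⟨by simp⟩, ⟨PullbackCone.IsLimit.mk _ (fun s => lift (s.fst ≫ fst Z B) s.snd) ?_ ?_ ?_⟩⟩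
  · intro s
    apply CartesianMonoidalCategory.hom_ext
    · simp
    · simp only [Category.assoc, whiskerLeft_snd, lift_snd_assoc]
      exact s.condition.symm
  · intro s
    simp
  · intro s m h1 h2
    apply CartesianMonoidalCategory.hom_ext
    · rw [lift_fst, ← h1, Category.assoc, whiskerLeft_fst]
    · simp [h2]

end

open CartesianMonoidalCategory in
private lemma epi_whiskerRight {S : Scheme.{u}} {G Q : Over S} (q : G ⟶ Q)
    [Surjective q.left] [Flat q.left] [LocallyOfFinitePresentation q.left] (W : Over S) :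
    Epi (q ▷ W) := by
  have sq : IsPullback (fst G W).left (q ▷ W).left q.left (fst Q W).left :=
    ((isPullback_whiskerRight q W).map (Over.forget S)).flip
  haveI : Surjective (q ▷ W).left := MorphismProperty.of_isPullback (P := @Surjective) sq ‹_›
  haveI : Flat (q ▷ W).left := MorphismProperty.of_isPullback (P := @Flat) sq ‹_›
  haveI : LocallyOfFinitePresentation (q ▷ W).left :=
    MorphismProperty.of_isPullback (P := @LocallyOfFinitePresentation) sq ‹_›
  haveI : Epi (q ▷ W).left := inferInstance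
  exact Over.epi_of_epi_left _

open CartesianMonoidalCategory in
private lemma epi_whiskerLeft {S : Scheme.{u}} {G Q : Over S} (W : Over S) (q : G ⟶ Q)
    [Surjective q.left] [Flat q.left] [LocallyOfFinitePresentation q.left] :
    Epi (W ◁ q) := by
  have sq : IsPullback (snd W G).left (W ◁ q).left q.left (snd W Q).left :=
    ((isPullback_whiskerLeft W q).map (Over.forget S)).flip
  haveI : Surjective (W ◁ q).left := MorphismProperty.of_isPullback (P := @Surjective) sq ‹_›
  haveI : Flat (W ◁ q).left := MorphismProperty.of_isPullback (P := @Flat) sq ‹_›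
  haveI : LocallyOfFinitePresentation (W ◁ q).left :=
    MorphismProperty.of_isPullback (P := @LocallyOfFinitePresentation) sq ‹_›
  haveI : Epi (W ◁ q).left := inferInstance
  exact Over.epi_of_epi_left _

open MonObj GrpObj CartesianMonoidalCategory in
/-- For group schemes and the fppf topology: if `q : G ⟶ Q = G/H` is the fppf quotient of `G` by a
normal subgroup `H`, with its group structure, then a homomorphism `G ⟶ K` that kills `H` factors
uniquely through `q`, and the factorisation is a homomorphism. -/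
theorem result {S : Scheme.{u}} {H G Q K : Over S}
    [GrpObj H] [GrpObj G] [GrpObj Q] [GrpObj K]
    (i : H ⟶ G) [IsMonHom i] [Mono i] (hn : AlgGrp.IsNormalHom i)
    (q : G ⟶ Q) [IsMonHom q] (hq : RedSub.IsQuotient i q)
    (f : G ⟶ K) [IsMonHom f] (hf : i ≫ f = 1) :
    ∃! g : Q ⟶ K, q ≫ g = f ∧ IsMonHom g := by

  obtain ⟨hsurj, hflat, hlfp, hpb⟩ := hq
  haveI := hsurj
  haveI := hflat
  haveI := hlfp
  haveI : Epi q.left := inferInstance
  haveI : Epi q := Over.epi_of_epi_left q
  have key : ∀ {Z : Scheme.{u}} (g₁ g₂ : Z ⟶ G.left), g₁ ≫ q.left = g₂ ≫ q.left →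
      g₁ ≫ f.left = g₂ ≫ f.left := by
    intro Z g₁ g₂ h12
    have hG : g₂ ≫ G.hom = g₁ ≫ G.hom := by
      rw [← Over.w q, ← Category.assoc, ← h12, Category.assoc]
    obtain ⟨a₁, ha₁⟩ : ∃ a₁ : Over.mk (g₁ ≫ G.hom) ⟶ G, a₁.left = g₁ :=
      ⟨Over.homMk g₁ rfl, rfl⟩
    obtain ⟨a₂, ha₂⟩ : ∃ a₂ : Over.mk (g₁ ≫ G.hom) ⟶ G, a₂.left = g₂ :=
      ⟨Over.homMk g₂ hG, rfl⟩
    have ha : a₁ ≫ q = a₂ ≫ q := by
      ext
      rw [Over.comp_left, Over.comp_left, ha₁, ha₂]
      exact h12
    obtain ⟨z, hz1, hz2⟩ : ∃ z, z ≫ fst G H = a₁ ∧ z ≫ ((G ◁ i) ≫ μ[G]) = a₂ :=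
      ⟨hpb.lift a₁ a₂ ha, hpb.lift_fst _ _ _, hpb.lift_snd _ _ _⟩
    have hz : z ≫ (G ◁ i) = lift (z ≫ fst G H) (z ≫ snd G H ≫ i) := by
      apply CartesianMonoidalCategory.hom_ext <;> simp
    have h2 : a₂ = a₁ * (z ≫ snd G H ≫ i) := by
      rw [← hz2, ← Category.assoc, hz, hz1, Hom.mul_def]
    have h3 : a₂ ≫ f = a₁ ≫ f := by
      rw [h2, MonObj.mul_comp, Category.assoc, Category.assoc, hf, MonObj.comp_one,
        MonObj.comp_one, _root_.mul_one]
    have h4 := congrArg (fun k => k.left) h3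
    simp only [Over.comp_left, ha₁, ha₂] at h4
    exact h4.symm
  obtain ⟨d, hd⟩ : ∃ d : Q.left ⟶ K.left, q.left ≫ d = f.left :=
    ⟨EffectiveEpi.desc q.left f.left key, EffectiveEpi.fac q.left f.left key⟩
  have hdK : d ≫ K.hom = Q.hom := by
    rw [← cancel_epi q.left, ← Category.assoc, hd, Over.w f, Over.w q]
  obtain ⟨g, hg⟩ : ∃ g : Q ⟶ K, g.left = d := ⟨Over.homMk d hdK, rfl⟩
  have hqg : q ≫ g = f := by
    ext
    rw [Over.comp_left, hg]
    exact hd
  have hone : η[Q] ≫ g = η[K] := by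
    rw [← IsMonHom.one_hom q, Category.assoc, hqg, IsMonHom.one_hom f]
  haveI : Epi (q ⊗ₘ q) := by
    rw [MonoidalCategory.tensorHom_def]
    haveI := epi_whiskerRight q G
    haveI := epi_whiskerLeft Q q
    infer_instance
  have hmul : μ[Q] ≫ g = (g ⊗ₘ g) ≫ μ[K] := by
    rw [← cancel_epi (q ⊗ₘ q), ← Category.assoc, ← IsMonHom.mul_hom q, Category.assoc, hqg,
      IsMonHom.mul_hom f, ← Category.assoc, MonoidalCategory.tensorHom_comp_tensorHom, hqg]
  refine ⟨g, ⟨hqg, ⟨hone, hmul⟩⟩, ?_⟩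
  rintro g' ⟨hg', -⟩
  rw [← cancel_epi q, hg', hqg]


end Groth.Agent.S5237
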