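import Groth.Statements.S5244
import Mathlib
import Groth.Agent.Lib.Helper18.DiagSub

set_option autoImplicit false
universe u
open TensorProduct SGA3b
open SGA3b

namespace Groth.Agent.S5244

open TensorProduct Groth.Agent.Helper18.DiagRigid Groth.Agent.Helper18.DiagSub

theorem ff_aux (k : Type u) [Field k] (f : k) (hf0 : f ≠ 0) (K : Type u) [Field K]
    [Algebra (Localization.Away f) K] : Module.FaithfullyFlat (Localization.Away f) K := by
  have hfield : IsField (Localization.Away f) := by
    have e0 : k ≃ₐ[k] Localization.Away f :=
      IsLocalization.atUnit k (Localization.Away f) f (isUnit_iff_ne_zero.mpr hf0)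
    exact MulEquiv.isField (Field.toIsField k) e0.symm.toMulEquiv
  letI : Field (Localization.Away f) := hfield.toField
  infer_instance

theorem nontrivial_aux (k : Type u) [Field k] (f : k) (hf0 : f ≠ 0) (R' : Type u) [CommRing R']
    [Algebra (Localization.Away f) R'] [Module.FaithfullyFlat (Localization.Away f) R'] :
    Nontrivial R' := by
  haveI : Nontrivial (Localization.Away f) := by
    have e0 : k ≃ₐ[k] Localization.Away f :=
      IsLocalization.atUnit k (Localization.Away f) f (isUnit_iff_ne_zero.mpr hf0)
    exact e0.symm.toEquiv.nontrivial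
  haveI : Nontrivial (Localization.Away f ⊗[Localization.Away f] R') := inferInstance
  exact (TensorProduct.lid (Localization.Away f) R').symm.toEquiv.nontrivial

theorem chart (k : Type u) [Field k] (A : Type u) [CommRing A] [HopfAlgebra k A]
    (J : Ideal A) [J.IsHopfIdeal k] (f : k) (hf0 : f ≠ 0)
    (h : IsMultTypeConst (Localization.Away f) (Localization.Away f ⊗[k] A)) :
    IsMultTypeConst (Localization.Away f) (Localization.Away f ⊗[k] (A ⧸ J)) := by
  obtain ⟨R', _, _, hff, M, _, ⟨e⟩⟩ := h
  haveI : Nontrivial R' := nontrivial_aux k f hf0 R'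
  obtain ⟨m, hm⟩ := Ideal.exists_maximal R'
  haveI := hm
  have hsurj : Function.Surjective
      (bc (Localization.Away f) (Bialgebra.Quotient.mkBialgHom (R := k) J)) := by
    intro y
    induction y using TensorProduct.induction_on with
    | zero => exact ⟨0, map_zero _⟩
    | tmul c a =>
      obtain ⟨a, rfl⟩ := Ideal.Quotient.mk_surjective a
      exact ⟨c ⊗ₜ a, bc_tmul _ _ _ _⟩
    | add x y hx hy =>
      obtain ⟨x', rfl⟩ := hx
      obtain ⟨y', rfl⟩ := hy
      exact ⟨x' + y', map_add _ _ _⟩
  have hspan := span_groupLike (S := R') (T := R' ⧸ m)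
    (bc (Localization.Away f) (Bialgebra.Quotient.mkBialgHom (R := k) J)) e hsurj
  have hff' : Module.FaithfullyFlat (Localization.Away f) (R' ⧸ m) := by
    letI : Field (R' ⧸ m) := Ideal.Quotient.field m
    exact ff_aux k f hf0 (R' ⧸ m)
  refine ⟨R' ⧸ m, inferInstance, inferInstance, hff', ?_⟩
  letI : Field (R' ⧸ m) := Ideal.Quotient.field m
  exact diag_of_span _ _ hspan

/-- Case of a group of multiplicative type, assertion on the subgroup; G is taken of finite type, the
case the printed proof treats in full before a limit argument: Let k be a field, G = Spec A a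
k-group of multiplicative type and of finite type, and H = Spec (A/J) a closed subgroup scheme of G
(J a Hopf ideal). Then H is of multiplicative type. (Affine group schemes over an affine base are
taken in Hopf-algebra form; base change is the tensor product; a homomorphism of groups Spec A ⟶
Spec C is a bialgebra map C → A.) -/
theorem result (k : Type u) [Field k] (A : Type u) [CommRing A] [HopfAlgebra k A]
    (hft : Algebra.FiniteType k A) (h : IsMultType k A) (J : Ideal A) [J.IsHopfIdeal k] :
    IsMultType k (A ⧸ J) := by
  classical
  obtain ⟨s, hs, hcharts⟩ := h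
  obtain ⟨f, hfs, hf0⟩ : ∃ f ∈ s, f ≠ 0 := by
    by_contra hcon
    simp only [not_exists, not_and, not_not] at hcon
    have h1 : Ideal.span s ≤ ⊥ := Ideal.span_le.mpr (fun x hx => by
      rw [hcon x hx]; exact Submodule.zero_mem _)
    rw [hs] at h1
    exact top_ne_bot (le_bot_iff.mp h1)
  refine ⟨{f}, ?_, ?_⟩
  · rw [Ideal.span_singleton_eq_top]; exact isUnit_iff_ne_zero.mpr hf0
  · intro g hg
    rw [Set.mem_singleton_iff] at hg
    subst hg
    exact chart k A J g hf0 (hcharts g hfs)

end Groth.Agent.S5244
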