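import Groth.Statements.S5270
import Mathlib
import Mathlib

set_option autoImplicit false
universe u
open TensorProduct SGA3b
open SGA3b

namespace Groth.Agent.S5270

theorem map_mem_smul_top {A N N' : Type*} [CommRing A] [AddCommGroup N] [Module A N]
    [AddCommGroup N'] [Module A N'] (J : Ideal A) (f : N →ₗ[A] N') (x : N)
    (hx : x ∈ (J • ⊤ : Submodule A N)) : f x ∈ (J • ⊤ : Submodule A N') := by
  have h1 : f x ∈ Submodule.map f (J • ⊤ : Submodule A N) := Submodule.mem_map_of_mem hx
  rw [Submodule.map_smul''] at h1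
  exact Submodule.smul_mono le_rfl le_top h1

theorem eq_zero_of_forall_mem (A : Type u) [CommRing A] [IsNoetherianRing A] (I : Ideal A)
    [IsAdicComplete I A] (B : Type u) [CommRing B] [HopfAlgebra A B] (hH : SGA3b.IsIsotrivial A B)
    (d : B) (hd : ∀ n : ℕ, d ∈ (I ^ n • ⊤ : Submodule A B)) : d = 0 := by
  obtain ⟨R', _, _, -, hfin, hff, M, _, ⟨e⟩⟩ := hH
  haveI : IsHausdorff I R' :=
    IsHausdorff.of_le_jacobson I R' (IsAdicComplete.le_jacobson_bot I)
  apply Module.FaithfullyFlat.tensorProduct_mk_injective (A := A) (B := R') B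
  rw [map_zero]
  apply e.injective
  rw [map_zero]
  apply MonoidAlgebra.coeff_injective
  apply Finsupp.ext
  intro m
  -- the coordinate functional
  let g : B →ₗ[A] R' :=
    ((Finsupp.lapply m : (M →₀ R') →ₗ[R'] R').restrictScalars A) ∘ₗ
      ((MonoidAlgebra.coeffLinearEquiv (S := R') (M := M) R').toLinearMap.restrictScalars A) ∘ₗ
      (e.toAlgEquiv.toLinearEquiv.toLinearMap.restrictScalars A) ∘ₗ (TensorProduct.mk A R' B 1)
  have hg : g d = 0 := by
    apply IsHausdorff.haus (I := I) inferInstance
    intro n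
    rw [SModEq.zero]
    exact map_mem_smul_top (I ^ n) g d (hd n)
  exact hg

/-- Injectivity of the map to formal homomorphisms. Let A be a Noetherian ring, separated and complete
for the I-adic topology, H = Spec B an isotrivial A-group of multiplicative type and G = Spec C an
affine A-group. If two homomorphisms H ⟶ G, given by bialgebra maps φ, ψ : C → B, have the same
reduction modulo I^(n+1) for every n ≥ 0, then φ = ψ. (Affine group schemes over an affine base are
taken in Hopf-algebra form; base change is the tensor product; a homomorphism of groups Spec A ⟶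
Spec C is a bialgebra map C → A.) -/
theorem result (A : Type u) [CommRing A] [IsNoetherianRing A] (I : Ideal A) [IsAdicComplete I A]
    (B : Type u) [CommRing B] [HopfAlgebra A B] (hH : IsIsotrivial A B)
    (C : Type u) [CommRing C] [HopfAlgebra A C] (φ ψ : C →ₐc[A] B)
    (h : ∀ (n : ℕ) (c : C), (1 : A ⧸ I ^ (n + 1)) ⊗ₜ[A] (φ c) = (1 : A ⧸ I ^ (n + 1)) ⊗ₜ[A] (ψ c)) :
    φ = ψ := by
  apply DFunLike.ext
  intro c
  rw [← sub_eq_zero]
  apply Groth.Agent.S5270.eq_zero_of_forall_mem A I B hH
  intro n
  have h1 : φ c - ψ c ∈ (I ^ (n + 1) • ⊤ : Submodule A B) := by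
    have h2 := congrArg (TensorProduct.quotTensorEquivQuotSMul B (I ^ (n + 1))) (h n c)
    rw [TensorProduct.quotTensorEquivQuotSMul_mk_one_tmul,
      TensorProduct.quotTensorEquivQuotSMul_mk_one_tmul] at h2
    exact (Submodule.Quotient.eq _).mp h2
  exact Submodule.smul_mono_left (Ideal.pow_le_pow_right (Nat.le_succ n)) h1

end Groth.Agent.S5270
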