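import Groth.Statements.S5278
import Mathlib

set_option autoImplicit false
open CategoryTheory AlgebraicGeometry
universe u
open SGA3x

namespace Groth.Agent.S5278

section Helpers
open AlgebraicGeometry CategoryTheory Limits TopologicalSpace

theorem isClopen_connectedComponent_of_open_closed_map {α β : Type*} [TopologicalSpace α]
    [TopologicalSpace β] [ConnectedSpace β] (f : α → β) (hfo : IsOpenMap f) (hfc : IsClosedMap f)
    (b₀ : β) (hfin : (f ⁻¹' {b₀}).Finite) (c : α) :
    IsClopen (connectedComponent c) := by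
  classical
  have key : ∀ Z : Set α, IsClopen Z → Z.Nonempty → (Z ∩ f ⁻¹' {b₀}).Nonempty := by
    intro Z hZ hne
    have h1 : IsClopen (f '' Z) := ⟨hfc _ hZ.1, hfo _ hZ.2⟩
    have h2 : f '' Z = Set.univ := h1.eq_univ (hne.image f)
    have h3 : b₀ ∈ f '' Z := h2 ▸ Set.mem_univ _
    obtain ⟨a, haZ, hab⟩ := h3
    exact ⟨a, haZ, hab⟩
  let P : ℕ → Prop := fun n => ∃ Z : Set α, IsClopen Z ∧ c ∈ Z ∧ (Z ∩ f ⁻¹' {b₀}).ncard = n
  have hP : ∃ n, P n := ⟨_, Set.univ, isClopen_univ, Set.mem_univ _, rfl⟩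
  obtain ⟨Z₀, hZ₀, hcZ₀, hcard⟩ := Nat.find_spec hP
  have hmin : ∀ Z, IsClopen Z → c ∈ Z → Nat.find hP ≤ (Z ∩ f ⁻¹' {b₀}).ncard :=
    fun Z hZ hc => Nat.find_min' hP ⟨Z, hZ, hc, rfl⟩
  have hstep : ∀ u v : Set α, IsClosed u → IsClosed v → Z₀ ⊆ u ∪ v → Disjoint u v → c ∈ u →
      Z₀ ⊆ u := by
    intro u v hu hv hss huv hcu
    by_contra h1
    obtain ⟨a, haZ, hau⟩ := Set.not_subset.mp h1
    have hav : a ∈ v := (hss haZ).resolve_left hau
    have hA : IsClopen (Z₀ ∩ u) := by
      refine ⟨hZ₀.1.inter hu, ?_⟩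
      have h3 : Z₀ ∩ u = Z₀ \ v := by
        ext z
        constructor
        · rintro ⟨h1, h2⟩
          exact ⟨h1, fun h3 => Set.disjoint_left.mp huv h2 h3⟩
        · rintro ⟨h1, h2⟩
          exact ⟨h1, (hss h1).resolve_right h2⟩
      rw [h3]
      exact hZ₀.2.sdiff hv
    have hB : IsClopen (Z₀ ∩ v) := by
      refine ⟨hZ₀.1.inter hv, ?_⟩
      have h3 : Z₀ ∩ v = Z₀ \ u := by
        ext z
        constructor
        · rintro ⟨h1, h2⟩
          exact ⟨h1, fun h3 => Set.disjoint_left.mp huv h3 h2⟩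
        · rintro ⟨h1, h2⟩
          exact ⟨h1, (hss h1).resolve_left h2⟩
      rw [h3]
      exact hZ₀.2.sdiff hu
    obtain ⟨p, hpB, hpf⟩ := key _ hB ⟨a, haZ, hav⟩
    have hlt : ((Z₀ ∩ u) ∩ f ⁻¹' {b₀}).ncard < (Z₀ ∩ f ⁻¹' {b₀}).ncard := by
      apply Set.ncard_lt_ncard _ (hfin.subset Set.inter_subset_right)
      refine ⟨fun x hx => ⟨hx.1.1, hx.2⟩, fun hsub => ?_⟩
      have h4 : p ∈ (Z₀ ∩ u) ∩ f ⁻¹' {b₀} := hsub ⟨hpB.1, hpf⟩
      exact Set.disjoint_left.mp huv h4.1.2 hpB.2
    have h5 := hmin _ hA ⟨hcZ₀, hcu⟩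
    omega
  have hpre : IsPreconnected Z₀ := by
    rw [isPreconnected_iff_subset_of_fully_disjoint_closed hZ₀.1]
    intro u v hu hv hss huv
    rcases hss hcZ₀ with hcu | hcv
    · exact Or.inl (hstep u v hu hv hss huv hcu)
    · exact Or.inr (hstep v u hv hu (by rwa [Set.union_comm]) huv.symm hcv)
  have h1 : connectedComponent c ⊆ Z₀ := hZ₀.connectedComponent_subset hcZ₀
  have h2 : Z₀ ⊆ connectedComponent c := hpre.subset_connectedComponent hcZ₀
  rw [Set.Subset.antisymm h1 h2]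
  exact hZ₀

theorem main5278 {X X' : Scheme.{u}} [ConnectedSpace X] (f : X' ⟶ X) [IsFinite f] [Etale f]
    (x : X) (c : X') : ∃ x' : X', f.base x' = x ∧ x' ∈ connectedComponent c := by
  have hclopen : IsClopen (connectedComponent c) :=
    isClopen_connectedComponent_of_open_closed_map f.base f.isOpenMap f.isClosedMap x
      (f.finite_preimage_singleton x) c
  have h1 : IsClopen (f.base '' connectedComponent c) :=
    ⟨f.isClosedMap _ hclopen.1, f.isOpenMap _ hclopen.2⟩
  have h2 := h1.eq_univ ((Set.nonempty_of_mem mem_connectedComponent).image _)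
  have h3 : x ∈ f.base '' connectedComponent c := h2 ▸ Set.mem_univ x
  obtain ⟨x', hx', rfl⟩ := h3
  exact ⟨x', rfl, hx'⟩

end Helpers

/-- Let X be a connected scheme, f : X' ⟶ X a finite etale morphism and x a point of X. Then every
connected component of X' meets the fibre of f over x; equivalently the map from the connected
components of the fibre (or of the geometric fibre) to those of X' is surjective. -/
theorem result {X X' : Scheme.{u}} [ConnectedSpace X] (f : X' ⟶ X)
    [IsFinite f] [Etale f] (x : X) (c : X') :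
    ∃ x' : X', f.base x' = x ∧ x' ∈ connectedComponent c := by
  exact main5278 f x c

end Groth.Agent.S5278
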