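import Groth.Statements.S5331
import Groth.Agent.S0346

set_option autoImplicit false
universe u
open CategoryTheory CategoryTheory.Limits MonoidalCategory CartesianMonoidalCategory MonObj GrpObj AlgebraicGeometry
open SGA3

namespace Groth.Agent.S5331

/-- Let S be a scheme whose underlying topological space is discrete. Then every S-group scheme is
separated over S. -/
theorem result (S : Scheme.{u}) [DiscreteTopology S] (G : Over S) [GrpObj G] :
    IsSeparated G.hom := by
  classical
  let U : S → S.Opens := fun s => ⟨{s}, isOpen_discrete _⟩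
  have hU : TopologicalSpace.IsOpenCover U := by
    rw [TopologicalSpace.IsOpenCover, eq_top_iff]
    intro x _
    rw [TopologicalSpace.Opens.mem_iSup]
    exact ⟨x, rfl⟩
  let 𝒰 : S.OpenCover := S.openCoverOfIsOpenCover U hU
  rw [IsZariskiLocalAtTarget.iff_of_openCover (P := @IsSeparated) 𝒰]
  intro s
  have hsub : Subsingleton ↥(𝒰.X s) := by
    change Subsingleton ↥(U s)
    constructor
    rintro ⟨a, ha⟩ ⟨b, hb⟩
    apply Subtype.ext
    exact (Set.mem_singleton_iff.mp ha).trans (Set.mem_singleton_iff.mp hb).symm
  let G' : Over (𝒰.X s) := (Over.pullback (𝒰.f s)).obj G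
  have hcl : IsClosedImmersion η[G'].left :=
    isClosedImmersion_of_comp_eq_id G'.hom η[G'].left (Over.w _)
  exact (Groth.Agent.S0346.result _ G').1.mpr hcl

end Groth.Agent.S5331
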