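import Mathlib
import Groth.Statements.S5333
-- import your own Groth.Agent.* helpers here

set_option autoImplicit false
universe u
open CategoryTheory CategoryTheory.Limits MonoidalCategory CartesianMonoidalCategory MonObj GrpObj AlgebraicGeometry
open SGA3

namespace Groth.Agent.S5333


lemma isReduced_vanishing {X : Scheme.{u}} (Z : TopologicalSpace.Closeds X) :
    IsReduced (Scheme.IdealSheafData.vanishingIdeal Z).subscheme := by
  have : ∀ U, IsReduced ((Scheme.IdealSheafData.vanishingIdeal Z).subschemeCover.openCover.X U) :=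
      fun (U : X.affineOpens) => by
    show IsReduced (Spec (.of (Γ(X,U.1) ⧸ (Scheme.IdealSheafData.vanishingIdeal Z).ideal U)))
    have : _root_.IsReduced (Γ(X,U.1) ⧸ (Scheme.IdealSheafData.vanishingIdeal Z).ideal U) := by
      rw [Scheme.IdealSheafData.vanishingIdeal_ideal]
      exact (Ideal.isRadical_iff_quotient_reduced _).mp (PrimeSpectrum.isRadical_vanishingIdeal _)
    infer_instance
  exact IsReduced.of_openCover _ (Scheme.IdealSheafData.vanishingIdeal Z).subschemeCover.openCover

lemma sep_of_closed {X S : Scheme.{u}} (f : X ⟶ S)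
    (h : IsClosed (Set.range (pullback.diagonal f))) : IsSeparated f := by
  have : IsClosedImmersion (pullback.diagonal f) := IsClosedImmersion.of_isPreimmersion _ h
  exact ⟨this⟩

lemma sep_of_cond {X S : Scheme.{u}} (f : X ⟶ S)
    (H : ∀ (T : Scheme.{u}) [IsReduced T] (g₁ g₂ : T ⟶ X) (U : T.Opens), g₁ ≫ f = g₂ ≫ f →
      Dense (U : Set T) → U.ι ≫ g₁ = U.ι ≫ g₂ → g₁ = g₂) : IsSeparated f := by
  apply sep_of_closed
  obtain ⟨W, hWsub, hWcl, c, hcI, hc⟩ : ∃ W : (pullback f f).Opens,
      Set.range (pullback.diagonal f) ⊆ (W : Set _) ∧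
      (W : Set _) ∩ closure (Set.range (pullback.diagonal f)) ⊆ Set.range (pullback.diagonal f) ∧
      ∃ c : X ⟶ W, IsClosedImmersion c ∧ c ≫ W.ι = pullback.diagonal f := by
    refine ⟨(pullback.diagonal f).coborderRange, subset_coborder, ?_,
      (pullback.diagonal f).liftCoborder, inferInstance, (pullback.diagonal f).liftCoborder_ι⟩
    rintro x ⟨hx1, hx2⟩
    by_contra hx3
    exact hx1 ⟨hx2, hx3⟩
  obtain ⟨I, hr⟩ : ∃ I : (pullback f f).IdealSheafData, IsReduced I.subscheme ∧
      Set.range I.subschemeι = closure (Set.range (pullback.diagonal f)) := by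
    refine ⟨Scheme.IdealSheafData.vanishingIdeal
      ⟨closure (Set.range (pullback.diagonal f)), isClosed_closure⟩, isReduced_vanishing _, ?_⟩
    rw [Scheme.IdealSheafData.range_subschemeι, Scheme.IdealSheafData.coe_support_vanishingIdeal]
    rfl
  obtain ⟨hred, hr⟩ := hr
  haveI := hred
  have hU : Dense ((I.subschemeι ⁻¹ᵁ W : I.subscheme.Opens) : Set I.subscheme) := by
    intro t
    rw [I.subschemeι.isEmbedding.isInducing.closure_eq_preimage_closure_image]
    show I.subschemeι t ∈ closure (I.subschemeι '' (I.subschemeι ⁻¹' (W : Set _)))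
    rw [Set.image_preimage_eq_inter_range, hr]
    have hsub : Set.range (pullback.diagonal f) ⊆
        (W : Set _) ∩ closure (Set.range (pullback.diagonal f)) :=
      fun x hx => ⟨hWsub hx, subset_closure hx⟩
    exact closure_mono hsub (hr ▸ Set.mem_range_self t)
  have key : (I.subschemeι ⁻¹ᵁ W).ι ≫ (I.subschemeι ≫ pullback.fst f f) =
      (I.subschemeι ⁻¹ᵁ W).ι ≫ (I.subschemeι ≫ pullback.snd f f) := by
    obtain ⟨r, hr'⟩ : ∃ r : ((I.subschemeι ⁻¹ᵁ W : I.subscheme.Opens) : Scheme) ⟶ W,
        r ≫ W.ι = (I.subschemeι ⁻¹ᵁ W).ι ≫ I.subschemeι :=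
      ⟨I.subschemeι ∣_ W, morphismRestrict_ι _ _⟩
    haveI : Surjective (pullback.fst r c) := by
      refine ⟨fun u => ?_⟩
      have hu1 : W.ι (r u) = I.subschemeι ((I.subschemeι ⁻¹ᵁ W).ι u) := by
        rw [← Scheme.Hom.comp_apply, ← Scheme.Hom.comp_apply, hr']
      have hu2 : W.ι (r u) ∈ Set.range (pullback.diagonal f) := by
        apply hWcl
        refine ⟨?_, ?_⟩
        · have : W.ι (r u) ∈ Set.range W.ι := ⟨_, rfl⟩
          rwa [Scheme.Opens.range_ι] at this
        · rw [hu1, ← hr]; exact Set.mem_range_self _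
      obtain ⟨x', hx'⟩ := hu2
      have hx'' : c x' = r u := by
        apply W.ι.isOpenEmbedding.injective
        rw [← Scheme.Hom.comp_apply, hc, hx']
      obtain ⟨z, hz, -⟩ :=
        Scheme.Pullback.exists_preimage_pullback (f := r) (g := c) u x' hx''.symm
      exact ⟨z, hz⟩
    haveI : IsIso (pullback.fst r c) := isIso_of_isClosedImmersion_of_surjective _
    rw [← cancel_epi (pullback.fst r c)]
    have h1 : pullback.fst r c ≫ (I.subschemeι ⁻¹ᵁ W).ι ≫ I.subschemeι =
        pullback.snd r c ≫ pullback.diagonal f :=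
      calc pullback.fst r c ≫ (I.subschemeι ⁻¹ᵁ W).ι ≫ I.subschemeι
          = pullback.fst r c ≫ r ≫ W.ι := by rw [hr']
        _ = (pullback.fst r c ≫ r) ≫ W.ι := (Category.assoc _ _ _).symm
        _ = (pullback.snd r c ≫ c) ≫ W.ι := by rw [pullback.condition]
        _ = pullback.snd r c ≫ (c ≫ W.ι) := Category.assoc _ _ _
        _ = pullback.snd r c ≫ pullback.diagonal f := by rw [hc]
    have e1 := congrArg (· ≫ pullback.fst f f) h1
    have e2 := congrArg (· ≫ pullback.snd f f) h1
    simp only [Category.assoc, pullback.diagonal_fst, pullback.diagonal_snd,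
      Category.comp_id] at e1 e2
    rw [e1, e2]
  have hg := H I.subscheme (I.subschemeι ≫ pullback.fst f f) (I.subschemeι ≫ pullback.snd f f)
    (I.subschemeι ⁻¹ᵁ W) (by simp only [Category.assoc, pullback.condition]) hU key
  have hfac : I.subschemeι = (I.subschemeι ≫ pullback.fst f f) ≫ pullback.diagonal f := by
    apply pullback.hom_ext
    · rw [Category.assoc, Category.assoc, pullback.diagonal_fst, Category.comp_id]
    · rw [Category.assoc, Category.assoc, pullback.diagonal_snd, Category.comp_id]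
      exact hg.symm
  have hsub : closure (Set.range (pullback.diagonal f)) ⊆ Set.range (pullback.diagonal f) := by
    rw [← hr]
    rintro _ ⟨t, rfl⟩
    exact ⟨(I.subschemeι ≫ pullback.fst f f) t, by rw [← Scheme.Hom.comp_apply, ← hfac]⟩
  exact closure_subset_iff_isClosed.mp hsub

lemma sep_of_local {X S : Scheme.{u}} (f : X ⟶ S)
    (H : ∀ x₁ x₂ : X, f.base x₁ = f.base x₂ →
      ∃ V : X.Opens, x₁ ∈ V ∧ x₂ ∈ V ∧ IsSeparated (V.ι ≫ f)) :
    IsSeparated f := by
  apply sep_of_closed
  rw [← closure_subset_iff_isClosed]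
  intro z hz
  have hfib : f.base (pullback.fst f f z) = f.base (pullback.snd f f z) := by
    change (pullback.fst f f ≫ f) z = (pullback.snd f f ≫ f) z
    rw [pullback.condition]
  obtain ⟨V, h1, h2, hV⟩ := H _ _ hfib
  obtain ⟨j, hjo, hjr, hj1, hj2⟩ : ∃ j : pullback (V.ι ≫ f) (V.ι ≫ f) ⟶ pullback f f,
      IsOpenImmersion j ∧
      Set.range j = pullback.fst f f ⁻¹' Set.range V.ι ∩ pullback.snd f f ⁻¹' Set.range V.ι ∧
      j ≫ pullback.fst f f = pullback.fst _ _ ≫ V.ι ∧
      j ≫ pullback.snd f f = pullback.snd _ _ ≫ V.ι :=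
    ⟨pullback.map (V.ι ≫ f) (V.ι ≫ f) f f V.ι V.ι (𝟙 S) (by simp) (by simp), inferInstance,
      Scheme.Pullback.range_map _ _ _ _ _ _ _ _ _, pullback.lift_fst _ _ _, pullback.lift_snd _ _ _⟩
  have hcomm : pullback.diagonal (V.ι ≫ f) ≫ j = V.ι ≫ pullback.diagonal f := by
    apply pullback.hom_ext
    · rw [Category.assoc, hj1, pullback.diagonal_fst_assoc, Category.assoc,
        pullback.diagonal_fst, Category.comp_id]
    · rw [Category.assoc, hj2, pullback.diagonal_snd_assoc, Category.assoc,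
        pullback.diagonal_snd, Category.comp_id]
  have hzr : z ∈ Set.range j := by
    rw [hjr]
    refine ⟨?_, ?_⟩
    · rw [Set.mem_preimage, Scheme.Opens.range_ι]; exact h1
    · rw [Set.mem_preimage, Scheme.Opens.range_ι]; exact h2
  obtain ⟨w, rfl⟩ := hzr
  have hw : w ∈ closure (j ⁻¹' Set.range (pullback.diagonal f)) := by
    rw [← j.isOpenEmbedding.isOpenMap.preimage_closure_eq_closure_preimage j.continuous]
    exact hz
  have hpre : j ⁻¹' Set.range (pullback.diagonal f) ⊆
      Set.range (pullback.diagonal (V.ι ≫ f)) := by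
    rintro w' ⟨x, hx⟩
    have hx1 : x = V.ι (pullback.fst (V.ι ≫ f) (V.ι ≫ f) w') := by
      have h3 := congrArg (fun y => pullback.fst f f y) hx
      simp only [← Scheme.Hom.comp_apply] at h3
      rw [pullback.diagonal_fst, hj1] at h3
      exact h3
    refine ⟨pullback.fst (V.ι ≫ f) (V.ι ≫ f) w', ?_⟩
    apply j.isOpenEmbedding.injective
    rw [← Scheme.Hom.comp_apply, hcomm, Scheme.Hom.comp_apply, ← hx1, hx]
  have hcl : IsClosed (Set.range (pullback.diagonal (V.ι ≫ f))) :=
    (pullback.diagonal (V.ι ≫ f)).isClosedEmbedding.isClosed_range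
  have hw' : w ∈ Set.range (pullback.diagonal (V.ι ≫ f)) :=
    (hcl.closure_subset_iff.mpr hpre) hw
  obtain ⟨v, rfl⟩ := hw'
  exact ⟨V.ι v, by rw [← Scheme.Hom.comp_apply, ← Scheme.Hom.comp_apply, hcomm]⟩

/-- (i) ⟺ (iii) ⟺ (iv'): let f : X → S be a morphism of schemes. Then X is separated over S if and only
if for every reduced scheme T and every two morphisms T → X with the same composite to S which agree
on a dense open subscheme of T are equal; and X is separated over S if and only if every two points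
of X in the same fibre over S lie in a common open subscheme of X which is separated over S. -/
theorem result (X S : Scheme.{u}) (f : X ⟶ S) :
    (IsSeparated f ↔ ∀ (T : Scheme.{u}) [IsReduced T] (g₁ g₂ : T ⟶ X) (U : T.Opens), g₁ ≫ f = g₂ ≫ f →
      Dense (U : Set T) → U.ι ≫ g₁ = U.ι ≫ g₂ → g₁ = g₂) ∧
    (IsSeparated f ↔ ∀ x₁ x₂ : X, f.base x₁ = f.base x₂ →
      ∃ V : X.Opens, x₁ ∈ V ∧ x₂ ∈ V ∧ IsSeparated (V.ι ≫ f)) := by
  refine ⟨⟨?_, sep_of_cond f⟩, ⟨?_, sep_of_local f⟩⟩
  · intro hs T _ g₁ g₂ U hfg hU hUg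
    haveI : IsDominant U.ι := ⟨by rw [DenseRange, Scheme.Opens.range_ι]; exact hU⟩
    exact ext_of_isDominant_of_isSeparated f hfg U.ι hUg
  · intro hs x₁ x₂ _
    exact ⟨⊤, trivial, trivial, inferInstance⟩

end Groth.Agent.S5333
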