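import Mathlib
import Groth.Statements.S5335
import Groth.Agent.S9344
import Groth.Agent.H28.GrpDense2
-- import your own Groth.Agent.* helpers here

set_option autoImplicit false
universe u
open CategoryTheory CategoryTheory.Limits MonoidalCategory CartesianMonoidalCategory MonObj GrpObj AlgebraicGeometry
open SGA3

namespace Groth.Agent.S5335


lemma uo_of_comp_surj {X Y Z : Scheme.{u}} (f : X ⟶ Y) (g : Y ⟶ Z)
    [UniversallyOpen (f ≫ g)] [Surjective f] : UniversallyOpen g := by
  constructor
  intro X' Y' i₁ i₂ f' H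
  have hpo : UniversallyOpen (pullback.fst i₁ f ≫ f') :=
    MorphismProperty.of_isPullback (P := @UniversallyOpen)
      ((IsPullback.of_hasPullback i₁ f).paste_horiz H).flip inferInstance
  have h0 := (pullback.fst i₁ f ≫ f').isOpenMap
  have hsurj : Function.Surjective (pullback.fst i₁ f) :=
    (MorphismProperty.pullback_fst (P := @Surjective) _ _ ‹_›).1
  show IsOpenMap f'
  intro V hV
  have h1 := h0 _ (hV.preimage (pullback.fst i₁ f).continuous)
  have h2 : ⇑f' '' V = ⇑(pullback.fst i₁ f ≫ f') '' (⇑(pullback.fst i₁ f) ⁻¹' V) := by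
    ext z
    constructor
    · rintro ⟨v, hv, rfl⟩
      obtain ⟨w, rfl⟩ := hsurj v
      exact ⟨w, hv, by rw [Scheme.Hom.comp_apply]⟩
    · rintro ⟨w, hw, rfl⟩
      exact ⟨_, hw, by rw [Scheme.Hom.comp_apply]⟩
  rw [h2]
  exact h1

lemma uo_artin (A : Type u) [CommRing A] [IsArtinianRing A] [IsLocalRing A] {T : Scheme.{u}}
    (h : T ⟶ Spec (CommRingCat.of A)) : UniversallyOpen h := by
  obtain ⟨i₀, hi₀⟩ : ∃ i₀ : Spec (CommRingCat.of (IsLocalRing.ResidueField A)) ⟶
      Spec (CommRingCat.of A), i₀ = Spec.map (CommRingCat.ofHom (IsLocalRing.residue A)) :=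
    ⟨_, rfl⟩
  haveI : UniversallyOpen i₀ :=
    Groth.Agent.H28.GrpDense2.universallyOpen_of_field_of_artinianLocal A
      (CommRingCat.of (IsLocalRing.ResidueField A)) i₀
  haveI : Surjective i₀ := by
    refine ⟨fun p => ⟨IsLocalRing.closedPoint _, ?_⟩⟩
    have hsub : ∀ q : PrimeSpectrum A, q.asIdeal = IsLocalRing.maximalIdeal A := fun q =>
      IsLocalRing.eq_maximalIdeal (IsArtinianRing.isMaximal_of_isPrime q.asIdeal)
    exact PrimeSpectrum.ext ((hsub _).trans (hsub p).symm)
  haveI : Surjective (pullback.fst h i₀) := inferInstance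
  haveI : Subsingleton (Spec (CommRingCat.of (IsLocalRing.ResidueField A))) :=
    (inferInstance : Subsingleton (PrimeSpectrum (IsLocalRing.ResidueField A)))
  haveI : UniversallyOpen (pullback.snd h i₀) := inferInstance
  haveI : UniversallyOpen (pullback.fst h i₀ ≫ h) := by
    rw [pullback.condition]; infer_instance
  exact uo_of_comp_surj (pullback.fst h i₀) h

/-- Let A be a local artinian ring and f : X' → X, g : Y' → Y two quasi-compact dominant morphisms of
schemes over A. Then the product morphism f ×_A g : X' ×_A Y' → X ×_A Y is dominant (and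
quasi-compact). -/
theorem result (A : Type u) [CommRing A] [IsArtinianRing A] [IsLocalRing A] (X X' Y Y' : Over (Spec (CommRingCat.of A)))
    (f : X' ⟶ X) (g : Y' ⟶ Y) [QuasiCompact f.left] [QuasiCompact g.left]
    (hf : DenseRange f.left.base) (hg : DenseRange g.left.base) :
    DenseRange (f ⊗ₘ g).left.base ∧ QuasiCompact (f ⊗ₘ g).left := by
  haveI : UniversallyOpen X.hom := uo_artin A X.hom
  haveI : UniversallyOpen Y'.hom := uo_artin A Y'.hom
  haveI : IsDominant f.left := ⟨hf⟩
  haveI : IsDominant g.left := ⟨hg⟩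
  have sq1 : IsPullback (f ▷ Y').left (pullback.fst X'.hom Y'.hom) (pullback.fst X.hom Y'.hom)
      f.left := by
    have e_snd : (f ▷ Y').left ≫ pullback.snd X.hom Y'.hom = pullback.snd X'.hom Y'.hom :=
      congrArg (fun t => Over.Hom.left t) (whiskerRight_snd f Y')
    have e_fst : (f ▷ Y').left ≫ pullback.fst X.hom Y'.hom =
        pullback.fst X'.hom Y'.hom ≫ f.left :=
      congrArg (fun t => Over.Hom.left t) (whiskerRight_fst f Y')
    have outer : IsPullback ((f ▷ Y').left ≫ pullback.snd X.hom Y'.hom)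
        (pullback.fst X'.hom Y'.hom) Y'.hom (f.left ≫ X.hom) := by
      rw [e_snd, Over.w f]; exact (IsPullback.of_hasPullback X'.hom Y'.hom).flip
    exact IsPullback.of_right outer e_fst (IsPullback.of_hasPullback X.hom Y'.hom).flip
  have sq2 : IsPullback (X ◁ g).left (pullback.snd X.hom Y'.hom) (pullback.snd X.hom Y.hom)
      g.left := by
    have e_fst : (X ◁ g).left ≫ pullback.fst X.hom Y.hom = pullback.fst X.hom Y'.hom :=
      congrArg (fun t => Over.Hom.left t) (whiskerLeft_fst X g)
    have e_snd : (X ◁ g).left ≫ pullback.snd X.hom Y.hom =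
        pullback.snd X.hom Y'.hom ≫ g.left :=
      congrArg (fun t => Over.Hom.left t) (whiskerLeft_snd X g)
    have outer : IsPullback ((X ◁ g).left ≫ pullback.fst X.hom Y.hom)
        (pullback.snd X.hom Y'.hom) X.hom (g.left ≫ Y.hom) := by
      rw [e_fst, Over.w g]; exact IsPullback.of_hasPullback X.hom Y'.hom
    exact IsPullback.of_right outer e_snd (IsPullback.of_hasPullback X.hom Y.hom)
  haveI d1 : IsDominant (f ▷ Y').left :=
    Groth.Agent.S9344.result f.left (pullback.fst X.hom Y'.hom) (pullback.fst X'.hom Y'.hom)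
      (f ▷ Y').left sq1.flip (pullback.fst X.hom Y'.hom).isOpenMap
  haveI d2 : IsDominant (X ◁ g).left :=
    Groth.Agent.S9344.result g.left (pullback.snd X.hom Y.hom) (pullback.snd X.hom Y'.hom)
      (X ◁ g).left sq2.flip (pullback.snd X.hom Y.hom).isOpenMap
  haveI q1 : QuasiCompact (f ▷ Y').left :=
    MorphismProperty.of_isPullback (P := @QuasiCompact) sq1.flip inferInstance
  haveI q2 : QuasiCompact (X ◁ g).left :=
    MorphismProperty.of_isPullback (P := @QuasiCompact) sq2.flip inferInstance
  have hdecomp : (f ⊗ₘ g) = (f ▷ Y') ≫ (X ◁ g) := tensorHom_def f g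
  have dom : IsDominant (f ⊗ₘ g).left := by
    rw [hdecomp, Over.comp_left]; infer_instance
  have qc : QuasiCompact (f ⊗ₘ g).left := by
    rw [hdecomp, Over.comp_left]; infer_instance
  exact ⟨dom.1, qc⟩

end Groth.Agent.S5335
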