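import Groth.Statements.S5338
import Mathlib

set_option autoImplicit false
universe u
open CategoryTheory CategoryTheory.Limits MonoidalCategory CartesianMonoidalCategory MonObj GrpObj AlgebraicGeometry
open SGA3

namespace Groth.Agent.S5338

section helpers

theorem nak {A : Type*} [CommRing A] {M : Type*} [AddCommGroup M] [Module A M] (n : Ideal A)
    (hn : IsNilpotent n) (N K : Submodule A M) (h : K ≤ N ⊔ n • K) : K ≤ N := by
  have key : ∀ k : ℕ, K ≤ N ⊔ n ^ k • K := by
    intro k
    induction k with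
    | zero =>
      rw [pow_zero, Ideal.one_eq_top, Submodule.top_smul]
      exact le_sup_right
    | succ k ih =>
      refine ih.trans (sup_le le_sup_left ?_)
      calc n ^ k • K ≤ n ^ k • (N ⊔ n • K) := Submodule.smul_mono le_rfl h
        _ = n ^ k • N ⊔ n ^ k • n • K := by rw [Submodule.smul_sup]
        _ ≤ N ⊔ n ^ (k + 1) • K := by
          rw [pow_succ, mul_smul]
          exact sup_le_sup_right Submodule.smul_le_right _
  obtain ⟨k, hk⟩ := hn
  have := key k
  rwa [hk, Ideal.zero_eq_bot, Submodule.bot_smul, sup_bot_eq] at this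

theorem exists_rep {A : Type*} [CommRing A] {M : Type*} [AddCommGroup M] [Module A M]
    (n : Ideal A) (x : M) (hx : x ∈ n • (⊤ : Submodule A M)) :
    ∃ (Idx : Type) (_ : Fintype Idx) (a : Idx → A) (q : Idx → M),
      (∀ i, a i ∈ n) ∧ x = ∑ i, a i • q i := by
  refine Submodule.smul_induction_on hx ?_ ?_
  · intro r hr m _
    exact ⟨Unit, inferInstance, fun _ => r, fun _ => m, fun _ => hr, by simp⟩
  · rintro x y ⟨I₁, _, a₁, q₁, h₁, rfl⟩ ⟨I₂, _, a₂, q₂, h₂, rfl⟩
    refine ⟨I₁ ⊕ I₂, inferInstance, Sum.elim a₁ a₂, Sum.elim q₁ q₂, ?_, ?_⟩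
    · rintro (i | i)
      · exact h₁ i
      · exact h₂ i
    · rw [Fintype.sum_sum_type]
      simp

theorem flat_key {A : Type*} [CommRing A] {P C : Type*} [AddCommGroup P] [Module A P]
    [AddCommGroup C] [Module A C] [Module.Flat A C] (n : Ideal A) (φ : P →ₗ[A] C)
    (hφ : Function.Surjective φ) (x : P)
    (hx0 : φ x = 0) (hx : x ∈ n • (⊤ : Submodule A P)) : x ∈ n • LinearMap.ker φ := by
  obtain ⟨Idx, _, a, q, ha, rfl⟩ := exists_rep n x hx
  have hrel : ∑ i, a i • φ (q i) = 0 := by
    rw [← hx0, map_sum]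
    exact Finset.sum_congr rfl fun i _ => (map_smul φ _ _).symm
  obtain ⟨l, b, y, hy, hb⟩ := Module.Flat.isTrivialRelation_of_sum_smul_eq_zero hrel
  have hy' : ∀ i, φ (q i) = ∑ j, b i j • y j := fun i => hy i
  choose w hw using fun j => hφ (y j)
  let z : Idx → P := fun i => q i - ∑ j, b i j • w j
  have hz : ∀ i, z i ∈ LinearMap.ker φ := by
    intro i
    rw [LinearMap.mem_ker]
    simp only [z, map_sub, map_sum, map_smul, hw]
    rw [hy' i, sub_self]
  have h0 : ∑ i, ∑ j, a i • b i j • w j = 0 := by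
    rw [Finset.sum_comm]
    refine Finset.sum_eq_zero fun j _ => ?_
    have : ∀ i, a i • b i j • w j = (a i * b i j) • w j := fun i => (mul_smul _ _ _).symm
    rw [Finset.sum_congr rfl (fun i _ => this i), ← Finset.sum_smul, hb j, zero_smul]
  have hx' : ∑ i, a i • q i = ∑ i, a i • z i := by
    rw [← sub_eq_zero, ← Finset.sum_sub_distrib, ← h0]
    refine Finset.sum_congr rfl fun i _ => ?_
    simp only [z]
    rw [← smul_sub, sub_sub_cancel, Finset.smul_sum]
  rw [hx']
  exact Submodule.sum_mem _ fun i _ => Submodule.smul_mem_smul (ha i) (hz i)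

variable (A B C : Type u) [CommRing A] [CommRing B] [CommRing C]
    [Algebra A B] [Algebra B C] [Algebra A C] [IsScalarTower A B C] (n : Ideal A)

theorem mem_nC_iff (x : C) :
    x ∈ (n.map (algebraMap A B)).map (algebraMap B C) ↔ x ∈ n • (⊤ : Submodule A C) := by
  rw [Ideal.smul_top_eq_map, Submodule.restrictScalars_mem, IsScalarTower.algebraMap_eq A B C,
    ← Ideal.map_map]

theorem part1 (hn : IsNilpotent n)
    (h : Algebra.FiniteType (B ⧸ n.map (algebraMap A B))
      (C ⧸ (n.map (algebraMap A B)).map (algebraMap B C))) : Algebra.FiniteType B C := by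
  have h' : Algebra.FiniteType B (C ⧸ (n.map (algebraMap A B)).map (algebraMap B C)) :=
    Algebra.FiniteType.trans (S := B ⧸ n.map (algebraMap A B)) inferInstance h
  obtain ⟨k, g, hg⟩ := Algebra.FiniteType.iff_quotient_mvPolynomial''.1 h'
  have hmk : Function.Surjective
      (Ideal.Quotient.mk ((n.map (algebraMap A B)).map (algebraMap B C))) :=
    Ideal.Quotient.mk_surjective
  choose c hc using fun i => hmk (g (MvPolynomial.X i))
  obtain ⟨f, hfdef⟩ : ∃ f : MvPolynomial (Fin k) B →ₐ[B] C, f = MvPolynomial.aeval c := ⟨_, rfl⟩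
  have hfg : ∀ q, Ideal.Quotient.mk ((n.map (algebraMap A B)).map (algebraMap B C)) (f q) = g q := by
    intro q
    have : (Ideal.Quotient.mkₐ B ((n.map (algebraMap A B)).map (algebraMap B C))).comp f = g := by
      apply MvPolynomial.algHom_ext
      intro i
      rw [AlgHom.comp_apply, hfdef, MvPolynomial.aeval_X, Ideal.Quotient.mkₐ_eq_mk, hc]
    exact DFunLike.congr_fun this q
  refine Algebra.FiniteType.iff_quotient_mvPolynomial''.2 ⟨k, f, ?_⟩
  obtain ⟨fA, hfA⟩ : ∃ fA : MvPolynomial (Fin k) B →ₗ[A] C, ∀ q, fA q = f q :=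
    ⟨f.toLinearMap.restrictScalars A, fun _ => rfl⟩
  have hle : (⊤ : Submodule A C) ≤ LinearMap.range fA ⊔ n • (⊤ : Submodule A C) := by
    intro x _
    obtain ⟨q, hq⟩ := hg (Ideal.Quotient.mk _ x)
    have h1 : x - f q ∈ (n.map (algebraMap A B)).map (algebraMap B C) := by
      rw [← Ideal.Quotient.eq, hfg, hq]
    have h2 : x - f q ∈ n • (⊤ : Submodule A C) := (mem_nC_iff A B C n _).1 h1
    have : x = fA q + (x - f q) := by rw [hfA]; ring
    rw [this]
    exact Submodule.add_mem_sup (LinearMap.mem_range.2 ⟨q, rfl⟩) h2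
  have hfin := nak n hn (LinearMap.range fA) ⊤ hle
  intro x
  obtain ⟨q, hq⟩ := LinearMap.mem_range.1 (hfin (Submodule.mem_top : x ∈ ⊤))
  exact ⟨q, (hfA q).symm.trans hq⟩

theorem part2 (hn : IsNilpotent n) (hflat : Module.Flat A C)
    (hfp : Algebra.FinitePresentation (B ⧸ n.map (algebraMap A B))
      (C ⧸ (n.map (algebraMap A B)).map (algebraMap B C)))
    (hft : Algebra.FiniteType B C) : Algebra.FinitePresentation B C := by
  classical
  obtain ⟨k, f, hf⟩ := Algebra.FiniteType.iff_quotient_mvPolynomial''.1 hft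
  refine ⟨⟨k, f, hf, ?_⟩⟩
  obtain ⟨π, hπdef⟩ : ∃ π : MvPolynomial (Fin k) B →+*
      MvPolynomial (Fin k) (B ⧸ n.map (algebraMap A B)),
      π = MvPolynomial.map (Ideal.Quotient.mk (n.map (algebraMap A B))) := ⟨_, rfl⟩
  obtain ⟨f', hf'def⟩ : ∃ f' : MvPolynomial (Fin k) (B ⧸ n.map (algebraMap A B))
      →ₐ[B ⧸ n.map (algebraMap A B)] (C ⧸ (n.map (algebraMap A B)).map (algebraMap B C)),
      f' = MvPolynomial.aeval (fun i =>
        Ideal.Quotient.mk ((n.map (algebraMap A B)).map (algebraMap B C)) (f (MvPolynomial.X i))) :=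
    ⟨_, rfl⟩
  obtain ⟨fA, hfA⟩ : ∃ fA : MvPolynomial (Fin k) B →ₗ[A] C, ∀ q, fA q = f q :=
    ⟨f.toLinearMap.restrictScalars A, fun _ => rfl⟩
  have hfAsurj : Function.Surjective fA := fun c => by
    obtain ⟨q, hq⟩ := hf c
    exact ⟨q, (hfA q).trans hq⟩
  have hπsurj : Function.Surjective π := by
    rw [hπdef]; exact MvPolynomial.map_surjective _ Ideal.Quotient.mk_surjective
  have hcomp : ∀ q, f' (π q) =
      Ideal.Quotient.mk ((n.map (algebraMap A B)).map (algebraMap B C)) (f q) := by
    intro q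
    have : (f' : MvPolynomial (Fin k) (B ⧸ n.map (algebraMap A B)) →+*
          (C ⧸ (n.map (algebraMap A B)).map (algebraMap B C))).comp π
        = (Ideal.Quotient.mk ((n.map (algebraMap A B)).map (algebraMap B C))).comp
          (f : MvPolynomial (Fin k) B →+* C) := by
      apply MvPolynomial.ringHom_ext
      · intro b
        have e1 : f (MvPolynomial.C b) = algebraMap B C b := f.commutes b
        show f' (π (MvPolynomial.C b)) = Ideal.Quotient.mk _ (f (MvPolynomial.C b))
        calc f' (π (MvPolynomial.C b))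
            = f' (MvPolynomial.C (Ideal.Quotient.mk _ b)) := by rw [hπdef, MvPolynomial.map_C]
          _ = algebraMap _ _ (Ideal.Quotient.mk (n.map (algebraMap A B)) b) := by
              rw [hf'def, MvPolynomial.aeval_C]
          _ = Ideal.Quotient.mk _ (algebraMap B C b) := rfl
          _ = Ideal.Quotient.mk _ (f (MvPolynomial.C b)) := by rw [e1]
      · intro i
        show f' (π (MvPolynomial.X i)) = Ideal.Quotient.mk _ (f (MvPolynomial.X i))
        rw [hπdef, MvPolynomial.map_X, hf'def, MvPolynomial.aeval_X]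
    exact RingHom.congr_fun this q
  have hf'surj : Function.Surjective f' := by
    intro z
    obtain ⟨c, rfl⟩ := Ideal.Quotient.mk_surjective z
    obtain ⟨q, rfl⟩ := hf c
    exact ⟨π q, hcomp q⟩
  haveI := hfp
  haveI := hflat
  have hker' : (RingHom.ker f'.toRingHom).FG :=
    Algebra.FinitePresentation.ker_fG_of_surjective f' hf'surj
  have hkerπ : ∀ z : MvPolynomial (Fin k) B,
      π z = 0 ↔ z ∈ n • (⊤ : Submodule A (MvPolynomial (Fin k) B)) := by
    have e1 : RingHom.ker π =
        Ideal.map MvPolynomial.C (Ideal.map (algebraMap A B) n) := by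
      rw [hπdef, MvPolynomial.ker_map, Ideal.mk_ker]
    have e2 : n • (⊤ : Submodule A (MvPolynomial (Fin k) B)) =
        (Ideal.map (MvPolynomial.C : B →+* MvPolynomial (Fin k) B)
          (Ideal.map (algebraMap A B) n)).restrictScalars A := by
      rw [Ideal.smul_top_eq_map, IsScalarTower.algebraMap_eq A B (MvPolynomial (Fin k) B),
        ← Ideal.map_map, MvPolynomial.algebraMap_eq]
    intro z
    rw [e2, Submodule.restrictScalars_mem, ← e1, RingHom.mem_ker]
  have hL : ∀ y : MvPolynomial (Fin k) (B ⧸ n.map (algebraMap A B)),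
      f' y = 0 → ∃ x : MvPolynomial (Fin k) B, f x = 0 ∧ π x = y := by
    intro y hy
    obtain ⟨x₀, rfl⟩ := hπsurj y
    rw [hcomp, Ideal.Quotient.eq_zero_iff_mem] at hy
    have h2 : fA x₀ ∈ n • (⊤ : Submodule A C) := by
      rw [hfA]; exact (mem_nC_iff A B C n _).1 hy
    have h3 : n • (⊤ : Submodule A C) =
        Submodule.map fA (n • (⊤ : Submodule A (MvPolynomial (Fin k) B))) := by
      rw [Submodule.map_smul'', Submodule.map_top, LinearMap.range_eq_top.2 hfAsurj]
    rw [h3] at h2
    obtain ⟨z, hz, hzx⟩ := h2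
    refine ⟨x₀ - z, ?_, ?_⟩
    · rw [map_sub, sub_eq_zero, ← hfA, ← hfA]; exact hzx.symm
    · rw [map_sub, (hkerπ z).2 hz, sub_zero]
  obtain ⟨S', hS'⟩ := hker'
  have hlift : ∀ y : S', ∃ x : MvPolynomial (Fin k) B, f x = 0 ∧ π x = y.1 := by
    intro y
    apply hL
    have : y.1 ∈ RingHom.ker f'.toRingHom := by
      rw [← hS']; exact Submodule.subset_span (Finset.mem_coe.2 y.2)
    exact this
  choose ℓ hℓJ hℓπ using hlift
  obtain ⟨J', hJ'def⟩ : ∃ J' : Ideal (MvPolynomial (Fin k) B), J' = Ideal.span (Set.range ℓ) :=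
    ⟨_, rfl⟩
  have hJ'fg : J'.FG := by
    rw [hJ'def]; exact Submodule.fg_span (Set.finite_range ℓ)
  have hJ'le : ∀ x ∈ J', f x = 0 := by
    have : J' ≤ RingHom.ker f.toRingHom := by
      rw [hJ'def]
      refine Ideal.span_le.2 ?_
      rintro _ ⟨y, rfl⟩
      exact hℓJ y
    intro x hx
    exact this hx
  have hkerle : RingHom.ker f'.toRingHom ≤ Ideal.map π J' := by
    rw [← hS']
    refine Submodule.span_le.2 fun y hy => ?_
    have h1 : ℓ ⟨y, Finset.mem_coe.1 hy⟩ ∈ J' := by
      rw [hJ'def]; exact Ideal.subset_span ⟨_, rfl⟩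
    have := Ideal.mem_map_of_mem π h1
    rwa [hℓπ] at this
  have hmain : LinearMap.ker fA ≤ J'.restrictScalars A ⊔ n • LinearMap.ker fA := by
    intro x hx
    have hx0 : f x = 0 := by rw [← hfA]; exact LinearMap.mem_ker.1 hx
    have h1 : π x ∈ Ideal.map π J' :=
      hkerle (by show f' (π x) = 0; rw [hcomp, hx0, map_zero])
    obtain ⟨x', hx'J, hx'π⟩ := (Ideal.mem_map_iff_of_surjective π hπsurj).1 h1
    have h2 : x - x' ∈ n • (⊤ : Submodule A (MvPolynomial (Fin k) B)) :=
      (hkerπ _).1 (by rw [map_sub, hx'π, sub_self])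
    have h3 : fA (x - x') = 0 := by rw [hfA, map_sub, hx0, hJ'le x' hx'J, sub_zero]
    have h4 := flat_key n fA hfAsurj (x - x') h3 h2
    have : x = x' + (x - x') := by ring
    rw [this]
    exact Submodule.add_mem_sup hx'J h4
  have hle := nak n hn _ _ hmain
  have hJeq : RingHom.ker f.toRingHom = J' := by
    refine le_antisymm (fun x hx => ?_) (fun x hx => hJ'le x hx)
    have hx0 : f x = 0 := hx
    exact hle (LinearMap.mem_ker.2 ((hfA x).trans hx0))
  rw [hJeq]; exact hJ'fg

end helpers

/-- Let A → B → C be homomorphisms of commutative rings and n a nilpotent ideal of A; write nB and nC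
for the extended ideals. (i) If C/nC is a (B/nB)-algebra of finite type, then C is a B-algebra of
finite type. (ii) If moreover C is flat over A and C/nC is a (B/nB)-algebra of finite presentation,
then C is a B-algebra of finite presentation. -/
theorem result (A B C : Type u) [CommRing A] [CommRing B] [CommRing C]
    [Algebra A B] [Algebra B C] [Algebra A C] [IsScalarTower A B C] (n : Ideal A) (hn : IsNilpotent n) :
    (Algebra.FiniteType (B ⧸ n.map (algebraMap A B)) (C ⧸ (n.map (algebraMap A B)).map (algebraMap B C)) →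
      Algebra.FiniteType B C) ∧
    (Module.Flat A C →
      Algebra.FinitePresentation (B ⧸ n.map (algebraMap A B)) (C ⧸ (n.map (algebraMap A B)).map (algebraMap B C)) →
      Algebra.FinitePresentation B C) := by
  refine ⟨fun h => part1 A B C n hn h, fun hflat hfp => ?_⟩
  have hft : Algebra.FiniteType B C := part1 A B C n hn (by haveI := hfp; infer_instance)
  exact part2 A B C n hn hflat hfp hft

end Groth.Agent.S5338
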