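import Groth.Statements.S5343
import Mathlib

set_option autoImplicit false
universe u
open CategoryTheory CategoryTheory.Limits MonoidalCategory CartesianMonoidalCategory MonObj GrpObj AlgebraicGeometry
open SGA3

namespace Groth.Agent.S5343

/-- Let R be a commutative ring and B a commutative R-algebra which is projective as an R-module. Then
the image of Spec B → Spec R is an open and closed subset of Spec R. (The published statement
concerns a quasi-coherent algebra on any scheme which is a direct summand of a free module; this row
is the affine case.) -/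
theorem result (R B : Type u) [CommRing R] [CommRing B] [Algebra R B] [Module.Projective R B] :
    IsClopen (Set.range (PrimeSpectrum.comap (algebraMap R B))) := by
  classical
  obtain ⟨sec, hsec⟩ := Module.projective_def'.mp (inferInstance : Module.Projective R B)
  -- a linear functional sends `I B` into `I`
  have hL : ∀ (I : Ideal R) (φ : B →ₗ[R] R) (x : B),
      x ∈ Ideal.map (algebraMap R B) I → φ x ∈ I := by
    intro I φ x hx
    have hx' : x ∈ I • (⊤ : Submodule R B) := by
      rw [Ideal.smul_top_eq_map]
      exact hx
    refine Submodule.smul_induction_on hx' ?_ ?_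
    · intro r hr n _
      rw [map_smul, smul_eq_mul]
      exact Ideal.mul_mem_right _ _ hr
    · intro x y hx hy
      rw [map_add]
      exact I.add_mem hx hy
  have h1' : ((sec 1).sum fun b r => r • b) = (1 : B) := by
    have := LinearMap.congr_fun hsec 1
    simpa [Finsupp.linearCombination_apply] using this
  obtain ⟨c, hc⟩ : ∃ c : B →₀ R, c = sec 1 := ⟨_, rfl⟩
  have hcoord : ∀ (b₀ : B) (x : R), ((Finsupp.lapply b₀).comp sec) (algebraMap R B x) = x * c b₀ := by
    intro b₀ x
    rw [Algebra.algebraMap_eq_smul_one, map_smul, smul_eq_mul, hc]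
    rfl
  have hcoord1 : ∀ (b₀ : B), ((Finsupp.lapply b₀).comp sec) 1 = c b₀ := by
    intro b₀
    rw [hc]
    rfl
  rw [← hc] at h1'
  have h1 : (c.sum fun b r => r • b) = (1 : B) := h1'
  clear h1' hc
  -- the content ideal of 1
  have hmapτ : Ideal.map (algebraMap R B) (Ideal.span (Set.range (c))) = ⊤ := by
    rw [Ideal.eq_top_iff_one, ← h1]
    refine Ideal.sum_mem _ (fun b _ => ?_)
    show c b • b ∈ _
    rw [Algebra.smul_def]
    exact Ideal.mul_mem_right _ _
      (Ideal.mem_map_of_mem _ (Ideal.subset_span (Set.mem_range_self b)))
  have hidem : IsIdempotentElem (Ideal.span (Set.range (c))) := by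
    apply le_antisymm Ideal.mul_le_left
    rw [Ideal.span_le]
    rintro _ ⟨b₀, rfl⟩
    have hone : (1 : B) ∈ Ideal.map (algebraMap R B)
        (Ideal.span (Set.range (c)) * Ideal.span (Set.range (c))) := by
      rw [Ideal.map_mul, hmapτ, Ideal.top_mul]
      exact Submodule.mem_top
    rw [← hcoord1 b₀]
    exact hL _ ((Finsupp.lapply b₀).comp sec) 1 hone
  have hfg : (Ideal.span (Set.range (c))).FG :=
    Submodule.fg_span (Finsupp.finite_range (c))
  obtain ⟨e, he, hτe⟩ := (Ideal.isIdempotentElem_iff_of_fg _ hfg).mp hidem
  have hrange : Set.range (PrimeSpectrum.comap (algebraMap R B)) =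
      (PrimeSpectrum.basicOpen e : Set (PrimeSpectrum R)) := by
    ext p
    simp only [SetLike.mem_coe, PrimeSpectrum.mem_basicOpen]
    constructor
    · rintro ⟨q, rfl⟩ hep
      have hle : Ideal.span (Set.range (c)) ≤ Ideal.comap (algebraMap R B) q.asIdeal := by
        rw [hτe, Ideal.submodule_span_eq, Ideal.span_le, Set.singleton_subset_iff]
        exact hep
      have := Ideal.map_le_iff_le_comap.mpr hle
      rw [hmapτ, top_le_iff] at this
      exact q.isPrime.ne_top this
    · intro hep
      rw [PrimeSpectrum.mem_range_comap_iff]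
      apply le_antisymm _ Ideal.le_comap_map
      -- some coordinate of 1 is not in p
      have hnot : ¬ Ideal.span (Set.range (c)) ≤ p.asIdeal := by
        intro hle
        apply hep
        apply hle
        rw [hτe]
        exact Ideal.mem_span_singleton_self e
      have hex : ∃ b₀, c b₀ ∉ p.asIdeal := by
        by_contra hcon
        push Not at hcon
        apply hnot
        rw [Ideal.span_le]
        rintro _ ⟨b, rfl⟩
        exact hcon b
      obtain ⟨b₀, hb₀⟩ := hex
      intro x hx
      rw [Ideal.mem_comap] at hx
      have h2 := hL p.asIdeal ((Finsupp.lapply b₀).comp sec) _ hx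
      rw [hcoord b₀ x] at h2
      exact (p.isPrime.mem_or_mem h2).resolve_right hb₀
  rw [hrange]
  exact PrimeSpectrum.isClopen_iff_mul_add.mpr
    ⟨e, 1 - e, by rw [mul_sub, _root_.mul_one, he.eq, sub_self], by ring, rfl⟩

end Groth.Agent.S5343
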