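import Groth.Statements.S5369
import Groth.Agent.H28.FpqcDescCov
import Groth.Agent.H28.AffDesc
import Groth.Agent.H28.CartPB

set_option autoImplicit false
universe u
open CategoryTheory CategoryTheory.Limits MonoidalCategory CartesianMonoidalCategory MonObj GrpObj AlgebraicGeometry
open SGA3

namespace Groth.Agent.S5369

/-- Let u : G' → G be a monomorphism of S-group schemes and p : G → G'' a morphism of S-schemes which is
covering for the fpqc topology (some Z → G'' which is flat, surjective, with every affine open of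
G'' the image of a quasi-compact open of Z, factors through p) and such that the square (g, h) ↦
g·u(h), first projection G ×_S G' → G, p, p is cartesian, so that G'' represents the fpqc quotient
sheaf G/G'. Let ε'' be the composite of the unit section of G with p. Then the square formed by u,
the structure morphism G' → S, p and ε'' is cartesian; u is an immersion; and G'' is separated over
S if and only if u is a closed immersion, if and only if ε'' is a closed immersion. -/
theorem result (S : Scheme.{u}) (G G' G'' : Over S) [GrpObj G] [GrpObj G']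
    (u : G' ⟶ G) [IsMonHom u] [Mono u] (p : G ⟶ G'')
    (hcov : (∃ (Z : Scheme.{u}) (q : Z ⟶ G''.left) (r : Z ⟶ G.left), r ≫ p.left = q ∧ Surjective q ∧ Flat q ∧
        ∀ V : G''.left.Opens, IsAffineOpen V → ∃ W : Z.Opens, IsCompact (W : Set Z) ∧ q.base '' (W : Set Z) = (V : Set G''.left)))
    (hsq : IsPullback ((G ◁ u) ≫ μ[G]) (fst G G') p p) :
    IsPullback u (toUnit G') p (η[G] ≫ p) ∧ IsImmersion u.left ∧
    (IsSeparated G''.hom ↔ IsClosedImmersion u.left) ∧ (IsClosedImmersion u.left ↔ IsClosedImmersion (η[G] ≫ p).left) := by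
  have hcovp : Groth.Agent.H28.FpqcCov.Cov p.left := Groth.Agent.H28.FpqcCov.cov_of_hcov p.left hcov
  have hE2 : Groth.Agent.H28.FpqcCov.Cov (p ⊗ₘ p).left :=
    Groth.Agent.H28.FpqcCov.cov_tensorHom p p hcovp hcovp
  have e1 : ∀ (T : Over S) (g : T ⟶ G) (h : T ⟶ G'),
      lift g h ≫ (G ◁ u) ≫ μ[G] = g * (h ≫ u) := by
    intro T g h
    rw [← Category.assoc, lift_whiskerLeft, Hom.mul_def]
  have F0 : ∀ (T : Over S) (g : T ⟶ G) (h : T ⟶ G'), (g * (h ≫ u)) ≫ p = g ≫ p := by
    intro T g h
    rw [← e1, Category.assoc, Category.assoc]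
    have := hsq.w
    rw [Category.assoc] at this
    rw [this, lift_fst_assoc]
  have F1 : ∀ (T : Over S) (a b : T ⟶ G), a ≫ p = b ≫ p → ∃ h : T ⟶ G', a = b * (h ≫ u) := by
    intro T a b hab
    have h1 : hsq.lift a b hab ≫ (G ◁ u) ≫ μ[G] = a := hsq.lift_fst _ _ _
    have h2 : hsq.lift a b hab ≫ fst G G' = b := hsq.lift_snd _ _ _
    generalize hsq.lift a b hab = w at h1 h2
    refine ⟨w ≫ snd G G', ?_⟩
    have h3 : w = lift b (w ≫ snd G G') := by
      apply CartesianMonoidalCategory.hom_ext
      · rw [lift_fst, h2]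
      · rw [lift_snd]
    rw [← e1, ← h3, h1]
  have key : ∀ {T : Over S} (g : T ⟶ G), g ≫ p = (1 : T ⟶ G) ≫ p → ∃ h : T ⟶ G', h ≫ u = g := by
    intro T g hg
    obtain ⟨h, hh⟩ := F1 T g 1 hg
    exact ⟨h, by rw [hh, _root_.one_mul]⟩
  have hup : u ≫ p = (1 : G' ⟶ G) ≫ p := by
    have := F0 G' 1 (𝟙 G')
    rwa [_root_.one_mul, Category.id_comp] at this
  have hone : ∀ (T : Over S) (t : T ⟶ 𝟙_ (Over S)), t ≫ η[G] ≫ p = (1 : T ⟶ G) ≫ p := by
    intro T t
    rw [Hom.one_def, ← Category.assoc, toUnit_unique t (toUnit T)]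
  -- (1)
  have sq1 : IsPullback u (toUnit G') p (η[G] ≫ p) := by
    have hcond : ∀ s : Limits.PullbackCone p (η[G] ≫ p), s.fst ≫ p = (1 : s.pt ⟶ G) ≫ p := by
      intro s
      rw [s.condition, hone]
    refine ⟨⟨by rw [hup, hone]⟩, ⟨Limits.PullbackCone.IsLimit.mk _
      (fun s => (key s.fst (hcond s)).choose) ?_ ?_ ?_⟩⟩
    · intro s
      exact (key s.fst (hcond s)).choose_spec
    · intro s
      exact toUnit_unique _ _
    · intro s m hm1 hm2
      rw [← cancel_mono u, hm1, (key s.fst (hcond s)).choose_spec]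
  have sq1L : IsPullback u.left (toUnit G').left p.left (η[G] ≫ p).left :=
    sq1.map (Over.forget S)
  have hεw : (η[G] ≫ p).left ≫ G''.hom = 𝟙 S := by
    simp
  -- (2)
  have hεimm : IsImmersion (η[G] ≫ p).left := by
    have : IsImmersion ((η[G] ≫ p).left ≫ G''.hom) := by
      rw [hεw]
      exact (inferInstance : IsImmersion (𝟙 S))
    exact IsImmersion.of_comp (η[G] ≫ p).left G''.hom
  have h4a : IsClosedImmersion (η[G] ≫ p).left → IsClosedImmersion u.left := fun h =>
    MorphismProperty.of_isPullback (P := @IsClosedImmersion) sq1L.flip h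
  have h4b : IsClosedImmersion u.left → IsClosedImmersion (η[G] ≫ p).left := fun h =>
    Groth.Agent.H28.FpqcDescCov.of_cov_isPullback @IsClosedImmersion sq1L.flip hcovp h
  refine ⟨sq1, MorphismProperty.of_isPullback (P := @IsImmersion) sq1L.flip hεimm,
    ⟨fun hsep => ?_, fun hu => ?_⟩, ⟨h4b, h4a⟩⟩
  · -- separated ⇒ unit section closed ⇒ u closed
    apply h4a
    have : IsClosedImmersion ((η[G] ≫ p).left ≫ G''.hom) := by
      rw [hεw]
      exact (inferInstance : IsClosedImmersion (𝟙 S))
    exact IsClosedImmersion.of_comp (η[G] ≫ p).left G''.hom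
  · -- u closed ⇒ diagonal closed
    -- shear iso
    have hσ : IsIso (lift μ[G] (fst G G)) := by
      refine ⟨lift (snd G G) ((snd G G)⁻¹ * fst G G), ?_, ?_⟩
      · apply CartesianMonoidalCategory.hom_ext
        · rw [Category.assoc, lift_fst, lift_snd, Category.id_comp]
        · rw [Category.assoc, lift_snd, MonObj.comp_mul, GrpObj.comp_inv, lift_snd, lift_fst,
            Category.id_comp]
          have : (μ[G] : G ⊗ G ⟶ G) = fst G G * snd G G := by
            rw [Hom.mul_def, lift_fst_snd, Category.id_comp]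
          rw [this]
          group
      · apply CartesianMonoidalCategory.hom_ext
        · rw [Category.assoc, lift_fst, Category.id_comp, ← Hom.mul_def]
          group
        · rw [Category.assoc, lift_snd, lift_fst, Category.id_comp]
    have hψ : lift ((G ◁ u) ≫ μ[G]) (fst G G') = (G ◁ u) ≫ lift μ[G] (fst G G) := by
      apply CartesianMonoidalCategory.hom_ext
      · rw [lift_fst, Category.assoc, lift_fst]
      · rw [lift_snd, Category.assoc, lift_snd, whiskerLeft_fst]
    have hwl : IsClosedImmersion (G ◁ u).left := by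
      have sqw : IsPullback (G ◁ u).left (snd G G').left (snd G G).left u.left :=
        (Groth.Agent.H28.CartPB.isPullback_whiskerLeft G u).map (Over.forget S)
      exact MorphismProperty.of_isPullback (P := @IsClosedImmersion) sqw.flip hu
    have hσl : IsIso (lift μ[G] (fst G G)).left :=
      inferInstanceAs (IsIso ((Over.forget S).map (lift μ[G] (fst G G))))
    have hψcl : IsClosedImmersion (lift ((G ◁ u) ≫ μ[G]) (fst G G')).left := by
      rw [hψ, Over.comp_left]
      infer_instance
    have sqΔ : IsPullback (lift ((G ◁ u) ≫ μ[G]) (fst G G')) (fst G G' ≫ p) (p ⊗ₘ p)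
        (lift (𝟙 G'') (𝟙 G'')) := by
      have hab : ∀ s : Limits.PullbackCone (p ⊗ₘ p) (lift (𝟙 G'') (𝟙 G'')),
          (s.fst ≫ fst G G) ≫ p = (s.fst ≫ snd G G) ≫ p := by
        intro s
        have h1 := congrArg (fun w => w ≫ fst G'' G'') s.condition
        have h2 := congrArg (fun w => w ≫ snd G'' G'') s.condition
        simp only [Category.assoc, tensorHom_fst, tensorHom_snd, lift_fst, lift_snd,
          Category.comp_id] at h1 h2
        rw [Category.assoc, Category.assoc, h1, h2]
      refine ⟨⟨?_⟩, ⟨Limits.PullbackCone.IsLimit.mk _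
        (fun s => hsq.lift (s.fst ≫ fst G G) (s.fst ≫ snd G G) (hab s)) ?_ ?_ ?_⟩⟩
      · apply CartesianMonoidalCategory.hom_ext
        · simp only [Category.assoc, tensorHom_fst, lift_fst, lift_fst_assoc, Category.comp_id]
          exact hsq.w
        · simp only [Category.assoc, tensorHom_snd, lift_snd, lift_snd_assoc, Category.comp_id]
      · intro s
        apply CartesianMonoidalCategory.hom_ext
        · rw [Category.assoc, lift_fst, hsq.lift_fst]
        · rw [Category.assoc, lift_snd, hsq.lift_snd]
      · intro s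
        have h2 := congrArg (fun w => w ≫ snd G'' G'') s.condition
        simp only [Category.assoc, tensorHom_snd, lift_snd, Category.comp_id] at h2
        rw [← Category.assoc, hsq.lift_snd, Category.assoc, h2]
      · intro s m hm1 hm2
        apply hsq.hom_ext
        · rw [hsq.lift_fst, ← hm1, Category.assoc, lift_fst]
        · rw [hsq.lift_snd, ← hm1, Category.assoc, lift_snd]
    have sqΔL : IsPullback (lift ((G ◁ u) ≫ μ[G]) (fst G G')).left (fst G G' ≫ p).left
        (p ⊗ₘ p).left (lift (𝟙 G'') (𝟙 G'')).left := sqΔ.map (Over.forget S)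
    have hdiag : (lift (𝟙 G'') (𝟙 G'') : G'' ⟶ G'' ⊗ G'').left =
        Limits.pullback.diagonal G''.hom := rfl
    have hcl : IsClosedImmersion (lift (𝟙 G'') (𝟙 G'') : G'' ⟶ G'' ⊗ G'').left :=
      Groth.Agent.H28.FpqcDescCov.of_cov_isPullback @IsClosedImmersion sqΔL.flip hE2 hψcl
    rw [hdiag] at hcl
    exact ⟨hcl⟩


end Groth.Agent.S5369
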