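import Groth.Statements.S5370
import Groth.Agent.H28.QuotCov

set_option autoImplicit false
universe u
open CategoryTheory CategoryTheory.Limits MonoidalCategory CartesianMonoidalCategory MonObj GrpObj AlgebraicGeometry
open SGA3

namespace Groth.Agent.S5370

/-- Let u : G' → G be a monomorphism of S-group schemes and p : G → G'' a morphism of S-schemes which is
covering for the fpqc topology (some Z → G'' which is flat, surjective, with every affine open of
G'' the image of a quasi-compact open of Z, factors through p) and such that the square (g, h) ↦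
g·u(h), first projection G ×_S G' → G, p, p is cartesian, so that G'' represents the fpqc quotient
sheaf G/G'. Then: (ix) if G is reduced, G'' is reduced; (xi) G' is flat over S if and only if p is
flat, and in that case G'' is flat over S if and only if G is flat over S. -/
theorem result (S : Scheme.{u}) (G G' G'' : Over S) [GrpObj G] [GrpObj G']
    (u : G' ⟶ G) [IsMonHom u] [Mono u] (p : G ⟶ G'')
    (hcov : (∃ (Z : Scheme.{u}) (q : Z ⟶ G''.left) (r : Z ⟶ G.left), r ≫ p.left = q ∧ Surjective q ∧ Flat q ∧
        ∀ V : G''.left.Opens, IsAffineOpen V → ∃ W : Z.Opens, IsCompact (W : Set Z) ∧ q.base '' (W : Set Z) = (V : Set G''.left)))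
    (hsq : IsPullback ((G ◁ u) ≫ μ[G]) (fst G G') p p) :
    (IsReduced G.left → IsReduced G''.left) ∧
    (Flat G'.hom ↔ Flat p.left) ∧ (Flat p.left → (Flat G''.hom ↔ Flat G.hom)) := by
  obtain ⟨Z, q, r, hq, hqs, hqf, -⟩ := hcov
  subst hq
  have hpsj : Surjective p.left := Surjective.of_comp r p.left
  have sqL : IsPullback ((G ◁ u) ≫ μ[G]).left (fst G G').left p.left p.left :=
    hsq.map (Over.forget _)
  have hfsteq : (fst G G').left = Limits.pullback.fst G.hom G'.hom := Over.fst_left ..
  have sqU : IsPullback (lift (toUnit G' ≫ η[G]) (𝟙 G')).left (toUnit G').left (fst G G').left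
      η[G].left := (Groth.Agent.H28.QuotCov.isPullback_unit_fst G G' η[G]).map (Over.forget _)
  have htu : (toUnit G').left = G'.hom := by
    have := Over.w (toUnit G')
    simpa using this
  refine ⟨fun hred => ?_, ⟨fun hfl => ?_, fun hfl => ?_⟩, fun hfl => ⟨fun h => ?_, fun h => ?_⟩⟩
  · exact Groth.Agent.H28.QuotCov.isReduced_of_flat_surjective_factor r p.left
  · have hfstfl : Flat (fst G G').left := by rw [hfsteq]; infer_instance
    have sq2 : IsPullback (Limits.pullback.snd r (fst G G').left)
        (Limits.pullback.fst r (fst G G').left) (fst G G').left r :=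
      (IsPullback.of_hasPullback r (fst G G').left).flip
    have sq3 := sq2.paste_horiz sqL
    have hπ1 : Flat (Limits.pullback.fst r (fst G G').left) := inferInstance
    have hπ2f : Flat (Limits.pullback.snd r (fst G G').left ≫ ((G ◁ u) ≫ μ[G]).left) :=
      MorphismProperty.of_isPullback (P := @Flat) sq3.flip hqf
    have hπ2s : Surjective (Limits.pullback.snd r (fst G G').left ≫ ((G ◁ u) ≫ μ[G]).left) :=
      MorphismProperty.of_isPullback (P := @Surjective) sq3.flip hqs
    have hcompfl : Flat ((Limits.pullback.snd r (fst G G').left ≫ ((G ◁ u) ≫ μ[G]).left) ≫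
        p.left) := by
      rw [sq3.w]; infer_instance
    exact Groth.Agent.H28.FlatComp.flat_of_flat_comp
      (Limits.pullback.snd r (fst G G').left ≫ ((G ◁ u) ≫ μ[G]).left) p.left
  · have hfstfl : Flat (fst G G').left := MorphismProperty.of_isPullback (P := @Flat) sqL hfl
    have := MorphismProperty.of_isPullback (P := @Flat) sqU hfstfl
    rwa [htu] at this
  · rw [← Over.w p]; infer_instance
  · have : Flat (p.left ≫ G''.hom) := by rw [Over.w p]; exact h
    exact Groth.Agent.H28.FlatComp.flat_of_flat_comp p.left G''.hom

end Groth.Agent.S5370
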