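import Groth.Statements.S5372
import Groth.Agent.H28.FpqcCov

set_option autoImplicit false
universe u
open CategoryTheory CategoryTheory.Limits MonoidalCategory CartesianMonoidalCategory MonObj GrpObj AlgebraicGeometry
open SGA3

namespace Groth.Agent.S5372

/-- Let u : G' → G be a monomorphism of S-group schemes which is normal, and p : G → G'' a morphism of
S-schemes which is covering for the fpqc topology (some Z → G'' which is flat, surjective, with
every affine open of G'' the image of a quasi-compact open of Z, factors through p) and such that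
the square (g, h) ↦ g·u(h), first projection G ×_S G' → G, p, p is cartesian, so that G'' represents
the fpqc quotient sheaf G/G'. Then there is a structure of S-group scheme on G'' for which p is a
homomorphism, and it is unique: any morphism m : G'' ×_S G'' → G'' with (p × p) followed by m equal
to the multiplication of G followed by p is its multiplication. -/
theorem result (S : Scheme.{u}) (G G' G'' : Over S) [GrpObj G] [GrpObj G']
    (u : G' ⟶ G) [IsMonHom u] [Mono u] (p : G ⟶ G'')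
    (hcov : (∃ (Z : Scheme.{u}) (q : Z ⟶ G''.left) (r : Z ⟶ G.left), r ≫ p.left = q ∧ Surjective q ∧ Flat q ∧
        ∀ V : G''.left.Opens, IsAffineOpen V → ∃ W : Z.Opens, IsCompact (W : Set Z) ∧ q.base '' (W : Set Z) = (V : Set G''.left)))
    (hsq : IsPullback ((G ◁ u) ≫ μ[G]) (fst G G') p p) (hN : AlgGrp.IsNormalHom u) :
    ∃ _ : GrpObj G'', IsMonHom p ∧ ∀ m : G'' ⊗ G'' ⟶ G'', (p ⊗ₘ p) ≫ m = μ[G] ≫ p → m = μ[G''] := by
  have hcovp : Groth.Agent.H28.FpqcCov.Cov p.left := Groth.Agent.H28.FpqcCov.cov_of_hcov p.left hcov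
  have hE2 : Groth.Agent.H28.FpqcCov.Cov (p ⊗ₘ p).left :=
    Groth.Agent.H28.FpqcCov.cov_tensorHom p p hcovp hcovp
  have hE2epi : Epi (p ⊗ₘ p) := Groth.Agent.H28.FpqcCov.epi_of_cov _ hE2
  have e1 : ∀ (T : Over S) (g : T ⟶ G) (h : T ⟶ G'),
      lift g h ≫ (G ◁ u) ≫ μ[G] = g * (h ≫ u) := by
    intro T g h
    rw [← Category.assoc, lift_whiskerLeft, Hom.mul_def]
  have F0 : ∀ (T : Over S) (g : T ⟶ G) (h : T ⟶ G'), (g * (h ≫ u)) ≫ p = g ≫ p := by
    intro T g h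
    rw [← e1, Category.assoc, Category.assoc]
    have := hsq.w
    rw [Category.assoc] at this
    rw [this, lift_fst_assoc]
  have F1 : ∀ (T : Over S) (a b : T ⟶ G), a ≫ p = b ≫ p → ∃ h : T ⟶ G', a = b * (h ≫ u) := by
    intro T a b hab
    have h1 : hsq.lift a b hab ≫ (G ◁ u) ≫ μ[G] = a := hsq.lift_fst _ _ _
    have h2 : hsq.lift a b hab ≫ fst G G' = b := hsq.lift_snd _ _ _
    generalize hsq.lift a b hab = w at h1 h2
    refine ⟨w ≫ snd G G', ?_⟩
    have h3 : w = lift b (w ≫ snd G G') := by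
      apply CartesianMonoidalCategory.hom_ext
      · rw [lift_fst, h2]
      · rw [lift_snd]
    rw [← e1, ← h3, h1]
  have F2 : ∀ (T : Over S) (b : T ⟶ G) (h : T ⟶ G'),
      ∃ n : T ⟶ G', (h ≫ u) * b = b * (n ≫ u) := by
    intro T b h
    obtain ⟨n, hn⟩ := hN T b⁻¹ h
    refine ⟨n, ?_⟩
    rw [← hn]
    group
  have emul : ∀ (T : Over S) (g : T ⟶ G ⊗ G), g ≫ μ[G] = (g ≫ fst G G) * (g ≫ snd G G) := by
    intro T g
    rw [Hom.mul_def, ← comp_lift, lift_fst_snd, Category.comp_id]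
  -- multiplication
  obtain ⟨m, hm⟩ := Groth.Agent.H28.FpqcCov.desc_of_cov (p ⊗ₘ p) hE2 (μ[G] ≫ p) (by
    intro T g₁ g₂ hg
    have ha : (g₁ ≫ fst G G) ≫ p = (g₂ ≫ fst G G) ≫ p := by
      have := congrArg (fun w => w ≫ fst G'' G'') hg
      simpa only [Category.assoc, tensorHom_fst] using this
    have hb : (g₁ ≫ snd G G) ≫ p = (g₂ ≫ snd G G) ≫ p := by
      have := congrArg (fun w => w ≫ snd G'' G'') hg
      simpa only [Category.assoc, tensorHom_snd] using this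
    obtain ⟨h, hh⟩ := F1 T _ _ ha
    obtain ⟨k, hk⟩ := F1 T _ _ hb
    obtain ⟨n, hn⟩ := F2 T (g₂ ≫ snd G G) h
    rw [← Category.assoc, ← Category.assoc, emul, emul, hh, hk]
    have : (g₂ ≫ fst G G) * (h ≫ u) * ((g₂ ≫ snd G G) * (k ≫ u)) =
        (g₂ ≫ fst G G) * (g₂ ≫ snd G G) * ((n * k) ≫ u) := by
      rw [MonObj.mul_comp]
      calc (g₂ ≫ fst G G) * (h ≫ u) * ((g₂ ≫ snd G G) * (k ≫ u))
          = (g₂ ≫ fst G G) * ((h ≫ u) * (g₂ ≫ snd G G)) * (k ≫ u) := by group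
        _ = (g₂ ≫ fst G G) * ((g₂ ≫ snd G G) * (n ≫ u)) * (k ≫ u) := by rw [hn]
        _ = _ := by group
    rw [this, F0])
  -- inverse
  obtain ⟨iv, hiv⟩ := Groth.Agent.H28.FpqcCov.desc_of_cov p hcovp ((𝟙 G)⁻¹ ≫ p) (by
    intro T g₁ g₂ hg
    obtain ⟨h, hh⟩ := F1 T g₁ g₂ hg
    obtain ⟨n, hn⟩ := F2 T g₂⁻¹ h⁻¹
    rw [← Category.assoc, ← Category.assoc, GrpObj.comp_inv, GrpObj.comp_inv, Category.comp_id,
      Category.comp_id, hh]
    have : (g₂ * (h ≫ u))⁻¹ = g₂⁻¹ * (n ≫ u) := by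
      rw [← hn, GrpObj.inv_comp]
      group
    rw [this, F0])
  have K1 : ∀ (T : Over S) (a b : T ⟶ G), lift (a ≫ p) (b ≫ p) ≫ m = (a * b) ≫ p := by
    intro T a b
    have : lift (a ≫ p) (b ≫ p) = lift a b ≫ (p ⊗ₘ p) := by
      apply CartesianMonoidalCategory.hom_ext <;> simp
    rw [this, Category.assoc, hm, ← Category.assoc, ← Hom.mul_def]
  have K2 : ∀ (T : Over S) (a : T ⟶ G), (a ≫ p) ≫ iv = a⁻¹ ≫ p := by
    intro T a
    rw [Category.assoc, hiv, ← Category.assoc, GrpObj.comp_inv, Category.comp_id]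
  have Pnat : ∀ {T T' : Over S} (c : T' ⟶ T) (x y : T ⟶ G''),
      c ≫ lift x y ≫ m = lift (c ≫ x) (c ≫ y) ≫ m := by
    intro T T' c x y
    rw [← Category.assoc, comp_lift]
  have L3 : ∀ (T : Over S) (x y z : T ⟶ G''), ∃ (T' : Over S) (C : T' ⟶ T) (A B D : T' ⟶ G),
      Epi C ∧ C ≫ x = A ≫ p ∧ C ≫ y = B ≫ p ∧ C ≫ z = D ≫ p := by
    intro T x y z
    obtain ⟨T₁, c₁, a, hc₁, ha⟩ := Groth.Agent.H28.FpqcCov.exists_lift p hcovp x
    obtain ⟨T₂, c₂, b, hc₂, hb⟩ := Groth.Agent.H28.FpqcCov.exists_lift p hcovp (c₁ ≫ y)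
    obtain ⟨T₃, c₃, d, hc₃, hd⟩ := Groth.Agent.H28.FpqcCov.exists_lift p hcovp (c₂ ≫ c₁ ≫ z)
    refine ⟨T₃, c₃ ≫ c₂ ≫ c₁, c₃ ≫ c₂ ≫ a, c₃ ≫ b, d, inferInstance, ?_, ?_, ?_⟩
    · simp only [Category.assoc, ha]
    · simp only [Category.assoc, hb]
    · simp only [Category.assoc, hd]
  have Passoc : ∀ (T : Over S) (x y z : T ⟶ G''),
      lift (lift x y ≫ m) z ≫ m = lift x (lift y z ≫ m) ≫ m := by
    intro T x y z
    obtain ⟨T', C, A, B, D, hC, hx, hy, hz⟩ := L3 T x y z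
    rw [← cancel_epi C, Pnat, Pnat, Pnat, Pnat, hx, hy, hz, K1, K1, K1, K1, _root_.mul_assoc]
  have Pone_mul : ∀ (T : Over S) (z : T ⟶ G''), lift ((1 : T ⟶ G) ≫ p) z ≫ m = z := by
    intro T z
    obtain ⟨T', C, A, B, D, hC, hx, hy, hz⟩ := L3 T z z z
    rw [← cancel_epi C, Pnat, hz, ← Category.assoc, MonObj.comp_one, K1, _root_.one_mul]
  have Pmul_one : ∀ (T : Over S) (z : T ⟶ G''), lift z ((1 : T ⟶ G) ≫ p) ≫ m = z := by
    intro T z
    obtain ⟨T', C, A, B, D, hC, hx, hy, hz⟩ := L3 T z z z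
    rw [← cancel_epi C, Pnat, hz, ← Category.assoc, MonObj.comp_one, K1, _root_.mul_one]
  have Pleft_inv : ∀ (T : Over S) (z : T ⟶ G''), lift (z ≫ iv) z ≫ m = (1 : T ⟶ G) ≫ p := by
    intro T z
    obtain ⟨T', C, A, B, D, hC, hx, hy, hz⟩ := L3 T z z z
    rw [← cancel_epi C, Pnat, ← Category.assoc C z iv, hz, K2, K1, inv_mul_cancel,
      ← Category.assoc, MonObj.comp_one]
  have Pright_inv : ∀ (T : Over S) (z : T ⟶ G''), lift z (z ≫ iv) ≫ m = (1 : T ⟶ G) ≫ p := by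
    intro T z
    obtain ⟨T', C, A, B, D, hC, hx, hy, hz⟩ := L3 T z z z
    rw [← cancel_epi C, Pnat, ← Category.assoc C z iv, hz, K2, K1, mul_inv_cancel,
      ← Category.assoc, MonObj.comp_one]
  have hone_mul : (η[G] ≫ p) ▷ G'' ≫ m = (λ_ G'').hom := by
    have h1 : (η[G] ≫ p) ▷ G'' = lift ((1 : 𝟙_ (Over S) ⊗ G'' ⟶ G) ≫ p) (snd _ _) := by
      apply CartesianMonoidalCategory.hom_ext
      · rw [whiskerRight_fst, lift_fst, Hom.one_def, Category.assoc,
          toUnit_unique (fst (𝟙_ (Over S)) G'') (toUnit _)]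
      · rw [whiskerRight_snd, lift_snd]
    rw [h1, Pone_mul, leftUnitor_hom]
  have hmul_one : G'' ◁ (η[G] ≫ p) ≫ m = (ρ_ G'').hom := by
    have h1 : G'' ◁ (η[G] ≫ p) = lift (fst _ _) ((1 : G'' ⊗ 𝟙_ (Over S) ⟶ G) ≫ p) := by
      apply CartesianMonoidalCategory.hom_ext
      · rw [whiskerLeft_fst, lift_fst]
      · rw [whiskerLeft_snd, lift_snd, Hom.one_def, Category.assoc,
          toUnit_unique (snd G'' (𝟙_ (Over S))) (toUnit _)]
    rw [h1, Pmul_one, rightUnitor_hom]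
  have hassoc : (m ▷ G'') ≫ m = (α_ G'' G'' G'').hom ≫ (G'' ◁ m) ≫ m := by
    have h1 : m ▷ G'' = lift (lift (fst (G'' ⊗ G'') G'' ≫ fst G'' G'')
        (fst (G'' ⊗ G'') G'' ≫ snd G'' G'') ≫ m) (snd (G'' ⊗ G'') G'') := by
      apply CartesianMonoidalCategory.hom_ext
      · rw [whiskerRight_fst, lift_fst, ← comp_lift, lift_fst_snd, Category.comp_id]
      · rw [whiskerRight_snd, lift_snd]
    have h2 : (α_ G'' G'' G'').hom ≫ (G'' ◁ m) = lift (fst (G'' ⊗ G'') G'' ≫ fst G'' G'')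
        (lift (fst (G'' ⊗ G'') G'' ≫ snd G'' G'') (snd (G'' ⊗ G'') G'') ≫ m) := by
      apply CartesianMonoidalCategory.hom_ext
      · rw [Category.assoc, whiskerLeft_fst, associator_hom_fst, lift_fst]
      · rw [Category.assoc, whiskerLeft_snd, lift_snd, ← Category.assoc]
        congr 1
        apply CartesianMonoidalCategory.hom_ext
        · rw [Category.assoc, associator_hom_snd_fst, lift_fst]
        · rw [Category.assoc, associator_hom_snd_snd, lift_snd]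
    rw [h1, ← Category.assoc, h2, Passoc]
  have hleft : lift iv (𝟙 G'') ≫ m = toUnit _ ≫ η[G] ≫ p := by
    have := Pleft_inv G'' (𝟙 G'')
    rw [Category.id_comp] at this
    rw [this, Hom.one_def, Category.assoc]
  have hright : lift (𝟙 G'') iv ≫ m = toUnit _ ≫ η[G] ≫ p := by
    have := Pright_inv G'' (𝟙 G'')
    rw [Category.id_comp] at this
    rw [this, Hom.one_def, Category.assoc]
  let instM : MonObj G'' :=
    { one := η[G] ≫ p, mul := m, one_mul := hone_mul, mul_one := hmul_one, mul_assoc := hassoc }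
  let instG : GrpObj G'' :=
    { toMonObj := instM, inv := iv, left_inv := hleft, right_inv := hright }
  refine ⟨instG, ⟨rfl, hm.symm⟩, ?_⟩
  intro m' hm'
  rw [← cancel_epi (p ⊗ₘ p), hm']
  exact hm.symm

end Groth.Agent.S5372
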