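import Groth.Statements.S5373
import Groth.Agent.H28.FpqcDescCov
import Groth.Agent.H28.AffDesc

set_option autoImplicit false
universe u
open CategoryTheory CategoryTheory.Limits MonoidalCategory CartesianMonoidalCategory MonObj GrpObj AlgebraicGeometry
open SGA3

namespace Groth.Agent.S5373

theorem isPullback_lift_diag {C : Type*} [Category C] [CartesianMonoidalCategory C] {K X Y : C}
    {a b : K ⟶ X} {p : X ⟶ Y} (h : IsPullback a b p p) :
    IsPullback (lift a b) (a ≫ p) (p ⊗ₘ p) (lift (𝟙 Y) (𝟙 Y)) := by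
  have hab : ∀ s : Limits.PullbackCone (p ⊗ₘ p) (lift (𝟙 Y) (𝟙 Y)),
      (s.fst ≫ fst X X) ≫ p = (s.fst ≫ snd X X) ≫ p := by
    intro s
    have h1 := congrArg (fun w => w ≫ fst Y Y) s.condition
    have h2 := congrArg (fun w => w ≫ snd Y Y) s.condition
    simp only [Category.assoc, tensorHom_fst, tensorHom_snd, lift_fst, lift_snd,
      Category.comp_id] at h1 h2
    rw [Category.assoc, Category.assoc, h1, h2]
  refine ⟨⟨?_⟩, ⟨Limits.PullbackCone.IsLimit.mk _
    (fun s => h.lift (s.fst ≫ fst X X) (s.fst ≫ snd X X) (hab s)) ?_ ?_ ?_⟩⟩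
  · apply CartesianMonoidalCategory.hom_ext
    · simp only [Category.assoc, tensorHom_fst, lift_fst, lift_fst_assoc, Category.comp_id]
    · simp only [Category.assoc, tensorHom_snd, lift_snd, lift_snd_assoc, Category.comp_id]
      exact h.w.symm
  · intro s
    apply CartesianMonoidalCategory.hom_ext
    · rw [Category.assoc, lift_fst, h.lift_fst]
    · rw [Category.assoc, lift_snd, h.lift_snd]
  · intro s
    have h1 := congrArg (fun w => w ≫ fst Y Y) s.condition
    simp only [Category.assoc, tensorHom_fst, lift_fst, Category.comp_id] at h1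
    rw [← Category.assoc, h.lift_fst, Category.assoc, h1]
  · intro s m hm1 hm2
    apply h.hom_ext
    · rw [h.lift_fst, ← hm1, Category.assoc, lift_fst]
    · rw [h.lift_snd, ← hm1, Category.assoc, lift_snd]

/-- Let p : X → Y be a morphism of S-schemes and v : X ×_Y X → X ×_S X the canonical monomorphism (the
graph of the effective equivalence relation defined by p). Then (i) v is an immersion, and a closed
immersion if Y is separated over S; (ii) if p is covering for the fpqc topology (some Z → Y which is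
flat, surjective, with every affine open of Y the image of a quasi-compact open of Z, factors
through p), so that Y represents the quotient sheaf of X by this equivalence relation, and v is a
closed immersion, then Y is separated over S. -/
theorem result (S : Scheme.{u}) (X Y : Over S) (p : X ⟶ Y) :
    letI v : (pullback p p) ⟶ X ⊗ X := lift (pullback.fst p p) (pullback.snd p p)
    IsImmersion v.left ∧ (IsSeparated Y.hom → IsClosedImmersion v.left) ∧
    ((∃ (Z : Scheme.{u}) (q : Z ⟶ Y.left) (r : Z ⟶ X.left), r ≫ p.left = q ∧ Surjective q ∧ Flat q ∧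
        ∀ V : Y.left.Opens, IsAffineOpen V → ∃ W : Z.Opens, IsCompact (W : Set Z) ∧ q.base '' (W : Set Z) = (V : Set Y.left)) →
      IsClosedImmersion v.left → IsSeparated Y.hom) := by
  have sq : IsPullback (lift (pullback.fst p p) (pullback.snd p p)) (pullback.fst p p ≫ p)
      (p ⊗ₘ p) (lift (𝟙 Y) (𝟙 Y)) := isPullback_lift_diag (IsPullback.of_hasPullback p p)
  have sqL : IsPullback (lift (pullback.fst p p) (pullback.snd p p)).left
      (pullback.fst p p ≫ p).left (p ⊗ₘ p).left (lift (𝟙 Y) (𝟙 Y)).left :=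
    sq.map (Over.forget S)
  have hdiag : (lift (𝟙 Y) (𝟙 Y) : Y ⟶ Y ⊗ Y).left = Limits.pullback.diagonal Y.hom := rfl
  refine ⟨?_, fun hsep => ?_, fun hcov hv => ?_⟩
  · have h1 : IsImmersion (lift (𝟙 Y) (𝟙 Y) : Y ⟶ Y ⊗ Y).left := by
      rw [hdiag]
      infer_instance
    exact MorphismProperty.of_isPullback (P := @IsImmersion) sqL.flip h1
  · have h1 : IsClosedImmersion (lift (𝟙 Y) (𝟙 Y) : Y ⟶ Y ⊗ Y).left := by
      rw [hdiag]
      infer_instance
    exact MorphismProperty.of_isPullback (P := @IsClosedImmersion) sqL.flip h1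
  · have hcovp : Groth.Agent.H28.FpqcCov.Cov p.left :=
      Groth.Agent.H28.FpqcCov.cov_of_hcov p.left hcov
    have hE2 : Groth.Agent.H28.FpqcCov.Cov (p ⊗ₘ p).left :=
      Groth.Agent.H28.FpqcCov.cov_tensorHom p p hcovp hcovp
    have hcl : IsClosedImmersion (lift (𝟙 Y) (𝟙 Y) : Y ⟶ Y ⊗ Y).left :=
      Groth.Agent.H28.FpqcDescCov.of_cov_isPullback @IsClosedImmersion sqL.flip hE2 hv
    rw [hdiag] at hcl
    exact ⟨hcl⟩


end Groth.Agent.S5373
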