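import Groth.Statements.S5375
import Mathlib
import Groth.Agent.H15.FundComod
import Groth.Agent.Lib.Helper7.Coalg7
import Groth.Agent.Lib.Helper7.HochInt
-- import your own Groth.Agent.* helpers here

set_option autoImplicit false
universe u
open CategoryTheory CategoryTheory.Limits MonoidalCategory CartesianMonoidalCategory MonObj GrpObj AlgebraicGeometry
open SGA3

namespace Groth.Agent.S5375

open TensorProduct Groth.Agent.H29 Groth.Agent.Helper7.Coalg7

attribute [local instance] Groth.Agent.H29.dualModule


/-- Let A be a commutative Hopf algebra over a field k (an affine k-group, not necessarily of finite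
type) and x an element of A. Then there is a subalgebra B of A of finite type over k containing x
which is a sub-Hopf-algebra: the comultiplication sends B into B ⊗ B and the antipode preserves B. -/
theorem result (k : Type u) [Field k] (A : Type u) [CommRing A] [HopfAlgebra k A] (x : A) :
    ∃ B : Subalgebra k A, x ∈ B ∧ B.FG ∧ SGA3.IsHopfSubalgebra k A B := by
  classical
  obtain ⟨W, hfin, hxW, hW⟩ := Groth.Agent.H15.FundComod.fund k A A x
  let N : Submodule (DualAlg k A) A := toDualSub W hW
  haveI hfinN : Module.Finite k ↥(ofDualSub N) := by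
    show Module.Finite k ↥(ofDualSub (toDualSub W hW))
    rw [ofDualSub_toDualSub]
    exact hfin
  let U : Submodule k A := coeffOf N
  haveI hUfin : Module.Finite k ↥U := finite_coeffOf N
  have hUco : ∀ b ∈ U, CoalgebraStruct.comul (R := k) b ∈
      LinearMap.range (TensorProduct.map U.subtype U.subtype) := coeffOf_isSubcoalg N
  have hxU : x ∈ U := by
    have h1 : mcoef A (Coalgebra.counit (R := k) (A := A)) x = x := by
      show TensorProduct.lid k A ((Coalgebra.counit (R := k) (A := A)).rTensor A
        (Coalgebra.comul (R := k) x)) = x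
      rw [Coalgebra.rTensor_counit_comul, TensorProduct.lid_tmul, one_smul]
    rw [← h1]
    exact mcoef_mem_coeffOf N _ hxW
  obtain ⟨s, hsfin, hsU⟩ := Submodule.fg_def.mp (Module.Finite.iff_fg.mp hUfin)
  let Sa : A →ₗ[k] A := HopfAlgebra.antipode k
  let T : Set A := s ∪ Sa '' s
  have hTfin : T.Finite := hsfin.union (hsfin.image _)
  let B : Subalgebra k A := Algebra.adjoin k T
  have hTB : T ⊆ B := Algebra.subset_adjoin
  have hUB : ∀ u ∈ U, u ∈ B := by
    intro u hu
    rw [← hsU] at hu
    exact (Submodule.span_le (p := Subalgebra.toSubmodule B)).mpr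
      (fun t ht => hTB (Or.inl ht)) hu
  have hSUB : ∀ u ∈ U, Sa u ∈ B := by
    intro u hu
    rw [← hsU] at hu
    have h2 : Sa u ∈ Submodule.span k (Sa '' s) :=
      Submodule.apply_mem_span_image_of_mem_span Sa hu
    exact (Submodule.span_le (p := Subalgebra.toSubmodule B)).mpr
      (fun t ht => hTB (Or.inr ht)) h2
  let inc : ↥U →ₗ[k] ↥B :=
    { toFun := fun u => ⟨u.1, hUB u.1 u.2⟩
      map_add' := fun _ _ => rfl
      map_smul' := fun _ _ => rfl }
  let incS : ↥U →ₗ[k] ↥B :=
    { toFun := fun u => ⟨Sa u.1, hSUB u.1 u.2⟩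
      map_add' := fun a b => Subtype.ext (map_add Sa a.1 b.1)
      map_smul' := fun c a => Subtype.ext (map_smul Sa c a.1) }
  have hinc : B.val.toLinearMap ∘ₗ inc = U.subtype := LinearMap.ext fun _ => rfl
  have hincS : B.val.toLinearMap ∘ₗ incS = Sa ∘ₗ U.subtype := LinearMap.ext fun _ => rfl
  have hswap : ∀ w : ↥U ⊗[k] ↥U,
      TensorProduct.map (Sa ∘ₗ U.subtype) (Sa ∘ₗ U.subtype) (TensorProduct.comm k ↥U ↥U w) =
      TensorProduct.map Sa Sa (TensorProduct.comm k A A
        (TensorProduct.map U.subtype U.subtype w)) := by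
    intro w
    induction w using TensorProduct.induction_on with
    | zero => simp
    | tmul a b => simp
    | add a b ha hb => simp only [map_add, ha, hb]
  let BB : Subalgebra k (A ⊗[k] A) := (Algebra.TensorProduct.map B.val B.val).range
  have hmapeq : ∀ w : ↥B ⊗[k] ↥B, (Algebra.TensorProduct.map B.val B.val) w =
      TensorProduct.map B.val.toLinearMap B.val.toLinearMap w := fun w => rfl
  have hTD : ∀ t ∈ T, Coalgebra.comul (R := k) t ∈ BB := by
    rintro t (ht | ⟨u, hu, rfl⟩)
    · have htU : t ∈ U := by rw [← hsU]; exact Submodule.subset_span ht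
      obtain ⟨w, hw⟩ := hUco t htU
      refine (AlgHom.mem_range _).mpr ⟨TensorProduct.map inc inc w, ?_⟩
      rw [hmapeq, ← LinearMap.comp_apply, ← TensorProduct.map_comp, hinc]
      exact hw
    · have huU : u ∈ U := by rw [← hsU]; exact Submodule.subset_span hu
      obtain ⟨w, hw⟩ := hUco u huU
      refine (AlgHom.mem_range _).mpr
        ⟨TensorProduct.map incS incS (TensorProduct.comm k ↥U ↥U w), ?_⟩
      rw [hmapeq, ← LinearMap.comp_apply, ← TensorProduct.map_comp, hincS, hswap, hw]
      exact (Groth.Agent.H27.HopfInt.comul_antipode k A u).symm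
  have hΔB : ∀ b ∈ B, Coalgebra.comul (R := k) b ∈ BB := by
    intro b hb
    have hle : B ≤ BB.comap (Bialgebra.comulAlgHom k A) :=
      Algebra.adjoin_le (fun t ht => hTD t ht)
    exact hle hb
  refine ⟨B, hUB x hxU, Subalgebra.fg_def.mpr ⟨T, hTfin, rfl⟩, ?_, ?_⟩
  · intro b hb
    obtain ⟨w, hw⟩ := (AlgHom.mem_range _).mp (hΔB b hb)
    exact ⟨w, hw⟩
  · intro b hb
    have hle : B ≤ B.comap (HopfAlgebra.antipodeAlgHom k A) := by
      apply Algebra.adjoin_le
      rintro t (ht | ⟨u, hu, rfl⟩)
      · exact hTB (Or.inr ⟨t, ht, rfl⟩)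
      · show HopfAlgebra.antipode k (HopfAlgebra.antipode k u) ∈ B
        rw [Groth.Agent.Helper7.HochInt.antipode_antipode']
        exact hTB (Or.inl hu)
    exact hle hb

end Groth.Agent.S5375
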