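import Groth.Statements.S5376
import Mathlib

set_option autoImplicit false
universe u
open CategoryTheory CategoryTheory.Limits MonoidalCategory CartesianMonoidalCategory MonObj GrpObj AlgebraicGeometry
open SGA3

namespace Groth.Agent.S5376


open TensorProduct

section Aux

variable {k : Type u} [Field k] {A : Type u} [CommRing A] [HopfAlgebra k A]
  {V : Type u} [AddCommGroup V] [Module k V]

/-- contraction with a functional -/
noncomputable def ctr (l : V →ₗ[k] k) : V ⊗[k] A →ₗ[k] A :=
  (TensorProduct.lid k A).toLinearMap ∘ₗ l.rTensor A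

theorem ctr_tmul (l : V →ₗ[k] k) (w : V) (a : A) : ctr (A := A) l (w ⊗ₜ[k] a) = l w • a := by
  simp [ctr]

theorem ctr_act (l : V →ₗ[k] k) (g : A →ₐ[k] k) (t : V ⊗[k] A) :
    g (ctr l t) = l ((TensorProduct.rid k V) ((g.toLinearMap.lTensor V) t)) := by
  induction t using TensorProduct.induction_on with
  | zero => simp
  | tmul w a => simp [ctr_tmul, mul_comm]
  | add x y hx hy => simp only [map_add, hx, hy]

theorem ctr_lTensor (l : V →ₗ[k] k) (F : A →ₗ[k] A) (t : V ⊗[k] A) :
    ctr l ((F.lTensor V) t) = F (ctr l t) := by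
  induction t using TensorProduct.induction_on with
  | zero => simp
  | tmul w a => simp [ctr_tmul]
  | add x y hx hy => simp only [map_add, hx, hy]

theorem ctr_rTensor (l : V →ₗ[k] k) (q : V →ₗ[k] V) (t : V ⊗[k] A) :
    ctr (A := A) l ((q.rTensor A) t) = ctr (l ∘ₗ q) t := by
  induction t using TensorProduct.induction_on with
  | zero => simp
  | tmul w a => simp [ctr_tmul]
  | add x y hx hy => simp only [map_add, hx, hy]

/-- the map `b ⊗ a ↦ g a • b` -/
noncomputable def Gmap (g : A →ₐ[k] k) : A ⊗[k] A →ₗ[k] A :=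
  (TensorProduct.rid k A).toLinearMap ∘ₗ g.toLinearMap.lTensor A

theorem Gmap_tmul (g : A →ₐ[k] k) (b a : A) : Gmap g (b ⊗ₜ[k] a) = g a • b := by
  simp [Gmap]

theorem core1 (g : A →ₐ[k] k) (t : V ⊗[k] A) (a : A) :
    ((Gmap g).lTensor V) ((TensorProduct.assoc k V A A) (t ⊗ₜ[k] a)) = g a • t := by
  induction t using TensorProduct.induction_on with
  | zero => simp
  | tmul w b =>
    rw [TensorProduct.assoc_tmul, LinearMap.lTensor_tmul, Gmap_tmul, TensorProduct.tmul_smul]
  | add x y hx hy => rw [TensorProduct.add_tmul, map_add, map_add, hx, hy, smul_add]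

theorem ctr_basis_zero [Module.Finite k V] (y : V ⊗[k] A)
    (h : ∀ l : V →ₗ[k] k, ctr l y = 0) : y = 0 := by
  obtain ⟨b⟩ : Nonempty (Module.Basis (Fin (Module.finrank k V)) k V) := ⟨Module.finBasis k V⟩
  have key : ∀ y : V ⊗[k] A, ∑ i, b i ⊗ₜ[k] (ctr (b.coord i) y) = y := by
    intro y
    induction y using TensorProduct.induction_on with
    | zero => simp
    | tmul w a =>
      simp only [ctr_tmul, Module.Basis.coord_apply]
      conv_rhs => rw [← b.sum_repr w, TensorProduct.sum_tmul]
      apply Finset.sum_congr rfl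
      intro i _
      rw [TensorProduct.smul_tmul]
    | add x y hx hy =>
      simp only [map_add, TensorProduct.tmul_add, Finset.sum_add_distrib, hx, hy]
  rw [← key y]
  apply Finset.sum_eq_zero
  intro i _
  rw [h, TensorProduct.tmul_zero]

theorem mem_range_of_ctr [Module.Finite k V] (E : Submodule k V) (x : V ⊗[k] A)
    (h : ∀ l : V →ₗ[k] k, (∀ w ∈ E, l w = 0) → ctr l x = 0) :
    x ∈ LinearMap.range (E.subtype.rTensor A) := by
  obtain ⟨p, hp⟩ := E.subtype.exists_leftInverse_of_injective (Submodule.ker_subtype E)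
  obtain ⟨q, hq⟩ : ∃ q : V →ₗ[k] V, q = LinearMap.id - E.subtype ∘ₗ p := ⟨_, rfl⟩
  have hqE : ∀ w ∈ E, q w = 0 := by
    intro w hw
    have h1 : p w = ⟨w, hw⟩ := by
      have := LinearMap.congr_fun hp ⟨w, hw⟩
      simpa using this
    rw [hq, LinearMap.sub_apply, LinearMap.id_apply, LinearMap.comp_apply, h1]
    simp
  have hq0 : (q.rTensor A) x = 0 := by
    apply ctr_basis_zero
    intro l
    rw [ctr_rTensor]
    apply h
    intro w hw
    rw [LinearMap.comp_apply, hqE w hw, map_zero]
  have hid : E.subtype ∘ₗ p + q = LinearMap.id := by rw [hq]; abel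
  have h1 : ((E.subtype ∘ₗ p + q).rTensor A) x = x := by
    rw [hid, LinearMap.rTensor_id, LinearMap.id_apply]
  rw [LinearMap.rTensor_add, LinearMap.add_apply, hq0, add_zero,
    LinearMap.rTensor_comp_apply] at h1
  exact ⟨(p.rTensor A) x, h1⟩

theorem null [IsAlgClosed k] [Algebra.FiniteType k A] [IsReduced A] (a : A)
    (h : ∀ g : A →ₐ[k] k, g a = 0) : a = 0 := by
  by_contra ha
  haveI : IsJacobsonRing A := isJacobsonRing_of_finiteType (A := k) (B := A)
  have hrad : (⊥ : Ideal A).IsRadical := fun x hx => by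
    obtain ⟨n, hn⟩ := hx
    rw [Ideal.mem_bot] at hn ⊢
    exact IsReduced.eq_zero x ⟨n, hn⟩
  have hj : (⊥ : Ideal A).jacobson = ⊥ := IsJacobsonRing.out ‹_› hrad
  have hnot : a ∉ (⊥ : Ideal A).jacobson := by rw [hj, Ideal.mem_bot]; exact ha
  rw [Ideal.jacobson, Ideal.mem_sInf] at hnot
  push_neg at hnot
  obtain ⟨m, ⟨-, hm⟩, ham⟩ := hnot
  haveI := hm
  letI : Field (A ⧸ m) := Ideal.Quotient.field m
  haveI : Algebra.FiniteType k (A ⧸ m) :=
    Algebra.FiniteType.of_surjective (Ideal.Quotient.mkₐ k m) (Ideal.Quotient.mkₐ_surjective k m)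
  haveI : Module.Finite k (A ⧸ m) := finite_of_finite_type_of_isJacobsonRing k (A ⧸ m)
  haveI : Algebra.IsIntegral k (A ⧸ m) := Algebra.IsIntegral.of_finite k (A ⧸ m)
  have hbij := IsAlgClosed.algebraMap_bijective_of_isIntegral (k := k) (K := A ⧸ m)
  obtain ⟨e, he⟩ : ∃ e : k ≃ₐ[k] A ⧸ m, ∀ x, e x = algebraMap k (A ⧸ m) x :=
    ⟨AlgEquiv.ofBijective (Algebra.ofId k (A ⧸ m)) hbij, fun _ => rfl⟩
  have h1 := h ((e.symm : (A ⧸ m) →ₐ[k] k).comp (Ideal.Quotient.mkₐ k m))
  rw [AlgHom.comp_apply] at h1
  have h2 : (Ideal.Quotient.mkₐ k m) a = 0 := by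
    have := congrArg e h1
    simpa using this
  rw [Ideal.Quotient.mkₐ_eq_mk, Ideal.Quotient.eq_zero_iff_mem] at h2
  exact ham h2

variable [HopfRep.Comod k A V]

theorem core2 (g : A →ₐ[k] k) (t : V ⊗[k] A) :
    ((Gmap g).lTensor V) ((TensorProduct.assoc k V A A)
      (((HopfRep.Comod.coact (k := k) (A := A) (V := V)).rTensor A) t)) =
    HopfRep.Comod.coact (k := k) (A := A)
      ((TensorProduct.rid k V) ((g.toLinearMap.lTensor V) t)) := by
  induction t using TensorProduct.induction_on with
  | zero => simp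
  | tmul w a =>
    rw [LinearMap.rTensor_tmul, core1, LinearMap.lTensor_tmul, TensorProduct.rid_tmul, map_smul,
      AlgHom.toLinearMap_apply]
  | add x y hx hy => simp only [map_add, hx, hy]

theorem coact_act (g : A →ₐ[k] k) (v : V) :
    HopfRep.Comod.coact (k := k) (A := A) (HopfRep.Comod.act k A V g v) =
      (((Gmap g) ∘ₗ (CoalgebraStruct.comul (R := k) (A := A))).lTensor V)
        (HopfRep.Comod.coact (k := k) (A := A) v) := by
  have h := LinearMap.congr_fun (HopfRep.Comod.coassoc (k := k) (A := A) (V := V)) v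
  simp only [LinearMap.comp_apply, LinearEquiv.coe_coe] at h
  rw [LinearMap.lTensor_comp_apply, ← h, core2]
  rfl

end Aux


/-- Let k be an algebraically closed field, A a finitely generated commutative Hopf algebra over k which
is reduced (a reduced affine algebraic k-group G), V a finite-dimensional A-comodule and v a vector
of V. Let E be the k-subspace of V spanned by the vectors g·v for g running over the k-points of G
(algebra maps A → k). Then E is a subcomodule of V containing v, and it is the smallest one. -/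
theorem result (k : Type u) [Field k] [IsAlgClosed k] (A : Type u) [CommRing A] [HopfAlgebra k A]
    [Algebra.FiniteType k A] [IsReduced A] (V : Type u) [AddCommGroup V] [Module k V] [HopfRep.Comod k A V]
    [Module.Finite k V] (v : V) :
    letI E : Submodule k V := Submodule.span k (Set.range fun g : A →ₐ[k] k => HopfRep.Comod.act k A V g v)
    HopfRep.IsSubcomod (k := k) (A := A) E ∧ v ∈ E ∧
      ∀ W : Submodule k V, HopfRep.IsSubcomod (k := k) (A := A) W → v ∈ W → E ≤ W := by
  classical
  obtain ⟨E, hE⟩ : ∃ E : Submodule k V, E = Submodule.span k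
      (Set.range fun g : A →ₐ[k] k => HopfRep.Comod.act k A V g v) := ⟨_, rfl⟩
  have hmem : ∀ g : A →ₐ[k] k, HopfRep.Comod.act k A V g v ∈ E := fun g => by
    rw [hE]; exact Submodule.subset_span ⟨g, rfl⟩
  rw [← hE]
  refine ⟨?_, ?_, ?_⟩
  · have hzero : ∀ l : V →ₗ[k] k, (∀ w ∈ E, l w = 0) →
        ctr l (HopfRep.Comod.coact (k := k) (A := A) v) = 0 := by
      intro l hl
      apply null (k := k)
      intro g'
      rw [ctr_act]
      exact hl _ (hmem g')
    unfold HopfRep.IsSubcomod
    intro w hw
    rw [hE] at hw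
    induction hw using Submodule.span_induction with
    | mem w hw =>
      obtain ⟨g, rfl⟩ := hw
      apply mem_range_of_ctr
      intro l hl
      rw [coact_act, ctr_lTensor, hzero l hl, map_zero]
    | zero => rw [map_zero]; exact zero_mem _
    | add x y _ _ hx hy => rw [map_add]; exact add_mem hx hy
    | smul c x _ hx => rw [map_smul]; exact Submodule.smul_mem _ c hx
  · have hv : HopfRep.Comod.act k A V (Bialgebra.counitAlgHom k A) v = v := by
      have h := LinearMap.congr_fun (HopfRep.Comod.counit_comp (k := k) (A := A) (V := V)) v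
      simp only [LinearMap.comp_apply, LinearMap.flip_apply, TensorProduct.mk_apply] at h
      show (TensorProduct.rid k V) (((Bialgebra.counitAlgHom k A).toLinearMap.lTensor V)
        (HopfRep.Comod.coact (k := k) (A := A) v)) = v
      have h' : (Bialgebra.counitAlgHom k A).toLinearMap =
          (CoalgebraStruct.counit (R := k) (A := A)) := rfl
      rw [h', h, TensorProduct.rid_tmul, one_smul]
    rw [← hv]; exact hmem _
  · intro W hW hv
    rw [hE, Submodule.span_le]
    rintro _ ⟨g, rfl⟩
    obtain ⟨t, ht⟩ := hW v hv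
    show (TensorProduct.rid k V) ((g.toLinearMap.lTensor V)
      (HopfRep.Comod.coact (k := k) (A := A) v)) ∈ W
    rw [← ht]
    clear ht
    induction t using TensorProduct.induction_on with
    | zero => simp
    | tmul w a =>
      rw [LinearMap.rTensor_tmul, LinearMap.lTensor_tmul, TensorProduct.rid_tmul]
      exact W.smul_mem _ w.2
    | add x y hx hy => simp only [map_add]; exact add_mem hx hy

end Groth.Agent.S5376
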