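import Groth.Statements.S5381
import Groth.Agent.Lib.Helper18.DedekindFlat

set_option autoImplicit false
universe u
open CategoryTheory CategoryTheory.Limits MonoidalCategory CartesianMonoidalCategory MonObj GrpObj AlgebraicGeometry
open SGA3

namespace Groth.Agent.S5381

/-- For S the spectrum of a Dedekind domain R: let X be a scheme which is flat, quasi-compact and
quasi-separated over R. Then the ring of global sections Γ(X, O_X) is a flat R-module. (The
published remark takes S locally noetherian and regular of dimension 1 and also observes, when S is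
local with closed point s and uniformizer π, that Γ(X, O_X)/πΓ(X, O_X) → Γ(X_s, O_{X_s}) is
injective; this row takes S the spectrum of a Dedekind domain and omits the injectivity.) -/
theorem result (R : Type u) [CommRing R] [IsDedekindDomain R]
    (X : Scheme.{u}) (f : X ⟶ Spec (CommRingCat.of R)) [Flat f] [QuasiCompact f] [QuasiSeparated f] :
    letI := ((Scheme.ΓSpecIso (CommRingCat.of R)).inv ≫ f.appTop).hom.toAlgebra
    Module.Flat R Γ(X, ⊤) := by
  letI := ((Scheme.ΓSpecIso (CommRingCat.of R)).inv ≫ f.appTop).hom.toAlgebra
  have e0 : f.appLE ⊤ ⊤ le_top = f.appTop := f.appLE_eq_app (U := ⊤)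
  haveI : Module.IsTorsionFree R Γ(X, ⊤) := by
    refine ⟨fun r hr => ?_⟩
    intro s₁ s₂ h
    apply Groth.Agent.Helper18.DedekindFlat.regular_sections f ⊤ r hr s₁ s₂
    have e : Groth.Agent.Helper18.DedekindFlat.secMap f ⊤ r = algebraMap R Γ(X, ⊤) r := by
      unfold Groth.Agent.Helper18.DedekindFlat.secMap
      rw [e0]
      rfl
    simp only [Algebra.smul_def] at h
    rw [e]
    exact h
  infer_instance

end Groth.Agent.S5381
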