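import Groth.Statements.S5384
import Mathlib
import Groth.Agent.S0351
-- import your own Groth.Agent.* helpers here

set_option autoImplicit false
universe u
open CategoryTheory CategoryTheory.Limits MonoidalCategory CartesianMonoidalCategory MonObj GrpObj AlgebraicGeometry
open SGA3

namespace Groth.Agent.S5384


section
open CategoryTheory CategoryTheory.Limits AlgebraicGeometry

theorem surj_residue (A : Type u) [CommRing A] [IsArtinianRing A] [IsLocalRing A] :
    Surjective (Spec.map (CommRingCat.ofHom (IsLocalRing.residue A))) := by
  constructor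
  intro x
  have hx : x.asIdeal = IsLocalRing.maximalIdeal A := by
    haveI : x.asIdeal.IsMaximal := IsArtinianRing.isMaximal_of_isPrime x.asIdeal
    exact IsLocalRing.eq_maximalIdeal ‹_›
  refine ⟨IsLocalRing.closedPoint (IsLocalRing.ResidueField A), ?_⟩
  apply PrimeSpectrum.ext
  rw [hx]
  change (PrimeSpectrum.comap (IsLocalRing.residue A)
    (IsLocalRing.closedPoint (IsLocalRing.ResidueField A))).asIdeal = _
  rw [IsLocalRing.PrimeSpectrum.comap_residue]
  rfl

theorem main (A : Type u) [CommRing A] [IsArtinianRing A] [IsLocalRing A]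
    (G H : Over (Spec (CommRingCat.of A))) [GrpObj G] [GrpObj H]
    (u : H ⟶ G) [IsMonHom u] [IsImmersion u.left] : IsClosedImmersion u.left := by
  obtain ⟨r, hr⟩ : ∃ r : Spec (CommRingCat.of (IsLocalRing.ResidueField A)) ⟶ Spec (CommRingCat.of A),
      r = Spec.map (CommRingCat.ofHom (IsLocalRing.residue A)) := ⟨_, rfl⟩
  haveI : Surjective r := hr ▸ surj_residue A
  haveI : IsClosedImmersion r := by
    rw [hr]
    exact IsClosedImmersion.spec_of_surjective _ Ideal.Quotient.mk_surjective
  -- the base-changed homomorphism
  obtain ⟨uK, huK⟩ : ∃ uK : Red.bc r H ⟶ Red.bc r G, uK = (Over.pullback r).map u := ⟨_, rfl⟩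
  haveI : IsMonHom uK := by rw [huK]; infer_instance
  have hfst : uK.left ≫ pullback.fst G.hom r = pullback.fst H.hom r ≫ u.left := by
    rw [huK]; simp only [Over.pullback, Over.homMk_left]; exact pullback.lift_fst _ _ _
  have hsnd : uK.left ≫ pullback.snd G.hom r = pullback.snd H.hom r := by
    rw [huK]; simp only [Over.pullback, Over.homMk_left]; exact pullback.lift_snd _ _ _
  have sq : IsPullback uK.left (pullback.fst H.hom r) (pullback.fst G.hom r) u.left := by
    refine IsPullback.of_right ?_ hfst (IsPullback.of_hasPullback G.hom r).flip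
    rw [hsnd, Over.w u]
    exact (IsPullback.of_hasPullback H.hom r).flip
  haveI : IsImmersion uK.left :=
    MorphismProperty.of_isPullback (P := @IsImmersion) sq.flip inferInstance
  have hcl : IsClosedImmersion uK.left :=
    Groth.Agent.S0351.result (IsLocalRing.ResidueField A) (Red.bc r H) (Red.bc r G) uK
  -- the projections
  haveI : IsClosedImmersion (pullback.fst G.hom r) := inferInstance
  haveI : Surjective (pullback.fst H.hom r) := inferInstance
  have hrange : Set.range u.left = (pullback.fst G.hom r) '' Set.range uK.left := by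
    ext y
    constructor
    · rintro ⟨h, rfl⟩
      obtain ⟨h', rfl⟩ := (pullback.fst H.hom r).surjective h
      refine ⟨uK.left h', ⟨h', rfl⟩, ?_⟩
      rw [← Scheme.Hom.comp_apply, hfst, Scheme.Hom.comp_apply]
    · rintro ⟨_, ⟨h', rfl⟩, rfl⟩
      refine ⟨(pullback.fst H.hom r) h', ?_⟩
      rw [← Scheme.Hom.comp_apply, ← hfst, Scheme.Hom.comp_apply]
  refine IsClosedImmersion.of_isPreimmersion _ ?_
  rw [hrange]
  exact (pullback.fst G.hom r).isClosedEmbedding.isClosedMap _ uK.left.isClosedEmbedding.isClosed_range

end

/-- Let A be a local artinian ring, G an A-group scheme and u : H → G a homomorphism of A-group schemes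
which is an immersion (a subgroup scheme; no finiteness is assumed). Then u is a closed immersion. -/
theorem result (A : Type u) [CommRing A] [IsArtinianRing A] [IsLocalRing A] (G H : Over (Spec (CommRingCat.of A))) [GrpObj G] [GrpObj H]
    (u : H ⟶ G) [IsMonHom u] [IsImmersion u.left] : IsClosedImmersion u.left := by
  exact main A G H u

end Groth.Agent.S5384
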