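import Groth.Statements.S5387
import Mathlib
set_option linter.style.haveILetI false

set_option autoImplicit false
universe u
open CategoryTheory CategoryTheory.Limits MonoidalCategory CartesianMonoidalCategory MonObj GrpObj AlgebraicGeometry
open SGA3

namespace Groth.Agent.S5387

/-- Let k be an algebraically closed field, G a group scheme locally of finite type over k and x a
closed point of G. Then the local ring of G at x is isomorphic to the local ring of G at the unit
point (an isomorphism is induced by a translation; this row asserts the existence of an isomorphism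
of rings). -/
theorem result (k : Type u) [Field k] [IsAlgClosed k] (G : Over (Spec (CommRingCat.of k))) [GrpObj G]
    [LocallyOfFiniteType G.hom] (pt : ↥(𝟙_ (Over (Spec (CommRingCat.of k)))).left) (x : G.left) (hx : IsClosed ({x} : Set G.left)) :
    Nonempty (G.left.presheaf.stalk (η[G].left.base pt) ≅ G.left.presheaf.stalk x) := by
  classical
  let f : G.left ⟶ Spec (CommRingCat.of k) := G.hom
  haveI : LocallyOfFiniteType f := ‹LocallyOfFiniteType G.hom›
  let x' : 𝟙_ (Over (Spec (CommRingCat.of k))) ⟶ G :=
    Over.homMk (pointOfClosedPoint f x hx) (pointOfClosedPoint_comp f x hx)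
  have hx' : x'.left.base pt = x := pointOfClosedPoint_apply f x hx _
  let T : G ≅ G := GrpObj.mulRight x'
  have hT : η[G] ≫ T.hom = x' := by
    simp only [T, GrpObj.mulRight_hom, comp_lift_assoc, Category.comp_id, comp_toUnit_assoc,
      toUnit_unit, Category.id_comp]
    change (η[G] : 𝟙_ _ ⟶ G) * x' = x'
    rw [MonObj.one_eq_one, _root_.one_mul]
  let t : G.left ≅ G.left := (Over.forget _).mapIso T
  have ht : t.hom.base (η[G].left.base pt) = x := by
    rw [← hx', ← hT]; rfl
  haveI : IsIso t.hom := inferInstance
  exact ⟨(asIso (t.hom.stalkMap (η[G].left.base pt))).symm ≪≫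
    eqToIso (congrArg (fun y => G.left.presheaf.stalk y) ht)⟩

end Groth.Agent.S5387
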