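import Groth.Statements.S7603
import Mathlib
set_option linter.style.haveILetI false

set_option autoImplicit false
universe u
open CategoryTheory CategoryTheory.Limits AlgebraicGeometry
open Variety

namespace Groth.Agent.S7603

section Aux

/-- A connected space in which every point has an irreducible open neighbourhood is irreducible. -/
theorem irreducibleSpace_of_connected_of_local {X : Type*} [TopologicalSpace X] [ConnectedSpace X]
    (h : ∀ x : X, ∃ U : Set X, IsOpen U ∧ x ∈ U ∧ IsIrreducible U) : IrreducibleSpace X := by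
  obtain ⟨x0⟩ := (inferInstance : Nonempty X)
  have hopen : IsOpen (irreducibleComponent x0) := by
    rw [isOpen_iff_forall_mem_open]
    intro y hy
    obtain ⟨U, hUo, hyU, hUi⟩ := h y
    refine ⟨U, ?_, hUo, hyU⟩
    have hZ : IsPreirreducible (irreducibleComponent x0) :=
      (isIrreducible_irreducibleComponent (x := x0)).isPreirreducible
    have hsub : irreducibleComponent x0 ⊆ closure U := by
      intro z hz
      rw [mem_closure_iff]
      intro V hVo hzV
      obtain ⟨w, _, hwU, hwV⟩ := hZ U V hUo hVo ⟨y, hy, hyU⟩ ⟨z, hz, hzV⟩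
      exact ⟨w, hwV, hwU⟩
    have heq : closure U = irreducibleComponent x0 :=
      eq_irreducibleComponent hUi.closure.isPreirreducible hsub
    exact subset_closure.trans heq.le
  have hclopen : IsClopen (irreducibleComponent x0) := ⟨isClosed_irreducibleComponent, hopen⟩
  have huniv : irreducibleComponent x0 = Set.univ :=
    hclopen.eq_univ ⟨x0, mem_irreducibleComponent⟩
  have hirr : IsIrreducible (Set.univ : Set X) := huniv ▸ isIrreducible_irreducibleComponent
  exact (irreducibleSpace_def _).mpr hirr

lemma exists_annihilates_ker {A : Type*} [CommRing A] [IsNoetherianRing A] (p : Ideal A)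
    [p.IsPrime] (Ap : Type*) [CommRing Ap] [Algebra A Ap] [IsLocalization.AtPrime Ap p] :
    ∃ s : A, s ∉ p ∧ ∀ x : A, algebraMap A Ap x = 0 → s * x = 0 := by
  have hfin : Module.Finite A (RingHom.ker (algebraMap A Ap)) := inferInstance
  have hsupp : (⟨p, inferInstance⟩ : PrimeSpectrum A) ∉
      Module.support A (RingHom.ker (algebraMap A Ap)) := by
    rw [Module.notMem_support_iff']
    rintro ⟨m, hm⟩
    have h0 : algebraMap A Ap m = 0 := hm
    obtain ⟨⟨r, hr⟩, hrm⟩ := (IsLocalization.map_eq_zero_iff p.primeCompl Ap m).mp h0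
    exact ⟨r, hr, Subtype.ext (by simpa [smul_eq_mul] using hrm)⟩
  rw [Module.mem_support_iff_of_finite, SetLike.not_le_iff_exists] at hsupp
  obtain ⟨s, hs, hsp⟩ := hsupp
  refine ⟨s, hsp, fun x hx => ?_⟩
  have := Module.mem_annihilator.mp hs ⟨x, hx⟩
  simpa [Subtype.ext_iff] using this

lemma isDomain_away {A : Type*} [CommRing A] (s : A) (p : Ideal A) [p.IsPrime] (hsp : s ∉ p)
    (Ap : Type*) [CommRing Ap] [Algebra A Ap] [IsLocalization.AtPrime Ap p] [IsDomain Ap]
    (hs : ∀ x : A, algebraMap A Ap x = 0 → s * x = 0)
    (B : Type*) [CommRing B] [Algebra A B] [IsLocalization.Away s B] : IsDomain B := by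
  have hu : IsUnit (algebraMap A Ap s) :=
    IsLocalization.map_units Ap (⟨s, hsp⟩ : p.primeCompl)
  let φ : B →+* Ap := IsLocalization.Away.lift (S := B) s hu
  have hinj : Function.Injective φ := by
    rw [injective_iff_map_eq_zero]
    intro b hb
    obtain ⟨a, t, rfl⟩ := IsLocalization.exists_mk'_eq (Submonoid.powers s) b
    have h1 : IsLocalization.mk' B a t * algebraMap A B t = algebraMap A B a :=
      IsLocalization.mk'_spec B a t
    have h2 := congrArg φ h1
    rw [map_mul, hb, zero_mul] at h2
    have h3 : algebraMap A Ap a = 0 := by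
      rw [← IsLocalization.Away.lift_eq (S := B) s hu a]; exact h2.symm
    rw [IsLocalization.mk'_eq_zero_iff]
    exact ⟨⟨s, Submonoid.mem_powers s⟩, hs a h3⟩
  exact hinj.isDomain φ

lemma exists_irreducible_open {X : Scheme.{u}} [IsLocallyNoetherian X] (x : X)
    (hx : IsDomain (X.presheaf.stalk x)) :
    ∃ U : Set X, IsOpen U ∧ x ∈ U ∧ IsIrreducible U := by
  obtain ⟨_, ⟨V, hV, rfl⟩, hxV, -⟩ :=
    X.isBasis_affineOpens.exists_subset_of_mem_open (Set.mem_univ x) isOpen_univ
  have hN : IsNoetherianRing Γ(X, V) := IsLocallyNoetherian.component_noetherian ⟨V, hV⟩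
  let _ := X.presheaf.algebra_section_stalk ⟨x, hxV⟩
  have hloc := hV.isLocalization_stalk ⟨x, hxV⟩
  obtain ⟨s, hsp, hs⟩ := exists_annihilates_ker (hV.primeIdealOf ⟨x, hxV⟩).asIdeal
    (X.presheaf.stalk x)
  have hmem : x ∈ X.basicOpen s := by
    rw [X.mem_basicOpen s x hxV]
    exact IsLocalization.map_units (X.presheaf.stalk x)
      (⟨s, hsp⟩ : (hV.primeIdealOf ⟨x, hxV⟩).asIdeal.primeCompl)
  refine ⟨(X.basicOpen s : Set X), (X.basicOpen s).2, hmem, ?_⟩
  have hU' : IsAffineOpen (X.basicOpen s) := hV.basicOpen s
  haveI : IsAffine (X.basicOpen s) := hU'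
  haveI : Nonempty (X.basicOpen s) := ⟨⟨x, hmem⟩⟩
  have hloc2 := hV.isLocalization_basicOpen s
  have hdom : IsDomain Γ(X, X.basicOpen s) :=
    isDomain_away s (hV.primeIdealOf ⟨x, hxV⟩).asIdeal hsp (X.presheaf.stalk x) hs _
  haveI : IsDomain Γ((X.basicOpen s : Scheme.{u}), ⊤) :=
    Function.Injective.isDomain (X.basicOpen s).topIso.hom.hom
      ((ConcreteCategory.bijective_of_isIso (X.basicOpen s).topIso.hom).injective)
  haveI : IsIntegral (X.basicOpen s : Scheme.{u}) := isIntegral_of_isAffine_of_isDomain _
  have : IrreducibleSpace (X.basicOpen s) := inferInstance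
  exact isIrreducible_iff_irreducibleSpace.mpr this

end Aux

/-- (2) ⇔ (3): let X be a proper scheme over a field k which is geometrically normal (X_K is a normal
scheme for every extension field K of k). Then X is geometrically connected over k exactly when it
is geometrically irreducible over k. (The published statement lists geometric integrality as a
further equivalent condition; given geometric normality it is equivalent to geometric irreducibility
by a direct argument, so this row omits it.) -/
theorem result (k : Type u) [Field k] (X : Scheme.{u}) [X.Over (Spec (CommRingCat.of k))] [IsProper (X ↘ (Spec (CommRingCat.of k)))]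
    (hX : ∀ (K : Type u) [Field K] [Algebra k K], Pi1.IsNormalScheme (Curv2.bc k X K)) :
    GeometricallyConnected (X ↘ (Spec (CommRingCat.of k))) ↔ GeometricallyIrreducible (X ↘ (Spec (CommRingCat.of k))) := by
  constructor
  · intro hc
    refine ⟨geometrically_iff_of_commRing_of_isClosedUnderIsomorphisms.mpr fun K _ _ => ?_⟩
    haveI : ConnectedSpace ↥(pullback (X ↘ (Spec (CommRingCat.of k)))
        (Spec.map (CommRingCat.ofHom (algebraMap k K)))) :=
      GeometricallyConnected.geometrically_connectedSpace _ _ _ (IsPullback.of_hasPullback _ _)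
    haveI : IsLocallyNoetherian (pullback (X ↘ (Spec (CommRingCat.of k)))
        (Spec.map (CommRingCat.ofHom (algebraMap k K)))) :=
      LocallyOfFiniteType.isLocallyNoetherian
        (pullback.snd (X ↘ (Spec (CommRingCat.of k)))
          (Spec.map (CommRingCat.ofHom (algebraMap k K))))
    exact irreducibleSpace_of_connected_of_local fun x =>
      exists_irreducible_open x (hX K x).1
  · intro hi
    refine ⟨geometrically_iff_of_commRing_of_isClosedUnderIsomorphisms.mpr fun K _ _ => ?_⟩
    haveI : IrreducibleSpace ↥(pullback (X ↘ (Spec (CommRingCat.of k)))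
        (Spec.map (CommRingCat.ofHom (algebraMap k K)))) :=
      GeometricallyIrreducible.geometrically_irreducibleSpace _ _ _ (IsPullback.of_hasPullback _ _)
    infer_instance

end Groth.Agent.S7603
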