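import Groth.Statements.S5388
import Mathlib
import Groth.Agent.S14588
import Groth.Agent.S7603
set_option linter.style.haveILetI false

set_option autoImplicit false
universe u
open CategoryTheory CategoryTheory.Limits MonoidalCategory CartesianMonoidalCategory MonObj GrpObj AlgebraicGeometry
open SGA3

namespace Groth.Agent.S5388

section Aux

lemma injective_of_away {A : Type*} [CommRing A] (s : A) (Ap : Type*) [CommRing Ap] [Algebra A Ap]
    (hs : ∀ x : A, algebraMap A Ap x = 0 → s * x = 0)
    (B : Type*) [CommRing B] [Algebra A B] [IsLocalization.Away s B] (ψ : B →+* Ap)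
    (hψ : ∀ a, ψ (algebraMap A B a) = algebraMap A Ap a) : Function.Injective ψ := by
  rw [injective_iff_map_eq_zero]
  intro b hb
  obtain ⟨a, t, rfl⟩ := IsLocalization.exists_mk'_eq (Submonoid.powers s) b
  have h1 : IsLocalization.mk' B a t * algebraMap A B t = algebraMap A B a :=
    IsLocalization.mk'_spec B a t
  have h2 := congrArg ψ h1
  rw [map_mul, hb, zero_mul, hψ] at h2
  rw [IsLocalization.mk'_eq_zero_iff]
  exact ⟨⟨s, Submonoid.mem_powers s⟩, hs a h2.symm⟩

/-- A group scheme locally of finite type over a perfect field with nonempty smooth locus is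
smooth. -/
lemma smooth_of_smoothLocus_nonempty_perfect {K : Type u} [Field K] [PerfectField K]
    (H : Over (Spec (CommRingCat.of K))) [GrpObj H] [LocallyOfFiniteType H.hom]
    (hne : (H.hom.smoothLocus : Set H.left).Nonempty) : Smooth H.hom := by
  let Ω : Type u := AlgebraicClosure K
  let g : Spec (CommRingCat.of Ω) ⟶ Spec (CommRingCat.of K) :=
    Spec.map (CommRingCat.ofHom <| algebraMap K Ω)
  apply MorphismProperty.of_pullback_snd_of_descendsAlong
    (Q := @Surjective ⊓ @Flat ⊓ @QuasiCompact) (g := g)
  · exact ⟨⟨inferInstance, inferInstance⟩, inferInstance⟩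
  · let HΩ : Over (Spec (CommRingCat.of Ω)) := (Over.pullback g).obj H
    haveI : GrpObj HΩ := Functor.grpObjObj
    haveI : LocallyOfFiniteType HΩ.hom := by
      show LocallyOfFiniteType (pullback.snd H.hom g)
      infer_instance
    refine Groth.Agent.S14588.smooth_of_smoothLocus_nonempty HΩ ?_
    show ((pullback.snd H.hom g).smoothLocus : Set ↥(pullback H.hom g)).Nonempty
    let W := H.hom.smoothLocus
    have hWs : Smooth (W.ι ≫ H.hom) := by
      rw [← Scheme.Hom.smoothLocus_eq_top_iff, ← Scheme.Hom.preimage_smoothLocus_eq]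
      exact W.ι_preimage_self
    have hpb1 : IsPullback (pullback.fst H.hom g ∣_ W) (pullback.fst H.hom g ⁻¹ᵁ W).ι W.ι
        (pullback.fst H.hom g) := isPullback_morphismRestrict _ W
    have hpb2 : IsPullback (pullback.fst H.hom g) (pullback.snd H.hom g) H.hom g :=
      IsPullback.of_hasPullback _ _
    have hpb := hpb1.paste_vert hpb2
    have hVs : Smooth ((pullback.fst H.hom g ⁻¹ᵁ W).ι ≫ pullback.snd H.hom g) :=
      MorphismProperty.of_isPullback (P := @Smooth) hpb hWs
    obtain ⟨w, hw⟩ := hne
    obtain ⟨y, hy⟩ := (pullback.fst H.hom g).surjective w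
    have hyV : y ∈ pullback.fst H.hom g ⁻¹ᵁ W := by
      show (pullback.fst H.hom g) y ∈ W
      rw [hy]; exact hw
    have h2 := Scheme.Hom.smoothLocus_eq_top_iff.mpr hVs
    rw [← Scheme.Hom.preimage_smoothLocus_eq] at h2
    have h3 : (⟨y, hyV⟩ : ↥(pullback.fst H.hom g ⁻¹ᵁ W)) ∈
        (pullback.fst H.hom g ⁻¹ᵁ W).ι ⁻¹ᵁ (pullback.snd H.hom g).smoothLocus := by
      rw [h2]; trivial
    exact ⟨y, h3⟩

end Aux

/-- Let G be a group scheme locally of finite type over a field k, e its unit point and K a perfect
extension field of k. If K ⊗_k O_{G,e} is a reduced ring, then G is smooth over k. (The published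
statement is for a group flat and locally of finite type over a local artinian ring, with K the
perfect closure of the residue field; this row is the case of a base field, with K any perfect
extension.) -/
theorem result (k : Type u) [Field k] (G : Over (Spec (CommRingCat.of k))) [GrpObj G]
    [LocallyOfFiniteType G.hom] (pt : ↥(𝟙_ (Over (Spec (CommRingCat.of k)))).left) (K : Type u) [Field K] [Algebra k K] [PerfectField K] :
    letI := ((Scheme.ΓSpecIso (CommRingCat.of k)).inv ≫ G.hom.appTop ≫ G.left.presheaf.germ ⊤ (η[G].left.base pt) trivial).hom.toAlgebra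
    IsReduced (TensorProduct k K (G.left.presheaf.stalk (η[G].left.base pt))) → Smooth G.hom := by
  letI algA : Algebra k ↑(G.left.presheaf.stalk (η[G].left.base pt)) :=
    ((Scheme.ΓSpecIso (CommRingCat.of k)).inv ≫ G.hom.appTop ≫
      G.left.presheaf.germ ⊤ (η[G].left.base pt) trivial).hom.toAlgebra
  intro hred
  haveI : IsLocallyNoetherian G.left := LocallyOfFiniteType.isLocallyNoetherian G.hom
  obtain ⟨_, ⟨V, hV, rfl⟩, hxV, -⟩ :=
    G.left.isBasis_affineOpens.exists_subset_of_mem_open
      (Set.mem_univ (η[G].left.base pt)) isOpen_univ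
  have hN : IsNoetherianRing Γ(G.left, V) := IsLocallyNoetherian.component_noetherian ⟨V, hV⟩
  letI algV := G.left.presheaf.algebra_section_stalk ⟨η[G].left.base pt, hxV⟩
  have hloc := hV.isLocalization_stalk ⟨η[G].left.base pt, hxV⟩
  obtain ⟨s, hsp, hs⟩ := Groth.Agent.S7603.exists_annihilates_ker
    (hV.primeIdealOf ⟨η[G].left.base pt, hxV⟩).asIdeal
    (G.left.presheaf.stalk (η[G].left.base pt))
  have heD : η[G].left.base pt ∈ G.left.basicOpen s := by
    rw [G.left.mem_basicOpen s _ hxV]
    exact IsLocalization.map_units (G.left.presheaf.stalk (η[G].left.base pt))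
      (⟨s, hsp⟩ : (hV.primeIdealOf ⟨η[G].left.base pt, hxV⟩).asIdeal.primeCompl)
  have hD : IsAffineOpen (G.left.basicOpen s) := hV.basicOpen s
  have hloc2 := hV.isLocalization_basicOpen s
  have hinj : Function.Injective
      (G.left.presheaf.germ (G.left.basicOpen s) (η[G].left.base pt) heD).hom :=
    injective_of_away s (G.left.presheaf.stalk (η[G].left.base pt)) hs
      Γ(G.left, G.left.basicOpen s) _ (fun a =>
        TopCat.Presheaf.germ_res_apply G.left.presheaf (homOfLE (G.left.basicOpen_le s))
          (η[G].left.base pt) heD a)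
  -- the k-algebra structure on the sections over the basic open
  let φ' : CommRingCat.of k ⟶ Γ(G.left, G.left.basicOpen s) :=
    (Scheme.ΓSpecIso (CommRingCat.of k)).inv ≫ G.hom.appTop ≫
      G.left.presheaf.map (homOfLE le_top).op
  letI algB : Algebra k Γ(G.left, G.left.basicOpen s) := φ'.hom.toAlgebra
  have ha : hD.fromSpec ≫ G.hom =
      Spec.map (CommRingCat.ofHom (algebraMap k Γ(G.left, G.left.basicOpen s))) := by
    calc hD.fromSpec ≫ G.hom
        = hD.fromSpec ≫ (G.left.toSpecΓ ≫ Spec.map G.hom.appTop ≫
            Spec.map (Scheme.ΓSpecIso (CommRingCat.of k)).inv) := by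
          congr 1
          rw [← Scheme.toSpecΓ_naturality_assoc, toSpecΓ_SpecMap_ΓSpecIso_inv, Category.comp_id]
      _ = Spec.map (G.left.presheaf.map (homOfLE le_top).op) ≫ Spec.map G.hom.appTop ≫
            Spec.map (Scheme.ΓSpecIso (CommRingCat.of k)).inv := by
          rw [hD.fromSpec_toSpecΓ_assoc]
      _ = Spec.map φ' := by
          simp only [φ', Spec.map_comp, Category.assoc]
      _ = _ := rfl
  let germAlg : Γ(G.left, G.left.basicOpen s) →ₐ[k]
      G.left.presheaf.stalk (η[G].left.base pt) :=
    { (G.left.presheaf.germ (G.left.basicOpen s) (η[G].left.base pt) heD).hom with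
      commutes' := fun c =>
        TopCat.Presheaf.germ_res_apply G.left.presheaf (homOfLE le_top)
          (η[G].left.base pt) heD _ }
  have hredKB : _root_.IsReduced (TensorProduct k K Γ(G.left, G.left.basicOpen s)) :=
    isReduced_of_injective (Algebra.TensorProduct.map (1 : K →ₐ[k] K) germAlg)
      (Module.Flat.lTensor_preserves_injective_linearMap (M := K) germAlg.toLinearMap hinj)
  have hredBK : _root_.IsReduced (TensorProduct k Γ(G.left, G.left.basicOpen s) K) :=
    isReduced_of_injective (Algebra.TensorProduct.comm k Γ(G.left, G.left.basicOpen s) K)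
      (AlgEquiv.injective _)
  -- base change to K
  let gK : Spec (CommRingCat.of K) ⟶ Spec (CommRingCat.of k) :=
    Spec.map (CommRingCat.ofHom (algebraMap k K))
  let a : Spec (CommRingCat.of Γ(G.left, G.left.basicOpen s)) ⟶ Spec (CommRingCat.of k) :=
    Spec.map (CommRingCat.ofHom (algebraMap k Γ(G.left, G.left.basicOpen s)))
  let eY : pullback a gK ≅ Spec (CommRingCat.of (TensorProduct k Γ(G.left, G.left.basicOpen s) K)) :=
    pullbackSpecIso k Γ(G.left, G.left.basicOpen s) K
  haveI : AlgebraicGeometry.IsReduced (pullback a gK) := isReduced_of_isOpenImmersion eY.hom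
  let j : pullback a gK ⟶ pullback G.hom gK :=
    pullback.map a gK G.hom gK hD.fromSpec (𝟙 _) (𝟙 _)
      (by rw [Category.comp_id]; exact ha.symm) (by simp)
  haveI : IsOpenImmersion j := inferInstance
  haveI : Nonempty ↥(pullback a gK) := by
    obtain ⟨y, -⟩ := (pullback.fst a gK).surjective (hD.primeIdealOf ⟨η[G].left.base pt, heD⟩)
    exact ⟨y⟩
  apply MorphismProperty.of_pullback_snd_of_descendsAlong
    (Q := @Surjective ⊓ @Flat ⊓ @QuasiCompact) (g := gK)
  · exact ⟨⟨inferInstance, inferInstance⟩, inferInstance⟩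
  · let H : Over (Spec (CommRingCat.of K)) := (Over.pullback gK).obj G
    haveI : GrpObj H := Functor.grpObjObj
    haveI : LocallyOfFiniteType H.hom := by
      show LocallyOfFiniteType (pullback.snd G.hom gK)
      infer_instance
    refine smooth_of_smoothLocus_nonempty_perfect H ?_
    have hd := (j ≫ pullback.snd G.hom gK).dense_smoothLocus_of_perfectField
    obtain ⟨y, hy⟩ := hd.nonempty
    rw [← Scheme.Hom.preimage_smoothLocus_eq] at hy
    exact ⟨j y, hy⟩

end Groth.Agent.S5388
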