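import Groth.Statements.S5390
import Groth.Agent.H28.FpqcDescCov

set_option autoImplicit false
universe u
open CategoryTheory CategoryTheory.Limits MonoidalCategory CartesianMonoidalCategory MonObj GrpObj AlgebraicGeometry
open SGA3

namespace Groth.Agent.S5390

theorem restrict_iff (P : MorphismProperty Scheme.{u}) [P.RespectsIso] {X Y : Scheme.{u}}
    (f : X ⟶ Y) (U : Y.Opens) : P (f ∣_ U) ↔ P (pullback.snd f U.ι) := by
  rw [← pullbackRestrictIsoRestrict_hom_morphismRestrict f U, P.cancel_left_of_respectsIso]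

theorem bc_iff (P : MorphismProperty Scheme.{u}) [P.RespectsIso] {X Y Y' T : Scheme.{u}}
    (f : X ⟶ Y) (g : Y' ⟶ Y) (c : T ⟶ Y') :
    P (pullback.snd (pullback.snd f g) c) ↔ P (pullback.snd f (c ≫ g)) := by
  rw [← pullbackLeftPullbackSndIso_hom_snd f g c, P.cancel_left_of_respectsIso]

theorem prop_of_comp (P : MorphismProperty Scheme.{u})
    [P.DescendsAlong (@Flat ⊓ @Surjective ⊓ @QuasiCompact)]
    {X S T T' : Scheme.{u}} (f : X ⟶ S) (c : T ⟶ S) (k : T' ⟶ T) [Flat k] [Surjective k]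
    [QuasiCompact k] (h : P (pullback.snd f (k ≫ c))) : P (pullback.snd f c) := by
  have big : IsPullback (pullback.fst f (k ≫ c)) (pullback.snd f (k ≫ c)) f (k ≫ c) :=
    IsPullback.of_hasPullback _ _
  have big' : IsPullback
      (pullback.lift (pullback.fst f (k ≫ c)) (pullback.snd f (k ≫ c) ≫ k)
        (by rw [Category.assoc, pullback.condition]) ≫ pullback.fst f c)
      (pullback.snd f (k ≫ c)) f (k ≫ c) := by
    rw [pullback.lift_fst]
    exact big
  have left := IsPullback.of_right big' (pullback.lift_snd _ _ _) (IsPullback.of_hasPullback f c)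
  exact MorphismProperty.of_isPullback_of_descendsAlong (P := P)
    (Q := @Flat ⊓ @Surjective ⊓ @QuasiCompact) left.flip
    ⟨⟨inferInstance, inferInstance⟩, inferInstance⟩ h

/-- Let P be a property of morphisms of schemes which is local on the target for the fpqc topology
(stable under base change, Zariski-local on the target, descending along flat surjective
quasi-compact morphisms). Let f : X → Y be a morphism, g : Y' → Y a flat morphism whose underlying
map is open, and f' : X ×_Y Y' → Y' the base change. If W is the largest open of Y over which f has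
P and W₁' the largest open of Y' over which f' has P, then W₁' = g⁻¹(W). -/
theorem result (P : MorphismProperty Scheme.{u}) [P.IsStableUnderBaseChange] [IsZariskiLocalAtTarget P]
    [P.DescendsAlong (@Flat ⊓ @Surjective ⊓ @QuasiCompact)]
    (X Y Y' : Scheme.{u}) (f : X ⟶ Y) (g : Y' ⟶ Y) [Flat g] (hg : IsOpenMap g.base)
    (W : Y.Opens) (hW : P (f ∣_ W)) (hmax : ∀ W₀ : Y.Opens, P (f ∣_ W₀) → W₀ ≤ W)
    (W₁ : Y'.Opens) (hW₁ : P (pullback.snd f g ∣_ W₁)) (hmax₁ : ∀ W₀ : Y'.Opens, P (pullback.snd f g ∣_ W₀) → W₀ ≤ W₁) :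
    W₁ = g ⁻¹ᵁ W := by
  have hW' : P (pullback.snd f W.ι) := (restrict_iff P f W).mp hW
  have hW₁' : P (pullback.snd (pullback.snd f g) W₁.ι) := (restrict_iff P _ W₁).mp hW₁
  apply le_antisymm
  · -- W₁ ≤ g⁻¹ W
    intro y' hy'
    show g y' ∈ W
    obtain ⟨V, hV, hyV⟩ : ∃ V : Y.Opens, IsAffineOpen V ∧ g y' ∈ V := by
      obtain ⟨_, ⟨V, hV, rfl⟩, hyV, -⟩ :=
        Y.isBasis_affineOpens.exists_subset_of_mem_open (Set.mem_univ (g y')) isOpen_univ
      exact ⟨V, hV, hyV⟩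
    have hy'2 : y' ∈ (W₁ ⊓ g ⁻¹ᵁ V : Y'.Opens) := ⟨hy', hyV⟩
    obtain ⟨V', hV', hyV', hV'le⟩ : ∃ V' : Y'.Opens, IsAffineOpen V' ∧ y' ∈ V' ∧
        (V' : Set Y') ⊆ ((W₁ ⊓ g ⁻¹ᵁ V : Y'.Opens) : Set Y') := by
      obtain ⟨_, ⟨V', hV', rfl⟩, h1, h2⟩ :=
        Y'.isBasis_affineOpens.exists_subset_of_mem_open hy'2 (W₁ ⊓ g ⁻¹ᵁ V).isOpen
      exact ⟨V', hV', h1, h2⟩
    have hV'W₁ : V' ≤ W₁ := fun z hz => (hV'le hz).1
    have hV'V : V' ≤ g ⁻¹ᵁ V := fun z hz => (hV'le hz).2
    let V₀ : Y.Opens := ⟨g '' (V' : Set Y'), hg _ V'.isOpen⟩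
    have hV₀V : V₀ ≤ V := by
      rintro _ ⟨z, hz, rfl⟩
      exact hV'V hz
    have hrange : Set.range (V'.ι ≫ g) ⊆ Set.range V₀.ι := by
      rintro _ ⟨z, rfl⟩
      rw [Scheme.Opens.range_ι]
      exact ⟨z.1, z.2, by simp⟩
    let t : V'.toScheme ⟶ V₀.toScheme := IsOpenImmersion.lift V₀.ι (V'.ι ≫ g) hrange
    have ht : t ≫ V₀.ι = V'.ι ≫ g := IsOpenImmersion.lift_fac _ _ _
    have htflat : Flat t := by
      have h1 : Flat (t ≫ V₀.ι) := by rw [ht]; infer_instance
      exact MorphismProperty.of_postcomp (W := @Flat) (W' := @IsOpenImmersion) t V₀.ι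
        inferInstance h1
    have htsurj : Surjective t := by
      constructor
      intro z
      obtain ⟨w, hw, hwz⟩ := z.2
      refine ⟨⟨w, hw⟩, ?_⟩
      apply V₀.ι.isOpenEmbedding.injective
      have h3 := congrArg (fun φ : (V'.toScheme ⟶ Y) => φ ⟨w, hw⟩) ht
      simp only [Scheme.Hom.comp_apply] at h3
      rw [h3]
      exact hwz
    have htqc : QuasiCompact t := by
      have hV'aff : IsAffine V'.toScheme := hV'
      have hVaff : IsAffine V.toScheme := hV
      have h1 : QuasiCompact (t ≫ Y.homOfLE hV₀V) := inferInstance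
      exact MorphismProperty.of_postcomp (W := @QuasiCompact) (W' := @QuasiSeparated) t
        (Y.homOfLE hV₀V) inferInstance h1
    -- f' has P over V'
    have h1 : P (pullback.snd (pullback.snd f g) (Y'.homOfLE hV'W₁ ≫ W₁.ι)) :=
      Groth.Agent.H28.FpqcDescCov.prop_pullback_snd_comp P _ W₁.ι (Y'.homOfLE hV'W₁) hW₁'
    rw [Scheme.homOfLE_ι, bc_iff P, ← ht] at h1
    have h2 : P (pullback.snd f V₀.ι) := prop_of_comp P f V₀.ι t h1
    have h3 : V₀ ≤ W := hmax V₀ ((restrict_iff P f V₀).mpr h2)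
    exact h3 ⟨y', hyV', rfl⟩
  · -- g⁻¹ W ≤ W₁
    apply hmax₁
    rw [restrict_iff P, bc_iff P]
    have h1 : (g ⁻¹ᵁ W).ι ≫ g = (g ∣_ W) ≫ W.ι := (morphismRestrict_ι g W).symm
    rw [h1]
    exact Groth.Agent.H28.FpqcDescCov.prop_pullback_snd_comp P f W.ι (g ∣_ W) hW'


end Groth.Agent.S5390
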