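import Groth.Statements.S5389
import Groth.Agent.S5390
import Groth.Agent.H28.GrpShear
import Groth.Agent.H28.CartPB
import Groth.Agent.H28.FpqcDescCov

set_option autoImplicit false
universe u
open CategoryTheory CategoryTheory.Limits MonoidalCategory CartesianMonoidalCategory MonObj GrpObj AlgebraicGeometry
open SGA3

namespace Groth.Agent.S5389


theorem restrict_iff' (P : MorphismProperty Scheme.{u}) [P.RespectsIso] {X Y Z : Scheme.{u}}
    {F : X ⟶ Y} {U : Y.Opens} {a : Z ⟶ X} {b : Z ⟶ U.toScheme} (sq : IsPullback a b F U.ι) :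
    P (F ∣_ U) ↔ P b := by
  rw [Groth.Agent.S5390.restrict_iff P, ← sq.isoPullback_hom_snd, P.cancel_left_of_respectsIso]

theorem restrict_iso (P : MorphismProperty Scheme.{u}) [P.RespectsIso] {X X' Y : Scheme.{u}}
    (e : X ≅ X') (F' : X' ⟶ Y) (U : Y.Opens) : P ((e.hom ≫ F') ∣_ U) ↔ P (F' ∣_ U) := by
  have h : IsPullback (pullback.fst (e.hom ≫ F') U.ι ≫ e.hom) (pullback.snd (e.hom ≫ F') U.ι)
      F' U.ι :=
    (IsPullback.of_hasPullback (e.hom ≫ F') U.ι).of_iso (Iso.refl _) e (Iso.refl _) (Iso.refl _)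
      (by simp) (by simp) (by simp) (by simp)
  rw [restrict_iff' P h, Groth.Agent.S5390.restrict_iff P]

theorem stab (P : MorphismProperty Scheme.{u}) [P.IsStableUnderBaseChange] {X Y : Scheme.{u}}
    (F : X ⟶ Y) (e₁ : X ≅ X) (e₂ : Y ≅ Y) (h : e₁.hom ≫ F = F ≫ e₂.hom) (W₀ : Y.Opens)
    (hW₀ : P (F ∣_ W₀)) : P (F ∣_ (e₂.inv ⁻¹ᵁ W₀)) := by
  have h1 : P (pullback.snd F W₀.ι) := (Groth.Agent.S5390.restrict_iff P F W₀).mp hW₀
  have h2 : P (pullback.snd F ((e₂.inv ∣_ W₀) ≫ W₀.ι)) :=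
    Groth.Agent.H28.FpqcDescCov.prop_pullback_snd_comp P F W₀.ι (e₂.inv ∣_ W₀) h1
  rw [morphismRestrict_ι] at h2
  have sq : IsPullback (pullback.fst F ((e₂.inv ⁻¹ᵁ W₀).ι ≫ e₂.inv) ≫ e₁.hom)
      (pullback.snd F ((e₂.inv ⁻¹ᵁ W₀).ι ≫ e₂.inv)) F (e₂.inv ⁻¹ᵁ W₀).ι :=
    (IsPullback.of_hasPullback F ((e₂.inv ⁻¹ᵁ W₀).ι ≫ e₂.inv)).of_iso (Iso.refl _) e₁ (Iso.refl _)
      e₂ (by simp) (by simp) h.symm (by simp)
  exact (restrict_iff' P sq).mpr h2

theorem mem_of_stab {Y : Scheme.{u}} (θ : Y ≅ Y) (W₁ : Y.Opens) (hstab : θ.inv ⁻¹ᵁ W₁ ≤ W₁)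
    (y : Y) (hy : y ∈ W₁) : θ.hom y ∈ W₁ := by
  apply hstab
  show θ.inv (θ.hom y) ∈ W₁
  rw [← Scheme.Hom.comp_apply, θ.hom_inv_id]
  exact hy

theorem exists_maxOpen (P : MorphismProperty Scheme.{u}) [IsZariskiLocalAtTarget P]
    {X Y : Scheme.{u}} (F : X ⟶ Y) :
    ∃ W₁ : Y.Opens, P (F ∣_ W₁) ∧ ∀ W' : Y.Opens, P (F ∣_ W') → W' ≤ W₁ := by
  have hV : P (F ∣_ sSup {V' : Y.Opens | P (F ∣_ V')}) := by
    apply IsZariskiLocalAtTarget.of_forall_exists_morphismRestrict
    intro x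
    have hx : x.1 ∈ sSup {V' : Y.Opens | P (F ∣_ V')} := x.2
    obtain ⟨V', hV'S, hxV'⟩ : ∃ V' ∈ {V' : Y.Opens | P (F ∣_ V')}, x.1 ∈ V' :=
      TopologicalSpace.Opens.mem_sSup.mp hx
    refine ⟨(sSup {V' : Y.Opens | P (F ∣_ V')}).ι ⁻¹ᵁ V', hxV', ?_⟩
    rw [P.arrow_mk_iso_iff (morphismRestrictRestrict F _ _)]
    have heq : (sSup {V' : Y.Opens | P (F ∣_ V')}).ι ''ᵁ
        ((sSup {V' : Y.Opens | P (F ∣_ V')}).ι ⁻¹ᵁ V') = V' := by
      rw [Scheme.Hom.image_preimage_eq_opensRange_inf, Scheme.Opens.opensRange_ι]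
      exact inf_eq_right.mpr (le_sSup hV'S)
    rw [heq]
    exact hV'S
  exact ⟨_, hV, fun V' h => le_sSup h⟩

theorem core (P : MorphismProperty Scheme.{u}) [P.IsStableUnderBaseChange] [IsZariskiLocalAtTarget P]
    [P.DescendsAlong (@Flat ⊓ @Surjective ⊓ @QuasiCompact)]
    (S : Scheme.{u}) (G H : Over S) [GrpObj G] [GrpObj H] (u : G ⟶ H) [IsMonHom u] [Flat G.hom]
    [UniversallyOpen G.hom]
    (W : H.left.Opens) (hW : P (u.left ∣_ W))
    (hmax : ∀ W' : H.left.Opens, P (u.left ∣_ W') → W' ≤ W)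
    (z : ↥(G ⊗ G).left) (hz : (snd G G).left.base z ∈ u.left ⁻¹ᵁ W) :
    μ[G].left.base z ∈ u.left ⁻¹ᵁ W := by
  have sqO : IsPullback (G ◁ u) (snd G G) (snd G H) u :=
    Groth.Agent.H28.CartPB.isPullback_whiskerLeft G u
  have sq : IsPullback (G ◁ u).left (snd G G).left (snd G H).left u.left :=
    sqO.map (Over.forget _)
  obtain ⟨W₁, hW₁, hmax₁⟩ := exists_maxOpen P (G ◁ u).left
  have hF : (G ◁ u).left = sq.flip.isoPullback.hom ≫ pullback.snd u.left (snd G H).left :=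
    (sq.flip.isoPullback_hom_snd).symm
  have hflat : Flat (snd G H).left := by rw [Over.snd_left]; infer_instance
  have hopen : IsOpenMap (snd G H).left.base := by
    have : UniversallyOpen (snd G H).left := by rw [Over.snd_left]; infer_instance
    exact (snd G H).left.isOpenMap
  have key : W₁ = (snd G H).left ⁻¹ᵁ W :=
    Groth.Agent.S5390.result P _ _ _ u.left (snd G H).left hopen W hW hmax W₁
      (by rw [← restrict_iso P sq.flip.isoPullback, ← hF]; exact hW₁)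
      (fun W₀ h => hmax₁ W₀ (by rw [hF, restrict_iso P]; exact h))
  -- the shear automorphisms
  let θO : G ⊗ H ≅ G ⊗ H := Groth.Agent.H28.GrpShear.shearIso u
  let τO : G ⊗ G ≅ G ⊗ G := Groth.Agent.H28.GrpShear.shearIso (𝟙 G)
  have hcommO : τO.hom ≫ (G ◁ u) = (G ◁ u) ≫ θO.hom := by
    show Groth.Agent.H28.GrpShear.shear (𝟙 G) ≫ (G ◁ u) = (G ◁ u) ≫ Groth.Agent.H28.GrpShear.shear u
    apply CartesianMonoidalCategory.hom_ext
    · rw [Category.assoc, whiskerLeft_fst, Groth.Agent.H28.GrpShear.shear_fst, Category.assoc,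
        Groth.Agent.H28.GrpShear.shear_fst, whiskerLeft_fst]
    · rw [Category.assoc, whiskerLeft_snd, Groth.Agent.H28.GrpShear.shear_snd_assoc, Category.assoc,
        Groth.Agent.H28.GrpShear.shear_snd, MonObj.mul_comp, MonObj.comp_mul, Category.comp_id,
        whiskerLeft_fst_assoc, whiskerLeft_snd]
  have hfin : μ[G] ≫ u = (G ◁ u) ≫ θO.hom ≫ snd G H := by
    rw [← Category.assoc, ← hcommO, Category.assoc, whiskerLeft_snd, ← Category.assoc]
    congr 1
    exact Groth.Agent.H28.GrpShear.mul_eq_shear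
  let θ : (G ⊗ H).left ≅ (G ⊗ H).left := (Over.forget S).mapIso θO
  let τ : (G ⊗ G).left ≅ (G ⊗ G).left := (Over.forget S).mapIso τO
  have hcomm : τ.hom ≫ (G ◁ u).left = (G ◁ u).left ≫ θ.hom := by
    have h := congrArg (fun φ => φ.left) hcommO
    exact h
  have hstab : θ.inv ⁻¹ᵁ W₁ ≤ W₁ := hmax₁ _ (stab P (G ◁ u).left τ θ hcomm W₁ hW₁)
  -- the point computation
  have hy : (G ◁ u).left z ∈ W₁ := by
    rw [key]
    show (snd G H).left ((G ◁ u).left z) ∈ W
    rw [← Scheme.Hom.comp_apply, sq.w, Scheme.Hom.comp_apply]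
    exact hz
  have hθy : θ.hom ((G ◁ u).left z) ∈ W₁ := mem_of_stab θ W₁ hstab _ hy
  rw [key] at hθy
  have h3 : (snd G H).left (θ.hom ((G ◁ u).left z)) ∈ W := hθy
  show u.left (μ[G].left z) ∈ W
  have h4 : μ[G].left ≫ u.left = (G ◁ u).left ≫ θ.hom ≫ (snd G H).left := by
    have h := congrArg (fun φ => φ.left) hfin
    exact h
  rw [← Scheme.Hom.comp_apply, h4]
  exact h3

/-- Let P be a property of morphisms of schemes which is local on the target for the fpqc topology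
(stable under base change, Zariski-local on the target, and descending along flat surjective
quasi-compact morphisms). Let u : G → H be a homomorphism of S-group schemes with G flat and
universally open over S, W the largest open subscheme of H over which the restriction of u has P,
and V = u⁻¹(W). Then the image U of V in S is open and V is an open subgroup scheme of G over U: V
contains the unit point of every fibre of G that it meets, V is stable under the inversion of G, and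
the product of a point of G ×_S G whose two projections lie in V lies in V. -/
theorem result (P : MorphismProperty Scheme.{u}) [P.IsStableUnderBaseChange] [IsZariskiLocalAtTarget P]
    [P.DescendsAlong (@Flat ⊓ @Surjective ⊓ @QuasiCompact)]
    (S : Scheme.{u}) (G H : Over S) [GrpObj G] [GrpObj H] (u : G ⟶ H) [IsMonHom u] [Flat G.hom] [UniversallyOpen G.hom]
    (W : H.left.Opens) (hW : P (u.left ∣_ W)) (hmax : ∀ W' : H.left.Opens, P (u.left ∣_ W') → W' ≤ W) :
    letI V : G.left.Opens := u.left ⁻¹ᵁ W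
    IsOpen (G.hom.base '' (V : Set G.left)) ∧
    (∀ g ∈ V, ∀ p : ↥(𝟙_ (Over S)).left, (𝟙_ (Over S)).hom.base p = G.hom.base g → η[G].left.base p ∈ V) ∧
    (∀ g ∈ V, ι[G].left.base g ∈ V) ∧
    (∀ z : ↥(G ⊗ G).left, (fst G G).left.base z ∈ V → (snd G G).left.base z ∈ V → μ[G].left.base z ∈ V) := by
  have hcore := core P S G H u W hW hmax
  refine ⟨G.hom.isOpenMap _ (u.left ⁻¹ᵁ W).isOpen, ?_, ?_, ?_⟩
  · intro g hg p hp
    have h1 : lift ι[G] (𝟙 G) ≫ μ[G] = toUnit G ≫ η[G] := by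
      rw [← Hom.mul_def, ← Hom.one_def]
      have : ι[G] = (𝟙 G)⁻¹ := GrpObj.inv_eq_inv
      rw [this, inv_mul_cancel]
    have h2 := hcore ((lift ι[G] (𝟙 G)).left g) (by
      show (snd G G).left ((lift ι[G] (𝟙 G)).left g) ∈ u.left ⁻¹ᵁ W
      rw [← Scheme.Hom.comp_apply, ← Over.comp_left, lift_snd]
      exact hg)
    have h3 : μ[G].left ((lift ι[G] (𝟙 G)).left g) = η[G].left ((toUnit G).left g) := by
      rw [← Scheme.Hom.comp_apply, ← Over.comp_left, h1, Over.comp_left, Scheme.Hom.comp_apply]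
    have h4 : (toUnit G).left g = p := by
      have h5 : (toUnit G).left ≫ (𝟙_ (Over S)).hom = G.hom := Over.w (toUnit G)
      have h6 : (𝟙_ (Over S)).hom = 𝟙 S := rfl
      have h7 : (𝟙_ (Over S)).hom ((toUnit G).left g) = (𝟙_ (Over S)).hom p := by
        rw [← Scheme.Hom.comp_apply, h5]
        exact hp.symm
      rw [h6] at h7
      simpa using h7
    rw [← h4, ← h3]
    exact h2
  · intro g hg
    have h1 : lift (ι[G] * ι[G]) (𝟙 G) ≫ μ[G] = ι[G] := by
      rw [← Hom.mul_def]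
      have : ι[G] = (𝟙 G)⁻¹ := GrpObj.inv_eq_inv
      rw [this]
      group
    have h2 := hcore ((lift (ι[G] * ι[G]) (𝟙 G)).left g) (by
      show (snd G G).left ((lift (ι[G] * ι[G]) (𝟙 G)).left g) ∈ u.left ⁻¹ᵁ W
      rw [← Scheme.Hom.comp_apply, ← Over.comp_left, lift_snd]
      exact hg)
    have h3 : μ[G].left ((lift (ι[G] * ι[G]) (𝟙 G)).left g) = ι[G].left g := by
      rw [← Scheme.Hom.comp_apply, ← Over.comp_left, h1]
    rw [← h3]
    exact h2
  · intro z _ hz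
    exact hcore z hz

end Groth.Agent.S5389
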