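import Groth.Statements.S5395
import Mathlib
set_option linter.style.haveILetI false

set_option autoImplicit false
universe u
open CategoryTheory CategoryTheory.Limits MonoidalCategory CartesianMonoidalCategory MonObj GrpObj AlgebraicGeometry
open SGA3

namespace Groth.Agent.S5395

section Aux

open Topology

/-- finite unions of locally closed sets -/
def IsFinUnionLC {X : Type*} [TopologicalSpace X] (s : Set X) : Prop :=
  ∃ F : Set (Set X), F.Finite ∧ (∀ t ∈ F, IsLocallyClosed t) ∧ s = ⋃₀ F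

lemma IsFinUnionLC.union {X : Type*} [TopologicalSpace X] {s t : Set X}
    (hs : IsFinUnionLC s) (ht : IsFinUnionLC t) : IsFinUnionLC (s ∪ t) := by
  obtain ⟨F, hF, hFl, rfl⟩ := hs
  obtain ⟨F', hF', hFl', rfl⟩ := ht
  exact ⟨F ∪ F', hF.union hF', fun u hu => hu.elim (hFl u) (hFl' u),
    (Set.sUnion_union F F').symm⟩

lemma IsFinUnionLC.inter {X : Type*} [TopologicalSpace X] {s t : Set X}
    (hs : IsFinUnionLC s) (ht : IsFinUnionLC t) : IsFinUnionLC (s ∩ t) := by
  obtain ⟨F, hF, hFl, rfl⟩ := hs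
  obtain ⟨F', hF', hFl', rfl⟩ := ht
  refine ⟨Set.image2 (· ∩ ·) F F', hF.image2 _ hF', ?_, ?_⟩
  · rintro _ ⟨a, ha, b, hb, rfl⟩
    exact (hFl a ha).inter (hFl' b hb)
  · ext x
    simp only [Set.mem_inter_iff, Set.mem_sUnion, Set.mem_image2]
    constructor
    · rintro ⟨⟨a, ha, hxa⟩, ⟨b, hb, hxb⟩⟩
      exact ⟨a ∩ b, ⟨a, ha, b, hb, rfl⟩, hxa, hxb⟩
    · rintro ⟨_, ⟨a, ha, b, hb, rfl⟩, hxa, hxb⟩
      exact ⟨⟨a, ha, hxa⟩, ⟨b, hb, hxb⟩⟩

lemma isFinUnionLC_of_isConstructible {X : Type*} [TopologicalSpace X] {s : Set X}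
    (hs : IsConstructible s) : IsFinUnionLC s ∧ IsFinUnionLC sᶜ := by
  induction hs using IsConstructible.empty_union_induction with
  | open_retrocompact U hUo _ =>
    refine ⟨⟨{U}, Set.finite_singleton _, ?_, by simp⟩, ⟨{Uᶜ}, Set.finite_singleton _, ?_, by simp⟩⟩
    · intro t ht
      rw [Set.mem_singleton_iff] at ht
      subst ht
      exact hUo.isLocallyClosed
    · intro t ht
      rw [Set.mem_singleton_iff] at ht
      subst ht
      exact hUo.isClosed_compl.isLocallyClosed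
  | union s hs t ht ihs iht =>
    exact ⟨ihs.1.union iht.1, by rw [Set.compl_union]; exact ihs.2.inter iht.2⟩
  | compl s hs ih => exact ⟨ih.2, by rw [compl_compl]; exact ih.1⟩

lemma exists_locallyClosed_of_isConstructible {X : Type*} [TopologicalSpace X] {s : Set X}
    (hs : IsConstructible s) {x : X} (hx : x ∈ s) :
    ∃ L, IsLocallyClosed L ∧ x ∈ L ∧ L ⊆ s := by
  obtain ⟨F, -, hFl, rfl⟩ := (isFinUnionLC_of_isConstructible hs).1
  obtain ⟨t, ht, hxt⟩ := hx
  exact ⟨t, hFl t ht, hxt, Set.subset_sUnion_of_mem ht⟩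

lemma exists_locallyClosed_of_isIndConstructible {X : Type*} [TopologicalSpace X] {E : Set X}
    (hE : ProCons.IsIndConstructible E) {x : X} (hx : x ∈ E) :
    ∃ L, IsLocallyClosed L ∧ x ∈ L ∧ L ⊆ E := by
  obtain ⟨U, hUo, hxU, S, hS, hES⟩ := hE x
  have hx' : (⟨x, hxU⟩ : ↥U) ∈ (Subtype.val ⁻¹' E : Set ↥U) := hx
  rw [hES] at hx'
  obtain ⟨T, hTS, hxT⟩ := hx'
  obtain ⟨V, hVn, hVo, hVc⟩ := hS T hTS ⟨x, hxU⟩
  have hxV : (⟨x, hxU⟩ : ↥U) ∈ V := mem_of_mem_nhds hVn
  obtain ⟨L₀, hL₀, hxL₀, hL₀s⟩ :=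
    exists_locallyClosed_of_isConstructible hVc (x := ⟨⟨x, hxU⟩, hxV⟩) hxT
  let j : ↥V → X := fun v => (v.1).1
  have hj : IsOpenEmbedding j :=
    hUo.isOpenEmbedding_subtypeVal.comp hVo.isOpenEmbedding_subtypeVal
  refine ⟨j '' L₀, hL₀.image hj.isInducing hj.isOpen_range.isLocallyClosed,
    ⟨_, hxL₀, rfl⟩, ?_⟩
  rintro _ ⟨v, hv, rfl⟩
  have h1 : v.1 ∈ T := hL₀s hv
  have h2 : v.1 ∈ (Subtype.val ⁻¹' E : Set ↥U) := by rw [hES]; exact ⟨T, hTS, h1⟩
  exact h2

end Aux

/-- Let k be an algebraically closed field, G a group scheme locally of finite type over k, and A, B two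
ind-constructible subsets of G. Let A·B be the image under the multiplication of the set of points
of G ×_k G whose two projections lie in A and B. Then every closed point z of G lying in A·B is the
product of a closed point of G ×_k G whose two projections lie in A and B (and are then closed
points): the rational points of A·B are the products of rational points of A and of B. -/
theorem result (k : Type u) [Field k] [IsAlgClosed k] (G : Over (Spec (CommRingCat.of k))) [GrpObj G]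
    [LocallyOfFiniteType G.hom] (A B : Set G.left) (hA : ProCons.IsIndConstructible A) (hB : ProCons.IsIndConstructible B)
    (z : G.left) (hz : IsClosed ({z} : Set G.left))
    (hzAB : z ∈ μ[G].left.base '' {w : ↥(G ⊗ G).left | (fst G G).left.base w ∈ A ∧ (snd G G).left.base w ∈ B}) :
    ∃ w : ↥(G ⊗ G).left, IsClosed ({w} : Set ↥(G ⊗ G).left) ∧ (fst G G).left.base w ∈ A ∧ (snd G G).left.base w ∈ B ∧
      μ[G].left.base w = z := by
  obtain ⟨w0, ⟨hw0A, hw0B⟩, hw0z⟩ := hzAB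
  obtain ⟨LA, hLA, haLA, hLAA⟩ := exists_locallyClosed_of_isIndConstructible hA hw0A
  obtain ⟨LB, hLB, hbLB, hLBB⟩ := exists_locallyClosed_of_isIndConstructible hB hw0B
  have h1 : LocallyOfFiniteType (G ⊗ G).hom := by rw [Over.tensorObj_hom]; infer_instance
  haveI : JacobsonSpace ↥(G ⊗ G).left := LocallyOfFiniteType.jacobsonSpace (G ⊗ G).hom
  let L : Set ↥(G ⊗ G).left :=
    ((fun w => (fst G G).left.base w) ⁻¹' LA ∩ (fun w => (snd G G).left.base w) ⁻¹' LB) ∩
      (fun w => μ[G].left.base w) ⁻¹' {z}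
  have hL : IsLocallyClosed L :=
    ((hLA.preimage (fst G G).left.continuous).inter
      (hLB.preimage (snd G G).left.continuous)).inter
      (hz.preimage μ[G].left.continuous).isLocallyClosed
  have hne : L.Nonempty := ⟨w0, ⟨haLA, hbLB⟩, hw0z⟩
  obtain ⟨w, ⟨⟨hwA, hwB⟩, hwz⟩, hwc⟩ := nonempty_inter_closedPoints hne hL
  exact ⟨w, hwc, hLAA hwA, hLBB hwB, hwz⟩

end Groth.Agent.S5395
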