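import Groth.Statements.S5427
import Groth.Agent.H28.Kummer

set_option autoImplicit false
universe u
open CategoryTheory MonoidalCategory CartesianMonoidalCategory MonObj GrpObj AlgebraicGeometry CategoryTheory.Limits
open Red

namespace Groth.Agent.S5427

section Helpers
open CategoryTheory.Limits Groth.Agent.H28

theorem exists_surj_zmod (M : Type) [AddCommGroup M] [AddGroup.FG M] [Nontrivial M] :
    ∃ (r : ℕ) (_ : r.Prime) (φ : M →+ ZMod r), Function.Surjective φ := by
  have : Module.Finite ℤ M := Module.Finite.iff_addGroup_fg.mpr ‹_›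
  obtain ⟨N, hN, -⟩ := (eq_top_or_exists_le_coatom (⊥ : Submodule ℤ M)).resolve_left bot_ne_top
  have hs : IsSimpleModule ℤ (M ⧸ N) := isSimpleModule_iff_isCoatom.mpr hN
  obtain ⟨I, hI, ⟨e⟩⟩ := isSimpleModule_iff_quot_maximal.mp hs
  obtain ⟨a, rfl⟩ : ∃ a : ℤ, I = Ideal.span {a} :=
    ⟨_, (Submodule.IsPrincipal.span_singleton_generator I).symm⟩
  have ha0 : a ≠ 0 := by
    rintro rfl
    rw [Ideal.span_singleton_eq_bot.mpr rfl, ← Ring.isField_iff_maximal_bot] at hI
    exact Int.not_isField hI
  have hprime : Prime a := (Ideal.span_singleton_prime ha0).mp hI.isPrime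
  have hp : a.natAbs.Prime := Int.prime_iff_natAbs_prime.mp hprime
  refine ⟨a.natAbs, hp,
    ((Int.quotientSpanEquivZMod a).toAddMonoidHom.comp e.toLinearMap.toAddMonoidHom).comp
      N.mkQ.toAddMonoidHom, ?_⟩
  intro z
  obtain ⟨y, hy⟩ := (Int.quotientSpanEquivZMod a).surjective z
  obtain ⟨x, hx⟩ := e.surjective y
  obtain ⟨m, hm⟩ := N.mkQ_surjective x
  exact ⟨m, by simp [hm, hx, hy]⟩

theorem isClosedImmersion_DSmap (S : Scheme.{u}) {M N : Type} [AddCommGroup M] [AddCommGroup N]
    (φ : M →+ N) (hφ : Function.Surjective φ) :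
    IsMonHom (Red.DSmap S φ) ∧ IsClosedImmersion (Red.DSmap S φ).left := by
  constructor
  · have := Kummer.isMonHom_diagMap (ULift.{u} ℤ) φ
    exact Functor.map.instIsMonHom (F := Over.pullback _) _ _ (Red.diagMap (ULift.{u} ℤ) φ)
  · have sq := (ExactBC.isPullback_map_left
      (Limits.IsTerminal.from specULiftZIsTerminal S) (Red.diagMap (ULift.{u} ℤ) φ)).flip
    refine MorphismProperty.of_isPullback (P := @IsClosedImmersion) sq ?_
    change IsClosedImmersion (Spec.map _)
    apply IsClosedImmersion.spec_of_surjective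
    intro x
    change MonoidAlgebra (ULift.{u} ℤ) (Multiplicative N) at x
    induction x using MonoidAlgebra.induction_linear with
    | zero => exact ⟨0, map_zero _⟩
    | add a b ha hb =>
      obtain ⟨a', rfl⟩ := ha
      obtain ⟨b', rfl⟩ := hb
      exact ⟨a' + b', map_add _ _ _⟩
    | single m r =>
      obtain ⟨m', hm'⟩ := hφ (Multiplicative.toAdd m)
      refine ⟨(MonoidAlgebra.single (Multiplicative.ofAdd m') r :
        MonoidAlgebra (ULift.{u} ℤ) (Multiplicative M)), ?_⟩
      simp [hm']

end Helpers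

/-- Let S be a scheme and G = D_S(M) a diagonalizable S-group of finite type, M a non-trivial finitely
generated commutative group. Then there are a prime number r and a closed subgroup of G isomorphic
to (μ_r)_S: a homomorphism of S-groups D_S(ℤ/r) → D_S(M) which is a closed immersion. -/
theorem result (S : Scheme.{u}) (M : Type) [AddCommGroup M] [AddGroup.FG M] [Nontrivial M] :
    ∃ (r : ℕ) (_ : r.Prime) (j : Red.DS S (ZMod r) ⟶ Red.DS S M), IsMonHom j ∧ IsClosedImmersion j.left := by
  obtain ⟨r, hr, φ, hφ⟩ := exists_surj_zmod M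
  obtain ⟨h1, h2⟩ := isClosedImmersion_DSmap S φ hφ
  exact ⟨r, hr, Red.DSmap S φ, h1, h2⟩

end Groth.Agent.S5427
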