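import Groth.Statements.S5449
import Groth.Agent.Lib.Helper22.RootDLib

set_option autoImplicit false
open RootD

namespace Groth.Agent.S5449

/-- For a system of simple roots Δ, the roots that are non-negative integer combinations of Δ form a
system of positive roots; and a system of positive roots S contains Δ if and only if S is that set. -/
theorem result {ι M N : Type*} [AddCommGroup M] [AddCommGroup N]
    (P : RootPairing ι ℤ M N) [Finite ι] (Δ : Set ι) (hΔ : RootD.IsSimpleSys P Δ)
    (S : Set ι) (hS : RootD.IsPosSys P S) :
    RootD.IsPosSys P (RootD.posOf P Δ) ∧ (Δ ⊆ S ↔ S = RootD.posOf P Δ) := by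
  classical
  have hneg : ∀ i : ι, P.root (P.reflectionPerm i i) = -P.root i :=
    Groth.Agent.Helper22.RootDLib.root_reflectionPerm_self P
  have hle : RootD.natSpan P (RootD.posOf P Δ) ≤ RootD.natSpan P Δ := by
    unfold RootD.natSpan
    rw [AddSubmonoid.closure_le]
    rintro _ ⟨m, hm, rfl⟩
    exact hm
  have hpos : RootD.IsPosSys P (RootD.posOf P Δ) := by
    refine ⟨?_, ?_, ?_⟩
    · intro i hi hi'
      have h1 : P.root i ∈ RootD.natSpan P Δ := hi
      have h2 : -P.root i ∈ RootD.natSpan P Δ := by
        have h3 : P.root (P.reflectionPerm i i) ∈ RootD.natSpan P Δ := hi'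
        rwa [hneg] at h3
      have h4 := Groth.Agent.Helper22.RootDLib.eq_zero_of_nsmul_mem_of_neg_mem P hΔ.linInd 1
        one_pos (by rwa [one_smul]) h2
      exact P.ne_zero i h4
    · intro i
      rcases hΔ.mem_or_neg_mem i with h | h
      · exact Or.inl h
      · right
        show P.root (P.reflectionPerm i i) ∈ RootD.natSpan P Δ
        rwa [hneg]
    · intro k n hn hk
      have hk' : n • P.root k ∈ RootD.natSpan P Δ := hle hk
      rcases hΔ.mem_or_neg_mem k with h | h
      · exact h
      · exfalso
        have h4 := Groth.Agent.Helper22.RootDLib.eq_zero_of_nsmul_mem_of_neg_mem P hΔ.linInd n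
          hn hk' h
        exact P.ne_zero k h4
  refine ⟨hpos, ?_, ?_⟩
  · intro hsub
    apply Set.eq_of_subset_of_subset
    · intro s hs
      rcases hΔ.mem_or_neg_mem s with h | h
      · exact h
      · exfalso
        apply hS.disjoint hs
        apply hS.sat 1 one_pos
        rw [one_smul, hneg]
        have hmono : RootD.natSpan P Δ ≤ RootD.natSpan P S := by
          unfold RootD.natSpan
          exact AddSubmonoid.closure_mono (Set.image_mono hsub)
        exact hmono h
    · intro k hk
      apply hS.sat 1 one_pos
      rw [one_smul]
      have hmono : RootD.natSpan P Δ ≤ RootD.natSpan P S := by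
        unfold RootD.natSpan
        exact AddSubmonoid.closure_mono (Set.image_mono hsub)
      exact hmono hk
  · rintro rfl
    intro d hd
    exact Groth.Agent.Helper22.RootDLib.root_mem_natSpan P Δ hd

end Groth.Agent.S5449
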