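import Groth.Statements.S5450
import Groth.Agent.Lib.Helper22.RootDLib

set_option autoImplicit false
open RootD

namespace Groth.Agent.S5450

/-- A positive root (relative to a system of simple roots Δ) is simple if and only if it is not the sum
of two positive roots. -/
theorem result {ι M N : Type*} [AddCommGroup M] [AddCommGroup N]
    (P : RootPairing ι ℤ M N) [Finite ι] (Δ : Set ι) (hΔ : RootD.IsSimpleSys P Δ)
    (k : ι) (hk : k ∈ RootD.posOf P Δ) :
    k ∈ Δ ↔ ¬ ∃ i j : ι, i ∈ RootD.posOf P Δ ∧ j ∈ RootD.posOf P Δ ∧ P.root k = P.root i + P.root j := by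
  classical
  have hinj := Groth.Agent.Helper22.RootDLib.injective_L P hΔ.linInd
  constructor
  · rintro hkΔ ⟨i, j, hi, hj, hsum⟩
    obtain ⟨ci, hci, hcix⟩ := Groth.Agent.Helper22.RootDLib.exists_rep_of_mem_natSpan P Δ hi
    obtain ⟨cj, hcj, hcjx⟩ := Groth.Agent.Helper22.RootDLib.exists_rep_of_mem_natSpan P Δ hj
    have h0 : Groth.Agent.Helper22.RootDLib.L P Δ (ci + cj) =
        Groth.Agent.Helper22.RootDLib.L P Δ (Finsupp.single ⟨k, hkΔ⟩ 1) := by
      rw [map_add, hcix, hcjx, Groth.Agent.Helper22.RootDLib.L_single, hsum]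
    have h3 := hinj h0
    have hval : ∀ d : Δ, ci d + cj d = (Finsupp.single (⟨k, hkΔ⟩ : Δ) (1 : ℤ)) d := by
      intro d
      have h4 := DFunLike.congr_fun h3 d
      simpa using h4
    have hk1 := hval ⟨k, hkΔ⟩
    rw [Finsupp.single_eq_same] at hk1
    have hother : ∀ d : Δ, d ≠ ⟨k, hkΔ⟩ → ci d = 0 ∧ cj d = 0 := by
      intro d hd
      have h5 := hval d
      rw [Finsupp.single_eq_of_ne hd] at h5
      have h6 := hci d
      have h7 := hcj d
      constructor <;> omega
    by_cases hcjk : cj ⟨k, hkΔ⟩ = 0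
    · have hcj0 : cj = 0 := by
        ext d
        by_cases hd : d = ⟨k, hkΔ⟩
        · rw [hd, hcjk]; rfl
        · rw [(hother d hd).2]; rfl
      rw [hcj0, map_zero] at hcjx
      exact P.ne_zero j hcjx.symm
    · have hci0 : ci = 0 := by
        ext d
        by_cases hd : d = ⟨k, hkΔ⟩
        · rw [hd]
          have h6 := hci ⟨k, hkΔ⟩
          have h7 := hcj ⟨k, hkΔ⟩
          show ci ⟨k, hkΔ⟩ = 0
          omega
        · rw [(hother d hd).1]; rfl
      rw [hci0, map_zero] at hcix
      exact P.ne_zero i hcix.symm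
  · intro hno
    by_contra hkΔ
    apply hno
    have hk' : P.root k ∈ RootD.natSpan P Δ := hk
    have h2 : 0 < P.toLinearMap (P.root k) (P.coroot k) := by
      rw [P.root_coroot_two]; norm_num
    obtain ⟨d, hd, hdpos, hmem⟩ :=
      Groth.Agent.Helper22.RootDLib.exists_simple_sub_mem P Δ (P.coroot k) (P.root k) hk' h2
    have hdk : d ≠ k := fun h => hkΔ (h ▸ hd)
    have hpair : 0 < P.pairingIn ℤ d k := by
      have h3 := P.algebraMap_pairingIn ℤ d k
      have h4 : P.pairingIn ℤ d k = P.pairing d k := by simpa using h3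
      rw [h4]
      exact hdpos
    obtain ⟨m, hm⟩ := P.root_sub_root_mem_of_pairingIn_pos hpair hdk
    refine ⟨P.reflectionPerm m m, d, ?_, Groth.Agent.Helper22.RootDLib.root_mem_natSpan P Δ hd, ?_⟩
    · show P.root (P.reflectionPerm m m) ∈ RootD.natSpan P Δ
      rw [Groth.Agent.Helper22.RootDLib.root_reflectionPerm_self, hm, neg_sub]
      exact hmem
    · rw [Groth.Agent.Helper22.RootDLib.root_reflectionPerm_self, hm, neg_sub, sub_add_cancel]

end Groth.Agent.S5450
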