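import Groth.Statements.S5445
import Groth.Agent.Lib.Helper22.RootDPos
import Groth.Agent.S5449
import Groth.Agent.S5450

set_option autoImplicit false
open RootD

namespace Groth.Agent.S5445

/-- A system of positive roots of a root datum contains exactly one system of simple roots (simple
systems in the sense of conditions on roots only: linearly independent, every root a non-negative or
non-positive integer combination). -/
theorem result {ι M N : Type*} [AddCommGroup M] [AddCommGroup N]
    (P : RootPairing ι ℤ M N) [Finite ι] (S : Set ι) (hS : RootD.IsPosSys P S) :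
    ∃! Δ : Set ι, RootD.IsSimpleSys P Δ ∧ Δ ⊆ S := by
  refine ⟨Groth.Agent.Helper22.RootDPos.Indec P S,
    ⟨Groth.Agent.Helper22.RootDPos.isSimpleSys_indec hS,
      Groth.Agent.Helper22.RootDPos.indec_subset P S⟩, ?_⟩
  rintro Δ ⟨hΔ, hsub⟩
  have hSeq : S = RootD.posOf P Δ := ((Groth.Agent.S5449.result P Δ hΔ S hS).2).mp hsub
  subst hSeq
  ext k
  constructor
  · intro hk
    have hkpos : k ∈ RootD.posOf P Δ := hsub hk
    exact ⟨hkpos, (Groth.Agent.S5450.result P Δ hΔ k hkpos).mp hk⟩
  · rintro ⟨hkS, hk⟩
    exact (Groth.Agent.S5450.result P Δ hΔ k hkS).mpr hk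

end Groth.Agent.S5445
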