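import Groth.Statements.S5448
import Groth.Agent.Lib.Helper22.RootDLib

set_option autoImplicit false
open RootD

namespace Groth.Agent.S5448

/-- The elements of a system of simple roots (root-only sense) are indivisible, i.e. none of them is
twice a root. -/
theorem result {ι M N : Type*} [AddCommGroup M] [AddCommGroup N]
    (P : RootPairing ι ℤ M N) [Finite ι] (Δ : Set ι) (hΔ : RootD.IsSimpleSys P Δ)
    (i : ι) (hi : i ∈ Δ) : RootD.IsIndiv P i := by
  classical
  intro j hj
  have hinj := Groth.Agent.Helper22.RootDLib.injective_L P hΔ.linInd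
  rcases hΔ.mem_or_neg_mem j with h | h
  · obtain ⟨c, hc, hcx⟩ := Groth.Agent.Helper22.RootDLib.exists_rep_of_mem_natSpan P Δ h
    have h0 : Groth.Agent.Helper22.RootDLib.L P Δ ((2 : ℤ) • c) =
        Groth.Agent.Helper22.RootDLib.L P Δ (Finsupp.single ⟨i, hi⟩ 1) := by
      rw [map_smul, hcx, Groth.Agent.Helper22.RootDLib.L_single, hj]
    have h3 := DFunLike.congr_fun (hinj h0) ⟨i, hi⟩
    simp only [Finsupp.coe_smul, Pi.smul_apply, smul_eq_mul, Finsupp.single_eq_same] at h3
    omega
  · obtain ⟨c, hc, hcx⟩ := Groth.Agent.Helper22.RootDLib.exists_rep_of_mem_natSpan P Δ h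
    have h0 : Groth.Agent.Helper22.RootDLib.L P Δ ((2 : ℤ) • c) =
        Groth.Agent.Helper22.RootDLib.L P Δ (-Finsupp.single ⟨i, hi⟩ 1) := by
      rw [map_smul, hcx, map_neg, Groth.Agent.Helper22.RootDLib.L_single, smul_neg, hj]
    have h3 := DFunLike.congr_fun (hinj h0) ⟨i, hi⟩
    simp only [Finsupp.coe_smul, Pi.smul_apply, smul_eq_mul, Finsupp.coe_neg, Pi.neg_apply,
      Finsupp.single_eq_same] at h3
    omega

end Groth.Agent.S5448
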