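import Groth.Statements.S5451
import Groth.Agent.H23.RootD.Basic

set_option autoImplicit false
open RootD

namespace Groth.Agent.S5451

lemma sum_filter_castSucc {M : Type*} [AddCommMonoid M] {l : ℕ} (f : Fin (l + 1) → M) (p' : Fin l) :
    ∑ q ∈ Finset.univ.filter (fun q : Fin (l + 1) => q.val ≤ (Fin.castSucc p').val), f q =
      ∑ q ∈ Finset.univ.filter (fun q : Fin l => q.val ≤ p'.val), f (Fin.castSucc q) := by
  rw [Finset.sum_filter, Finset.sum_filter, Fin.sum_univ_castSucc]
  have : ¬ (l ≤ p'.val) := not_le.2 p'.isLt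
  simp [this]

lemma aux {ι M N : Type*} [AddCommGroup M] [AddCommGroup N]
    (P : RootPairing ι ℤ M N) {n : ℕ} (a : Fin n → ι) {k : ι}
    (h : H23.RD.Reach P (Set.range a) k) :
    ∃ (l : ℕ) (b : Fin l → Fin n), 0 < l ∧
      (∀ p : Fin l, ∃ j : ι, P.root j = ∑ q ∈ Finset.univ.filter (fun q : Fin l => q.val ≤ p.val), P.root (a (b q))) ∧
      P.root k = ∑ q, P.root (a (b q)) := by
  induction h with
  | base hi =>
    obtain ⟨t, rfl⟩ := hi
    refine ⟨1, fun _ => t, one_pos, fun p => ⟨a t, ?_⟩, by simp⟩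
    have : Finset.univ.filter (fun q : Fin 1 => q.val ≤ p.val) = Finset.univ := by
      ext q; simp
    rw [this]; simp
  | @step j i k _ hi hk ih =>
    obtain ⟨t, rfl⟩ := hi
    obtain ⟨l, b, hl, hpart, htot⟩ := ih
    have htot' : P.root k = ∑ q, P.root (a ((Fin.snoc b t : Fin (l + 1) → Fin n) q)) := by
      rw [Fin.sum_univ_castSucc]
      simp only [Fin.snoc_castSucc, Fin.snoc_last]
      rw [← htot, hk]
    refine ⟨l + 1, Fin.snoc b t, Nat.succ_pos l, fun p => ?_, htot'⟩
    induction p using Fin.lastCases with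
    | last =>
      refine ⟨k, ?_⟩
      have : Finset.univ.filter (fun q : Fin (l + 1) => q.val ≤ (Fin.last l).val) = Finset.univ := by
        ext q; simp [Fin.le_last, Nat.lt_succ_iff.1 q.isLt]
      rw [this]; exact htot'
    | cast p' =>
      obtain ⟨j', hj'⟩ := hpart p'
      refine ⟨j', ?_⟩
      rw [sum_filter_castSucc]
      simp only [Fin.snoc_castSucc]
      exact hj'

/-- If a root is a positive integer combination of roots α_i, then it can be reached from 0 by
successively adding roots taken among the α_i in such a way that every partial sum is a root. -/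
theorem result {ι M N : Type*} [AddCommGroup M] [AddCommGroup N]
    (P : RootPairing ι ℤ M N) [Finite ι] {n : ℕ} (a : Fin n → ι) (m : Fin n → ℕ)
    (hm : ∀ i, 0 < m i) (k : ι) (hk : P.root k = ∑ i, m i • P.root (a i)) :
    ∃ (l : ℕ) (b : Fin l → Fin n), 0 < l ∧
      (∀ p : Fin l, ∃ j : ι, P.root j = ∑ q ∈ Finset.univ.filter (fun q : Fin l => q.val ≤ p.val), P.root (a (b q))) ∧
      P.root k = ∑ q, P.root (a (b q)) := by
  have hmem : P.root k ∈ RootD.natSpan P (Set.range a) := by
    rw [hk]
    exact sum_mem (fun i _ => AddSubmonoid.nsmul_mem _ (H23.RD.root_mem_natSpan P (Set.mem_range_self i)) _)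
  exact aux P a (H23.RD.reach_of_mem_natSpan P hmem)

end Groth.Agent.S5451
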