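import Groth.Statements.S5458
import Groth.Agent.H23.RootD.PosSys

set_option autoImplicit false
open RootD

namespace Groth.Agent.S5458

/-- Let S be a system of positive roots with simple system Δ ⊆ S and let P' ⊇ S be a closed set of
roots; with Δ' the set of simple roots whose opposite lies in P', the set P' is the union of S and
of the roots that are non-positive integer combinations of Δ'. -/
theorem result {ι M N : Type*} [AddCommGroup M] [AddCommGroup N]
    (P : RootPairing ι ℤ M N) [Finite ι] (S : Set ι) (hS : RootD.IsPosSys P S) (Δ : Set ι)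
    (hΔ : RootD.IsSimpleSys P Δ) (hΔS : Δ ⊆ S) (P' : Set ι) (hcl : RootD.IsClosedSub P P')
    (hSP : S ⊆ P') :
    P' = S ∪ {k : ι | -P.root k ∈ RootD.natSpan P {i : ι | i ∈ Δ ∧ P.reflectionPerm i i ∈ P'}} := by
  have hSpos : S = RootD.posOf P Δ := by
    ext k
    constructor
    · intro hk
      by_contra hkn
      have := (H23.RD.negIdx_mem_posOf_iff hΔ).2 hkn
      have h2 : P.reflectionPerm k k ∈ S :=
        H23.RD.ps_mem_of_root_mem_natSpan hS (H23.RD.natSpan_mono P hΔS this)
      exact hS.disjoint hk h2
    · intro hk
      exact H23.RD.ps_mem_of_root_mem_natSpan hS (H23.RD.natSpan_mono P hΔS hk)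
  ext k
  constructor
  · intro hk
    by_cases hkS : k ∈ S
    · exact Or.inl hkS
    · right
      have hm : P.reflectionPerm k k ∈ S := (hS.cover k).resolve_left hkS
      have hreach : H23.RD.Reach P Δ (P.reflectionPerm k k) :=
        H23.RD.reach_of_mem_natSpan P (by rw [hSpos] at hm; exact hm)
      have key : ∀ m : ι, H23.RD.Reach P Δ m → P.reflectionPerm m m ∈ P' →
          P.root m ∈ RootD.natSpan P {i : ι | i ∈ Δ ∧ P.reflectionPerm i i ∈ P'} := by
        intro m hm
        induction hm with
        | base hi => intro h; exact H23.RD.root_mem_natSpan P ⟨hi, h⟩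
        | @step j i m hj hi hm ih =>
          intro h
          have hjP : P.reflectionPerm j j ∈ P' := by
            refine hcl h (hSP (hΔS hi)) ?_
            rw [H23.RD.root_negIdx, H23.RD.root_negIdx, hm]; abel
          have hjS : j ∈ S := by
            rw [hSpos]; exact hj.mem_natSpan P
          have hiP : P.reflectionPerm i i ∈ P' := by
            refine hcl h (hSP hjS) ?_
            rw [H23.RD.root_negIdx, H23.RD.root_negIdx, hm]; abel
          rw [hm]
          exact add_mem (ih hjP) (H23.RD.root_mem_natSpan P ⟨hi, hiP⟩)
      have := key _ hreach (by rw [H23.RD.negIdx_negIdx]; exact hk)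
      rwa [H23.RD.root_negIdx] at this
  · rintro (hk | hk)
    · exact hSP hk
    · have hneg : ∀ x ∈ RootD.natSpan P {i : ι | i ∈ Δ ∧ P.reflectionPerm i i ∈ P'},
          -x ∈ RootD.natSpan P P' := by
        intro x hx
        induction hx using AddSubmonoid.closure_induction with
        | mem y hy =>
          obtain ⟨i, hi, rfl⟩ := hy
          rw [← H23.RD.root_negIdx]
          exact H23.RD.root_mem_natSpan P hi.2
        | zero => simp
        | add x y _ _ hx hy => rw [neg_add]; exact add_mem hx hy
      have := hneg _ hk
      rw [neg_neg] at this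
      exact (H23.RD.reach_of_mem_natSpan P this).mem_of_closed P hcl

end Groth.Agent.S5458
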