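import Groth.Statements.S5460
import Groth.Agent.H23.RootD.Lex

set_option autoImplicit false
open RootD

namespace Groth.Agent.S5460

/-- A set of roots R' is the trace on R of a vector subspace (every root with a positive multiple in the
span of R' lies in R') if and only if R' is the set of roots in the span of a subset Δ' of some
system of simple roots Δ. -/
theorem result {ι M N : Type*} [AddCommGroup M] [AddCommGroup N]
    (P : RootPairing ι ℤ M N) [Finite ι] (R' : Set ι) :
    (∀ k : ι, (∃ n : ℕ, 0 < n ∧ n • P.root k ∈ Submodule.span ℤ (P.root '' R')) → k ∈ R') ↔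
      ∃ Δ Δ' : Set ι, RootD.IsSimpleSys P Δ ∧ Δ' ⊆ Δ ∧ R' = RootD.inSpan P Δ' := by
  classical
  constructor
  · intro hsat
    obtain ⟨ψ, hψ⟩ := H23.RD.exists_hom_vanishing_exactly (P := P) R' hsat
    obtain ⟨φ2, hφ2⟩ := H23.RD.exists_hom_vanishing_exactly (P := P) (∅ : Set ι) (by
      rintro k ⟨n, hn, hk⟩
      exfalso
      simp only [Set.image_empty, Submodule.span_empty, Submodule.mem_bot] at hk
      have h0 : (n : ℤ) • P.root k = (n : ℤ) • 0 := by rw [natCast_zsmul, hk, smul_zero]
      exact P.ne_zero k (H23.RD.zsmul_inj P (by exact_mod_cast hn.ne') h0))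
    have hφ2' : ∀ k, φ2 (P.root k) ≠ 0 := fun k h => by
      have := (hφ2 k).1 h
      exact this
    obtain ⟨φ, hφ⟩ := H23.RD.exists_lex (P := P) ψ φ2
    have hφ0 : ∀ k, φ (P.root k) ≠ 0 := fun k h => hφ2' k ((hφ k).2.1 h).2
    have hS := H23.RD.isPosSys_of_homQ (P := P) φ hφ0
    set S : Set ι := {i : ι | 0 < φ (P.root i)} with hSdef
    have hψS : ∀ k ∈ S, 0 ≤ ψ (P.root k) := by
      intro k hk
      rcases (hφ k).1.1 hk with h | ⟨h, _⟩
      · exact h.le
      · exact h.ge
    have hΔ := H23.RD.ps_isSimpleSys_simpleOf hS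
    refine ⟨H23.RD.simpleOf P S, H23.RD.simpleOf P S ∩ R', hΔ, Set.inter_subset_left, ?_⟩
    have hpos : ∀ k ∈ S, k ∈ R' → k ∈ RootD.inSpan P (H23.RD.simpleOf P S ∩ R') := by
      intro k hkS hkR
      rw [H23.RD.mem_inSpan_iff hΔ Set.inter_subset_left]
      intro i hi
      exact ⟨H23.RD.coeff_supp hΔ k hi,
        (hψ i).1 (H23.RD.face_supp hS ψ hψS hkS ((hψ k).2 hkR) i hi)⟩
    ext k
    constructor
    · intro hkR
      by_cases hkS : k ∈ S
      · exact hpos k hkS hkR
      · have hnS := (hS.cover k).resolve_left hkS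
        have hnR : P.reflectionPerm k k ∈ R' := by
          rw [← hψ, H23.RD.root_negIdx, map_neg, (hψ k).2 hkR, neg_zero]
        exact H23.RD.negIdx_mem_inSpan_iff.1 (hpos _ hnS hnR)
    · intro hk
      apply hsat
      refine ⟨1, one_pos, ?_⟩
      rw [one_smul]
      exact Submodule.span_mono (Set.image_mono Set.inter_subset_right) hk
  · rintro ⟨Δ, Δ', hΔ, hsub, rfl⟩
    rintro k ⟨n, hn, hk⟩
    rw [H23.RD.mem_inSpan_iff hΔ hsub]
    have hle : Submodule.span ℤ (P.root '' RootD.inSpan P Δ') ≤ Submodule.span ℤ (P.root '' Δ') := by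
      apply Submodule.span_le.2
      rintro _ ⟨i, hi, rfl⟩
      exact hi
    obtain ⟨c, hc, hck⟩ := H23.RD.mem_span_iff_lc.1 (hle hk)
    have hcn : c = (n : ℤ) • H23.RD.coeff hΔ k := by
      apply H23.RD.coeff_unique hΔ (hc.trans hsub)
      · intro i hi
        apply H23.RD.coeff_supp hΔ k
        rw [Finset.mem_coe, Finsupp.mem_support_iff] at hi ⊢
        intro h0
        apply hi
        simp [h0]
      · rw [hck]
        simp only [H23.RD.lc, map_smul]
        rw [show (Finsupp.linearCombination ℤ P.root) (H23.RD.coeff hΔ k) = P.root k from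
          H23.RD.lc_coeff hΔ k, natCast_zsmul]
    intro i hi
    apply hc
    rw [Finset.mem_coe, Finsupp.mem_support_iff] at hi ⊢
    rw [hcn]
    simp only [Finsupp.coe_smul, Pi.smul_apply, smul_eq_mul]
    exact mul_ne_zero (by exact_mod_cast hn.ne') hi

end Groth.Agent.S5460
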