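import Groth.Statements.S5461
import Groth.Agent.H23.RootD.Lex

set_option autoImplicit false
open RootD

namespace Groth.Agent.S5461

/-- If R' is the trace of a vector subspace on the roots, every system of simple roots Δ' of the root
datum with roots R' is contained in a system of simple roots Δ of the whole datum, and R' is the set
of roots in the span of Δ'. -/
theorem result {ι M N : Type*} [AddCommGroup M] [AddCommGroup N]
    (P : RootPairing ι ℤ M N) [Finite ι] (R' : Set ι)
    (hsat : ∀ k : ι, (∃ n : ℕ, 0 < n ∧ n • P.root k ∈ Submodule.span ℤ (P.root '' R')) → k ∈ R')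
    (Δ' : Set ι) (hΔ'R : Δ' ⊆ R') (hli : LinearIndepOn ℤ P.root Δ')
    (hgen : ∀ k ∈ R', P.root k ∈ RootD.natSpan P Δ' ∨ -P.root k ∈ RootD.natSpan P Δ') :
    ∃ Δ : Set ι, RootD.IsSimpleSys P Δ ∧ Δ' ⊆ Δ ∧ R' = RootD.inSpan P Δ' := by
  classical
  obtain ⟨ψ, hψ⟩ := H23.RD.exists_hom_vanishing_exactly (P := P) R' hsat
  obtain ⟨φ', hφ'⟩ := H23.RD.exists_hom_eq_one (P := P) hli
  obtain ⟨φ, hφ⟩ := H23.RD.exists_lex (P := P) ψ φ'
  -- sign of φ' on R'
  have hR'sign : ∀ k ∈ R', (0 < φ' (P.root k) ∧ P.root k ∈ RootD.natSpan P Δ') ∨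
      (φ' (P.root k) < 0 ∧ -P.root k ∈ RootD.natSpan P Δ') := by
    intro k hk
    rcases hgen k hk with h | h
    · exact Or.inl ⟨H23.RD.hom_pos_of_mem_natSpan φ' hφ' h (P.ne_zero k), h⟩
    · right
      have := H23.RD.hom_pos_of_mem_natSpan φ' hφ' h (neg_ne_zero.2 (P.ne_zero k))
      rw [map_neg] at this
      exact ⟨by linarith, h⟩
  have hφ0 : ∀ k, φ (P.root k) ≠ 0 := by
    intro k h
    obtain ⟨h1, h2⟩ := (hφ k).2.1 h
    have hk := (hψ k).1 h1
    rcases hR'sign k hk with ⟨h3, _⟩ | ⟨h3, _⟩ <;> linarith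
  have hS := H23.RD.isPosSys_of_homQ (P := P) φ hφ0
  set S : Set ι := {i : ι | 0 < φ (P.root i)} with hSdef
  have hψS : ∀ k ∈ S, 0 ≤ ψ (P.root k) := by
    intro k hk
    rcases (hφ k).1.1 hk with h | ⟨h, _⟩
    · exact h.le
    · exact h.ge
  have hΔ := H23.RD.ps_isSimpleSys_simpleOf hS
  -- positive roots in the face are natSpan of Δ'
  have hface : ∀ j ∈ S, ψ (P.root j) = 0 → P.root j ∈ RootD.natSpan P Δ' := by
    intro j hj hj0
    have hjR := (hψ j).1 hj0
    rcases hR'sign j hjR with ⟨_, h⟩ | ⟨h3, _⟩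
    · exact h
    · exfalso
      rcases (hφ j).1.1 hj with h | ⟨_, h⟩
      · linarith
      · linarith
  refine ⟨H23.RD.simpleOf P S, hΔ, ?_, ?_⟩
  · intro i hi
    have hiR := hΔ'R hi
    have hi0 := (hψ i).2 hiR
    have hiS : i ∈ S := (hφ i).1.2 (Or.inr ⟨hi0, by rw [hφ' i hi]; exact one_pos⟩)
    apply H23.RD.face_simple ψ hψS hiS hi0
    intro j hj hj0 k hk hk0 h
    obtain ⟨cj, hcj0, hcjS, hcj⟩ := (H23.RD.mem_natSpan_iff P).1 (hface j hj hj0)
    obtain ⟨ck, hck0, hckS, hck⟩ := (H23.RD.mem_natSpan_iff P).1 (hface k hk hk0)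
    have hsingle : H23.RD.lc P (Finsupp.single i 1) = H23.RD.lc P (cj + ck) := by
      simp only [H23.RD.lc, map_add] at hcj hck ⊢
      rw [hcj, hck, ← h]
      simp
    have hsupp1 : (↑(Finsupp.single i (1 : ℤ)).support : Set ι) ⊆ Δ' := by
      intro l hl
      rw [Finset.mem_coe, Finsupp.mem_support_iff, Finsupp.single_apply] at hl
      by_cases hil : i = l
      · rw [← hil]; exact hi
      · simp [hil] at hl
    have hsupp2 : (↑(cj + ck).support : Set ι) ⊆ Δ' := by
      intro l hl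
      rcases Finset.mem_union.1 (Finsupp.support_add hl) with h' | h'
      · exact hcjS h'
      · exact hckS h'
    have heq := H23.RD.lc_inj_of_linearIndepOn hli hsupp1 hsupp2 hsingle
    refine H23.RD.single_eq_add_false hcj0 hck0 ?_ ?_ heq
    · rintro rfl
      apply P.ne_zero j
      rw [← hcj]; simp [H23.RD.lc]
    · rintro rfl
      apply P.ne_zero k
      rw [← hck]; simp [H23.RD.lc]
  · ext k
    constructor
    · intro hk
      have hle : (RootD.natSpan P Δ' : Set M) ⊆ Submodule.span ℤ (P.root '' Δ') := by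
        intro x hx
        have : RootD.natSpan P Δ' ≤ (Submodule.span ℤ (P.root '' Δ')).toAddSubmonoid :=
          AddSubmonoid.closure_le.2 Submodule.subset_span
        exact this hx
      rcases hgen k hk with h | h
      · exact hle h
      · have := hle h
        show P.root k ∈ Submodule.span ℤ (P.root '' Δ')
        simpa using (Submodule.span ℤ (P.root '' Δ')).neg_mem this
    · intro hk
      apply hsat
      refine ⟨1, one_pos, ?_⟩
      rw [one_smul]
      exact Submodule.span_mono (Set.image_mono hΔ'R) hk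

end Groth.Agent.S5461
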