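import Groth.Statements.S5462
import Groth.Agent.H23.RootD.Weyl

set_option autoImplicit false
open RootPairing
open scoped Pointwise
open RootD

namespace Groth.Agent.S5462

/-- For Δ' contained in a system of simple roots Δ, the subgroup of the Weyl group generated by the
reflections in Δ' preserves the set of positive roots not lying in the span of Δ'. -/
theorem result {ι M N : Type*} [AddCommGroup M] [AddCommGroup N]
    (P : RootPairing ι ℤ M N) [Finite ι] (Δ Δ' : Set ι) (hΔ : RootD.IsSimpleSys P Δ) (hsub : Δ' ⊆ Δ)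
    (g : P.Aut) (hg : g ∈ Subgroup.closure ((fun i : ι => Equiv.reflection P i) '' Δ'))
    (k : ι) (hk : k ∈ RootD.posOf P Δ) (hk' : k ∉ RootD.inSpan P Δ') :
    g • k ∈ RootD.posOf P Δ ∧ g • k ∉ RootD.inSpan P Δ' := by
  classical
  have hmem := H23.RD.smul_sub_mem_span_of_mem_closure hg (P.root k)
  obtain ⟨d, hdS, hd⟩ := H23.RD.mem_span_iff_lc.1 hmem
  have hco : H23.RD.coeff hΔ (g • k) = H23.RD.coeff hΔ k + d := by
    apply H23.RD.coeff_eq hΔ
    · intro l hl
      rcases Finset.mem_union.1 (Finsupp.support_add hl) with h | h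
      · exact H23.RD.coeff_supp hΔ k h
      · exact hsub (hdS h)
    · have h1 := H23.RD.lc_coeff hΔ k
      unfold H23.RD.lc at h1 hd ⊢
      rw [map_add, h1, hd, H23.RD.root_smul]
      abel
  rw [H23.RD.mem_inSpan_iff hΔ hsub] at hk'
  obtain ⟨l, hl, hlΔ'⟩ := Set.not_subset.1 hk'
  have hlpos : 0 < H23.RD.coeff hΔ k l :=
    lt_of_le_of_ne ((H23.RD.mem_posOf_iff hΔ).1 hk l) (Ne.symm (Finsupp.mem_support_iff.1 hl))
  have hdl : d l = 0 := by
    by_contra h
    exact hlΔ' (hdS (Finsupp.mem_support_iff.2 h))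
  have hgl : 0 < H23.RD.coeff hΔ (g • k) l := by
    rw [hco, Finsupp.add_apply, hdl, add_zero]; exact hlpos
  constructor
  · by_contra hneg
    have := (H23.RD.not_mem_posOf_iff hΔ).1 hneg l
    linarith
  · rw [H23.RD.mem_inSpan_iff hΔ hsub]
    intro hsupp
    exact hlΔ' (hsupp (Finsupp.mem_support_iff.2 hgl.ne'))

end Groth.Agent.S5462
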