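import Groth.Statements.S5463
import Groth.Agent.H23.RootD.Words

set_option autoImplicit false
open RootPairing
open scoped Pointwise
open RootD

namespace Groth.Agent.S5463

/-- An element w of the Weyl group belongs to the subgroup generated by the reflections in Δ' ⊆ Δ (Δ a
system of simple roots) if and only if w(α) - α lies in the rational span of Δ' for every root α. -/
theorem result {ι M N : Type*} [AddCommGroup M] [AddCommGroup N]
    (P : RootPairing ι ℤ M N) [Finite ι] (Δ Δ' : Set ι) (hΔ : RootD.IsSimpleSys P Δ)
    (hsub : Δ' ⊆ Δ) (g : P.Aut) (hg : g ∈ P.weylGroup) :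
    g ∈ Subgroup.closure ((fun i : ι => Equiv.reflection P i) '' Δ') ↔
      ∀ k : ι, ∃ n : ℕ, 0 < n ∧ n • (P.root (g • k) - P.root k) ∈ Submodule.span ℤ (P.root '' Δ') := by
  classical
  set V : Submodule ℤ M := Submodule.span ℤ (P.root '' Δ') with hV
  constructor
  · intro hgΔ' k
    refine ⟨1, one_pos, ?_⟩
    rw [one_smul, H23.RD.root_smul]
    exact H23.RD.smul_sub_mem_span_of_mem_closure hgΔ' (P.root k)
  · intro hC
    -- closure of the condition under right multiplication by a reflection of Δ'
    have C_mul : ∀ (g : P.Aut) (i : ι), i ∈ Δ' →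
        (∀ k, ∃ n : ℕ, 0 < n ∧ n • (P.root (g • k) - P.root k) ∈ V) →
        (∀ k, ∃ n : ℕ, 0 < n ∧ n • (P.root ((g * Equiv.reflection P i) • k) - P.root k) ∈ V) := by
      intro g i hi hCg k
      obtain ⟨n, hn, h⟩ := hCg (P.reflectionPerm i k)
      refine ⟨n, hn, ?_⟩
      rw [mul_smul, H23.RD.reflection_smul_idx]
      have : P.root (g • P.reflectionPerm i k) - P.root k =
          (P.root (g • P.reflectionPerm i k) - P.root (P.reflectionPerm i k)) +
            (P.root (P.reflectionPerm i k) - P.root k) := by abel
      rw [this, smul_add]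
      apply add_mem h
      apply V.smul_of_tower_mem n
      rw [P.root_reflectionPerm, P.reflection_apply]
      have : P.root k - (P.coroot' i (P.root k)) • P.root i - P.root k =
          (-(P.coroot' i (P.root k))) • P.root i := by module
      rw [this]
      exact Submodule.smul_mem _ _ (Submodule.subset_span ⟨i, hi, rfl⟩)
    have key : ∀ (g : P.Aut) (i : ι), i ∈ Δ → g • i ∉ RootD.posOf P Δ →
        (∃ n : ℕ, 0 < n ∧ n • (P.root (g • i) - P.root i) ∈ V) → i ∈ Δ' := by
      rintro g i hi hneg ⟨n, hn, h⟩
      obtain ⟨d, hdS, hd⟩ := H23.RD.mem_span_iff_lc.1 h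
      set c : ι →₀ ℤ := (n : ℤ) • (H23.RD.coeff hΔ (g • i) - Finsupp.single i 1) with hc
      have hcS : (↑c.support : Set ι) ⊆ Δ := by
        intro l hl
        have h1 := Finsupp.support_smul hl
        rcases Finset.mem_union.1 (Finsupp.support_sub h1) with h2 | h2
        · exact H23.RD.coeff_supp hΔ _ h2
        · have := Finsupp.support_single_subset h2
          rw [Finset.mem_singleton] at this
          rw [this]; exact hi
      have hlc : H23.RD.lc P c = H23.RD.lc P d := by
        rw [hd]
        have h1 := H23.RD.lc_coeff hΔ (g • i)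
        unfold H23.RD.lc at h1 ⊢
        rw [hc, map_smul, map_sub, h1, natCast_zsmul]
        simp
      have hcd : c = d := H23.RD.coeff_unique hΔ hcS (hdS.trans hsub) hlc
      have hci : c i < 0 := by
        have h1 := (H23.RD.not_mem_posOf_iff hΔ).1 hneg i
        rw [hc]
        simp only [Finsupp.coe_smul, Finsupp.coe_sub, Pi.smul_apply, Pi.sub_apply,
          Finsupp.single_eq_same, smul_eq_mul]
        have hn' : (0 : ℤ) < n := by exact_mod_cast hn
        nlinarith
      apply hdS
      rw [Finset.mem_coe, Finsupp.mem_support_iff, ← hcd]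
      exact hci.ne
    have main : ∀ n : ℕ, ∀ L : List ι, L.length = n → (∀ a ∈ L, a ∈ Δ) →
        (∀ k, ∃ n : ℕ, 0 < n ∧ n • (P.root (H23.RD.wprod P L • k) - P.root k) ∈ V) →
        H23.RD.wprod P L ∈ Subgroup.closure ((fun i : ι => Equiv.reflection P i) '' Δ') := by
      intro n
      induction n using Nat.strong_induction_on with
      | _ n ih =>
        intro L hn hL hCL
        rcases List.eq_nil_or_concat L with rfl | ⟨L0, i, hLeq⟩
        · exact one_mem _
        · rw [List.concat_eq_append] at hLeq
          subst hLeq
          have hi : i ∈ Δ := hL i (by simp)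
          have hL0 : ∀ a ∈ L0, a ∈ Δ := fun a ha => hL a (by simp [ha])
          have hw : H23.RD.wprod P (L0 ++ [i]) = H23.RD.wprod P L0 * Equiv.reflection P i := by
            rw [H23.RD.wprod_append]; simp
          have hlen : L0.length < n := by
            simp only [List.length_append, List.length_cons, List.length_nil] at hn
            omega
          by_cases hpos : H23.RD.wprod P (L0 ++ [i]) • i ∈ RootD.posOf P Δ
          · have hneg : H23.RD.wprod P L0 • i ∉ RootD.posOf P Δ := by
              have h2 : H23.RD.wprod P L0 • i =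
                  P.reflectionPerm (H23.RD.wprod P (L0 ++ [i]) • i)
                    (H23.RD.wprod P (L0 ++ [i]) • i) := by
                rw [← H23.RD.smul_negIdx, hw, mul_smul, H23.RD.reflection_smul_idx,
                  P.reflectionPerm_self]
              rw [h2, H23.RD.negIdx_mem_posOf_iff hΔ]
              exact fun h => h hpos
            obtain ⟨L', hL', hlen', heq⟩ := H23.RD.deletion hΔ hi L0 hL0 hneg
            have hwL' : H23.RD.wprod P (L0 ++ [i]) = H23.RD.wprod P L' := by rw [hw, heq]
            rw [hwL']
            apply ih L'.length (by omega) L' rfl hL'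
            rw [← hwL']
            exact hCL
          · have hiΔ' : i ∈ Δ' := key _ i hi hpos (hCL i)
            have hC0 := C_mul _ i hiΔ' hCL
            have hw0 : H23.RD.wprod P (L0 ++ [i]) * Equiv.reflection P i = H23.RD.wprod P L0 := by
              rw [hw, mul_assoc, H23.RD.refl_mul_self, mul_one]
            rw [hw0] at hC0
            have h0 := ih L0.length hlen L0 rfl hL0 hC0
            rw [hw]
            exact mul_mem h0 (Subgroup.subset_closure ⟨i, hiΔ', rfl⟩)
    rw [H23.RD.weylGroup_eq_closure_simple hΔ] at hg
    obtain ⟨L, hL, rfl⟩ := H23.RD.exists_word_of_mem_closure hg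
    exact main _ L rfl hL hC

end Groth.Agent.S5463
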