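import Groth.Statements.S5464
import Groth.Agent.H23.RootD.Rank2

set_option autoImplicit false
open RootD

namespace Groth.Agent.S5464

/-- Given an indivisible root α and a root γ not proportional to it, there is a system of simple roots
containing α and a simple root β of it with γ = aα + bβ, a, b ∈ ℕ. -/
theorem result {ι M N : Type*} [AddCommGroup M] [AddCommGroup N]
    (P : RootPairing ι ℤ M N) [Finite ι] (i k : ι) (hα : RootD.IsIndiv P i)
    (hli : LinearIndependent ℤ ![P.root i, P.root k]) :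
    ∃ Δ : Set ι, RootD.IsSimpleSys P Δ ∧ i ∈ Δ ∧
      ∃ j ∈ Δ, ∃ a b : ℕ, P.root k = a • P.root i + b • P.root j := by
  classical
  set V2 : Submodule ℤ M := Submodule.span ℤ {P.root i, P.root k} with hV2
  set V1 : Submodule ℤ M := Submodule.span ℤ {P.root i} with hV1
  obtain ⟨ψ, hψ⟩ := H23.RD.exists_hom_vanishing_exactly (P := P) _ (H23.RD.ratIn_saturated V2)
  obtain ⟨f1', hf1'⟩ := H23.RD.exists_hom_vanishing_exactly (P := P) _ (H23.RD.ratIn_saturated V1)
  have hpair := LinearIndependent.pair_iff.1 hli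
  have hiV2 : i ∈ H23.RD.ratIn P V2 :=
    ⟨1, one_pos, by rw [one_smul]; exact Submodule.subset_span (by simp)⟩
  have hkV2 : k ∈ H23.RD.ratIn P V2 :=
    ⟨1, one_pos, by rw [one_smul]; exact Submodule.subset_span (by simp)⟩
  have hiV1 : i ∈ H23.RD.ratIn P V1 :=
    ⟨1, one_pos, by rw [one_smul]; exact Submodule.subset_span (by simp)⟩
  have hkV1 : k ∉ H23.RD.ratIn P V1 := by
    rintro ⟨n, hn, h⟩
    obtain ⟨m, hm⟩ := Submodule.mem_span_singleton.1 h
    have := hpair m (-(n : ℤ)) (by rw [hm, neg_smul, natCast_zsmul]; simp)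
    have h2 := this.2
    have : (n : ℤ) = 0 := by linarith
    exact hn.ne' (by exact_mod_cast this)
  obtain ⟨f1, hf1k, hf1⟩ := H23.RD.exists_hom_pos f1' (P.root k) (fun h => hkV1 ((hf1' k).1 h))
  obtain ⟨f2', hf2'⟩ := H23.RD.exists_hom_nonvanishing P
  obtain ⟨f2, hf2i, hf2⟩ := H23.RD.exists_hom_pos f2' (P.root i) (hf2' i)
  obtain ⟨ψ', hψ'⟩ := H23.RD.exists_lex (P := P) ψ f1
  obtain ⟨φ, hφ⟩ := H23.RD.exists_lex (P := P) ψ' f2
  have hφ0 : ∀ l, φ (P.root l) ≠ 0 := by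
    intro l h
    have := ((hφ l).2.1 h).2
    exact hf2' l ((hf2 _).1 this)
  have hS := H23.RD.isPosSys_of_homQ (P := P) φ hφ0
  set S : Set ι := {l : ι | 0 < φ (P.root l)} with hSdef
  have hψ'S : ∀ l ∈ S, 0 ≤ ψ' (P.root l) := by
    intro l hl
    rcases (hφ l).1.1 hl with h | ⟨h, _⟩
    · exact h.le
    · exact h.ge
  have hψS : ∀ l ∈ S, 0 ≤ ψ (P.root l) := by
    intro l hl
    rcases (hψ'S l hl).lt_or_eq with h | h
    · rcases (hψ' l).1.1 h with h' | ⟨h', _⟩
      · exact h'.le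
      · exact h'.ge
    · exact ((hψ' l).2.1 h.symm).1.ge
  have hΔ := H23.RD.ps_isSimpleSys_simpleOf hS
  have hψi : ψ (P.root i) = 0 := (hψ i).2 hiV2
  have hψk : ψ (P.root k) = 0 := (hψ k).2 hkV2
  have hf1i : f1 (P.root i) = 0 := (hf1 _).2 ((hf1' i).2 hiV1)
  have hψ'i : ψ' (P.root i) = 0 := (hψ' i).2.2 ⟨hψi, hf1i⟩
  have hiS : i ∈ S := (hφ i).1.2 (Or.inr ⟨hψ'i, hf2i⟩)
  have hkS : k ∈ S := (hφ k).1.2 (Or.inl ((hψ' k).1.2 (Or.inr ⟨hψk, hf1k⟩)))
  -- positive roots proportional to α are α or 2α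
  have hprop : ∀ j ∈ S, ψ' (P.root j) = 0 → P.root j = P.root i ∨ P.root j = (2 : ℤ) • P.root i := by
    intro j hj hj0
    have hjV1 : j ∈ H23.RD.ratIn P V1 := (hf1' j).1 ((hf1 _).1 ((hψ' j).2.1 hj0).2)
    obtain ⟨t, ht, hjt⟩ := H23.RD.root_eq_zsmul_of_indiv hα hjV1
    have hf2j : 0 < f2 (P.root j) := by
      rcases (hφ j).1.1 hj with h | ⟨_, h⟩
      · exact absurd hj0 h.ne'
      · exact h
    rw [hjt, map_zsmul, zsmul_eq_mul] at hf2j
    have htpos : 0 < (t : ℚ) := by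
      by_contra hneg
      push Not at hneg
      nlinarith
    have htpos' : 0 < t := by exact_mod_cast htpos
    rcases ht with rfl | rfl | rfl | rfl
    · left; rw [hjt, one_smul]
    · omega
    · right; exact hjt
    · omega
  have hiΔ : i ∈ H23.RD.simpleOf P S := by
    apply H23.RD.face_simple ψ' hψ'S hiS hψ'i
    intro j hj hj0 l hl hl0 h
    have key : ∀ s : ℤ, 0 < s → s • P.root i ≠ 0 := by
      intro s hs h0
      have : s • P.root i = s • 0 := by rw [h0, smul_zero]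
      exact P.ne_zero i (H23.RD.zsmul_inj P hs.ne' this)
    rcases hprop j hj hj0 with h1 | h1 <;> rcases hprop l hl hl0 with h2 | h2
    · apply key 1 one_pos
      rw [h1, h2] at h
      rw [one_smul]
      exact (left_eq_add.1 h)
    · apply key 2 (by norm_num)
      rw [h1, h2] at h
      exact (left_eq_add.1 h)
    · apply key 2 (by norm_num)
      rw [h1, h2, add_comm] at h
      exact (left_eq_add.1 h)
    · apply key 3 (by norm_num)
      rw [h1, h2] at h
      have : (3 : ℤ) • P.root i = ((2 : ℤ) • P.root i + (2 : ℤ) • P.root i) - P.root i := by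
        module
      rw [this, ← h, sub_self]
  refine ⟨H23.RD.simpleOf P S, hΔ, hiΔ, ?_⟩
  have hsuppface : ∀ l ∈ (H23.RD.coeff hΔ k).support, l ∈ H23.RD.simpleOf P S ∧
      l ∈ H23.RD.ratIn P V2 := fun l hl =>
    ⟨H23.RD.coeff_supp hΔ k hl, (hψ l).1 (H23.RD.face_supp hS ψ hψS hkS hψk l hl)⟩
  obtain ⟨j, hji, hj⟩ := H23.RD.exists_coeff_ne_of_linearIndependent hΔ
    (LinearIndependent.pair_symm_iff.1 hli)
  have hjsupp : j ∈ (H23.RD.coeff hΔ k).support := Finsupp.mem_support_iff.2 hj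
  have hjΔ := (hsuppface j hjsupp).1
  refine ⟨j, hjΔ, ?_⟩
  have hsub : (H23.RD.coeff hΔ k).support ⊆ {i, j} := by
    intro l hl
    rw [Finset.mem_insert, Finset.mem_singleton]
    by_contra hcon
    push Not at hcon
    exact H23.RD.rank2_false hΔ.linInd (P.root i) (P.root k) hiΔ hjΔ (hsuppface l hl).1
      (Ne.symm hji) (Ne.symm hcon.1) (Ne.symm hcon.2) hiV2 (hsuppface j hjsupp).2 (hsuppface l hl).2
  have hpos : ∀ l, 0 ≤ H23.RD.coeff hΔ k l :=
    (H23.RD.mem_posOf_iff hΔ).1 (by rw [H23.RD.ps_posOf_simpleOf hS]; exact hkS)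
  refine ⟨(H23.RD.coeff hΔ k i).toNat, (H23.RD.coeff hΔ k j).toNat, ?_⟩
  have hsum : P.root k = ∑ l ∈ ({i, j} : Finset ι), H23.RD.coeff hΔ k l • P.root l := by
    conv_lhs => rw [← H23.RD.lc_coeff hΔ k]
    simp only [H23.RD.lc, Finsupp.linearCombination_apply, Finsupp.sum]
    apply Finset.sum_subset hsub
    intro l _ hl
    rw [Finsupp.notMem_support_iff.1 hl, zero_smul]
  rw [Finset.sum_pair (Ne.symm hji)] at hsum
  rw [hsum, ← natCast_zsmul, ← natCast_zsmul, Int.toNat_of_nonneg (hpos i),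
    Int.toNat_of_nonneg (hpos j)]

end Groth.Agent.S5464
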