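import Groth.Statements.S5465
import Groth.Agent.H23.RootD.Indiv

set_option autoImplicit false
open RootD

namespace Groth.Agent.S5465

/-- A map from the roots to an abelian group that is odd and additive on pairs of roots whose sum is a
root extends uniquely to a homomorphism on the lattice generated by the roots. -/
theorem result {ι M N : Type*} [AddCommGroup M] [AddCommGroup N]
    (P : RootPairing ι ℤ M N) [Finite ι] {G : Type*} [AddCommGroup G] (f : ι → G)
    (hneg : ∀ i : ι, f (P.reflectionPerm i i) = -f i)
    (hadd : ∀ i j k : ι, P.root k = P.root i + P.root j → f k = f i + f j) :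
    ∃! φ : Submodule.span ℤ (Set.range P.root) →+ G,
      ∀ i : ι, φ ⟨P.root i, Submodule.subset_span (Set.mem_range_self i)⟩ = f i := by
  classical
  obtain ⟨S, hS⟩ := H23.RD.exists_isPosSys P
  set Δ := H23.RD.simpleOf P S with hΔdef
  have hΔ : RootD.IsSimpleSys P Δ := H23.RD.ps_isSimpleSys_simpleOf hS
  set Q : Submodule ℤ M := Submodule.span ℤ (Set.range P.root) with hQ
  have hex : ∀ x : Q, ∃ c : ι →₀ ℤ, (↑c.support : Set ι) ⊆ Δ ∧ H23.RD.lc P c = x.1 := fun x =>
    H23.RD.mem_span_iff_lc.1 (by rw [H23.RD.span_simple_eq hΔ]; exact x.2)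
  choose C hCS hC using hex
  have hCadd : ∀ x y, C (x + y) = C x + C y := by
    intro x y
    apply H23.RD.coeff_unique hΔ (hCS _)
    · intro l hl
      rcases Finset.mem_union.1 (Finsupp.support_add hl) with h | h
      · exact hCS x h
      · exact hCS y h
    · rw [hC]
      have h1 := hC x
      have h2 := hC y
      unfold H23.RD.lc at h1 h2 ⊢
      rw [map_add, h1, h2]
      rfl
  let φ : Q →+ G := AddMonoidHom.mk' (fun x => Finsupp.linearCombination ℤ f (C x))
    (by intro x y; simp only [hCadd, map_add])
  have hCroot : ∀ k : ι, C ⟨P.root k, Submodule.subset_span (Set.mem_range_self k)⟩ =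
      H23.RD.coeff hΔ k := by
    intro k
    exact (H23.RD.coeff_eq hΔ (hCS _) (hC _)).symm
  -- the key computation on positive roots
  have hreach : ∀ k : ι, H23.RD.Reach P Δ k →
      Finsupp.linearCombination ℤ f (H23.RD.coeff hΔ k) = f k := by
    intro k hk
    induction hk with
    | base hi =>
      rw [H23.RD.coeff_simple hΔ hi]
      simp
    | step hj hi hk ih =>
      rename_i j i k
      have hco : H23.RD.coeff hΔ k = H23.RD.coeff hΔ j + Finsupp.single i 1 := by
        apply H23.RD.coeff_eq hΔ
        · intro l hl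
          rcases Finset.mem_union.1 (Finsupp.support_add hl) with h | h
          · exact H23.RD.coeff_supp hΔ j h
          · have := Finsupp.support_single_subset h
            rw [Finset.mem_singleton] at this
            rw [this]; exact hi
        · have h1 := H23.RD.lc_coeff hΔ j
          unfold H23.RD.lc at h1 ⊢
          rw [map_add, h1, hk]
          simp
      rw [hco, map_add, ih, hadd j i k hk]
      simp
  have hall : ∀ k : ι, Finsupp.linearCombination ℤ f (H23.RD.coeff hΔ k) = f k := by
    intro k
    by_cases hk : k ∈ RootD.posOf P Δ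
    · exact hreach k (H23.RD.reach_of_mem_natSpan P hk)
    · have hk' := (H23.RD.negIdx_mem_posOf_iff hΔ).2 hk
      have h1 := hreach _ (H23.RD.reach_of_mem_natSpan P hk')
      rw [H23.RD.coeff_negIdx, map_neg, hneg] at h1
      exact neg_injective h1
  refine ⟨φ, fun i => ?_, fun φ' hφ' => ?_⟩
  · show Finsupp.linearCombination ℤ f (C _) = f i
    rw [hCroot, hall]
  · ext ⟨x, hx⟩
    induction hx using Submodule.span_induction with
    | mem y hy =>
      obtain ⟨i, rfl⟩ := hy
      rw [hφ' i]
      show f i = Finsupp.linearCombination ℤ f (C _)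
      rw [hCroot, hall]
    | zero =>
      have : (⟨0, Q.zero_mem⟩ : Q) = 0 := rfl
      rw [this, map_zero, map_zero]
    | add y z hy hz ihy ihz =>
      have : (⟨y + z, Q.add_mem hy hz⟩ : Q) = ⟨y, hy⟩ + ⟨z, hz⟩ := rfl
      rw [this, map_add, map_add, ihy, ihz]
    | smul a y hy ih =>
      have : (⟨a • y, Q.smul_mem a hy⟩ : Q) = a • ⟨y, hy⟩ := rfl
      rw [this, map_zsmul, map_zsmul, ih]

end Groth.Agent.S5465
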