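import Groth.Statements.S5468
import Groth.Agent.H23.RootD.Basic

set_option autoImplicit false
open RootD

namespace Groth.Agent.S5468

/-- Two roots whose reflections are distinct and commute are orthogonal. -/
theorem result {ι M N : Type*} [AddCommGroup M] [AddCommGroup N]
    (P : RootPairing ι ℤ M N) [Finite ι] (i j : ι)
    (hne : P.reflection i ≠ P.reflection j) (hc : Commute (P.reflection i) (P.reflection j)) :
    P.IsOrthogonal i j := by
  suffices ha : P.pairing j i = 0 from ⟨(H23.RD.pairing_zero_iff P).1 ha, ha⟩
  by_contra ha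
  have h := congrArg (fun f : M ≃ₗ[ℤ] M => f (P.root j)) hc.eq
  simp only [LinearEquiv.mul_apply, P.reflection_apply_root, map_sub,
    map_smul, P.pairing_same] at h
  have key : P.pairing j i • ((2 : ℤ) • P.root i) = P.pairing j i • (P.pairing i j • P.root j) := by
    linear_combination (norm := module) h
  have key' : (2 : ℤ) • P.root i = P.pairing i j • P.root j := H23.RD.zsmul_inj P ha key
  have h4 : P.pairing i j * P.pairing j i = 4 := by
    have := congrArg (P.coroot' i) key'
    simp only [map_smul, P.root_coroot'_eq_pairing, P.pairing_same, smul_eq_mul] at this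
    linarith
  have hd : P.pairing i j ∣ 4 := ⟨_, h4.symm⟩
  have hle := Int.le_of_dvd (by norm_num) hd
  have hle' := Int.le_of_dvd (by norm_num) ((neg_dvd).2 hd)
  have hcases : P.pairing i j = 1 ∨ P.pairing i j = -1 ∨ P.pairing i j = 2 ∨ P.pairing i j = -2 ∨
      P.pairing i j = 4 ∨ P.pairing i j = -4 := by
    have h0 : P.pairing i j ≠ 0 := by intro h0; rw [h0] at h4; simp at h4
    have h3 : P.pairing i j ≠ 3 := by intro h0; rw [h0] at h4; omega
    have h3' : P.pairing i j ≠ -3 := by intro h0; rw [h0] at h4; omega
    omega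
  apply hne
  rcases hcases with hp | hp | hp | hp | hp | hp
  · -- root j = 2 • root i
    rw [hp, one_smul] at key'
    exact (H23.RD.reflection_eq_of_root_eq_zsmul P (t := 2) key'.symm).symm
  · rw [hp] at key'
    have : P.root j = (-2 : ℤ) • P.root i := by
      have h' : (-1 : ℤ) • P.root j = (2 : ℤ) • P.root i := key'.symm
      calc P.root j = (-1 : ℤ) • ((-1 : ℤ) • P.root j) := by simp
        _ = (-1 : ℤ) • ((2 : ℤ) • P.root i) := by rw [h']
        _ = (-2 : ℤ) • P.root i := by rw [smul_smul]; norm_num
    exact (H23.RD.reflection_eq_of_root_eq_zsmul P this).symm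
  · rw [hp] at key'
    have : P.root j = (1 : ℤ) • P.root i := by
      rw [one_smul]; exact (H23.RD.zsmul_inj P (by norm_num) key').symm
    exact (H23.RD.reflection_eq_of_root_eq_zsmul P this).symm
  · rw [hp] at key'
    have : P.root j = (-1 : ℤ) • P.root i := by
      have h' : (2 : ℤ) • P.root i = (2 : ℤ) • ((-1 : ℤ) • P.root j) := by
        rw [key', smul_smul]; norm_num
      have := H23.RD.zsmul_inj P (by norm_num) h'
      rw [this, smul_smul]; norm_num
    exact (H23.RD.reflection_eq_of_root_eq_zsmul P this).symm
  · rw [hp] at key'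
    have : P.root i = (2 : ℤ) • P.root j := by
      have h' : (2 : ℤ) • P.root i = (2 : ℤ) • ((2 : ℤ) • P.root j) := by
        rw [key', smul_smul]; norm_num
      exact H23.RD.zsmul_inj P (by norm_num) h'
    exact H23.RD.reflection_eq_of_root_eq_zsmul P this
  · rw [hp] at key'
    have : P.root i = (-2 : ℤ) • P.root j := by
      have h' : (2 : ℤ) • P.root i = (2 : ℤ) • ((-2 : ℤ) • P.root j) := by
        rw [key', smul_smul]; norm_num
      exact H23.RD.zsmul_inj P (by norm_num) h'
    exact H23.RD.reflection_eq_of_root_eq_zsmul P this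

end Groth.Agent.S5468
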