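import Groth.Statements.S5469
import Groth.Agent.H23.RootD.Words

set_option autoImplicit false
open RootPairing
open scoped Pointwise
open RootD

namespace Groth.Agent.S5469

/-- Two non-orthogonal roots of equal length (for the canonical form ℓ(x) = Σ_{u ∈ R^v} (u, x)²) are
conjugate under the Weyl group. -/
theorem result {ι M N : Type*} [AddCommGroup M] [AddCommGroup N]
    (P : RootPairing ι ℤ M N) [Finite ι] [Fintype ι] (i j : ι) (hno : ¬ P.IsOrthogonal i j)
    (hl : P.RootForm (P.root i) (P.root i) = P.RootForm (P.root j) (P.root j)) :
    ∃ g : P.Aut, g ∈ P.weylGroup ∧ g • i = j := by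
  classical
  have hb := H23.RD.rootForm_root_pos P i
  have h1 := H23.RD.two_mul_rootForm P i j
  have h2 := H23.RD.two_mul_rootForm P j i
  have hsymm := H23.RD.rootForm_comm P (P.root i) (P.root j)
  rw [← hl] at h1
  have hp : P.pairing i j = P.pairing j i := by
    have : P.pairing i j * P.RootForm (P.root i) (P.root i) =
        P.pairing j i * P.RootForm (P.root i) (P.root i) := by rw [← h1, ← h2, hsymm]
    exact mul_right_cancel₀ hb.ne' this
  have hp0 : P.pairing i j ≠ 0 := by
    intro h0
    exact hno ⟨h0, hp ▸ h0⟩
  have hminus : P.RootForm (P.root i - P.root j) (P.root i - P.root j) * 2 =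
      (2 - P.pairing i j) * P.RootForm (P.root i) (P.root i) * 2 := by
    simp only [map_sub, LinearMap.sub_apply]
    rw [← hl]
    linear_combination (-1 : ℤ) * h1 - h2 + P.RootForm (P.root i) (P.root i) * hp
  have hplus : P.RootForm (P.root i + P.root j) (P.root i + P.root j) * 2 =
      (2 + P.pairing i j) * P.RootForm (P.root i) (P.root i) * 2 := by
    simp only [map_add, LinearMap.add_apply]
    rw [← hl]
    linear_combination h1 + h2 - P.RootForm (P.root i) (P.root i) * hp
  have hnn1 := (P.rootForm_self_sum_of_squares (P.root i - P.root j)).nonneg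
  have hnn2 := (P.rootForm_self_sum_of_squares (P.root i + P.root j)).nonneg
  have hle : P.pairing i j ≤ 2 := by
    by_contra hcon
    push Not at hcon
    nlinarith
  have hge : -2 ≤ P.pairing i j := by
    by_contra hcon
    push Not at hcon
    nlinarith
  have hsmul : ∀ (g : P.Aut), g • P.root i = P.root j → g • i = j := by
    intro g hgr
    apply P.root.injective
    rw [H23.RD.root_smul, hgr]
  have hcases : P.pairing i j = 2 ∨ P.pairing i j = 1 ∨ P.pairing i j = -1 ∨ P.pairing i j = -2 := by
    omega
  rcases hcases with hq | hq | hq | hq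
  · refine ⟨1, one_mem _, ?_⟩
    apply hsmul
    rw [one_smul]
    have hz : P.RootForm (P.root i - P.root j) (P.root i - P.root j) = 0 := by
      rw [hq] at hminus; linarith
    by_contra hne
    have hne' : P.root i - P.root j ≠ 0 := sub_ne_zero.2 hne
    have := P.rootForm_pos_of_ne_zero
      (sub_mem (H23.RD.root_mem_rootSpan P i) (H23.RD.root_mem_rootSpan P j)) hne'
    linarith
  · refine ⟨Equiv.reflection P j * Equiv.reflection P i * Equiv.reflection P j,
      mul_mem (mul_mem (P.reflection_mem_weylGroup j) (P.reflection_mem_weylGroup i))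
        (P.reflection_mem_weylGroup j), ?_⟩
    apply hsmul
    rw [mul_smul, mul_smul]
    simp only [Equiv.reflection_smul, P.reflection_apply, map_sub, map_smul,
      P.root_coroot'_eq_pairing, P.pairing_same, ← hp, hq, smul_eq_mul]
    module
  · refine ⟨Equiv.reflection P i * Equiv.reflection P j,
      mul_mem (P.reflection_mem_weylGroup i) (P.reflection_mem_weylGroup j), ?_⟩
    apply hsmul
    rw [mul_smul]
    simp only [Equiv.reflection_smul, P.reflection_apply, map_sub, map_smul,
      P.root_coroot'_eq_pairing, P.pairing_same, ← hp, hq, smul_eq_mul]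
    module
  · refine ⟨Equiv.reflection P i, P.reflection_mem_weylGroup i, ?_⟩
    apply hsmul
    simp only [Equiv.reflection_smul, P.reflection_apply, map_sub, map_smul,
      P.root_coroot'_eq_pairing, P.pairing_same, smul_eq_mul]
    have hz : P.RootForm (P.root i + P.root j) (P.root i + P.root j) = 0 := by
      rw [hq] at hplus; linarith
    have h0 : P.root i + P.root j = 0 := by
      by_contra hne
      have := P.rootForm_pos_of_ne_zero
        (add_mem (H23.RD.root_mem_rootSpan P i) (H23.RD.root_mem_rootSpan P j)) hne
      linarith
    have : P.root j = -P.root i := by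
      linear_combination (norm := module) h0
    rw [this]
    module

end Groth.Agent.S5469
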