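import Groth.Statements.S5471
import Groth.Agent.H23.RootD.Irred

set_option autoImplicit false
open RootPairing
open scoped Pointwise
open RootD

namespace Groth.Agent.S5471

/-- In a reduced irreducible root datum the ratios of squared root lengths to the minimal one form one
of the sets {1}, {1, 2}, {1, 3}. -/
theorem result {ι M N : Type*} [AddCommGroup M] [AddCommGroup N]
    (P : RootPairing ι ℤ M N) [Finite ι] [Fintype ι] [Nonempty ι] [P.IsReduced]
    (hirr : ∀ R' : Set ι, RootD.IsClosedSub P R' → RootD.IsSymmSub P R' → RootD.IsClosedSub P R'ᶜ →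
      RootD.IsSymmSub P R'ᶜ → R' = ∅ ∨ R' = Set.univ)
    (i₀ : ι) (hmin : ∀ i : ι, P.RootForm (P.root i₀) (P.root i₀) ≤ P.RootForm (P.root i) (P.root i)) :
    (∀ i : ι, P.RootForm (P.root i) (P.root i) = P.RootForm (P.root i₀) (P.root i₀) ∨
        P.RootForm (P.root i) (P.root i) = 2 * P.RootForm (P.root i₀) (P.root i₀) ∨
        P.RootForm (P.root i) (P.root i) = 3 * P.RootForm (P.root i₀) (P.root i₀)) ∧
      ¬ ((∃ i : ι, P.RootForm (P.root i) (P.root i) = 2 * P.RootForm (P.root i₀) (P.root i₀)) ∧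
          ∃ j : ι, P.RootForm (P.root j) (P.root j) = 3 * P.RootForm (P.root i₀) (P.root i₀)) := by
  classical
  have hratio : ∀ i j : ι,
      P.RootForm (P.root i) (P.root i) = P.RootForm (P.root j) (P.root j) ∨
      P.RootForm (P.root i) (P.root i) = 2 * P.RootForm (P.root j) (P.root j) ∨
      2 * P.RootForm (P.root i) (P.root i) = P.RootForm (P.root j) (P.root j) ∨
      P.RootForm (P.root i) (P.root i) = 3 * P.RootForm (P.root j) (P.root j) ∨
      3 * P.RootForm (P.root i) (P.root i) = P.RootForm (P.root j) (P.root j) := by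
    intro i j
    obtain ⟨w, hw, hno⟩ := H23.RD.exists_weyl_not_orth (P := P) hirr i j
    have hB := H23.RD.rootForm_root_smul (P := P) w i
    have hp := H23.RD.pairing_mul_rootForm (P := P) (w • i) j
    rw [hB] at hp
    have hne := H23.RD.not_orth_iff.1 hno
    have hmem := P.pairingIn_pairingIn_mem_set_of_isCrystal_of_isRed (w • i) j
    rw [H23.RD.pairingIn_int, H23.RD.pairingIn_int] at hmem
    simp only [Set.mem_insert_iff, Set.mem_singleton_iff, Prod.mk.injEq] at hmem
    rcases hmem with ⟨h1, h2⟩ | ⟨h1, h2⟩ | ⟨h1, h2⟩ | ⟨h1, h2⟩ | ⟨h1, h2⟩ | ⟨h1, h2⟩ | ⟨h1, h2⟩ |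
      ⟨h1, h2⟩ | ⟨h1, h2⟩ | ⟨h1, h2⟩ | ⟨h1, h2⟩ | ⟨h1, h2⟩ | ⟨h1, h2⟩ <;>
    rw [h1, h2] at hp <;> omega
  have hb := H23.RD.rootForm_root_pos P i₀
  constructor
  · intro i
    have h1 := hratio i i₀
    have h2 := hmin i
    omega
  · rintro ⟨⟨i, hi⟩, ⟨j, hj⟩⟩
    have h1 := hratio i j
    omega

end Groth.Agent.S5471
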