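import Groth.Statements.S5472
import Groth.Agent.H23.RootD.Dominant

set_option autoImplicit false
open RootPairing
open scoped Pointwise
open RootD

namespace Groth.Agent.S5472

/-- Let Δ be a system of simple roots (root-only sense), γ a positive root and α, β simple roots with
(γ, α^v) > 0 and (γ, β^v) ≥ 0 (equivalently: the order of s_α(γ) along Δ is smaller than that of γ,
and the order of s_β(γ) is at most that of γ). Then for every w in the group generated by s_α and
s_β the order of w(γ) along Δ is at most that of γ, and strictly smaller unless w ∈ {1, s_β}. The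
order is the sum of the coefficients along Δ; the conclusion is stated for the coefficient vector c
of γ - w(γ) along Δ: its coefficient sum is ≥ 0, and > 0 unless w = 1 or w = s_β. -/
theorem result {ι M N : Type*} [AddCommGroup M] [AddCommGroup N]
    (P : RootPairing ι ℤ M N) [Finite ι] (Δ : Set ι) (hΔ : RootD.IsSimpleSys P Δ)
    (k i j : ι) (hk : k ∈ RootD.posOf P Δ) (hi : i ∈ Δ) (hj : j ∈ Δ)
    (hα : 0 < P.pairing k i) (hβ : 0 ≤ P.pairing k j)
    (g : P.Aut) (hg : g ∈ Subgroup.closure {Equiv.reflection P i, Equiv.reflection P j})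
    (c : ι →₀ ℤ) (hc : ↑c.support ⊆ Δ)
    (hck : Finsupp.linearCombination ℤ P.root c = P.root k - P.root (g • k)) :
    0 ≤ c.sum (fun _ a => a) ∧ (g ≠ 1 → g ≠ Equiv.reflection P j → 0 < c.sum (fun _ a => a)) := by
  classical
  set T : Set ι := {i, j} with hT
  have hTsub : T ⊆ Δ := by
    intro l hl
    rcases hl with rfl | rfl
    · exact hi
    · exact hj
  have hdom : ∀ l ∈ T, 0 ≤ P.coroot' l (P.root k) := by
    intro l hl
    rw [P.root_coroot'_eq_pairing]
    rcases hl with rfl | rfl
    · exact hα.le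
    · exact hβ
  have hg' : g ∈ Subgroup.closure ((fun i : ι => Equiv.reflection P i) '' T) := by
    rw [hT, Set.image_pair]; exact hg
  obtain ⟨L, hL, rfl⟩ := H23.RD.exists_word_of_mem_closure hg'
  obtain ⟨d, hd0, hdS, hdlc, hdz⟩ := H23.RD.dominance hΔ hTsub (P.root k) hdom _ L rfl hL
  have hcd : c = d := by
    apply H23.RD.coeff_unique hΔ hc (hdS.trans hTsub)
    rw [hdlc, ← H23.RD.root_smul]
    exact hck
  rw [hcd]
  have hsum0 : 0 ≤ d.sum (fun _ a => a) := Finset.sum_nonneg (fun l _ => hd0 l)
  refine ⟨hsum0, fun h1 hj' => ?_⟩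
  by_contra hnot
  have hsumz : d.sum (fun _ a => a) = 0 := le_antisymm (not_lt.1 hnot) hsum0
  have hdzero : d = 0 := by
    ext l
    by_cases hl : l ∈ d.support
    · exact (Finset.sum_eq_zero_iff_of_nonneg (fun l _ => hd0 l)).1 hsumz l hl
    · exact Finsupp.notMem_support_iff.1 hl
  have hmem := hdz hdzero
  have hsub : {l | l ∈ T ∧ P.coroot' l (P.root k) = 0} ⊆ ({j} : Set ι) := by
    rintro l ⟨hl, hl0⟩
    rw [P.root_coroot'_eq_pairing] at hl0
    rcases hl with rfl | rfl
    · exact absurd hl0 hα.ne'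
    · rfl
  have hmem' := Subgroup.closure_mono (Set.image_mono hsub) hmem
  rw [Set.image_singleton, Subgroup.mem_closure_singleton] at hmem'
  obtain ⟨n, hn⟩ := hmem'
  have h2 : (Equiv.reflection P j) ^ (2 : ℤ) = 1 := by
    rw [zpow_two]; exact H23.RD.refl_mul_self j
  rcases Int.even_or_odd' n with ⟨m, rfl | rfl⟩
  · apply h1
    rw [← hn, zpow_mul, h2, one_zpow]
  · apply hj'
    rw [← hn, zpow_add, zpow_mul, h2, one_zpow, one_mul, zpow_one]

end Groth.Agent.S5472
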