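import Groth.Statements.S5473
import Groth.Agent.H23.RootD.Basic

set_option autoImplicit false
open RootD

namespace Groth.Agent.S5473

/-- If a linear map f and its transpose g induce bijections from the roots of R' onto the roots of R and
from the coroots of R onto the coroots of R' respectively (a morphism of root data in the
two-bijection sense), then the two bijections correspond: the coroot of α' is g applied to the
coroot of f(α'). -/
theorem result {ι M N ι' M' N' : Type*} [AddCommGroup M] [AddCommGroup N] [AddCommGroup M'] [AddCommGroup N']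
    (P : RootPairing ι ℤ M N) (P' : RootPairing ι' ℤ M' N') [Finite ι] [Finite ι']
    (f : M' →ₗ[ℤ] M) (g : N →ₗ[ℤ] N') (hfg : ∀ (m' : M') (n : N), P.toLinearMap (f m') n = P'.toLinearMap m' (g n))
    (e : ι' ≃ ι) (he : ∀ i' : ι', f (P'.root i') = P.root (e i'))
    (e' : ι ≃ ι') (he' : ∀ i : ι, g (P.coroot i) = P'.coroot (e' i)) :
    ∀ i' : ι', g (P.coroot (e i')) = P'.coroot i' := by
  classical
  have := Fintype.ofFinite ι'
  have hA : ∀ (k' : ι') (i : ι), P'.pairing k' (e' i) = P.pairing (e k') i := by
    intro k' i
    have := hfg (P'.root k') (P.coroot i)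
    rw [he, he'] at this
    simpa using this.symm
  set σ : ι' ≃ ι' := e.trans e' with hσ
  have h2 : ∀ i' : ι', P'.pairing i' (σ i') = 2 := by
    intro i'
    show P'.pairing i' (e' (e i')) = 2
    rw [hA, P.pairing_same]
  have hB : ∀ a : ι', 0 < P'.RootForm (P'.root a) (P'.root a) := H23.RD.rootForm_root_pos P'
  have hrel : ∀ i' : ι', 2 * P'.RootForm (P'.root (σ i')) (P'.root (σ i')) =
      P'.pairing (σ i') i' * P'.RootForm (P'.root i') (P'.root i') := by
    intro i'
    have h1 := H23.RD.two_mul_rootForm P' i' (σ i')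
    have h3 := H23.RD.two_mul_rootForm P' (σ i') i'
    have h4 := H23.RD.rootForm_comm P' (P'.root i') (P'.root (σ i'))
    rw [h2] at h1
    linarith
  have hle2 : ∀ i' : ι', P'.pairing (σ i') i' ≤ 2 := by
    intro i'
    have h := P'.coxeterWeightIn_le_four ℤ i' (σ i')
    unfold RootPairing.coxeterWeightIn at h
    rw [H23.RD.pairingIn_int, H23.RD.pairingIn_int, h2] at h
    linarith
  have hle : ∀ i' ∈ (Finset.univ : Finset ι'), P'.RootForm (P'.root (σ i')) (P'.root (σ i')) ≤
      P'.RootForm (P'.root i') (P'.root i') := by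
    intro i' _
    have h1 := hrel i'
    have h3 := hle2 i'
    have h4 := hB i'
    nlinarith
  have hsum : ∑ i', P'.RootForm (P'.root (σ i')) (P'.root (σ i')) =
      ∑ i', P'.RootForm (P'.root i') (P'.root i') :=
    Equiv.sum_comp σ (fun i' => P'.RootForm (P'.root i') (P'.root i'))
  have heq := (Finset.sum_eq_sum_iff_of_le hle).1 hsum
  intro i'
  have hlen := heq i' (Finset.mem_univ i')
  have hfix : σ i' = i' := by
    apply P'.root.injective
    have h1 := H23.RD.two_mul_rootForm P' i' (σ i')
    rw [h2] at h1
    have h4 := H23.RD.rootForm_comm P' (P'.root i') (P'.root (σ i'))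
    have hz : P'.RootForm (P'.root (σ i') - P'.root i') (P'.root (σ i') - P'.root i') = 0 := by
      simp only [map_sub, LinearMap.sub_apply]
      linarith
    by_contra hne
    have hne' : P'.root (σ i') - P'.root i' ≠ 0 := sub_ne_zero.2 hne
    have := P'.rootForm_pos_of_ne_zero
      (sub_mem (H23.RD.root_mem_rootSpan P' (σ i')) (H23.RD.root_mem_rootSpan P' i')) hne'
    linarith
  have : e' (e i') = i' := hfix
  rw [he', this]

end Groth.Agent.S5473
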