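import Groth.Statements.S5474
import Groth.Agent.H23.RootD.Rank
import Mathlib.LinearAlgebra.FreeModule.Finite.Quotient

set_option autoImplicit false
open RootD

namespace Groth.Agent.S5474

/-- Every morphism between semisimple root data is an isogeny (injective on weight lattices with finite
cokernel). -/
theorem result {ι M N ι' M' N' : Type*} [AddCommGroup M] [AddCommGroup N] [AddCommGroup M'] [AddCommGroup N']
    (P : RootPairing ι ℤ M N) (P' : RootPairing ι' ℤ M' N') [Finite ι] [Finite ι']
    [Module.Finite ℤ M] [Module.Finite ℤ N] [Module.Finite ℤ M'] [Module.Finite ℤ N']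
    (hss : Module.finrank ℤ (Submodule.span ℤ (Set.range P.root)) = Module.finrank ℤ M)
    (hss' : Module.finrank ℤ (Submodule.span ℤ (Set.range P'.root)) = Module.finrank ℤ M')
    (f : RootPairing.Hom P' P) :
    Function.Injective f.weightMap ∧ Finite (M ⧸ LinearMap.range f.weightMap) := by
  classical
  have hreflM : Module.IsReflexive ℤ M := .of_isPerfPair P.toLinearMap
  have hreflM' : Module.IsReflexive ℤ M' := .of_isPerfPair P'.toLinearMap
  have hfreeM : Module.Free ℤ M := inferInstance
  constructor
  · rw [injective_iff_map_eq_zero]
    intro x' hx'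
    have hK : (⨅ i : ι', LinearMap.ker (P'.coroot' i) : Submodule ℤ M') = ⊥ := by
      rw [← Submodule.finrank_eq_zero]
      have := H23.RD.finrank_coradical_add (P := P')
      omega
    have hmem : x' ∈ (⨅ i : ι', LinearMap.ker (P'.coroot' i) : Submodule ℤ M') := by
      rw [H23.RD.mem_iInf_ker_coroot']
      intro i'
      have h := RootPairing.Hom.weight_coweight_transpose_apply P' P (P.coroot (f.indexEquiv i')) f
      have h2 := LinearMap.congr_fun h x'
      have h3 := RootPairing.Hom.coroot_coweightMap_apply P' P (f.indexEquiv i') f
      rw [h3, Equiv.symm_apply_apply] at h2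
      have h4 : P'.coroot' i' x' = P.toLinearMap (f.weightMap x') (P.coroot (f.indexEquiv i')) := by
        simpa using h2.symm
      rw [h4, hx', map_zero, LinearMap.zero_apply]
    rw [hK] at hmem
    exact (Submodule.mem_bot ℤ).1 hmem
  · have hle : Submodule.span ℤ (Set.range P.root) ≤ LinearMap.range f.weightMap := by
      apply Submodule.span_le.2
      rintro _ ⟨i, rfl⟩
      refine ⟨P'.root (f.indexEquiv.symm i), ?_⟩
      rw [RootPairing.Hom.root_weightMap_apply, Equiv.apply_symm_apply]
    have hfin : Finite (M ⧸ Submodule.span ℤ (Set.range P.root)) :=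
      Submodule.finiteQuotientOfFreeOfRankEq _ hss
    exact Finite.of_surjective (Submodule.factor hle) (Submodule.factor_surjective hle)

end Groth.Agent.S5474
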