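import Groth.Statements.S5475
import Groth.Agent.H23.RootD.Indiv

set_option autoImplicit false
open RootD

namespace Groth.Agent.S5475

/-- In an adjoint root datum every indivisible root is an indivisible element of the weight lattice. -/
theorem result {ι M N : Type*} [AddCommGroup M] [AddCommGroup N]
    (P : RootPairing ι ℤ M N) [Finite ι] (had : Submodule.span ℤ (Set.range P.root) = ⊤)
    (i : ι) (hind : RootD.IsIndiv P i) (m : M) (n : ℤ) (h : n • m = P.root i) : n = 1 ∨ n = -1 := by
  classical
  obtain ⟨Δ, hΔ, hiΔ⟩ := H23.RD.exists_simpleSys_mem_of_indiv hind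
  have hm : m ∈ Submodule.span ℤ (P.root '' Δ) := by
    rw [H23.RD.span_simple_eq hΔ, had]; trivial
  obtain ⟨c, hcS, hc⟩ := H23.RD.mem_span_iff_lc.1 hm
  have hlc : H23.RD.lc P (n • c) = H23.RD.lc P (Finsupp.single i 1) := by
    unfold H23.RD.lc at hc ⊢
    rw [map_smul, hc, h]
    simp
  have hsupp1 : (↑(n • c).support : Set ι) ⊆ Δ := fun l hl => hcS (Finsupp.support_smul hl)
  have hsupp2 : (↑(Finsupp.single i (1 : ℤ)).support : Set ι) ⊆ Δ := by
    intro l hl
    have := Finsupp.support_single_subset hl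
    rw [Finset.mem_singleton] at this
    rw [this]; exact hiΔ
  have heq := H23.RD.coeff_unique hΔ hsupp1 hsupp2 hlc
  have h1 := DFunLike.congr_fun heq i
  simp only [Finsupp.coe_smul, Pi.smul_apply, smul_eq_mul, Finsupp.single_eq_same] at h1
  exact Int.isUnit_iff.1 (IsUnit.of_mul_eq_one _ h1)

end Groth.Agent.S5475
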