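import Groth.Statements.S5477
import Groth.Agent.H23.RootD.Weyl

set_option autoImplicit false
open RootPairing
open scoped Pointwise
open RootD

namespace Groth.Agent.S5477

/-- An automorphism of a root datum acting trivially on the radical (u(m) - m in the rational span of
the roots for all m) is determined by its action on the roots: if it fixes every root it is the
identity. -/
theorem result {ι M N : Type*} [AddCommGroup M] [AddCommGroup N]
    (P : RootPairing ι ℤ M N) [Finite ι] (u : P.Aut)
    (hs : ∀ m : M, ∃ n : ℕ, 0 < n ∧ n • (u • m - m) ∈ Submodule.span ℤ (Set.range P.root))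
    (hfix : ∀ i : ι, u • i = i) : u = 1 := by
  classical
  have := Fintype.ofFinite ι
  apply Equiv.weightHom_injective P
  ext x
  show u • x = x
  obtain ⟨n, hn, hy⟩ := hs x
  by_contra hne
  have hy0 : u • x - x ≠ 0 := sub_ne_zero.2 hne
  have hn0 : (n : ℤ) ≠ 0 := by exact_mod_cast hn.ne'
  have hny0 : n • (u • x - x) ≠ 0 := by
    intro h0
    apply hy0
    have : (n : ℤ) • (u • x - x) = (n : ℤ) • 0 := by rw [natCast_zsmul, h0, smul_zero]
    exact H23.RD.zsmul_inj P hn0 this
  have hpos := P.rootForm_pos_of_ne_zero hy hny0
  rw [P.rootForm_apply_apply] at hpos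
  have h0 : ∀ l, P.coroot' l (n • (u • x - x)) = 0 := by
    intro l
    rw [map_nsmul, map_sub]
    have := H23.RD.aut_coroot' u x l
    rw [hfix l] at this
    rw [this, sub_self, smul_zero]
  simp [h0] at hpos

end Groth.Agent.S5477
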