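import Groth.Statements.S5478
import Groth.Agent.H23.RootD.Weyl
import Groth.Agent.S5477

set_option autoImplicit false
open RootPairing
open scoped Pointwise
open RootD

namespace Groth.Agent.S5478

/-- The group of automorphisms of a root datum that act trivially on the radical is finite. -/
theorem result {ι M N : Type*} [AddCommGroup M] [AddCommGroup N]
    (P : RootPairing ι ℤ M N) [Finite ι] :
    Set.Finite {u : P.Aut | ∀ m : M, ∃ n : ℕ, 0 < n ∧ n • (u • m - m) ∈ Submodule.span ℤ (Set.range P.root)} := by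
  classical
  set Q : Submodule ℤ M := Submodule.span ℤ (Set.range P.root) with hQ
  have hstab : ∀ (g : P.Aut) (x : M), x ∈ Q → g • x ∈ Q := by
    intro g x hx
    induction hx using Submodule.span_induction with
    | mem y hy =>
      obtain ⟨i, rfl⟩ := hy
      rw [← H23.RD.root_smul]
      exact Submodule.subset_span ⟨_, rfl⟩
    | zero => rw [smul_zero]; exact zero_mem _
    | add y z _ _ hy hz => rw [smul_add]; exact add_mem hy hz
    | smul a y _ hy => rw [smul_comm]; exact Q.smul_mem a hy
  apply Set.Finite.of_finite_image (f := fun u : P.Aut => Equiv.indexHom P u) (Set.toFinite _)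
  intro u hu v hv huv
  simp only [Set.mem_ofPred_eq] at hu hv
  have hfix : ∀ i : ι, (v⁻¹ * u) • i = i := by
    intro i
    have h1 : u • i = v • i := DFunLike.congr_fun huv i
    rw [mul_smul, h1, inv_smul_smul]
  have hT : ∀ m : M, ∃ n : ℕ, 0 < n ∧ n • ((v⁻¹ * u) • m - m) ∈ Q := by
    intro m
    obtain ⟨n1, hn1, h1⟩ := hu m
    obtain ⟨n2, hn2, h2⟩ := hv (v⁻¹ • m)
    rw [smul_inv_smul] at h2
    refine ⟨n1 * n2, Nat.mul_pos hn1 hn2, ?_⟩
    have : (v⁻¹ * u) • m - m = v⁻¹ • (u • m - m) - (m - v⁻¹ • m) := by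
      rw [mul_smul, smul_sub]; abel
    rw [this, smul_sub]
    apply sub_mem
    · rw [mul_comm, mul_smul]
      apply Q.smul_of_tower_mem n2
      rw [← smul_comm]
      exact hstab _ _ h1
    · rw [mul_smul]
      exact Q.smul_of_tower_mem n1 h2
  have h1 := Groth.Agent.S5477.result P (v⁻¹ * u) hT hfix
  exact (inv_mul_eq_one.1 h1).symm

end Groth.Agent.S5478
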