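import Groth.Statements.S5479
import Groth.Agent.H23.RootD.Words
import Groth.Agent.S5455

set_option autoImplicit false
open RootPairing
open scoped Pointwise
open RootD

namespace Groth.Agent.S5479

/-- Aut(R) is the semidirect product of the Weyl group by the stabiliser E_Δ of a system of simple
roots: every automorphism is uniquely w · e with w ∈ W and e(Δ) = Δ. -/
theorem result {ι M N : Type*} [AddCommGroup M] [AddCommGroup N]
    (P : RootPairing ι ℤ M N) [Finite ι] (Δ : Set ι) (hΔ : RootD.IsSimpleSys P Δ) (u : P.Aut) :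
    ∃! w : P.weylGroup, (fun i : ι => ((w : P.Aut)⁻¹ * u) • i) '' Δ = Δ := by
  classical
  have hΔu := H23.RD.isSimpleSys_image hΔ u
  obtain ⟨g, hg, hgΔ⟩ := Groth.Agent.S5455.result P Δ _ hΔ hΔu
  have hcomp : ∀ (a b : P.Aut) (A : Set ι), (fun i : ι => (a * b) • i) '' A =
      (fun i : ι => a • i) '' ((fun i : ι => b • i) '' A) := by
    intro a b A
    rw [Set.image_image]
    simp only [mul_smul]
  have hinv : ∀ (a : P.Aut) (A : Set ι), (fun i : ι => a⁻¹ • i) '' ((fun i : ι => a • i) '' A) = A := by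
    intro a A
    rw [Set.image_image]
    simp
  refine ⟨⟨g, hg⟩, ?_, ?_⟩
  · show (fun i : ι => (g⁻¹ * u) • i) '' Δ = Δ
    rw [hcomp, ← hgΔ, hinv]
  · rintro ⟨w, hw⟩ hwΔ
    have hwΔ' : (fun i : ι => (w⁻¹ * u) • i) '' Δ = Δ := hwΔ
    rw [hcomp, ← hgΔ, ← hcomp] at hwΔ'
    have h1 := H23.RD.weyl_eq_one_of_image_eq hΔ (mul_mem (inv_mem hw) hg) hwΔ'
    apply Subtype.ext
    exact inv_mul_eq_one.1 h1

end Groth.Agent.S5479
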