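import Groth.Statements.S5480
import Groth.Agent.H23.RootD.Weyl
import Groth.Agent.S5452

set_option autoImplicit false
open RootD

namespace Groth.Agent.S5480

/-- For a p-morphism of reduced root data with root bijection u and radicial exponents q: (a) for all
roots α, β one has q(s_α(β)) = q(β) and u(s_α(β)) = s_{u(α)}(u(β)); (b) the exponents are invariant
under the Weyl group, q(w(α)) = q(α); (c) there is an isomorphism ū from the Weyl group of the first
datum to that of the second with ū(s_α) = s_{u(α)} and u(w(α)) = ū(w)(u(α)) for every Weyl group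
element w and every root α. -/
theorem result {ι M N ι' M' N' : Type*} [AddCommGroup M] [AddCommGroup N] [AddCommGroup M'] [AddCommGroup N']
    (P : RootPairing ι ℤ M N) (P' : RootPairing ι' ℤ M' N') [Finite ι] [Finite ι'] [P.IsReduced] [P'.IsReduced]
    (p : ℕ) (hp : 0 < p) (f : M' →ₗ[ℤ] M) (g : N →ₗ[ℤ] N')
    (hfg : ∀ (m' : M') (n : N), P.toLinearMap (f m') n = P'.toLinearMap m' (g n))
    (u : ι ≃ ι') (q : ι → ℕ) (hq : ∀ i, ∃ e : ℕ, q i = p ^ e)
    (hroot : ∀ i : ι, f (P'.root (u i)) = (q i : ℤ) • P.root i)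
    (hcoroot : ∀ i : ι, g (P.coroot i) = (q i : ℤ) • P'.coroot (u i)) :
    (∀ i j : ι, q (P.reflectionPerm i j) = q j ∧ u (P.reflectionPerm i j) = P'.reflectionPerm (u i) (u j)) ∧
      (∀ w ∈ P.weylGroup, ∀ i : ι, q (w • i) = q i) ∧
      ∃ ubar : P.weylGroup ≃* P'.weylGroup,
        (∀ i : ι, ubar (RootPairing.weylGroup.ofIdx P i) = RootPairing.weylGroup.ofIdx P' (u i)) ∧
        ∀ (w : P.weylGroup) (i : ι), u ((w : P.Aut) • i) = ((ubar w : P'.weylGroup) : P'.Aut) • u i := by
  classical
  have hqpos : ∀ a : ι, (0 : ℤ) < q a := by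
    intro a
    obtain ⟨e, he⟩ := hq a
    rw [he]
    exact_mod_cast Nat.pow_pos hp
  have hE : ∀ a b : ι, (q a : ℤ) * P.pairing a b = (q b : ℤ) * P'.pairing (u a) (u b) := by
    intro a b
    have := hfg (P'.root (u a)) (P.coroot b)
    rw [hroot, hcoroot] at this
    simpa using this
  have hsmul0 : ∀ (c : ℤ) (m : ι), c • P.root m = 0 → c = 0 := by
    intro c m h
    by_contra hc
    have : c • P.root m = c • 0 := by rw [h, smul_zero]
    exact P.ne_zero m (H23.RD.zsmul_inj P hc this)
  have ha : ∀ i j : ι, q (P.reflectionPerm i j) = q j ∧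
      u (P.reflectionPerm i j) = P'.reflectionPerm (u i) (u j) := by
    intro i j
    obtain ⟨l, hl⟩ : ∃ l, l = u.symm (P'.reflectionPerm (u i) (u j)) := ⟨_, rfl⟩
    have hul : u l = P'.reflectionPerm (u i) (u j) := by rw [hl, u.apply_symm_apply]
    have h1 : f (P'.root (u l)) = (q j : ℤ) • P.root (P.reflectionPerm i j) := by
      rw [hul, P'.root_reflectionPerm, P'.reflection_apply, map_sub, map_smul, hroot, hroot,
        P.root_reflectionPerm, P.reflection_apply, smul_sub, P'.root_coroot'_eq_pairing,
        P.root_coroot'_eq_pairing, smul_smul, smul_smul]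
      have := hE j i
      rw [show P'.pairing (u j) (u i) * (q i : ℤ) = (q j : ℤ) * P.pairing j i by linarith]
    rw [hroot] at h1
    have hnli : ¬ LinearIndependent ℤ ![P.root l, P.root (P.reflectionPerm i j)] := by
      intro hli
      have := (LinearIndependent.pair_iff.1 hli) (q l) (-(q j : ℤ)) (by rw [neg_smul, h1]; abel)
      exact (hqpos l).ne' this.1
    rcases RootPairing.IsReduced.eq_or_eq_neg (P := P) l (P.reflectionPerm i j) hnli with h | h
    · have hlr : l = P.reflectionPerm i j := P.root.injective h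
      have hq' : q l = q j := by
        rw [h] at h1
        have : ((q l : ℤ) - q j) • P.root (P.reflectionPerm i j) = 0 := by
          rw [sub_smul, h1, sub_self]
        have h0 := hsmul0 _ _ this
        exact_mod_cast sub_eq_zero.1 h0
      exact ⟨by rw [← hlr, hq'], by rw [← hlr, hul]⟩
    · exfalso
      rw [h, smul_neg] at h1
      have : ((q l : ℤ) + q j) • P.root (P.reflectionPerm i j) = 0 := by
        rw [add_smul, ← h1]; abel
      have h0 := hsmul0 _ _ this
      have := hqpos l
      have := hqpos j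
      omega
  have hb : ∀ w ∈ P.weylGroup, ∀ i : ι, q (w • i) = q i := by
    intro w hw
    induction hw using RootPairing.weylGroup.induction with
    | mem k => intro i; exact (ha k i).1
    | one => intro i; rw [one_smul]
    | mul x y hx hy ihx ihy => intro i; rw [mul_smul, ihx, ihy]
  have hρ : Function.Injective P.weylGroupToPerm := Groth.Agent.S5452.result P
  have hρ' : Function.Injective P'.weylGroupToPerm := Groth.Agent.S5452.result P'
  let c : Equiv.Perm ι ≃* Equiv.Perm ι' := u.permCongrHom
  have hc : ∀ i : ι, c (P.reflectionPerm i) = P'.reflectionPerm (u i) := by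
    intro i
    ext k'
    show u (P.reflectionPerm i (u.symm k')) = P'.reflectionPerm (u i) k'
    rw [(ha i (u.symm k')).2, u.apply_symm_apply]
  have hmap : (P.weylGroupToPerm.range).map (c : Equiv.Perm ι →* Equiv.Perm ι') =
      P'.weylGroupToPerm.range := by
    rw [P.range_weylGroupToPerm, P'.range_weylGroupToPerm, MonoidHom.map_closure]
    congr 1
    ext π'
    constructor
    · rintro ⟨_, ⟨i, rfl⟩, rfl⟩
      exact ⟨u i, (hc i).symm⟩
    · rintro ⟨i', rfl⟩
      refine ⟨_, ⟨u.symm i', rfl⟩, ?_⟩
      show c (P.reflectionPerm (u.symm i')) = P'.reflectionPerm i'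
      rw [hc, u.apply_symm_apply]
  let ubar : P.weylGroup ≃* P'.weylGroup :=
    (MonoidHom.ofInjective hρ).trans ((c.subgroupMap _).trans
      ((MulEquiv.subgroupCongr hmap).trans (MonoidHom.ofInjective hρ').symm))
  have hubar : ∀ w : P.weylGroup, P'.weylGroupToPerm (ubar w) = c (P.weylGroupToPerm w) := by
    intro w
    simp only [ubar, MulEquiv.trans_apply]
    rw [MonoidHom.apply_ofInjective_symm]
    rfl
  refine ⟨ha, hb, ubar, ?_, ?_⟩
  · intro i
    apply hρ'
    rw [hubar]
    have h1 : P.weylGroupToPerm (RootPairing.weylGroup.ofIdx P i) = P.reflectionPerm i := rfl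
    have h2 : P'.weylGroupToPerm (RootPairing.weylGroup.ofIdx P' (u i)) =
        P'.reflectionPerm (u i) := rfl
    rw [h1, h2, hc]
  · intro w i
    have h1 := DFunLike.congr_fun (hubar w) (u i)
    have h2 : c (P.weylGroupToPerm w) (u i) = u ((w : P.Aut) • i) := by
      show u (P.weylGroupToPerm w (u.symm (u i))) = _
      rw [u.symm_apply_apply]
      rfl
    rw [h2] at h1
    rw [← h1]
    rfl

end Groth.Agent.S5480
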