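import Groth.Statements.S5481
import Groth.Agent.H23.RootD.SimpleChar
import Groth.Agent.S5480

set_option autoImplicit false
open RootD

namespace Groth.Agent.S5481

/-- The root bijection u of a p-morphism of reduced root data carries systems of simple roots onto
systems of simple roots and systems of positive roots onto systems of positive roots, bijectively. -/
theorem result {ι M N ι' M' N' : Type*} [AddCommGroup M] [AddCommGroup N] [AddCommGroup M'] [AddCommGroup N']
    (P : RootPairing ι ℤ M N) (P' : RootPairing ι' ℤ M' N') [Finite ι] [Finite ι'] [P.IsReduced] [P'.IsReduced]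
    (p : ℕ) (hp : 0 < p) (f : M' →ₗ[ℤ] M) (g : N →ₗ[ℤ] N')
    (hfg : ∀ (m' : M') (n : N), P.toLinearMap (f m') n = P'.toLinearMap m' (g n))
    (u : ι ≃ ι') (q : ι → ℕ) (hq : ∀ i, ∃ e : ℕ, q i = p ^ e)
    (hroot : ∀ i : ι, f (P'.root (u i)) = (q i : ℤ) • P.root i)
    (hcoroot : ∀ i : ι, g (P.coroot i) = (q i : ℤ) • P'.coroot (u i)) (Δ : Set ι) :
    (RootD.IsSimpleSys P Δ ↔ RootD.IsSimpleSys P' (u '' Δ)) ∧
      (RootD.IsPosSys P Δ ↔ RootD.IsPosSys P' (u '' Δ)) := by
  classical
  have : Fintype ι' := Fintype.ofFinite ι'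
  have hqpos : ∀ a : ι, (0 : ℤ) < q a := by
    intro a
    obtain ⟨e, he⟩ := hq a
    rw [he]
    exact_mod_cast Nat.pow_pos hp
  have hqposN : ∀ a : ι, 0 < q a := fun a => by exact_mod_cast hqpos a
  have hE : ∀ a b : ι, (q a : ℤ) * P.pairing a b = (q b : ℤ) * P'.pairing (u a) (u b) := by
    intro a b
    have := hfg (P'.root (u a)) (P.coroot b)
    rw [hroot, hcoroot] at this
    simpa using this
  have hneg : ∀ i, u (P.reflectionPerm i i) = P'.reflectionPerm (u i) (u i) := fun i =>
    ((Groth.Agent.S5480.result P P' p hp f g hfg u q hq hroot hcoroot).1 i i).2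
  -- `f` is injective on the root span
  have hT2 : ∀ x' : M', x' ∈ P'.rootSpan ℤ → f x' = 0 → x' = 0 := by
    intro x' hx' hfx
    apply P'.eq_zero_of_mem_rootSpan_of_rootForm_self_eq_zero hx'
    rw [P'.rootForm_apply_apply]
    apply Finset.sum_eq_zero
    intro j _
    obtain ⟨i, rfl⟩ := u.surjective j
    have h1 := hfg x' (P.coroot i)
    rw [hfx, map_zero, LinearMap.zero_apply, hcoroot, map_smul, smul_eq_mul] at h1
    have h2 : P'.toLinearMap x' (P'.coroot (u i)) = 0 := by
      rcases mul_eq_zero.1 h1.symm with h | h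
      · exact absurd h (hqpos i).ne'
      · exact h
    show P'.toLinearMap x' (P'.coroot (u i)) * P'.toLinearMap x' (P'.coroot (u i)) = 0
    rw [h2, mul_zero]
  have hT4 : ∀ i j k : ι, P.root k = P.root i + P.root j →
      ((q i : ℤ) * q j) • P'.root (u k) =
        ((q j : ℤ) * q k) • P'.root (u i) + ((q i : ℤ) * q k) • P'.root (u j) := by
    intro i j k hk
    rw [← sub_eq_zero]
    apply hT2
    · exact sub_mem (Submodule.smul_mem _ _ (H23.RD.root_mem_rootSpan P' _))
        (add_mem (Submodule.smul_mem _ _ (H23.RD.root_mem_rootSpan P' _))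
          (Submodule.smul_mem _ _ (H23.RD.root_mem_rootSpan P' _)))
    · rw [map_sub, map_add, map_smul, map_smul, map_smul, hroot, hroot, hroot, hk]
      module
  have hT4n : ∀ i j k : ι, P.root k = P.root i + P.root j →
      (q i * q j) • P'.root (u k) =
        (q j * q k) • P'.root (u i) + (q i * q k) • P'.root (u j) := by
    intro i j k hk
    have := hT4 i j k hk
    simp only [← natCast_zsmul, Nat.cast_mul]
    exact this
  -- positive systems, forward
  have hPos1 : ∀ S : Set ι, IsPosSys P S → IsPosSys P' (u '' S) := by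
    intro S hS
    obtain ⟨φ, hφ⟩ := H23.RD.exists_hom_of_isPosSys hS
    have hval : ∀ i, (φ.comp f.toAddMonoidHom) (P'.root (u i)) = (q i : ℚ) * φ (P.root i) := by
      intro i
      rw [AddMonoidHom.comp_apply, LinearMap.toAddMonoidHom_coe, hroot, map_zsmul, zsmul_eq_mul,
        Int.cast_natCast]
    have hqQ : ∀ i, (0 : ℚ) < q i := fun i => by exact_mod_cast hqposN i
    have hne : ∀ j, (φ.comp f.toAddMonoidHom) (P'.root j) ≠ 0 := by
      intro j
      obtain ⟨i, rfl⟩ := u.surjective j
      rw [hval]
      exact mul_ne_zero (hqQ i).ne' (hφ i).2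
    have hps := H23.RD.isPosSys_of_homQ (P := P') _ hne
    convert hps using 1
    ext j
    obtain ⟨i, rfl⟩ := u.surjective j
    rw [Set.mem_ofPred_eq, hval, u.injective.mem_set_image, ← (hφ i).1]
    constructor
    · intro h; exact mul_pos (hqQ i) h
    · intro h; exact (mul_pos_iff_of_pos_left (hqQ i)).1 h
  -- positive systems, backward
  have hPos2 : ∀ S : Set ι, IsPosSys P' (u '' S) → IsPosSys P S := by
    intro S hS'
    apply H23.RD.isPosSys_of_closed
    · intro i hi hni
      have h1 : u i ∈ u '' S := Set.mem_image_of_mem _ hi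
      have h2 : P'.reflectionPerm (u i) (u i) ∈ u '' S := by
        rw [← hneg]; exact Set.mem_image_of_mem _ hni
      exact hS'.disjoint h1 h2
    · intro i
      rcases hS'.cover (u i) with h | h
      · left; exact (u.injective.mem_set_image).1 h
      · right; rw [← hneg] at h; exact (u.injective.mem_set_image).1 h
    · intro i j k hi hj hk
      have hmem : (q i * q j) • P'.root (u k) ∈ natSpan P' (u '' S) := by
        rw [hT4n i j k hk]
        exact add_mem
          (AddSubmonoid.nsmul_mem _ (H23.RD.root_mem_natSpan P' (Set.mem_image_of_mem _ hi)) _)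
          (AddSubmonoid.nsmul_mem _ (H23.RD.root_mem_natSpan P' (Set.mem_image_of_mem _ hj)) _)
      have := hS'.sat (q i * q j) (Nat.mul_pos (hqposN i) (hqposN j)) hmem
      exact (u.injective.mem_set_image).1 this
  -- simple systems, forward
  have hSim1 : IsSimpleSys P Δ → IsSimpleSys P' (u '' Δ) := by
    intro hΔ
    have hS := H23.RD.isPosSys_posOf hΔ
    have hS' := hPos1 _ hS
    have hDS : u '' Δ ⊆ u '' posOf P Δ := Set.image_mono (H23.RD.subset_posOf hΔ)
    have hli : LinearIndepOn ℤ P'.root (u '' Δ) := by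
      apply H23.RD.linearIndepOn_of_obtuse_of_pointed
      · rintro _ ⟨a, ha, rfl⟩ _ ⟨b, hb, rfl⟩ hab
        have hab' : a ≠ b := fun h => hab (by rw [h])
        have h1 := H23.RD.pairing_le_zero_of_simple hΔ ha hb hab'
        have h2 := hE a b
        have h3 : (q b : ℤ) * P'.pairing (u a) (u b) ≤ 0 := by
          rw [← h2]; exact mul_nonpos_of_nonneg_of_nonpos (hqpos a).le h1
        by_contra hcon
        push Not at hcon
        have := mul_pos (hqpos b) hcon
        linarith
      · intro c h0 hc h
        exact H23.RD.ps_pointed hS' h0 (hc.trans hDS) h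
    have key : ∀ k, H23.RD.Reach P Δ k →
        ∃ n : ℕ, 0 < n ∧ n • P'.root (u k) ∈ natSpan P' (u '' Δ) := by
      intro k hreach
      induction hreach with
      | base hi =>
        exact ⟨1, one_pos, by
          rw [one_smul]; exact H23.RD.root_mem_natSpan P' (Set.mem_image_of_mem _ hi)⟩
      | @step j i k hj hi hk ih =>
        obtain ⟨n, hn, hmem⟩ := ih
        refine ⟨n * (q j * q i), Nat.mul_pos hn (Nat.mul_pos (hqposN j) (hqposN i)), ?_⟩
        rw [mul_smul, hT4n j i k hk, smul_add, smul_comm n (q i * q k) (P'.root (u j))]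
        exact add_mem (AddSubmonoid.nsmul_mem _ hmem _)
          (AddSubmonoid.nsmul_mem _ (AddSubmonoid.nsmul_mem _
            (H23.RD.root_mem_natSpan P' (Set.mem_image_of_mem _ hi)) _) _)
    have hgen : ∀ k' ∈ u '' posOf P Δ,
        ∃ n : ℕ, 0 < n ∧ n • P'.root k' ∈ natSpan P' (u '' Δ) := by
      rintro _ ⟨k, hk, rfl⟩
      exact key k (H23.RD.reach_of_mem_natSpan P hk)
    have := H23.RD.eq_simpleOf_of_linearIndepOn hS' hDS hli hgen
    rw [this]
    exact H23.RD.ps_isSimpleSys_simpleOf hS'
  -- simple systems, backward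
  have hSim2 : IsSimpleSys P' (u '' Δ) → IsSimpleSys P Δ := by
    intro hD
    have hS' := H23.RD.isPosSys_posOf hD
    obtain ⟨S, hSdef⟩ : ∃ S : Set ι, S = u ⁻¹' (posOf P' (u '' Δ)) := ⟨_, rfl⟩
    have himg : u '' S = posOf P' (u '' Δ) := by rw [hSdef]; exact u.image_preimage _
    have hS : IsPosSys P S := hPos2 S (by rw [himg]; exact hS')
    have hΔS : Δ ⊆ S := by
      intro a ha
      rw [hSdef]
      exact H23.RD.subset_posOf hD (Set.mem_image_of_mem _ ha)
    have hli : LinearIndepOn ℤ P.root Δ := by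
      apply H23.RD.linearIndepOn_of_obtuse_of_pointed
      · intro a ha b hb hab
        have hab' : u a ≠ u b := fun h => hab (u.injective h)
        have h1 := H23.RD.pairing_le_zero_of_simple hD (Set.mem_image_of_mem _ ha)
          (Set.mem_image_of_mem _ hb) hab'
        have h2 := hE a b
        have h3 : (q a : ℤ) * P.pairing a b ≤ 0 := by
          rw [h2]; exact mul_nonpos_of_nonneg_of_nonpos (hqpos b).le h1
        by_contra hcon
        push Not at hcon
        have := mul_pos (hqpos a) hcon
        linarith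
      · intro c h0 hc h
        exact H23.RD.ps_pointed hS h0 (hc.trans hΔS) h
    have hfmap : ∀ x' ∈ natSpan P' (u '' Δ), f x' ∈ natSpan P Δ := by
      intro x' hx'
      unfold natSpan at hx'
      induction hx' using AddSubmonoid.closure_induction with
      | mem y hy =>
        obtain ⟨_, ⟨l, hl, rfl⟩, rfl⟩ := hy
        rw [hroot, natCast_zsmul]
        exact AddSubmonoid.nsmul_mem _ (H23.RD.root_mem_natSpan P hl) _
      | zero => rw [map_zero]; exact zero_mem _
      | add x y _ _ hx hy => rw [map_add]; exact add_mem hx hy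
    have hgen : ∀ k ∈ S, ∃ n : ℕ, 0 < n ∧ n • P.root k ∈ natSpan P Δ := by
      intro k hk
      rw [hSdef] at hk
      have := hfmap _ hk
      rw [hroot, natCast_zsmul] at this
      exact ⟨q k, hqposN k, this⟩
    have := H23.RD.eq_simpleOf_of_linearIndepOn hS hΔS hli hgen
    rw [this]
    exact H23.RD.ps_isSimpleSys_simpleOf hS
  exact ⟨⟨hSim1, hSim2⟩, ⟨hPos1 Δ, hPos2 Δ⟩⟩

end Groth.Agent.S5481
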