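import Groth.Statements.S5482
import Groth.Agent.H23.RootD.Span
import Groth.Agent.S5497

set_option autoImplicit false
open RootD

namespace Groth.Agent.S5482

/-- If the roots are partitioned into two closed symmetric subsets R', R'', then with Δ' = Δ ∩ R', Δ'' =
Δ ∩ R'' for a system of simple roots Δ one has R' = R_{Δ'}, R'' = R_{Δ''}, and Δ' is orthogonal to
Δ''. -/
theorem result {ι M N : Type*} [AddCommGroup M] [AddCommGroup N]
    (P : RootPairing ι ℤ M N) [Finite ι] (Δ : Set ι) (hΔ : RootD.IsSimpleSys P Δ) (R' : Set ι)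
    (hc : RootD.IsClosedSub P R') (hs : RootD.IsSymmSub P R') (hc' : RootD.IsClosedSub P R'ᶜ)
    (hs' : RootD.IsSymmSub P R'ᶜ) :
    R' = RootD.inSpan P (Δ ∩ R') ∧ R'ᶜ = RootD.inSpan P (Δ \ R') ∧
      ∀ i ∈ Δ ∩ R', ∀ j ∈ Δ \ R', P.IsOrthogonal i j := by
  classical
  have same := Groth.Agent.S5497.result P R' hc hs hc' hs'
  have hsymm : ∀ k, P.reflectionPerm k k ∈ R' ↔ k ∈ R' := by
    intro k
    constructor
    · intro h
      have := hs h
      rwa [H23.RD.negIdx_negIdx] at this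
    · intro h; exact hs h
  -- Step A
  have stepA : ∀ m, H23.RD.Reach P Δ m →
      (m ∈ R' → P.root m ∈ Submodule.span ℤ (P.root '' (Δ ∩ R'))) ∧
      (m ∉ R' → P.root m ∈ Submodule.span ℤ (P.root '' (Δ \ R'))) := by
    intro m hm
    induction hm with
    | base hi =>
      exact ⟨fun h => Submodule.subset_span ⟨_, ⟨hi, h⟩, rfl⟩,
        fun h => Submodule.subset_span ⟨_, ⟨hi, h⟩, rfl⟩⟩
    | @step j i m _ hi hm ih =>
      rcases same j i m hm with ⟨h1, h2, h3⟩ | ⟨h1, h2, h3⟩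
      · refine ⟨fun _ => ?_, fun h => absurd h3 h⟩
        rw [hm]
        exact add_mem (ih.1 h1) (Submodule.subset_span ⟨_, ⟨hi, h2⟩, rfl⟩)
      · refine ⟨fun h => absurd h h3, fun _ => ?_⟩
        rw [hm]
        exact add_mem (ih.2 h1) (Submodule.subset_span ⟨_, ⟨hi, h2⟩, rfl⟩)
  have stepB : ∀ k, (k ∈ R' → k ∈ RootD.inSpan P (Δ ∩ R')) ∧
      (k ∉ R' → k ∈ RootD.inSpan P (Δ \ R')) := by
    intro k
    rcases H23.RD.reach_or_reach_neg hΔ k with h | h
    · exact stepA k h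
    · have := stepA _ h
      refine ⟨fun hk => ?_, fun hk => ?_⟩
      · exact H23.RD.negIdx_mem_inSpan_iff.1 (this.1 ((hsymm k).2 hk))
      · exact H23.RD.negIdx_mem_inSpan_iff.1 (this.2 (fun h' => hk ((hsymm k).1 h')))
  have stepC : ∀ k, ¬ (k ∈ RootD.inSpan P (Δ ∩ R') ∧ k ∈ RootD.inSpan P (Δ \ R')) := by
    rintro k ⟨h1, h2⟩
    rw [H23.RD.mem_inSpan_iff hΔ Set.inter_subset_left] at h1
    rw [H23.RD.mem_inSpan_iff hΔ Set.diff_subset] at h2
    apply H23.RD.coeff_ne_zero hΔ k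
    ext i
    by_contra hi
    have hi' : i ∈ (H23.RD.coeff hΔ k).support := Finsupp.mem_support_iff.2 hi
    exact (h2 hi').2 (h1 hi').2
  refine ⟨?_, ?_, ?_⟩
  · ext k
    constructor
    · exact (stepB k).1
    · intro hk
      by_contra hkn
      exact stepC k ⟨hk, (stepB k).2 hkn⟩
  · ext k
    constructor
    · exact (stepB k).2
    · intro hk hkR
      exact stepC k ⟨(stepB k).1 hkR, hk⟩
  · rintro i ⟨hiΔ, hiR⟩ j ⟨hjΔ, hjR⟩
    have hij : i ≠ j := by rintro rfl; exact hjR hiR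
    have hle := H23.RD.pairing_le_zero_of_simple hΔ hiΔ hjΔ hij
    have h0 : P.pairing i j = 0 := by
      by_contra hne
      have hlt : P.pairing i j < 0 := lt_of_le_of_ne hle hne
      have hneq : P.root i ≠ - P.root j := by
        intro h
        have : i = P.reflectionPerm j j := by
          apply P.root.injective; rw [H23.RD.root_negIdx, h]
        have hi := H23.RD.subset_posOf hΔ hiΔ
        rw [this, H23.RD.negIdx_mem_posOf_iff hΔ] at hi
        exact hi (H23.RD.subset_posOf hΔ hjΔ)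
      obtain ⟨m, hm⟩ := H23.RD.add_mem_of_pairing_neg P hlt hneq
      rcases same i j m hm with ⟨_, h2, _⟩ | ⟨h1, _, _⟩
      · exact hjR h2
      · exact h1 hiR
    exact ⟨h0, (H23.RD.pairing_zero_iff P).1 h0⟩

end Groth.Agent.S5482
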