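import Groth.Statements.S5487
import Groth.Agent.H23.RootD.Basic

set_option autoImplicit false
open RootD

namespace Groth.Agent.S5487

/-- For non-orthogonal roots α, β one has ℓ(α) ℓ(α^v) = ℓ(β) ℓ(β^v), where ℓ is the canonical quadratic
form of the datum and of its dual. -/
theorem result {ι M N : Type*} [AddCommGroup M] [AddCommGroup N]
    (P : RootPairing ι ℤ M N) [Finite ι] [Fintype ι] (i j : ι) (h : ¬ P.IsOrthogonal i j) :
    P.RootForm (P.root i) (P.root i) * P.CorootForm (P.coroot i) (P.coroot i) =
      P.RootForm (P.root j) (P.root j) * P.CorootForm (P.coroot j) (P.coroot j) := by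
  have hij : P.pairing i j ≠ 0 := by
    intro h0
    exact h ⟨h0, (H23.RD.pairing_zero_iff P).1 h0⟩
  have hji : P.pairing j i ≠ 0 := fun h0 => hij ((H23.RD.pairing_zero_iff P).1 h0)
  have h1 := (P.posRootForm ℤ).toInvariantForm.pairing_mul_eq_pairing_mul_swap i j
  have h2 := (P.flip.posRootForm ℤ).toInvariantForm.pairing_mul_eq_pairing_mul_swap i j
  simp only [RootPairing.RootPositiveForm.toInvariantForm_form, RootPairing.posRootForm,
    RootPairing.pairing_flip, RootPairing.flip_root] at h1 h2
  change P.pairing i j * P.CorootForm (P.coroot i) (P.coroot i) =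
    P.pairing j i * P.CorootForm (P.coroot j) (P.coroot j) at h2
  have : (P.pairing i j * P.pairing j i) *
      (P.RootForm (P.root i) (P.root i) * P.CorootForm (P.coroot i) (P.coroot i)) =
      (P.pairing i j * P.pairing j i) *
      (P.RootForm (P.root j) (P.root j) * P.CorootForm (P.coroot j) (P.coroot j)) := by
    linear_combination (P.pairing i j * P.CorootForm (P.coroot i) (P.coroot i)) * h1 +
      (P.pairing i j * P.RootForm (P.root j) (P.root j)) * h2
  exact mul_left_cancel₀ (mul_ne_zero hij hji) this

end Groth.Agent.S5487
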