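import Groth.Statements.S5488
import Groth.Agent.H23.RootD.Words

set_option autoImplicit false
open RootPairing
open scoped Pointwise
open RootD

namespace Groth.Agent.S5488

/-- The reduced datum of indivisible roots has the same Weyl group: the reflections in indivisible roots
generate W. -/
theorem result {ι M N : Type*} [AddCommGroup M] [AddCommGroup N]
    (P : RootPairing ι ℤ M N) [Finite ι] :
    Subgroup.closure ((fun i : ι => Equiv.reflection P i) '' {i : ι | RootD.IsIndiv P i}) = P.weylGroup := by
  rw [RootPairing.weylGroup]
  apply le_antisymm
  · apply Subgroup.closure_mono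
    rintro _ ⟨i, _, rfl⟩
    exact ⟨i, rfl⟩
  · apply (Subgroup.closure_le _).2
    rintro _ ⟨k, rfl⟩
    by_cases hind : RootD.IsIndiv P k
    · exact Subgroup.subset_closure ⟨k, hind, rfl⟩
    · unfold RootD.IsIndiv at hind
      push Not at hind
      obtain ⟨j, hj⟩ := hind
      have : Equiv.reflection P k = Equiv.reflection P j :=
        H23.RD.aut_reflection_eq_of_root_eq_zsmul (t := 2) hj.symm
      rw [this]
      refine Subgroup.subset_closure ⟨j, ?_, rfl⟩
      intro l hl
      have h4 : P.root k = (4 : ℤ) • P.root l := by
        rw [← hj, ← hl, smul_smul]; norm_num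
      have := H23.RD.int_of_root_eq_zsmul P h4
      omega

end Groth.Agent.S5488
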