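import Groth.Statements.S5491
-- import your own Groth.Agent.* helpers here

set_option autoImplicit false
open RootD

namespace Groth.Agent.S5491

open Classical in
/-- With ρ^v the half-sum of the positive coroots, the order (height) of any root α relative to the
simple system equals (ρ^v, α); equivalently 2·height(α) = Σ_{β > 0} (β^v, α). -/
theorem result {ι M N : Type*} [AddCommGroup M] [AddCommGroup N]
    (P : RootPairing ι ℤ M N) [Finite ι] [Fintype ι] [P.IsReduced] (b : P.Base) (i : ι) :
    2 * b.height i = ∑ j, if b.IsPos j then P.pairing i j else 0 := by
  classical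
  have hsimple : ∀ l ∈ b.support, (∑ j ∈ Finset.univ.filter (fun j => b.IsPos j), P.pairing l j) = 2 := by
    intro l hl
    have hlpos := b.isPos_of_mem_support hl
    rw [← Finset.add_sum_erase _ _ (Finset.mem_filter.2 ⟨Finset.mem_univ l, hlpos⟩), P.pairing_same]
    have hg1 : ∀ j, P.pairing l j + P.pairing l (P.reflectionPerm l j) = 0 := by
      intro j
      rw [P.pairing_reflectionPerm, P.pairing_reflectionPerm_self_left]
      ring
    have : ∑ j ∈ (Finset.univ.filter (fun j => b.IsPos j)).erase l, P.pairing l j = 0 := by
      apply Finset.sum_involution (fun j _ => P.reflectionPerm l j)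
      · intro j _
        exact hg1 j
      · intro j _ hne heq
        apply hne
        have := hg1 j
        rw [heq] at this
        omega
      · intro j hj
        rw [Finset.mem_erase, Finset.mem_filter] at hj ⊢
        refine ⟨?_, Finset.mem_univ _, hj.2.2.reflectionPerm hl hj.1⟩
        intro heq
        have hj' : j = P.reflectionPerm l l := by
          conv_lhs => rw [← P.reflectionPerm_self l j, heq]
        have h1 := b.height_reflectionPerm_self l
        change b.height (P.reflectionPerm l l) = _ at h1
        have h2 : 0 < b.height j := hj.2.2
        have h3 : 0 < b.height l := hlpos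
        rw [hj', h1] at h2
        omega
      · intro j _
        exact P.reflectionPerm_self l j
    rw [this, add_zero]
  obtain ⟨f, hf0, hf1, hf2⟩ := b.exists_root_eq_sum_int i
  rw [RootPairing.Base.height_eq_sum hf2, ← Finset.sum_filter]
  have hpair : ∀ j, P.pairing i j = ∑ l ∈ b.support, f l * P.pairing l j := by
    intro j
    rw [← P.root_coroot'_eq_pairing, hf2, map_sum]
    simp [P.root_coroot'_eq_pairing]
  simp_rw [hpair]
  rw [Finset.sum_comm, Finset.mul_sum]
  apply Finset.sum_congr rfl
  intro l hl
  rw [← Finset.mul_sum, hsimple l hl]
  ring

end Groth.Agent.S5491
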