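import Groth.Statements.S5496
import Groth.Agent.H23.RootD.Words
import Groth.Agent.H23.RootD.Cartan
import Mathlib.Data.ZMod.QuotientGroup

set_option autoImplicit false
open RootPairing
open scoped Pointwise
open RootD

namespace Groth.Agent.S5496

/-- For non-proportional roots α, β let n be the least integer n > 0 with (s_α s_β)^n(α) = α and (s_α
s_β)^n(β) = β. Then the subgroup W_{α,β} generated by s_α and s_β is presented by s_α² = s_β² = (s_α
s_β)^n = 1; equivalently it has exactly 2n elements. -/
theorem result {ι M N : Type*} [AddCommGroup M] [AddCommGroup N]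
    (P : RootPairing ι ℤ M N) [Finite ι] (i j : ι) (hli : LinearIndependent ℤ ![P.root i, P.root j])
    (n : ℕ) (hn : IsLeast {m : ℕ | 0 < m ∧ ((Equiv.reflection P i * Equiv.reflection P j) ^ m) • i = i ∧
      ((Equiv.reflection P i * Equiv.reflection P j) ^ m) • j = j} n) :
    Nat.card (Subgroup.closure ({Equiv.reflection P i, Equiv.reflection P j} : Set P.Aut)) = 2 * n := by
  classical
  obtain ⟨a, ha⟩ : ∃ a, a = Equiv.reflection P i := ⟨_, rfl⟩
  obtain ⟨b, hb⟩ : ∃ b, b = Equiv.reflection P j := ⟨_, rfl⟩
  rw [← ha, ← hb] at hn ⊢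
  obtain ⟨r, hr⟩ : ∃ r, r = a * b := ⟨_, rfl⟩
  rw [← hr] at hn
  have haa : a * a = 1 := by rw [ha]; exact H23.RD.refl_mul_self i
  have hbb : b * b = 1 := by rw [hb]; exact H23.RD.refl_mul_self j
  have hainv : a⁻¹ = a := by rw [ha]; exact Equiv.reflection_inv P i
  have hbinv : b⁻¹ = b := by rw [hb]; exact Equiv.reflection_inv P j
  have hne1 : ∀ l : ι, Equiv.reflection P l ≠ 1 := by
    intro l h
    have h1 : Equiv.reflection P l • l = l := by rw [h, one_smul]
    rw [H23.RD.reflection_smul_idx] at h1
    have h2 := congrArg P.root h1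
    rw [H23.RD.root_negIdx] at h2
    have h3 : (2 : ℤ) • P.root l = (2 : ℤ) • 0 := by
      rw [smul_zero, two_smul]
      nth_rewrite 1 [← h2]
      simp
    exact P.ne_zero l (H23.RD.zsmul_inj P two_ne_zero h3)
  -- the determinant of the rank two Cartan matrix is non-zero
  have hD : 4 - P.pairing i j * P.pairing j i ≠ 0 := by
    have hli' : LinearIndependent ℤ (fun t : Fin 2 => P.root (![i, j] t)) := by
      have : (fun t : Fin 2 => P.root (![i, j] t)) = ![P.root i, P.root j] := by
        funext t; fin_cases t <;> rfl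
      rw [this]; exact hli
    have := H23.RD.cartan_det_pos (P := P) ![i, j] hli'
    rw [Matrix.det_fin_two] at this
    simp only [Matrix.of_apply, Matrix.cons_val_zero, Matrix.cons_val_one, P.pairing_same] at this
    intro h0
    linarith
  -- an element of the group fixing `i` and `j` is trivial
  have hfix : ∀ g : P.Aut, g ∈ Subgroup.closure ({a, b} : Set P.Aut) → g • i = i → g • j = j →
      g = 1 := by
    intro g hg hgi hgj
    apply Equiv.weightHom_injective P
    ext x
    show g • x = x
    have hg' : g ∈ Subgroup.closure ((fun l : ι => Equiv.reflection P l) '' {i, j}) := by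
      rw [Set.image_pair, ← ha, ← hb]; exact hg
    have hy := H23.RD.smul_sub_mem_span_of_mem_closure hg' x
    rw [Set.image_pair] at hy
    obtain ⟨c, d, hcd⟩ := Submodule.mem_span_pair.1 hy
    have h1 : P.coroot' i (g • x - x) = 0 := by
      rw [map_sub, sub_eq_zero]
      have := H23.RD.aut_coroot' g x i
      rwa [hgi] at this
    have h2 : P.coroot' j (g • x - x) = 0 := by
      rw [map_sub, sub_eq_zero]
      have := H23.RD.aut_coroot' g x j
      rwa [hgj] at this
    rw [← hcd] at h1 h2
    simp only [map_add, map_smul, P.root_coroot'_eq_pairing, P.pairing_same, smul_eq_mul] at h1 h2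
    have hc : (4 - P.pairing i j * P.pairing j i) * c = 0 := by
      linear_combination 2 * h1 - P.pairing j i * h2
    have hd : (4 - P.pairing i j * P.pairing j i) * d = 0 := by
      linear_combination 2 * h2 - P.pairing i j * h1
    have hc0 : c = 0 := (mul_eq_zero.1 hc).resolve_left hD
    have hd0 : d = 0 := (mul_eq_zero.1 hd).resolve_left hD
    rw [hc0, hd0, zero_smul, zero_smul, add_zero] at hcd
    exact (sub_eq_zero.1 hcd.symm)
  have hrmem : r ∈ Subgroup.closure ({a, b} : Set P.Aut) := by
    rw [hr]
    exact mul_mem (Subgroup.subset_closure (by simp)) (Subgroup.subset_closure (by simp))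
  -- `n` is the order of `r`
  have hord : orderOf r = n := by
    obtain ⟨⟨hn0, hni, hnj⟩, hmin⟩ := hn
    rw [orderOf_eq_iff hn0]
    refine ⟨hfix _ (pow_mem hrmem n) hni hnj, fun m hm hm0 hrm => ?_⟩
    have : m ∈ {m : ℕ | 0 < m ∧ (r ^ m) • i = i ∧ (r ^ m) • j = j} :=
      ⟨hm0, by rw [hrm, one_smul], by rw [hrm, one_smul]⟩
    exact absurd (hmin this) (not_le.2 hm)
  have hn0 : 0 < n := hn.1.1
  -- conjugation by `a` inverts `r`
  have har : a * r * a⁻¹ = r⁻¹ := by
    rw [hr, mul_inv_rev, hainv, hbinv, ← mul_assoc, haa, one_mul]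
  have hconj : ∀ c ∈ Subgroup.zpowers r, a * c = c⁻¹ * a := by
    rintro c ⟨k, rfl⟩
    have h1 : a * r ^ k * a⁻¹ = (r ^ k)⁻¹ := by
      rw [← conj_zpow, har, inv_zpow]
    calc a * r ^ k = a * r ^ k * a⁻¹ * a := by rw [inv_mul_cancel_right]
      _ = (r ^ k)⁻¹ * a := by rw [h1]
  set C : Subgroup P.Aut := Subgroup.zpowers r with hC
  have hrC : r ∈ C := Subgroup.mem_zpowers r
  have haC : a ∉ C := by
    intro haC
    have h1 := hconj a haC
    -- a = a⁻¹ trivial; use commutation with r instead
    have h2 := hconj r hrC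
    have hcomm : a * r = r * a := by
      obtain ⟨k, hk⟩ := haC
      rw [← hk]
      exact (Commute.zpow_left (Commute.refl r) k).eq
    have hr2 : r * r = 1 := by
      have : r * a = r⁻¹ * a := by rw [← hcomm, h2]
      have h3 := mul_right_cancel this
      calc r * r = r * r⁻¹ := by rw [← h3]
        _ = 1 := mul_inv_cancel r
    obtain ⟨k, hk⟩ := haC
    have hr2' : r ^ (2 : ℤ) = 1 := by rw [zpow_two]; exact hr2
    rcases Int.even_or_odd' k with ⟨m, rfl | rfl⟩
    · replace hk : r ^ (2 * m) = a := hk
      rw [zpow_mul, hr2', one_zpow] at hk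
      exact hne1 i (by rw [← ha, ← hk])
    · replace hk : r ^ (2 * m + 1) = a := hk
      rw [zpow_add, zpow_mul, hr2', one_zpow, one_mul, zpow_one] at hk
      -- r = a, so b = 1
      have : b = 1 := by
        have h4 : a * b = a := by rw [← hr]; exact hk
        calc b = a * (a * b) := by rw [← mul_assoc, haa, one_mul]
          _ = 1 := by rw [h4, haa]
      exact hne1 j (by rw [← hb, this])
  -- the group is `C ∪ C a`
  have hH : (Subgroup.closure ({a, b} : Set P.Aut) : Set P.Aut) =
      (C : Set P.Aut) ∪ (fun c => c * a) '' (C : Set P.Aut) := by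
    apply Set.Subset.antisymm
    · intro g hg
      induction hg using Subgroup.closure_induction with
      | mem g hg =>
        rcases hg with rfl | rfl
        · exact Or.inr ⟨1, one_mem _, one_mul _⟩
        · refine Or.inr ⟨r⁻¹, inv_mem hrC, ?_⟩
          show r⁻¹ * a = _
          rw [← hconj r hrC, hr, ← mul_assoc, haa, one_mul]
      | one => exact Or.inl (one_mem _)
      | mul x y _ _ hx hy =>
        rcases hx with hx | ⟨c1, hc1, rfl⟩ <;> rcases hy with hy | ⟨c2, hc2, rfl⟩
        · exact Or.inl (mul_mem hx hy)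
        · exact Or.inr ⟨x * c2, mul_mem hx hc2, mul_assoc _ _ _⟩
        · refine Or.inr ⟨c1 * y⁻¹, mul_mem hc1 (inv_mem hy), ?_⟩
          show c1 * y⁻¹ * a = c1 * a * y
          rw [mul_assoc, mul_assoc, hconj y hy]
        · refine Or.inl ?_
          have : c1 * a * (c2 * a) = c1 * c2⁻¹ := by
            rw [mul_assoc, ← mul_assoc a c2 a, hconj c2 hc2, mul_assoc, haa, mul_one]
          rw [this]
          exact mul_mem hc1 (inv_mem hc2)
      | inv x _ hx =>
        rcases hx with hx | ⟨c1, hc1, rfl⟩
        · exact Or.inl (inv_mem hx)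
        · refine Or.inr ⟨c1, hc1, ?_⟩
          show c1 * a = (c1 * a)⁻¹
          rw [mul_inv_rev, hainv, hconj c1⁻¹ (inv_mem hc1), inv_inv]
    · intro g hg
      have hCle : C ≤ Subgroup.closure ({a, b} : Set P.Aut) := by
        rw [hC, Subgroup.zpowers_le]; exact hrmem
      rcases hg with hg | ⟨c, hc, rfl⟩
      · exact hCle hg
      · exact mul_mem (hCle hc) (Subgroup.subset_closure (by simp))
  have hcardC : Nat.card C = n := by rw [hC, Nat.card_zpowers, hord]
  have hCfin : (C : Set P.Aut).Finite := by
    have : Finite C := Nat.finite_of_card_ne_zero (by rw [hcardC]; exact hn0.ne')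
    exact Set.toFinite _
  have hdisj : Disjoint (C : Set P.Aut) ((fun c => c * a) '' (C : Set P.Aut)) := by
    rw [Set.disjoint_left]
    rintro g hg ⟨c, hc, hcg⟩
    apply haC
    have : a = c⁻¹ * g := by rw [← hcg, inv_mul_cancel_left]
    rw [this]
    exact mul_mem (inv_mem hc) hg
  have h1 : Nat.card (Subgroup.closure ({a, b} : Set P.Aut)) =
      (Subgroup.closure ({a, b} : Set P.Aut) : Set P.Aut).ncard :=
    Nat.card_coe_set_eq _
  have h2 : Nat.card C = (C : Set P.Aut).ncard := Nat.card_coe_set_eq _
  rw [h1, hH, Set.ncard_union_eq hdisj hCfin (hCfin.image _),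
    Set.ncard_image_of_injective _ (mul_left_injective a), ← h2, hcardC]
  ring

end Groth.Agent.S5496
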