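import Groth.Statements.S5499
import Groth.Agent.H23.RootD.Irred
import Groth.Agent.S5465

set_option autoImplicit false
open RootD

namespace Groth.Agent.S5499

/-- For an irreducible datum, where long(α) = ℓ(α)/ℓ(α₀) with ℓ(α₀) minimal: there is a unique
homomorphism u : Γ_0(R) → M^v with u(α) = long(α) α^v for every root α. -/
theorem result {ι M N : Type*} [AddCommGroup M] [AddCommGroup N]
    (P : RootPairing ι ℤ M N) [Finite ι] [Fintype ι]
    (hirr : ∀ R' : Set ι, RootD.IsClosedSub P R' → RootD.IsSymmSub P R' → RootD.IsClosedSub P R'ᶜ →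
      RootD.IsSymmSub P R'ᶜ → R' = ∅ ∨ R' = Set.univ)
    (i₀ : ι) (hmin : ∀ i : ι, P.RootForm (P.root i₀) (P.root i₀) ≤ P.RootForm (P.root i) (P.root i)) :
    ∃! u : Submodule.span ℤ (Set.range P.root) →+ N, ∀ i : ι,
      u ⟨P.root i, Submodule.subset_span (Set.mem_range_self i)⟩ =
        (P.RootForm (P.root i) (P.root i) / P.RootForm (P.root i₀) (P.root i₀)) • P.coroot i := by
  classical
  have hb := H23.RD.rootForm_root_pos P i₀
  have hcases : ∀ i : ι,
      P.RootForm (P.root i) (P.root i) = P.RootForm (P.root i₀) (P.root i₀) * 1 ∨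
      P.RootForm (P.root i) (P.root i) = P.RootForm (P.root i₀) (P.root i₀) * 2 ∨
      P.RootForm (P.root i) (P.root i) = P.RootForm (P.root i₀) (P.root i₀) * 3 ∨
      P.RootForm (P.root i) (P.root i) = P.RootForm (P.root i₀) (P.root i₀) * 4 := by
    intro i
    obtain ⟨w, hw, hno⟩ := H23.RD.exists_weyl_not_orth (P := P) hirr i i₀
    have hB := H23.RD.rootForm_root_smul (P := P) w i
    have hp := H23.RD.pairing_mul_rootForm (P := P) (w • i) i₀
    rw [hB] at hp
    have hne := H23.RD.not_orth_iff.1 hno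
    have hmem := P.pairingIn_pairingIn_mem_set_of_isCrystallographic (w • i) i₀
    rw [H23.RD.pairingIn_int, H23.RD.pairingIn_int] at hmem
    simp only [Set.mem_insert_iff, Set.mem_singleton_iff, Prod.mk.injEq] at hmem
    have hm := hmin i
    rcases hmem with ⟨h1, h2⟩ | ⟨h1, h2⟩ | ⟨h1, h2⟩ | ⟨h1, h2⟩ | ⟨h1, h2⟩ | ⟨h1, h2⟩ | ⟨h1, h2⟩ |
      ⟨h1, h2⟩ | ⟨h1, h2⟩ | ⟨h1, h2⟩ | ⟨h1, h2⟩ | ⟨h1, h2⟩ | ⟨h1, h2⟩ | ⟨h1, h2⟩ | ⟨h1, h2⟩ |
      ⟨h1, h2⟩ | ⟨h1, h2⟩ <;>
    rw [h1, h2] at hp <;> omega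
  have hdvd : ∀ i : ι, P.RootForm (P.root i₀) (P.root i₀) *
      (P.RootForm (P.root i) (P.root i) / P.RootForm (P.root i₀) (P.root i₀)) =
      P.RootForm (P.root i) (P.root i) := by
    intro i
    apply Int.mul_ediv_cancel'
    rcases hcases i with h | h | h | h <;> exact ⟨_, h⟩
  apply Groth.Agent.S5465.result P
    (fun i => (P.RootForm (P.root i) (P.root i) / P.RootForm (P.root i₀) (P.root i₀)) • P.coroot i)
  · intro i
    have h1 : P.root (P.reflectionPerm i i) = -P.root i := H23.RD.root_negIdx P i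
    have h2 : P.coroot (P.reflectionPerm i i) = -P.coroot i := H23.RD.root_negIdx P.flip i
    simp only [h1, h2, map_neg, LinearMap.neg_apply, neg_neg, smul_neg]
  · intro i j k hk
    have hpol : P.RootForm (P.root k) (P.root k) • P.coroot k =
        P.RootForm (P.root i) (P.root i) • P.coroot i +
          P.RootForm (P.root j) (P.root j) • P.coroot j := by
      rw [P.rootForm_self_smul_coroot, P.rootForm_self_smul_coroot, P.rootForm_self_smul_coroot,
        hk, map_add, smul_add]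
    rw [← hdvd i, ← hdvd j, ← hdvd k, mul_smul, mul_smul, mul_smul, ← smul_add] at hpol
    exact H23.RD.zsmul_inj P.flip hb.ne' hpol

end Groth.Agent.S5499
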