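import Groth.Statements.S5500
import Groth.Agent.H23.RootD.Irred

set_option autoImplicit false
open RootD

namespace Groth.Agent.S5500

/-- For a p-morphism between irreducible reduced root data there is a rational constant k with k ·
long(u(α)) = q(α)² · long(α) for every root α; stated as the proportionality q(α)² ℓ(α) ℓ'(u β) =
q(β)² ℓ(β) ℓ'(u α) of the canonical quadratic forms. -/
theorem result {ι M N ι' M' N' : Type*} [AddCommGroup M] [AddCommGroup N] [AddCommGroup M'] [AddCommGroup N']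
    (P : RootPairing ι ℤ M N) (P' : RootPairing ι' ℤ M' N') [Finite ι] [Finite ι'] [Fintype ι] [Fintype ι'] [P.IsReduced] [P'.IsReduced]
    (hirr : ∀ R₁ : Set ι, RootD.IsClosedSub P R₁ → RootD.IsSymmSub P R₁ → RootD.IsClosedSub P R₁ᶜ →
      RootD.IsSymmSub P R₁ᶜ → R₁ = ∅ ∨ R₁ = Set.univ)
    (hirr' : ∀ R₁ : Set ι', RootD.IsClosedSub P' R₁ → RootD.IsSymmSub P' R₁ → RootD.IsClosedSub P' R₁ᶜ →
      RootD.IsSymmSub P' R₁ᶜ → R₁ = ∅ ∨ R₁ = Set.univ)
    (p : ℕ) (hp : 0 < p) (f : M' →ₗ[ℤ] M) (g : N →ₗ[ℤ] N')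
    (hfg : ∀ (m' : M') (n : N), P.toLinearMap (f m') n = P'.toLinearMap m' (g n))
    (u : ι ≃ ι') (q : ι → ℕ) (hq : ∀ i, ∃ e : ℕ, q i = p ^ e)
    (hroot : ∀ i : ι, f (P'.root (u i)) = (q i : ℤ) • P.root i)
    (hcoroot : ∀ i : ι, g (P.coroot i) = (q i : ℤ) • P'.coroot (u i)) (i j : ι) :
    ((q i : ℤ) ^ 2 * P.RootForm (P.root i) (P.root i)) * P'.RootForm (P'.root (u j)) (P'.root (u j)) =
      ((q j : ℤ) ^ 2 * P.RootForm (P.root j) (P.root j)) * P'.RootForm (P'.root (u i)) (P'.root (u i)) := by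
  classical
  have hqpos : ∀ a : ι, (0 : ℤ) < q a := by
    intro a
    obtain ⟨e, he⟩ := hq a
    rw [he]
    exact_mod_cast Nat.pow_pos hp
  have hE : ∀ a b : ι, (q a : ℤ) * P.pairing a b = (q b : ℤ) * P'.pairing (u a) (u b) := by
    intro a b
    have := hfg (P'.root (u a)) (P.coroot b)
    rw [hroot, hcoroot] at this
    simpa using this
  have hB : ∀ a : ι, 0 < P.RootForm (P.root a) (P.root a) := H23.RD.rootForm_root_pos P
  have hB' : ∀ a : ι', 0 < P'.RootForm (P'.root a) (P'.root a) := H23.RD.rootForm_root_pos P'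
  have hstep : ∀ a b : ι, ¬ P.IsOrthogonal a b →
      ((q a : ℤ) ^ 2 * P.RootForm (P.root a) (P.root a)) * P'.RootForm (P'.root (u b)) (P'.root (u b)) =
      ((q b : ℤ) ^ 2 * P.RootForm (P.root b) (P.root b)) * P'.RootForm (P'.root (u a)) (P'.root (u a)) := by
    intro a b hno
    have hx : P.pairing a b ≠ 0 := H23.RD.not_orth_iff.1 hno
    have hy : P.pairing b a ≠ 0 := fun h => hx ((H23.RD.pairing_zero_iff P).1 h)
    have h1 := H23.RD.pairing_mul_rootForm (P := P) a b
    have h2 := H23.RD.pairing_mul_rootForm (P := P') (u a) (u b)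
    have h3 := hE a b
    have h4 := hE b a
    have hx' : P'.pairing (u a) (u b) ≠ 0 := by
      intro h0
      rw [h0, mul_zero] at h3
      exact hx ((mul_eq_zero.1 h3).resolve_left (hqpos a).ne')
    apply mul_right_cancel₀ (mul_ne_zero hx' hy)
    linear_combination (-((q a : ℤ) ^ 2 * P'.pairing (u a) (u b) *
        P'.RootForm (P'.root (u b)) (P'.root (u b)))) * h1 +
      ((q a : ℤ) ^ 2 * P.pairing a b * P.RootForm (P.root b) (P.root b)) * h2 +
      ((q a : ℤ) * P'.pairing (u b) (u a) * P.RootForm (P.root b) (P.root b) *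
        P'.RootForm (P'.root (u a)) (P'.root (u a))) * h3 -
      ((q b : ℤ) * P'.pairing (u a) (u b) * P.RootForm (P.root b) (P.root b) *
        P'.RootForm (P'.root (u a)) (P'.root (u a))) * h4
  have hchain := H23.RD.chain_of_irr (P := P) hirr i j
  induction hchain with
  | refl => rfl
  | tail hab hbc ih =>
    rename_i b c
    have h2 := hstep b c hbc
    have hne : (q b : ℤ) ^ 2 * P.RootForm (P.root b) (P.root b) *
        P'.RootForm (P'.root (u b)) (P'.root (u b)) ≠ 0 :=
      mul_ne_zero (mul_ne_zero (pow_ne_zero 2 (hqpos b).ne') (hB b).ne') (hB' (u b)).ne'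
    apply mul_right_cancel₀ hne
    linear_combination ((q b : ℤ) ^ 2 * P.RootForm (P.root b) (P.root b) *
        P'.RootForm (P'.root (u c)) (P'.root (u c))) * ih +
      ((q b : ℤ) ^ 2 * P.RootForm (P.root b) (P.root b) *
        P'.RootForm (P'.root (u i)) (P'.root (u i))) * h2

end Groth.Agent.S5500
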