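import Groth.Statements.S5501
import Mathlib

set_option autoImplicit false
universe u v w
open RootD

namespace Groth.Agent.S5501

open Submodule in
/-- The adjoint root datum supported on the root lattice. -/
noncomputable def adjP {ι : Type u} {M : Type v} {N : Type w} [AddCommGroup M] [AddCommGroup N]
    (P : RootPairing ι ℤ M N) [Finite ι] [IsAddTorsionFree M]
    [Module.IsReflexive ℤ (span ℤ (Set.range P.root))] :
    RootPairing ι ℤ (span ℤ (Set.range P.root)) (Module.Dual ℤ (span ℤ (Set.range P.root))) where
  toLinearMap := Module.Dual.eval ℤ _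
  root := ⟨fun i => ⟨P.root i, subset_span (Set.mem_range_self i)⟩,
    fun i j h => P.root.injective (Subtype.ext_iff.1 h)⟩
  coroot := ⟨fun i => (span ℤ (Set.range P.root)).subtype.dualMap (P.toLinearMap.flip (P.coroot i)),
    fun i j h => by
      have := P.injOn_dualMap_subtype_span_root_coroot (Set.mem_range_self i)
        (Set.mem_range_self j) h
      exact P.coroot.injective this⟩
  root_coroot_two := fun i => by simpa using P.root_coroot_two i
  reflectionPerm := P.reflectionPerm
  reflectionPerm_root := fun i j => by
    apply Subtype.ext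
    simpa using P.reflectionPerm_root i j
  reflectionPerm_coroot := fun i j => by
    ext x
    have := congrArg (P.toLinearMap x) (P.reflectionPerm_coroot i j)
    simpa using this

open Submodule in
noncomputable def adjHom {ι : Type u} {M : Type v} {N : Type w} [AddCommGroup M] [AddCommGroup N]
    (P : RootPairing ι ℤ M N) [Finite ι] [IsAddTorsionFree M]
    [Module.IsReflexive ℤ (span ℤ (Set.range P.root))] :
    RootPairing.Hom (adjP P) P where
  weightMap := (span ℤ (Set.range P.root)).subtype
  coweightMap := (span ℤ (Set.range P.root)).subtype.dualMap ∘ₗ P.toLinearMap.flip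
  indexEquiv := Equiv.refl ι
  weight_coweight_transpose := by
    ext n x
    simp [adjP]
  root_weightMap := by ext i; rfl
  coroot_coweightMap := by ext i; rfl

open Submodule in
theorem aux {ι : Type u} {M : Type v} {N : Type w} [AddCommGroup M] [AddCommGroup N]
    (P : RootPairing ι ℤ M N) [Finite ι] [Module.Finite ℤ M] [Module.Finite ℤ N]
    (hss : Module.finrank ℤ (Submodule.span ℤ (Set.range P.root)) = Module.finrank ℤ M) :
    Submodule.span ℤ (Set.range P.root) = ⊤ ↔
      ∀ (ι' : Type u) (M' N' : Type v) [AddCommGroup M'] [AddCommGroup N'] [Finite ι']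
        [Module.Finite ℤ M'] [Module.Finite ℤ N'] (P' : RootPairing ι' ℤ M' N')
        (f : RootPairing.Hom P' P),
        Function.Injective f.weightMap → Finite (M ⧸ LinearMap.range f.weightMap) →
          Function.Bijective f.weightMap := by
  have : Module.IsReflexive ℤ M := .of_isPerfPair P.toLinearMap
  have : IsAddTorsionFree M := .of_isTorsionFree ℤ M
  constructor
  · intro htop ι' M' N' _ _ _ _ _ P' f hinj _
    refine ⟨hinj, ?_⟩
    rw [← LinearMap.range_eq_top, eq_top_iff, ← htop, Submodule.span_le]
    rintro _ ⟨j, rfl⟩
    refine ⟨P'.root (f.indexEquiv.symm j), ?_⟩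
    rw [RootPairing.Hom.root_weightMap_apply]; simp
  · intro h
    have hr : LinearMap.range (adjHom P).weightMap = span ℤ (Set.range P.root) :=
      Submodule.range_subtype _
    have hfin : Finite (M ⧸ LinearMap.range (adjHom P).weightMap) := by
      rw [hr]; exact Submodule.finiteQuotientOfFreeOfRankEq _ hss
    have hb := h ι _ _ (adjP P) (adjHom P) (Submodule.subtype_injective _) hfin
    have hs := hb.2
    rw [← LinearMap.range_eq_top, hr] at hs
    exact hs


/-- Adjoint case; the simply connected case is dual: a semisimple root datum R is adjoint if and only if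
every isogeny R' → R is an isomorphism. -/
theorem result {ι : Type u} {M : Type v} {N : Type w} [AddCommGroup M] [AddCommGroup N]
    (P : RootPairing ι ℤ M N) [Finite ι] [Module.Finite ℤ M] [Module.Finite ℤ N]
    (hss : Module.finrank ℤ (Submodule.span ℤ (Set.range P.root)) = Module.finrank ℤ M) :
    Submodule.span ℤ (Set.range P.root) = ⊤ ↔
      ∀ (ι' : Type u) (M' N' : Type v) [AddCommGroup M'] [AddCommGroup N'] [Finite ι']
        [Module.Finite ℤ M'] [Module.Finite ℤ N'] (P' : RootPairing ι' ℤ M' N') (f : RootPairing.Hom P' P),
        Function.Injective f.weightMap → Finite (M ⧸ LinearMap.range f.weightMap) →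
          Function.Bijective f.weightMap := by
  exact aux P hss

end Groth.Agent.S5501
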