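import Groth.Statements.S5502
import Mathlib
import Groth.Agent.H23.RootD.Dual

set_option autoImplicit false
open RootD

namespace Groth.Agent.S5502

open Groth.Agent.H23.RD RootPairing in
theorem aux {ι M N : Type*} [AddCommGroup M] [AddCommGroup N]
    (P : RootPairing ι ℤ M N) [Finite ι] [Fintype ι] (Δ : Set ι) (hΔ : RootD.IsSimpleSys P Δ)
    (k : ι) (c : ι →₀ ℤ) (hc : ↑c.support ⊆ Δ)
    (hck : Finsupp.linearCombination ℤ P.root c = P.root k)
    (i : ι) (hi : i ∈ Δ) :
    ∃ d m : ℤ, (m = 1 ∨ m = 2) ∧ (RootD.IsIndiv P.flip i → m = 1) ∧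
      P.RootForm (P.root k) (P.root k) * d = c i * P.RootForm (P.root i) (P.root i) * m := by
  classical
  have : Module.IsReflexive ℤ M := .of_isPerfPair P.toLinearMap
  have : Module.IsReflexive ℤ N := .of_isPerfPair P.flip.toLinearMap
  have : IsAddTorsionFree M := .of_isTorsionFree ℤ M
  have : IsAddTorsionFree N := .of_isTorsionFree ℤ N
  -- Step 1
  have hstar : P.RootForm (P.root k) (P.root k) • P.coroot k =
      ∑ j ∈ c.support, (c j * P.RootForm (P.root j) (P.root j)) • P.coroot j := by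
    rw [P.rootForm_self_smul_coroot k, ← hck, Finsupp.linearCombination_apply, Finsupp.sum, map_sum,
      Finset.smul_sum]
    refine Finset.sum_congr rfl fun j _ => ?_
    rw [map_smul, mul_smul, P.rootForm_self_smul_coroot j, smul_comm]
  -- Step 2
  have hch : ∀ j ∈ Δ, ∃ (s : ι) (m : ℤ), s ∈ indDual P Δ ∧ (m = 1 ∨ m = 2) ∧
      P.coroot j = m • P.coroot s ∧ (RootD.IsIndiv P.flip j → m = 1) := by
    intro j hj
    by_cases hind : RootD.IsIndiv P.flip j
    · exact ⟨j, 1, ⟨j, hj, Or.inl ⟨rfl, hind⟩⟩, Or.inl rfl, by simp, fun _ => rfl⟩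
    · have hind' := hind
      unfold RootD.IsIndiv at hind'
      push_neg at hind'
      obtain ⟨k', hk'⟩ := hind'
      exact ⟨k', 2, ⟨j, hj, Or.inr hk'⟩, Or.inr rfl, hk'.symm, fun h => absurd h hind⟩
  choose! σ mm hσ hmm hcor hindiv using hch
  -- Step 3
  have hΔ' := isSimpleSys_flip_indDual hΔ
  obtain ⟨A, hA⟩ : ∃ A : ι →₀ ℤ, A = P.RootForm (P.root k) (P.root k) • coeff hΔ' k := ⟨_, rfl⟩
  obtain ⟨B, hB⟩ : ∃ B : ι →₀ ℤ, B = ∑ j ∈ c.support,
      Finsupp.single (σ j) (c j * P.RootForm (P.root j) (P.root j) * mm j) := ⟨_, rfl⟩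
  have hAsupp : ↑A.support ⊆ indDual P Δ := by
    intro x hx
    rw [hA] at hx
    exact coeff_supp hΔ' k (Finsupp.support_smul hx)
  have hBsupp : ↑B.support ⊆ indDual P Δ := by
    intro x hx
    rw [hB] at hx
    have hx' := Finsupp.support_finset_sum hx
    rw [Finset.mem_biUnion] at hx'
    obtain ⟨j, hj, hxj⟩ := hx'
    have := Finsupp.support_single_subset hxj
    rw [Finset.mem_singleton] at this
    rw [this]; exact hσ j (hc hj)
  have h1 : lc P.flip A = P.RootForm (P.root k) (P.root k) • P.coroot k := by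
    have := lc_coeff hΔ' k
    simp only [lc] at this ⊢
    rw [hA, map_smul, this]; rfl
  have h2 : lc P.flip B =
      ∑ j ∈ c.support, (c j * P.RootForm (P.root j) (P.root j)) • P.coroot j := by
    simp only [lc]
    rw [hB, map_sum]
    refine Finset.sum_congr rfl fun j hj => ?_
    rw [Finsupp.linearCombination_single, mul_smul]
    conv_rhs => rw [hcor j (hc hj)]
    rfl
  have hAB : A = B := coeff_unique hΔ' hAsupp hBsupp (h1.trans (hstar.trans h2.symm))
  -- Step 4
  have hroot : ∀ j ∈ Δ, P.root (σ j) = mm j • P.root j := fun j hj =>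
    (coroot_eq_smul_coroot_iff (P := P)).1 (hcor j hj)
  have hmm0 : ∀ j ∈ Δ, mm j ≠ 0 := fun j hj h => by
    rcases hmm j hj with h' | h' <;> omega
  have hinj : ∀ j ∈ Δ, σ j = σ i → j = i := by
    intro j hj hji
    have e : lc P (Finsupp.single j (mm j)) = lc P (Finsupp.single i (mm i)) := by
      simp only [lc, Finsupp.linearCombination_single]
      rw [← hroot j hj, ← hroot i hi, hji]
    have hs : ∀ a ∈ Δ, ∀ b : ℤ, (↑(Finsupp.single a b).support : Set ι) ⊆ Δ := by
      intro a ha b x hx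
      have := Finsupp.support_single_subset hx
      rw [Finset.mem_singleton] at this
      rw [this]; exact ha
    have e' := coeff_unique hΔ (hs j hj _) (hs i hi _) e
    have e'' := DFunLike.congr_fun e' j
    rw [Finsupp.single_eq_same, Finsupp.single_apply] at e''
    by_contra hne
    rw [if_neg (fun h => hne h.symm)] at e''
    exact hmm0 j hj e''
  have hAe : A (σ i) = P.RootForm (P.root k) (P.root k) * coeff hΔ' k (σ i) := by
    rw [hA, Finsupp.smul_apply, smul_eq_mul]
  have hBe : B (σ i) = c i * P.RootForm (P.root i) (P.root i) * mm i := by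
    rw [hB, Finsupp.finset_sum_apply]
    by_cases hic : i ∈ c.support
    · rw [Finset.sum_eq_single_of_mem i hic]
      · rw [Finsupp.single_eq_same]
      · intro j hj hji
        rw [Finsupp.single_apply, if_neg]
        intro h; exact hji (hinj j (hc hj) h)
    · have h0 : c i = 0 := Finsupp.notMem_support_iff.1 hic
      rw [h0]; simp only [zero_mul]
      apply Finset.sum_eq_zero
      intro j hj
      rw [Finsupp.single_apply, if_neg]
      intro h; exact hic ((hinj j (hc hj) h) ▸ hj)
  refine ⟨coeff hΔ' k (σ i), mm i, hmm i hi, fun h => hindiv i hi h, ?_⟩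
  rw [← hAe, ← hBe, hAB]


/-- If β = Σ_{α ∈ Δ} a_α α along a system of simple roots Δ, then ℓ(β) divides 2 a_α ℓ(α), and 2ℓ(β)
divides it when α^v is indivisible (ℓ the canonical quadratic form). -/
theorem result {ι M N : Type*} [AddCommGroup M] [AddCommGroup N]
    (P : RootPairing ι ℤ M N) [Finite ι] [Fintype ι] (Δ : Set ι) (hΔ : RootD.IsSimpleSys P Δ)
    (k : ι) (c : ι →₀ ℤ) (hc : ↑c.support ⊆ Δ) (hck : Finsupp.linearCombination ℤ P.root c = P.root k)
    (i : ι) (hi : i ∈ Δ) :
    P.RootForm (P.root k) (P.root k) ∣ 2 * c i * P.RootForm (P.root i) (P.root i) ∧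
      (RootD.IsIndiv P.flip i → 2 * P.RootForm (P.root k) (P.root k) ∣ 2 * c i * P.RootForm (P.root i) (P.root i)) := by
  obtain ⟨d, m, hm, hind, h⟩ := aux P Δ hΔ k c hc hck i hi
  refine ⟨?_, fun hI => ?_⟩
  · rcases hm with rfl | rfl
    · exact ⟨2 * d, by linear_combination (-2) * h⟩
    · exact ⟨d, by linear_combination (-1) * h⟩
  · have := hind hI; subst this
    exact ⟨d, by linear_combination (-2) * h⟩

end Groth.Agent.S5502
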