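import Groth.Statements.S5503
import Mathlib

set_option autoImplicit false
open RootPairing
open scoped Pointwise
open RootD

namespace Groth.Agent.S5503

/-- For an automorphism u of a root datum and a root α, u s_α u⁻¹ = s_{u(α)}; hence W(R) is a normal
subgroup of Aut(R). -/
theorem result {ι M N : Type*} [AddCommGroup M] [AddCommGroup N]
    (P : RootPairing ι ℤ M N) [Finite ι] (u : P.Aut) (i : ι) :
    u * Equiv.reflection P i * u⁻¹ = Equiv.reflection P (u • i) := by
  apply RootPairing.Equiv.weightHom_injective P
  rw [map_mul, map_mul, map_inv]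
  apply LinearEquiv.ext
  intro x
  obtain ⟨y, rfl⟩ : ∃ y, (Equiv.weightHom P u) y = x := ⟨(Equiv.weightHom P u).symm x, by simp⟩
  have hU : ∀ z, (Equiv.weightHom P u) z = u.weightMap z := fun z => rfl
  have h1 : ((Equiv.weightHom P u) * (Equiv.weightHom P (Equiv.reflection P i)) *
      (Equiv.weightHom P u)⁻¹) ((Equiv.weightHom P u) y) =
      (Equiv.weightHom P u) (P.reflection i y) := by
    simp only [LinearEquiv.mul_apply]
    congr 1
    have : (Equiv.weightHom P u)⁻¹ ((Equiv.weightHom P u) y) = y := by
      change (Equiv.weightHom P u).symm ((Equiv.weightHom P u) y) = y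
      simp
    rw [this]
    rfl
  rw [h1]
  change u.weightMap (P.reflection i y) = P.reflection (u • i) (u.weightMap y)
  rw [RootPairing.reflection_apply, RootPairing.reflection_apply, map_sub, map_smul]
  have h2 : u.weightMap (P.root i) = P.root (u • i) :=
    RootPairing.Hom.root_weightMap_apply P P i u.toHom
  have h3 : u.coweightMap (P.coroot (u • i)) = P.coroot i := by
    have := RootPairing.Hom.coroot_coweightMap_apply P P (u • i) u.toHom
    rw [this]
    congr 1
    exact u.indexEquiv.symm_apply_apply i
  have h4 : P.toLinearMap (u.weightMap y) (P.coroot (u • i)) = P.toLinearMap y (P.coroot i) := by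
    have := RootPairing.Hom.weight_coweight_transpose_apply P P (P.coroot (u • i)) u.toHom
    have := congrArg (fun φ => φ y) this
    simp only [h3] at this
    simpa using this
  rw [h2]
  have h5 : (P.coroot' (u • i)) ((u : P.Aut).weightMap y) = (P.coroot' i) y := by
    simpa [RootPairing.coroot'] using h4
  rw [h5]

end Groth.Agent.S5503
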