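import Groth.Statements.S5504
import Mathlib
import Groth.Agent.H23.RootD.Words

set_option autoImplicit false
open RootPairing
open scoped Pointwise
open RootD

namespace Groth.Agent.S5504

open Groth.Agent.H23.RD in
theorem aux {ι M N : Type*} [AddCommGroup M] [AddCommGroup N]
    (P : RootPairing ι ℤ M N) [Finite ι] (Δ : Set ι) (hΔ : RootD.IsSimpleSys P Δ)
    (l₀ : List ι) (i : ι) (hl₀ : ∀ a ∈ l₀, a ∈ Δ) (hi : i ∈ Δ)
    (hmin : ∀ l' : List ι, (∀ a ∈ l', a ∈ Δ) →
      wprod P l' = wprod P (l₀ ++ [i]) → (l₀ ++ [i]).length ≤ l'.length) :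
    -P.root (wprod P (l₀ ++ [i]) • i) ∈ RootD.natSpan P Δ := by
  rcases hΔ.mem_or_neg_mem (wprod P (l₀ ++ [i]) • i) with hpos | hneg
  · exfalso
    have h1 : wprod P (l₀ ++ [i]) • i = P.reflectionPerm (wprod P l₀ • i) (wprod P l₀ • i) := by
      rw [wprod_append, wprod_cons, wprod_nil, mul_one, mul_smul, reflection_smul_idx,
        smul_negIdx]
    have h2 : P.reflectionPerm (wprod P l₀ • i) (wprod P l₀ • i) ∈ RootD.posOf P Δ := by
      rw [← h1]; exact hpos
    have h3 : wprod P l₀ • i ∉ RootD.posOf P Δ := (negIdx_mem_posOf_iff hΔ).mp h2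
    obtain ⟨L', hL', hlen, heq⟩ := deletion hΔ hi l₀ hl₀ h3
    have h4 := hmin L' hL' (by rw [← heq, wprod_append, wprod_cons, wprod_nil, mul_one])
    rw [List.length_append, List.length_singleton] at h4
    omega
  · exact hneg


/-- Stated for the group generated by the simple reflections (rather than for the abstractly presented
group): if w = s_{α_1} ⋯ s_{α_m} is a word of minimal length in the simple reflections, then w(α_m)
is a negative root. -/
theorem result {ι M N : Type*} [AddCommGroup M] [AddCommGroup N]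
    (P : RootPairing ι ℤ M N) [Finite ι] (Δ : Set ι) (hΔ : RootD.IsSimpleSys P Δ)
    (l : List ι) (hl : ∀ a ∈ l, a ∈ Δ) (hne : l ≠ [])
    (hmin : ∀ l' : List ι, (∀ a ∈ l', a ∈ Δ) →
      (l'.map fun a => Equiv.reflection P a).prod = (l.map fun a => Equiv.reflection P a).prod → l.length ≤ l'.length) :
    -P.root ((l.map fun a => Equiv.reflection P a).prod • l.getLast hne) ∈ RootD.natSpan P Δ := by
  obtain ⟨l₀, i, rfl⟩ : ∃ l₀ i, l = l₀ ++ [i] :=
    ⟨l.dropLast, l.getLast hne, (List.dropLast_append_getLast hne).symm⟩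
  have hi : i ∈ Δ := hl i (by simp)
  have hl₀ : ∀ a ∈ l₀, a ∈ Δ := fun a ha => hl a (by simp [ha])
  have h := aux P Δ hΔ l₀ i hl₀ hi hmin
  rw [List.getLast_append_singleton]
  exact h

end Groth.Agent.S5504
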