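import Groth.Statements.S5505
import Mathlib

set_option autoImplicit false
open RootD

namespace Groth.Agent.S5505

/-- A subset of roots which, together with its complement, is closed and symmetric contains with any
root every root not orthogonal to it; so it is a union of irreducible components. -/
theorem result {ι M N : Type*} [AddCommGroup M] [AddCommGroup N]
    (P : RootPairing ι ℤ M N) [Finite ι] (R' : Set ι) (hc : RootD.IsClosedSub P R')
    (hs : RootD.IsSymmSub P R') (hc' : RootD.IsClosedSub P R'ᶜ) (hs' : RootD.IsSymmSub P R'ᶜ)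
    (i j : ι) (hi : i ∈ R') (hij : ¬ P.IsOrthogonal i j) : j ∈ R' := by
  classical
  by_contra hj
  have hj' : j ∈ R'ᶜ := hj
  have hneg : ∀ a : ι, P.root (P.reflectionPerm a a) = -P.root a := by
    intro a
    rw [RootPairing.root_reflectionPerm, RootPairing.reflection_apply_self]
  have hp : P.pairing i j ≠ 0 := by
    intro h0
    exact hij ⟨h0, (P.pairing_eq_zero_iff' (i := i) (j := j)).mp h0⟩
  have hne : i ≠ j := by
    rintro rfl
    exact hj hi
  have hne' : P.root i ≠ -P.root j := by
    intro h
    have : j = P.reflectionPerm i i := by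
      apply P.root.injective
      rw [hneg, h, neg_neg]
    exact hj (this ▸ hs hi)
  have hmem : P.root i + P.root j ∈ Set.range P.root ∨ P.root i - P.root j ∈ Set.range P.root := by
    by_contra hcon
    push_neg at hcon
    exact hp (P.pairing_eq_zero_of_add_notMem_of_sub_notMem hne hne' hcon.1 hcon.2)
  rcases hmem with ⟨k, hk⟩ | ⟨k, hk⟩
  · by_cases hkR : k ∈ R'
    · -- α j = α k + α(-i)
      apply hj
      refine hc hkR (hs hi) ?_
      rw [hneg, hk]; abel
    · -- α i = α k + α(-j)
      have : i ∈ R'ᶜ := by
        refine hc' (show k ∈ R'ᶜ from hkR) (hs' hj') ?_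
        rw [hneg, hk]; abel
      exact this hi
  · by_cases hkR : k ∈ R'
    · -- α j = α i + α(-k)
      apply hj
      refine hc hi (hs hkR) ?_
      rw [hneg, hk]; abel
    · -- α i = α k + α j
      have : i ∈ R'ᶜ := by
        refine hc' (show k ∈ R'ᶜ from hkR) hj' ?_
        rw [hk]; abel
      exact this hi

end Groth.Agent.S5505
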