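import Groth.Statements.S5506
import Mathlib

set_option autoImplicit false
open RootD

namespace Groth.Agent.S5506

/-- The class of a root under 'joined by a chain of pairwise non-orthogonal roots' is closed and
symmetric, and so is its complement; these classes are the irreducible components. -/
theorem result {ι M N : Type*} [AddCommGroup M] [AddCommGroup N]
    (P : RootPairing ι ℤ M N) [Finite ι] (i : ι) :
    RootD.IsClosedSub P {j : ι | Relation.ReflTransGen (fun a b : ι => ¬ P.IsOrthogonal a b) i j} ∧
      RootD.IsSymmSub P {j : ι | Relation.ReflTransGen (fun a b : ι => ¬ P.IsOrthogonal a b) i j} ∧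
      RootD.IsClosedSub P {j : ι | Relation.ReflTransGen (fun a b : ι => ¬ P.IsOrthogonal a b) i j}ᶜ ∧
      RootD.IsSymmSub P {j : ι | Relation.ReflTransGen (fun a b : ι => ¬ P.IsOrthogonal a b) i j}ᶜ := by
  classical
  have hneg : ∀ a : ι, P.root (P.reflectionPerm a a) = -P.root a := by
    intro a
    rw [RootPairing.root_reflectionPerm, RootPairing.reflection_apply_self]
  have hnegneg : ∀ a : ι, P.reflectionPerm (P.reflectionPerm a a) (P.reflectionPerm a a) = a := by
    intro a
    apply P.root.injective
    rw [hneg, hneg, neg_neg]
  -- j and -j are not orthogonal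
  have hself : ∀ a : ι, ¬ P.IsOrthogonal a (P.reflectionPerm a a) := by
    intro a h
    have h1 := h.1
    rw [RootPairing.pairing_reflectionPerm_self_right, RootPairing.pairing_same] at h1
    norm_num at h1
  -- if α k = α a + α b then k is non-orthogonal to a or to b
  have hsum : ∀ a b k : ι, P.root k = P.root a + P.root b →
      ¬ P.IsOrthogonal a k ∨ ¬ P.IsOrthogonal b k := by
    intro a b k hk
    by_contra hcon
    push_neg at hcon
    have h2 : P.pairing k k = 2 := P.pairing_same k
    have h3 : P.pairing k k = P.pairing a k + P.pairing b k := by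
      rw [← RootPairing.root_coroot_eq_pairing, ← RootPairing.root_coroot_eq_pairing,
        ← RootPairing.root_coroot_eq_pairing, hk, map_add, LinearMap.add_apply]
    rw [h3, hcon.1.1, hcon.2.1] at h2
    norm_num at h2
  have hsymm : ∀ a b : ι, ¬ P.IsOrthogonal a b → ¬ P.IsOrthogonal b a := by
    intro a b h h'
    exact h ((P.isOrthogonal_symm _ _).mp h')
  set S : Set ι := {j : ι | Relation.ReflTransGen (fun a b : ι => ¬ P.IsOrthogonal a b) i j} with hS
  have hS1 : RootD.IsSymmSub P S := by
    intro j hj
    exact Relation.ReflTransGen.tail hj (hself j)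
  have hS2 : RootD.IsClosedSub P S := by
    intro a b k ha hb hk
    rcases hsum a b k hk with h | h
    · exact Relation.ReflTransGen.tail ha h
    · exact Relation.ReflTransGen.tail hb h
  refine ⟨hS2, hS1, ?_, ?_⟩
  · intro a b k ha hb hk hkS
    rcases hsum a b k hk with h | h
    · exact ha (Relation.ReflTransGen.tail hkS (hsymm _ _ h))
    · exact hb (Relation.ReflTransGen.tail hkS (hsymm _ _ h))
  · intro j hj hjS
    apply hj
    have := hS1 hjS
    rwa [hnegneg] at this

end Groth.Agent.S5506
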