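import Groth.Statements.S5507
import Mathlib
import Groth.Agent.H23.RootD.Words

set_option autoImplicit false
open RootD

namespace Groth.Agent.S5507

open Groth.Agent.H23.RD Matrix in
theorem aux {ι M N : Type*} [AddCommGroup M] [AddCommGroup N]
    (P : RootPairing ι ℤ M N) [Fintype ι] (Δ : Finset ι) (hΔ : RootD.IsSimpleSys P (↑Δ : Set ι)) :
    (∀ a : ↥Δ, 0 < P.RootForm (P.root a) (P.root a)) ∧
      (Matrix.of fun (a b : ↥Δ) =>
        P.RootForm (P.root a) (P.root a) * P.pairing (b : ι) (a : ι)).IsSymm ∧
      (Matrix.of fun (a b : ↥Δ) =>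
        P.RootForm (P.root a) (P.root a) * P.pairing (b : ι) (a : ι)).PosDef := by
  classical
  have hent : ∀ a b : ↥Δ, P.RootForm (P.root a) (P.root a) * P.pairing (b : ι) (a : ι) =
      2 * P.RootForm (P.root b) (P.root a) := by
    intro a b; rw [two_mul_rootForm P b a]; ring
  refine ⟨fun a => rootForm_root_pos P a, ?_, ?_⟩
  · ext a b
    simp only [Matrix.transpose_apply, Matrix.of_apply]
    rw [hent, hent, rootForm_comm]
  · apply Matrix.PosDef.of_dotProduct_mulVec_pos
    · ext a b
      simp only [Matrix.conjTranspose_apply, Matrix.of_apply, star_trivial]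
      rw [hent, hent, rootForm_comm]
    · intro x hx
      obtain ⟨v, hv⟩ : ∃ v : M, v = ∑ a : ↥Δ, x a • P.root a := ⟨_, rfl⟩
      have hvv : P.RootForm v v =
          ∑ a : ↥Δ, ∑ b : ↥Δ, x a * (x b * P.RootForm (P.root a) (P.root b)) := by
        rw [hv]
        simp only [map_sum, LinearMap.sum_apply, map_smul, LinearMap.smul_apply, smul_eq_mul,
          Finset.mul_sum]
        refine Finset.sum_congr rfl fun a _ => Finset.sum_congr rfl fun b _ => ?_
        rw [rootForm_comm P (P.root b) (P.root a)]
      have hval : star x ⬝ᵥ ((Matrix.of fun (a b : ↥Δ) =>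
          P.RootForm (P.root a) (P.root a) * P.pairing (b : ι) (a : ι)) *ᵥ x) =
          2 * P.RootForm v v := by
        rw [hvv]
        simp only [dotProduct, Matrix.mulVec, Pi.star_apply, star_trivial, Matrix.of_apply, hent]
        rw [Finset.mul_sum]
        refine Finset.sum_congr rfl fun a _ => ?_
        rw [Finset.mul_sum, Finset.mul_sum]
        refine Finset.sum_congr rfl fun b _ => ?_
        rw [rootForm_comm P (P.root b) (P.root a)]
        ring
      rw [hval]
      have hvne : v ≠ 0 := by
        intro h0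
        apply hx
        have hli : LinearIndependent ℤ (fun a : ↥Δ => P.root (a : ι)) := hΔ.linInd
        exact funext (Fintype.linearIndependent_iff.1 hli x (hv ▸ h0))
      have hvmem : v ∈ P.rootSpan ℤ := by
        rw [hv]
        exact sum_mem (fun a _ => Submodule.smul_mem _ _ (root_mem_rootSpan P _))
      have := P.rootForm_pos_of_ne_zero hvmem hvne
      linarith


/-- For a system of simple roots Δ there are positive integers m_α (the lengths) such that the matrix
(m_α a_{α,β}) with a_{α,β} = (α^v, β) is symmetric and positive definite. -/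
theorem result {ι M N : Type*} [AddCommGroup M] [AddCommGroup N]
    (P : RootPairing ι ℤ M N) [Finite ι] (Δ : Finset ι) (hΔ : RootD.IsSimpleSys P (↑Δ : Set ι)) :
    ∃ m : ↥Δ → ℤ, (∀ a, 0 < m a) ∧
      (Matrix.of fun (a b : ↥Δ) => m a * P.pairing (b : ι) (a : ι)).IsSymm ∧
      (Matrix.of fun (a b : ↥Δ) => m a * P.pairing (b : ι) (a : ι)).PosDef := by
  classical
  have := Fintype.ofFinite ι
  obtain ⟨h1, h2, h3⟩ := aux P Δ hΔ
  exact ⟨fun a => P.RootForm (P.root a) (P.root a), h1, h2, h3⟩

end Groth.Agent.S5507
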