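import Groth.Statements.S5578
import Mathlib.CategoryTheory.Limits.Shapes.Diagonal
import Mathlib.CategoryTheory.Limits.Shapes.Pullback.Iso

set_option autoImplicit false
open CategoryTheory CategoryTheory.Limits Opposite
universe u
open ToposFin

namespace Groth.Agent.S5578

theorem isQC_of_iso {C : Type u} [SmallCategory C] {J : GrothendieckTopology C}
    {X X' : ToposFin.Sh J} (φ : X' ⟶ X) [IsIso φ] (hX : ToposFin.IsQC X) : ToposFin.IsQC X' := by
  intro ι F π' hepi
  have := hepi
  have e1 : Sigma.desc (fun i => π' i ≫ φ) = Sigma.desc π' ≫ φ := by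
    apply Sigma.hom_ext
    intro i
    simp
  have h1 : Epi (Sigma.desc (fun i => π' i ≫ φ)) := by rw [e1]; infer_instance
  obtain ⟨s, hs⟩ := hX ι F (fun i => π' i ≫ φ) h1
  have := hs
  refine ⟨s, ?_⟩
  have e2 : Sigma.desc (fun i : s => π' i) = Sigma.desc (fun i : s => π' i ≫ φ) ≫ inv φ := by
    apply Sigma.hom_ext
    intro i
    simp
  rw [e2]; infer_instance

/-- For the topos of sheaves of sets on a small site: every monomorphism is quasi-separated, i.e. its
diagonal is a quasi-compact morphism. -/
theorem result {C : Type u} [SmallCategory C] {J : GrothendieckTopology C}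
    {X Y : ToposFin.Sh J} (u : X ⟶ Y) [Mono u] : ToposFin.IsQSHom u := by
  intro Y' g hY'
  exact isQC_of_iso (pullback.snd (pullback.diagonal u) g) hY'

end Groth.Agent.S5578
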