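import Groth.Statements.S5580
import Groth.Agent.H25.ToposFin2

set_option autoImplicit false
open CategoryTheory CategoryTheory.Limits Opposite
universe u
open ToposFin

namespace Groth.Agent.S5580

/-- Quasi-compact and coherent cases: for the topos of sheaves of sets on a small site: let (X_i) be a
finite family of objects with coproduct X (given as a colimit cofan) and f : X -> Y a morphism with
components f_i : X_i -> Y. Then f is quasi-compact (resp. coherent) if and only if every f_i is. -/
theorem result {C : Type u} [SmallCategory C] {J : GrothendieckTopology C}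
    {Y : ToposFin.Sh J} {n : ℕ} (X : Fin n → ToposFin.Sh J) (c : Cofan X) (hc : IsColimit c)
    (f : c.pt ⟶ Y) :
    (ToposFin.IsQCHom f ↔ ∀ i, ToposFin.IsQCHom (c.inj i ≫ f)) ∧
    (ToposFin.IsCohHom f ↔ ∀ i, ToposFin.IsCohHom (c.inj i ≫ f)) := by
  have hqc : ToposFin.IsQCHom f ↔ ∀ i, ToposFin.IsQCHom (c.inj i ≫ f) := by
    simp only [H25.TF.isQCHom_iff]
    constructor
    · intro hf i
      exact (H25.TF.qcHom J).comp_mem _ _ (H25.TF.inj_qcHom c hc i) hf
    · intro h
      exact H25.TF.qcHom_of_finite_cov_source f c.inj (H25.TF.cov_inj c hc) h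
  have hqs : ToposFin.IsQSHom f ↔ ∀ i, ToposFin.IsQSHom (c.inj i ≫ f) := by
    simp only [H25.TF.isQSHom_iff]
    constructor
    · intro hf i
      have := H25.TF.mono_inj c hc i
      exact (H25.TF.qsHom J).comp_mem _ _ (H25.TF.qsHom_of_mono _) hf
    · exact H25.TF.qsHom_of_inj c hc f
  refine ⟨hqc, ?_⟩
  unfold ToposFin.IsCohHom
  rw [hqc, hqs]
  exact forall_and.symm

end Groth.Agent.S5580
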