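import Groth.Statements.S5582
import Groth.Agent.H25.ToposFin9

set_option autoImplicit false
open CategoryTheory CategoryTheory.Limits Opposite
universe u
open ToposFin

namespace Groth.Agent.S5582

/-- Equivalence of (i), (ii bis) and (iii), for the topos of sheaves of sets on a small site admitting a
generating family of coherent objects: the coequalizer of every pair of arrows between coherent
objects is coherent if and only if every object X for which Hom(X, -) commutes with small filtered
colimits is coherent; and every object is a small filtered colimit of coherent objects if and only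
if that same condition holds. -/
theorem result {C : Type u} [SmallCategory C]
    {J : GrothendieckTopology C} (hE : ToposFin.HasCoherentGenerators J) :
    ((∀ (X₀ X₁ : ToposFin.Sh J) (a b : X₁ ⟶ X₀), ToposFin.IsCoherent X₀ → ToposFin.IsCoherent X₁ →
        ToposFin.IsCoherent (coequalizer a b)) ↔
      (∀ X : ToposFin.Sh J, ToposFin.IsFP X → ToposFin.IsCoherent X)) ∧
    ((∀ X : ToposFin.Sh J, ∃ (I : Type u) (_ : SmallCategory I) (_ : IsFiltered I) (D : I ⥤ ToposFin.Sh J),
        (∀ i, ToposFin.IsCoherent (D.obj i)) ∧ Nonempty (X ≅ colimit D)) ↔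
      (∀ X : ToposFin.Sh J, ToposFin.IsFP X → ToposFin.IsCoherent X)) := by
  have hE' := H25.TF.hasQCGenerators_of_hasCoherentGenerators hE
  have hgen := H25.TF.isGenerating_of_hasCoherentGenerators hE
  refine ⟨⟨?_, ?_⟩, ⟨?_, ?_⟩⟩
  · intro hco X hX
    obtain ⟨T, _, K, A, H, t, a, b, i, p, hK, hH, hip⟩ := H25.TF.exists_retract_of_isFP hgen hX
    exact H25.TF.isCoherent_of_retract i p hip
      (hco _ _ a b (H25.TF.isCoherent_sigma K hK) (H25.TF.isCoherent_sigma _ (fun α => hH α)))
  · intro hfp X₀ X₁ a b h0 h1
    exact hfp _ (H25.TF.isFP_coequalizer a b (H25.TF.isFP_of_isCoherent hE' h0)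
      (H25.TF.isFP_of_isCoherent hE' h1))
  · intro hpres X hX
    obtain ⟨I, hI1, hI2, D, hD, ⟨e⟩⟩ := hpres X
    obtain ⟨i, ψ, hψ⟩ := ((H25.TF.isFP_iff X).1 hX).2 I D e.hom
    exact H25.TF.isCoherent_of_retract ψ (colimit.ι D i ≫ e.inv)
      (by rw [← Category.assoc, hψ, e.hom_inv_id]) (hD i)
  · intro hfp X
    obtain ⟨I, h1, h2, D, hD, he⟩ := H25.TF.exists_filtered_presentation hE X
    exact ⟨I, h1, h2, D, fun i => hfp _ (hD i), he⟩

end Groth.Agent.S5582
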