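import Groth.Statements.S5585
import Groth.Agent.H25.ToposFin3

set_option autoImplicit false
open CategoryTheory CategoryTheory.Limits Opposite
universe u
open ToposFin

namespace Groth.Agent.S5585

/-- For an algebraic topos of sheaves of sets on a small site and a morphism f : X -> Y: if Y is
quasi-separated (resp. coherent), then X is quasi-separated (resp. coherent) if and only if f is a
quasi-separated (resp. coherent) morphism. -/
theorem result {C : Type u} [SmallCategory C] {J : GrothendieckTopology C}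
    (hE : ToposFin.IsAlgebraic J) {X Y : ToposFin.Sh J} (f : X ⟶ Y) :
    (ToposFin.IsQS Y → (ToposFin.IsQS X ↔ ToposFin.IsQSHom f)) ∧
    (ToposFin.IsCoherent Y → (ToposFin.IsCoherent X ↔ ToposFin.IsCohHom f)) := by
  obtain ⟨S, hS, hgen, hpb, heq⟩ := hE
  have h1 : ToposFin.IsQS X → ToposFin.IsQSHom f := fun hX =>
    (H25.TF.isQSHom_iff f).2 (H25.TF.qsHom_of_isQS hS hgen heq f hX)
  have h2 : ToposFin.IsQS Y → ToposFin.IsQSHom f → ToposFin.IsQS X := fun hY hf =>
    H25.TF.isQS_of_qsHom f ((H25.TF.isQSHom_iff f).1 hf) hY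
  refine ⟨fun hY => ⟨h1, h2 hY⟩, fun hY => ⟨fun hX => ⟨?_, h1 hX.2⟩,
    fun hf => ⟨?_, h2 hY.2 hf.2⟩⟩⟩
  · intro Y' g hY'
    exact hY.2 X Y' f g hX.1 hY'
  · exact H25.TF.isQC_of_qcHom f ((H25.TF.isQCHom_iff f).1 hf.1) hY.1

end Groth.Agent.S5585
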