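import Groth.Statements.S5586
import Groth.Agent.H25.ToposFin3

set_option autoImplicit false
open CategoryTheory CategoryTheory.Limits Opposite
universe u
open ToposFin

namespace Groth.Agent.S5586

/-- Quasi-separated and coherent cases: for an algebraic topos of sheaves of sets on a small site: let f
: X -> Y be a morphism and (Y_i -> Y) a jointly epimorphic family. If the Y_i are quasi-separated
(resp. coherent), then f is quasi-separated (resp. coherent) if and only if every X x_Y Y_i is a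
quasi-separated (resp. coherent) object. -/
theorem result {C : Type u} [SmallCategory C]
    {J : GrothendieckTopology C} (hE : ToposFin.IsAlgebraic J) {X Y : ToposFin.Sh J} (f : X ⟶ Y)
    {ι : Type u} (Yi : ι → ToposFin.Sh J) (g : ∀ i, Yi i ⟶ Y)
    (hg : ∀ (Z : ToposFin.Sh J) (a b : Y ⟶ Z), (∀ i, g i ≫ a = g i ≫ b) → a = b) :
    ((∀ i, ToposFin.IsQS (Yi i)) → (ToposFin.IsQSHom f ↔ ∀ i, ToposFin.IsQS (pullback f (g i)))) ∧
    ((∀ i, ToposFin.IsCoherent (Yi i)) →
      (ToposFin.IsCohHom f ↔ ∀ i, ToposFin.IsCoherent (pullback f (g i)))) := by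
  obtain ⟨S, hS, hgen, hpb, heq⟩ := hE
  have hcov : H25.TF.Cov g := fun Z a b h => hg Z a b h
  have A1 : (∀ i, ToposFin.IsQS (Yi i)) → ToposFin.IsQSHom f →
      ∀ i, ToposFin.IsQS (pullback f (g i)) := by
    intro hY hf i
    exact H25.TF.isQS_of_qsHom _
      ((H25.TF.qsHom J).pullback_snd f (g i) ((H25.TF.isQSHom_iff f).1 hf)) (hY i)
  have A2 : (∀ i, ToposFin.IsQS (pullback f (g i))) → ToposFin.IsQSHom f := by
    intro h
    rw [H25.TF.isQSHom_iff]
    exact H25.TF.qsHom_of_cov_target hS hgen f g hcov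
      (fun i => H25.TF.qsHom_of_isQS hS hgen heq _ (h i))
  refine ⟨fun hY => ⟨A1 hY, A2⟩, fun hY => ⟨fun hf i => ⟨?_, A1 (fun i => (hY i).2) hf.2 i⟩,
    fun h => ⟨?_, A2 (fun i => (h i).2)⟩⟩⟩
  · exact hf.1 (Yi i) (g i) (hY i).1
  · rw [H25.TF.isQCHom_iff]
    refine H25.TF.qcHom_of_cov_target hS hgen f g hcov (fun i => ?_)
    rw [← H25.TF.isQCHom_iff]
    intro Y' t hY'
    exact (hY i).2 _ _ _ t (h i).1 hY'

end Groth.Agent.S5586
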