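import Groth.Statements.S5587
import Groth.Agent.H25.ToposFin3

set_option autoImplicit false
open CategoryTheory CategoryTheory.Limits Opposite
universe u
open ToposFin

namespace Groth.Agent.S5587

/-- For a locally coherent topos of sheaves of sets on a small site (given by a generating set of
quasi-compact objects stable under fibre products): a morphism f : X -> Y is quasi-separated if and
only if for every quasi-separated object Y' over Y the fibre product X x_Y Y' is quasi-separated. -/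
theorem result {C : Type u} [SmallCategory C]
    {J : GrothendieckTopology C} (S : Set (ToposFin.Sh J)) (hqc : ∀ K ∈ S, ToposFin.IsQC K)
    (hgen : ToposFin.IsGenerating S) (hpb : ToposFin.ClosedUnderPullbacks S) {X Y : ToposFin.Sh J} (f : X ⟶ Y) :
    ToposFin.IsQSHom f ↔
      ∀ (Y' : ToposFin.Sh J) (g : Y' ⟶ Y), ToposFin.IsQS Y' → ToposFin.IsQS (pullback f g) := by
  constructor
  · intro hf Y' g hY'
    have h1 : H25.TF.qsHom J (pullback.snd f g) :=
      (H25.TF.qsHom J).pullback_snd f g ((H25.TF.isQSHom_iff f).1 hf)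
    exact H25.TF.isQS_of_qsHom _ h1 hY'
  · intro H
    rw [H25.TF.isQSHom_iff, H25.TF.qsHom_iff_equalizer]
    intro Y' g₁ g₂ h12 hY'
    obtain ⟨T, _, K, k, hK, hk⟩ := H25.TF.exists_finite_cov_of_generating hgen hY'
    refine H25.TF.isQC_equalizer_of_finite_cov g₁ g₂ k hk (fun n => ?_)
    have hKqs : ToposFin.IsQS (K n) := H25.TF.isQS_of_mem hqc hgen hpb (hK n)
    have hXK : ToposFin.IsQS (pullback f ((k n ≫ g₁) ≫ f)) := H _ _ hKqs
    obtain ⟨σ₁, hσ₁f, hσ₁s⟩ : ∃ σ : K n ⟶ pullback f ((k n ≫ g₁) ≫ f),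
        σ ≫ pullback.fst _ _ = k n ≫ g₁ ∧ σ ≫ pullback.snd _ _ = 𝟙 _ :=
      ⟨pullback.lift (k n ≫ g₁) (𝟙 _) (by rw [Category.id_comp]), pullback.lift_fst _ _ _,
        pullback.lift_snd _ _ _⟩
    obtain ⟨σ₂, hσ₂f, hσ₂s⟩ : ∃ σ : K n ⟶ pullback f ((k n ≫ g₁) ≫ f),
        σ ≫ pullback.fst _ _ = k n ≫ g₂ ∧ σ ≫ pullback.snd _ _ = 𝟙 _ :=
      ⟨pullback.lift (k n ≫ g₂) (𝟙 _) (by
          rw [Category.id_comp, Category.assoc, Category.assoc, h12]),
        pullback.lift_fst _ _ _, pullback.lift_snd _ _ _⟩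
    have hR : ToposFin.IsQC (pullback σ₁ σ₂) :=
      hXK _ _ σ₁ σ₂ (hqc _ (hK n)) (hqc _ (hK n))
    have hc : pullback.fst σ₁ σ₂ ≫ σ₁ = pullback.snd σ₁ σ₂ ≫ σ₂ := pullback.condition
    have e1 : pullback.fst σ₁ σ₂ = pullback.snd σ₁ σ₂ := by
      have h3 := congrArg (· ≫ pullback.snd f ((k n ≫ g₁) ≫ f)) hc
      simpa only [Category.assoc, hσ₁s, hσ₂s, Category.comp_id] using h3
    have e2 : pullback.fst σ₁ σ₂ ≫ (k n ≫ g₁) = pullback.fst σ₁ σ₂ ≫ (k n ≫ g₂) := by
      have h3 := congrArg (· ≫ pullback.fst f ((k n ≫ g₁) ≫ f)) hc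
      simp only [Category.assoc, hσ₁f, hσ₂f] at h3
      rw [h3, e1]
    have e3 : equalizer.ι (k n ≫ g₁) (k n ≫ g₂) ≫ σ₁ =
        equalizer.ι (k n ≫ g₁) (k n ≫ g₂) ≫ σ₂ := by
      apply pullback.hom_ext
      · rw [Category.assoc _ σ₁ _, Category.assoc _ σ₂ _, hσ₁f, hσ₂f]
        exact equalizer.condition _ _
      · rw [Category.assoc _ σ₁ _, Category.assoc _ σ₂ _, hσ₁s, hσ₂s]
    have hse : IsSplitEpi (equalizer.lift (pullback.fst σ₁ σ₂) e2) :=
      IsSplitEpi.mk' ⟨pullback.lift _ _ e3, by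
        apply equalizer.hom_ext
        rw [Category.assoc, equalizer.lift_ι, pullback.lift_fst, Category.id_comp]⟩
    exact H25.TF.isQC_of_epi (equalizer.lift (pullback.fst σ₁ σ₂) e2) hR

end Groth.Agent.S5587
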