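import Groth.Statements.S5588
import Groth.Agent.H25.ToposFin8

set_option autoImplicit false
open CategoryTheory CategoryTheory.Limits Opposite
universe u
open ToposFin

namespace Groth.Agent.S5588

/-- (ii) implies (i), for the topos of sheaves of sets on a small site: let S be an isomorphism-closed
generating set of quasi-compact objects, stable under finite colimits and under fibre products. Then
S is the set of all coherent objects (so the topos is locally coherent), and every object X for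
which Hom(X, -) commutes with small filtered colimits is coherent. -/
theorem result {C : Type u} [SmallCategory C]
    {J : GrothendieckTopology C} (S : Set (ToposFin.Sh J)) (hqc : ∀ K ∈ S, ToposFin.IsQC K)
    (hiso : ∀ ⦃K L : ToposFin.Sh J⦄, K ∈ S → Nonempty (K ≅ L) → L ∈ S)
    (hgen : ToposFin.IsGenerating S) (hpb : ToposFin.ClosedUnderPullbacks S)
    (hcolim : ∀ (K : Type) [SmallCategory K] [FinCategory K] (D : K ⥤ ToposFin.Sh J),
      (∀ k, D.obj k ∈ S) → colimit D ∈ S) :
    (∀ X : ToposFin.Sh J, X ∈ S ↔ ToposFin.IsCoherent X) ∧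
    (∀ X : ToposFin.Sh J, ToposFin.IsFP X → ToposFin.IsCoherent X) := by
  have hsub : ∀ X ∈ S, ToposFin.IsCoherent X := fun X hX =>
    ⟨hqc X hX, H25.TF.isQS_of_mem hqc hgen hpb hX⟩
  have hsig : ∀ (T : Type u) [Finite T] (K : T → ToposFin.Sh J), (∀ n, K n ∈ S) → ∐ K ∈ S := by
    intro T _ K hK
    obtain ⟨n, ⟨e⟩⟩ := Finite.exists_equiv_fin T
    have h1 : colimit (Discrete.functor (K ∘ e.symm)) ∈ S :=
      hcolim (Discrete (Fin n)) _ (fun k => hK _)
    exact hiso h1 ⟨Sigma.reindex e.symm K⟩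
  have hcoeq : ∀ {X₀ X₁ : ToposFin.Sh J} (a b : X₁ ⟶ X₀), X₀ ∈ S → X₁ ∈ S →
      coequalizer a b ∈ S := by
    intro X₀ X₁ a b h0 h1
    refine hcolim WalkingParallelPair (parallelPair a b) (fun k => ?_)
    cases k
    · exact h1
    · exact h0
  have hcoh : ∀ X : ToposFin.Sh J, ToposFin.IsCoherent X → X ∈ S := by
    intro X hX
    obtain ⟨T, _, K, k, hK, hk⟩ := H25.TF.exists_finite_cov_of_generating hgen hX.1
    have hp : Epi (Sigma.desc k) := (H25.TF.epi_sigma_iff k).2 hk
    have hG : ∐ K ∈ S := hsig T K hK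
    have hR : ToposFin.IsQC (pullback (Sigma.desc k) (Sigma.desc k)) :=
      hX.2 _ _ _ _ (hqc _ hG) (hqc _ hG)
    obtain ⟨T', _, L, l, hL, hl⟩ := H25.TF.exists_finite_cov_of_generating hgen hR
    have hq : Epi (Sigma.desc l) := (H25.TF.epi_sigma_iff l).2 hl
    have hL' : ∐ L ∈ S := hsig T' L hL
    have hQ := hcoeq (Sigma.desc l ≫ pullback.fst (Sigma.desc k) (Sigma.desc k))
      (Sigma.desc l ≫ pullback.snd (Sigma.desc k) (Sigma.desc k)) hG hL'
    exact hiso hQ (H25.TF.nonempty_coeq_iso (Sigma.desc k) (Sigma.desc l))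
  refine ⟨fun X => ⟨hsub X, hcoh X⟩, fun X hX => ?_⟩
  obtain ⟨T, _, K, A, H, t, a, b, i, p, hK, hH, hip⟩ := H25.TF.exists_retract_of_isFP hgen hX
  exact H25.TF.isCoherent_of_retract i p hip
    (hsub _ (hcoeq a b (hsig T K hK) (hsig _ _ (fun α => hH α))))

end Groth.Agent.S5588
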