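import Groth.Statements.S5591
import Groth.Agent.H25.ToposFin3

set_option autoImplicit false
open CategoryTheory CategoryTheory.Limits Opposite
universe u
open ToposFin

namespace Groth.Agent.S5591

/-- Let f be a coherent morphism between locally coherent topoi of sheaves of sets on small sites, with
inverse image functor F (left adjoint, preserving finite limits), coherent meaning that F preserves
quasi-compact objects and quasi-separated objects. Then F carries quasi-compact morphisms to
quasi-compact morphisms. -/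
theorem result {C D : Type u} [SmallCategory C] [SmallCategory D]
    {J : GrothendieckTopology C} {K : GrothendieckTopology D}
    (F : ToposFin.Sh K ⥤ ToposFin.Sh J) (R : ToposFin.Sh J ⥤ ToposFin.Sh K) (adj : F ⊣ R)
    [PreservesFiniteLimits F]
    (S : Set (ToposFin.Sh K)) (hqc : ∀ X ∈ S, ToposFin.IsQC X) (hgen : ToposFin.IsGenerating S)
    (hpb : ToposFin.ClosedUnderPullbacks S)
    (S' : Set (ToposFin.Sh J)) (hqc' : ∀ X ∈ S', ToposFin.IsQC X) (hgen' : ToposFin.IsGenerating S')
    (hpb' : ToposFin.ClosedUnderPullbacks S')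
    (hFqc : ∀ X : ToposFin.Sh K, ToposFin.IsQC X → ToposFin.IsQC (F.obj X))
    (hFqs : ∀ X : ToposFin.Sh K, ToposFin.IsQS X → ToposFin.IsQS (F.obj X))
    {X Y : ToposFin.Sh K} (v : X ⟶ Y) (hv : ToposFin.IsQCHom v) :
    ToposFin.IsQCHom (F.map v) := by
  intro Y' t hY'
  obtain ⟨ι, G, π, hG, hπ⟩ := H25.TF.exists_cov_of_generating hgen Y
  have hFπ : H25.TF.Cov (fun i => F.map (π i)) := H25.TF.cov_map_of_adj F R adj hπ
  refine H25.TF.isQC_pullback_of_cov hgen' (F.map v) t hY' (fun i => F.map (π i)) hFπ
    (fun i L m hL => ?_)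
  have hpbF : IsPullback (F.map (pullback.fst v (π i))) (F.map (pullback.snd v (π i)))
      (F.map v) (F.map (π i)) := (IsPullback.of_hasPullback v (π i)).map F
  have hsq := IsPullback.of_right'
    (IsPullback.of_hasPullback (F.map v) (m ≫ F.map (π i))) hpbF
  have h1 : ToposFin.IsQC (pullback v (π i)) := hv _ (π i) (hqc _ (hG i))
  have h2 : ToposFin.IsQC (F.obj (pullback v (π i))) := hFqc _ h1
  have h3 : ToposFin.IsQS (F.obj (G i)) :=
    hFqs _ (H25.TF.isQS_of_mem hqc hgen hpb (hG i))
  have h4 : ToposFin.IsQC (pullback (F.map (pullback.snd v (π i))) m) :=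
    h3 _ _ _ _ h2 (hqc' _ hL)
  exact H25.TF.isQC_of_iso hsq.isoPullback.symm h4

end Groth.Agent.S5591
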