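import Groth.Statements.S5597
import Groth.Agent.H23.PCohFactor
import Groth.Agent.H23.PCohApprox

set_option autoImplicit false
universe w v u
open CategoryTheory CategoryTheory.Limits
open PCoh

namespace Groth.Agent.S5597

/-- Punctual site: let C be an abelian category and C₀ a strictly full additive subcategory,
quasi-stable under kernels of epimorphisms and quasi-liftable. If F is strictly n-pseudo-coherent
(bounded above, terms in C₀ from degree n on) and u : E ⟶ F is a quasi-isomorphism of cochain
complexes, then E receives a quasi-isomorphism from some strictly n-pseudo-coherent complex. -/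
theorem result {C : Type u} [Category.{v} C] [Abelian C]
    (P : ObjectProperty C) [P.IsClosedUnderIsomorphisms] [P.ContainsZero] (hsum : ∀ X Y : C, P X → P Y → P (X ⨯ Y))
    (hqs : PCoh.IsQuasiStableUnderKernels P) (hql : PCoh.IsQuasiLiftable P)
    (n : ℤ) (E F : CochainComplex C ℤ) (hF : PCoh.IsStrictPC P n F) (u : E ⟶ F) (hu : QuasiIso u) :
    ∃ (F' : CochainComplex C ℤ) (v : F' ⟶ E), PCoh.IsStrictPC P n F' ∧ QuasiIso v := by
  haveI := hu
  obtain ⟨R, b, t, hz, hP, hiso, hepi⟩ :=
    Groth.Agent.H23.PCohLib.approx P hsum hqs hql n E F u hF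
  obtain ⟨T, hT, ψ, u', hu', hq⟩ := Groth.Agent.H23.PCohLib.factor n R E t hiso hepi
  refine ⟨CochainComplex.mappingCone ψ, u', ⟨⟨max b n, fun i hi => ?_⟩, fun i hi => ?_⟩, hq⟩
  · rw [CochainComplex.mappingCone.isZero_X_iff]
    exact ⟨T.isZero_of_isStrictlyLE n _ (by have := le_max_right b n; omega),
      hz i (Or.inr (by have := le_max_left b n; omega))⟩
  · exact Groth.Agent.H23.PCohLib.prop_cone P hsum ψ i
      (P.prop_of_isZero (T.isZero_of_isStrictlyLE n _ (by omega))) (hP i)

end Groth.Agent.S5597
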