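import Groth.Statements.S5613
import Groth.Agent.H23.K0Der

set_option autoImplicit false
universe v u
open CategoryTheory CategoryTheory.Limits CategoryTheory.Pretriangulated
open KZero

namespace Groth.Agent.S5613

open Groth.Agent.H23.K0Der ZeroObject

section helpers
variable {C : Type u} [Category.{v} C] [Preadditive C] [HasZeroObject C]
    [HasShift C ℤ] [∀ n : ℤ, (shiftFunctor C n).Additive] [Pretriangulated C]

lemma top0 : (⊤ : ObjectProperty C) (0 : C) := trivial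

lemma cl_shift_int (X : C) (k : ℤ) :
    clTr (⊤ : ObjectProperty C) (X⟦k⟧) = ((k.negOnePow : ℤˣ) : ℤ) • clTr (⊤ : ObjectProperty C) X := by
  induction k using Int.induction_on with
  | zero =>
    rw [clTr_iso ⊤ top0 ((shiftFunctorZero C ℤ).app X) trivial trivial]
    simp
  | succ k ih =>
    have e : X⟦(k:ℤ)+1⟧ ≅ (X⟦(k:ℤ)⟧)⟦(1:ℤ)⟧ := (shiftFunctorAdd' C (k:ℤ) 1 ((k:ℤ)+1) rfl).app X
    rw [clTr_iso ⊤ top0 e trivial trivial, clTr_shift ⊤ top0 _ trivial trivial, ih,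
      Int.negOnePow_succ, Units.val_neg, neg_smul]
  | pred k ih =>
    have e : X⟦-(k:ℤ)⟧ ≅ (X⟦-(k:ℤ)-1⟧)⟦(1:ℤ)⟧ :=
      (shiftFunctorAdd' C (-(k:ℤ)-1) 1 (-(k:ℤ)) (by ring)).app X
    have h1 := clTr_iso ⊤ top0 e trivial trivial
    rw [clTr_shift ⊤ top0 _ trivial trivial, ih] at h1
    have hε : (-(k:ℤ) - 1).negOnePow = - (-(k:ℤ)).negOnePow := by
      have h2 := Int.negOnePow_succ (-(k:ℤ) - 1)
      rw [sub_add_cancel] at h2
      rw [h2, neg_neg]
    rw [hε, Units.val_neg, neg_smul, h1, neg_neg]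

lemma cl_biprod (X Y : C) :
    clTr (⊤ : ObjectProperty C) (X ⊞ Y) = clTr (⊤ : ObjectProperty C) X + clTr (⊤ : ObjectProperty C) Y :=
  clTr_triangle ⊤ _ (binaryBiproductTriangle_distinguished X Y) trivial trivial trivial

variable (F : ℕ → C) [HasCoproduct F] (m : ℤ)

lemma shift_desc {Z : C} (g : ∀ i, (F i)⟦m⟧ ⟶ Z) :
    ∃ d : (∐ F)⟦m⟧ ⟶ Z, ∀ i, (Sigma.ι F i)⟦m⟧' ≫ d = g i := by
  have hc : IsColimit ((shiftFunctor C m).mapCocone (colimit.cocone (Discrete.functor F))) :=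
    isColimitOfPreserves _ (colimit.isColimit _)
  let c : Cocone (Discrete.functor F ⋙ shiftFunctor C m) :=
    ⟨Z, Discrete.natTrans (fun i => g i.as)⟩
  exact ⟨hc.desc c, fun i => hc.fac c ⟨i⟩⟩

lemma shift_hom_ext {Z : C} (d d' : (∐ F)⟦m⟧ ⟶ Z)
    (h : ∀ i, (Sigma.ι F i)⟦m⟧' ≫ d = (Sigma.ι F i)⟦m⟧' ≫ d') : d = d' := by
  have hc : IsColimit ((shiftFunctor C m).mapCocone (colimit.cocone (Discrete.functor F))) :=
    isColimitOfPreserves _ (colimit.isColimit _)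
  exact hc.hom_ext (fun ⟨i⟩ => h i)

lemma decomp (e : ∀ i, (F i)⟦m⟧ ≅ F (i+1)) : Nonempty (∐ F ≅ F 0 ⊞ (∐ F)⟦m⟧) := by
  obtain ⟨σ, hσ⟩ := shift_desc F m (fun i => (e i).hom ≫ Sigma.ι F (i+1))
  obtain ⟨inj, hinj0, hinjs⟩ : ∃ inj : ∀ i, F i ⟶ F 0 ⊞ (∐ F)⟦m⟧, inj 0 = biprod.inl ∧
      ∀ i, inj (i+1) = (e i).inv ≫ (Sigma.ι F i)⟦m⟧' ≫ biprod.inr :=
    ⟨fun i => match i with
      | 0 => biprod.inl
      | i+1 => (e i).inv ≫ (Sigma.ι F i)⟦m⟧' ≫ biprod.inr, rfl, fun _ => rfl⟩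
  refine ⟨⟨Sigma.desc inj, biprod.desc (Sigma.ι F 0) σ, ?_, ?_⟩⟩
  · apply Sigma.hom_ext
    intro i
    rw [Sigma.ι_desc_assoc, Category.comp_id]
    cases i with
    | zero => rw [hinj0, biprod.inl_desc]
    | succ i =>
      rw [hinjs, Category.assoc, Category.assoc, biprod.inr_desc, hσ, Iso.inv_hom_id_assoc]
  · apply biprod.hom_ext'
    · rw [biprod.inl_desc_assoc, Sigma.ι_desc, hinj0, Category.comp_id]
    · rw [biprod.inr_desc_assoc, Category.comp_id]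
      apply shift_hom_ext F m
      intro i
      rw [reassoc_of% (hσ i), Sigma.ι_desc, hinjs, Iso.hom_inv_id_assoc]

end helpers

/-- Let C be a pretriangulated category, L an object of C and n an integer such that the coproduct ∐_{i
≥ 0} L⟦2ni⟧ exists in C. Then cl(L) = 0 in K₀(C). -/
theorem result {C : Type u} [Category.{v} C] [Preadditive C] [HasZeroObject C]
    [HasShift C ℤ] [∀ n : ℤ, (shiftFunctor C n).Additive] [Pretriangulated C]
    (L : C) (n : ℤ) [HasCoproduct (fun i : ℕ => (shiftFunctor C (2 * n * (i : ℤ))).obj L)] :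
    KZero.clTri L = 0 := by
  have e : ∀ i : ℕ, ((shiftFunctor C (2 * n * (i : ℤ))).obj L)⟦2 * n⟧ ≅
      (shiftFunctor C (2 * n * ((i + 1 : ℕ) : ℤ))).obj L := fun i =>
    ((shiftFunctorAdd' C (2 * n * (i : ℤ)) (2 * n) (2 * n * ((i + 1 : ℕ) : ℤ))
      (by push_cast; ring)).app L).symm
  obtain ⟨iso⟩ := decomp (fun i : ℕ => (shiftFunctor C (2 * n * (i : ℤ))).obj L) (2 * n) e
  have h1 := clTr_iso (⊤ : ObjectProperty C) top0 iso trivial trivial
  rw [cl_biprod, cl_shift_int (∐ fun i : ℕ => (shiftFunctor C (2 * n * (i : ℤ))).obj L) (2 * n),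
    Int.negOnePow_two_mul, Units.val_one, one_smul] at h1
  have e0 : (shiftFunctor C (2 * n * ((0 : ℕ) : ℤ))).obj L ≅ L :=
    (shiftFunctorZero' C (2 * n * ((0 : ℕ) : ℤ)) (by simp)).app L
  rw [clTr_iso (⊤ : ObjectProperty C) top0 e0 trivial trivial] at h1
  have h2 : clTr (⊤ : ObjectProperty C) L = 0 := by
    have h3 : clTr (⊤ : ObjectProperty C) L + clTr (⊤ : ObjectProperty C)
        (∐ fun i : ℕ => (shiftFunctor C (2 * n * (i : ℤ))).obj L) =
        0 + clTr (⊤ : ObjectProperty C) (∐ fun i : ℕ => (shiftFunctor C (2 * n * (i : ℤ))).obj L) := by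
      rw [zero_add]; exact h1.symm
    exact add_right_cancel h3
  rw [← h2, clTr_eq _ (trivial : (⊤ : ObjectProperty C) L)]
  rfl

end Groth.Agent.S5613
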