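import Groth.Statements.S5614
import Mathlib

set_option autoImplicit false
universe v u
open CategoryTheory CategoryTheory.Limits CategoryTheory.Pretriangulated
open KZero

namespace Groth.Agent.S5614

/-- Let C be a pretriangulated category and S a dense set of objects, meaning that every set of objects
which contains S and which contains the third vertex of a distinguished triangle as soon as it
contains the other two is all of C. Then K₀(C) is generated by the classes of the objects of S. -/
theorem result {C : Type u} [Category.{v} C] [Preadditive C] [HasZeroObject C]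
    [HasShift C ℤ] [∀ n : ℤ, (shiftFunctor C n).Additive] [Pretriangulated C]
    (S : Set C)
    (hdense : ∀ T : Set C, S ⊆ T →
      (∀ tr : Triangle C, tr ∈ distinguishedTriangles →
        (tr.obj₁ ∈ T → tr.obj₂ ∈ T → tr.obj₃ ∈ T) ∧ (tr.obj₁ ∈ T → tr.obj₃ ∈ T → tr.obj₂ ∈ T) ∧
          (tr.obj₂ ∈ T → tr.obj₃ ∈ T → tr.obj₁ ∈ T)) → T = Set.univ) :
    AddSubgroup.closure (KZero.clTri '' S) = (⊤ : AddSubgroup (KZero.K0tri C)) := by
  set H := AddSubgroup.closure (KZero.clTri '' S) with hH
  have hrel : ∀ X : Triangle C, X ∈ distinguishedTriangles →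
      (KZero.clTri X.obj₂ : KZero.K0tri C) = KZero.clTri X.obj₁ + KZero.clTri X.obj₃ := by
    intro X hX
    have hmem : FreeAbelianGroup.of (⟨X.obj₂, trivial⟩ : Subtype (⊤ : ObjectProperty C))
        - FreeAbelianGroup.of ⟨X.obj₁, trivial⟩ - FreeAbelianGroup.of ⟨X.obj₃, trivial⟩
        ∈ KZero.relTr (⊤ : ObjectProperty C) :=
      AddSubgroup.subset_closure ⟨X, trivial, trivial, trivial, hX, rfl⟩
    have h0 := (QuotientAddGroup.eq_zero_iff _).2 hmem
    simp only [QuotientAddGroup.mk_sub] at h0
    unfold KZero.clTri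
    rw [sub_sub, sub_eq_zero] at h0
    exact h0
  have hT : {X : C | KZero.clTri X ∈ H} = Set.univ := by
    apply hdense
    · intro X hX; exact AddSubgroup.subset_closure ⟨X, hX, rfl⟩
    · intro X hX
      have e := hrel X hX
      refine ⟨fun h1 h2 => ?_, fun h1 h3 => ?_, fun h2 h3 => ?_⟩
      · simp only [Set.mem_ofPred_eq] at *
        have : KZero.clTri X.obj₃ = KZero.clTri X.obj₂ - KZero.clTri X.obj₁ := by rw [e]; abel
        rw [this]; exact H.sub_mem h2 h1
      · simp only [Set.mem_ofPred_eq] at *; rw [e]; exact H.add_mem h1 h3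
      · simp only [Set.mem_ofPred_eq] at *
        have : KZero.clTri X.obj₁ = KZero.clTri X.obj₂ - KZero.clTri X.obj₃ := by rw [e]; abel
        rw [this]; exact H.sub_mem h2 h3
  rw [eq_top_iff]
  rintro x -
  obtain ⟨y, rfl⟩ := QuotientAddGroup.mk_surjective x
  induction y using FreeAbelianGroup.induction_on with
  | zero => exact H.zero_mem
  | of X =>
    have : X.1 ∈ {X : C | KZero.clTri X ∈ H} := by rw [hT]; trivial
    exact this
  | neg X ih => exact H.neg_mem ih
  | add x y hx hy => exact H.add_mem hx hy

end Groth.Agent.S5614
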