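import Groth.Statements.S5616
import Groth.Agent.H21.ExtEfface

set_option autoImplicit false
universe w w' v v' u u'
open CategoryTheory CategoryTheory.Limits
open CohDer

namespace Groth.Agent.S5616

/-- Let φ : A ⥤ B be an exact functor of abelian categories and M an object of A. The following are
equivalent: (i) for every L in A and every n, the map Ext^n_A(L, M) → Ext^n_B(φ L, φ M) induced by φ
is bijective; (ii) for every L the map Hom_A(L, M) → Hom_B(φ L, φ M) is bijective, and for every L,
every n ≥ 1 and every x ∈ Ext^n_B(φ L, φ M) there is an epimorphism L' ⟶ L of A such that x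
precomposed with its image under φ vanishes. -/
theorem result
    {A : Type u} [Category.{v} A] [Abelian A] [HasExt.{w} A]
    {B : Type u'} [Category.{v'} B] [Abelian B] [HasExt.{w'} B]
    (φ : A ⥤ B) [φ.Additive] [PreservesFiniteLimits φ] [PreservesFiniteColimits φ] (M : A) :
    (∀ (L : A) (n : ℕ), Function.Bijective (fun f : Abelian.Ext.{w} L M n => Abelian.Ext.mapExactFunctor φ f)) ↔
      ((∀ L : A, Function.Bijective (fun f : L ⟶ M => φ.map f)) ∧
        ∀ (L : A) (n : ℕ), 1 ≤ n → ∀ x : Abelian.Ext.{w'} (φ.obj L) (φ.obj M) n,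
          ∃ (L' : A) (p : L' ⟶ L), Epi p ∧ (Abelian.Ext.mk₀ (φ.map p)).comp x (zero_add n) = 0) := by
  constructor
  · intro hi
    refine ⟨fun L => ⟨?_, ?_⟩, fun L n hn x => ?_⟩
    · intro f g hfg
      have hfg' : φ.map f = φ.map g := hfg
      apply (Abelian.Ext.mk₀_bijective L M).1
      apply (hi L 0).1
      show (Abelian.Ext.mk₀ f).mapExactFunctor φ = (Abelian.Ext.mk₀ g).mapExactFunctor φ
      rw [Abelian.Ext.mapExactFunctor_mk₀, Abelian.Ext.mapExactFunctor_mk₀, hfg']
    · intro g
      obtain ⟨y, hy⟩ := (hi L 0).2 (Abelian.Ext.mk₀ g)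
      have hy' : y.mapExactFunctor φ = Abelian.Ext.mk₀ g := hy
      obtain ⟨f, rfl⟩ := (Abelian.Ext.mk₀_bijective L M).2 y
      rw [Abelian.Ext.mapExactFunctor_mk₀] at hy'
      exact ⟨f, (Abelian.Ext.mk₀_bijective _ _).1 hy'⟩
    · obtain ⟨y, hy⟩ := (hi L n).2 x
      have hy' : y.mapExactFunctor φ = x := hy
      obtain ⟨L', p, hp, hpy⟩ := Groth.Agent.H21.ext_exists_epi_comp_eq_zero (by omega) y
      refine ⟨L', p, hp, ?_⟩
      rw [← hy', ← Abelian.Ext.mapExactFunctor_mk₀, ← Abelian.Ext.mapExactFunctor_comp, hpy,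
        Abelian.Ext.mapExactFunctor_zero]
  · rintro ⟨h0, heff⟩
    intro L n
    induction n generalizing L with
    | zero =>
      constructor
      · intro x y hxy
        have hxy' : x.mapExactFunctor φ = y.mapExactFunctor φ := hxy
        obtain ⟨f, rfl⟩ := (Abelian.Ext.mk₀_bijective L M).2 x
        obtain ⟨g, rfl⟩ := (Abelian.Ext.mk₀_bijective L M).2 y
        rw [Abelian.Ext.mapExactFunctor_mk₀, Abelian.Ext.mapExactFunctor_mk₀] at hxy'
        have h1 : φ.map f = φ.map g := (Abelian.Ext.mk₀_bijective _ _).1 hxy'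
        rw [(h0 L).1 h1]
      · intro x
        obtain ⟨g, rfl⟩ := (Abelian.Ext.mk₀_bijective _ _).2 x
        obtain ⟨f, hf⟩ := (h0 L).2 g
        have hf' : φ.map f = g := hf
        exact ⟨Abelian.Ext.mk₀ f, by
          show (Abelian.Ext.mk₀ f).mapExactFunctor φ = Abelian.Ext.mk₀ g
          rw [Abelian.Ext.mapExactFunctor_mk₀, hf']⟩
    | succ n ih =>
      have ihs : ∀ (L : A) (w' : Abelian.Ext (φ.obj L) (φ.obj M) n),
          ∃ w : Abelian.Ext L M n, w.mapExactFunctor φ = w' := fun L w' => (ih L).2 w'
      have ihi : ∀ (L : A) (a b : Abelian.Ext L M n),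
          a.mapExactFunctor φ = b.mapExactFunctor φ → a = b := fun L a b h => (ih L).1 h
      constructor
      · show Function.Injective (φ.mapExtAddHom L M (n + 1))
        rw [injective_iff_map_eq_zero]
        intro y hy0
        have hy0' : y.mapExactFunctor φ = 0 := hy0
        obtain ⟨L', p, hp, hpy⟩ :=
          Groth.Agent.H21.ext_exists_epi_comp_eq_zero (Nat.succ_pos n) y
        have hS : (ShortComplex.mk (kernel.ι p) p (kernel.condition p)).ShortExact :=
          ShortComplex.ShortExact.mk' (ShortComplex.exact_kernel p)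
            (by dsimp; infer_instance) hp
        obtain ⟨z, hz⟩ := Abelian.Ext.contravariant_sequence_exact₃ hS M y hpy
          (n₀ := n) (by omega)
        have hz' : (hS.map_of_exact φ).extClass.comp (z.mapExactFunctor φ)
            (by omega : 1 + n = n + 1) = 0 := by
          have e1 : hS.extClass.mapExactFunctor φ = (hS.map_of_exact φ).extClass :=
            Abelian.Ext.mapExactFunctor_extClass φ hS
          have e2 := Abelian.Ext.mapExactFunctor_comp φ hS.extClass z (by omega : 1 + n = n + 1)
          rw [hz, hy0', e1] at e2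
          exact e2.symm
        obtain ⟨w', hw'⟩ := Abelian.Ext.contravariant_sequence_exact₁ (hS.map_of_exact φ)
          (φ.obj M) (z.mapExactFunctor φ) (by omega) hz'
        obtain ⟨w, rfl⟩ := ihs L' w'
        have hzw : z = (Abelian.Ext.mk₀ (kernel.ι p)).comp w (zero_add n) := by
          apply ihi
          rw [Abelian.Ext.mapExactFunctor_comp, Abelian.Ext.mapExactFunctor_mk₀]
          exact hw'.symm
        rw [← hz, hzw]
        exact hS.extClass_comp_assoc w
      · intro x
        obtain ⟨L', p, hp, hpx⟩ := heff L (n + 1) (by omega) x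
        have hS : (ShortComplex.mk (kernel.ι p) p (kernel.condition p)).ShortExact :=
          ShortComplex.ShortExact.mk' (ShortComplex.exact_kernel p)
            (by dsimp; infer_instance) hp
        obtain ⟨z', hz'⟩ := Abelian.Ext.contravariant_sequence_exact₃ (hS.map_of_exact φ)
          (φ.obj M) x hpx (n₀ := n) (by omega)
        obtain ⟨z, rfl⟩ := ihs _ z'
        refine ⟨hS.extClass.comp z (by omega), ?_⟩
        show (hS.extClass.comp z _).mapExactFunctor φ = x
        have e1 : hS.extClass.mapExactFunctor φ = (hS.map_of_exact φ).extClass :=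
          Abelian.Ext.mapExactFunctor_extClass φ hS
        rw [Abelian.Ext.mapExactFunctor_comp, e1]
        exact hz'

end Groth.Agent.S5616
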