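import Groth.Statements.S5656
import Mathlib

set_option autoImplicit false
universe u
open W4sga6xxiii

namespace Groth.Agent.S5656

open Polynomial

/-- the binomial polynomial `C(X, j)` over `ℚ` -/
noncomputable def binomPoly (j : ℕ) : ℚ[X] :=
  C ((j.factorial : ℚ)⁻¹) * (descPochhammer ℤ j).map (Int.castRingHom ℚ)

lemma eval_binomPoly (j : ℕ) (t : ℤ) :
    (binomPoly j).eval (t : ℚ) = ((Ring.choose t j : ℤ) : ℚ) := by
  unfold binomPoly
  rw [eval_mul, eval_C, eval_intCast_map, eval_eq_smeval,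
    Ring.descPochhammer_eq_factorial_smul_choose]
  have h : (j.factorial : ℚ) ≠ 0 := by exact_mod_cast Nat.factorial_ne_zero j
  simp only [nsmul_eq_mul, eq_intCast, Int.cast_mul, Int.cast_natCast, Int.cast_id]
  field_simp

/-- polynomial along a line -/
lemma poly_along {G : Type u} [AddCommGroup G] (f : G → ℚ) (hf : W4sga6xxiii.IsPolyMap f)
    (u z : G) : ∃ Q : ℚ[X], ∀ t : ℤ, Q.eval (t : ℚ) = f (u + t • z) := by
  obtain ⟨m, y, -, hy⟩ := hf 2 ![u, z]
  refine ⟨∑ k : Fin 2 → Fin (m + 1),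
    C (((Ring.choose (1 : ℤ) (k 0 : ℕ) : ℤ) : ℚ) * y k) * binomPoly (k 1 : ℕ), fun t => ?_⟩
  have h := hy ![1, t]
  simp only [Fin.sum_univ_two, Fin.prod_univ_two, Matrix.cons_val_zero, Matrix.cons_val_one,
    one_smul] at h
  rw [h, eval_finsetSum]
  refine Finset.sum_congr rfl fun k _ => ?_
  rw [eval_mul, eval_C, eval_binomPoly, zsmul_eq_mul, Int.cast_mul]
  ring

/-- integer-valued polynomials have `lc * d! ∈ ℤ`. -/
lemma lc_mul_factorial_int (Q : ℚ[X]) (hQ : ∀ t : ℤ, ∃ z : ℤ, Q.eval (t : ℚ) = z) :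
    ∃ z : ℤ, Q.leadingCoeff * (Q.natDegree.factorial : ℚ) = z := by
  choose g hg using hQ
  have h := congrFun Q.fwdDiff_iter_degree_eq_factorial 0
  rw [fwdDiff_iter_eq_sum_shift] at h
  refine ⟨∑ k ∈ Finset.range (Q.natDegree + 1),
    ((-1 : ℤ) ^ (Q.natDegree - k) * (Q.natDegree.choose k : ℤ)) * g k, ?_⟩
  have h2 : Q.leadingCoeff * (Q.natDegree.factorial : ℚ) =
      (Q.leadingCoeff • (Q.natDegree.factorial : ℚ → ℚ)) 0 := by
    simp
  rw [h2, ← h, Int.cast_sum]
  refine Finset.sum_congr rfl fun k _ => ?_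
  have : (0 : ℚ) + k • (1 : ℚ) = ((k : ℤ) : ℚ) := by simp
  rw [this, hg, zsmul_eq_mul]
  push_cast
  ring

lemma eq_of_eval_int_eq (P Q : ℚ[X]) (h : ∀ t : ℤ, P.eval (t : ℚ) = Q.eval (t : ℚ)) : P = Q := by
  apply eq_of_infinite_eval_eq
  apply Set.Infinite.mono (s := Set.range (Int.cast : ℤ → ℚ))
  · rintro _ ⟨t, rfl⟩
    exact h t
  · exact Set.infinite_range_of_injective Int.cast_injective

/-- translation invariance under the `p`-divisible subgroup -/
lemma translate {G : Type u} [AddCommGroup G] (G' : AddSubgroup G)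
    (p : ℕ) (hp : p.Prime) (hdiv : ∀ x ∈ G', ∃ y ∈ G', p • y = x)
    (f : G → ℚ) (hf : W4sga6xxiii.IsPolyMap f) (hint : ∀ x, ∃ z : ℤ, f x = z)
    (u z : G) (hz : z ∈ G') : f (u + z) = f u := by
  -- roots
  have hroot : ∀ j : ℕ, ∃ w ∈ G', (p ^ j) • w = z := by
    intro j
    induction j with
    | zero => exact ⟨z, hz, by simp⟩
    | succ j ih =>
      obtain ⟨w, hw, hwz⟩ := ih
      obtain ⟨w', hw', hw'w⟩ := hdiv w hw
      refine ⟨w', hw', ?_⟩
      rw [pow_succ, mul_smul, hw'w, hwz]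
  obtain ⟨R, hR⟩ := poly_along f hf u z
  have hRint : ∀ t : ℤ, ∃ a : ℤ, R.eval (t : ℚ) = a := fun t => by rw [hR]; exact hint _
  obtain ⟨a, ha⟩ := lc_mul_factorial_int R hRint
  have key : R.natDegree = 0 := by
    by_contra hd
    have hdiv' : ∀ j : ℕ, ((p : ℤ) ^ j) ∣ a := by
      intro j
      obtain ⟨w, hw, hwz⟩ := hroot j
      obtain ⟨Rj, hRj⟩ := poly_along f hf u w
      have hRjint : ∀ t : ℤ, ∃ a : ℤ, Rj.eval (t : ℚ) = a := fun t => by rw [hRj]; exact hint _
      obtain ⟨aj, haj⟩ := lc_mul_factorial_int Rj hRjint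
      have hc : ((p : ℚ) ^ j) ≠ 0 := pow_ne_zero _ (by exact_mod_cast hp.ne_zero)
      have hcomp : R = Rj.comp (C ((p : ℚ) ^ j) * X) := by
        apply eq_of_eval_int_eq
        intro t
        rw [hR, eval_comp, eval_mul, eval_C, eval_X]
        have : ((p : ℚ) ^ j) * (t : ℚ) = (((p : ℤ) ^ j * t : ℤ) : ℚ) := by push_cast; ring
        have hz2 : z = ((p : ℤ) ^ j) • w := by
          rw [← hwz, ← natCast_zsmul, Nat.cast_pow]
        rw [this, hRj, hz2, smul_smul, mul_comm]
      have hnd : R.natDegree = Rj.natDegree := by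
        rw [hcomp, natDegree_comp, natDegree_C_mul_X _ hc, mul_one]
      have hlc : R.leadingCoeff = Rj.leadingCoeff * ((p : ℚ) ^ j) ^ Rj.natDegree := by
        rw [hcomp, leadingCoeff_comp (by rw [natDegree_C_mul_X _ hc]; exact one_ne_zero),
          leadingCoeff_C_mul_X]
      have hq : (a : ℚ) = (((p : ℤ) ^ j) ^ Rj.natDegree * aj : ℤ) := by
        rw [← ha, hlc, hnd]
        push_cast
        rw [← haj]
        ring
      have hz' : a = ((p : ℤ) ^ j) ^ Rj.natDegree * aj := by exact_mod_cast hq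
      rw [hz']
      have h1 : 1 ≤ Rj.natDegree := by
        rw [← hnd]; exact Nat.one_le_iff_ne_zero.mpr hd
      exact Dvd.dvd.mul_right (dvd_pow_self _ (by omega)) _
    have ha0 : a = 0 := by
      by_contra hne
      have h1 := hdiv' a.natAbs
      have h2 : (p ^ a.natAbs : ℕ) ∣ a.natAbs := by
        have := Int.natAbs_dvd_natAbs.mpr h1
        simpa [Int.natAbs_pow] using this
      have h3 := Nat.le_of_dvd (Int.natAbs_pos.mpr hne) h2
      have h4 : a.natAbs < p ^ a.natAbs := Nat.lt_pow_self hp.one_lt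
      omega
    rw [ha0, Int.cast_zero] at ha
    rcases mul_eq_zero.mp ha with h | h
    · rw [leadingCoeff_eq_zero] at h
      rw [h, natDegree_zero] at hd
      exact hd rfl
    · exact (by exact_mod_cast Nat.factorial_ne_zero _ : (R.natDegree.factorial : ℚ) ≠ 0) h
  have h1 := hR 1
  have h0 := hR 0
  rw [eq_C_of_natDegree_eq_zero key] at h1 h0
  simp only [eval_C, one_smul, zero_smul, add_zero] at h1 h0
  rw [← h1, h0]


/-- Let G be an abelian group and G' ⊆ G a subgroup which is divisible by some prime number p (every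
element of G' is p times an element of G') and such that G/G' is a torsion group. Then every
polynomial map f : G → ℚ (admitting binomial expansions f(Σ n_i x_i) = Σ_k Π_i C(n_i, k_i) y_k along
every finite sequence x) which takes only integer values is constant. -/
theorem result {G : Type u} [AddCommGroup G] (G' : AddSubgroup G)
    (p : ℕ) (hp : p.Prime) (hdiv : ∀ x ∈ G', ∃ y ∈ G', p • y = x) (htor : ∀ x : G, ∃ n : ℤ, n ≠ 0 ∧ n • x ∈ G')
    (f : G → ℚ) (hf : W4sga6xxiii.IsPolyMap f) (hint : ∀ x, ∃ z : ℤ, f x = z) (x : G) : f x = f 0 := by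
  have htr := translate G' p hp hdiv f hf hint
  obtain ⟨n, hn0, hn⟩ := htor x
  obtain ⟨Q, hQ⟩ := poly_along f hf 0 x
  have hnq : (n : ℚ) ≠ 0 := by exact_mod_cast hn0
  have hcomp : Q.comp (Polynomial.C (n : ℚ) * Polynomial.X) = Polynomial.C (f 0) := by
    apply eq_of_eval_int_eq
    intro t
    rw [Polynomial.eval_comp, Polynomial.eval_mul, Polynomial.eval_C, Polynomial.eval_X,
      Polynomial.eval_C]
    have : (n : ℚ) * (t : ℚ) = ((t * n : ℤ) : ℚ) := by push_cast; ring
    rw [this, hQ, mul_smul]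
    exact htr 0 _ (G'.zsmul_mem hn t)
  have key : Q.natDegree = 0 := by
    have := congrArg Polynomial.natDegree hcomp
    rw [Polynomial.natDegree_comp, Polynomial.natDegree_C_mul_X _ hnq, mul_one,
      Polynomial.natDegree_C] at this
    exact this
  have h1 := hQ 1
  have h0 := hQ 0
  rw [Polynomial.eq_C_of_natDegree_eq_zero key] at h1 h0
  simp only [Polynomial.eval_C, one_smul, zero_smul, add_zero, zero_add] at h1 h0
  rw [← h1, h0]

end Groth.Agent.S5656
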