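import Groth.Statements.S5657
import Groth.Agent.H27.UnitBinom
import Mathlib.Tactic

set_option autoImplicit false
universe u
open TensorProduct
open W4sga6xxiii

namespace Groth.Agent.S5657

/-- Let A be a commutative ring, I an ideal of A with I^{m+1} = 0, and P ⊆ Aˣ the subgroup of units of
the form 1 + y with y ∈ I. Then the map P → A ⊗_ℤ ℚ, x ↦ x ⊗ 1, is a polynomial map of degree ≤ m on
the abelian group P (written additively): along every finite sequence x_1, …, x_r in P one has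
x_1^{n_1}⋯x_r^{n_r} ⊗ 1 = Σ_k Π_i C(n_i, k_i) y_k with y_k = 0 whenever k_1 + ⋯ + k_r > m. -/
theorem result (A : Type u) [CommRing A] (I : Ideal A) (m : ℕ) (hI : I ^ (m + 1) = ⊥)
    (P : Subgroup Aˣ) (hP : ∀ u : Aˣ, u ∈ P ↔ (u : A) - 1 ∈ I) :
    W4sga6xxiii.IsPolyMapLE (fun u : Additive P => (((Additive.toMul u : P) : Aˣ) : A) ⊗ₜ[ℤ] (1 : ℚ)) m := by
  classical
  intro r x
  let u : Fin r → Aˣ := fun i => ((Additive.toMul (x i) : P) : Aˣ)
  let y : Fin r → A := fun i => (u i : A) - 1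
  have hyI : ∀ i, y i ∈ I := fun i => (hP (u i)).1 (Additive.toMul (x i)).2
  have hy0 : ∀ i, y i ^ (m+1) = 0 := by
    intro i
    have h1 : y i ^ (m+1) ∈ I ^ (m+1) := Ideal.pow_mem_pow (hyI i) _
    rwa [hI, Ideal.mem_bot] at h1
  refine ⟨fun k => (∏ i, y i ^ (k i : ℕ)) ⊗ₜ[ℤ] (1 : ℚ), ?_, ?_⟩
  · intro k hk
    have h0 : ∏ i, y i ^ (k i : ℕ) = 0 := by
      have hmem : ∏ i, y i ^ (k i : ℕ) ∈ ∏ i : Fin r, I ^ (k i : ℕ) :=
        Ideal.prod_mem_prod (fun i _ => Ideal.pow_mem_pow (hyI i) _)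
      rw [Finset.prod_pow_eq_pow_sum] at hmem
      have hle : I ^ (∑ i, (k i : ℕ)) ≤ I ^ (m+1) := Ideal.pow_le_pow_right (by omega)
      have h2 := hle hmem
      rwa [hI, Ideal.mem_bot] at h2
    show (∏ i, y i ^ (k i : ℕ)) ⊗ₜ[ℤ] (1 : ℚ) = 0
    rw [h0, TensorProduct.zero_tmul]
  · intro n
    have h1 : (((Additive.toMul (∑ i, n i • x i) : P) : Aˣ) : A) =
        ∏ i, ((u i ^ n i : Aˣ) : A) := by
      rw [toMul_sum]
      simp only [toMul_zsmul]
      rw [Subgroup.val_finsetProd, Units.coe_prod]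
      rfl
    have h3 : ∀ i, ((u i ^ n i : Aˣ) : A) =
        ∑ j : Fin (m+1), (Ring.choose (n i) (j : ℕ)) • y i ^ (j : ℕ) := by
      intro i
      rw [Groth.Agent.H27.unit_zpow_eq_binomSeries m (u i) (hy0 i) (n i)]
      unfold Groth.Agent.H27.binomSeries
      rw [← Fin.sum_univ_eq_sum_range (fun j => (Ring.choose (n i) j) • y i ^ j) (m+1)]
    show (((Additive.toMul (∑ i, n i • x i) : P) : Aˣ) : A) ⊗ₜ[ℤ] (1 : ℚ) = _
    rw [h1]
    simp only [h3]
    rw [Finset.prod_univ_sum, Fintype.piFinset_univ, TensorProduct.sum_tmul]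
    refine Finset.sum_congr rfl (fun k _ => ?_)
    show _ = (∏ i, Ring.choose (n i) (k i : ℕ)) • ((∏ i, y i ^ (k i : ℕ)) ⊗ₜ[ℤ] (1 : ℚ))
    have h5 : ∏ i, (Ring.choose (n i) (k i : ℕ)) • y i ^ (k i : ℕ) =
        (∏ i, Ring.choose (n i) (k i : ℕ)) • ∏ i, y i ^ (k i : ℕ) := by
      simp only [zsmul_eq_mul]
      rw [Finset.prod_mul_distrib, Int.cast_prod]
    rw [h5, TensorProduct.smul_tmul']

end Groth.Agent.S5657
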