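import Groth.Statements.S5658
import Mathlib

set_option autoImplicit false
universe u
open CAlg

namespace Groth.Agent.S5658


section ET

variable {R : Type u} [CommRing R] {n : ℕ}

/-- products of transvections -/
inductive IsET : Matrix (Fin n) (Fin n) R → Prop
  | one : IsET 1
  | mulL (i j : Fin n) (h : i ≠ j) (c : R) (M : Matrix (Fin n) (Fin n) R) :
      IsET M → IsET (Matrix.transvection i j c * M)

theorem IsET.mul {M M' : Matrix (Fin n) (Fin n) R} (h : IsET M) (h' : IsET M') :
    IsET (M * M') := by
  induction h with
  | one => rw [Matrix.one_mul]; exact h'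
  | mulL i j hij c M₀ _ ih => rw [Matrix.mul_assoc]; exact IsET.mulL i j hij c _ ih

theorem IsET.transv (i j : Fin n) (h : i ≠ j) (c : R) :
    IsET (Matrix.transvection i j c : Matrix (Fin n) (Fin n) R) := by
  have := IsET.mulL i j h c 1 IsET.one
  rwa [Matrix.mul_one] at this

theorem IsET.det {M : Matrix (Fin n) (Fin n) R} (h : IsET M) : M.det = 1 := by
  induction h with
  | one => exact Matrix.det_one
  | mulL i j hij c M₀ _ ih => rw [Matrix.det_mul, Matrix.det_transvection_of_ne i j hij, ih, one_mul]

theorem transvection_map {S : Type u} [CommRing S] (f : R →+* S) (i j : Fin n) (c : R) :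
    (Matrix.transvection i j c).map f = Matrix.transvection i j (f c) := by
  ext x y
  simp only [Matrix.transvection, Matrix.map_apply, Matrix.add_apply, Matrix.one_apply,
    Matrix.single_apply, map_add]
  split_ifs <;> simp

theorem IsET.map {S : Type u} [CommRing S] (f : R →+* S) {M : Matrix (Fin n) (Fin n) R}
    (h : IsET M) : IsET (M.map f) := by
  induction h with
  | one =>
    rw [Matrix.map_one f (map_zero f) (map_one f)]
    exact IsET.one
  | mulL i j hij c M₀ _ ih =>
    rw [Matrix.map_mul, transvection_map]
    exact IsET.mulL i j hij _ _ ih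

theorem transvection_transpose (i j : Fin n) (c : R) :
    (Matrix.transvection i j c).transpose = Matrix.transvection j i c := by
  ext x y
  simp only [Matrix.transvection, Matrix.transpose_apply, Matrix.add_apply, Matrix.one_apply,
    Matrix.single_apply]
  congr 1
  · simp only [eq_comm]
  · simp only [and_comm]

theorem IsET.transpose {M : Matrix (Fin n) (Fin n) R} (h : IsET M) : IsET M.transpose := by
  induction h with
  | one => rw [Matrix.transpose_one]; exact IsET.one
  | mulL i j hij c M₀ _ ih =>
    rw [Matrix.transpose_mul, transvection_transpose]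
    exact ih.mul (IsET.transv j i hij.symm c)

theorem IsET.exists_inv {M : Matrix (Fin n) (Fin n) R} (h : IsET M) :
    ∃ M' : Matrix (Fin n) (Fin n) R, IsET M' ∧ M' * M = 1 ∧ M * M' = 1 := by
  induction h with
  | one => exact ⟨1, IsET.one, Matrix.one_mul _, Matrix.one_mul _⟩
  | mulL i j hij c M₀ _ ih =>
    obtain ⟨M', hM', h1, h2⟩ := ih
    refine ⟨M' * Matrix.transvection i j (-c), hM'.mul (IsET.transv i j hij _), ?_, ?_⟩
    · rw [Matrix.mul_assoc, ← Matrix.mul_assoc (Matrix.transvection i j (-c)),
        Matrix.transvection_mul_transvection_same i j hij, neg_add_cancel,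
        Matrix.transvection_zero, Matrix.one_mul, h1]
    · rw [Matrix.mul_assoc, ← Matrix.mul_assoc M₀, h2, Matrix.one_mul,
        Matrix.transvection_mul_transvection_same i j hij, add_neg_cancel,
        Matrix.transvection_zero]

/-- matrix whose `k`-th column is `c` and which is zero elsewhere -/
def colMat (k : Fin n) (c : Fin n → R) : Matrix (Fin n) (Fin n) R :=
  Matrix.of fun a b => if b = k then c a else 0

theorem colMat_apply (k : Fin n) (c : Fin n → R) (a b : Fin n) :
    colMat k c a b = if b = k then c a else 0 := rfl

theorem colMat_mul_apply (k : Fin n) (c : Fin n → R) (M : Matrix (Fin n) (Fin n) R)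
    (a b : Fin n) : (colMat k c * M) a b = c a * M k b := by
  simp [Matrix.mul_apply, colMat_apply, ite_mul]

theorem mul_colMat_transpose_apply (k : Fin n) (d : Fin n → R) (M : Matrix (Fin n) (Fin n) R)
    (a b : Fin n) : (M * (colMat k d).transpose) a b = M a k * d b := by
  simp [Matrix.mul_apply, colMat_apply, Matrix.transpose_apply, mul_ite]

theorem isET_colMat (k : Fin n) : ∀ (T : Finset (Fin n)) (c : Fin n → R), k ∉ T →
    (∀ a, a ∉ T → c a = 0) → IsET (1 + colMat k c) := by
  intro T
  induction T using Finset.induction_on with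
  | empty =>
    intro c _ hc
    have h0 : colMat k c = 0 := by
      ext a b
      rw [colMat_apply, hc a (Finset.notMem_empty a)]
      simp
    rw [h0, add_zero]
    exact IsET.one
  | insert a T ha ih =>
    intro c hk hc
    have hak : a ≠ k := fun h => hk (h ▸ Finset.mem_insert_self a T)
    have hkT : k ∉ T := fun h => hk (Finset.mem_insert_of_mem h)
    have hck : c k = 0 := hc k hk
    have hc' : ∀ x, x ∉ T → Function.update c a 0 x = 0 := by
      intro x hx
      by_cases hxa : x = a
      · rw [hxa, Function.update_self]
      · rw [Function.update_of_ne hxa]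
        exact hc x (fun h => (Finset.mem_insert.mp h).elim hxa hx)
    have key : 1 + colMat k c =
        Matrix.transvection a k (c a) * (1 + colMat k (Function.update c a 0)) := by
      ext x y
      have hrowk : (1 + colMat k (Function.update c a 0)) k y = (1 : Matrix (Fin n) (Fin n) R) k y := by
        rw [Matrix.add_apply, colMat_apply, Function.update_of_ne hak.symm, hck]
        simp
      by_cases hx : x = a
      · subst hx
        rw [Matrix.transvection_mul_apply_same, hrowk, Matrix.add_apply, Matrix.add_apply,
          colMat_apply, colMat_apply, Function.update_self, Matrix.one_apply, Matrix.one_apply]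
        by_cases hy : y = k
        · subst hy
          simp
        · have hky : ¬ k = y := fun h => hy h.symm
          simp [hy, hky]
      · rw [Matrix.transvection_mul_apply_of_ne _ _ _ _ hx, Matrix.add_apply, Matrix.add_apply,
          colMat_apply, colMat_apply, Function.update_of_ne hx]
    rw [key]
    exact IsET.mulL a k hak (c a) _ (ih _ hkT hc')

/-- `S`-reduced matrices: identity on rows and columns indexed by `S` -/
def Red (S : Finset (Fin n)) (M : Matrix (Fin n) (Fin n) R) : Prop :=
  ∀ i j, (i ∈ S ∨ j ∈ S) → M i j = if i = j then 1 else 0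

theorem Red.transv_mul {S : Finset (Fin n)} {M : Matrix (Fin n) (Fin n) R} (h : Red S M)
    {a b : Fin n} (ha : a ∉ S) (hb : b ∉ S) (c : R) :
    Red S (Matrix.transvection a b c * M) := by
  intro x y hxy
  by_cases hx : x = a
  · subst hx
    have hy : y ∈ S := hxy.resolve_left ha
    have hby : b ≠ y := fun h => hb (h ▸ hy)
    rw [Matrix.transvection_mul_apply_same, h b y (Or.inr hy), if_neg hby, mul_zero, add_zero]
    exact h x y hxy
  · rw [Matrix.transvection_mul_apply_of_ne _ _ _ _ hx]
    exact h x y hxy

end ET

section GoodSec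

variable {R : Type u} [CommRing R] {n : ℕ}

/-- after an étale extension with a prime over `p`, `M` becomes a product of transvections -/
def Good (p : Ideal R) (M : Matrix (Fin n) (Fin n) R) : Prop :=
  ∃ (R' : Type u) (_ : CommRing R') (_ : Algebra R R'), Algebra.Etale R R' ∧
    (∃ q : Ideal R', q.IsPrime ∧ q.comap (algebraMap R R') = p) ∧
    IsET (M.map (algebraMap R R'))

theorem Good.of_isET (p : Ideal R) [p.IsPrime] {M : Matrix (Fin n) (Fin n) R} (h : IsET M) :
    Good p M := by
  refine ⟨R, inferInstance, inferInstance, inferInstance, ⟨p, inferInstance, ?_⟩, ?_⟩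
  · ext x; simp
  · have : M.map (algebraMap R R) = M := by ext i j; simp
    rw [this]; exact h

theorem Good.of_mul {p : Ideal R} {L M Rr : Matrix (Fin n) (Fin n) R} (hL : IsET L)
    (hR : IsET Rr) (h : Good p (L * M * Rr)) : Good p M := by
  obtain ⟨R', _, _, het, hq, hE⟩ := h
  obtain ⟨L', hL', hL'1, _⟩ := hL.exists_inv
  obtain ⟨Rr', hR', _, hR'2⟩ := hR.exists_inv
  refine ⟨R', inferInstance, inferInstance, het, hq, ?_⟩
  have h1 : M = L' * (L * M * Rr) * Rr' := by
    rw [Matrix.mul_assoc L, ← Matrix.mul_assoc L', hL'1, Matrix.one_mul, Matrix.mul_assoc, hR'2,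
      Matrix.mul_one]
  rw [h1, Matrix.map_mul, Matrix.map_mul]
  exact ((hL'.map _).mul hE).mul (hR'.map _)

theorem Good.descend {R₁ : Type u} [CommRing R₁] [Algebra R R₁] [Algebra.Etale R R₁]
    (p : Ideal R) (p₁ : Ideal R₁) (hp₁ : p₁.comap (algebraMap R R₁) = p)
    {M : Matrix (Fin n) (Fin n) R} (h : Good p₁ (M.map (algebraMap R R₁))) : Good p M := by
  obtain ⟨R', _, _, het, ⟨q, hqp, hq⟩, hE⟩ := h
  letI : Algebra R R' := ((algebraMap R₁ R').comp (algebraMap R R₁)).toAlgebra
  haveI : IsScalarTower R R₁ R' := IsScalarTower.of_algebraMap_eq (fun x => rfl)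
  haveI := het
  refine ⟨R', inferInstance, inferInstance, Algebra.Etale.comp R R₁ R', ⟨q, hqp, ?_⟩, ?_⟩
  · rw [IsScalarTower.algebraMap_eq R R₁ R', ← Ideal.comap_comap, hq, hp₁]
  · rw [Matrix.map_map] at hE
    exact hE

end GoodSec

section Induct

variable {n : ℕ}

theorem step_one (m : ℕ)
    (ih : ∀ (S : Finset (Fin n)), (Finset.univ \ S).card = m → ∀ (R : Type u) [CommRing R]
      (p : Ideal R) [p.IsPrime] (M : Matrix (Fin n) (Fin n) R), M.det = 1 → Red S M → Good p M)
    (S : Finset (Fin n)) (hS : (Finset.univ \ S).card = m + 1) (k : Fin n) (hkS : k ∉ S)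
    (R : Type u) [CommRing R] (p : Ideal R) [p.IsPrime] (M : Matrix (Fin n) (Fin n) R)
    (hdet : M.det = 1) (hred : Red S M) (h1 : M k k = 1) : Good p M := by
  classical
  set c : Fin n → R := fun a => if a = k then 0 else - M a k with hc
  have hLET : IsET (1 + colMat k c) := by
    apply isET_colMat k (Finset.univ.erase k) c (Finset.notMem_erase k _)
    intro a ha
    have hak : a = k := by
      by_contra hne
      exact ha (Finset.mem_erase.mpr ⟨hne, Finset.mem_univ a⟩)
    rw [hc]; simp [hak]
  set M₃ := (1 + colMat k c) * M with hM₃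
  have hM₃ab : ∀ a b, M₃ a b = M a b + c a * M k b := by
    intro a b
    rw [hM₃, Matrix.add_mul, Matrix.one_mul, Matrix.add_apply, colMat_mul_apply]
  set d : Fin n → R := fun b => if b = k then 0 else - M₃ k b with hd
  have hRET : IsET (1 + colMat k d).transpose := by
    apply IsET.transpose
    apply isET_colMat k (Finset.univ.erase k) d (Finset.notMem_erase k _)
    intro a ha
    have hak : a = k := by
      by_contra hne
      exact ha (Finset.mem_erase.mpr ⟨hne, Finset.mem_univ a⟩)
    rw [hd]; simp [hak]
  set M₄ := M₃ * (1 + colMat k d).transpose with hM₄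
  have hM₄ab : ∀ a b, M₄ a b = M₃ a b + M₃ a k * d b := by
    intro a b
    rw [hM₄, Matrix.transpose_add, Matrix.transpose_one, Matrix.mul_add, Matrix.mul_one,
      Matrix.add_apply, mul_colMat_transpose_apply]
  have hck : c k = 0 := by rw [hc]; simp
  have hdk : d k = 0 := by rw [hd]; simp
  have h3kk : M₃ k k = 1 := by rw [hM₃ab, hck, zero_mul, add_zero, h1]
  have h3ak : ∀ a, a ≠ k → M₃ a k = 0 := by
    intro a ha
    rw [hM₃ab, h1, mul_one]
    show M a k + (if a = k then 0 else - M a k) = 0
    rw [if_neg ha, add_neg_cancel]
  have h3kb : ∀ b, M₃ k b = M k b := by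
    intro b
    rw [hM₃ab, hck, zero_mul, add_zero]
  have hdet4 : M₄.det = 1 := by
    rw [hM₄, hM₃, Matrix.det_mul, Matrix.det_mul, hLET.det, hRET.det, hdet, one_mul, one_mul]
  have hred4 : Red (insert k S) M₄ := by
    intro a b hab
    rw [hM₄ab]
    by_cases ha : a = k
    · subst ha
      rw [h3kk, one_mul]
      by_cases hb : b = a
      · subst hb
        rw [hdk, add_zero, h3kk, if_pos rfl]
      · have hab' : ¬ a = b := fun h => hb h.symm
        rw [if_neg hab']
        show M₃ a b + (if b = a then 0 else - M₃ a b) = 0
        rw [if_neg hb, add_neg_cancel]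
    · rw [h3ak a ha, zero_mul, add_zero]
      by_cases hb : b = k
      · subst hb
        rw [h3ak a ha, if_neg ha]
      · have hab2 : a ∈ S ∨ b ∈ S := by
          rcases hab with h | h
          · exact Or.inl ((Finset.mem_insert.mp h).resolve_left ha)
          · exact Or.inr ((Finset.mem_insert.mp h).resolve_left hb)
        rw [hM₃ab, hred a b hab2]
        have hz : c a * M k b = 0 := by
          rcases hab2 with h | h
          · have : M a k = 0 := by
              rw [hred a k (Or.inl h), if_neg ha]
            show (if a = k then 0 else - M a k) * M k b = 0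
            rw [if_neg ha, this, neg_zero, zero_mul]
          · have hkb : ¬ k = b := fun h' => hb h'.symm
            rw [hred k b (Or.inr h), if_neg hkb, mul_zero]
        rw [hz, add_zero]
  have hcard : (Finset.univ \ insert k S).card = m := by
    have h2 : Finset.univ \ insert k S = (Finset.univ \ S).erase k := by
      ext x
      simp only [Finset.mem_sdiff, Finset.mem_univ, true_and, Finset.mem_insert, Finset.mem_erase]
      tauto
    rw [h2, Finset.card_erase_of_mem (Finset.mem_sdiff.mpr ⟨Finset.mem_univ k, hkS⟩), hS]
    rfl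
  have hgood4 : Good p M₄ := ih (insert k S) hcard R p M₄ hdet4 hred4
  exact Good.of_mul hLET hRET hgood4

theorem step_unit_ne (m : ℕ)
    (ih : ∀ (S : Finset (Fin n)), (Finset.univ \ S).card = m → ∀ (R : Type u) [CommRing R]
      (p : Ideal R) [p.IsPrime] (M : Matrix (Fin n) (Fin n) R), M.det = 1 → Red S M → Good p M)
    (S : Finset (Fin n)) (hS : (Finset.univ \ S).card = m + 1) (k : Fin n) (hkS : k ∉ S)
    (R : Type u) [CommRing R] (p : Ideal R) [p.IsPrime] (M : Matrix (Fin n) (Fin n) R)
    (hdet : M.det = 1) (hred : Red S M) (i : Fin n) (hiS : i ∉ S) (hik : i ≠ k)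
    (hu : IsUnit (M i k)) : Good p M := by
  obtain ⟨v, hv⟩ := hu.exists_right_inv
  set c := (1 - M k k) * v with hc
  have hM₂kk : (Matrix.transvection k i c * M) k k = 1 := by
    rw [Matrix.transvection_mul_apply_same, hc]
    linear_combination (1 - M k k) * hv
  have hred2 : Red S (Matrix.transvection k i c * M) := hred.transv_mul hkS hiS c
  have hdet2 : (Matrix.transvection k i c * M).det = 1 := by
    rw [Matrix.det_mul, Matrix.det_transvection_of_ne k i hik.symm, hdet, one_mul]
  have hg := step_one m ih S hS k hkS R p _ hdet2 hred2 hM₂kk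
  have hg' : Good p (Matrix.transvection k i c * M * 1) := by rwa [Matrix.mul_one]
  exact Good.of_mul (IsET.transv k i hik.symm c) IsET.one hg'

theorem step_unit (m : ℕ)
    (ih : ∀ (S : Finset (Fin n)), (Finset.univ \ S).card = m → ∀ (R : Type u) [CommRing R]
      (p : Ideal R) [p.IsPrime] (M : Matrix (Fin n) (Fin n) R), M.det = 1 → Red S M → Good p M)
    (S : Finset (Fin n)) (hS : (Finset.univ \ S).card = m + 1) (k : Fin n) (hkS : k ∉ S)
    (R : Type u) [CommRing R] (p : Ideal R) [p.IsPrime] (M : Matrix (Fin n) (Fin n) R)
    (hdet : M.det = 1) (hred : Red S M) (i : Fin n) (hiS : i ∉ S)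
    (hu : IsUnit (M i k)) : Good p M := by
  classical
  by_cases hik : i = k
  · subst hik
    by_cases hj : ∃ j, j ∉ S ∧ j ≠ i
    · obtain ⟨j, hjS, hji⟩ := hj
      obtain ⟨v, hv⟩ := hu.exists_right_inv
      set c := (1 - M j i) * v with hc
      have hM'ji : (Matrix.transvection j i c * M) j i = 1 := by
        rw [Matrix.transvection_mul_apply_same, hc]
        linear_combination (1 - M j i) * hv
      have hred' : Red S (Matrix.transvection j i c * M) := hred.transv_mul hjS hiS c
      have hdet' : (Matrix.transvection j i c * M).det = 1 := by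
        rw [Matrix.det_mul, Matrix.det_transvection_of_ne j i hji, hdet, one_mul]
      have hg := step_unit_ne m ih S hS i hkS R p _ hdet' hred' j hjS hji
        (by rw [hM'ji]; exact isUnit_one)
      have hg' : Good p (Matrix.transvection j i c * M * 1) := by rwa [Matrix.mul_one]
      exact Good.of_mul (IsET.transv j i hji c) IsET.one hg'
    · push_neg at hj
      have hM : M = Matrix.diagonal (fun a => if a = i then M i i else 1) := by
        ext a b
        by_cases hab : a ∈ S ∨ b ∈ S
        · rw [hred a b hab]
          by_cases h : a = b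
          · subst h
            have haS : a ∈ S := hab.elim id id
            have hai : a ≠ i := fun h' => hkS (by rw [← h']; exact haS)
            rw [if_pos rfl, Matrix.diagonal_apply_eq, if_neg hai]
          · rw [if_neg h, Matrix.diagonal_apply_ne _ h]
        · push_neg at hab
          have ha := hj a hab.1
          have hb := hj b hab.2
          rw [ha, hb, Matrix.diagonal_apply_eq, if_pos rfl]
      have h1 : M i i = 1 := by
        have := hdet
        rw [hM, Matrix.det_diagonal, Finset.prod_ite_eq' Finset.univ i (fun _ => M i i)] at this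
        simpa using this
      exact step_one m ih S hS i hkS R p M hdet hred h1
  · exact step_unit_ne m ih S hS k hkS R p M hdet hred i hiS hik hu

theorem main_ind : ∀ (m : ℕ) (S : Finset (Fin n)), (Finset.univ \ S).card = m →
    ∀ (R : Type u) [CommRing R] (p : Ideal R) [p.IsPrime] (M : Matrix (Fin n) (Fin n) R),
      M.det = 1 → Red S M → Good p M := by
  intro m
  induction m with
  | zero =>
    intro S hS R _ p _ M hdet hred
    have hSu : ∀ i, i ∈ S := by
      intro i
      by_contra hi
      have h1 : i ∈ Finset.univ \ S := Finset.mem_sdiff.mpr ⟨Finset.mem_univ i, hi⟩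
      rw [Finset.card_eq_zero.mp hS] at h1
      exact absurd h1 (Finset.notMem_empty i)
    have hM : M = 1 := by
      ext i j
      rw [hred i j (Or.inl (hSu i)), Matrix.one_apply]
    rw [hM]
    exact Good.of_isET p IsET.one
  | succ m ih =>
    intro S hS R _ p _ M hdet hred
    have hne : (Finset.univ \ S).Nonempty := by
      rw [← Finset.card_pos, hS]; omega
    obtain ⟨k, hk⟩ := hne
    have hkS : k ∉ S := (Finset.mem_sdiff.mp hk).2
    obtain ⟨i, hiS, hip⟩ : ∃ i, i ∉ S ∧ M i k ∉ p := by
      by_contra hcon
      push_neg at hcon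
      have h1 : M.det ∈ p := by
        rw [Matrix.det_eq_sum_mul_adjugate_col M k]
        apply Ideal.sum_mem
        intro i _
        apply Ideal.mul_mem_right
        by_cases hi : i ∈ S
        · rw [hred i k (Or.inl hi), if_neg (show ¬ i = k from fun h => hkS (h ▸ hi))]
          exact Ideal.zero_mem _
        · exact hcon i hi
      rw [hdet] at h1
      exact (Ideal.IsPrime.ne_top ‹_›) ((Ideal.eq_top_iff_one _).mpr h1)
    -- localize at g = M i k
    have hdisj : Disjoint (Submonoid.powers (M i k) : Set R) (p : Set R) :=
      (Ideal.disjoint_powers_iff_notMem (M i k) (Ideal.IsPrime.isRadical ‹_›)).mpr hip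
    haveI : Algebra.Etale R (Localization.Away (M i k)) :=
      Algebra.Etale.of_isLocalizationAway (M i k)
    haveI hp₁ : (p.map (algebraMap R (Localization.Away (M i k)))).IsPrime :=
      IsLocalization.isPrime_of_isPrime_disjoint (Submonoid.powers (M i k)) _ p ‹_› hdisj
    have hcomap : (p.map (algebraMap R (Localization.Away (M i k)))).comap
        (algebraMap R (Localization.Away (M i k))) = p :=
      IsLocalization.under_map_of_isPrime_disjoint (Submonoid.powers (M i k)) _ ‹_› hdisj
    apply Good.descend p _ hcomap
    apply step_unit m ih S hS k hkS (Localization.Away (M i k)) _ _ ?_ ?_ i hiS ?_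
    · have := (RingHom.map_det (algebraMap R (Localization.Away (M i k))) M).symm
      rw [RingHom.mapMatrix_apply] at this
      rw [this, hdet, map_one]
    · intro a b hab
      rw [Matrix.map_apply, hred a b hab]
      split_ifs <;> simp
    · rw [Matrix.map_apply]
      exact IsLocalization.Away.algebraMap_isUnit (M i k)

end Induct

section Final

open Polynomial in
theorem goodUnit (R : Type u) [CommRing R] (q : Ideal R) [q.IsPrime] :
    ∃ (R' : Type u) (_ : CommRing R') (_ : Algebra R R'), Algebra.Etale R R' ∧
      (∃ q' : Ideal R', q'.IsPrime ∧ q'.comap (algebraMap R R') = q) ∧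
      ∃ u : R', IsUnit u ∧ IsUnit (u - 1) := by
  by_cases h2 : (2 : R) ∈ q
  · have h3 : (3 : R) ∉ q := by
      intro h3
      have : (1 : R) ∈ q := by
        have := q.sub_mem h3 h2
        norm_num at this
        exact this
      exact (Ideal.IsPrime.ne_top ‹_›) ((Ideal.eq_top_iff_one _).mpr this)
    let P : StandardEtalePair R :=
      { f := X ^ 2 + X + 1
        monic_f := by monicity!
        g := C 3
        cond := ⟨-(2 * X + 1), 4, 1, by
          have h3 : (C (3 : R) : R[X]) = 3 := map_ofNat C 3
          have hd : derivative (X ^ 2 + X + 1 : R[X]) = 2 * X + 1 := by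
            rw [derivative_add, derivative_add, derivative_one, derivative_X, derivative_X_pow]
            have h2 : (C ((2 : ℕ) : R) : R[X]) = 2 := by
              rw [Nat.cast_ofNat]; exact map_ofNat C 2
            rw [h2]
            norm_num
          rw [hd, h3]
          ring⟩ }
    have hX := P.hasMap_X
    have ht : P.X ^ 2 + P.X + 1 = 0 := by
      have := hX.1
      simpa [P] using this
    have hu1 : P.X * (-(P.X + 1)) = 1 := by linear_combination -ht
    have hu2 : (P.X + 1) * (-P.X) = 1 := by linear_combination -ht
    -- a prime over q via a geometric point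
    let K := AlgebraicClosure q.ResidueField
    obtain ⟨x, hx⟩ := IsAlgClosed.exists_root (X ^ 2 + X + 1 : K[X]) (by
      have : (X ^ 2 + X + 1 : K[X]).degree = 2 := by compute_degree!
      rw [this]; norm_num)
    have hx' : x ^ 2 + x + 1 = 0 := by simpa using hx
    have hmap : P.HasMap x := by
      refine ⟨?_, ?_⟩
      · simpa [P] using hx'
      · rw [isUnit_iff_ne_zero]
        intro h0
        have h0' : algebraMap R K (3 : R) = 0 := by
          have h00 : Polynomial.aeval x (C (3 : R) : R[X]) = 0 := h0
          rwa [Polynomial.aeval_C] at h00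
        rw [IsScalarTower.algebraMap_apply R q.ResidueField K,
          map_eq_zero_iff _ (algebraMap q.ResidueField K).injective] at h0'
        exact h3 (Ideal.algebraMap_residueField_eq_zero.mp h0')
    let φ := P.lift x hmap
    refine ⟨P.Ring, inferInstance, inferInstance, inferInstance,
      ⟨RingHom.ker (φ : P.Ring →+* K), RingHom.ker_isPrime _, ?_⟩, -P.X, ?_, ?_⟩
    · ext r
      rw [Ideal.mem_comap, RingHom.mem_ker]
      show φ (algebraMap R P.Ring r) = 0 ↔ r ∈ q
      rw [φ.commutes, IsScalarTower.algebraMap_apply R q.ResidueField K,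
        map_eq_zero_iff _ (algebraMap q.ResidueField K).injective,
        Ideal.algebraMap_residueField_eq_zero]
    · exact (IsUnit.of_mul_eq_one _ hu1).neg
    · have : -P.X - 1 = -(P.X + 1) := by ring
      rw [this]
      exact (IsUnit.of_mul_eq_one _ hu2).neg
  · have hdisj : Disjoint (Submonoid.powers (2 : R) : Set R) (q : Set R) :=
      (Ideal.disjoint_powers_iff_notMem (2 : R) (Ideal.IsPrime.isRadical ‹_›)).mpr h2
    refine ⟨Localization.Away (2 : R), inferInstance, inferInstance,
      Algebra.Etale.of_isLocalizationAway (2 : R),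
      ⟨q.map (algebraMap R (Localization.Away (2 : R))),
        IsLocalization.isPrime_of_isPrime_disjoint (Submonoid.powers (2 : R)) _ q ‹_› hdisj,
        IsLocalization.under_map_of_isPrime_disjoint (Submonoid.powers (2 : R)) _ ‹_› hdisj⟩,
      -1, isUnit_one.neg, ?_⟩
    have h : (-1 - 1 : Localization.Away (2 : R)) = -(algebraMap R _ 2) := by
      rw [map_ofNat]; ring
    rw [h]
    exact (IsLocalization.Away.algebraMap_isUnit (2 : R)).neg

theorem transv_mem_commutator {R : Type u} [CommRing R] {n : ℕ} (u : R) (hu : IsUnit u)
    (hu1 : IsUnit (u - 1)) (i j : Fin n) (hij : i ≠ j) (c : R)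
    (T : Matrix.GeneralLinearGroup (Fin n) R)
    (hT : (T : Matrix (Fin n) (Fin n) R) = Matrix.transvection i j c) :
    T ∈ commutator (Matrix.GeneralLinearGroup (Fin n) R) := by
  classical
  obtain ⟨u', huu'⟩ := hu.exists_right_inv
  obtain ⟨w, hw⟩ := hu1.exists_right_inv
  set b := c * w with hb
  let d : Fin n → R := Function.update 1 i u
  let d' : Fin n → R := Function.update 1 i u'
  have hdd' : ∀ x, d x * d' x = 1 := by
    intro x
    by_cases hx : x = i
    · subst hx; simp [d, d', huu']
    · simp [d, d', Function.update_of_ne hx]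
  have hd'd : ∀ x, d' x * d x = 1 := fun x => by rw [mul_comm]; exact hdd' x
  let D : Matrix.GeneralLinearGroup (Fin n) R :=
    ⟨Matrix.diagonal d, Matrix.diagonal d', by
      rw [Matrix.diagonal_mul_diagonal]
      simp only [hdd']
      exact Matrix.diagonal_one, by
      rw [Matrix.diagonal_mul_diagonal]
      simp only [hd'd]
      exact Matrix.diagonal_one⟩
  let T' : Matrix.GeneralLinearGroup (Fin n) R :=
    ⟨Matrix.transvection i j b, Matrix.transvection i j (-b), by
      rw [Matrix.transvection_mul_transvection_same i j hij, add_neg_cancel,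
        Matrix.transvection_zero], by
      rw [Matrix.transvection_mul_transvection_same i j hij, neg_add_cancel,
        Matrix.transvection_zero]⟩
  have key : Matrix.diagonal d * Matrix.transvection i j b * Matrix.diagonal d' =
      Matrix.transvection i j (u * b) := by
    ext x y
    rw [Matrix.mul_diagonal, Matrix.diagonal_mul]
    simp only [Matrix.transvection, Matrix.add_apply, Matrix.one_apply, Matrix.single_apply]
    by_cases hxy : x = y
    · subst hxy
      have hnot : ¬ (i = x ∧ j = x) := fun h => hij (h.1.trans h.2.symm)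
      simp only [if_neg hnot, add_zero, mul_one, if_true]
      exact hdd' x
    · rw [if_neg hxy, zero_add, zero_add]
      by_cases hc : i = x ∧ j = y
      · rw [if_pos hc, if_pos hc]
        obtain ⟨rfl, rfl⟩ := hc
        have : d' j = 1 := by simp [d', Function.update_of_ne hij.symm]
        rw [this, mul_one]
        simp [d]
      · rw [if_neg hc, if_neg hc, mul_zero, zero_mul]
  have hTeq : T = D * T' * D⁻¹ * T'⁻¹ := by
    apply Units.ext
    rw [hT]
    show Matrix.transvection i j c =
      Matrix.diagonal d * Matrix.transvection i j b * Matrix.diagonal d' *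
        Matrix.transvection i j (-b)
    rw [key, Matrix.transvection_mul_transvection_same i j hij]
    congr 1
    rw [hb]
    linear_combination (-c) * hw
  rw [hTeq, ← commutatorElement_def]
  exact Subgroup.commutator_mem_commutator (Subgroup.mem_top _) (Subgroup.mem_top _)

theorem mem_commutator_of_isET {R : Type u} [CommRing R] {n : ℕ} (u : R) (hu : IsUnit u)
    (hu1 : IsUnit (u - 1)) (M : Matrix (Fin n) (Fin n) R) (hM : IsET M) :
    ∀ g : Matrix.GeneralLinearGroup (Fin n) R, (g : Matrix (Fin n) (Fin n) R) = M →
      g ∈ commutator (Matrix.GeneralLinearGroup (Fin n) R) := by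
  induction hM with
  | one =>
    intro g hg
    have : g = 1 := Units.ext hg
    rw [this]
    exact Subgroup.one_mem _
  | mulL i j h c M₀ _ ih =>
    intro g hg
    let T : Matrix.GeneralLinearGroup (Fin n) R :=
      ⟨Matrix.transvection i j c, Matrix.transvection i j (-c), by
        rw [Matrix.transvection_mul_transvection_same i j h, add_neg_cancel,
          Matrix.transvection_zero], by
        rw [Matrix.transvection_mul_transvection_same i j h, neg_add_cancel,
          Matrix.transvection_zero]⟩
    have hT : T ∈ commutator (Matrix.GeneralLinearGroup (Fin n) R) :=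
      transv_mem_commutator u hu hu1 i j h c T rfl
    have h2 : T⁻¹ * g ∈ commutator (Matrix.GeneralLinearGroup (Fin n) R) := by
      apply ih
      show Matrix.transvection i j (-c) * (g : Matrix (Fin n) (Fin n) R) = M₀
      rw [hg, ← Matrix.mul_assoc, Matrix.transvection_mul_transvection_same i j h,
        neg_add_cancel, Matrix.transvection_zero, Matrix.one_mul]
    have h3 : g = T * (T⁻¹ * g) := by group
    rw [h3]
    exact Subgroup.mul_mem _ hT h2

end Final


/-- On the big étale site of a scheme the sheaf of commutator subgroups of Gl(n) is Sl(n) = Ker(det).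
Concretely: let A be a commutative ring, n ≥ 0, s ∈ SL_n(A) and p a prime ideal of A. Then there are
an étale A-algebra A' with a prime ideal lying over p such that the image of s in GL_n(A') lies in
the commutator subgroup of GL_n(A'). (The inclusion of commutators in SL_n being clear, this is the
content of the statement.) -/
theorem result (A : Type u) [CommRing A] (n : ℕ)
    (s : Matrix.SpecialLinearGroup (Fin n) A) (p : PrimeSpectrum A) :
    ∃ (A' : Type u) (_ : CommRing A') (_ : Algebra A A'), Algebra.Etale A A' ∧
      (∃ q : PrimeSpectrum A', q.asIdeal.comap (algebraMap A A') = p.asIdeal) ∧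
      (Matrix.GeneralLinearGroup.map (algebraMap A A')) (Matrix.SpecialLinearGroup.toGL s) ∈
        commutator (Matrix.GeneralLinearGroup (Fin n) A') := by
  haveI := p.isPrime
  obtain ⟨A₁, _, _, het₁, ⟨q₁, hq₁p, hq₁⟩, hET⟩ := main_ind (n := n) n ∅ (by simp) A p.asIdeal
    (s : Matrix (Fin n) (Fin n) A) s.det_coe (by intro i j h; simp at h)
  haveI := hq₁p
  haveI := het₁
  obtain ⟨A₂, _, _, het₂, ⟨q₂, hq₂p, hq₂⟩, u, hu, hu1⟩ := goodUnit A₁ q₁
  haveI := het₂
  letI : Algebra A A₂ := ((algebraMap A₁ A₂).comp (algebraMap A A₁)).toAlgebra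
  haveI : IsScalarTower A A₁ A₂ := IsScalarTower.of_algebraMap_eq (fun x => rfl)
  refine ⟨A₂, inferInstance, inferInstance, Algebra.Etale.comp A A₁ A₂, ⟨⟨q₂, hq₂p⟩, ?_⟩, ?_⟩
  · show q₂.comap (algebraMap A A₂) = p.asIdeal
    rw [IsScalarTower.algebraMap_eq A A₁ A₂, ← Ideal.comap_comap, hq₂, hq₁]
  · have hET₂ : IsET ((s : Matrix (Fin n) (Fin n) A).map (algebraMap A A₂)) := by
      have h1 := hET.map (algebraMap A₁ A₂)
      rw [Matrix.map_map] at h1
      exact h1
    exact mem_commutator_of_isET u hu hu1 _ hET₂ _ rfl

end Groth.Agent.S5658
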