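import Groth.Statements.S5659
import Mathlib
import Groth.Agent.S5658

set_option autoImplicit false
universe u
open CAlg

namespace Groth.Agent.S5659


theorem idem_conn {R : Type u} [CommRing R] [ConnectedSpace (PrimeSpectrum R)] (e : R)
    (he : IsIdempotentElem e) : e = 0 ∨ e = 1 := by
  have hcl : IsClopen (PrimeSpectrum.basicOpen e : Set (PrimeSpectrum R)) :=
    PrimeSpectrum.isClopen_iff.mpr ⟨e, he, rfl⟩
  rcases isClopen_iff.mp hcl with h | h
  · left
    apply PrimeSpectrum.basicOpen_injOn_isIdempotentElem he IsIdempotentElem.zero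
    apply TopologicalSpace.Opens.ext
    rw [h]; simp
  · right
    apply PrimeSpectrum.basicOpen_injOn_isIdempotentElem he IsIdempotentElem.one
    apply TopologicalSpace.Opens.ext
    rw [h]; simp

section Mono

variable (R : Type u) [CommRing R] (G : Type) [AddCommGroup G]

/-- monomial units of a group algebra -/
noncomputable def tU : Multiplicative G →* (AddMonoidAlgebra R G)ˣ :=
  (Units.map (AddMonoidAlgebra.of R G)).comp (toUnits (G := Multiplicative G)).toMonoidHom

theorem tU_val (g : Multiplicative G) :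
    ((tU R G g : (AddMonoidAlgebra R G)ˣ) : AddMonoidAlgebra R G) =
      AddMonoidAlgebra.single g.toAdd 1 := rfl

theorem map_tU {G' : Type} [AddCommGroup G'] (ι : G →+ G') (g : G) :
    Units.map ((AddMonoidAlgebra.mapDomainAlgHom R R ι).toRingHom :
        AddMonoidAlgebra R G →* AddMonoidAlgebra R G') (tU R G (Multiplicative.ofAdd g)) =
      tU R G' (Multiplicative.ofAdd (ι g)) := by
  apply Units.ext
  rw [Units.coe_map, tU_val, tU_val]
  show AddMonoidAlgebra.mapDomain ι (AddMonoidAlgebra.single g (1 : R)) = _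
  rw [AddMonoidAlgebra.mapDomain_single]
  rfl

end Mono

section Torus

variable (R : Type u) [CommRing R]

theorem key_mul (v w : AddMonoidAlgebra R ℤ) (a b : ℤ) :
    ((AddMonoidAlgebra.mapDomain (AddMonoidHom.inl ℤ ℤ) v : AddMonoidAlgebra R (ℤ × ℤ)) *
      AddMonoidAlgebra.mapDomain (AddMonoidHom.inr ℤ ℤ) w).coeff (a, b) =
      v.coeff a * w.coeff b := by
  induction v using AddMonoidAlgebra.induction_linear with
  | zero => simp
  | add x y hx hy =>
    rw [AddMonoidAlgebra.mapDomain_add, add_mul, AddMonoidAlgebra.coeff_add, Finsupp.add_apply,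
      hx, hy, AddMonoidAlgebra.coeff_add, Finsupp.add_apply, add_mul]
  | single m r =>
    induction w using AddMonoidAlgebra.induction_linear with
    | zero => simp
    | add x y hx hy =>
      rw [AddMonoidAlgebra.mapDomain_add, mul_add, AddMonoidAlgebra.coeff_add, Finsupp.add_apply,
        hx, hy, AddMonoidAlgebra.coeff_add, Finsupp.add_apply, mul_add]
    | single m' r' =>
      rw [AddMonoidAlgebra.mapDomain_single, AddMonoidAlgebra.mapDomain_single,
        AddMonoidAlgebra.single_mul_single]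
      simp only [AddMonoidAlgebra.coeff_single, Finsupp.single_apply, AddMonoidHom.inl_apply,
        AddMonoidHom.inr_apply, Prod.mk_add_mk, add_zero, zero_add, Prod.mk.injEq]
      by_cases h1 : m = a <;> by_cases h2 : m' = b <;> simp [h1, h2]

theorem key_diag (v : AddMonoidAlgebra R ℤ) (a b : ℤ) :
    (AddMonoidAlgebra.mapDomain (AddMonoidHom.inl ℤ ℤ + AddMonoidHom.inr ℤ ℤ) v :
      AddMonoidAlgebra R (ℤ × ℤ)).coeff (a, b) = if a = b then v.coeff a else 0 := by
  induction v using AddMonoidAlgebra.induction_linear with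
  | zero => simp
  | add x y hx hy =>
    rw [AddMonoidAlgebra.mapDomain_add, AddMonoidAlgebra.coeff_add, Finsupp.add_apply, hx, hy,
      AddMonoidAlgebra.coeff_add, Finsupp.add_apply]
    split_ifs <;> simp
  | single m r =>
    rw [AddMonoidAlgebra.mapDomain_single]
    simp only [AddMonoidAlgebra.coeff_single, Finsupp.single_apply, AddMonoidHom.add_apply,
      AddMonoidHom.inl_apply, AddMonoidHom.inr_apply, Prod.mk_add_mk, add_zero, zero_add,
      Prod.mk.injEq]
    by_cases h1 : m = a <;> by_cases h2 : a = b <;> simp [h1, h2]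

theorem torus_char [ConnectedSpace (PrimeSpectrum R)]
    (χ : ∀ (B : Type u) [CommRing B] [Algebra R B], Bˣ →* Bˣ)
    (hχ : ∀ (B C : Type u) [CommRing B] [Algebra R B] [CommRing C] [Algebra R C] (φ : B →ₐ[R] C)
      (t : Bˣ), χ C (Units.map (φ.toRingHom : B →* C) t) =
        Units.map (φ.toRingHom : B →* C) (χ B t)) :
    ∃ m : ℤ, ∀ (B : Type u) [CommRing B] [Algebra R B] (t : Bˣ), χ B t = t ^ m := by
  classical
  haveI : Nontrivial R := PrimeSpectrum.nonempty_iff_nontrivial.mp inferInstance
  let T : (AddMonoidAlgebra R ℤ)ˣ := tU R ℤ (Multiplicative.ofAdd 1)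
  let u : AddMonoidAlgebra R ℤ :=
    ((χ (AddMonoidAlgebra R ℤ) T : (AddMonoidAlgebra R ℤ)ˣ) : AddMonoidAlgebra R ℤ)
  -- evaluation formula
  have hev : ∀ (B : Type u) [CommRing B] [Algebra R B] (t : Bˣ),
      ((χ B t : Bˣ) : B) =
        AddMonoidAlgebra.lift R B ℤ ((Units.coeHom B).comp (zpowersHom Bˣ t)) u := by
    intro B _ _ t
    have h1 := hχ (AddMonoidAlgebra R ℤ) B
      (AddMonoidAlgebra.lift R B ℤ ((Units.coeHom B).comp (zpowersHom Bˣ t))) T
    have h2 : Units.map ((AddMonoidAlgebra.lift R B ℤ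
        ((Units.coeHom B).comp (zpowersHom Bˣ t))).toRingHom : AddMonoidAlgebra R ℤ →* B) T = t := by
      apply Units.ext
      rw [Units.coe_map]
      show (AddMonoidAlgebra.lift R B ℤ ((Units.coeHom B).comp (zpowersHom Bˣ t)))
        (AddMonoidAlgebra.single (1 : ℤ) (1 : R)) = (t : B)
      rw [AddMonoidAlgebra.lift_single]
      simp
    rw [h2] at h1
    rw [h1, Units.coe_map]
    rfl
  have hev' : ∀ (B : Type u) [CommRing B] [Algebra R B] (t : Bˣ),
      ((χ B t : Bˣ) : B) = u.coeff.sum (fun a b => b • ((t ^ a : Bˣ) : B)) := by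
    intro B _ _ t
    rw [hev B t, AddMonoidAlgebra.lift_apply]
    rfl
  have hnat : ∀ (ι : ℤ →+ ℤ × ℤ),
      ((χ (AddMonoidAlgebra R (ℤ × ℤ)) (tU R (ℤ × ℤ) (Multiplicative.ofAdd (ι 1))) :
        (AddMonoidAlgebra R (ℤ × ℤ))ˣ) : AddMonoidAlgebra R (ℤ × ℤ)) =
        AddMonoidAlgebra.mapDomain ι u := by
    intro ι
    have h1 := hχ (AddMonoidAlgebra R ℤ) (AddMonoidAlgebra R (ℤ × ℤ))
      (AddMonoidAlgebra.mapDomainAlgHom R R ι) T
    rw [map_tU] at h1
    rw [h1, Units.coe_map]
    rfl
  have horth : ∀ a b : ℤ, u.coeff a * u.coeff b = if a = b then u.coeff a else 0 := by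
    intro a b
    have h1 := hnat (AddMonoidHom.inl ℤ ℤ)
    have h2 := hnat (AddMonoidHom.inr ℤ ℤ)
    have h3 := hnat (AddMonoidHom.inl ℤ ℤ + AddMonoidHom.inr ℤ ℤ)
    have h4 : tU R (ℤ × ℤ) (Multiplicative.ofAdd
        ((AddMonoidHom.inl ℤ ℤ + AddMonoidHom.inr ℤ ℤ) 1)) =
        tU R (ℤ × ℤ) (Multiplicative.ofAdd (AddMonoidHom.inl ℤ ℤ 1)) *
          tU R (ℤ × ℤ) (Multiplicative.ofAdd (AddMonoidHom.inr ℤ ℤ 1)) := by
      rw [← map_mul, ← ofAdd_add, AddMonoidHom.add_apply]
    rw [h4, map_mul, Units.val_mul, h1, h2] at h3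
    have h5 := congrArg (fun x => x.coeff (a, b)) h3
    rw [key_mul, key_diag] at h5
    exact h5
  have hsum : ∑ a ∈ u.coeff.support, u.coeff a = 1 := by
    have h1 := hev' R (1 : Rˣ)
    rw [map_one] at h1
    simp only [one_zpow, Units.val_one, smul_eq_mul, mul_one] at h1
    exact h1.symm
  have hidem : ∀ a, u.coeff a = 0 ∨ u.coeff a = 1 := fun a =>
    idem_conn _ (by
      have := horth a a
      rw [if_pos rfl] at this
      exact this)
  obtain ⟨m, hm⟩ : ∃ m, u.coeff m = 1 := by
    by_contra hcon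
    push_neg at hcon
    have : ∑ a ∈ u.coeff.support, u.coeff a = 0 :=
      Finset.sum_eq_zero (fun a _ => (hidem a).resolve_right (hcon a))
    rw [this] at hsum
    exact zero_ne_one hsum
  have hu : u = AddMonoidAlgebra.single m 1 := by
    apply AddMonoidAlgebra.coeff_injective
    ext a
    rw [AddMonoidAlgebra.coeff_single, Finsupp.single_apply]
    by_cases ha : m = a
    · rw [if_pos ha, ← ha, hm]
    · rw [if_neg ha]
      have := horth a m
      rw [hm, mul_one, if_neg (fun h => ha h.symm)] at this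
      exact this
  refine ⟨m, fun B _ _ t => ?_⟩
  apply Units.ext
  rw [hev B t, hu, AddMonoidAlgebra.lift_single]
  simp

end Torus

section GLpart

variable {R : Type u} [CommRing R]

theorem inj_of_prime_over {A A' : Type u} [CommRing A] [CommRing A'] [Algebra A A']
    [IsLocalRing A] [Module.Flat A A'] (q : Ideal A') (hq : q.IsPrime)
    (hqm : q.comap (algebraMap A A') = IsLocalRing.maximalIdeal A) :
    Function.Injective (algebraMap A A') := by
  haveI : Module.FaithfullyFlat A A' :=
    { ‹Module.Flat A A'› with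
      submodule_ne_top := fun m hm h => by
        have hm' : m = IsLocalRing.maximalIdeal A := IsLocalRing.eq_maximalIdeal hm
        have hle : m • (⊤ : Submodule A A') ≤ q.restrictScalars A := by
          rw [Submodule.smul_le]
          intro r hr x _
          show r • x ∈ q
          rw [Algebra.smul_def]
          apply Ideal.mul_mem_right
          have : r ∈ q.comap (algebraMap A A') := by rw [hqm, ← hm']; exact hr
          exact this
        have h0 : (1 : A') ∈ m • (⊤ : Submodule A A') := by rw [h]; exact Submodule.mem_top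
        have h1 : (1 : A') ∈ q := hle h0
        exact hq.ne_top ((Ideal.eq_top_iff_one q).mpr h1) }
  exact FaithfulSMul.algebraMap_injective A A'

theorem trivial_on_SL (n : ℕ)
    (β : ∀ (B : Type u) [CommRing B] [Algebra R B], Matrix.GeneralLinearGroup (Fin n) B →* Bˣ)
    (hβ : ∀ (B C : Type u) [CommRing B] [Algebra R B] [CommRing C] [Algebra R C] (φ : B →ₐ[R] C)
      (g : Matrix.GeneralLinearGroup (Fin n) B),
      β C (Matrix.GeneralLinearGroup.map φ.toRingHom g) =
        Units.map (φ.toRingHom : B →* C) (β B g))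
    (B : Type u) [CommRing B] [Algebra R B] (s : Matrix.SpecialLinearGroup (Fin n) B) :
    β B (Matrix.SpecialLinearGroup.toGL s) = 1 := by
  apply Units.ext
  rw [Units.val_one, ← sub_eq_zero]
  apply eq_zero_of_localization
  intro J hJ
  let sA : Matrix.SpecialLinearGroup (Fin n) (Localization.AtPrime J) :=
    Matrix.SpecialLinearGroup.map (algebraMap B (Localization.AtPrime J)) s
  obtain ⟨A', _, _, het, ⟨q, hq⟩, hmem⟩ := Groth.Agent.S5658.result (Localization.AtPrime J) n sA
    ⟨IsLocalRing.maximalIdeal _, inferInstance⟩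
  haveI := het
  letI : Algebra R A' := ((algebraMap (Localization.AtPrime J) A').comp
    (algebraMap R (Localization.AtPrime J))).toAlgebra
  haveI : IsScalarTower R (Localization.AtPrime J) A' :=
    IsScalarTower.of_algebraMap_eq (fun x => rfl)
  have hinj : Function.Injective (algebraMap (Localization.AtPrime J) A') :=
    inj_of_prime_over q.asIdeal q.isPrime hq
  let φ₁ : B →ₐ[R] Localization.AtPrime J := IsScalarTower.toAlgHom R B (Localization.AtPrime J)
  let φ₂ : Localization.AtPrime J →ₐ[R] A' := IsScalarTower.toAlgHom R (Localization.AtPrime J) A'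
  have h1 := hβ B A' (φ₂.comp φ₁) (Matrix.SpecialLinearGroup.toGL s)
  have h2 : Matrix.GeneralLinearGroup.map (φ₂.comp φ₁).toRingHom
      (Matrix.SpecialLinearGroup.toGL s) =
      Matrix.GeneralLinearGroup.map (algebraMap (Localization.AtPrime J) A')
        (Matrix.SpecialLinearGroup.toGL sA) := by
    apply Units.ext
    ext i j
    rfl
  rw [h2] at h1
  have h3 : β A' (Matrix.GeneralLinearGroup.map (algebraMap (Localization.AtPrime J) A')
      (Matrix.SpecialLinearGroup.toGL sA)) = 1 :=
    MonoidHom.mem_ker.mp (Abelianization.commutator_subset_ker (β A') hmem)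
  rw [h3] at h1
  apply hinj
  rw [map_zero]
  have h4 := congrArg Units.val h1
  rw [Units.val_one, Units.coe_map] at h4
  have h5 : algebraMap (Localization.AtPrime J) A' (algebraMap B (Localization.AtPrime J)
      ((β B (Matrix.SpecialLinearGroup.toGL s) : Bˣ) : B)) = 1 := h4.symm
  simp only [map_sub, map_one]
  rw [h5, sub_self]

/-- torus embedding `t ↦ diag(t,1,…,1)` -/
noncomputable def tau (n : ℕ) (i0 : Fin n) (B : Type u) [CommRing B] :
    Bˣ →* Matrix.GeneralLinearGroup (Fin n) B :=
  (Units.map (Matrix.diagonalRingHom (Fin n) B).toMonoidHom).comp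
    ((MulEquiv.piUnits (ι := Fin n) (M := fun _ => B)).symm.toMonoidHom.comp
      (MonoidHom.mulSingle (fun _ : Fin n => Bˣ) i0))

theorem tau_val (n : ℕ) (i0 : Fin n) (B : Type u) [CommRing B] (t : Bˣ) :
    ((tau n i0 B t : Matrix.GeneralLinearGroup (Fin n) B) : Matrix (Fin n) (Fin n) B) =
      Matrix.diagonal (fun a => if a = i0 then (t : B) else 1) := by
  show Matrix.diagonal (fun a => (((Pi.mulSingle i0 t : Fin n → Bˣ) a : Bˣ) : B)) = _
  congr 1
  funext a
  rw [Pi.mulSingle_apply]
  split_ifs <;> rfl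

theorem det_tau (n : ℕ) (i0 : Fin n) (B : Type u) [CommRing B] (t : Bˣ) :
    Matrix.GeneralLinearGroup.det (tau n i0 B t) = t := by
  apply Units.ext
  rw [Matrix.GeneralLinearGroup.val_det_apply, tau_val, Matrix.det_diagonal,
    Finset.prod_ite_eq' Finset.univ i0 (fun _ => (t : B))]
  simp

theorem map_tau (n : ℕ) (i0 : Fin n) {B C : Type u} [CommRing B] [CommRing C] (f : B →+* C)
    (t : Bˣ) :
    Matrix.GeneralLinearGroup.map f (tau n i0 B t) = tau n i0 C (Units.map (f : B →* C) t) := by
  apply Units.ext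
  rw [tau_val]
  show ((tau n i0 B t : Matrix.GeneralLinearGroup (Fin n) B) :
    Matrix (Fin n) (Fin n) B).map f = _
  rw [tau_val, Matrix.diagonal_map (map_zero f)]
  congr 1
  funext a
  split_ifs <;> simp

theorem char_GL [ConnectedSpace (PrimeSpectrum R)] (n : ℕ) (hn : 0 < n)
    (β : ∀ (B : Type u) [CommRing B] [Algebra R B], Matrix.GeneralLinearGroup (Fin n) B →* Bˣ)
    (hβ : ∀ (B C : Type u) [CommRing B] [Algebra R B] [CommRing C] [Algebra R C] (φ : B →ₐ[R] C)
      (g : Matrix.GeneralLinearGroup (Fin n) B),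
      β C (Matrix.GeneralLinearGroup.map φ.toRingHom g) =
        Units.map (φ.toRingHom : B →* C) (β B g)) :
    ∃ m : ℤ, ∀ (B : Type u) [CommRing B] [Algebra R B] (g : Matrix.GeneralLinearGroup (Fin n) B),
      β B g = Matrix.GeneralLinearGroup.det g ^ m := by
  let i0 : Fin n := ⟨0, hn⟩
  obtain ⟨m, hm⟩ := torus_char R
    (fun (B : Type u) [CommRing B] [Algebra R B] => (β B).comp (tau n i0 B)) (by
    intro B C _ _ _ _ φ t
    show β C (tau n i0 C (Units.map (φ.toRingHom : B →* C) t)) =
      Units.map (φ.toRingHom : B →* C) (β B (tau n i0 B t))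
    rw [← map_tau, hβ])
  refine ⟨m, fun B _ _ g => ?_⟩
  set d := Matrix.GeneralLinearGroup.det g with hd
  have hdet' : Matrix.GeneralLinearGroup.det ((tau n i0 B d)⁻¹ * g) = 1 := by
    rw [map_mul, map_inv, det_tau, ← hd, inv_mul_cancel]
  let s' : Matrix.SpecialLinearGroup (Fin n) B :=
    ⟨(((tau n i0 B d)⁻¹ * g : Matrix.GeneralLinearGroup (Fin n) B) :
      Matrix (Fin n) (Fin n) B), by
      have := congrArg Units.val hdet'
      rwa [Matrix.GeneralLinearGroup.val_det_apply, Units.val_one] at this⟩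
  have hs' : Matrix.SpecialLinearGroup.toGL s' = (tau n i0 B d)⁻¹ * g := Units.ext rfl
  have h1 : β B ((tau n i0 B d)⁻¹ * g) = 1 := by
    rw [← hs']; exact trivial_on_SL n β hβ B s'
  calc β B g = β B (tau n i0 B d * ((tau n i0 B d)⁻¹ * g)) := by rw [mul_inv_cancel_left]
    _ = β B (tau n i0 B d) * β B ((tau n i0 B d)⁻¹ * g) := map_mul _ _ _
    _ = d ^ m := by rw [h1, mul_one]; exact hm B d

end GLpart


/-- Every homomorphism of group sheaves Gl(n_1) × ⋯ × Gl(n_r) → G_m is (s_1, …, s_r) ↦ det(s_1)^{m_1} ⋯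
det(s_r)^{m_r} with locally constant integers m_i uniquely determined by it. Concretely, over a
commutative ring R whose prime spectrum is connected and for ranks n_i ≥ 1: every family of group
homomorphisms α_B : GL_{n_1}(B) × ⋯ × GL_{n_r}(B) → Bˣ, one for each commutative R-algebra B and
natural in B, is given by α_B(s) = Π_i det(s_i)^{m_i} for a unique m ∈ ℤ^r. (The published statement
allows ranks n_i ≥ 0; uniqueness of m_i needs n_i ≥ 1, since Gl(0) is trivial.) -/
theorem result (R : Type u) [CommRing R] [ConnectedSpace (PrimeSpectrum R)]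
    (r : ℕ) (n : Fin r → ℕ) (hn : ∀ i, 0 < n i)
    (α : ∀ (B : Type u) [CommRing B] [Algebra R B], (∀ i, Matrix.GeneralLinearGroup (Fin (n i)) B) →* Bˣ)
    (hα : ∀ (B C : Type u) [CommRing B] [Algebra R B] [CommRing C] [Algebra R C] (φ : B →ₐ[R] C)
      (s : ∀ i, Matrix.GeneralLinearGroup (Fin (n i)) B),
      α C (fun i => Matrix.GeneralLinearGroup.map φ.toRingHom (s i)) = Units.map (φ.toRingHom : B →* C) (α B s)) :
    ∃! m : Fin r → ℤ, ∀ (B : Type u) [CommRing B] [Algebra R B] (s : ∀ i, Matrix.GeneralLinearGroup (Fin (n i)) B),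
      α B s = ∏ i, Matrix.GeneralLinearGroup.det (s i) ^ (m i) := by
  classical
  haveI : Nontrivial R := PrimeSpectrum.nonempty_iff_nontrivial.mp inferInstance
  have hfac : ∀ i, ∃ m : ℤ, ∀ (B : Type u) [CommRing B] [Algebra R B]
      (g : Matrix.GeneralLinearGroup (Fin (n i)) B),
      α B (Pi.mulSingle i g) = Matrix.GeneralLinearGroup.det g ^ m := by
    intro i
    obtain ⟨m, hm⟩ := char_GL (R := R) (n i) (hn i)
      (fun (B : Type u) [CommRing B] [Algebra R B] =>
        (α B).comp (MonoidHom.mulSingle (fun j => Matrix.GeneralLinearGroup (Fin (n j)) B) i)) (by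
      intro B C _ _ _ _ φ g
      show α C (Pi.mulSingle i (Matrix.GeneralLinearGroup.map φ.toRingHom g)) =
        Units.map (φ.toRingHom : B →* C) (α B (Pi.mulSingle i g))
      rw [← hα B C φ (Pi.mulSingle i g)]
      congr 1
      funext j
      exact (Pi.apply_mulSingle
        (fun j => Matrix.GeneralLinearGroup.map (n := Fin (n j)) φ.toRingHom)
        (fun j => map_one _) i g j).symm)
    exact ⟨m, fun B _ _ g => hm B g⟩
  choose m hm using hfac
  refine ⟨m, ?_, ?_⟩
  · intro B _ _ s
    calc α B s = α B (Finset.univ.noncommProd (fun i => Pi.mulSingle i (s i))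
          (fun i _ j _ _ => Pi.mulSingle_apply_commute s i j)) := by
          rw [Finset.noncommProd_mulSingle]
      _ = ∏ i, α B (Pi.mulSingle i (s i)) := by
          rw [Finset.map_noncommProd, Finset.noncommProd_eq_prod]
      _ = ∏ i, Matrix.GeneralLinearGroup.det (s i) ^ (m i) :=
          Finset.prod_congr rfl (fun i _ => hm i B (s i))
  · intro m' hm'
    funext i
    let T : (AddMonoidAlgebra R ℤ)ˣ := tU R ℤ (Multiplicative.ofAdd 1)
    have hTk : ∀ k : ℤ, ((T ^ k : (AddMonoidAlgebra R ℤ)ˣ) : AddMonoidAlgebra R ℤ) =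
        AddMonoidAlgebra.single k 1 := by
      intro k
      have : T ^ k = tU R ℤ (Multiplicative.ofAdd k) := by
        show (tU R ℤ (Multiplicative.ofAdd 1)) ^ k = _
        rw [← map_zpow, ← ofAdd_zsmul, smul_eq_mul, mul_one]
      rw [this]; rfl
    let i0 : Fin (n i) := ⟨0, hn i⟩
    let g := tau (n i) i0 (AddMonoidAlgebra R ℤ) T
    have h1 := hm' (AddMonoidAlgebra R ℤ) (Pi.mulSingle i g)
    rw [hm i (AddMonoidAlgebra R ℤ) g] at h1
    rw [Finset.prod_eq_single i (fun j _ hji => by
      rw [Pi.mulSingle_eq_of_ne hji, map_one, one_zpow]) (fun h => absurd (Finset.mem_univ i) h),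
      Pi.mulSingle_eq_same, det_tau] at h1
    have h2 := congrArg Units.val h1
    rw [hTk, hTk] at h2
    exact ((AddMonoidAlgebra.single_left_inj one_ne_zero).mp h2).symm

end Groth.Agent.S5659
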