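import Groth.Statements.S5663
import Groth.Agent.H27.EqChain

set_option autoImplicit false
universe u
open TensorProduct
open CAlg

namespace Groth.Agent.S5663

/-- Let A be a Noetherian ring and B a finite A-algebra with A → B injective (a finite schematically
dominant morphism Spec B → Spec A). Define subalgebras B_0 = B and B_{i+1} = the equalizer of the
two maps B_i ⇉ B_i ⊗_A B_i, b ↦ b ⊗ 1, 1 ⊗ b. Then B_m = A (the image of A) for some m; equivalently
Spec B → Spec A factors as a finite chain of finite morphisms Spec B_i → Spec B_{i+1} each of which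
is an effective epimorphism (B_{i+1} is the equalizer of B_i ⇉ B_i ⊗_{B_{i+1}} B_i). The sequence is
given here as any family C of subalgebras satisfying the recursion. (The published statement is for
a finite morphism X → Y of schemes with Y Noetherian and O_Y → f_*O_X injective; this row is the
affine case.) -/
theorem result (A B : Type u) [CommRing A] [CommRing B] [Algebra A B]
    [IsNoetherianRing A] [Module.Finite A B] (hinj : Function.Injective (algebraMap A B))
    (C : ℕ → Subalgebra A B) (h0 : C 0 = ⊤)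
    (hstep : ∀ (i : ℕ) (b : B), b ∈ C (i + 1) ↔ ∃ hb : b ∈ C i,
      ((⟨b, hb⟩ : C i) ⊗ₜ[A] (1 : C i) : C i ⊗[A] C i) = (1 : C i) ⊗ₜ[A] (⟨b, hb⟩ : C i)) :
    ∃ m : ℕ, C m = ⊥ := by
  classical
  have hanti : Antitone C := antitone_nat_of_succ_le (fun i b hb => ((hstep i b).1 hb).1)
  let J : ℕ → Ideal A := fun i =>
    (Subalgebra.toSubmodule (⊥ : Subalgebra A B)).colon (C i : Set B)
  have hJmem : ∀ i a, a ∈ J i ↔ ∀ b ∈ C i, a • b ∈ (⊥ : Subalgebra A B) := by
    intro i a; exact Submodule.mem_colon
  have hJmono : Monotone J := by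
    intro i j hij a ha
    rw [hJmem] at ha ⊢
    exact fun b hb => ha b (hanti hij hb)
  obtain ⟨n, hn⟩ := monotone_stabilizes_iff_noetherian.mpr
    (inferInstance : IsNoetherian A A) ⟨J, hJmono⟩
  by_cases htop : J n = ⊤
  · refine ⟨n, le_antisymm ?_ bot_le⟩
    intro b hb
    have h1 : (1 : A) ∈ J n := htop ▸ Submodule.mem_top
    have h2 := (hJmem n 1).1 h1 b hb
    rwa [one_smul] at h2
  exfalso
  obtain ⟨q, hq⟩ := Ideal.nonempty_minimalPrimes htop
  haveI : q.IsPrime := hq.1.1
  obtain ⟨k, s, hs, hk⟩ := Groth.Agent.H27.EqChain.exists_smul_mem_subalgebra_succ C hanti n (J n) q hq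
    (fun a ha => (hJmem n a).1 ha)
  haveI : IsNoetherian A B := isNoetherian_of_isNoetherianRing_of_finite A B
  haveI : IsNoetherian A (C (n+k)) :=
    isNoetherian_of_injective (C (n+k)).val.toLinearMap Subtype.val_injective
  refine Groth.Agent.H27.EqChain.false_of_smul_tmul (D := C (n+k)) q ?_ s hs ?_
  · intro a ha
    apply hq.1.2
    have h3 : J n = J (n+k) := hn (n+k) (Nat.le_add_right n k)
    rw [h3, hJmem]
    intro b hb
    obtain ⟨a', ha'⟩ := ha ⟨b, hb⟩
    rw [Algebra.mem_bot]
    exact ⟨a', congrArg Subtype.val ha'⟩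
  · intro d
    obtain ⟨hb, he⟩ := (hstep (n+k) (s • d.1)).1 (hk d.1 d.2)
    have h4 : (⟨s • d.1, hb⟩ : C (n+k)) = s • d := Subtype.ext rfl
    rw [h4] at he
    rw [TensorProduct.smul_tmul', he, TensorProduct.tmul_smul]

end Groth.Agent.S5663
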