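import Groth.Statements.S5666
import Mathlib.Tactic
import Mathlib.Algebra.Category.ModuleCat.Ext.HasExt
import Mathlib.Algebra.Category.ModuleCat.Ext.Basic
import Mathlib.Algebra.Homology.DerivedCategory.Ext.ExactSequences
import Mathlib.Algebra.Homology.DerivedCategory.Ext.ExtClass
import Mathlib.Algebra.Homology.DerivedCategory.Ext.Linear
import Mathlib.Algebra.Homology.DerivedCategory.Ext.EnoughProjectives
import Mathlib.RingTheory.Regular.Category
import Mathlib.RingTheory.Regular.RegularSequence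
import Mathlib.Algebra.Category.ModuleCat.Projective

set_option autoImplicit false
universe u
open CategoryTheory
open Dual

namespace Groth.Agent.S5666


open Abelian

variable {A : Type u} [CommRing A]

/-- The cyclic module `A/J` as an object. -/
noncomputable abbrev Bq (J : Ideal A) : ModuleCat.{u} A := ModuleCat.of A (A ⧸ J)

/-- `Y` is killed by `J`. -/
def Killed (J : Ideal A) (Y : ModuleCat.{u} A) : Prop := ∀ a ∈ J, ∀ y : Y, a • y = 0

/-- the map `A/J → Y`, `1 ↦ y`. -/
noncomputable def pt (J : Ideal A) (Y : ModuleCat.{u} A) (hY : Killed J Y) (y : Y) : Bq J ⟶ Y :=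
  ModuleCat.ofHom (Submodule.liftQ J (LinearMap.toSpanSingleton A Y y) (by
    intro a ha
    rw [LinearMap.mem_ker, LinearMap.toSpanSingleton_apply]
    exact hY a ha y))

lemma pt_mk (J : Ideal A) (Y : ModuleCat.{u} A) (hY : Killed J Y) (y : Y) (a : A) :
    (pt J Y hY y).hom (Submodule.Quotient.mk a) = a • y := rfl

lemma pt_add (J : Ideal A) (Y : ModuleCat.{u} A) (hY : Killed J Y) (y y' : Y) :
    pt J Y hY (y + y') = pt J Y hY y + pt J Y hY y' := by
  apply ModuleCat.hom_ext
  refine LinearMap.ext fun b => ?_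
  obtain ⟨a, rfl⟩ := Submodule.Quotient.mk_surjective J b
  rw [ModuleCat.hom_add, LinearMap.add_apply, pt_mk, pt_mk, pt_mk, smul_add]

lemma pt_smul (J : Ideal A) (Y : ModuleCat.{u} A) (hY : Killed J Y) (r : A) (y : Y) :
    pt J Y hY (r • y) = r • pt J Y hY y := by
  apply ModuleCat.hom_ext
  refine LinearMap.ext fun b => ?_
  obtain ⟨a, rfl⟩ := Submodule.Quotient.mk_surjective J b
  rw [ModuleCat.hom_smul, LinearMap.smul_apply, pt_mk, pt_mk, smul_comm]

lemma pt_surj (J : Ideal A) (Y : ModuleCat.{u} A) (hY : Killed J Y) (f : Bq J ⟶ Y) :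
    f = pt J Y hY (f.hom (Submodule.Quotient.mk 1)) := by
  apply ModuleCat.hom_ext
  refine LinearMap.ext fun b => ?_
  obtain ⟨a, rfl⟩ := Submodule.Quotient.mk_surjective J b
  rw [pt_mk, ← map_smul, ← Submodule.Quotient.mk_smul, smul_eq_mul, mul_one]

lemma pt_inj (J : Ideal A) (Y : ModuleCat.{u} A) (hY : Killed J Y) (y y' : Y)
    (h : pt J Y hY y = pt J Y hY y') : y = y' := by
  have h2 : (pt J Y hY y).hom (Submodule.Quotient.mk (1 : A))
      = (pt J Y hY y').hom (Submodule.Quotient.mk (1 : A)) := by rw [h]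
  rw [pt_mk, pt_mk, one_smul, one_smul] at h2
  exact h2

/-- the projection `A/J → A/J'`. -/
noncomputable def piq (J J' : Ideal A) (hle : J ≤ J') : Bq J ⟶ Bq J' :=
  ModuleCat.ofHom (Submodule.liftQ J (Submodule.mkQ J') (by rw [Submodule.ker_mkQ]; exact hle))

lemma piq_mk (J J' : Ideal A) (hle : J ≤ J') (a : A) :
    (piq J J' hle).hom (Submodule.Quotient.mk a) = Submodule.Quotient.mk a := rfl

lemma pi_pt {J J' : Ideal A} (hle : J ≤ J') (Y : ModuleCat.{u} A) (hY : Killed J Y)
    (hY' : Killed J' Y) (y : Y) : piq J J' hle ≫ pt J' Y hY' y = pt J Y hY y := by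
  apply ModuleCat.hom_ext
  refine LinearMap.ext fun b => ?_
  obtain ⟨a, rfl⟩ := Submodule.Quotient.mk_surjective J b
  rw [ModuleCat.hom_comp, LinearMap.comp_apply, piq_mk, pt_mk, pt_mk]

lemma killed_self (J : Ideal A) : Killed J (Bq J) := by
  intro a ha b
  obtain ⟨c, rfl⟩ := Submodule.Quotient.mk_surjective J b
  rw [← Submodule.Quotient.mk_smul, Submodule.Quotient.mk_eq_zero]
  exact J.mul_mem_right c ha

/-- the comparison map from `Y^ι` to `Ext^i(X, Y)` given by classes `u`. -/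
noncomputable def Phi (J : Ideal A) {ι : Type} [Fintype ι] {i : ℕ} (X : ModuleCat.{u} A)
    (u : ι → Ext X (Bq J) i) (Y : ModuleCat.{u} A) (hY : Killed J Y) :
    (ι → Y) →ₗ[A] Ext X Y i where
  toFun y := ∑ j, (u j).comp (Ext.mk₀ (pt J Y hY (y j))) (add_zero i)
  map_add' y y' := by
    simp only [Pi.add_apply, pt_add, Ext.mk₀_add, Ext.comp_add, Finset.sum_add_distrib]
  map_smul' r y := by
    simp only [Pi.smul_apply, pt_smul, Ext.mk₀_smul, Ext.comp_smul, Finset.smul_sum,
      RingHom.id_apply]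

lemma Phi_apply (J : Ideal A) {ι : Type} [Fintype ι] {i : ℕ} (X : ModuleCat.{u} A)
    (u : ι → Ext X (Bq J) i) (Y : ModuleCat.{u} A) (hY : Killed J Y) (y : ι → Y) :
    Phi J X u Y hY y = ∑ j, (u j).comp (Ext.mk₀ (pt J Y hY (y j))) (add_zero i) := rfl

/-- universal classes giving `Ext^i(A/J, Y) ≅ Y^(k choose i)` on modules killed by `J`. -/
def Good2 (J : Ideal A) (k : ℕ) : Prop :=
  ∀ i : ℕ, ∃ (ι : Type) (_ : Fintype ι) (_ : Fintype.card ι = k.choose i)
    (u : ι → Ext (Bq J) (Bq J) i), ∀ (Y : ModuleCat.{u} A) (hY : Killed J Y),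
      Function.Bijective (Phi J (Bq J) u Y hY)

lemma deg0 (J : Ideal A) : ∃ (u : Unit → Ext (Bq J) (Bq J) 0),
    ∀ (Y : ModuleCat.{u} A) (hY : Killed J Y), Function.Bijective (Phi J (Bq J) u Y hY) := by
  refine ⟨fun _ => Ext.mk₀ (𝟙 _), fun Y hY => ?_⟩
  have hΦ : ∀ y : Unit → Y, Phi J (Bq J) (fun _ => Ext.mk₀ (𝟙 _)) Y hY y
      = Ext.mk₀ (pt J Y hY (y ())) := by
    intro y
    rw [Phi_apply, Fintype.sum_unique, Ext.mk₀_id_comp]
  constructor
  · intro y y' h
    rw [hΦ, hΦ] at h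
    have h2 := (Ext.mk₀_bijective _ _).1 h
    funext j
    cases j
    exact pt_inj _ _ _ _ _ h2
  · intro z
    obtain ⟨φ, rfl⟩ := (Ext.mk₀_bijective _ _).2 z
    refine ⟨fun _ => φ.hom (Submodule.Quotient.mk 1), ?_⟩
    rw [hΦ, ← pt_surj]

lemma good2_base : Good2 (⊥ : Ideal A) 0 := by
  intro i
  cases i with
  | zero =>
    obtain ⟨u, hu⟩ := deg0 (⊥ : Ideal A)
    exact ⟨Unit, inferInstance, by simp, u, hu⟩
  | succ i =>
    haveI : Module.Projective A (A ⧸ (⊥ : Ideal A)) :=
      Module.Projective.of_equiv (Submodule.quotEquivOfEqBot (⊥ : Ideal A) rfl).symm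
    haveI : Projective (Bq (⊥ : Ideal A)) :=
      (IsProjective.iff_projective (R := A) (A ⧸ (⊥ : Ideal A))).1 inferInstance
    refine ⟨Empty, inferInstance, by simp, fun e => e.elim, fun Y hY => ?_⟩
    constructor
    · intro y y' _
      funext e
      exact e.elim
    · intro z
      exact ⟨fun e => e.elim,
        (Ext.eq_zero_of_projective _).trans (Ext.eq_zero_of_projective z).symm⟩

/-- the short complex `A/J --x--> A/J --> A/J'`. -/
@[reducible] noncomputable def SC (J J' : Ideal A) (hle : J ≤ J') (x : A) (hx : x ∈ J') :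
    ShortComplex (ModuleCat.{u} A) :=
  ShortComplex.mk (x • 𝟙 (Bq J)) (piq J J' hle) (by
    apply ModuleCat.hom_ext
    refine LinearMap.ext fun b => ?_
    obtain ⟨a, rfl⟩ := Submodule.Quotient.mk_surjective J b
    show (Submodule.Quotient.mk (x • a) : A ⧸ J') = 0
    rw [Submodule.Quotient.mk_eq_zero]
    exact J'.mul_mem_right a hx)

lemma SC_shortExact (J J' : Ideal A) (hle : J ≤ J') (x : A) (hx : x ∈ J')
    (hJ' : J' = J ⊔ Ideal.span {x}) (hreg : IsSMulRegular (A ⧸ J) x) :
    (SC J J' hle x hx).ShortExact := by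
  refine ShortComplex.ShortExact.mk' ?_ ?_ ?_
  · rw [ShortComplex.moduleCat_exact_iff]
    intro b hb
    obtain ⟨a, rfl⟩ := Submodule.Quotient.mk_surjective J b
    have hb' : (Submodule.Quotient.mk a : A ⧸ J') = 0 := hb
    rw [Submodule.Quotient.mk_eq_zero, hJ'] at hb'
    obtain ⟨j, hj, c', hc', rfl⟩ := Submodule.mem_sup.1 hb'
    obtain ⟨c, rfl⟩ := Ideal.mem_span_singleton'.1 hc'
    refine ⟨Submodule.Quotient.mk c, ?_⟩
    show (Submodule.Quotient.mk (x • c) : A ⧸ J) = Submodule.Quotient.mk (j + c * x)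
    rw [Submodule.Quotient.eq]
    have : x • c - (j + c * x) = -j := by simp only [smul_eq_mul]; ring
    rw [this]
    exact J.neg_mem hj
  · rw [ModuleCat.mono_iff_injective]
    intro b b' h
    have h' : x • b = x • b' := h
    exact hreg h'
  · rw [ModuleCat.epi_iff_surjective]
    intro b'
    obtain ⟨a, rfl⟩ := Submodule.Quotient.mk_surjective J' b'
    exact ⟨Submodule.Quotient.mk a, rfl⟩

lemma good2_step (J J' : Ideal A) (k : ℕ) (x : A) (hJ' : J' = J ⊔ Ideal.span {x})
    (hreg : IsSMulRegular (A ⧸ J) x) (hB : Good2 J k) : Good2 J' (k + 1) := by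
  have hle : J ≤ J' := hJ' ▸ le_sup_left
  have hxJ' : x ∈ J' := hJ' ▸ Ideal.mem_sup_right (Ideal.mem_span_singleton_self x)
  have hS : (SC J J' hle x hxJ').ShortExact := SC_shortExact J J' hle x hxJ' hJ' hreg
  have hf : ∀ (Y : ModuleCat.{u} A) (hY' : Killed J' Y) (n : ℕ) (z : Ext (Bq J) Y n),
      (Ext.mk₀ (x • 𝟙 (Bq J))).comp z (zero_add n) = 0 := by
    intro Y hY' n z
    rw [Ext.mk₀_smul, Ext.smul_comp, Ext.mk₀_id_comp, Ext.smul_eq_comp_mk₀]
    have : x • 𝟙 Y = 0 := by
      apply ModuleCat.hom_ext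
      refine LinearMap.ext fun y => ?_
      exact hY' x hxJ' y
    rw [this, Ext.mk₀_zero, Ext.comp_zero]
  intro n
  cases n with
  | zero =>
    obtain ⟨u, hu⟩ := deg0 J'
    exact ⟨Unit, inferInstance, by simp, u, hu⟩
  | succ i =>
    obtain ⟨ιa, _, hca, ua, hua⟩ := hB i
    obtain ⟨ιb, _, hcb, ub, hub⟩ := hB (i+1)
    have h1 : 1 + i = i + 1 := by omega
    obtain ⟨wl, hwl⟩ : ∃ wl : ιa → Ext (Bq J') (Bq J') (i+1), ∀ (l : ιa) (Y : ModuleCat.{u} A)
        (hY' : Killed J' Y) (hY : Killed J Y) (y : Y),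
        (wl l).comp (Ext.mk₀ (pt J' Y hY' y)) (add_zero (i+1))
          = hS.extClass.comp ((ua l).comp (Ext.mk₀ (pt J Y hY y)) (add_zero i)) h1 := by
      refine ⟨fun l => hS.extClass.comp ((ua l).comp (Ext.mk₀ (piq J J' hle)) (add_zero i)) h1,
        fun l Y hY' hY y => ?_⟩
      refine (Ext.comp_assoc_of_third_deg_zero hS.extClass _ _ h1).trans ?_
      refine congrArg (fun t => hS.extClass.comp t h1) ?_
      rw [Ext.comp_assoc_of_third_deg_zero, Ext.mk₀_comp_mk₀, pi_pt hle Y hY hY' y]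
    have hlift : ∀ j : ιb, ∃ w : Ext (Bq J') (Bq J') (i+1),
        (Ext.mk₀ (piq J J' hle)).comp w (zero_add (i+1))
          = (ub j).comp (Ext.mk₀ (piq J J' hle)) (add_zero (i+1)) := by
      intro j
      exact Ext.contravariant_sequence_exact₂ hS (Bq J')
        ((ub j).comp (Ext.mk₀ (piq J J' hle)) (add_zero (i+1)))
        (hf (Bq J') (killed_self J') (i+1) _)
    choose ut hut using hlift
    have hut' : ∀ (j : ιb) (Y : ModuleCat.{u} A) (hY' : Killed J' Y) (hY : Killed J Y) (y : Y),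
        (Ext.mk₀ (piq J J' hle)).comp
          ((ut j).comp (Ext.mk₀ (pt J' Y hY' y)) (add_zero (i+1))) (zero_add (i+1))
          = (ub j).comp (Ext.mk₀ (pt J Y hY y)) (add_zero (i+1)) := by
      intro j Y hY' hY y
      rw [← Ext.comp_assoc (Ext.mk₀ (piq J J' hle)) (ut j) (Ext.mk₀ (pt J' Y hY' y))
        (zero_add _) (add_zero _) (by omega : 0 + (i+1) + 0 = i+1),
        hut j, Ext.comp_assoc_of_third_deg_zero, Ext.mk₀_comp_mk₀, pi_pt hle Y hY hY' y]
    obtain ⟨u', hu'l, hu'r⟩ : ∃ u' : ιa ⊕ ιb → Ext (Bq J') (Bq J') (i+1),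
        (∀ l, u' (Sum.inl l) = wl l) ∧ (∀ j, u' (Sum.inr j) = ut j) :=
      ⟨Sum.elim wl ut, fun _ => rfl, fun _ => rfl⟩
    refine ⟨ιa ⊕ ιb, inferInstance, ?_, u', fun Y hY' => ?_⟩
    · rw [Fintype.card_sum, hca, hcb, Nat.choose_succ_succ]
    have hY : Killed J Y := fun a ha => hY' a (hle ha)
    let δ : Ext (Bq J) Y i →ₗ[A] Ext (Bq J') Y (i+1) :=
      Ext.precompOfLinear hS.extClass A Y h1
    let gs : Ext (Bq J') Y (i+1) →ₗ[A] Ext (Bq J) Y (i+1) :=
      Ext.precompOfLinear (Ext.mk₀ (piq J J' hle)) A Y (zero_add (i+1))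
    have hδ : ∀ z, δ z = hS.extClass.comp z h1 := fun z => rfl
    have hgs : ∀ z, gs z = (Ext.mk₀ (piq J J' hle)).comp z (zero_add (i+1)) := fun z => rfl
    have hδinj : ∀ z, δ z = 0 → z = 0 := by
      intro z hz
      obtain ⟨z', hz'⟩ := Ext.contravariant_sequence_exact₁ hS Y z h1 hz
      rw [← hz']
      exact hf Y hY' i z'
    have hgδ : ∀ z, gs (δ z) = 0 := fun z => hS.comp_extClass_assoc z h1
    have hker : ∀ w, gs w = 0 → ∃ z, δ z = w := fun w hw =>
      Ext.contravariant_sequence_exact₃ hS Y w hw h1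
    have K1 : ∀ y : ιa ⊕ ιb → Y, Phi J' (Bq J') u' Y hY' y
        = δ (Phi J (Bq J) ua Y hY (fun l => y (Sum.inl l)))
          + Phi J' (Bq J') ut Y hY' (fun j => y (Sum.inr j)) := by
      intro y
      rw [Phi_apply, Phi_apply, Phi_apply, Fintype.sum_sum_type, map_sum]
      refine congrArg₂ (· + ·) (Finset.sum_congr rfl fun l _ => ?_)
        (Finset.sum_congr rfl fun j _ => ?_)
      · rw [hu'l, hδ]
        exact hwl l Y hY' hY _
      · rw [hu'r]
    have K4 : ∀ yb : ιb → Y, gs (Phi J' (Bq J') ut Y hY' yb) = Phi J (Bq J) ub Y hY yb := by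
      intro yb
      rw [Phi_apply, Phi_apply, map_sum]
      exact Finset.sum_congr rfl fun j _ => (hgs _).trans (hut' j Y hY' hY (yb j))
    constructor
    · rw [injective_iff_map_eq_zero]
      intro y hy
      rw [K1] at hy
      have h2 := congrArg gs hy
      rw [map_add, hgδ, zero_add, K4, map_zero] at h2
      have hyb : (fun j => y (Sum.inr j)) = 0 := (hub Y hY).1 (h2.trans (map_zero _).symm)
      rw [hyb, map_zero, add_zero] at hy
      have hya : (fun l => y (Sum.inl l)) = 0 :=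
        (hua Y hY).1 ((hδinj _ hy).trans (map_zero _).symm)
      funext s
      cases s with
      | inl l => exact congrFun hya l
      | inr j => exact congrFun hyb j
    · intro z
      obtain ⟨yb, hyb⟩ := (hub Y hY).2 (gs z)
      have hz' : gs (z - Phi J' (Bq J') ut Y hY' yb) = 0 := by
        rw [map_sub, K4, hyb, sub_self]
      obtain ⟨z'', hz''⟩ := hker _ hz'
      obtain ⟨ya, hya⟩ := (hua Y hY).2 z''
      refine ⟨Sum.elim ya yb, ?_⟩
      rw [K1]
      show δ (Phi J (Bq J) ua Y hY ya) + Phi J' (Bq J') ut Y hY' yb = z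
      rw [hya, hz'']
      abel

theorem good2_of_weaklyRegular (xs : List A)
    (hreg : RingTheory.Sequence.IsWeaklyRegular A xs) :
    Good2 (Ideal.ofList xs) xs.length := by
  induction xs using List.reverseRecOn with
  | nil =>
    rw [Ideal.ofList_nil]
    exact good2_base
  | append_singleton ys x ih =>
    obtain ⟨h1, h2⟩ := (RingTheory.Sequence.isWeaklyRegular_append_iff A ys [x]).1 hreg
    rw [RingTheory.Sequence.isWeaklyRegular_singleton_iff] at h2
    have hB := ih h1
    have hx : IsSMulRegular (A ⧸ Ideal.ofList ys) x := by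
      have e : (Ideal.ofList ys • ⊤ : Submodule A A) = Ideal.ofList ys := by
        show Ideal.ofList ys • (⊤ : Ideal A) = Ideal.ofList ys
        rw [Ideal.smul_eq_mul, Ideal.mul_top]
      exact ((Submodule.quotEquivOfEq _ _ e).isSMulRegular_congr x).1 h2
    rw [List.length_append, List.length_singleton]
    exact good2_step (Ideal.ofList ys) _ ys.length x
      (by rw [Ideal.ofList_append, Ideal.ofList_singleton]) hx hB

/-- All degrees, for a module killed by `J`: let `A` be a commutative ring, `xs = (x_1, …, x_p)` a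
sequence in `A` such that each `x_i` is a non-zero-divisor on `A/(x_1, …, x_{i-1})`, `J` the ideal
generated by the `x_i`, and `M` an `A`-module with `JM = 0`. Then for every `i`, `Ext^i_A(A/J, M)`
is isomorphic as an `A`-module to `M^(p choose i)` (so it vanishes for `i > p`). (Existence of an
`A`-linear isomorphism only; the published one is `Ext^i_A(A/J, M) ≅ Hom_A(Λ^i(J/J^2), M)` with
`J/J^2` free of rank `p` over `A/J`.) -/
theorem result (A : Type u) [CommRing A] (xs : List A) (hreg : RingTheory.Sequence.IsWeaklyRegular A xs) (M : Type u) [AddCommGroup M] [Module A M] (hJM : Ideal.ofList xs • (⊤ : Submodule A M) = ⊥) (i : ℕ) : Nonempty (Abelian.Ext (ModuleCat.of A (A ⧸ Ideal.ofList xs)) (ModuleCat.of A M) i ≃ₗ[A] (Fin (xs.length.choose i) → M)) := by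
  obtain ⟨ι, _, hc, u, hu⟩ := good2_of_weaklyRegular xs hreg i
  have hY : Killed (Ideal.ofList xs) (ModuleCat.of A M) := by
    intro a ha y
    have : a • y ∈ Ideal.ofList xs • (⊤ : Submodule A M) :=
      Submodule.smul_mem_smul ha Submodule.mem_top
    rw [hJM] at this
    exact (Submodule.mem_bot A).1 this
  let e1 := LinearEquiv.ofBijective (Phi _ _ u (ModuleCat.of A M) hY) (hu _ hY)
  let e2 : (ι → M) ≃ₗ[A] (Fin (xs.length.choose i) → M) :=
    LinearEquiv.funCongrLeft A M (Fintype.equivFinOfCardEq hc).symm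
  exact ⟨e1.symm.trans e2⟩

end Groth.Agent.S5666
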