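import Groth.Statements.S5672
import Mathlib.Tactic
import Groth.Agent.S5666
import Groth.Agent.S5671

set_option autoImplicit false
universe u
open CategoryTheory
open Dual

namespace Groth.Agent.S5672


open Abelian
open Groth.Agent.S5666 (Bq Killed pt pt_mk pt_add pt_smul pt_surj pt_inj killed_self)

variable {A : Type u} [CommRing A]

lemma mk₀_sum {X Y : ModuleCat.{u} A} {ι : Type} (s : Finset ι) (f : ι → (X ⟶ Y)) :
    Ext.mk₀ (∑ k ∈ s, f k) = ∑ k ∈ s, Ext.mk₀ (f k) := by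
  classical
  induction s using Finset.induction_on with
  | empty => rw [Finset.sum_empty, Finset.sum_empty, Ext.mk₀_zero]
  | insert j s hj ih => rw [Finset.sum_insert hj, Finset.sum_insert hj, Ext.mk₀_add, ih]

lemma sum_comp' {X Y Z : ModuleCat.{u} A} {ι : Type} (s : Finset ι) {a b c : ℕ}
    (α : ι → Ext X Y a) (β : Ext Y Z b) (h : a + b = c) :
    (∑ k ∈ s, α k).comp β h = ∑ k ∈ s, (α k).comp β h := by
  classical
  induction s using Finset.induction_on with
  | empty => rw [Finset.sum_empty, Finset.sum_empty, Ext.zero_comp]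
  | insert j s hj ih => rw [Finset.sum_insert hj, Finset.sum_insert hj, Ext.add_comp, ih]

lemma comp_sum' {X Y Z : ModuleCat.{u} A} {ι : Type} (s : Finset ι) {a b c : ℕ}
    (α : Ext X Y a) (β : ι → Ext Y Z b) (h : a + b = c) :
    α.comp (∑ k ∈ s, β k) h = ∑ k ∈ s, α.comp (β k) h := by
  classical
  induction s using Finset.induction_on with
  | empty => rw [Finset.sum_empty, Finset.sum_empty, Ext.comp_zero]
  | insert j s hj ih => rw [Finset.sum_insert hj, Finset.sum_insert hj, Ext.comp_add, ih]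

/-- `(A/J)^b`. -/
noncomputable abbrev FF (J : Ideal A) (b : ℕ) : ModuleCat.{u} A := ModuleCat.of A (Fin b → A ⧸ J)

lemma killed_FF (J : Ideal A) (b : ℕ) : Killed J (FF J b) := by
  intro a ha c
  show (a • c : Fin b → A ⧸ J) = 0
  funext k
  exact killed_self J a ha (c k)

noncomputable def ιk (J : Ideal A) (b : ℕ) (k : Fin b) : Bq J ⟶ FF J b :=
  ModuleCat.ofHom (LinearMap.single A (fun _ : Fin b => A ⧸ J) k)

noncomputable def πk (J : Ideal A) (b : ℕ) (k : Fin b) : FF J b ⟶ Bq J :=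
  ModuleCat.ofHom (LinearMap.proj k)

lemma sum_π_ι (J : Ideal A) (b : ℕ) : ∑ k, πk J b k ≫ ιk J b k = 𝟙 (FF J b) := by
  apply ModuleCat.hom_ext
  refine LinearMap.ext fun c => ?_
  rw [ModuleCat.hom_sum, LinearMap.sum_apply]
  show ∑ k, (Pi.single k (c k) : Fin b → A ⧸ J) = c
  exact Finset.univ_sum_single c

lemma ι_π (J : Ideal A) (b : ℕ) (k j : Fin b) :
    ιk J b k ≫ πk J b j = if k = j then 𝟙 (Bq J) else 0 := by
  apply ModuleCat.hom_ext
  refine LinearMap.ext fun c => ?_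
  show (Pi.single k c : Fin b → A ⧸ J) j = _
  by_cases h : k = j
  · subst h
    rw [if_pos rfl, Pi.single_eq_same]
    rfl
  · rw [if_neg h, Pi.single_eq_of_ne (Ne.symm h)]
    rfl

lemma exists_coeff (J : Ideal A) (b : ℕ) (w : Bq J ⟶ FF J b) :
    ∃ a : Fin b → A, w = ∑ k, a k • ιk J b k := by
  have hc : ∀ k : Fin b, ∃ a : A,
      (Submodule.Quotient.mk a : A ⧸ J) = w.hom (Submodule.Quotient.mk 1) k :=
    fun k => Submodule.Quotient.mk_surjective J _
  choose a ha using hc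
  refine ⟨a, ?_⟩
  apply ModuleCat.hom_ext
  refine LinearMap.ext fun r' => ?_
  obtain ⟨r, rfl⟩ := Submodule.Quotient.mk_surjective J r'
  rw [ModuleCat.hom_sum, LinearMap.sum_apply]
  have h1 : w.hom (Submodule.Quotient.mk r) = r • w.hom (Submodule.Quotient.mk 1) := by
    rw [← map_smul, ← Submodule.Quotient.mk_smul, smul_eq_mul, mul_one]
  refine funext fun j => ?_
  rw [Finset.sum_apply]
  have h2 : ∀ k, (a k • ιk J b k).hom (Submodule.Quotient.mk r) j
      = if j = k then (Submodule.Quotient.mk (a k * r) : A ⧸ J) else 0 := by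
    intro k
    show a k • ((Pi.single k (Submodule.Quotient.mk r) : Fin b → A ⧸ J) j) = _
    rw [Pi.single_apply]
    split_ifs with hjk
    · rfl
    · exact smul_zero _
  refine Eq.trans ?_ (Finset.sum_congr rfl (fun k _ => (h2 k).symm))
  rw [Finset.sum_ite_eq, if_pos (Finset.mem_univ j), h1]
  show r • (w.hom (Submodule.Quotient.mk 1) j) = _
  rw [← ha j, ← Submodule.Quotient.mk_smul, smul_eq_mul, mul_comm]

lemma ext_FF_zero (J : Ideal A) (b : ℕ) {p : ℕ} (R : ModuleCat.{u} A) (ξ' : Ext (FF J b) R p)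
    (h : ∀ k, (Ext.mk₀ (ιk J b k)).comp ξ' (zero_add p) = 0) : ξ' = 0 := by
  rw [← Ext.mk₀_id_comp ξ', ← sum_π_ι, mk₀_sum, sum_comp']
  refine Finset.sum_eq_zero fun k _ => ?_
  rw [← Ext.mk₀_comp_mk₀_assoc, h k, Ext.comp_zero]

lemma exists_FF (J : Ideal A) (b : ℕ) {p : ℕ} (R : ModuleCat.{u} A)
    (t : Fin b → Ext (Bq J) R p) :
    ∃ ξ' : Ext (FF J b) R p, ∀ k, (Ext.mk₀ (ιk J b k)).comp ξ' (zero_add p) = t k := by
  refine ⟨∑ j, (Ext.mk₀ (πk J b j)).comp (t j) (zero_add p), fun k => ?_⟩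
  rw [comp_sum', Finset.sum_eq_single k]
  · rw [Ext.mk₀_comp_mk₀_assoc, ι_π, if_pos rfl, Ext.mk₀_id_comp]
  · intro j _ hjk
    rw [Ext.mk₀_comp_mk₀_assoc, ι_π, if_neg (Ne.symm hjk), Ext.mk₀_zero, Ext.zero_comp]
  · intro h
    exact absurd (Finset.mem_univ k) h

lemma eval_formula (J : Ideal A) (b : ℕ) {p : ℕ} (R : ModuleCat.{u} A) (M : ModuleCat.{u} A)
    (g : FF J b ⟶ M) (ξ' : Ext (FF J b) R p)
    (g₀ : ((A ⧸ J) →ₗ[A] M) →ₗ[A] Ext (Bq J) R p)
    (h : ∀ k, (Ext.mk₀ (ιk J b k)).comp ξ' (zero_add p) = g₀ (ιk J b k ≫ g).hom)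
    (w : Bq J ⟶ FF J b) : (Ext.mk₀ w).comp ξ' (zero_add p) = g₀ (w ≫ g).hom := by
  obtain ⟨a, rfl⟩ := exists_coeff J b w
  rw [mk₀_sum, sum_comp', Preadditive.sum_comp, ModuleCat.hom_sum, map_sum]
  refine Finset.sum_congr rfl fun k _ => ?_
  rw [Ext.mk₀_smul, Ext.smul_comp, h k, Linear.smul_comp, ModuleCat.hom_smul, map_smul]

lemma vanish [IsRegularLocalRing A] (J : Ideal A) (p : ℕ)
    (hJ : ringKrullDim (A ⧸ J) + p ≤ ringKrullDim A)
    (K : Type u) [AddCommGroup K] [Module A K] [Module.Finite A K]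
    (hK : Killed J (ModuleCat.of A K)) (i : ℕ) (hi : i < p) :
    Subsingleton (Ext (ModuleCat.of A K) (ModuleCat.of A A) i) := by
  refine Groth.Agent.S5671.result A K p ?_ i hi
  have hle : J ≤ Module.annihilator A K := by
    intro a ha
    rw [Module.mem_annihilator]
    exact fun y => hK a ha y
  have h1 : Module.supportDim A K ≤ ringKrullDim (A ⧸ J) := by
    rw [Module.supportDim_eq_ringKrullDim_quotient_annihilator]
    exact ringKrullDim_le_of_surjective (Ideal.Quotient.factor hle)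
      (Ideal.Quotient.factor_surjective hle)
  exact (add_le_add h1 le_rfl).trans hJ

lemma leftExact [IsRegularLocalRing A] (J : Ideal A) (p : ℕ)
    (hJ : ringKrullDim (A ⧸ J) + p ≤ ringKrullDim A)
    (K : Type u) [AddCommGroup K] [Module A K] [Module.Finite A K]
    (hK : Killed J (ModuleCat.of A K))
    (X₂ X₃ : ModuleCat.{u} A) (f : ModuleCat.of A K ⟶ X₂) (g : X₂ ⟶ X₃) (w : f ≫ g = 0)
    (hS : (ShortComplex.mk f g w).ShortExact) :
    (∀ ξ : Ext X₃ (ModuleCat.of A A) p, (Ext.mk₀ g).comp ξ (zero_add p) = 0 → ξ = 0) ∧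
    (∀ ξ' : Ext X₂ (ModuleCat.of A A) p, (Ext.mk₀ f).comp ξ' (zero_add p) = 0 →
      ∃ ξ : Ext X₃ (ModuleCat.of A A) p, (Ext.mk₀ g).comp ξ (zero_add p) = ξ') := by
  constructor
  · intro ξ hξ
    cases p with
    | zero =>
      haveI : Epi g := hS.epi_g
      apply Ext.precomp_mk₀_injective_of_epi (ModuleCat.of A A) g
      rw [map_zero]
      exact hξ
    | succ q =>
      have h1 : 1 + q = q + 1 := by omega
      obtain ⟨x₁, hx₁⟩ := Ext.contravariant_sequence_exact₃ hS (ModuleCat.of A A) ξ hξ h1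
      haveI : Subsingleton (Ext (ModuleCat.of A K) (ModuleCat.of A A) q) :=
        vanish J (q+1) hJ K hK q (by omega)
      rw [← hx₁, Subsingleton.elim x₁ 0, Ext.comp_zero]
  · intro ξ' hξ'
    exact Ext.contravariant_sequence_exact₂ hS (ModuleCat.of A A) ξ' hξ'

lemma exists_pres [IsNoetherianRing A] (J : Ideal A) (N : Type u) [AddCommGroup N] [Module A N]
    [Module.Finite A N] (hN : Killed J (ModuleCat.of A N)) :
    ∃ (b : ℕ) (K : Type u) (_ : AddCommGroup K) (_ : Module A K) (_ : Module.Finite A K)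
      (_ : Killed J (ModuleCat.of A K)) (f : ModuleCat.of A K ⟶ FF J b)
      (g : FF J b ⟶ ModuleCat.of A N) (w : f ≫ g = 0), (ShortComplex.mk f g w).ShortExact := by
  obtain ⟨b, s, hs⟩ := Module.Finite.exists_fin (R := A) (M := N)
  let G : (Fin b → A ⧸ J) →ₗ[A] N :=
    LinearMap.lsum A (fun _ : Fin b => A ⧸ J) ℕ
      (fun k => (pt J (ModuleCat.of A N) hN (s k)).hom)
  have hGsurj : Function.Surjective G := by
    intro n
    have hn : n ∈ Submodule.span A (Set.range s) := by rw [hs]; exact Submodule.mem_top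
    obtain ⟨c, hc⟩ := (Submodule.mem_span_range_iff_exists_fun A).1 hn
    refine ⟨fun k => Submodule.Quotient.mk (c k), ?_⟩
    rw [← hc]
    show (∑ k, ((pt J (ModuleCat.of A N) hN (s k)).hom ∘ₗ LinearMap.proj k))
      (fun k => (Submodule.Quotient.mk (c k) : A ⧸ J)) = _
    rw [LinearMap.sum_apply]
    exact Finset.sum_congr rfl fun k _ => rfl
  have hfin : Module.Finite A (LinearMap.ker G) := Module.Finite.iff_fg.2 (IsNoetherian.noetherian _)
  have hK : Killed J (ModuleCat.of A (LinearMap.ker G)) := by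
    intro a ha y
    apply Subtype.ext
    exact killed_FF J b a ha y.1
  refine ⟨b, LinearMap.ker G, inferInstance, inferInstance, hfin, hK,
    ModuleCat.ofHom (LinearMap.ker G).subtype, ModuleCat.ofHom G, ?_, ?_⟩
  · apply ModuleCat.hom_ext
    refine LinearMap.ext fun y => ?_
    exact y.2
  · refine ShortComplex.ShortExact.mk' ?_ ?_ ?_
    · rw [ShortComplex.moduleCat_exact_iff]
      intro c hc
      exact ⟨⟨c, hc⟩, rfl⟩
    · rw [ModuleCat.mono_iff_injective]
      exact Subtype.val_injective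
    · rw [ModuleCat.epi_iff_surjective]
      exact hGsurj

/-- Let `A` be a regular local ring of dimension `n`, `J` an ideal with `dim(A/J) ≤ n - p`, and `M` a
finite `A`-module with `JM = 0`. For `ξ ∈ Ext^p_A(M, A)` and an `A`-linear `u : A/J → M` write `u^*ξ
∈ Ext^p_A(A/J, A)` for the pullback. Then `ξ ↦ (u ↦ u^*ξ)` is injective, and every `A`-linear map
`Hom_A(A/J, M) → Ext^p_A(A/J, A)` is of the form `u ↦ u^*ξ` for some `ξ`. Since `Hom_A(A/J, M) = M`
here, this says that the canonical map `Ext^p_A(M, A) → Hom_A(M, Ext^p_A(A/J, A))` is bijective. -/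
theorem result (A : Type u) [CommRing A] [IsRegularLocalRing A] (p : ℕ) (J : Ideal A) (hJ : ringKrullDim (A ⧸ J) + p ≤ ringKrullDim A) (M : Type u) [AddCommGroup M] [Module A M] [Module.Finite A M] (hJM : J • (⊤ : Submodule A M) = ⊥) : Function.Injective (fun ξ : Abelian.Ext (ModuleCat.of A M) (ModuleCat.of A A) p => fun u : (A ⧸ J) →ₗ[A] M => (Abelian.Ext.mk₀ (ModuleCat.ofHom u)).comp ξ (zero_add p)) ∧ ∀ g : ((A ⧸ J) →ₗ[A] M) →ₗ[A] Abelian.Ext (ModuleCat.of A (A ⧸ J)) (ModuleCat.of A A) p, ∃ ξ : Abelian.Ext (ModuleCat.of A M) (ModuleCat.of A A) p, ∀ u : (A ⧸ J) →ₗ[A] M, g u = (Abelian.Ext.mk₀ (ModuleCat.ofHom u)).comp ξ (zero_add p) := by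
  have hM : Killed J (ModuleCat.of A M) := by
    intro a ha y
    have : a • y ∈ J • (⊤ : Submodule A M) := Submodule.smul_mem_smul ha Submodule.mem_top
    rw [hJM] at this
    exact (Submodule.mem_bot A).1 this
  have inj_gen : ∀ (N : Type u) [AddCommGroup N] [Module A N] [Module.Finite A N]
      (hN : Killed J (ModuleCat.of A N))
      (ξ : Abelian.Ext (ModuleCat.of A N) (ModuleCat.of A A) p),
      (∀ v : Bq J ⟶ ModuleCat.of A N, (Abelian.Ext.mk₀ v).comp ξ (zero_add p) = 0) → ξ = 0 := by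
    intro N _ _ _ hN ξ hξ
    obtain ⟨b, K, _, _, _, hK, f, g, w, hS⟩ := exists_pres J N hN
    obtain ⟨hA1, -⟩ := leftExact J p hJ K hK _ _ f g w hS
    apply hA1
    apply ext_FF_zero
    intro k
    rw [Abelian.Ext.mk₀_comp_mk₀_assoc]
    exact hξ _
  constructor
  · intro ξ ξ' h
    rw [← sub_eq_zero]
    apply inj_gen M hM
    intro v
    have h2 : (Abelian.Ext.mk₀ v).comp ξ (zero_add p) = (Abelian.Ext.mk₀ v).comp ξ' (zero_add p) :=
      congrFun h v.hom
    rw [sub_eq_add_neg, Abelian.Ext.comp_add, Abelian.Ext.comp_neg, h2, add_neg_cancel]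
  · intro g₀
    obtain ⟨b, K, _, _, _, hK, f, g, w, hS⟩ := exists_pres J M hM
    obtain ⟨-, hA2⟩ := leftExact J p hJ K hK _ _ f g w hS
    obtain ⟨ξ', hξ'⟩ := exists_FF J b (ModuleCat.of A A) (fun k => g₀ (ιk J b k ≫ g).hom)
    have hev := eval_formula J b (ModuleCat.of A A) (ModuleCat.of A M) g ξ' g₀ hξ'
    have hfz : (Abelian.Ext.mk₀ f).comp ξ' (zero_add p) = 0 := by
      apply inj_gen K hK
      intro v
      rw [Abelian.Ext.mk₀_comp_mk₀_assoc, hev, Category.assoc, w, Limits.comp_zero,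
        ModuleCat.hom_zero, map_zero]
    obtain ⟨ξ, hξ⟩ := hA2 ξ' hfz
    refine ⟨ξ, fun u => ?_⟩
    have hsurj : Function.Surjective g.hom := by
      haveI : Epi g := hS.epi_g
      exact (ModuleCat.epi_iff_surjective g).1 inferInstance
    obtain ⟨c, hc⟩ := hsurj (u (Submodule.Quotient.mk 1))
    have hw : pt J (FF J b) (killed_FF J b) c ≫ g = ModuleCat.ofHom u := by
      apply ModuleCat.hom_ext
      refine LinearMap.ext fun r' => ?_
      obtain ⟨r, rfl⟩ := Submodule.Quotient.mk_surjective J r'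
      show g.hom ((pt J (FF J b) (killed_FF J b) c).hom (Submodule.Quotient.mk r))
        = u (Submodule.Quotient.mk r)
      rw [pt_mk, map_smul, hc, ← map_smul, ← Submodule.Quotient.mk_smul, smul_eq_mul, mul_one]
    have e1 : (Abelian.Ext.mk₀ (ModuleCat.ofHom u)).comp ξ (zero_add p)
        = g₀ (pt J (FF J b) (killed_FF J b) c ≫ g).hom := by
      rw [← hw, ← Abelian.Ext.mk₀_comp_mk₀_assoc, hξ, hev]
    rw [e1, hw]
    rfl

end Groth.Agent.S5672
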