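import Groth.Statements.S5691
import Mathlib.CategoryTheory.Limits.Types.Filtered
import Mathlib.CategoryTheory.Limits.Types.Limits
import Mathlib.CategoryTheory.Limits.Shapes.Equalizers
import Mathlib.CategoryTheory.Limits.Shapes.BinaryProducts
import Mathlib.CategoryTheory.Limits.Shapes.Terminal
import Mathlib.CategoryTheory.Limits.Shapes.FiniteLimits
import Mathlib.CategoryTheory.Subobject.Lattice
import Mathlib.Tactic

set_option autoImplicit false
universe u
open CategoryTheory CategoryTheory.Limits
open FGA

namespace Groth.Agent.S5691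


open Opposite

section
variable {C : Type u} [SmallCategory C] (F : C ⥤ Type u)

theorem mapc {X Y Z : C} (f : X ⟶ Y) (g : Y ⟶ Z) (x : F.obj X) :
    F.map (f ≫ g) x = F.map g (F.map f x) := by
  rw [CategoryTheory.Functor.map_comp]; rfl

theorem mapi {X : C} (x : F.obj X) : F.map (𝟙 X) x = x := by
  rw [CategoryTheory.Functor.map_id]; rfl

/-- minimal elements of `F` -/
structure MinElt where
  X : C
  x : F.obj X
  min : ∀ (Z : C) (i : Z ⟶ X) [Mono i], (∃ z : F.obj Z, F.map i z = x) → IsIso i

instance : Category (MinElt F) where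
  Hom p q := {f : p.X ⟶ q.X // F.map f p.x = q.x}
  id p := ⟨𝟙 _, mapi F _⟩
  comp f g := ⟨f.1 ≫ g.1, by rw [mapc, f.2, g.2]⟩
  id_comp f := Subtype.ext (Category.id_comp _)
  comp_id f := Subtype.ext (Category.comp_id _)
  assoc f g h := Subtype.ext (Category.assoc _ _ _)

/-- the diagram -/
def MinElt.D : MinElt F ⥤ C where
  obj p := p.X
  map f := f.1
  map_id _ := rfl
  map_comp _ _ := rfl

theorem exists_min_over (hart : ∀ X : C, IsArtinianObject X) (Y : C) (y : F.obj Y) :
    ∃ (q : MinElt F) (u : q.X ⟶ Y), F.map u q.x = y := by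
  haveI := hart Y
  have key : ∀ Z : Subobject Y, (∃ z : F.obj (Z : C), F.map Z.arrow z = y) →
      ∃ (q : MinElt F) (u : q.X ⟶ Y), F.map u q.x = y := by
    intro Z
    induction Z using WellFoundedLT.induction with
    | ind Z ih =>
      rintro ⟨z, hz⟩
      by_cases hmin : ∀ (W : C) (i : W ⟶ (Z : C)) [Mono i],
          (∃ w : F.obj W, F.map i w = z) → IsIso i
      · exact ⟨⟨(Z : C), z, hmin⟩, Z.arrow, hz⟩
      · push Not at hmin
        obtain ⟨W, i, hi, ⟨w, hw⟩, hniso⟩ := hmin
        have hlt : Subobject.mk (i ≫ Z.arrow) < Z := by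
          refine lt_of_le_of_ne (Subobject.mk_le_of_comm i rfl) ?_
          intro heq
          apply hniso
          let k : (Z : C) ⟶ W := Subobject.ofLE Z (Subobject.mk (i ≫ Z.arrow)) heq.ge ≫
            (Subobject.underlyingIso (i ≫ Z.arrow)).hom
          have hk : k ≫ i = 𝟙 _ := by
            rw [← cancel_mono Z.arrow]
            simp only [k, Category.assoc, Category.id_comp]
            rw [Subobject.underlyingIso_hom_comp_eq_mk, Subobject.ofLE_arrow]
          haveI : IsSplitEpi i := IsSplitEpi.mk' { section_ := k, id := hk }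
          exact isIso_of_mono_of_isSplitEpi i
        refine ih _ hlt ⟨F.map (Subobject.underlyingIso (i ≫ Z.arrow)).inv w, ?_⟩
        rw [← mapc, Subobject.underlyingIso_arrow, mapc, hw, hz]
  refine key ⊤ ⟨F.map (inv (⊤ : Subobject Y).arrow) y, ?_⟩
  rw [← mapc, IsIso.inv_hom_id, mapi]

variable [HasFiniteLimits C] [PreservesFiniteLimits F]

theorem hom_unique (q : MinElt F) {Y : C} (f g : q.X ⟶ Y) (h : F.map f q.x = F.map g q.x) :
    f = g := by
  have hlim : IsLimit (F.mapCone (limit.cone (parallelPair f g))) :=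
    isLimitOfPreserves F (limit.isLimit _)
  obtain ⟨w, hw, -⟩ := (Types.isLimit_iff _).mp ⟨hlim⟩
    (fun j => match j with
      | WalkingParallelPair.zero => q.x
      | WalkingParallelPair.one => F.map f q.x) (by
    intro j j' φ
    cases φ with
    | left => rfl
    | right => exact h.symm
    | id j => simp)
  have hiso : IsIso (equalizer.ι f g) := q.min _ _ ⟨w, hw WalkingParallelPair.zero⟩
  exact (cancel_epi (equalizer.ι f g)).mp (equalizer.condition f g)

theorem epi_of_hom {p q : MinElt F} (a : p ⟶ q) : Epi a.1 := by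
  constructor
  intro Z g h hgh
  have hlift : equalizer.lift a.1 hgh ≫ equalizer.ι g h = a.1 := equalizer.lift_ι _ _
  have hiso : IsIso (equalizer.ι g h) :=
    q.min _ _ ⟨F.map (equalizer.lift a.1 hgh) p.x, by rw [← mapc, hlift]; exact a.2⟩
  exact (cancel_epi (equalizer.ι g h)).mp (equalizer.condition g h)

theorem isCofiltered_minElt (hart : ∀ X : C, IsArtinianObject X) : IsCofiltered (MinElt F) := by
  have h1 : IsCofilteredOrEmpty (MinElt F) := by
    constructor
    · intro p q
      have hlim : IsLimit (F.mapCone (limit.cone (pair p.X q.X))) :=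
        isLimitOfPreserves F (limit.isLimit _)
      obtain ⟨w, hw, -⟩ := (Types.isLimit_iff _).mp ⟨hlim⟩
        (fun j => Discrete.casesOn (motive := fun j => (pair p.X q.X ⋙ F).obj j) j fun j' =>
          WalkingPair.casesOn (motive := fun t => (pair p.X q.X ⋙ F).obj ⟨t⟩) j'
            (show (pair p.X q.X ⋙ F).obj ⟨WalkingPair.left⟩ from p.x)
            (show (pair p.X q.X ⋙ F).obj ⟨WalkingPair.right⟩ from q.x)) (by
        intro j j' φ
        obtain ⟨j⟩ := j
        obtain ⟨j'⟩ := j'
        have hjj : j = j' := Discrete.eq_of_hom φ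
        subst hjj
        have hφ : φ = 𝟙 _ := Subsingleton.elim _ _
        rw [hφ, CategoryTheory.Functor.map_id]; rfl)
      obtain ⟨r, u, hu⟩ := exists_min_over F hart (p.X ⨯ q.X) w
      have hfst : F.map prod.fst w = p.x := hw ⟨WalkingPair.left⟩
      have hsnd : F.map prod.snd w = q.x := hw ⟨WalkingPair.right⟩
      exact ⟨r, ⟨u ≫ prod.fst, by rw [mapc, hu, hfst]⟩, ⟨u ≫ prod.snd, by rw [mapc, hu, hsnd]⟩,
        trivial⟩
    · intro p q f g
      have : f = g := Subtype.ext (hom_unique F p f.1 g.1 (f.2.trans g.2.symm))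
      exact ⟨p, 𝟙 p, by rw [this]⟩
  have h2 : Nonempty (MinElt F) := by
    have hlim : IsLimit (F.mapCone (limit.cone (Functor.empty.{0} C))) :=
      isLimitOfPreserves F (limit.isLimit _)
    obtain ⟨w, -, -⟩ := (Types.isLimit_iff _).mp ⟨hlim⟩ (fun j => j.as.elim)
      (fun {j} => j.as.elim)
    obtain ⟨r, -, -⟩ := exists_min_over F hart _ w
    exact ⟨r⟩
  exact { toIsCofilteredOrEmpty := h1, nonempty := h2 }

/-- the cocone -/
def cocone : Cocone ((MinElt.D F).op ⋙ coyoneda) where
  pt := F
  ι :=
    { app := fun j => coyonedaEquiv.symm (unop j).x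
      naturality := fun j j' φ => by
        ext Y u
        change F.map (φ.unop.1 ≫ u) (unop j').x = F.map u (unop j).x
        rw [mapc]; exact congrArg (fun t => F.map u t) φ.unop.2 }

theorem isColimit_cocone (hart : ∀ X : C, IsArtinianObject X) : Nonempty (IsColimit (cocone F)) := by
  haveI := isCofiltered_minElt F hart
  refine ⟨evaluationJointlyReflectsColimits _ fun Y => ?_⟩
  refine Types.FilteredColimit.isColimitOf _ _ ?_ ?_
  · intro y
    obtain ⟨q, u, hu⟩ := exists_min_over F hart Y y
    exact ⟨op q, u, hu.symm⟩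
  · intro i j u v huv
    obtain ⟨k, a, b, -⟩ := IsCofilteredOrEmpty.cone_objs (unop i) (unop j)
    refine ⟨op k, a.op, b.op, ?_⟩
    change a.1 ≫ u = b.1 ≫ v
    apply hom_unique F k
    rw [mapc, mapc, a.2, b.2]
    exact huv

end



/-- Let C be a small category with finite limits all of whose objects are artinian (the subobjects of
each object satisfy the descending chain condition), and let F be a set-valued functor on C
preserving finite limits. Then F is strictly pro-representable: there are a small cofiltered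
category J and a diagram D : J ⥤ C all of whose transition morphisms are epimorphisms such that F is
isomorphic to the colimit of the corepresentable functors Hom(D j, -). -/
theorem result {C : Type u} [SmallCategory C]
    [HasFiniteLimits C] (hart : ∀ X : C, IsArtinianObject X) (F : C ⥤ Type u) [PreservesFiniteLimits F] :
    ∃ (J : Type u) (_ : SmallCategory J) (_ : IsCofiltered J) (D : J ⥤ C),
      (∀ ⦃j j' : J⦄ (a : j ⟶ j'), Epi (D.map a)) ∧ Nonempty (F ≅ colimit (D.op ⋙ coyoneda)) := by
  haveI := isCofiltered_minElt F hart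
  obtain ⟨hc⟩ := isColimit_cocone F hart
  exact ⟨MinElt F, inferInstance, inferInstance, MinElt.D F, fun j j' a => epi_of_hom F a,
    ⟨IsColimit.coconePointUniqueUpToIso hc (colimit.isColimit _)⟩⟩

end Groth.Agent.S5691
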