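import Groth.Statements.S5705
import Mathlib
import Groth.Agent.Lib.Lead.LocalSN
-- import your own Groth.Agent.* helpers here

set_option autoImplicit false
universe u v
open TensorProduct
open Dix

namespace Groth.Agent.S5705

/-- Over a local base, where the Zariski-local conclusion becomes global. Let R be a local ring and A an
Azumaya algebra over R. Then every R-algebra automorphism u of A is inner, u(x) = a x a⁻¹ for some
unit a of A, and the unit a is determined up to multiplication by a unit of R. -/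
theorem result (R : Type u) [CommRing R] [IsLocalRing R] (A : Type v) [Ring A] [Algebra R A] [IsAzumaya R A] (u : A ≃ₐ[R] A) : (∃ a : Aˣ, ∀ x : A, u x = (a : A) * x * (a⁻¹ : Aˣ)) ∧ (∀ a a' : Aˣ, (∀ x : A, u x = (a : A) * x * (a⁻¹ : Aˣ)) → (∀ x : A, u x = (a' : A) * x * (a'⁻¹ : Aˣ)) → ∃ c : Rˣ, (a' : A) = algebraMap R A (c : R) * (a : A)) := by
  refine ⟨Groth.Agent.Lead.LocalSN.azumaya_inner u, ?_⟩
  intro a a' ha ha'
  haveI : Module.Free R A := Module.free_of_flat_of_isLocalRing
  have gen : ∀ (b b' : Aˣ),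
      (∀ x : A, (b : A) * x * ((b⁻¹ : Aˣ) : A) = (b' : A) * x * ((b'⁻¹ : Aˣ) : A)) →
      ∃ r : R, ((b⁻¹ : Aˣ) : A) * (b' : A) = algebraMap R A r := by
    intro b b' h
    have hcomm : ∀ x : A, x * (((b⁻¹ : Aˣ) : A) * (b' : A)) =
        (((b⁻¹ : Aˣ) : A) * (b' : A)) * x := by
      intro x
      calc x * (((b⁻¹ : Aˣ) : A) * (b' : A))
          = ((b⁻¹ : Aˣ) : A) * ((b : A) * x * ((b⁻¹ : Aˣ) : A)) * (b' : A) := by
            simp only [mul_assoc, Units.inv_mul_cancel_left]
        _ = ((b⁻¹ : Aˣ) : A) * ((b' : A) * x * ((b'⁻¹ : Aˣ) : A)) * (b' : A) := by rw [h]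
        _ = (((b⁻¹ : Aˣ) : A) * (b' : A)) * x := by
            simp only [mul_assoc, Units.inv_mul, mul_one]
    have hz : ((b⁻¹ : Aˣ) : A) * (b' : A) ∈ Subalgebra.center R A :=
      Subalgebra.mem_center_iff.2 hcomm
    exact (Algebra.IsCentral.mem_center_iff R).1 hz
  obtain ⟨r, hr⟩ := gen a a' fun x => (ha x).symm.trans (ha' x)
  obtain ⟨r', hr'⟩ := gen a' a fun x => (ha' x).symm.trans (ha x)
  have hrr : r * r' = 1 := by
    apply FaithfulSMul.algebraMap_injective R A
    rw [map_mul, map_one, ← hr, ← hr']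
    simp only [mul_assoc, Units.mul_inv_cancel_left, Units.inv_mul]
  refine ⟨Units.mkOfMulEqOne r r' hrr, ?_⟩
  show (a' : A) = algebraMap R A r * (a : A)
  rw [Algebra.commutes, ← hr, Units.mul_inv_cancel_left]

end Groth.Agent.S5705
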