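import Groth.Statements.S5719
import Mathlib
import Groth.Agent.Lib.Lead.FibreCrit
-- import your own Groth.Agent.* helpers here

set_option autoImplicit false
universe u v
open TensorProduct
open Dix

namespace Groth.Agent.S5719


open Groth.Agent.Lead.FibreCrit

/-- (i) ⇔ (ii), over an affine base. Let R be a commutative ring and A an R-algebra whose underlying
module is finite and projective (locally free of finite type). Then A ⊗_R A° → End_R(A) is bijective
with A faithful, i.e. A is an Azumaya algebra over R, if and only if every fibre κ(p) ⊗_R A, p a
prime ideal of R, is a central simple algebra over the residue field κ(p). -/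
theorem result (R : Type u) [CommRing R] (A : Type u) [Ring A] [Algebra R A] [Module.Finite R A] [Module.Projective R A] : IsAzumaya R A ↔ ∀ (p : Ideal R) [p.IsPrime], Algebra.IsCentral p.ResidueField (p.ResidueField ⊗[R] A) ∧ IsSimpleRing (p.ResidueField ⊗[R] A) := by
  constructor
  · intro hA p hp
    haveI : IsAzumaya p.ResidueField (p.ResidueField ⊗[R] A) :=
      Groth.Agent.H10.isAzumaya_baseChange R p.ResidueField A
    exact ⟨inferInstance, isSimpleRing_of_isAzumaya p.ResidueField _⟩
  · intro h
    haveI : FaithfulSMul R A := faithfulSMul_of_fibres A fun p hp => by
      haveI := (h p).2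
      infer_instance
    obtain ⟨hEf, hEp⟩ := Groth.Agent.H10.end_finite_projective R A
    haveI : Module.Finite R (Module.End R A) := hEf
    haveI : Module.Projective R (Module.End R A) := hEp
    haveI : Module.Finite R Aᵐᵒᵖ := Module.Finite.equiv (MulOpposite.opLinearEquiv R)
    have hb : Function.Bijective (AlgHom.mulLeftRight R A).toLinearMap := by
      apply bijective_of_residueField_fibres
      intro p hp
      obtain ⟨hc, hs⟩ := h p
      haveI := hc
      haveI := hs
      haveI : IsAzumaya p.ResidueField (p.ResidueField ⊗[R] A) :=
        isAzumaya_of_central_simple _ _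
      exact (Groth.Agent.H10.bijective_mulLeftRight_baseChange_iff R p.ResidueField A).1
        IsAzumaya.bij
    exact { bij := hb }

end Groth.Agent.S5719
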