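import Groth.Statements.S5744
import Groth.Agent.Lead.QCoh11
-- import your own Groth.Agent.* helpers here

set_option autoImplicit false
universe u
open Coherent

namespace Groth.Agent.S5744


section
open CategoryTheory CategoryTheory.Limits AlgebraicGeometry Opposite TopologicalSpace
open Groth.Agent.Lead.QCoh

theorem isQuasicoherent_piObj_finite {X : Scheme.{u}} {J : Type u} [Finite J] (f : J → X.Modules)
    (h : ∀ j, (f j).IsQuasicoherent) : (∏ᶜ f).IsQuasicoherent := by
  haveI : HasFiniteBiproducts X.Modules := HasFiniteBiproducts.of_hasFiniteProducts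
  haveI : HasBiproductsOfShape J X.Modules := hasBiproductsOfShape_finite (J := J) (C := X.Modules)
  have e : ∐ f ≅ ∏ᶜ f := (biproduct.isoCoproduct f).symm ≪≫ biproduct.isoProduct f
  have h1 : (∐ f).IsQuasicoherent :=
    isQuasicoherent_colimit (Discrete.functor f) (fun j => h j.as)
  exact (SheafOfModules.isQuasicoherent.{u} _).prop_of_iso e h1

theorem term_qcoh {X : Scheme.{u}} (E : SimplicialObject (FormalCoproduct.{u} X.Opens))
    (P : (X.Opens)ᵒᵖ ⥤ X.Modules) (n : ℕ) [Finite (E.obj (op (SimplexCategory.mk n))).I]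
    (h : ∀ i, (P.obj (op ((E.obj (op (SimplexCategory.mk n))).obj i))).IsQuasicoherent) :
    (((FormalCoproduct.cochainComplexFunctor E).obj P).X n).IsQuasicoherent := by
  rw [FormalCoproduct.cochainComplexFunctor_obj_X]
  exact isQuasicoherent_piObj_finite _ h

set_option backward.isDefEq.respectTransparency false in
theorem affine_term {X : Scheme.{u}} [X.IsSeparated] {ι : Type u} (𝒰 : ι → X.Opens)
    (h𝒰 : ∀ i, IsAffineOpen (𝒰 i)) (p : ℕ) (i : Fin (p + 1) → ι)
    (F : X.Modules) [F.IsQuasicoherent] :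
    ((CechOX.pushRestr (∏ᶜ (𝒰 ∘ i))).obj F).IsQuasicoherent := by
  have hW : IsAffineOpen (∏ᶜ (𝒰 ∘ i) : X.Opens) := by
    have heq : (∏ᶜ (𝒰 ∘ i) : X.Opens) = ⨅ k, 𝒰 (i k) :=
      le_antisymm (le_iInf fun k => leOfHom (Pi.π (𝒰 ∘ i) k))
        (leOfHom (Pi.lift fun k => homOfLE (iInf_le _ k)))
    rw [heq]
    exact IsAffineOpen.iInf (fun k => h𝒰 (i k))
  haveI : IsAffine ((∏ᶜ (𝒰 ∘ i) : X.Opens) : Scheme.{u}) := hW
  haveI : IsAffineHom (∏ᶜ (𝒰 ∘ i) : X.Opens).ι := by
    haveI : IsAffineHom ((∏ᶜ (𝒰 ∘ i) : X.Opens).ι ≫ terminal.from X) := inferInstance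
    exact IsAffineHom.of_comp _ (terminal.from X)
  show ((Scheme.Modules.pushforward (∏ᶜ (𝒰 ∘ i) : X.Opens).ι).obj
    ((Scheme.Modules.restrictFunctor (∏ᶜ (𝒰 ∘ i) : X.Opens).ι).obj F)).IsQuasicoherent
  exact isQuasicoherent_pushforward (∏ᶜ (𝒰 ∘ i) : X.Opens).ι _

theorem main {X : Scheme.{u}} [X.IsSeparated] {ι : Type u}
    [Finite ι] (𝒰 : ι → X.Opens) (h𝒰 : ∀ i, IsAffineOpen (𝒰 i))
    (F : X.Modules) [F.IsQuasicoherent] (p : ℕ) :
    (((CechOX.cechSh 𝒰).obj F).X p).IsQuasicoherent := by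
  haveI : Finite (((FormalCoproduct.mk ι 𝒰).cech.obj (op (SimplexCategory.mk p))).I) :=
    (inferInstance : Finite (Fin (p + 1) → ι))
  exact term_qcoh (FormalCoproduct.mk ι 𝒰).cech (CechOX.pushRestrFam.flip.obj F) p
    (fun i => affine_term 𝒰 h𝒰 p i F)
end

open AlgebraicGeometry CategoryTheory in
/-- For the Čech complex of sheaves indexed by all ordered tuples with products as terms; over a finite
index type these terms are finite direct sums. Let X be a separated scheme, (U_i)_{i ∈ ι} a finite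
family of affine opens covering X, and F a quasi-coherent O_X-module. Then for every p the degree-p
term of the Čech complex of sheaves 𝔠(𝒰, F), the product over ordered (p+1)-tuples of the direct
images (j_{i_0…i_p})_*(F|_{U_{i_0…i_p}}), is a quasi-coherent O_X-module. -/
theorem result {X : Scheme.{u}} [X.IsSeparated] {ι : Type u}
    [Finite ι] (𝒰 : ι → X.Opens) (h𝒰 : ∀ i, IsAffineOpen (𝒰 i)) (hcov : ⨆ i, 𝒰 i = ⊤)
    (F : X.Modules) [Coh.IsQCoh F] (p : ℕ) :
    Coh.IsQCoh (((CechOX.cechSh 𝒰).obj F).X p) := by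
  exact main 𝒰 h𝒰 F p

end Groth.Agent.S5744
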