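import Groth.Statements.S5755
import Mathlib
import Groth.Agent.H29.Depth

set_option autoImplicit false
universe u
open EGA41

namespace Groth.Agent.S5755

/-- A reduced Noetherian local ring A has depth 0 if and only if A is a field. -/
theorem result (A : Type u) [CommRing A] [IsLocalRing A]
    [IsNoetherianRing A] [IsReduced A] : LocCoh.depth A A = 0 ↔ IsField A := by
  rw [Groth.Agent.H29.depth_eq_zero_iff_mem_ass, IsLocalRing.isField_iff_maximalIdeal_eq]
  constructor
  · intro h
    obtain ⟨hprime, a, hann⟩ := (isAssociatedPrime_iff).mp h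
    have ha0 : a ≠ 0 := by
      rintro rfl
      apply hprime.ne_top
      rw [hann]
      ext y; simp [Submodule.mem_colon_singleton]
    have hmem : ∀ x, x ∈ IsLocalRing.maximalIdeal A ↔ x * a = 0 := by
      intro x
      rw [hann]
      simp [Submodule.mem_colon_singleton]
    have ha : a ∉ IsLocalRing.maximalIdeal A := by
      intro ham
      have : a * a = 0 := (hmem a).mp ham
      exact ha0 (IsReduced.eq_zero a ⟨2, by rw [pow_two]; exact this⟩)
    have hunit : IsUnit a := by
      by_contra hnu
      exact ha ((IsLocalRing.mem_maximalIdeal a).mpr hnu)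
    ext x
    rw [hmem x]
    simp [hunit.mul_left_eq_zero]
  · intro h
    rw [AssociatedPrimes.mem_iff, isAssociatedPrime_iff]
    refine ⟨inferInstance, 1, ?_⟩
    rw [h]
    ext y; simp [Submodule.mem_colon_singleton]

end Groth.Agent.S5755
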