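import Groth.Statements.S5765
import Mathlib

set_option autoImplicit false
universe u
open EGA41

namespace Groth.Agent.S5765

/-- Let A be a ring, M a finitely generated A-module and p a prime ideal of A. Then dim_{A_p}(M_p) +
dim_A(M/pM) ≤ dim_A(M). -/
theorem result (A : Type u) [CommRing A] (M : Type u)
    [AddCommGroup M] [Module A M] [Module.Finite A M] (p : Ideal A) [p.IsPrime] :
    Module.supportDim (Localization.AtPrime p) (LocalizedModule p.primeCompl M) +
        Module.supportDim A (M ⧸ (p • (⊤ : Submodule A M))) ≤ Module.supportDim A M := by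
  classical
  by_cases hP : (⟨p, inferInstance⟩ : PrimeSpectrum A) ∈ Module.support A M
  swap
  · rw [Module.notMem_support_iff] at hP
    haveI : Subsingleton (LocalizedModule p.primeCompl M) := hP
    rw [Module.supportDim_eq_bot_of_subsingleton, WithBot.bot_add]
    exact bot_le
  let x : Module.support A M := ⟨⟨p, inferInstance⟩, hP⟩
  -- (a)
  have ha : Module.supportDim (Localization.AtPrime p) (LocalizedModule p.primeCompl M) ≤
      (Order.height x : WithBot ℕ∞) := by
    rw [Order.height_eq_krullDim_Iic]
    unfold Module.supportDim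
    have hmem : ∀ q : Module.support (Localization.AtPrime p) (LocalizedModule p.primeCompl M),
        PrimeSpectrum.comap (algebraMap A (Localization.AtPrime p)) q.1 ∈ Module.support A M := by
      rintro ⟨q, hq⟩
      rw [Module.mem_support_iff'] at hq ⊢
      obtain ⟨y, hy⟩ := hq
      induction y using LocalizedModule.induction_on with
      | h m s =>
        refine ⟨m, fun a ha ham => ?_⟩
        apply hy (algebraMap A (Localization.AtPrime p) a) ha
        rw [algebraMap_smul, LocalizedModule.smul'_mk, ham, LocalizedModule.zero_mk]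
    have hle : ∀ q : Module.support (Localization.AtPrime p) (LocalizedModule p.primeCompl M),
        (⟨PrimeSpectrum.comap (algebraMap A (Localization.AtPrime p)) q.1, hmem q⟩ :
          Module.support A M) ≤ x := by
      rintro ⟨q, hq⟩
      show (PrimeSpectrum.comap (algebraMap A (Localization.AtPrime p)) q).asIdeal ≤ p
      intro a haq
      by_contra hap
      have hu : IsUnit (algebraMap A (Localization.AtPrime p) a) :=
        IsLocalization.map_units (Localization.AtPrime p) (⟨a, hap⟩ : p.primeCompl)
      exact q.2.ne_top (Ideal.eq_top_of_isUnit_mem _ haq hu)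
    let g : Module.support (Localization.AtPrime p) (LocalizedModule p.primeCompl M) → Set.Iic x :=
      fun q => Subtype.mk (Subtype.mk
        (PrimeSpectrum.comap (algebraMap A (Localization.AtPrime p)) q.1) (hmem q))
        (Set.mem_Iic.mpr (hle q))
    apply Order.krullDim_le_of_strictMono g
    rintro ⟨q₁, h₁⟩ ⟨q₂, h₂⟩ h12
    show (PrimeSpectrum.comap (algebraMap A (Localization.AtPrime p)) q₁).asIdeal <
      (PrimeSpectrum.comap (algebraMap A (Localization.AtPrime p)) q₂).asIdeal
    have h12' : q₁.asIdeal < q₂.asIdeal := h12
    exact (IsLocalization.orderEmbedding p.primeCompl (Localization.AtPrime p)).lt_iff_lt.mpr h12'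
  -- (b)
  have hb : Module.supportDim A (M ⧸ (p • (⊤ : Submodule A M))) ≤
      (Order.coheight x : WithBot ℕ∞) := by
    rw [Order.coheight_eq_krullDim_Ici]
    unfold Module.supportDim
    have hsub : ∀ q : Module.support A (M ⧸ (p • (⊤ : Submodule A M))),
        q.1 ∈ Module.support A M ∧ q.1 ∈ PrimeSpectrum.zeroLocus (p : Set A) := by
      rintro ⟨q, hq⟩
      rw [Module.support_quotient] at hq
      exact hq
    have hge : ∀ q : Module.support A (M ⧸ (p • (⊤ : Submodule A M))),
        x ≤ (Subtype.mk q.1 (hsub q).1 : Module.support A M) := by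
      intro q
      show p ≤ q.1.asIdeal
      exact (PrimeSpectrum.mem_zeroLocus _ _).mp (hsub q).2
    let g : Module.support A (M ⧸ (p • (⊤ : Submodule A M))) → Set.Ici x :=
      fun q => Subtype.mk (Subtype.mk q.1 (hsub q).1) (Set.mem_Ici.mpr (hge q))
    apply Order.krullDim_le_of_strictMono g
    rintro ⟨q₁, h₁⟩ ⟨q₂, h₂⟩ h12
    exact h12
  -- (c)
  haveI : Nonempty (Module.support A M) := ⟨x⟩
  have hc : ((Order.height x + Order.coheight x : ℕ∞) : WithBot ℕ∞) ≤ Module.supportDim A M := by
    unfold Module.supportDim
    rw [Order.krullDim_eq_iSup_height_add_coheight_of_nonempty, WithBot.coe_le_coe]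
    exact le_iSup (fun a : Module.support A M => Order.height a + Order.coheight a) x
  calc _ ≤ (Order.height x : WithBot ℕ∞) + (Order.coheight x : WithBot ℕ∞) := add_le_add ha hb
    _ = ((Order.height x + Order.coheight x : ℕ∞) : WithBot ℕ∞) := (WithBot.coe_add _ _).symm
    _ ≤ _ := hc

end Groth.Agent.S5765
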