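import Groth.Statements.S5766
import Mathlib
import Groth.Agent.H29.IntegralDim

set_option autoImplicit false
universe u
open EGA41

namespace Groth.Agent.S5766

/-- Let A be a Noetherian ring, ρ : A → B a ring homomorphism and M a B-module which is finitely
generated as an A-module via ρ. Then the dimension of M as an A-module equals its dimension as a
B-module. -/
theorem result (A B : Type u) [CommRing A] [CommRing B] [IsNoetherianRing A]
    [Algebra A B] (M : Type u) [AddCommGroup M] [Module B M] [Module A M] [IsScalarTower A B M]
    [Module.Finite A M] : Module.supportDim A M = Module.supportDim B M := by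
  haveI : Module.Finite B M := Module.Finite.of_restrictScalars_finite A B M
  rw [Module.supportDim_eq_ringKrullDim_quotient_annihilator,
    Module.supportDim_eq_ringKrullDim_quotient_annihilator]
  have hcomap : Module.annihilator A M = (Module.annihilator B M).comap (algebraMap A B) := by
    ext a
    simp only [Module.mem_annihilator, Ideal.mem_comap, algebraMap_smul]
  let f : A ⧸ Module.annihilator A M →+* B ⧸ Module.annihilator B M :=
    Ideal.quotientMap (Module.annihilator B M) (algebraMap A B) hcomap.le
  letI : Algebra (A ⧸ Module.annihilator A M) (B ⧸ Module.annihilator B M) := f.toAlgebra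
  have hinj : Function.Injective (algebraMap (A ⧸ Module.annihilator A M)
      (B ⧸ Module.annihilator B M)) := Ideal.quotientMap_injective' hcomap.ge
  haveI : Algebra.IsIntegral (A ⧸ Module.annihilator A M) (B ⧸ Module.annihilator B M) := by
    refine ⟨fun x => ?_⟩
    obtain ⟨b, rfl⟩ := Ideal.Quotient.mk_surjective x
    obtain ⟨p, hpm, hp⟩ := (Module.End.isIntegral (R := A) (M := M)).isIntegral (Algebra.lsmul A A M b)
    have hp' : Polynomial.aeval (Algebra.lsmul A A M b) p = 0 := hp
    rw [Polynomial.aeval_algHom_apply] at hp'
    have hmem : Polynomial.aeval b p ∈ Module.annihilator B M := by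
      rw [Module.mem_annihilator]
      intro m
      have := LinearMap.congr_fun hp' m
      simpa using this
    refine ⟨p.map (Ideal.Quotient.mk _), hpm.map _, ?_⟩
    rw [Polynomial.eval₂_map]
    have hcomp : (algebraMap (A ⧸ Module.annihilator A M) (B ⧸ Module.annihilator B M)).comp
        (Ideal.Quotient.mk (Module.annihilator A M)) =
        (Ideal.Quotient.mk (Module.annihilator B M)).comp (algebraMap A B) := by
      ext a
      rfl
    rw [hcomp, ← Polynomial.hom_eval₂]
    exact Ideal.Quotient.eq_zero_iff_mem.mpr hmem
  exact le_antisymm (Groth.Agent.H29.ringKrullDim_le_of_isIntegral_of_injective _ _ hinj)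
    (Groth.Agent.H29.ringKrullDim_le_of_isIntegral _ _)

end Groth.Agent.S5766
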