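import Groth.Statements.S5767
import Mathlib
import Groth.Agent.H29.SemilocalDim

set_option autoImplicit false
universe u
open EGA41

namespace Groth.Agent.S5767

/-- Let A be a semi-local Noetherian ring, M a finitely generated A-module and x an element of the
Jacobson radical of A. One always has dim(M/xM) ≥ dim(M) - 1; equality dim(M/xM) = dim(M) - 1 holds
if and only if x belongs to none of the prime ideals p of Supp(M) with dim(A/p) = dim(M). Stated as:
dim(M/xM) + 1 = dim(M) iff x avoids those primes. -/
theorem result (A : Type u) [CommRing A] [IsNoetherianRing A]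
    [Finite (MaximalSpectrum A)] (M : Type u) [AddCommGroup M] [Module A M] [Module.Finite A M] (x : A)
    (hx : x ∈ Ring.jacobson A) :
    Module.supportDim A (QuotSMulTop x M) + 1 = Module.supportDim A M ↔
      ∀ p : PrimeSpectrum A, p ∈ Module.support A M →
        ringKrullDim (A ⧸ p.asIdeal) = Module.supportDim A M → x ∉ p.asIdeal := by
  classical
  have hxj : x ∈ (Module.annihilator A M).jacobson := Ideal.ringJacobson_le_jacobson hx
  have hge := Module.supportDim_le_supportDim_quotSMulTop_succ_of_mem_jacobson (M := M) hxj
  -- dim A/q ≤ dim M for q ∈ Supp M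
  have hquot : ∀ q : PrimeSpectrum A, q ∈ Module.support A M →
      ringKrullDim (A ⧸ q.asIdeal) ≤ Module.supportDim A M := by
    intro q hq
    rw [ringKrullDim_quotient]
    unfold Module.supportDim
    let g : PrimeSpectrum.zeroLocus (q.asIdeal : Set A) → Module.support A M :=
      fun r => Subtype.mk r.1 (Module.mem_support_mono ((PrimeSpectrum.mem_zeroLocus _ _).mp r.2) hq)
    exact Order.krullDim_le_of_strictMono g (fun a b h => h)
  constructor
  · intro heq p hp hdim hxp
    -- V(p) ⊆ Supp (M/xM)
    have h1 : ringKrullDim (A ⧸ p.asIdeal) ≤ Module.supportDim A (QuotSMulTop x M) := by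
      rw [ringKrullDim_quotient]
      unfold Module.supportDim
      have hmem : ∀ r : PrimeSpectrum.zeroLocus (p.asIdeal : Set A),
          r.1 ∈ Module.support A (QuotSMulTop x M) := by
        intro r
        rw [Module.support_quotSMulTop]
        have hle : p.asIdeal ≤ r.1.asIdeal := (PrimeSpectrum.mem_zeroLocus _ _).mp r.2
        refine ⟨Module.mem_support_mono hle hp, ?_⟩
        rw [PrimeSpectrum.mem_zeroLocus, Set.singleton_subset_iff]
        exact hle hxp
      let g : PrimeSpectrum.zeroLocus (p.asIdeal : Set A) → Module.support A (QuotSMulTop x M) :=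
        fun r => Subtype.mk r.1 (hmem r)
      exact Order.krullDim_le_of_strictMono g (fun a b h => h)
    have h2 : Module.supportDim A (QuotSMulTop x M) + 1 ≤ Module.supportDim A (QuotSMulTop x M) := by
      calc _ = Module.supportDim A M := heq
        _ = ringKrullDim (A ⧸ p.asIdeal) := hdim.symm
        _ ≤ _ := h1
    have hfin : Module.supportDim A (QuotSMulTop x M) < ⊤ :=
      lt_of_le_of_lt (Module.supportDim_le_ringKrullDim A _)
        (Groth.Agent.H29.ringKrullDim_lt_top_of_semilocal A)
    have hbot : Module.supportDim A (QuotSMulTop x M) ≠ ⊥ := by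
      intro hb
      rw [hb] at heq
      rw [← heq] at hdim
      have : Nontrivial (A ⧸ p.asIdeal) := Ideal.Quotient.nontrivial_iff.mpr p.2.ne_top
      have := ringKrullDim_nonneg_of_nontrivial (R := A ⧸ p.asIdeal)
      rw [hdim] at this
      simp at this
    revert h2 hfin hbot
    generalize Module.supportDim A (QuotSMulTop x M) = d
    intro h2 hfin hbot
    cases d with
    | bot => exact hbot rfl
    | coe d =>
      cases d with
      | top => exact (lt_irrefl _ hfin)
      | coe n =>
        have : ((n + 1 : ℕ) : WithBot ℕ∞) ≤ (n : WithBot ℕ∞) := by exact_mod_cast h2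
        have : n + 1 ≤ n := by exact_mod_cast this
        omega
  · intro H
    refine le_antisymm ?_ hge
    rcases subsingleton_or_nontrivial (QuotSMulTop x M) with hs | hn
    · rw [Module.supportDim_eq_bot_of_subsingleton, WithBot.bot_add]; exact bot_le
    have hne : Nonempty (Module.support A (QuotSMulTop x M)) :=
      Module.nonempty_support_of_nontrivial.to_subtype
    have hMn : Nontrivial M := by
      by_contra hcon
      rw [not_nontrivial_iff_subsingleton] at hcon
      have : Subsingleton (QuotSMulTop x M) := inferInstanceAs (Subsingleton (M ⧸ _))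
      exact not_subsingleton _ this
    have hMbot : Module.supportDim A M ≠ ⊥ := Module.supportDim_ne_bot_of_nontrivial A M
    obtain ⟨d, hd⟩ : ∃ d : ℕ∞, Module.supportDim A M = (d : WithBot ℕ∞) :=
      ⟨_, (WithBot.coe_unbot _ hMbot).symm⟩
    -- every chain
    have hchain : ∀ c : LTSeries (Module.support A (QuotSMulTop x M)),
        (c.length : ℕ∞) + 1 ≤ d := by
      intro c
      have hhead : ∀ r : Module.support A (QuotSMulTop x M),
          r.1 ∈ Module.support A M ∩ PrimeSpectrum.zeroLocus {x} := by
        rintro ⟨r, hr⟩
        rw [Module.support_quotSMulTop] at hr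
        exact hr
      obtain ⟨hq0, hxq0⟩ := hhead c.head
      rw [PrimeSpectrum.mem_zeroLocus, Set.singleton_subset_iff] at hxq0
      have h1 : ((c.length : ℕ∞) : WithBot ℕ∞) ≤ ringKrullDim (A ⧸ c.head.1.asIdeal) := by
        rw [ringKrullDim_quotient]
        have hmem : ∀ i, (c i).1 ∈ PrimeSpectrum.zeroLocus (c.head.1.asIdeal : Set A) := by
          intro i
          rw [PrimeSpectrum.mem_zeroLocus]
          have : c.head ≤ c i := c.monotone (Fin.zero_le _)
          exact this
        let c' : LTSeries (PrimeSpectrum.zeroLocus (c.head.1.asIdeal : Set A)) :=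
          { length := c.length
            toFun := fun i => Subtype.mk (c i).1 (hmem i)
            step := fun i => c.step i }
        exact Order.LTSeries.length_le_krullDim c'
      have h2 := hquot c.head.1 hq0
      have h3 : ringKrullDim (A ⧸ c.head.1.asIdeal) ≠ Module.supportDim A M := by
        intro h
        exact H c.head.1 hq0 h hxq0
      have h4 : ((c.length : ℕ∞) : WithBot ℕ∞) < Module.supportDim A M :=
        lt_of_le_of_lt h1 (lt_of_le_of_ne h2 h3)
      rw [hd, WithBot.coe_lt_coe] at h4
      exact Order.add_one_le_of_lt h4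
    have hL : Module.supportDim A (QuotSMulTop x M) =
        ((⨆ c : LTSeries (Module.support A (QuotSMulTop x M)), (c.length : ℕ∞) : ℕ∞) :
          WithBot ℕ∞) := by
      unfold Module.supportDim
      rw [Order.krullDim_eq_iSup_length]
    rw [hL, hd]
    have : ((⨆ c : LTSeries (Module.support A (QuotSMulTop x M)), (c.length : ℕ∞)) + 1 : ℕ∞) ≤ d := by
      rw [ENat.iSup_add, iSup_le_iff]
      exact hchain
    exact_mod_cast this

end Groth.Agent.S5767
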