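import Groth.Statements.S5768
import Groth.Agent.H29.SemiSOP

set_option autoImplicit false
universe u
open EGA41

namespace Groth.Agent.S5768

open Groth.Agent.H29 in
open Groth.Agent.H29.SemiSOP in
/-- Let A be a semi-local Noetherian ring with Jacobson radical r, M a nonzero finitely generated
A-module and x_1, ..., x_k elements of r. One always has dim(M/(x_1 M + ... + x_k M)) ≥ dim(M) - k,
and equality holds if and only if there exist further elements of r which together with the x_i form
a system of parameters for M (dim(M) elements of r modulo which M has finite length). -/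
theorem result (A : Type u) [CommRing A]
    [IsNoetherianRing A] [Finite (MaximalSpectrum A)] (M : Type u) [AddCommGroup M] [Module A M]
    [Module.Finite A M] [Nontrivial M] (xs : List A) (hxs : ∀ x ∈ xs, x ∈ Ring.jacobson A) :
    Module.supportDim A (M ⧸ (Ideal.ofList xs • (⊤ : Submodule A M))) + xs.length = Module.supportDim A M ↔
      ∃ ys : List A, (∀ y ∈ ys, y ∈ Ring.jacobson A) ∧
        ((xs ++ ys).length : WithBot ℕ∞) = Module.supportDim A M ∧
        IsFiniteLength A (M ⧸ (Ideal.ofList (xs ++ ys) • (⊤ : Submodule A M))) := by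
  classical
  have hL2 := supportDim_le_supportDim_quotient_add_length A xs M hxs
  obtain ⟨d, hd⟩ := exists_natCast_supportDim A M
  have hsupp : ∀ ys : List A,
      Module.support A (M ⧸ Ideal.ofList (xs ++ ys) • (⊤ : Submodule A M)) =
      Module.support A ((M ⧸ Ideal.ofList xs • (⊤ : Submodule A M)) ⧸
        Ideal.ofList ys • (⊤ : Submodule A (M ⧸ Ideal.ofList xs • (⊤ : Submodule A M)))) := by
    intro ys
    rw [Module.support_quotient, Module.support_quotient, Module.support_quotient,
      Ideal.ofList_append, PrimeSpectrum.zeroLocus_sup, Set.inter_assoc]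
  have hfl_iff : ∀ ys : List A,
      IsFiniteLength A (M ⧸ Ideal.ofList (xs ++ ys) • (⊤ : Submodule A M)) ↔
      IsFiniteLength A ((M ⧸ Ideal.ofList xs • (⊤ : Submodule A M)) ⧸
        Ideal.ofList ys • (⊤ : Submodule A (M ⧸ Ideal.ofList xs • (⊤ : Submodule A M)))) := by
    intro ys
    rw [← Groth.Agent.S16234.result, ← Groth.Agent.S16234.result, hsupp ys]
  constructor
  · intro heq
    have hne_bot : Module.supportDim A (M ⧸ Ideal.ofList xs • (⊤ : Submodule A M)) ≠ ⊥ := by
      intro hb
      apply Module.supportDim_ne_bot_of_nontrivial A M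
      rw [← heq, hb, WithBot.bot_add]
    obtain ⟨d', hd'⟩ := withBot_exists_natCast hne_bot (supportDim_lt_top A _).ne
    obtain ⟨ys, hlen, hmem, hfl⟩ := exists_sop A d' _ hd'.le
    refine ⟨ys, hmem, ?_, (hfl_iff ys).mpr hfl⟩
    rw [← heq, hd', List.length_append, hlen]
    push_cast
    rw [add_comm]
  · rintro ⟨ys, hmem, hlen, hfl⟩
    refine le_antisymm ?_ hL2
    have h1 := supportDim_le_supportDim_quotient_add_length A ys
      (M ⧸ Ideal.ofList xs • (⊤ : Submodule A M)) hmem
    have h2 := (supportDim_le_zero_iff_isFiniteLength A _).mpr ((hfl_iff ys).mp hfl)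
    rw [← hlen, List.length_append]
    push_cast
    calc Module.supportDim A (M ⧸ Ideal.ofList xs • (⊤ : Submodule A M)) + (xs.length : WithBot ℕ∞)
        ≤ (Module.supportDim A ((M ⧸ Ideal.ofList xs • (⊤ : Submodule A M)) ⧸
            Ideal.ofList ys • (⊤ : Submodule A (M ⧸ Ideal.ofList xs • (⊤ : Submodule A M)))) +
            (ys.length : WithBot ℕ∞)) + (xs.length : WithBot ℕ∞) := add_le_add h1 le_rfl
      _ ≤ (0 + (ys.length : WithBot ℕ∞)) + (xs.length : WithBot ℕ∞) :=
          add_le_add (add_le_add h2 le_rfl) le_rfl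
      _ = (xs.length : WithBot ℕ∞) + (ys.length : WithBot ℕ∞) := by rw [zero_add, add_comm]

end Groth.Agent.S5768
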