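import Groth.Statements.S5771
import Mathlib
import Groth.Agent.H29.DimLocalHom

set_option autoImplicit false
universe u
open EGA41

namespace Groth.Agent.S5771

/-- Let φ : A → B be a local homomorphism of Noetherian local rings, m the maximal ideal of A, and
suppose mB is an ideal of definition of B (equivalently dim(B/mB) = 0). Then dim(B) ≤ dim(A); if
moreover A is an integral domain and dim(A) = dim(B), then φ is injective. -/
theorem result (A B : Type u) [CommRing A] [CommRing B]
    [IsLocalRing A] [IsLocalRing B] [IsNoetherianRing A] [IsNoetherianRing B] [Algebra A B]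
    [IsLocalHom (algebraMap A B)]
    (hdef : ringKrullDim (B ⧸ (IsLocalRing.maximalIdeal A).map (algebraMap A B)) = 0) :
    ringKrullDim B ≤ ringKrullDim A ∧
      (IsDomain A → ringKrullDim A = ringKrullDim B → Function.Injective (algebraMap A B)) := by
  have h1 := Groth.Agent.H29.ringKrullDim_le_add_fibre (algebraMap A B)
  rw [hdef, add_zero] at h1
  refine ⟨h1, ?_⟩
  intro hdom heq
  rw [injective_iff_map_eq_zero]
  intro r hr
  by_contra hr0
  have hrnu : ¬ IsUnit r := by
    intro hu
    have := hu.map (algebraMap A B)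
    rw [hr] at this
    exact not_isUnit_zero this
  have hne : Ideal.span {r} ≠ (⊤ : Ideal A) := by
    rw [Ne, Ideal.span_singleton_eq_top]; exact hrnu
  haveI : Nontrivial (A ⧸ Ideal.span {r}) := Ideal.Quotient.nontrivial_iff.mpr hne
  haveI : IsLocalRing (A ⧸ Ideal.span {r}) :=
    IsLocalRing.of_surjective' (Ideal.Quotient.mk (Ideal.span {r})) Ideal.Quotient.mk_surjective
  haveI hloc : IsLocalHom (Ideal.Quotient.mk (Ideal.span {r})) :=
    IsLocalHom.of_surjective _ Ideal.Quotient.mk_surjective
  let g : A ⧸ Ideal.span {r} →+* B := Ideal.Quotient.lift (Ideal.span {r}) (algebraMap A B) (by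
    intro a ha
    obtain ⟨c, rfl⟩ := Ideal.mem_span_singleton'.mp ha
    rw [map_mul, hr, mul_zero])
  haveI : IsLocalHom g := by
    refine ⟨fun x hx => ?_⟩
    obtain ⟨a, rfl⟩ := Ideal.Quotient.mk_surjective x
    have hx' : IsUnit (algebraMap A B a) := by simpa [g] using hx
    exact (isUnit_of_map_unit (algebraMap A B) a hx').map _
  have h2 := Groth.Agent.H29.ringKrullDim_le_add_fibre g
  have hle : (IsLocalRing.maximalIdeal A).map (algebraMap A B) ≤
      (IsLocalRing.maximalIdeal (A ⧸ Ideal.span {r})).map g := by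
    rw [Ideal.map_le_iff_le_comap]
    intro a ha
    rw [Ideal.mem_comap]
    have : algebraMap A B a = g (Ideal.Quotient.mk _ a) := by simp [g]
    rw [this]
    apply Ideal.mem_map_of_mem
    rw [IsLocalRing.mem_maximalIdeal, mem_nonunits_iff]
    intro hu
    exact (IsLocalRing.mem_maximalIdeal a).mp ha (isUnit_of_map_unit _ a hu)
  have h3 : ringKrullDim (B ⧸ (IsLocalRing.maximalIdeal (A ⧸ Ideal.span {r})).map g) ≤
      ringKrullDim (B ⧸ (IsLocalRing.maximalIdeal A).map (algebraMap A B)) :=
    ringKrullDim_le_of_surjective (Ideal.Quotient.factor hle) (Ideal.Quotient.factor_surjective hle)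
  rw [hdef] at h3
  have h4 : ringKrullDim B ≤ ringKrullDim (A ⧸ Ideal.span {r}) :=
    h2.trans (by simpa using add_le_add (le_refl (ringKrullDim (A ⧸ Ideal.span {r}))) h3)
  have h5 : ringKrullDim (A ⧸ Ideal.span {r}) + 1 ≤ ringKrullDim A :=
    ringKrullDim_quotient_succ_le_of_nonZeroDivisor (mem_nonZeroDivisors_of_ne_zero hr0)
  have h6 : ringKrullDim (A ⧸ Ideal.span {r}) + 1 ≤ ringKrullDim (A ⧸ Ideal.span {r}) :=
    h5.trans (heq.le.trans h4)
  have hfin : ringKrullDim (A ⧸ Ideal.span {r}) ≠ ⊤ := ringKrullDim_ne_top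
  have hbot : ringKrullDim (A ⧸ Ideal.span {r}) ≠ ⊥ := ringKrullDim_ne_bot
  obtain ⟨n, hn⟩ : ∃ n : ℕ, ringKrullDim (A ⧸ Ideal.span {r}) = (n : WithBot ℕ∞) := by
    cases h : ringKrullDim (A ⧸ Ideal.span {r}) with
    | bot => exact absurd h hbot
    | coe x =>
      cases x with
      | top => exact absurd h hfin
      | coe n => exact ⟨n, rfl⟩
  rw [hn] at h6
  have : ((n + 1 : ℕ) : WithBot ℕ∞) ≤ (n : WithBot ℕ∞) := by exact_mod_cast h6
  have : n + 1 ≤ n := by exact_mod_cast this
  omega

end Groth.Agent.S5771
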