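import Groth.Statements.S5772
import Mathlib

set_option autoImplicit false
universe u
open scoped Pointwise
open EGA41

namespace Groth.Agent.S5772

/-- Let A be a Noetherian ring, M a finitely generated A-module and f an element of A. Then f is
M-regular (multiplication by f on M is injective) if and only if f is M-quasi-regular, i.e. the
canonical surjection (M/fM)[T] → gr(M) for the (f)-adic filtration is bijective, which amounts to:
for every k ≥ 0 and x ∈ M, f^k x ∈ f^(k+1) M implies x ∈ fM. -/
theorem result (A : Type u) [CommRing A] [IsNoetherianRing A] (M : Type u)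
    [AddCommGroup M] [Module A M] [Module.Finite A M] (f : A) :
    IsSMulRegular M f ↔
      ∀ (k : ℕ) (x : M), f ^ k • x ∈ f ^ (k + 1) • (⊤ : Submodule A M) → x ∈ f • (⊤ : Submodule A M) := by
  constructor
  · intro hreg k x hx
    rw [Submodule.mem_smul_pointwise_iff_exists] at hx ⊢
    obtain ⟨y, -, hy⟩ := hx
    refine ⟨y, trivial, ?_⟩
    have : f ^ k • (f • y) = f ^ k • x := by rw [← hy, pow_succ, mul_smul]
    exact (hreg.pow k) this
  · intro h
    have key : ∀ z : M, f • z = 0 → z = 0 := by
      intro z hz
      have hmem : ∀ n : ℕ, z ∈ f ^ n • (⊤ : Submodule A M) := by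
        intro n
        induction n with
        | zero => simp
        | succ n ih =>
          rw [Submodule.mem_smul_pointwise_iff_exists] at ih ⊢
          obtain ⟨w, -, hw⟩ := ih
          have h1 : f ^ (n + 1) • w ∈ f ^ (n + 1 + 1) • (⊤ : Submodule A M) := by
            have : f ^ (n + 1) • w = 0 := by
              rw [pow_succ', mul_smul, hw, hz]
            rw [this]; exact Submodule.zero_mem _
          have h2 := h (n + 1) w h1
          rw [Submodule.mem_smul_pointwise_iff_exists] at h2
          obtain ⟨w', -, hw'⟩ := h2
          exact ⟨w', trivial, by rw [pow_succ, mul_smul, hw', hw]⟩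
      have hz2 : z ∈ (⨅ i : ℕ, (Ideal.span {f}) ^ i • ⊤ : Submodule A M) := by
        rw [Submodule.mem_iInf]
        intro i
        rw [Ideal.span_singleton_pow, Submodule.ideal_span_singleton_smul]
        exact hmem i
      rw [Ideal.mem_iInf_smul_pow_eq_bot_iff] at hz2
      obtain ⟨⟨r, hr⟩, hrz⟩ := hz2
      rw [Ideal.mem_span_singleton'] at hr
      obtain ⟨a, rfl⟩ := hr
      simp only at hrz
      rw [← hrz, mul_smul, hz, smul_zero]
    intro x y hxy
    have : f • (x - y) = 0 := by
      simp only [smul_sub]; exact sub_eq_zero.mpr hxy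
    exact sub_eq_zero.mp (key _ this)

end Groth.Agent.S5772
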