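import Groth.Statements.S5780
import Mathlib

set_option autoImplicit false
universe u
open EGA41

namespace Groth.Agent.S5780

/-- Let A be a Noetherian local ring with maximal ideal m. If every element of m which is not in m² is a
zero divisor in A, then there is a nonzero c in A with c m = 0, i.e. m is an associated prime of A. -/
theorem result (A : Type u) [CommRing A]
    [IsLocalRing A] [IsNoetherianRing A]
    (h : ∀ a ∈ IsLocalRing.maximalIdeal A, a ∉ IsLocalRing.maximalIdeal A ^ 2 → ¬ IsSMulRegular A a) :
    IsLocalRing.maximalIdeal A ∈ associatedPrimes A A := by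
  set m := IsLocalRing.maximalIdeal A with hm
  by_cases hsq : m ≤ m ^ 2
  · -- then m = ⊥
    have hbot : m = ⊥ := by
      apply Submodule.eq_bot_of_le_smul_of_le_jacobson_bot m m (IsNoetherian.noetherian m)
      · rw [smul_eq_mul, ← pow_two]; exact hsq
      · rw [IsLocalRing.jacobson_eq_maximalIdeal ⊥ bot_ne_top]
    rw [AssociatedPrimes.mem_iff, isAssociatedPrime_iff]
    refine ⟨inferInstance, 1, ?_⟩
    rw [hbot]
    ext x
    simp [Submodule.mem_colon_singleton]
  · -- prime avoidance
    have fin := associatedPrimes.finite A A
    let S : Set (Ideal A) := insert (m ^ 2) (associatedPrimes A A)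
    have hS : S.Finite := fin.insert _
    have hsub : ((m : Ideal A) : Set A) ⊆ ⋃ I ∈ S, (I : Set A) := by
      intro a ha
      by_cases ha2 : a ∈ m ^ 2
      · exact Set.mem_biUnion (Set.mem_insert _ _) ha2
      · have hnr := h a ha ha2
        have : a ∈ ((nonZeroDivisors A : Set A))ᶜ := by
          intro hmem
          apply hnr
          have := (mem_nonZeroDivisors_iff_right.mp hmem)
          intro x y hxy
          simp only [smul_eq_mul] at hxy
          have h0 : (x - y) * a = 0 := by rw [sub_mul, mul_comm x, mul_comm y, hxy, sub_self]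
          exact sub_eq_zero.mp (this _ h0)
        rw [← biUnion_associatedPrimes_eq_compl_nonZeroDivisors] at this
        obtain ⟨p, hp, hap⟩ := Set.mem_iUnion₂.mp this
        exact Set.mem_biUnion (Set.mem_insert_of_mem _ hp) hap
    obtain ⟨P, hPS, hP⟩ := (Ideal.subset_union_prime_finite hS (f := id) (m ^ 2) (m ^ 2)
      (fun I hI hne _ => by
        rcases hI with rfl | hI
        · exact absurd rfl hne
        · exact hI.isPrime)).1 hsub
    rcases hPS with rfl | hPS
    · exact absurd hP hsq
    · have : P.IsPrime := hPS.isPrime
      have : m = P := (IsLocalRing.maximalIdeal.isMaximal A).eq_of_le this.ne_top hP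
      rw [this]; exact hPS

end Groth.Agent.S5780
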