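import Groth.Statements.S5781
import Mathlib

set_option autoImplicit false
universe u
open EGA41

namespace Groth.Agent.S5781

/-- Suppose A is a Noetherian local ring whose maximal ideal is m, and take a ∈ m with a ∉ m². Then the
quotient m/am contains a direct summand isomorphic to m/Aa: concretely, one can find A-linear maps f
: m/Aa → m/am and g : m/am → m/Aa such that g ∘ f is the identity. -/
theorem result (A : Type u) [CommRing A] [IsLocalRing A]
    [IsNoetherianRing A] (a : A) (ha : a ∈ IsLocalRing.maximalIdeal A) (ha2 : a ∉ IsLocalRing.maximalIdeal A ^ 2) :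
    ∃ (f : (↥(IsLocalRing.maximalIdeal A) ⧸ Submodule.span A {(⟨a, ha⟩ : ↥(IsLocalRing.maximalIdeal A))}) →ₗ[A]
          QuotSMulTop a ↥(IsLocalRing.maximalIdeal A))
      (g : QuotSMulTop a ↥(IsLocalRing.maximalIdeal A) →ₗ[A]
          (↥(IsLocalRing.maximalIdeal A) ⧸ Submodule.span A {(⟨a, ha⟩ : ↥(IsLocalRing.maximalIdeal A))})),
      g.comp f = LinearMap.id := by
  classical
  open scoped Pointwise in
  have hbar : (IsLocalRing.maximalIdeal A).toCotangent ⟨a, ha⟩ ≠ 0 := by
    rw [Ne, Ideal.toCotangent_eq_zero]; exact ha2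
  obtain ⟨φ, hφ⟩ := Module.Projective.exists_dual_eq_one (IsLocalRing.ResidueField A)
    (V := IsLocalRing.CotangentSpace A) hbar
  let ψ : ↥(IsLocalRing.maximalIdeal A) →ₗ[A] IsLocalRing.ResidueField A :=
    (φ.restrictScalars A).comp (IsLocalRing.maximalIdeal A).toCotangent
  have hψa : ψ ⟨a, ha⟩ = 1 := hφ
  let abar : QuotSMulTop a ↥(IsLocalRing.maximalIdeal A) := Submodule.Quotient.mk ⟨a, ha⟩
  have hker : IsLocalRing.maximalIdeal A ≤ LinearMap.ker (LinearMap.toSpanSingleton A _ abar) := by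
    intro c hc
    rw [LinearMap.mem_ker, LinearMap.toSpanSingleton_apply]
    show (Submodule.Quotient.mk (c • (⟨a, ha⟩ : ↥(IsLocalRing.maximalIdeal A))) :
      ↥(IsLocalRing.maximalIdeal A) ⧸ (a • ⊤ : Submodule A ↥(IsLocalRing.maximalIdeal A))) = 0
    rw [Submodule.Quotient.mk_eq_zero, Submodule.mem_smul_pointwise_iff_exists]
    refine ⟨⟨c, hc⟩, trivial, ?_⟩
    ext
    simp [mul_comm]
  let ι : IsLocalRing.ResidueField A →ₗ[A] QuotSMulTop a ↥(IsLocalRing.maximalIdeal A) :=
    Submodule.liftQ (IsLocalRing.maximalIdeal A) (LinearMap.toSpanSingleton A _ abar) hker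
  have hι1 : ι 1 = abar := by
    show Submodule.liftQ _ _ hker (Submodule.Quotient.mk 1) = abar
    rw [Submodule.liftQ_apply]
    simp
  let F : ↥(IsLocalRing.maximalIdeal A) →ₗ[A] QuotSMulTop a ↥(IsLocalRing.maximalIdeal A) :=
    Submodule.mkQ _ - ι.comp ψ
  have hFa : F ⟨a, ha⟩ = 0 := by
    show Submodule.mkQ _ _ - ι (ψ ⟨a, ha⟩) = 0
    rw [hψa, hι1]
    exact sub_self _
  have hFle : Submodule.span A {(⟨a, ha⟩ : ↥(IsLocalRing.maximalIdeal A))} ≤ LinearMap.ker F := by
    rw [Submodule.span_le]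
    intro x hx
    rw [Set.mem_singleton_iff] at hx
    rw [hx]
    exact hFa
  have hgle : (a • ⊤ : Submodule A ↥(IsLocalRing.maximalIdeal A)) ≤
      (Submodule.span A {(⟨a, ha⟩ : ↥(IsLocalRing.maximalIdeal A))}).comap LinearMap.id := by
    intro x hx
    obtain ⟨y, -, rfl⟩ := (Submodule.mem_smul_pointwise_iff_exists _ _ _).mp hx
    rw [Submodule.mem_comap, LinearMap.id_apply, Submodule.mem_span_singleton]
    refine ⟨y.1, ?_⟩
    ext
    simp [mul_comm]
  let g : QuotSMulTop a ↥(IsLocalRing.maximalIdeal A) →ₗ[A]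
      (↥(IsLocalRing.maximalIdeal A) ⧸ Submodule.span A {(⟨a, ha⟩ : ↥(IsLocalRing.maximalIdeal A))}) :=
    Submodule.mapQ _ _ LinearMap.id hgle
  have hgι : ∀ c, g (ι c) = 0 := by
    intro c
    obtain ⟨c, rfl⟩ := IsLocalRing.residue_surjective c
    have h1 : ι (IsLocalRing.residue A c) = c • abar := by
      show Submodule.liftQ _ _ hker (Submodule.Quotient.mk c) = _
      rw [Submodule.liftQ_apply]
      simp
    rw [h1, map_smul]
    have h2 : g abar = 0 := by
      show (Submodule.Quotient.mk (⟨a, ha⟩ : ↥(IsLocalRing.maximalIdeal A)) :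
        ↥(IsLocalRing.maximalIdeal A) ⧸ Submodule.span A {(⟨a, ha⟩ : ↥(IsLocalRing.maximalIdeal A))}) = 0
      rw [Submodule.Quotient.mk_eq_zero]
      exact Submodule.mem_span_singleton_self _
    rw [h2, smul_zero]
  refine ⟨Submodule.liftQ _ F hFle, g, ?_⟩
  apply LinearMap.ext
  intro x
  obtain ⟨y, rfl⟩ := Submodule.Quotient.mk_surjective _ x
  rw [LinearMap.comp_apply, Submodule.liftQ_apply, LinearMap.id_apply]
  show g (Submodule.mkQ _ y - ι (ψ y)) = _
  rw [map_sub, hgι, sub_zero]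
  rfl

end Groth.Agent.S5781
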