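import Groth.Statements.S5783
import Groth.Agent.H29.RegLocal3

set_option autoImplicit false
universe u
open EGA41

namespace Groth.Agent.S5783

/-- Let A be a regular local ring, B a local ring and ρ : A → B a local homomorphism making B a finitely
generated A-module. Then B is a free A-module if and only if B is a Cohen-Macaulay ring and ρ is
injective (the latter being equivalent to dim(B) = dim(A)). -/
theorem result (A B : Type u) [CommRing A] [CommRing B]
    [IsRegularLocalRing A] [IsLocalRing B] [Algebra A B] [IsLocalHom (algebraMap A B)] [Module.Finite A B] :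
    Module.Free A B ↔ LocCoh.IsCohenMacaulayLocalRing B ∧ Function.Injective (algebraMap A B) := by
  open Groth.Agent.H29 in
  set_option linter.style.haveILetI false in
  constructor
  · intro hfree
    haveI : IsNoetherianRing B := isNoetherian_of_isNoetherianRing_of_finite A B |> fun h =>
      isNoetherianRing_iff.mpr (isNoetherian_of_tower A h)
    have hinj : Function.Injective (algebraMap A B) := FaithfulSMul.algebraMap_injective A B
    refine ⟨?_, hinj⟩
    obtain ⟨d, hd⟩ := ringKrullDim_eq_natCast_of_isLocalRing A
    have hdA : LocCoh.depth A A = d := depth_self_eq_ringKrullDim_of_isRegularLocalRing_aux d A hd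
    have h2 := depth_eq_depth_of_isLocalHom A B B
    have hge : (d : ℕ∞) ≤ LocCoh.depth A B := by
      obtain ⟨rs, hlen, hreg, hmem⟩ := (le_idealDepth_iff (IsLocalRing.maximalIdeal A) A
        (maximalIdeal_smul_top_ne_top A A) d).mp hdA.ge
      exact (le_idealDepth_iff (IsLocalRing.maximalIdeal A) B
        (maximalIdeal_smul_top_ne_top A B) d).mpr
        ⟨rs, hlen, (RingTheory.Sequence.isWeaklyRegular_map_algebraMap_iff B B rs).mp hreg.of_flat,
          hmem⟩
    have hle : ((LocCoh.depth B B : ℕ∞) : WithBot ℕ∞) ≤ ringKrullDim B := by
      have := depth_le_supportDim B B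
      rwa [Module.supportDim_self_eq_ringKrullDim] at this
    have hdimle : ringKrullDim B ≤ ringKrullDim A := ringKrullDim_le_of_isIntegral A B
    exact { supportDim_eq_depth := by
              rw [Module.supportDim_self_eq_ringKrullDim]
              apply le_antisymm _ hle
              rw [← h2]
              refine hdimle.trans (hd.le.trans ?_)
              rw [← WithBot.coe_natCast]
              exact WithBot.coe_le_coe.mpr hge }
  · rintro ⟨hCM, hinj⟩
    haveI := hCM
    haveI : IsNoetherianRing B := inferInstance
    have h1 : Module.supportDim B B = ((LocCoh.depth B B : ℕ∞) : WithBot ℕ∞) :=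
      hCM.supportDim_eq_depth
    have h2 := depth_eq_depth_of_isLocalHom A B B
    have h3 : ringKrullDim B = ringKrullDim A :=
      le_antisymm (ringKrullDim_le_of_isIntegral A B)
        (ringKrullDim_le_of_isIntegral_of_injective A B hinj)
    exact free_of_depth_eq_ringKrullDim A B
      (by rw [h2, ← h1, Module.supportDim_self_eq_ringKrullDim, h3])

end Groth.Agent.S5783
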