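import Groth.Statements.S5785
import Groth.Agent.S19474
import Groth.Agent.H29.RegPowerSeries

set_option autoImplicit false
universe u
open EGA41

namespace Groth.Agent.S5785

open IsLocalRing

/-- Let A be a regular ring and J an ideal of A. Then the separated completion of A for the J-adic
topology is a regular ring. -/
theorem result (A : Type u) [CommRing A] [IsRegularRing A] (J : Ideal A) :
    IsRegularRing (AdicCompletion J A) := by
  have fg : J.FG := IsNoetherian.noetherian J
  have hN : IsNoetherianRing (AdicCompletion J A) :=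
    Groth.Agent.S19474.isNoetherianRing_adicCompletion A J
  have hcomp : IsAdicComplete (J.map (algebraMap A (AdicCompletion J A))) (AdicCompletion J A) :=
    AdicCompletion.isAdicComplete_self J fg
  apply Groth.Agent.H29.isRegularRing_of_forall_isMaximal
  intro 𝔫 h𝔫
  have hJBn : J.map (algebraMap A (AdicCompletion J A)) ≤ 𝔫 :=
    (IsAdicComplete.le_jacobson_bot _).trans (sInf_le ⟨bot_le, h𝔫⟩)
  have h𝔫p : 𝔫.IsPrime := h𝔫.isPrime
  -- the contraction
  obtain ⟨𝔪, h𝔪⟩ : ∃ 𝔪 : Ideal A, 𝔪 = 𝔫.comap (algebraMap A (AdicCompletion J A)) := ⟨_, rfl⟩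
  have hJm : J ≤ 𝔪 := by
    intro a ha
    rw [h𝔪, Ideal.mem_comap]
    exact hJBn (Ideal.mem_map_of_mem _ ha)
  have hmem : ∀ a : A, a ∈ 𝔪 ↔ algebraMap A (AdicCompletion J A) a ∈ 𝔫 := by
    intro a
    rw [h𝔪, Ideal.mem_comap]
  have h𝔪max : 𝔪.IsMaximal := by
    rw [Ideal.isMaximal_iff]
    refine ⟨?_, ?_⟩
    · rw [hmem, map_one]
      exact (Ideal.ne_top_iff_one 𝔫).mp h𝔫.ne_top
    · intro I x hmI hxm hxI
      have hxn : algebraMap A (AdicCompletion J A) x ∉ 𝔫 := fun h => hxm ((hmem x).mpr h)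
      obtain ⟨y, i, hi, hyi⟩ := h𝔫.exists_inv hxn
      obtain ⟨a, ha⟩ := Groth.Agent.S19474.exists_sub_mem A J y
      have h1 : algebraMap A (AdicCompletion J A) (a * x - 1) ∈ 𝔫 := by
        have e : algebraMap A (AdicCompletion J A) (a * x - 1) =
            -((y - algebraMap A (AdicCompletion J A) a) *
              algebraMap A (AdicCompletion J A) x) - i := by
          rw [map_sub, map_mul, map_one, ← hyi]
          ring
        rw [e]
        exact 𝔫.sub_mem (𝔫.neg_mem (𝔫.mul_mem_right _ (hJBn ha))) hi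
      have h2 : a * x - 1 ∈ I := hmI ((hmem _).mpr h1)
      have h3 : (1 : A) = a * x - (a * x - 1) := by ring
      rw [h3]
      exact I.sub_mem (I.mul_mem_left a hxI) h2
  have h𝔪p : 𝔪.IsPrime := h𝔪max.isPrime
  have hmB : 𝔪.map (algebraMap A (AdicCompletion J A)) = 𝔫 := by
    have hmax := AdicCompletion.isMaximal_map_of_le J 𝔪 hJm fg
    refine hmax.eq_of_le h𝔫.ne_top ?_
    rw [h𝔪]
    exact Ideal.map_comap_le
  have hlies : 𝔫.LiesOver 𝔪 := ⟨h𝔪⟩
  -- heights
  have hht : 𝔪.height ≤ 𝔫.height := by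
    rw [Ideal.height_eq_height_add_of_liesOver_of_hasGoingDown 𝔪 𝔫]
    exact le_self_add
  -- the local rings
  have hreg : IsRegularLocalRing (Localization.AtPrime 𝔪) := inferInstance
  have hmaxeq : maximalIdeal (Localization.AtPrime 𝔫) =
      (maximalIdeal (Localization.AtPrime 𝔪)).map
        (Localization.localRingHom 𝔪 𝔫 (algebraMap A (AdicCompletion J A)) h𝔪) := by
    have e1 : maximalIdeal (Localization.AtPrime 𝔫) =
        𝔫.map (algebraMap (AdicCompletion J A) (Localization.AtPrime 𝔫)) :=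
      (Localization.AtPrime.map_eq_maximalIdeal).symm
    have e2 : 𝔫.map (algebraMap (AdicCompletion J A) (Localization.AtPrime 𝔫)) =
        (𝔪.map (algebraMap A (AdicCompletion J A))).map
          (algebraMap (AdicCompletion J A) (Localization.AtPrime 𝔫)) :=
      congrArg (Ideal.map _) hmB.symm
    rw [e1, e2, ← Localization.AtPrime.map_eq_maximalIdeal, Ideal.map_map, Ideal.map_map]
    congr 1
    ext x
    simp only [RingHom.comp_apply]
    exact (Localization.localRingHom_to_map 𝔪 𝔫 _ h𝔪 x).symm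
  apply IsRegularLocalRing.of_spanFinrank_maximalIdeal_le
  have hfgm : (maximalIdeal (Localization.AtPrime 𝔪)).FG := IsNoetherian.noetherian _
  have h1 : (maximalIdeal (Localization.AtPrime 𝔫)).spanFinrank ≤
      (maximalIdeal (Localization.AtPrime 𝔪)).spanFinrank := by
    rw [hmaxeq]
    exact Ideal.spanFinrank_map_le_of_fg _ hfgm
  have h2 : ((maximalIdeal (Localization.AtPrime 𝔪)).spanFinrank : WithBot ℕ∞) =
      ringKrullDim (Localization.AtPrime 𝔪) := hreg.spanFinrank_maximalIdeal
  rw [IsLocalization.AtPrime.ringKrullDim_eq_height 𝔫 (Localization.AtPrime 𝔫)]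
  rw [IsLocalization.AtPrime.ringKrullDim_eq_height 𝔪 (Localization.AtPrime 𝔪)] at h2
  calc ((maximalIdeal (Localization.AtPrime 𝔫)).spanFinrank : WithBot ℕ∞)
      ≤ ((maximalIdeal (Localization.AtPrime 𝔪)).spanFinrank : WithBot ℕ∞) := by
        exact_mod_cast h1
    _ = (𝔪.height : WithBot ℕ∞) := h2
    _ ≤ (𝔫.height : WithBot ℕ∞) := by exact_mod_cast hht

end Groth.Agent.S5785
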