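import Groth.Statements.S5787
import Mathlib

set_option autoImplicit false
universe u
open CategoryTheory
open EGA41

namespace Groth.Agent.S5787


open CategoryTheory.Abelian RingTheory.Sequence in
theorem comp_smul_eq_zero {A : Type u} [CommRing A] (N : ModuleCat.{u} A) (M : Type u)
    [AddCommGroup M] [Module A M] {a : A} (hann : a ∈ Module.annihilator A N) (n : ℕ)
    (z : Ext N (ModuleCat.of A M) n) :
    z.comp (Ext.mk₀ (a • 𝟙 (ModuleCat.of A M))) (add_zero n) = 0 := by
  have h0 := Ext.postcomp_smul_id_eq_zero_of_mem_annihilator (M := ModuleCat.of A M) hann n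
  have h1 := ConcreteCategory.congr_hom h0 z
  simpa using h1

open CategoryTheory.Abelian RingTheory.Sequence in
/-- vanishing of `Ext^i(N, M)` below the length of a weakly regular sequence in `Ann N`. -/
theorem ext_subsingleton {A : Type u} [CommRing A] (N : ModuleCat.{u} A) :
    ∀ (xs : List A) (M : Type u) [AddCommGroup M] [Module A M],
      (∀ x ∈ xs, x ∈ Module.annihilator A N) → IsWeaklyRegular M xs →
      ∀ i < xs.length, Subsingleton (Ext N (ModuleCat.of A M) i) := by
  intro xs
  induction xs with
  | nil => intro M _ _ _ _ i hi; simp at hi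
  | cons a rs ih =>
    intro M _ _ hmem hreg i hi
    rw [isWeaklyRegular_cons_iff] at hreg
    obtain ⟨ha, hrs⟩ := hreg
    have hann : a ∈ Module.annihilator A N := hmem a List.mem_cons_self
    have hmem' : ∀ x ∈ rs, x ∈ Module.annihilator A N :=
      fun x hx => hmem x (List.mem_cons_of_mem _ hx)
    cases i with
    | zero =>
      have : Subsingleton (N →ₗ[A] M) := by
        refine ⟨fun f g => ?_⟩
        ext n
        apply ha
        show a • f n = a • g n
        rw [← map_smul, ← map_smul, Module.mem_annihilator.mp hann n, map_zero, map_zero]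
      exact (Ext.addEquiv₀.trans (ModuleCat.homAddEquiv (M := N)
        (N := ModuleCat.of A M))).subsingleton
    | succ i =>
      have hsub : Subsingleton (Ext N (ModuleCat.of A (QuotSMulTop a M)) i) :=
        ih (QuotSMulTop a M) hmem' hrs i (by simpa using hi)
      have hS := IsSMulRegular.smulShortComplex_shortExact (M := ModuleCat.of A M) ha
      have key : ∀ z : Ext N (ModuleCat.of A M) (i + 1), z = 0 := by
        intro z
        have hz := comp_smul_eq_zero N M hann (i + 1) z
        obtain ⟨x₃, hx₃⟩ := Ext.covariant_sequence_exact₁ N hS z hz (n₀ := i) rfl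
        have h3 : x₃ = 0 := hsub.elim _ _
        rw [← hx₃, h3, Ext.zero_comp]
        rfl
      exact ⟨fun x y => by rw [key x, key y]⟩

open CategoryTheory.Abelian RingTheory.Sequence in
theorem main {A : Type u} [CommRing A] (N : ModuleCat.{u} A) :
    ∀ (xs : List A) (M : Type u) [AddCommGroup M] [Module A M],
      (∀ x ∈ xs, x ∈ Module.annihilator A N) → IsWeaklyRegular M xs →
      Nonempty ((N →ₗ[A] (M ⧸ (Ideal.ofList xs • (⊤ : Submodule A M)))) ≃+
        Ext N (ModuleCat.of A M) xs.length) := by
  intro xs
  induction xs with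
  | nil =>
    intro M _ _ _ _
    have hbot : (Ideal.ofList ([] : List A) • (⊤ : Submodule A M)) = ⊥ := by
      rw [Ideal.ofList_nil, Submodule.bot_smul]
    let e : (M ⧸ (Ideal.ofList ([] : List A) • (⊤ : Submodule A M))) ≃ₗ[A] M :=
      Submodule.quotEquivOfEqBot _ hbot
    exact ⟨((LinearEquiv.congrRight (M := N) e).toAddEquiv.trans
      (ModuleCat.homAddEquiv (M := N) (N := ModuleCat.of A M)).symm).trans Ext.addEquiv₀.symm⟩
  | cons a rs ih =>
    intro M _ _ hmem hreg
    have hreg' := hreg
    rw [isWeaklyRegular_cons_iff] at hreg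
    obtain ⟨ha, hrs⟩ := hreg
    have hann : a ∈ Module.annihilator A N := hmem a List.mem_cons_self
    have hmem' : ∀ x ∈ rs, x ∈ Module.annihilator A N :=
      fun x hx => hmem x (List.mem_cons_of_mem _ hx)
    obtain ⟨e1⟩ := ih (QuotSMulTop a M) hmem' hrs
    have hsub : Subsingleton (Ext N (ModuleCat.of A M) rs.length) :=
      ext_subsingleton N (a :: rs) M hmem hreg' rs.length (by simp)
    have hS := IsSMulRegular.smulShortComplex_shortExact (M := ModuleCat.of A M) ha
    let δ : Ext N (ModuleCat.of A (QuotSMulTop a M)) rs.length →+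
        Ext N (ModuleCat.of A M) (rs.length + 1) :=
      hS.extClass.postcomp N rfl
    have hδ : Function.Bijective δ := by
      constructor
      · rw [injective_iff_map_eq_zero]
        intro x hx
        obtain ⟨x₂, hx₂⟩ := Ext.covariant_sequence_exact₃ N hS x rfl hx
        have h2 : x₂ = 0 := hsub.elim _ _
        rw [← hx₂, h2, Ext.zero_comp]
        rfl
      · intro z
        have hz := comp_smul_eq_zero N M hann (rs.length + 1) z
        exact Ext.covariant_sequence_exact₁ N hS z hz rfl
    let e2 := AddEquiv.ofBijective δ hδ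
    let e0 : (M ⧸ (Ideal.ofList (a :: rs) • (⊤ : Submodule A M))) ≃ₗ[A]
        QuotSMulTop a M ⧸ (Ideal.ofList rs • ⊤ : Submodule A (QuotSMulTop a M)) :=
      Submodule.quotOfListConsSMulTopEquivQuotSMulTopInner M a rs
    exact ⟨((LinearEquiv.congrRight (M := N) e0).toAddEquiv.trans e1).trans e2⟩

/-- Let A be a Noetherian local ring with maximal ideal m and residue field k, M an A-module and
(x_i)_{1 ≤ i ≤ n} an M-regular sequence of elements of m. Then Hom_A(k, M/(x_1 M + ... + x_n M)) and
Ext^n_A(k, M) are isomorphic (existence of an isomorphism; stated for the underlying abelian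
groups). -/
theorem result (A : Type u) [CommRing A] [IsLocalRing A]
    [IsNoetherianRing A] (M : Type u) [AddCommGroup M] [Module A M] (xs : List A)
    (hxs : ∀ x ∈ xs, x ∈ IsLocalRing.maximalIdeal A) (hreg : RingTheory.Sequence.IsWeaklyRegular M xs) :
    Nonempty ((IsLocalRing.ResidueField A →ₗ[A] (M ⧸ (Ideal.ofList xs • (⊤ : Submodule A M)))) ≃+
      Abelian.Ext (ModuleCat.of A (IsLocalRing.ResidueField A)) (ModuleCat.of A M) xs.length) := by
  have hmem : ∀ x ∈ xs, x ∈ Module.annihilator A
      (ModuleCat.of A (IsLocalRing.ResidueField A)) := by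
    intro x hx
    rw [Module.mem_annihilator]
    intro r
    show x • (r : IsLocalRing.ResidueField A) = 0
    rw [Algebra.smul_def, IsLocalRing.ResidueField.algebraMap_eq,
      (IsLocalRing.residue_eq_zero_iff x).mpr (hxs x hx), zero_mul]
  exact main (ModuleCat.of A (IsLocalRing.ResidueField A)) xs M hmem hreg

end Groth.Agent.S5787
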