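import Groth.Statements.S5801

set_option autoImplicit false
universe u
open EGA41

namespace Groth.Agent.S5801

open scoped Pointwise

theorem mem_smul_top_iff {A : Type*} [CommRing A] {M : Type*} [AddCommGroup M] [Module A M]
    (a : A) (x : M) : x ∈ a • (⊤ : Submodule A M) ↔ ∃ y : M, a • y = x := by
  constructor
  · intro hx
    obtain ⟨y, -, hy⟩ := (Submodule.mem_smul_pointwise_iff_exists _ _ _).1 hx
    exact ⟨y, hy⟩
  · rintro ⟨y, rfl⟩
    exact Submodule.smul_mem_pointwise_smul y a ⊤ Submodule.mem_top

/-- Let A be a ring, M an A-module and f ∈ A, and consider the canonical surjection (M/fM)[T] → gr(M)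
for the (f)-adic filtration, whose injectivity says: for all k ≥ 0 and x ∈ M, f^k x ∈ f^(k+1) M
implies x ∈ fM. If f is M-regular this map is bijective; conversely, if it is bijective and M is
separated for the (f)-adic topology (the intersection of the f^k M is zero), then f is M-regular. -/
theorem result (A : Type u) [CommRing A] (M : Type u)
    [AddCommGroup M] [Module A M] (f : A) :
    (IsSMulRegular M f →
        ∀ (k : ℕ) (x : M), f ^ k • x ∈ f ^ (k + 1) • (⊤ : Submodule A M) → x ∈ f • (⊤ : Submodule A M)) ∧
      ((⨅ k : ℕ, f ^ k • (⊤ : Submodule A M)) = ⊥ →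
        (∀ (k : ℕ) (x : M), f ^ k • x ∈ f ^ (k + 1) • (⊤ : Submodule A M) → x ∈ f • (⊤ : Submodule A M)) →
          IsSMulRegular M f) := by
  constructor
  · intro hreg k x hx
    obtain ⟨y, hy⟩ := (mem_smul_top_iff _ _).1 hx
    rw [mem_smul_top_iff]
    refine ⟨y, ?_⟩
    have hk : IsSMulRegular M (f ^ k) := hreg.pow k
    apply hk
    change f ^ k • f • y = f ^ k • x
    rw [← hy, pow_succ, mul_smul]
  · intro hsep h
    apply IsSMulRegular.of_right_eq_zero_of_smul
    intro x hx
    have hall : ∀ k : ℕ, x ∈ f ^ k • (⊤ : Submodule A M) := by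
      intro k
      induction k with
      | zero => rw [pow_zero, one_smul]; exact Submodule.mem_top
      | succ k ih =>
        obtain ⟨y, hy⟩ := (mem_smul_top_iff _ _).1 ih
        have h1 : f ^ (k + 1) • y ∈ f ^ (k + 1 + 1) • (⊤ : Submodule A M) := by
          have : f ^ (k + 1) • y = 0 := by
            rw [pow_succ', mul_smul, hy, hx]
          rw [this]
          exact Submodule.zero_mem _
        obtain ⟨z, hz⟩ := (mem_smul_top_iff _ _).1 (h (k + 1) y h1)
        rw [mem_smul_top_iff]
        refine ⟨z, ?_⟩
        rw [pow_succ, mul_smul, hz, hy]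
    have : x ∈ (⨅ k : ℕ, f ^ k • (⊤ : Submodule A M)) := (Submodule.mem_iInf _).2 hall
    rw [hsep] at this
    exact (Submodule.mem_bot A).1 this

end Groth.Agent.S5801
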