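import Groth.Statements.S5808
import Mathlib
import Groth.Agent.H29.SemiSOP
import Groth.Agent.H29.SemilocalDim
import Groth.Agent.Lib.Helper8.CatDim

set_option autoImplicit false
universe u
open EGA41

namespace Groth.Agent.S5808


set_option linter.style.haveILetI false
set_option linter.unusedSectionVars false

open Groth.Agent.H29.SemiSOP

section

variable (A : Type u) [CommRing A]

/-- Bound for the dimension of a quotient from coheights. -/
theorem dim_quot_le (I : Ideal A) (n : ℕ)
    (h : ∀ Q : PrimeSpectrum A, I ≤ Q.asIdeal → Order.coheight Q ≤ (n : ℕ∞)) :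
    ringKrullDim (A ⧸ I) ≤ (n : WithBot ℕ∞) := by
  rw [ringKrullDim_quotient]
  unfold Order.krullDim
  apply iSup_le
  intro p
  have h1 := Order.length_le_coheight_head
    (p := p.map Subtype.val (fun _ _ h => h))
  rw [LTSeries.head_map, LTSeries.map_length] at h1
  have h2 := h p.head.1 p.head.2
  have h3 : (p.length : ℕ∞) ≤ (n : ℕ∞) := h1.trans h2
  have h4 : p.length ≤ n := by exact_mod_cast h3
  exact_mod_cast h4

variable [IsNoetherianRing A] [Finite (MaximalSpectrum A)]

theorem ofList_eq_span_toFinset [DecidableEq A] (xs : List A) :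
    Ideal.ofList xs = Ideal.span ((xs.toFinset : Finset A) : Set A) := by
  unfold Ideal.ofList
  congr 1
  ext y
  simp

theorem step (a : Ideal A) (D h : ℕ) (hD : ringKrullDim A = D) (hhD : h ≤ D)
    (P : Ideal A) [hP : P.IsPrime] (hPmin : P ∈ a.minimalPrimes) (hPh : P.height = h)
    (hah : a.height = h) (xs : List A) (hlen : xs.length < h)
    (I1 : ∀ Q : PrimeSpectrum A, Ideal.ofList xs ≤ Q.asIdeal →
      Order.coheight Q + (xs.length : ℕ∞) ≤ D)
    (I2 : ∀ Q : PrimeSpectrum A, Ideal.ofList xs ≤ Q.asIdeal → Q.asIdeal ≤ P →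
      (xs.length : ℕ∞) ≤ Q.asIdeal.height) :
    ∃ x ∈ a ⊓ Ring.jacobson A,
      (∀ Q : PrimeSpectrum A, Ideal.ofList (x :: xs) ≤ Q.asIdeal →
        Order.coheight Q + ((xs.length + 1 : ℕ) : ℕ∞) ≤ D) ∧
      (∀ Q : PrimeSpectrum A, Ideal.ofList (x :: xs) ≤ Q.asIdeal → Q.asIdeal ≤ P →
        ((xs.length + 1 : ℕ) : ℕ∞) ≤ Q.asIdeal.height) := by
  classical
  have hD' : ringKrullDim A = ((D : ℕ∞) : WithBot ℕ∞) := hD.trans rfl
  set B : Set (Ideal A) := {p | p ∈ (Ideal.ofList xs).minimalPrimes ∧ ¬ p.IsMaximal ∧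
    ((∃ hp : p.IsPrime, Order.coheight (⟨p, hp⟩ : PrimeSpectrum A) + (xs.length : ℕ∞) = D) ∨
      p ≤ P)} with hB
  have hBfin : B.Finite :=
    (Ideal.finite_minimalPrimes_of_isNoetherianRing A _).subset (fun p hp => hp.1)
  have hav : ∃ x ∈ a ⊓ Ring.jacobson A, ∀ p ∈ B, x ∉ p := by
    by_contra hcon
    push Not at hcon
    have hsub : ((a ⊓ Ring.jacobson A : Ideal A) : Set A) ⊆
        ⋃ p ∈ (hBfin.toFinset : Set (Ideal A)), ((id p : Ideal A) : Set A) := by
      intro x hx
      obtain ⟨p, hp, hxp⟩ := hcon x hx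
      simp only [Set.mem_iUnion]
      exact ⟨p, by simpa using hp, hxp⟩
    obtain ⟨p, hpB, hle⟩ := (Ideal.subset_union_prime (f := id) ⊥ ⊥ (fun p hp _ _ => by
      have : p ∈ B := by simpa using hp
      exact this.1.1.1)).mp hsub
    have hpB' : p ∈ B := by simpa using hpB
    obtain ⟨hpmin, hpnm, hpc⟩ := hpB'
    haveI hpp : p.IsPrime := hpmin.1.1
    have hmul : a * Ring.jacobson A ≤ p := Ideal.mul_le_inf.trans hle
    rcases (Ideal.IsPrime.mul_le hpp).mp hmul with hap | hrp
    · -- a ≤ p
      have hpht : p.height ≤ (xs.length : ℕ∞) := by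
        rw [ofList_eq_span_toFinset] at hpmin
        refine (Ideal.height_le_card_of_mem_minimalPrimes_span_finset hpmin).trans ?_
        exact_mod_cast List.toFinset_card_le xs
      have hhp : (h : ℕ∞) ≤ p.height := by
        rw [← hah]
        exact Ideal.height_mono hap
      have : (h : ℕ∞) ≤ (xs.length : ℕ∞) := hhp.trans hpht
      have : h ≤ xs.length := by exact_mod_cast this
      omega
    · exact hpnm (isMaximal_of_jacobson_le A p hrp)
  obtain ⟨x, hx, hxB⟩ := hav
  refine ⟨x, hx, ?_, ?_⟩
  · intro Q hQ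
    rw [Ideal.ofList_cons, sup_le_iff, Ideal.span_singleton_le_iff_mem] at hQ
    obtain ⟨hxQ, hQxs⟩ := hQ
    obtain ⟨p, hpmin, hpQ⟩ := Ideal.exists_minimalPrimes_le hQxs
    have hpp : p.IsPrime := hpmin.1.1
    have hI1p := I1 ⟨p, hpp⟩ hpmin.1.2
    rcases eq_or_lt_of_le (show (⟨p, hpp⟩ : PrimeSpectrum A) ≤ Q from hpQ) with heq | hlt
    · -- p = Q
      have hxp : x ∈ p := by
        have : p = Q.asIdeal := congrArg PrimeSpectrum.asIdeal heq
        rw [this]
        exact hxQ
      have hpnB : p ∉ B := fun hpB => hxB p hpB hxp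
      rw [← heq]
      by_cases hpm : p.IsMaximal
      · have hmax : IsMax (⟨p, hpp⟩ : PrimeSpectrum A) := by
          intro q' hq'
          have : p = q'.asIdeal := hpm.eq_of_le q'.2.ne_top hq'
          exact (PrimeSpectrum.ext this).ge
        rw [Order.coheight_eq_zero.mpr hmax, zero_add]
        exact_mod_cast (show xs.length + 1 ≤ D by omega)
      · have hne : Order.coheight (⟨p, hpp⟩ : PrimeSpectrum A) + (xs.length : ℕ∞) ≠ D := by
          intro heqD
          exact hpnB ⟨hpmin, hpm, Or.inl ⟨hpp, heqD⟩⟩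
        have hlt' := lt_of_le_of_ne hI1p hne
        have := Order.add_one_le_of_lt hlt'
        push_cast
        rw [← add_assoc]
        exact this
    · have h1 := Order.coheight_add_one_le hlt
      push_cast
      calc Order.coheight Q + ((xs.length : ℕ∞) + 1)
          = (Order.coheight Q + 1) + (xs.length : ℕ∞) := by ring
        _ ≤ Order.coheight (⟨p, hpp⟩ : PrimeSpectrum A) + (xs.length : ℕ∞) :=
            add_le_add h1 le_rfl
        _ ≤ D := hI1p
  · intro Q hQ hQP
    rw [Ideal.ofList_cons, sup_le_iff, Ideal.span_singleton_le_iff_mem] at hQ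
    obtain ⟨hxQ, hQxs⟩ := hQ
    obtain ⟨p, hpmin, hpQ⟩ := Ideal.exists_minimalPrimes_le hQxs
    haveI hpp : p.IsPrime := hpmin.1.1
    have hI2p := I2 ⟨p, hpp⟩ hpmin.1.2 (hpQ.trans hQP)
    rcases eq_or_lt_of_le hpQ with heq | hlt
    · have hxp : x ∈ p := by rw [heq]; exact hxQ
      have hpnB : p ∉ B := fun hpB => hxB p hpB hxp
      have hpm : p.IsMaximal := by
        by_contra hpm
        exact hpnB ⟨hpmin, hpm, Or.inr (hpQ.trans hQP)⟩
      have hpP : p = P := hpm.eq_of_le hP.ne_top (hpQ.trans hQP)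
      rw [← heq, hpP, hPh]
      exact_mod_cast (show xs.length + 1 ≤ h by omega)
    · haveI := Q.2
      have h1 := Ideal.height_add_one_le_of_lt_of_isPrime hlt
      push_cast
      exact (add_le_add hI2p le_rfl).trans h1

end

section

variable (A : Type u) [CommRing A] [IsNoetherianRing A] [Finite (MaximalSpectrum A)]

theorem iterate (a : Ideal A) (D h : ℕ) (hD : ringKrullDim A = D) (hhD : h ≤ D)
    (P : Ideal A) [hP : P.IsPrime] (hPmin : P ∈ a.minimalPrimes) (hPh : P.height = h)
    (hah : a.height = h) (k : ℕ) (hk : k ≤ h) :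
    ∃ xs : List A, xs.length = k ∧ (∀ x ∈ xs, x ∈ a ⊓ Ring.jacobson A) ∧
      (∀ Q : PrimeSpectrum A, Ideal.ofList xs ≤ Q.asIdeal →
        Order.coheight Q + (xs.length : ℕ∞) ≤ D) ∧
      (∀ Q : PrimeSpectrum A, Ideal.ofList xs ≤ Q.asIdeal → Q.asIdeal ≤ P →
        (xs.length : ℕ∞) ≤ Q.asIdeal.height) := by
  have hD' : ringKrullDim A = ((D : ℕ∞) : WithBot ℕ∞) := hD.trans rfl
  induction k with
  | zero =>
    refine ⟨[], rfl, by simp, ?_, ?_⟩
    · intro Q _
      have h1 := Groth.Agent.Helper8.CatDim.height_add_coheight_le A Q D hD'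
      simp only [List.length_nil, Nat.cast_zero, add_zero]
      exact le_add_self.trans h1
    · intro Q _ _
      simp
  | succ k ih =>
    obtain ⟨xs, hlen, hmem, I1, I2⟩ := ih (by omega)
    obtain ⟨x, hx, I1', I2'⟩ := step A a D h hD hhD P hPmin hPh hah xs (by omega) I1 I2
    refine ⟨x :: xs, by simp [hlen], ?_, ?_, ?_⟩
    · intro y hy
      rcases List.mem_cons.mp hy with rfl | hy
      · exact hx
      · exact hmem y hy
    · intro Q hQ
      rw [List.length_cons]
      exact I1' Q hQ
    · intro Q hQ hQP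
      rw [List.length_cons]
      exact I2' Q hQ hQP

end

/-- Let A be a semi-local Noetherian ring with spectrum X and Jacobson radical r, and a an ideal of A
distinct from A with codim(V(a), X) = h > 0 (h is the height of a). Then there exist h elements x_1,
..., x_h of a which are part of a system of parameters of A (so lie in r and can be completed by
elements of r to dim(A) elements generating an ideal modulo which A has finite length) and such that
codim(V(a), V(x_1 A + ... + x_h A)) = 0, i.e. the image of a in A/(x_1 A + ... + x_h A) has height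
0. -/
theorem result (A : Type u) [CommRing A] [IsNoetherianRing A]
    [Finite (MaximalSpectrum A)] (a : Ideal A) (ha : a ≠ ⊤) (h : ℕ) (hh : a.height = h) (hpos : 0 < h) :
    ∃ x : Fin h → A, (∀ i, x i ∈ a) ∧ (∀ i, x i ∈ Ring.jacobson A) ∧
      (∃ ys : List A, (∀ y ∈ ys, y ∈ Ring.jacobson A) ∧
        (((h + ys.length : ℕ) : ℕ∞) : WithBot ℕ∞) = ringKrullDim A ∧
        IsFiniteLength A (A ⧸ (Ideal.span (Set.range x) ⊔ Ideal.ofList ys))) ∧
      (a.map (Ideal.Quotient.mk (Ideal.span (Set.range x)))).height = 0 := by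

  classical
  have hnt : Nontrivial A := by
    by_contra hcon
    rw [not_nontrivial_iff_subsingleton] at hcon
    exact ha (Subsingleton.elim _ _)
  -- dimension of A as a natural number
  have hdfin : ringKrullDim A ≠ ⊤ := (Groth.Agent.H29.ringKrullDim_lt_top_of_semilocal A).ne
  have hdbot : ringKrullDim A ≠ ⊥ := by
    intro h
    have h0 : (0 : WithBot ℕ∞) ≤ ringKrullDim A := ringKrullDim_nonneg_of_nontrivial
    rw [h] at h0
    exact absurd (le_bot_iff.mp h0) (by simp)
  obtain ⟨D, hD⟩ := Groth.Agent.H29.withBot_exists_natCast hdbot hdfin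
  have hhD : h ≤ D := by
    have h1 := Ideal.height_le_ringKrullDim_of_ne_top ha
    rw [hh, hD] at h1
    exact_mod_cast h1
  -- a minimal prime of `a` of height `h`
  obtain ⟨P, hPmin, hPh⟩ : ∃ P ∈ a.minimalPrimes, P.height = h := by
    have hne : (a.minimalPrimes).Nonempty := by
      obtain ⟨⟨P0, hP0⟩⟩ := Ideal.nonempty_minimalPrimes ha
      exact ⟨P0, hP0⟩
    have hfin : (a.minimalPrimes).Finite := Ideal.finite_minimalPrimes_of_isNoetherianRing A a
    obtain ⟨P, hP, hmin⟩ := hfin.exists_minimalFor (fun P : Ideal A => P.height) _ hne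
    refine ⟨P, hP, ?_⟩
    have hinf : a.height = ⨅ J ∈ a.minimalPrimes, J.height :=
      Ideal.height_eq_inf_minimalPrimes a
    rw [← hh, hinf]
    apply le_antisymm
    · refine le_iInf₂ (fun Q hQ => ?_)
      rcases le_total P.height Q.height with h1 | h1
      · exact h1
      · exact hmin hQ h1
    · exact iInf₂_le P hP
  haveI hPp : P.IsPrime := hPmin.1.1
  obtain ⟨xs, hlen, hmem, I1, I2⟩ := iterate A a D h hD hhD P hPmin hPh hh h le_rfl
  rw [hlen] at I1 I2
  -- the function
  let x : Fin h → A := fun i => xs.get (Fin.cast hlen.symm i)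
  have hrange : Ideal.span (Set.range x) = Ideal.ofList xs := by
    unfold Ideal.ofList
    congr 1
    ext y
    constructor
    · rintro ⟨i, rfl⟩
      exact List.get_mem xs _
    · intro hy
      obtain ⟨j, rfl⟩ := List.mem_iff_get.mp hy
      exact ⟨Fin.cast hlen j, by simp [x]⟩
  have hIa : Ideal.ofList xs ≤ a := by
    unfold Ideal.ofList
    rw [Ideal.span_le]
    intro y hy
    exact (hmem y hy).1
  refine ⟨x, fun i => (hmem _ (List.get_mem xs _)).1, fun i => (hmem _ (List.get_mem xs _)).2,
    ?_, ?_⟩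
  · -- completion to a system of parameters
    have hdim : Module.supportDim A (A ⧸ Ideal.ofList xs) ≤ ((D - h : ℕ) : WithBot ℕ∞) := by
      rw [Module.supportDim_quotient_eq_ringKrullDim]
      apply dim_quot_le
      intro Q hQ
      have h1 := I1 Q hQ
      obtain ⟨c, hc⟩ := ENat.ne_top_iff_exists.mp
        (ne_top_of_le_ne_top (ENat.natCast_ne_top D) (le_self_add.trans h1))
      rw [← hc] at h1 ⊢
      have h2 : c + h ≤ D := by exact_mod_cast h1
      exact_mod_cast (show c ≤ D - h by omega)
    obtain ⟨ys, hylen, hymem, hyfl⟩ := exists_sop A (D - h) (A ⧸ Ideal.ofList xs) hdim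
    refine ⟨ys, hymem, ?_, ?_⟩
    · rw [hylen, hD]
      have : h + (D - h) = D := by omega
      rw [this]
      rfl
    · rw [hrange]
      -- surjection from the finite length module
      let f0 : (A ⧸ Ideal.ofList xs) →ₗ[A] A ⧸ (Ideal.ofList xs ⊔ Ideal.ofList ys) :=
        Submodule.liftQ _ (Submodule.mkQ _) (by
          intro z hz
          rw [LinearMap.mem_ker, Submodule.mkQ_apply, Submodule.Quotient.mk_eq_zero]
          exact Ideal.mem_sup_left hz)
      have hf0 : ∀ z : A, f0 (Submodule.Quotient.mk z) = Submodule.Quotient.mk z := fun z => rfl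
      let f1 : ((A ⧸ Ideal.ofList xs) ⧸ Ideal.ofList ys •
          (⊤ : Submodule A (A ⧸ Ideal.ofList xs))) →ₗ[A]
          A ⧸ (Ideal.ofList xs ⊔ Ideal.ofList ys) :=
        Submodule.liftQ _ f0 (by
          rw [Submodule.smul_le]
          intro r hr n _
          obtain ⟨z, rfl⟩ := Submodule.Quotient.mk_surjective _ n
          rw [LinearMap.mem_ker, ← Submodule.Quotient.mk_smul, hf0,
            Submodule.Quotient.mk_eq_zero, smul_eq_mul]
          exact Ideal.mem_sup_right (Ideal.mul_mem_right _ _ hr))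
      have hf1 : Function.Surjective f1 := by
        intro w
        obtain ⟨z, rfl⟩ := Submodule.Quotient.mk_surjective _ w
        exact ⟨Submodule.Quotient.mk (Submodule.Quotient.mk z), rfl⟩
      exact hyfl.of_surjective hf1
  · -- `a` has height zero modulo the `x`
    rw [hrange]
    have hIP : Ideal.ofList xs ≤ P := hIa.trans hPmin.1.2
    have hPb : (P.map (Ideal.Quotient.mk (Ideal.ofList xs))).IsPrime :=
      Ideal.map_isPrime_of_surjective Ideal.Quotient.mk_surjective
        (by rw [Ideal.mk_ker]; exact hIP)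
    have hcomapP : (P.map (Ideal.Quotient.mk (Ideal.ofList xs))).comap
        (Ideal.Quotient.mk (Ideal.ofList xs)) = P := by
      rw [Ideal.comap_map_of_surjective _ Ideal.Quotient.mk_surjective,
        ← RingHom.ker_eq_comap_bot, Ideal.mk_ker, sup_eq_left]
      exact hIP
    have hPbmin : P.map (Ideal.Quotient.mk (Ideal.ofList xs)) ∈
        minimalPrimes (A ⧸ Ideal.ofList xs) := by
      refine ⟨⟨hPb, bot_le⟩, ?_⟩
      intro qb hqb hle
      haveI hqbp : qb.IsPrime := hqb.1
      set Q : Ideal A := qb.comap (Ideal.Quotient.mk (Ideal.ofList xs)) with hQdef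
      haveI hQp : Q.IsPrime := Ideal.comap_isPrime _ qb
      have hIQ : Ideal.ofList xs ≤ Q := by
        intro z hz
        rw [hQdef, Ideal.mem_comap, Ideal.Quotient.eq_zero_iff_mem.mpr hz]
        exact qb.zero_mem
      have hQP : Q ≤ P := by
        rw [← hcomapP]
        exact Ideal.comap_mono hle
      have h2 := I2 ⟨Q, hQp⟩ hIQ hQP
      have hQeq : Q = P := by
        by_contra hne
        have hlt : Q < P := lt_of_le_of_ne hQP hne
        have h3 := Ideal.height_add_one_le_of_lt_of_isPrime hlt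
        rw [hPh] at h3
        have h4 : (h : ℕ∞) + 1 ≤ h := (add_le_add h2 le_rfl).trans h3
        have : h + 1 ≤ h := by exact_mod_cast h4
        omega
      rw [← Ideal.map_comap_of_surjective _ Ideal.Quotient.mk_surjective qb, ← hQdef, hQeq]
    have h1 : (a.map (Ideal.Quotient.mk (Ideal.ofList xs))).height ≤
        (P.map (Ideal.Quotient.mk (Ideal.ofList xs))).height :=
      Ideal.height_mono (Ideal.map_mono hPmin.1.2)
    haveI := hPb
    rw [Ideal.height_eq_zero_iff.mpr hPbmin] at h1
    exact le_antisymm h1 bot_le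


end Groth.Agent.S5808
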