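import Groth.Statements.S5813
import Groth.Agent.Helper1.Exal

set_option autoImplicit false
universe u
open EGA41

namespace Groth.Agent.S5813

open Groth.Agent.Helper1.ExalAux

section
variable {B : Type u} [CommRing B] (J : Ideal B)
    {M : Type u} [AddCommGroup M] [Module (B ⧸ J) M] [Module B M] [IsScalarTower B (B ⧸ J) M]

omit [Module B M] [IsScalarTower B (B ⧸ J) M] in
theorem exists_rep (X : Exal.Ext B (B ⧸ J) M) (x : X.E) :
    ∃ (b : B) (m : M), x = algebraMap B X.E b + X.incl m := by
  obtain ⟨b, hb⟩ := Ideal.Quotient.mk_surjective (X.proj x)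
  have h0 : X.proj (x - algebraMap B X.E b) = 0 := by
    rw [map_sub, AlgHom.commutes, Ideal.Quotient.algebraMap_eq, hb, sub_self]
  obtain ⟨m, hm⟩ := (X.isExtension.exact _).1 h0
  exact ⟨b, m, by rw [hm]; abel⟩

theorem incl_idealToKer (X : Exal.Ext B (B ⧸ J) M) (z : J) :
    X.incl (X.idealToKer J z) = algebraMap B X.E z :=
  Exal.Ext.incl_kerLift X _ (X.proj_algebraMap_eq_zero J z)

theorem idealToKer_eq_conormalMap (X : Exal.Ext B (B ⧸ J) M) (z : J) :
    X.idealToKer J z = X.conormalMap J (J.toCotangent z) := rfl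

/-- Key lemma: representations transfer. -/
theorem transfer (X Y : Exal.Ext B (B ⧸ J) M) (h : X.conormalMap J = Y.conormalMap J)
    (b b' : B) (m m' : M)
    (hx : algebraMap B X.E b + X.incl m = algebraMap B X.E b' + X.incl m') :
    algebraMap B Y.E b + Y.incl m = algebraMap B Y.E b' + Y.incl m' := by
  have hp := congrArg X.proj hx
  rw [map_add, map_add, proj_incl, proj_incl, add_zero, add_zero, AlgHom.commutes, AlgHom.commutes,
    Ideal.Quotient.algebraMap_eq, Ideal.Quotient.eq] at hp
  let j : J := ⟨b - b', hp⟩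
  have h1 : algebraMap B X.E (b - b') = X.incl (X.idealToKer J j) := (incl_idealToKer J X j).symm
  have h2 : algebraMap B Y.E (b - b') = Y.incl (Y.idealToKer J j) := (incl_idealToKer J Y j).symm
  have h3 : X.idealToKer J j = Y.idealToKer J j := by
    rw [idealToKer_eq_conormalMap, idealToKer_eq_conormalMap, h]
  have h4 : X.incl (X.idealToKer J j + m - m') = 0 := by
    rw [map_sub, map_add, ← h1, map_sub]
    linear_combination hx
  have h5 : X.idealToKer J j + m - m' = 0 :=
    X.isExtension.incl_injective (h4.trans (map_zero _).symm)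
  have h6 : Y.incl (Y.idealToKer J j + m - m') = 0 := by
    rw [← h3, h5, map_zero]
  rw [map_sub, map_add, ← h2, map_sub] at h6
  linear_combination h6

theorem exists_hom (X Y : Exal.Ext B (B ⧸ J) M) (h : X.conormalMap J = Y.conormalMap J) :
    ∃ φ : X.E →ₐ[B] Y.E, ∀ (b : B) (m : M),
      φ (algebraMap B X.E b + X.incl m) = algebraMap B Y.E b + Y.incl m := by
  choose β μ hβμ using exists_rep J X
  let f : X.E → Y.E := fun x => algebraMap B Y.E (β x) + Y.incl (μ x)
  have hf : ∀ (b : B) (m : M), f (algebraMap B X.E b + X.incl m) = algebraMap B Y.E b + Y.incl m := by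
    intro b m
    exact transfer J X Y h _ _ _ _ (hβμ _).symm
  have hf' : ∀ (x : X.E) (b : B) (m : M), x = algebraMap B X.E b + X.incl m →
      f x = algebraMap B Y.E b + Y.incl m := by
    intro x b m hx; rw [hx, hf]
  have hmulX : ∀ (b : B) (m : M), algebraMap B X.E b * X.incl m = X.incl (b • m) := by
    intro b m
    rw [X.isExtension.mul_incl, AlgHom.commutes, algebraMap_smul]
  have hmulY : ∀ (b : B) (m : M), algebraMap B Y.E b * Y.incl m = Y.incl (b • m) := by
    intro b m
    rw [Y.isExtension.mul_incl, AlgHom.commutes, algebraMap_smul]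
  refine ⟨{ toFun := f, map_one' := ?_, map_mul' := ?_, map_zero' := ?_, map_add' := ?_,
            commutes' := ?_ }, hf⟩
  · rw [hf' 1 1 0 (by simp)]; simp
  · intro x y
    obtain ⟨b, m, rfl⟩ := exists_rep J X x
    obtain ⟨b', m', rfl⟩ := exists_rep J X y
    rw [hf, hf]
    rw [hf' _ (b * b') (b • m' + b' • m)]
    · rw [map_mul, map_add, ← hmulY, ← hmulY]
      have := incl_mul_incl Y m m'
      linear_combination (-1 : Y.E) * this
    · rw [map_mul, map_add, ← hmulX, ← hmulX]
      have := incl_mul_incl X m m'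
      linear_combination this
  · rw [hf' 0 0 0 (by simp)]; simp
  · intro x y
    obtain ⟨b, m, rfl⟩ := exists_rep J X x
    obtain ⟨b', m', rfl⟩ := exists_rep J X y
    rw [hf, hf, hf' _ (b + b') (m + m')]
    · rw [map_add, map_add]; abel
    · rw [map_add, map_add]; abel
  · intro b
    rw [hf' _ b 0 (by simp)]; simp

end

/-- Injectivity, commutative form. Let J be an ideal of the commutative ring B, C = B ⧸ J, M a C-module.
Two B-extensions of C by M whose induced linear maps J/J² → M (obtained from the restriction to J of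
the structure map B → E) coincide are equivalent. -/
theorem result {B : Type u} [CommRing B] (J : Ideal B)
    {M : Type u} [AddCommGroup M] [Module (B ⧸ J) M] [Module B M] [IsScalarTower B (B ⧸ J) M]
    (X Y : Exal.Ext B (B ⧸ J) M) (h : X.conormalMap J = Y.conormalMap J) :
    Nonempty (X.Equiv Y) := by
  obtain ⟨φ, hφ⟩ := exists_hom J X Y h
  obtain ⟨ψ, hψ⟩ := exists_hom J Y X h.symm
  refine ⟨{ toAlgEquiv := AlgEquiv.ofAlgHom φ ψ ?_ ?_, proj_apply := ?_, apply_incl := ?_ }⟩
  · ext y
    obtain ⟨b, m, rfl⟩ := exists_rep J Y y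
    simp only [AlgHom.coe_comp, Function.comp_apply, AlgHom.coe_id, id_eq]
    rw [hψ, hφ]
  · ext x
    obtain ⟨b, m, rfl⟩ := exists_rep J X x
    simp only [AlgHom.coe_comp, Function.comp_apply, AlgHom.coe_id, id_eq]
    rw [hφ, hψ]
  · intro x
    obtain ⟨b, m, rfl⟩ := exists_rep J X x
    change Y.proj (φ _) = _
    rw [hφ, map_add, map_add, proj_incl, proj_incl, AlgHom.commutes, AlgHom.commutes]
  · intro z
    change φ (X.incl z) = Y.incl z
    have := hφ 0 z
    simpa using this

end Groth.Agent.S5813
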