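import Groth.Statements.S5814
import Groth.Agent.Helper1.Exal

set_option autoImplicit false
universe u
open EGA41

namespace Groth.Agent.S5814

open Groth.Agent.Helper1.ExalAux

attribute [local instance] Exal.opModule Exal.isCentralScalar_opModule

section
variable {B : Type u} [CommRing B] (J : Ideal B)
    {M : Type u} [AddCommGroup M] [Module (B ⧸ J) M] [Module B M] [IsScalarTower B (B ⧸ J) M]

omit [IsScalarTower B (B ⧸ J) M] [Module (B ⧸ J) M] in
/-- The ideal `{(j, -w j)}` of the trivial extension `B ⊕ M`. -/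
def relIdeal (hJM : ∀ (j : J) (m : M), (j : B) • m = 0) (w' : J →ₗ[B] M) : Ideal (TrivSqZeroExt B M) where
  carrier := {x | ∃ j : J, x = TrivSqZeroExt.inl (j : B) - TrivSqZeroExt.inr (w' j)}
  add_mem' := by
    rintro _ _ ⟨j, rfl⟩ ⟨j', rfl⟩
    refine ⟨j + j', ?_⟩
    rw [map_add, Submodule.coe_add, TrivSqZeroExt.inl_add, TrivSqZeroExt.inr_add]
    abel
  zero_mem' := ⟨0, by simp⟩
  smul_mem' := by
    rintro c _ ⟨j, rfl⟩
    refine ⟨TrivSqZeroExt.fst c • j, ?_⟩
    apply TrivSqZeroExt.ext
    · simp [TrivSqZeroExt.fst_mul]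
    · simp only [smul_eq_mul, TrivSqZeroExt.snd_mul, TrivSqZeroExt.fst_sub, TrivSqZeroExt.fst_inl,
        TrivSqZeroExt.fst_inr, sub_zero, TrivSqZeroExt.snd_sub, TrivSqZeroExt.snd_inl,
        TrivSqZeroExt.snd_inr, zero_sub, smul_neg, map_smul]
      have : MulOpposite.op (j : B) • TrivSqZeroExt.snd c = (0 : M) := hJM j _
      rw [this, add_zero]

end

/-- Surjectivity, commutative form. Let J be an ideal of the commutative ring B, C = B ⧸ J, M a
C-module. Every linear map w : J/J² → M arises from a B-extension of C by M: there is an extension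
whose induced map J/J² → M is w. Together with the injectivity statement this is the canonical
bijection between Hom_C(J/J², M) and the classes of B-extensions of C by M. -/
theorem result {B : Type u} [CommRing B] (J : Ideal B)
    {M : Type u} [AddCommGroup M] [Module (B ⧸ J) M] [Module B M] [IsScalarTower B (B ⧸ J) M]
    (w : J.Cotangent →ₗ[B] M) :
    ∃ X : Exal.Ext B (B ⧸ J) M, X.conormalMap J = w := by
  have hJM : ∀ (j : J) (m : M), (j : B) • m = 0 := by
    intro j m
    rw [← algebraMap_smul (B ⧸ J) (j : B) m, Ideal.Quotient.algebraMap_eq,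
      Ideal.Quotient.eq_zero_iff_mem.2 j.2, zero_smul]
  let w' : J →ₗ[B] M := w ∘ₗ J.toCotangent
  let I : Ideal (TrivSqZeroExt B M) := relIdeal J hJM w'
  have hI : ∀ x, x ∈ I ↔ ∃ j : J, x = TrivSqZeroExt.inl (j : B) - TrivSqZeroExt.inr (w' j) :=
    fun x => Iff.rfl
  let algE : Algebra B (TrivSqZeroExt B M ⧸ I) :=
    ((Ideal.Quotient.mk I).comp (TrivSqZeroExt.inlHom B M)).toAlgebra
  have halg : ∀ b : B, @algebraMap B (TrivSqZeroExt B M ⧸ I) _ _ algE b =
      Ideal.Quotient.mk I (TrivSqZeroExt.inl b) := fun b => rfl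
  -- the projection as a ring hom
  let p₀ : TrivSqZeroExt B M ⧸ I →+* B ⧸ J :=
    Ideal.Quotient.lift I ((Ideal.Quotient.mk J).comp (TrivSqZeroExt.fstHom B B M).toRingHom) (by
      rintro _ ⟨j, rfl⟩
      simp only [RingHom.coe_comp, Function.comp_apply]
      rw [Ideal.Quotient.eq_zero_iff_mem]
      simp)
  have hp₀ : ∀ y : TrivSqZeroExt B M, p₀ (Ideal.Quotient.mk I y) =
      Ideal.Quotient.mk J (TrivSqZeroExt.fst y) := fun y => rfl
  let i₀ : M →+ TrivSqZeroExt B M ⧸ I :=
    (Ideal.Quotient.mk I).toAddMonoidHom.comp (TrivSqZeroExt.inrHom B M).toAddMonoidHom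
  have hi₀ : ∀ m : M, i₀ m = Ideal.Quotient.mk I (TrivSqZeroExt.inr m) := fun m => rfl
  have hinj : Function.Injective i₀ := by
    rw [injective_iff_map_eq_zero]
    intro m hm
    rw [hi₀, Ideal.Quotient.eq_zero_iff_mem, hI] at hm
    obtain ⟨j, hj⟩ := hm
    have h1 := congrArg TrivSqZeroExt.fst hj
    have h2 := congrArg TrivSqZeroExt.snd hj
    simp only [TrivSqZeroExt.fst_inr, TrivSqZeroExt.fst_sub, TrivSqZeroExt.fst_inl, sub_zero] at h1
    simp only [TrivSqZeroExt.snd_inr, TrivSqZeroExt.snd_sub, TrivSqZeroExt.snd_inl, zero_sub] at h2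
    have hj0 : j = 0 := Subtype.ext h1.symm
    rw [h2, hj0, map_zero, neg_zero]
  let X : Exal.Ext B (B ⧸ J) M :=
    { E := TrivSqZeroExt B M ⧸ I
      commRing := inferInstance
      algebra := algE
      proj :=
        { toFun := p₀
          map_one' := map_one p₀
          map_mul' := map_mul p₀
          map_zero' := map_zero p₀
          map_add' := map_add p₀
          commutes' := fun b => by
            rw [halg]
            change p₀ (Ideal.Quotient.mk I (TrivSqZeroExt.inl b)) = _
            rw [hp₀, TrivSqZeroExt.fst_inl]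
            rfl }
      incl := i₀
      isExtension :=
        { proj_surjective := fun c => by
            obtain ⟨b, rfl⟩ := Ideal.Quotient.mk_surjective c
            exact ⟨Ideal.Quotient.mk I (TrivSqZeroExt.inl b), by
              change p₀ _ = _
              rw [hp₀, TrivSqZeroExt.fst_inl]⟩
          incl_injective := hinj
          exact := fun x => by
            obtain ⟨y, rfl⟩ := Ideal.Quotient.mk_surjective x
            change p₀ _ = 0 ↔ _
            rw [hp₀, Ideal.Quotient.eq_zero_iff_mem]
            constructor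
            · intro hy
              refine ⟨TrivSqZeroExt.snd y + w' ⟨_, hy⟩, ?_⟩
              rw [hi₀]
              symm
              rw [Ideal.Quotient.eq, hI]
              refine ⟨⟨_, hy⟩, ?_⟩
              apply TrivSqZeroExt.ext <;> simp
            · rintro ⟨m, hm⟩
              rw [hi₀, Ideal.Quotient.eq, hI] at hm
              obtain ⟨j, hj⟩ := hm
              have h1 := congrArg TrivSqZeroExt.fst hj
              simp only [TrivSqZeroExt.fst_sub, TrivSqZeroExt.fst_inr, zero_sub,
                TrivSqZeroExt.fst_inl, sub_zero] at h1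
              have : TrivSqZeroExt.fst y = -(j : B) := by rw [← h1, neg_neg]
              rw [this]
              exact J.neg_mem j.2
          mul_incl := fun x z => by
            obtain ⟨y, rfl⟩ := Ideal.Quotient.mk_surjective x
            change _ * i₀ z = i₀ (p₀ _ • z)
            rw [hi₀, hp₀, hi₀, ← map_mul]
            congr 1
            apply TrivSqZeroExt.ext
            · simp
            · simp only [TrivSqZeroExt.snd_mul, TrivSqZeroExt.snd_inr, TrivSqZeroExt.fst_inr,
                MulOpposite.op_zero, zero_smul, add_zero]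
              rw [← Ideal.Quotient.algebraMap_eq, algebraMap_smul] } }
  refine ⟨X, ?_⟩
  apply LinearMap.ext
  intro c
  obtain ⟨z, rfl⟩ := J.toCotangent_surjective c
  change X.idealToKer J z = w' z
  apply hinj
  have h1 : X.incl (X.idealToKer J z) = algebraMap B X.E z :=
    Exal.Ext.incl_kerLift X _ (X.proj_algebraMap_eq_zero J z)
  change X.incl (X.idealToKer J z) = i₀ (w' z)
  rw [h1]
  change Ideal.Quotient.mk I (TrivSqZeroExt.inl (z : B)) = Ideal.Quotient.mk I (TrivSqZeroExt.inr (w' z))
  rw [Ideal.Quotient.eq, hI]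
  exact ⟨z, rfl⟩

end Groth.Agent.S5814
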