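import Groth.Statements.S5815
import Groth.Agent.Helper1.Exal
import Mathlib.RingTheory.Smooth.Basic

set_option autoImplicit false
universe u
open EGA41

namespace Groth.Agent.S5815

open Groth.Agent.Helper1.ExalAux

/-- Discrete case. A commutative A-algebra B is formally smooth if and only if every A-extension of B by
a B-module L is trivial (has an A-algebra section). A and B are taken in one universe and L ranges
over that universe. (The published statement is for topological rings, with direct-limit classes of
extensions; this row is its discrete case.) -/
theorem result (A B : Type u) [CommRing A] [CommRing B] [Algebra A B] :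
    Algebra.FormallySmooth A B ↔
      ∀ (L : Type u) [AddCommGroup L] [Module B L] (X : Exal.Ext A B L), X.IsTrivial := by
  constructor
  · intro hsm L _ _ X
    have hnil : IsNilpotent (RingHom.ker (X.proj : X.E →+* B)) := by
      refine ⟨2, ?_⟩
      rw [Ideal.zero_eq_bot, eq_bot_iff, pow_two, Ideal.mul_le]
      intro x hx y hy
      obtain ⟨z, rfl⟩ := (X.isExtension.exact x).1 hx
      obtain ⟨z', rfl⟩ := (X.isExtension.exact y).1 hy
      rw [incl_mul_incl]
      exact Submodule.zero_mem _
    refine ⟨Algebra.FormallySmooth.liftOfSurjective (AlgHom.id A B) X.proj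
      X.isExtension.proj_surjective hnil, fun b => ?_⟩
    exact Algebra.FormallySmooth.liftOfSurjective_apply (AlgHom.id A B) X.proj
      X.isExtension.proj_surjective hnil b
  · intro h
    let P := Algebra.Generators.self A B
    let f := IsScalarTower.toAlgHom A P.Ring B
    rw [Algebra.FormallySmooth.iff_split_surjection f P.algebraMap_surjective]
    have surj : Function.Surjective f.kerSquareLift :=
      Ideal.Quotient.lift_surjective_of_surjective _ _ P.algebraMap_surjective
    have hsq : ∀ x y : P.Ring ⧸ RingHom.ker f.toRingHom ^ 2,
        f.kerSquareLift x = 0 → f.kerSquareLift y = 0 → x * y = 0 := by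
      intro x y hx hy
      have h1 : x ∈ RingHom.ker f.kerSquareLift.toRingHom := hx
      have h2 : y ∈ RingHom.ker f.kerSquareLift.toRingHom := hy
      rw [AlgHom.ker_kerSquareLift] at h1 h2
      have h3 : x * y ∈ (RingHom.ker f.toRingHom).cotangentIdeal ^ 2 := by
        have := Ideal.mul_mem_mul h1 h2
        rwa [← pow_two] at this
      rw [Ideal.cotangentIdeal_square] at h3
      exact h3
    let _ := kerModule f.kerSquareLift surj hsq
    obtain ⟨s, hs⟩ := h _ (extOfSurjective f.kerSquareLift surj hsq)
    exact ⟨s, AlgHom.ext hs⟩

end Groth.Agent.S5815
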