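import Groth.Statements.S5816
import Groth.Agent.Helper1.Exal
import Mathlib.RingTheory.Ideal.Quotient.Operations

set_option autoImplicit false
universe u
open EGA41

namespace Groth.Agent.S5816

open Groth.Agent.Helper1.ExalAux

theorem forward (Λ A B : Type u) [CommRing Λ]
    [CommRing A] [CommRing B] [Algebra Λ A] [Algebra Λ B] [Algebra A B] [IsScalarTower Λ A B]
    (hrel : EGA41.IsFormallySmoothRel Λ A B)
    (L : Type u) [AddCommGroup L] [Module B L] (X : Exal.Ext A B L)
    (hX : X.IsTrivialOver Λ) : X.IsTrivial := by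
  obtain ⟨s, hs⟩ := hX
  let algΛ : Algebra Λ X.E := ((algebraMap A X.E).comp (algebraMap Λ A)).toAlgebra
  have tower : IsScalarTower Λ A X.E := IsScalarTower.of_algebraMap_eq (fun _ => rfl)
  let J : Ideal X.E := RingHom.ker X.proj
  have hJ : J ^ 2 = ⊥ := by
    rw [eq_bot_iff, pow_two, Ideal.mul_le]
    intro x hx y hy
    obtain ⟨z, rfl⟩ := (X.isExtension.exact x).1 hx
    obtain ⟨z', rfl⟩ := (X.isExtension.exact y).1 hy
    rw [incl_mul_incl]
    exact Submodule.zero_mem _
  let e : (X.E ⧸ J) ≃ₐ[A] B := Ideal.quotientKerAlgEquivOfSurjective X.isExtension.proj_surjective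
  have he : ∀ x : X.E, e (Ideal.Quotient.mk J x) = X.proj x := fun x => rfl
  let u₀ : B →ₐ[A] X.E ⧸ J := e.symm.toAlgHom
  let u : B →ₐ[Λ] X.E := s
  have hu : (Ideal.Quotient.mkₐ Λ J).comp u = u₀.restrictScalars Λ := by
    ext b
    apply e.injective
    change e (Ideal.Quotient.mk J (s b)) = e (e.symm b)
    rw [he, AlgEquiv.apply_symm_apply]
    exact hs b
  obtain ⟨v, hv⟩ := hrel X.E J hJ u₀ ⟨u, hu⟩
  refine ⟨v, fun b => ?_⟩
  have := congrArg (fun g => e (g b)) hv
  simp only [AlgHom.coe_comp, Function.comp_apply, Ideal.Quotient.mkₐ_eq_mk] at this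
  rw [he] at this
  rw [this]
  exact e.apply_symm_apply b

theorem backward (Λ A B : Type u) [CommRing Λ]
    [CommRing A] [CommRing B] [Algebra Λ A] [Algebra Λ B] [Algebra A B] [IsScalarTower Λ A B]
    (H : ∀ (L : Type u) [AddCommGroup L] [Module B L] (X : Exal.Ext A B L),
        X.IsTrivialOver Λ → X.IsTrivial) : EGA41.IsFormallySmoothRel Λ A B := by
  intro C _ _ _ _ J hJ u₀ ⟨u, hu⟩
  let E : Subalgebra A (C × B) :=
    AlgHom.equalizer ((Ideal.Quotient.mkₐ A J).comp (AlgHom.fst A C B)) (u₀.comp (AlgHom.snd A C B))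
  have hE : ∀ x : C × B, x ∈ E ↔ Ideal.Quotient.mk J x.1 = u₀ x.2 := fun x => Iff.rfl
  let q : E →ₐ[A] B := (AlgHom.snd A C B).comp E.val
  have hq : Function.Surjective q := by
    intro b
    obtain ⟨c, hc⟩ := Ideal.Quotient.mk_surjective (u₀ b)
    exact ⟨⟨(c, b), (hE _).2 hc⟩, rfl⟩
  have hsq : ∀ x y : E, q x = 0 → q y = 0 → x * y = 0 := by
    rintro ⟨⟨c, b⟩, hx⟩ ⟨⟨c', b'⟩, hy⟩ h1 h2
    change b = 0 at h1
    change b' = 0 at h2
    subst h1 h2
    rw [hE] at hx hy
    simp only [map_zero] at hx hy
    rw [Ideal.Quotient.eq_zero_iff_mem] at hx hy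
    apply Subtype.ext
    apply Prod.ext
    · change c * c' = 0
      have : c * c' ∈ J ^ 2 := by rw [pow_two]; exact Ideal.mul_mem_mul hx hy
      rw [hJ] at this
      exact this
    · change (0 : B) * 0 = 0
      simp
  let _ := kerModule q hq hsq
  have huE : ∀ b : B, ((u b, b) : C × B) ∈ E := by
    intro b
    rw [hE]
    have := congrArg (fun g => g b) hu
    exact this
  have hΛ : (extOfSurjective q hq hsq).IsTrivialOver Λ := by
    refine ⟨{ toFun := fun b => (⟨(u b, b), huE b⟩ : E)
              map_one' := ?_, map_mul' := ?_, map_zero' := ?_, map_add' := ?_, commutes' := ?_ },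
      fun b => rfl⟩
    · apply Subtype.ext; apply Prod.ext
      · exact map_one u
      · rfl
    · intro b b'; apply Subtype.ext; apply Prod.ext
      · exact map_mul u b b'
      · rfl
    · apply Subtype.ext; apply Prod.ext
      · exact map_zero u
      · rfl
    · intro b b'; apply Subtype.ext; apply Prod.ext
      · exact map_add u b b'
      · rfl
    · intro l
      apply Subtype.ext; apply Prod.ext
      · change u (algebraMap Λ B l) = algebraMap A C (algebraMap Λ A l)
        rw [AlgHom.commutes, ← IsScalarTower.algebraMap_apply]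
      · change algebraMap Λ B l = algebraMap A B (algebraMap Λ A l)
        rw [← IsScalarTower.algebraMap_apply]
  obtain ⟨t, ht⟩ := H _ (extOfSurjective q hq hsq) hΛ
  let t' : B →ₐ[A] E := t
  have ht' : ∀ b, ((t' b : E) : C × B).2 = b := ht
  refine ⟨(AlgHom.fst A C B).comp (E.val.comp t'), ?_⟩
  ext b
  have hmem := (t' b).2
  rw [hE, ht'] at hmem
  exact hmem

/-- Discrete case. For ring maps Λ → A → B, B is formally smooth over A relative to Λ (square-zero test
ideals) if and only if every A-extension of B by a B-module L which is Λ-trivial is A-trivial. Λ, A,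
B are taken in one universe and L ranges over it. (The published statement is for topological rings;
this row is its discrete case.) -/
theorem result (Λ A B : Type u) [CommRing Λ]
    [CommRing A] [CommRing B] [Algebra Λ A] [Algebra Λ B] [Algebra A B] [IsScalarTower Λ A B] :
    EGA41.IsFormallySmoothRel Λ A B ↔
      ∀ (L : Type u) [AddCommGroup L] [Module B L] (X : Exal.Ext A B L),
        X.IsTrivialOver Λ → X.IsTrivial :=
  ⟨fun h L _ _ X hX => forward Λ A B h L X hX, backward Λ A B⟩

end Groth.Agent.S5816
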