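import Groth.Statements.S5817

set_option autoImplicit false
universe u v
open EGA41

namespace Groth.Agent.S5817

attribute [local instance] Exal.opModule Exal.isCentralScalar_opModule

/-- Commutative rings, exactness at Der_A(B, L). For ring maps A → B → C and a C-module L, the
B-extension of C by L attached to an A-derivation D : B → L (middle ring C ⊕ L, made a B-algebra
through x ↦ (x, D x)) is trivial if and only if D is the composite of B → C with an A-derivation C →
L. -/
theorem result {A : Type u} {B C L : Type v} [CommRing A] [CommRing B] [CommRing C]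
    [Algebra A B] [Algebra B C] [Algebra A C] [IsScalarTower A B C]
    [AddCommGroup L] [Module C L] [Module B L] [IsScalarTower B C L] [Module A L] [IsScalarTower A B L]
    [IsScalarTower A C L]
    (D : Derivation A B L) :
    (Exal.Ext.ofDerivation (C := C) D).IsTrivial ↔
      ∃ D' : Derivation A C L, D'.compAlgebraMap B = D := by
  constructor
  · rintro ⟨s, hs⟩
    -- view `s` as a map into `TrivSqZeroExt C L`
    let s' : C → TrivSqZeroExt C L := fun c => s c
    have hfst : ∀ c, TrivSqZeroExt.fst (s' c) = c := hs
    have hadd : ∀ c c', s' (c + c') = s' c + s' c' := fun c c' => map_add s c c'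
    have hmul : ∀ c c', s' (c * c') = s' c * s' c' := fun c c' => map_mul s c c'
    have hcomm : ∀ b : B, s' (algebraMap B C b) =
        TrivSqZeroExt.inl (algebraMap B C b) + TrivSqZeroExt.inr (D b) := fun b => s.commutes b
    have hleib : ∀ c c', TrivSqZeroExt.snd (s' (c * c')) =
        c • TrivSqZeroExt.snd (s' c') + c' • TrivSqZeroExt.snd (s' c) := by
      intro c c'
      rw [hmul, TrivSqZeroExt.snd_mul, hfst, hfst]
      rfl
    have hD : ∀ b : B, TrivSqZeroExt.snd (s' (algebraMap B C b)) = D b := by
      intro b
      rw [hcomm]; simp
    let δ : C →ₗ[A] L :=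
      { toFun := fun c => TrivSqZeroExt.snd (s' c)
        map_add' := fun c c' => by rw [hadd, TrivSqZeroExt.snd_add]
        map_smul' := fun a c => by
          have h1 : a • c = algebraMap B C (algebraMap A B a) * c := by
            rw [← IsScalarTower.algebraMap_apply, Algebra.smul_def]
          rw [h1, hleib, hD, RingHom.id_apply]
          rw [Derivation.map_algebraMap, smul_zero, add_zero, ← IsScalarTower.algebraMap_apply,
            algebraMap_smul] }
    refine ⟨Derivation.mk' δ (fun c c' => hleib c c'), ?_⟩
    ext b
    exact hD b
  · rintro ⟨D', rfl⟩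
    refine ⟨{ toRingHom := Exal.Ext.derivationHom (A := A) (B := C) (C := C) D'
              commutes' := fun b => ?_ }, fun c => ?_⟩
    · rfl
    · change TrivSqZeroExt.fst (TrivSqZeroExt.inl (algebraMap C C c) + TrivSqZeroExt.inr (D' c)) = c
      simp

end Groth.Agent.S5817
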