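import Groth.Statements.S5825
import Groth.Agent.Helper1.TopMod

set_option autoImplicit false
universe u v w
open EGA41

namespace Groth.Agent.S5825

open Groth.Agent.Helper1.TopModAux

/-- Let A be a topological ring, M, N topological A-modules with the topologies deduced from that of A,
and u : M → N a continuous linear map with dense image (a formal epimorphism). Then u is a formal
bimorphism (dense image and inducing) if and only if, for every open ideal J of A, the induced map
M/JM → N/JN is bijective (injectivity and surjectivity are written out elementwise). -/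
theorem result {A : Type u} {M : Type v} {N : Type w} [CommRing A]
    [TopologicalSpace A] [AddCommGroup M] [Module A M] [TopologicalSpace M] [AddCommGroup N] [Module A N]
    [TopologicalSpace N] (hM : TopMod.IsDeduced A M) (hN : TopMod.IsDeduced A N) (u : M →L[A] N)
    (hu : DenseRange u) :
    IsDenseInducing u ↔
      ∀ J : Ideal A, IsOpen (J : Set A) →
        (∀ x : M, u x ∈ (J • ⊤ : Submodule A N) → x ∈ (J • ⊤ : Submodule A M)) ∧
          ∀ y : N, ∃ x : M, y - u x ∈ (J • ⊤ : Submodule A N) := by
  have hMg := hM.1
  have hNg := hN.1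
  -- density gives approximation modulo every open submodule
  have happrox : ∀ J : Ideal A, IsOpen (J : Set A) →
      ∀ y : N, ∃ x : M, y - u x ∈ (J • ⊤ : Submodule A N) := by
    intro J hJ y
    have hopen : IsOpen {z : N | y - z ∈ (J • ⊤ : Submodule A N)} := by
      have : Continuous fun z : N => y - z := continuous_const.sub continuous_id
      exact (isOpen_smul_top hN hJ).preimage this
    obtain ⟨x, hx⟩ := hu.exists_mem_open hopen ⟨y, by simp⟩
    exact ⟨x, hx⟩
  constructor
  · intro h J hJ
    refine ⟨?_, happrox J hJ⟩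
    have hind : nhds (0 : M) = (nhds (0 : N)).comap u :=
      IsTopologicalAddGroup.isInducing_iff_nhds_zero.1 h.toIsInducing
    have hmem : ((J • ⊤ : Submodule A M) : Set M) ∈ (nhds (0 : N)).comap u := by
      rw [← hind]; exact smul_top_mem_nhds hM hJ
    obtain ⟨V, hV, hVs⟩ := Filter.mem_comap.1 hmem
    obtain ⟨J', hJ', hJ'V⟩ := hN.2.mem_iff.1 hV
    -- `J'' = J ⊓ J'`
    have hJ'' : IsOpen ((J ⊓ J' : Ideal A) : Set A) := hJ.inter hJ'
    have hpre : ∀ x : M, u x ∈ ((J ⊓ J' : Ideal A) • ⊤ : Submodule A N) →
        x ∈ (J • ⊤ : Submodule A M) := by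
      intro x hx
      apply hVs
      apply hJ'V
      exact Submodule.smul_mono_left inf_le_right hx
    -- `J N ⊆ u (J M) + J'' N`
    have hle : (J • ⊤ : Submodule A N) ≤
        ((J • ⊤ : Submodule A M).map u.toLinearMap) ⊔ ((J ⊓ J' : Ideal A) • ⊤ : Submodule A N) := by
      rw [Submodule.smul_le]
      intro j hj n _
      obtain ⟨m, hm⟩ := happrox _ hJ'' n
      have : j • n = u (j • m) + j • (n - u m) := by
        rw [map_smul, smul_sub]; abel
      rw [this]
      refine Submodule.add_mem_sup ?_ ?_
      · exact ⟨j • m, Submodule.smul_mem_smul hj Submodule.mem_top, rfl⟩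
      · exact Submodule.smul_mem _ _ hm
    intro x hx
    obtain ⟨y, ⟨m, hm, rfl⟩, z, hz, hyz⟩ := Submodule.mem_sup.1 (hle hx)
    have h1 : u (x - m) ∈ ((J ⊓ J' : Ideal A) • ⊤ : Submodule A N) := by
      have : u (x - m) = z := by
        rw [map_sub, ← hyz]
        change u m + z - u m = z
        abel
      rw [this]; exact hz
    have h2 := hpre _ h1
    have : x = (x - m) + m := by abel
    rw [this]
    exact Submodule.add_mem _ h2 hm
  · intro h
    refine ⟨?_, hu⟩
    rw [IsTopologicalAddGroup.isInducing_iff_nhds_zero]
    apply le_antisymm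
    · have := u.continuous.tendsto 0
      rw [map_zero] at this
      exact Filter.map_le_iff_le_comap.1 this
    · intro S hS
      obtain ⟨J, hJ, hJS⟩ := hM.2.mem_iff.1 hS
      refine Filter.mem_comap.2 ⟨((J • ⊤ : Submodule A N) : Set N), smul_top_mem_nhds hN hJ, ?_⟩
      intro x hx
      exact hJS ((h J hJ).1 x hx)

end Groth.Agent.S5825
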