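import Groth.Statements.S5826
import Groth.Agent.Helper1.TopMod

set_option autoImplicit false
universe u v w
open EGA41

namespace Groth.Agent.S5826

open Groth.Agent.Helper1.TopModAux

/-- Let A be a topological ring, M, N topological A-modules with the topologies deduced from that of A,
u : M → N a continuous linear map. Then u is formally left invertible if and only if, for every open
ideal J of A, the induced map M/JM → N/JN is left invertible, i.e. some linear map N → M/JM composes
with u to the projection M → M/JM. -/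
theorem result {A : Type u} {M : Type v} {N : Type w}
    [CommRing A] [TopologicalSpace A] [AddCommGroup M] [Module A M] [TopologicalSpace M] [AddCommGroup N]
    [Module A N] [TopologicalSpace N] (hM : TopMod.IsDeduced A M) (hN : TopMod.IsDeduced A N)
    (u : M →L[A] N) :
    TopMod.IsFormallyLeftInvertible u ↔
      ∀ J : Ideal A, IsOpen (J : Set A) →
        ∃ w : N →ₗ[A] M ⧸ (J • ⊤ : Submodule A M), ∀ x : M, w (u x) = Submodule.Quotient.mk x := by
  constructor
  · intro h J hJ
    let τ : TopologicalSpace (M ⧸ (J • ⊤ : Submodule A M)) := ⊥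
    have hd : @DiscreteTopology (M ⧸ (J • ⊤ : Submodule A M)) τ := ⟨rfl⟩
    have hc : @Continuous _ _ _ τ (Submodule.mkQ (J • ⊤ : Submodule A M)) := by
      refine @continuous_of_le_ker A M _ _ _ _ _ hM _ _ _ τ hd _ J hJ ?_
      rw [Submodule.ker_mkQ]
    let v : @ContinuousLinearMap A A _ _ (RingHom.id A) M _ _ (M ⧸ (J • ⊤ : Submodule A M)) τ _ _ _ :=
      @ContinuousLinearMap.mk A A _ _ (RingHom.id A) M _ _ (M ⧸ (J • ⊤ : Submodule A M)) τ _ _ _
        (Submodule.mkQ (J • ⊤ : Submodule A M)) hc
    obtain ⟨w, hw⟩ := @h (M ⧸ (J • ⊤ : Submodule A M)) _ _ τ hd v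
    exact ⟨w.toLinearMap, fun x => hw x⟩
  · intro h E _ _ _ _ v
    obtain ⟨J, hJ, hle⟩ := exists_le_ker hM v.toLinearMap v.continuous
    obtain ⟨w, hw⟩ := h J hJ
    let vbar : M ⧸ (J • ⊤ : Submodule A M) →ₗ[A] E := Submodule.liftQ _ v.toLinearMap hle
    let f : N →ₗ[A] E := vbar.comp w
    have hf : Continuous f := by
      refine continuous_of_le_ker hN f hJ ?_
      rw [Submodule.smul_le]
      intro j hj n _
      rw [LinearMap.mem_ker, map_smul]
      change j • vbar (w n) = 0
      obtain ⟨m, hm⟩ := Submodule.Quotient.mk_surjective _ (w n)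
      rw [← hm, ← map_smul, ← Submodule.Quotient.mk_smul,
        (Submodule.Quotient.mk_eq_zero _).2 (Submodule.smul_mem_smul hj Submodule.mem_top), map_zero]
    refine ⟨⟨f, hf⟩, fun x => ?_⟩
    change vbar (w (u x)) = v x
    rw [hw]
    rfl

end Groth.Agent.S5826
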