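import Groth.Statements.S5827
import Groth.Agent.Helper1.TopMod
import Groth.Agent.Helper1.NilLift
import Groth.Agent.S5826
import Mathlib.RingTheory.Ideal.Quotient.Operations
import Mathlib.RingTheory.Ideal.Maps

set_option autoImplicit false
universe u v w
open EGA41

namespace Groth.Agent.S5827

open Groth.Agent.Helper1.TopModAux

/-- Let A be a preadmissible topological ring with an ideal of definition 𝔏, M, N topological A-modules
with the topologies deduced from that of A such that N/JN is a projective (A/J)-module for every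
open ideal J, and u : M → N a continuous linear map. Then u is formally left invertible if and only
if the induced map M/𝔏M → N/𝔏N is left invertible. -/
theorem result {A : Type u} {M : Type v}
    {N : Type w} [CommRing A] [TopologicalSpace A] [AddCommGroup M] [Module A M] [TopologicalSpace M]
    [AddCommGroup N] [Module A N] [TopologicalSpace N] (hA : LinTop.IsPreadmissible A) (𝔏 : Ideal A)
    (h𝔏 : LinTop.IsIdealOfDefinition A 𝔏) (hM : TopMod.IsDeduced A M) (hN : TopMod.IsDeduced A N)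
    (hproj : ∀ J : Ideal A, IsOpen (J : Set A) → Module.Projective (A ⧸ J) (N ⧸ (J • (⊤ : Submodule A N))))
    (u : M →L[A] N) :
    TopMod.IsFormallyLeftInvertible u ↔
      ∃ w : N →ₗ[A] M ⧸ (𝔏 • ⊤ : Submodule A M), ∀ x : M, w (u x) = Submodule.Quotient.mk x := by
  rw [Groth.Agent.S5826.result hM hN u]
  constructor
  · intro h
    exact h 𝔏 h𝔏.1
  · rintro ⟨w, hw⟩ J hJ
    -- reduce to `J₀ = J ⊓ 𝔏`
    let J₀ : Ideal A := J ⊓ 𝔏
    have hJ₀ : IsOpen (J₀ : Set A) := hJ.inter h𝔏.1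
    obtain ⟨n, hn0, hn⟩ := h𝔏.2 (J : Set A) (hJ.mem_nhds (Ideal.zero_mem _))
    have hnJ₀ : 𝔏 ^ n ≤ J₀ := le_inf hn (Ideal.pow_le_self hn0.ne')
    have := hproj J₀ hJ₀
    have hsurj : Function.Surjective (algebraMap A (A ⧸ J₀)) := Ideal.Quotient.mk_surjective
    let I : Ideal (A ⧸ J₀) := 𝔏.map (Ideal.Quotient.mk J₀)
    have hI : I ^ n = ⊥ := by
      rw [← Ideal.map_pow, Ideal.map_eq_bot_iff_le_ker, Ideal.mk_ker]
      exact hnJ₀
    -- the induced map `u'`
    have hule : (J₀ • ⊤ : Submodule A M) ≤ (J₀ • ⊤ : Submodule A N).comap u.toLinearMap := by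
      rw [Submodule.smul_le]
      intro j hj m _
      rw [Submodule.mem_comap, map_smul]
      exact Submodule.smul_mem_smul hj Submodule.mem_top
    let u'A : (M ⧸ (J₀ • ⊤ : Submodule A M)) →ₗ[A] (N ⧸ (J₀ • ⊤ : Submodule A N)) := Submodule.mapQ _ _ u.toLinearMap hule
    let u' : (M ⧸ (J₀ • ⊤ : Submodule A M)) →ₗ[(A ⧸ J₀)] (N ⧸ (J₀ • ⊤ : Submodule A N)) := u'A.extendScalarsOfSurjective hsurj
    have hu' : ∀ x : M, u' (Submodule.Quotient.mk x) = Submodule.Quotient.mk (u x) := fun x => rfl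
    -- the comparison `M/𝔏M → (M ⧸ (J₀ • ⊤ : Submodule A M))/IM'`
    let q : M →ₗ[A] (M ⧸ (J₀ • ⊤ : Submodule A M)) ⧸ (I • ⊤ : Submodule (A ⧸ J₀) (M ⧸ (J₀ • ⊤ : Submodule A M))) :=
      ((I • ⊤ : Submodule (A ⧸ J₀) (M ⧸ (J₀ • ⊤ : Submodule A M))).mkQ.restrictScalars A).comp (J₀ • ⊤ : Submodule A M).mkQ
    have hq : ∀ x : M, q x = Submodule.Quotient.mk (Submodule.Quotient.mk x) := fun x => rfl
    have hqle : (𝔏 • ⊤ : Submodule A M) ≤ LinearMap.ker q := by
      rw [Submodule.smul_le]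
      intro l hl m _
      rw [LinearMap.mem_ker, hq, Submodule.Quotient.mk_eq_zero]
      have : (Submodule.Quotient.mk (l • m) : (M ⧸ (J₀ • ⊤ : Submodule A M))) =
          (Ideal.Quotient.mk J₀ l) • (Submodule.Quotient.mk m : (M ⧸ (J₀ • ⊤ : Submodule A M))) := rfl
      rw [this]
      exact Submodule.smul_mem_smul (Ideal.mem_map_of_mem _ hl) Submodule.mem_top
    let g : M ⧸ (𝔏 • ⊤ : Submodule A M) →ₗ[A] (M ⧸ (J₀ • ⊤ : Submodule A M)) ⧸ (I • ⊤ : Submodule (A ⧸ J₀) (M ⧸ (J₀ • ⊤ : Submodule A M))) :=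
      Submodule.liftQ _ q hqle
    have hg : ∀ x : M, g (Submodule.Quotient.mk x) = q x := fun x => rfl
    have hgwle : (J₀ • ⊤ : Submodule A N) ≤ LinearMap.ker (g.comp w) := by
      rw [Submodule.smul_le]
      intro j hj y _
      rw [LinearMap.mem_ker, map_smul, ← algebraMap_smul (A ⧸ J₀) j]
      have : algebraMap A (A ⧸ J₀) j = 0 := Ideal.Quotient.eq_zero_iff_mem.2 hj
      rw [this, zero_smul]
    let w₁A : (N ⧸ (J₀ • ⊤ : Submodule A N)) →ₗ[A] (M ⧸ (J₀ • ⊤ : Submodule A M)) ⧸ (I • ⊤ : Submodule (A ⧸ J₀) (M ⧸ (J₀ • ⊤ : Submodule A M))) := Submodule.liftQ _ (g.comp w) hgwle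
    let w₁ : (N ⧸ (J₀ • ⊤ : Submodule A N)) →ₗ[(A ⧸ J₀)] (M ⧸ (J₀ • ⊤ : Submodule A M)) ⧸ (I • ⊤ : Submodule (A ⧸ J₀) (M ⧸ (J₀ • ⊤ : Submodule A M))) := w₁A.extendScalarsOfSurjective hsurj
    have hw₁ : ∀ x' : (M ⧸ (J₀ • ⊤ : Submodule A M)), w₁ (u' x') = Submodule.Quotient.mk x' := by
      intro x'
      obtain ⟨x, rfl⟩ := Submodule.Quotient.mk_surjective _ x'
      rw [hu']
      change g (w (u x)) = _
      rw [hw, hg, hq]
    obtain ⟨w'', hw''⟩ :=
      Groth.Agent.Helper1.NilLift.exists_leftInverse_of_nilpotent I n hI u' w₁ hw₁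
    have hfle : (J₀ • ⊤ : Submodule A M) ≤ (J • ⊤ : Submodule A M) :=
      Submodule.smul_mono_left inf_le_left
    let fac : (M ⧸ (J₀ • ⊤ : Submodule A M)) →ₗ[A] M ⧸ (J • ⊤ : Submodule A M) :=
      Submodule.mapQ _ _ LinearMap.id (by simpa using hfle)
    refine ⟨(fac.comp (w''.restrictScalars A)).comp (J₀ • ⊤ : Submodule A N).mkQ, fun x => ?_⟩
    change fac (w'' (Submodule.Quotient.mk (u x))) = _
    rw [← hu', hw'']
    rfl

end Groth.Agent.S5827
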