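import Groth.Statements.S5828
import Mathlib.Tactic.LinearCombination
import Mathlib.Tactic.Ring
import Mathlib.Tactic.Abel

set_option autoImplicit false
universe u v
open EGA41

namespace Groth.Agent.S5828

section
variable {A : Type u} {C L : Type v} [CommRing A] [CommRing C] [Algebra A C]
    [AddCommGroup L] [Module C L] (X : Exal.Ext A C L)

theorem proj_incl (z : L) : X.proj (X.incl z) = 0 := (X.isExtension.exact _).2 ⟨z, rfl⟩

theorem incl_mul_incl (z z' : L) : X.incl z * X.incl z' = 0 := by
  rw [X.isExtension.mul_incl, proj_incl, zero_smul, map_zero]

theorem smul_incl [Module A L] [IsScalarTower A C L] (a : A) (z : L) :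
    a • X.incl z = X.incl (a • z) := by
  rw [Algebra.smul_def, X.isExtension.mul_incl, AlgHom.commutes, algebraMap_smul]

/-- The shear map attached to a derivation. -/
noncomputable def shear [Module A L] [IsScalarTower A C L] (D : Derivation A C L) : X.E →ₐ[A] X.E where
  toFun x := x + X.incl (D (X.proj x))
  map_one' := by simp
  map_mul' x y := by
    rw [map_mul, Derivation.leibniz, map_add]
    have h1 : X.incl (X.proj x • D (X.proj y)) = x * X.incl (D (X.proj y)) :=
      (X.isExtension.mul_incl _ _).symm
    have h2 : X.incl (X.proj y • D (X.proj x)) = y * X.incl (D (X.proj x)) :=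
      (X.isExtension.mul_incl _ _).symm
    rw [h1, h2]
    have h3 := incl_mul_incl X (D (X.proj x)) (D (X.proj y))
    linear_combination (-1 : X.E) * h3
  map_zero' := by simp
  map_add' x y := by
    rw [map_add, map_add, map_add]; abel
  commutes' a := by
    rw [AlgHom.commutes, Derivation.map_algebraMap, map_zero, add_zero]

theorem shear_apply [Module A L] [IsScalarTower A C L] (D : Derivation A C L) (x : X.E) :
    shear X D x = x + X.incl (D (X.proj x)) := rfl

theorem shear_comp_neg [Module A L] [IsScalarTower A C L] (D : Derivation A C L) (x : X.E) :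
    shear X (-D) (shear X D x) = x := by
  rw [shear_apply, shear_apply, map_add, proj_incl, add_zero]
  simp

end

/-- Commutative case. For an A-extension X of C by a C-module L, with middle ring E, projection p and
inclusion i, the A-derivations D : C → L and the self-equivalences of X correspond under D ↦ (x ↦ x
+ i (D (p x))): every derivation defines a self-equivalence with this formula, and every
self-equivalence is of this form for exactly one derivation. (Bijection of sets; the published
statement also records compatibility with the group laws.) -/
theorem result {A : Type u} {C L : Type v} [CommRing A] [CommRing C] [Algebra A C]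
    [AddCommGroup L] [Module C L] [Module A L] [IsScalarTower A C L] (X : Exal.Ext A C L) :
    (∀ D : Derivation A C L, ∃ e : X.Equiv X, ∀ x : X.E, e.toAlgEquiv x = x + X.incl (D (X.proj x))) ∧
      ∀ e : X.Equiv X, ∃! D : Derivation A C L, ∀ x : X.E, e.toAlgEquiv x = x + X.incl (D (X.proj x)) := by
  constructor
  · intro D
    refine ⟨{ toAlgEquiv := AlgEquiv.ofAlgHom (shear X D) (shear X (-D)) ?_ ?_
              proj_apply := ?_
              apply_incl := ?_ }, fun x => rfl⟩
    · ext x
      have := shear_comp_neg X (-D) x
      rw [neg_neg] at this
      exact this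
    · ext x
      exact shear_comp_neg X D x
    · intro x
      change X.proj (shear X D x) = X.proj x
      rw [shear_apply, map_add, proj_incl, add_zero]
    · intro z
      change shear X D (X.incl z) = X.incl z
      rw [shear_apply, proj_incl, map_zero, map_zero, add_zero]
  · intro e
    -- the difference `e x - x` lies in the kernel
    have hker : ∀ x : X.E, X.proj (e.toAlgEquiv x - x) = 0 := by
      intro x; rw [map_sub, e.proj_apply, sub_self]
    -- it only depends on `proj x`
    have hwd : ∀ x x' : X.E, X.proj x = X.proj x' → e.toAlgEquiv x - x = e.toAlgEquiv x' - x' := by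
      intro x x' h
      have h0 : X.proj (x - x') = 0 := by rw [map_sub, h, sub_self]
      obtain ⟨z, hz⟩ := (X.isExtension.exact _).1 h0
      have : e.toAlgEquiv (x - x') = x - x' := by rw [← hz, e.apply_incl]
      rw [map_sub] at this
      linear_combination this
    -- choose a set-theoretic section of `proj`
    choose σ hσ using X.isExtension.proj_surjective
    let δ : C → L := fun c => X.kerLift (e.toAlgEquiv (σ c) - σ c) (hker _)
    have hδ : ∀ x : X.E, X.incl (δ (X.proj x)) = e.toAlgEquiv x - x := by
      intro x
      change X.incl (X.kerLift _ _) = _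
      rw [Exal.Ext.incl_kerLift]
      exact hwd _ _ (hσ _)
    have hδ' : ∀ c : C, X.incl (δ c) = e.toAlgEquiv (σ c) - σ c := fun c =>
      Exal.Ext.incl_kerLift _ _ _
    have hδx : ∀ (x : X.E) (c : C), X.proj x = c → X.incl (δ c) = e.toAlgEquiv x - x := by
      intro x c h; rw [← h, hδ]
    have hinj := X.isExtension.incl_injective
    let δl : C →ₗ[A] L :=
      { toFun := δ
        map_add' := fun c c' => by
          apply hinj
          rw [map_add, hδx (σ c + σ c') (c + c') (by rw [map_add, hσ, hσ]), hδ' c, hδ' c', map_add]
          abel
        map_smul' := fun a c => by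
          apply hinj
          rw [RingHom.id_apply, ← smul_incl, hδx (a • σ c) (a • c) (by rw [map_smul, hσ]), hδ' c,
            map_smul, smul_sub] }
    have hleib : ∀ c c' : C, δ (c * c') = c • δ c' + c' • δ c := by
      intro c c'
      apply hinj
      rw [map_add, hδx (σ c * σ c') (c * c') (by rw [map_mul, hσ, hσ])]
      have h1 : X.incl (c • δ c') = σ c * X.incl (δ c') := by
        rw [X.isExtension.mul_incl, hσ]
      have h2 : X.incl (c' • δ c) = σ c' * X.incl (δ c) := by
        rw [X.isExtension.mul_incl, hσ]
      rw [h1, h2, hδ', hδ', map_mul]
      have h3 : (e.toAlgEquiv (σ c) - σ c) * (e.toAlgEquiv (σ c') - σ c') = 0 := by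
        rw [← hδ', ← hδ', incl_mul_incl]
      linear_combination h3
    refine ⟨Derivation.mk' δl hleib, fun x => ?_, fun D' hD' => ?_⟩
    · change e.toAlgEquiv x = x + X.incl (δ (X.proj x))
      rw [hδ]; abel
    · ext c
      apply hinj
      change X.incl (D' c) = X.incl (δ c)
      rw [hδ' c, hD' (σ c), hσ]
      abel

end Groth.Agent.S5828
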