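import Groth.Statements.S5830
import Mathlib.RingTheory.Smooth.Basic
import Mathlib.Tactic.LinearCombination
import Mathlib.Tactic.Ring
import Mathlib.Tactic.Abel
import Mathlib.Tactic.Module

set_option autoImplicit false
universe u v
open EGA41

namespace Groth.Agent.S5830

section Tw

variable {A : Type u} {B : Type v} [CommRing A] [CommRing B]
    [Algebra A B] {L : Type v} [AddCommGroup L] [Module B L] [Module A L]
    [IsScalarTower A B L] (f : B →ₗ[A] B →ₗ[A] L) (hsymm : ∀ x y : B, f x y = f y x)
    (hcoc : ∀ x y z : B, f (x * y) z + z • f x y = x • f y z + f x (y * z))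

set_option linter.unusedSectionVars false

/-- The twisted product `B × L` with multiplication `(x, z)(y, z') = (xy, x z' + y z + f x y)`. -/
@[nolint unusedArguments]
def Tw (_hsymm : ∀ x y : B, f x y = f y x)
    (_hcoc : ∀ x y z : B, f (x * y) z + z • f x y = x • f y z + f x (y * z)) : Type v := B × L

include hcoc in
theorem f_one (q : B) : f 1 q = q • f 1 1 := by
  have := hcoc 1 1 q
  rw [one_mul, one_mul, one_smul] at this
  exact (add_left_cancel this).symm

instance : AddCommGroup (Tw f hsymm hcoc) := inferInstanceAs (AddCommGroup (B × L))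

instance : Mul (Tw f hsymm hcoc) := ⟨fun p q => (p.1 * q.1, p.1 • q.2 + q.1 • p.2 + f p.1 q.1)⟩
instance : One (Tw f hsymm hcoc) := ⟨((1 : B), -f 1 1)⟩

theorem tw_mul_fst (p q : Tw f hsymm hcoc) : (p * q).1 = p.1 * q.1 := rfl
theorem tw_mul_snd (p q : Tw f hsymm hcoc) : (p * q).2 = p.1 • q.2 + q.1 • p.2 + f p.1 q.1 := rfl
theorem tw_one_fst : (1 : Tw f hsymm hcoc).1 = 1 := rfl
theorem tw_one_snd : (1 : Tw f hsymm hcoc).2 = -f 1 1 := rfl
theorem tw_add_fst (p q : Tw f hsymm hcoc) : (p + q).1 = p.1 + q.1 := rfl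
theorem tw_add_snd (p q : Tw f hsymm hcoc) : (p + q).2 = p.2 + q.2 := rfl
theorem tw_zero_fst : (0 : Tw f hsymm hcoc).1 = 0 := rfl
theorem tw_zero_snd : (0 : Tw f hsymm hcoc).2 = 0 := rfl

theorem tw_ext {p q : Tw f hsymm hcoc} (h1 : p.1 = q.1) (h2 : p.2 = q.2) : p = q := Prod.ext h1 h2

theorem tw_mul_comm (p q : Tw f hsymm hcoc) : p * q = q * p := by
  apply tw_ext
  · rw [tw_mul_fst, tw_mul_fst, mul_comm]
  · rw [tw_mul_snd, tw_mul_snd, hsymm p.1 q.1]; abel

theorem tw_one_mul (q : Tw f hsymm hcoc) : 1 * q = q := by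
  apply tw_ext
  · rw [tw_mul_fst, tw_one_fst, one_mul]
  · have h := f_one f hcoc q.1
    rw [tw_mul_snd, tw_one_fst, tw_one_snd, one_smul, smul_neg, h]; abel

theorem tw_mul_assoc (p q r : Tw f hsymm hcoc) : p * q * r = p * (q * r) := by
  apply tw_ext
  · simp only [tw_mul_fst, mul_assoc]
  · simp only [tw_mul_fst, tw_mul_snd, smul_add, mul_smul]
    have := hcoc p.1 q.1 r.1
    rw [smul_comm r.1 p.1 q.2, smul_comm r.1 q.1 p.2]
    calc p.1 • q.1 • r.2 + (p.1 • r.1 • q.2 + q.1 • r.1 • p.2 + r.1 • f p.1 q.1) + f (p.1 * q.1) r.1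
        = p.1 • q.1 • r.2 + p.1 • r.1 • q.2 + q.1 • r.1 • p.2 + (f (p.1 * q.1) r.1 + r.1 • f p.1 q.1) := by
          abel
      _ = p.1 • q.1 • r.2 + p.1 • r.1 • q.2 + q.1 • r.1 • p.2 + (p.1 • f q.1 r.1 + f p.1 (q.1 * r.1)) := by
          rw [this]
      _ = _ := by abel

theorem tw_left_distrib (p q r : Tw f hsymm hcoc) : p * (q + r) = p * q + p * r := by
  apply tw_ext
  · simp only [tw_mul_fst, tw_add_fst, mul_add]
  · simp only [tw_mul_fst, tw_mul_snd, tw_add_fst, tw_add_snd, smul_add, add_smul, map_add]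
    abel

instance : CommRing (Tw f hsymm hcoc) :=
  { (inferInstance : AddCommGroup (Tw f hsymm hcoc)), (inferInstance : Mul (Tw f hsymm hcoc)),
    (inferInstance : One (Tw f hsymm hcoc)) with
    left_distrib := tw_left_distrib f hsymm hcoc
    right_distrib := fun p q r => by
      rw [tw_mul_comm f hsymm hcoc (p + q) r, tw_left_distrib, tw_mul_comm f hsymm hcoc r p,
        tw_mul_comm f hsymm hcoc r q]
    zero_mul := fun p => by
      apply tw_ext
      · rw [tw_mul_fst, tw_zero_fst, zero_mul]
      · rw [tw_mul_snd, tw_zero_fst, tw_zero_snd, zero_smul, smul_zero, map_zero,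
          LinearMap.zero_apply]; simp
    mul_zero := fun p => by
      apply tw_ext
      · rw [tw_mul_fst, tw_zero_fst, mul_zero]
      · rw [tw_mul_snd, tw_zero_fst, tw_zero_snd, zero_smul, smul_zero, map_zero]; simp
    mul_assoc := tw_mul_assoc f hsymm hcoc
    one_mul := tw_one_mul f hsymm hcoc
    mul_one := fun p => by rw [tw_mul_comm, tw_one_mul]
    mul_comm := tw_mul_comm f hsymm hcoc }

/-- The structure map `A → Tw`. -/
def twAlgebraMap : A →+* Tw f hsymm hcoc where
  toFun a := ((algebraMap A B a, -(a • f 1 1)) : B × L)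
  map_one' := by
    apply tw_ext
    · change algebraMap A B 1 = 1
      exact map_one _
    · change -((1 : A) • f 1 1) = -f 1 1
      rw [one_smul]
  map_mul' a a' := by
    apply tw_ext
    · change algebraMap A B (a * a') = algebraMap A B a * algebraMap A B a'
      exact map_mul _ _ _
    · change -((a * a') • f 1 1) = algebraMap A B a • (-(a' • f 1 1)) +
        algebraMap A B a' • (-(a • f 1 1)) + f (algebraMap A B a) (algebraMap A B a')
      rw [Algebra.algebraMap_eq_smul_one, Algebra.algebraMap_eq_smul_one, map_smul, map_smul,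
        LinearMap.smul_apply, smul_assoc, smul_assoc, one_smul, one_smul, smul_neg, smul_neg,
        mul_smul, smul_comm a' a]
      abel
  map_zero' := by
    apply tw_ext
    · change algebraMap A B 0 = 0
      exact map_zero _
    · change -((0 : A) • f 1 1) = 0
      rw [zero_smul, neg_zero]
  map_add' a a' := by
    apply tw_ext
    · change algebraMap A B (a + a') = algebraMap A B a + algebraMap A B a'
      exact map_add _ _ _
    · change -((a + a') • f 1 1) = -(a • f 1 1) + -(a' • f 1 1)
      rw [add_smul, neg_add]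

instance : Algebra A (Tw f hsymm hcoc) := (twAlgebraMap f hsymm hcoc).toAlgebra

theorem tw_algebraMap_fst (a : A) : (algebraMap A (Tw f hsymm hcoc) a).1 = algebraMap A B a := rfl
theorem tw_algebraMap_snd (a : A) : (algebraMap A (Tw f hsymm hcoc) a).2 = -(a • f 1 1) := rfl

theorem tw_smul_snd (a : A) (p : Tw f hsymm hcoc) : (a • p).2 = a • p.2 := by
  have h := f_one f hcoc p.1
  rw [Algebra.smul_def, tw_mul_snd, tw_algebraMap_fst, tw_algebraMap_snd,
    Algebra.algebraMap_eq_smul_one, map_smul, LinearMap.smul_apply, h, smul_assoc,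
    one_smul, smul_neg, smul_comm p.1 a]
  abel

/-- The projection to `B`. -/
def twProj : Tw f hsymm hcoc →ₐ[A] B where
  toFun p := p.1
  map_one' := rfl
  map_mul' _ _ := rfl
  map_zero' := rfl
  map_add' _ _ := rfl
  commutes' _ := rfl

end Tw

/-- Discrete case. If B is a formally smooth A-algebra then, for every B-module L, every A-bilinear
symmetric Hochschild 2-cocycle f : B × B → L (f(xy, z) + z f(x, y) = x f(y, z) + f(x, yz)) is a
Hochschild 2-coboundary: f(x, y) = x g(y) − g(xy) + y g(x) for some A-linear g : B → L. (The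
published statement is for topological algebras and open ideals; this row is its discrete case.) -/
theorem result {A : Type u} {B : Type v} [CommRing A] [CommRing B]
    [Algebra A B] [Algebra.FormallySmooth A B] {L : Type v} [AddCommGroup L] [Module B L] [Module A L]
    [IsScalarTower A B L] (f : B →ₗ[A] B →ₗ[A] L) (hsymm : ∀ x y : B, f x y = f y x)
    (hcoc : ∀ x y z : B, f (x * y) z + z • f x y = x • f y z + f x (y * z)) :
    ∃ g : B →ₗ[A] L, ∀ x y : B, f x y = x • g y - g (x * y) + y • g x := by
  let q : Tw f hsymm hcoc →ₐ[A] B := twProj f hsymm hcoc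
  have hq : Function.Surjective q := fun b => ⟨((b, 0) : B × L), rfl⟩
  have hnil : IsNilpotent (RingHom.ker (q : Tw f hsymm hcoc →+* B)) := by
    refine ⟨2, ?_⟩
    rw [Ideal.zero_eq_bot, eq_bot_iff, pow_two, Ideal.mul_le]
    intro x hx y hy
    have hx' : x.1 = 0 := hx
    have hy' : y.1 = 0 := hy
    rw [Ideal.mem_bot]
    apply tw_ext
    · rw [tw_mul_fst, hx', zero_mul]; rfl
    · rw [tw_mul_snd, hx', hy', zero_smul, zero_smul, map_zero]
      simp only [add_zero]; rfl
  let s := Algebra.FormallySmooth.liftOfSurjective (AlgHom.id A B) q hq hnil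
  have hs : ∀ b, (s b).1 = b := fun b =>
    Algebra.FormallySmooth.liftOfSurjective_apply (AlgHom.id A B) q hq hnil b
  let hl : B →ₗ[A] L :=
    { toFun := fun b => (s b).2
      map_add' := fun b b' => by rw [map_add, tw_add_snd]
      map_smul' := fun a b => by rw [map_smul, tw_smul_snd, RingHom.id_apply] }
  have hhl : ∀ b, hl b = (s b).2 := fun b => rfl
  refine ⟨-hl, fun x y => ?_⟩
  have h1 : (s (x * y)).2 = (s x * s y).2 := by rw [map_mul]
  rw [tw_mul_snd, hs, hs] at h1
  simp only [LinearMap.neg_apply, hhl, smul_neg]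
  rw [h1]
  abel

end Groth.Agent.S5830
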