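import Groth.Statements.S5831
import Groth.Agent.Helper1.Exal
import Groth.Agent.S5815

set_option autoImplicit false
universe u
open EGA41

namespace Groth.Agent.S5831

open Groth.Agent.Helper1.ExalAux

/-- Discrete case. Let B be an A-algebra which is a projective A-module (A and B in one universe). If
for every B-module L in that universe every A-bilinear symmetric Hochschild 2-cocycle B × B → L is a
coboundary, then B is formally smooth over A. (The published statement assumes B formally projective
as a topological A-module; for discrete rings this is projectivity.) -/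
theorem result {A B : Type u} [CommRing A]
    [CommRing B] [Algebra A B] [Module.Projective A B]
    (h : ∀ (L : Type u) [AddCommGroup L] [Module B L] [Module A L] [IsScalarTower A B L]
      (f : B →ₗ[A] B →ₗ[A] L), (∀ x y : B, f x y = f y x) →
        (∀ x y z : B, f (x * y) z + z • f x y = x • f y z + f x (y * z)) →
          ∃ g : B →ₗ[A] L, ∀ x y : B, f x y = x • g y - g (x * y) + y • g x) :
    Algebra.FormallySmooth A B := by
  rw [Groth.Agent.S5815.result]
  intro L _ _ X
  let _ : Module A L := Module.compHom L (algebraMap A B)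
  have : IsScalarTower A B L := ⟨fun a b z => by
    change (a • b) • z = (algebraMap A B a) • (b • z)
    rw [Algebra.smul_def, mul_smul]⟩
  obtain ⟨σ, hσ⟩ := Module.projective_lifting_property X.proj.toLinearMap LinearMap.id
    X.isExtension.proj_surjective
  have hσ' : ∀ b, X.proj (σ b) = b := fun b => LinearMap.congr_fun hσ b
  have hinj := X.isExtension.incl_injective
  have hk : ∀ x y : B, X.proj (σ x * σ y - σ (x * y)) = 0 := by
    intro x y; rw [map_sub, map_mul, hσ', hσ', hσ', sub_self]
  let φ : B → B → L := fun x y => X.kerLift _ (hk x y)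
  have hφ : ∀ x y, X.incl (φ x y) = σ x * σ y - σ (x * y) := fun x y =>
    Exal.Ext.incl_kerLift _ _ _
  let f : B →ₗ[A] B →ₗ[A] L := LinearMap.mk₂ A φ
    (fun x x' y => by
      apply hinj; rw [map_add, hφ, hφ, hφ, map_add, add_mul, add_mul, map_add]; abel)
    (fun a x y => by
      apply hinj; rw [← smul_incl, hφ, hφ, map_smul, smul_mul_assoc, smul_mul_assoc, map_smul,
        smul_sub])
    (fun x y y' => by
      apply hinj; rw [map_add, hφ, hφ, hφ, map_add, mul_add, mul_add, map_add]; abel)
    (fun a x y => by
      apply hinj; rw [← smul_incl, hφ, hφ, map_smul, mul_smul_comm, mul_smul_comm, map_smul,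
        smul_sub])
  have hf : ∀ x y, f x y = φ x y := fun x y => rfl
  obtain ⟨g, hg⟩ := h L f
    (fun x y => by
      apply hinj; rw [hf, hf, hφ, hφ, mul_comm (σ x), mul_comm x])
    (fun x y z => by
      apply hinj
      rw [map_add, map_add, hf, hf, hf, hf, incl_smul X z (σ z) (hσ' z),
        incl_smul X x (σ x) (hσ' x), hφ, hφ, hφ, hφ, mul_assoc x y z]
      ring)
  let inclₗ : L →ₗ[A] X.E :=
    { toFun := X.incl
      map_add' := map_add X.incl
      map_smul' := fun a z => (smul_incl X a z).symm }
  let sl : B →ₗ[A] X.E := σ - inclₗ ∘ₗ g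
  have hsl : ∀ b, sl b = σ b - X.incl (g b) := fun b => rfl
  have hmul : ∀ x y, sl (x * y) = sl x * sl y := by
    intro x y
    rw [hsl, hsl, hsl]
    have h1 := hφ x y
    rw [← hf, hg, map_add, map_sub, incl_smul X x (σ x) (hσ' x), incl_smul X y (σ y) (hσ' y)] at h1
    have h2 := incl_mul_incl X (g x) (g y)
    linear_combination h1 - h2
  have hproj : ∀ b, X.proj (sl b) = b := by
    intro b; rw [hsl, map_sub, hσ', proj_incl, sub_zero]
  have hone : sl 1 = 1 := by
    have h0 : X.proj (sl 1 - 1) = 0 := by rw [map_sub, hproj, map_one, sub_self]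
    obtain ⟨z, hz⟩ := (X.isExtension.exact _).1 h0
    have h1 : sl 1 = 1 + X.incl z := by rw [hz]; ring
    have h2 := hmul 1 1
    rw [mul_one, h1] at h2
    have h3 := incl_mul_incl X z z
    have h4 : X.incl z = 0 := by linear_combination -h2 - h3
    rw [h1, h4, add_zero]
  exact ⟨AlgHom.ofLinearMap sl hone hmul, hproj⟩

end Groth.Agent.S5831
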