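import Groth.Statements.S5832
import Groth.Agent.Helper1.Exal

set_option autoImplicit false
universe u u' v
open EGA41

namespace Groth.Agent.S5832

attribute [local instance] Exal.opModule Exal.isCentralScalar_opModule

open Groth.Agent.Helper1.ExalAux

/-- Surjectivity at the end of the sequence. For ring maps Λ → A → B → C and a C-module L, every
Λ-trivial A-extension of B by L is equivalent to the inverse image along B → C of a Λ-trivial
A-extension of C by L. (Exactness at the other places is that of the six-term derivation-extension
sequence restricted to Λ-trivial classes.) -/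
theorem result {Λ : Type u} {A : Type u'} {B C L : Type v}
    [CommRing Λ] [CommRing A] [CommRing B] [CommRing C] [Algebra Λ A] [Algebra Λ B] [Algebra Λ C]
    [Algebra A B] [Algebra B C] [Algebra A C] [IsScalarTower Λ A B] [IsScalarTower Λ A C] [IsScalarTower A B C]
    [AddCommGroup L] [Module C L] [Module B L] [IsScalarTower B C L]
    (Y : Exal.Ext A B L) (hY : Y.IsTrivialOver Λ) :
    ∃ X : Exal.Ext A C L, X.IsTrivialOver Λ ∧ Nonempty ((X.pullback B).Equiv Y) := by
  obtain ⟨s, hs⟩ := hY
  let s' : B → Y.E := fun b => s b
  have hs' : ∀ b, Y.proj (s' b) = b := hs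
  have hs_add : ∀ b b', s' (b + b') = s' b + s' b' := fun b b' => map_add s b b'
  have hs_mul : ∀ b b', s' (b * b') = s' b * s' b' := fun b b' => map_mul s b b'
  have hs_one : s' 1 = 1 := map_one s
  have hs_zero : s' 0 = 0 := map_zero s
  have hs_alg : ∀ l : Λ, s' (algebraMap Λ B l) = algebraMap A Y.E (algebraMap Λ A l) :=
    fun l => s.commutes l
  have hinj := Y.isExtension.incl_injective
  have hk : ∀ a : A, Y.proj (algebraMap A Y.E a - s' (algebraMap A B a)) = 0 := by
    intro a; rw [map_sub, hs', AlgHom.commutes, sub_self]
  let δ : A → L := fun a => Y.kerLift _ (hk a)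
  have hδ : ∀ a, Y.incl (δ a) = algebraMap A Y.E a - s' (algebraMap A B a) := fun a =>
    Exal.Ext.incl_kerLift _ _ _
  have hδ_add : ∀ a a', δ (a + a') = δ a + δ a' := by
    intro a a'
    apply hinj
    rw [map_add, hδ, hδ, hδ, map_add, map_add, hs_add]; abel
  have hδ_zero : δ 0 = 0 := by
    apply hinj
    rw [hδ, map_zero, map_zero, map_zero, hs_zero, sub_zero]
  have hδ_one : δ 1 = 0 := by
    apply hinj
    rw [hδ, map_one, map_one, map_zero, hs_one, sub_self]
  have hleib : ∀ a a' : A, δ (a * a') = algebraMap A C a • δ a' + algebraMap A C a' • δ a := by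
    intro a a'
    apply hinj
    rw [map_add, hδ]
    have h1 : Y.incl (algebraMap A C a • δ a') = algebraMap A Y.E a * Y.incl (δ a') := by
      rw [Y.isExtension.mul_incl, AlgHom.commutes, IsScalarTower.algebraMap_apply A B C,
        algebraMap_smul]
    have h2 : Y.incl (algebraMap A C a' • δ a) = s' (algebraMap A B a') * Y.incl (δ a) := by
      rw [Y.isExtension.mul_incl, hs', IsScalarTower.algebraMap_apply A B C, algebraMap_smul]
    rw [h1, h2, hδ, hδ, map_mul, map_mul, hs_mul]
    ring
  have hδ_alg : ∀ l : Λ, δ (algebraMap Λ A l) = 0 := by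
    intro l
    apply hinj
    rw [hδ, map_zero, ← IsScalarTower.algebraMap_apply Λ A B, hs_alg, sub_self]
  -- the ring map `A → C ⊕ L`
  let ρ : A →+* TrivSqZeroExt C L :=
    { toFun := fun a => TrivSqZeroExt.inl (algebraMap A C a) + TrivSqZeroExt.inr (δ a)
      map_one' := by
        rw [map_one, hδ_one, TrivSqZeroExt.inr_zero, add_zero, TrivSqZeroExt.inl_one]
      map_mul' := fun a a' => by
        apply TrivSqZeroExt.ext
        · simp
        · simp only [TrivSqZeroExt.snd_add, TrivSqZeroExt.snd_inl, TrivSqZeroExt.snd_inr, zero_add,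
            TrivSqZeroExt.snd_mul, TrivSqZeroExt.fst_add, TrivSqZeroExt.fst_inl,
            TrivSqZeroExt.fst_inr, add_zero, hleib, op_smul_eq_smul]
      map_zero' := by
        rw [map_zero, hδ_zero, TrivSqZeroExt.inl_zero, TrivSqZeroExt.inr_zero, add_zero]
      map_add' := fun a a' => by
        rw [map_add, hδ_add, TrivSqZeroExt.inl_add, TrivSqZeroExt.inr_add]
        abel }
  have hρ : ∀ a, ρ a = TrivSqZeroExt.inl (algebraMap A C a) + TrivSqZeroExt.inr (δ a) := fun a => rfl
  let algX : Algebra A (TrivSqZeroExt C L) := ρ.toAlgebra
  let X : Exal.Ext A C L :=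
    { E := TrivSqZeroExt C L
      commRing := inferInstance
      algebra := algX
      proj :=
        { toFun := fun x => TrivSqZeroExt.fst x
          map_one' := TrivSqZeroExt.fst_one
          map_mul' := TrivSqZeroExt.fst_mul
          map_zero' := TrivSqZeroExt.fst_zero
          map_add' := TrivSqZeroExt.fst_add
          commutes' := fun a => by
            change TrivSqZeroExt.fst (ρ a) = _
            rw [hρ, TrivSqZeroExt.fst_add, TrivSqZeroExt.fst_inl, TrivSqZeroExt.fst_inr, add_zero] }
      incl := (TrivSqZeroExt.inrHom C L).toAddMonoidHom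
      isExtension :=
        { proj_surjective := fun c => ⟨TrivSqZeroExt.inl c, rfl⟩
          incl_injective := TrivSqZeroExt.inr_injective
          exact := fun x => by
            constructor
            · intro hx
              exact ⟨TrivSqZeroExt.snd x, TrivSqZeroExt.ext hx.symm rfl⟩
            · rintro ⟨z, rfl⟩
              rfl
          mul_incl := fun x z => by
            refine TrivSqZeroExt.ext ?_ ?_
            · change TrivSqZeroExt.fst x * 0 = 0
              exact mul_zero _
            · change TrivSqZeroExt.fst x • z + MulOpposite.op (0 : C) • TrivSqZeroExt.snd x =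
                TrivSqZeroExt.fst x • z
              rw [MulOpposite.op_zero, zero_smul, add_zero] } }
  have hXalg : ∀ a : A, (algebraMap A X.E a : TrivSqZeroExt C L) = ρ a := fun a => rfl
  have hXproj : ∀ x : TrivSqZeroExt C L, X.proj x = TrivSqZeroExt.fst x := fun x => rfl
  have hXincl : ∀ z : L, (X.incl z : TrivSqZeroExt C L) = TrivSqZeroExt.inr z := fun z => rfl
  refine ⟨X, ?_, ?_⟩
  · -- `X` is `Λ`-trivial: the section `c ↦ (c, 0)`
    refine ⟨{ toFun := fun c => (TrivSqZeroExt.inl c : TrivSqZeroExt C L)
              map_one' := TrivSqZeroExt.inl_one _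
              map_mul' := fun c c' => TrivSqZeroExt.inl_mul _ c c'
              map_zero' := TrivSqZeroExt.inl_zero _
              map_add' := fun c c' => TrivSqZeroExt.inl_add _ c c'
              commutes' := ?_ }, ?_⟩
    · intro l
      change (TrivSqZeroExt.inl (algebraMap Λ C l) : TrivSqZeroExt C L) = ρ (algebraMap Λ A l)
      rw [hρ, hδ_alg, TrivSqZeroExt.inr_zero, add_zero, ← IsScalarTower.algebraMap_apply]
    · intro c
      rfl
  · -- the comparison map from the pullback to `Y`
    have hmemfib : ∀ t : X.fiberProd B,
        TrivSqZeroExt.fst ((t : X.E × B).1 : TrivSqZeroExt C L) = algebraMap B C (t : X.E × B).2 := by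
      intro t
      exact t.2
    let φ : (X.pullback B).E →ₐ[A] Y.E :=
      { toFun := fun (t : X.fiberProd B) => s' ((t : X.E × B).2) +
          Y.incl (TrivSqZeroExt.snd ((t : X.E × B).1 : TrivSqZeroExt C L))
        map_one' := by
          change s' (1 : B) + Y.incl (TrivSqZeroExt.snd (1 : TrivSqZeroExt C L)) = 1
          rw [TrivSqZeroExt.snd_one, hs_one, map_zero, add_zero]
        map_mul' := fun t t' => by
          have key : ∀ (x x' : TrivSqZeroExt C L) (b b' : B),
              TrivSqZeroExt.fst x = algebraMap B C b → TrivSqZeroExt.fst x' = algebraMap B C b' →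
              s' (b * b') + Y.incl (TrivSqZeroExt.snd (x * x')) =
              (s' b + Y.incl (TrivSqZeroExt.snd x)) * (s' b' + Y.incl (TrivSqZeroExt.snd x')) := by
            intro x x' b b' hx hx'
            rw [TrivSqZeroExt.snd_mul, hs_mul, map_add, hx]
            have h1 : Y.incl (algebraMap B C b • TrivSqZeroExt.snd x') =
                s' b * Y.incl (TrivSqZeroExt.snd x') := by
              rw [Y.isExtension.mul_incl, hs', algebraMap_smul]
            have h2 : Y.incl (MulOpposite.op (TrivSqZeroExt.fst x') • TrivSqZeroExt.snd x) =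
                s' b' * Y.incl (TrivSqZeroExt.snd x) := by
              rw [Y.isExtension.mul_incl, hs', hx']
              change Y.incl (algebraMap B C b' • TrivSqZeroExt.snd x) = _
              rw [algebraMap_smul]
            rw [h1, h2]
            have h3 := incl_mul_incl Y (TrivSqZeroExt.snd x) (TrivSqZeroExt.snd x')
            linear_combination (-1 : Y.E) * h3
          exact key _ _ _ _ (hmemfib t) (hmemfib t')
        map_zero' := by
          change s' (0 : B) + Y.incl (TrivSqZeroExt.snd (0 : TrivSqZeroExt C L)) = 0
          rw [TrivSqZeroExt.snd_zero, hs_zero, map_zero, add_zero]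
        map_add' := fun t t' => by
          have key : ∀ (x x' : TrivSqZeroExt C L) (b b' : B),
              s' (b + b') + Y.incl (TrivSqZeroExt.snd (x + x')) =
              (s' b + Y.incl (TrivSqZeroExt.snd x)) + (s' b' + Y.incl (TrivSqZeroExt.snd x')) := by
            intro x x' b b'
            rw [TrivSqZeroExt.snd_add, hs_add, map_add]; abel
          exact key _ _ _ _
        commutes' := fun a => by
          change s' (algebraMap A B a) + Y.incl (TrivSqZeroExt.snd (ρ a)) = _
          rw [hρ]
          simp only [TrivSqZeroExt.snd_add, TrivSqZeroExt.snd_inl, TrivSqZeroExt.snd_inr, zero_add]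
          rw [hδ]; abel }
    have hφ : ∀ t : X.fiberProd B,
        φ t = s' ((t : X.E × B).2) +
          Y.incl (TrivSqZeroExt.snd ((t : X.E × B).1 : TrivSqZeroExt C L)) := fun t => rfl
    have hbij : Function.Bijective φ := by
      constructor
      · rw [injective_iff_map_eq_zero]
        intro (t : X.fiberProd B) ht
        rw [hφ] at ht
        have h1 : (t : X.E × B).2 = 0 := by
          have := congrArg Y.proj ht
          rwa [map_add, hs', proj_incl, add_zero, map_zero] at this
        rw [h1, hs_zero, zero_add] at ht
        have h2 : TrivSqZeroExt.snd ((t : X.E × B).1 : TrivSqZeroExt C L) = 0 :=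
          hinj (ht.trans (map_zero _).symm)
        have h3 : TrivSqZeroExt.fst ((t : X.E × B).1 : TrivSqZeroExt C L) = 0 := by
          rw [hmemfib, h1, map_zero]
        apply Subtype.ext
        apply Prod.ext
        · exact TrivSqZeroExt.ext h3 h2
        · exact h1
      · intro y
        have hy : Y.proj (y - s' (Y.proj y)) = 0 := by rw [map_sub, hs', sub_self]
        refine ⟨⟨((TrivSqZeroExt.inl (algebraMap B C (Y.proj y)) +
          TrivSqZeroExt.inr (Y.kerLift _ hy) : TrivSqZeroExt C L), Y.proj y), ?_⟩, ?_⟩
        · change TrivSqZeroExt.fst (_ : TrivSqZeroExt C L) = algebraMap B C (Y.proj y)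
          simp
        · refine (hφ _).trans ?_
          simp only [TrivSqZeroExt.snd_add, TrivSqZeroExt.snd_inl, TrivSqZeroExt.snd_inr, zero_add]
          rw [Exal.Ext.incl_kerLift]; abel
    exact ⟨{ toAlgEquiv := AlgEquiv.ofBijective φ hbij
             proj_apply := fun (t : X.fiberProd B) => by
               change Y.proj (φ t) = (t : X.E × B).2
               rw [hφ, map_add, hs', proj_incl, add_zero]
             apply_incl := fun z => by
               change φ ((X.pullback B).incl z) = Y.incl z
               refine (hφ _).trans ?_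
               change s' (0 : B) + Y.incl (TrivSqZeroExt.snd (TrivSqZeroExt.inr z : TrivSqZeroExt C L)) = _
               rw [TrivSqZeroExt.snd_inr, hs_zero, zero_add] }⟩

end Groth.Agent.S5832
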