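import Groth.Statements.S5849
import Groth.Agent.H10.ZClosCol
import Mathlib

set_option autoImplicit false
universe u
open ZClos

namespace Groth.Agent.S5849

open CategoryTheory CategoryTheory.Limits AlgebraicGeometry in
/-- For a locally Noetherian scheme X, a subset Z of X stable under specialization and an arbitrary
O_X-module F, the kernel and cokernel of ρ_{X/Z} : F → H⁰_{X/Z}(F) have support inside Z: at every
point x outside Z the map induced by ρ_{X/Z} on stalks is bijective. -/
theorem result (X : Scheme.{u}) [IsLocallyNoetherian X] (Z : Set X)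
    (hZ : StableUnderSpecialization Z) (F : X.Modules) (x : X) (hx : x ∉ Z) :
    ZClos.IsZClosedAt Z F x := by
  have hxT : ∀ T : ZClos.Cl Z, x ∈ T.U := fun T hT => hx (T.2 hT)
  have key : ∀ (T : ZClos.Cl Z) (a : ToType (F.presheaf.stalk x)),
      ZClos.rhoStalk Z F x a =
        (TopCat.Presheaf.stalkFunctor AddCommGrpCat.{u} x).map
          (colimit.ι ((ZClos.diagram Z).obj F) T).mapPresheaf
          ((TopCat.Presheaf.stalkFunctor AddCommGrpCat.{u} x).map
            (ZClos.toDiagram Z F T).mapPresheaf a) := by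
    intro T a
    have e0 : ZClos.rhoApp Z F =
        ZClos.toDiagram Z F T ≫ colimit.ι ((ZClos.diagram Z).obj F) T := ZClos.rhoApp_eq Z F T
    have e1 := (congrArg (fun φ : F ⟶ (ZClos.H0 Z).obj F =>
      (Scheme.Modules.toPresheaf X ⋙
        TopCat.Presheaf.stalkFunctor AddCommGrpCat.{u} x).map φ) e0).trans
      ((Scheme.Modules.toPresheaf X ⋙
        TopCat.Presheaf.stalkFunctor AddCommGrpCat.{u} x).map_comp _ _)
    exact ConcreteCategory.congr_hom e1 a
  show Function.Bijective (ZClos.rhoStalk Z F x)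
  constructor
  · rw [injective_iff_map_eq_zero]
    intro a ha
    rw [key ⊥ a] at ha
    obtain ⟨T, f, hf⟩ := Groth.Agent.H10.ZClosCol.mod_stalk_inj ((ZClos.diagram Z).obj F)
      (colimit.cocone _) (colimit.isColimit _) x ⊥ _ ha
    have e2 : ZClos.toDiagram Z F ⊥ ≫ ((ZClos.diagram Z).obj F).map f =
        ZClos.toDiagram Z F T := ZClos.toDiagram_map Z F f
    have e3 := (congrArg (fun φ : F ⟶ ((ZClos.diagram Z).obj F).obj T =>
      (Scheme.Modules.toPresheaf X ⋙
        TopCat.Presheaf.stalkFunctor AddCommGrpCat.{u} x).map φ) e2).symm.trans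
      ((Scheme.Modules.toPresheaf X ⋙
        TopCat.Presheaf.stalkFunctor AddCommGrpCat.{u} x).map_comp _ _)
    have hf' : (TopCat.Presheaf.stalkFunctor AddCommGrpCat.{u} x).map
        (ZClos.toDiagram Z F T).mapPresheaf a = 0 :=
      (ConcreteCategory.congr_hom e3 a).trans hf
    exact (injective_iff_map_eq_zero _).mp
      (Groth.Agent.H10.ZClosCol.unit_stalk_bijective T.U F x (hxT T)).1 a hf'
  · intro b
    obtain ⟨T, b', hb'⟩ := Groth.Agent.H10.ZClosCol.mod_stalk_surj ((ZClos.diagram Z).obj F)
      (colimit.cocone _) (colimit.isColimit _) x b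
    obtain ⟨a, ha⟩ := (Groth.Agent.H10.ZClosCol.unit_stalk_bijective T.U F x (hxT T)).2 b'
    refine ⟨a, ?_⟩
    rw [key T a]
    refine Eq.trans ?_ hb'
    exact congrArg (fun z => (TopCat.Presheaf.stalkFunctor AddCommGrpCat.{u} x).map
      (colimit.ι ((ZClos.diagram Z).obj F) T).mapPresheaf z) ha

end Groth.Agent.S5849
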