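import Groth.Statements.S5850
import Groth.Agent.H10.ZClosCol
import Mathlib

set_option autoImplicit false
universe u
open ZClos

namespace Groth.Agent.S5850

open CategoryTheory CategoryTheory.Limits AlgebraicGeometry in
/-- For a locally Noetherian scheme X, a subset Z of X stable under specialization and an arbitrary
O_X-module F, the Z-closure H⁰_{X/Z}(F) is itself Z-closed. -/
theorem result (X : Scheme.{u}) [IsLocallyNoetherian X] (Z : Set X)
    (hZ : StableUnderSpecialization Z) (F : X.Modules) :
    ZClos.IsZClosed Z ((ZClos.H0 Z).obj F) := by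
  rw [Groth.Agent.H10.ZClosLoc.isZClosed_iff_allOpens]
  intro T A
  refine Groth.Agent.H10.ZClosLoc.bp_bijective X ((ZClos.H0 Z).obj F) T.U
    (fun W => IsAffineOpen W) (fun V x hx => Groth.Agent.H10.ZClosCol.affine_basis V x hx) ?_ A
  intro W hW
  exact Groth.Agent.H10.ZClosCol.H0_bij Z F T W (Groth.Agent.H10.ZClosCol.hc_of_affine W hW)

end Groth.Agent.S5850
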