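import Groth.Statements.S5862
import Mathlib
import Groth.Agent.H2.RadPtL

set_option autoImplicit false
universe u
open RadPt

namespace Groth.Agent.S5862

open CategoryTheory AlgebraicGeometry in
/-- Let f : X → Y and g : Y → Z be morphisms of schemes and y a point of Y. If f is radicial at y (fibre
with at most one point, purely inseparable residue field extension) and g is radicial at g(y), then
g ∘ f is radicial at g(y). Conversely, if f is surjective and g ∘ f is radicial at g(y), then f is
radicial at y and g is radicial at g(y). -/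
theorem result {X Y Z : Scheme.{u}} (f : X ⟶ Y) (g : Y ⟶ Z) (y : Y) :
    (RadPt.IsRadicialAt f y → RadPt.IsRadicialAt g (g y) → RadPt.IsRadicialAt (f ≫ g) (g y)) ∧
      (Surjective f → RadPt.IsRadicialAt (f ≫ g) (g y) →
        RadPt.IsRadicialAt f y ∧ RadPt.IsRadicialAt g (g y)) := by
  refine ⟨fun hf hg => ⟨?_, ?_⟩, fun hsurj hfg => ⟨⟨?_, ?_⟩, ⟨?_, ?_⟩⟩⟩
  · intro x x' hx hx'
    have h1 : g (f x) = g y := by rw [← Scheme.Hom.comp_apply]; exact hx
    have h2 : g (f x') = g y := by rw [← Scheme.Hom.comp_apply]; exact hx'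
    exact hf.1 x x' (hg.1 _ _ h1 rfl) (hg.1 _ _ h2 rfl)
  · intro x hx
    have h1 : g (f x) = g y := by rw [← Scheme.Hom.comp_apply]; exact hx
    have hfx : f x = y := hg.1 _ _ h1 rfl
    rw [Scheme.residueFieldMap_comp]
    exact RingHom.IsPurelyInseparable.comp (hg.2 (f x) h1) (hf.2 x hfx)
  · intro x x' hx hx'
    exact hfg.1 x x' (by rw [Scheme.Hom.comp_apply, hx]) (by rw [Scheme.Hom.comp_apply, hx'])
  · intro x hx
    have h := hfg.2 x (by rw [Scheme.Hom.comp_apply, hx])
    rw [Scheme.residueFieldMap_comp] at h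
    exact Groth.Agent.H2.RadPtL.pi_top (g.residueFieldMap (f x)).hom (f.residueFieldMap x).hom h
  · intro y1 y2 h1 h2
    obtain ⟨x1, rfl⟩ := f.surjective y1
    obtain ⟨x2, rfl⟩ := f.surjective y2
    have := hfg.1 x1 x2 (by rw [Scheme.Hom.comp_apply, h1]) (by rw [Scheme.Hom.comp_apply, h2])
    rw [this]
  · intro y1 h1
    obtain ⟨x1, rfl⟩ := f.surjective y1
    have h := hfg.2 x1 (by rw [Scheme.Hom.comp_apply, h1])
    rw [Scheme.residueFieldMap_comp] at h
    exact Groth.Agent.H2.RadPtL.pi_bot (g.residueFieldMap (f x1)).hom (f.residueFieldMap x1).hom h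

end Groth.Agent.S5862
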