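import Groth.Statements.S5870
import Groth.Agent.H10.ZClosCol
import Groth.Agent.S5849
import Mathlib

set_option autoImplicit false
universe u
open ZClos

namespace Groth.Agent.S5870

open CategoryTheory CategoryTheory.Limits AlgebraicGeometry in
/-- For a locally Noetherian scheme X, a subset Z of X stable under specialization and an arbitrary
O_X-module F, the Z-closure H⁰_{X/Z}(F) is zero if and only if the support of F is contained in Z,
that is, the stalk of F at every point outside Z is zero. -/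
theorem result (X : Scheme.{u}) [IsLocallyNoetherian X] (Z : Set X)
    (hZ : StableUnderSpecialization Z) (F : X.Modules) :
    IsZero ((ZClos.H0 Z).obj F) ↔ ∀ x : X, x ∉ Z → Subsingleton (F.presheaf.stalk x) := by
  constructor
  · intro hz x hx
    have hb : Function.Bijective (ZClos.rhoStalk Z F x) :=
      Groth.Agent.S5849.result X Z hZ F x hx
    have hsub : ∀ b : ToType (((ZClos.H0 Z).obj F).presheaf.stalk x), b = 0 := by
      intro b
      obtain ⟨V, hxV, t, rfl⟩ :=
        TopCat.Presheaf.exists_germ_eq ((ZClos.H0 Z).obj F).presheaf b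
      have h1 : (𝟙 ((ZClos.H0 Z).obj F)) = 0 := hz.eq_of_src _ _
      have h2 := congrArg
        (fun φ : (ZClos.H0 Z).obj F ⟶ (ZClos.H0 Z).obj F => φ.app V t) h1
      have ht : t = 0 := by
        exact h2
      rw [ht]
      exact map_zero _
    exact ⟨fun a a' => hb.1 ((hsub _).trans (hsub _).symm)⟩
  · intro h
    have haff : ∀ (W : X.Opens), IsAffineOpen W →
        ∀ t : ToType (((ZClos.H0 Z).obj F).presheaf.obj (Opposite.op W)), t = 0 := by
      intro W hW t
      have hcW := Groth.Agent.H10.ZClosCol.hc_of_affine W hW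
      obtain ⟨T, s, rfl⟩ := Groth.Agent.H10.ZClosCol.H0_surj Z F W hcW t
      obtain ⟨T', hT'⟩ := Groth.Agent.H10.ZClosCol.exists_vanish Z hZ F h
        (T.U.ι ''ᵁ T.U.ι ⁻¹ᵁ W)
        (fun W' hW' => hcW W' (hW'.trans (T.U.ι.image_preimage_le W))) s
      have h13 : T ≤ T ⊔ T' := le_sup_left
      have hle : (T ⊔ T').U.ι ''ᵁ (T ⊔ T').U.ι ⁻¹ᵁ W ≤ T'.U := by
        rw [ZClos.ι_image_preimage]
        exact inf_le_left.trans (ZClos.Cl.U_anti (le_sup_right : T' ≤ T ⊔ T'))
      have h3 : F.presheaf.map (ZClos.trIncl (ZClos.Cl.U_anti h13) W).op s = 0 :=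
        hT' _ (ZClos.resPush_le (ZClos.Cl.U_anti h13) W) hle
      exact (Groth.Agent.H10.ZClosCol.H0_ι_trans Z F W h13 s).symm.trans ((congrArg
        (fun z => (colimit.ι ((ZClos.diagram Z).obj F) (T ⊔ T')).app W z) h3).trans
        (map_zero _))
    have hall : ∀ (V : X.Opens)
        (t : ToType (((ZClos.H0 Z).obj F).presheaf.obj (Opposite.op V))), t = 0 := by
      intro V t
      obtain ⟨W, hWa, hxW, hWV⟩ := Groth.Agent.H10.ZClosSec.exists_affine_cover V
      refine TopCat.Sheaf.eq_of_locally_eq'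
        (⟨((ZClos.H0 Z).obj F).presheaf, ((ZClos.H0 Z).obj F).isSheaf⟩ : TopCat.Sheaf _ _)
        W V (fun x => homOfLE (hWV x)) ?_ t 0 (fun x => ?_)
      · intro y hy
        exact TopologicalSpace.Opens.mem_iSup.mpr ⟨⟨y, hy⟩, hxW ⟨y, hy⟩⟩
      · exact (haff _ (hWa x) _).trans (haff _ (hWa x) _).symm
    rw [IsZero.iff_id_eq_zero]
    apply Scheme.Modules.hom_ext
    intro V
    apply ConcreteCategory.hom_ext
    intro t
    exact (hall V _).trans (hall V _).symm

end Groth.Agent.S5870
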