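import Groth.Statements.S5913
import Mathlib

set_option autoImplicit false
universe u
open CategoryTheory AlgebraicGeometry
open EGA43

namespace Groth.Agent.S5913

/-- Jacobson spaces pull back along embeddings with locally closed range. -/
lemma jacobson_of_embedding {X Y : Type*} [TopologicalSpace X] [TopologicalSpace Y]
    [JacobsonSpace Y] {f : X → Y} (hf : Topology.IsEmbedding f)
    (hr : IsLocallyClosed (Set.range f)) : JacobsonSpace X := by
  rw [jacobsonSpace_iff_locallyClosed]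
  intro Z hZ hZ'
  obtain ⟨_, ⟨x, hx, rfl⟩, hx'⟩ := nonempty_inter_closedPoints
    (hZ.image f) (hZ'.image hf.isInducing hr)
  refine ⟨x, hx, ?_⟩
  have hpre : ({x} : Set X) = f ⁻¹' {f x} := by
    ext y
    simp [hf.injective.eq_iff]
  rw [mem_closedPoints_iff, hpre]
  exact (mem_closedPoints_iff.mp hx').preimage hf.continuous

lemma not_semilocal_dim_one_of_jacobson (R : Type u) [CommRing R] [IsDomain R] [IsJacobsonRing R]
    [Finite (MaximalSpectrum R)] (h1 : ringKrullDim R = 1) : False := by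
  classical
  haveI := Fintype.ofFinite (MaximalSpectrum R)
  have hbot : (⊥ : Ideal R).jacobson = ⊥ := IsJacobsonRing.out' _ (Ideal.isPrime_bot.isRadical)
  have hle : (Finset.univ : Finset (MaximalSpectrum R)).inf (fun m => m.asIdeal) ≤ (⊥ : Ideal R) := by
    rw [← hbot]
    intro x hx
    rw [Ideal.jacobson, Ideal.mem_sInf]
    rintro J ⟨-, hJ⟩
    have hJle := Finset.inf_le (f := fun m : MaximalSpectrum R => m.asIdeal)
      (Finset.mem_univ (⟨J, hJ⟩ : MaximalSpectrum R))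
    exact hJle hx
  obtain ⟨m, -, hm⟩ := (Ideal.IsPrime.inf_le' Ideal.isPrime_bot).mp hle
  have hmb : m.asIdeal = ⊥ := le_bot_iff.mp hm
  have hfield : IsField R := Ring.isField_iff_maximal_bot.mpr (hmb ▸ m.isMaximal)
  rw [ringKrullDim_eq_zero_of_isField hfield] at h1
  exact zero_ne_one h1

lemma exists_prime_semilocal_dim_one (A : Type u) [CommRing A] [IsNoetherianRing A]
    (hA : ¬ IsJacobsonRing A) :
    ∃ p : Ideal A, p.IsPrime ∧ Finite (MaximalSpectrum (A ⧸ p)) ∧ ringKrullDim (A ⧸ p) = 1 := by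
  classical
  rw [isJacobsonRing_iff_prime_eq] at hA
  push Not at hA
  obtain ⟨P₀, hP₀, hP₀'⟩ := hA
  let S : Set (Ideal A) := {P | P.IsPrime ∧ P.jacobson ≠ P}
  obtain ⟨(p : Ideal A), ⟨hp, hpj⟩, hmax⟩ := set_has_maximal_iff_noetherian.mpr
    (inferInstance : IsNoetherian A A) S ⟨P₀, hP₀, hP₀'⟩
  haveI := hp
  obtain ⟨f, hfj, hfp⟩ : ∃ f, f ∈ p.jacobson ∧ f ∉ p := by
    by_contra hcon
    push Not at hcon
    exact hpj (le_antisymm hcon Ideal.le_jacobson)
  have hfq : ∀ q : Ideal A, q.IsPrime → p < q → f ∈ q := by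
    intro q hq hpq
    have hqS : q ∉ S := fun hqS => hmax q hqS hpq
    have hqj : q.jacobson = q := by
      by_contra hne
      exact hqS ⟨hq, hne⟩
    rw [← hqj]
    exact Ideal.jacobson_mono hpq.le hfj
  refine ⟨p, hp, ?_⟩
  have hmk : Function.Surjective (Ideal.Quotient.mk p) := Ideal.Quotient.mk_surjective
  have hfb0 : Ideal.Quotient.mk p f ≠ 0 := by
    intro h0
    exact hfp (Ideal.Quotient.eq_zero_iff_mem.mp h0)
  have P1 : ∀ Q : Ideal (A ⧸ p), Q.IsPrime → Q ≠ ⊥ → Ideal.Quotient.mk p f ∈ Q := by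
    intro Q hQ hQ0
    haveI := hQ
    have hq : (Q.comap (Ideal.Quotient.mk p)).IsPrime := Ideal.comap_isPrime _ Q
    have hle : p ≤ Q.comap (Ideal.Quotient.mk p) := by
      intro x hx
      rw [Ideal.mem_comap, Ideal.Quotient.eq_zero_iff_mem.mpr hx]
      exact Q.zero_mem
    have hne : p ≠ Q.comap (Ideal.Quotient.mk p) := by
      intro heq
      apply hQ0
      rw [← Ideal.map_comap_of_surjective _ hmk Q, ← heq, Ideal.map_quotient_self]
    exact hfq _ hq (lt_of_le_of_ne hle hne)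
  have hnf : ¬ IsField (A ⧸ p) := by
    intro hF
    haveI : p.IsMaximal := Ideal.Quotient.maximal_of_isField p hF
    exact hpj Ideal.jacobson_eq_self_of_isMaximal
  have hTfin : ((Ideal.span {Ideal.Quotient.mk p f}).minimalPrimes).Finite :=
    Ideal.finite_minimalPrimes_of_isNoetherianRing (A ⧸ p) _
  have P3 : ∀ Q : Ideal (A ⧸ p), Q.IsPrime → Q ≠ ⊥ →
      Q ∈ (Ideal.span {Ideal.Quotient.mk p f}).minimalPrimes := by
    intro Q hQ hQ0
    haveI := hQ
    have hfQ : Ideal.span {Ideal.Quotient.mk p f} ≤ Q :=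
      (Ideal.span_singleton_le_iff_mem _).mpr (P1 Q hQ hQ0)
    obtain ⟨Q₀, hQ₀T, hQ₀Q⟩ := Ideal.exists_minimalPrimes_le hfQ
    by_contra hQT
    have hlt : Q₀ < Q := lt_of_le_of_ne hQ₀Q (fun h => hQT (h ▸ hQ₀T))
    have hnot : ¬ ((Q : Set (A ⧸ p)) ⊆
        ⋃ i ∈ (↑hTfin.toFinset : Set (Ideal (A ⧸ p))), ((fun I => I) i : Ideal (A ⧸ p))) := by
      intro hsub
      rw [Ideal.subset_union_prime (f := fun I => I) Q₀ Q₀
        (fun i hi _ _ => (hTfin.mem_toFinset.mp hi).1.1)] at hsub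
      obtain ⟨P, hP, hQP⟩ := hsub
      have hPT := hTfin.mem_toFinset.mp hP
      have hPQ₀ : P ≤ Q₀ := hPT.2 ⟨hQ₀T.1.1, hQ₀T.1.2⟩ (hlt.le.trans hQP)
      exact absurd (hQP.trans hPQ₀) (not_le_of_gt hlt)
    rw [Set.not_subset] at hnot
    obtain ⟨x, hxQ, hxU⟩ := hnot
    have hxT : ∀ P ∈ (Ideal.span {Ideal.Quotient.mk p f}).minimalPrimes, x ∉ P := by
      intro P hP hxP
      apply hxU
      simp only [Set.mem_iUnion]
      exact ⟨P, by simpa using hP, hxP⟩
    have hx0 : x ≠ 0 := by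
      rintro rfl
      exact hxT Q₀ hQ₀T Q₀.zero_mem
    have hxQ' : Ideal.span {x} ≤ Q := (Ideal.span_singleton_le_iff_mem _).mpr hxQ
    obtain ⟨Q₁, hQ₁m, hQ₁Q⟩ := Ideal.exists_minimalPrimes_le hxQ'
    haveI hQ₁p : Q₁.IsPrime := hQ₁m.1.1
    have hxQ₁ : x ∈ Q₁ := hQ₁m.1.2 (Ideal.mem_span_singleton_self x)
    have hQ₁0 : Q₁ ≠ ⊥ := by
      intro h
      rw [h] at hxQ₁
      exact hx0 (by simpa using hxQ₁)
    have hht : Q₁.height ≤ 1 :=
      Ideal.height_le_one_of_isPrincipal_of_mem_minimalPrimes _ Q₁ hQ₁m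
    have hfQ₁ : Ideal.span {Ideal.Quotient.mk p f} ≤ Q₁ :=
      (Ideal.span_singleton_le_iff_mem _).mpr (P1 Q₁ hQ₁p hQ₁0)
    obtain ⟨P, hPT, hPQ₁⟩ := Ideal.exists_minimalPrimes_le hfQ₁
    haveI hPp : P.IsPrime := hPT.1.1
    have hP0 : P ≠ ⊥ := by
      intro h
      have hfP : Ideal.Quotient.mk p f ∈ P := hPT.1.2 (Ideal.mem_span_singleton_self _)
      rw [h] at hfP
      exact hfb0 (by simpa using hfP)
    have hPeq : P = Q₁ := by
      by_contra hne
      have hlt' : P < Q₁ := lt_of_le_of_ne hPQ₁ hne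
      have h1 := Ideal.height_add_one_le_of_lt_of_isPrime hlt'
      have h2 : P.height + 1 ≤ 1 := h1.trans hht
      have hPtop : P.height ≠ ⊤ := ne_top_of_le_ne_top ENat.one_ne_top (le_self_add.trans h2)
      have h3 : P.height = 0 := Order.lt_one_iff.mp ((ENat.add_one_le_iff hPtop).mp h2)
      exact hP0 (Ideal.height_eq_zero_iff_eq_bot.mp h3)
    exact hxT P hPT (hPeq ▸ hxQ₁)
  have P4 : ∀ Q : Ideal (A ⧸ p), Q ≠ ⊥ → Q.IsPrime → Q.IsMaximal := by
    intro Q hQ0 hQ
    obtain ⟨M, hM, hQM⟩ := Ideal.exists_le_maximal Q hQ.ne_top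
    have hM0 : M ≠ ⊥ := fun h => hQ0 (le_bot_iff.mp (h ▸ hQM))
    have hMT := P3 M hM.isPrime hM0
    have hQT := P3 Q hQ hQ0
    have hMQ : M ≤ Q := hMT.2 ⟨hQT.1.1, hQT.1.2⟩ hQM
    rw [le_antisymm hQM hMQ]
    exact hM
  refine ⟨?_, ?_⟩
  · haveI : Finite ↥((Ideal.span {Ideal.Quotient.mk p f}).minimalPrimes) := hTfin.to_subtype
    refine Finite.of_injective
      (fun m : MaximalSpectrum (A ⧸ p) =>
        (⟨m.asIdeal, P3 m.asIdeal m.isMaximal.isPrime
          (Ring.ne_bot_of_isMaximal_of_not_isField m.isMaximal hnf)⟩ :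
          ↥((Ideal.span {Ideal.Quotient.mk p f}).minimalPrimes))) ?_
    intro m m' h
    exact MaximalSpectrum.ext (congrArg Subtype.val h)
  · apply le_antisymm
    · have hK : Ring.KrullDimLE 1 (A ⧸ p) := Ring.KrullDimLE.mk₁' P4
      have := Ring.krullDimLE_iff.mp hK
      simpa using this
    · obtain ⟨M, hM0, hM⟩ := Ring.exists_maximal_of_not_isField hnf
      haveI := hM.isPrime
      have h1 : (1 : ℕ∞) ≤ M.height :=
        Order.one_le_iff_ne_zero.mpr (fun h => hM0 (Ideal.height_eq_zero_iff_eq_bot.mp h))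
      calc (1 : WithBot ℕ∞) = ((1 : ℕ∞) : WithBot ℕ∞) := rfl
        _ ≤ (M.height : WithBot ℕ∞) := by exact_mod_cast h1
        _ ≤ ringKrullDim (A ⧸ p) := Ideal.height_le_ringKrullDim_of_isPrime

lemma key (X : Scheme.{u}) [IsLocallyNoetherian X] (S : CommRingCat.{u}) (j : Spec S ⟶ X)
    [IsOpenImmersion j] (hS : ¬ IsJacobsonRing S) :
    ∃ (R : CommRingCat.{u}) (_ : IsDomain R) (i : Spec R ⟶ X) (_ : IsImmersion i),
      Finite (MaximalSpectrum R) ∧ ringKrullDim R = 1 := by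
  haveI : IsLocallyNoetherian (Spec S) := isLocallyNoetherian_of_isOpenImmersion j
  haveI : IsNoetherianRing S := isLocallyNoetherian_Spec.mp inferInstance
  obtain ⟨p, hp, hfin, hdim⟩ := exists_prime_semilocal_dim_one S hS
  haveI := hp
  haveI : IsClosedImmersion (Spec.map (CommRingCat.ofHom (Ideal.Quotient.mk p))) :=
    IsClosedImmersion.spec_of_surjective _ Ideal.Quotient.mk_surjective
  exact ⟨CommRingCat.of (S ⧸ p), (inferInstance : IsDomain (S ⧸ p)),
    Spec.map (CommRingCat.ofHom (Ideal.Quotient.mk p)) ≫ j, inferInstance, hfin, hdim⟩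

lemma key' (X : Scheme.{u}) [IsLocallyNoetherian X] (U : Scheme.{u}) [IsAffine U] (j : U ⟶ X)
    [IsOpenImmersion j] (hU : ¬ JacobsonSpace U) :
    ∃ (R : CommRingCat.{u}) (_ : IsDomain R) (i : Spec R ⟶ X) (_ : IsImmersion i),
      Finite (MaximalSpectrum R) ∧ ringKrullDim R = 1 := by
  refine key X Γ(U, ⊤) (U.isoSpec.inv ≫ j) ?_
  intro hJR
  apply hU
  haveI : JacobsonSpace (Spec Γ(U, ⊤)) := inferInstance
  exact JacobsonSpace.of_isOpenEmbedding U.isoSpec.hom.isOpenEmbedding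


/-- In the locally Noetherian form: a locally Noetherian scheme X is Jacobson if and only if it has no
subscheme isomorphic to the spectrum of a semi-local integral domain of dimension 1, i.e. there is
no immersion Spec R ⟶ X with R an integral domain having finitely many maximal ideals and Krull
dimension 1. -/
theorem result (X : Scheme.{u}) [IsLocallyNoetherian X] :
    JacobsonSpace X ↔
      ∀ (R : CommRingCat.{u}) [IsDomain R] (i : Spec R ⟶ X) [IsImmersion i],
        ¬ (Finite (MaximalSpectrum R) ∧ ringKrullDim R = 1) := by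
  constructor
  · intro hJ R _ i _ ⟨hfin, hdim⟩
    haveI : JacobsonSpace (Spec R) := jacobson_of_embedding i.isEmbedding i.isLocallyClosed_range
    haveI : IsJacobsonRing R := PrimeSpectrum.isJacobsonRing_iff_jacobsonSpace.mpr
      (by exact (inferInstance : JacobsonSpace (Spec R)))
    haveI := hfin
    exact not_semilocal_dim_one_of_jacobson R hdim
  · intro h
    by_contra hJ
    rw [X.affineCover.isOpenCover_opensRange.jacobsonSpace_iff] at hJ
    push Not at hJ
    obtain ⟨i, hi⟩ := hJ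
    have hnot : ¬ JacobsonSpace (X.affineCover.X i) := by
      intro hJ'
      apply hi
      let e := (X.affineCover.f i).isOpenEmbedding.isEmbedding.toHomeomorph
      exact .of_isClosedEmbedding e.symm.isClosedEmbedding
    obtain ⟨R, hR, i', hi', hfin, hdim⟩ := key' X _ (X.affineCover.f i) hnot
    haveI := hR
    haveI := hi'
    exact h R i' ⟨hfin, hdim⟩

end Groth.Agent.S5913
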