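import Groth.Statements.S5924
import Mathlib

set_option autoImplicit false
open CategoryTheory AlgebraicGeometry
universe u
open EGA43

namespace Groth.Agent.S5924

section RingPart
open PrimeSpectrum

theorem ring_avoid {A B : Type u} [CommRing A] [CommRing B] [Algebra A B] [Algebra.FiniteType A B]
    (P : PrimeSpectrum B)
    (hP : ∃ P' : PrimeSpectrum B, comap (algebraMap A B) P' = comap (algebraMap A B) P ∧ P' ≠ P ∧ P' ≤ P) :
    ∃ g : B, g ∈ P.asIdeal ∧ ∀ Q : PrimeSpectrum B,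
      comap (algebraMap A B) Q = comap (algebraMap A B) P →
      (∀ Q' : PrimeSpectrum B, comap (algebraMap A B) Q' = comap (algebraMap A B) P → Q' ≤ Q → Q' = Q) →
      g ∉ Q.asIdeal := by
  classical
  set p := comap (algebraMap A B) P with hp
  let C := p.asIdeal.Fiber B
  haveI : IsNoetherianRing C := Algebra.FiniteType.isNoetherianRing p.asIdeal.ResidueField C
  let e := PrimeSpectrum.preimageOrderIsoFiber A B p
  let S : Set (PrimeSpectrum B) := {Q | ∃ hQ : comap (algebraMap A B) Q = p,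
    ∀ Q' : PrimeSpectrum B, comap (algebraMap A B) Q' = p → Q' ≤ Q → Q' = Q}
  have hMfin : {m : PrimeSpectrum C | m.asIdeal ∈ minimalPrimes C}.Finite :=
    (minimalPrimes.finite_of_isNoetherianRing C).preimage
      (fun a _ b _ h => PrimeSpectrum.ext h)
  have hSfin : S.Finite := by
    refine (hMfin.image (fun m => (e.symm m).1)).subset ?_
    rintro Q ⟨hQ, hmin⟩
    refine ⟨e ⟨Q, hQ⟩, ?_, by simp⟩
    show (e ⟨Q, hQ⟩).asIdeal ∈ minimalPrimes C
    refine ⟨⟨(e ⟨Q, hQ⟩).2, bot_le⟩, ?_⟩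
    rintro q ⟨hq, -⟩ hle
    let m' : PrimeSpectrum C := ⟨q, hq⟩
    have h1 : m' ≤ e ⟨Q, hQ⟩ := hle
    have h2 : e.symm m' ≤ ⟨Q, hQ⟩ := by
      rw [← e.symm_apply_apply ⟨Q, hQ⟩]; exact e.symm.monotone h1
    have h3 : (e.symm m').1 = Q := hmin _ (e.symm m').2 h2
    have h4 : e.symm m' = ⟨Q, hQ⟩ := Subtype.ext h3
    have h5 : m' = e ⟨Q, hQ⟩ := by rw [← h4, e.apply_symm_apply]
    rw [← h5]
  obtain ⟨P', hP'f, hP'ne, hP'le⟩ := hP
  have hnot : ¬ ((P.asIdeal : Set B) ⊆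
      ⋃ Q ∈ (↑hSfin.toFinset : Set (PrimeSpectrum B)), ((fun Q : PrimeSpectrum B => Q.asIdeal) Q : Set B)) := by
    intro h
    rw [Ideal.subset_union_prime (f := fun Q : PrimeSpectrum B => Q.asIdeal) P P
      (fun i _ _ _ => i.2)] at h
    obtain ⟨Q, hQ, hle⟩ := h
    obtain ⟨hQf, hmin⟩ := (Set.Finite.mem_toFinset hSfin).mp hQ
    have h1 : P = Q := hmin P rfl hle
    have h2 : P' = Q := hmin P' hP'f (hP'le.trans hle)
    exact hP'ne (h2.trans h1.symm)
  obtain ⟨g, hgP, hg⟩ := Set.not_subset.mp hnot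
  refine ⟨g, hgP, fun Q hQf hmin hgQ => hg ?_⟩
  simp only [Set.mem_iUnion]
  exact ⟨Q, (Set.Finite.mem_toFinset hSfin).mpr ⟨hQf, hmin⟩, hgQ⟩

end RingPart

open CategoryTheory AlgebraicGeometry TopologicalSpace

section
variable {X Y : Scheme.{u}} (f : X ⟶ Y) {U : X.Opens} {V : Y.Opens}
  (hU : IsAffineOpen U) (hV : IsAffineOpen V) (e : U ≤ f ⁻¹ᵁ V)

lemma f_fromSpec (Q : PrimeSpectrum Γ(X, U)) :
    f.base (hU.fromSpec.base Q) = hV.fromSpec.base (PrimeSpectrum.comap (f.appLE V U e).hom Q) := by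
  have := IsAffineOpen.SpecMap_appLE_fromSpec f hV hU e
  have h2 := congrArg (fun g => g.base Q) this
  exact h2.symm

lemma mem_basicOpen_fromSpec (g : Γ(X, U)) (Q : PrimeSpectrum Γ(X, U)) :
    hU.fromSpec.base Q ∈ X.basicOpen g ↔ g ∉ Q.asIdeal := by
  have := hU.fromSpec_preimage_basicOpen g
  have h2 : Q ∈ (hU.fromSpec ⁻¹ᵁ X.basicOpen g) ↔ Q ∈ (PrimeSpectrum.basicOpen g : Opens _) := by
    rw [this]; exact Iff.rfl
  exact h2

lemma closure_fromSpec (Q Q' : PrimeSpectrum Γ(X, U)) :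
    hU.fromSpec.base Q ∈ closure ({hU.fromSpec.base Q'} : Set X) ↔ Q' ≤ Q := by
  rw [← specializes_iff_mem_closure, hU.fromSpec.isOpenEmbedding.isInducing.specializes_iff,
    PrimeSpectrum.le_iff_specializes]
  exact Iff.rfl
end

/-- Let Y be an irreducible locally Noetherian scheme, f : X ⟶ Y a morphism locally of finite type which
is equidimensional at the point x, and suppose that x is not a maximal point of its fibre f⁻¹(f x),
i.e. some point of the fibre other than x specializes to x. Then there exist an affine open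
neighbourhood U of x and a section g of O_X over U such that g vanishes at x (x is not in the basic
open set of g) while every maximal point of f⁻¹(f x) lying in U is in the basic open set of g. -/
theorem result {X Y : Scheme.{u}} [IrreducibleSpace Y]
    [IsLocallyNoetherian Y] (f : X ⟶ Y) [LocallyOfFiniteType f] (x : X) (hf : EGA43.IsEquidimAt f x)
    (hx : ∃ x' : X, f.base x' = f.base x ∧ x' ≠ x ∧ x ∈ closure ({x'} : Set X)) :
    ∃ U : X.Opens, IsAffineOpen U ∧ x ∈ U ∧ ∃ g : Γ(X, U), x ∉ X.basicOpen g ∧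
      ∀ z : X, f.base z = f.base x → (∀ z' : X, f.base z' = f.base x → z ∈ closure ({z'} : Set X) → z' = z) →
        z ∈ U → z ∈ X.basicOpen g := by
  obtain ⟨V, hVaff, hyV, -⟩ :=
    Opens.isBasis_iff_nbhd.mp Y.isBasis_affineOpens (show f.base x ∈ (⊤ : Y.Opens) from trivial)
  have hV : IsAffineOpen V := hVaff
  obtain ⟨U, hUaff, hxU, hUV⟩ :=
    Opens.isBasis_iff_nbhd.mp X.isBasis_affineOpens (show x ∈ f ⁻¹ᵁ V from hyV)
  have hU : IsAffineOpen U := hUaff
  letI : Algebra Γ(Y, V) Γ(X, U) := (f.appLE V U hUV).hom.toAlgebra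
  haveI : Algebra.FiniteType Γ(Y, V) Γ(X, U) :=
    LocallyOfFiniteType.finiteType_appLE f hV hU hUV
  have hinjU : Function.Injective hU.fromSpec.base := hU.fromSpec.isOpenEmbedding.injective
  have hinjV : Function.Injective hV.fromSpec.base := hV.fromSpec.isOpenEmbedding.injective
  -- fibre condition in ring terms
  have hfib : ∀ Q Q' : PrimeSpectrum Γ(X, U),
      f.base (hU.fromSpec.base Q) = f.base (hU.fromSpec.base Q') ↔
        PrimeSpectrum.comap (algebraMap Γ(Y, V) Γ(X, U)) Q =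
          PrimeSpectrum.comap (algebraMap Γ(Y, V) Γ(X, U)) Q' := by
    intro Q Q'
    rw [f_fromSpec f hU hV hUV, f_fromSpec f hU hV hUV]
    exact hinjV.eq_iff
  let P : PrimeSpectrum Γ(X, U) := hU.primeIdealOf ⟨x, hxU⟩
  have hPx : hU.fromSpec.base P = x := hU.fromSpec_primeIdealOf ⟨x, hxU⟩
  obtain ⟨x', hx'f, hx'ne, hx'cl⟩ := hx
  have hx'U : x' ∈ U := (specializes_iff_mem_closure.mpr hx'cl).mem_open U.2 hxU
  let P' : PrimeSpectrum Γ(X, U) := hU.primeIdealOf ⟨x', hx'U⟩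
  have hP'x : hU.fromSpec.base P' = x' := hU.fromSpec_primeIdealOf ⟨x', hx'U⟩
  obtain ⟨g, hgP, hg⟩ := ring_avoid (A := Γ(Y, V)) (B := Γ(X, U)) P
    ⟨P', (hfib P' P).mp (by rw [hP'x, hPx]; exact hx'f),
      fun h => hx'ne (by rw [← hP'x, ← hPx, h]),
      (closure_fromSpec hU P P').mp (by rw [hP'x, hPx]; exact hx'cl)⟩
  refine ⟨U, hU, hxU, g, ?_, ?_⟩
  · rw [← hPx, mem_basicOpen_fromSpec hU g P]
    exact fun h => h hgP
  · intro z hzf hzmax hzU
    let Q : PrimeSpectrum Γ(X, U) := hU.primeIdealOf ⟨z, hzU⟩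
    have hQz : hU.fromSpec.base Q = z := hU.fromSpec_primeIdealOf ⟨z, hzU⟩
    rw [← hQz, mem_basicOpen_fromSpec hU g Q]
    refine hg Q ((hfib Q P).mp (by rw [hQz, hPx]; exact hzf)) ?_
    intro Q' hQ'f hQ'le
    apply hinjU
    rw [hQz]
    refine hzmax _ ?_ ?_
    · rw [← hPx]; exact (hfib Q' P).mpr hQ'f
    · rw [← hQz]; exact (closure_fromSpec hU Q Q').mpr hQ'le

end Groth.Agent.S5924
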