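import Groth.Statements.S5934
import Mathlib
import Groth.Agent.S2156

set_option autoImplicit false
open CategoryTheory AlgebraicGeometry
universe u
open EGA43

namespace Groth.Agent.S5934

section Helpers
open AlgebraicGeometry CategoryTheory CategoryTheory.Limits TopologicalSpace

set_option backward.isDefEq.respectTransparency false in
theorem fibre_smooth_iff5934 {X Y : Scheme.{u}} (f : X ⟶ Y) [Flat f]
    [LocallyOfFinitePresentation f] (y : Y) :
    Smooth (f.fiberToSpecResidueField y) ↔ ∀ x : X, f x = y → x ∈ f.smoothLocus := by
  constructor
  · intro hsm x hx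
    subst hx
    refine (Groth.Agent.S2156.result f x).mpr ⟨Flat.stalkMap f x, ?_⟩
    have htop : (f.fiberToSpecResidueField (f x)).smoothLocus = ⊤ :=
      Scheme.Hom.smoothLocus_eq_top _
    show f.asFiber x ∈ (f.fiberToSpecResidueField (f x)).smoothLocus
    rw [htop]; trivial
  · intro hall
    rw [← Scheme.Hom.smoothLocus_eq_top_iff, eq_top_iff]
    intro z _
    have hzy : f (f.fiberι y z) = y := by
      have : f.fiberι y z ∈ Set.range (f.fiberι y) := ⟨z, rfl⟩
      rw [f.range_fiberι] at this
      exact this
    have hx := hall _ hzy
    have h1 := ((Groth.Agent.S2156.result f (f.fiberι y z)).mp hx).2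
    have key : ∀ (s : Y) (_ : f (f.fiberι y z) = s) (w : f.fiber s),
        f.fiberι s w = f.fiberι y z →
        f.asFiber (f.fiberι y z) ∈
          (f.fiberToSpecResidueField (f (f.fiberι y z))).smoothLocus →
        w ∈ (f.fiberToSpecResidueField s).smoothLocus := by
      intro s hs
      subst hs
      intro w hw hws
      have : w = f.asFiber (f.fiberι y z) :=
        (f.fiberι _).isEmbedding.injective (hw.trans (f.fiberι_asFiber _).symm)
      rwa [this]
    exact key y hzy z rfl h1

end Helpers

/-- Let f : X ⟶ Y be a proper, flat morphism of finite presentation. The set of points y of Y whose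
fibre X_y is geometrically regular, i.e. smooth over the residue field κ(y), is open in Y. -/
theorem result {X Y : Scheme.{u}} (f : X ⟶ Y) [IsProper f] [Flat f]
    [LocallyOfFinitePresentation f] :
    IsOpen {y : Y | Smooth (f.fiberToSpecResidueField y)} := by
  have hcl : IsClosed (f '' ((f.smoothLocus : Set X)ᶜ)) :=
    f.isClosedMap _ f.smoothLocus.2.isClosed_compl
  convert hcl.isOpen_compl using 1
  ext y
  simp only [Set.mem_setOf_eq, Set.mem_compl_iff, Set.mem_image, not_exists, not_and]
  rw [fibre_smooth_iff5934 f y]
  constructor
  · intro h x hx hxy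
    exact hx (h x hxy)
  · intro h x hxy
    by_contra hx
    exact h x hx hxy

end Groth.Agent.S5934
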