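import Groth.Statements.S5939
import Mathlib

set_option autoImplicit false
universe u
open CategoryTheory AlgebraicGeometry
open Unram17

namespace Groth.Agent.S5939

section Helpers
open AlgebraicGeometry CategoryTheory Limits

theorem qc_of_comp_surj {A B C : Scheme.{u}} (a : A ⟶ B) (b : B ⟶ C) [Surjective a]
    [QuasiCompact (a ≫ b)] : QuasiCompact b := by
  refine ⟨fun U hU hU' => ?_⟩
  have h := QuasiCompact.isCompact_preimage (f := a ≫ b) U hU hU'
  have h2 : (b ⁻¹' U) = a '' ((a ≫ b) ⁻¹' U) := by
    ext y
    constructor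
    · intro hy
      obtain ⟨x, rfl⟩ := a.surjective y
      exact ⟨x, hy, rfl⟩
    · rintro ⟨x, hx, rfl⟩
      exact hx
  rw [h2]
  exact h.image a.continuous

theorem main {X Y Z : Scheme.{u}} (f : X ⟶ Y) (g : Y ⟶ Z)
    [Surjective f] [QuasiCompact f] [QuasiCompact (f ≫ g)] [QuasiSeparated (f ≫ g)] :
    QuasiCompact g ∧ QuasiSeparated g := by
  refine ⟨qc_of_comp_surj f g, ⟨?_⟩⟩
  obtain ⟨m, n, hw, hn, hmfst⟩ : ∃ (m : pullback f f ⟶ pullback (f ≫ g) (f ≫ g))
      (n : pullback (f ≫ g) (f ≫ g) ⟶ pullback g g),
      (pullback.fst f f ≫ f) ≫ pullback.diagonal g = m ≫ n ∧ QuasiCompact n ∧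
        m ≫ pullback.fst (f ≫ g) (f ≫ g) = pullback.fst f f :=
    ⟨_, _, (pullback_map_diagonal_isPullback f f g).w,
      MorphismProperty.pullbackMap (P := @QuasiCompact) ‹QuasiCompact f› ‹QuasiCompact f› rfl rfl,
      (pullback.lift_fst _ _ _).trans (Category.comp_id _)⟩
  haveI := hn
  haveI : QuasiCompact (m ≫ pullback.fst (f ≫ g) (f ≫ g)) := by
    rw [hmfst]
    infer_instance
  haveI : QuasiCompact m := QuasiCompact.of_comp m (pullback.fst (f ≫ g) (f ≫ g))
  haveI : Surjective (pullback.fst f f) := MorphismProperty.pullback_fst _ _ ‹Surjective f›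
  haveI : Surjective (pullback.fst f f ≫ f) := inferInstance
  haveI : QuasiCompact ((pullback.fst f f ≫ f) ≫ pullback.diagonal g) := by
    rw [hw]
    infer_instance
  exact qc_of_comp_surj (pullback.fst f f ≫ f) (pullback.diagonal g)

end Helpers

/-- Let f : X ⟶ Y be faithfully flat, locally of finite presentation and quasi-compact, and let g : Y ⟶
Z be a morphism such that f ≫ g is of finite presentation (locally of finite presentation,
quasi-compact and quasi-separated). Then g is quasi-compact and quasi-separated; together with the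
descent of local finite presentation along f this says that g is of finite presentation. This is the
case f quasi-compact. -/
theorem result {X Y Z : Scheme.{u}} (f : X ⟶ Y) (g : Y ⟶ Z)
    [Surjective f] [Flat f] [LocallyOfFinitePresentation f] [QuasiCompact f]
    [LocallyOfFinitePresentation (f ≫ g)] [QuasiCompact (f ≫ g)] [QuasiSeparated (f ≫ g)] :
    QuasiCompact g ∧ QuasiSeparated g := by
  exact main f g

end Groth.Agent.S5939
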