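import Groth.Statements.S9192
import Mathlib
import Groth.Agent.S9421
import Groth.Agent.S9422
import Groth.Agent.S9189
-- import your own Groth.Agent.* helpers here

set_option autoImplicit false
universe u
open CategoryTheory AlgebraicGeometry
open Lim

namespace Groth.Agent.S9192

open TensorProduct in
def RingDesc (Q : ∀ {R S : Type u} [CommRing R] [CommRing S], (R →+* S) → Prop) : Prop :=
  ∀ {ι : Type u} [Preorder ι] [IsDirected ι (· ≤ ·)] [Nonempty ι]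
    (A₀ : Type u) [CommRing A₀] (G : ι → Type u) [∀ i, CommRing (G i)] [∀ i, Algebra A₀ (G i)]
    (f : ∀ i j, i ≤ j → (G i →ₐ[A₀] G j)) (A : Type u) [CommRing A] [Algebra A₀ A]
    (g : ∀ i, G i →ₐ[A₀] A) (_ : ∀ i j (h : i ≤ j), (g j).comp (f i j h) = g i)
    (_ : ∀ a : A, ∃ i, ∃ x : G i, g i x = a)
    (_ : ∀ i (x : G i), g i x = 0 → ∃ j, ∃ h : i ≤ j, f i j h x = 0)
    (B₀ : Type u) [CommRing B₀] [Algebra A₀ B₀] (C₀ : Type u) [CommRing C₀] [Algebra A₀ C₀]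
    [Algebra B₀ C₀] [IsScalarTower A₀ B₀ C₀] [Algebra.FinitePresentation B₀ C₀]
    (_ : Q (algebraMap (B₀ ⊗[A₀] A) ((B₀ ⊗[A₀] A) ⊗[B₀] C₀))),
    ∃ i, Q (algebraMap (B₀ ⊗[A₀] G i) ((B₀ ⊗[A₀] G i) ⊗[B₀] C₀))

theorem ringDesc_etale : RingDesc.{u} @RingHom.Etale := by
  intro ι _ _ _ A₀ _ G _ _ f A _ _ g hg hsurj hker B₀ _ _ C₀ _ _ _ _ _ h
  obtain ⟨i, hi⟩ := Groth.Agent.S9421.result A₀ G f A g hg hsurj hker B₀ C₀
    (RingHom.etale_algebraMap.mp h)
  exact ⟨i, RingHom.etale_algebraMap.mpr hi⟩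

theorem ringDesc_smooth : RingDesc.{u} @RingHom.Smooth := by
  intro ι _ _ _ A₀ _ G _ _ f A _ _ g hg hsurj hker B₀ _ _ C₀ _ _ _ _ _ h
  obtain ⟨i, hi⟩ := Groth.Agent.S9422.result A₀ G f A g hg hsurj hker B₀ C₀
    (RingHom.smooth_algebraMap.mp h)
  exact ⟨i, RingHom.smooth_algebraMap.mpr hi⟩

open CategoryTheory Limits in
theorem po_transfer (Q : ∀ {R S : Type u} [CommRing R] [CommRing S], (R →+* S) → Prop)
    (hQ : RingHom.RespectsIso Q) {R G G' C P P' : CommRingCat.{u}} {α : R ⟶ G} {σ : R ⟶ C}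
    {inl : G ⟶ P} {inr : C ⟶ P} {α' : R ⟶ G'} {inl' : G' ⟶ P'} {inr' : C ⟶ P'}
    (h : IsPushout α σ inl inr) (h' : IsPushout α' σ inl' inr') (e : G ≅ G')
    (he : α ≫ e.hom = α') : Q inl.hom ↔ Q inl'.hom := by
  have h'' : IsPushout α' σ (e.inv ≫ inl) inr :=
    IsPushout.of_iso h (Iso.refl R) e (Iso.refl C) (Iso.refl P) (by simp [he]) (by simp)
      (by simp) (by simp)
  have e1 : (e.inv ≫ inl) ≫ (h''.isoIsPushout _ _ h').hom = inl' :=
    IsPushout.inl_isoIsPushout_hom _ _ h'' h'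
  rw [← e1]
  exact ((hQ.cancel_right_isIso (e.inv ≫ inl) _).trans (hQ.cancel_left_isIso e.inv inl)).symm

open TensorProduct CategoryTheory Limits in
theorem Q_iff_ring (Q : ∀ {R S : Type u} [CommRing R] [CommRing S], (R →+* S) → Prop)
    (hQ : RingHom.RespectsIso Q) (A₀ G C₀ : Type u) [CommRing A₀] [CommRing G] [CommRing C₀]
    [Algebra A₀ G] [Algebra A₀ C₀] {Pt : CommRingCat.{u}} (inl : CommRingCat.of G ⟶ Pt)
    (inr : CommRingCat.of C₀ ⟶ Pt)
    (h : IsPushout (CommRingCat.ofHom (algebraMap A₀ G)) (CommRingCat.ofHom (algebraMap A₀ C₀))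
      inl inr) :
    Q inl.hom ↔ Q (algebraMap (A₀ ⊗[A₀] G) ((A₀ ⊗[A₀] G) ⊗[A₀] C₀)) := by
  have h' := CommRingCat.isPushout_tensorProduct A₀ (A₀ ⊗[A₀] G) C₀
  let e : CommRingCat.of G ≅ CommRingCat.of (A₀ ⊗[A₀] G) :=
    (Algebra.TensorProduct.lid A₀ G).symm.toRingEquiv.toCommRingCatIso
  have he : CommRingCat.ofHom (algebraMap A₀ G) ≫ e.hom =
      CommRingCat.ofHom (algebraMap A₀ (A₀ ⊗[A₀] G)) := by
    ext a
    show (Algebra.TensorProduct.lid A₀ G).symm (algebraMap A₀ G a) = algebraMap A₀ (A₀ ⊗[A₀] G) a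
    exact (Algebra.TensorProduct.lid A₀ G).symm.commutes a
  exact po_transfer Q hQ h h' e he

set_option backward.defeqAttrib.useBackward true in
set_option backward.isDefEq.respectTransparency false in
open AlgebraicGeometry CategoryTheory Limits TensorProduct Opposite Groth.Agent.S9189 in
theorem aff_core (P : MorphismProperty Scheme.{u})
    (Q : ∀ {R S : Type u} [CommRing R] [CommRing S], (R →+* S) → Prop)
    [HasRingHomProperty P Q] (hR : RingDesc.{u} Q)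
    {J : Type u} [SmallCategory J] [IsCofiltered J] (E : J ⥤ Scheme.{u}) (cE : Cone E)
    (hcE : IsLimit cE) [∀ j, IsAffine (E.obj j)] [IsAffine cE.pt] {W T : Scheme.{u}}
    [IsAffine W] [IsAffine T] (s : ∀ j, E.obj j ⟶ W)
    (hs : ∀ {j k : J} (a : j ⟶ k), E.map a ≫ s k = s j) (sc : cE.pt ⟶ W)
    (hsc : ∀ j, cE.π.app j ≫ s j = sc) (x : T ⟶ W) [LocallyOfFinitePresentation x]
    (h : P (pullback.fst sc x)) : ∃ k, P (pullback.fst (s k) x) := by
  classical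
  have hQ : RingHom.RespectsIso Q := (HasRingHomProperty.isLocal_ringHomProperty P).respectsIso
  obtain ⟨α, _, _, _, F, hF⟩ := IsFiltered.exists_directed Jᵒᵖ
  have hF2 := (Functor.final_iff_of_isFiltered F).mp hF
  letI iG : ∀ a : α, Algebra Γ(W, ⊤) Γ(E.obj (F.obj a).unop, ⊤) :=
    fun a => (s (F.obj a).unop).appTop.hom.toAlgebra
  letI iA : Algebra Γ(W, ⊤) Γ(cE.pt, ⊤) := sc.appTop.hom.toAlgebra
  letI iC : Algebra Γ(W, ⊤) Γ(T, ⊤) := x.appTop.hom.toAlgebra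
  haveI : Algebra.FinitePresentation Γ(W, ⊤) Γ(T, ⊤) :=
    (HasRingHomProperty.iff_of_isAffine (P := @LocallyOfFinitePresentation)).mp inferInstance
  let f : ∀ a b : α, a ≤ b →
      (Γ(E.obj (F.obj a).unop, ⊤) →ₐ[Γ(W, ⊤)] Γ(E.obj (F.obj b).unop, ⊤)) := fun a b hab =>
    { toRingHom := (E.map (F.map (homOfLE hab)).unop).appTop.hom
      commutes' := fun r => appTop_eq_of_eq' (hs _) r }
  let g : ∀ a : α, Γ(E.obj (F.obj a).unop, ⊤) →ₐ[Γ(W, ⊤)] Γ(cE.pt, ⊤) := fun a =>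
    { toRingHom := (cE.π.app (F.obj a).unop).appTop.hom
      commutes' := fun r => appTop_eq_of_eq' (hsc _) r }
  have hg : ∀ a b (hab : a ≤ b), (g b).comp (f a b hab) = g a := fun a b hab =>
    AlgHom.ext fun t => appTop_eq_of_eq' (cE.w (F.map (homOfLE hab)).unop) t
  have hsurj : ∀ y : Γ(cE.pt, ⊤), ∃ a, ∃ t : Γ(E.obj (F.obj a).unop, ⊤), g a t = y := by
    intro y
    obtain ⟨k, t, ht⟩ := exists_appTop_π_eq_of_isAffine_of_isLimit E cE hcE y
    obtain ⟨b, ⟨v⟩⟩ := hF2.1 (op k)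
    exact ⟨b, (E.map v.unop).appTop.hom t, (appTop_eq_of_eq' (cE.w v.unop) t).trans ht⟩
  have hker : ∀ a (t : Γ(E.obj (F.obj a).unop, ⊤)), g a t = 0 →
      ∃ b, ∃ hab : a ≤ b, f a b hab t = 0 := by
    intro a t ht
    obtain ⟨l₂, ψ, hψ⟩ := exists_appTop_map_eq_zero_of_isAffine_of_isLimit E cE hcE
      (F.obj a).unop t ht
    obtain ⟨b₁, ⟨v⟩⟩ := hF2.1 (op l₂)
    obtain ⟨b₂, hab₂, hb₁b₂⟩ := exists_ge_ge a b₁
    obtain ⟨c', tt, htt⟩ := hF2.2 (F.map (homOfLE hab₂)) (ψ.op ≫ v ≫ F.map (homOfLE hb₁b₂))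
    refine ⟨c', hab₂.trans (leOfHom tt), ?_⟩
    have e1 : F.map (homOfLE (hab₂.trans (leOfHom tt))) =
        (ψ.op ≫ v ≫ F.map (homOfLE hb₁b₂)) ≫ F.map tt := by
      rw [← htt, ← F.map_comp]
      congr 1
    have e2 : (F.map (homOfLE (hab₂.trans (leOfHom tt)))).unop =
        ((F.map tt).unop ≫ (F.map (homOfLE hb₁b₂)).unop ≫ v.unop) ≫ ψ := by
      rw [e1]; simp
    show (E.map (F.map (homOfLE (hab₂.trans (leOfHom tt)))).unop).appTop.hom t = 0
    rw [e2, E.map_comp]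
    refine (appTop_comp_apply _ _ t).trans ?_
    have hψ' : (E.map ψ).appTop.hom t = 0 := hψ
    rw [hψ', map_zero]
  have hyp : Q (algebraMap (Γ(W, ⊤) ⊗[Γ(W, ⊤)] Γ(cE.pt, ⊤))
      ((Γ(W, ⊤) ⊗[Γ(W, ⊤)] Γ(cE.pt, ⊤)) ⊗[Γ(W, ⊤)] Γ(T, ⊤))) := by
    have h1 : Q (pullback.fst sc x).appTop.hom :=
      (HasRingHomProperty.iff_of_isAffine (P := P)).mp h
    exact (Q_iff_ring Q hQ Γ(W, ⊤) Γ(cE.pt, ⊤) Γ(T, ⊤) (pullback.fst sc x).appTop
      (pullback.snd sc x).appTop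
      (isPushout_appTop_of_isPullback (IsPullback.of_hasPullback sc x))).mp h1
  obtain ⟨a, ha⟩ := hR Γ(W, ⊤) (fun a => Γ(E.obj (F.obj a).unop, ⊤)) f Γ(cE.pt, ⊤) g hg hsurj hker
    Γ(W, ⊤) Γ(T, ⊤) hyp
  refine ⟨(F.obj a).unop, ?_⟩
  rw [HasRingHomProperty.iff_of_isAffine (P := P)]
  exact (Q_iff_ring Q hQ Γ(W, ⊤) Γ(E.obj (F.obj a).unop, ⊤) Γ(T, ⊤)
    (pullback.fst (s (F.obj a).unop) x).appTop (pullback.snd (s (F.obj a).unop) x).appTop
    (isPushout_appTop_of_isPullback (IsPullback.of_hasPullback (s (F.obj a).unop) x))).mpr ha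

open CategoryTheory Limits in
theorem isPullback_comp_mono {C : Type*} [Category C] {P A B W Z : C} {fst : P ⟶ A} {snd : P ⟶ B}
    {a : A ⟶ W} {b : B ⟶ W} (m : W ⟶ Z) [Mono m] (h : IsPullback fst snd a b) :
    IsPullback fst snd (a ≫ m) (b ≫ m) := by
  refine ⟨⟨by rw [← Category.assoc, h.w, Category.assoc]⟩, ⟨PullbackCone.IsLimit.mk _
    (fun s => h.lift s.fst s.snd (by
      rw [← cancel_mono m, Category.assoc, Category.assoc]; exact s.condition))
    (fun s => h.lift_fst _ _ _) (fun s => h.lift_snd _ _ _) (fun s l h1 h2 => ?_)⟩⟩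
  apply h.hom_ext
  · rw [h1, h.lift_fst]
  · rw [h2, h.lift_snd]

open AlgebraicGeometry CategoryTheory Limits in
theorem P_of_comp_mono (P : MorphismProperty Scheme.{u}) [P.IsStableUnderBaseChange]
    {T W Z : Scheme.{u}} (x'' : T ⟶ W) (ι : W ⟶ Z) [Mono ι] (h : P (x'' ≫ ι)) : P x'' := by
  have sq : IsPullback x'' (𝟙 T) (𝟙 W ≫ ι) (x'' ≫ ι) :=
    isPullback_comp_mono ι (IsPullback.of_id_snd (f := x''))
  exact P.of_isPullback sq.flip h

open AlgebraicGeometry CategoryTheory Limits Groth.Agent.S9189 in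
theorem src_iff (P : MorphismProperty Scheme.{u}) [P.RespectsIso] {Z S X₀ : Scheme.{u}}
    (z : Z ⟶ S) (x : X₀ ⟶ S) (U : X₀.Opens) :
    P (pullback.fst z (U.ι ≫ x)) ↔ P (((pullback.snd z x) ⁻¹ᵁ U).ι ≫ pullback.fst z x) := by
  have hA := (IsPullback.of_hasPullback z (U.ι ≫ x)).flip
  have hB := (isPullback_morphismRestrict (pullback.snd z x) U).paste_vert
    (IsPullback.of_hasPullback z x).flip
  exact ⟨of_two_pullbacks P hA hB, of_two_pullbacks P hB hA⟩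

set_option backward.defeqAttrib.useBackward true in
set_option backward.isDefEq.respectTransparency false in
open AlgebraicGeometry CategoryTheory Limits Groth.Agent.S9189 Groth.Agent.Helper9.Lim8 in
theorem core_T (P : MorphismProperty Scheme.{u})
    (Q : ∀ {R S : Type u} [CommRing R] [CommRing S], (R →+* S) → Prop)
    [HasRingHomProperty P Q] [P.IsStableUnderBaseChange] [P.IsStableUnderComposition]
    (hOI : ∀ {A B : Scheme.{u}} (j : A ⟶ B) [IsOpenImmersion j], P j) (hR : RingDesc.{u} Q)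
    {I : Type u} [SmallCategory I] [IsCofiltered I]
    (D : I ⥤ Scheme.{u}) (c : Cone D) (hc : IsLimit c)
    [hD : ∀ {i j : I} (f : i ⟶ j), IsAffineHom (D.map f)] (i : I)
    {W T : Scheme.{u}} [IsAffine W] [IsAffine T] (w : W ⟶ D.obj i) [IsOpenImmersion w]
    (x'' : T ⟶ W) [LocallyOfFinitePresentation x'']
    (h : P (pullback.fst (c.π.app i) (x'' ≫ w))) :
    ∃ k : Over i, P (pullback.fst (D.map k.hom) (x'' ≫ w)) := by
  haveI : IsAffineHom (c.π.app i) := isAffineHom_π_app D c hc i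
  haveI hEaff : ∀ j : Over i, IsAffine ((bcDiagram D w).obj j) := fun j => by
    haveI : IsAffineHom (pullback.snd (D.map j.hom) w) :=
      MorphismProperty.pullback_snd _ _ inferInstance
    exact isAffine_of_isAffineHom (pullback.snd (D.map j.hom) w)
  haveI hptaff : IsAffine (bcCone D c w).pt := by
    haveI : IsAffineHom (pullback.snd (c.π.app i) w) :=
      MorphismProperty.pullback_snd _ _ inferInstance
    exact isAffine_of_isAffineHom (pullback.snd (c.π.app i) w)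
  have h1 : P (pullback.fst (pullback.snd (c.π.app i) w) x'') := by
    have ha : P (pullback.fst (pullback.fst (c.π.app i) w ≫ c.π.app i) (x'' ≫ w)) :=
      bc_transfer0 P (x'' ≫ w) (pullback.fst (c.π.app i) (x'' ≫ w))
        (pullback.snd (c.π.app i) (x'' ≫ w)) (c.π.app i)
        (IsPullback.of_hasPullback (c.π.app i) (x'' ≫ w)).flip h
        (pullback.fst (c.π.app i) w ≫ c.π.app i) (pullback.fst (c.π.app i) w) rfl
    have hy : pullback.fst (c.π.app i) w ≫ c.π.app i = pullback.snd (c.π.app i) w ≫ w :=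
      pullback.condition
    rw [hy] at ha
    have hA := (IsPullback.of_hasPullback (pullback.snd (c.π.app i) w ≫ w) (x'' ≫ w)).flip
    have hB := (isPullback_comp_mono w
      (IsPullback.of_hasPullback (pullback.snd (c.π.app i) w) x'')).flip
    exact of_two_pullbacks P hA hB ha
  obtain ⟨k, hk⟩ := aff_core P Q hR (bcDiagram D w) (bcCone D c w) (bcIsLimit D c hc w)
    (fun j => pullback.snd (D.map j.hom) w) (fun a => bcDiagram_map_snd D w a)
    (pullback.snd (c.π.app i) w) (fun j => bcCone_π_snd D c w j) x'' h1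
  refine ⟨k, ?_⟩
  have big := (IsPullback.of_hasPullback (pullback.snd (D.map k.hom) w) x'').flip.paste_vert
    (IsPullback.of_hasPullback (D.map k.hom) w).flip
  have hB := (IsPullback.of_hasPullback (D.map k.hom) (x'' ≫ w)).flip
  refine of_two_pullbacks P big hB ?_
  exact P.comp_mem _ _ hk (hOI (pullback.fst (D.map k.hom) w))

set_option backward.defeqAttrib.useBackward true in
set_option backward.isDefEq.respectTransparency false in
open AlgebraicGeometry CategoryTheory Limits Groth.Agent.S9189 Groth.Agent.Helper9.Lim8 in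
theorem core (P : MorphismProperty Scheme.{u})
    (Q : ∀ {R S : Type u} [CommRing R] [CommRing S], (R →+* S) → Prop)
    [HasRingHomProperty P Q] [P.IsStableUnderBaseChange] [P.IsStableUnderComposition]
    (hOI : ∀ {A B : Scheme.{u}} (j : A ⟶ B) [IsOpenImmersion j], P j) (hR : RingDesc.{u} Q)
    {I : Type u} [SmallCategory I] [IsCofiltered I]
    (D : I ⥤ Scheme.{u}) (c : Cone D) (hc : IsLimit c)
    [hD : ∀ {i j : I} (f : i ⟶ j), IsAffineHom (D.map f)] (i : I)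
    {X₀ : Scheme.{u}} [CompactSpace X₀] (x : X₀ ⟶ D.obj i) [LocallyOfFinitePresentation x]
    (h : P (pullback.fst (c.π.app i) x)) :
    ∃ k : Over i, P (pullback.fst (D.map k.hom) x) := by
  classical
  have hloc : ∀ p : X₀, ∃ U : X₀.Opens, p ∈ U ∧
      ∃ k : Over i, P (pullback.fst (D.map k.hom) (U.ι ≫ x)) := by
    intro p
    obtain ⟨W, hW, hpW⟩ : ∃ W : (D.obj i).Opens, IsAffineOpen W ∧ x p ∈ W := by
      obtain ⟨W, hW, hpW, -⟩ := TopologicalSpace.Opens.isBasis_iff_nbhd.mp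
        (D.obj i).isBasis_affineOpens (show x p ∈ (⊤ : (D.obj i).Opens) from trivial)
      exact ⟨W, hW, hpW⟩
    obtain ⟨U, hU, hpU, hUW⟩ : ∃ U : X₀.Opens, IsAffineOpen U ∧ p ∈ U ∧ U ≤ x ⁻¹ᵁ W := by
      obtain ⟨U, hU, hpU, hUW⟩ := TopologicalSpace.Opens.isBasis_iff_nbhd.mp
        X₀.isBasis_affineOpens (show p ∈ x ⁻¹ᵁ W from hpW)
      exact ⟨U, hU, hpU, hUW⟩
    refine ⟨U, hpU, ?_⟩
    haveI : IsAffine (W : Scheme.{u}) := hW
    haveI : IsAffine (U : Scheme.{u}) := hU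
    have hr : Set.range (U.ι ≫ x) ⊆ Set.range W.ι := by
      rw [Scheme.Opens.range_ι]
      rintro _ ⟨q, rfl⟩
      exact hUW q.2
    obtain ⟨x'', hx''⟩ : ∃ x'' : (U : Scheme.{u}) ⟶ (W : Scheme.{u}), x'' ≫ W.ι = U.ι ≫ x :=
      ⟨IsOpenImmersion.lift W.ι (U.ι ≫ x) hr, IsOpenImmersion.lift_fac _ _ _⟩
    haveI : LocallyOfFinitePresentation x'' :=
      P_of_comp_mono @LocallyOfFinitePresentation x'' W.ι (by rw [hx'']; infer_instance)
    have h2 : P (pullback.fst (c.π.app i) (x'' ≫ W.ι)) := by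
      rw [hx'']
      exact (src_iff P (c.π.app i) x U).mpr (IsZariskiLocalAtSource.comp h _)
    obtain ⟨k, hk⟩ := core_T P Q hOI hR D c hc i W.ι x'' h2
    rw [hx''] at hk
    exact ⟨k, hk⟩
  choose U hpU k hk using hloc
  obtain ⟨t, ht⟩ := CompactSpace.elim_nhds_subcover (fun p => (U p : Set X₀))
    (fun p => (U p).isOpen.mem_nhds (hpU p))
  obtain ⟨k₀, hk₀⟩ := IsCofiltered.inf_objs_exists (t.image k)
  refine ⟨k₀, ?_⟩
  have hfin : ∀ p ∈ t, P (pullback.fst (D.map k₀.hom) ((U p).ι ≫ x)) := by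
    intro p hp
    obtain ⟨ψ⟩ := hk₀ (Finset.mem_image_of_mem k hp)
    exact bc_transfer0 P ((U p).ι ≫ x) (pullback.fst (D.map (k p).hom) ((U p).ι ≫ x))
      (pullback.snd _ _) (D.map (k p).hom) (IsPullback.of_hasPullback _ _).flip (hk p)
      (D.map k₀.hom) (D.map ψ.left) (by rw [← D.map_comp, Over.w ψ])
  have hsup : ⨆ p : t, (pullback.snd (D.map k₀.hom) x) ⁻¹ᵁ (U p.1) = ⊤ := by
    rw [eq_top_iff]
    intro q _
    have hq : (pullback.snd (D.map k₀.hom) x) q ∈ ⋃ p ∈ t, (U p : Set X₀) := by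
      rw [ht]; trivial
    obtain ⟨p, hp, hqp⟩ := Set.mem_iUnion₂.mp hq
    exact TopologicalSpace.Opens.mem_iSup.mpr ⟨⟨p, hp⟩, hqp⟩
  rw [IsZariskiLocalAtSource.iff_of_iSup_eq_top (P := P)
    (fun p : t => (pullback.snd (D.map k₀.hom) x) ⁻¹ᵁ (U p.1)) hsup]
  intro p
  exact (src_iff P _ _ _).mp (hfin p.1 p.2)

set_option backward.defeqAttrib.useBackward true in
set_option backward.isDefEq.respectTransparency false in
open AlgebraicGeometry CategoryTheory Limits Groth.Agent.S9189 Groth.Agent.Helper9.Lim8 in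
theorem main (P : MorphismProperty Scheme.{u})
    (Q : ∀ {R S : Type u} [CommRing R] [CommRing S], (R →+* S) → Prop)
    [HasRingHomProperty P Q] [P.IsStableUnderBaseChange] [P.IsStableUnderComposition]
    (hOI : ∀ {A B : Scheme.{u}} (j : A ⟶ B) [IsOpenImmersion j], P j) (hR : RingDesc.{u} Q)
    {I : Type u} [SmallCategory I] [IsCofiltered I]
    (D : I ⥤ Scheme.{u}) (c : Limits.Cone D) (hc : Limits.IsLimit c)
    [hD : ∀ (i j : I) (f : i ⟶ j), IsAffineHom (D.map f)] (i₀ : I)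
    {X₀ Y₀ : Scheme.{u}} (f₀ : X₀ ⟶ Y₀) (g₀ : Y₀ ⟶ D.obj i₀)
    [CompactSpace X₀] [LocallyOfFinitePresentation f₀]
    {X Y : Scheme.{u}} (f : X ⟶ Y) (g : Y ⟶ c.pt) (qY : Y ⟶ Y₀) (qX : X ⟶ X₀)
    (hY : IsPullback qY g g₀ (c.π.app i₀)) (hX : IsPullback qX f f₀ qY) (hf : P f) :
    ∃ (i : I) (φ : i ⟶ i₀) (Xi Yi : Scheme.{u}) (fi : Xi ⟶ Yi) (gi : Yi ⟶ D.obj i) (pY : Yi ⟶ Y₀)
      (pX : Xi ⟶ X₀), IsPullback pY gi g₀ (D.map φ) ∧ IsPullback pX fi f₀ pY ∧ P fi := by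
  haveI hD' : ∀ {i j : I} (a : i ⟶ j), IsAffineHom (D.map a) := fun a => hD _ _ a
  obtain ⟨j₁⟩ : Nonempty (Over i₀) := ⟨Over.mk (𝟙 i₀)⟩
  haveI : CompactSpace ↥(pullback (pullback.snd (D.map j₁.hom) g₀) f₀) := by
    haveI : IsAffineHom (pullback.snd (D.map j₁.hom) g₀) :=
      MorphismProperty.pullback_snd _ _ inferInstance
    haveI : IsAffineHom (pullback.snd (pullback.snd (D.map j₁.hom) g₀) f₀) :=
      MorphismProperty.pullback_snd _ _ inferInstance
    exact QuasiCompact.compactSpace_of_compactSpace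
      (pullback.snd (pullback.snd (D.map j₁.hom) g₀) f₀)
  have hP : P (pullback.fst ((bcCone D c g₀).π.app j₁)
      (pullback.fst (pullback.snd (D.map j₁.hom) g₀) f₀)) :=
    bc_transfer P f₀ f qX qY hX hf (pullback.snd (D.map j₁.hom) g₀)
      ((bcCone D c g₀).π.app j₁) hY.flip.isoPullback.inv
      (by rw [IsPullback.isoPullback_inv_snd, bcCone_π_snd])
  obtain ⟨k, hk'⟩ := core P Q hOI hR (bcDiagram D g₀) (bcCone D c g₀) (bcIsLimit D c hc g₀) j₁
    (pullback.fst (pullback.snd (D.map j₁.hom) g₀) f₀) hP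
  refine ⟨k.left.left, k.left.hom,
    pullback ((bcDiagram D g₀).map k.hom) (pullback.fst (pullback.snd (D.map j₁.hom) g₀) f₀),
    pullback (D.map k.left.hom) g₀,
    pullback.fst ((bcDiagram D g₀).map k.hom) (pullback.fst (pullback.snd (D.map j₁.hom) g₀) f₀),
    pullback.fst (D.map k.left.hom) g₀, pullback.snd (D.map k.left.hom) g₀,
    pullback.snd ((bcDiagram D g₀).map k.hom)
        (pullback.fst (pullback.snd (D.map j₁.hom) g₀) f₀) ≫
      pullback.snd (pullback.snd (D.map j₁.hom) g₀) f₀,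
    (IsPullback.of_hasPullback (D.map k.left.hom) g₀).flip, ?_, hk'⟩
  have left := (IsPullback.of_hasPullback ((bcDiagram D g₀).map k.hom)
    (pullback.fst (pullback.snd (D.map j₁.hom) g₀) f₀)).flip
  have right := (IsPullback.of_hasPullback (pullback.snd (D.map j₁.hom) g₀) f₀).flip
  have big := left.paste_horiz right
  rw [bcDiagram_map_snd] at big
  exact big


/-- Let S = lim S_i be a cofiltered limit of schemes with affine transition morphisms, S_{i₀} a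
quasi-compact quasi-separated stage, f₀ : X₀ → Y₀ a morphism of quasi-compact quasi-separated
schemes over S_{i₀}, and f : X → Y its base change along S → S_{i₀} (base changes expressed by
pullback squares). If f₀ is locally of finite presentation and f is etale, then for some index i
over i₀ the base change f_i : X_i → Y_i of f₀ along S_i → S_{i₀} is etale. -/
theorem result {I : Type u} [SmallCategory I] [IsCofiltered I]
    (D : I ⥤ Scheme.{u}) (c : Limits.Cone D) (hc : Limits.IsLimit c)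
    [∀ (i j : I) (f : i ⟶ j), IsAffineHom (D.map f)] (i₀ : I) [CompactSpace (D.obj i₀)]
    [QuasiSeparatedSpace (D.obj i₀)] {X₀ Y₀ : Scheme.{u}} (f₀ : X₀ ⟶ Y₀) (g₀ : Y₀ ⟶ D.obj i₀)
    [CompactSpace X₀] [QuasiSeparatedSpace X₀] [CompactSpace Y₀] [QuasiSeparatedSpace Y₀]
    [LocallyOfFinitePresentation f₀]
    {X Y : Scheme.{u}} (f : X ⟶ Y) (g : Y ⟶ c.pt) (qY : Y ⟶ Y₀) (qX : X ⟶ X₀)
    (hY : IsPullback qY g g₀ (c.π.app i₀)) (hX : IsPullback qX f f₀ qY) [Etale f] :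
    ∃ (i : I) (φ : i ⟶ i₀) (Xi Yi : Scheme.{u}) (fi : Xi ⟶ Yi) (gi : Yi ⟶ D.obj i) (pY : Yi ⟶ Y₀)
      (pX : Xi ⟶ X₀), IsPullback pY gi g₀ (D.map φ) ∧ IsPullback pX fi f₀ pY ∧ Etale fi := by
  exact main @Etale @RingHom.Etale (fun j _ => inferInstance) ringDesc_etale D c hc i₀ f₀ g₀ f g
    qY qX hY hX inferInstance

theorem result_smooth {I : Type u} [SmallCategory I] [IsCofiltered I]
    (D : I ⥤ Scheme.{u}) (c : Limits.Cone D) (hc : Limits.IsLimit c)
    [∀ (i j : I) (f : i ⟶ j), IsAffineHom (D.map f)] (i₀ : I) [CompactSpace (D.obj i₀)]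
    [QuasiSeparatedSpace (D.obj i₀)] {X₀ Y₀ : Scheme.{u}} (f₀ : X₀ ⟶ Y₀) (g₀ : Y₀ ⟶ D.obj i₀)
    [CompactSpace X₀] [QuasiSeparatedSpace X₀] [CompactSpace Y₀] [QuasiSeparatedSpace Y₀]
    [LocallyOfFinitePresentation f₀]
    {X Y : Scheme.{u}} (f : X ⟶ Y) (g : Y ⟶ c.pt) (qY : Y ⟶ Y₀) (qX : X ⟶ X₀)
    (hY : IsPullback qY g g₀ (c.π.app i₀)) (hX : IsPullback qX f f₀ qY) [Smooth f] :
    ∃ (i : I) (φ : i ⟶ i₀) (Xi Yi : Scheme.{u}) (fi : Xi ⟶ Yi) (gi : Yi ⟶ D.obj i) (pY : Yi ⟶ Y₀)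
      (pX : Xi ⟶ X₀), IsPullback pY gi g₀ (D.map φ) ∧ IsPullback pX fi f₀ pY ∧ Smooth fi := by
  exact main @Smooth @RingHom.Smooth (fun j _ => inferInstance) ringDesc_smooth D c hc i₀ f₀ g₀ f g
    qY qX hY hX inferInstance


end Groth.Agent.S9192
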