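import Groth.Statements.S5944
import Mathlib
import Groth.Agent.S5941
-- import your own Groth.Agent.* helpers here

set_option autoImplicit false
universe u
open CategoryTheory AlgebraicGeometry
open Unram17

namespace Groth.Agent.S5944

open AlgebraicGeometry CategoryTheory Limits in
theorem top_sq {S' S₀ Y₀ X₀ : Scheme.{u}} (d : S' ⟶ S₀) (g₀ : Y₀ ⟶ S₀) (f₀ : X₀ ⟶ Y₀) :
    ∃ fm : pullback d (f₀ ≫ g₀) ⟶ pullback d g₀,
      fm ≫ pullback.fst d g₀ = pullback.fst d (f₀ ≫ g₀) ∧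
      fm ≫ pullback.snd d g₀ = pullback.snd d (f₀ ≫ g₀) ≫ f₀ ∧
      IsPullback (pullback.snd d (f₀ ≫ g₀)) fm f₀ (pullback.snd d g₀) := by
  have hc : pullback.fst d (f₀ ≫ g₀) ≫ d = (pullback.snd d (f₀ ≫ g₀) ≫ f₀) ≫ g₀ := by
    rw [Category.assoc]; exact pullback.condition
  refine ⟨pullback.lift _ _ hc, pullback.lift_fst _ _ _, pullback.lift_snd _ _ _, ?_⟩
  have t : IsPullback (pullback.snd d (f₀ ≫ g₀)) (pullback.lift _ _ hc ≫ pullback.fst d g₀)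
      (f₀ ≫ g₀) d := by
    rw [pullback.lift_fst]
    exact (IsPullback.of_hasPullback d (f₀ ≫ g₀)).flip
  exact IsPullback.of_bot t (pullback.lift_snd _ _ _).symm (IsPullback.of_hasPullback d g₀).flip

open AlgebraicGeometry CategoryTheory Limits in
theorem lemA {I : Type u} [SmallCategory I] (D : I ⥤ Scheme.{u}) (c : Cone D) {i₀ j : I}
    (φ : j ⟶ i₀) {X₀ Y₀ X Y Xj Yj : Scheme.{u}} {f₀ : X₀ ⟶ Y₀} {g₀ : Y₀ ⟶ D.obj i₀} {f : X ⟶ Y}
    {g : Y ⟶ c.pt} {qY : Y ⟶ Y₀} {qX : X ⟶ X₀}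
    (hY : IsPullback qY g g₀ (c.π.app i₀)) (hX : IsPullback qX f f₀ qY)
    {fj : Xj ⟶ Yj} {gj : Yj ⟶ D.obj j} {pY : Yj ⟶ Y₀} {pX : Xj ⟶ X₀}
    (h1 : IsPullback pY gj g₀ (D.map φ)) (h2 : IsPullback pX fj f₀ pY) (rX : X ⟶ Xj)
    (e1 : rX ≫ pX = qX) (e2 : rX ≫ fj ≫ gj = f ≫ g ≫ c.π.app j) :
    ∃ ε : Y ⟶ Yj, ε ≫ pY = qY ∧ ε ≫ gj = g ≫ c.π.app j ∧ IsPullback rX f fj ε := by
  have hcomm : qY ≫ g₀ = (g ≫ c.π.app j) ≫ D.map φ := by rw [Category.assoc, c.w, hY.w]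
  refine ⟨h1.lift qY (g ≫ c.π.app j) hcomm, h1.lift_fst _ _ _, h1.lift_snd _ _ _, ?_⟩
  have p : rX ≫ fj = f ≫ h1.lift qY (g ≫ c.π.app j) hcomm := by
    apply h1.hom_ext
    · rw [Category.assoc, Category.assoc, h1.lift_fst, ← h2.w, ← Category.assoc, e1, hX.w]
    · rw [Category.assoc, Category.assoc, h1.lift_snd, e2]
  have t : IsPullback (rX ≫ pX) f f₀ (h1.lift qY (g ≫ c.π.app j) hcomm ≫ pY) := by
    rw [e1, h1.lift_fst]; exact hX
  exact IsPullback.of_right t p h2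

set_option backward.defeqAttrib.useBackward true in
set_option backward.isDefEq.respectTransparency false in
open AlgebraicGeometry CategoryTheory Limits Groth.Agent.S9189 Groth.Agent.Helper9.Lim8 in
theorem nhd_iff (P : MorphismProperty Scheme.{u})
    (Q : ∀ {R S : Type u} [CommRing R] [CommRing S], (R →+* S) → Prop)
    [HasRingHomProperty P Q] [P.IsStableUnderBaseChange] [P.IsStableUnderComposition]
    (hOI : ∀ {A B : Scheme.{u}} (j : A ⟶ B) [IsOpenImmersion j], P j)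
    (hR : Groth.Agent.S9192.RingDesc.{u} Q)
    {I : Type u} [SmallCategory I] [IsCofiltered I]
    (D : I ⥤ Scheme.{u}) (c : Limits.Cone D) (hc : Limits.IsLimit c)
    [hD : ∀ (i j : I) (f : i ⟶ j), IsAffineHom (D.map f)] (i₀ : I)
    {X₀ Y₀ : Scheme.{u}} (f₀ : X₀ ⟶ Y₀) (g₀ : Y₀ ⟶ D.obj i₀)
    [LocallyOfFinitePresentation g₀] [LocallyOfFinitePresentation (f₀ ≫ g₀)]
    {X Y : Scheme.{u}} (f : X ⟶ Y) (g : Y ⟶ c.pt) (qY : Y ⟶ Y₀) (qX : X ⟶ X₀)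
    (hY : IsPullback qY g g₀ (c.π.app i₀)) (hX : IsPullback qX f f₀ qY) (x : ↥X) :
    (∃ U : X.Opens, x ∈ U ∧ P (U.ι ≫ f)) ↔
      ∃ (j : I) (φ : j ⟶ i₀) (Xj Yj : Scheme.{u}) (fj : Xj ⟶ Yj) (gj : Yj ⟶ D.obj j) (pY : Yj ⟶ Y₀)
        (pX : Xj ⟶ X₀) (rX : X ⟶ Xj), IsPullback pY gj g₀ (D.map φ) ∧ IsPullback pX fj f₀ pY ∧
          rX ≫ pX = qX ∧ rX ≫ fj ≫ gj = f ≫ g ≫ c.π.app j ∧
            ∃ V : Xj.Opens, rX.base x ∈ V ∧ P (V.ι ≫ fj) := by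
  haveI : LocallyOfFinitePresentation f₀ :=
    Groth.Agent.S4599.lfp_of_comp_of_lft (f := f₀) (g := g₀) inferInstance inferInstance
  constructor
  · rintro ⟨U, hxU, hU⟩
    haveI hD' : ∀ {i j : I} (a : i ⟶ j), IsAffineHom (D.map a) := fun a => hD _ _ a
    have hbig : IsPullback (f ≫ g) qX (c.π.app i₀) (f₀ ≫ g₀) := (hX.paste_vert hY).flip
    obtain ⟨θ, hθ1, hθ2⟩ : ∃ θ : X ≅ pullback (c.π.app i₀) (f₀ ≫ g₀),
        θ.hom ≫ pullback.fst _ _ = f ≫ g ∧ θ.hom ≫ pullback.snd _ _ = qX :=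
      ⟨hbig.isoPullback, hbig.isoPullback_hom_fst, hbig.isoPullback_hom_snd⟩
    have hB := isBasis_preimage_isAffineOpen (bcDiagram D (f₀ ≫ g₀)) (bcCone D c (f₀ ≫ g₀))
      (bcIsLimit D c hc (f₀ ≫ g₀))
    have hx' : θ.hom x ∈ (θ.inv ⁻¹ᵁ U) := by
      show θ.inv (θ.hom x) ∈ U
      rw [← Scheme.Hom.comp_apply, θ.hom_inv_id]; exact hxU
    obtain ⟨_, ⟨m, V, hV, rfl⟩, hxV, hVU⟩ := TopologicalSpace.Opens.isBasis_iff_nbhd.mp hB hx'
    obtain ⟨fm, hfm1, hfm2, hfm⟩ := top_sq (D.map m.hom) g₀ f₀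
    have hcond : (f ≫ g ≫ c.π.app m.left) ≫ D.map m.hom = qX ≫ f₀ ≫ g₀ := by
      rw [Category.assoc, Category.assoc, c.w, ← hY.w, ← Category.assoc, ← hX.w, Category.assoc]
    obtain ⟨rXm, hr1, hr2⟩ : ∃ rXm : X ⟶ pullback (D.map m.hom) (f₀ ≫ g₀),
        rXm ≫ pullback.fst _ _ = f ≫ g ≫ c.π.app m.left ∧ rXm ≫ pullback.snd _ _ = qX :=
      ⟨pullback.lift _ _ hcond, pullback.lift_fst _ _ _, pullback.lift_snd _ _ _⟩
    have hrX : rXm = θ.hom ≫ (bcCone D c (f₀ ≫ g₀)).π.app m := by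
      apply pullback.hom_ext
      · rw [hr1, Category.assoc, bcCone_π_fst, reassoc_of% hθ1]
      · rw [hr2, Category.assoc, bcCone_π_snd, hθ2]
    have hxVm : rXm x ∈ V := by
      rw [hrX]; exact hxV
    have hVU' : rXm ⁻¹ᵁ V ≤ U := by
      intro p hp
      have hp' : θ.hom p ∈ (bcCone D c (f₀ ≫ g₀)).π.app m ⁻¹ᵁ V := by
        have h3 : (θ.hom ≫ (bcCone D c (f₀ ≫ g₀)).π.app m) p ∈ V := by rw [← hrX]; exact hp
        exact h3
      have h2 : θ.inv (θ.hom p) ∈ U := hVU hp'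
      rw [← Scheme.Hom.comp_apply, θ.hom_inv_id] at h2
      exact h2
    have h1m := (IsPullback.of_hasPullback (D.map m.hom) g₀).flip
    obtain ⟨εm, hε1, hε2, sqm⟩ := lemA D c m.hom hY hX h1m hfm rXm hr2 (by rw [hfm1, hr1])
    have hY' : IsPullback εm g (pullback.fst (D.map m.hom) g₀) (c.π.app m.left) := by
      have t : IsPullback (εm ≫ pullback.snd (D.map m.hom) g₀) g g₀
          (c.π.app m.left ≫ D.map m.hom) := by rw [hε1, c.w]; exact hY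
      exact IsPullback.of_right t hε2 h1m
    have hX' : IsPullback (rXm ∣_ V) ((rXm ⁻¹ᵁ V).ι ≫ f) (V.ι ≫ fm) εm :=
      (isPullback_morphismRestrict rXm V).paste_vert sqm
    have hf' : P ((rXm ⁻¹ᵁ V).ι ≫ f) := by
      have e : (rXm ⁻¹ᵁ V).ι = X.homOfLE hVU' ≫ U.ι := (Scheme.homOfLE_ι X hVU').symm
      rw [e, Category.assoc]; exact IsZariskiLocalAtSource.comp hU _
    haveI : IsAffine (V : Scheme.{u}) := hV
    haveI : LocallyOfFinitePresentation fm := MorphismProperty.of_isPullback hfm inferInstance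
    obtain ⟨i, φ', Xi, Yi, fi, gi, pY', pX', h1', h2', hfi⟩ := Groth.Agent.S9192.main P Q hOI hR
      D c hc m.left (V.ι ≫ fm) (pullback.fst (D.map m.hom) g₀) ((rXm ⁻¹ᵁ V).ι ≫ f) g εm
      (rXm ∣_ V) hY' hX' hf'
    have h1 : IsPullback (pY' ≫ pullback.snd (D.map m.hom) g₀) gi g₀ (D.map (φ' ≫ m.hom)) := by
      rw [D.map_comp]; exact h1'.paste_horiz h1m
    obtain ⟨pY, hpY⟩ : ∃ pY : Yi ⟶ Y₀, pY = pY' ≫ pullback.snd (D.map m.hom) g₀ := ⟨_, rfl⟩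
    rw [← hpY] at h1
    obtain ⟨Xj, fj, pX, h2⟩ : ∃ (Xj : Scheme.{u}) (fj : Xj ⟶ Yi) (pX : Xj ⟶ X₀),
        IsPullback pX fj f₀ pY := ⟨_, _, _, (IsPullback.of_hasPullback pY f₀).flip⟩
    obtain ⟨ε', hε'1, hε'2⟩ : ∃ ε' : Y ⟶ Yi, ε' ≫ pY' = εm ∧ ε' ≫ gi = g ≫ c.π.app i :=
      ⟨h1'.lift εm (g ≫ c.π.app i) (by rw [hε2, Category.assoc, c.w]), h1'.lift_fst _ _ _,
        h1'.lift_snd _ _ _⟩
    have hε'3 : ε' ≫ pY = qY := by rw [hpY, ← Category.assoc, hε'1, hε1]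
    obtain ⟨rX', hr'1, hr'2⟩ : ∃ rX' : X ⟶ Xj, rX' ≫ pX = qX ∧ rX' ≫ fj = f ≫ ε' :=
      ⟨h2.lift qX (f ≫ ε') (by rw [Category.assoc, hε'3, hX.w]), h2.lift_fst _ _ _,
        h2.lift_snd _ _ _⟩
    have hκc : (fj ≫ gi ≫ D.map φ') ≫ D.map m.hom = pX ≫ f₀ ≫ g₀ := by
      rw [Category.assoc, Category.assoc, ← D.map_comp, ← h1.w, ← Category.assoc, ← h2.w,
        Category.assoc]
    obtain ⟨κ, hκ1, hκ2⟩ : ∃ κ : Xj ⟶ pullback (D.map m.hom) (f₀ ≫ g₀),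
        κ ≫ pullback.fst _ _ = fj ≫ gi ≫ D.map φ' ∧ κ ≫ pullback.snd _ _ = pX :=
      ⟨pullback.lift _ _ hκc, pullback.lift_fst _ _ _, pullback.lift_snd _ _ _⟩
    have hκ : κ ≫ fm = fj ≫ pY' := by
      apply pullback.hom_ext
      · rw [Category.assoc, hfm1, hκ1, Category.assoc, h1'.w]
      · rw [Category.assoc, hfm2, ← Category.assoc, hκ2, h2.w, Category.assoc, hpY]
    have sqκ : IsPullback κ fj fm pY' := by
      have t : IsPullback (κ ≫ pullback.snd (D.map m.hom) (f₀ ≫ g₀)) fj f₀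
          (pY' ≫ pullback.snd (D.map m.hom) g₀) := by rw [hκ2, ← hpY]; exact h2
      exact IsPullback.of_right t hκ hfm
    have hV' : IsPullback (κ ∣_ V) ((κ ⁻¹ᵁ V).ι ≫ fj) (V.ι ≫ fm) pY' :=
      (isPullback_morphismRestrict κ V).paste_vert sqκ
    have hP : P ((κ ⁻¹ᵁ V).ι ≫ fj) := of_two_pullbacks P h2' hV' hfi
    have hrκ : rX' ≫ κ = rXm := by
      apply pullback.hom_ext
      · rw [Category.assoc, hκ1, ← Category.assoc, hr'2, hr1, Category.assoc,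
          ← Category.assoc ε', hε'2, Category.assoc, c.w]
      · rw [Category.assoc, hκ2, hr'1, hr2]
    refine ⟨i, φ' ≫ m.hom, Xj, Yi, fj, gi, pY, pX, rX', h1, h2, hr'1, ?_, κ ⁻¹ᵁ V, ?_, hP⟩
    · rw [← Category.assoc, hr'2, Category.assoc, hε'2]
    · show κ (rX' x) ∈ V
      rw [← Scheme.Hom.comp_apply, hrκ]; exact hxVm
  · rintro ⟨j, φ, Xj, Yj, fj, gj, pY, pX, rX, h1, h2, e1, e2, V, hxV, hV⟩
    obtain ⟨ε, -, -, sq⟩ := lemA D c φ hY hX h1 h2 rX e1 e2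
    refine ⟨rX ⁻¹ᵁ V, hxV, ?_⟩
    have big := (isPullback_morphismRestrict rX V).paste_vert sq
    exact P.of_isPullback big hV


/-- Let S = lim S_i be a cofiltered limit of schemes with affine transition maps, let X₀ and Y₀ be
schemes locally of finite presentation over a stage S_{i₀}, f₀ : X₀ ⟶ Y₀ an S_{i₀}-morphism, and f :
X ⟶ Y the base change of f₀ along S ⟶ S_{i₀} (base changes are expressed by pullback squares). Let x
be a point of X; for a stage j over i₀ the canonical projection X ⟶ X_j is the morphism rX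
determined by its composites to X₀ and to S_j. Then f is etale on some open neighbourhood of x if
and only if, for some index j over i₀, f_j is etale on some open neighbourhood of the image of x in
X_j. This is the case of etale morphisms. -/
theorem result {I : Type u} [SmallCategory I] [IsCofiltered I]
    (D : I ⥤ Scheme.{u}) (c : Limits.Cone D) (hc : Limits.IsLimit c)
    [∀ (i j : I) (f : i ⟶ j), IsAffineHom (D.map f)] (i₀ : I)
    {X₀ Y₀ : Scheme.{u}} (f₀ : X₀ ⟶ Y₀) (g₀ : Y₀ ⟶ D.obj i₀)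
    [LocallyOfFinitePresentation g₀] [LocallyOfFinitePresentation (f₀ ≫ g₀)]
    {X Y : Scheme.{u}} (f : X ⟶ Y) (g : Y ⟶ c.pt) (qY : Y ⟶ Y₀) (qX : X ⟶ X₀)
    (hY : IsPullback qY g g₀ (c.π.app i₀)) (hX : IsPullback qX f f₀ qY) (x : ↥X) :
    (∃ U : X.Opens, x ∈ U ∧ Etale (U.ι ≫ f)) ↔
      ∃ (j : I) (φ : j ⟶ i₀) (Xj Yj : Scheme.{u}) (fj : Xj ⟶ Yj) (gj : Yj ⟶ D.obj j) (pY : Yj ⟶ Y₀)
        (pX : Xj ⟶ X₀) (rX : X ⟶ Xj), IsPullback pY gj g₀ (D.map φ) ∧ IsPullback pX fj f₀ pY ∧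
          rX ≫ pX = qX ∧ rX ≫ fj ≫ gj = f ≫ g ≫ c.π.app j ∧ ∃ V : Xj.Opens, rX.base x ∈ V ∧ Etale (V.ι ≫ fj) := by
  exact nhd_iff @Etale @RingHom.Etale (fun j _ => inferInstance) Groth.Agent.S9192.ringDesc_etale D c hc i₀
    f₀ g₀ f g qY qX hY hX x

end Groth.Agent.S5944
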