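import Groth.Statements.S5949
import Mathlib
import Groth.Agent.S4448
import Groth.Agent.Lib.Helper9.IntSection

set_option autoImplicit false
universe u
open CategoryTheory AlgebraicGeometry
open Unram17

namespace Groth.Agent.S5949

open AlgebraicGeometry CategoryTheory Limits in
/-- An integral morphism from an integral scheme onto a normal integral scheme admitting a section
at the generic point is an isomorphism. -/
theorem isIso_of_integral_of_generic_section {Y N : Scheme.{u}} [IsIntegral Y] [IsIntegral N]
    (hY : ∀ y : Y, IsIntegrallyClosed (Y.presheaf.stalk y))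
    (d : N ⟶ Y) [IsIntegralHom d]
    (i₁ : Spec Y.functionField ⟶ N) (hi₁ : i₁ ≫ d = Y.fromSpecStalk (genericPoint Y)) :
    IsIso d := by
  obtain ⟨W, hW, hηW, -⟩ :=
    exists_isAffineOpen_mem_and_subset (x := genericPoint Y) (U := ⊤) trivial
  haveI : Nonempty W := ⟨⟨genericPoint Y, hηW⟩⟩
  obtain ⟨fW, hfW, -⟩ := Groth.Agent.Helper9.IntSection.exists_local_section hY d W hW i₁ hi₁
  have hWd : Dense (W : Set Y) := W.isOpen.dense ⟨_, hηW⟩
  obtain ⟨s', hs', -⟩ := Groth.Agent.Helper9.IntSection.exists_section hY d W hWd fW hfW
  exact Groth.Agent.Helper9.IntSection.isIso_of_section d s' hs'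

open AlgebraicGeometry CategoryTheory Limits in
/-- Basic facts on the normalization of an integral scheme in its function field. -/
theorem normalization_facts (X : Scheme.{u}) [IsIntegral X]
    [QuasiCompact (X.fromSpecStalk (genericPoint X))]
    [QuasiSeparated (X.fromSpecStalk (genericPoint X))] :
    Pi1.IsNormalScheme (X.fromSpecStalk (genericPoint X)).normalization ∧
    (X.fromSpecStalk (genericPoint X)).fromNormalization.base ⁻¹' {genericPoint X} =
      {genericPoint (X.fromSpecStalk (genericPoint X)).normalization} ∧
    IsIso ((X.fromSpecStalk (genericPoint X)).fromNormalization.stalkMap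
      (genericPoint (X.fromSpecStalk (genericPoint X)).normalization)) := by
  obtain ⟨_, hnorm, hfib, htc, hinj, hrange⟩ := Groth.Agent.S4448.result X X.functionField
    (RingHom.id _) (X.fromSpecStalk (genericPoint X)) (by simp)
  refine ⟨hnorm, hfib, ?_⟩
  have hbij : Function.Bijective
      (Scheme.stalkClosedPointTo (X.fromSpecStalk (genericPoint X)).toNormalization).hom := by
    refine ⟨hinj, fun y => ?_⟩
    have hy : y ∈ Set.range
        (Scheme.stalkClosedPointTo (X.fromSpecStalk (genericPoint X)).toNormalization).hom := by
      rw [hrange]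
      exact ⟨Polynomial.X - Polynomial.C y, Polynomial.monic_X_sub_C y, by simp⟩
    exact hy
  haveI hiso1 : IsIso
      (Scheme.stalkClosedPointTo (X.fromSpecStalk (genericPoint X)).toNormalization) :=
    (ConcreteCategory.isIso_iff_bijective _).mpr hbij
  have h1 := Scheme.stalkClosedPointTo_comp (X.fromSpecStalk (genericPoint X)).toNormalization
    (X.fromSpecStalk (genericPoint X)).fromNormalization
  have h3 : IsIso (Scheme.stalkClosedPointTo (X.fromSpecStalk (genericPoint X))) := by
    rw [Scheme.stalkClosedPointTo_fromSpecStalk]
    infer_instance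
  have key : ∀ g' : Spec (X.presheaf.stalk (genericPoint X)) ⟶ X,
      g' = X.fromSpecStalk (genericPoint X) → IsIso (Scheme.stalkClosedPointTo g') := by
    rintro _ rfl
    exact h3
  have h4 := key _ (X.fromSpecStalk (genericPoint X)).toNormalization_fromNormalization
  rw [h1] at h4
  have h5 := @IsIso.of_isIso_comp_right _ _ _ _ _ _ _ hiso1 h4
  have key2 : ∀ z : (X.fromSpecStalk (genericPoint X)).normalization,
      (X.fromSpecStalk (genericPoint X)).toNormalization
        (IsLocalRing.closedPoint X.functionField) = z →
      IsIso ((X.fromSpecStalk (genericPoint X)).fromNormalization.stalkMap z) := by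
    rintro _ rfl
    exact h5
  exact key2 _ htc

open AlgebraicGeometry CategoryTheory Limits in
theorem aux_forward (X : Scheme.{u}) [IsIntegral X]
    [QuasiCompact (X.fromSpecStalk (genericPoint X))]
    [QuasiSeparated (X.fromSpecStalk (genericPoint X))]
    {Y : Scheme.{u}} (e : Y ≅ (X.fromSpecStalk (genericPoint X)).normalization) :
    Pi1.IsNormalScheme Y ∧
      IsIntegralHom (e.hom ≫ (X.fromSpecStalk (genericPoint X)).fromNormalization) ∧
      ∃ _ : IrreducibleSpace ↥Y,
        (e.hom ≫ (X.fromSpecStalk (genericPoint X)).fromNormalization).base ⁻¹' {genericPoint X} =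
          {genericPoint Y} ∧
        IsIso ((e.hom ≫ (X.fromSpecStalk (genericPoint X)).fromNormalization).stalkMap
          (genericPoint Y)) := by
  obtain ⟨hnorm, hfib, hstalk⟩ := normalization_facts X
  haveI : Nonempty Y := ⟨e.inv (genericPoint _)⟩
  haveI : IsIntegral Y := isIntegral_of_isOpenImmersion e.hom
  have hη : e.hom (genericPoint Y) = genericPoint _ := genericPoint_eq_of_isOpenImmersion e.hom
  refine ⟨fun y => ?_, inferInstance, inferInstance, ?_, ?_⟩
  · obtain ⟨hd, hic⟩ := hnorm (e.hom y)
    haveI := hd
    haveI := hic
    let r : (X.fromSpecStalk (genericPoint X)).normalization.presheaf.stalk (e.hom y) ≃+*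
        Y.presheaf.stalk y := (asIso (e.hom.stalkMap y)).commRingCatIsoToRingEquiv
    exact ⟨r.symm.toMulEquiv.isDomain _, IsIntegrallyClosed.of_equiv r⟩
  · ext y
    constructor
    · intro hy
      have h1 : e.hom y ∈ (X.fromSpecStalk (genericPoint X)).fromNormalization.base ⁻¹'
          {genericPoint X} := hy
      rw [hfib] at h1
      have h2 : e.hom y = e.hom (genericPoint Y) := by rw [hη]; exact h1
      exact e.hom.isOpenEmbedding.injective h2
    · rintro rfl
      have h1 : e.hom (genericPoint Y) ∈
          (X.fromSpecStalk (genericPoint X)).fromNormalization.base ⁻¹' {genericPoint X} := by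
        rw [hfib, hη]
        rfl
      exact h1
  · rw [Scheme.Hom.stalkMap_comp]
    have key : ∀ z : (X.fromSpecStalk (genericPoint X)).normalization, genericPoint _ = z →
        IsIso ((X.fromSpecStalk (genericPoint X)).fromNormalization.stalkMap z) := by
      rintro _ rfl
      exact hstalk
    exact IsIso.comp_isIso' (key _ hη.symm) inferInstance

open AlgebraicGeometry CategoryTheory Limits in
theorem aux_backward (X : Scheme.{u}) [IsIntegral X]
    [QuasiCompact (X.fromSpecStalk (genericPoint X))]
    [QuasiSeparated (X.fromSpecStalk (genericPoint X))]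
    {Y : Scheme.{u}} (f : Y ⟶ X) (hY : Pi1.IsNormalScheme Y) [IsIntegralHom f]
    [IrreducibleSpace ↥Y] (hfy : f (genericPoint Y) = genericPoint X)
    (hst : IsIso (f.stalkMap (genericPoint Y))) :
    ∃ e : Y ≅ (X.fromSpecStalk (genericPoint X)).normalization,
      e.hom ≫ (X.fromSpecStalk (genericPoint X)).fromNormalization = f := by
  haveI : ∀ y : Y, _root_.IsReduced (Y.presheaf.stalk y) := fun y => by
    haveI := (hY y).1
    infer_instance
  haveI : IsReduced Y := isReduced_of_isReduced_stalk Y
  haveI : IsIntegral Y := isIntegral_of_irreducibleSpace_of_isReduced Y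
  have h : genericPoint X ⤳ f (genericPoint Y) := (genericPoint_spec X).specializes trivial
  haveI hsp : IsIso (X.presheaf.stalkSpecializes h) := by
    have key : ∀ x' : X, x' = genericPoint X → ∀ h' : genericPoint X ⤳ x',
        IsIso (X.presheaf.stalkSpecializes h') := by
      rintro _ rfl h'
      rw [show X.presheaf.stalkSpecializes h' = 𝟙 _ from
        TopCat.Presheaf.stalkSpecializes_refl _ _]
      infer_instance
    exact key _ hfy h
  haveI := hst
  let θ : X.presheaf.stalk (genericPoint X) ⟶ Y.presheaf.stalk (genericPoint Y) :=
    inv (X.presheaf.stalkSpecializes h) ≫ f.stalkMap (genericPoint Y)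
  have hθ : f.stalkMap (genericPoint Y) ≫ inv θ = X.presheaf.stalkSpecializes h := by
    rw [IsIso.comp_inv_eq]
    simp [θ]
  let f₁ : Spec (X.presheaf.stalk (genericPoint X)) ⟶ Y :=
    Spec.map (inv θ) ≫ Y.fromSpecStalk (genericPoint Y)
  have H : X.fromSpecStalk (genericPoint X) = f₁ ≫ f := by
    rw [Category.assoc, ← Scheme.SpecMap_stalkMap_fromSpecStalk, ← Spec.map_comp_assoc, hθ,
      Scheme.SpecMap_stalkSpecializes_fromSpecStalk]
  let d := (X.fromSpecStalk (genericPoint X)).normalizationDesc f₁ f H
  have hd1 : (X.fromSpecStalk (genericPoint X)).toNormalization ≫ d = f₁ :=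
    (X.fromSpecStalk (genericPoint X)).toNormalization_normalizationDesc f₁ f H
  have hd2 : d ≫ f = (X.fromSpecStalk (genericPoint X)).fromNormalization :=
    (X.fromSpecStalk (genericPoint X)).normalizationDesc_comp f₁ f H
  let i₁ : Spec Y.functionField ⟶ (X.fromSpecStalk (genericPoint X)).normalization :=
    Spec.map θ ≫ (X.fromSpecStalk (genericPoint X)).toNormalization
  have hi₁ : i₁ ≫ d = Y.fromSpecStalk (genericPoint Y) := by
    rw [Category.assoc, hd1, ← Spec.map_comp_assoc, IsIso.inv_hom_id, Spec.map_id,
      Category.id_comp]
  haveI : IsIso d := isIso_of_integral_of_generic_section (fun y => (hY y).2) d i₁ hi₁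
  refine ⟨(asIso d).symm, ?_⟩
  rw [Iso.symm_hom, asIso_inv, IsIso.inv_comp_eq, hd2]


/-- Let X be an integral scheme, X' ⟶ X its normalization (the normalization of X in its function
field), and f : Y ⟶ X a morphism of schemes. Then there is an isomorphism Y ≅ X' over X if and only
if: every local ring of Y is an integrally closed domain, f is an integral morphism, and f is
birational, i.e. Y is irreducible, the fibre of f over the generic point of X consists of the
generic point of Y alone, and the induced map of local rings at the generic points is an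
isomorphism. (The published statement allows X reduced with locally finitely many irreducible
components, the normalization then being taken componentwise; this row states the case of an
integral X. The quasi-compactness and quasi-separatedness binders on the generic point always hold
and only serve to form the normalization.) -/
theorem result (X : Scheme.{u}) [IsIntegral X]
    [QuasiCompact (X.fromSpecStalk (genericPoint X))] [QuasiSeparated (X.fromSpecStalk (genericPoint X))]
    {Y : Scheme.{u}} (f : Y ⟶ X) :
    (∃ e : Y ≅ Curv2.normalization X, e.hom ≫ Curv2.normalizationι X = f) ↔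
      Pi1.IsNormalScheme Y ∧ IsIntegralHom f ∧
        ∃ _ : IrreducibleSpace ↥Y, f.base ⁻¹' {genericPoint X} = {genericPoint Y} ∧
          IsIso (f.stalkMap (genericPoint Y)) := by
  constructor
  · rintro ⟨e, rfl⟩
    exact aux_forward X e
  · rintro ⟨hY, hint, hirr, hfib, hst⟩
    have hfy : f (genericPoint Y) = genericPoint X := by
      have h1 : genericPoint Y ∈ f.base ⁻¹' {genericPoint X} := by
        rw [hfib]
        rfl
      exact h1
    exact aux_backward X f hY hfy hst

end Groth.Agent.S5949
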