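import Groth.Statements.S5950
import Mathlib
import Groth.Agent.S5949
import Groth.Agent.Lib.Helper5.BirNormal

set_option autoImplicit false
universe u
open CategoryTheory AlgebraicGeometry
open Unram17

namespace Groth.Agent.S5950

open AlgebraicGeometry CategoryTheory Limits in
/-- Variant of `S5949.isIso_of_integral_of_generic_section` with the generic point given up to
equality. -/
theorem isIso_of_section_at {Y N : Scheme.{u}} [IsIntegral Y] [IsIntegral N]
    (hY : ∀ y : Y, IsIntegrallyClosed (Y.presheaf.stalk y))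
    (d : N ⟶ Y) [IsIntegralHom d] (y₀ : Y) (hy₀ : y₀ = genericPoint Y)
    (i₁ : Spec (Y.presheaf.stalk y₀) ⟶ N) (hi₁ : i₁ ≫ d = Y.fromSpecStalk y₀) :
    IsIso d := by
  subst hy₀
  exact Groth.Agent.S5949.isIso_of_integral_of_generic_section hY d i₁ hi₁

open AlgebraicGeometry CategoryTheory Limits in
/-- An integral morphism of integral schemes with a section at the generic point is an isomorphism
over any open of the target all of whose local rings are integrally closed. -/
theorem isIso_restrict_of_generic_section {Y N : Scheme.{u}} [IsIntegral Y] [IsIntegral N]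
    (d : N ⟶ Y) [IsIntegralHom d]
    (i₁ : Spec (Y.presheaf.stalk (genericPoint Y)) ⟶ N)
    (hi₁ : i₁ ≫ d = Y.fromSpecStalk (genericPoint Y))
    (V : Y.Opens) (hVne : (V : Set Y).Nonempty)
    (hV : ∀ y ∈ V, IsIntegrallyClosed (Y.presheaf.stalk y)) : IsIso (d ∣_ V) := by
  have hη : genericPoint Y ∈ V :=
    ((genericPoint_spec Y).mem_open_set_iff V.isOpen).mpr (by simpa using hVne)
  haveI : Nonempty V := ⟨⟨genericPoint Y, hη⟩⟩
  have hrange : ∀ p, d (i₁ p) ∈ V := by
    intro p
    have h1 : d (i₁ p) = (Y.fromSpecStalk (genericPoint Y)) p := by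
      rw [← hi₁]
      rfl
    have h2 : (Y.fromSpecStalk (genericPoint Y)) p ∈ Set.range (Y.fromSpecStalk (genericPoint Y)) :=
      ⟨p, rfl⟩
    rw [Scheme.range_fromSpecStalk] at h2
    rw [h1]
    exact h2.mem_open V.isOpen hη
  haveI : Nonempty (d ⁻¹ᵁ V).toScheme := ⟨⟨i₁ (IsLocalRing.closedPoint _), hrange _⟩⟩
  haveI : IsIntegral (d ⁻¹ᵁ V).toScheme := isIntegral_of_isOpenImmersion (d ⁻¹ᵁ V).ι
  haveI : IsIntegralHom (d ∣_ V) := IsZariskiLocalAtTarget.restrict ‹IsIntegralHom d› V
  have hV' : ∀ v : V.toScheme, IsIntegrallyClosed (V.toScheme.presheaf.stalk v) := by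
    intro v
    haveI := hV v.1 v.2
    exact IsIntegrallyClosed.of_equiv (V.stalkIso v).symm.commRingCatIsoToRingEquiv
  obtain ⟨x₀, hx₀⟩ : ∃ x₀ : V.toScheme, x₀ = ⟨genericPoint Y, hη⟩ := ⟨_, rfl⟩
  have hx₀' : x₀ = genericPoint V := by
    apply V.ι.isOpenEmbedding.injective
    rw [genericPoint_eq_of_isOpenImmersion V.ι, hx₀]
    rfl
  have hιx₀ : V.ι x₀ = genericPoint Y := by rw [hx₀]; rfl
  have key : ∀ (y' : Y) (hy' : y' = genericPoint Y),
      ∃ i' : Spec (Y.presheaf.stalk y') ⟶ N, i' ≫ d = Y.fromSpecStalk y' := by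
    rintro _ rfl
    exact ⟨i₁, hi₁⟩
  obtain ⟨i', hi'⟩ := key _ hιx₀
  have hrange' : Set.range ⇑(Spec.map (V.ι.stalkMap x₀) ≫ i') ⊆ Set.range ⇑(d ⁻¹ᵁ V).ι := by
    rintro _ ⟨p, rfl⟩
    rw [Scheme.Opens.range_ι]
    have h1 : d ((Spec.map (V.ι.stalkMap x₀) ≫ i') p) =
        (Y.fromSpecStalk (V.ι x₀)) ((Spec.map (V.ι.stalkMap x₀)) p) := by
      rw [← hi']
      rfl
    have h2 : (Y.fromSpecStalk (V.ι x₀)) ((Spec.map (V.ι.stalkMap x₀)) p) ∈
        Set.range (Y.fromSpecStalk (V.ι x₀)) := ⟨_, rfl⟩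
    rw [Scheme.range_fromSpecStalk] at h2
    show d ((Spec.map (V.ι.stalkMap x₀) ≫ i') p) ∈ V
    rw [h1]
    exact h2.mem_open V.isOpen x₀.2
  let i₁' : Spec (V.toScheme.presheaf.stalk x₀) ⟶ (d ⁻¹ᵁ V).toScheme :=
    IsOpenImmersion.lift (d ⁻¹ᵁ V).ι (Spec.map (V.ι.stalkMap x₀) ≫ i') hrange'
  have hfac : i₁' ≫ (d ⁻¹ᵁ V).ι = Spec.map (V.ι.stalkMap x₀) ≫ i' :=
    IsOpenImmersion.lift_fac _ _ _
  have hi₁' : i₁' ≫ (d ∣_ V) = V.toScheme.fromSpecStalk x₀ := by
    rw [← cancel_mono V.ι, Category.assoc, morphismRestrict_ι, ← Category.assoc, hfac,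
      Category.assoc, hi', Scheme.SpecMap_stalkMap_fromSpecStalk]
  exact isIso_of_section_at hV' (d ∣_ V) x₀ hx₀' i₁' hi₁'


/-- Let X be an integral scheme which has a nonempty (hence dense) open subset at whose points the local
rings are integrally closed, let X' ⟶ X be its normalization, and let f : Y ⟶ X be a morphism of
schemes. Then there is an isomorphism Y ≅ X' over X if and only if: every local ring of Y is an
integrally closed domain, f is an integral morphism, and there is a dense open subset U of X whose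
preimage is dense in Y and such that the restriction f⁻¹(U) ⟶ U of f is an isomorphism. (The
published statement allows X reduced with locally finitely many irreducible components and a dense
normal open subset; this row states the case of an integral X. The quasi-compactness and
quasi-separatedness binders on the generic point always hold and only serve to form the
normalization.) -/
theorem result (X : Scheme.{u}) [IsIntegral X]
    [QuasiCompact (X.fromSpecStalk (genericPoint X))] [QuasiSeparated (X.fromSpecStalk (genericPoint X))]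
    (hV : ∃ V : X.Opens, (V : Set ↥X).Nonempty ∧ ∀ x ∈ V, IsIntegrallyClosed (X.presheaf.stalk x))
    {Y : Scheme.{u}} (f : Y ⟶ X) :
    (∃ e : Y ≅ Curv2.normalization X, e.hom ≫ Curv2.normalizationι X = f) ↔
      Pi1.IsNormalScheme Y ∧ IsIntegralHom f ∧
        ∃ U : X.Opens, Dense (U : Set ↥X) ∧ Dense ((f ⁻¹ᵁ U : Y.Opens) : Set ↥Y) ∧ IsIso (f ∣_ U) := by
  change (∃ e : Y ≅ (X.fromSpecStalk (genericPoint X)).normalization,
    e.hom ≫ (X.fromSpecStalk (genericPoint X)).fromNormalization = f) ↔ _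
  constructor
  · rintro ⟨e, rfl⟩
    obtain ⟨hYn, hint, hirr, hfib, -⟩ := Groth.Agent.S5949.aux_forward X e
    obtain ⟨V, hVne, hV⟩ := hV
    haveI := hirr
    refine ⟨hYn, hint, V, V.isOpen.dense hVne, ?_, ?_⟩
    · have hηV : genericPoint X ∈ V :=
        ((genericPoint_spec X).mem_open_set_iff V.isOpen).mpr (by simpa using hVne)
      have h1 : genericPoint Y ∈
          (e.hom ≫ (X.fromSpecStalk (genericPoint X)).fromNormalization).base ⁻¹'
            {genericPoint X} := by
        rw [hfib]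
        rfl
      have h2 : (e.hom ≫ (X.fromSpecStalk (genericPoint X)).fromNormalization) (genericPoint Y) =
          genericPoint X := h1
      refine ((e.hom ≫ (X.fromSpecStalk (genericPoint X)).fromNormalization) ⁻¹ᵁ V).isOpen.dense
        ⟨genericPoint Y, ?_⟩
      show (e.hom ≫ (X.fromSpecStalk (genericPoint X)).fromNormalization) (genericPoint Y) ∈ V
      rw [h2]
      exact hηV
    · haveI : IsIso ((X.fromSpecStalk (genericPoint X)).fromNormalization ∣_ V) :=
        isIso_restrict_of_generic_section (X.fromSpecStalk (genericPoint X)).fromNormalization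
          (X.fromSpecStalk (genericPoint X)).toNormalization
          (X.fromSpecStalk (genericPoint X)).toNormalization_fromNormalization V hVne hV
      show IsIso ((e.hom ≫ (X.fromSpecStalk (genericPoint X)).fromNormalization) ∣_ V)
      rw [morphismRestrict_comp]
      have h3 : IsIso (e.hom ∣_ (X.fromSpecStalk (genericPoint X)).fromNormalization ⁻¹ᵁ V) :=
        (MorphismProperty.isomorphisms.iff _).mp
          (IsZariskiLocalAtTarget.restrict (P := MorphismProperty.isomorphisms Scheme.{u})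
            ((MorphismProperty.isomorphisms.iff _).mpr inferInstance) _)
      exact IsIso.comp_isIso' h3 inferInstance
  · rintro ⟨hY, hint, U, hUd, hU'd, hiso⟩
    haveI := hiso
    obtain ⟨x₁, hx₁⟩ := hUd.nonempty
    have hsurj : ∀ x ∈ U, ∃ z : Y, f z = x := by
      intro x hx
      obtain ⟨z, hz⟩ := (f ∣_ U).surjective ⟨x, hx⟩
      refine ⟨z.1, ?_⟩
      have h1 := congrArg Subtype.val hz
      rwa [morphismRestrict_base_coe] at h1
    obtain ⟨z₁, hz₁⟩ := hsurj x₁ hx₁
    have hz₁U : z₁ ∈ f ⁻¹ᵁ U := by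
      show f z₁ ∈ U
      rw [hz₁]
      exact hx₁
    haveI : Nonempty U := ⟨⟨x₁, hx₁⟩⟩
    haveI : Nonempty (f ⁻¹ᵁ U).toScheme := ⟨⟨z₁, hz₁U⟩⟩
    haveI : IsIntegral (f ⁻¹ᵁ U).toScheme := isIntegral_of_isOpenImmersion (f ∣_ U)
    have hirrU : IsIrreducible ((f ⁻¹ᵁ U : Y.Opens) : Set Y) := by
      have h1 := (IrreducibleSpace.isIrreducible_univ (f ⁻¹ᵁ U).toScheme).image (f ⁻¹ᵁ U).ι
        (f ⁻¹ᵁ U).ι.continuous.continuousOn
      rwa [Set.image_univ, Scheme.Opens.range_ι] at h1
    haveI : IrreducibleSpace ↥Y := by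
      rw [irreducibleSpace_def]
      have h2 := hirrU.closure
      rwa [hU'd.closure_eq] at h2
    haveI : IsDominant f := ⟨hUd.mono (fun x hx => hsurj x hx)⟩
    have hfy : f (genericPoint Y) = genericPoint X :=
      Groth.Agent.Helper5.BirNormal.map_genericPoint_of_isDominant f
    have hηU : genericPoint X ∈ U :=
      ((genericPoint_spec X).mem_open_set_iff U.isOpen).mpr (by simpa using hUd.nonempty)
    have hst : IsIso (f.stalkMap (genericPoint Y)) :=
      Groth.Agent.Helper5.BirNormal.isIso_stalkMap_of_isIso_restrict f U _ (hfy ▸ hηU)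
    exact Groth.Agent.S5949.aux_backward X f hY hfy hst

end Groth.Agent.S5950
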