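import Groth.Statements.S5956
import Mathlib
set_option linter.style.haveILetI false

set_option autoImplicit false
universe u
open CategoryTheory CategoryTheory.Limits AlgebraicGeometry TopologicalSpace Opposite
open Nrm16

namespace Groth.Agent.S5956

section Aux

open CategoryTheory CategoryTheory.Limits AlgebraicGeometry

theorem pullSect_comp {A B X : Scheme.{u}} (j : A ⟶ B) (p : B ⟶ X) (F : X.Modules) (U : X.Opens)
    (t : Γ(F, U)) :
    ((Scheme.Modules.pullbackComp j p).hom.app F).app ((j ≫ p) ⁻¹ᵁ U)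
      (OmegaSh.pullSect j ((Scheme.Modules.pullback p).obj F) (p ⁻¹ᵁ U)
        (OmegaSh.pullSect p F U t)) =
    OmegaSh.pullSect (j ≫ p) F U t := by
  have h := unit_conjugateEquiv
    ((Scheme.Modules.pullbackPushforwardAdjunction p).comp
      (Scheme.Modules.pullbackPushforwardAdjunction j))
    (Scheme.Modules.pullbackPushforwardAdjunction (j ≫ p))
    (Scheme.Modules.pullbackComp j p).inv F
  rw [Scheme.Modules.conjugateEquiv_pullbackComp_inv, Adjunction.comp_unit_app] at h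
  have h' := congr(($h).app U t)
  have h'' : OmegaSh.pullSect j ((Scheme.Modules.pullback p).obj F) (p ⁻¹ᵁ U)
      (OmegaSh.pullSect p F U t) =
      ((Scheme.Modules.pullbackComp j p).inv.app F).app ((j ≫ p) ⁻¹ᵁ U)
        (OmegaSh.pullSect (j ≫ p) F U t) := h'
  rw [h'']
  have h3 : ((Scheme.Modules.pullbackComp j p).inv.app F ≫
      (Scheme.Modules.pullbackComp j p).hom.app F) = 𝟙 _ := Iso.inv_hom_id_app _ _
  have h4 := congr(($h3).app ((j ≫ p) ⁻¹ᵁ U) (OmegaSh.pullSect (j ≫ p) F U t))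
  exact h4

theorem exists_rho {A B X : Scheme.{u}} (j : A ⟶ B) (p1 p2 : B ⟶ X) (q1 q2 : A ⟶ X)
    (h1 : j ≫ p1 = q1) (h2 : j ≫ p2 = q2) (F : X.Modules) :
    ∃ ρ : (Scheme.Modules.pushforward p1).obj ((Scheme.Modules.pullback p2).obj F) ⟶
        (Scheme.Modules.pushforward q1).obj ((Scheme.Modules.pullback q2).obj F),
      ∀ (U : X.Opens) (t : Γ(F, U)) (e : p1 ⁻¹ᵁ U ≤ p2 ⁻¹ᵁ U) (e' : q1 ⁻¹ᵁ U ≤ q2 ⁻¹ᵁ U),
        ρ.app U (((Scheme.Modules.pullback p2).obj F).presheaf.map (homOfLE e).op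
          (OmegaSh.pullSect p2 F U t)) =
        ((Scheme.Modules.pullback q2).obj F).presheaf.map (homOfLE e').op
          (OmegaSh.pullSect q2 F U t) := by
  subst h1 h2
  let γ : (Scheme.Modules.pullback p2).obj F ⟶
      (Scheme.Modules.pushforward j).obj ((Scheme.Modules.pullback (j ≫ p2)).obj F) :=
    (Scheme.Modules.pullbackPushforwardAdjunction j).unit.app ((Scheme.Modules.pullback p2).obj F) ≫
      (Scheme.Modules.pushforward j).map ((Scheme.Modules.pullbackComp j p2).hom.app F)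
  refine ⟨(Scheme.Modules.pushforward p1).map γ ≫
    (Scheme.Modules.pushforwardComp j p1).hom.app _, fun U t e e' => ?_⟩
  have hnat := congr($((Scheme.Modules.Hom.mapPresheaf γ).naturality (homOfLE e).op)
    (OmegaSh.pullSect p2 F U t))
  have hγ : γ.app (p2 ⁻¹ᵁ U) (OmegaSh.pullSect p2 F U t) = OmegaSh.pullSect (j ≫ p2) F U t :=
    pullSect_comp j p2 F U t
  have hnat' : γ.app (p1 ⁻¹ᵁ U) (((Scheme.Modules.pullback p2).obj F).presheaf.map (homOfLE e).op
      (OmegaSh.pullSect p2 F U t)) =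
      ((Scheme.Modules.pushforward j).obj ((Scheme.Modules.pullback (j ≫ p2)).obj F)).presheaf.map
        (homOfLE e).op (γ.app (p2 ⁻¹ᵁ U) (OmegaSh.pullSect p2 F U t)) := hnat
  rw [hγ] at hnat'
  exact hnat'

end Aux

/-- Let f : X ⟶ S be a morphism of schemes, F and G two O_X-modules and D : F ⟶ G a differential
operator of order at most n relative to S. Then D is a differential operator of order at most m for
every m ≥ n. -/
theorem result {X S : Scheme.{u}} (f : X ⟶ S) (F G : X.Modules) {n m : ℕ} (h : n ≤ m)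
    (D : F.presheaf ⟶ G.presheaf) (hD : PrinPart.IsDiffOpLE f F G n D) :
    PrinPart.IsDiffOpLE f F G m D := by
  obtain ⟨w, hw⟩ := hD
  have h1 : PrinPart.infNbhdMap (PrinPart.diagCl f) h ≫ PrinPart.pr1 f m = PrinPart.pr1 f n := by
    simp [PrinPart.pr1, PrinPart.nbhdι]
  have h2 : PrinPart.infNbhdMap (PrinPart.diagCl f) h ≫ PrinPart.pr2 f m = PrinPart.pr2 f n := by
    simp [PrinPart.pr2, PrinPart.nbhdι]
  obtain ⟨ρ, hρ⟩ := exists_rho (PrinPart.infNbhdMap (PrinPart.diagCl f) h) (PrinPart.pr1 f m)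
    (PrinPart.pr2 f m) (PrinPart.pr1 f n) (PrinPart.pr2 f n) h1 h2 F
  refine ⟨(show PrinPart.PMod f m F ⟶ PrinPart.PMod f n F from ρ) ≫ w, fun U t => ?_⟩
  rw [hw]
  have h3 := hρ U t (PrinPart.preimage_pr1 f m U).le (PrinPart.preimage_pr1 f n U).le
  show w.app U _ = w.app U (ρ.app U (PrinPart.dP f m F U t))
  rw [PrinPart.dP_apply, PrinPart.dP_apply, h3]

end Groth.Agent.S5956
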