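import Groth.Statements.S5979
import Mathlib
set_option linter.style.haveILetI false

set_option autoImplicit false
universe u
open CategoryTheory CategoryTheory.Limits AlgebraicGeometry TopologicalSpace Opposite
open Nrm16

namespace Groth.Agent.S5979

section Aux

open CategoryTheory CategoryTheory.Limits AlgebraicGeometry

theorem pullback_isEquivalence {X' X : Scheme.{u}} (h : X' ⟶ X) [IsIso h] :
    (Scheme.Modules.pullback h).IsEquivalence :=
  (CategoryTheory.Equivalence.mk (Scheme.Modules.pullback h) (Scheme.Modules.pullback (inv h))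
    ((Scheme.Modules.pullbackComp (inv h) h ≪≫ Scheme.Modules.pullbackCongr (IsIso.inv_hom_id h) ≪≫
      Scheme.Modules.pullbackId X).symm)
    (Scheme.Modules.pullbackComp h (inv h) ≪≫ Scheme.Modules.pullbackCongr (IsIso.hom_inv_id h) ≪≫
      Scheme.Modules.pullbackId X')).isEquivalence_functor

theorem isIso_inclusion_of_eq {X : Scheme.{u}} {I J : X.IdealSheafData} (h : I ≤ J) (e : I = J) :
    IsIso (Scheme.IdealSheafData.inclusion h) := by
  subst e
  rw [Scheme.IdealSheafData.inclusion_id]
  infer_instance

end Aux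

/-- Let f : X ⟶ S be a morphism of schemes and F an O_X-module. For every open U of X the canonical
operator d^0 : Γ(U, F) ⟶ Γ(U, P^0_{X/S}(F)) is bijective; so P^0_{X/S}(F) is identified with F, and
P^0_{X/S} with O_X, through d^0. -/
theorem result {X S : Scheme.{u}} (f : X ⟶ S) (F : X.Modules) (U : X.Opens) :
    Function.Bijective (PrinPart.dP f 0 F U) := by
  haveI hcl : IsClosedImmersion (PrinPart.diagCl f) := inferInstance
  haveI hto : IsIso (PrinPart.toNbhd f 0) := by
    show IsIso (PrinPart.toInfNbhd (PrinPart.diagCl f) 0)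
    unfold PrinPart.toInfNbhd
    haveI : IsIso (Scheme.IdealSheafData.inclusion
        (PrinPart.ker_pow_succ_le (PrinPart.diagCl f) 0)) :=
      isIso_inclusion_of_eq _ (by rw [zero_add, pow_one])
    infer_instance
  haveI : IsIso (PrinPart.pr2 f 0) := by
    haveI : IsIso (PrinPart.toNbhd f 0 ≫ PrinPart.pr2 f 0) := by
      rw [PrinPart.toNbhd_pr2]; infer_instance
    exact IsIso.of_isIso_comp_left (PrinPart.toNbhd f 0) (PrinPart.pr2 f 0)
  haveI := pullback_isEquivalence (PrinPart.pr2 f 0)
  haveI : IsIso (Scheme.Modules.pullbackPushforwardAdjunction (PrinPart.pr2 f 0)).unit :=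
    inferInstance
  haveI h1 : IsIso (OmegaSh.pullSect (PrinPart.pr2 f 0) F U) := by
    show IsIso (((Scheme.Modules.pullbackPushforwardAdjunction (PrinPart.pr2 f 0)).unit.app F).app U)
    infer_instance
  haveI hiso : IsIso (homOfLE (PrinPart.preimage_pr1 f 0 U).le) := by
    rw [show homOfLE (PrinPart.preimage_pr1 f 0 U).le = eqToHom (PrinPart.preimage_pr1 f 0 U) from
      Subsingleton.elim _ _]
    infer_instance
  haveI h2 : IsIso (((Scheme.Modules.pullback (PrinPart.pr2 f 0)).obj F).presheaf.map
      (homOfLE (PrinPart.preimage_pr1 f 0 U).le).op) := inferInstance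
  have hb1 := ConcreteCategory.bijective_of_isIso (OmegaSh.pullSect (PrinPart.pr2 f 0) F U)
  have hb2 := ConcreteCategory.bijective_of_isIso
    (((Scheme.Modules.pullback (PrinPart.pr2 f 0)).obj F).presheaf.map
      (homOfLE (PrinPart.preimage_pr1 f 0 U).le).op)
  exact hb2.comp hb1

end Groth.Agent.S5979
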