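import Groth.Statements.S5957
import Mathlib
import Groth.Agent.S5979
set_option linter.style.haveILetI false

set_option autoImplicit false
universe u
open CategoryTheory CategoryTheory.Limits AlgebraicGeometry TopologicalSpace Opposite
open Nrm16

namespace Groth.Agent.S5957

section Aux

open CategoryTheory CategoryTheory.Limits AlgebraicGeometry

variable {X S : Scheme.{u}} (f : X ⟶ S)

theorem isIso_toNbhd_zero : IsIso (PrinPart.toNbhd f 0) := by
  haveI hcl : IsClosedImmersion (PrinPart.diagCl f) := inferInstance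
  show IsIso (PrinPart.toInfNbhd (PrinPart.diagCl f) 0)
  unfold PrinPart.toInfNbhd
  haveI : IsIso (Scheme.IdealSheafData.inclusion
      (PrinPart.ker_pow_succ_le (PrinPart.diagCl f) 0)) :=
    Groth.Agent.S5979.isIso_inclusion_of_eq _ (by rw [zero_add, pow_one])
  infer_instance

theorem pr1_eq_pr2_zero : PrinPart.pr1 f 0 = PrinPart.pr2 f 0 := by
  haveI := isIso_toNbhd_zero f
  rw [← cancel_epi (PrinPart.toNbhd f 0), PrinPart.toNbhd_pr1, PrinPart.toNbhd_pr2]

theorem isIso_pr2_zero : IsIso (PrinPart.pr2 f 0) := by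
  haveI := isIso_toNbhd_zero f
  haveI : IsIso (PrinPart.toNbhd f 0 ≫ PrinPart.pr2 f 0) := by
    rw [PrinPart.toNbhd_pr2]; infer_instance
  exact IsIso.of_isIso_comp_left (PrinPart.toNbhd f 0) (PrinPart.pr2 f 0)

/-- The comparison `F ⟶ P^0(F)`. -/
noncomputable def theta (F : X.Modules) : F ⟶ PrinPart.PMod f 0 F :=
  (Scheme.Modules.pullbackPushforwardAdjunction (PrinPart.pr2 f 0)).unit.app F ≫
    (Scheme.Modules.pushforwardCongr (pr1_eq_pr2_zero f).symm).hom.app
      ((Scheme.Modules.pullback (PrinPart.pr2 f 0)).obj F)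

theorem theta_app (F : X.Modules) (U : X.Opens) (t : Γ(F, U)) :
    (theta f F).app U t = PrinPart.dP f 0 F U t := rfl

instance (F : X.Modules) : IsIso (theta f F) := by
  haveI := isIso_pr2_zero f
  haveI := Groth.Agent.S5979.pullback_isEquivalence (PrinPart.pr2 f 0)
  haveI : IsIso (Scheme.Modules.pullbackPushforwardAdjunction (PrinPart.pr2 f 0)).unit :=
    inferInstance
  haveI h1 : IsIso ((Scheme.Modules.pullbackPushforwardAdjunction (PrinPart.pr2 f 0)).unit.app F) :=
    inferInstance
  haveI h2 : IsIso ((Scheme.Modules.pushforwardCongr (pr1_eq_pr2_zero f).symm).hom.app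
      ((Scheme.Modules.pullback (PrinPart.pr2 f 0)).obj F)) :=
    ((Scheme.Modules.pushforwardCongr (pr1_eq_pr2_zero f).symm).app
      ((Scheme.Modules.pullback (PrinPart.pr2 f 0)).obj F)).isIso_hom
  unfold theta
  exact IsIso.comp_isIso' h1 h2

theorem dP_zero_smul (F : X.Modules) (U : X.Opens) (a : Γ(X, U)) (t : Γ(F, U)) :
    PrinPart.dP f 0 F U (a • t) = a • PrinPart.dP f 0 F U t := by
  rw [← theta_app, ← theta_app, Scheme.Modules.Hom.app_smul]

end Aux

/-- Let f : X ⟶ S be a morphism of schemes, F and G two O_X-modules and D : F ⟶ G a homomorphism of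
sheaves of abelian groups. Then D is a differential operator of order at most 0 relative to S if and
only if D is O_X-linear: D(a·t) = a·D(t) for every open U, every function a on U and every section t
of F over U. -/
theorem result {X S : Scheme.{u}} (f : X ⟶ S) (F G : X.Modules)
    (D : F.presheaf ⟶ G.presheaf) :
    PrinPart.IsDiffOpLE f F G 0 D ↔
      ∀ (U : X.Opens) (a : Γ(X, U)) (t : Γ(F, U)), D.app (op U) (a • t) = a • D.app (op U) t := by
  constructor
  · rintro ⟨w, hw⟩ U a t
    rw [hw, hw, dP_zero_smul, Scheme.Modules.Hom.app_smul]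
  · intro hlin
    let D' : F ⟶ G := (⟨PresheafOfModules.homMk D (fun V r m => hlin V.unop r m)⟩ :
      SheafOfModules.Hom F G)
    refine ⟨inv (theta f F) ≫ D', fun U t => ?_⟩
    rw [← theta_app, Scheme.Modules.Hom.comp_app]
    have h1 : (inv (theta f F)).app U ((theta f F).app U t) = t := by
      have h2 : (theta f F ≫ inv (theta f F)).app U t = t := by
        rw [IsIso.hom_inv_id]; rfl
      exact h2
    show _ = D'.app U ((inv (theta f F)).app U ((theta f F).app U t))
    rw [h1]
    rfl

end Groth.Agent.S5957
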