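import Groth.Statements.S5965
import Mathlib
import Groth.Agent.Lib.Helper4.SurjImm
import Groth.Agent.S1307
import Groth.Agent.S1304

set_option autoImplicit false
universe u
open CategoryTheory CategoryTheory.Limits AlgebraicGeometry TopologicalSpace Opposite
open Nrm16

namespace Groth.Agent.S5965

/-- Let g : X ⟶ Y be a morphism locally of finite type with a section f : Y ⟶ X which is a closed
immersion. Then for every n the n-th infinitesimal neighbourhood of Y in X, mapped to Y through its
inclusion into X followed by g, is finite over Y. (The published statement allows any section f and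
says that the structure sheaf of the neighbourhood is a quasi-coherent O_Y-algebra which is an
O_Y-module of finite type; this row assumes f a closed immersion and states the conclusion as
finiteness of the morphism to Y.) -/
theorem result {X Y : Scheme.{u}} (g : X ⟶ Y) [LocallyOfFiniteType g] (f : Y ⟶ X)
    [IsClosedImmersion f] (hf : f ≫ g = 𝟙 Y) (n : ℕ) :
    IsFinite (PrinPart.infNbhdι f n ≫ g) := by
  have hjι : PrinPart.toInfNbhd f n ≫ PrinPart.infNbhdι f n = f := PrinPart.toInfNbhd_ι f n
  haveI hιcl : IsClosedImmersion (PrinPart.infNbhdι f n) := by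
    unfold PrinPart.infNbhdι; infer_instance
  haveI hjcomp : IsClosedImmersion (PrinPart.toInfNbhd f n ≫ PrinPart.infNbhdι f n) := by
    rw [hjι]; infer_instance
  haveI hjcl : IsClosedImmersion (PrinPart.toInfNbhd f n) :=
    IsClosedImmersion.of_comp (PrinPart.toInfNbhd f n) (PrinPart.infNbhdι f n)
  have hjs : Surjective (PrinPart.toInfNbhd f n) := by
    constructor
    intro z
    have hz : (PrinPart.infNbhdι f n) z ∈ Set.range f := by
      have h1 : (PrinPart.infNbhdι f n) z ∈ Set.range (f.ker ^ (n + 1)).subschemeι := ⟨z, rfl⟩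
      rw [Scheme.IdealSheafData.range_subschemeι,
        Scheme.IdealSheafData.support_pow _ _ (Nat.succ_ne_zero n), Scheme.Hom.support_ker,
        f.isClosedEmbedding.isClosed_range.closure_eq] at h1
      exact h1
    obtain ⟨y, hy⟩ := hz
    refine ⟨y, (PrinPart.infNbhdι f n).isClosedEmbedding.injective ?_⟩
    rw [← Scheme.Hom.comp_apply, hjι, hy]
  have hw : PrinPart.toInfNbhd f n ≫ (PrinPart.infNbhdι f n ≫ g) = 𝟙 Y ≫ 𝟙 Y := by
    rw [← Category.assoc, hjι, hf, Category.comp_id]
  have hX : MoreMor.IsThickening (PrinPart.toInfNbhd f n) := ⟨hjcl, hjs⟩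
  have hS : MoreMor.IsThickening (𝟙 Y) := ⟨inferInstance, inferInstance⟩
  haveI : UniversallyInjective (PrinPart.infNbhdι f n ≫ g) :=
    (Groth.Agent.S1307.result (PrinPart.toInfNbhd f n) (𝟙 Y) (𝟙 Y) (PrinPart.infNbhdι f n ≫ g)
      hX hS hw).mp inferInstance
  haveI : UniversallyClosed (PrinPart.infNbhdι f n ≫ g) :=
    (Groth.Agent.S1304.result (PrinPart.toInfNbhd f n) (𝟙 Y) (𝟙 Y) (PrinPart.infNbhdι f n ≫ g)
      hX hS hw).mp inferInstance
  haveI : IsSeparated (PrinPart.infNbhdι f n ≫ g) :=
    Groth.Agent.Helper4.SurjImm.isSeparated_of_universallyInjective _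
  haveI : LocallyOfFiniteType (PrinPart.infNbhdι f n ≫ g) := inferInstance
  haveI : IsProper (PrinPart.infNbhdι f n ≫ g) := {}
  exact IsFinite.of_isProper_of_locallyQuasiFinite _

end Groth.Agent.S5965
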