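import Groth.Statements.S5969
import Mathlib
set_option linter.style.haveILetI false

set_option autoImplicit false
universe u
open CategoryTheory CategoryTheory.Limits AlgebraicGeometry TopologicalSpace Opposite
open Nrm16

namespace Groth.Agent.S5969

section Aux

open CategoryTheory CategoryTheory.Limits AlgebraicGeometry

variable {X S : Scheme.{u}} (f : X ⟶ S)

theorem diag_symm : pullback.diagonal f ≫ (pullbackSymmetry f f).hom = pullback.diagonal f := by
  apply pullback.hom_ext <;> simp

theorem symm_symm : (pullbackSymmetry f f).hom ≫ (pullbackSymmetry f f).hom = 𝟙 _ := by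
  apply pullback.hom_ext <;> simp

theorem preimage_range_diag :
    (pullbackSymmetry f f).hom ⁻¹' (Set.range (pullback.diagonal f)) =
      Set.range (pullback.diagonal f) := by
  ext y
  constructor
  · rintro ⟨x, hx⟩
    refine ⟨x, ?_⟩
    have h1 : (pullbackSymmetry f f).hom ((pullbackSymmetry f f).hom y) = y := by
      rw [← Scheme.Hom.comp_apply, symm_symm]; rfl
    rw [← h1, ← hx, ← Scheme.Hom.comp_apply, diag_symm]
  · rintro ⟨x, rfl⟩
    exact ⟨x, by rw [← Scheme.Hom.comp_apply, diag_symm]⟩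

theorem range_sub :
    Set.range ((pullback.diagonal f).coborderRange.ι ≫ (pullbackSymmetry f f).hom) ⊆
      Set.range (pullback.diagonal f).coborderRange.ι := by
  rw [Scheme.Opens.range_ι]
  rintro _ ⟨p, rfl⟩
  show (pullbackSymmetry f f).hom ((pullback.diagonal f).coborderRange.ι p) ∈
    coborder (Set.range (pullback.diagonal f))
  have h := (pullbackSymmetry f f).hom.isOpenEmbedding.coborder_preimage
    (Set.range (pullback.diagonal f))
  rw [preimage_range_diag] at h
  have hp : (pullback.diagonal f).coborderRange.ι p ∈ coborder (Set.range (pullback.diagonal f)) := p.2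
  rw [h] at hp
  exact hp

noncomputable def sR : ((pullback.diagonal f).coborderRange : Scheme.{u}) ⟶
    ((pullback.diagonal f).coborderRange : Scheme.{u}) :=
  IsOpenImmersion.lift (pullback.diagonal f).coborderRange.ι
    ((pullback.diagonal f).coborderRange.ι ≫ (pullbackSymmetry f f).hom) (range_sub f)

theorem sR_ι : sR f ≫ (pullback.diagonal f).coborderRange.ι =
    (pullback.diagonal f).coborderRange.ι ≫ (pullbackSymmetry f f).hom :=
  IsOpenImmersion.lift_fac _ _ _

theorem sR_sR : sR f ≫ sR f = 𝟙 _ := by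
  rw [← cancel_mono (pullback.diagonal f).coborderRange.ι, Category.assoc, sR_ι, ← Category.assoc,
    sR_ι, Category.assoc, symm_symm, Category.comp_id, Category.id_comp]

instance : IsIso (sR f) := ⟨sR f, sR_sR f, sR_sR f⟩

theorem diagCl_sR : PrinPart.diagCl f ≫ sR f = PrinPart.diagCl f := by
  rw [← cancel_mono (pullback.diagonal f).coborderRange.ι, Category.assoc, sR_ι, ← Category.assoc,
    Scheme.Hom.liftCoborder_ι, diag_symm]

theorem ker_le (n : ℕ) :
    (PrinPart.infNbhdι (PrinPart.diagCl f) n).ker ≤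
      (PrinPart.infNbhdι (PrinPart.diagCl f) n ≫ sR f).ker := by
  haveI : IsClosedImmersion (PrinPart.infNbhdι (PrinPart.diagCl f) n) := by
    unfold PrinPart.infNbhdι; infer_instance
  have hk : (PrinPart.infNbhdι (PrinPart.diagCl f) n).ker = (PrinPart.diagCl f).ker ^ (n + 1) := by
    unfold PrinPart.infNbhdι; exact Scheme.IdealSheafData.ker_subschemeι _
  rw [hk]
  refine Scheme.IdealSheafData.le_ofIdeals_iff.mpr fun V => ?_
  rw [Scheme.IdealSheafData.ideal_pow]
  intro a ha
  have ha' : a ∈ ((PrinPart.diagCl f).ker.ideal V) ^ (n + 1) := ha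
  rw [RingHom.mem_ker]
  have hW : IsAffineOpen (sR f ⁻¹ᵁ V.1) := V.2.preimage_of_isIso (sR f)
  have h1 : ((sR f).app V.1).hom a ∈
      ((PrinPart.diagCl f).ker.ideal ⟨sR f ⁻¹ᵁ V.1, hW⟩) ^ (n + 1) := by
    have hmap : Ideal.map ((sR f).app V.1).hom ((PrinPart.diagCl f).ker.ideal V) ≤
        (PrinPart.diagCl f).ker.ideal ⟨sR f ⁻¹ᵁ V.1, hW⟩ := by
      rw [Ideal.map_le_iff_le_comap]
      intro b hb
      rw [Scheme.Hom.ker_apply, RingHom.mem_ker] at hb
      rw [Ideal.mem_comap, Scheme.Hom.ker_apply, RingHom.mem_ker]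
      have h2 := Scheme.Hom.congr_app (diagCl_sR f) V.1
      have h3 : ((PrinPart.diagCl f).app (sR f ⁻¹ᵁ V.1)).hom (((sR f).app V.1).hom b) =
          ((PrinPart.diagCl f ≫ sR f).app V.1).hom b := rfl
      rw [h3, h2]
      show (X.presheaf.map _).hom (((PrinPart.diagCl f).app V.1).hom b) = 0
      rw [hb, map_zero]
    have h5 := Ideal.pow_right_mono hmap (n + 1)
    apply h5
    rw [← Ideal.map_pow]
    exact Ideal.mem_map_of_mem _ ha'
  have h4 : ((PrinPart.diagCl f).ker.ideal ⟨sR f ⁻¹ᵁ V.1, hW⟩) ^ (n + 1) =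
      RingHom.ker ((PrinPart.infNbhdι (PrinPart.diagCl f) n).app (sR f ⁻¹ᵁ V.1)).hom := by
    rw [← Scheme.Hom.ker_apply (PrinPart.infNbhdι (PrinPart.diagCl f) n) ⟨sR f ⁻¹ᵁ V.1, hW⟩, hk]
    rfl
  rw [h4, RingHom.mem_ker] at h1
  exact h1

end Aux

/-- Let f : X ⟶ S be a morphism of schemes and n a natural number. On the order-n infinitesimal
thickening of the diagonal of f there is an endomorphism σ which is compatible, under the immersion
into X ×_S X, with the symmetry exchanging the two factors; σ is an involution, it exchanges the two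
projections to X (so it exchanges the two O_X-algebra structures of P^n_{X/S}) and it fixes the
diagonal section. -/
theorem result {X S : Scheme.{u}} (f : X ⟶ S) (n : ℕ) :
    ∃ σ : PrinPart.nbhd f n ⟶ PrinPart.nbhd f n,
      σ ≫ PrinPart.nbhdι f n = PrinPart.nbhdι f n ≫ (pullbackSymmetry f f).hom ∧
      σ ≫ σ = 𝟙 (PrinPart.nbhd f n) ∧
      σ ≫ PrinPart.pr1 f n = PrinPart.pr2 f n ∧ σ ≫ PrinPart.pr2 f n = PrinPart.pr1 f n ∧
      PrinPart.toNbhd f n ≫ σ = PrinPart.toNbhd f n := by
  haveI : IsClosedImmersion (PrinPart.infNbhdι (PrinPart.diagCl f) n) := by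
    unfold PrinPart.infNbhdι; infer_instance
  obtain ⟨σ, hσ⟩ : ∃ σ : PrinPart.nbhd f n ⟶ PrinPart.nbhd f n,
      σ ≫ PrinPart.infNbhdι (PrinPart.diagCl f) n = PrinPart.infNbhdι (PrinPart.diagCl f) n ≫ sR f :=
    ⟨IsClosedImmersion.lift (PrinPart.infNbhdι (PrinPart.diagCl f) n)
      (PrinPart.infNbhdι (PrinPart.diagCl f) n ≫ sR f) (ker_le f n), IsClosedImmersion.lift_fac _ _ _⟩
  have h1 : σ ≫ PrinPart.nbhdι f n = PrinPart.nbhdι f n ≫ (pullbackSymmetry f f).hom := by
    unfold PrinPart.nbhdι
    rw [← Category.assoc, hσ, Category.assoc, sR_ι, ← Category.assoc]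
  haveI : Mono (PrinPart.nbhdι f n) := by
    unfold PrinPart.nbhdι; infer_instance
  refine ⟨σ, h1, ?_, ?_, ?_, ?_⟩
  · rw [← cancel_mono (PrinPart.nbhdι f n), Category.assoc, h1, ← Category.assoc, h1, Category.assoc,
      symm_symm, Category.comp_id, Category.id_comp]
  · unfold PrinPart.pr1 PrinPart.pr2
    rw [← Category.assoc, h1, Category.assoc, pullbackSymmetry_hom_comp_fst]
  · unfold PrinPart.pr1 PrinPart.pr2
    rw [← Category.assoc, h1, Category.assoc, pullbackSymmetry_hom_comp_snd]
  · rw [← cancel_mono (PrinPart.nbhdι f n), Category.assoc, h1, ← Category.assoc, PrinPart.toNbhd_ι,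
      diag_symm]

end Groth.Agent.S5969
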