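import Groth.Statements.S5985
import Groth.Agent.Lib.Helper18.EtLoc9

set_option autoImplicit false
universe u
open CategoryTheory AlgebraicGeometry
open Unram

namespace Groth.Agent.S5985

/-- Let f : X ⟶ Y be separated and locally of finite type, and y a point of Y whose fibre f⁻¹(y) is
finite (hence discrete). Then there are an étale morphism g : Y' ⟶ Y, a point y' of Y' with g(y') =
y inducing an isomorphism of residue fields κ(y) ≅ κ(y'), and two complementary open subschemes V, W
of X' = X ×_Y Y' such that V ⟶ Y' is finite and W contains no point of X' lying over y'. -/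
theorem result {X Y : Scheme.{u}} (f : X ⟶ Y)
    [LocallyOfFiniteType f] [IsSeparated f] (y : Y) (hfin : (f ⁻¹' {y}).Finite) :
    ∃ (Y' : Scheme.{u}) (g : Y' ⟶ Y) (y' : Y'), Etale g ∧ g y' = y ∧
      IsIso (g.residueFieldMap y') ∧
      ∃ (V W : (Limits.pullback f g).Opens), IsCompl V W ∧
        IsFinite (V.ι ≫ Limits.pullback.snd f g) ∧
        ∀ x : ↥(Limits.pullback f g), Limits.pullback.snd f g x = y' → x ∈ V := by
  classical
  haveI : Finite ↥(f ⁻¹' {y}) := hfin.to_subtype
  obtain ⟨n, ⟨e⟩⟩ := Finite.exists_equiv_fin ↥(f ⁻¹' {y})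
  let x : Fin n → X := fun i => (e.symm i).1
  have hs : ∀ i, f (x i) = y := fun i => (e.symm i).2
  have hxsurj : ∀ z : X, f z = y → ∃ i, z = x i := fun z hz => ⟨e ⟨z, hz⟩, by simp [x]⟩
  have hx : ∀ i, f.QuasiFiniteAt (x i) := by
    intro i
    have hfin' : (f ⁻¹' {f (x i)}).Finite := by rw [hs i]; exact hfin
    haveI : Finite (f.fiber (f (x i))) := (f.fiberHomeo (f (x i))).finite_iff.mpr hfin'
    exact Scheme.Hom.quasiFiniteAt_iff_isOpen_singleton_asFiber.mpr (isOpen_discrete _)
  obtain ⟨U, g, u, hnb, V, v, H⟩ := Groth.Agent.Helper18.EtLoc.multi f y (Fin n) x hs hx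
  haveI := hnb.etale
  have hbu : ∀ z, z = u → Function.Bijective (g.residueFieldMap z).hom := by
    rintro z rfl; exact hnb.residue_bijective
  have hclosed : IsClosed ((⨆ i, V i : (Limits.pullback f g).Opens) : Set ↑(Limits.pullback f g)) := by
    rw [TopologicalSpace.Opens.coe_iSup]
    refine isClosed_iUnion_of_finite fun i => ?_
    haveI := (H i).2.1
    haveI : IsFinite (V i).ι := IsFinite.of_comp _ (Limits.pullback.snd f g)
    have := (V i).ι.isClosedMap.isClosed_range
    rwa [Scheme.Opens.range_ι] at this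
  refine ⟨U, g, u, hnb.etale, hnb.base_eq, ?_, ⨆ i, V i, ⟨_, hclosed.isOpen_compl⟩, ?_,
    Groth.Agent.Helper18.EtLoc.isFinite_iSup (Limits.pullback.snd f g) V (fun i => (H i).2.1), ?_⟩
  · exact (ConcreteCategory.isIso_iff_bijective _).mpr hnb.residue_bijective
  · rw [isCompl_iff, disjoint_iff, codisjoint_iff]
    constructor
    · ext p
      simp
    · ext p
      simp only [TopologicalSpace.Opens.coe_sup, TopologicalSpace.Opens.coe_iSup,
        TopologicalSpace.Opens.coe_mk, Set.mem_union, Set.mem_iUnion, SetLike.mem_coe,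
        Set.mem_compl_iff, not_exists, TopologicalSpace.Opens.coe_top, Set.mem_univ, iff_true]
      by_cases h : ∃ i, p ∈ V i
      · exact Or.inl h
      · exact Or.inr (not_exists.mp h)
  · intro w hw
    have hfw : f (Limits.pullback.fst f g w) = y := by
      rw [← Scheme.Hom.comp_apply, Limits.pullback.condition, Scheme.Hom.comp_apply, hw]
      exact hnb.base_eq
    obtain ⟨i, hi⟩ := hxsurj _ hfw
    obtain ⟨h1, h2, h3, h4, h5, h6⟩ := H i
    have : w = v i :=
      Groth.Agent.Helper18.EtLoc.eq_of_fst_snd_eq f g _ _ (hi.trans h5.symm) (hw.trans h3.symm)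
        (hbu _ h3)
    rw [this]
    exact TopologicalSpace.Opens.mem_iSup.mpr ⟨i, h1⟩

end Groth.Agent.S5985
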