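import Groth.Statements.S5999
import Mathlib
import Groth.Agent.Lib.Helper26.JacHyper

set_option linter.style.haveILetI false

set_option autoImplicit false
universe u
open SGA1

namespace Groth.Agent.S5999

open TensorProduct in
/-- Let R be a Noetherian ring, A an R-algebra of finite type, F an element of A, P a prime ideal of
A/(F) and q its preimage in A, and suppose A is smooth over R at q. Then the hypersurface A/(F) is
smooth over R at P if and only if either F is zero in the local ring A_q (F vanishes on a
neighbourhood of q) or the image dF(q) of the differential of F in κ(q) ⊗_A Ω_{A/R} is nonzero. -/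
theorem result
    (R A : Type u) [CommRing R] [CommRing A] [IsNoetherianRing R] [Algebra R A] [Algebra.FiniteType R A]
    (F : A) (P : Ideal (A ⧸ Ideal.span ({F} : Set A))) [P.IsPrime]
    (hX : Algebra.IsSmoothAt R (P.comap (Ideal.Quotient.mk (Ideal.span ({F} : Set A))))) :
    letI q : Ideal A := P.comap (Ideal.Quotient.mk (Ideal.span ({F} : Set A)))
    Algebra.IsSmoothAt R P ↔ algebraMap A (Localization.AtPrime q) F = 0 ∨
      (1 : q.ResidueField) ⊗ₜ[A] KaehlerDifferential.D R A F ≠ 0 := by
  have hmap : (P.comap (Ideal.Quotient.mk (Ideal.span ({F} : Set A)))).map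
      (Ideal.Quotient.mk (Ideal.span ({F} : Set A))) = P :=
    Ideal.map_comap_of_surjective _ Ideal.Quotient.mk_surjective P
  haveI : ((P.comap (Ideal.Quotient.mk (Ideal.span ({F} : Set A)))).map
      (Ideal.Quotient.mk (Ideal.span ({F} : Set A)))).IsPrime := by
    rw [hmap]; infer_instance
  have hJq : Ideal.span ({F} : Set A) ≤ P.comap (Ideal.Quotient.mk (Ideal.span ({F} : Set A))) :=
    fun x hx => by
      rw [Ideal.mem_comap, Ideal.Quotient.eq_zero_iff_mem.mpr hx]; exact zero_mem _
  haveI : Algebra.FormallySmooth R
      (Localization.AtPrime (P.comap (Ideal.Quotient.mk (Ideal.span ({F} : Set A))))) := hX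
  exact (Groth.Agent.Helper26.JacDeriv.smoothAt_congr (R := R) P _ hmap).symm.trans
    (Groth.Agent.Helper26.JacHyper.hypersurface (R := R) (Ideal.span ({F} : Set A))
      (P.comap (Ideal.Quotient.mk (Ideal.span ({F} : Set A)))) hJq F rfl)

end Groth.Agent.S5999
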