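import Groth.Statements.S6000
import Mathlib
import Groth.Agent.Lib.Lead.TorFree
-- import your own Groth.Agent.* helpers here

set_option autoImplicit false
universe u v
open SGA1

namespace Groth.Agent.S6000

open TensorProduct in
/-- Let A be a commutative ring, I a nilpotent ideal of A and M an A-module. Then M is A-flat if and
only if M/IM = (A/I) ⊗_A M is flat over A/I and Tor_1^A(M, A/I) = 0, the latter condition being
expressed as injectivity of the canonical map I ⊗_A M ⟶ A ⊗_A M. -/
theorem result (A : Type u) [CommRing A]
    (I : Ideal A) (hI : IsNilpotent I) (M : Type v) [AddCommGroup M] [Module A M] :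
    Module.Flat A M ↔ Module.Flat (A ⧸ I) ((A ⧸ I) ⊗[A] M) ∧
      Function.Injective (LinearMap.rTensor M (Submodule.subtype I)) := by
  open Groth.Agent.Lead.TorFree in
  constructor
  · intro h
    exact ⟨inferInstance,
      Module.Flat.rTensor_preserves_injective_linearMap _ (Submodule.injective_subtype I)⟩
  · rintro ⟨h1, h2⟩
    obtain ⟨L, π, hex, hπ⟩ := exists_pres (R := A) M
    have hL : Function.Injective L.subtype := Submodule.injective_subtype L
    generalize L.subtype = κ at hex hL
    -- Tor₁(M, A/I) = 0
    have hT : Function.Injective (κ.lTensor (A ⧸ I)) := by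
      have h3 : Function.Injective (I.subtype.lTensor M) :=
        (LinearMap.lTensor_inj_iff_rTensor_inj M I.subtype).2 h2
      have h4 := rTensor_injective_of_tor (M₁ := L) (M₂ := M →₀ A) (M₃ := M) κ π hL hex hπ (A ⧸ I) A I
        I.subtype I.mkQ (LinearMap.exact_subtype_mkQ I) I.mkQ_surjective h3
      exact (LinearMap.lTensor_inj_iff_rTensor_inj (A ⧸ I) κ).2 h4
    -- Tor₁(M, C) = 0 for A/I-modules C
    have hC : ∀ (C : Type u) [AddCommGroup C] [Module A C] [Module (A ⧸ I) C]
        [IsScalarTower A (A ⧸ I) C], Function.Injective (κ.lTensor C) := by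
      intro C _ _ _ _
      have := @lTensor_injective_of_baseChange_flat A _ L (M →₀ A) _ _ _ _ M _ _ κ π hex hπ (A ⧸ I) _ _
        hT h1 C _ _ _ _
      exact this
    -- induction on the nilpotency index
    have hP : ∀ (k : ℕ) (N : Type u) [AddCommGroup N] [Module A N],
        (∀ a ∈ I ^ k, ∀ x : N, a • x = 0) → Function.Injective (κ.lTensor N) := by
      intro k
      induction k with
      | zero =>
        intro N _ _ hN
        have h0 : ∀ x : N, x = 0 := fun x => by
          have := hN 1 (by rw [pow_zero, Ideal.one_eq_top]; trivial) x
          rwa [one_smul] at this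
        have hz0 : ∀ z : N ⊗[A] L, z = 0 := by
          intro z
          induction z using TensorProduct.induction_on with
          | zero => rfl
          | tmul n l => rw [h0 n, TensorProduct.zero_tmul]
          | add a b ha hb => rw [ha, hb, add_zero]
        intro z₁ z₂ _
        rw [hz0 z₁, hz0 z₂]
      | succ k ih =>
        intro N _ _ hN
        have h1' : Function.Injective (κ.lTensor ↥(I • (⊤ : Submodule A N))) := by
          apply ih
          intro a ha x
          apply Subtype.ext
          rw [Submodule.coe_smul, Submodule.coe_zero]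
          have hx := x.2
          refine Submodule.smul_induction_on hx ?_ ?_
          · intro b hb y _
            rw [← mul_smul]
            exact hN _ (by rw [pow_succ]; exact Ideal.mul_mem_mul ha hb) y
          · intro y₁ y₂ e₁ e₂
            rw [smul_add, e₁, e₂, add_zero]
        haveI : IsScalarTower A (A ⧸ I) (N ⧸ I • (⊤ : Submodule A N)) :=
          (Module.isTorsionBySet_quotient_ideal_smul N I).isScalarTower
        have h3' : Function.Injective (κ.lTensor (N ⧸ I • (⊤ : Submodule A N))) :=
          hC _
        have := @lTensor_injective_of_exact A _ L (M →₀ A) _ _ _ _ _ κ ↥(I • (⊤ : Submodule A N)) N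
          (N ⧸ I • (⊤ : Submodule A N)) _ _ _ _ _ _ (I • (⊤ : Submodule A N)).subtype
          (I • (⊤ : Submodule A N)).mkQ (Submodule.injective_subtype _)
          (LinearMap.exact_subtype_mkQ _) (Submodule.mkQ_surjective _) h1' h3'
        exact this
    obtain ⟨n, hn⟩ := hI
    have key : ∀ J : Ideal A, Function.Injective (κ.lTensor (A ⧸ J)) := by
      intro J
      apply hP n (A ⧸ J)
      intro a ha x
      rw [hn] at ha
      rw [show a = 0 from ha, zero_smul]
    have := @flat_of_lTensor_injective A _ L (M →₀ A) _ _ _ _ M _ _ _ κ π hex hπ key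
    exact this

end Groth.Agent.S6000
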