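import Groth.Statements.S6009
import Groth.Agent.H28.TorsEq

set_option autoImplicit false
universe u
open CategoryTheory AlgebraicGeometry MonoidalCategory CartesianMonoidalCategory MonObj GrpObj
open SGA1

namespace Groth.Agent.S6009

/-- Exactness of the cohomology sequence at H^1(S, G'): let u : G' → G and v : G → G'' be homomorphisms
of affine commutative S-groups forming a sequence 1 → G' → G → G'' → 1 which is exact for the fpqc
topology, and let Q be a principal homogeneous bundle under G' (fpqc torsor). Then the bundle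
deduced from Q by extension of the structure group along u is trivial, in the sense that Q admits a
u-equivariant S-morphism to G acting on itself by left translation, if and only if Q is the boundary
of some section f of G'' over S: there is a morphism i : Q → G making Q the inverse image of f under
v, with G' acting through right translation by inverses. -/
theorem result {S : Scheme.{u}}
    {G G' G'' : Over S} [GrpObj G] [GrpObj G'] [GrpObj G'']
    [IsCommMonObj G] [IsCommMonObj G'] [IsCommMonObj G'']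
    [IsAffineHom G.hom] [IsAffineHom G'.hom] [IsAffineHom G''.hom]
    (u : G' ⟶ G) (v : G ⟶ G'') (hex : NonAbH1.IsExactSeq Scheme.fpqcPrecoverage u v)
    (Q : NonAbH1.TorsorSch G' Scheme.fpqcPrecoverage) :
    NonAbH1.IsPushforwardAlongSch u Q.act (NonAbH1.trivialAction G) ↔
      ∃ (f : 𝟙_ (Over S) ⟶ G'') (i : Q.X ⟶ G), NonAbH1.IsPullbackTorsor u v f i Q.act := by
  obtain ⟨hu, hv, huv, hpb, hlocv⟩ := hex
  have hsq := Groth.Agent.H28.TorsEq.isPullback_invRight u v hpb
  obtain ⟨hps, hlocQ⟩ := Q.isTorsor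
  have hcovQ : Groth.Agent.H28.FpqcCov.Cov (toUnit Q.X).left := by
    rw [Groth.Agent.H28.TorsRed.toUnit_left]
    exact Groth.Agent.H28.TorsRed.cov_of_locTriv Q.X _ le_rfl hlocQ
  have hact : ∀ {T : Over S} (h : T ⟶ G') (g : T ⟶ G),
      lift h g ≫ ((AlgGrp.Action.invRight G).restrict u).act = g * (h ≫ u)⁻¹ := by
    intro T h g
    rw [AlgGrp.Action.lift_restrict_act, AlgGrp.Action.lift_invRight_act]
  constructor
  · rintro ⟨F₀, hF₀⟩
    have hF₀pt : ∀ {T : Over S} (g' : T ⟶ G') (p : T ⟶ Q.X),
        (lift g' p ≫ Q.act.act) ≫ F₀ = (g' ≫ u) * (p ≫ F₀) := by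
      intro T g' p
      rw [Category.assoc, hF₀, ← Category.assoc, comp_lift, ← Category.assoc, lift_fst,
        ← Category.assoc, lift_snd, Hom.mul_def]
      rfl
    have hφ : Q.act.act ≫ F₀⁻¹ = (G' ◁ F₀⁻¹) ≫ ((AlgGrp.Action.invRight G).restrict u).act := by
      apply AlgGrp.Action.hom_ext_lift₂
      intro T g' p
      rw [← Category.assoc, GrpObj.comp_inv, hF₀pt, ← Category.assoc, lift_whiskerLeft, hact,
        GrpObj.comp_inv, _root_.mul_inv_rev]
    obtain ⟨f, hf⟩ := Groth.Agent.H28.TorsEq.exists_section _ v hsq Q.act hps F₀⁻¹ hφ hcovQ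
    refine ⟨f, F₀⁻¹, hu, hv,
      Groth.Agent.H28.TorsEq.isPullback_of_section _ v hsq Q.act hps F₀⁻¹ hφ hcovQ f hf, ?_⟩
    intro T g' p
    rw [hφ, ← Category.assoc, lift_whiskerLeft, hact]
  · rintro ⟨f, i, -, -, -, hi⟩
    refine ⟨i⁻¹, ?_⟩
    apply AlgGrp.Action.hom_ext_lift₂
    intro T g' p
    have h1 : lift g' p ≫ Q.act.act ≫ i⁻¹ = (lift g' p ≫ Q.act.act ≫ i)⁻¹ := by
      rw [← Category.assoc, GrpObj.comp_inv, Category.assoc]
    rw [h1, hi, _root_.mul_inv_rev, _root_.inv_inv, ← Category.assoc, comp_lift, ← Category.assoc,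
      lift_fst, ← Category.assoc, lift_snd, GrpObj.comp_inv]
    exact Hom.mul_def _ _

end Groth.Agent.S6009
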