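import Groth.Statements.S6010
import Groth.Agent.S16226
import Groth.Agent.S14541
import Groth.Agent.H28.TorsEq

set_option autoImplicit false
universe u
open CategoryTheory AlgebraicGeometry MonoidalCategory CartesianMonoidalCategory MonObj GrpObj
open SGA1

namespace Groth.Agent.S6010

section helpers

open CategoryTheory.Limits Groth.Agent.H28

variable {S : Scheme.{u}} {G G'' : Over S} [GrpObj G] [GrpObj G'']

/-- local triviality of the fibre over the unit section of an equivariant map to `G''` -/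
lemma fibre_locTriv (v : G ⟶ G'') [IsMonHom v] {X : Over S} (a : AlgGrp.Action G X)
    (hlocP : NonAbH1.IsLocallyTrivialFor Scheme.fpqcPrecoverage X)
    (hlocv : NonAbH1.IsLocallyTrivialFor Scheme.fpqcPrecoverage (Over.mk v.left : Over G''.left))
    (F : X ⟶ G'')
    (hFpt : ∀ {T : Over S} (g : T ⟶ G) (p : T ⟶ X), (lift g p ≫ a.act) ≫ F = (g ≫ v) * (p ≫ F)) :
    NonAbH1.IsLocallyTrivialFor Scheme.fpqcPrecoverage (pullback F η[G'']) := by
  obtain ⟨RP, hRP, hsP⟩ := hlocP
  obtain ⟨Rv, hRv, hsv⟩ := hlocv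
  obtain ⟨I, X', f, rfl⟩ := Presieve.exists_eq_ofArrows RP
  obtain ⟨κ, Z, h, rfl⟩ := Presieve.exists_eq_ofArrows Rv
  have hsP' : ∀ i, ∃ s : X' i ⟶ X.left, s ≫ X.hom = f i := fun i => hsP (f i) ⟨i⟩
  choose s hs using hsP'
  have hsv' : ∀ k, ∃ t : Z k ⟶ G.left, t ≫ v.left = h k := fun k => hsv (h k) ⟨k⟩
  choose t ht using hsv'
  obtain ⟨pO, hpO⟩ : ∃ pO : ∀ i, Over.mk (f i) ⟶ X, ∀ i, (pO i).left = s i :=
    ⟨fun i => Over.homMk (s i) (hs i), fun i => rfl⟩
  obtain ⟨xO, hxO⟩ : ∃ xO : ∀ i, Over.mk (f i) ⟶ G'', ∀ i, xO i = (pO i ≫ F)⁻¹ :=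
    ⟨fun i => (pO i ≫ F)⁻¹, fun i => rfl⟩
  have hcov := Precoverage.comp_mem_coverings (J := Scheme.fpqcPrecoverage) f hRP
    (σ := fun _ => κ) (Y := fun i k => pullback (h k) (xO i).left)
    (fun i k => pullback.snd (h k) (xO i).left) (fun i => by
      have := Precoverage.pullbackArrows_mem (xO i).left hRv
      rwa [← Presieve.ofArrows_pullback] at this)
  refine ⟨_, hcov, ?_⟩
  rintro T' e ⟨⟨i, k⟩⟩
  have hxw : (xO i).left ≫ G''.hom = f i := Over.w (xO i)
  have hvw : v.left ≫ G''.hom = G.hom := Over.w v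
  have hg : (pullback.fst (h k) (xO i).left ≫ t k) ≫ G.hom =
      pullback.snd (h k) (xO i).left ≫ f i := by
    rw [Category.assoc, ← hvw, ← Category.assoc (t k), ht, ← Category.assoc, pullback.condition,
      Category.assoc, hxw]
  obtain ⟨gO, hgO⟩ : ∃ gO : Over.mk (pullback.snd (h k) (xO i).left ≫ f i) ⟶ G,
      gO.left = pullback.fst (h k) (xO i).left ≫ t k := ⟨Over.homMk _ hg, rfl⟩
  obtain ⟨sO, hsO⟩ : ∃ sO : Over.mk (pullback.snd (h k) (xO i).left ≫ f i) ⟶ Over.mk (f i),
      sO.left = pullback.snd (h k) (xO i).left := ⟨Over.homMk _ rfl, rfl⟩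
  have hgv : gO ≫ v = sO ≫ xO i := by
    apply Over.OverMorphism.ext
    rw [Over.comp_left, Over.comp_left, hgO, hsO, Category.assoc, ht, pullback.condition]
  have hx2 : sO ≫ xO i = (sO ≫ pO i ≫ F)⁻¹ :=
    (congrArg (fun z => sO ≫ z) (hxO i)).trans (GrpObj.comp_inv _ _)
  have hq : (lift gO (sO ≫ pO i) ≫ a.act) ≫ F = toUnit _ ≫ η[G''] := by
    rw [hFpt, hgv, hx2, Category.assoc, inv_mul_cancel, Hom.one_def]
  refine ⟨(pullback.lift (lift gO (sO ≫ pO i) ≫ a.act) (toUnit _) hq).left, ?_⟩
  exact Over.w (pullback.lift (lift gO (sO ≫ pO i) ≫ a.act) (toUnit _) hq)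

end helpers

/-- Exactness of the cohomology sequence at H^1(S, G): let u : G' → G and v : G → G'' be homomorphisms
of affine commutative S-groups forming a sequence 1 → G' → G → G'' → 1 which is exact for the fpqc
topology, and let P be a principal homogeneous bundle under G (fpqc torsor). Then the bundle deduced
from P by extension of the structure group along v is trivial, in the sense that P admits a
v-equivariant S-morphism to G'' acting on itself by left translation, if and only if P comes from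
G': there is a principal homogeneous bundle Q under G' with a u-equivariant S-morphism Q → P. -/
theorem result {S : Scheme.{u}}
    {G G' G'' : Over S} [GrpObj G] [GrpObj G'] [GrpObj G'']
    [IsCommMonObj G] [IsCommMonObj G'] [IsCommMonObj G'']
    [IsAffineHom G.hom] [IsAffineHom G'.hom] [IsAffineHom G''.hom]
    (u : G' ⟶ G) (v : G ⟶ G'') (hex : NonAbH1.IsExactSeq Scheme.fpqcPrecoverage u v)
    (P : NonAbH1.TorsorSch G Scheme.fpqcPrecoverage) :
    NonAbH1.IsPushforwardAlongSch v P.act (NonAbH1.trivialAction G'') ↔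
      ∃ Q : NonAbH1.TorsorSch G' Scheme.fpqcPrecoverage, NonAbH1.IsPushforwardAlongSch u Q.act P.act := by
  obtain ⟨hu, hv, huv, hpb, hlocv⟩ := hex
  have := hu
  have := hv
  constructor
  · rintro ⟨F, hF⟩
    have hFpt : ∀ {T : Over S} (g : T ⟶ G) (p : T ⟶ P.X),
        (lift g p ≫ P.act.act) ≫ F = (g ≫ v) * (p ≫ F) := by
      intro T g p
      rw [Category.assoc, hF, ← Category.assoc, comp_lift, ← Category.assoc, lift_fst,
        ← Category.assoc, lift_snd]
      exact (Hom.mul_def _ _).symm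
    have hps := P.isTorsor.1
    have hlocP := P.isTorsor.2
    have hPps : IsIso (lift P.act.act (snd G P.X)) := hps
    have hw : (P.act.restrict u).act ≫ F = snd G' P.X ≫ F := by
      apply AlgGrp.Action.hom_ext_lift₂
      intro T g' p
      rw [← Category.assoc, AlgGrp.Action.lift_restrict_act, hFpt, Category.assoc, huv,
        MonObj.comp_one, _root_.one_mul, ← Category.assoc, lift_snd]
    have hsq : IsPullback (P.act.restrict u).act (snd G' P.X) F F := by
      refine Groth.Agent.H28.TorsRed.isPullback_of_existsUnique hw ?_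
      intro T x y hxy
      obtain ⟨g, hg⟩ := Groth.Agent.S8039.torsor_exists P.act hPps x y
      have hgv : g ≫ v = 1 := by
        have h1 := hFpt g y
        rw [hg, hxy] at h1
        exact (mul_eq_right.mp h1.symm)
      have h1v : (1 : T ⟶ G) ≫ v = g ≫ v := by rw [hgv, MonObj.one_comp]
      obtain ⟨w, hw'⟩ := Groth.Agent.H28.TorsEq.tors_exists u v hpb 1 g h1v
      rw [_root_.one_mul] at hw'
      refine ⟨lift w y, ⟨?_, lift_snd _ _⟩, ?_⟩
      · rw [AlgGrp.Action.lift_restrict_act, ← hw', hg]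
      · rintro m ⟨hm1, hm2⟩
        have hm : m = lift (m ≫ fst G' P.X) y := by
          rw [← hm2, ← comp_lift, lift_fst_snd, Category.comp_id]
        rw [hm]
        congr 1
        apply Groth.Agent.H28.TorsEq.tors_inj u v hpb
        apply Groth.Agent.S8039.torsor_free P.act hPps _ _ y
        rw [← AlgGrp.Action.lift_restrict_act, ← hm, hm1, ← hw', hg]
    refine ⟨⟨Limits.pullback F η[G''], Groth.Agent.S16226.actionE (P.act.restrict u) F hsq η[G''],
      ⟨Groth.Agent.S16226.pseudoTorsor (P.act.restrict u) F hsq η[G''],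
        fibre_locTriv v P.act hlocP hlocv F hFpt⟩⟩, Limits.pullback.fst F η[G''], ?_⟩
    have h1 : (Groth.Agent.S16226.actionE (P.act.restrict u) F hsq η[G'']).act ≫
        Limits.pullback.fst F η[G''] = (G' ◁ Limits.pullback.fst F η[G'']) ≫ (P.act.restrict u).act :=
      Groth.Agent.S16226.actE_fst (P.act.restrict u) F hsq η[G'']
    have h2 : (G' ◁ Limits.pullback.fst F η[G'']) ≫ (u ▷ P.X) =
        lift (fst G' (Limits.pullback F η[G'']) ≫ u)
          (snd G' (Limits.pullback F η[G'']) ≫ Limits.pullback.fst F η[G'']) := by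
      ext <;> simp
    rw [h1, AlgGrp.Action.restrict_act, ← Category.assoc, h2]
  · rintro ⟨Q, k, hk⟩
    have hq'' : Q.act.act ≫ (1 : Q.X ⟶ G'') =
        lift (fst G' Q.X ≫ u ≫ v) (snd G' Q.X ≫ (1 : Q.X ⟶ G'')) ≫
          (NonAbH1.trivialAction G'').act := by
      rw [MonObj.comp_one, MonObj.comp_one, huv, MonObj.comp_one]
      exact ((Hom.mul_def _ _).symm.trans (_root_.one_mul _)).symm
    obtain ⟨r, ⟨hr, -⟩, -⟩ := Groth.Agent.S14541.result u v Q.act P.act (NonAbH1.trivialAction G'')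
      Q.isTorsor P.isTorsor (NonAbH1.isTorsorFor_trivialAction G'' _) k hk (1 : Q.X ⟶ G'') hq''
    exact ⟨r, hr⟩

end Groth.Agent.S6010
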