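import Groth.Statements.S6011
import Mathlib

set_option autoImplicit false
universe u
open CategoryTheory AlgebraicGeometry
open SGA1

namespace Groth.Agent.S6011

section Aux
open MonoidalCategory CartesianMonoidalCategory MonObj

theorem aux {S : Scheme.{u}} (G X : Over S) [GrpObj G] (a : AlgGrp.Action G X) :
    Nonempty (NonAbH1.EquivIso (NonAbH1.trivialAction G) a) ↔
      (NonAbH1.IsPseudoTorsorSch a ∧ NonAbH1.HasSectionOver X (𝟙 S)) := by
  constructor
  · rintro ⟨E⟩
    refine ⟨?_, ?_⟩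
    · have hcomm : μ[G] ≫ E.iso.hom = (G ◁ E.iso.hom) ≫ a.act := E.comm
      have key : (G ◁ E.iso.hom) ≫ lift a.act (snd G X) =
          lift μ[G] (snd G G) ≫ (E.iso.hom ⊗ₘ E.iso.hom) := by
        rw [comp_lift, lift_map, whiskerLeft_snd, ← hcomm]
      haveI h0 : IsIso (lift μ[G] (snd G G)) := NonAbH1.isPseudoTorsorSch_trivialAction G
      have : lift a.act (snd G X) =
          inv (G ◁ E.iso.hom) ≫ lift μ[G] (snd G G) ≫ (E.iso.hom ⊗ₘ E.iso.hom) := by
        rw [← key, IsIso.inv_hom_id_assoc]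
      show IsIso (lift a.act (snd G X))
      rw [this]
      infer_instance
    · exact ⟨(η[G] ≫ E.iso.hom).left, Over.w (η[G] ≫ E.iso.hom)⟩
  · rintro ⟨hpt, s, hs⟩
    haveI : IsIso (lift a.act (snd G X)) := hpt
    obtain ⟨x₀, -⟩ : ∃ x₀ : 𝟙_ (Over S) ⟶ X, x₀.left = s :=
      ⟨Over.homMk s (by simpa using hs), rfl⟩
    have act_assoc : ∀ {T : Over S} (g h : T ⟶ G) (x : T ⟶ X),
        lift (g * h) x ≫ a.act = lift g (lift h x ≫ a.act) ≫ a.act := by
      intro T g h x
      have := congrArg (fun m => lift (lift g h) x ≫ m) a.mul_act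
      rw [← Category.assoc, lift_whiskerRight, ← Category.assoc, lift_lift_associator_hom,
        ← Category.assoc, lift_whiskerLeft] at this
      rw [Hom.mul_def]
      exact this
    obtain ⟨φ, hφ⟩ : ∃ φ : G ⟶ X, φ = lift (𝟙 G) (toUnit G ≫ x₀) ≫ a.act := ⟨_, rfl⟩
    obtain ⟨P, hPdef⟩ : ∃ P : X ⟶ G ⊗ X,
        P = lift (𝟙 X) (toUnit X ≫ x₀) ≫ inv (lift a.act (snd G X)) := ⟨_, rfl⟩
    have hPΘ : P ≫ lift a.act (snd G X) = lift (𝟙 X) (toUnit X ≫ x₀) := by
      rw [hPdef, Category.assoc, IsIso.inv_hom_id, Category.comp_id]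
    have hP_act : P ≫ a.act = 𝟙 X := by
      have := congrArg (fun m => m ≫ fst X X) hPΘ
      simp only [Category.assoc, lift_fst] at this
      exact this
    have hP_snd : P ≫ snd G X = toUnit X ≫ x₀ := by
      have := congrArg (fun m => m ≫ snd X X) hPΘ
      simp only [Category.assoc, lift_snd] at this
      exact this
    have hP : P = lift (P ≫ fst G X) (toUnit X ≫ x₀) := by
      apply CartesianMonoidalCategory.hom_ext
      · rw [lift_fst]
      · rw [lift_snd, hP_snd]
    have e : lift (𝟙 G) (toUnit G ≫ x₀) ≫ lift a.act (snd G X) =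
        φ ≫ lift (𝟙 X) (toUnit X ≫ x₀) := by
      rw [comp_lift, comp_lift, lift_snd, Category.comp_id, ← hφ, ← Category.assoc,
        toUnit_unique (φ ≫ toUnit X) (toUnit G)]
    have h1 : φ ≫ (P ≫ fst G X) = 𝟙 G := by
      rw [hPdef, ← Category.assoc, ← Category.assoc, ← e, Category.assoc, Category.assoc,
        IsIso.hom_inv_id_assoc, lift_fst]
    have h2 : (P ≫ fst G X) ≫ φ = 𝟙 X := by
      rw [hφ, ← Category.assoc, comp_lift, Category.comp_id, ← Category.assoc,
        toUnit_unique ((P ≫ fst G X) ≫ toUnit G) (toUnit X), ← hP, hP_act]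
    have hμ : (μ[G] : G ⊗ G ⟶ G) = fst G G * snd G G := by
      rw [Hom.mul_def, lift_fst_snd, Category.id_comp]
    have hw : G ◁ φ = lift (fst G G) (snd G G ≫ φ) := by
      apply CartesianMonoidalCategory.hom_ext
      · rw [whiskerLeft_fst, lift_fst]
      · rw [whiskerLeft_snd, lift_snd]
    have hL : μ[G] ≫ φ =
        lift (fst G G) (lift (snd G G) (toUnit (G ⊗ G) ≫ x₀) ≫ a.act) ≫ a.act := by
      rw [hφ, ← Category.assoc, comp_lift, Category.comp_id, ← Category.assoc,
        toUnit_unique (μ[G] ≫ toUnit G) (toUnit (G ⊗ G))]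
      conv_lhs => rw [hμ]
      exact act_assoc _ _ _
    have hR : (G ◁ φ) ≫ a.act =
        lift (fst G G) (lift (snd G G) (toUnit (G ⊗ G) ≫ x₀) ≫ a.act) ≫ a.act := by
      have : snd G G ≫ φ = lift (snd G G) (toUnit (G ⊗ G) ≫ x₀) ≫ a.act := by
        rw [hφ, ← Category.assoc, comp_lift, Category.comp_id, ← Category.assoc,
          toUnit_unique (snd G G ≫ toUnit G) (toUnit (G ⊗ G))]
      rw [hw, this]
    exact ⟨⟨⟨φ, P ≫ fst G X, h1, h2⟩, hL.trans hR.symm⟩⟩

end Aux

/-- An S-scheme X with an action of the S-group G is trivial — equivariantly isomorphic over S to G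
acting on itself by translation — if and only if it is formally principal homogeneous (a
pseudo-torsor) and admits a section over S. -/
theorem result {S : Scheme.{u}}
    (G X : Over S) [GrpObj G] (a : AlgGrp.Action G X) :
    Nonempty (NonAbH1.EquivIso (NonAbH1.trivialAction G) a) ↔
      (NonAbH1.IsPseudoTorsorSch a ∧ NonAbH1.HasSectionOver X (𝟙 S)) := by
  exact aux G X a

end Groth.Agent.S6011
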