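import Groth.Statements.S6012
import Mathlib
import Groth.Agent.Lib.Helper5.FibClv

set_option autoImplicit false
open CategoryTheory
universe v₁ v₂ u₁ u₂
open FibCat FibCat.Cleavage

namespace Groth.Agent.S6012

/-- Let `K` be a cleavage of an arbitrary functor `p : 𝒳 ⥤ 𝒮` (one chosen cartesian lift of every base
morphism at every object over its target; `p` is not assumed fibred). Then `p` is a fibred category
(composites of cartesian morphisms are cartesian) if and only if, for all composable base morphisms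
`g : R ⟶ T` and `f : T ⟶ S`, the comparison natural transformation `c_{f,g}` from `g^* f^*` to
`(fg)^*` determined by `K` is an isomorphism. -/
theorem result (𝒮 : Type u₁) (𝒳 : Type u₂) [Category.{v₁} 𝒮] [Category.{v₂} 𝒳] (p : 𝒳 ⥤ 𝒮) (K : FibCat.Cleavage p) :
    p.IsFibered ↔ ∀ (R S T : 𝒮) (f : T ⟶ S) (g : R ⟶ T), IsIso (K.comp f g) := by
  constructor
  · intro hp R S T f g
    haveI : ∀ a, IsIso ((K.comp f g).app a) := by
      intro a
      haveI hc : p.IsCartesian (g ≫ f) (K.lift (K.obj_proj a.2 f) g ≫ K.lift a.2 f) :=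
        Functor.IsFibered.comp g f _ _
      let inv₀ : K.obj a.2 (g ≫ f) ⟶ K.obj (K.obj_proj a.2 f) g :=
        Functor.IsCartesian.map p (g ≫ f) (K.lift (K.obj_proj a.2 f) g ≫ K.lift a.2 f)
          (K.lift a.2 (g ≫ f))
      have hinv₀ : inv₀ ≫ (K.lift (K.obj_proj a.2 f) g ≫ K.lift a.2 f) = K.lift a.2 (g ≫ f) :=
        Functor.IsCartesian.fac _ _ _ _
      have hcomp := Groth.Agent.Helper5.comp_app_lift K f g a
      let inv₁ : (K.inverseImage (g ≫ f)).obj a ⟶ (K.inverseImage g).obj ((K.inverseImage f).obj a) :=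
        Functor.Fiber.homMk p R inv₀
      have hinv₁ : Functor.Fiber.fiberInclusion.map inv₁ = inv₀ := rfl
      refine ⟨inv₁, ?_, ?_⟩
      · apply Functor.Fiber.hom_ext
        have h1 : p.IsHomLift (𝟙 R) (Functor.Fiber.fiberInclusion.map ((K.comp f g).app a ≫ inv₁)) :=
          ((K.comp f g).app a ≫ inv₁).2
        have h2 : p.IsHomLift (𝟙 R) (Functor.Fiber.fiberInclusion.map
            (𝟙 ((K.inverseImage f ⋙ K.inverseImage g).obj a))) := inferInstance
        refine @Functor.IsCartesian.ext _ _ _ _ p _ _ _ _ (g ≫ f)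
          (K.lift (K.obj_proj a.2 f) g ≫ K.lift a.2 f) hc _ _ _ h1 h2 ?_
        rw [Functor.map_comp, CategoryTheory.Functor.map_id, hinv₁]
        refine (Category.assoc _ _ _).trans ?_
        refine (congrArg (Functor.Fiber.fiberInclusion.map ((K.comp f g).app a) ≫ ·) hinv₀).trans ?_
        refine hcomp.trans ?_
        exact (Category.id_comp _).symm
      · apply Groth.Agent.Helper5.fiber_hom_ext_lift K (g ≫ f) a
        rw [Functor.map_comp, CategoryTheory.Functor.map_id, hinv₁]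
        refine (Category.assoc _ _ _).trans ?_
        refine (congrArg (inv₀ ≫ ·) hcomp).trans ?_
        refine hinv₀.trans ?_
        exact (Category.id_comp _).symm
    exact NatIso.isIso_of_isIso_app _
  · intro h
    haveI := K.isPreFibered
    refine ⟨?_⟩
    intro R S' T' f₁ g₁ a b c φ ψ hφ hψ
    have hc : p.obj c = T' := IsHomLift.codomain_eq p g₁ ψ
    let c' : p.Fiber T' := ⟨c, hc⟩
    -- θ : b ≅ g₁^* c
    let θ : b ≅ K.obj hc g₁ := Functor.IsCartesian.domainUniqueUpToIso p g₁ (K.lift hc g₁) ψ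
    have hθ : θ.hom ≫ K.lift hc g₁ = ψ := Functor.IsCartesian.fac p g₁ (K.lift hc g₁) ψ
    haveI : p.IsHomLift (𝟙 S') θ.hom := inferInstance
    haveI hφθ : p.IsCartesian f₁ (φ ≫ θ.hom) := inferInstance
    let η : a ≅ K.obj (K.obj_proj hc g₁) f₁ :=
      Functor.IsCartesian.domainUniqueUpToIso p f₁ (K.lift (K.obj_proj hc g₁) f₁) (φ ≫ θ.hom)
    have hη : η.hom ≫ K.lift (K.obj_proj hc g₁) f₁ = φ ≫ θ.hom :=
      Functor.IsCartesian.fac p f₁ (K.lift (K.obj_proj hc g₁) f₁) (φ ≫ θ.hom)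
    haveI : p.IsHomLift (𝟙 R) η.hom := inferInstance
    haveI := h R T' S' g₁ f₁
    let κ : (K.inverseImage f₁).obj ((K.inverseImage g₁).obj c') ≅ (K.inverseImage (f₁ ≫ g₁)).obj c' :=
      asIso ((K.comp g₁ f₁).app c')
    let κ' : K.obj (K.obj_proj hc g₁) f₁ ≅ K.obj hc (f₁ ≫ g₁) :=
      Functor.Fiber.fiberInclusion.mapIso κ
    have hκ : κ'.hom ≫ K.lift hc (f₁ ≫ g₁) = K.lift (K.obj_proj hc g₁) f₁ ≫ K.lift hc g₁ :=
      Groth.Agent.Helper5.comp_app_lift K g₁ f₁ c'
    haveI : p.IsHomLift (𝟙 R) κ'.hom := ((K.comp g₁ f₁).app c').2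
    have e : φ ≫ ψ = (η ≪≫ κ').hom ≫ K.lift hc (f₁ ≫ g₁) := by
      rw [Iso.trans_hom, Category.assoc, hκ, ← Category.assoc, hη, Category.assoc, hθ]
    rw [e]
    haveI : p.IsHomLift (𝟙 R) (η ≪≫ κ').hom := by
      rw [Iso.trans_hom]
      infer_instance
    infer_instance

end Groth.Agent.S6012
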