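import Groth.Statements.S6013
import Mathlib
import Groth.Agent.Lib.Helper5.FibClv
import Groth.Agent.S6012

set_option autoImplicit false
open CategoryTheory
universe v₁ v₂ u₁ u₂
open FibCat FibCat.Cleavage

namespace Groth.Agent.S6013

section aux
variable {𝒮 : Type u₁} {𝒳 : Type u₂} [Category.{v₁} 𝒮] [Category.{v₂} 𝒳] {p : 𝒳 ⥤ 𝒮} [p.IsFibered]
  (K : FibCat.Cleavage p)

/-- the transport natural transformation `(𝟙 S)^* ⟶ 𝟭` -/
noncomputable def idTrans (S : 𝒮) : K.inverseImage (𝟙 S) ⟶ 𝟭 (p.Fiber S) where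
  app a := Functor.Fiber.homMk p S (K.lift a.2 (𝟙 S))
  naturality a b φ := by
    apply Functor.Fiber.hom_ext
    exact Groth.Agent.Helper5.inverseImage_map_lift K (𝟙 S) φ

instance idTrans_isIso (S : 𝒮) : IsIso (idTrans K S) := by
  haveI : ∀ a, IsIso ((idTrans K S).app a) := by
    intro a
    haveI : IsIso (K.lift a.2 (𝟙 S)) :=
      Functor.IsStronglyCartesian.isIso_of_base_isIso p (𝟙 S) (K.lift a.2 (𝟙 S))
    refine ⟨Functor.Fiber.homMk p S (inv (K.lift a.2 (𝟙 S))), ?_, ?_⟩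
    · apply Functor.Fiber.hom_ext
      exact IsIso.hom_inv_id (K.lift a.2 (𝟙 S))
    · apply Functor.Fiber.hom_ext
      exact IsIso.inv_hom_id (K.lift a.2 (𝟙 S))
  exact NatIso.isIso_of_isIso_app _

end aux

/-- Let `p : 𝒳 ⥤ 𝒮` be a fibred category with a cleavage `K`, and let `f : T ⟶ S` be an isomorphism of
the base. Then the inverse-image functor `f^*` of `K`, from the fibre over `S` to the fibre over
`T`, is an equivalence of categories. -/
theorem result (𝒮 : Type u₁) (𝒳 : Type u₂) [Category.{v₁} 𝒮] [Category.{v₂} 𝒳] (p : 𝒳 ⥤ 𝒮) [p.IsFibered] (K : FibCat.Cleavage p)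
    (S T : 𝒮) (f : T ⟶ S) [IsIso f] : (K.inverseImage f).IsEquivalence := by
  have hiso := (Groth.Agent.S6012.result 𝒮 𝒳 p K).mp inferInstance
  haveI := hiso
  let e1 : K.inverseImage f ⋙ K.inverseImage (inv f) ≅ 𝟭 (p.Fiber S) :=
    asIso (K.comp f (inv f)) ≪≫ K.inverseImageCongr (IsIso.inv_hom_id f) ≪≫ asIso (idTrans K S)
  let e2 : K.inverseImage (inv f) ⋙ K.inverseImage f ≅ 𝟭 (p.Fiber T) :=
    asIso (K.comp (inv f) f) ≪≫ K.inverseImageCongr (IsIso.hom_inv_id f) ≪≫ asIso (idTrans K T)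
  exact (CategoryTheory.Equivalence.mk (K.inverseImage f) (K.inverseImage (inv f)) e1.symm e2).isEquivalence_functor

end Groth.Agent.S6013
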