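import Groth.Statements.S6018
import Mathlib
import Groth.Agent.Lib.Helper5.FibClv

set_option autoImplicit false
open CategoryTheory
universe v₁ v₂ v₃ u₁ u₂ u₃
open FibCat FibCat.Cleavage

namespace Groth.Agent.S6018

theorem sq_comp {C : Type*} [Category C] {A B D A' B' D' : C} (f1 : A ⟶ B) (f2 : B ⟶ D)
    (g1 : A' ⟶ B') (g2 : B' ⟶ D') (ua : A ⟶ A') (ub : B ⟶ B') (ud : D ⟶ D')
    (h1 : f1 ≫ ub = ua ≫ g1) (h2 : f2 ≫ ud = ub ≫ g2) : (f1 ≫ f2) ≫ ud = ua ≫ (g1 ≫ g2) := by
  rw [Category.assoc, h2, ← Category.assoc, h1, Category.assoc]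

/-- Let `K` be a cleavage of a functor `p : 𝒳 ⥤ 𝒮` (neither fibredness nor normalisation is assumed),
let `F, G : 𝒳 ⥤ C` be functors, and for every object `S` of the base let `u_S` be a natural
transformation between the restrictions of `F` and `G` to the fibre over `S`. If the family is
compatible with the transport morphisms `α_f(a) : f^* a ⟶ a` of `K`, i.e. `G(α_f(a)) ∘ u_T(f^* a) =
u_S(a) ∘ F(α_f(a))` for every base morphism `f : T ⟶ S` and every `a` over `S`, then there is
exactly one natural transformation `F ⟶ G` whose component at every object is the prescribed one.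
(The published statement is an isomorphism between the category of all functors `𝒳 ⥤ C` and the
category of compatible families of functors on the fibres of a normalised cloven category; this row
is its assertion on morphisms, whose published proof does not use the normalisation, so none is
assumed here.) -/
theorem result (𝒮 : Type u₁) (𝒳 : Type u₂) [Category.{v₁} 𝒮]
    [Category.{v₂} 𝒳] (p : 𝒳 ⥤ 𝒮) (K : FibCat.Cleavage p) (C : Type u₃) [Category.{v₃} C] (F G : 𝒳 ⥤ C)
    (u : ∀ S : 𝒮, (Functor.Fiber.fiberInclusion ⋙ F : p.Fiber S ⥤ C) ⟶ Functor.Fiber.fiberInclusion ⋙ G)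
    (hu : ∀ ⦃T S : 𝒮⦄ (f : T ⟶ S) (a : p.Fiber S),
      F.map ((K.transport f).app a) ≫ (u S).app a = (u T).app ((K.inverseImage f).obj a) ≫ G.map ((K.transport f).app a)) :
    ∃! v : F ⟶ G, ∀ (S : 𝒮) (a : p.Fiber S), v.app a.1 = (u S).app a := by
  have key : ∀ (S : 𝒮) (a : p.Fiber S), (u (p.obj a.1)).app ⟨a.1, rfl⟩ = (u S).app a := by
    rintro S ⟨x, rfl⟩
    rfl
  refine ⟨⟨fun x => (u (p.obj x)).app ⟨x, rfl⟩, ?_⟩, ?_, ?_⟩
  · intro x y φ
    -- factor φ through the chosen lift
    let b : p.Fiber (p.obj y) := ⟨y, rfl⟩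
    let a : p.Fiber (p.obj x) := ⟨x, rfl⟩
    have hφ : p.IsHomLift (p.map φ) φ := inferInstance
    let ψ₀ : x ⟶ K.obj b.2 (p.map φ) :=
      Functor.IsCartesian.map p (p.map φ) (K.lift b.2 (p.map φ)) φ
    have hψ₀ : ψ₀ ≫ K.lift b.2 (p.map φ) = φ := Functor.IsCartesian.fac _ _ _ _
    have hψ₀' : p.IsHomLift (𝟙 (p.obj x)) ψ₀ := inferInstance
    let ψ : a ⟶ (K.inverseImage (p.map φ)).obj b := Functor.Fiber.homMk p (p.obj x) ψ₀
    have h1 := (u (p.obj x)).naturality ψ
    have h2 := hu (p.map φ) b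
    simp only [Functor.comp_map, Functor.comp_obj] at h1
    have h3 : Functor.Fiber.fiberInclusion.map ψ = ψ₀ := rfl
    rw [h3] at h1
    rw [transport_app] at h2
    change F.map φ ≫ (u (p.obj y)).app b = (u (p.obj x)).app a ≫ G.map φ
    have e : F.map φ = F.map ψ₀ ≫ F.map (K.lift b.2 (p.map φ)) := by
      rw [← F.map_comp, hψ₀]
    have e' : G.map φ = G.map ψ₀ ≫ G.map (K.lift b.2 (p.map φ)) := by
      rw [← G.map_comp, hψ₀]
    refine (congrArg (· ≫ (u (p.obj y)).app b) e).trans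
      (Eq.trans ?_ (congrArg ((u (p.obj x)).app a ≫ ·) e').symm)
    exact sq_comp _ _ _ _ _ _ _ h1 h2
  · intro S a
    exact key S a
  · intro v' hv'
    ext x
    exact hv' (p.obj x) ⟨x, rfl⟩

end Groth.Agent.S6018
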