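import Groth.Statements.S6019
import Mathlib

set_option autoImplicit false
open CategoryTheory
universe v₁ v₂ u₁ u₂
open FibCat FibCat.Cleavage

namespace Groth.Agent.S6019

open Classical in
/-- the chosen lifts: identities over identities, Mathlib's choice elsewhere -/
noncomputable def pick {𝒮 : Type u₁} {𝒳 : Type u₂} [Category.{v₁} 𝒮] [Category.{v₂} 𝒳]
    (p : 𝒳 ⥤ 𝒮) [p.IsPreFibered] {R S : 𝒮} {a : 𝒳} (ha : p.obj a = S) (f : R ⟶ S) :
    Σ' (b : 𝒳) (φ : b ⟶ a), p.IsCartesian f φ :=
  if h : ∃ e : R = S, f = eqToHom e then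
    ⟨a, 𝟙 a, by
      obtain ⟨e, he⟩ := h
      subst e
      subst ha
      rw [he, eqToHom_refl]
      infer_instance⟩
  else ⟨Functor.IsPreFibered.pullbackObj ha f, Functor.IsPreFibered.pullbackMap ha f, inferInstance⟩

/-- A pre-fibred category admits a normalised cleavage: if every base morphism `R ⟶ p(a)` has a
cartesian morphism over it with target `a`, then one cartesian lift can be chosen for every base
morphism at every object over its target in such a way that the chosen lift of each identity `𝟙 S`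
at each object `a` over `S` is the identity of `a` (identities are transport morphisms). -/
theorem result (𝒮 : Type u₁) (𝒳 : Type u₂) [Category.{v₁} 𝒮] [Category.{v₂} 𝒳]
    (p : 𝒳 ⥤ 𝒮) [p.IsPreFibered] : ∃ K : FibCat.Cleavage p, K.IsNormalised := by
  refine ⟨⟨fun ha f => (pick p ha f).1, fun ha f => (pick p ha f).2.1,
    fun ha f => (pick p ha f).2.2⟩, ?_⟩
  intro S a ha
  have h : pick p ha (𝟙 S) = ⟨a, 𝟙 a, _⟩ := dif_pos ⟨rfl, (eqToHom_refl _ _).symm⟩
  show ∃ h : (pick p ha (𝟙 S)).1 = a, (pick p ha (𝟙 S)).2.1 = eqToHom h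
  rw [h]
  exact ⟨rfl, rfl⟩

end Groth.Agent.S6019
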