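import Groth.Statements.S6020
import Groth.Agent.H10.LocCohVan2
import Groth.Agent.H10.LocCohM
import Groth.Agent.H10.TopRestr
import Mathlib

set_option autoImplicit false
universe u
open CategoryTheory CategoryTheory.Limits TopologicalSpace
open LocCohZ

namespace Groth.Agent.S6020

/-- Consider a topological space X carrying a sheaf F of abelian groups, an open subset U whose
complement is the closed set Z, and a natural number N. The local cohomology sheaves ℋ^i_Z(F) are
zero for all i ≤ N exactly when, for each open V of X, restricting H^i(V, F) → H^i(V ∩ U, F) gives a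
bijection whenever i < N and an injection when i = N. -/
theorem result {X : TopCat.{u}} (F : CohTop.Ab X) (U : Opens X) (N : ℕ) :
    (∀ i : ℕ, i ≤ N → IsZero ((LocCohZ.HZsh U i).obj F)) ↔
      ∀ V : Opens X, (∀ i : ℕ, i < N → Function.Bijective (CohTop.res F i (inf_le_left : V ⊓ U ≤ V))) ∧
        Function.Injective (CohTop.res F N (inf_le_left : V ⊓ U ≤ V)) := by
  have H : Topology.IsOpenEmbedding (TopCat.Hom.hom (CohCx.incl U)) := U.isOpenEmbedding
  have hc := H.functor_isContinuous
  let adj : CohTop.pull (CohCx.incl U) ⊣ CohTop.push (CohCx.incl U) :=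
    TopCat.Sheaf.pullbackPushforwardAdjunction AddCommGrpCat.{u} (CohCx.incl U)
  let ι : LocCohZ.sectSuppF U ⟶ 𝟭 (CohTop.Ab X) :=
    { app := fun G => kernel.ι (adj.unit.app G)
      naturality := fun G G' f => kernel.lift_ι _ _ _ }
  have w : ∀ G : CohTop.Ab X, ι.app G ≫ adj.unit.app G = 0 :=
    fun G => kernel.condition _
  have hΓ : ∀ G : CohTop.Ab X, IsLimit (KernelFork.ofι (ι.app G) (w G)) :=
    fun G => kernelIsKernel _
  have eW : ∀ V : Opens X, V ⊓ U = H.isOpenMap.functor.obj ((Opens.map (CohCx.incl U)).obj V) := by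
    intro V
    ext x
    constructor
    · rintro ⟨hxV, hxU⟩
      exact ⟨⟨x, hxU⟩, hxV, rfl⟩
    · rintro ⟨y, hy, rfl⟩
      exact ⟨hy, y.2⟩
  constructor
  · intro hz V
    have key := fun (i : ℕ) (hi : i ≤ N) (x : LocCohZ.HZ F i (inf_le_left : V ⊓ U ≤ V)) =>
      @Groth.Agent.H10.LocCohM.HZ_vanish X (TopCat.of U) (CohCx.incl U) H hc
        (LocCohZ.sectSuppF U) _ ι w hΓ F N hz (V ⊓ U) V inf_le_left
        (eW V).le (eW V).ge i hi x
    refine ⟨fun i hi => ⟨?_, ?_⟩, ?_⟩
    · exact Groth.Agent.H10.LocCohM.res_injective_of_HZ F i _ (key i (by omega))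
    · exact Groth.Agent.H10.LocCohM.res_surjective_of_HZ F i _ (key (i + 1) (by omega))
    · exact Groth.Agent.H10.LocCohM.res_injective_of_HZ F N _ (key N le_rfl)
  · intro hs
    have hinj0 : ∀ V : Opens X,
        Function.Injective (CohTop.res F 0 (inf_le_left : V ⊓ U ≤ V)) := by
      intro V
      rcases Nat.eq_zero_or_pos N with h0 | h0
      · subst h0
        exact (hs V).2
      · exact ((hs V).1 0 h0).1
    exact @Groth.Agent.H10.LocCohVan.loc_vanish X (TopCat.of U) (CohCx.incl U) H hc
      (inferInstanceAs (PreservesFiniteLimits (CohTop.restrFunctor U)))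
      (inferInstanceAs (PreservesFiniteColimits (CohTop.restrFunctor U)))
      (fun I hI => Groth.Agent.H10.TopRestr.restr_injective U I)
      (LocCohZ.sectSuppF U) _ ι w hΓ F N
      (fun V => Groth.Agent.H10.LocCohVan.transport_inj0 F (eW V) inf_le_left _ (hinj0 V))
      (fun hN V => Groth.Agent.H10.LocCohVan.transport_surj0 F (eW V) inf_le_left _
        ((hs V).1 0 hN).2)
      (fun n hn V x => Groth.Agent.H10.LocCohVan.transport_surj F (n + 1) (eW V) inf_le_left _
        ((hs V).1 (n + 1) hn).2 x)

end Groth.Agent.S6020
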