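import Groth.Statements.S6021
import Groth.Agent.H10.LocCohVan2
import Groth.Agent.H10.TopRestr
import Mathlib

set_option autoImplicit false
universe u
open CategoryTheory CategoryTheory.Limits TopologicalSpace
open LocCohZ

namespace Groth.Agent.S6021

/-- Consider a topological space X carrying an abelian sheaf F, a closed subset Z whose open complement
is U, and a natural number N > 0. Assume that, for each open V of X and each i < N, restricting
H^i(V, F) → H^i(V ∩ U, F) gives a bijection. Then ℋ^i_Z(F), the local cohomology sheaves, are zero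
for every i ≤ N (no separate injectivity hypothesis in degree N is needed, since it follows
automatically). -/
theorem result {X : TopCat.{u}} (F : CohTop.Ab X) (U : Opens X) (N : ℕ) (hN : 0 < N)
    (h : ∀ (V : Opens X) (i : ℕ), i < N → Function.Bijective (CohTop.res F i (inf_le_left : V ⊓ U ≤ V))) :
    ∀ i : ℕ, i ≤ N → IsZero ((LocCohZ.HZsh U i).obj F) := by
  have H : Topology.IsOpenEmbedding (TopCat.Hom.hom (CohCx.incl U)) := U.isOpenEmbedding
  have hc := H.functor_isContinuous
  let adj : CohTop.pull (CohCx.incl U) ⊣ CohTop.push (CohCx.incl U) :=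
    TopCat.Sheaf.pullbackPushforwardAdjunction AddCommGrpCat.{u} (CohCx.incl U)
  let ι : LocCohZ.sectSuppF U ⟶ 𝟭 (CohTop.Ab X) :=
    { app := fun G => kernel.ι (adj.unit.app G)
      naturality := fun G G' f => kernel.lift_ι _ _ _ }
  have w : ∀ G : CohTop.Ab X, ι.app G ≫ adj.unit.app G = 0 :=
    fun G => kernel.condition _
  have hΓ : ∀ G : CohTop.Ab X, IsLimit (KernelFork.ofι (ι.app G) (w G)) :=
    fun G => kernelIsKernel _
  have eW : ∀ V : Opens X, V ⊓ U = H.isOpenMap.functor.obj ((Opens.map (CohCx.incl U)).obj V) := by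
    intro V
    ext x
    constructor
    · rintro ⟨hxV, hxU⟩
      exact ⟨⟨x, hxU⟩, hxV, rfl⟩
    · rintro ⟨y, hy, rfl⟩
      exact ⟨hy, y.2⟩
  exact @Groth.Agent.H10.LocCohVan.loc_vanish X (TopCat.of U) (CohCx.incl U) H hc
    (inferInstanceAs (PreservesFiniteLimits (CohTop.restrFunctor U)))
    (inferInstanceAs (PreservesFiniteColimits (CohTop.restrFunctor U)))
    (fun I hI => Groth.Agent.H10.TopRestr.restr_injective U I)
    (LocCohZ.sectSuppF U) _ ι w hΓ F N
    (fun V => Groth.Agent.H10.LocCohVan.transport_inj0 F (eW V) inf_le_left _ (h V 0 hN).1)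
    (fun _ V => Groth.Agent.H10.LocCohVan.transport_surj0 F (eW V) inf_le_left _ (h V 0 hN).2)
    (fun n hn V x => Groth.Agent.H10.LocCohVan.transport_surj F (n + 1) (eW V) inf_le_left _
      (h V (n + 1) hn).2 x)

end Groth.Agent.S6021
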