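import Groth.Statements.S6022
import Groth.Agent.H10.LocCohVan2
import Groth.Agent.H10.LocCohM
import Groth.Agent.H10.TopRestr
import Mathlib

set_option autoImplicit false
universe u
open CategoryTheory CategoryTheory.Limits TopologicalSpace
open LocCohZ

namespace Groth.Agent.S6022

/-- Consider a topological space X carrying a sheaf of abelian groups F, a natural number n, and a
closed subset Y of X whose complement is the open set U. The local cohomology sheaves ℋ^i_Y(F) are
zero for every i < n exactly when, for each open V of X, the groups H^i_{Y∩V}(V, F) are zero for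
every i < n. -/
theorem result {X : TopCat.{u}} (F : CohTop.Ab X) (U : Opens X) (n : ℕ) :
    (∀ i : ℕ, i < n → IsZero ((LocCohZ.HZsh U i).obj F)) ↔
      ∀ (V : Opens X) (i : ℕ), i < n → Subsingleton (LocCohZ.HZ F i (inf_le_left : V ⊓ U ≤ V)) := by
  have H : Topology.IsOpenEmbedding (TopCat.Hom.hom (CohCx.incl U)) := U.isOpenEmbedding
  have hc := H.functor_isContinuous
  let adj : CohTop.pull (CohCx.incl U) ⊣ CohTop.push (CohCx.incl U) :=
    TopCat.Sheaf.pullbackPushforwardAdjunction AddCommGrpCat.{u} (CohCx.incl U)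
  let ι : LocCohZ.sectSuppF U ⟶ 𝟭 (CohTop.Ab X) :=
    { app := fun G => kernel.ι (adj.unit.app G)
      naturality := fun G G' f => kernel.lift_ι _ _ _ }
  have w : ∀ G : CohTop.Ab X, ι.app G ≫ adj.unit.app G = 0 :=
    fun G => kernel.condition _
  have hΓ : ∀ G : CohTop.Ab X, IsLimit (KernelFork.ofι (ι.app G) (w G)) :=
    fun G => kernelIsKernel _
  have eW : ∀ V : Opens X, V ⊓ U = H.isOpenMap.functor.obj ((Opens.map (CohCx.incl U)).obj V) := by
    intro V
    ext x
    constructor
    · rintro ⟨hxV, hxU⟩
      exact ⟨⟨x, hxU⟩, hxV, rfl⟩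
    · rintro ⟨y, hy, rfl⟩
      exact ⟨hy, y.2⟩
  cases n with
  | zero =>
    exact ⟨fun _ _ i hi => absurd hi (Nat.not_lt_zero i), fun _ i hi => absurd hi (Nat.not_lt_zero i)⟩
  | succ N =>
    constructor
    · intro hz V i hi
      refine ⟨fun a b => ?_⟩
      have key := fun x => @Groth.Agent.H10.LocCohM.HZ_vanish X (TopCat.of U) (CohCx.incl U) H hc
        (LocCohZ.sectSuppF U) _ ι w hΓ F N (fun i hi => hz i (by omega)) (V ⊓ U) V inf_le_left
        (eW V).le (eW V).ge i (by omega) x
      rw [key a, key b]
    · intro hs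
      have hz : ∀ (V : Opens X) (i : ℕ), i ≤ N →
          ∀ x : LocCohZ.HZ F i (inf_le_left : V ⊓ U ≤ V), x = 0 := by
        intro V i hi x
        have := hs V i (by omega)
        exact Subsingleton.elim _ _
      have key := @Groth.Agent.H10.LocCohVan.loc_vanish X (TopCat.of U) (CohCx.incl U) H hc
        (inferInstanceAs (PreservesFiniteLimits (CohTop.restrFunctor U)))
        (inferInstanceAs (PreservesFiniteColimits (CohTop.restrFunctor U)))
        (fun I hI => Groth.Agent.H10.TopRestr.restr_injective U I)
        (LocCohZ.sectSuppF U) _ ι w hΓ F N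
        (fun V => Groth.Agent.H10.LocCohVan.transport_inj0 F (eW V) inf_le_left _
          (Groth.Agent.H10.LocCohM.res_injective_of_HZ F 0 _ (hz V 0 (Nat.zero_le _))))
        (fun hN V => Groth.Agent.H10.LocCohVan.transport_surj0 F (eW V) inf_le_left _
          (Groth.Agent.H10.LocCohM.res_surjective_of_HZ F 0 _ (hz V 1 (by omega))))
        (fun n hn V x => Groth.Agent.H10.LocCohVan.transport_surj F (n + 1) (eW V) inf_le_left _
          (Groth.Agent.H10.LocCohM.res_surjective_of_HZ F (n + 1) _ (hz V (n + 2) (by omega))) x)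
      intro i hi
      exact key i (by omega)

end Groth.Agent.S6022
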