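import Groth.Statements.S6023
import Groth.Agent.H10.TopRestr
import Groth.Agent.H10.LocCohTop
import Groth.Agent.H10.LocCohFl
import Groth.Agent.S0456
import Mathlib

set_option autoImplicit false
universe u
open CategoryTheory CategoryTheory.Limits TopologicalSpace
open LocCohZ

namespace Groth.Agent.S6023

/-- Let F be a flasque abelian sheaf on a topological space X. Then H^i_Z(V, F) = 0 for every locally
closed subset Z = V − W (W ⊆ V opens of X) and every i > 0, and ℋ^i_Z(F) = 0 for every closed subset
Z = X − U and every i > 0. (The sheaf assertion is stated for closed Z only.) -/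
theorem result {X : TopCat.{u}} (F : CohTop.Ab X) [TopCat.Sheaf.IsFlasque F] :
    (∀ (W V : Opens X) (h : W ≤ V) (i : ℕ), 0 < i → Subsingleton (LocCohZ.HZ F i h)) ∧
      ∀ (U : Opens X) (i : ℕ), 0 < i → IsZero ((LocCohZ.HZsh U i).obj F) := by
  constructor
  · intro W V h i hi
    obtain ⟨n, rfl⟩ : ∃ n, i = n + 1 := ⟨i - 1, by omega⟩
    have key := Groth.Agent.H10.LocCohFl.HZ_eq_zero F h n
    exact ⟨fun a b => (key a).trans (key b).symm⟩
  · intro U i hi
    have H : Topology.IsOpenEmbedding (TopCat.Hom.hom (CohCx.incl U)) := U.isOpenEmbedding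
    have hc := H.functor_isContinuous
    let adj : CohTop.pull (CohCx.incl U) ⊣ CohTop.push (CohCx.incl U) :=
      TopCat.Sheaf.pullbackPushforwardAdjunction AddCommGrpCat.{u} (CohCx.incl U)
    let ι : LocCohZ.sectSuppF U ⟶ 𝟭 (CohTop.Ab X) :=
      { app := fun G => kernel.ι (adj.unit.app G)
        naturality := fun G G' f => kernel.lift_ι _ _ _ }
    have w : ∀ G : CohTop.Ab X, ι.app G ≫ adj.unit.app G = 0 :=
      fun G => kernel.condition _
    have hΓ : ∀ G : CohTop.Ab X, IsLimit (KernelFork.ofι (ι.app G) (w G)) :=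
      fun G => kernelIsKernel _
    exact @Groth.Agent.H10.LocCohTop.flasque_isZero X (TopCat.of U) (CohCx.incl U) H hc
      (inferInstanceAs (PreservesFiniteLimits (CohTop.restrFunctor U)))
      (fun I hI => Groth.Agent.H10.TopRestr.restr_injective U I)
      (LocCohZ.sectSuppF U) _ ι w hΓ
      (fun G _ q => Groth.Agent.S0456.result (CohCx.incl U) G q) F _ i hi

end Groth.Agent.S6023
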