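import Groth.Statements.S6024
import Groth.Agent.H10.CohTopB
import Mathlib

set_option autoImplicit false
universe u
open CategoryTheory CategoryTheory.Limits TopologicalSpace
open LocCohZ

namespace Groth.Agent.S6024

/-- Consider a topological space X carrying a sheaf of abelian groups F, and assume that H^1_Z(X, F)
vanishes for each closed subset Z of X (writing Z = X − U with U open). Under this assumption, F is
flasque. -/
theorem result {X : TopCat.{u}} (F : CohTop.Ab X)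
    (h : ∀ U : Opens X, Subsingleton (LocCohZ.HZc F 1 U)) : TopCat.Sheaf.IsFlasque F := by
  have key : ∀ (U : Opens X) (s : F.obj.obj (Opposite.op U)),
      ∃ t : F.obj.obj (Opposite.op ⊤), F.obj.map (homOfLE (le_top : U ≤ ⊤)).op t = s := by
    intro U s
    have hS := LocCohZ.zqSeq_shortExact (le_top : U ≤ ⊤)
    let φ : (LocCohZ.zqSeq (le_top : U ≤ ⊤)).X₁ ⟶ F :=
      (Groth.Agent.H10.CohTopB.secEquiv U F).symm s
    have h0 : hS.extClass.comp (Abelian.Ext.mk₀ φ) (show 1 + 0 = 1 by omega) = 0 :=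
      (h U).elim _ _
    obtain ⟨x₂, hx₂⟩ := Abelian.Ext.contravariant_sequence_exact₁ hS F (Abelian.Ext.mk₀ φ)
      (show 1 + 0 = 1 by omega) h0
    let ψ : (LocCohZ.zqSeq (le_top : U ≤ ⊤)).X₂ ⟶ F := Abelian.Ext.homEquiv₀ x₂
    have hψ : Abelian.Ext.mk₀ ψ = x₂ := Abelian.Ext.mk₀_homEquiv₀_apply x₂
    have e : (LocCohZ.zqSeq (le_top : U ≤ ⊤)).f ≫ ψ = φ := by
      apply (Abelian.Ext.mk₀_bijective _ _).injective
      rw [← Abelian.Ext.mk₀_comp_mk₀, hψ]
      exact hx₂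
    refine ⟨Groth.Agent.H10.CohTopB.secEquiv ⊤ F ψ, ?_⟩
    have := Groth.Agent.H10.CohTopB.secEquiv_map (homOfLE (le_top : U ≤ ⊤)) ψ
    refine this.symm.trans ?_
    have e' : (Groth.Agent.H10.CohTopB.freeFunctor X).map (homOfLE (le_top : U ≤ ⊤)) ≫ ψ = φ := e
    rw [e']
    exact Equiv.apply_symm_apply _ _
  refine ⟨fun {U V} i => ?_⟩
  refine (AddCommGrpCat.epi_iff_surjective _).mpr (fun s => ?_)
  obtain ⟨t, ht⟩ := key V.unop s
  refine ⟨F.obj.map (homOfLE (le_top : U.unop ≤ ⊤)).op t, ?_⟩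
  rw [← ht]
  have hcomp : (homOfLE (le_top : U.unop ≤ ⊤)).op ≫ i = (homOfLE (le_top : V.unop ≤ ⊤)).op :=
    Subsingleton.elim _ _
  rw [← hcomp, F.obj.map_comp]
  rfl

end Groth.Agent.S6024
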