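import Groth.Statements.S6026
import Groth.Agent.H10.LocCohRestr
import Groth.Agent.H10.TopRestr
import Mathlib

set_option autoImplicit false
universe u
open CategoryTheory CategoryTheory.Limits TopologicalSpace
open LocCohZ

namespace Groth.Agent.S6026

/-- Let X be a topological space, W ⊆ V opens of X and Z = V − W. For every i there is an isomorphism
H^i_Z(X, F) ≅ H^i_Z(V, F|_V), natural in the abelian sheaf F on X, between cohomology with supports
in Z computed on X and computed on the open subspace V. (Existence of a natural family of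
isomorphisms; the published statement has the canonical maps of cohomological functors.) -/
theorem result {X : TopCat.{u}} {W V : Opens X} (h : W ≤ V) (i : ℕ) :
    ∃ e : ∀ F : CohTop.Ab X,
        LocCohZ.HZ F i h ≃+ LocCohZ.HZc (CohTop.restr F V) i ((Opens.map (CohCx.incl V)).obj W),
      ∀ (F G : CohTop.Ab X) (φ : F ⟶ G) (x : LocCohZ.HZ F i h),
        e G (LocCohZ.map φ i h x) =
          LocCohZ.map ((CohTop.restrFunctor V).map φ) i
            (le_top : (Opens.map (CohCx.incl V)).obj W ≤ ⊤) (e F x) := by
  have H : Topology.IsOpenEmbedding (TopCat.Hom.hom (CohCx.incl V)) := V.isOpenEmbedding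
  have hc := H.functor_isContinuous
  have hl : PreservesFiniteLimits (CohTop.restrFunctor V) := inferInstance
  have hcl : PreservesFiniteColimits (CohTop.restrFunctor V) := inferInstance
  obtain ⟨e₁, he₁⟩ := @Groth.Agent.H10.LocCohRestr.HZ_restr X (TopCat.of V) (CohCx.incl V) H hc hl hcl
    ((Opens.map (CohCx.incl V)).obj W) ⊤ le_top i
  have eV : V = H.isOpenMap.functor.obj ⊤ := V.isOpenEmbedding_obj_top.symm
  have eW : W = H.isOpenMap.functor.obj ((Opens.map (CohCx.incl V)).obj W) := by
    ext x
    constructor
    · intro hx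
      exact ⟨⟨x, h hx⟩, hx, rfl⟩
    · rintro ⟨y, hy, rfl⟩
      exact hy
  obtain ⟨e₀, he₀⟩ := Groth.Agent.H10.LocCohRestr.HZ_congr eW eV h
    (H.isOpenMap.functor.map (homOfLE (le_top : (Opens.map (CohCx.incl V)).obj W ≤ ⊤))).le i
  refine ⟨fun F => (e₀ F).trans (e₁ F), ?_⟩
  intro F G φ x
  show e₁ G (e₀ G _) = _
  rw [he₀, he₁]
  rfl

end Groth.Agent.S6026
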