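import Groth.Statements.S6027
import Groth.Agent.H10.ExtRD
import Groth.Agent.H10.GammaZHom
import Mathlib

set_option autoImplicit false
universe u
open CategoryTheory CategoryTheory.Limits TopologicalSpace
open LocCohZ

namespace Groth.Agent.S6027

/-- The case of a closed subset. Let X be a topological space and Z a closed subset with open complement
U. For every q the q-th right derived functor of F ↦ Γ_Z(X, F) is isomorphic to the functor F ↦
Ext^q(ℤ_{Z,X}, F), where ℤ_{Z,X} = ℤ_X/ℤ_U. (Existence of an isomorphism of functors for each q;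
compatibility with connecting maps is not asserted.) -/
theorem result {X : TopCat.{u}} (U : Opens X) (q : ℕ) :
    Nonempty (LocCohZ.RHZ U q ≅ ToposFin.HZFunctor (LocCohZ.openSh U) q) := by
  have H : Topology.IsOpenEmbedding (TopCat.Hom.hom (CohCx.incl U)) := U.isOpenEmbedding
  have hc := H.functor_isContinuous
  let adj : CohTop.pull (CohCx.incl U) ⊣ CohTop.push (CohCx.incl U) :=
    TopCat.Sheaf.pullbackPushforwardAdjunction AddCommGrpCat.{u} (CohCx.incl U)
  let ι : LocCohZ.sectSuppF U ⟶ 𝟭 (CohTop.Ab X) :=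
    { app := fun G => kernel.ι (adj.unit.app G)
      naturality := fun G G' f => kernel.lift_ι _ _ _ }
  have w : ∀ G : CohTop.Ab X, ι.app G ≫ adj.unit.app G = 0 :=
    fun G => kernel.condition _
  have hΓ : ∀ G : CohTop.Ab X, IsLimit (KernelFork.ofι (ι.app G) (w G)) :=
    fun G => kernelIsKernel _
  have hW1 : U ≤ H.isOpenMap.functor.obj ((Opens.map (CohCx.incl U)).obj ⊤) := by
    intro x hx
    exact ⟨⟨x, hx⟩, trivial, rfl⟩
  have hW2 : H.isOpenMap.functor.obj ((Opens.map (CohCx.incl U)).obj ⊤) ≤ U := by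
    rintro x ⟨y, -, rfl⟩
    exact y.2
  let θ : preadditiveCoyoneda.obj (Opposite.op (LocCohZ.zq (le_top : U ≤ ⊤))) ≅ LocCohZ.gammaZF U :=
    @Groth.Agent.H10.GammaZHom.iso X (TopCat.of U) (CohCx.incl U) H hc
      (LocCohZ.sectSuppF U) ι w hΓ U ⊤ le_top hW1 hW2
  obtain ⟨e1⟩ := Groth.Agent.H10.ExtRD.nonempty_iso (LocCohZ.zq (le_top : U ≤ ⊤)) q
  let e2 := Groth.Agent.H10.ExtRD.rightDerivedIso θ q
  let e3 := (Abelian.extFunctor.{u} q).mapIso (LocCohZ.zqIsoQuotZ U).op
  exact ⟨e2.symm ≪≫ e1 ≪≫ e3.symm⟩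

end Groth.Agent.S6027
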