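import Groth.Statements.S6028
import Groth.Agent.H10.ThirdIso
import Mathlib

set_option autoImplicit false
universe u
open CategoryTheory CategoryTheory.Limits TopologicalSpace
open LocCohZ

namespace Groth.Agent.S6028

/-- Let X be a topological space and W ⊆ V ⊆ T opens of X; put Z = T − W, Z' = T − V and Z'' = V − W, so
that Z' is closed in Z with complement Z''. Then 0 → ℤ_{Z'',X} → ℤ_{Z,X} → ℤ_{Z',X} → 0 is a short
exact sequence of abelian sheaves on X, where ℤ_{Z,X} = ℤ_T/ℤ_W and the maps are the induced ones. -/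
theorem result {X : TopCat.{u}} {W V T : Opens X} (hWV : W ≤ V) (hVT : V ≤ T) :
    ∃ w : LocCohZ.zqMap (hWV.trans hVT) hWV le_rfl hVT ≫ LocCohZ.zqMap hVT (hWV.trans hVT) hWV le_rfl = 0,
      (ShortComplex.mk _ _ w).ShortExact := by
  have := Groth.Agent.H10.ThirdIso.third_iso (CohCx.freeSheafMap (Opens.grothendieckTopology X) (homOfLE hWV))
    (CohCx.freeSheafMap (Opens.grothendieckTopology X) (homOfLE hVT))
    (CohCx.freeSheafMap (Opens.grothendieckTopology X) (homOfLE (hWV.trans hVT)))
    (CohCx.freeSheafMap (Opens.grothendieckTopology X) (homOfLE (le_refl W)))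
    (CohCx.freeSheafMap (Opens.grothendieckTopology X) (homOfLE (le_refl T)))
    (by rw [← CohFree.freeSheafMap_comp]; rfl)
    (by rw [← CohFree.freeSheafMap_id]; rfl)
    (by rw [← CohFree.freeSheafMap_id]; rfl)
    (by rw [← CohFree.freeSheafMap_comp, ← CohFree.freeSheafMap_comp]; rfl)
    (by rw [← CohFree.freeSheafMap_comp, ← CohFree.freeSheafMap_comp]; rfl)
  exact this

end Groth.Agent.S6028
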