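import Groth.Statements.S6040
import Groth.Agent.H10.RDComp
import Groth.Agent.H10.TopRestr
import Mathlib
import Mathlib

set_option autoImplicit false
universe u
open CategoryTheory CategoryTheory.Limits TopologicalSpace
open LocCohZ

namespace Groth.Agent.S6040

/-- Let X be a topological space, U an open subset and j : U → X the inclusion, so that the sheaf of
sections with supports in the open U is Γ_U(F) = j_*(F|_U). For every q the local cohomology sheaf
functor ℋ^q_U, i.e. the q-th right derived functor of F ↦ j_*(F|_U), is isomorphic to F ↦ R^q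
j_*(F|_U). (Existence of an isomorphism of functors for each q.) -/
theorem result {X : TopCat.{u}} (U : Opens X) (q : ℕ) :
    Nonempty (CohCx.RpushOn (𝟙 X) U q ≅ CohTop.restrFunctor U ⋙ CohTop.Rpush (CohCx.incl U) q) := by
  have key : ∀ (g : TopCat.of U ⟶ X) (_ : g = CohCx.incl U)
      [inst : (CohTop.restrFunctor U ⋙ CohTop.push g).Additive],
      Nonempty ((CohTop.restrFunctor U ⋙ CohTop.push g).rightDerived q ≅
        CohTop.restrFunctor U ⋙ CohTop.Rpush (CohCx.incl U) q) := by
    intro g hg inst
    subst hg
    haveI : (CohTop.push (CohCx.incl U)).Additive := { }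
    exact ⟨Groth.Agent.H10.RDComp.rightDerivedCompIso (CohTop.restrFunctor U)
      (CohTop.push (CohCx.incl U))
      (fun F hF => Groth.Agent.H10.TopRestr.restr_injective U F) q⟩
  exact key _ (Category.comp_id _)

end Groth.Agent.S6040
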