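import Groth.Statements.S6041
import Mathlib
import Groth.Agent.Lib.Helper5.ShGrp
import Groth.Agent.Lib.Helper18.QuotShLib

set_option autoImplicit false
open CategoryTheory CategoryTheory.Limits AlgebraicGeometry MonoidalCategory
universe u
open GrpQ

namespace Groth.Agent.S6041

open CartesianMonoidalCategory in
/-- For schemes and the fppf topology, easy direction: let `s, t : R ⇉ U` be a pair of morphisms of
schemes over `S` (in the source an equivalence relation), `T` a scheme over `S` and `i : Z ⟶ U ×_S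
T` such that `Z ⟶ T` is flat, surjective and locally of finite presentation and any two points of
`Z` over the same point of `T` have `R`-related images in `U`. Then the composite `h_Z ⟶ h_U ⟶ U/R`
descends to exactly one section of the fppf quotient sheaf `U/R` over `T`. -/
theorem result {S : Scheme.{u}} {R U : Over S} (s t : R ⟶ U)
    (T Z : Over S) (i : Z ⟶ U ⊗ T)
    [Flat (i ≫ snd U T).left] [Surjective (i ≫ snd U T).left] [LocallyOfFinitePresentation (i ≫ snd U T).left]
    (hZZ : ∀ (T' : Over S) (z₁ z₂ : T' ⟶ Z), z₁ ≫ i ≫ snd U T = z₂ ≫ i ≫ snd U T →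
      ∃ r : T' ⟶ R, r ≫ s = z₁ ≫ i ≫ fst U T ∧ r ≫ t = z₂ ≫ i ≫ fst U T) :
    ∃! σ : QuotSh.rep Scheme.fppfPrecoverage T ⟶ QuotSh.quot Scheme.fppfPrecoverage s t,
      QuotSh.repMap Scheme.fppfPrecoverage (i ≫ fst U T) ≫ QuotSh.quotπ Scheme.fppfPrecoverage s t =
        QuotSh.repMap Scheme.fppfPrecoverage (i ≫ snd U T) ≫ σ := by
  classical
  have hPq : (@Flat ⊓ @LocallyOfFinitePresentation : MorphismProperty Scheme.{u}) (i ≫ snd U T).left :=
    ⟨inferInstance, inferInstance⟩
  have hmem : Presieve.singleton (i ≫ snd U T).left ∈ Scheme.fppfPrecoverage T.left := by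
    rw [← Presieve.ofArrows_pUnit.{0}]
    exact ((i ≫ snd U T).left.cover
      (P := (@Flat ⊓ @LocallyOfFinitePresentation : MorphismProperty Scheme.{u})) hPq).mem₀
  haveI hepi : Epi (QuotSh.repMap Scheme.fppfPrecoverage (i ≫ snd U T)) :=
    Groth.Agent.Helper18.QuotShLib.epi_repMap_of_generate_mem Scheme.fppfPrecoverage _
      (Groth.Agent.Helper18.QuotShLib.generate_mem_of_singleton_mem Scheme.fppfPrecoverage _ hmem)
  have hpb := Groth.Agent.Helper18.QuotShLib.isPullback_repMap Scheme.fppfPrecoverage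
    (IsPullback.of_hasPullback (i ≫ snd U T) (i ≫ snd U T))
  obtain ⟨r, hr1, hr2⟩ := hZZ (pullback (i ≫ snd U T) (i ≫ snd U T))
    (pullback.fst (i ≫ snd U T) (i ≫ snd U T)) (pullback.snd (i ≫ snd U T) (i ≫ snd U T))
    pullback.condition
  have hkey : QuotSh.repMap Scheme.fppfPrecoverage (pullback.fst (i ≫ snd U T) (i ≫ snd U T)) ≫
      QuotSh.repMap Scheme.fppfPrecoverage (i ≫ fst U T) ≫ QuotSh.quotπ Scheme.fppfPrecoverage s t =
      QuotSh.repMap Scheme.fppfPrecoverage (pullback.snd (i ≫ snd U T) (i ≫ snd U T)) ≫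
      QuotSh.repMap Scheme.fppfPrecoverage (i ≫ fst U T) ≫ QuotSh.quotπ Scheme.fppfPrecoverage s t := by
    have e1 : QuotSh.repMap Scheme.fppfPrecoverage (pullback.fst (i ≫ snd U T) (i ≫ snd U T)) ≫
        QuotSh.repMap Scheme.fppfPrecoverage (i ≫ fst U T) =
        QuotSh.repMap Scheme.fppfPrecoverage r ≫ QuotSh.repMap Scheme.fppfPrecoverage s := by
      rw [← Groth.Agent.Helper18.QuotShLib.repMap_comp, ← Groth.Agent.Helper18.QuotShLib.repMap_comp, hr1]
    have e2 : QuotSh.repMap Scheme.fppfPrecoverage (pullback.snd (i ≫ snd U T) (i ≫ snd U T)) ≫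
        QuotSh.repMap Scheme.fppfPrecoverage (i ≫ fst U T) =
        QuotSh.repMap Scheme.fppfPrecoverage r ≫ QuotSh.repMap Scheme.fppfPrecoverage t := by
      rw [← Groth.Agent.Helper18.QuotShLib.repMap_comp, ← Groth.Agent.Helper18.QuotShLib.repMap_comp, hr2]
    calc _ = (QuotSh.repMap Scheme.fppfPrecoverage (pullback.fst (i ≫ snd U T) (i ≫ snd U T)) ≫
          QuotSh.repMap Scheme.fppfPrecoverage (i ≫ fst U T)) ≫
          QuotSh.quotπ Scheme.fppfPrecoverage s t := (Category.assoc _ _ _).symm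
      _ = (QuotSh.repMap Scheme.fppfPrecoverage r ≫ QuotSh.repMap Scheme.fppfPrecoverage s) ≫
          QuotSh.quotπ Scheme.fppfPrecoverage s t := by rw [e1]
      _ = (QuotSh.repMap Scheme.fppfPrecoverage r ≫ QuotSh.repMap Scheme.fppfPrecoverage t) ≫
          QuotSh.quotπ Scheme.fppfPrecoverage s t := by
            rw [Category.assoc, Category.assoc, QuotSh.quot_condition]
      _ = (QuotSh.repMap Scheme.fppfPrecoverage (pullback.snd (i ≫ snd U T) (i ≫ snd U T)) ≫
          QuotSh.repMap Scheme.fppfPrecoverage (i ≫ fst U T)) ≫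
          QuotSh.quotπ Scheme.fppfPrecoverage s t := by rw [e2]
      _ = _ := Category.assoc _ _ _
  obtain ⟨σ, hσ⟩ := Groth.Agent.Helper5.ShGrp.exists_desc
    (QuotSh.repMap Scheme.fppfPrecoverage (i ≫ snd U T))
    (QuotSh.repMap Scheme.fppfPrecoverage (i ≫ fst U T) ≫ QuotSh.quotπ Scheme.fppfPrecoverage s t) (by
      intro Y x y hxy
      obtain ⟨m, h1, h2⟩ : ∃ m, m ≫ QuotSh.repMap Scheme.fppfPrecoverage
          (pullback.fst (i ≫ snd U T) (i ≫ snd U T)) = x ∧ m ≫ QuotSh.repMap Scheme.fppfPrecoverage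
          (pullback.snd (i ≫ snd U T) (i ≫ snd U T)) = y :=
        ⟨_, hpb.lift_fst x y hxy, hpb.lift_snd x y hxy⟩
      rw [← h1, ← h2, Category.assoc, Category.assoc, hkey])
  refine ⟨σ, hσ.symm, ?_⟩
  intro σ' hσ'
  rw [← cancel_epi (QuotSh.repMap Scheme.fppfPrecoverage (i ≫ snd U T)), hσ, ← hσ']

end Groth.Agent.S6041
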