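import Groth.Statements.S6052
import Mathlib

set_option autoImplicit false
open CategoryTheory
universe w v₁ u₁
open ShfCat

namespace Groth.Agent.S6052aux

open CategoryTheory CategoryTheory.Limits

variable {C : Type u₁} [Category.{v₁} C]

theorem sheafP_pull (P : Precoverage C) [P.HasPullbacks] [P.IsStableUnderBaseChange]
    (F : Cᵒᵖ ⥤ Type w)
    (hP : ∀ ⦃X : C⦄ ⦃R : Presieve X⦄, R ∈ P X → Presieve.IsSheafFor F R)
    {X Y : C} (g : Y ⟶ X) {R : Presieve X} (hR : R ∈ P X) :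
    Presieve.IsSheafFor F ((Sieve.generate R).pullback g).arrows := by
  haveI : R.HasPullbacks g := Precoverage.hasPullbacks_of_mem g hR
  rw [← Sieve.pullbackArrows_comm, ← Presieve.isSheafFor_iff_generate]
  exact hP (Precoverage.pullbackArrows_mem g hR)

theorem sheafP'_pull (C' : C → Prop) (P' : Precoverage C) (F : Cᵒᵖ ⥤ Type w)
    (ha : ∀ ⦃X : C⦄ ⦃R : Presieve X⦄, R ∈ P' X → ∀ ⦃T : C⦄ (g : T ⟶ X), C' T →
      ∃ _ : R.HasPullbacks g, Presieve.pullbackArrows g R ∈ P' T)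
    (hP' : ∀ ⦃X : C⦄ ⦃R : Presieve X⦄, R ∈ P' X → Presieve.IsSheafFor F R)
    {X T : C} (g : T ⟶ X) (hT : C' T) {R : Presieve X} (hR : R ∈ P' X) :
    Presieve.IsSheafFor F ((Sieve.generate R).pullback g).arrows := by
  obtain ⟨hpb, hmem⟩ := ha hR g hT
  haveI := hpb
  rw [← Sieve.pullbackArrows_comm, ← Presieve.isSheafFor_iff_generate]
  exact hP' hmem

theorem key (C' : C → Prop) (P P' : Precoverage C)
    [P.HasPullbacks] [P.IsStableUnderBaseChange]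
    (ha : ∀ ⦃X : C⦄ ⦃R : Presieve X⦄, R ∈ P' X → ∀ ⦃T : C⦄ (g : T ⟶ X), C' T →
      ∃ _ : R.HasPullbacks g, Presieve.pullbackArrows g R ∈ P' T)
    (hb : ∀ X : C, ∃ R ∈ P X, ∀ ⦃Y : C⦄ ⦃f : Y ⟶ X⦄, R f → C' Y)
    (F : Cᵒᵖ ⥤ Type w)
    (hP : ∀ ⦃X : C⦄ ⦃R : Presieve X⦄, R ∈ P X → Presieve.IsSheafFor F R)
    (hP' : ∀ ⦃X : C⦄ ⦃R : Presieve X⦄, R ∈ P' X → Presieve.IsSheafFor F R)
    {X Y : C} (f : Y ⟶ X) {R : Presieve X} (hR : R ∈ P' X) :
    Presieve.IsSheafFor F ((Sieve.generate R).pullback f).arrows := by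
  obtain ⟨R₀, hR₀, hR₀C⟩ := hb Y
  let E₀ := R₀.preZeroHypercover
  have hE₀ : E₀.presieve₀ = R₀ := Presieve.presieve₀_preZeroHypercover R₀
  haveI hpb : E₀.HasPullbacks := fun i j => by
    haveI : R₀.HasPullbacks (E₀.f j) := Precoverage.hasPullbacks_of_mem (E₀.f j) hR₀
    exact Presieve.hasPullback (E₀.f j) (i.2 : R₀ (E₀.f i))
  choose cov hcov hcovC using fun (ij : E₀.I₀ × E₀.I₀) => hb (pullback (E₀.f ij.1) (E₀.f ij.2))
  let E : PreOneHypercover Y :=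
    E₀.refineOneHypercover (fun i j => (cov (i, j)).preZeroHypercover)
  have hstrong : E.IsStronglySheafFor F := by
    refine ⟨?_, ?_⟩
    · show Presieve.IsSheafFor F E₀.presieve₀
      rw [hE₀]
      exact hP hR₀
    · intro i j W p₁ p₂ h
      rw [E.sieve₁_eq_pullback_sieve₁' p₁ p₂ h, PreZeroHypercover.sieve₁'_refineOneHypercover]
      have h0 : (cov (i, j)).preZeroHypercover.sieve₀ = Sieve.generate (cov (i, j)) := by
        show Sieve.generate (cov (i, j)).preZeroHypercover.presieve₀ = _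
        rw [Presieve.presieve₀_preZeroHypercover]
      rw [h0]
      exact (sheafP_pull P F hP _ (hcov (i, j))).isSeparatedFor
  refine hstrong.isSheafFor_sieve_of_pullback ?_ ?_ ?_
  · intro Z g
    have h0 : E.sieve₀ = Sieve.generate R₀ := by
      show Sieve.generate E₀.presieve₀ = _
      rw [hE₀]
    rw [h0]
    exact (sheafP_pull P F hP g hR₀).isSeparatedFor
  · intro i
    rw [← Sieve.pullback_comp]
    exact sheafP'_pull C' P' F ha hP' _ (hR₀C i.2) hR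
  · intro i j k
    rw [← Sieve.pullback_comp]
    exact (sheafP'_pull C' P' F ha hP' _ (hcovC (i, j) k.2) hR).isSeparatedFor

end Groth.Agent.S6052aux

namespace Groth.Agent.S6052

/-- The sheaf case. Let `C'` be a class of objects of `C`, `P` a precoverage on `C` stable under base
change and composition, `P'` a precoverage whose families live in `C'` and which contains the
identity singletons of `C'`, such that (a) `P'`-families pull back along morphisms of `C'` to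
`P'`-families, (b) every object has a `P`-cover by objects of `C'`, (c) over an object of `C'` every
composite `P' ∘ P ∘ P'` family (middle sources in `C'`) is refined by a `P'`-family. Then a presheaf
of sets is a sheaf for the topology generated by `P` and `P'` if and only if it satisfies the sheaf
condition for every family of `P` and every family of `P'`. (The published statement also treats
separated presheaves; only the sheaf case is stated.) -/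
theorem result {C : Type u₁} [Category.{v₁} C]
    (C' : C → Prop) (P P' : Precoverage C)
    [P.HasPullbacks] [P.IsStableUnderBaseChange] [P.IsStableUnderComposition]
    (hP'C : ∀ ⦃X : C⦄ ⦃R : Presieve X⦄, R ∈ P' X → C' X ∧ ∀ ⦃Y : C⦄ ⦃f : Y ⟶ X⦄, R f → C' Y)
    (hP'id : ∀ ⦃X : C⦄, C' X → Presieve.singleton (𝟙 X) ∈ P' X)
    (ha : ∀ ⦃X : C⦄ ⦃R : Presieve X⦄, R ∈ P' X → ∀ ⦃T : C⦄ (g : T ⟶ X), C' T →
      ∃ _ : R.HasPullbacks g, Presieve.pullbackArrows g R ∈ P' T)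
    (hb : ∀ X : C, ∃ R ∈ P X, ∀ ⦃Y : C⦄ ⦃f : Y ⟶ X⦄, R f → C' Y)
    (hc : ∀ ⦃S : C⦄ ⦃R₁ : Presieve S⦄, R₁ ∈ P' S →
      ∀ (R₂ : ∀ ⦃Y : C⦄ ⦃f : Y ⟶ S⦄, R₁ f → Presieve Y),
        (∀ ⦃Y : C⦄ ⦃f : Y ⟶ S⦄ (hf : R₁ f), R₂ hf ∈ P Y ∧ ∀ ⦃Z : C⦄ ⦃g : Z ⟶ Y⦄, R₂ hf g → C' Z) →
      ∀ (R₃ : ∀ ⦃Y : C⦄ ⦃f : Y ⟶ S⦄ (hf : R₁ f) ⦃Z : C⦄ ⦃g : Z ⟶ Y⦄, R₂ hf g → Presieve Z),
        (∀ ⦃Y : C⦄ ⦃f : Y ⟶ S⦄ (hf : R₁ f) ⦃Z : C⦄ ⦃g : Z ⟶ Y⦄ (hg : R₂ hf g), R₃ hf hg ∈ P' Z) →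
      ∃ T ∈ P' S, ∀ ⦃W : C⦄ ⦃q : W ⟶ S⦄, T q →
        ∃ (Y Z V : C) (f : Y ⟶ S) (hf : R₁ f) (g : Z ⟶ Y) (hg : R₂ hf g) (h : V ⟶ Z) (_ : R₃ hf hg h)
          (r : W ⟶ V), r ≫ h ≫ g ≫ f = q)
    (F : Cᵒᵖ ⥤ Type w) :
    Presieve.IsSheaf (P ⊔ P').toGrothendieck F ↔
      (∀ ⦃X : C⦄ ⦃R : Presieve X⦄, R ∈ P X → Presieve.IsSheafFor F R) ∧
      (∀ ⦃X : C⦄ ⦃R : Presieve X⦄, R ∈ P' X → Presieve.IsSheafFor F R) := by
  constructor
  · intro h
    refine ⟨fun X R hR => ?_, fun X R hR => ?_⟩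
    · rw [Presieve.isSheafFor_iff_generate]
      exact h _ (Precoverage.generate_mem_toGrothendieck (J := P ⊔ P') (Or.inl hR))
    · rw [Presieve.isSheafFor_iff_generate]
      exact h _ (Precoverage.generate_mem_toGrothendieck (J := P ⊔ P') (Or.inr hR))
  · rintro ⟨hP, hP'⟩
    rw [Precoverage.isSheaf_toGrothendieck_iff]
    intro X Y f R hR
    rcases hR with hR | hR
    · exact Groth.Agent.S6052aux.sheafP_pull P F hP f hR
    · exact Groth.Agent.S6052aux.key C' P P' ha hb F hP hP' f hR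

end Groth.Agent.S6052
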