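import Groth.Statements.S6053
import Mathlib

set_option autoImplicit false
open CategoryTheory
universe w v₁ u₁
open ShfCat

namespace Groth.Agent.S6053aux

open CategoryTheory.Limits

variable {C : Type u₁} [Category.{v₁} C]

def castP {A B : C} (e : A = B) (R : Presieve A) : Presieve B := e ▸ R

lemma castP_mem (P' : Precoverage C) {A B : C} (e : A = B) {R : Presieve A} (h : R ∈ P' A) :
    castP e R ∈ P' B := by subst e; exact h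

lemma castP_apply {A B : C} (e : A = B) (R : Presieve A) {Z : C} (g : Z ⟶ B) :
    castP e R g ↔ R (g ≫ eqToHom e.symm) := by
  subst e; simp [castP]

/-- dependent family from an indexed one -/
def dep {X : C} {ι : Type*} {Y : ι → C} {f : ∀ i, Y i ⟶ X} (R' : ∀ i, Presieve (Y i)) :
    ∀ ⦃Y' : C⦄ ⦃f' : Y' ⟶ X⦄, Presieve.ofArrows Y f f' → Presieve Y' :=
  fun _ _ hf => castP hf.obj_idx (R' hf.idx)

lemma dep_mem (P' : Precoverage C) {X : C} {ι : Type*} {Y : ι → C} {f : ∀ i, Y i ⟶ X}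
    (R' : ∀ i, Presieve (Y i)) (h : ∀ i, R' i ∈ P' (Y i)) ⦃Y' : C⦄ ⦃f' : Y' ⟶ X⦄
    (hf : Presieve.ofArrows Y f f') : dep R' hf ∈ P' Y' :=
  castP_mem P' _ (h _)

lemma dep_apply {X : C} {ι : Type*} {Y : ι → C} {f : ∀ i, Y i ⟶ X} (R' : ∀ i, Presieve (Y i))
    ⦃Y' : C⦄ ⦃f' : Y' ⟶ X⦄ (hf : Presieve.ofArrows Y f f') {Z : C} (g : Z ⟶ Y')
    (hg : dep R' hf g) : ∃ (i : ι) (g' : Z ⟶ Y i), R' i g' ∧ g' ≫ f i = g ≫ f' := by
  refine ⟨hf.idx, g ≫ eqToHom hf.obj_idx.symm, (castP_apply _ _ _).1 hg, ?_⟩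
  rw [hf.hom_idx]; simp

lemma pullbackArrows_fac {X Y : C} (k : Y ⟶ X) (R : Presieve X) [R.HasPullbacks k] {Z : C}
    {g : Z ⟶ Y} (hg : Presieve.pullbackArrows k R g) :
    ∃ (W : C) (a : Z ⟶ W) (h : W ⟶ X), R h ∧ a ≫ h = g ≫ k := by
  obtain ⟨W, h, hRh⟩ := hg
  haveI := R.hasPullback k hRh
  exact ⟨W, pullback.fst h k, h, hRh, pullback.condition⟩

/-- indexed form of the composite-cover condition -/
def K (C' : C → Prop) (P P' : Precoverage C) (X : C) (S' : Sieve X) : Prop :=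
  ∃ (ι : Type (max u₁ v₁)) (Y : ι → C) (f : ∀ i, Y i ⟶ X) (R' : ∀ i, Presieve (Y i)),
    Presieve.ofArrows Y f ∈ P X ∧ (∀ i, C' (Y i)) ∧ (∀ i, R' i ∈ P' (Y i)) ∧
    ∀ i ⦃Z : C⦄ ⦃g : Z ⟶ Y i⦄, R' i g → S' (g ≫ f i)

theorem K_iff (C' : C → Prop) (P P' : Precoverage C) (X : C) (S' : Sieve X) :
    K C' P P' X S' ↔
      ∃ (R : Presieve X) (_ : R ∈ P X) (_ : ∀ ⦃Y : C⦄ ⦃f : Y ⟶ X⦄, R f → C' Y)
        (R' : ∀ ⦃Y : C⦄ ⦃f : Y ⟶ X⦄, R f → Presieve Y),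
        (∀ ⦃Y : C⦄ ⦃f : Y ⟶ X⦄ (hf : R f), R' hf ∈ P' Y) ∧
        ∀ ⦃Y : C⦄ ⦃f : Y ⟶ X⦄ (hf : R f) ⦃Z : C⦄ ⦃g : Z ⟶ Y⦄, R' hf g → S' (g ≫ f) := by
  constructor
  · rintro ⟨ι, Y, f, R', hP, hC, hR', hS⟩
    refine ⟨Presieve.ofArrows Y f, hP, ?_, dep R', ?_, ?_⟩
    · rintro _ _ ⟨i⟩; exact hC i
    · intro Y' f' hf; exact dep_mem P' R' hR' hf
    · intro Y' f' hf Z g hg
      obtain ⟨i, g', hg', e⟩ := dep_apply R' hf g hg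
      rw [← e]; exact hS i hg'
  · rintro ⟨R, hR, hC, R', hR', hS⟩
    obtain ⟨ι, Y, f, rfl⟩ := R.exists_eq_ofArrows
    exact ⟨ι, Y, f, fun i => R' (Presieve.ofArrows.mk i), hR, fun i => hC (Presieve.ofArrows.mk i),
      fun i => hR' _, fun i Z g hg => hS _ hg⟩

lemma refineC (C' : C → Prop) (P : Precoverage C) [P.IsStableUnderComposition]
    (hb : ∀ X : C, ∃ R ∈ P X, ∀ ⦃Y : C⦄ ⦃f : Y ⟶ X⦄, R f → C' Y)
    {X : C} {ι : Type (max u₁ v₁)} {Y : ι → C} (f : ∀ i, Y i ⟶ X)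
    (hf : Presieve.ofArrows Y f ∈ P X) :
    ∃ (ι' : Type (max u₁ v₁)) (Y' : ι' → C) (f' : ∀ i, Y' i ⟶ X),
      Presieve.ofArrows Y' f' ∈ P X ∧ (∀ i, C' (Y' i)) ∧
      ∀ i', ∃ (i : ι) (g : Y' i' ⟶ Y i), f' i' = g ≫ f i := by
  choose R hR hRC using fun i => hb (Y i)
  choose σ Z g hg using fun i => (R i).exists_eq_ofArrows
  refine ⟨Σ i, σ i, fun p => Z p.1 p.2, fun p => g p.1 p.2 ≫ f p.1, ?_, ?_, ?_⟩
  · exact Precoverage.comp_mem_coverings f hf g (fun i => hg i ▸ hR i)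
  · rintro ⟨i, j⟩
    exact hRC i (by rw [hg i]; exact Presieve.ofArrows.mk j)
  · rintro ⟨i, j⟩
    exact ⟨i, g i j, rfl⟩

theorem mem_of_K (C' : C → Prop) (P P' : Precoverage C) {X : C} {S' : Sieve X}
    (h : K C' P P' X S') : S' ∈ (P ⊔ P').toGrothendieck X := by
  obtain ⟨ι, Y, f, R', hP, hC, hR', hS⟩ := h
  refine (P ⊔ P').toGrothendieck.transitive
    (Precoverage.generate_mem_toGrothendieck (J := P ⊔ P') (Or.inl hP)) S' ?_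
  intro Z g hg
  obtain ⟨W, a, b, ⟨i⟩, rfl⟩ := hg
  rw [Sieve.pullback_comp]
  apply (P ⊔ P').toGrothendieck.pullback_stable
  refine (P ⊔ P').toGrothendieck.superset_covering ?_
    (Precoverage.generate_mem_toGrothendieck (J := P ⊔ P') (Or.inr (hR' i)))
  rw [Sieve.generate_le_iff]
  intro V k hk
  exact hS i hk

theorem K_of_mem (C' : C → Prop) (P P' : Precoverage C)
    [P.HasPullbacks] [P.IsStableUnderBaseChange] [P.IsStableUnderComposition]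
    (hP'id : ∀ ⦃X : C⦄, C' X → Presieve.singleton (𝟙 X) ∈ P' X)
    (ha : ∀ ⦃X : C⦄ ⦃R : Presieve X⦄, R ∈ P' X → ∀ ⦃T : C⦄ (g : T ⟶ X), C' T →
      ∃ _ : R.HasPullbacks g, Presieve.pullbackArrows g R ∈ P' T)
    (hb : ∀ X : C, ∃ R ∈ P X, ∀ ⦃Y : C⦄ ⦃f : Y ⟶ X⦄, R f → C' Y)
    (hc : ∀ ⦃S : C⦄ ⦃R₁ : Presieve S⦄, R₁ ∈ P' S →
      ∀ (R₂ : ∀ ⦃Y : C⦄ ⦃f : Y ⟶ S⦄, R₁ f → Presieve Y),
        (∀ ⦃Y : C⦄ ⦃f : Y ⟶ S⦄ (hf : R₁ f), R₂ hf ∈ P Y ∧ ∀ ⦃Z : C⦄ ⦃g : Z ⟶ Y⦄, R₂ hf g → C' Z) →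
      ∀ (R₃ : ∀ ⦃Y : C⦄ ⦃f : Y ⟶ S⦄ (hf : R₁ f) ⦃Z : C⦄ ⦃g : Z ⟶ Y⦄, R₂ hf g → Presieve Z),
        (∀ ⦃Y : C⦄ ⦃f : Y ⟶ S⦄ (hf : R₁ f) ⦃Z : C⦄ ⦃g : Z ⟶ Y⦄ (hg : R₂ hf g), R₃ hf hg ∈ P' Z) →
      ∃ T ∈ P' S, ∀ ⦃W : C⦄ ⦃q : W ⟶ S⦄, T q →
        ∃ (Y Z V : C) (f : Y ⟶ S) (hf : R₁ f) (g : Z ⟶ Y) (hg : R₂ hf g) (h : V ⟶ Z) (_ : R₃ hf hg h)
          (r : W ⟶ V), r ≫ h ≫ g ≫ f = q)
    {X : C} {S' : Sieve X} (h : (P ⊔ P').Saturate X S') : K C' P P' X S' := by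
  induction h with
  | of X S hS =>
    rcases hS with hS | hS
    · obtain ⟨ι, Y, f, rfl⟩ := S.exists_eq_ofArrows
      obtain ⟨ι', Y', f', hP', hC', hfac⟩ := refineC C' P hb f hS
      refine ⟨ι', Y', f', fun i => Presieve.singleton (𝟙 _), hP', hC', fun i => hP'id (hC' i), ?_⟩
      rintro i Z g ⟨⟩
      obtain ⟨i₀, g₀, e⟩ := hfac i
      rw [Category.id_comp, e]
      exact (Sieve.generate _).downward_closed
        (Sieve.le_generate _ _ _ (Presieve.ofArrows.mk i₀)) g₀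
    · obtain ⟨R, hR, hRC⟩ := hb X
      obtain ⟨ι, Y, f, rfl⟩ := R.exists_eq_ofArrows
      have hC : ∀ i, C' (Y i) := fun i => hRC (Presieve.ofArrows.mk i)
      choose hpb hmem using fun i => ha hS (f i) (hC i)
      refine ⟨ι, Y, f, fun i => @Presieve.pullbackArrows _ _ _ _ (f i) S (hpb i), hR, hC, hmem, ?_⟩
      intro i Z g hg
      have := hpb i
      obtain ⟨W, a, h, hRh, e⟩ := pullbackArrows_fac (f i) S hg
      rw [← e]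
      exact (Sieve.generate S).downward_closed (Sieve.le_generate _ _ _ hRh) a
  | top X =>
    obtain ⟨R, hR, hRC⟩ := hb X
    obtain ⟨ι, Y, f, rfl⟩ := R.exists_eq_ofArrows
    have hC : ∀ i, C' (Y i) := fun i => hRC (Presieve.ofArrows.mk i)
    exact ⟨ι, Y, f, fun i => Presieve.singleton (𝟙 _), hR, hC, fun i => hP'id (hC i),
      fun _ _ _ _ => by simp⟩
  | pullback X S hS Y f ih =>
    obtain ⟨ι, Yi, fi, R', hP, hC, hR', hSS⟩ := ih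
    have hpb : (Presieve.ofArrows Yi fi).HasPullbacks f := P.hasPullbacks_of_mem f hP
    have hpbi : ∀ i, HasPullback (fi i) f := fun i =>
      Presieve.hasPullback f (Presieve.ofArrows.mk i)
    have hP2 : Presieve.ofArrows (fun i => pullback (fi i) f) (fun i => pullback.snd (fi i) f)
        ∈ P Y := by
      rw [Presieve.ofArrows_pullback]
      exact Precoverage.pullbackArrows_mem f hP
    obtain ⟨ι', Y', f', hP', hC', hfac⟩ := refineC C' P hb _ hP2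
    choose i₀ g₀ hg₀ using hfac
    let k : ∀ i', Y' i' ⟶ Yi (i₀ i') := fun i' => g₀ i' ≫ pullback.fst (fi (i₀ i')) f
    choose hpb' hmem using fun i' => ha (hR' (i₀ i')) (k i') (hC' i')
    refine ⟨ι', Y', f', fun i' => @Presieve.pullbackArrows _ _ _ _ (k i') (R' (i₀ i')) (hpb' i'),
      hP', hC', hmem, ?_⟩
    intro i' Z g hg
    have := hpb' i'
    obtain ⟨W, a, h, hRh, e⟩ := pullbackArrows_fac (k i') (R' (i₀ i')) hg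
    show S ((g ≫ f' i') ≫ f)
    have e2 : (g ≫ f' i') ≫ f = a ≫ (h ≫ fi (i₀ i')) := by
      rw [← Category.assoc a, e, hg₀ i']
      simp only [k, Category.assoc, pullback.condition]
    rw [e2]
    exact S.downward_closed (hSS (i₀ i') hRh) a
  | transitive X S R hS hR ih1 ih2 =>
    obtain ⟨ι, Yi, fi, R₁, hP, hC, hR₁, hSS⟩ := ih1
    have step : ∀ i, ∃ T ∈ P' (Yi i), ∀ ⦃W : C⦄ ⦃q : W ⟶ Yi i⦄, T q → R (q ≫ fi i) := by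
      intro i
      have hK : ∀ ⦃Z : C⦄ ⦃g : Z ⟶ Yi i⦄ (hg : R₁ i g),
          K C' P P' Z (R.pullback (g ≫ fi i)) := fun Z g hg => ih2 (hSS i hg)
      choose ι₂ Y₂ f₂ R₂' hP₂ hC₂ hR₂' hS₂ using hK
      obtain ⟨T, hT, hTfac⟩ := hc (hR₁ i) (fun Z g hg => Presieve.ofArrows (Y₂ hg) (f₂ hg))
        (fun Z g hg => ⟨hP₂ hg, by rintro _ _ ⟨j⟩; exact hC₂ hg j⟩)
        (fun Y f hf Z g hg => dep (R₂' hf) hg)
        (fun Y f hf Z g hg => dep_mem P' (R₂' hf) (hR₂' hf) hg)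
      refine ⟨T, hT, fun W q hq => ?_⟩
      obtain ⟨Y, Z, V, f, hf, g, hg, h, hh, r, e⟩ := hTfac hq
      obtain ⟨j, h', hh', e'⟩ := dep_apply (R₂' hf) hg h hh
      have h5 := hS₂ hf j hh'
      rw [Sieve.pullback_apply, e'] at h5
      rw [← e]
      have e3 : (r ≫ h ≫ g ≫ f) ≫ fi i = r ≫ ((h ≫ g) ≫ f ≫ fi i) := by
        simp only [Category.assoc]
      rw [e3]
      exact R.downward_closed h5 r
    choose T hT hTR using step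
    exact ⟨ι, Yi, fi, T, hP, hC, hT, fun i Z g hg => hTR i hg⟩

end Groth.Agent.S6053aux

namespace Groth.Agent.S6053

/-- Let `C'` be a class of objects of `C`, `P` a precoverage on `C` stable under base change and
composition, `P'` a precoverage whose families live in `C'` and which contains the identity
singletons of `C'`, such that (a) `P'`-families pull back along morphisms of `C'` to `P'`-families,
(b) every object has a `P`-cover by objects of `C'`, (c) over an object of `C'` every composite `P'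
∘ P ∘ P'` family (middle sources in `C'`) is refined by a `P'`-family. Then a sieve on `X` is
covering for the topology generated by `P` and `P'` if and only if it contains a composite family
`X_ij ⟶ X_i ⟶ X` with `(X_i ⟶ X)_i` in `P`, all `X_i` in `C'` and each `(X_ij ⟶ X_i)_j` in `P'`. -/
theorem result {C : Type u₁} [Category.{v₁} C]
    (C' : C → Prop) (P P' : Precoverage C)
    [P.HasPullbacks] [P.IsStableUnderBaseChange] [P.IsStableUnderComposition]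
    (hP'C : ∀ ⦃X : C⦄ ⦃R : Presieve X⦄, R ∈ P' X → C' X ∧ ∀ ⦃Y : C⦄ ⦃f : Y ⟶ X⦄, R f → C' Y)
    (hP'id : ∀ ⦃X : C⦄, C' X → Presieve.singleton (𝟙 X) ∈ P' X)
    (ha : ∀ ⦃X : C⦄ ⦃R : Presieve X⦄, R ∈ P' X → ∀ ⦃T : C⦄ (g : T ⟶ X), C' T →
      ∃ _ : R.HasPullbacks g, Presieve.pullbackArrows g R ∈ P' T)
    (hb : ∀ X : C, ∃ R ∈ P X, ∀ ⦃Y : C⦄ ⦃f : Y ⟶ X⦄, R f → C' Y)
    (hc : ∀ ⦃S : C⦄ ⦃R₁ : Presieve S⦄, R₁ ∈ P' S →
      ∀ (R₂ : ∀ ⦃Y : C⦄ ⦃f : Y ⟶ S⦄, R₁ f → Presieve Y),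
        (∀ ⦃Y : C⦄ ⦃f : Y ⟶ S⦄ (hf : R₁ f), R₂ hf ∈ P Y ∧ ∀ ⦃Z : C⦄ ⦃g : Z ⟶ Y⦄, R₂ hf g → C' Z) →
      ∀ (R₃ : ∀ ⦃Y : C⦄ ⦃f : Y ⟶ S⦄ (hf : R₁ f) ⦃Z : C⦄ ⦃g : Z ⟶ Y⦄, R₂ hf g → Presieve Z),
        (∀ ⦃Y : C⦄ ⦃f : Y ⟶ S⦄ (hf : R₁ f) ⦃Z : C⦄ ⦃g : Z ⟶ Y⦄ (hg : R₂ hf g), R₃ hf hg ∈ P' Z) →
      ∃ T ∈ P' S, ∀ ⦃W : C⦄ ⦃q : W ⟶ S⦄, T q →
        ∃ (Y Z V : C) (f : Y ⟶ S) (hf : R₁ f) (g : Z ⟶ Y) (hg : R₂ hf g) (h : V ⟶ Z) (_ : R₃ hf hg h)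
          (r : W ⟶ V), r ≫ h ≫ g ≫ f = q)
    (X : C) (S' : Sieve X) :
    S' ∈ (P ⊔ P').toGrothendieck X ↔
      ∃ (R : Presieve X) (_ : R ∈ P X) (_ : ∀ ⦃Y : C⦄ ⦃f : Y ⟶ X⦄, R f → C' Y)
        (R' : ∀ ⦃Y : C⦄ ⦃f : Y ⟶ X⦄, R f → Presieve Y),
        (∀ ⦃Y : C⦄ ⦃f : Y ⟶ X⦄ (hf : R f), R' hf ∈ P' Y) ∧
        ∀ ⦃Y : C⦄ ⦃f : Y ⟶ X⦄ (hf : R f) ⦃Z : C⦄ ⦃g : Z ⟶ Y⦄, R' hf g → S' (g ≫ f) := by
  rw [← Groth.Agent.S6053aux.K_iff]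
  constructor
  · intro h
    exact Groth.Agent.S6053aux.K_of_mem C' P P' hP'id ha hb hc
      (Precoverage.mem_toGrothendieck_iff.1 h)
  · intro h
    exact Groth.Agent.S6053aux.mem_of_K C' P P' h

end Groth.Agent.S6053
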