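import Groth.Statements.S6057
import Mathlib

set_option autoImplicit false
open CategoryTheory
universe v₁ u₁
open ShfCat

namespace Groth.Agent.S6057aux

open Opposite Presieve

variable {C : Type u₁} [Category.{v₁} C] (J : GrothendieckTopology C) {S : C}
  {F : Cᵒᵖ ⥤ Type v₁} (φ : F ⟶ yoneda.obj S)

lemma sepA (hF : IsSeparated J F) : IsSeparated (J.over S) (relPsh φ) := by
  intro T R hR
  have hR' : Sieve.overEquiv T R ∈ J T.left := hR
  intro x t₁ t₂ h₁ h₂
  apply Subtype.ext
  refine (hF (Sieve.overEquiv T R) hR').ext ?_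
  intro Z f hf
  have hf' : R (Over.homMk f : Over.mk (f ≫ T.hom) ⟶ T) := (Sieve.overEquiv_iff R f).mp hf
  have e₁ := congrArg Subtype.val (h₁ _ hf')
  have e₂ := congrArg Subtype.val (h₂ _ hf')
  exact e₁.trans e₂.symm

lemma sepB (hS : IsSheaf J (yoneda.obj S)) (h : IsSeparated (J.over S) (relPsh φ)) :
    IsSeparated J F := by
  intro X R hR x t₁ t₂ h₁ h₂
  have ha : φ.app (op X) t₁ = φ.app (op X) t₂ := by
    refine (hS R hR).isSeparatedFor.ext ?_
    intro Y f hf
    have n₁ := NatTrans.naturality_apply φ f.op t₁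
    have n₂ := NatTrans.naturality_apply φ f.op t₂
    exact n₁.symm.trans ((congrArg _ ((h₁ f hf).trans (h₂ f hf).symm)).trans n₂)
  let T : Over S := Over.mk (show X ⟶ S from φ.app (op X) t₁)
  let s₁ : (relPsh φ).obj (op T) := ⟨t₁, rfl⟩
  let s₂ : (relPsh φ).obj (op T) := ⟨t₂, ha.symm⟩
  have hRt : (Sieve.overEquiv T).symm R ∈ (J.over S) T :=
    GrothendieckTopology.overEquiv_symm_mem_over J T R hR
  have hs : s₁ = s₂ := by
    refine (h _ hRt).ext ?_
    intro Z g hg
    have hg' : R g.left := (Sieve.overEquiv_symm_iff R g).mp hg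
    apply Subtype.ext
    show F.map g.left.op t₁ = F.map g.left.op t₂
    rw [h₁ _ hg', h₂ _ hg']
  exact congrArg Subtype.val hs

lemma shC (hS : IsSheaf J (yoneda.obj S)) (hF : IsSheaf J F) :
    IsSheaf (J.over S) (relPsh φ) := by
  refine (sepA J φ hF.isSeparated).isSheaf ?_
  intro T R hR x hx
  have hR' : Sieve.overEquiv T R ∈ J T.left := hR
  have hx' := (compatible_iff_sieveCompatible x).mp hx
  have key : ∀ {W : Over S} (a b : W ⟶ T) (hab : a = b) (ha : R a),
      x a ha = x b (hab ▸ ha) := by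
    intro W a b hab ha; subst hab; rfl
  let y : FamilyOfElements F (Sieve.overEquiv T R).arrows := fun Z f hf =>
    (x (Over.homMk f : Over.mk (f ≫ T.hom) ⟶ T) ((Sieve.overEquiv_iff R f).mp hf)).1
  have hy : y.Compatible := by
    rw [compatible_iff_sieveCompatible]
    intro Y Z f g hf
    have hf' := (Sieve.overEquiv_iff R f).mp hf
    let G : Over.mk ((g ≫ f) ≫ T.hom) ⟶ Over.mk (f ≫ T.hom) := Over.homMk g (by simp)
    have e := hx' (Over.homMk f : Over.mk (f ≫ T.hom) ⟶ T) G hf'
    have hGf : G ≫ (Over.homMk f : Over.mk (f ≫ T.hom) ⟶ T) =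
        (Over.homMk (g ≫ f) : Over.mk ((g ≫ f) ≫ T.hom) ⟶ T) := by
      apply Over.OverMorphism.ext; simp [G]
    have e2 := key _ _ hGf (R.downward_closed hf' G)
    exact congrArg Subtype.val (e2.symm.trans e)
  obtain ⟨t, ht, -⟩ := hF _ hR' y hy
  have hφt : φ.app (op T.left) t = T.hom := by
    refine (hS _ hR').isSeparatedFor.ext ?_
    intro Z f hf
    have n := NatTrans.naturality_apply φ f.op t
    have h1 : φ.app (op Z) (F.map f.op t) = f ≫ T.hom := by
      rw [ht f hf]
      exact (x (Over.homMk f : Over.mk (f ≫ T.hom) ⟶ T) ((Sieve.overEquiv_iff R f).mp hf)).2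
    exact n.symm.trans h1
  refine ⟨⟨t, hφt⟩, ?_⟩
  intro Z g hg
  apply Subtype.ext
  show F.map g.left.op t = (x g hg).1
  let e : Over.mk (g.left ≫ T.hom) ⟶ Z := Over.homMk (𝟙 _) (by simp)
  have heg : e ≫ g = (Over.homMk g.left : Over.mk (g.left ≫ T.hom) ⟶ T) := by
    apply Over.OverMorphism.ext; simp [e]
  have hR1 : R (e ≫ g) := R.downward_closed hg e
  have hR2 : R (Over.homMk g.left : Over.mk (g.left ≫ T.hom) ⟶ T) := heg ▸ hR1
  have hgl : (Sieve.overEquiv T R).arrows g.left := (Sieve.overEquiv_iff R g.left).mpr hR2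
  have e1 := ht g.left hgl
  have e2 := key _ _ heg hR1
  have e3 := hx' g e hg
  have e4 : ((relPsh φ).map e.op (x g hg)).1 = (x g hg).1 := by
    rw [relPsh_map_val]; simp [e]
  calc F.map g.left.op t
      = (x (Over.homMk g.left : Over.mk (g.left ≫ T.hom) ⟶ T) hR2).1 := e1
    _ = (x (e ≫ g) hR1).1 := congrArg Subtype.val e2.symm
    _ = ((relPsh φ).map e.op (x g hg)).1 := congrArg Subtype.val e3
    _ = (x g hg).1 := e4

lemma shD (hS : IsSheaf J (yoneda.obj S)) (h : IsSheaf (J.over S) (relPsh φ)) :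
    IsSheaf J F := by
  refine (sepB J φ hS h.isSeparated).isSheaf ?_
  intro X R hR y hy
  have hy' := (compatible_iff_sieveCompatible y).mp hy
  let z : FamilyOfElements (yoneda.obj S) R.arrows := fun Y f hf => φ.app (op Y) (y f hf)
  have hz : z.Compatible := by
    rw [compatible_iff_sieveCompatible]
    intro Y Z f g hf
    show φ.app (op Z) (y (g ≫ f) _) = (yoneda.obj S).map g.op (φ.app (op Y) (y f hf))
    rw [hy' f g hf]
    exact NatTrans.naturality_apply φ g.op (y f hf)
  obtain ⟨a, ha, -⟩ := hS R hR z hz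
  let T : Over S := Over.mk (show X ⟶ S from a)
  have hRt : (Sieve.overEquiv T).symm R ∈ (J.over S) T :=
    GrothendieckTopology.overEquiv_symm_mem_over J T R hR
  let x : FamilyOfElements (relPsh φ) ((Sieve.overEquiv T).symm R).arrows := fun Z g hg =>
    ⟨y g.left ((Sieve.overEquiv_symm_iff R g).mp hg), by
      have := ha g.left ((Sieve.overEquiv_symm_iff R g).mp hg)
      exact this.symm.trans (Over.w g)⟩
  have hx : x.Compatible := by
    rw [compatible_iff_sieveCompatible]
    intro Y Z g k hg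
    apply Subtype.ext
    exact hy' g.left k.left ((Sieve.overEquiv_symm_iff R g).mp hg)
  obtain ⟨t', ht', -⟩ := h _ hRt x hx
  refine ⟨t'.1, ?_⟩
  intro Y f hf
  let g : Over.mk (f ≫ T.hom) ⟶ T := Over.homMk f
  have hg : ((Sieve.overEquiv T).symm R).arrows g := (Sieve.overEquiv_symm_iff R g).mpr hf
  exact congrArg Subtype.val (ht' g hg)

end Groth.Agent.S6057aux

namespace Groth.Agent.S6057

/-- Let `S` be an object whose representable presheaf is a sheaf for `J` and `φ : F ⟶ h_S` a morphism of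
presheaves of sets. The relative presheaf on `C/S` (sections of `F` over `T` lying over the given `T
⟶ S`) is separated (resp. a sheaf) for the induced topology on `C/S` if and only if `F` is separated
(resp. a sheaf). -/
theorem result {C : Type u₁} [Category.{v₁} C] (J : GrothendieckTopology C)
    {S : C} (hS : Presieve.IsSheaf J (yoneda.obj S)) {F : Cᵒᵖ ⥤ Type v₁} (φ : F ⟶ yoneda.obj S) :
    (Presieve.IsSeparated (J.over S) (ShfCat.relPsh φ) ↔ Presieve.IsSeparated J F) ∧
    (Presieve.IsSheaf (J.over S) (ShfCat.relPsh φ) ↔ Presieve.IsSheaf J F) := by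
  exact ⟨⟨Groth.Agent.S6057aux.sepB J φ hS, Groth.Agent.S6057aux.sepA J φ⟩,
    ⟨Groth.Agent.S6057aux.shD J φ hS, Groth.Agent.S6057aux.shC J φ hS⟩⟩

end Groth.Agent.S6057
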