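import Groth.Statements.S6120
import Mathlib
-- import your own Groth.Agent.* helpers here

set_option autoImplicit false
open CategoryTheory CategoryTheory.Limits Opposite
universe w v₁ v₂ u₁ u₂
open SGA4

namespace Groth.Agent.S6120

section Aux

variable {I : Type u₁} [Category.{v₁} I] {C : Type u₂} [Category.{v₂} C] {A : Type w} (i : A → I)
  [∀ α β, HasBinaryProduct (i α) (i β)] (hcov : ∀ j : I, ∃ α, Nonempty (j ⟶ i α))
  (F : Iᵒᵖ ⥤ C) [HasProduct (fun α => F.obj (op (i α)))]
  [HasProduct (fun p : A × A => F.obj (op (i p.1 ⨯ i p.2)))]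

/-- first map -/
noncomputable abbrev mapA : ∏ᶜ (fun α => F.obj (op (i α))) ⟶
    ∏ᶜ (fun p : A × A => F.obj (op (i p.1 ⨯ i p.2))) :=
  Pi.lift (fun p : A × A =>
    Pi.π (fun α => F.obj (op (i α))) p.1 ≫ F.map (prod.fst : i p.1 ⨯ i p.2 ⟶ i p.1).op)

/-- second map -/
noncomputable abbrev mapB : ∏ᶜ (fun α => F.obj (op (i α))) ⟶
    ∏ᶜ (fun p : A × A => F.obj (op (i p.1 ⨯ i p.2))) :=
  Pi.lift (fun p : A × A =>
    Pi.π (fun α => F.obj (op (i α))) p.2 ≫ F.map (prod.snd : i p.1 ⨯ i p.2 ⟶ i p.2).op)

lemma indep {T : C} (t : T ⟶ ∏ᶜ (fun α => F.obj (op (i α)))) (ht : t ≫ mapA i F = t ≫ mapB i F)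
    {x : I} {α β : A} (u : x ⟶ i α) (v : x ⟶ i β) :
    t ≫ Pi.π (fun α => F.obj (op (i α))) α ≫ F.map u.op =
      t ≫ Pi.π (fun α => F.obj (op (i α))) β ≫ F.map v.op := by
  have h1 := congrArg (· ≫ Pi.π (fun p : A × A => F.obj (op (i p.1 ⨯ i p.2))) (α, β)) ht
  simp only [Category.assoc, Pi.lift_π] at h1
  calc t ≫ Pi.π (fun α => F.obj (op (i α))) α ≫ F.map u.op
      = (t ≫ Pi.π (fun α => F.obj (op (i α))) α ≫
          F.map (prod.fst : i α ⨯ i β ⟶ i α).op) ≫ F.map (prod.lift u v).op := by
        rw [Category.assoc, Category.assoc, ← F.map_comp, ← op_comp, prod.lift_fst]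
    _ = (t ≫ Pi.π (fun α => F.obj (op (i α))) β ≫
          F.map (prod.snd : i α ⨯ i β ⟶ i β).op) ≫ F.map (prod.lift u v).op := by rw [h1]
    _ = t ≫ Pi.π (fun α => F.obj (op (i α))) β ≫ F.map v.op := by
        rw [Category.assoc, Category.assoc, ← F.map_comp, ← op_comp, prod.lift_snd]

/-- the cone defined by a map equalising the two maps -/
noncomputable def coneOf {T : C} (t : T ⟶ ∏ᶜ (fun α => F.obj (op (i α))))
    (ht : t ≫ mapA i F = t ≫ mapB i F) : Cone F where
  pt := T
  π :=
    { app := fun x => t ≫ Pi.π (fun α => F.obj (op (i α))) (hcov x.unop).choose ≫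
        F.map (hcov x.unop).choose_spec.some.op
      naturality := by
        intro x y w
        have h := indep i F t ht (hcov y.unop).choose_spec.some
          (w.unop ≫ (hcov x.unop).choose_spec.some)
        simp only [Functor.const_obj_obj, Functor.const_obj_map, Category.id_comp, Category.assoc]
        rw [h, op_comp, F.map_comp]
        rfl }

lemma coneOf_π_eq {T : C} (t : T ⟶ ∏ᶜ (fun α => F.obj (op (i α))))
    (ht : t ≫ mapA i F = t ≫ mapB i F) {x : I} {α : A} (u : x ⟶ i α) :
    (coneOf i hcov F t ht).π.app (op x) =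
      t ≫ Pi.π (fun α => F.obj (op (i α))) α ≫ F.map u.op :=
  indep i F t ht _ u

/-- the limit cone -/
noncomputable def isLimitCone [HasEqualizers C] :
    IsLimit (coneOf i hcov F (equalizer.ι (mapA i F) (mapB i F)) (equalizer.condition _ _)) where
  lift s := equalizer.lift (Pi.lift (fun α => s.π.app (op (i α)))) (by
    apply Pi.hom_ext
    intro p
    simp only [Category.assoc, Pi.lift_π, Pi.lift_π_assoc]
    rw [s.w, s.w])
  fac s x := by
    have h0 : (coneOf i hcov F (equalizer.ι (mapA i F) (mapB i F))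
        (equalizer.condition _ _)).π.app x =
        equalizer.ι (mapA i F) (mapB i F) ≫
          Pi.π (fun α => F.obj (op (i α))) (hcov x.unop).choose ≫
          F.map (hcov x.unop).choose_spec.some.op := rfl
    rw [h0]
    show equalizer.lift _ _ ≫ equalizer.ι (mapA i F) (mapB i F) ≫
      Pi.π (fun α => F.obj (op (i α))) (hcov x.unop).choose ≫
      F.map (hcov x.unop).choose_spec.some.op = s.π.app x
    rw [equalizer.lift_ι_assoc, Pi.lift_π_assoc, s.w]
  uniq s m hm := by
    apply equalizer.hom_ext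
    apply Pi.hom_ext
    intro α
    have h1 := hm (op (i α))
    rw [coneOf_π_eq i hcov F _ _ (𝟙 (i α))] at h1
    simp only [op_id, F.map_id, Category.comp_id] at h1
    rw [equalizer.lift_ι, Pi.lift_π]
    exact (Category.assoc _ _ _).trans h1

end Aux


/-- Let `I` be a category with a family of objects `i α` (`α : A`) such that every binary product `i α ⨯
i β` exists in `I` and every object of `I` admits a morphism to some `i α`. Let `F : Iᵒᵖ ⥤ C` be a
functor, and assume that `C` has equalizers and that the products `∏ F (i α)` and `∏ F (i α ⨯ i β)`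
exist in `C`. Then the limit of `F` exists, the canonical map `lim F ⟶ ∏ F (i α)` is a monomorphism,
and a map `t : T ⟶ ∏ F (i α)` factors through `lim F` exactly when its composites with the two maps
`∏ F (i α) ⇉ ∏ F (i α ⨯ i β)` induced by the two projections agree: `lim F` is the equalizer of that
pair. (The published statement assumes that `C` has all limits of the size of `A`; only equalizers
and the two products named are assumed here, which is what the equalizer construction uses.) -/
theorem result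
    {I : Type u₁} [Category.{v₁} I] {C : Type u₂} [Category.{v₂} C] {A : Type w} (i : A → I)
    [∀ α β, HasBinaryProduct (i α) (i β)]
    (hcov : ∀ j : I, ∃ α, Nonempty (j ⟶ i α))
    (F : Iᵒᵖ ⥤ C) [HasEqualizers C]
    [HasProduct (fun α => F.obj (op (i α)))]
    [HasProduct (fun p : A × A => F.obj (op (i p.1 ⨯ i p.2)))] :
    HasLimit F ∧ ∀ [HasLimit F],
      Mono (Pi.lift (fun α => limit.π F (op (i α)))) ∧
      ∀ (T : C) (t : T ⟶ ∏ᶜ (fun α => F.obj (op (i α)))),
        (∃ s : T ⟶ limit F, s ≫ Pi.lift (fun α => limit.π F (op (i α))) = t) ↔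
        t ≫ Pi.lift (fun p : A × A =>
            Pi.π (fun α => F.obj (op (i α))) p.1 ≫ F.map (prod.fst : i p.1 ⨯ i p.2 ⟶ i p.1).op) =
        t ≫ Pi.lift (fun p : A × A =>
            Pi.π (fun α => F.obj (op (i α))) p.2 ≫ F.map (prod.snd : i p.1 ⨯ i p.2 ⟶ i p.2).op) := by
  have hlim : HasLimit F := ⟨⟨⟨_, isLimitCone i hcov F⟩⟩⟩
  refine ⟨hlim, ?_⟩
  intro _
  refine ⟨?_, ?_⟩
  · constructor
    intro Z a b hab
    apply limit.hom_ext
    intro x
    obtain ⟨α, ⟨u⟩⟩ := hcov x.unop
    have h1 := congrArg (· ≫ Pi.π (fun α => F.obj (op (i α))) α) hab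
    simp only [Category.assoc, Pi.lift_π] at h1
    have h2 : limit.π F x = limit.π F (op (i α)) ≫ F.map u.op := (limit.w F u.op).symm
    rw [h2, ← Category.assoc, h1, Category.assoc]
  · intro T t
    constructor
    · rintro ⟨s, rfl⟩
      apply Pi.hom_ext
      intro p
      simp only [Category.assoc, Pi.lift_π, Pi.lift_π_assoc]
      rw [limit.w, limit.w]
    · intro ht
      refine ⟨limit.lift F (coneOf i hcov F t ht), ?_⟩
      apply Pi.hom_ext
      intro α
      have h1 : (limit.lift F (coneOf i hcov F t ht) : T ⟶ limit F) ≫ limit.π F (op (i α)) =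
          t ≫ Pi.π (fun α => F.obj (op (i α))) α := by
        rw [limit.lift_π]
        exact (coneOf_π_eq i hcov F t ht (𝟙 (i α))).trans (by simp <;> rfl)
      refine (Category.assoc _ _ _).trans ?_
      rw [Pi.lift_π]
      exact h1

end Groth.Agent.S6120
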