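import Groth.Statements.S6121
import Mathlib
-- import your own Groth.Agent.* helpers here

set_option autoImplicit false
open CategoryTheory
universe v₁ v₂ u₁ u₂
open SGA4

namespace Groth.Agent.S6121

/-- For a fibered functor `p : E ⥤ B` (every morphism of `B` has a cartesian lift with prescribed
codomain, and cartesian morphisms compose), `p` reflects isomorphisms if and only if every fibre
category of `p` (objects over `b`, morphisms lying over the identity of `b`) is a groupoid. -/
theorem result
    {B : Type u₁} [Category.{v₁} B] {E : Type u₂} [Category.{v₂} E] (p : E ⥤ B) [p.IsFibered] :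
    p.ReflectsIsomorphisms ↔ ∀ b : B, IsGroupoid (p.Fiber b) := by
  constructor
  · intro hp b
    refine ⟨fun {x y} φ => ?_⟩
    have hφ : p.IsHomLift (𝟙 b) φ.1 := φ.2
    have h1 : IsIso (p.map φ.1) := by
      rw [IsHomLift.fac' p (𝟙 b) φ.1]
      infer_instance
    have h2 : IsIso φ.1 := isIso_of_reflects_iso φ.1 p
    have h3 : p.IsHomLift (𝟙 b) (inv φ.1) := inferInstance
    refine ⟨⟨inv φ.1, h3⟩, ?_, ?_⟩
    · apply Functor.Fiber.hom_ext
      exact IsIso.hom_inv_id φ.1
    · apply Functor.Fiber.hom_ext
      exact IsIso.inv_hom_id φ.1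
  · intro h
    refine ⟨fun {a b} f hf => ?_⟩
    obtain ⟨a', χ, hχ⟩ := Functor.IsPreFibered.exists_isCartesian' (p := p) (a := b) (p.map f)
    have e1 := Functor.IsCartesian.fac p (p.map f) χ f
    let x : p.Fiber (p.obj a) := ⟨a, rfl⟩
    let y : p.Fiber (p.obj a) := ⟨a', IsHomLift.domain_eq p (p.map f) χ⟩
    let α : x ⟶ y := ⟨Functor.IsCartesian.map p (p.map f) χ f, inferInstance⟩
    have := h (p.obj a)
    have hα : IsIso α := inferInstance
    have hα' : IsIso (Functor.Fiber.fiberInclusion.map α) := inferInstance
    have hα'' : IsIso (Functor.IsCartesian.map p (p.map f) χ f) := hα'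
    have hχ' : IsIso χ := Functor.IsStronglyCartesian.isIso_of_base_isIso p (p.map f) χ
    rw [← e1]
    infer_instance

end Groth.Agent.S6121
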