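import Groth.Statements.S6122
import Mathlib
-- import your own Groth.Agent.* helpers here

set_option autoImplicit false
open CategoryTheory
universe v₁ v₂ u₁ u₂
open SGA4

namespace Groth.Agent.S6122

/-- For a fibered functor `p : E ⥤ B` (every morphism of `B` has a cartesian lift with prescribed
codomain, and cartesian morphisms compose), `p` is faithful if and only if every fibre category of
`p` (objects over `b`, morphisms lying over the identity of `b`) has at most one morphism between
any two objects. -/
theorem result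
    {B : Type u₁} [Category.{v₁} B] {E : Type u₂} [Category.{v₂} E] (p : E ⥤ B) [p.IsFibered] :
    p.Faithful ↔ ∀ (b : B) (x y : p.Fiber b), Subsingleton (x ⟶ y) := by
  constructor
  · intro hp b x y
    refine ⟨fun φ ψ => ?_⟩
    apply Functor.Fiber.hom_ext
    apply p.map_injective
    have h1 := IsHomLift.fac' p (𝟙 b) (Functor.Fiber.fiberInclusion.map φ)
    have h2 := IsHomLift.fac' p (𝟙 b) (Functor.Fiber.fiberInclusion.map ψ)
    rw [h1, h2]
  · intro h
    refine ⟨fun {a b} φ ψ hφψ => ?_⟩
    obtain ⟨a', χ, hχ⟩ := Functor.IsPreFibered.exists_isCartesian' (p := p) (a := b) (p.map φ)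
    haveI : p.IsHomLift (p.map φ) ψ := by rw [hφψ]; infer_instance
    have e1 := Functor.IsCartesian.fac p (p.map φ) χ φ
    have e2 := Functor.IsCartesian.fac p (p.map φ) χ ψ
    let x : p.Fiber (p.obj a) := ⟨a, rfl⟩
    let y : p.Fiber (p.obj a) := ⟨a', IsHomLift.domain_eq p (p.map φ) χ⟩
    let α : x ⟶ y := ⟨Functor.IsCartesian.map p (p.map φ) χ φ, inferInstance⟩
    let β : x ⟶ y := ⟨Functor.IsCartesian.map p (p.map φ) χ ψ, inferInstance⟩
    have hαβ : α = β := (h _ x y).elim α β
    have hαβ' : α.1 = β.1 := congrArg Subtype.val hαβ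
    rw [← e1, ← e2]
    exact congrArg (· ≫ χ) hαβ'

end Groth.Agent.S6122
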