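import Groth.Statements.S6126
import Mathlib
-- import your own Groth.Agent.* helpers here

set_option autoImplicit false
open CategoryTheory CategoryTheory.Limits
universe v₁ u₁
open SGA4

namespace Groth.Agent.S6126

section Aux

variable {E : Type u₁} [Category.{v₁} E] {ι : Type v₁} (G : ι → E)
  [∀ t, HasBinaryCoproduct (G t) (G t)]

/-- index set for kernel data -/
abbrev KS (t : ι) : Type v₁ := Σ t' : ι, (G t' ⟶ G t ⨿ G t) × (G t' ⟶ G t ⨿ G t)

/-- the pairs of maps from the separators coequalised by `e` -/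
def Ker (t : ι) {Q : E} (e : G t ⨿ G t ⟶ Q) : Set (KS G t) := {p | p.2.1 ≫ e = p.2.2 ≫ e}

lemma main (hG : (ObjectProperty.ofObj G).IsSeparating) (t : ι) {Q Q' : E}
    (e : G t ⨿ G t ⟶ Q) [EffectiveEpi e] (e' : G t ⨿ G t ⟶ Q') (hK : Ker G t e' = Ker G t e)
    {J : E} [Injective J] (j : Q' ⟶ J) [Mono j] {X Y : E} (f g : X ⟶ Y) (x : G t ⟶ X)
    (m : Q ⟶ Y) [Mono m] (hem : e ≫ m = coprod.desc (x ≫ f) (x ≫ g))
    (hfg : ∀ h : Y ⟶ J, f ≫ h = g ≫ h) : x ≫ f = x ≫ g := by
  have hdesc : ∀ {Z : E} (a b : Z ⟶ G t ⨿ G t), a ≫ e = b ≫ e → a ≫ e' = b ≫ e' := by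
    intro Z a b hab
    apply hG
    intro G' hG' z
    obtain ⟨t'⟩ := hG'
    have hmem : (⟨t', (z ≫ a, z ≫ b)⟩ : KS G t) ∈ Ker G t e := by
      show (z ≫ a) ≫ e = (z ≫ b) ≫ e
      rw [Category.assoc, Category.assoc, hab]
    rw [← hK] at hmem
    have h' : (z ≫ a) ≫ e' = (z ≫ b) ≫ e' := hmem
    simpa [Category.assoc] using h'
  let θ : Q ⟶ Q' := EffectiveEpi.desc e e' hdesc
  have hθ : e ≫ θ = e' := EffectiveEpi.fac e e' hdesc
  let h : Y ⟶ J := Injective.factorThru (θ ≫ j) m
  have hh : m ≫ h = θ ≫ j := Injective.comp_factorThru _ _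
  have h1 := hfg h
  have key : ∀ c : G t ⟶ G t ⨿ G t,
      c ≫ e' ≫ j = c ≫ coprod.desc (x ≫ f) (x ≫ g) ≫ h := by
    intro c
    rw [← hem, ← hθ]
    simp only [Category.assoc]
    rw [hh]
  have h2 : coprod.inl ≫ e' ≫ j = coprod.inr ≫ e' ≫ j := by
    rw [key, key, coprod.inl_desc_assoc, coprod.inr_desc_assoc, Category.assoc, Category.assoc, h1]
  have h3 : (coprod.inl : G t ⟶ G t ⨿ G t) ≫ e' = coprod.inr ≫ e' := by
    rw [← cancel_mono j, Category.assoc, Category.assoc]
    exact h2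
  have hmem : (⟨t, (coprod.inl, coprod.inr)⟩ : KS G t) ∈ Ker G t e' := h3
  rw [hK] at hmem
  have h4 : (coprod.inl : G t ⟶ G t ⨿ G t) ≫ e = coprod.inr ≫ e := hmem
  have h5 : coprod.inl ≫ e ≫ m = coprod.inr ≫ e ≫ m := by
    rw [← Category.assoc, h4, Category.assoc]
  rw [hem, coprod.inl_desc, coprod.inr_desc] at h5
  exact h5

end Aux


/-- Let `E` be a category with `v₁`-small hom-sets admitting a separating family of objects `G t`
indexed by a `v₁`-small type, in which every object admits a monomorphism into an injective object.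
Assume that each coproduct `G t ⨿ G t` exists and that every morphism out of `G t ⨿ G t` factors as
an effective epimorphism followed by a monomorphism. Then `E` admits a coseparating family of
injective objects indexed by a `v₁`-small type. (The published statement moreover bounds the size of
this family in terms of the hom-sets `Hom (G t', G t ⨿ G t)`; only existence is stated here. The
published statement speaks of generating and cogenerating families; its proof uses and produces
joint faithfulness of maps out of, resp. into, the family, which is the sense taken here.) -/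
theorem result
    {E : Type u₁} [Category.{v₁} E] {ι : Type v₁} (G : ι → E)
    (hG : (ObjectProperty.ofObj G).IsSeparating)
    [EnoughInjectives E] [∀ t, HasBinaryCoproduct (G t) (G t)]
    (hfac : ∀ (t : ι) (X : E) (f : G t ⨿ G t ⟶ X),
      ∃ (Y : E) (e : G t ⨿ G t ⟶ Y) (m : Y ⟶ X), EffectiveEpi e ∧ Mono m ∧ e ≫ m = f) :
    ∃ (κ : Type v₁) (H : κ → E),
      (∀ k, Injective (H k)) ∧ (ObjectProperty.ofObj H).IsCoseparating := by
  classical
  let κ : Type v₁ := {p : Σ t : ι, Set (KS G t) //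
    ∃ (Q : E) (e : G p.1 ⨿ G p.1 ⟶ Q), EffectiveEpi e ∧ Ker G p.1 e = p.2}
  choose Qk ek hek hKer using fun k : κ => k.2
  refine ⟨κ, fun k => Injective.under (Qk k), fun k => inferInstance, ?_⟩
  intro X Y f g hfg
  apply hG
  intro G' hG' x
  obtain ⟨t⟩ := hG'
  obtain ⟨Q, e, m, he, hm, hem⟩ := hfac t Y (coprod.desc (x ≫ f) (x ≫ g))
  exact main G hG t e (ek ⟨⟨t, Ker G t e⟩, Q, e, he, rfl⟩)
    (hKer ⟨⟨t, Ker G t e⟩, Q, e, he, rfl⟩) (Injective.ι _) f g x m hem
    (fun h => hfg _ (ObjectProperty.ofObj_apply _ ⟨⟨t, Ker G t e⟩, Q, e, he, rfl⟩) h)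

end Groth.Agent.S6126
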