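import Groth.Statements.S6128
import Mathlib

set_option autoImplicit false
open CategoryTheory
universe u
open SGA4

namespace Groth.Agent.S6128

/-- Let `u : C ⥤ C'` be a functor between small sites. If the right Kan extension along `u` of the
underlying presheaf of every sheaf of sets on `C` is a sheaf on `C'`, then `u` is cocontinuous: for
every object `Y` of `C` and every covering sieve `R` of `u Y`, the sieve of morphisms `g : Z ⟶ Y`
with `u g ∈ R` covers `Y`. -/
theorem result
    {C : Type u} [SmallCategory C] {C' : Type u} [SmallCategory C']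
    (J : GrothendieckTopology C) (J' : GrothendieckTopology C') (u : C ⥤ C')
    (h : ∀ G : Sheaf J (Type u), Presheaf.IsSheaf J' ((u.op.ran).obj G.obj)) :
    u.IsCocontinuous J J' := by
  refine ⟨fun {Y} {R} hR => ?_⟩
  let Ω : Cᵒᵖ ⥤ Type u := (Functor.closedSieves J).toFunctor
  let G : Sheaf J (Type u) := ⟨Ω, (isSheaf_iff_isSheaf_of_type _ _).mpr (classifier_isSheaf J)⟩
  let a : u.op ⋙ yoneda.obj (u.obj Y) ⟶ Ω :=
    { app := fun Z => ↾(fun (φ : u.obj Z.unop ⟶ u.obj Y) =>
        (⟨J.close ((R.pullback φ).functorPullback u), J.close_isClosed _⟩ : Ω.obj Z))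
      naturality := by
        intro Z Z' m
        ext φ
        apply Subtype.ext
        show J.close ((R.pullback (u.map m.unop ≫ φ)).functorPullback u) =
          (J.close ((R.pullback φ).functorPullback u)).pullback m.unop
        rw [← J.pullback_close, ← Sieve.functorPullback_pullback, Sieve.pullback_comp] }
  let b : u.op ⋙ yoneda.obj (u.obj Y) ⟶ Ω :=
    { app := fun Z => ↾(fun _ => (⟨J.close ⊤, J.close_isClosed _⟩ : Ω.obj Z))
      naturality := by
        intro Z Z' m
        ext φ
        apply Subtype.ext
        show J.close (⊤ : Sieve Z'.unop) = (J.close (⊤ : Sieve Z.unop)).pullback m.unop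
        rw [← J.pullback_close, Sieve.pullback_top] }
  let adj := u.op.ranAdjunction (Type u)
  have hS := Presieve.isSheafFor_iff_yonedaSheafCondition.mp
    (((isSheaf_iff_isSheaf_of_type _ _).mp (h G)) R hR)
  have key : adj.homEquiv _ _ a = adj.homEquiv _ _ b := by
    have h1 : R.functorInclusion ≫ adj.homEquiv _ _ a =
        R.functorInclusion ≫ adj.homEquiv _ _ b := by
      rw [← adj.homEquiv_naturality_left, ← adj.homEquiv_naturality_left]
      congr 1
      ext Z ⟨φ, hφ⟩
      apply Subtype.ext
      show J.close ((R.pullback φ).functorPullback u) = J.close ⊤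
      rw [Sieve.pullback_eq_top_of_mem R hφ, Sieve.functorPullback_top]
    exact (hS _).unique rfl h1.symm
  have hab : a = b := (adj.homEquiv _ _).injective key
  have h2 := congrArg (fun t => (t.app (Opposite.op Y) (𝟙 (u.obj Y))).1) hab
  have h3 : J.close ((R.pullback (𝟙 (u.obj Y))).functorPullback u) = J.close ⊤ := h2
  rw [Sieve.pullback_id] at h3
  rw [← J.close_eq_top_iff_mem, h3, J.close_eq_top_iff_mem]
  exact J.top_mem Y

end Groth.Agent.S6128
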