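import Groth.Statements.S6129
import Mathlib
import Groth.Agent.S6135

set_option autoImplicit false
open CategoryTheory CategoryTheory.Limits
universe u
open SGA4

namespace Groth.Agent.S6129

section helpers
open CategoryTheory CategoryTheory.Limits Opposite
open Groth.Agent.S6135

variable {C : Type u} [SmallCategory C] {C' : Type u} [SmallCategory C'] (u : C ⥤ C')

noncomputable def ptCocone (H : Cᵒᵖ ⥤ Type u) (X' : C'ᵒᵖ) :
    Cocone (CostructuredArrow.proj u.op X' ⋙ H) :=
  (Functor.LeftExtension.mk _ (u.op.leftKanExtensionUnit H)).coconeAt X'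

noncomputable def ptIsColimit (H : Cᵒᵖ ⥤ Type u) (X' : C'ᵒᵖ) : IsColimit (ptCocone u H X') :=
  u.op.isPointwiseLeftKanExtensionLeftKanExtensionUnit H X'

lemma unit_eq (H : Cᵒᵖ ⥤ Type u) : (adj u).unit.app H = u.op.leftKanExtensionUnit H :=
  congrArg (fun η => η.app H) (Functor.lanAdjunction_unit (L := u.op) (Type u))

lemma ptCocone_ι_apply (H : Cᵒᵖ ⥤ Type u) (X' : C'ᵒᵖ) (g : CostructuredArrow u.op X')
    (s : H.obj g.left) :
    (ptCocone u H X').ι.app g s = ((L u).obj H).map g.hom (unitEl u H g.left.unop s) := by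
  show _ = ((L u).obj H).map g.hom (((adj u).unit.app H).app (op g.left.unop) s)
  rw [unit_eq]
  rfl

open Classical in
noncomputable def detFun (H : Cᵒᵖ ⥤ Type u) (X Y : C) (a : u.obj X ⟶ u.obj Y)
    (s : H.obj (op Y)) : Option (H.obj (op X)) :=
  if h : ∃ k : X ⟶ Y, u.map k = a then some (H.map (Classical.choose h).op s) else none

lemma detFun_map [u.Faithful] (H : Cᵒᵖ ⥤ Type u) {X Y : C} (k : X ⟶ Y) (s : H.obj (op Y)) :
    detFun u H X Y (u.map k) s = some (H.map k.op s) := by
  have h : ∃ k' : X ⟶ Y, u.map k' = u.map k := ⟨k, rfl⟩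
  have hk : Classical.choose h = k := u.map_injective (Classical.choose_spec h)
  unfold detFun
  rw [dif_pos h, hk]

lemma detFun_none (H : Cᵒᵖ ⥤ Type u) {X Y : C} (a : u.obj X ⟶ u.obj Y) (s : H.obj (op Y))
    (h : ¬ ∃ k : X ⟶ Y, u.map k = a) : detFun u H X Y a s = none := by
  unfold detFun
  exact dif_neg h

lemma detFun_eq_some [u.Faithful] (H : Cᵒᵖ ⥤ Type u) {X Y : C} (a : u.obj X ⟶ u.obj Y)
    (s : H.obj (op Y)) (t : H.obj (op X)) (h : detFun u H X Y a s = some t) :
    ∃ k : X ⟶ Y, u.map k = a ∧ H.map k.op s = t := by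
  by_cases hk : ∃ k : X ⟶ Y, u.map k = a
  · obtain ⟨k, rfl⟩ := hk
    rw [detFun_map] at h
    exact ⟨k, rfl, Option.some.inj h⟩
  · rw [detFun_none u H a s hk] at h
    cases h

lemma detFun_compat [u.Faithful]
    (hu : ∀ X : C, (Over.post (X := X) u).Full ∧ (Over.post (X := X) u).Faithful)
    (H : Cᵒᵖ ⥤ Type u) {X Y Z : C} (h : Z ⟶ Y) (b : u.obj X ⟶ u.obj Z) (s : H.obj (op Y)) :
    detFun u H X Z b (H.map h.op s) = detFun u H X Y (b ≫ u.map h) s := by
  by_cases hb : ∃ k' : X ⟶ Z, u.map k' = b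
  · obtain ⟨k', rfl⟩ := hb
    rw [detFun_map, ← u.map_comp, detFun_map, op_comp, CategoryTheory.Functor.map_comp_apply]
  · rw [detFun_none u H b _ hb, detFun_none]
    rintro ⟨k, hk⟩
    apply hb
    haveI := (hu Y).1
    let φ' : (Over.post (X := Y) u).obj (Over.mk k) ⟶ (Over.post (X := Y) u).obj (Over.mk h) :=
      Over.homMk b (by exact hk.symm)
    obtain ⟨φ, hφ⟩ := (Over.post (X := Y) u).map_surjective φ'
    exact ⟨φ.left, congrArg CommaMorphism.left hφ⟩

noncomputable def detCocone [u.Faithful]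
    (hu : ∀ X : C, (Over.post (X := X) u).Full ∧ (Over.post (X := X) u).Faithful)
    (H : Cᵒᵖ ⥤ Type u) (X : C) :
    Cocone (CostructuredArrow.proj u.op (op (u.obj X)) ⋙ H) where
  pt := Option (H.obj (op X))
  ι :=
    { app := fun g => ↾fun s => detFun u H X g.left.unop g.hom.unop s
      naturality := fun g g' m => by
        ext s
        have hw : g'.hom.unop ≫ u.map m.left.unop = g.hom.unop :=
          congrArg Quiver.Hom.unop (CostructuredArrow.w m)
        exact (detFun_compat u hu H m.left.unop g'.hom.unop s).trans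
          (congrArg (fun a => detFun u H X g.left.unop a s) hw) }

noncomputable def ρ [u.Faithful]
    (hu : ∀ X : C, (Over.post (X := X) u).Full ∧ (Over.post (X := X) u).Faithful)
    (H : Cᵒᵖ ⥤ Type u) (X : C) :
    ((L u).obj H).obj (op (u.obj X)) ⟶ Option (H.obj (op X)) :=
  (ptIsColimit u H (op (u.obj X))).desc (detCocone u hu H X)

section
variable [u.Faithful]
  (hu : ∀ X : C, (Over.post (X := X) u).Full ∧ (Over.post (X := X) u).Faithful)

lemma ρ_leg (H : Cᵒᵖ ⥤ Type u) (X : C) (g : CostructuredArrow u.op (op (u.obj X)))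
    (s : H.obj g.left) :
    ρ u hu H X (((L u).obj H).map g.hom (unitEl u H g.left.unop s)) =
      detFun u H X g.left.unop g.hom.unop s := by
  rw [← ptCocone_ι_apply]
  exact ConcreteCategory.congr_hom
    ((ptIsColimit u H (op (u.obj X))).fac (detCocone u hu H X) g) s

lemma ρ_leg' (H : Cᵒᵖ ⥤ Type u) (X Y : C) (a : u.obj X ⟶ u.obj Y) (s : H.obj (op Y)) :
    ρ u hu H X (((L u).obj H).map a.op (unitEl u H Y s)) = detFun u H X Y a s :=
  ρ_leg u hu H X
    (CostructuredArrow.mk (Y := op Y) (a.op : u.op.obj (op Y) ⟶ op (u.obj X))) s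

lemma ρ_unitEl (H : Cᵒᵖ ⥤ Type u) (X : C) (s : H.obj (op X)) :
    ρ u hu H X (unitEl u H X s) = some s := by
  have h := ρ_leg' u hu H X X (𝟙 (u.obj X)) s
  rw [op_id, CategoryTheory.Functor.map_id_apply] at h
  rw [h, ← u.map_id, detFun_map, op_id, CategoryTheory.Functor.map_id_apply]

omit [u.Faithful] in
lemma exists_leg (H : Cᵒᵖ ⥤ Type u) (X' : C') (z : ((L u).obj H).obj (op X')) :
    ∃ (Y : C) (a : X' ⟶ u.obj Y) (s : H.obj (op Y)),
      ((L u).obj H).map a.op (unitEl u H Y s) = z := by
  obtain ⟨g, s, hs⟩ := Types.jointly_surjective_of_isColimit (ptIsColimit u H (op X')) z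
  refine ⟨g.left.unop, g.hom.unop, s, ?_⟩
  rw [← hs, ptCocone_ι_apply]
  rfl

include hu in
lemma unitEl_injective' (H : Cᵒᵖ ⥤ Type u) (X : C) : Function.Injective (unitEl u H X) := by
  intro s t h
  apply Option.some.inj
  rw [← ρ_unitEl u hu H X s, h, ρ_unitEl]

lemma of_ρ_eq_some (H : Cᵒᵖ ⥤ Type u) (X : C) (z : ((L u).obj H).obj (op (u.obj X)))
    (t : H.obj (op X)) (h : ρ u hu H X z = some t) : z = unitEl u H X t := by
  obtain ⟨Y, a, s, rfl⟩ := exists_leg u H (u.obj X) z
  rw [ρ_leg'] at h
  obtain ⟨k, rfl, rfl⟩ := detFun_eq_some u H a s t h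
  exact (unitEl_map u H k s).symm

lemma ρ_nat {H K : Cᵒᵖ ⥤ Type u} (α : H ⟶ K) (X : C)
    (z : ((L u).obj H).obj (op (u.obj X))) :
    ρ u hu K X (((L u).map α).app (op (u.obj X)) z) =
      Option.map (α.app (op X)) (ρ u hu H X z) := by
  obtain ⟨Y, a, s, rfl⟩ := exists_leg u H (u.obj X) z
  have n : ((L u).map α).app (op (u.obj X)) (((L u).obj H).map a.op (unitEl u H Y s)) =
      ((L u).obj K).map a.op (unitEl u K Y (α.app (op Y) s)) := by
    rw [unitEl_nat]
    exact ConcreteCategory.congr_hom (((L u).map α).naturality a.op) (unitEl u H Y s)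
  rw [n, ρ_leg', ρ_leg']
  by_cases hk : ∃ k : X ⟶ Y, u.map k = a
  · obtain ⟨k, rfl⟩ := hk
    rw [detFun_map, detFun_map]
    show some _ = some _
    congr 1
    exact (ConcreteCategory.congr_hom (α.naturality k.op) s).symm
  · rw [detFun_none u K a _ hk, detFun_none u H a _ hk]
    rfl

end

end helpers

/-- Let `u : C ⥤ C'` be a faithful functor between small categories such that for every object `X` of
`C` the induced functor on over-categories `C/X ⥤ C'/u X` is full and faithful. Then the left Kan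
extension functor `u_!` on presheaves of sets is faithful, the unit `H ⟶ u^* u_! H` of the
adjunction `u_! ⊣ u^*` is a monomorphism for every presheaf `H`, and for every morphism of
presheaves `α : H ⟶ K` the naturality square of the unit at `α` (with sides `α` and `u^* u_! α`) is
cartesian. (The published statement assumes only the condition on the slice functors, and its proof
uses that `u` is faithful; the slice condition alone does not suffice: for a nontrivial group viewed
as a one-object category mapping to the point every slice functor is an equivalence, while `u_!` is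
the orbit-set functor on `G`-sets, which is not faithful, and the unit `G ⟶ G/G` is not a
monomorphism. So `u` is taken faithful here.) -/
theorem result
    {C : Type u} [SmallCategory C] {C' : Type u} [SmallCategory C'] (u : C ⥤ C') [u.Faithful]
    (hu : ∀ X : C, (Over.post (X := X) u).Full ∧ (Over.post (X := X) u).Faithful) :
    (u.op.lan : (Cᵒᵖ ⥤ Type u) ⥤ (C'ᵒᵖ ⥤ Type u)).Faithful ∧
    (∀ H : Cᵒᵖ ⥤ Type u, Mono ((u.op.lanAdjunction (Type u)).unit.app H)) ∧
    ∀ (H K : Cᵒᵖ ⥤ Type u) (α : H ⟶ K),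
      IsPullback ((u.op.lanAdjunction (Type u)).unit.app H) α
        (((Functor.whiskeringLeft Cᵒᵖ C'ᵒᵖ (Type u)).obj u.op).map (u.op.lan.map α))
        ((u.op.lanAdjunction (Type u)).unit.app K) := by
  have hinj : ∀ (H : Cᵒᵖ ⥤ Type u) (X : C),
      Function.Injective (Groth.Agent.S6135.unitEl u H X) :=
    fun H X => unitEl_injective' u hu H X
  have hmono : ∀ H : Cᵒᵖ ⥤ Type u, Mono ((u.op.lanAdjunction (Type u)).unit.app H) := by
    intro H
    haveI : ∀ X, Mono (((u.op.lanAdjunction (Type u)).unit.app H).app X) := by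
      rintro ⟨X⟩
      rw [mono_iff_injective]
      exact hinj H X
    exact NatTrans.mono_of_mono_app _
  refine ⟨?_, hmono, ?_⟩
  · haveI := hmono
    exact (u.op.lanAdjunction (Type u)).faithful_L_of_mono_unit_app
  · intro H K α
    refine IsPullback.of_forall_isPullback_app (fun Xop => ?_)
    rcases Xop with ⟨X⟩
    refine (Types.isPullback_iff _ _ _ _).mpr ⟨?_, ?_, ?_⟩
    · exact (NatTrans.congr_app ((u.op.lanAdjunction (Type u)).unit.naturality α)
        (Opposite.op X)).symm
    · intro x y h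
      exact hinj H X h.1
    · intro z t hzt
      have h1 : ρ u hu K X (((Groth.Agent.S6135.L u).map α).app (Opposite.op (u.obj X)) z) =
          some t := by
        rw [show ((Groth.Agent.S6135.L u).map α).app (Opposite.op (u.obj X)) z =
          Groth.Agent.S6135.unitEl u K X t from hzt, ρ_unitEl]
      rw [ρ_nat, Option.map_eq_some_iff] at h1
      obtain ⟨s, hs, hst⟩ := h1
      exact ⟨s, (of_ρ_eq_some u hu H X z s hs).symm, hst⟩

end Groth.Agent.S6129
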