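import Groth.Statements.S6131
import Mathlib
-- import your own Groth.Agent.* helpers here

set_option autoImplicit false
open CategoryTheory CategoryTheory.Limits
universe u
open SGA4

namespace Groth.Agent.S6131

/-- For a small site `(C, J)` and an object `X` of `C`, the sheaf associated to the presheaf represented
by `X` is an initial object of the category of sheaves of sets if and only if the empty sieve covers
`X`. -/
theorem result
    {C : Type u} [SmallCategory C] (J : GrothendieckTopology C) (X : C) :
    Nonempty (IsInitial ((presheafToSheaf J (Type u)).obj (yoneda.obj X))) ↔ (⊥ : Sieve X) ∈ J X := by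
  constructor
  · rintro ⟨hI⟩
    let F : Sheaf J (Type u) :=
      ⟨(Functor.closedSieves J).toFunctor, (isSheaf_iff_isSheaf_of_type _ _).2 (classifier_isSheaf J)⟩
    let e : ((presheafToSheaf J (Type u)).obj (yoneda.obj X) ⟶ F) ≃ F.obj.obj (Opposite.op X) :=
      ((sheafificationAdjunction J (Type u)).homEquiv (yoneda.obj X) F).trans yonedaEquiv
    have hall : ∀ a b : F.obj.obj (Opposite.op X), a = b := by
      intro a b
      have : e.symm a = e.symm b := hI.hom_ext _ _
      exact e.symm.injective this
    have h1 := hall ⟨(⊤ : Sieve X), fun _ _ _ => trivial⟩ ⟨J.close ⊥, J.close_isClosed ⊥⟩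
    have h2 : J.close (⊥ : Sieve X) = ⊤ := (congrArg Subtype.val h1).symm
    exact (J.close_eq_top_iff_mem _).1 h2
  · intro hbot
    have huniq : ∀ F : Sheaf J (Type u), Nonempty (Unique (F.obj.obj (Opposite.op X))) := by
      intro F
      have hF : Presieve.IsSheaf J F.obj := (isSheaf_iff_isSheaf_of_type _ _).1 F.property
      have hfor := hF (⊥ : Sieve X) hbot
      let x : Presieve.FamilyOfElements F.obj (⊥ : Sieve X).arrows := fun Y f hf => hf.elim
      have hx : x.Compatible := by
        intro Y₁ Y₂ Z g₁ g₂ f₁ f₂ h₁ h₂ _
        exact h₁.elim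
      obtain ⟨t, -, ht⟩ := hfor x hx
      refine ⟨⟨⟨t⟩, fun s => ht s ?_⟩⟩
      intro Y f hf
      exact hf.elim
    refine ⟨IsInitial.ofUnique (h := fun F => ?_) _⟩
    have hu : Unique (F.obj.obj (Opposite.op X)) := Classical.choice (huniq F)
    let e : ((presheafToSheaf J (Type u)).obj (yoneda.obj X) ⟶ F) ≃ F.obj.obj (Opposite.op X) :=
      ((sheafificationAdjunction J (Type u)).homEquiv (yoneda.obj X) F).trans yonedaEquiv
    exact e.unique

end Groth.Agent.S6131
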