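import Groth.Statements.S6132
import Groth.Agent.Lib.Helper7.SheafCofan
-- import your own Groth.Agent.* helpers here

set_option autoImplicit false
open CategoryTheory CategoryTheory.Limits
universe u
open SGA4

namespace Groth.Agent.S6132

theorem subsingleton_of_bot_mem {C : Type u} [SmallCategory C] (J : GrothendieckTopology C)
    (F : Sheaf J (Type u)) (W : C) (hbot : (⊥ : Sieve W) ∈ J W) :
    Subsingleton (F.obj.obj (Opposite.op W)) := by
  have hF : Presieve.IsSheaf J F.obj := (isSheaf_iff_isSheaf_of_type _ _).1 F.property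
  have hfor := hF (⊥ : Sieve W) hbot
  let x : Presieve.FamilyOfElements F.obj (⊥ : Sieve W).arrows := fun Y f hf => hf.elim
  have hx : x.Compatible := by
    intro Y₁ Y₂ Z g₁ g₂ f₁ f₂ h₁ h₂ _
    exact h₁.elim
  obtain ⟨t, -, ht⟩ := hfor x hx
  refine ⟨fun a b => ?_⟩
  rw [ht a (fun Y f hf => hf.elim), ht b (fun Y f hf => hf.elim)]


/-- Let `(C, J)` be a small site, `X` an object and `s i : Y i ⟶ X` a family of morphisms all of whose
base changes exist in `C`. If the family is covering, every `s i` is a monomorphism, and for `i ≠ j`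
the fibre product `Y i ×_X Y j` is covered by the empty sieve, then the associated sheaf of `X`,
with the maps induced by the `s i`, is a coproduct of the associated sheaves of the `Y i` in the
category of sheaves of sets. -/
theorem result
    {C : Type u} [SmallCategory C] (J : GrothendieckTopology C) {X : C} {ι : Type u}
    (Y : ι → C) (s : ∀ i, Y i ⟶ X) [∀ (i : ι) (Z : C) (g : Z ⟶ X), HasPullback (s i) g]
    (hcov : Sieve.ofArrows Y s ∈ J X) (hmono : ∀ i, Mono (s i))
    (hdisj : ∀ i j, i ≠ j → (⊥ : Sieve (pullback (s i) (s j))) ∈ J (pullback (s i) (s j))) :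
    Nonempty (IsColimit (Cofan.mk ((presheafToSheaf J (Type u)).obj (yoneda.obj X))
      (fun i => (presheafToSheaf J (Type u)).map (yoneda.map (s i))))) := by
  rw [Groth.Agent.Helper7.isColimit_cofan_sheafify_iff]
  intro F
  have hF : Presieve.IsSheaf J F.obj := (isSheaf_iff_isSheaf_of_type _ _).1 F.property
  have : (Presieve.ofArrows Y s).HasPairwisePullbacks := ⟨by
    rintro _ _ _ ⟨i⟩ _ ⟨j⟩
    infer_instance⟩
  have hsf : (Presieve.ofArrows Y s).IsSheafFor F.obj := hF.isSheafFor _ hcov
  rw [Presieve.isSheafFor_arrows_iff_pullbacks] at hsf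
  have hsub : ∀ i j, i ≠ j → Subsingleton (F.obj.obj (Opposite.op (pullback (s i) (s j)))) :=
    fun i j hij => subsingleton_of_bot_mem J F _ (hdisj i j hij)
  constructor
  · intro t t' h
    have hcompat : Presieve.Arrows.PullbackCompatible F.obj s (fun i => F.obj.map (s i).op t) := by
      intro i j
      simp only [← ConcreteCategory.comp_apply, ← Functor.map_comp, ← op_comp, pullback.condition]
    obtain ⟨t0, -, huniq⟩ := hsf _ hcompat
    rw [huniq t (fun i => rfl), huniq t' (fun i => (congrFun h i).symm)]
  · intro x
    have hcompat : Presieve.Arrows.PullbackCompatible F.obj s x := by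
      intro i j
      by_cases hij : i = j
      · subst hij
        have := hmono i
        rw [(cancel_mono (s i)).1 pullback.condition]
      · exact (hsub i j hij).elim _ _
    obtain ⟨t, ht, -⟩ := hsf x hcompat
    exact ⟨t, funext ht⟩

end Groth.Agent.S6132
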