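import Groth.Statements.S6137
import Mathlib
-- import your own Groth.Agent.* helpers here

set_option autoImplicit false
open CategoryTheory CategoryTheory.Limits
universe v u
open SGA4

namespace Groth.Agent.S6137

open Opposite

/-- Let `C` be a category with `v`-small hom-sets admitting all `v`-small limits, and `F : C ⥤ Type v` a
functor. Then `F` is corepresentable if and only if it is pro-representable (viewed as a presheaf on
`Cᵒᵖ` it is an ind-object, i.e. a small filtered colimit of corepresentable functors) and preserves
all `v`-small limits. -/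
theorem result
    {C : Type u} [Category.{v} C] [HasLimitsOfSize.{v, v} C] (F : C ⥤ Type v) :
    F.IsCorepresentable ↔
      IsIndObject (unopUnop C ⋙ F) ∧ PreservesLimitsOfSize.{v, v} F := by
  constructor
  · intro hF
    haveI := hF
    refine ⟨?_, inferInstance⟩
    have R := F.corepresentableBy
    let e : yoneda.obj (op F.coreprX) ≅ unopUnop C ⋙ F := NatIso.ofComponents
      (fun Z => Equiv.toIso ((opEquiv Z.unop (op F.coreprX)).trans R.homEquiv)) (by
        intro Z Z' φ
        ext f
        simp [opEquiv, R.homEquiv_comp])
    exact (isIndObject_yoneda (op F.coreprX)).map e.hom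
  · rintro ⟨hInd, hP⟩
    haveI := hP
    obtain ⟨⟨P⟩⟩ := hInd
    haveI : HasProducts.{v} F.Elements := fun J => inferInstance
    haveI : HasWideEqualizers.{v} F.Elements := fun J => inferInstance
    have hB : ∀ A : F.Elements, ∃ i : P.I,
        Nonempty (F.elementsMk (P.F.obj i).unop ((P.ι.app i).app (op (P.F.obj i)) (𝟙 _)) ⟶ A) := by
      rintro ⟨Y, y⟩
      have hc := isColimitOfPreserves ((evaluation _ (Type v)).obj (op (op Y))) P.isColimit
      obtain ⟨i, x, hx⟩ := Types.jointly_surjective_of_isColimit hc y
      refine ⟨i, ⟨⟨Quiver.Hom.unop x, ?_⟩⟩⟩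
      have nat := NatTrans.naturality_apply (P.ι.app i) (Quiver.Hom.op x) (𝟙 (P.F.obj i))
      have h1 : ((P.F ⋙ yoneda).obj i).map (Quiver.Hom.op x) (𝟙 (P.F.obj i)) = x := by simp
      rw [h1] at nat
      exact nat.symm.trans hx
    obtain ⟨T, hT⟩ := has_weakly_initial_of_weakly_initial_set_and_hasProducts hB
    haveI := hasInitial_of_weakly_initial_and_hasWideEqualizers hT
    exact Functor.Elements.isCorepresentable_of_hasInitial F

end Groth.Agent.S6137
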