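import Groth.Statements.S6141
import Mathlib

set_option autoImplicit false
open CategoryTheory
universe u
open SGA4

namespace Groth.Agent.S6141

/-- Let `u : C ⥤ C'` be a functor between small sites which is continuous and cocontinuous. If `u` is
full and faithful, then the left adjoint `u_!` of the restriction functor `u^*` on sheaves of sets
is full and faithful. -/
theorem result
    {C : Type u} [SmallCategory C] {C' : Type u} [SmallCategory C']
    (J : GrothendieckTopology C) (K : GrothendieckTopology C') (u : C ⥤ C')
    [u.IsContinuous J K] [u.IsCocontinuous J K] [u.Full] [u.Faithful] :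
    (u.sheafPullback (Type u) J K).Full ∧ (u.sheafPullback (Type u) J K).Faithful := by
  have hkan : ∀ (P : Cᵒᵖ ⥤ Type u), u.op.HasPointwiseRightKanExtension P := fun P => inferInstance
  have hran : (u.op.ran (H := Type u)).FullyFaithful :=
    (u.op.ranAdjunction (Type u)).fullyFaithfulROfIsIsoCounit
  have hR1 : (u.sheafPushforwardCocontinuous (Type u) J K ⋙ sheafToPresheaf _ _).FullyFaithful :=
    ((fullyFaithfulSheafToPresheaf J (Type u)).comp hran).ofIso
      (u.sheafPushforwardCocontinuousCompSheafToPresheafIso (Type u) J K).symm
  have hR : (u.sheafPushforwardCocontinuous (Type u) J K).FullyFaithful := hR1.ofCompFaithful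
  let t : Adjunction.Triple (u.sheafPullback (Type u) J K)
      (u.sheafPushforwardContinuous (Type u) J K) (u.sheafPushforwardCocontinuous (Type u) J K) :=
    ⟨u.sheafAdjunctionContinuous (Type u) J K, u.sheafAdjunctionCocontinuous (Type u) J K⟩
  have hL := t.fullyFaithfulEquiv.symm hR
  exact ⟨hL.full, hL.faithful⟩

end Groth.Agent.S6141
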