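import Groth.Statements.S6142
import Mathlib

set_option autoImplicit false
open CategoryTheory
universe u
open SGA4

namespace Groth.Agent.S6142

/-- Let `u : C ⥤ C'` be a continuous and cocontinuous functor between small sites whose topologies are
subcanonical. If the left adjoint `u_!` of the restriction functor `u^*` on sheaves of sets is full
and faithful, then `u` is full and faithful. -/
theorem result
    {C : Type u} [SmallCategory C] {C' : Type u} [SmallCategory C']
    (J : GrothendieckTopology C) (K : GrothendieckTopology C') [J.Subcanonical] [K.Subcanonical]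
    (u : C ⥤ C') [u.IsContinuous J K] [u.IsCocontinuous J K]
    (h : (u.sheafPullback (Type u) J K).Full ∧ (u.sheafPullback (Type u) J K).Faithful) :
    u.Full ∧ u.Faithful := by
  obtain ⟨hfull, hfaith⟩ := h
  let L := u.sheafPullback (Type u) J K
  let R := u.sheafPushforwardContinuous (Type u) J K
  let adj : L ⊣ R := u.sheafAdjunctionContinuous (Type u) J K
  let ν : ∀ Z : C, J.yoneda.obj Z ⟶ R.obj (K.yoneda.obj (u.obj Z)) := fun Z =>
    J.yonedaEquiv.symm (𝟙 (u.obj Z))
  have hν : ∀ (Z : C) (W : Cᵒᵖ) (k : W.unop ⟶ Z), (ν Z).hom.app W k = u.map k := by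
    intro Z W k
    show (K.yoneda.obj (u.obj Z)).obj.map (u.map k).op (𝟙 (u.obj Z)) = u.map k
    exact Category.comp_id _
  let θ : ∀ Z : C, L.obj (J.yoneda.obj Z) ⟶ K.yoneda.obj (u.obj Z) := fun Z =>
    (adj.homEquiv _ _).symm (ν Z)
  have hθ : ∀ Z, adj.homEquiv _ _ (θ Z) = ν Z := fun Z => Equiv.apply_symm_apply _ _
  have hiso : ∀ Z, IsIso (θ Z) := by
    intro Z
    apply isIso_of_coyoneda_map_bijective
    intro G
    have hcomp : (fun g : K.yoneda.obj (u.obj Z) ⟶ G =>
        J.yonedaEquiv (adj.homEquiv _ _ (θ Z ≫ g))) = fun g => K.yonedaEquiv g := by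
      funext g
      have h1 : J.yonedaEquiv (ν Z) = 𝟙 (u.obj Z) := Equiv.apply_symm_apply _ _
      rw [adj.homEquiv_naturality_right, hθ, J.yonedaEquiv_comp, h1]
      rfl
    have hb : Function.Bijective ((J.yonedaEquiv ∘ adj.homEquiv _ _) ∘
        (fun g : K.yoneda.obj (u.obj Z) ⟶ G => θ Z ≫ g)) := by
      have : ((J.yonedaEquiv ∘ adj.homEquiv _ _) ∘
          (fun g : K.yoneda.obj (u.obj Z) ⟶ G => θ Z ≫ g)) = fun g => K.yonedaEquiv g := hcomp
      rw [this]
      exact K.yonedaEquiv.bijective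
    exact (Function.Bijective.of_comp_iff'
      (J.yonedaEquiv.bijective.comp (adj.homEquiv _ _).bijective) _).mp hb
  have hnat : ∀ {Y Z : C} (f : Y ⟶ Z),
      L.map (J.yoneda.map f) ≫ θ Z = θ Y ≫ K.yoneda.map (u.map f) := by
    intro Y Z f
    apply (adj.homEquiv _ _).injective
    rw [adj.homEquiv_naturality_left, adj.homEquiv_naturality_right, hθ, hθ]
    apply Sheaf.hom_ext
    ext W k
    show (ν Z).hom.app W (k ≫ f) = (ν Y).hom.app W k ≫ u.map f
    rw [hν, hν, u.map_comp]
  constructor
  · constructor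
    intro Y Z φ
    obtain ⟨m', hm'⟩ := L.map_surjective (θ Y ≫ K.yoneda.map φ ≫ inv (θ Z))
    obtain ⟨f, hf⟩ := (J.yoneda).map_surjective m'
    refine ⟨f, ?_⟩
    apply (K.yoneda).map_injective
    rw [← cancel_epi (θ Y), ← hnat, hf, hm']
    simp
  · constructor
    intro Y Z f g hfg
    apply (J.yoneda).map_injective
    apply L.map_injective
    rw [← cancel_mono (θ Z), hnat, hnat, hfg]

end Groth.Agent.S6142
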