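import Groth.Statements.S6144
import Mathlib
-- import your own Groth.Agent.* helpers here

set_option autoImplicit false
open CategoryTheory CategoryTheory.Limits
universe w v u
open SGA4

namespace Groth.Agent.S6144

/-- Let `E` be a category with `v`-small hom-sets and pullbacks, admitting a detecting family of objects
indexed by a `v`-small type (maps out of the family jointly reflect isomorphisms). Then every
detecting family `Y : I → E`, indexed by an arbitrary type, contains a detecting subfamily indexed
by a `v`-small subset of `I`. -/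
theorem result
    {E : Type u} [Category.{v} E] [HasPullbacks E] {κ : Type v} (G : κ → E)
    (hG : (ObjectProperty.ofObj G).IsDetecting) {I : Type w} (Y : I → E)
    (hY : (ObjectProperty.ofObj Y).IsDetecting) :
    ∃ J : Set I, Small.{v} J ∧ (ObjectProperty.ofObj (fun j : J => Y j)).IsDetecting := by
  classical
  have : WellPowered.{v} E := wellPowered_of_isDetecting hG
  have hch : ∀ (x : Σ k : κ, {A : Subobject (G k) // A ≠ ⊤}),
      ∃ (i : I) (h : Y i ⟶ G x.1), ¬ ∃ h' : Y i ⟶ (x.2.1 : E), h' ≫ x.2.1.arrow = h := by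
    rintro ⟨k, A, hA⟩
    by_contra hcon
    push Not at hcon
    apply hA
    rw [← Subobject.isIso_arrow_iff_eq_top]
    apply hY
    intro G' hG' h
    obtain ⟨i⟩ := hG'
    obtain ⟨h', hh'⟩ := hcon i h
    refine ⟨h', hh', fun y hy => ?_⟩
    rw [← cancel_mono A.arrow, hy, hh']
  choose ix hx hnf using hch
  refine ⟨Set.range ix, inferInstance, ?_⟩
  have key : ∀ ⦃A B : E⦄ (m : A ⟶ B) [Mono m],
      (∀ (j : Set.range ix) (h : Y j ⟶ B), ∃ h', h' ≫ m = h) → IsIso m := by
    intro A B m _ hm
    apply hG
    intro G' hG' g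
    obtain ⟨k⟩ := hG'
    have htop : Subobject.mk (pullback.fst g m) = ⊤ := by
      by_contra hne
      apply hnf ⟨k, Subobject.mk (pullback.fst g m), hne⟩
      obtain ⟨t, ht⟩ := hm ⟨ix ⟨k, Subobject.mk (pullback.fst g m), hne⟩, _, rfl⟩
        (hx ⟨k, Subobject.mk (pullback.fst g m), hne⟩ ≫ g)
      refine ⟨pullback.lift (hx ⟨k, Subobject.mk (pullback.fst g m), hne⟩) t ht.symm ≫
        (Subobject.underlyingIso (pullback.fst g m)).inv, ?_⟩
      show (_ ≫ (Subobject.underlyingIso (pullback.fst g m)).inv) ≫
        (Subobject.mk (pullback.fst g m)).arrow = _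
      rw [Category.assoc, Subobject.underlyingIso_arrow, pullback.lift_fst]
    have hiso : IsIso (pullback.fst g m) := (Subobject.isIso_iff_mk_eq_top _).mpr htop
    refine ⟨inv (pullback.fst g m) ≫ pullback.snd g m, ?_, ?_⟩
    · show (inv (pullback.fst g m) ≫ pullback.snd g m) ≫ m = g
      rw [Category.assoc, ← pullback.condition, IsIso.inv_hom_id_assoc]
    · intro y hy
      rw [← cancel_mono m, hy, Category.assoc, ← pullback.condition, IsIso.inv_hom_id_assoc]
  intro X Z f hf
  have hf' : ∀ (j : Set.range ix) (h : Y j ⟶ Z), ∃! h', h' ≫ f = h :=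
    fun j h => hf _ (ObjectProperty.ofObj_apply (fun j : Set.range ix => Y j) j) h
  have hδ : IsIso (pullback.diagonal f) := by
    apply key
    intro j h
    obtain ⟨u, hu, huniq⟩ := hf' j (h ≫ pullback.fst f f ≫ f)
    have h1 : h ≫ pullback.fst f f = u :=
      huniq _ (by show (h ≫ pullback.fst f f) ≫ f = _; rw [Category.assoc])
    have h2 : h ≫ pullback.snd f f = u :=
      huniq _ (by show (h ≫ pullback.snd f f) ≫ f = h ≫ pullback.fst f f ≫ f; rw [Category.assoc, ← pullback.condition])
    refine ⟨u, ?_⟩
    apply pullback.hom_ext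
    · rw [Category.assoc, pullback.diagonal_fst, Category.comp_id, h1]
    · rw [Category.assoc, pullback.diagonal_snd, Category.comp_id, h2]
  have hmono : Mono f := (pullback.isIso_diagonal_iff f).mp hδ
  exact key f (fun j h => (hf' j h).exists)

end Groth.Agent.S6144
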