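import Groth.Statements.S6153
import Groth.Agent.H10.FreeOn
import Mathlib

set_option autoImplicit false
universe u
open CategoryTheory
open ModSite

namespace Groth.Agent.S6153

/-- Morphisms of ringed sites between small sites with commutative structure sheaves: for a morphism of
ringed sites f : (C, O_C) -> (D, O_D) given by a functor u : D -> C and every object X of D, the
inverse image f^*(A'_X) of the free O_D-module on X is isomorphic to the free O_C-module A_{u(X)} on
u(X). Existence of an isomorphism of modules only (the source's isomorphism is the canonical one). -/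
theorem result {C D : Type u} [SmallCategory C] [SmallCategory D] {J : GrothendieckTopology C}
    {K : GrothendieckTopology D} {O_C : Sheaf J CommRingCat.{u}} {O_D : Sheaf K CommRingCat.{u}}
    (f : ModSite.RMor O_C O_D) (X : D) :
    Nonempty (f.pull.obj (ModSite.freeOn O_D X) ≅ ModSite.freeOn O_C (f.fn.obj X)) := by
  let A : ModSite.Mod O_C := f.pull.obj (ModSite.freeOn O_D X)
  let u : ModSite.sect A (f.fn.obj X) :=
    Groth.Agent.H10.FreeOn.ev O_D X (f.push.obj A) (f.adj.unit.app (ModSite.freeOn O_D X))
  obtain ⟨a, ha⟩ := Groth.Agent.H10.FreeOn.ev_surjective O_C (f.fn.obj X) A u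
  have hiso : IsIso a := by
    rw [isIso_iff_coyoneda_map_bijective]
    intro F
    have hΦ : ∀ g : A ⟶ F, Groth.Agent.H10.FreeOn.ev O_C (f.fn.obj X) F (a ≫ g) =
        Groth.Agent.H10.FreeOn.ev O_D X (f.push.obj F) (f.adj.homEquiv _ _ g) := by
      intro g
      have h1 : f.adj.homEquiv _ _ g = f.adj.unit.app _ ≫ f.push.map g :=
        Adjunction.homEquiv_unit _ _ _ _
      rw [Groth.Agent.H10.FreeOn.ev_comp, ha, h1, Groth.Agent.H10.FreeOn.ev_comp]
      rfl
    rw [← (Groth.Agent.H10.FreeOn.ev_bijective O_C (f.fn.obj X) F).of_comp_iff']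
    have hcomp : (Groth.Agent.H10.FreeOn.ev O_C (f.fn.obj X) F) ∘ (fun g : A ⟶ F => a ≫ g) =
        (Groth.Agent.H10.FreeOn.ev O_D X (f.push.obj F)) ∘ (f.adj.homEquiv _ _) := by
      funext g
      exact hΦ g
    rw [hcomp]
    exact (Groth.Agent.H10.FreeOn.ev_bijective O_D X _).comp (f.adj.homEquiv _ _).bijective
  exact ⟨(asIso a).symm⟩

end Groth.Agent.S6153
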