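import Groth.Statements.S6160
import Groth.Agent.H10.SheafModGA
import Mathlib

set_option autoImplicit false
universe u
open CategoryTheory
open ModSite

namespace Groth.Agent.S6160

open CategoryTheory.Limits in
/-- Ringed topos of sheaves on a small site; u : A -> B a morphism of sheaves of rings: the
restriction-of-scalars functor from B-Modules to A-Modules commutes with all u-small limits and
colimits and is conservative. -/
theorem result {C : Type u} [SmallCategory C]
    {J : GrothendieckTopology C} {A B : Sheaf J RingCat.{u}} (φ : A ⟶ B) :
    PreservesLimitsOfSize.{u, u} (SheafOfModules.restrictScalars.{u} φ) ∧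
    PreservesColimitsOfSize.{u, u} (SheafOfModules.restrictScalars.{u} φ) ∧
    (SheafOfModules.restrictScalars.{u} φ).ReflectsIsomorphisms := by
  have e : SheafOfModules.restrictScalars.{u} φ ⋙ SheafOfModules.toSheaf.{u} A ≅
      SheafOfModules.toSheaf.{u} B := Iso.refl _
  have e' : SheafOfModules.restrictScalars.{u} φ ⋙
      (SheafOfModules.forget.{u} A ⋙ PresheafOfModules.toPresheaf A.obj) ≅
      SheafOfModules.forget.{u} B ⋙ PresheafOfModules.toPresheaf B.obj := Iso.refl _
  refine ⟨?_, ?_, ?_⟩
  · constructor
    intro K _
    constructor
    intro F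
    haveI : PreservesLimit F (SheafOfModules.restrictScalars.{u} φ ⋙
        (SheafOfModules.forget.{u} A ⋙ PresheafOfModules.toPresheaf A.obj)) :=
      preservesLimit_of_natIso F e'.symm
    haveI : ReflectsLimit (F ⋙ SheafOfModules.restrictScalars.{u} φ)
        (SheafOfModules.forget.{u} A ⋙ PresheafOfModules.toPresheaf A.obj) :=
      reflectsLimit_of_reflectsIsomorphisms _ _
    exact preservesLimit_of_reflects_of_preserves (SheafOfModules.restrictScalars.{u} φ)
      (SheafOfModules.forget.{u} A ⋙ PresheafOfModules.toPresheaf A.obj)
  · constructor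
    intro K _
    constructor
    intro F
    haveI : PreservesColimit F (SheafOfModules.toSheaf.{u} B) :=
      Groth.Agent.H10.SheafModGA.toSheaf_preservesColimit B F
    haveI : PreservesColimit (F ⋙ SheafOfModules.restrictScalars.{u} φ)
        (SheafOfModules.toSheaf.{u} A) :=
      Groth.Agent.H10.SheafModGA.toSheaf_preservesColimit A _
    haveI : PreservesColimit F (SheafOfModules.restrictScalars.{u} φ ⋙
        SheafOfModules.toSheaf.{u} A) :=
      preservesColimit_of_natIso F e.symm
    haveI : ReflectsColimit (F ⋙ SheafOfModules.restrictScalars.{u} φ)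
        (SheafOfModules.toSheaf.{u} A) :=
      reflectsColimit_of_reflectsIsomorphisms _ _
    exact preservesColimit_of_reflects_of_preserves (SheafOfModules.restrictScalars.{u} φ)
      (SheafOfModules.toSheaf.{u} A)
  · constructor
    intro M N f hf
    have h1 : IsIso ((SheafOfModules.restrictScalars.{u} φ ⋙ SheafOfModules.toSheaf.{u} A).map f) := by
      show IsIso ((SheafOfModules.toSheaf.{u} A).map ((SheafOfModules.restrictScalars.{u} φ).map f))
      infer_instance
    have h2 : IsIso ((SheafOfModules.toSheaf.{u} B).map f) := (NatIso.isIso_map_iff e f).mp h1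
    exact isIso_of_reflects_iso f (SheafOfModules.toSheaf.{u} B)

end Groth.Agent.S6160
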