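import Groth.Statements.S6172
import Mathlib

set_option autoImplicit false
universe u
open CategoryTheory
open SGA4

namespace Groth.Agent.S6172

open CategoryTheory.Limits MonoidalCategory in
/-- Topos E of sheaves of sets on a small site, localised at an object Z: with j_Z : E/Z -> E the
localisation morphism, j_Z^* X = Z x X over Z, and j_{Z*} its right adjoint (taken as an instance
hypothesis, which holds in any topos), j_{Z*} j_Z^* Y is isomorphic to the internal hom Hom(Z, Y)
for every object Y. Existence of an isomorphism only (the source's is canonical). -/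
theorem result {C : Type u} [SmallCategory C] (J : GrothendieckTopology C)
    (Z Y : Sheaf J (Type u)) [(Over.star Z).IsLeftAdjoint] :
    Nonempty (((Over.star Z).rightAdjoint).obj ((Over.star Z).obj Y) ≅ (ihom Z).obj Y) := by
  let adjL : Over.star Z ⋙ Over.forget Z ⊣ Over.star Z ⋙ (Over.star Z).rightAdjoint :=
    (Adjunction.ofIsLeftAdjoint (Over.star Z)).comp (Over.forgetAdjStar Z)
  let e : ∀ X : Sheaf J (Type u), Z ⊗ X ≅ Z ⨯ X := fun X =>
    (CartesianMonoidalCategory.tensorProductIsBinaryProduct Z X).conePointUniqueUpToIso
      (limit.isLimit (pair Z X))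
  have e1 : ∀ X, (e X).hom ≫ prod.fst = CartesianMonoidalCategory.fst Z X := fun X =>
    IsLimit.conePointUniqueUpToIso_hom_comp
      (CartesianMonoidalCategory.tensorProductIsBinaryProduct Z X) (limit.isLimit (pair Z X))
      ⟨WalkingPair.left⟩
  have e2 : ∀ X, (e X).hom ≫ prod.snd = CartesianMonoidalCategory.snd Z X := fun X =>
    IsLimit.conePointUniqueUpToIso_hom_comp
      (CartesianMonoidalCategory.tensorProductIsBinaryProduct Z X) (limit.isLimit (pair Z X))
      ⟨WalkingPair.right⟩
  let iso : tensorLeft Z ≅ Over.star Z ⋙ Over.forget Z :=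
    NatIso.ofComponents e (by
      intro X X' f
      show (Z ◁ f) ≫ (e X').hom = (e X).hom ≫ prod.map (𝟙 Z) f
      apply Limits.prod.hom_ext
      · rw [Category.assoc, e1, Category.assoc, prod.map_fst, Category.comp_id, e1]
        exact CartesianMonoidalCategory.whiskerLeft_fst Z f
      · rw [Category.assoc, e2, Category.assoc, prod.map_snd, ← Category.assoc, e2]
        exact CartesianMonoidalCategory.whiskerLeft_snd Z f)
  exact ⟨((adjL.ofNatIsoLeft iso.symm).rightAdjointUniq (ihom.adjunction Z)).app Y⟩

end Groth.Agent.S6172
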