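import Groth.Statements.S6173
import Mathlib

set_option autoImplicit false
universe u
open CategoryTheory
open SGA4

namespace Groth.Agent.S6173

/-- Second assertion (topos of sheaves on a small site (C, J); E/X_i the induced topoi, modelled by the
sites (C/X_i, J/X_i); 'enough points' = a small conservative family of points, equivalently all
fibre functors together are conservative): if (X_i) is a family of objects covering the final object
and every E/X_i has enough points, then E has enough points. (The first assertion, that E/X inherits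
enough points from E, is Mathlib's instance.) -/
theorem result {C : Type u} [SmallCategory C] (J : GrothendieckTopology C) {ι : Type u}
    (X : ι → C) (hX : J.CoversTop X) (h : ∀ i, GrothendieckTopology.HasEnoughPoints.{u} (J.over (X i))) :
    GrothendieckTopology.HasEnoughPoints.{u} J := by
  classical
  choose P hPs hPc using fun i =>
    GrothendieckTopology.HasEnoughPoints.exists_objectProperty.{u} (J.over (X i))
  haveI : ∀ i, ObjectProperty.Small.{u} (P i) := hPs
  refine ⟨⟨ObjectProperty.ofObj (fun (ψ : Σ i, (P i).FullSubcategory) =>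
      ψ.2.obj.map (Over.forget (X ψ.1)) J), inferInstance, ?_⟩⟩
  refine ObjectProperty.IsConservativeFamilyOfPoints.mk' (fun Y S hS => ?_)
  refine J.transitive (hX Y) S (fun W f hf => ?_)
  obtain ⟨i, ⟨g⟩⟩ := hf
  have key : (Sieve.overEquiv (Over.mk g)).symm (S.pullback f) ∈ J.over (X i) (Over.mk g) := by
    obtain ⟨κ, Z, k, hk⟩ :=
      ((Sieve.overEquiv (Over.mk g)).symm (S.pullback f)).exists_eq_ofArrows
    rw [hk, (hPc i).jointly_reflect_ofArrows_mem_of_small]
    intro Ψ z
    have hΦ : ObjectProperty.ofObj (fun (ψ : Σ i, (P i).FullSubcategory) =>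
        ψ.2.obj.map (Over.forget (X ψ.1)) J) (Ψ.obj.map (Over.forget (X i)) J) :=
      ⟨(⟨i, Ψ⟩ : Σ i, (P i).FullSubcategory)⟩
    obtain ⟨Y', g', hg', y, hy⟩ := hS ⟨_, hΦ⟩
      (GrothendieckTopology.Point.ofIsCofiltered.fiberMk
        (p := CategoryOfElements.π Ψ.obj.fiber ⋙ Over.forget (X i))
        (U := Ψ.obj.fiber.elementsMk (Over.mk g) z) f)
    obtain ⟨v, a, rfl⟩ := GrothendieckTopology.Point.ofIsCofiltered.fiberMk_jointly_surjective y
    have hy' : GrothendieckTopology.Point.ofIsCofiltered.fiberMk.{u}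
        (p := CategoryOfElements.π Ψ.obj.fiber ⋙ Over.forget (X i)) (a ≫ g') =
        GrothendieckTopology.Point.ofIsCofiltered.fiberMk.{u}
        (p := CategoryOfElements.π Ψ.obj.fiber ⋙ Over.forget (X i))
        (U := Ψ.obj.fiber.elementsMk (Over.mk g) z) f := by
      rw [← GrothendieckTopology.Point.ofIsCofiltered.fiber_map_fiberMk]
      exact hy
    let u₀ : Ψ.obj.fiber.Elements := Ψ.obj.fiber.elementsMk (Over.mk g) z
    let q₁ : IsCofiltered.min u₀ v ⟶ u₀ := IsCofiltered.minToLeft u₀ v
    let q₂ : IsCofiltered.min u₀ v ⟶ v := IsCofiltered.minToRight u₀ v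
    have e1 : GrothendieckTopology.Point.ofIsCofiltered.fiberMk.{u}
        ((CategoryOfElements.π Ψ.obj.fiber ⋙ Over.forget (X i)).map q₁ ≫ f) =
        GrothendieckTopology.Point.ofIsCofiltered.fiberMk.{u}
        ((CategoryOfElements.π Ψ.obj.fiber ⋙ Over.forget (X i)).map q₂ ≫ (a ≫ g')) := by
      rw [GrothendieckTopology.Point.ofIsCofiltered.fiberMk_map_comp,
        GrothendieckTopology.Point.ofIsCofiltered.fiberMk_map_comp]
      exact hy'.symm
    obtain ⟨w', r, hr⟩ :=
      GrothendieckTopology.Point.ofIsCofiltered.exists_of_fiberMk_eq_fiberMk e1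
    have hmem : ((Sieve.overEquiv (Over.mk g)).symm (S.pullback f)).arrows (r ≫ q₁).1 := by
      rw [Sieve.overEquiv_symm_iff]
      show S.arrows ((r ≫ q₁).1.left ≫ f)
      have e2 : (r ≫ q₁).1.left ≫ f =
          ((CategoryOfElements.π Ψ.obj.fiber ⋙ Over.forget (X i)).map r ≫
            (CategoryOfElements.π Ψ.obj.fiber ⋙ Over.forget (X i)).map q₂ ≫ a) ≫ g' := by
        rw [Category.assoc, Category.assoc, ← hr, ← Category.assoc]
        rfl
      rw [e2]
      exact S.downward_closed hg' _
    rw [hk, Sieve.mem_ofArrows_iff] at hmem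
    obtain ⟨j, b, hb⟩ := hmem
    refine ⟨j, Ψ.obj.fiber.map b w'.2, ?_⟩
    rw [← Functor.map_comp_apply, ← hb]
    exact (r ≫ q₁).2
  have h2 := (GrothendieckTopology.mem_over_iff J _).1 key
  rwa [OrderIso.apply_symm_apply] at h2

end Groth.Agent.S6173
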