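import Groth.Statements.S6174
import Mathlib
import Groth.Agent.S16019

set_option autoImplicit false
universe u
open CategoryTheory
open CohSite

namespace Groth.Agent.S6174

section helpers

open CategoryTheory CategoryTheory.Limits Opposite AlgebraicTopology Simplicial
  CategoryTheory.Abelian
open Groth.Agent.S0859 (hom_congr_apply res_comp nat_res PD Yc pr cochain_ext cochain_mk KK dK
  d0_pr G2 Qf wh cmap cmapS_pr_apply tr)
open Groth.Agent.S0941 (toH0 toH0_nat toH0_bij shift E1_abs Kf)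
open Groth.Agent.S16023 (cechSES)

variable {C : Type u} [SmallCategory C] [HasPullbacks C] {X : C} {ι : Type u} (Y : ι → Over X)

/-- the sieve generated by the family -/
abbrev RR : Sieve X := Sieve.ofArrows (fun i => (Y i).left) (fun i => (Y i).hom)

/-- the free abelian presheaf on the sieve -/
noncomputable abbrev P0 : Cᵒᵖ ⥤ AddCommGrpCat.{u} := (RR Y).functor ⋙ AddCommGrpCat.free.{u}

theorem mem_of_map (Z : Over X) (i : ι) (m : Z ⟶ Y i) : (RR Y) Z.hom := by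
  have h : Z.hom = m.left ≫ (Y i).hom := (Over.w m).symm
  rw [h]
  exact (RR Y).downward_closed (Sieve.ofArrows_mk _ _ i) m.left

theorem mem_PD (n : ℕ) (x : Fin (n + 1) → ι) : (RR Y) (PD Y n x).hom :=
  mem_of_map Y (PD Y n x) (x 0) (Limits.Pi.π (Y ∘ x) 0)

/-- the generator attached to an object over `X` whose structure map lies in the sieve -/
noncomputable def gz (Z : Over X) (h : (RR Y) Z.hom) : (P0 Y).obj (op Z.left) :=
  FreeAbelianGroup.of (⟨Z.hom, h⟩ : (RR Y).functor.obj (op Z.left))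

theorem P0_map_gz {Z Z' : Over X} (m : Z ⟶ Z') (h : (RR Y) Z.hom) (h' : (RR Y) Z'.hom) :
    ((P0 Y).map m.left.op).hom (gz Y Z' h') = gz Y Z h := by
  show FreeAbelianGroup.map ((RR Y).functor.map m.left.op) (FreeAbelianGroup.of _) = _
  rw [FreeAbelianGroup.map_of_apply]
  exact congrArg FreeAbelianGroup.of (Subtype.ext (Over.w m))

theorem gen_map (N : Cᵒᵖ ⥤ AddCommGrpCat.{u}) (ψ : P0 Y ⟶ N) {Z Z' : Over X} (m : Z ⟶ Z')
    (h : (RR Y) Z.hom) (h' : (RR Y) Z'.hom) :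
    (N.map m.left.op).hom ((ψ.app (op Z'.left)).hom (gz Y Z' h')) =
      (ψ.app (op Z.left)).hom (gz Y Z h) :=
  (nat_res ψ m.left (gz Y Z' h')).symm.trans
    (congrArg (ψ.app (op Z.left)).hom (P0_map_gz Y m h h'))

/-- the zero-cochain attached to a map out of the free presheaf on the sieve -/
noncomputable def ev (N : Cᵒᵖ ⥤ AddCommGrpCat.{u}) (ψ : P0 Y ⟶ N) : (Yc Y (Qf N)).obj ⦋0⦌ :=
  (cochain_mk Y (Qf N) 0
    (fun y => (ψ.app (op (PD Y 0 y).left)).hom (gz Y (PD Y 0 y) (mem_PD Y 0 y)))).choose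

theorem ev_pr (N : Cᵒᵖ ⥤ AddCommGrpCat.{u}) (ψ : P0 Y ⟶ N) (y : Fin (0 + 1) → ι) :
    (pr Y (Qf N) 0 y).hom (ev Y N ψ) =
      (ψ.app (op (PD Y 0 y).left)).hom (gz Y (PD Y 0 y) (mem_PD Y 0 y)) :=
  (cochain_mk Y (Qf N) 0
    (fun y => (ψ.app (op (PD Y 0 y).left)).hom (gz Y (PD Y 0 y) (mem_PD Y 0 y)))).choose_spec y

theorem ev_d (N : Cᵒᵖ ⥤ AddCommGrpCat.{u}) (ψ : P0 Y ⟶ N) :
    (dK Y (Qf N) 0).hom (ev Y N ψ) = 0 := by
  apply cochain_ext Y (Qf N) (0 + 1)
  intro x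
  have hd : (pr Y (Qf N) (0 + 1) x).hom ((dK Y (Qf N) 0).hom (ev Y N ψ)) =
      ((Qf N).map (tr Y (SimplexCategory.δ (0 : Fin (0 + 2))) x).op).hom
          ((pr Y (Qf N) 0 (x ∘ (SimplexCategory.δ (0 : Fin (0 + 2))).toOrderHom)).hom
            (ev Y N ψ)) -
        ((Qf N).map (tr Y (SimplexCategory.δ (1 : Fin (0 + 2))) x).op).hom
          ((pr Y (Qf N) 0 (x ∘ (SimplexCategory.δ (1 : Fin (0 + 2))).toOrderHom)).hom
            (ev Y N ψ)) :=
    hom_congr_apply (d0_pr Y (Qf N) x) (ev Y N ψ)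
  have e0 : ((Qf N).map (tr Y (SimplexCategory.δ (0 : Fin (0 + 2))) x).op).hom
          ((pr Y (Qf N) 0 (x ∘ (SimplexCategory.δ (0 : Fin (0 + 2))).toOrderHom)).hom
            (ev Y N ψ)) =
      (ψ.app (op (PD Y (0 + 1) x).left)).hom (gz Y (PD Y (0 + 1) x) (mem_PD Y (0 + 1) x)) :=
    (congrArg ((Qf N).map (tr Y (SimplexCategory.δ (0 : Fin (0 + 2))) x).op).hom
      (ev_pr Y N ψ _)).trans
      (gen_map Y N ψ (tr Y (SimplexCategory.δ (0 : Fin (0 + 2))) x) _ _)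
  have e1 : ((Qf N).map (tr Y (SimplexCategory.δ (1 : Fin (0 + 2))) x).op).hom
          ((pr Y (Qf N) 0 (x ∘ (SimplexCategory.δ (1 : Fin (0 + 2))).toOrderHom)).hom
            (ev Y N ψ)) =
      (ψ.app (op (PD Y (0 + 1) x).left)).hom (gz Y (PD Y (0 + 1) x) (mem_PD Y (0 + 1) x)) :=
    (congrArg ((Qf N).map (tr Y (SimplexCategory.δ (1 : Fin (0 + 2))) x).op).hom
      (ev_pr Y N ψ _)).trans
      (gen_map Y N ψ (tr Y (SimplexCategory.δ (1 : Fin (0 + 2))) x) _ _)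
  exact hd.trans ((congrArg₂ (fun a b => a - b) e0 e1).trans
    ((sub_self _).trans (map_zero _).symm))

theorem ev_add (N : Cᵒᵖ ⥤ AddCommGrpCat.{u}) (ψ ψ' : P0 Y ⟶ N) :
    ev Y N (ψ + ψ') = ev Y N ψ + ev Y N ψ' := by
  apply cochain_ext Y (Qf N) 0
  intro y
  rw [map_add, ev_pr, ev_pr, ev_pr]
  rfl

theorem ev_inj (N : Cᵒᵖ ⥤ AddCommGrpCat.{u}) (ψ : P0 Y ⟶ N) (h : ev Y N ψ = 0) : ψ = 0 := by
  apply NatTrans.ext
  funext W
  apply AddCommGrpCat.hom_ext
  apply FreeAbelianGroup.lift_ext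
  rintro ⟨b, hb⟩
  obtain ⟨i, g, hg⟩ := (Sieve.mem_ofArrows_iff _ _ b).mp hb
  let y : Fin (0 + 1) → ι := fun _ => i
  let Z : Over X := Over.mk b
  let m : Z ⟶ PD Y 0 y := Limits.Pi.lift (fun _ => Over.homMk g hg.symm)
  have e1 := gen_map Y N ψ m hb (mem_PD Y 0 y)
  have e2 : (ψ.app (op (PD Y 0 y).left)).hom (gz Y (PD Y 0 y) (mem_PD Y 0 y)) = 0 :=
    (ev_pr Y N ψ y).symm.trans ((congrArg (pr Y (Qf N) 0 y).hom h).trans (map_zero _))
  rw [e2, map_zero] at e1
  exact e1.symm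

section lift

variable (N : Cᵒᵖ ⥤ AddCommGrpCat.{u}) (t : (Yc Y (Qf N)).obj ⦋0⦌)

/-- chosen index -/
noncomputable def ci {W : C} (r : (RR Y).functor.obj (op W)) : ι :=
  ((Sieve.mem_ofArrows_iff _ _ r.1).mp r.2).choose

/-- chosen factorization -/
noncomputable def cg {W : C} (r : (RR Y).functor.obj (op W)) : W ⟶ (Y (ci Y r)).left :=
  ((Sieve.mem_ofArrows_iff _ _ r.1).mp r.2).choose_spec.choose

theorem cg_spec {W : C} (r : (RR Y).functor.obj (op W)) : r.1 = cg Y r ≫ (Y (ci Y r)).hom :=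
  ((Sieve.mem_ofArrows_iff _ _ r.1).mp r.2).choose_spec.choose_spec

/-- chosen map to the one-fold product -/
noncomputable def cm {W : C} (r : (RR Y).functor.obj (op W)) :
    Over.mk r.1 ⟶ PD Y 0 (fun _ => ci Y r) :=
  Limits.Pi.lift (fun _ => Over.homMk (cg Y r) (cg_spec Y r).symm)

/-- the compatible family attached to a cocycle -/
noncomputable def theta (W : C) (r : (RR Y).functor.obj (op W)) : N.obj (op W) :=
  ((Qf N).map (cm Y r).op).hom ((pr Y (Qf N) 0 (fun _ => ci Y r)).hom t)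

theorem theta_eq (ht : (dK Y (Qf N) 0).hom t = 0) (W : C) (r : (RR Y).functor.obj (op W))
    (y : Fin (0 + 1) → ι) (m : Over.mk r.1 ⟶ PD Y 0 y) :
    theta Y N t W r = ((Qf N).map m.op).hom ((pr Y (Qf N) 0 y).hom t) :=
  G2 Y (Qf N) t ht _ y (cm Y r) m

theorem theta_nat (ht : (dK Y (Qf N) 0).hom t = 0) {W W' : C} (f : W' ⟶ W)
    (r : (RR Y).functor.obj (op W)) :
    theta Y N t W' ((RR Y).functor.map f.op r) = (N.map f.op).hom (theta Y N t W r) := by
  let h : Over.mk ((RR Y).functor.map f.op r).1 ⟶ Over.mk r.1 := Over.homMk f rfl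
  have e1 := theta_eq Y N t ht W' ((RR Y).functor.map f.op r) _ (h ≫ cm Y r)
  rw [e1]
  have e2 : (Qf N).map (h ≫ cm Y r).op = (Qf N).map (cm Y r).op ≫ (Qf N).map h.op := by
    rw [op_comp, Functor.map_comp]
  rw [e2]
  rfl

/-- the map out of the free presheaf attached to a cocycle -/
noncomputable def psi (ht : (dK Y (Qf N) 0).hom t = 0) : P0 Y ⟶ N where
  app W := AddCommGrpCat.ofHom (FreeAbelianGroup.lift (theta Y N t W.unop))
  naturality W W' f := by
    apply AddCommGrpCat.hom_ext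
    apply FreeAbelianGroup.lift_ext
    intro r
    show FreeAbelianGroup.lift (theta Y N t W'.unop)
      (FreeAbelianGroup.map ((RR Y).functor.map f) (FreeAbelianGroup.of r)) =
      (N.map f).hom (FreeAbelianGroup.lift (theta Y N t W.unop) (FreeAbelianGroup.of r))
    rw [FreeAbelianGroup.map_of_apply, FreeAbelianGroup.lift_apply_of,
      FreeAbelianGroup.lift_apply_of]
    exact theta_nat Y N t ht f.unop r

theorem ev_psi (ht : (dK Y (Qf N) 0).hom t = 0) : ev Y N (psi Y N t ht) = t := by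
  apply cochain_ext Y (Qf N) 0
  intro y
  rw [ev_pr]
  show FreeAbelianGroup.lift (theta Y N t (PD Y 0 y).left)
    (FreeAbelianGroup.of ⟨(PD Y 0 y).hom, mem_PD Y 0 y⟩) = _
  rw [FreeAbelianGroup.lift_apply_of]
  have e1 := theta_eq Y N t ht (PD Y 0 y).left ⟨(PD Y 0 y).hom, mem_PD Y 0 y⟩ y
    (Over.homMk (𝟙 _) (Category.id_comp _))
  rw [e1]
  show (N.map (𝟙 (PD Y 0 y).left).op).hom _ = _
  rw [op_id, N.map_id]
  rfl

end lift

section sheaf

/-- the free abelian sheaf (for the trivial topology) on the sieve -/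
noncomputable abbrev GG : Sheaf (⊥ : GrothendieckTopology C) AddCommGrpCat.{u} :=
  (presheafToSheaf (⊥ : GrothendieckTopology C) AddCommGrpCat.{u}).obj (P0 Y)

noncomputable def epsFun (F : Sheaf (⊥ : GrothendieckTopology C) AddCommGrpCat.{u})
    (φ : GG Y ⟶ F) : (Yc Y (Qf F.obj)).obj ⦋0⦌ :=
  ev Y F.obj (toSheafify (⊥ : GrothendieckTopology C) (P0 Y) ≫ φ.hom)

theorem epsFun_add (F : Sheaf (⊥ : GrothendieckTopology C) AddCommGrpCat.{u})
    (φ φ' : GG Y ⟶ F) : epsFun Y F (φ + φ') = epsFun Y F φ + epsFun Y F φ' := by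
  have h : toSheafify (⊥ : GrothendieckTopology C) (P0 Y) ≫ (φ + φ').hom =
      toSheafify (⊥ : GrothendieckTopology C) (P0 Y) ≫ φ.hom +
        toSheafify (⊥ : GrothendieckTopology C) (P0 Y) ≫ φ'.hom :=
    Preadditive.comp_add _ _ _ _ _ _
  show ev Y F.obj _ = _
  rw [h]
  exact ev_add Y F.obj _ _

noncomputable def epsS (F : Sheaf (⊥ : GrothendieckTopology C) AddCommGrpCat.{u}) :
    AddCommGrpCat.of (GG Y ⟶ F) ⟶ (KK Y (Qf F.obj)).X 0 :=
  AddCommGrpCat.ofHom (AddMonoidHom.mk' (epsFun Y F) (epsFun_add Y F))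

theorem epsS_d (F : Sheaf (⊥ : GrothendieckTopology C) AddCommGrpCat.{u}) :
    epsS Y F ≫ (KK Y (Qf F.obj)).d 0 1 = 0 := by
  apply AddCommGrpCat.hom_ext
  apply AddMonoidHom.ext
  intro φ
  exact ev_d Y F.obj _

theorem epsS_inj (F : Sheaf (⊥ : GrothendieckTopology C) AddCommGrpCat.{u}) :
    Function.Injective (epsS Y F).hom := by
  apply (injective_iff_map_eq_zero _).mpr
  intro φ hφ
  have h1 : toSheafify (⊥ : GrothendieckTopology C) (P0 Y) ≫ φ.hom = 0 :=
    ev_inj Y F.obj _ hφ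
  have h2 : φ.hom = 0 :=
    sheafify_hom_ext (⊥ : GrothendieckTopology C) φ.hom 0 F.2 (h1.trans comp_zero.symm)
  exact (sheafToPresheaf (⊥ : GrothendieckTopology C) AddCommGrpCat.{u}).map_injective h2

theorem epsS_surj (F : Sheaf (⊥ : GrothendieckTopology C) AddCommGrpCat.{u})
    (t : (KK Y (Qf F.obj)).X 0) (ht : ((KK Y (Qf F.obj)).d 0 1).hom t = 0) :
    ∃ φ, (epsS Y F).hom φ = t := by
  refine ⟨⟨sheafifyLift (⊥ : GrothendieckTopology C) (psi Y F.obj t ht) F.2⟩, ?_⟩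
  show ev Y F.obj (toSheafify (⊥ : GrothendieckTopology C) (P0 Y) ≫
    sheafifyLift (⊥ : GrothendieckTopology C) (psi Y F.obj t ht) F.2) = t
  rw [toSheafify_sheafifyLift]
  exact ev_psi Y F.obj t ht

theorem epsS_nat {F F' : Sheaf (⊥ : GrothendieckTopology C) AddCommGrpCat.{u}} (a : F ⟶ F') :
    epsS Y F ≫ ((Kf (⊥ : GrothendieckTopology C) Y).map a).f 0 =
      AddCommGrpCat.ofHom (Preadditive.rightComp (GG Y) a) ≫ epsS Y F' := by
  apply AddCommGrpCat.hom_ext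
  apply AddMonoidHom.ext
  intro φ
  apply cochain_ext Y (Qf F'.obj) 0
  intro y
  have e1 : (pr Y (Qf F'.obj) 0 y).hom ((cmap Y (wh a.hom) 0).hom (epsFun Y F φ)) =
      (a.hom.app (op (PD Y 0 y).left)).hom ((pr Y (Qf F.obj) 0 y).hom (epsFun Y F φ)) :=
    cmapS_pr_apply Y a.hom 0 y _
  have e2 : (pr Y (Qf F'.obj) 0 y).hom (epsFun Y F' (φ ≫ a)) = _ := ev_pr Y F'.obj _ y
  have e3 : (pr Y (Qf F.obj) 0 y).hom (epsFun Y F φ) = _ := ev_pr Y F.obj _ y
  exact e1.trans ((congrArg (a.hom.app (op (PD Y 0 y).left)).hom e3).trans e2.symm)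

theorem main (M : Cᵒᵖ ⥤ AddCommGrpCat.{u}) (q : ℕ) :
    Nonempty (CohCx.cechH M Y q ≅ AddCommGrpCat.of
      (CohCx.HK (J := (⊥ : GrothendieckTopology C))
        ⟨(Sieve.ofArrows (fun i => (Y i).left) (fun i => (Y i).hom)).functor,
          Presheaf.isSheaf_bot _⟩ ⟨M, Presheaf.isSheaf_bot _⟩ q)) := by
  haveI : (sheafToPresheaf (⊥ : GrothendieckTopology C) AddCommGrpCat.{u}).IsEquivalence :=
    (sheafBotEquivalence AddCommGrpCat.{u}).isEquivalence_functor
  have hbij : ∀ F : Sheaf (⊥ : GrothendieckTopology C) AddCommGrpCat.{u},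
      Function.Bijective (toH0 (KK Y (Qf F.obj)) (epsS Y F) (epsS_d Y F)) := fun F =>
    toH0_bij _ _ _ (epsS_inj Y F) (fun t ht => epsS_surj Y F t ht)
  obtain ⟨e⟩ : Nonempty (((Kf (⊥ : GrothendieckTopology C) Y).obj
      ⟨M, Presheaf.isSheaf_bot _⟩).homology q ≃+
      Ext.{u} (GG Y) (⟨M, Presheaf.isSheaf_bot _⟩ :
        Sheaf (⊥ : GrothendieckTopology C) AddCommGrpCat.{u}) q) := by
    refine shift (Kf (⊥ : GrothendieckTopology C) Y) (GG Y) (fun _ => True) ?_ ?_ ?_ ?_ ?_ q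
      ⟨M, Presheaf.isSheaf_bot _⟩ trivial
    · intro S hS _
      have hT : (S.map (sheafToPresheaf (⊥ : GrothendieckTopology C)
          AddCommGrpCat.{u})).ShortExact := hS.map_of_exact _
      exact ⟨Groth.Agent.S0941.Kzero Y S, cechSES Y _ hT⟩
    · intro S hS _ _
      trivial
    · intro I hI n
      haveI := hI
      exact Groth.Agent.S0858.main (⊥ : GrothendieckTopology C) I Y n
    · intro F _
      exact ⟨(AddEquiv.ofBijective _ (hbij F)).symm.trans Ext.addEquiv₀.symm⟩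
    · intro S hS _ hI hz hK
      haveI := hI
      exact E1_abs (Kf (⊥ : GrothendieckTopology C) Y) (GG Y) S hS hI hz hK
        (Groth.Agent.S0858.main (⊥ : GrothendieckTopology C) S.X₂ Y 0)
        (fun φ : GG Y ⟶ S.X₂ => φ ≫ S.g)
        (fun φ => toH0 (KK Y (Qf S.X₂.obj)) (epsS Y S.X₂) (epsS_d Y S.X₂) φ)
        (toH0 (KK Y (Qf S.X₃.obj)) (epsS Y S.X₃) (epsS_d Y S.X₃))
        (hbij S.X₂).2 (hbij S.X₃)
        (fun φ => toH0_nat ((Kf (⊥ : GrothendieckTopology C) Y).map S.g)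
          (epsS Y S.X₂) (epsS_d Y S.X₂) (epsS Y S.X₃) (epsS_d Y S.X₃)
          (AddCommGrpCat.ofHom (Preadditive.rightComp (GG Y) S.g)) (epsS_nat Y S.g) φ)
        (Equiv.refl _) (AddEquiv.refl _)
        (fun φ => rfl)
  exact ⟨AddEquiv.toAddCommGrpIso (Y := AddCommGrpCat.of _) e⟩

end sheaf

end helpers

open CategoryTheory.Limits in
/-- C a small category with fibre products; presheaves are the sheaves for the trivial topology: for a
presheaf of abelian groups M, a family of arrows (U_i -> X) and the sieve R it generates, viewed as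
a sub-presheaf of h_X, the Cech cohomology group H^q((U_i -> X), M) is isomorphic to H^q(R, M), the
q-th Ext group out of the free abelian presheaf on R. Existence of an isomorphism only (the source's
is canonical). -/
theorem result {C : Type u} [SmallCategory C] [HasPullbacks C]
    (M : Cᵒᵖ ⥤ AddCommGrpCat.{u}) {X : C} {ι : Type u} (Y : ι → Over X) (q : ℕ) :
    Nonempty (CohCx.cechH M Y q ≅ AddCommGrpCat.of (CohCx.HK (J := (⊥ : GrothendieckTopology C))
      ⟨(Sieve.ofArrows (fun i => (Y i).left) (fun i => (Y i).hom)).functor, Presheaf.isSheaf_bot _⟩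
      ⟨M, Presheaf.isSheaf_bot _⟩ q)) := by
  exact Groth.Agent.S6174.main Y M q

end Groth.Agent.S6174
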