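import Groth.Statements.S6176
import Mathlib

set_option autoImplicit false
universe u
open CategoryTheory
open SGA4

namespace Groth.Agent.S6176

open CategoryTheory.Limits in
/-- The clause on products (topos of sheaves of sets on a small site; j : E/U -> E the open embedding
defined by an open U, i.e. a subobject of the final object, so that j_! is the forgetful functor
from objects over U): j_! commutes with products indexed by a nonempty u-small set. (Commutation
with fibre products and cofiltered limits, the other clauses, holds for the forgetful functor of any
slice.) -/
theorem result {C : Type u} [SmallCategory C] (J : GrothendieckTopology C)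
    (U : Sheaf J (Type u)) (hU : SGA4.IsOpen U) (I : Type u) [Nonempty I] :
    PreservesLimitsOfShape (Discrete I) (Over.forget U) := by
  have hsub : ∀ {W : Sheaf J (Type u)} (f g : W ⟶ U), f = g := by
    intro W f g
    have : Mono (terminal.from U) := hU
    rw [← cancel_mono (terminal.from U)]
    exact Subsingleton.elim _ _
  obtain ⟨i₀⟩ := ‹Nonempty I›
  refine ⟨fun {K} => ⟨fun {c} hc => ⟨?_⟩⟩⟩
  let mkCone : Cone (K ⋙ Over.forget U) → Cone K := fun s =>
    { pt := Over.mk (s.π.app ⟨i₀⟩ ≫ (K.obj ⟨i₀⟩).hom)
      π := { app := fun i => Over.homMk (s.π.app i) (hsub _ _)
             naturality := by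
               intro i j f
               apply Over.OverMorphism.ext
               simpa using s.π.naturality f } }
  refine
    { lift := fun s => (hc.lift (mkCone s)).left
      fac := fun s i => ?_
      uniq := fun s m hm => ?_ }
  · exact congrArg (fun t => t.left) (hc.fac (mkCone s) i)
  · have hm' : (Over.homMk m (hsub _ _) : (mkCone s).pt ⟶ c.pt) = hc.lift (mkCone s) := by
      apply hc.uniq (mkCone s)
      intro i
      apply Over.OverMorphism.ext
      exact hm i
    exact congrArg (fun t => t.left) hm'

end Groth.Agent.S6176
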