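import Groth.Statements.S6178
import Mathlib
import Groth.Agent.S0941

set_option autoImplicit false
universe u
open CategoryTheory
open CohSite

namespace Groth.Agent.S6178

section helpers

open CategoryTheory CategoryTheory.Limits Opposite CategoryTheory.Abelian
open Groth.Agent.S0859 (hom_congr_apply)
open Groth.Agent.S0941 (lift_of_ext1 ext_vanish_coker)
open Groth.Agent.H10.Acyc (postcomp_extClass_bijective postcomp_extClass_surjective)
open Groth.Agent.H10.CohSiteA (freeFunctor freeAdj secEquiv secEquiv_comp)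

section abs

variable {A : Type (u + 1)} [Category.{u} A] [Abelian A] [HasExt.{u} A]

theorem ext1_zero_of_lift (G : A) (S : ShortComplex A) (hS : S.ShortExact) (hI : Injective S.X₂)
    (h : ∀ φ : G ⟶ S.X₃, ∃ ψ : G ⟶ S.X₂, ψ ≫ S.g = φ) (x : Ext.{u} G S.X₁ 1) : x = 0 := by
  haveI := hI
  obtain ⟨z, rfl⟩ := postcomp_extClass_surjective G S hS
    (fun x => Ext.eq_zero_of_injective x) x
  obtain ⟨ψ, hψ⟩ := h (Ext.homEquiv₀ z)
  have hz : z = (Ext.mk₀ ψ).comp (Ext.mk₀ S.g) (zero_add 0) := by
    rw [Ext.mk₀_comp_mk₀, hψ, Ext.mk₀_homEquiv₀_apply]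
  show z.comp hS.extClass (rfl : 0 + 1 = 1) = 0
  rw [hz, Ext.comp_assoc _ _ _ (zero_add 0) (zero_add 1) (by lia), hS.comp_extClass,
    Ext.comp_zero]

theorem ext_succ_zero_of (G : A) (S : ShortComplex A) (hS : S.ShortExact) (hI : Injective S.X₂)
    (q : ℕ) (h : ∀ x : Ext.{u} G S.X₃ (q + 1), x = 0) (x : Ext.{u} G S.X₁ (q + 1 + 1)) :
    x = 0 := by
  haveI := hI
  obtain ⟨z, rfl⟩ := (postcomp_extClass_bijective G S hS
    (fun n x => Ext.eq_zero_of_injective x) q).2 x
  rw [h z, map_zero]

end abs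

variable {C : Type u} [SmallCategory C] (J : GrothendieckTopology C)

/-- underlying presheaf as a sheaf for the trivial topology -/
abbrev io (F : Sheaf J AddCommGrpCat.{u}) :
    Sheaf (⊥ : GrothendieckTopology C) AddCommGrpCat.{u} :=
  ⟨F.obj, Presheaf.isSheaf_bot _⟩

abbrev ioMap {F F' : Sheaf J AddCommGrpCat.{u}} (a : F ⟶ F') : io J F ⟶ io J F' := ⟨a.hom⟩

/-- free abelian presheaf on a sieve -/
noncomputable abbrev GR {X : C} (R : Sieve X) :
    Sheaf (⊥ : GrothendieckTopology C) AddCommGrpCat.{u} :=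
  (presheafToSheaf (⊥ : GrothendieckTopology C) AddCommGrpCat.{u}).obj
    (R.functor ⋙ AddCommGrpCat.free.{u})

/-- sections over `X` give maps out of the free presheaf on a sieve of `X` -/
noncomputable def rho {X : C} (R : Sieve X)
    (N : Sheaf (⊥ : GrothendieckTopology C) AddCommGrpCat.{u}) (s : N.obj.obj (op X)) :
    GR R ⟶ N :=
  ((freeAdj (⊥ : GrothendieckTopology C)).homEquiv R.functor N).symm
    (R.functorInclusion ≫ yonedaEquiv.symm s)

theorem rho_nat {X : C} (R : Sieve X)
    {N N' : Sheaf (⊥ : GrothendieckTopology C) AddCommGrpCat.{u}} (a : N ⟶ N')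
    (s : N.obj.obj (op X)) :
    rho R N s ≫ a = rho R N' ((a.hom.app (op X)).hom s) := by
  have h := ((freeAdj (⊥ : GrothendieckTopology C)).homEquiv_naturality_right_symm
    (R.functorInclusion ≫ yonedaEquiv.symm s) a).symm
  refine h.trans (congrArg _ ?_)
  rw [Category.assoc]
  congr 1
  apply yonedaEquiv.injective
  rw [yonedaEquiv_comp, Equiv.apply_symm_apply, Equiv.apply_symm_apply]
  rfl

theorem rho_bij (G : Sheaf J AddCommGrpCat.{u}) {X : C} (R : Sieve X) (hR : R ∈ J X) :
    Function.Bijective (rho R (io J G)) := by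
  have h1 : Presieve.IsSheaf J (G.obj ⋙ forget AddCommGrpCat.{u}) :=
    (isSheaf_iff_isSheaf_of_type J _).mp
      ((Presheaf.isSheaf_iff_isSheaf_forget J G.obj (forget AddCommGrpCat.{u})).mp G.property)
  have h2 : Presieve.YonedaSheafCondition (G.obj ⋙ forget AddCommGrpCat.{u}) R :=
    Presieve.isSheafFor_iff_yonedaSheafCondition.mp (h1 R hR)
  constructor
  · intro s s' h
    have h' := ((freeAdj (⊥ : GrothendieckTopology C)).homEquiv R.functor
      (io J G)).symm.injective h
    obtain ⟨g, -, hu⟩ := h2 (R.functorInclusion ≫ yonedaEquiv.symm s)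
    have e1 := hu (yonedaEquiv.symm s) rfl
    have e2 := hu (yonedaEquiv.symm s') h'.symm
    exact yonedaEquiv.symm.injective (e1.trans e2.symm)
  · intro φ
    obtain ⟨g, hg, -⟩ := h2 ((freeAdj (⊥ : GrothendieckTopology C)).homEquiv R.functor
      (io J G) φ)
    refine ⟨yonedaEquiv (F := G.obj ⋙ forget AddCommGrpCat.{u}) g, ?_⟩
    have e : R.functorInclusion ≫ yonedaEquiv.symm
        (yonedaEquiv (F := G.obj ⋙ forget AddCommGrpCat.{u}) g) =
        (freeAdj (⊥ : GrothendieckTopology C)).homEquiv R.functor (io J G) φ := by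
      rw [Equiv.symm_apply_apply]
      exact hg
    exact (congrArg ((freeAdj (⊥ : GrothendieckTopology C)).homEquiv R.functor
      (io J G)).symm e).trans (Equiv.symm_apply_apply _ _)

variable {J}

/-- the image of a short complex of sheaves in presheaves -/
abbrev ioS (S : ShortComplex (Sheaf J AddCommGrpCat.{u})) :
    ShortComplex (Sheaf (⊥ : GrothendieckTopology C) AddCommGrpCat.{u}) :=
  ShortComplex.mk (ioMap J S.f) (ioMap J S.g)
    ((sheafToPresheaf (⊥ : GrothendieckTopology C) AddCommGrpCat.{u}).map_injective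
      (congrArg (fun a => a.hom) S.zero))

theorem ioS_left (S : ShortComplex (Sheaf J AddCommGrpCat.{u})) (hS : S.ShortExact) :
    (ioS S).Exact ∧ Mono (ioS S).f := by
  haveI : (sheafToPresheaf (⊥ : GrothendieckTopology C) AddCommGrpCat.{u}).IsEquivalence :=
    (sheafBotEquivalence AddCommGrpCat.{u}).isEquivalence_functor
  obtain ⟨hex, hmono⟩ := ((Functor.preservesFiniteLimits_tfae
    (sheafToPresheaf J AddCommGrpCat.{u})).out 1 3 rfl rfl).mpr inferInstance S
      ⟨hS.exact, hS.mono_f⟩
  constructor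
  · exact (ShortComplex.exact_map_iff_of_faithful (ioS S)
      (sheafToPresheaf (⊥ : GrothendieckTopology C) AddCommGrpCat.{u})).mp hex
  · exact (sheafToPresheaf (⊥ : GrothendieckTopology C) AddCommGrpCat.{u}).mono_of_mono_map hmono

theorem ioS_epi (S : ShortComplex (Sheaf J AddCommGrpCat.{u}))
    (hsurj : ∀ X : C, Function.Surjective (S.g.hom.app (op X)).hom) : Epi (ioS S).g := by
  haveI : ∀ W : Cᵒᵖ, Epi (S.g.hom.app W) := fun W =>
    (AddCommGrpCat.epi_iff_surjective _).mpr (hsurj W.unop)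
  haveI : Epi S.g.hom := NatTrans.epi_of_epi_app _
  exact (sheafToPresheaf (⊥ : GrothendieckTopology C) AddCommGrpCat.{u}).epi_of_epi_map
    (show Epi ((sheafToPresheaf (⊥ : GrothendieckTopology C) AddCommGrpCat.{u}).map (ioS S).g)
      from ‹Epi S.g.hom›)

theorem io_injective (I : Sheaf J AddCommGrpCat.{u}) [Injective I] : Injective (io J I) :=
  Injective.injective_of_adjoint ((sheafBotEquivalence AddCommGrpCat.{u}).toAdjunction.comp
    (sheafificationAdjunction J AddCommGrpCat.{u})) I

theorem surj_of_ext1 (S : ShortComplex (Sheaf J AddCommGrpCat.{u})) (hS : S.ShortExact) (W : C)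
    (h : ∀ e : Ext.{u} ((freeFunctor J).obj W) S.X₁ 1, e = 0) :
    Function.Surjective (S.g.hom.app (op W)).hom := by
  intro t
  obtain ⟨ψ, hψ⟩ := lift_of_ext1 ((freeFunctor J).obj W) S hS h ((secEquiv J W S.X₃).symm t)
  refine ⟨secEquiv J W S.X₂ ψ, ?_⟩
  have e := secEquiv_comp J W ψ S.g
  rw [hψ, Equiv.apply_symm_apply] at e
  exact e.symm

theorem lift_B_of_surj (S : ShortComplex (Sheaf J AddCommGrpCat.{u})) {X : C} (R : Sieve X)
    (hR : R ∈ J X) (hsurj : Function.Surjective (S.g.hom.app (op X)).hom)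
    (φ : GR R ⟶ io J S.X₃) : ∃ ψ : GR R ⟶ io J S.X₂, ψ ≫ (ioS S).g = φ := by
  obtain ⟨s, rfl⟩ := (rho_bij J S.X₃ R hR).2 φ
  obtain ⟨t, ht⟩ := hsurj s
  refine ⟨rho R (io J S.X₂) t, ?_⟩
  rw [rho_nat]
  exact congrArg (rho R (io J S.X₃)) ht

theorem surj_of_extB (S : ShortComplex (Sheaf J AddCommGrpCat.{u})) (hS : S.ShortExact) (X : C)
    (h : ∀ (R : Sieve X), R ∈ J X → ∀ x : Ext.{u} (GR R) (io J S.X₁) 1, x = 0) :
    Function.Surjective (S.g.hom.app (op X)).hom := by
  intro s
  haveI : Presheaf.IsLocallySurjective J S.g.hom :=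
    (Sheaf.isLocallySurjective_iff_epi' AddCommGrpCat.{u} S.g).mpr hS.epi_g
  let R : Sieve X := Presheaf.imageSieve S.g.hom s
  have hR : R ∈ J X := Presheaf.imageSieve_mem J S.g.hom (U := op X) s
  obtain ⟨hex, hmono⟩ := ioS_left S hS
  haveI := hmono
  let π := cokernel.π (ioS S).g
  let φ : GR R ⟶ io J S.X₃ := rho R (io J S.X₃) s
  have hφπ : φ ≫ π = 0 := by
    have h0 : φ ≫ π = φ ≫ 0 := by
      apply ((freeAdj (⊥ : GrothendieckTopology C)).homEquiv R.functor _).injective
      rw [Adjunction.homEquiv_naturality_right, Adjunction.homEquiv_naturality_right]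
      have hφ : (freeAdj (⊥ : GrothendieckTopology C)).homEquiv R.functor _ φ =
          R.functorInclusion ≫ yonedaEquiv.symm s := Equiv.apply_symm_apply _ _
      rw [hφ]
      apply NatTrans.ext
      funext W
      refine ConcreteCategory.hom_ext _ _ (fun r => ?_)
      obtain ⟨f, hf⟩ := r
      obtain ⟨t, ht⟩ : ∃ t : S.X₂.obj.obj W, (S.g.hom.app W).hom t = (S.X₃.obj.map f.op).hom s :=
        hf
      change (π.hom.app W).hom ((S.X₃.obj.map f.op).hom s) =
        ((0 : io J S.X₃ ⟶ cokernel (ioS S).g).hom.app W).hom ((S.X₃.obj.map f.op).hom s)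
      rw [← ht]
      exact hom_congr_apply (congrArg (fun a => a.hom.app W) (cokernel.condition (ioS S).g)) t
    rw [h0, comp_zero]
  let φ' : GR R ⟶ Abelian.image (ioS S).g := kernel.lift π φ hφπ
  have hφ' : φ' ≫ Abelian.image.ι (ioS S).g = φ := kernel.lift_ι _ _ _
  let T' : ShortComplex (Sheaf (⊥ : GrothendieckTopology C) AddCommGrpCat.{u}) :=
    ShortComplex.mk (ioS S).f (Abelian.factorThruImage (ioS S).g) (by
      rw [← cancel_mono (Abelian.image.ι (ioS S).g), Category.assoc, Abelian.image.fac, zero_comp]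
      exact (ioS S).zero)
  let Φ : T' ⟶ ioS S :=
    { τ₁ := 𝟙 _
      τ₂ := 𝟙 _
      τ₃ := Abelian.image.ι (ioS S).g
      comm₁₂ := (Category.id_comp _).trans (Category.comp_id _).symm
      comm₂₃ := (Category.id_comp _).trans (Abelian.image.fac (ioS S).g).symm }
  have hT'ex : T'.Exact := (ShortComplex.exact_iff_of_epi_of_isIso_of_mono Φ).mpr hex
  have hT' : T'.ShortExact :=
    { exact := hT'ex
      mono_f := hmono
      epi_g := (inferInstance : Epi (Abelian.factorThruImage (ioS S).g)) }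
  obtain ⟨ψ, hψ⟩ := lift_of_ext1 (GR R) T' hT' (h R hR) φ'
  have hψg : ψ ≫ (ioS S).g = φ := by
    have e1 : ψ ≫ (ioS S).g = (ψ ≫ Abelian.factorThruImage (ioS S).g) ≫
        Abelian.image.ι (ioS S).g := by
      rw [Category.assoc, Abelian.image.fac]
    rw [e1]
    exact (congrArg (fun a => a ≫ Abelian.image.ι (ioS S).g) hψ).trans hφ'
  obtain ⟨t, ht⟩ := (rho_bij J S.X₂ R hR).2 ψ
  refine ⟨t, ?_⟩
  apply (rho_bij J S.X₃ R hR).1
  have e2 := rho_nat R (ioS S).g t
  exact e2.symm.trans ((congrArg (fun a => a ≫ (ioS S).g) ht).trans hψg)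

theorem fwd (q : ℕ) : ∀ (F : Sheaf J AddCommGrpCat.{u}),
    (∀ (X : C) (p : ℕ) (x : Ext.{u} ((freeFunctor J).obj X) F (p + 1)), x = 0) →
    ∀ (X : C) (R : Sieve X), R ∈ J X → ∀ x : Ext.{u} (GR R) (io J F) (q + 1), x = 0 := by
  induction q with
  | zero =>
    intro F hF X R hR x
    let S : ShortComplex (Sheaf J AddCommGrpCat.{u}) :=
      ShortComplex.mk _ _ (cokernel.condition (Injective.ι F))
    have hS : S.ShortExact :=
      { exact := ShortComplex.exact_of_g_is_cokernel _ (cokernelIsCokernel S.f) }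
    have hI : Injective S.X₂ := (inferInstance : Injective (Injective.under F))
    have hsurj : ∀ X' : C, Function.Surjective (S.g.hom.app (op X')).hom :=
      fun X' => surj_of_ext1 S hS X' (hF X' 0)
    obtain ⟨hex, hmono⟩ := ioS_left S hS
    haveI := hmono
    haveI := ioS_epi S hsurj
    have hSB : (ioS S).ShortExact := { exact := hex }
    haveI := hI
    exact ext1_zero_of_lift (GR R) (ioS S) hSB (io_injective S.X₂)
      (fun φ => lift_B_of_surj S R hR (hsurj X) φ) x
  | succ q ih =>
    intro F hF X R hR x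
    let S : ShortComplex (Sheaf J AddCommGrpCat.{u}) :=
      ShortComplex.mk _ _ (cokernel.condition (Injective.ι F))
    have hS : S.ShortExact :=
      { exact := ShortComplex.exact_of_g_is_cokernel _ (cokernelIsCokernel S.f) }
    have hI : Injective S.X₂ := (inferInstance : Injective (Injective.under F))
    have hsurj : ∀ X' : C, Function.Surjective (S.g.hom.app (op X')).hom :=
      fun X' => surj_of_ext1 S hS X' (hF X' 0)
    obtain ⟨hex, hmono⟩ := ioS_left S hS
    haveI := hmono
    haveI := ioS_epi S hsurj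
    have hSB : (ioS S).ShortExact := { exact := hex }
    haveI := hI
    have hQ : ∀ (X' : C) (p : ℕ) (x : Ext.{u} ((freeFunctor J).obj X') S.X₃ (p + 1)), x = 0 :=
      fun X' p x => ext_vanish_coker _ S hS hI p (hF X' (p + 1)) x
    exact ext_succ_zero_of (GR R) (ioS S) hSB (io_injective S.X₂) q (ih S.X₃ hQ X R hR) x

theorem bwd (q : ℕ) : ∀ (F : Sheaf J AddCommGrpCat.{u}),
    (∀ (X : C) (R : Sieve X), R ∈ J X → ∀ (p : ℕ) (x : Ext.{u} (GR R) (io J F) (p + 1)), x = 0) →
    ∀ (X : C) (x : Ext.{u} ((freeFunctor J).obj X) F (q + 1)), x = 0 := by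
  induction q with
  | zero =>
    intro F hF X x
    let S : ShortComplex (Sheaf J AddCommGrpCat.{u}) :=
      ShortComplex.mk _ _ (cokernel.condition (Injective.ι F))
    have hS : S.ShortExact :=
      { exact := ShortComplex.exact_of_g_is_cokernel _ (cokernelIsCokernel S.f) }
    have hI : Injective S.X₂ := (inferInstance : Injective (Injective.under F))
    have hsurj : ∀ X' : C, Function.Surjective (S.g.hom.app (op X')).hom :=
      fun X' => surj_of_extB S hS X' (fun R hR => hF X' R hR 0)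
    exact ext1_zero_of_lift ((freeFunctor J).obj X) S hS hI (fun φ => by
      obtain ⟨t, ht⟩ := hsurj X (secEquiv J X S.X₃ φ)
      refine ⟨(secEquiv J X S.X₂).symm t, ?_⟩
      apply (secEquiv J X S.X₃).injective
      rw [secEquiv_comp, Equiv.apply_symm_apply]
      exact ht) x
  | succ q ih =>
    intro F hF X x
    let S : ShortComplex (Sheaf J AddCommGrpCat.{u}) :=
      ShortComplex.mk _ _ (cokernel.condition (Injective.ι F))
    have hS : S.ShortExact :=
      { exact := ShortComplex.exact_of_g_is_cokernel _ (cokernelIsCokernel S.f) }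
    have hI : Injective S.X₂ := (inferInstance : Injective (Injective.under F))
    have hsurj : ∀ X' : C, Function.Surjective (S.g.hom.app (op X')).hom :=
      fun X' => surj_of_extB S hS X' (fun R hR => hF X' R hR 0)
    obtain ⟨hex, hmono⟩ := ioS_left S hS
    haveI := hmono
    haveI := ioS_epi S hsurj
    have hSB : (ioS S).ShortExact := { exact := hex }
    haveI := hI
    have hQ : ∀ (X' : C) (R : Sieve X'), R ∈ J X' → ∀ (p : ℕ)
        (x : Ext.{u} (GR R) (io J S.X₃) (p + 1)), x = 0 :=
      fun X' R hR p x => ext_vanish_coker (GR R) (ioS S) hSB (io_injective S.X₂) p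
        (hF X' R hR (p + 1)) x
    exact ext_succ_zero_of ((freeFunctor J).obj X) S hS hI q (ih S.X₃ hQ X) x

theorem main (J : GrothendieckTopology C) (F : Sheaf J AddCommGrpCat.{u}) :
    (∀ (X : C) (q : ℕ), Subsingleton (CohSite.HU F (q + 1) X)) ↔
      ∀ (X : C) (R : Sieve X), R ∈ J X → ∀ q : ℕ,
        Subsingleton (CohCx.HK (J := (⊥ : GrothendieckTopology C))
          ⟨R.functor, Presheaf.isSheaf_bot _⟩ ⟨F.obj, Presheaf.isSheaf_bot _⟩ (q + 1)) := by
  constructor
  · intro h X R hR q
    have hF : ∀ (X' : C) (p : ℕ) (x : Ext.{u} ((freeFunctor J).obj X') F (p + 1)), x = 0 :=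
      fun X' p x => @Subsingleton.elim _ (h X' p) x 0
    exact ⟨fun a b => (fwd q F hF X R hR a).trans (fwd q F hF X R hR b).symm⟩
  · intro h X q
    have hF : ∀ (X' : C) (R : Sieve X'), R ∈ J X' → ∀ (p : ℕ)
        (x : Ext.{u} (GR R) (io J F) (p + 1)), x = 0 :=
      fun X' R hR p x => @Subsingleton.elim _ (h X' R hR p) x 0
    exact ⟨fun a b => (bwd q F hF X a).trans (bwd q F hF X b).symm⟩

end helpers

/-- An abelian sheaf F on a small site (C, J) is C-acyclic, i.e. H^q(X, F) = 0 for all objects X and q >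
0, if and only if H^q(R, H^0(F)) = 0 for every object X, every covering sieve R of X and every q >
0, where H^0(F) is the underlying presheaf of F and H^q(R, -), for a presheaf of sets R, is the q-th
Ext out of the free abelian presheaf on R computed in abelian presheaves (the sheaves for the
trivial topology). -/
theorem result {C : Type u} [SmallCategory C] (J : GrothendieckTopology C)
    (F : Sheaf J AddCommGrpCat.{u}) :
    (∀ (X : C) (q : ℕ), Subsingleton (CohSite.HU F (q + 1) X)) ↔
      ∀ (X : C) (R : Sieve X), R ∈ J X → ∀ q : ℕ,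
        Subsingleton (CohCx.HK (J := (⊥ : GrothendieckTopology C)) ⟨R.functor, Presheaf.isSheaf_bot _⟩
          ⟨F.obj, Presheaf.isSheaf_bot _⟩ (q + 1)) := by
  exact Groth.Agent.S6178.main J F

end Groth.Agent.S6178
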