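import Groth.Statements.S6182
import Groth.Agent.H25.ToposFin6
import Groth.Agent.S5590

set_option autoImplicit false
open CategoryTheory CategoryTheory.Limits Opposite
universe u
open ToposFin

namespace Groth.Agent.S6182

/-- Let (C, J) and (D, K) be small sites with fibre products in which every object is quasi-compact, and
G : C -> D a continuous functor whose inverse-image functor on sheaves of sets f^* (the sheaf
pullback along G, from sheaves on C to sheaves on D) preserves finite limits, so that G is a
morphism of sites and f a morphism of topoi. Then f is coherent: f^* sends quasi-compact objects to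
quasi-compact objects and quasi-separated objects to quasi-separated objects. -/
theorem result {C D : Type u} [SmallCategory C] [SmallCategory D]
    [HasPullbacks C] [HasPullbacks D] (J : GrothendieckTopology C) (K : GrothendieckTopology D)
    (hC : ∀ X : C, ToposFin.IsQCSite J X) (hD : ∀ Y : D, ToposFin.IsQCSite K Y)
    (G : C ⥤ D) [Functor.IsContinuous G J K] [PreservesFiniteLimits (G.sheafPullback (Type u) J K)] :
    (∀ X : ToposFin.Sh J, ToposFin.IsQC X → ToposFin.IsQC ((G.sheafPullback (Type u) J K).obj X)) ∧
      (∀ X : ToposFin.Sh J, ToposFin.IsQS X → ToposFin.IsQS ((G.sheafPullback (Type u) J K).obj X)) := by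
  have adj := G.sheafAdjunctionContinuous (Type u) J K
  have hE' : ToposFin.HasQCGenerators K := H25.TF.hasQCGenerators_of_isQCSite hD
  refine (Groth.Agent.S5590.result (G.sheafPullback (Type u) J K)
    (G.sheafPushforwardContinuous (Type u) J K) adj hE' (Set.range (ToposFin.eps J)) ?_
    H25.TF.isGenerating_eps).2 ?_
  · rintro _ ⟨X, rfl⟩
    exact H25.TF.isCoherent_eps hC X
  · rintro _ ⟨X, rfl⟩
    exact H25.TF.isCoherent_of_iso
      (H25.TF.pullbackEpsIso G (G.sheafPullback (Type u) J K) adj X)
      (H25.TF.isCoherent_eps hD (G.obj X))

end Groth.Agent.S6182
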