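import Groth.Statements.S6185
import Groth.Agent.H10.ExtAdj
import Groth.Agent.H10.BigEx
import Mathlib

set_option autoImplicit false
open CategoryTheory CategoryTheory.Limits AlgebraicGeometry Opposite
universe u
open BigSite

namespace Groth.Agent.S6185

/-- For a scheme X and an abelian sheaf F on the big etale site of X, the cohomology groups H^p(X_et,
F|) of the restriction of F to the small etale site and H^p of F on the big etale site are
isomorphic for every p. Existence of an additive isomorphism only (the published statement asserts
that the canonical comparison homomorphism is an isomorphism; that map is not named here). -/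
theorem result (X : Scheme.{u})
    (F : BigSite.Ab Scheme.etalePrecoverage X) (p : ℕ) :
    Nonempty (EtCoh.H X ((BigSite.resEt Scheme.etalePrecoverage X).obj F) p ≃+
      BigSite.H Scheme.etalePrecoverage X F p) := by
  have h1 : PreservesFiniteLimits (BigSite.piEtPull Scheme.etalePrecoverage X) :=
    Groth.Agent.H10.BigEx.piEtPull_exact X
  have a1 : (BigSite.piEtPull Scheme.etalePrecoverage X).Additive :=
    (BigSite.piEtAdj Scheme.etalePrecoverage X).left_adjoint_additive
  have c1 : PreservesFiniteColimits (BigSite.piEtPull Scheme.etalePrecoverage X) :=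
    have : PreservesColimitsOfSize.{0, 0} (BigSite.piEtPull Scheme.etalePrecoverage X) :=
      (BigSite.piEtAdj Scheme.etalePrecoverage X).leftAdjoint_preservesColimits
    PreservesColimitsOfSize.preservesFiniteColimits _
  have h2 : PreservesFiniteLimits (BigSite.resEt Scheme.etalePrecoverage X) :=
    have : PreservesLimitsOfSize.{0, 0} (BigSite.resEt Scheme.etalePrecoverage X) :=
      (BigSite.piEtAdj Scheme.etalePrecoverage X).rightAdjoint_preservesLimits
    PreservesLimitsOfSize.preservesFiniteLimits _
  have c2 : PreservesFiniteColimits (BigSite.resEt Scheme.etalePrecoverage X) :=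
    have : PreservesColimitsOfSize.{0, 0} (BigSite.resEt Scheme.etalePrecoverage X) :=
      (BigSite.iEtAdj Scheme.etalePrecoverage X).leftAdjoint_preservesColimits
    PreservesColimitsOfSize.preservesFiniteColimits _
  obtain ⟨i⟩ := Groth.Agent.H10.ExtAdj.nonempty_pullback_constantSheaf_iso (EtFppf.a X)
    AddCommGrpCat.{u + 1} X.smallEtaleTopology (QuotSh.J Scheme.etalePrecoverage X)
    (IsTerminal.isTerminalOfObj (Scheme.Etale.forget X) (EtCoh.top X) Over.mkIdTerminal)
    Over.mkIdTerminal (AddCommGrpCat.of (ULift ℤ))
  obtain ⟨e⟩ := Groth.Agent.H10.ExtAdj.nonempty_ext_addEquiv'.{u + 1, u + 1}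
    (BigSite.piEtAdj Scheme.etalePrecoverage X) _ _ i F p
  exact ⟨e.symm⟩

end Groth.Agent.S6185
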