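import Groth.Statements.S6239
import Mathlib

set_option autoImplicit false
universe u
open CategoryTheory CategoryTheory.Limits AlgebraicGeometry
attribute [local instance] HasDerivedCategory.standard
open KSix

namespace Groth.Agent.S6239

/-- Let f : X ⟶ Y be a morphism with X quasi-compact and F a cochain complex of O_X-modules which is
perfect relative to f (pseudo-coherent relative to f in chart form, and locally on X of finite
stalkwise tor amplitude over the local rings of Y). Then F has finite perfect amplitude relative to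
f: one interval [a, b] works at every point of X. -/
theorem result {X Y : Scheme.{u}} [CompactSpace X] (f : X ⟶ Y)
    (F : CochainComplex X.Modules ℤ) (hF : DerSch.IsPerfectRel f F) :
    DerSch.HasFinitePerfAmplitudeRel f F := by
  obtain ⟨hpc, hloc⟩ := hF
  choose V a b hxV hV using hloc
  obtain ⟨t, ht⟩ := CompactSpace.elim_nhds_subcover (fun x => (V x : Set X))
    (fun x => (V x).isOpen.mem_nhds (hxV x))
  refine ⟨-(∑ i ∈ t, |a i|), ∑ i ∈ t, |b i|, hpc, ?_⟩
  intro x
  have hx : x ∈ ⋃ i ∈ t, (V i : Set X) := by rw [ht]; trivial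
  simp only [Set.mem_iUnion] at hx
  obtain ⟨i, hi, hxi⟩ := hx
  obtain ⟨E, hE, hflat, hiso⟩ := hV i x hxi
  refine ⟨E, ?_, hflat, hiso⟩
  intro j hj
  apply hE j
  have h1 : |a i| ≤ ∑ k ∈ t, |a k| :=
    Finset.single_le_sum (f := fun k => |a k|) (fun k _ => abs_nonneg _) hi
  have h2 : |b i| ≤ ∑ k ∈ t, |b k| :=
    Finset.single_le_sum (f := fun k => |b k|) (fun k _ => abs_nonneg _) hi
  have h3 := neg_abs_le (a i)
  have h4 := le_abs_self (b i)
  rcases hj with hj | hj
  · left; linarith
  · right; linarith

end Groth.Agent.S6239
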