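import Groth.Statements.S6263
import Mathlib

set_option autoImplicit false
universe u
open CAlg

namespace Groth.Agent.S6263


section Helpers

open TensorProduct

lemma flat_reg {R : Type u} [CommRing R] (N : Type u) [AddCommGroup N] [Module R N]
    [Module.Flat R N] (p : Ideal R) [p.IsPrime] (r : R) (hr : r ∉ p) (x : N)
    (hx : r • x ∈ (p • ⊤ : Submodule R N)) : x ∈ (p • ⊤ : Submodule R N) := by
  have hm : Function.Injective (LinearMap.mulLeft R (Ideal.Quotient.mk p r)) := by
    intro a b hab
    rw [LinearMap.mulLeft_apply, LinearMap.mulLeft_apply] at hab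
    exact mul_left_cancel₀ (fun h => hr (Ideal.Quotient.eq_zero_iff_mem.mp h)) hab
  have hinj := Module.Flat.lTensor_preserves_injective_linearMap (M := N) _ hm
  have h0 : ((LinearMap.mulLeft R (Ideal.Quotient.mk p r)).lTensor N)
      (x ⊗ₜ[R] (1 : R ⧸ p)) = 0 := by
    rw [LinearMap.lTensor_tmul, LinearMap.mulLeft_apply, mul_one]
    apply (TensorProduct.tensorQuotEquivQuotSMul N p).injective
    rw [TensorProduct.tensorQuotEquivQuotSMul_tmul_mk, map_zero, Submodule.Quotient.mk_eq_zero]
    exact hx
  have h1 : x ⊗ₜ[R] (1 : R ⧸ p) = 0 := hinj (h0.trans (map_zero _).symm)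
  have h2 := congrArg (TensorProduct.tensorQuotEquivQuotSMul N p) h1
  rw [← map_one (Ideal.Quotient.mk p), TensorProduct.tensorQuotEquivQuotSMul_tmul_mk, one_smul,
    map_zero, Submodule.Quotient.mk_eq_zero] at h2
  exact h2

lemma bridge {R S : Type u} [CommRing R] [CommRing S] [Algebra R S] (N : Type u)
    [AddCommGroup N] [Module S N] [Module R N] [IsScalarTower R S N] (p : Ideal R) (y : N) :
    y ∈ (p.map (algebraMap R S) • ⊤ : Submodule S N) ↔ y ∈ (p • ⊤ : Submodule R N) := by
  constructor
  · intro hy
    have key : ∀ s ∈ p.map (algebraMap R S), ∀ n : N, s • n ∈ (p • ⊤ : Submodule R N) := by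
      intro s hs
      refine Submodule.span_induction
        (p := fun s _ => ∀ n : N, s • n ∈ (p • ⊤ : Submodule R N)) ?_ ?_ ?_ ?_ hs
      · rintro _ ⟨a, ha, rfl⟩ n
        rw [algebraMap_smul]
        exact Submodule.smul_mem_smul ha trivial
      · intro n; rw [zero_smul]; exact zero_mem _
      · intro s₁ s₂ _ _ h₁ h₂ n; rw [add_smul]; exact add_mem (h₁ n) (h₂ n)
      · intro s' s₁ _ h₁ n
        rw [smul_eq_mul, mul_comm, mul_smul]
        exact h₁ (s' • n)
    exact Submodule.smul_induction_on hy (fun s hs n _ => key s hs n)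
      (fun a b ha hb => add_mem ha hb)
  · intro hy
    refine Submodule.smul_induction_on hy (fun a ha n _ => ?_) (fun a b ha hb => add_mem ha hb)
    rw [← algebraMap_smul S a n]
    exact Submodule.smul_mem_smul (Ideal.mem_map_of_mem _ ha) trivial

end Helpers


/-- For a ring map R → S and a finite S-module N which is flat as an R-module, generalizations lift
along the map from the support of N (a subset of Spec S) to Spec R: if p ≤ p' are primes of R and q'
is a prime of S in the support of N whose inverse image in R is p', then some prime q ≤ q' of S lies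
in the support of N and has inverse image p. -/
theorem result {R S : Type u} [CommRing R] [CommRing S] [Algebra R S] (N : Type u) [AddCommGroup N] [Module S N] [Module R N] [IsScalarTower R S N] [Module.Finite S N] [Module.Flat R N] (p p' : Ideal R) [p.IsPrime] [p'.IsPrime] (hle : p ≤ p') (q' : PrimeSpectrum S) (hq' : q' ∈ Module.support S N) (hover : q'.asIdeal.under R = p') : ∃ q : PrimeSpectrum S, q ≤ q' ∧ q ∈ Module.support S N ∧ q.asIdeal.under R = p := by
  classical
  have hIq' : Ideal.map (algebraMap R S) p ≤ q'.asIdeal := by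
    rw [Ideal.map_le_iff_le_comap, ← Ideal.under_def, hover]; exact hle
  have hq'supp : q' ∈ Module.support S
      (N ⧸ (Ideal.map (algebraMap R S) p • ⊤ : Submodule S N)) := by
    rw [Module.support_quotient]
    exact ⟨hq', (PrimeSpectrum.mem_zeroLocus _ _).mpr (SetLike.coe_subset_coe.mpr hIq')⟩
  rw [Module.support_eq_zeroLocus, PrimeSpectrum.mem_zeroLocus, SetLike.coe_subset_coe] at hq'supp
  obtain ⟨q₀, hq₀min, hq₀le⟩ := Ideal.exists_minimalPrimes_le hq'supp
  haveI hq₀prime : q₀.IsPrime := hq₀min.1.1
  have hq₀supp : (⟨q₀, hq₀prime⟩ : PrimeSpectrum S) ∈ Module.support S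
      (N ⧸ (Ideal.map (algebraMap R S) p • ⊤ : Submodule S N)) := by
    rw [Module.support_eq_zeroLocus, PrimeSpectrum.mem_zeroLocus, SetLike.coe_subset_coe]
    exact hq₀min.1.2
  rw [Module.support_quotient] at hq₀supp
  refine ⟨⟨q₀, hq₀prime⟩, hq₀le, hq₀supp.1, ?_⟩
  apply le_antisymm
  · intro r hr
    by_contra hrp
    have hreg : IsSMulRegular (N ⧸ (Ideal.map (algebraMap R S) p • ⊤ : Submodule S N))
        (algebraMap R S r) := by
      rw [isSMulRegular_iff_right_eq_zero_of_smul]
      intro xb hxb
      obtain ⟨x, rfl⟩ := Submodule.mkQ_surjective _ xb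
      have h1 : Submodule.Quotient.mk
          (p := (Ideal.map (algebraMap R S) p • ⊤ : Submodule S N))
          ((algebraMap R S r) • x) = 0 := by
        rw [Submodule.Quotient.mk_smul]; exact hxb
      rw [Submodule.Quotient.mk_eq_zero, algebraMap_smul, bridge] at h1
      rw [Submodule.mkQ_apply, Submodule.Quotient.mk_eq_zero, bridge]
      exact flat_reg N p r hrp x h1
    exact hreg.notMem_of_mem_minimalPrimes hq₀min hr
  · rw [Ideal.under_def, ← Ideal.map_le_iff_le_comap]
    exact SetLike.coe_subset_coe.mp ((PrimeSpectrum.mem_zeroLocus _ _).mp hq₀supp.2)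

end Groth.Agent.S6263
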