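import Groth.Statements.S6264
import Mathlib

set_option autoImplicit false
universe u
open CAlg

namespace Groth.Agent.S6264

/-- Let R → S be a ring map with the going-up property and p a prime of R such that exactly one prime q
of S lies over p. Then the localization S_p of S at the image of R - p is a localization of S at q,
i.e. S_p = S_q. -/
theorem result {R S : Type u} [CommRing R] [CommRing S] [Algebra R S] [Algebra.HasGoingUp R S] (p : Ideal R) [p.IsPrime] (q : Ideal S) [q.IsPrime] [q.LiesOver p] (huniq : ∀ q' : Ideal S, q'.IsPrime → q'.under R = p → q' = q) : IsLocalization.AtPrime (Localization (Algebra.algebraMapSubmonoid S p.primeCompl)) q := by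
  have hle : Algebra.algebraMapSubmonoid S p.primeCompl ≤ q.primeCompl := by
    rintro _ ⟨r, hr, rfl⟩
    intro hq
    apply hr
    have : p = q.under R := Ideal.LiesOver.over
    rw [SetLike.mem_coe, this]
    exact hq
  apply IsLocalization.of_le (Algebra.algebraMapSubmonoid S p.primeCompl) q.primeCompl hle
  intro s hs
  by_contra hnu
  obtain ⟨m, hm, hsm⟩ := exists_max_ideal_of_mem_nonunits (mem_nonunits_iff.mpr hnu)
  haveI hmp : m.IsPrime := hm.isPrime
  have hq'prime : (m.comap (algebraMap S
      (Localization (Algebra.algebraMapSubmonoid S p.primeCompl)))).IsPrime :=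
    Ideal.comap_isPrime _ _
  have hsq' : s ∈ m.comap (algebraMap S
      (Localization (Algebra.algebraMapSubmonoid S p.primeCompl))) := hsm
  have hunder : (m.comap (algebraMap S
      (Localization (Algebra.algebraMapSubmonoid S p.primeCompl)))).under R ≤ p := by
    intro r hr
    by_contra hrp
    have hu : IsUnit (algebraMap S (Localization (Algebra.algebraMapSubmonoid S p.primeCompl))
        (algebraMap R S r)) :=
      IsLocalization.map_units (Localization (Algebra.algebraMapSubmonoid S p.primeCompl))
        (⟨algebraMap R S r, ⟨r, hrp, rfl⟩⟩ : Algebra.algebraMapSubmonoid S p.primeCompl)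
    have hmem : algebraMap S (Localization (Algebra.algebraMapSubmonoid S p.primeCompl))
        (algebraMap R S r) ∈ m := hr
    exact hm.ne_top (Ideal.eq_top_of_isUnit_mem _ hmem hu)
  haveI : (m.comap (algebraMap S
      (Localization (Algebra.algebraMapSubmonoid S p.primeCompl)))).LiesOver
      ((m.comap (algebraMap S
      (Localization (Algebra.algebraMapSubmonoid S p.primeCompl)))).under R) := ⟨rfl⟩
  obtain ⟨Q, hQle, hQprime, hQlies⟩ := Ideal.exists_ideal_ge_liesOver_of_le
    (p := (m.comap (algebraMap S
      (Localization (Algebra.algebraMapSubmonoid S p.primeCompl)))).under R) (q := p)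
    (m.comap (algebraMap S (Localization (Algebra.algebraMapSubmonoid S p.primeCompl)))) hunder
  have hQq : Q = q := huniq Q hQprime (hQlies.over.symm)
  exact hs (hQq ▸ hQle hsq')

end Groth.Agent.S6264
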