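import Groth.Statements.S6265
import Mathlib

set_option autoImplicit false
universe u
open CAlg

namespace Groth.Agent.S6265

/-- Let R → S be a ring map with the going-down property such that over every prime of R lies at most
one prime of S, and let p be a prime of R and q a prime of S above it. Then the localization S_p of
S at the image of R - p is a localization of S at q, i.e. S_p = S_q. -/
theorem result {R S : Type u} [CommRing R] [CommRing S] [Algebra R S] [Algebra.HasGoingDown R S] (hinj : ∀ q₁ q₂ : Ideal S, q₁.IsPrime → q₂.IsPrime → q₁.under R = q₂.under R → q₁ = q₂) (p : Ideal R) [p.IsPrime] (q : Ideal S) [q.IsPrime] [q.LiesOver p] : IsLocalization.AtPrime (Localization (Algebra.algebraMapSubmonoid S p.primeCompl)) q := by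
  have hle : Algebra.algebraMapSubmonoid S p.primeCompl ≤ q.primeCompl := by
    rintro _ ⟨r, hr, rfl⟩
    intro hq
    apply hr
    have : p = q.under R := Ideal.LiesOver.over
    rw [SetLike.mem_coe, this]
    exact hq
  apply IsLocalization.of_le (Algebra.algebraMapSubmonoid S p.primeCompl) q.primeCompl hle
  intro s hs
  by_contra hnu
  obtain ⟨m, hm, hsm⟩ := exists_max_ideal_of_mem_nonunits (mem_nonunits_iff.mpr hnu)
  haveI hmp : m.IsPrime := hm.isPrime
  haveI hq'prime : (m.comap (algebraMap S
      (Localization (Algebra.algebraMapSubmonoid S p.primeCompl)))).IsPrime :=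
    Ideal.comap_isPrime _ _
  have hsq' : s ∈ m.comap (algebraMap S
      (Localization (Algebra.algebraMapSubmonoid S p.primeCompl))) := hsm
  have hunder : (m.comap (algebraMap S
      (Localization (Algebra.algebraMapSubmonoid S p.primeCompl)))).under R ≤ p := by
    intro r hr
    by_contra hrp
    have hu : IsUnit (algebraMap S (Localization (Algebra.algebraMapSubmonoid S p.primeCompl))
        (algebraMap R S r)) :=
      IsLocalization.map_units (Localization (Algebra.algebraMapSubmonoid S p.primeCompl))
        (⟨algebraMap R S r, ⟨r, hrp, rfl⟩⟩ : Algebra.algebraMapSubmonoid S p.primeCompl)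
    have hmem : algebraMap S (Localization (Algebra.algebraMapSubmonoid S p.primeCompl))
        (algebraMap R S r) ∈ m := hr
    exact hm.ne_top (Ideal.eq_top_of_isUnit_mem _ hmem hu)
  haveI hp'prime : ((m.comap (algebraMap S
      (Localization (Algebra.algebraMapSubmonoid S p.primeCompl)))).under R).IsPrime :=
    Ideal.comap_isPrime _ _
  obtain ⟨Q, hQle, hQprime, hQlies⟩ := Ideal.exists_ideal_le_liesOver_of_le
    (p := (m.comap (algebraMap S
      (Localization (Algebra.algebraMapSubmonoid S p.primeCompl)))).under R) (q := p)
    q hunder
  have hQq : Q = m.comap (algebraMap S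
      (Localization (Algebra.algebraMapSubmonoid S p.primeCompl))) :=
    hinj Q _ hQprime hq'prime (hQlies.over.symm)
  exact hs (hQle (hQq ▸ hsq'))

end Groth.Agent.S6265
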