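import Groth.Statements.S6267
import Mathlib
import Groth.Agent.H10.FlatLemmas

set_option autoImplicit false
universe u
open CAlg

namespace Groth.Agent.S6267

theorem chase {R : Type u} [CommRing R] {A1 A2 A3 B1 B2 B3 C1 C2 : Type u}
    [AddCommGroup A1] [Module R A1] [AddCommGroup A2] [Module R A2] [AddCommGroup A3] [Module R A3]
    [AddCommGroup B1] [Module R B1] [AddCommGroup B2] [Module R B2] [AddCommGroup B3] [Module R B3]
    [AddCommGroup C1] [Module R C1] [AddCommGroup C2] [Module R C2]
    (a1 : A1 →ₗ[R] A2) (a2 : A2 →ₗ[R] A3) (b1 : B1 →ₗ[R] B2) (b2 : B2 →ₗ[R] B3) (c1 : C1 →ₗ[R] C2)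
    (α1 : A1 →ₗ[R] B1) (α2 : A2 →ₗ[R] B2) (α3 : A3 →ₗ[R] B3) (β1 : B1 →ₗ[R] C1) (β2 : B2 →ₗ[R] C2)
    (ha2 : Function.Surjective a2) (ha : ∀ x, a2 (a1 x) = 0) (hα2 : Function.Injective α2)
    (hb : Function.Exact b1 b2) (hcol : Function.Exact α1 β1)
    (hβα : ∀ x, β2 (α2 x) = 0) (hc1 : Function.Injective c1)
    (sq1 : ∀ x, b1 (α1 x) = α2 (a1 x)) (sq2 : ∀ x, b2 (α2 x) = α3 (a2 x))
    (sq3 : ∀ x, c1 (β1 x) = β2 (b1 x)) :
    Function.Injective α3 := by
  rw [injective_iff_map_eq_zero]
  intro z hz
  obtain ⟨y, rfl⟩ := ha2 z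
  have h1 : b2 (α2 y) = 0 := by rw [sq2, hz]
  obtain ⟨x, hx⟩ := (hb _).mp h1
  have h2 : β1 x = 0 := by
    apply hc1
    rw [sq3, hx, hβα, map_zero]
  obtain ⟨w, hw⟩ := (hcol _).mp h2
  have h3 : a1 w = y := by
    apply hα2
    rw [← sq1, hw, hx]
  rw [← h3, ha]


/-- Let R be a ring and f : M → M' a map of R-modules with M' flat. Then f is universally injective
exactly when, for each finitely generated ideal I of R, the induced map M ⊗ R/I → M' ⊗ R/I (that is,
M/IM → M'/IM') is injective. -/
theorem result {R : Type u} [CommRing R] {M M' : Type u} [AddCommGroup M] [Module R M] [AddCommGroup M'] [Module R M'] [Module.Flat R M'] (f : M →ₗ[R] M') : CAlgX.UniversallyInjective R f ↔ ∀ I : Ideal R, I.FG → Function.Injective (f.rTensor (R ⧸ I)) := by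
  constructor
  · intro h I _
    exact h (R ⧸ I)
  · intro h
    -- `f` is injective
    have hf : Function.Injective f := by
      have h0 := h ⊥ Submodule.fg_bot
      let e : (R ⧸ (⊥ : Ideal R)) ≃ₗ[R] R := Submodule.quotEquivOfEqBot ⊥ rfl
      rw [injective_iff_map_eq_zero]
      intro m hm
      have h1 : f.rTensor (R ⧸ (⊥ : Ideal R)) (m ⊗ₜ[R] (1 : R ⧸ (⊥ : Ideal R))) = 0 := by
        rw [LinearMap.rTensor_tmul, hm, TensorProduct.zero_tmul]
      have h2 : m ⊗ₜ[R] (1 : R ⧸ (⊥ : Ideal R)) = 0 := by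
        apply h0
        rw [h1, map_zero]
      have h3 := congrArg (fun t => TensorProduct.rid R M (e.toLinearMap.lTensor M t)) h2
      simp only [LinearMap.lTensor_tmul, map_zero, TensorProduct.rid_tmul] at h3
      have h4 : e (1 : R ⧸ (⊥ : Ideal R)) = 1 := by
        show e (Submodule.Quotient.mk 1) = 1
        exact Submodule.quotEquivOfEqBot_apply_mk ⊥ rfl 1
      rw [LinearEquiv.coe_coe, h4, one_smul] at h3
      exact h3
    set π : M' →ₗ[R] (M' ⧸ LinearMap.range f) := (LinearMap.range f).mkQ with hπdef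
    have hex : Function.Exact f π := LinearMap.exact_map_mkQ_range f
    have hπ : Function.Surjective π := Submodule.mkQ_surjective _
    have hC : Module.Flat R (M' ⧸ LinearMap.range f) := by
      rw [Module.Flat.iff_rTensor_injective]
      intro I hI
      refine chase (f.lTensor I) (π.lTensor I) (f.lTensor R) (π.lTensor R) (f.lTensor (R ⧸ I))
        (I.subtype.rTensor M) (I.subtype.rTensor M') (I.subtype.rTensor (M' ⧸ LinearMap.range f))
        (I.mkQ.rTensor M) (I.mkQ.rTensor M') ?_ ?_ ?_ ?_ ?_ ?_ ?_ ?_ ?_ ?_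
      · exact LinearMap.lTensor_surjective I hπ
      · intro x
        rw [← LinearMap.comp_apply, ← LinearMap.lTensor_comp]
        have : π ∘ₗ f = 0 := by
          ext m; exact hex.apply_apply_eq_zero m
        rw [this, LinearMap.lTensor_zero, LinearMap.zero_apply]
      · exact Module.Flat.rTensor_preserves_injective_linearMap I.subtype Subtype.val_injective
      · exact lTensor_exact R hex hπ
      · exact rTensor_exact M (LinearMap.exact_subtype_mkQ I) (Submodule.mkQ_surjective I)
      · intro x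
        rw [← LinearMap.comp_apply, ← LinearMap.rTensor_comp]
        have : I.mkQ ∘ₗ I.subtype = 0 := by
          ext m; exact (LinearMap.exact_subtype_mkQ I).apply_apply_eq_zero m
        rw [this, LinearMap.rTensor_zero, LinearMap.zero_apply]
      · rw [LinearMap.lTensor_inj_iff_rTensor_inj]
        exact h I hI
      · intro x
        rw [← LinearMap.comp_apply, ← LinearMap.comp_apply, LinearMap.lTensor_comp_rTensor,
          LinearMap.rTensor_comp_lTensor]
      · intro x
        rw [← LinearMap.comp_apply, ← LinearMap.comp_apply, LinearMap.lTensor_comp_rTensor,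
          LinearMap.rTensor_comp_lTensor]
      · intro x
        rw [← LinearMap.comp_apply, ← LinearMap.comp_apply, LinearMap.lTensor_comp_rTensor,
          LinearMap.rTensor_comp_lTensor]
    intro Q _ _
    exact Groth.Agent.H10.rTensor_injective_of_flat_coker f π hf hex hπ Q

end Groth.Agent.S6267
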