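import Groth.Statements.S6268
import Mathlib

set_option autoImplicit false
universe u
open CAlg

namespace Groth.Agent.S6268

/-- Suppose the structure map R → S of an R-algebra S is universally injective as an R-linear map. Then
tensoring with S detects injectivity and surjectivity of R-linear maps (and hence reflects
isomorphisms): for an R-linear g : M → N, if S ⊗ g is injective then so is g, and if S ⊗ g is
surjective then so is g. -/
theorem result {R S : Type u} [CommRing R] [CommRing S] [Algebra R S] (hS : CAlgX.UniversallyInjective R (Algebra.linearMap R S)) {M N : Type u} [AddCommGroup M] [Module R M] [AddCommGroup N] [Module R N] (g : M →ₗ[R] N) : (Function.Injective (g.lTensor S) → Function.Injective g) ∧ (Function.Surjective (g.lTensor S) → Function.Surjective g) := by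
  have key : ∀ (Q : Type u) [AddCommGroup Q] [Module R Q] (q : Q), (1 : S) ⊗ₜ[R] q = 0 → q = 0 := by
    intro Q _ _ q hq
    have h1 : ((Algebra.linearMap R S).rTensor Q) ((1 : R) ⊗ₜ[R] q) = 0 := by
      simpa using hq
    have h2 : (1 : R) ⊗ₜ[R] q = 0 := by
      apply hS Q
      rw [h1, map_zero]
    have := congrArg (TensorProduct.lid R Q) h2
    simpa using this
  constructor
  · intro hinj
    rw [injective_iff_map_eq_zero]
    intro x hx
    apply key M x
    apply hinj
    rw [LinearMap.lTensor_tmul, hx, TensorProduct.tmul_zero, map_zero]
  · intro hsurj y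
    have hq : (LinearMap.range g).mkQ y = 0 := by
      apply key (N ⧸ LinearMap.range g)
      obtain ⟨z, hz⟩ := hsurj ((1 : S) ⊗ₜ[R] y)
      have : ((LinearMap.range g).mkQ.lTensor S) ((g.lTensor S) z) = 0 := by
        rw [← LinearMap.comp_apply, ← LinearMap.lTensor_comp]
        have : (LinearMap.range g).mkQ ∘ₗ g = 0 := by
          ext m
          simp
        rw [this, LinearMap.lTensor_zero, LinearMap.zero_apply]
      rw [hz, LinearMap.lTensor_tmul] at this
      exact this
    rw [Submodule.mkQ_apply, Submodule.Quotient.mk_eq_zero] at hq
    exact hq

end Groth.Agent.S6268
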