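import Groth.Statements.S6269
import Mathlib

set_option autoImplicit false
universe u
open CAlg

namespace Groth.Agent.S6269

/-- Let 0 → M₁ → M₂ → M₃ → 0 be a universally exact sequence of R-modules (a short exact sequence whose
first map is universally injective) with M₂ flat. Then M₁ and M₃ are flat. -/
theorem result {R : Type u} [CommRing R] {M₁ M₂ M₃ : Type u} [AddCommGroup M₁] [Module R M₁] [AddCommGroup M₂] [Module R M₂] [AddCommGroup M₃] [Module R M₃] (f : M₁ →ₗ[R] M₂) (g : M₂ →ₗ[R] M₃) (hexact : Function.Exact f g) (hg : Function.Surjective g) (hf : CAlgX.UniversallyInjective R f) [Module.Flat R M₂] : Module.Flat R M₁ ∧ Module.Flat R M₃ := by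
  classical
  have hgf : g ∘ₗ f = 0 := by
    ext x
    exact hexact.apply_apply_eq_zero x
  -- commutation squares
  have sq : ∀ {A B A' B' : Type u} [AddCommGroup A] [Module R A] [AddCommGroup B] [Module R B]
      [AddCommGroup A'] [Module R A'] [AddCommGroup B'] [Module R B']
      (a : A →ₗ[R] A') (b : B →ₗ[R] B') (t : TensorProduct R A B),
      (b.lTensor A') ((a.rTensor B) t) = (a.rTensor B') ((b.lTensor A) t) := by
    intro A B A' B' _ _ _ _ _ _ _ _ a b t
    rw [← LinearMap.comp_apply, ← LinearMap.comp_apply, LinearMap.lTensor_comp_rTensor,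
      LinearMap.rTensor_comp_lTensor]
  constructor
  · rw [Module.Flat.iff_lTensor_preserves_injective_linearMap]
    intro N' N _ _ _ _ h hh
    have h2 : Function.Injective (h.lTensor M₂) :=
      Module.Flat.lTensor_preserves_injective_linearMap h hh
    have h3 : Function.Injective ((h.lTensor M₂) ∘ (f.rTensor N')) := h2.comp (hf N')
    have h4 : (h.lTensor M₂) ∘ (f.rTensor N') = (f.rTensor N) ∘ (h.lTensor M₁) := by
      funext t
      exact sq f h t
    rw [h4] at h3
    exact Function.Injective.of_comp h3
  · rw [Module.Flat.iff_lTensor_preserves_injective_linearMap]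
    intro N' N _ _ _ _ h hh
    have h2 : Function.Injective (h.lTensor M₂) :=
      Module.Flat.lTensor_preserves_injective_linearMap h hh
    set π := (LinearMap.range h).mkQ with hπ
    have hπh : π ∘ₗ h = 0 := by
      ext x
      simp [hπ]
    have hex : Function.Exact h π := by
      rw [LinearMap.exact_iff, hπ, Submodule.ker_mkQ]
    have hπs : Function.Surjective π := Submodule.mkQ_surjective _
    rw [injective_iff_map_eq_zero]
    intro z hz
    obtain ⟨y, rfl⟩ := LinearMap.rTensor_surjective N' hg z
    have e2 : (g.rTensor N) ((h.lTensor M₂) y) = 0 := by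
      rw [← sq g h y, hz]
    obtain ⟨x', hx'⟩ := (rTensor_exact N hexact hg _).mp e2
    have e4 : (π.lTensor M₁) x' = 0 := by
      apply hf (N ⧸ LinearMap.range h)
      rw [map_zero, ← sq f π x', hx', ← LinearMap.comp_apply, ← LinearMap.lTensor_comp, hπh,
        LinearMap.lTensor_zero, LinearMap.zero_apply]
    obtain ⟨x, hx⟩ := (lTensor_exact M₁ hex hπs _).mp e4
    have e6 : (f.rTensor N') x = y := by
      apply h2
      rw [sq f h x, hx, hx']
    rw [← e6, ← LinearMap.comp_apply, ← LinearMap.rTensor_comp, hgf, LinearMap.rTensor_zero,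
      LinearMap.zero_apply]

end Groth.Agent.S6269
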