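import Groth.Statements.S6271
import Mathlib
import Groth.Agent.Lib.Helper26.IdemMatrix

set_option linter.style.haveILetI false

set_option autoImplicit false
universe u
open scoped TensorProduct
open CAlg

namespace Groth.Agent.S6271

section Aux

open Groth.Agent.Helper26.IdemMatrix

/-- A square matrix all of whose entries lie in a nil ideal is nilpotent. -/
theorem isNilpotent_of_entries_mem {R : Type u} [CommRing R] (I : Ideal R)
    (hI : ∀ x ∈ I, IsNilpotent x) {n : ℕ} (M : Matrix (Fin n) (Fin n) R)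
    (hM : ∀ i j, M i j ∈ I) : IsNilpotent M := by
  classical
  obtain ⟨J, hJ⟩ : ∃ J : Ideal R,
      J = Ideal.span (Set.range (fun ij : Fin n × Fin n => M ij.1 ij.2)) := ⟨_, rfl⟩
  have hJfg : J.FG := by
    rw [hJ]; exact ⟨Finset.univ.image (fun ij : Fin n × Fin n => M ij.1 ij.2), by simp⟩
  have hJnil : J ≤ nilradical R := by
    rw [hJ, Ideal.span_le]
    rintro _ ⟨ij, rfl⟩
    exact hI _ (hM ij.1 ij.2)
  obtain ⟨k, hk⟩ := hJfg.isNilpotent_iff_le_nilradical.mpr hJnil
  have hMJ : ∀ i j, M i j ∈ J := fun i j => by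
    rw [hJ]; exact Ideal.subset_span ⟨(i, j), rfl⟩
  have key : ∀ m : ℕ, ∀ i j, (M ^ m) i j ∈ J ^ m := by
    intro m
    induction m with
    | zero => intro i j; simp
    | succ m ih =>
      intro i j
      rw [pow_succ, pow_succ, Matrix.mul_apply]
      exact Ideal.sum_mem _ fun l _ => Ideal.mul_mem_mul (ih i l) (hMJ l j)
  refine ⟨k, ?_⟩
  ext i j
  have := key k i j
  rw [hk] at this
  exact this

end Aux

/-- Let R be a ring, I ⊆ R a locally nilpotent ideal (every element of I is nilpotent) and P̄ a finite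
projective R/I-module. Then there is a finite projective R-module P such that P/IP (that is, R/I ⊗
P) is isomorphic to P̄ as an R/I-module. -/
theorem result {R : Type u} [CommRing R] (I : Ideal R) (hI : ∀ x ∈ I, IsNilpotent x) (Pb : Type u) [AddCommGroup Pb] [Module (R ⧸ I) Pb] [Module.Projective (R ⧸ I) Pb] [Module.Finite (R ⧸ I) Pb] : ∃ (P : Type u) (_ : AddCommGroup P) (_ : Module R P), Module.Projective R P ∧ Module.Finite R P ∧ Nonempty (((R ⧸ I) ⊗[R] P) ≃ₗ[R ⧸ I] Pb) := by
  classical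
  obtain ⟨n, ε, hε, ⟨eP⟩⟩ := Groth.Agent.Helper26.IdemMatrix.exists_equiv_Im (R := R ⧸ I) Pb
  obtain ⟨E₀, hE₀⟩ : ∃ E : Matrix (Fin n) (Fin n) R, (Ideal.Quotient.mk I).mapMatrix E = ε :=
    ⟨fun i j => (Ideal.Quotient.mk_surjective (ε i j)).choose,
      by ext i j; exact (Ideal.Quotient.mk_surjective (ε i j)).choose_spec⟩
  have hker : ∀ x ∈ RingHom.ker ((Ideal.Quotient.mk I).mapMatrix (m := Fin n)),
      IsNilpotent x := by
    intro x hx
    refine isNilpotent_of_entries_mem I hI x fun i j => ?_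
    rw [RingHom.mem_ker] at hx
    have := congrFun (congrFun hx i) j
    exact Ideal.Quotient.eq_zero_iff_mem.mp this
  obtain ⟨E, hE, hEε⟩ := exists_isIdempotentElem_eq_of_ker_isNilpotent
    ((Ideal.Quotient.mk I).mapMatrix (m := Fin n)) hker ε ⟨E₀, hE₀⟩ hε
  obtain ⟨eB⟩ := Groth.Agent.Helper26.IdemMatrix.baseChange_range_equiv (S := R ⧸ I) E hE ε
    (by rw [← hEε]; rfl)
  exact ⟨Groth.Agent.Helper26.IdemMatrix.Im E, inferInstance, inferInstance,
    Groth.Agent.Helper26.IdemMatrix.projective_Im hE, Module.Finite.range _,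
    ⟨eB.trans eP.symm⟩⟩

end Groth.Agent.S6271
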