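import Groth.Statements.S6273
import Mathlib

set_option autoImplicit false
universe u
open CAlg

namespace Groth.Agent.S6273

/-- Let R be a ring, S ⊆ R a multiplicative subset and A = S⁻¹R. If the image of Spec(A) → Spec(R) is
closed, then the localization map R → A is surjective; in particular A is isomorphic to R/I for the
ideal I = ker(R → A). -/
theorem result {R : Type u} [CommRing R] (S : Submonoid R) (A : Type u) [CommRing A] [Algebra R A] [IsLocalization S A] (hcl : IsClosed (Set.range (PrimeSpectrum.comap (algebraMap R A)))) : Function.Surjective (algebraMap R A) := by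
  set φ := algebraMap R A with hφ
  have hrange : Set.range (PrimeSpectrum.comap φ) = PrimeSpectrum.zeroLocus (RingHom.ker φ) := by
    rw [← PrimeSpectrum.closure_range_comap, hcl.closure_eq]
  -- every element of S becomes a unit modulo the kernel
  have hunit : ∀ s ∈ S, ∃ r : R, φ r * φ s = 1 := by
    intro s hs
    by_contra hcon
    push_neg at hcon
    -- ideal ker ⊔ (s) is proper
    have hne : RingHom.ker φ ⊔ Ideal.span {s} ≠ ⊤ := by
      intro htop
      rw [Ideal.eq_top_iff_one] at htop
      obtain ⟨k, hk, y, hy, hky⟩ := Submodule.mem_sup.mp htop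
      obtain ⟨r, rfl⟩ := Ideal.mem_span_singleton'.mp hy
      apply hcon r
      have h1 : φ (k + r * s) = 1 := by rw [hky, map_one]
      rw [map_add, (RingHom.mem_ker).mp hk, zero_add, map_mul] at h1
      exact h1
    obtain ⟨m, hm, hle⟩ := Ideal.exists_le_maximal _ hne
    have hmem : (⟨m, hm.isPrime⟩ : PrimeSpectrum R) ∈ PrimeSpectrum.zeroLocus (RingHom.ker φ) := by
      intro x hx
      exact hle (Ideal.mem_sup_left hx)
    rw [← hrange] at hmem
    obtain ⟨q, hq⟩ := hmem
    have hs_m : s ∈ m := hle (Ideal.mem_sup_right (Ideal.mem_span_singleton_self s))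
    have hsq : φ s ∈ q.asIdeal := by
      have : s ∈ (PrimeSpectrum.comap φ q).asIdeal := by rw [hq]; exact hs_m
      exact this
    exact q.2.ne_top (Ideal.eq_top_of_isUnit_mem _ hsq (IsLocalization.map_units A ⟨s, hs⟩))
  intro a
  obtain ⟨x, s, rfl⟩ := IsLocalization.exists_mk'_eq S a
  obtain ⟨r, hr⟩ := hunit s s.2
  refine ⟨x * r, ?_⟩
  rw [IsLocalization.eq_mk'_iff_mul_eq, map_mul, mul_assoc, hr, mul_one]

end Groth.Agent.S6273
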