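import Groth.Statements.S6274
import Mathlib

set_option autoImplicit false
universe u
open CAlg

namespace Groth.Agent.S6274

/-- Let R be a ring, S ⊆ R a multiplicative subset and A = S⁻¹R, and assume the image of Spec(A) →
Spec(R) is closed. If Spec(R) is a Noetherian topological space (which holds when R is Noetherian)
or S is finitely generated as a monoid, then R is isomorphic to A × R' for some ring R', by an
isomorphism whose first component is the localization map R → A. -/
theorem result {R : Type u} [CommRing R] (S : Submonoid R) (A : Type u) [CommRing A] [Algebra R A] [IsLocalization S A] (hcl : IsClosed (Set.range (PrimeSpectrum.comap (algebraMap R A)))) (h : TopologicalSpace.NoetherianSpace (PrimeSpectrum R) ∨ S.FG) : ∃ (R' : Type u) (_ : CommRing R') (e : R ≃+* A × R'), ∀ x : R, (e x).1 = algebraMap R A x := by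
  classical
  have hrange : Set.range (PrimeSpectrum.comap (algebraMap R A)) =
      {p | Disjoint (S : Set R) p.asIdeal} := PrimeSpectrum.localization_comap_range A S
  -- Step 1: the image is a basic open `D(f)` with `f ∈ S`
  have hf : ∃ f ∈ S, ∀ p : PrimeSpectrum R,
      Disjoint (S : Set R) (p.asIdeal : Set R) ↔ f ∉ p.asIdeal := by
    rcases h with h | h
    · have hopen : IsOpen (Set.range (PrimeSpectrum.comap (algebraMap R A)))ᶜ := hcl.isOpen_compl
      have hcomp : IsCompact (Set.range (PrimeSpectrum.comap (algebraMap R A)))ᶜ :=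
        TopologicalSpace.NoetherianSpace.isCompact _
      obtain ⟨t, ht⟩ := (PrimeSpectrum.isCompact_isOpen_iff).mp ⟨hcomp, hopen⟩
      have hZ : Set.range (PrimeSpectrum.comap (algebraMap R A)) =
          PrimeSpectrum.zeroLocus (t : Set R) := by
        rw [← compl_inj_iff]; exact ht.symm
      have key : ∀ g ∈ t, ∃ s ∈ S, ∃ N : ℕ, s * g ^ N = 0 := by
        intro g hg
        have hnil : IsNilpotent (algebraMap R A g) := by
          rw [nilpotent_iff_mem_prime]
          intro J hJ
          have h1 : PrimeSpectrum.comap (algebraMap R A) ⟨J, hJ⟩ ∈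
              PrimeSpectrum.zeroLocus (t : Set R) := by
            rw [← hZ]; exact ⟨_, rfl⟩
          exact h1 hg
        obtain ⟨N, hN⟩ := hnil
        rw [← map_pow] at hN
        obtain ⟨s, hs⟩ := (IsLocalization.map_eq_zero_iff S A _).mp hN
        exact ⟨s, s.2, N, hs⟩
      choose! s hs N hsN using key
      have hprod : ∏ g ∈ t, s g ∈ S := Submonoid.prod_mem _ (fun g hg => hs g hg)
      refine ⟨∏ g ∈ t, s g, hprod, fun p => ?_⟩
      constructor
      · intro hd hmem
        exact Set.disjoint_left.mp hd hprod hmem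
      · intro hnot
        by_contra hnd
        have hp : p ∉ PrimeSpectrum.zeroLocus (t : Set R) := by
          rw [← hZ, hrange]; exact hnd
        rw [PrimeSpectrum.mem_zeroLocus, Set.not_subset] at hp
        obtain ⟨g, hgt, hgp⟩ := hp
        have h0 : s g * g ^ N g ∈ p.asIdeal := by rw [hsN g hgt]; exact zero_mem _
        have hsg : s g ∈ p.asIdeal := by
          rcases p.2.mem_or_mem h0 with h1 | h1
          · exact h1
          · exact absurd (p.2.mem_of_pow_mem _ h1) hgp
        apply hnot
        obtain ⟨c, hc⟩ := Finset.dvd_prod_of_mem s hgt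
        rw [hc]; exact p.asIdeal.mul_mem_right _ hsg
    · obtain ⟨T, hT⟩ := h
      have hprod : ∏ g ∈ T, g ∈ S :=
        Submonoid.prod_mem _ (fun g hg => hT ▸ Submonoid.subset_closure hg)
      refine ⟨∏ g ∈ T, g, hprod, fun p => ?_⟩
      constructor
      · intro hd hmem
        exact Set.disjoint_left.mp hd hprod hmem
      · intro hnot
        rw [Set.disjoint_left]
        intro x hxS hxp
        have hcl' : ∀ x ∈ Submonoid.closure (T : Set R), x ∈ p.asIdeal →
            ∃ g ∈ T, g ∈ p.asIdeal := by
          intro x hx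
          induction hx using Submonoid.closure_induction with
          | mem x hx => intro h; exact ⟨x, hx, h⟩
          | one => intro h; exact absurd h (p.asIdeal.ne_top_iff_one.mp p.2.ne_top)
          | mul x y _ _ ihx ihy =>
            intro h
            rcases p.2.mem_or_mem h with h | h
            exacts [ihx h, ihy h]
        obtain ⟨g, hgT, hgp⟩ := hcl' x (hT ▸ hxS) hxp
        apply hnot
        obtain ⟨c, hc⟩ := Finset.dvd_prod_of_mem (fun g => g) hgT
        rw [hc]; exact p.asIdeal.mul_mem_right _ hgp
  obtain ⟨f, hfS, hf⟩ := hf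
  have hZf : Set.range (PrimeSpectrum.comap (algebraMap R A)) =
      (PrimeSpectrum.basicOpen f : Set (PrimeSpectrum R)) := by
    rw [hrange]
    ext p
    simp only [Set.mem_setOf_eq, SetLike.mem_coe, PrimeSpectrum.mem_basicOpen]
    exact hf p
  have hclopen : IsClopen (Set.range (PrimeSpectrum.comap (algebraMap R A))) :=
    ⟨hcl, hZf ▸ (PrimeSpectrum.basicOpen f).isOpen⟩
  obtain ⟨e, he, hZe⟩ := PrimeSpectrum.isClopen_iff.mp hclopen
  have hmemZ : ∀ p : PrimeSpectrum R, Disjoint (S : Set R) (p.asIdeal : Set R) ↔ e ∉ p.asIdeal := by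
    intro p
    have h1 : p ∈ Set.range (PrimeSpectrum.comap (algebraMap R A)) ↔
        p ∈ (PrimeSpectrum.basicOpen e : Set (PrimeSpectrum R)) := by rw [hZe]
    rw [hrange] at h1
    simpa only [Set.mem_setOf_eq, SetLike.mem_coe, PrimeSpectrum.mem_basicOpen] using h1
  have hee : e * (1 - e) = 0 := by rw [mul_sub, mul_one, he.eq, sub_self]
  -- (a) `e ↦ 1` in `A`
  have hea : algebraMap R A e = 1 := by
    have hidem : IsIdempotentElem (algebraMap R A e) := he.map (algebraMap R A)
    have hunit : IsUnit (algebraMap R A e) := by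
      by_contra hnu
      obtain ⟨M, hM, heM⟩ := exists_max_ideal_of_mem_nonunits hnu
      have h1 : PrimeSpectrum.comap (algebraMap R A) ⟨M, hM.isPrime⟩ ∈
          (PrimeSpectrum.basicOpen e : Set (PrimeSpectrum R)) := by
        rw [← hZe]; exact ⟨_, rfl⟩
      exact h1 heM
    exact hunit.mul_left_cancel (by rw [hidem.eq, mul_one])
  -- (b) each `s ∈ S` is a unit modulo `1 - e`
  have hSunit : ∀ s ∈ S, ∃ a c : R, a * s + c * (1 - e) = 1 := by
    intro s hs
    have htop : Ideal.span {s} ⊔ Ideal.span {1 - e} = ⊤ := by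
      by_contra hne
      obtain ⟨M, hM, hle⟩ := Ideal.exists_le_maximal _ hne
      have hsM : s ∈ M := hle (Ideal.mem_sup_left (Ideal.mem_span_singleton_self s))
      have heM : 1 - e ∈ M := hle (Ideal.mem_sup_right (Ideal.mem_span_singleton_self _))
      have henot : e ∉ M := by
        intro heM'
        apply hM.ne_top
        rw [Ideal.eq_top_iff_one]
        have : (1 : R) = e + (1 - e) := by ring
        rw [this]; exact M.add_mem heM' heM
      have hdis := (hmemZ ⟨M, hM.isPrime⟩).mpr henot
      exact Set.disjoint_left.mp hdis hs hsM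
    have h1 : (1 : R) ∈ Ideal.span {s} ⊔ Ideal.span {1 - e} := by rw [htop]; trivial
    rw [Ideal.mem_span_singleton_sup] at h1
    obtain ⟨a, b, hb, hab⟩ := h1
    rw [Ideal.mem_span_singleton'] at hb
    obtain ⟨c, rfl⟩ := hb
    exact ⟨a, c, hab⟩
  have h1e : algebraMap R A (1 - e) = 0 := by rw [map_sub, map_one, hea, sub_self]
  -- surjectivity of `R → A`
  have hsurjA : Function.Surjective (algebraMap R A) := by
    intro y
    obtain ⟨⟨r, s⟩, hrs⟩ := IsLocalization.surj S y
    obtain ⟨a, c, hac⟩ := hSunit s s.2
    have h2 : algebraMap R A a * algebraMap R A s = 1 := by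
      have := congrArg (algebraMap R A) hac
      rw [map_add, map_mul, map_mul, h1e, mul_zero, add_zero, map_one] at this
      exact this
    refine ⟨r * a, ?_⟩
    rw [map_mul, ← hrs]
    simp only
    rw [mul_assoc, mul_comm (algebraMap R A ↑s), h2, mul_one]
  -- kernel of `R → A`
  have hker : ∀ x : R, algebraMap R A x = 0 → e * x = 0 := by
    intro x hx
    obtain ⟨s, hs⟩ := (IsLocalization.map_eq_zero_iff S A _).mp hx
    obtain ⟨a, c, hac⟩ := hSunit s s.2
    have h2 : x = c * (1 - e) * x := by
      calc x = (a * s + c * (1 - e)) * x := by rw [hac, one_mul]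
        _ = a * (s * x) + c * (1 - e) * x := by ring
        _ = c * (1 - e) * x := by rw [hs, mul_zero, zero_add]
    calc e * x = e * (c * (1 - e) * x) := by rw [← h2]
      _ = c * x * (e * (1 - e)) := by ring
      _ = 0 := by rw [hee, mul_zero]
  let φ : R →+* A × (R ⧸ Ideal.span {e}) :=
    (algebraMap R A).prod (Ideal.Quotient.mk (Ideal.span {e}))
  have hinj : Function.Injective φ := by
    rw [injective_iff_map_eq_zero]
    intro x hx
    have h1 : algebraMap R A x = 0 := congrArg Prod.fst hx
    have h2 : Ideal.Quotient.mk (Ideal.span {e}) x = 0 := congrArg Prod.snd hx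
    rw [Ideal.Quotient.eq_zero_iff_mem, Ideal.mem_span_singleton'] at h2
    obtain ⟨d, rfl⟩ := h2
    have h3 := hker _ h1
    calc d * e = e * (d * e) := by rw [← mul_assoc, mul_comm e d, mul_assoc, he.eq]
      _ = 0 := h3
  have hsurj : Function.Surjective φ := by
    rintro ⟨α, β⟩
    obtain ⟨a, rfl⟩ := hsurjA α
    obtain ⟨b, rfl⟩ := Ideal.Quotient.mk_surjective β
    refine ⟨e * a + (1 - e) * b, ?_⟩
    have hme : Ideal.Quotient.mk (Ideal.span {e}) e = 0 :=
      Ideal.Quotient.eq_zero_iff_mem.mpr (Ideal.mem_span_singleton_self e)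
    refine Prod.ext ?_ ?_
    · show algebraMap R A (e * a + (1 - e) * b) = algebraMap R A a
      rw [map_add, map_mul, map_mul, hea, h1e, one_mul, zero_mul, add_zero]
    · show Ideal.Quotient.mk (Ideal.span {e}) (e * a + (1 - e) * b) =
        Ideal.Quotient.mk (Ideal.span {e}) b
      rw [map_add, map_mul, map_mul, map_sub, map_one, hme, zero_mul, zero_add, sub_zero, one_mul]
  exact ⟨R ⧸ Ideal.span {e}, inferInstance, RingEquiv.ofBijective φ ⟨hinj, hsurj⟩, fun x => rfl⟩

end Groth.Agent.S6274
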