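import Groth.Statements.S6275
import Mathlib

set_option autoImplicit false
universe u
open CAlg

namespace Groth.Agent.S6275

/-- Let R be a Noetherian ring and p ⊆ R a prime. Then there is f ∈ R, f ∉ p, such that R_f → R_p is
injective; equivalently every x ∈ R mapping to zero in R_p maps to zero in R_f. (The cases of a
domain and of a reduced ring with finitely many minimal primes are not included here.) -/
theorem result {R : Type u} [CommRing R] [IsNoetherianRing R] (p : Ideal R) [p.IsPrime] : ∃ f : R, f ∉ p ∧ ∀ x : R, algebraMap R (Localization.AtPrime p) x = 0 → algebraMap R (Localization.Away f) x = 0 := by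
  classical
  set K : Ideal R := RingHom.ker (algebraMap R (Localization.AtPrime p)) with hK
  obtain ⟨S, hS⟩ : K.FG := IsNoetherian.noetherian K
  have hmem : ∀ x ∈ K, ∃ s : p.primeCompl, (s : R) * x = 0 := by
    intro x hx
    rw [hK, RingHom.mem_ker] at hx
    exact (IsLocalization.map_eq_zero_iff p.primeCompl (Localization.AtPrime p) x).mp hx
  have hS' : ∀ x ∈ S, x ∈ K := fun x hx => hS ▸ Ideal.subset_span hx
  choose! s hs using hmem
  refine ⟨∏ x ∈ S, (s x : R), ?_, ?_⟩
  · have : ∏ x ∈ S, (s x : R) ∈ p.primeCompl := prod_mem (fun x _ => (s x).2)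
    exact this
  · intro x hx
    have hxK : x ∈ K := by rw [hK, RingHom.mem_ker]; exact hx
    have hkill : ∀ y ∈ K, (∏ x ∈ S, (s x : R)) * y = 0 := by
      intro y hy
      rw [← hS] at hy
      refine Submodule.span_induction ?_ ?_ ?_ ?_ hy
      · intro z hz
        rw [← Finset.mul_prod_erase S _ hz, mul_comm (s z : R), mul_assoc, hs z (hS' z hz), mul_zero]
      · simp
      · intro a b _ _ ha hb
        rw [mul_add, ha, hb, add_zero]
      · intro a b _ hb
        rw [smul_eq_mul, mul_left_comm, hb, mul_zero]
    rw [IsLocalization.map_eq_zero_iff (Submonoid.powers (∏ x ∈ S, (s x : R)))]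
    exact ⟨⟨_, Submonoid.mem_powers _⟩, hkill x hxK⟩

end Groth.Agent.S6275
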