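import Groth.Statements.S6276
import Mathlib

set_option autoImplicit false
universe u
open scoped TensorProduct
open CAlg

namespace Groth.Agent.S6276

theorem aux (k : Type u) [Field k] (R : Type u) [CommRing R] [Algebra k R] [IsNoetherianRing R]
    (K : Type u) [Field K] [Algebra k K] (A : Type u) [CommRing A] [Algebra k A] [Algebra A K]
    [IsScalarTower k A K] [IsFractionRing A K] [Algebra.FiniteType k A] :
    IsNoetherianRing (K ⊗[k] R) := by
  haveI : Algebra.FiniteType R (R ⊗[k] A) := inferInstance
  haveI : IsNoetherianRing (R ⊗[k] A) := Algebra.FiniteType.isNoetherianRing R _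
  haveI : IsNoetherianRing (A ⊗[k] R) :=
    isNoetherianRing_of_ringEquiv _ (Algebra.TensorProduct.comm k R A).toRingEquiv
  letI : Algebra (A ⊗[k] R) (K ⊗[k] R) :=
    (Algebra.TensorProduct.map (IsScalarTower.toAlgHom k A K) (AlgHom.id k R)).toRingHom.toAlgebra
  haveI : IsScalarTower A (A ⊗[k] R) (K ⊗[k] R) :=
    .of_algebraMap_eq (by
      intro x
      show _ = (Algebra.TensorProduct.map (IsScalarTower.toAlgHom k A K) (AlgHom.id k R)) _
      rw [Algebra.TensorProduct.algebraMap_apply (R := k) (S := A) (A := K) (B := R),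
        Algebra.TensorProduct.algebraMap_apply (R := k) (S := A) (A := A) (B := R)]
      simp)
  have := IsLocalization.tensorProduct_tensorProduct k R (nonZeroDivisors A) K
    (by
      ext r
      show (Algebra.TensorProduct.map (IsScalarTower.toAlgHom k A K) (AlgHom.id k R)) (1 ⊗ₜ r) = _
      simp)
  exact IsLocalization.isNoetherianRing (Algebra.algebraMapSubmonoid (A ⊗[k] R) (nonZeroDivisors A)) _ inferInstance


/-- Let k be a field, R a Noetherian k-algebra and K/k a finitely generated field extension. Then K ⊗ₖ R
is a Noetherian ring. -/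
theorem result (k : Type u) [Field k] (R : Type u) [CommRing R] [Algebra k R] [IsNoetherianRing R] (K : Type u) [Field K] [Algebra k K] (hK : ∃ s : Finset K, IntermediateField.adjoin k (s : Set K) = ⊤) : IsNoetherianRing (K ⊗[k] R) := by
  classical
  obtain ⟨s, hs⟩ := hK
  let A : Subalgebra k K := Algebra.adjoin k (s : Set K)
  haveI : IsFractionRing A K := by
    refine IsFractionRing.of_field A K fun z => ?_
    have hz : z ∈ IntermediateField.adjoin k (s : Set K) := by rw [hs]; trivial
    obtain ⟨x, hx, y, hy, e⟩ := IntermediateField.mem_adjoin_iff_div.mp hz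
    exact ⟨⟨x, hx⟩, ⟨y, hy⟩, e⟩
  haveI : Algebra.FiniteType k A :=
    (Subalgebra.fg_iff_finiteType _).mp (Subalgebra.fg_adjoin_finset s)
  exact aux k R K A

end Groth.Agent.S6276
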