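import Groth.Statements.S6278
import Mathlib

set_option autoImplicit false
universe u
open CAlg

namespace Groth.Agent.S6278

/-- A normal ring R (all localizations at primes are integrally closed domains) is integrally closed in
its total ring of fractions. -/
theorem result (R : Type u) [CommRing R] (hR : EGA4.IsNormalRing R) : IsIntegrallyClosedIn R (FractionRing R) := by
  classical
  rw [isIntegrallyClosedIn_iff]
  refine ⟨IsFractionRing.injective R (FractionRing R), ?_⟩
  intro x hx
  obtain ⟨a, ⟨b, hb⟩, rfl⟩ := IsLocalization.exists_mk'_eq (nonZeroDivisors R) x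
  suffices h : a ∈ Ideal.span {b} by
    obtain ⟨y, hy⟩ := Ideal.mem_span_singleton'.mp h
    refine ⟨y, ?_⟩
    rw [IsLocalization.eq_mk'_iff_mul_eq, ← map_mul, hy]
  by_contra hab
  let J : Ideal R :=
    { carrier := {r | r * a ∈ Ideal.span {b}}
      zero_mem' := by simp
      add_mem' := fun {x y} hx hy => by
        simp only [Set.mem_setOf_eq, add_mul] at *; exact Ideal.add_mem _ hx hy
      smul_mem' := fun c x hx => by
        simp only [Set.mem_setOf_eq, smul_eq_mul, mul_assoc] at *
        exact Ideal.mul_mem_left _ c hx }
  have hJ : J ≠ ⊤ := by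
    intro h
    apply hab
    have h1 : (1:R) ∈ J := by rw [h]; trivial
    have h2 : (1:R) * a ∈ Ideal.span {b} := h1
    rwa [one_mul] at h2
  obtain ⟨p, hpmax, hJp⟩ := Ideal.exists_le_maximal J hJ
  haveI hpp : p.IsPrime := hpmax.isPrime
  obtain ⟨hdom, hic⟩ := hR p
  haveI := hdom
  haveI := hic
  have hunit : ∀ y : nonZeroDivisors R,
      IsUnit (algebraMap R (FractionRing (Localization.AtPrime p)) y) := by
    rintro ⟨y, hy⟩
    have hy0 : algebraMap R (Localization.AtPrime p) y ≠ 0 := by
      intro h0
      obtain ⟨⟨s, hs⟩, hs0⟩ :=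
        (IsLocalization.map_eq_zero_iff p.primeCompl (Localization.AtPrime p) y).mp h0
      have : s = 0 := (mem_nonZeroDivisors_iff_right.mp hy) s hs0
      apply hs; rw [this]; exact p.zero_mem
    rw [IsScalarTower.algebraMap_apply R (Localization.AtPrime p)
      (FractionRing (Localization.AtPrime p))]
    apply IsUnit.mk0
    intro h; apply hy0
    exact (IsFractionRing.injective (Localization.AtPrime p)
      (FractionRing (Localization.AtPrime p))) (by rw [h, map_zero])
  let φ : FractionRing R →+* FractionRing (Localization.AtPrime p) := IsLocalization.lift hunit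
  let φa : FractionRing R →ₐ[R] FractionRing (Localization.AtPrime p) :=
    { φ with commutes' := fun r => IsLocalization.lift_eq hunit r }
  have hint : IsIntegral R (φa (IsLocalization.mk' (FractionRing R) a ⟨b, hb⟩)) := hx.map φa
  have hint' : IsIntegral (Localization.AtPrime p)
      (φa (IsLocalization.mk' (FractionRing R) a ⟨b, hb⟩)) := hint.tower_top
  obtain ⟨c, hc⟩ := (isIntegrallyClosed_iff (FractionRing (Localization.AtPrime p))).mp hic hint'
  have h1 : φ (IsLocalization.mk' (FractionRing R) a ⟨b, hb⟩) *
      algebraMap R (FractionRing (Localization.AtPrime p)) b =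
      algebraMap R (FractionRing (Localization.AtPrime p)) a := by
    have := IsLocalization.mk'_spec (FractionRing R) a ⟨b, hb⟩
    have h2 := congrArg φ this
    rw [map_mul, IsLocalization.lift_eq, IsLocalization.lift_eq] at h2
    exact h2
  have h3 : c * algebraMap R (Localization.AtPrime p) b = algebraMap R (Localization.AtPrime p) a := by
    apply IsFractionRing.injective (Localization.AtPrime p) (FractionRing (Localization.AtPrime p))
    rw [map_mul, hc, ← IsScalarTower.algebraMap_apply, ← IsScalarTower.algebraMap_apply]
    exact h1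
  obtain ⟨r, ⟨s, hs⟩, rfl⟩ := IsLocalization.exists_mk'_eq p.primeCompl c
  have h4 : algebraMap R (Localization.AtPrime p) (r * b) =
      algebraMap R (Localization.AtPrime p) (s * a) := by
    have := IsLocalization.mk'_spec (Localization.AtPrime p) r ⟨s, hs⟩
    rw [map_mul, map_mul, ← this, ← h3]; ring
  obtain ⟨⟨t, ht⟩, ht'⟩ := (IsLocalization.eq_iff_exists p.primeCompl (Localization.AtPrime p)).mp h4
  have h5 : t * s ∈ J := by
    show t * s * a ∈ Ideal.span {b}
    rw [Ideal.mem_span_singleton']
    refine ⟨t * r, ?_⟩
    simp only at ht'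
    linear_combination ht'
  have h6 : t * s ∈ p := hJp h5
  rcases hpp.mem_or_mem h6 with h | h
  · exact ht h
  · exact hs h

end Groth.Agent.S6278
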