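import Groth.Statements.S6281
import Mathlib

set_option autoImplicit false
universe u
open CAlg

namespace Groth.Agent.S6281

open TensorProduct in
theorem key {R S : Type u} [CommRing R] [CommRing S] [Algebra R S] (M : Type u) [AddCommGroup M]
    [Module S M] [Module R M] [IsScalarTower R S M] {N N' : Type u} [AddCommGroup N]
    [AddCommGroup N'] [Module R N] [Module R N'] (L : N →ₗ[R] N') :
    Function.Injective ((TensorProduct.AlgebraTensorModule.lTensor S S L).lTensor M) ↔
      Function.Injective (L.lTensor M) := by
  have comm : ∀ x, TensorProduct.AlgebraTensorModule.cancelBaseChange R S S M N'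
      (((TensorProduct.AlgebraTensorModule.lTensor S S L).lTensor M) x) =
      (L.lTensor M) (TensorProduct.AlgebraTensorModule.cancelBaseChange R S S M N x) := by
    intro x
    induction x using TensorProduct.induction_on with
    | zero => simp
    | tmul m y =>
      induction y using TensorProduct.induction_on with
      | zero => simp
      | tmul s n => simp
      | add a b ha hb => simp only [TensorProduct.tmul_add, map_add, ha, hb]
    | add a b ha hb => simp only [map_add, ha, hb]
  constructor
  · intro h a b hab
    have ha := comm ((TensorProduct.AlgebraTensorModule.cancelBaseChange R S S M N).symm a)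
    have hb := comm ((TensorProduct.AlgebraTensorModule.cancelBaseChange R S S M N).symm b)
    rw [LinearEquiv.apply_symm_apply] at ha hb
    rw [← ha, ← hb] at hab
    have := h ((TensorProduct.AlgebraTensorModule.cancelBaseChange R S S M N').injective hab)
    exact (TensorProduct.AlgebraTensorModule.cancelBaseChange R S S M N).symm.injective this
  · intro h a b hab
    have : TensorProduct.AlgebraTensorModule.cancelBaseChange R S S M N'
        (((TensorProduct.AlgebraTensorModule.lTensor S S L).lTensor M) a) =
        TensorProduct.AlgebraTensorModule.cancelBaseChange R S S M N'
        (((TensorProduct.AlgebraTensorModule.lTensor S S L).lTensor M) b) := by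
      rw [hab]
    rw [comm, comm] at this
    exact (TensorProduct.AlgebraTensorModule.cancelBaseChange R S S M N).injective (h this)


/-- For an R-algebra S and an S-module M, flatness of S over R follows once M is both flat over R and
faithfully flat over S. -/
theorem result {R S : Type u} [CommRing R] [CommRing S] [Algebra R S] (M : Type u) [AddCommGroup M] [Module S M] [Module R M] [IsScalarTower R S M] [Module.Flat R M] [Module.FaithfullyFlat S M] : Module.Flat R S := by
  rw [Module.Flat.iff_lTensor_preserves_injective_linearMap]
  intro N N' _ _ _ _ L hL
  have h1 : Function.Injective (L.lTensor M) :=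
    Module.Flat.lTensor_preserves_injective_linearMap L hL
  rw [← key (S := S)] at h1
  rw [Module.FaithfullyFlat.lTensor_injective_iff_injective,
    TensorProduct.AlgebraTensorModule.coe_lTensor] at h1
  exact h1

end Groth.Agent.S6281
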