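import Groth.Statements.S6282
import Mathlib

set_option autoImplicit false
universe u
open scoped TensorProduct
open CAlg

namespace Groth.Agent.S6282

open TensorProduct in
theorem key {R S S' : Type u} [CommRing R] [CommRing S] [CommRing S'] [Algebra R S] [Algebra R S']
    [Algebra S S'] [IsScalarTower R S S'] (M : Type u) [AddCommGroup M] [Module S M] [Module R M]
    [IsScalarTower R S M] {N N' : Type u} [AddCommGroup N] [AddCommGroup N'] [Module R N]
    [Module R N'] (L : N →ₗ[R] N') :
    Function.Injective (L.lTensor (S' ⊗[S] M)) ↔
      Function.Injective ((TensorProduct.AlgebraTensorModule.lTensor S M L).lTensor S') := by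
  have comm : ∀ x, TensorProduct.AlgebraTensorModule.assoc R S S' S' M N' (L.lTensor (S' ⊗[S] M) x) =
      (TensorProduct.AlgebraTensorModule.lTensor S M L).lTensor S'
        (TensorProduct.AlgebraTensorModule.assoc R S S' S' M N x) := by
    intro x
    induction x using TensorProduct.induction_on with
    | zero => simp
    | tmul y n =>
      induction y using TensorProduct.induction_on with
      | zero => simp
      | tmul s m => simp
      | add a b ha hb => simp only [TensorProduct.add_tmul, map_add, ha, hb]
    | add a b ha hb => simp only [map_add, ha, hb]
  constructor
  · intro h a b hab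
    have ha := comm ((TensorProduct.AlgebraTensorModule.assoc R S S' S' M N).symm a)
    have hb := comm ((TensorProduct.AlgebraTensorModule.assoc R S S' S' M N).symm b)
    rw [LinearEquiv.apply_symm_apply] at ha hb
    rw [← ha, ← hb] at hab
    have := h ((TensorProduct.AlgebraTensorModule.assoc R S S' S' M N').injective hab)
    exact (TensorProduct.AlgebraTensorModule.assoc R S S' S' M N).symm.injective this
  · intro h a b hab
    have : TensorProduct.AlgebraTensorModule.assoc R S S' S' M N' (L.lTensor (S' ⊗[S] M) a) =
        TensorProduct.AlgebraTensorModule.assoc R S S' S' M N' (L.lTensor (S' ⊗[S] M) b) := by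
      rw [hab]
    rw [comm, comm] at this
    exact (TensorProduct.AlgebraTensorModule.assoc R S S' S' M N).injective (h this)


/-- Let S → S' be a homomorphism of R-algebras, M an S-module, and M' = S' ⊗_S M with its induced
R-module structure. (1) When S' is flat over S, R-flatness of M passes to M'. (2) When S' is
faithfully flat over S, M is R-flat exactly when M' is. -/
theorem result {R S S' : Type u} [CommRing R] [CommRing S] [CommRing S'] [Algebra R S] [Algebra R S'] [Algebra S S'] [IsScalarTower R S S'] (M : Type u) [AddCommGroup M] [Module S M] [Module R M] [IsScalarTower R S M] : ([Module.Flat S S'] → Module.Flat R M → Module.Flat R (S' ⊗[S] M)) ∧ ([Module.FaithfullyFlat S S'] → (Module.Flat R M ↔ Module.Flat R (S' ⊗[S] M))) := by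
  constructor
  · intro _ hM
    rw [Module.Flat.iff_lTensor_preserves_injective_linearMap]
    intro N N' _ _ _ _ L hL
    rw [key]
    apply Module.Flat.lTensor_preserves_injective_linearMap
    rw [TensorProduct.AlgebraTensorModule.coe_lTensor]
    exact Module.Flat.lTensor_preserves_injective_linearMap L hL
  · intro _
    constructor
    · intro hM
      rw [Module.Flat.iff_lTensor_preserves_injective_linearMap]
      intro N N' _ _ _ _ L hL
      rw [key]
      apply Module.Flat.lTensor_preserves_injective_linearMap
      rw [TensorProduct.AlgebraTensorModule.coe_lTensor]
      exact Module.Flat.lTensor_preserves_injective_linearMap L hL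
    · intro hM'
      rw [Module.Flat.iff_lTensor_preserves_injective_linearMap]
      intro N N' _ _ _ _ L hL
      have h1 := Module.Flat.lTensor_preserves_injective_linearMap (M := S' ⊗[S] M) L hL
      rw [key, Module.FaithfullyFlat.lTensor_injective_iff_injective,
        TensorProduct.AlgebraTensorModule.coe_lTensor] at h1
      exact h1

end Groth.Agent.S6282
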