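import Groth.Statements.S6283
import Mathlib

set_option autoImplicit false
universe u
open scoped TensorProduct
open CAlg

namespace Groth.Agent.S6283

open TensorProduct in
theorem part_a {R S : Type u} [CommRing R] [CommRing S] [Algebra R S] [Module.Flat R S]
    (M : Type u) [AddCommGroup M] [Module R M] (m : M) :
    ((Submodule.span R {m}).annihilator).map (algebraMap R S)
      = (Submodule.span S {(1 : S) ⊗ₜ[R] m}).annihilator := by
  apply le_antisymm
  · rw [Ideal.map_le_iff_le_comap]
    intro r hr
    rw [Submodule.mem_annihilator_span_singleton] at hr
    rw [Ideal.mem_comap, Submodule.mem_annihilator_span_singleton]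
    calc algebraMap R S r • ((1:S) ⊗ₜ[R] m) = (algebraMap R S r) ⊗ₜ[R] m := by
          rw [TensorProduct.smul_tmul', smul_eq_mul, mul_one]
      _ = (r • (1:S)) ⊗ₜ[R] m := by rw [Algebra.smul_def, mul_one]
      _ = (1:S) ⊗ₜ[R] (r • m) := by rw [TensorProduct.smul_tmul]
      _ = 0 := by rw [hr, TensorProduct.tmul_zero]
  · intro s hs
    rw [Submodule.mem_annihilator_span_singleton] at hs
    let f : R →ₗ[R] M := LinearMap.toSpanSingleton R M m
    have hker : ∀ r : R, r ∈ LinearMap.ker f → r ∈ (Submodule.span R {m}).annihilator := by
      intro r hr
      rw [Submodule.mem_annihilator_span_singleton]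
      simpa [f] using hr
    have hex : Function.Exact (LinearMap.ker f).subtype f := LinearMap.exact_subtype_ker_map f
    have hex' := Module.Flat.lTensor_exact S hex
    have h1 : (f.lTensor S) (s ⊗ₜ[R] (1:R)) = 0 := by
      rw [LinearMap.lTensor_tmul]
      have : f 1 = m := by simp [f]
      rw [this]
      rw [TensorProduct.smul_tmul', smul_eq_mul, mul_one] at hs
      exact hs
    obtain ⟨y, hy⟩ := (hex' _).mp h1
    have key : ∀ y : S ⊗[R] (LinearMap.ker f),
        TensorProduct.rid R S ((LinearMap.ker f).subtype.lTensor S y) ∈
          ((Submodule.span R {m}).annihilator).map (algebraMap R S) := by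
      intro y
      induction y using TensorProduct.induction_on with
      | zero => simp
      | tmul t i =>
        rw [LinearMap.lTensor_tmul, TensorProduct.rid_tmul, Submodule.subtype_apply,
          Algebra.smul_def]
        apply Ideal.mul_mem_right
        apply Ideal.mem_map_of_mem
        exact hker _ i.2
      | add a b ha hb => rw [map_add, map_add]; exact Ideal.add_mem _ ha hb
    have := key y
    rw [hy, TensorProduct.rid_tmul, one_smul] at this
    exact this


/-- Let R → S be a flat ring map, M an R-module and m ∈ M. Then Ann_R(m)S = Ann_S(1 ⊗ m), the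
annihilator in S of the element 1 ⊗ m of S ⊗_R M. If moreover M is a finite R-module then Ann_R(M)S
= Ann_S(S ⊗_R M). -/
theorem result {R S : Type u} [CommRing R] [CommRing S] [Algebra R S] [Module.Flat R S] (M : Type u) [AddCommGroup M] [Module R M] : (∀ m : M, ((Submodule.span R {m}).annihilator).map (algebraMap R S) = (Submodule.span S {(1 : S) ⊗ₜ[R] m}).annihilator) ∧ (Module.Finite R M → (Module.annihilator R M).map (algebraMap R S) = Module.annihilator S (S ⊗[R] M)) := by
  classical
  refine ⟨fun m => part_a M m, ?_⟩
  intro hfin
  obtain ⟨n, v, hv⟩ := Module.Finite.exists_fin (R := R) (M := M)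
  have hA := part_a (R := R) (S := S) (Fin n → M) v
  have c1 : (Submodule.span R {v}).annihilator = Module.annihilator R M := by
    ext r
    rw [Submodule.mem_annihilator_span_singleton, Module.mem_annihilator]
    constructor
    · intro h x
      have hx : x ∈ Submodule.span R (Set.range v) := by rw [hv]; trivial
      induction hx using Submodule.span_induction with
      | mem y hy =>
        obtain ⟨i, rfl⟩ := hy
        exact congrFun h i
      | zero => exact smul_zero r
      | add a b _ _ ha hb => rw [smul_add, ha, hb, add_zero]
      | smul c a _ ha => rw [smul_comm, ha, smul_zero]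
    · intro h
      funext i
      exact h (v i)
  have c2 : (Submodule.span S {(1 : S) ⊗ₜ[R] v}).annihilator = Module.annihilator S (S ⊗[R] M) := by
    ext s
    rw [Submodule.mem_annihilator_span_singleton, Module.mem_annihilator,
      TensorProduct.smul_tmul', smul_eq_mul, mul_one]
    constructor
    · intro h
      have h' : ∀ i, s ⊗ₜ[R] v i = (0 : S ⊗[R] M) := by
        intro i
        have := congrArg (TensorProduct.piRight R S S (fun _ : Fin n => M)) h
        rw [TensorProduct.piRight_apply, TensorProduct.piRightHom_tmul, map_zero] at this
        exact congrFun this i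
      have P : ∀ y : M, ∀ t : S, (s * t) ⊗ₜ[R] y = (0 : S ⊗[R] M) := by
        intro y
        have hy : y ∈ Submodule.span R (Set.range v) := by rw [hv]; trivial
        induction hy using Submodule.span_induction with
        | mem y hy =>
          obtain ⟨i, rfl⟩ := hy
          intro t
          have : (s * t) ⊗ₜ[R] v i = t • (s ⊗ₜ[R] v i) := by
            rw [TensorProduct.smul_tmul', smul_eq_mul, mul_comm]
          rw [this, h' i, smul_zero]
        | zero => intro t; exact TensorProduct.tmul_zero _ _
        | add a b _ _ ha hb => intro t; rw [TensorProduct.tmul_add, ha, hb, add_zero]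
        | smul c a _ ha =>
          intro t
          rw [← TensorProduct.smul_tmul, ← mul_smul_comm]
          exact ha (c • t)
      intro x
      induction x using TensorProduct.induction_on with
      | zero => exact smul_zero s
      | tmul t y => rw [TensorProduct.smul_tmul', smul_eq_mul]; exact P y t
      | add a b ha hb => rw [smul_add, ha, hb, add_zero]
    · intro h
      apply (TensorProduct.piRight R S S (fun _ : Fin n => M)).injective
      rw [TensorProduct.piRight_apply, TensorProduct.piRightHom_tmul, map_zero]
      funext i
      have := h ((1 : S) ⊗ₜ[R] v i)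
      rw [TensorProduct.smul_tmul', smul_eq_mul, mul_one] at this
      exact this
  rw [← c1, ← c2]
  exact hA

end Groth.Agent.S6283
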