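import Groth.Statements.S6891
import Mathlib.LinearAlgebra.Matrix.Adjugate
import Mathlib.RingTheory.Support
import Mathlib.Tactic

set_option autoImplicit false
universe u
open Fitt

namespace Groth.Agent.S6891

lemma det_smul_eq_zero {R : Type*} [CommRing R] {M : Type*} [AddCommGroup M] [Module R M]
    {n : ℕ} (a : Matrix (Fin n) (Fin n) R) (x : Fin n → M)
    (h : ∀ i, ∑ j, a i j • x j = 0) (k : Fin n) : a.det • x k = 0 := by
  have h1 : a.det • x k = ∑ j, (a.adjugate * a) k j • x j := by
    rw [Matrix.adjugate_mul]
    simp only [Matrix.smul_apply, Matrix.one_apply, smul_eq_mul, mul_ite, mul_one, mul_zero]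
    rw [Finset.sum_eq_single k]
    · simp
    · intro j _ hjk
      rw [if_neg (Ne.symm hjk), zero_smul]
    · intro hk; exact absurd (Finset.mem_univ k) hk
  rw [h1]
  simp only [Matrix.mul_apply, Finset.sum_smul, mul_smul]
  rw [Finset.sum_comm]
  apply Finset.sum_eq_zero
  intro i _
  rw [← Finset.smul_sum, h i, smul_zero]

lemma det_mem_annihilator {R : Type*} [CommRing R] {M : Type*} [AddCommGroup M] [Module R M]
    {n : ℕ} (a : Matrix (Fin n) (Fin n) R) (x : Fin n → M)
    (hx : Submodule.span R (Set.range x) = ⊤)
    (h : ∀ i, ∑ j, a i j • x j = 0) : a.det ∈ Module.annihilator R M := by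
  rw [Module.mem_annihilator]
  intro m
  have hm : m ∈ Submodule.span R (Set.range x) := by rw [hx]; trivial
  induction hm using Submodule.span_induction with
  | mem y hy =>
    obtain ⟨k, rfl⟩ := hy
    exact det_smul_eq_zero a x h k
  | zero => exact smul_zero _
  | add y z _ _ hy hz => rw [smul_add, hy, hz, add_zero]
  | smul c y _ hy => rw [smul_comm, hy, smul_zero]

lemma fitt_zero_le_annihilator {R : Type*} [CommRing R] (M : Type*) [AddCommGroup M] [Module R M] :
    Fitt.ideal R M 0 ≤ Module.annihilator R M := by
  unfold Fitt.ideal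
  rw [Ideal.span_le]
  rintro d ⟨n, x, a, hx, hrel, rfl⟩
  exact det_mem_annihilator a x hx (fun i => hrel i (by simp))

/-- Let `M` be a finite `R`-module. Then `Fit_0(M) ⊆ Ann_R(M)`, the closed set `V(Fit_0(M))` equals
`Supp(M)`, and for an ideal `I` one has `Fit_0(R/I) = I`. -/
theorem result {R : Type u} [CommRing R] (M : Type u) [AddCommGroup M]
    [Module R M] [Module.Finite R M] (I : Ideal R) :
    Fitt.ideal R M 0 ≤ Module.annihilator R M ∧
    PrimeSpectrum.zeroLocus (Fitt.ideal R M 0 : Set R) = Module.support R M ∧
    Fitt.ideal R (R ⧸ I) 0 = I := by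
  classical
  refine ⟨fitt_zero_le_annihilator M, ?_, ?_⟩
  · rw [Module.support_eq_zeroLocus]
    apply Set.Subset.antisymm
    · intro p hp
      rw [PrimeSpectrum.mem_zeroLocus] at hp ⊢
      intro s hs
      obtain ⟨n, x, hx⟩ := Module.Finite.exists_fin (R := R) (M := M)
      have hmem : s ^ n ∈ Fitt.ideal R M 0 := by
        unfold Fitt.ideal
        apply Ideal.subset_span
        refine ⟨n, x, s • (1 : Matrix (Fin n) (Fin n) R), hx, ?_, ?_⟩
        · intro i _
          have hs' : ∀ m : M, s • m = 0 := Module.mem_annihilator.mp hs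
          simp only [Matrix.smul_apply, Matrix.one_apply, smul_eq_mul, mul_ite, mul_one, mul_zero]
          apply Finset.sum_eq_zero
          intro j _
          split_ifs
          · exact hs' _
          · exact zero_smul _ _
        · rw [Matrix.det_smul, Matrix.det_one, mul_one, Fintype.card_fin]
      exact p.2.mem_of_pow_mem n (hp hmem)
    · exact PrimeSpectrum.zeroLocus_anti_mono (fitt_zero_le_annihilator M)
  · apply le_antisymm
    · have := fitt_zero_le_annihilator (R := R) (R ⧸ I)
      rwa [Ideal.annihilator_quotient] at this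
    · intro i hi
      unfold Fitt.ideal
      apply Ideal.subset_span
      refine ⟨1, fun _ => (1 : R ⧸ I), Matrix.of fun _ _ => i, ?_, ?_, ?_⟩
      · rw [eq_top_iff]
        intro y _
        obtain ⟨r, rfl⟩ := Ideal.Quotient.mk_surjective y
        have : (Ideal.Quotient.mk I r) = r • (1 : R ⧸ I) := by
          rw [Algebra.smul_def, mul_one]; rfl
        rw [this]
        exact Submodule.smul_mem _ _ (Submodule.subset_span ⟨0, rfl⟩)
      · intro j _
        simp only [Finset.univ_unique, Matrix.of_apply, Finset.sum_singleton]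
        rw [Algebra.smul_def, mul_one]
        exact Ideal.Quotient.eq_zero_iff_mem.mpr hi
      · simp [Matrix.det_fin_one]

end Groth.Agent.S6891
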