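import Groth.Statements.S6892
import Groth.Agent.Lib.Helper22.Fitting
import Groth.Agent.Lib.Helper22.FitSpan
import Mathlib.Algebra.Module.FinitePresentation

set_option autoImplicit false
universe u
open Fitt

namespace Groth.Agent.S6892

/-- Let `M` be a finite `R`-module. When `n` elements generate `M` one has `Fit_n(M) = R`; when `M` is
of finite presentation every `Fit_k(M)` is finitely generated as an ideal; and a surjection `M → M'`
onto another module gives `Fit_k(M) ⊆ Fit_k(M')` for every `k`. -/
theorem result {R : Type u} [CommRing R] (M M' : Type u) [AddCommGroup M]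
    [Module R M] [Module.Finite R M] [AddCommGroup M'] [Module R M'] (k : ℕ) :
    (∀ (n : ℕ) (x : Fin n → M), Submodule.span R (Set.range x) = ⊤ → Fitt.ideal R M n = ⊤) ∧
    (Module.FinitePresentation R M → (Fitt.ideal R M k).FG) ∧
    (∀ f : M →ₗ[R] M', Function.Surjective f → Fitt.ideal R M k ≤ Fitt.ideal R M' k) := by
  refine ⟨?_, ?_, ?_⟩
  · intro n x hx
    rw [Ideal.eq_top_iff_one]
    unfold Fitt.ideal
    apply Ideal.subset_span
    refine ⟨n, x, 1, hx, ?_, by simp⟩
    intro i hi
    simp at hi
  · intro hfp
    obtain ⟨n, x, hx⟩ := Module.Finite.exists_fin (R := R) (M := M)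
    rw [Groth.Agent.Helper22.Fitting.ideal_eq_Imin x hx k]
    apply Groth.Agent.Helper22.FitCore.Imin_fg
    unfold Groth.Agent.Helper22.FitCore.Rel
    apply Module.FinitePresentation.fg_ker
    rw [← LinearMap.range_eq_top, Fintype.range_linearCombination, hx]
  · intro f hf
    unfold Fitt.ideal
    apply Ideal.span_mono
    rintro d ⟨n, x, a, hx, hrel, rfl⟩
    refine ⟨n, f ∘ x, a, ?_, ?_, rfl⟩
    · rw [Set.range_comp, ← Submodule.map_span, hx, Submodule.map_top, LinearMap.range_eq_top.2 hf]
    · intro i hi
      have := congrArg f (hrel i hi)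
      simpa [map_sum] using this

end Groth.Agent.S6892
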