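import Groth.Statements.S6285
import Mathlib
import Groth.Agent.S6891
import Groth.Agent.S6892

set_option autoImplicit false
universe u
open CAlg

namespace Groth.Agent.S6285

/-- For a ring R and an R-module M of finite presentation, the support Supp(M) is closed in Spec(R), and
its complement in Spec(R) is quasi-compact. -/
theorem result (R : Type u) [CommRing R] (M : Type u) [AddCommGroup M] [Module R M] [Module.FinitePresentation R M] : IsClosed (Module.support R M) ∧ IsCompact (Module.support R M)ᶜ := by
  haveI : Module.Finite R M := inferInstance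
  refine ⟨Module.isClosed_support, ?_⟩
  obtain ⟨-, hzl, -⟩ := Groth.Agent.S6891.result (R := R) M (⊥ : Ideal R)
  have hfg := (Groth.Agent.S6892.result (R := R) M M 0).2.1 (inferInstance : Module.FinitePresentation R M)
  obtain ⟨G, hG⟩ := hfg
  rw [← hzl, ← hG]
  have h1 : (PrimeSpectrum.zeroLocus ((Submodule.span R (G : Set R) : Submodule R R) : Set R))ᶜ
      = ⋃ g ∈ G, (PrimeSpectrum.basicOpen g : Set (PrimeSpectrum R)) := by
    have h2 : PrimeSpectrum.zeroLocus ((Submodule.span R (G : Set R) : Submodule R R) : Set R)
        = PrimeSpectrum.zeroLocus (G : Set R) := PrimeSpectrum.zeroLocus_span _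
    rw [h2]
    ext p
    simp only [Set.mem_compl_iff, PrimeSpectrum.mem_zeroLocus, Set.mem_iUnion,
      SetLike.mem_coe, PrimeSpectrum.mem_basicOpen, Set.not_subset, Finset.mem_coe, exists_prop]
  rw [h1]
  exact G.isCompact_biUnion (fun g _ => PrimeSpectrum.isCompact_basicOpen g)

end Groth.Agent.S6285
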