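import Groth.Statements.S6286
import Mathlib
import Groth.Agent.Lib.Helper4.TensorFiberImage

set_option autoImplicit false
universe u
open scoped TensorProduct
open CAlg

namespace Groth.Agent.S6286

/-- Let k be a field, R and S k-algebras, S' ⊆ S a k-subalgebra and f ∈ R ⊗ₖ S', with image f again in R
⊗ₖ S. Then the images in Spec(R) of Spec((R ⊗ₖ S)_f) and of Spec((R ⊗ₖ S')_f) coincide: a prime p of
R is the contraction of a prime of R ⊗ₖ S not containing f if and only if it is the contraction of a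
prime of R ⊗ₖ S' not containing f. -/
theorem result (k : Type u) [Field k] (R S : Type u) [CommRing R] [Algebra k R] [CommRing S] [Algebra k S] (S' : Subalgebra k S) (f : R ⊗[k] S') (p : PrimeSpectrum R) : (∃ q : PrimeSpectrum (R ⊗[k] S), Algebra.TensorProduct.map (AlgHom.id k R) S'.val f ∉ q.asIdeal ∧ q.asIdeal.comap (algebraMap R (R ⊗[k] S)) = p.asIdeal) ↔ (∃ q' : PrimeSpectrum (R ⊗[k] S'), f ∉ q'.asIdeal ∧ q'.asIdeal.comap (algebraMap R (R ⊗[k] S')) = p.asIdeal) := by
  classical
  have hcomp := Groth.Agent.Helper4.TensorFiberImage.comp_algebraMap k R S S'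
  constructor
  · rintro ⟨q, hfq, hqp⟩
    refine ⟨⟨q.asIdeal.comap (Algebra.TensorProduct.map (AlgHom.id k R) S'.val).toRingHom,
      inferInstance⟩, ?_, ?_⟩
    · exact hfq
    · show (q.asIdeal.comap (Algebra.TensorProduct.map (AlgHom.id k R) S'.val).toRingHom).comap
        (algebraMap R (R ⊗[k] S')) = p.asIdeal
      rw [Ideal.comap_comap, hcomp, hqp]
  · rintro ⟨q', hfq', hq'p⟩
    set jf := Algebra.TensorProduct.map (AlgHom.id k R) S'.val f with hjf
    -- the multiplicative set
    let M : Submonoid (R ⊗[k] S) :=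
      Submonoid.powers jf ⊔ (p.asIdeal.primeCompl.map (algebraMap R (R ⊗[k] S)))
    have hdisj : Disjoint ((p.asIdeal.map (algebraMap R (R ⊗[k] S)) : Ideal (R ⊗[k] S)) :
        Set (R ⊗[k] S)) (M : Set (R ⊗[k] S)) := by
      rw [Set.disjoint_left]
      intro w hwI hwM
      obtain ⟨u, hu, v, hv, rfl⟩ := Submonoid.mem_sup.mp hwM
      obtain ⟨n, rfl⟩ := hu
      obtain ⟨s, hs, rfl⟩ := hv
      have hs' : s ∉ p.asIdeal := hs
      -- (jf)^n * algebraMap s = j (f^n * algebraMap s)
      have e : jf ^ n * algebraMap R (R ⊗[k] S) s =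
          Algebra.TensorProduct.map (AlgHom.id k R) S'.val
            (f ^ n * algebraMap R (R ⊗[k] S') s) := by
        rw [map_mul, map_pow]
        congr 1
      have hwI' : jf ^ n * algebraMap R (R ⊗[k] S) s ∈
          p.asIdeal.map (algebraMap R (R ⊗[k] S)) := hwI
      rw [e] at hwI'
      have hmem := Groth.Agent.Helper4.TensorFiberImage.key k R S S' p.asIdeal _ hwI'
      have hle : p.asIdeal.map (algebraMap R (R ⊗[k] S')) ≤ q'.asIdeal := by
        rw [Ideal.map_le_iff_le_comap, hq'p]
      have hq'mem := hle hmem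
      rcases q'.isPrime.mem_or_mem hq'mem with h | h
      · exact hfq' (q'.isPrime.mem_of_pow_mem n h)
      · have : s ∈ q'.asIdeal.comap (algebraMap R (R ⊗[k] S')) := h
        rw [hq'p] at this
        exact hs' this
    obtain ⟨Q, hQprime, hQle, hQdisj⟩ := Ideal.exists_le_prime_disjoint _ M hdisj
    refine ⟨⟨Q, hQprime⟩, ?_, ?_⟩
    · intro hmem
      have : jf ∈ (M : Set (R ⊗[k] S)) :=
        (le_sup_left : Submonoid.powers jf ≤ M) (Submonoid.mem_powers jf)
      exact Set.disjoint_left.mp hQdisj hmem this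
    · show Q.comap (algebraMap R (R ⊗[k] S)) = p.asIdeal
      apply le_antisymm
      · intro s hs
        by_contra hsp
        have : algebraMap R (R ⊗[k] S) s ∈ (M : Set (R ⊗[k] S)) :=
          (le_sup_right : p.asIdeal.primeCompl.map (algebraMap R (R ⊗[k] S)) ≤ M) ⟨s, hsp, rfl⟩
        exact Set.disjoint_left.mp hQdisj hs this
      · rw [← Ideal.map_le_iff_le_comap]
        exact hQle

end Groth.Agent.S6286
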