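import Groth.Statements.S6289
import Mathlib

set_option autoImplicit false
universe u
open CAlg

namespace Groth.Agent.S6289

/-- Let A' be a valuation ring with residue field K and A ⊆ K a valuation ring with fraction field K.
Then the subring C of A' consisting of the elements whose residue class lies in A is a valuation
ring. -/
theorem result (A' : Type u) [CommRing A'] [IsDomain A'] [ValuationRing A'] (A : ValuationSubring (IsLocalRing.ResidueField A')) : ValuationRing (A.toSubring.comap (IsLocalRing.residue A')) := by
  have key : ∀ a b c : A', a * c = b →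
      ∃ c' : A', IsLocalRing.residue A' c' ∈ A ∧ (a * c' = b ∨ b * c' = a) := by
    intro a b c hc
    by_cases hu : IsUnit c
    · rcases A.mem_or_inv_mem (IsLocalRing.residue A' c) with h | h
      · exact ⟨c, h, Or.inl hc⟩
      · obtain ⟨u, rfl⟩ := hu
        refine ⟨((u⁻¹ : A'ˣ) : A'), ?_, Or.inr ?_⟩
        · have h1 : IsLocalRing.residue A' ((u⁻¹ : A'ˣ) : A') = (IsLocalRing.residue A' (u : A'))⁻¹ := by
            apply eq_inv_of_mul_eq_one_left
            rw [← map_mul, Units.inv_mul, map_one]
          rw [h1]
          exact h
        · rw [← hc, mul_assoc, Units.mul_inv, mul_one]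
    · refine ⟨c, ?_, Or.inl hc⟩
      have : IsLocalRing.residue A' c = 0 := by
        rw [IsLocalRing.residue_eq_zero_iff]
        exact hu
      rw [this]
      exact A.zero_mem
  have hpre : PreValuationRing ↥(Subring.comap (IsLocalRing.residue A') A.toSubring) := by
    constructor
    rintro ⟨a, ha⟩ ⟨b, hb⟩
    obtain ⟨c, hc | hc⟩ := ValuationRing.cond a b
    · obtain ⟨c', hc', h⟩ := key a b c hc
      refine ⟨⟨c', hc'⟩, ?_⟩
      rcases h with h | h
      · exact Or.inl (Subtype.ext h)
      · exact Or.inr (Subtype.ext h)
    · obtain ⟨c', hc', h⟩ := key b a c hc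
      refine ⟨⟨c', hc'⟩, ?_⟩
      rcases h with h | h
      · exact Or.inr (Subtype.ext h)
      · exact Or.inl (Subtype.ext h)
  exact @ValuationRing.mk _ _ _ hpre

end Groth.Agent.S6289
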