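import Groth.Statements.S6290
import Mathlib

set_option autoImplicit false
universe u
open CAlg

namespace Groth.Agent.S6290

/-- Let R be a Noetherian ring, I ⊆ R an ideal, M a finite R-module and N = ⋂ₙ IⁿM. Then for every prime
p ⊇ I there is f ∈ R, f ∉ p, with N_f = 0, i.e. every element of N is annihilated by some power of
f. -/
theorem result {R : Type u} [CommRing R] [IsNoetherianRing R] (I : Ideal R) (M : Type u) [AddCommGroup M] [Module R M] [Module.Finite R M] (p : Ideal R) [p.IsPrime] (hIp : I ≤ p) : ∃ f : R, f ∉ p ∧ ∀ x ∈ (⨅ n : ℕ, I ^ n • (⊤ : Submodule R M)), ∃ k : ℕ, f ^ k • x = 0 := by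
  classical
  set N : Submodule R M := ⨅ n : ℕ, I ^ n • (⊤ : Submodule R M) with hN
  obtain ⟨S, hS⟩ : N.FG := IsNoetherian.noetherian N
  have hmem : ∀ x ∈ N, ∃ r : I, (r : R) • x = x := fun x hx =>
    (I.mem_iInf_smul_pow_eq_bot_iff x).mp hx
  have hS' : ∀ x ∈ S, x ∈ N := fun x hx => hS ▸ Submodule.subset_span hx
  choose! r hr using hmem
  refine ⟨∏ x ∈ S, (1 - (r x : R)), ?_, ?_⟩
  · have : ∏ x ∈ S, (1 - (r x : R)) ∈ p.primeCompl := by
      apply prod_mem
      intro x _ hx
      have h1 : (r x : R) ∈ p := hIp (r x).2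
      have : (1 : R) ∈ p := by
        have := p.add_mem hx h1
        simpa using this
      exact (Ideal.ne_top_iff_one p).mp (Ideal.IsPrime.ne_top inferInstance) this
    exact this
  · intro x hx
    refine ⟨1, ?_⟩
    rw [pow_one]
    rw [← hS] at hx
    refine Submodule.span_induction ?_ ?_ ?_ ?_ hx
    · intro z hz
      rw [← Finset.mul_prod_erase S _ hz, mul_comm, mul_smul, sub_smul, one_smul, hr z (hS' z hz),
        sub_self, smul_zero]
    · simp
    · intro a b _ _ ha hb
      rw [smul_add, ha, hb, add_zero]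
    · intro a b _ hb
      rw [smul_comm, hb, smul_zero]

end Groth.Agent.S6290
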