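import Groth.Statements.S6292
import Mathlib

set_option autoImplicit false
universe u
open CAlg

namespace Groth.Agent.S6292

theorem aux {R : Type u} [CommRing R] (m : Ideal R) [m.IsMaximal] (hm : m.FG) :
    ∀ (n : ℕ) (M : Type u) [AddCommGroup M] [Module R M] [Module.Finite R M],
      m ^ n • (⊤ : Submodule R M) = ⊥ → IsFiniteLength R M := by
  intro n
  induction n with
  | zero =>
    intro M _ _ _ h
    rw [pow_zero, Ideal.one_eq_top, Submodule.top_smul] at h
    have : Subsingleton M := by
      rw [← Submodule.subsingleton_iff R]
      exact subsingleton_of_bot_eq_top h.symm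
    exact .of_subsingleton
  | succ n ih =>
    intro M _ _ _ h
    set N : Submodule R M := m ^ n • (⊤ : Submodule R M) with hN
    have hNfg : N.FG := Submodule.FG.smul (Ideal.FG.pow hm) (Module.Finite.fg_top)
    haveI : Module.Finite R N := Module.Finite.iff_fg.mpr hNfg
    -- N is killed by m
    have htors : Module.IsTorsionBySet R N m := by
      intro x a
      have hx : (a : R) • (x : M) ∈ m ^ (n + 1) • (⊤ : Submodule R M) := by
        rw [pow_succ', mul_smul]
        exact Submodule.smul_mem_smul a.2 x.2
      rw [h] at hx
      exact Subtype.ext (by simpa using hx)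
    have hNfl : IsFiniteLength R N := by
      letI := htors.module
      letI : Field (R ⧸ m) := Ideal.Quotient.field m
      have hss : IsSemisimpleModule R N := htors.isSemisimpleModule_iff.mp inferInstance
      have h03 : Module.Finite R N ↔ IsFiniteLength R N := (IsSemisimpleModule.finite_tfae (R := R) (M := N)).out 0 3
      exact h03.mp inferInstance
    have hQ : IsFiniteLength R (M ⧸ N) := by
      apply ih
      have : (⊤ : Submodule R (M ⧸ N)) = Submodule.map N.mkQ ⊤ := by
        rw [Submodule.map_top, Submodule.range_mkQ]
      rw [this, ← Submodule.map_smul'', ← hN, Submodule.mkQ_map_self]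
    rw [isFiniteLength_iff_isNoetherian_isArtinian] at hNfl hQ ⊢
    exact ⟨(isNoetherian_iff_submodule_quotient N).mpr ⟨hNfl.1, hQ.1⟩,
      (isArtinian_iff_submodule_quotient N).mpr ⟨hNfl.2, hQ.2⟩⟩

/-- Let R be a ring and m ⊆ R a finitely generated maximal ideal (for instance R Noetherian). If M is a
finite R-module with mⁿM = 0 for some n, then M has finite length. -/
theorem result {R : Type u} [CommRing R] (m : Ideal R) [m.IsMaximal] (hm : m.FG) (M : Type u) [AddCommGroup M] [Module R M] [Module.Finite R M] (n : ℕ) (hn : m ^ n • (⊤ : Submodule R M) = ⊥) : IsFiniteLength R M := by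
  exact aux m hm n M hn

end Groth.Agent.S6292
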