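import Groth.Statements.S6294
import Mathlib

set_option autoImplicit false
universe u
open CAlg

namespace Groth.Agent.S6294

/-- Let R be a ring with finitely many minimal primes q₁, …, q_t, and assume that the zerodivisors of R
are precisely the elements of q₁ ∪ … ∪ q_t. Then Q(R), the total ring of fractions of R, equals
R_{q₁} × … × R_{q_t}: the diagonal map R → ∏ R_{q_i} is a localization of R at its non-zerodivisors. -/
theorem result {R : Type u} [CommRing R] {ι : Type} [Fintype ι] (q : ι → Ideal R) [∀ i, (q i).IsPrime] (hinj : Function.Injective q) (hmin : ∀ P : Ideal R, P ∈ minimalPrimes R ↔ P ∈ Set.range q) (hzd : ∀ x : R, x ∈ nonZeroDivisors R ↔ ∀ i, x ∉ q i) : IsLocalization (nonZeroDivisors R) (∀ i, Localization.AtPrime (q i)) := by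
  classical
  have hqmin : ∀ i, q i ∈ minimalPrimes R := fun i => (hmin _).mpr ⟨i, rfl⟩
  have hkey : ∀ i, ∃ e : R, e ∉ q i ∧
      ∀ j, j ≠ i → algebraMap R (Localization.AtPrime (q j)) e = 0 := by
    intro i
    have h1 : ∀ j, ∃ b : R, b ∉ q i ∧
        (j ≠ i → algebraMap R (Localization.AtPrime (q j)) b = 0) := by
      intro j
      by_cases hji : j = i
      · exact ⟨1, fun h => (inferInstance : (q i).IsPrime).ne_top ((Ideal.eq_top_iff_one _).mpr h),
          fun h => absurd hji h⟩
      · have hnle : ¬ (q j ≤ q i) := by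
          intro hle
          have := (hqmin i).2 ⟨inferInstance, bot_le⟩ hle
          exact hji (hinj (le_antisymm hle this))
        obtain ⟨a, haj, hai⟩ := Set.not_subset.mp hnle
        haveI : Ring.KrullDimLE 0 (Localization.AtPrime (q j)) :=
          .of_isLocalization _ (hqmin j) _
        have hnu : algebraMap R (Localization.AtPrime (q j)) a ∈
            nonunits (Localization.AtPrime (q j)) := by
          rw [mem_nonunits_iff, IsLocalization.AtPrime.isUnit_to_map_iff _ (q j)]
          exact fun h => h haj
        obtain ⟨N, hN⟩ := Ring.KrullDimLE.isNilpotent_iff_mem_nonunits.mpr hnu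
        refine ⟨a ^ N, fun h => hai ((inferInstance : (q i).IsPrime).mem_of_pow_mem N h), ?_⟩
        intro _
        rw [map_pow, hN]
    choose b hb1 hb2 using h1
    refine ⟨∏ j, b j, ?_, ?_⟩
    · intro h
      obtain ⟨j, _, hj⟩ := ((inferInstance : (q i).IsPrime).prod_mem_iff).mp h
      exact hb1 j hj
    · intro j hji
      rw [map_prod]
      exact Finset.prod_eq_zero (Finset.mem_univ j) (hb2 j hji)
  choose e he1 he2 using hkey
  have hsum : ∀ (c : ι → R) (i : ι), algebraMap R (Localization.AtPrime (q i)) (∑ j, e j * c j) =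
      algebraMap R (Localization.AtPrime (q i)) (e i) *
        algebraMap R (Localization.AtPrime (q i)) (c i) := by
    intro c i
    rw [map_sum, Finset.sum_eq_single i]
    · rw [map_mul]
    · intro j _ hji
      rw [map_mul, he2 j i (Ne.symm hji), zero_mul]
    · intro h; exact absurd (Finset.mem_univ i) h
  have hnzd : ∀ (c : ι → R), (∀ i, c i ∉ q i) → (∑ j, e j * c j) ∈ nonZeroDivisors R := by
    intro c hc
    rw [hzd]
    intro i hmem
    have hu : IsUnit (algebraMap R (Localization.AtPrime (q i)) (∑ j, e j * c j)) := by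
      rw [hsum c i]
      exact ((IsLocalization.AtPrime.isUnit_to_map_iff _ (q i) (e i)).mpr (he1 i)).mul
        ((IsLocalization.AtPrime.isUnit_to_map_iff _ (q i) (c i)).mpr (hc i))
    exact ((IsLocalization.AtPrime.isUnit_to_map_iff _ (q i) _).mp hu) hmem
  rw [isLocalization_iff]
  refine ⟨?_, ?_, ?_⟩
  · rintro ⟨x, hx⟩
    rw [hzd] at hx
    rw [Pi.isUnit_iff]
    intro i
    rw [Pi.algebraMap_apply]
    exact (IsLocalization.AtPrime.isUnit_to_map_iff _ (q i) x).mpr (hx i)
  · intro z
    have h2 : ∀ i, ∃ p : R × (q i).primeCompl,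
        z i * algebraMap R (Localization.AtPrime (q i)) p.2 =
          algebraMap R (Localization.AtPrime (q i)) p.1 :=
      fun i => IsLocalization.surj (q i).primeCompl (z i)
    choose p hp using h2
    refine ⟨⟨∑ j, e j * (p j).1, ⟨∑ j, e j * ((p j).2 : R), hnzd _ (fun i => (p i).2.2)⟩⟩, ?_⟩
    funext i
    rw [Pi.mul_apply, Pi.algebraMap_apply, Pi.algebraMap_apply]
    simp only
    rw [hsum, hsum, ← hp i]
    ring
  · intro x y hxy
    have h3 : ∀ i, ∃ c : (q i).primeCompl, (c : R) * x = c * y := by
      intro i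
      have := congrFun hxy i
      rw [Pi.algebraMap_apply, Pi.algebraMap_apply] at this
      exact (IsLocalization.eq_iff_exists (q i).primeCompl (Localization.AtPrime (q i))).mp this
    choose c hc using h3
    refine ⟨⟨∑ j, e j * ((c j : R)), hnzd _ (fun i => (c i).2)⟩, ?_⟩
    simp only
    rw [Finset.sum_mul, Finset.sum_mul]
    apply Finset.sum_congr rfl
    intro j _
    rw [mul_assoc, mul_assoc, hc j]

end Groth.Agent.S6294
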