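import Groth.Statements.S6296
import Mathlib

set_option autoImplicit false
universe u
open CAlg

namespace Groth.Agent.S6296

/-- Let A → B be a local homomorphism of local rings such that (1) B is a finite A-module, (2) the
maximal ideal m_B is finitely generated, (3) the induced map of residue fields is an isomorphism,
and (4) m_A/m_A² → m_B/m_B² is surjective, i.e. m_B ⊆ m_A B + m_B². Then A → B is surjective. -/
theorem result {A B : Type u} [CommRing A] [CommRing B] [IsLocalRing A] [IsLocalRing B] [Algebra A B] [IsLocalHom (algebraMap A B)] [Module.Finite A B] (hfg : (IsLocalRing.maximalIdeal B).FG) (hres : Function.Surjective (IsLocalRing.ResidueField.map (algebraMap A B))) (hcot : IsLocalRing.maximalIdeal B ≤ (IsLocalRing.maximalIdeal A).map (algebraMap A B) ⊔ (IsLocalRing.maximalIdeal B) ^ 2) : Function.Surjective (algebraMap A B) := by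
  set mA := IsLocalRing.maximalIdeal A with hmA
  set mB := IsLocalRing.maximalIdeal B with hmB
  set I : Ideal B := mA.map (algebraMap A B) with hI
  -- Step 1: mB ≤ I
  have h1 : mB ≤ I := by
    apply Submodule.le_of_le_smul_of_le_jacobson_bot (I := mB) hfg
      (IsLocalRing.maximalIdeal_le_jacobson ⊥)
    rw [smul_eq_mul, ← pow_two]
    exact hcot
  -- Step 2: Nakayama over A
  rw [← Algebra.coe_linearMap, ← LinearMap.range_eq_top, eq_top_iff]
  apply Submodule.le_of_le_smul_of_le_jacobson_bot (I := mA) Module.Finite.fg_top
    (IsLocalRing.maximalIdeal_le_jacobson ⊥)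
  intro b _
  obtain ⟨r, hr⟩ := hres (IsLocalRing.residue B b)
  obtain ⟨a, rfl⟩ := IsLocalRing.residue_surjective r
  rw [IsLocalRing.ResidueField.map_residue] at hr
  have h2 : b - algebraMap A B a ∈ mB := by
    rw [hmB, ← Ideal.Quotient.eq_zero_iff_mem, map_sub, sub_eq_zero]
    exact hr.symm
  have h3 : b - algebraMap A B a ∈ mA • (⊤ : Submodule A B) := by
    rw [Ideal.smul_top_eq_map]
    exact h1 h2
  have h4 : b = algebraMap A B a + (b - algebraMap A B a) := by ring
  rw [h4]
  exact Submodule.add_mem _ (Submodule.mem_sup_left ⟨a, rfl⟩) (Submodule.mem_sup_right h3)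

end Groth.Agent.S6296
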