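import Groth.Statements.S6297
import Mathlib

set_option autoImplicit false
universe u
open CAlg

namespace Groth.Agent.S6297

/-- Let R be a ring, m ≤ n, A an n × m matrix over R and J the ideal generated by the m × m minors of A.
(1) For every f ∈ J there is an m × n matrix B with BA = f · 1. (2) If BA = f · 1 for some m × n
matrix B, then f^m ∈ J. -/
theorem result {R : Type u} [CommRing R] {n m : ℕ} (hmn : m ≤ n) (A : Matrix (Fin n) (Fin m) R) : (∀ f ∈ CAlgX.minorIdeal A m, ∃ B : Matrix (Fin m) (Fin n) R, B * A = f • (1 : Matrix (Fin m) (Fin m) R)) ∧ (∀ (f : R) (B : Matrix (Fin m) (Fin n) R), B * A = f • (1 : Matrix (Fin m) (Fin m) R) → f ^ m ∈ CAlgX.minorIdeal A m) := by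
  classical
  constructor
  · intro f hf
    unfold CAlgX.minorIdeal at hf
    refine Submodule.span_induction ?_ ?_ ?_ ?_ hf
    · rintro _ ⟨⟨r, c⟩, rfl⟩
      -- E_r * A = A.submatrix r id
      let E : Matrix (Fin m) (Fin n) R := (1 : Matrix (Fin n) (Fin n) R).submatrix r id
      let C : Matrix (Fin m) (Fin m) R := (1 : Matrix (Fin m) (Fin m) R).submatrix id c
      have hE : E * A = A.submatrix r id := by
        have := Matrix.one_submatrix_mul r (Equiv.refl (Fin n)) A
        simpa [E] using this
      have hC : A.submatrix r id * C = A.submatrix r c := by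
        have := Matrix.mul_submatrix_one (Equiv.refl (Fin m)) c (A.submatrix r id)
        simpa [C] using this
      refine ⟨C.det • (Matrix.adjugate (A.submatrix r id) * E), ?_⟩
      simp only
      rw [Matrix.smul_mul, Matrix.mul_assoc, hE, Matrix.adjugate_mul, smul_smul, ← hC,
        Matrix.det_mul, mul_comm]
    · exact ⟨0, by simp⟩
    · rintro x y _ _ ⟨B₁, h₁⟩ ⟨B₂, h₂⟩
      exact ⟨B₁ + B₂, by rw [Matrix.add_mul, h₁, h₂, add_smul]⟩
    · rintro a x _ ⟨B, h⟩
      exact ⟨a • B, by rw [Matrix.smul_mul, h, smul_smul, smul_eq_mul]⟩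
  · intro f B hBA
    have h1 : f ^ m = (B * A).det := by
      rw [hBA, Matrix.det_smul, Matrix.det_one, mul_one, Fintype.card_fin]
    have h2 : (B * A).det = ∑ k : Fin m → Fin n, (∏ i, B i (k i)) * (A.submatrix k id).det := by
      have hrow : (B * A) = fun i => ∑ k : Fin n, B i k • A k := by
        funext i j
        simp [Matrix.mul_apply, Finset.sum_apply]
      have key := (Matrix.detRowAlternating (R := R) (n := Fin m)).toMultilinearMap.map_sum
        (fun i (k : Fin n) => B i k • A k)
      have hdet : (B * A).det = (Matrix.detRowAlternating (R := R) (n := Fin m)).toMultilinearMap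
          (fun i => ∑ k : Fin n, B i k • A k) := by
        rw [← hrow]; rfl
      rw [hdet, key]
      apply Finset.sum_congr rfl
      intro k _
      rw [(Matrix.detRowAlternating (R := R) (n := Fin m)).toMultilinearMap.map_smul_univ]
      rfl
    rw [h1, h2]
    apply Ideal.sum_mem
    intro k _
    apply Ideal.mul_mem_left
    unfold CAlgX.minorIdeal
    exact Ideal.subset_span ⟨(k, id), rfl⟩

end Groth.Agent.S6297
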