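import Groth.Statements.S6298
import Mathlib

set_option autoImplicit false
universe u
open CAlg

namespace Groth.Agent.S6298

theorem aux {R : Type u} [CommRing R] (I : Ideal R) {ι : Type*} [DecidableEq ι] (p : ι → Ideal R)
    [∀ i, (p i).IsPrime] (s : Finset ι) :
    ∀ x : R, (∀ i ∈ s, ∃ y ∈ I, x + y ∉ p i) → ∃ y ∈ I, ∀ i ∈ s, x + y ∉ p i := by
  classical
  induction s using Finset.induction_on with
  | empty => intro x _; exact ⟨0, I.zero_mem, by simp⟩
  | insert a s has ih =>
    intro x hx
    obtain ⟨y₁, hy₁I, hy₁⟩ := ih x (fun i hi => hx i (Finset.mem_insert_of_mem hi))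
    by_cases hxa : x + y₁ ∉ p a
    · refine ⟨y₁, hy₁I, ?_⟩
      intro i hi
      rcases Finset.mem_insert.mp hi with rfl | hi
      · exact hxa
      · exact hy₁ i hi
    · rw [not_not] at hxa
      -- I is not contained in p a
      have hIa : ¬ I ≤ p a := by
        intro hle
        obtain ⟨ya, hyaI, hya⟩ := hx a (Finset.mem_insert_self a s)
        apply hya
        have h1 : x ∈ p a := by
          have := (p a).sub_mem hxa (hle hy₁I)
          simpa using this
        exact (p a).add_mem h1 (hle hyaI)
      set t := s.filter (fun i => ¬ p i ≤ p a) with ht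
      have hJ : ¬ I * ∏ i ∈ t, p i ≤ p a := by
        intro hle
        have hpa : (p a).IsPrime := inferInstance
        rcases hpa.mul_le.mp hle with h | h
        · exact hIa h
        · obtain ⟨i, hit, hi⟩ := hpa.prod_le.mp h
          exact (Finset.mem_filter.mp hit).2 hi
      obtain ⟨y, hyJ, hya⟩ := SetLike.not_le_iff_exists.mp hJ
      have hyI : y ∈ I := Ideal.mul_le_left hyJ
      have hyt : ∀ i ∈ t, y ∈ p i := by
        intro i hi
        have h1 : y ∈ ∏ i ∈ t, p i := Ideal.mul_le_right hyJ
        have h2 : ∏ i ∈ t, p i ≤ t.inf p := Ideal.prod_le_inf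
        exact (Finset.inf_le hi : t.inf p ≤ p i) (h2 h1)
      refine ⟨y₁ + y, I.add_mem hy₁I hyI, ?_⟩
      intro i hi
      rw [← add_assoc]
      rcases Finset.mem_insert.mp hi with rfl | hi
      · intro hmem
        apply hya
        have := (p i).sub_mem hmem hxa
        simpa using this
      · by_cases hle : p i ≤ p a
        · intro hmem
          apply hya
          have := (p a).sub_mem (hle hmem) hxa
          simpa using this
        · have hit : i ∈ t := Finset.mem_filter.mpr ⟨hi, hle⟩
          intro hmem
          apply hy₁ i hi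
          have := (p i).sub_mem hmem (hyt i hit)
          simpa using this

/-- Let R be a ring, x ∈ R, I ⊆ R an ideal and p₁, …, p_r prime ideals such that for each i the coset x
+ I is not contained in p_i. Then there is y ∈ I with x + y ∉ p_i for all i. -/
theorem result {R : Type u} [CommRing R] (x : R) (I : Ideal R) {r : ℕ} (p : Fin r → Ideal R) [∀ i, (p i).IsPrime] (h : ∀ i, ∃ y ∈ I, x + y ∉ p i) : ∃ y ∈ I, ∀ i, x + y ∉ p i := by
  obtain ⟨y, hy, hy'⟩ := aux I p Finset.univ x (fun i _ => h i)
  exact ⟨y, hy, fun i => hy' i (Finset.mem_univ i)⟩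

end Groth.Agent.S6298
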