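import Groth.Statements.S6299
import Mathlib

set_option autoImplicit false
universe u
open CAlg

namespace Groth.Agent.S6299

open PowerSeries

section claimsec
variable {R : Type u} [CommRing R] [IsDomain R] [IsNoetherianRing R] [IsIntegrallyClosed R]

lemma exists_factor (D : R⟦X⟧) (hD : D ≠ 0) :
    ∃ (s : ℕ) (D' : R⟦X⟧), X ^ s * D' = D ∧ PowerSeries.constantCoeff D' ≠ 0 :=
  ⟨D.order.toNat, PowerSeries.divXPowOrder D, PowerSeries.X_pow_order_mul_divXPowOrder, by
    rw [PowerSeries.constantCoeff_divXPowOrder]; exact PowerSeries.coeff_order hD⟩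

lemma ord_step (a₁ b₁ d₁ c : R⟦X⟧) (α β δ n : ℕ) (ha : PowerSeries.constantCoeff a₁ ≠ 0)
    (hd : PowerSeries.constantCoeff d₁ ≠ 0)
    (h : (X ^ β * b₁) ^ n * c = X ^ δ * d₁ * (X ^ α * a₁) ^ n) : n * β ≤ δ + n * α := by
  by_contra hlt
  push Not at hlt
  have e1 : PowerSeries.coeff (δ + n * α) ((X ^ β * b₁) ^ n * c) = 0 := by
    have hdvd : (X : R⟦X⟧) ^ (n * β) ∣ (X ^ β * b₁) ^ n * c := ⟨b₁ ^ n * c, by ring⟩
    exact PowerSeries.X_pow_dvd_iff.mp hdvd _ hlt
  have e2 : PowerSeries.coeff (δ + n * α) (X ^ δ * d₁ * (X ^ α * a₁) ^ n) =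
      PowerSeries.constantCoeff d₁ * PowerSeries.constantCoeff a₁ ^ n := by
    have h2 : X ^ δ * d₁ * (X ^ α * a₁) ^ n = X ^ (δ + n * α) * (d₁ * a₁ ^ n) := by ring
    rw [h2]
    have h3 := PowerSeries.coeff_X_pow_mul (d₁ * a₁ ^ n) (δ + n * α) 0
    rw [zero_add] at h3
    rw [h3, PowerSeries.coeff_zero_eq_constantCoeff_apply, map_mul, map_pow]
  rw [h, e2] at e1
  exact mul_ne_zero hd (pow_ne_zero _ ha) e1

variable (K : Type*) [Field K] [Algebra R K] [IsFractionRing R K]

lemma mem_range_iff (f : K⟦X⟧) : f ∈ (PowerSeries.map (algebraMap R K)).range ↔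
    ∀ m, PowerSeries.coeff m f ∈ (algebraMap R K).range := by
  constructor
  · rintro ⟨g, rfl⟩ m
    rw [PowerSeries.coeff_map]
    exact ⟨PowerSeries.coeff m g, rfl⟩
  · intro h
    choose c hc using h
    refine ⟨PowerSeries.mk c, ?_⟩
    ext m
    rw [PowerSeries.coeff_map, PowerSeries.coeff_mk, hc]

lemma claim (D : R⟦X⟧) (hD : D ≠ 0) (f : K⟦X⟧)
    (h : ∀ n, PowerSeries.map (algebraMap R K) D * f ^ n ∈ (PowerSeries.map (algebraMap R K)).range) :
    f ∈ (PowerSeries.map (algebraMap R K)).range := by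
  rw [mem_range_iff]
  intro i
  induction i using Nat.strong_induction_on with
  | _ i IH =>
  obtain ⟨g, hg⟩ : ∃ g : K⟦X⟧, g = PowerSeries.mk (fun j => if j < i then PowerSeries.coeff j f else 0) :=
    ⟨_, rfl⟩
  have hgT : g ∈ (PowerSeries.map (algebraMap R K)).range := by
    rw [mem_range_iff]
    intro m
    rw [hg, PowerSeries.coeff_mk]
    split_ifs with hm
    · exact IH m hm
    · exact ⟨0, map_zero _⟩
  have hF0 : ∀ j, j < i → PowerSeries.coeff j (f - g) = 0 := by
    intro j hj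
    rw [map_sub, hg, PowerSeries.coeff_mk, if_pos hj, sub_self]
  have hFi : PowerSeries.coeff i (f - g) = PowerSeries.coeff i f := by
    rw [map_sub, hg, PowerSeries.coeff_mk, if_neg (lt_irrefl i), sub_zero]
  have hFT : ∀ n, PowerSeries.map (algebraMap R K) D * (f - g) ^ n ∈
      (PowerSeries.map (algebraMap R K)).range := by
    intro n
    rw [sub_eq_add_neg, add_pow, Finset.mul_sum]
    refine sum_mem (fun k _ => ?_)
    have h1 : PowerSeries.map (algebraMap R K) D * (f ^ k * (-g) ^ (n - k) * (n.choose k : K⟦X⟧)) =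
        (PowerSeries.map (algebraMap R K) D * f ^ k) * (-g) ^ (n - k) * (n.choose k : K⟦X⟧) := by ring
    rw [h1]
    exact mul_mem (mul_mem (h k) (pow_mem (neg_mem hgT) _)) (natCast_mem _ _)
  obtain ⟨H, hH⟩ := PowerSeries.X_pow_dvd_iff.mpr hF0
  have hH0 : PowerSeries.constantCoeff H = PowerSeries.coeff i f := by
    rw [← hFi, hH, ← PowerSeries.coeff_zero_eq_constantCoeff_apply]
    have h3 := PowerSeries.coeff_X_pow_mul H i 0
    rw [zero_add] at h3
    exact h3.symm
  obtain ⟨s, D', hD', hδ⟩ := exists_factor D hD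
  have key : ∀ n, algebraMap R K (PowerSeries.constantCoeff D') * (PowerSeries.coeff i f) ^ n ∈
      (algebraMap R K).range := by
    intro n
    have h1 := (mem_range_iff K _).mp (hFT n) (s + i * n)
    have h2 : PowerSeries.map (algebraMap R K) D * (f - g) ^ n =
        X ^ (s + i * n) * (PowerSeries.map (algebraMap R K) D' * H ^ n) := by
      rw [← hD', hH, map_mul, map_pow, PowerSeries.map_X]
      ring
    rw [h2] at h1
    have h3 := PowerSeries.coeff_X_pow_mul (PowerSeries.map (algebraMap R K) D' * H ^ n) (s + i * n) 0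
    rw [zero_add] at h3
    rw [h3, PowerSeries.coeff_zero_eq_constantCoeff_apply, map_mul, map_pow, hH0] at h1
    have h4 : PowerSeries.constantCoeff (PowerSeries.map (algebraMap R K) D') =
        algebraMap R K (PowerSeries.constantCoeff D') := by
      rw [← PowerSeries.coeff_zero_eq_constantCoeff_apply, PowerSeries.coeff_map,
        PowerSeries.coeff_zero_eq_constantCoeff_apply]
    rwa [h4] at h1
  have hai : IsAlmostIntegral R (PowerSeries.coeff i f) :=
    ⟨PowerSeries.constantCoeff D', mem_nonZeroDivisors_of_ne_zero hδ, fun n => by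
      rw [Algebra.smul_def]; exact key n⟩
  have hint : IsIntegral R (PowerSeries.coeff i f) := isAlmostIntegral_iff_isIntegral.mp hai
  obtain ⟨y, hy⟩ := IsIntegrallyClosed.algebraMap_eq_of_integral hint
  exact ⟨y, hy⟩

lemma stage2 (K : Type*) [Field K] [Algebra R K] [IsFractionRing R K] (a b d : R⟦X⟧) (hb : PowerSeries.constantCoeff b ≠ 0) (hd : d ≠ 0)
    (h : ∀ n, b ^ n ∣ d * a ^ n) : b ∣ a := by
  have hinj : Function.Injective (PowerSeries.map (algebraMap R K)) :=
    PowerSeries.map_injective _ (IsFractionRing.injective R K)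
  have hbK : PowerSeries.constantCoeff (PowerSeries.map (algebraMap R K) b) ≠ 0 := by
    rw [← PowerSeries.coeff_zero_eq_constantCoeff_apply, PowerSeries.coeff_map,
      PowerSeries.coeff_zero_eq_constantCoeff_apply]
    exact fun h0 => hb ((IsFractionRing.injective R K) (by rw [h0, map_zero]))
  obtain ⟨Bi, hBi⟩ : ∃ Bi, PowerSeries.map (algebraMap R K) b * Bi = 1 :=
    ⟨_, PowerSeries.mul_inv_cancel _ hbK⟩
  have hfT : PowerSeries.map (algebraMap R K) a * Bi ∈ (PowerSeries.map (algebraMap R K)).range := by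
    apply claim K d hd
    intro n
    obtain ⟨c, hc⟩ := h n
    refine RingHom.mem_range.mpr ⟨c, ?_⟩
    have hc' := congrArg (PowerSeries.map (algebraMap R K)) hc
    rw [map_mul, map_mul, map_pow, map_pow] at hc'
    rw [mul_pow, ← mul_assoc, hc', mul_comm (PowerSeries.map (algebraMap R K) b ^ n) _, mul_assoc,
      ← mul_pow, hBi, one_pow, mul_one]
  obtain ⟨g, hg⟩ := RingHom.mem_range.mp hfT
  refine ⟨g, hinj ?_⟩
  rw [map_mul, hg, mul_comm (PowerSeries.map (algebraMap R K) a), ← mul_assoc, hBi, one_mul]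

lemma key (K : Type*) [Field K] [Algebra R K] [IsFractionRing R K] (a b d : R⟦X⟧) (hb : b ≠ 0) (hd : d ≠ 0) (h : ∀ n, b ^ n ∣ d * a ^ n) : b ∣ a := by
  by_cases ha : a = 0
  · rw [ha]; exact dvd_zero b
  obtain ⟨α, a₁, rfl, ha₁⟩ := exists_factor a ha
  obtain ⟨β, b₁, rfl, hb₁⟩ := exists_factor b hb
  obtain ⟨δ, d₁, rfl, hd₁⟩ := exists_factor d hd
  have hβα : β ≤ α := by
    obtain ⟨c, hc⟩ := h (δ + 1)
    have h1 := ord_step a₁ b₁ d₁ c α β δ (δ + 1) ha₁ hd₁ hc.symm
    by_contra hlt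
    push Not at hlt
    nlinarith [Nat.mul_le_mul_left (δ + 1) (Nat.succ_le_of_lt hlt)]
  obtain ⟨a', ha'⟩ : ∃ a', a' = X ^ (α - β) * a₁ := ⟨_, rfl⟩
  have haa : X ^ α * a₁ = X ^ β * a' := by
    rw [ha', ← mul_assoc, ← pow_add, Nat.add_sub_cancel' hβα]
  have h' : ∀ n, b₁ ^ n ∣ (X ^ δ * d₁) * a' ^ n := by
    intro n
    obtain ⟨c, hc⟩ := h n
    refine ⟨c, ?_⟩
    have hX : (X : R⟦X⟧) ^ (β * n) ≠ 0 := pow_ne_zero _ PowerSeries.X_ne_zero
    apply mul_left_cancel₀ hX
    rw [haa] at hc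
    calc X ^ (β * n) * (X ^ δ * d₁ * a' ^ n) = X ^ δ * d₁ * (X ^ β * a') ^ n := by ring
      _ = (X ^ β * b₁) ^ n * c := hc
      _ = X ^ (β * n) * (b₁ ^ n * c) := by ring
  obtain ⟨g, hg⟩ := stage2 K a' b₁ (X ^ δ * d₁) hb₁ hd h'
  exact ⟨g, by rw [haa, hg]; ring⟩

end claimsec

lemma closed_aux (R : Type u) [CommRing R] [IsDomain R] [IsNoetherianRing R] [IsIntegrallyClosed R]
    (L : Type*) [Field L] [Algebra R⟦X⟧ L] [IsFractionRing R⟦X⟧ L] (x : L)
    (hx : IsIntegral R⟦X⟧ x) : ∃ y, algebraMap R⟦X⟧ L y = x := by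
  obtain ⟨d, hd, hn⟩ := hx.isAlmostIntegral
  obtain ⟨a, b, hb, rfl⟩ := IsFractionRing.div_surjective R⟦X⟧ x
  have hb0 : b ≠ 0 := nonZeroDivisors.ne_zero hb
  have hd0 : d ≠ 0 := nonZeroDivisors.ne_zero hd
  have hbL : algebraMap R⟦X⟧ L b ≠ 0 := by
    intro h0
    exact hb0 ((IsFractionRing.injective R⟦X⟧ L) (by rw [h0, map_zero]))
  have hdiv : ∀ n, b ^ n ∣ d * a ^ n := by
    intro n
    obtain ⟨c, hc⟩ := hn n
    refine ⟨c, (IsFractionRing.injective R⟦X⟧ L) ?_⟩
    rw [map_mul, map_mul, map_pow, map_pow, hc, Algebra.smul_def, div_pow]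
    field_simp
  obtain ⟨g, hg⟩ := key (FractionRing R) a b d hb0 hd0 hdiv
  refine ⟨g, ?_⟩
  rw [hg, map_mul]
  field_simp

/-- Let R be a Noetherian normal domain. Then the power series ring R[[x]] is a Noetherian normal domain
(here: it is an integrally closed domain and a Noetherian ring). -/
theorem result (R : Type u) [CommRing R] [IsDomain R] [IsNoetherianRing R] [IsIntegrallyClosed R] : IsIntegrallyClosed (PowerSeries R) ∧ IsNoetherianRing (PowerSeries R) := by
  refine ⟨?_, inferInstance⟩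
  exact (isIntegrallyClosed_iff (FractionRing (PowerSeries R))).mpr
    (fun {x} hx => closed_aux R (FractionRing (PowerSeries R)) x hx)

end Groth.Agent.S6299
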