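import Groth.Statements.S6300
import Mathlib

set_option autoImplicit false
universe u
open CAlg

namespace Groth.Agent.S6300

/-- Let R be a normal ring (every localization at a prime is an integrally closed domain). Then R[x] is
a normal ring. -/
theorem result (R : Type u) [CommRing R] (hR : EGA4.IsNormalRing R) : EGA4.IsNormalRing (Polynomial R) := by
  intro P hP
  haveI : (P.comap (Polynomial.C : R →+* Polynomial R)).IsPrime := Ideal.comap_isPrime _ _
  obtain ⟨hdom, hic⟩ := hR (P.comap (Polynomial.C : R →+* Polynomial R))
  haveI := hdom
  haveI := hic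
  letI : Algebra (Polynomial R)
      (Polynomial (Localization.AtPrime (P.comap (Polynomial.C : R →+* Polynomial R)))) :=
    Polynomial.algebra R (Localization.AtPrime (P.comap (Polynomial.C : R →+* Polynomial R)))
  haveI hloc : IsLocalization ((P.comap (Polynomial.C : R →+* Polynomial R)).primeCompl.map
      (Polynomial.C : R →+* Polynomial R))
      (Polynomial (Localization.AtPrime (P.comap (Polynomial.C : R →+* Polynomial R)))) :=
    Polynomial.isLocalization _ _
  have hle : (P.comap (Polynomial.C : R →+* Polynomial R)).primeCompl.map
      (Polynomial.C : R →+* Polynomial R) ≤ P.primeCompl := by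
    rintro _ ⟨r, hr, rfl⟩
    exact hr
  letI : Algebra (Polynomial (Localization.AtPrime (P.comap (Polynomial.C : R →+* Polynomial R))))
      (Localization.AtPrime P) :=
    IsLocalization.localizationAlgebraOfSubmonoidLe _ _ _ P.primeCompl hle
  haveI : IsScalarTower (Polynomial R)
      (Polynomial (Localization.AtPrime (P.comap (Polynomial.C : R →+* Polynomial R))))
      (Localization.AtPrime P) :=
    IsLocalization.localization_isScalarTower_of_submonoid_le _ _ _ _ hle
  haveI hloc2 : IsLocalization (P.primeCompl.map (algebraMap (Polynomial R)
      (Polynomial (Localization.AtPrime (P.comap (Polynomial.C : R →+* Polynomial R))))))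
      (Localization.AtPrime P) :=
    IsLocalization.isLocalization_of_submonoid_le _ _ _ P.primeCompl hle
  have hnzd : P.primeCompl.map (algebraMap (Polynomial R)
      (Polynomial (Localization.AtPrime (P.comap (Polynomial.C : R →+* Polynomial R))))) ≤
      nonZeroDivisors _ := by
    rintro _ ⟨g, hg, rfl⟩
    rw [mem_nonZeroDivisors_iff_ne_zero]
    intro h0
    obtain ⟨⟨_, r, hr, rfl⟩, hm⟩ := (IsLocalization.map_eq_zero_iff
      ((P.comap (Polynomial.C : R →+* Polynomial R)).primeCompl.map
        (Polynomial.C : R →+* Polynomial R))
      (Polynomial (Localization.AtPrime (P.comap (Polynomial.C : R →+* Polynomial R)))) g).mp h0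
    have h1 : Polynomial.C r * g ∈ P := by
      have : Polynomial.C r * g = 0 := hm
      rw [this]; exact P.zero_mem
    rcases hP.mem_or_mem h1 with h | h
    · exact hr h
    · exact hg h
  exact ⟨IsLocalization.isDomain_of_le_nonZeroDivisors _ hnzd,
    isIntegrallyClosed_of_isLocalization _ _ hnzd⟩

end Groth.Agent.S6300
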