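import Groth.Statements.S6301
import Mathlib

set_option autoImplicit false
universe u
open CAlg

namespace Groth.Agent.S6301

private lemma trivial_of_lift {R : Type u} [CommRing R] (M : Type u) [AddCommGroup M] [Module R M]
    {l : ℕ} (f : Fin l → R) (x : Fin l → M) (n : Fin l → (M →₀ R))
    (hn : ∀ i, Finsupp.linearCombination R (id : M → M) (n i) = x i)
    (hrel : ∑ i, f i • n i = 0) : Module.IsTrivialRelation f x := by
  classical
  let s : Finset M := Finset.univ.biUnion fun i => (n i).support
  let e : Fin s.card ≃ s := s.equivFin.symm
  refine ⟨s.card, fun i j => n i (e j : M), fun j => (e j : M), ?_, ?_⟩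
  · intro i
    rw [← hn i, Finsupp.linearCombination_apply, Finsupp.sum]
    have hsub : (n i).support ⊆ s := Finset.subset_biUnion_of_mem (fun i => (n i).support) (Finset.mem_univ i)
    rw [Finset.sum_subset hsub (fun m _ hm => by
      rw [Finsupp.notMem_support_iff.mp hm, zero_smul])]
    rw [← Finset.sum_coe_sort s, ← Equiv.sum_comp e]
    rfl
  · intro j
    have := DFunLike.congr_fun hrel (e j : M)
    simpa [Finsupp.finsetSum_apply] using this

/-- An R-module M is flat exactly when, for every finitely presented R-module P and every surjective
R-module map N → M, the induced map Hom_R(P, N) → Hom_R(P, M) is surjective (modules P, N taken in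
the same universe). -/
theorem result {R : Type u} [CommRing R] (M : Type u) [AddCommGroup M] [Module R M] : Module.Flat R M ↔ ∀ (P : Type u) [AddCommGroup P] [Module R P], Module.FinitePresentation R P → ∀ (N : Type u) [AddCommGroup N] [Module R N] (g : N →ₗ[R] M), Function.Surjective g → ∀ h : P →ₗ[R] M, ∃ h' : P →ₗ[R] N, g.comp h' = h := by
  constructor
  · intro hM P _ _ hP N _ _ g hg h
    obtain ⟨k, h₂, h₃, rfl⟩ := Module.Flat.exists_factorization_of_finitePresentation h
    obtain ⟨t, ht⟩ := Module.projective_lifting_property g h₃ hg
    exact ⟨t.comp h₂, by rw [← LinearMap.comp_assoc, ht]⟩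
  · intro H
    apply Module.Flat.of_forall_isTrivialRelation
    intro l f x hfx
    -- the finitely presented module P = R^l / (f)
    let K : Submodule R (Fin l → R) := Submodule.span R {f}
    have hP : Module.FinitePresentation R ((Fin l → R) ⧸ K) :=
      Module.finitePresentation_of_surjective K.mkQ K.mkQ_surjective
        (by rw [Submodule.ker_mkQ]; exact Submodule.fg_span_singleton f)
    -- the map R^l → M
    let xl : (Fin l → R) →ₗ[R] M := Fintype.linearCombination R x
    have hxl : ∀ c : Fin l → R, xl c = ∑ i, c i • x i := fun c => Fintype.linearCombination_apply R x c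
    have hK : K ≤ LinearMap.ker xl := by
      rw [Submodule.span_le, Set.singleton_subset_iff, SetLike.mem_coe, LinearMap.mem_ker, hxl]
      exact hfx
    let xbar : ((Fin l → R) ⧸ K) →ₗ[R] M := K.liftQ xl hK
    have hg : Function.Surjective (Finsupp.linearCombination R (id : M → M)) :=
      Finsupp.linearCombination_surjective _ Function.surjective_id
    obtain ⟨h', hh'⟩ := H _ hP (M →₀ R) (Finsupp.linearCombination R (id : M → M)) hg xbar
    refine trivial_of_lift M f x (fun i => h' (K.mkQ (Pi.single i 1))) ?_ ?_
    · intro i
      have := LinearMap.congr_fun hh' (K.mkQ (Pi.single i 1))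
      rw [LinearMap.comp_apply] at this
      rw [this]
      show K.liftQ xl hK (K.mkQ (Pi.single i 1)) = x i
      rw [Submodule.mkQ_apply, Submodule.liftQ_apply, hxl]
      simp [Pi.single_apply]
    · simp only [← map_smul, ← map_sum]
      have : ∑ i, f i • (Pi.single i 1 : Fin l → R) = f := by
        funext j
        simp [Pi.single_apply]
      rw [this]
      have : K.mkQ f = 0 := by
        rw [Submodule.mkQ_apply, Submodule.Quotient.mk_eq_zero]
        exact Submodule.subset_span rfl
      rw [this, map_zero]

end Groth.Agent.S6301
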