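import Groth.Statements.S6302
import Groth.Agent.H11.Pure

set_option autoImplicit false
universe u
open CAlg

namespace Groth.Agent.S6302

/-- Let 0 → M₁ → M₂ → M₃ → 0 be a short exact sequence of R-modules with M₃ of finite presentation. If
the sequence is universally exact (its first map is universally injective) then it is split: M₂ → M₃
admits a section. (The converse, split implies universally exact, is elementary and not stated.) -/
theorem result {R : Type u} [CommRing R] {M₁ M₂ M₃ : Type u} [AddCommGroup M₁] [Module R M₁] [AddCommGroup M₂] [Module R M₂] [AddCommGroup M₃] [Module R M₃] [Module.FinitePresentation R M₃] (f : M₁ →ₗ[R] M₂) (g : M₂ →ₗ[R] M₃) (hexact : Function.Exact f g) (hg : Function.Surjective g) (hf : CAlgX.UniversallyInjective R f) : ∃ s : M₃ →ₗ[R] M₂, g.comp s = LinearMap.id := by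
  classical
  obtain ⟨n, m, p, q, hp, hpq⟩ := Module.FinitePresentation.exists_fin' R M₃
  let a : Fin m → Fin n → R := fun i j => q (Pi.single i 1) j
  let x : Fin n → M₃ := fun j => p (Pi.single j 1)
  have hpx : ∀ c : Fin n → R, p c = ∑ j, c j • x j := by
    intro c
    have : c = ∑ j, c j • (Pi.single j 1 : Fin n → R) := by
      funext k
      simp [Pi.single_apply]
    conv_lhs => rw [this]
    rw [map_sum]
    simp only [map_smul, x]
  have hrel : ∀ i, ∑ j, a i j • x j = 0 := by
    intro i
    rw [← hpx (q (Pi.single i 1))]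
    exact hpq.apply_apply_eq_zero _
  choose y hy using fun j => hg (x j)
  have hz : ∀ i, ∃ z : M₁, f z = ∑ j, a i j • y j := by
    intro i
    apply (hexact _).mp
    rw [map_sum]
    simp only [map_smul, hy]
    exact hrel i
  choose z hz using hz
  obtain ⟨w, hw⟩ := Groth.Agent.H11.pure_solve f hf a z y hz
  -- corrected lifts
  let y' : Fin n → M₂ := fun j => y j - f (w j)
  have hy' : ∀ j, g (y' j) = x j := by
    intro j
    simp only [y', map_sub, hy, hexact.apply_apply_eq_zero, sub_zero]
  have hrel' : ∀ i, ∑ j, a i j • y' j = 0 := by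
    intro i
    simp only [y', smul_sub, Finset.sum_sub_distrib]
    rw [← hz i, hw i, map_sum]
    simp only [map_smul, sub_self]
  let Y : (Fin n → R) →ₗ[R] M₂ := Fintype.linearCombination R y'
  have hY : ∀ c : Fin n → R, Y c = ∑ j, c j • y' j := fun c => Fintype.linearCombination_apply R y' c
  have hker : LinearMap.ker p ≤ LinearMap.ker Y := by
    intro c hc
    obtain ⟨d, rfl⟩ := (hpq c).mp hc
    have hd : d = ∑ i, d i • (Pi.single i 1 : Fin m → R) := by
      funext k
      simp [Pi.single_apply]
    rw [LinearMap.mem_ker, hd, map_sum, map_sum]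
    apply Finset.sum_eq_zero
    intro i _
    rw [map_smul, map_smul, hY]
    have : ∑ j, q (Pi.single i 1) j • y' j = 0 := hrel' i
    rw [this, smul_zero]
  let e := LinearMap.quotKerEquivOfSurjective p hp
  refine ⟨((LinearMap.ker p).liftQ Y hker).comp e.symm.toLinearMap, ?_⟩
  ext t
  obtain ⟨c, rfl⟩ := hp t
  have hec : e.symm (p c) = (LinearMap.ker p).mkQ c := by
    rw [LinearEquiv.symm_apply_eq]
    rfl
  rw [LinearMap.comp_apply, LinearMap.comp_apply, LinearEquiv.coe_coe, hec, Submodule.mkQ_apply,
    Submodule.liftQ_apply, LinearMap.id_apply, hY, map_sum, hpx]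
  simp only [map_smul, hy']

end Groth.Agent.S6302
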