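import Groth.Statements.S6303
import Mathlib

set_option autoImplicit false
universe u
open CAlg

namespace Groth.Agent.S6303

private lemma exists_rep {R : Type u} [CommRing R] (I : Ideal R) (M : Type u) [AddCommGroup M] [Module R M]
    (x : M) (hx : x ∈ I • (⊤ : Submodule R M)) :
    ∃ (s : Finset M) (a : M → R), (∀ m, a m ∈ I) ∧ ∑ m ∈ s, a m • m = x := by
  have h : x ∈ I • Submodule.span R (Set.range (id : M → M)) := by
    rw [Set.range_id, Submodule.span_univ]; exact hx
  obtain ⟨a, ha, rfl⟩ := (Submodule.mem_ideal_smul_span_iff_exists_sum I id x).mp h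
  exact ⟨a.support, a, ha, rfl⟩

/-- Let R be a ring, I, J ⊆ R ideals and M a flat R-module. Then IM ∩ JM = (I ∩ J)M. -/
theorem result {R : Type u} [CommRing R] (I J : Ideal R) (M : Type u) [AddCommGroup M] [Module R M] [Module.Flat R M] : (I • (⊤ : Submodule R M)) ⊓ (J • ⊤) = (I ⊓ J) • (⊤ : Submodule R M) := by
  apply le_antisymm
  · rintro x ⟨hxI, hxJ⟩
    obtain ⟨s, a, ha, hsa⟩ := exists_rep I M x hxI
    obtain ⟨t, b, hb, htb⟩ := exists_rep J M x hxJ
    -- the relation
    let f : s ⊕ t → R := Sum.elim (fun m => a m) (fun m => - b m)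
    let xs : s ⊕ t → M := Sum.elim (fun m => (m : M)) (fun m => (m : M))
    have hrel : ∑ i, f i • xs i = 0 := by
      rw [Fintype.sum_sum_type]
      simp only [f, xs, Sum.elim_inl, Sum.elim_inr, neg_smul, Finset.sum_neg_distrib]
      rw [Finset.sum_coe_sort s (fun m => a m • m), Finset.sum_coe_sort t (fun m => b m • m), hsa, htb]
      simp
    obtain ⟨k, c, y, hxy, hc⟩ := Module.Flat.isTrivialRelation_of_sum_smul_eq_zero hrel
    -- the coefficients e_j
    have he : ∀ j, ∑ m : s, a m * c (Sum.inl m) j = ∑ m : t, b m * c (Sum.inr m) j := by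
      intro j
      have := hc j
      rw [Fintype.sum_sum_type] at this
      simp only [f, Sum.elim_inl, Sum.elim_inr, neg_mul, Finset.sum_neg_distrib] at this
      exact eq_of_sub_eq_zero (by rw [sub_eq_add_neg]; exact this)
    have hx : x = ∑ j, (∑ m : s, a m * c (Sum.inl m) j) • y j := by
      rw [← hsa, ← Finset.sum_coe_sort s (fun m => a m • m)]
      have : ∀ m : s, a m • (m : M) = ∑ j, (a m * c (Sum.inl m) j) • y j := by
        intro m
        have := hxy (Sum.inl m)
        simp only [xs, Sum.elim_inl] at this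
        have h2 : a m • (m : M) = a m • ∑ j, c (Sum.inl m) j • y j := congrArg (fun z => a (m : M) • z) this
        rw [h2, Finset.smul_sum]
        apply Finset.sum_congr rfl
        intro j _
        rw [mul_smul]
      rw [Finset.sum_congr rfl (fun m _ => this m), Finset.sum_comm]
      apply Finset.sum_congr rfl
      intro j _
      rw [Finset.sum_smul]
    rw [hx]
    apply Submodule.sum_mem
    intro j _
    apply Submodule.smul_mem_smul _ Submodule.mem_top
    constructor
    · exact Ideal.sum_mem _ fun m _ => Ideal.mul_mem_right _ _ (ha m)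
    · rw [SetLike.mem_coe, he j]
      exact Ideal.sum_mem _ fun m _ => Ideal.mul_mem_right _ _ (hb m)
  · exact le_inf (Submodule.smul_mono_left inf_le_left) (Submodule.smul_mono_left inf_le_right)

end Groth.Agent.S6303
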