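import Groth.Statements.S6305
import Mathlib

set_option autoImplicit false
universe u
open CAlg TensorProduct

namespace Groth.Agent.S6305

private lemma exists_sum_smul_of_mem_span_smul_top {R : Type u} [CommRing R] {K : Type u} [AddCommGroup K]
    [Module R K] {l : ℕ} (f : Fin l → R) (z : K)
    (hz : z ∈ (Ideal.span (Set.range f)) • (⊤ : Submodule R K)) :
    ∃ κ : Fin l → K, z = ∑ i, f i • κ i := by
  refine Submodule.smul_induction_on hz ?_ ?_
  · intro r hr n _
    obtain ⟨c, rfl⟩ := (Ideal.mem_span_range_iff_exists_fun).mp hr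
    refine ⟨fun i => c i • n, ?_⟩
    rw [Finset.sum_smul]
    apply Finset.sum_congr rfl
    intro i _
    show (c i * f i) • n = f i • c i • n
    rw [mul_comm, mul_smul]
  · rintro x y ⟨κ, rfl⟩ ⟨κ', rfl⟩
    refine ⟨fun i => κ i + κ' i, ?_⟩
    rw [← Finset.sum_add_distrib]
    apply Finset.sum_congr rfl
    intro i _
    rw [smul_add]

private lemma mem_smul_top_of_tmul_one_eq_zero {R : Type u} [CommRing R] {K : Type u} [AddCommGroup K]
    [Module R K] (𝔞 : Ideal R) (k : K) (h : k ⊗ₜ[R] (1 : R ⧸ 𝔞) = 0) :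
    k ∈ 𝔞 • (⊤ : Submodule R K) := by
  have h1 : TensorProduct.tensorQuotEquivQuotSMul K 𝔞 (k ⊗ₜ[R] (Ideal.Quotient.mk 𝔞 1)) =
      Submodule.Quotient.mk ((1 : R) • k) := TensorProduct.tensorQuotEquivQuotSMul_tmul_mk 𝔞 k 1
  rw [map_one, h, map_zero, one_smul] at h1
  exact (Submodule.Quotient.mk_eq_zero _).mp h1.symm

/-- If `k = ∑ fᵢ φᵢ` lies in a submodule `K ⊆ F` whose inclusion stays injective after tensoring with
`R ⧸ (f)`, then `k = ∑ fᵢ κᵢ` with `κᵢ ∈ K`. -/
private lemma exists_in_sub {R : Type u} [CommRing R] {F : Type u} [AddCommGroup F] [Module R F]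
    (K : Submodule R F) {l : ℕ} (f : Fin l → R) (φ : Fin l → F) (hk : ∑ i, f i • φ i ∈ K)
    (hinj : Function.Injective (K.subtype.rTensor (R ⧸ Ideal.span (Set.range f)))) :
    ∃ κ : Fin l → K, ∑ i, f i • φ i = ∑ i, f i • (κ i : F) := by
  have hk0 : (⟨∑ i, f i • φ i, hk⟩ : K) ⊗ₜ[R] (1 : R ⧸ Ideal.span (Set.range f)) = 0 := by
    apply hinj
    rw [map_zero, LinearMap.rTensor_tmul]
    show (∑ i, f i • φ i) ⊗ₜ[R] (1 : R ⧸ Ideal.span (Set.range f)) = 0
    rw [TensorProduct.sum_tmul]
    apply Finset.sum_eq_zero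
    intro i _
    rw [TensorProduct.smul_tmul]
    have : f i • (1 : R ⧸ Ideal.span (Set.range f)) = 0 := by
      rw [Algebra.smul_def, mul_one]
      exact Ideal.Quotient.eq_zero_iff_mem.mpr (Ideal.subset_span ⟨i, rfl⟩)
    rw [this, TensorProduct.tmul_zero]
  have hk1 := mem_smul_top_of_tmul_one_eq_zero _ _ hk0
  obtain ⟨κ, hκ⟩ := exists_sum_smul_of_mem_span_smul_top f _ hk1
  refine ⟨κ, ?_⟩
  have h2 := congrArg (Subtype.val) hκ
  rw [AddSubmonoidClass.coe_finsetSum] at h2
  exact h2

private lemma flat_of_cover {R : Type u} [CommRing R] {F M : Type u} [AddCommGroup F] [Module R F]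
    [AddCommGroup M] [Module R M] [Module.Flat R F] (π : F →ₗ[R] M) (hπ : Function.Surjective π)
    (hK : ∀ (Q : Type u) [AddCommGroup Q] [Module R Q],
      Function.Injective ((LinearMap.ker π).subtype.rTensor Q)) : Module.Flat R M := by
  apply Module.Flat.of_forall_isTrivialRelation
  intro l f x hfx
  choose φ hφ using fun i => hπ (x i)
  have hk : ∑ i, f i • φ i ∈ LinearMap.ker π := by
    rw [LinearMap.mem_ker, map_sum]
    simp only [map_smul, hφ]
    exact hfx
  obtain ⟨κ, hκ⟩ := exists_in_sub (LinearMap.ker π) f φ hk (hK _)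
  have hrel : ∑ i, f i • (φ i - (κ i : F)) = 0 := by
    simp only [smul_sub, Finset.sum_sub_distrib]
    rw [hκ, sub_self]
  obtain ⟨n, a, y, hy, ha⟩ := Module.Flat.isTrivialRelation_of_sum_smul_eq_zero hrel
  refine ⟨n, a, fun j => π (y j), ?_, ha⟩
  intro i
  have := congrArg π (hy i)
  rw [map_sub, hφ, LinearMap.mem_ker.mp (κ i).2, sub_zero, map_sum] at this
  rw [this]
  apply Finset.sum_congr rfl
  intro j _
  rw [map_smul]

/-- An R-module M is flat exactly when every short exact sequence 0 → M₁ → M₂ → M → 0 of R-modules is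
universally exact, i.e. its first map M₁ → M₂ is universally injective. -/
theorem result {R : Type u} [CommRing R] (M : Type u) [AddCommGroup M] [Module R M] : Module.Flat R M ↔ ∀ (M₁ M₂ : Type u) [AddCommGroup M₁] [Module R M₁] [AddCommGroup M₂] [Module R M₂] (f : M₁ →ₗ[R] M₂) (g : M₂ →ₗ[R] M), Function.Injective f → Function.Exact f g → Function.Surjective g → CAlgX.UniversallyInjective R f := by
  constructor
  · intro hM M₁ M₂ _ _ _ _ f g hf hfg hg Q _ _
    rw [← LinearMap.lTensor_inj_iff_rTensor_inj]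
    exact LinearMap.lTensor_injective_of_exact_of_flat g hg f hf hfg Q
  · intro H
    have hπ : Function.Surjective (Finsupp.linearCombination R (id : M → M)) :=
      Finsupp.linearCombination_surjective _ Function.surjective_id
    apply flat_of_cover (Finsupp.linearCombination R (id : M → M)) hπ
    exact H _ _ _ _ (Submodule.subtype_injective _) (LinearMap.exact_subtype_ker_map _) hπ

end Groth.Agent.S6305
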