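import Groth.Statements.S6308
import Mathlib

set_option autoImplicit false
universe u
open scoped TensorProduct
open CAlg

namespace Groth.Agent.S6308

/-- Let R be a ring and φ : M → N a map of R-modules with N finite. For a prime p, the localization φ_p
: M_p → N_p is surjective if and only if φ ⊗ κ(p) : M ⊗ κ(p) → N ⊗ κ(p) is surjective; the set U of
such primes is open in Spec(R); and for every f ∈ R with D(f) ⊆ U the map M_f → N_f is surjective. -/
theorem result {R : Type u} [CommRing R] {M N : Type u} [AddCommGroup M] [Module R M] [AddCommGroup N] [Module R N] [Module.Finite R N] (φ : M →ₗ[R] N) : (∀ p : PrimeSpectrum R, Function.Surjective (LocalizedModule.map p.asIdeal.primeCompl φ) ↔ Function.Surjective (φ.lTensor p.asIdeal.ResidueField)) ∧ IsOpen {p : PrimeSpectrum R | Function.Surjective (LocalizedModule.map p.asIdeal.primeCompl φ)} ∧ (∀ f : R, (↑(PrimeSpectrum.basicOpen f) : Set (PrimeSpectrum R)) ⊆ {p : PrimeSpectrum R | Function.Surjective (LocalizedModule.map p.asIdeal.primeCompl φ)} → Function.Surjective (LocalizedModule.map (Submonoid.powers f) φ)) := by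
  classical
  have key : ∀ p : PrimeSpectrum R,
      Function.Surjective (LocalizedModule.map p.asIdeal.primeCompl φ) ↔
        p ∉ Module.support R (N ⧸ LinearMap.range φ) := by
    intro p
    rw [LinearMap.localizedMap_surjective_iff_subsingleton_localized_coker,
      Module.notMem_support_iff]
  have hset : {p : PrimeSpectrum R |
      Function.Surjective (LocalizedModule.map p.asIdeal.primeCompl φ)} =
      (Module.support R (N ⧸ LinearMap.range φ))ᶜ := by
    ext p; exact key p
  refine ⟨fun p => ?_, ?_, ?_⟩
  · rw [key p, Module.mem_support_iff_nontrivial_residueField_tensorProduct,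
      not_nontrivial_iff_subsingleton]
    have hex : Function.Exact φ (LinearMap.range φ).mkQ := LinearMap.exact_map_mkQ_range φ
    have hex' := lTensor_exact p.asIdeal.ResidueField hex (Submodule.mkQ_surjective _)
    have hsurj := LinearMap.lTensor_surjective p.asIdeal.ResidueField
      (Submodule.mkQ_surjective (LinearMap.range φ))
    constructor
    · intro hs b
      exact (hex' b).mp (Subsingleton.elim _ _)
    · intro hs
      refine ⟨fun c d => ?_⟩
      obtain ⟨c', rfl⟩ := hsurj c
      obtain ⟨d', rfl⟩ := hsurj d
      rw [(hex' c').mpr (hs c'), (hex' d').mpr (hs d')]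
  · rw [hset, isOpen_compl_iff, Module.support_eq_zeroLocus]
    exact PrimeSpectrum.isClosed_zeroLocus _
  · intro f hf
    rw [LinearMap.localizedMap_surjective_iff_subsingleton_localized_coker]
    have := (LocalizedModule.subsingleton_iff_support_subset (R := R)
      (M := N ⧸ LinearMap.range φ) (f := f)).mpr ?_
    · exact this
    intro q hq
    rw [PrimeSpectrum.mem_zeroLocus, Set.singleton_subset_iff]
    by_contra hfq
    have hq' : q ∈ (↑(PrimeSpectrum.basicOpen f) : Set (PrimeSpectrum R)) := hfq
    exact (key q).mp (hf hq') hq

end Groth.Agent.S6308
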