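import Groth.Statements.S6309
import Groth.Agent.Lib.Helper4.LeftInv

set_option autoImplicit false
universe u
open scoped TensorProduct
open CAlg

namespace Groth.Agent.S6309

/-- Let R be a ring and φ : P₁ → P₂ a map of finite projective R-modules. The set U of primes p of R
such that φ ⊗ κ(p) is injective is open, and for every f ∈ R with D(f) ⊆ U the map (P₁)_f → (P₂)_f
is injective and Coker(φ)_f is a finite projective module over R_f. -/
theorem result {R : Type u} [CommRing R] {P₁ P₂ : Type u} [AddCommGroup P₁] [Module R P₁] [AddCommGroup P₂] [Module R P₂] [Module.Finite R P₁] [Module.Projective R P₁] [Module.Finite R P₂] [Module.Projective R P₂] (φ : P₁ →ₗ[R] P₂) : IsOpen {p : PrimeSpectrum R | Function.Injective (φ.lTensor p.asIdeal.ResidueField)} ∧ ∀ f : R, (↑(PrimeSpectrum.basicOpen f) : Set (PrimeSpectrum R)) ⊆ {p : PrimeSpectrum R | Function.Injective (φ.lTensor p.asIdeal.ResidueField)} → Function.Injective (LocalizedModule.map (Submonoid.powers f) φ) ∧ Module.Finite (Localization.Away f) (LocalizedModule (Submonoid.powers f)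 (P₂ ⧸ LinearMap.range φ)) ∧ Module.Projective (Localization.Away f) (LocalizedModule (Submonoid.powers f) (P₂ ⧸ LinearMap.range φ)) := by
  classical
  have hunit : ∀ (q : PrimeSpectrum R), ∀ s ∈ q.asIdeal.primeCompl,
      IsUnit (algebraMap R q.asIdeal.ResidueField s) := fun q s hs =>
    IsUnit.mk0 _ (fun h => hs (Ideal.algebraMap_residueField_eq_zero.mp h))
  have hopen_aux : ∀ (a : R) (w : P₂ →ₗ[R] P₁), w ∘ₗ φ = a • LinearMap.id →
      ∀ q : PrimeSpectrum R, a ∉ q.asIdeal →
        Function.Injective (φ.lTensor q.asIdeal.ResidueField) := by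
    intro a w hw q haq
    obtain ⟨w', hw'⟩ := Groth.Agent.Helper4.LeftInv.localized_leftInv_of_smul
      q.asIdeal.primeCompl φ a haq w hw
    exact Groth.Agent.Helper4.LeftInv.lTensor_injective_of_localized_leftInv
      q.asIdeal.primeCompl q.asIdeal.ResidueField (hunit q) φ w' hw'
  refine ⟨?_, ?_⟩
  · rw [isOpen_iff_forall_mem_open]
    intro p hp
    obtain ⟨a, ha, w, hw⟩ := Groth.Agent.Helper4.LeftInv.key φ p.asIdeal hp
    refine ⟨PrimeSpectrum.basicOpen a, ?_, (PrimeSpectrum.basicOpen a).isOpen, ha⟩
    intro q hq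
    exact hopen_aux a w hw q hq
  · intro f hf
    have hrad : f ∈ (Groth.Agent.Helper4.LeftInv.factorIdeal φ).radical := by
      rw [Ideal.radical_eq_sInf, Ideal.mem_sInf]
      rintro q ⟨hle, hq⟩
      by_contra hfq
      let p : PrimeSpectrum R := ⟨q, hq⟩
      have hp : p ∈ (↑(PrimeSpectrum.basicOpen f) : Set (PrimeSpectrum R)) := hfq
      have hinj : Function.Injective (φ.lTensor p.asIdeal.ResidueField) := hf hp
      obtain ⟨a, ha, w, hw⟩ := Groth.Agent.Helper4.LeftInv.key φ p.asIdeal hinj
      exact ha (hle ⟨w, hw⟩)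
    obtain ⟨n, w, hw⟩ := hrad
    clear hf hopen_aux hunit
    have hfn : f ^ n ∈ Submonoid.powers f := ⟨n, rfl⟩
    obtain ⟨w', hw'⟩ := Groth.Agent.Helper4.LeftInv.localized_leftInv_of_smul
      (Submonoid.powers f) φ (f ^ n) hfn w hw
    let φf : LocalizedModule (Submonoid.powers f) P₁ →ₗ[Localization (Submonoid.powers f)] LocalizedModule (Submonoid.powers f) P₂ := LocalizedModule.map (Submonoid.powers f) φ
    let π : LocalizedModule (Submonoid.powers f) P₂ →ₗ[Localization (Submonoid.powers f)] LocalizedModule (Submonoid.powers f) (P₂ ⧸ LinearMap.range φ) :=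
      LocalizedModule.map (Submonoid.powers f) (LinearMap.range φ).mkQ
    let r : LocalizedModule (Submonoid.powers f) P₂ →ₗ[Localization (Submonoid.powers f)] LocalizedModule (Submonoid.powers f) P₁ :=
      w'.extendScalarsOfIsLocalization (Submonoid.powers f) (Localization (Submonoid.powers f))
    have hr : r ∘ₗ φf = LinearMap.id := by
      ext y
      exact hw' y
    have hinj : Function.Injective φf := fun x y hxy => by
      have := congrArg r hxy
      have hx := LinearMap.congr_fun hr x
      have hy := LinearMap.congr_fun hr y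
      simp only [LinearMap.comp_apply, LinearMap.id_apply] at hx hy
      rw [← hx, ← hy, this]
    have hπsurj : Function.Surjective π :=
      LocalizedModule.map_surjective (Submonoid.powers f) _ (Submodule.mkQ_surjective _)
    have hex : Function.Exact φf π :=
      LocalizedModule.map_exact (Submonoid.powers f) φ (LinearMap.range φ).mkQ (LinearMap.exact_map_mkQ_range φ)
    refine ⟨hinj, Module.Finite.of_surjective π hπsurj, ?_⟩
    have htfae := Function.Exact.split_tfae' hex
    obtain ⟨-, l, hl⟩ := (htfae.out 1 0 rfl rfl).mp ⟨hπsurj, r, hr⟩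
    exact Module.Projective.of_split l π hl


end Groth.Agent.S6309
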