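import Groth.Statements.S6310
import Mathlib

set_option autoImplicit false
universe u
open CAlg

namespace Groth.Agent.S6310

/-- Let R be a ring, S ⊆ R a multiplicative subset, I ⊆ R an ideal and M a finite R-module. If x₁, …,
x_r ∈ M have images generating S⁻¹(M/IM) as an S⁻¹R-module, then there is f ∈ S + I (f = s + i with
s ∈ S, i ∈ I) such that x₁, …, x_r generate M_f as an R_f-module. -/
theorem result {R : Type u} [CommRing R] (S : Submonoid R) (I : Ideal R) (M : Type u) [AddCommGroup M] [Module R M] [Module.Finite R M] {r : ℕ} (x : Fin r → M) (hx : Submodule.span (Localization S) (Set.range fun j => LocalizedModule.mkLinearMap S (M ⧸ (I • (⊤ : Submodule R M))) (Submodule.Quotient.mk (x j))) = ⊤) : ∃ (s : R) (i : R), s ∈ S ∧ i ∈ I ∧ Submodule.span (Localization.Away (s + i)) (Set.range fun j => LocalizedModule.mkLinearMap (Submonoid.powers (s + i)) M (x j)) = ⊤ := by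
  classical
  set X : Submodule R M := Submodule.span R (Set.range x) with hX
  set IM : Submodule R M := I • (⊤ : Submodule R M) with hIM
  -- Step 1
  have step1 : ∀ m : M, ∃ s ∈ S, s • m ∈ X ⊔ IM := by
    intro m
    have h1 : LocalizedModule.mkLinearMap S (M ⧸ IM) (Submodule.Quotient.mk m) ∈
        Submodule.span (Localization S) (Set.range fun j =>
          LocalizedModule.mkLinearMap S (M ⧸ IM) (Submodule.Quotient.mk (x j))) := by
      rw [hx]; trivial
    have h2 : (Set.range fun j =>
          LocalizedModule.mkLinearMap S (M ⧸ IM) (Submodule.Quotient.mk (x j))) =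
        (LocalizedModule.mkLinearMap S (M ⧸ IM)) ''
          (Set.range fun j => (Submodule.Quotient.mk (x j) : M ⧸ IM)) := by
      rw [← Set.range_comp]; rfl
    rw [h2, ← Submodule.localized'_span (S := Localization S) (p := S)
      (f := LocalizedModule.mkLinearMap S (M ⧸ IM)), Submodule.mem_localized'] at h1
    obtain ⟨y, hy, t, hyt⟩ := h1
    rw [IsLocalizedModule.mk'_eq_iff] at hyt
    have hyt' : LocalizedModule.mkLinearMap S (M ⧸ IM) y =
        LocalizedModule.mkLinearMap S (M ⧸ IM) ((t : R) • Submodule.Quotient.mk m) := by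
      rw [hyt, map_smul]; rfl
    obtain ⟨u, hu⟩ := (IsLocalizedModule.eq_iff_exists S
      (LocalizedModule.mkLinearMap S (M ⧸ IM))).mp hyt'
    have hy' : y ∈ Submodule.map IM.mkQ X := by
      rw [hX, Submodule.map_span, ← Set.range_comp]
      exact hy
    have huy : (u : R) • y ∈ Submodule.map IM.mkQ X := Submodule.smul_mem _ _ hy'
    obtain ⟨w, hwX, hw⟩ := huy
    refine ⟨(u : R) * (t : R), S.mul_mem u.2 t.2, ?_⟩
    have hdiff : ((u : R) * (t : R)) • m - w ∈ IM := by
      rw [← Submodule.Quotient.mk_eq_zero, Submodule.Quotient.mk_sub, Submodule.Quotient.mk_smul,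
        sub_eq_zero, mul_smul]
      have hw' : (Submodule.Quotient.mk w : M ⧸ IM) = (u : R) • y := hw
      rw [hw']
      exact hu.symm
    have : ((u : R) * (t : R)) • m = w + (((u : R) * (t : R)) • m - w) := by abel
    rw [this]
    exact Submodule.add_mem_sup hwX hdiff
  -- Step 2
  obtain ⟨T, hT⟩ := (Module.Finite.fg_top : (⊤ : Submodule R M).FG)
  choose s hsS hs using step1
  set s₀ : R := ∏ t ∈ T, s t with hs₀
  have hs₀S : s₀ ∈ S := Submonoid.prod_mem S (fun t _ => hsS t)
  have step2 : ∀ m : M, s₀ • m ∈ X ⊔ IM := by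
    intro m
    have hm : m ∈ Submodule.span R (T : Set M) := by rw [hT]; trivial
    have hle : Submodule.span R (T : Set M) ≤
        (X ⊔ IM).comap (s₀ • (LinearMap.id : M →ₗ[R] M)) := by
      rw [Submodule.span_le]
      intro t ht
      show s₀ • t ∈ X ⊔ IM
      rw [hs₀, ← Finset.prod_erase_mul T s ht, mul_smul]
      exact Submodule.smul_mem _ _ (hs t)
    exact hle hm
  -- Step 3
  let φ : Module.End R (M ⧸ X) := algebraMap R (Module.End R (M ⧸ X)) s₀
  have hφ : LinearMap.range φ ≤ I • (⊤ : Submodule R (M ⧸ X)) := by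
    rintro _ ⟨n, rfl⟩
    obtain ⟨m, rfl⟩ := Submodule.Quotient.mk_surjective X n
    show s₀ • (Submodule.Quotient.mk m : M ⧸ X) ∈ _
    rw [← Submodule.Quotient.mk_smul]
    obtain ⟨a, ha, b, hb, hab⟩ := Submodule.mem_sup.mp (step2 m)
    rw [← hab, Submodule.Quotient.mk_add, (Submodule.Quotient.mk_eq_zero X).mpr ha, zero_add]
    have : (Submodule.Quotient.mk b : M ⧸ X) ∈ Submodule.map X.mkQ (I • (⊤ : Submodule R M)) :=
      ⟨b, hb, rfl⟩
    rw [Submodule.map_smul''] at this
    exact Submodule.smul_mono le_rfl le_top this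
  obtain ⟨p, hpm, -, hpc, hp0⟩ :=
    LinearMap.exists_monic_and_natDegree_eq_and_coeff_mem_pow_and_aeval_eq_zero R φ I hφ
  have hp0' : algebraMap R (Module.End R (M ⧸ X)) (Polynomial.eval s₀ p) = 0 := by
    have := Polynomial.aeval_algebraMap_apply (Module.End R (M ⧸ X)) s₀ p
    rw [hp0] at this
    rw [← Polynomial.coe_aeval_eq_eval]
    exact this.symm
  set i₀ : R := ∑ k ∈ Finset.range p.natDegree, p.coeff k * s₀ ^ k with hi₀
  have hi₀I : i₀ ∈ I := by
    refine Ideal.sum_mem I (fun k hk => ?_)
    have hk' : k < p.natDegree := Finset.mem_range.mp hk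
    have : p.coeff k ∈ I := Ideal.pow_le_self (by omega) (hpc k)
    exact Ideal.mul_mem_right _ _ this
  have heval : Polynomial.eval s₀ p = s₀ ^ p.natDegree + i₀ := by
    rw [Polynomial.eval_eq_sum_range, Finset.sum_range_succ, hpm.coeff_natDegree, one_mul, add_comm]
  refine ⟨s₀ ^ p.natDegree, i₀, S.pow_mem hs₀S _, hi₀I, ?_⟩
  rw [← heval]
  set f₀ : R := Polynomial.eval s₀ p with hf₀
  -- Step 4
  have step4 : ∀ m : M, f₀ • m ∈ X := by
    intro m
    have := LinearMap.congr_fun hp0' (Submodule.Quotient.mk m : M ⧸ X)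
    rw [Module.algebraMap_end_apply, LinearMap.zero_apply, ← Submodule.Quotient.mk_smul,
      Submodule.Quotient.mk_eq_zero] at this
    exact this
  have h2 : (Set.range fun j => LocalizedModule.mkLinearMap (Submonoid.powers f₀) M (x j)) =
      (LocalizedModule.mkLinearMap (Submonoid.powers f₀) M) '' (Set.range x) := by
    rw [← Set.range_comp]; rfl
  rw [h2, ← Submodule.localized'_span (S := Localization.Away f₀) (p := Submonoid.powers f₀)
    (f := LocalizedModule.mkLinearMap (Submonoid.powers f₀) M), eq_top_iff]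
  intro z _
  obtain ⟨⟨m, t⟩, rfl⟩ := IsLocalizedModule.mk'_surjective (Submonoid.powers f₀)
    (LocalizedModule.mkLinearMap (Submonoid.powers f₀) M) z
  rw [Submodule.mem_localized']
  let f₀' : Submonoid.powers f₀ := ⟨f₀, 1, pow_one f₀⟩
  exact ⟨f₀ • m, step4 m, f₀' * t,
    IsLocalizedModule.mk'_cancel_left (f := LocalizedModule.mkLinearMap (Submonoid.powers f₀) M)
      m f₀' t⟩

end Groth.Agent.S6310
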