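import Groth.Statements.S6311
import Mathlib

set_option autoImplicit false
universe u
open CategoryTheory
open CAlg

namespace Groth.Agent.S6311

open CategoryTheory

section
variable (R : Type u) [CommRing R] [IsLocalRing R]

/-- The object property: finite projective. -/
abbrev FP : ObjectProperty (ModuleCat.{u} R) :=
  fun M : ModuleCat.{u} R => Module.Finite R M ∧ Module.Projective R M

theorem free_of_FP {M : ModuleCat.{u} R} (h : FP R M) : Module.Free R M := by
  haveI := h.1
  haveI := h.2
  exact Module.free_of_flat_of_isLocalRing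

theorem finrank_add {S : ShortComplex (ModuleCat.{u} R)} (hS : S.ShortExact) (h₁ : FP R S.X₁)
    (h₃ : FP R S.X₃) :
    Module.finrank R S.X₂ = Module.finrank R S.X₁ + Module.finrank R S.X₃ := by
  haveI := h₁.1
  haveI := h₁.2
  haveI := h₃.1
  haveI := h₃.2
  haveI := free_of_FP R h₁
  haveI := free_of_FP R h₃
  have hex : Function.Exact S.f.hom S.g.hom :=
    (ShortComplex.ShortExact.moduleCat_exact_iff_function_exact S).1 hS.exact
  obtain ⟨l, hl⟩ := Module.projective_lifting_property S.g.hom LinearMap.id
    hS.moduleCat_surjective_g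
  have e := (hex.splitSurjectiveEquiv hS.moduleCat_injective_f ⟨l, hl⟩).1
  rw [e.finrank_eq, Module.finrank_prod]

theorem rel_eq {S : ShortComplex (ModuleCat.{u} R)} (hS : S.ShortExact) (h₁ : FP R S.X₁)
    (h₂ : FP R S.X₂) (h₃ : FP R S.X₃) :
    (QuotientAddGroup.mk (FreeAbelianGroup.of (⟨S.X₂, h₂⟩ : Subtype (FP R))) :
      KZero.K0sub (FP R)) =
    QuotientAddGroup.mk (FreeAbelianGroup.of (⟨S.X₁, h₁⟩ : Subtype (FP R))) +
      QuotientAddGroup.mk (FreeAbelianGroup.of (⟨S.X₃, h₃⟩ : Subtype (FP R))) := by
  have hmem : FreeAbelianGroup.of (⟨S.X₂, h₂⟩ : Subtype (FP R)) - FreeAbelianGroup.of ⟨S.X₁, h₁⟩ -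
      FreeAbelianGroup.of ⟨S.X₃, h₃⟩ ∈ KZero.relSub (FP R) :=
    AddSubgroup.subset_closure ⟨S, h₁, h₂, h₃, hS, rfl⟩
  have h0 := (QuotientAddGroup.eq_zero_iff _).2 hmem
  rw [QuotientAddGroup.mk_sub, QuotientAddGroup.mk_sub, sub_sub, sub_eq_zero] at h0
  exact h0

theorem hRR : FP R (ModuleCat.of R R) :=
  ⟨inferInstanceAs (Module.Finite R R), inferInstanceAs (Module.Projective R R)⟩

theorem cl_eq (n : ℕ) : ∀ (M : ModuleCat.{u} R) (hM : FP R M), Module.finrank R M = n →
    (QuotientAddGroup.mk (FreeAbelianGroup.of (⟨M, hM⟩ : Subtype (FP R))) : KZero.K0sub (FP R)) =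
      n • (QuotientAddGroup.mk (FreeAbelianGroup.of
        (⟨ModuleCat.of R R, hRR R⟩ : Subtype (FP R))) : KZero.K0sub (FP R)) := by
  induction n with
  | zero =>
    intro M hM hfin
    haveI := hM.1
    haveI := hM.2
    haveI : Module.Free R M := free_of_FP R hM
    haveI hsub : Subsingleton M := (Module.finrank_eq_zero_iff_of_free R M).1 hfin
    let S : ShortComplex (ModuleCat.{u} R) := ShortComplex.mk (0 : M ⟶ M) (0 : M ⟶ M) Limits.zero_comp
    have hS : S.ShortExact := by
      refine ShortComplex.ShortExact.mk'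
        ((ShortComplex.moduleCat_exact_iff S).2 fun x _ => ⟨0, Subsingleton.elim (α := M) _ _⟩)
        ((ModuleCat.mono_iff_injective _).2 fun a b _ => Subsingleton.elim (α := M) a b)
        ((ModuleCat.epi_iff_surjective _).2 fun y => ⟨(0 : M), Subsingleton.elim (α := M) _ _⟩)
    have hrel : (QuotientAddGroup.mk (FreeAbelianGroup.of (⟨M, hM⟩ : Subtype (FP R))) :
        KZero.K0sub (FP R)) = QuotientAddGroup.mk (FreeAbelianGroup.of ⟨M, hM⟩) +
          QuotientAddGroup.mk (FreeAbelianGroup.of ⟨M, hM⟩) := rel_eq R hS hM hM hM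
    rw [zero_nsmul]
    exact left_eq_add.mp hrel
  | succ n ih =>
    intro M hM hfin
    haveI := hM.1
    haveI := hM.2
    haveI : Module.Free R M := free_of_FP R hM
    let b := Module.Free.chooseBasis R M
    have hcard : Fintype.card (Module.Free.ChooseBasisIndex R M) = n + 1 := by
      rw [← Module.finrank_eq_card_chooseBasisIndex, hfin]
    have hne : Nonempty (Module.Free.ChooseBasisIndex R M) := by
      rw [← Fintype.card_pos_iff, hcard]
      exact Nat.succ_pos n
    obtain ⟨i⟩ := hne
    let c : M →ₗ[R] R := b.coord i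
    have hc1 : c (b i) = 1 := by
      simp [c]
    let K : Submodule R M := LinearMap.ker c
    let p : M →ₗ[R] K := LinearMap.codRestrict K
      (LinearMap.id - (LinearMap.toSpanSingleton R M (b i)) ∘ₗ c) (by
        intro x
        rw [LinearMap.mem_ker, LinearMap.sub_apply, LinearMap.id_apply, LinearMap.comp_apply,
          LinearMap.toSpanSingleton_apply, map_sub, map_smul, hc1, smul_eq_mul, mul_one,
          sub_self])
    have hp : p ∘ₗ K.subtype = LinearMap.id := by
      refine LinearMap.ext fun k => Subtype.ext ?_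
      have hk : c (k : M) = 0 := LinearMap.mem_ker.1 k.2
      change (k : M) - c (k : M) • b i = k
      rw [hk, zero_smul, sub_zero]
    have hKfin : Module.Finite R K :=
      Module.Finite.of_surjective p (fun k => ⟨k.1, LinearMap.congr_fun hp k⟩)
    have hKproj : Module.Projective R K := Module.Projective.of_split K.subtype p hp
    have hK : FP R (ModuleCat.of R K) := ⟨hKfin, hKproj⟩
    let S : ShortComplex (ModuleCat.{u} R) :=
      ShortComplex.mk (ModuleCat.ofHom K.subtype : ModuleCat.of R K ⟶ M)
        (ModuleCat.ofHom c : M ⟶ ModuleCat.of R R) (by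
          ext x
          exact x.2)
    have hS : S.ShortExact := by
      refine ShortComplex.ShortExact.mk'
        ((ShortComplex.moduleCat_exact_iff S).2 fun x hx => ⟨⟨x, hx⟩, rfl⟩)
        ((ModuleCat.mono_iff_injective _).2 fun a b h => Subtype.ext h)
        ((ModuleCat.epi_iff_surjective _).2 fun r => ⟨r • b i, ?_⟩)
      change c (r • b i) = r
      rw [map_smul, hc1, smul_eq_mul, mul_one]
    have hrel : (QuotientAddGroup.mk (FreeAbelianGroup.of (⟨M, hM⟩ : Subtype (FP R))) :
        KZero.K0sub (FP R)) = QuotientAddGroup.mk (FreeAbelianGroup.of ⟨ModuleCat.of R K, hK⟩) +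
          QuotientAddGroup.mk (FreeAbelianGroup.of ⟨ModuleCat.of R R, hRR R⟩) :=
      rel_eq R hS hK hM (hRR R)
    have hadd : Module.finrank R M = Module.finrank R K + Module.finrank R R :=
      finrank_add R hS hK (hRR R)
    rw [Module.finrank_self, hfin] at hadd
    have hKn : Module.finrank R (ModuleCat.of R K) = n := by
      change Module.finrank R K = n
      omega
    rw [hrel, ih (ModuleCat.of R K) hK hKn, succ_nsmul]

end

/-- Let R be a local ring. Then K₀(R), the Grothendieck group of the category of finite projective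
R-modules, is isomorphic to ℤ via the rank; precisely, there is an isomorphism K₀(R) ≅ ℤ of abelian
groups sending the class [R] to 1 (such an isomorphism is then unique, K₀(R) being generated by
[R]). -/
theorem result (R : Type u) [CommRing R] [IsLocalRing R] : ∃ e : KZero.K0sub (fun M : ModuleCat.{u} R => Module.Finite R M ∧ Module.Projective R M) ≃+ ℤ, e (KZero.clSub (fun M : ModuleCat.{u} R => Module.Finite R M ∧ Module.Projective R M) (ModuleCat.of R R)) = 1 := by
  classical
  let c0 : KZero.K0sub (FP R) :=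
    QuotientAddGroup.mk (FreeAbelianGroup.of (⟨ModuleCat.of R R, hRR R⟩ : Subtype (FP R)))
  let φ0 : FreeAbelianGroup (Subtype (FP R)) →+ ℤ :=
    FreeAbelianGroup.lift (fun M : Subtype (FP R) => ((Module.finrank R M.1 : ℕ) : ℤ))
  have hker : KZero.relSub (FP R) ≤ φ0.ker := by
    rw [KZero.relSub, AddSubgroup.closure_le]
    rintro x ⟨S, h₁, h₂, h₃, hS, rfl⟩
    rw [SetLike.mem_coe, AddMonoidHom.mem_ker, map_sub, map_sub]
    simp only [φ0, FreeAbelianGroup.lift_apply_of]
    rw [finrank_add R hS h₁ h₃]
    push_cast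
    ring
  let φ : KZero.K0sub (FP R) →+ ℤ := QuotientAddGroup.lift (KZero.relSub (FP R)) φ0 hker
  have hφmk : ∀ z, φ (QuotientAddGroup.mk z) = φ0 z := fun z => QuotientAddGroup.lift_mk _ _ _
  have hφc0 : φ c0 = 1 := by
    change φ (QuotientAddGroup.mk _) = 1
    rw [hφmk]
    simp only [φ0, FreeAbelianGroup.lift_apply_of]
    have : Module.finrank R (ModuleCat.of R R) = 1 := Module.finrank_self R
    rw [this]
    rfl
  have hleft0 : ∀ z : FreeAbelianGroup (Subtype (FP R)),
      (φ0 z) • c0 = (QuotientAddGroup.mk z : KZero.K0sub (FP R)) := by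
    intro z
    induction z using FreeAbelianGroup.induction_on with
    | zero => rw [map_zero, zero_smul]; rfl
    | of x =>
      obtain ⟨M, hM⟩ := x
      simp only [φ0, FreeAbelianGroup.lift_apply_of]
      rw [natCast_zsmul]
      exact (cl_eq R _ M hM rfl).symm
    | neg x ih =>
      rw [map_neg, neg_smul, ih, QuotientAddGroup.mk_neg]
    | add x y ihx ihy =>
      rw [map_add, add_smul, ihx, ihy, QuotientAddGroup.mk_add]
  have hc0 : KZero.clSub (FP R) (ModuleCat.of R R) = c0 := dif_pos (hRR R)
  refine ⟨{ toFun := φ, invFun := fun n => n • c0, left_inv := ?_, right_inv := ?_,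
            map_add' := map_add φ }, ?_⟩
  · intro x
    induction x using QuotientAddGroup.induction_on with
    | H z =>
      change (φ (QuotientAddGroup.mk z)) • c0 = _
      rw [hφmk, hleft0]
  · intro n
    change φ (n • c0) = n
    rw [map_zsmul, hφc0, smul_eq_mul, mul_one]
  · change φ (KZero.clSub (FP R) (ModuleCat.of R R)) = 1
    rw [hc0, hφc0]

end Groth.Agent.S6311
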