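import Groth.Statements.S6312
import Mathlib

set_option autoImplicit false
universe u
open CAlg

namespace Groth.Agent.S6312

/-- Let R be a ring, M an R-module and S ⊆ R a multiplicative subset. Then length_{S⁻¹R}(S⁻¹M) ≤
length_R(M). -/
theorem result {R : Type u} [CommRing R] (S : Submonoid R) (M : Type u) [AddCommGroup M] [Module R M] : Module.length (Localization S) (LocalizedModule S M) ≤ Module.length R M := by
  rw [← WithBot.coe_le_coe, Module.coe_length, Module.coe_length]
  let F : Submodule (Localization S) (LocalizedModule S M) → Submodule R M :=
    fun N' => Submodule.comap (LocalizedModule.mkLinearMap S M) (N'.restrictScalars R)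
  have hmono : Monotone F := fun N₁ N₂ h x hx => h hx
  have hinj : Function.Injective F := by
    intro N₁ N₂ h
    have key : ∀ N' : Submodule (Localization S) (LocalizedModule S M), ∀ x : LocalizedModule S M,
        x ∈ N' ↔ ∃ (m : M) (s : S), m ∈ F N' ∧ x = LocalizedModule.mk m s := by
      intro N' x
      constructor
      · intro hx
        induction x using LocalizedModule.induction_on with
        | h m s =>
          refine ⟨m, s, ?_, rfl⟩
          show (LocalizedModule.mk m 1 : LocalizedModule S M) ∈ N'
          have : (LocalizedModule.mk m 1 : LocalizedModule S M) =
              (Localization.mk (s : R) 1 : Localization S) • (LocalizedModule.mk m s : LocalizedModule S M) := by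
            rw [LocalizedModule.mk_smul_mk, one_mul]
            exact (LocalizedModule.mk_cancel s m).symm
          rw [this]
          exact N'.smul_mem _ hx
      · rintro ⟨m, s, hm, rfl⟩
        have : (LocalizedModule.mk m s : LocalizedModule S M) =
            (Localization.mk (1 : R) s : Localization S) • (LocalizedModule.mk m 1 : LocalizedModule S M) := by
          rw [LocalizedModule.mk_smul_mk, one_smul, mul_one]
        rw [this]
        exact N'.smul_mem _ hm
    ext x
    rw [key N₁, key N₂, h]
  exact Order.krullDim_le_of_strictMono F (hmono.strictMono_of_injective hinj)

end Groth.Agent.S6312
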