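import Mathlib
import Groth.Statements.S6313
import Groth.Agent.S6314
import Groth.Agent.H11.Resolution

set_option autoImplicit false
universe u
open CategoryTheory
open CAlg

namespace Groth.Agent.S6313

open Limits Groth.Agent.H11

noncomputable def cov (R : Type u) [CommRing R] (K : ModuleCat.{u} R) : Cover K :=
  ⟨Projective.over K, Projective.π K, Projective.projective_over K, inferInstance⟩

theorem mkQ_comp_subtype (R : Type u) [CommRing R] (I : Ideal R) :
    (Submodule.mkQ I) ∘ₗ (Submodule.subtype I) = 0 := by
  ext x
  simp only [LinearMap.comp_apply, Submodule.subtype_apply, Submodule.mkQ_apply, LinearMap.zero_apply]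
  exact (Submodule.Quotient.mk_eq_zero I).2 x.2

theorem chase {R : Type u} [CommRing R] (M X₂ X₁ : Type u) [AddCommGroup M] [Module R M]
    [AddCommGroup X₂] [Module R X₂] [AddCommGroup X₁] [Module R X₁] (I : Ideal R)
    (d₂₁ : X₂ →ₗ[R] X₁) (q : X₁ →ₗ[R] I) (hq : Function.Surjective q)
    (hdd : ((Submodule.subtype I) ∘ₗ q) ∘ₗ d₂₁ = 0)
    (hex : ∀ x, (LinearMap.lTensor M ((Submodule.subtype I) ∘ₗ q)) x = 0 →
      ∃ y, LinearMap.lTensor M d₂₁ y = x) :
    Function.Injective (LinearMap.lTensor M (Submodule.subtype I)) := by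
  rw [injective_iff_map_eq_zero]
  intro z hz
  obtain ⟨z', rfl⟩ := LinearMap.lTensor_surjective M hq z
  have h1 : (LinearMap.lTensor M ((Submodule.subtype I) ∘ₗ q)) z' = 0 := by
    rw [LinearMap.lTensor_comp_apply]; exact hz
  obtain ⟨z'', rfl⟩ := hex z' h1
  have h2 : q ∘ₗ d₂₁ = 0 := by
    apply LinearMap.ext
    intro x
    apply Subtype.ext
    have := LinearMap.congr_fun hdd x
    simpa using this
  rw [← LinearMap.lTensor_comp_apply, h2, LinearMap.lTensor_zero, LinearMap.zero_apply]

noncomputable def start (R : Type u) [CommRing R] (I : Ideal R) :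
    Start (ModuleCat.of R (R ⧸ I)) where
  P₀ := ModuleCat.of R R
  P₁ := Projective.over (ModuleCat.of R I)
  p := ModuleCat.ofHom (Submodule.mkQ I)
  d₀ := Projective.π (ModuleCat.of R I) ≫ ModuleCat.ofHom (Submodule.subtype I)
  w := by
    rw [Category.assoc, ← ModuleCat.ofHom_comp, mkQ_comp_subtype]
    exact comp_zero
  exact := by
    rw [ShortComplex.moduleCat_exact_iff]
    intro x hx
    have hxI : x ∈ I := by
      have : Submodule.mkQ I x = 0 := hx
      exact (Submodule.Quotient.mk_eq_zero I).1 this
    have hs : Function.Surjective (Projective.π (ModuleCat.of R I)) :=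
      (ModuleCat.epi_iff_surjective _).1 inferInstance
    obtain ⟨y, hy⟩ := hs ⟨x, hxI⟩
    refine ⟨y, ?_⟩
    show (Submodule.subtype I) ((Projective.π (ModuleCat.of R I)) y) = x
    rw [hy]
    rfl
  epi := (ModuleCat.epi_iff_surjective _).2 (Submodule.mkQ_surjective I)
  proj₀ := (IsProjective.iff_projective (R := R) R).1 inferInstance
  proj₁ := Projective.projective_over _

/-- For a ring R and an R-module M, flatness of M over R is equivalent to the vanishing of Tor₁ᴿ(M, R/I)
for every finitely generated ideal I ⊆ R. -/
theorem result (R : Type u) [CommRing R] (M : Type u) [AddCommGroup M] [Module R M] : Module.Flat R M ↔ ∀ I : Ideal R, I.FG → Limits.IsZero (((CategoryTheory.Tor (ModuleCat.{u} R) 1).obj (ModuleCat.of R M)).obj (ModuleCat.of R (R ⧸ I))) := by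
  constructor
  · intro h I _
    exact Groth.Agent.S6314.result R M _ 1 Nat.one_pos
  · intro h
    rw [Module.Flat.iff_lTensor_injective]
    intro I hI
    have hz := h I hI
    have iso := (res (cov R) (start R I)).isoLeftDerivedObj
      ((MonoidalCategory.tensoringLeft (ModuleCat.{u} R)).obj (ModuleCat.of R M)) 1
    have hz2 := Limits.IsZero.of_iso hz iso.symm
    have hex : (((MonoidalCategory.tensoringLeft (ModuleCat.{u} R)).obj
        (ModuleCat.of R M)).mapHomologicalComplex _).obj (resComplex (cov R) (start R I))
          |>.ExactAt 1 := by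
      rw [HomologicalComplex.exactAt_iff_isZero_homology]
      exact hz2
    rw [HomologicalComplex.exactAt_iff' _ 2 1 0 (by simp) (by simp),
      ShortComplex.moduleCat_exact_iff] at hex
    have hd10 : (resComplex (cov R) (start R I)).d 1 0
        = Projective.π (ModuleCat.of R I) ≫ ModuleCat.ofHom (Submodule.subtype I) :=
      resComplex_d_1_0 _ _
    have hdd : (resComplex (cov R) (start R I)).d 2 1 ≫ (resComplex (cov R) (start R I)).d 1 0 = 0 :=
      (resComplex (cov R) (start R I)).d_comp_d 2 1 0
    have hs : Function.Surjective (Projective.π (ModuleCat.of R I)).hom :=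
      (ModuleCat.epi_iff_surjective _).1 inferInstance
    refine chase M _ _ I ((resComplex (cov R) (start R I)).d 2 1).hom
      (Projective.π (ModuleCat.of R I)).hom hs ?_ ?_
    · rw [hd10] at hdd
      have := congrArg ModuleCat.Hom.hom hdd
      exact this
    · intro x hx
      apply hex x
      refine Eq.trans ?_ hx
      show (LinearMap.lTensor M ((resComplex (cov R) (start R I)).d 1 0).hom) x = _
      rw [hd10]
      rfl

end Groth.Agent.S6313
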