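import Groth.Statements.S6321
import Mathlib
-- import your own Groth.Agent.* helpers here

set_option autoImplicit false
universe u
open CAlg

namespace Groth.Agent.S6321

/-- Let R be a ring and (Sᵢ, φᵢⱼ) a directed system of faithfully flat R-algebras whose transition maps
are R-algebra maps. Then S = colim Sᵢ is a faithfully flat R-algebra: for any index i the composite
R → Sᵢ → S is faithfully flat. -/
theorem result {R : Type u} [CommRing R] {ι : Type u} [Preorder ι] [Nonempty ι] [IsDirected ι (· ≤ ·)] (G : ι → Type u) [∀ i, CommRing (G i)] [∀ i, Algebra R (G i)] (f : ∀ i j, i ≤ j → G i →+* G j) [DirectedSystem G fun i j h => f i j h] (hcompat : ∀ i j (h : i ≤ j), (f i j h).comp (algebraMap R (G i)) = algebraMap R (G j)) (hff : ∀ i, (algebraMap R (G i)).FaithfullyFlat) (i : ι) : ((Ring.DirectLimit.of G (fun i j h => f i j h) i).comp (algebraMap R (G i))).FaithfullyFlat := by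
  classical
  set S := Ring.DirectLimit G (fun i j h => f i j h) with hS
  set ψ : R →+* S := (Ring.DirectLimit.of G (fun i j h => f i j h) i).comp (algebraMap R (G i))
    with hψdef
  -- compatibility of the structure maps
  have hψ : ∀ (j : ι) (r : R), Ring.DirectLimit.of G (fun i j h => f i j h) j
      (algebraMap R (G j) r) = ψ r := by
    intro j r
    obtain ⟨k, hik, hjk⟩ := exists_ge_ge i j
    rw [hψdef, RingHom.comp_apply, ← Ring.DirectLimit.of_f hjk, ← Ring.DirectLimit.of_f hik,
      ← RingHom.comp_apply (f j k hjk), ← RingHom.comp_apply (f i k hik), hcompat, hcompat]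
  have hfa : ∀ (j k : ι) (h : j ≤ k) (r : R), f j k h (algebraMap R (G j) r) = algebraMap R (G k) r :=
    fun j k h r => by rw [← RingHom.comp_apply, hcompat]
  letI : Algebra R S := ψ.toAlgebra
  change Module.FaithfullyFlat R S
  have hsm : ∀ (r : R) (s : S), r • s = ψ r * s := fun r s => by
    rw [Algebra.smul_def, RingHom.algebraMap_toAlgebra]
  have hlin : ∀ (j : ι) (r : R) (y : G j), Ring.DirectLimit.of G (fun i j h => f i j h) j (r • y) =
      r • Ring.DirectLimit.of G (fun i j h => f i j h) j y := by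
    intro j r y
    rw [Algebra.smul_def, map_mul, hψ, hsm]
  have hflin : ∀ (j k : ι) (h : j ≤ k) (r : R) (y : G j), f j k h (r • y) = r • f j k h y := by
    intro j k h r y
    rw [Algebra.smul_def, map_mul, hfa, Algebra.smul_def]
  have ff : ∀ j, Module.FaithfullyFlat R (G j) := fun j =>
    RingHom.faithfullyFlat_algebraMap_iff.1 (hff j)
  -- lifting finite families
  have lift_fin : ∀ {l : ℕ} (x : Fin l → S), ∃ (j : ι) (y : Fin l → G j),
      ∀ k, Ring.DirectLimit.of G (fun i j h => f i j h) j (y k) = x k := by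
    intro l x
    choose jf yf hyf using fun k => Ring.DirectLimit.exists_of (x k)
    obtain ⟨j, hj⟩ := Finset.exists_le (Finset.univ.image jf)
    have hle : ∀ k, jf k ≤ j := fun k => hj _ (Finset.mem_image_of_mem _ (Finset.mem_univ k))
    exact ⟨j, fun k => f (jf k) j (hle k) (yf k), fun k => by
      rw [Ring.DirectLimit.of_f, hyf]⟩
  rw [Module.faithfullyFlat_iff]
  refine ⟨?_, ?_⟩
  · -- flatness via the equational criterion
    rw [Module.Flat.iff_forall_isTrivialRelation]
    intro l c x hx
    obtain ⟨j, y, hy⟩ := lift_fin x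
    have h0 : Ring.DirectLimit.of G (fun i j h => f i j h) j (∑ k, c k • y k) = 0 := by
      rw [map_sum]
      simp_rw [hlin, hy]
      exact hx
    obtain ⟨j', hjj', h1⟩ := Ring.DirectLimit.of.zero_exact h0
    have h2 : ∑ k, c k • (f j j' hjj' (y k)) = 0 := by
      rw [← h1, map_sum]
      simp_rw [hflin]
    haveI : Module.Flat R (G j') := (ff j').toFlat
    obtain ⟨m, a, z, hz1, hz2⟩ := (Module.Flat.iff_forall_isTrivialRelation (R := R) (M := G j')).1 inferInstance h2
    refine ⟨m, a, fun t => Ring.DirectLimit.of G (fun i j h => f i j h) j' (z t), fun k => ?_, hz2⟩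
    have e : f j j' hjj' (y k) = ∑ t, a k t • z t := hz1 k
    rw [← hy k, ← Ring.DirectLimit.of_f hjj', e, map_sum]
    simp_rw [hlin]
  · -- properness of extended maximal ideals
    intro m hm htop
    have hmapf : ∀ (j k : ι) (h : j ≤ k) (y : G j), y ∈ Ideal.map (algebraMap R (G j)) m →
        f j k h y ∈ Ideal.map (algebraMap R (G k)) m := by
      intro j k h y hy
      have h3 : (Ideal.map (algebraMap R (G j)) m).map (f j k h) = Ideal.map (algebraMap R (G k)) m := by
        rw [Ideal.map_map, hcompat]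
      rw [← h3]
      exact Ideal.mem_map_of_mem _ hy
    have key : ∀ x : S, x ∈ Ideal.map (algebraMap R S) m → ∃ (j : ι) (y : G j),
        y ∈ Ideal.map (algebraMap R (G j)) m ∧
          Ring.DirectLimit.of G (fun i j h => f i j h) j y = x := by
      intro x hx
      refine Submodule.span_induction ?_ ?_ ?_ ?_ hx
      · rintro _ ⟨a, ha, rfl⟩
        exact ⟨i, algebraMap R (G i) a, Ideal.mem_map_of_mem _ ha, by
          rw [hψ, RingHom.algebraMap_toAlgebra]⟩
      · exact ⟨i, 0, Ideal.zero_mem _, map_zero _⟩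
      · rintro x₁ x₂ _ _ ⟨j₁, y₁, hy₁, rfl⟩ ⟨j₂, y₂, hy₂, rfl⟩
        obtain ⟨k, h1k, h2k⟩ := exists_ge_ge j₁ j₂
        exact ⟨k, f j₁ k h1k y₁ + f j₂ k h2k y₂,
          Ideal.add_mem _ (hmapf _ _ _ _ hy₁) (hmapf _ _ _ _ hy₂), by
            rw [map_add, Ring.DirectLimit.of_f, Ring.DirectLimit.of_f]⟩
      · rintro s x₁ _ ⟨j₁, y₁, hy₁, rfl⟩
        obtain ⟨j₂, z, rfl⟩ := Ring.DirectLimit.exists_of s
        obtain ⟨k, h1k, h2k⟩ := exists_ge_ge j₁ j₂
        exact ⟨k, f j₂ k h2k z * f j₁ k h1k y₁,
          Ideal.mul_mem_left _ _ (hmapf _ _ _ _ hy₁), by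
            rw [map_mul, Ring.DirectLimit.of_f, Ring.DirectLimit.of_f, smul_eq_mul]⟩
    rw [Ideal.smul_top_eq_map] at htop
    have h1 : (1 : S) ∈ Ideal.map (algebraMap R S) m := by
      have h : (1 : S) ∈ (Ideal.map (algebraMap R S) m).restrictScalars R := htop ▸ trivial
      exact h
    obtain ⟨j, y, hy, hy1⟩ := key 1 h1
    have h0 : Ring.DirectLimit.of G (fun i j h => f i j h) j (y - 1) = 0 := by
      rw [map_sub, hy1, map_one, sub_self]
    obtain ⟨j', hjj', h2⟩ := Ring.DirectLimit.of.zero_exact h0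
    rw [map_sub, map_one, sub_eq_zero] at h2
    have h3 : (1 : G j') ∈ Ideal.map (algebraMap R (G j')) m := by
      rw [← h2]
      exact hmapf j j' hjj' y hy
    haveI := ff j'
    apply Module.FaithfullyFlat.submodule_ne_top (R := R) (M := G j') hm
    rw [Ideal.smul_top_eq_map, (Ideal.eq_top_iff_one _).2 h3]
    rfl

end Groth.Agent.S6321
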