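import Groth.Statements.S6322
import Mathlib

set_option autoImplicit false
universe u
open CategoryTheory
open CAlg

namespace Groth.Agent.S6322


section helpers
open CategoryTheory CategoryTheory.Limits ChainComplex HomologicalComplex Category

variable {C : Type*} [Category C] [Abelian C] {Z : C}
  (Q : ChainComplex C ℕ) (π : Q ⟶ (ChainComplex.single₀ C).obj Z)

lemma exactAt_succ' [QuasiIso π] (n : ℕ) : Q.ExactAt (n + 1) := by
  rw [← quasiIsoAt_iff_exactAt' π (n + 1) (exactAt_succ_single_obj _ _)]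
  infer_instance

lemma exact_succ' [QuasiIso π] (n : ℕ) :
    (ShortComplex.mk _ _ (Q.d_comp_d (n + 2) (n + 1) n)).Exact :=
  ((HomologicalComplex.exactAt_iff' _ (n + 2) (n + 1) n) (by simp only [ChainComplex.prev]; rfl)
    (by simp)).1 (exactAt_succ' Q π n)

lemma d_comp_π_f_zero : Q.d 1 0 ≫ π.f 0 = 0 := by
  rw [← π.comm 1 0, single_obj_d, comp_zero]

lemma exact₀_and_epi [QuasiIso π] :
    (ShortComplex.mk _ _ (d_comp_π_f_zero Q π)).Exact ∧ Epi (π.f 0) := by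
  have h : QuasiIsoAt π 0 := inferInstance
  rw [ChainComplex.quasiIsoAt₀_iff, ShortComplex.quasiIso_iff_of_zeros' _ (by simp; rfl)
    (by simp; rfl) (by simp; rfl)] at h
  exact h

variable (P : ChainComplex C ℕ) [∀ i, Projective (P.X i)]

lemma exists_lift [QuasiIso π] (ψ : P ⟶ (ChainComplex.single₀ C).obj Z) :
    ∃ φ : P ⟶ Q, φ ≫ π = ψ := by
  obtain ⟨hex, hepi⟩ := exact₀_and_epi Q π
  haveI := hepi
  let f0 : P.X 0 ⟶ Q.X 0 := Projective.factorThru (ψ.f 0) (π.f 0)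
  have hf0 : f0 ≫ π.f 0 = ψ.f 0 := Projective.factorThru_comp _ _
  have h1 : (P.d 1 0 ≫ f0) ≫ π.f 0 = 0 := by
    rw [assoc, hf0, ← ψ.comm 1 0, single_obj_d, comp_zero]
  let f1 : P.X 1 ⟶ Q.X 1 := hex.liftFromProjective (P.d 1 0 ≫ f0) h1
  have hf1 : f1 ≫ Q.d 1 0 = P.d 1 0 ≫ f0 := hex.liftFromProjective_comp _ _
  have hs : ∀ (n : ℕ) (g' : P.X (n + 1) ⟶ Q.X (n + 1)) (g : P.X n ⟶ Q.X n),
      g' ≫ Q.d (n + 1) n = P.d (n + 1) n ≫ g →
      (P.d (n + 2) (n + 1) ≫ g') ≫ Q.d (n + 1) n = 0 := by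
    intro n g' g w
    rw [assoc, w, P.d_comp_d_assoc, zero_comp]
  refine ⟨ChainComplex.mkHom P Q f0 f1 hf1 (fun n p =>
    ⟨(exact_succ' Q π n).liftFromProjective (P.d (n + 2) (n + 1) ≫ p.2.1) (hs n p.2.1 p.1 p.2.2),
      (exact_succ' Q π n).liftFromProjective_comp _ _⟩), ?_⟩
  apply HomologicalComplex.to_single_hom_ext
  rw [comp_f, ChainComplex.mkHom_f_0, hf0]

lemma exists_homotopy_zero [QuasiIso π] (f : P ⟶ Q) (comm : f ≫ π = 0) :
    Nonempty (Homotopy f 0) := by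
  obtain ⟨hex, _⟩ := exact₀_and_epi Q π
  have c0 : f.f 0 ≫ π.f 0 = 0 := by
    have := HomologicalComplex.congr_hom comm 0
    simpa using this
  let z : P.X 0 ⟶ Q.X 1 := hex.liftFromProjective (f.f 0) c0
  have hz : z ≫ Q.d 1 0 = f.f 0 := hex.liftFromProjective_comp _ _
  have c1 : (f.f 1 - P.d 1 0 ≫ z) ≫ Q.d 1 0 = 0 := by
    rw [Preadditive.sub_comp, assoc, HomologicalComplex.Hom.comm, hz, sub_self]
  let o : P.X 1 ⟶ Q.X 2 := (exact_succ' Q π 0).liftFromProjective (f.f 1 - P.d 1 0 ≫ z) c1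
  have ho : o ≫ Q.d 2 1 = f.f 1 - P.d 1 0 ≫ z :=
    (exact_succ' Q π 0).liftFromProjective_comp _ _
  have hs : ∀ (n : ℕ) (g : P.X n ⟶ Q.X (n + 1)) (g' : P.X (n + 1) ⟶ Q.X (n + 2)),
      f.f (n + 1) = P.d (n + 1) n ≫ g + g' ≫ Q.d (n + 2) (n + 1) →
      (f.f (n + 2) - P.d (n + 2) (n + 1) ≫ g') ≫ Q.d (n + 2) (n + 1) = 0 := by
    intro n g g' w
    have w' : g' ≫ Q.d (n + 2) (n + 1) = f.f (n + 1) - P.d (n + 1) n ≫ g := by
      rw [w]; abel
    rw [Preadditive.sub_comp, assoc, HomologicalComplex.Hom.comm, w', Preadditive.comp_sub,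
      P.d_comp_d_assoc, zero_comp]
    abel
  have hsucc : ∀ (n : ℕ) (g : P.X n ⟶ Q.X (n + 1)) (g' : P.X (n + 1) ⟶ Q.X (n + 2)),
      f.f (n + 1) = P.d (n + 1) n ≫ g + g' ≫ Q.d (n + 2) (n + 1) →
      ∃ g'' : P.X (n + 2) ⟶ Q.X (n + 3),
        f.f (n + 2) = P.d (n + 2) (n + 1) ≫ g' + g'' ≫ Q.d (n + 3) (n + 2) := by
    intro n g g' w
    have h2 : (exact_succ' Q π (n + 1)).liftFromProjective
        (f.f (n + 2) - P.d (n + 2) (n + 1) ≫ g') (hs n g g' w) ≫ Q.d (n + 3) (n + 2) =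
        f.f (n + 2) - P.d (n + 2) (n + 1) ≫ g' :=
      (exact_succ' Q π (n + 1)).liftFromProjective_comp _ _
    refine ⟨(exact_succ' Q π (n + 1)).liftFromProjective
        (f.f (n + 2) - P.d (n + 2) (n + 1) ≫ g') (hs n g g' w), ?_⟩
    rw [h2]; abel
  exact ⟨Homotopy.mkInductive f z hz.symm o (by rw [ho]; abel) (fun n p =>
    ⟨(hsucc n p.1 p.2.1 p.2.2).choose, (hsucc n p.1 p.2.1 p.2.2).choose_spec⟩)⟩

end helpers

/-- Let R be a ring, M → N a map of R-modules, N• → N a resolution (a chain complex with a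
quasi-isomorphism onto N placed in degree 0) and … → F₁ → F₀ → M a complex with every Fᵢ free (F• a
chain complex with an augmentation to M in degree 0, exactness not required). Then (1) there is a
map of complexes F• → N• compatible with M → N through the augmentations, and (2) any two such maps
are homotopic. -/
theorem result (R : Type u) [CommRing R] (M N : ModuleCat.{u} R) (g : M ⟶ N) (F Nc : ChainComplex (ModuleCat.{u} R) ℕ) (hF : ∀ i, Module.Free R (F.X i)) (εF : F ⟶ (ChainComplex.single₀ (ModuleCat.{u} R)).obj M) (εN : Nc ⟶ (ChainComplex.single₀ (ModuleCat.{u} R)).obj N) [QuasiIso εN] : (∃ φ : F ⟶ Nc, φ ≫ εN = εF ≫ (ChainComplex.single₀ (ModuleCat.{u} R)).map g) ∧ ∀ α β : F ⟶ Nc, α ≫ εN = εF ≫ (ChainComplex.single₀ (ModuleCat.{u} R)).map g → β ≫ εN = εF ≫ (ChainComplex.single₀ (ModuleCat.{u} R)).map g → Nonempty (Homotopy α β) := by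
  haveI : ∀ i, CategoryTheory.Projective (F.X i) := fun i => by
    haveI := hF i
    infer_instance
  refine ⟨exists_lift Nc εN F (εF ≫ (ChainComplex.single₀ (ModuleCat.{u} R)).map g), ?_⟩
  intro α β hα hβ
  obtain ⟨h⟩ := exists_homotopy_zero Nc εN F (α - β)
    (by rw [CategoryTheory.Preadditive.sub_comp, hα, hβ, sub_self])
  exact ⟨Homotopy.equivSubZero.symm h⟩

end Groth.Agent.S6322
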