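import Groth.Statements.S6323
import Mathlib

set_option autoImplicit false
universe u
open CAlg TensorProduct

namespace Groth.Agent.S6323

section
variable {A : Type u} [CommRing A] (S : Submonoid A) (As : Type u) [CommRing As] [Algebra A As]
  [IsLocalization S As] {M M' : Type u} [AddCommGroup M] [AddCommGroup M']
  [Module As M] [Module As M'] [Module A M] [Module A M'] [IsScalarTower A As M] [IsScalarTower A As M']

include S in
private lemma down (f : M →ₗ[As] M') (h : CAlgX.UniversallyInjective A (f.restrictScalars A)) :
    CAlgX.UniversallyInjective As f := by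
  intro Q _ _
  letI : Module A Q := Module.compHom Q (algebraMap A As)
  haveI : IsScalarTower A As Q := IsScalarTower.of_algebraMap_smul fun r x => rfl
  have key : ∀ x : M ⊗[As] Q, IsLocalization.moduleTensorEquiv S As M' Q (f.rTensor Q x) =
      (f.restrictScalars A).rTensor Q (IsLocalization.moduleTensorEquiv S As M Q x) := by
    intro x
    induction x using TensorProduct.induction_on with
    | zero => simp
    | tmul m q => rfl
    | add a b ha hb => simp only [map_add, ha, hb]
  rw [injective_iff_map_eq_zero]
  intro x hx
  apply (IsLocalization.moduleTensorEquiv S As M Q).injective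
  apply h Q
  rw [← key, hx]
  simp

omit [IsLocalization S As] in
private lemma up (f : M →ₗ[As] M') (h : CAlgX.UniversallyInjective As f) :
    CAlgX.UniversallyInjective A (f.restrictScalars A) := by
  intro Q _ _
  have key : ∀ x : M ⊗[As] (As ⊗[A] Q),
      TensorProduct.AlgebraTensorModule.cancelBaseChange A As As M' Q (f.rTensor (As ⊗[A] Q) x) =
      (f.restrictScalars A).rTensor Q (TensorProduct.AlgebraTensorModule.cancelBaseChange A As As M Q x) := by
    intro x
    induction x using TensorProduct.induction_on with
    | zero => simp
    | tmul m t =>
      induction t using TensorProduct.induction_on with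
      | zero => simp
      | tmul s q => simp
      | add a b ha hb =>
        simp only [TensorProduct.tmul_add, map_add] at ha hb ⊢
        rw [ha, hb]
    | add a b ha hb => simp only [map_add, ha, hb]
  rw [injective_iff_map_eq_zero]
  intro x hx
  obtain ⟨x', rfl⟩ := (TensorProduct.AlgebraTensorModule.cancelBaseChange A As As M Q).surjective x
  rw [← key] at hx
  have h1 : f.rTensor (As ⊗[A] Q) x' = 0 :=
    (TensorProduct.AlgebraTensorModule.cancelBaseChange A As As M' Q).injective (by rw [hx, map_zero])
  have h2 : x' = 0 := h (As ⊗[A] Q) (by rw [h1, map_zero])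
  rw [h2, map_zero]

end

theorem result {A B : Type u} [CommRing A] [CommRing B] [Algebra A B] (S : Submonoid A) (S' : Submonoid B) (hSS' : ∀ s ∈ S, algebraMap A B s ∈ S') (As Bs : Type u) [CommRing As] [CommRing Bs] [Algebra A As] [IsLocalization S As] [Algebra B Bs] [IsLocalization S' Bs] [Algebra As Bs] [Algebra A Bs] [IsScalarTower A B Bs] [IsScalarTower A As Bs] {M M' : Type u} [AddCommGroup M] [AddCommGroup M'] [Module Bs M] [Module Bs M'] [Module As M] [Module As M'] [Module A M] [Module A M'] [IsScalarTower As Bs M] [IsScalarTower As Bs M'] [IsScalarTower A As M] [IsScalarTower A As M'] [IsScalarTower A Bs M] [IsScalarTower A Bs M'] (f : M →ₗ[Bs] M') : CAlgX.UniversallyInjective A (f.restrictScalars A) ↔ CAlgX.UniversallyInjective As (f.restrictScalars As) := by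
  constructor
  · intro h
    exact down S As (f.restrictScalars As) h
  · intro h
    exact up As (f.restrictScalars As) h

end Groth.Agent.S6323
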