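import Groth.Statements.S6324
import Mathlib

set_option autoImplicit false
universe u
open CAlg

namespace Groth.Agent.S6324

open Polynomial

theorem degree_sum_range_lt {A : Type*} [Semiring A] (a : ℕ → A) (d : ℕ) :
    (∑ j ∈ Finset.range d, C (a j) * X ^ j : A[X]).degree < d := by
  rw [← Fin.sum_univ_eq_sum_range (fun j => C (a j) * X ^ j) d]
  exact Polynomial.degree_sum_fin_lt (fun i : Fin d => a i)

theorem coeff_sum_range {A : Type*} [Semiring A] (a : ℕ → A) (d j : ℕ) (hj : j < d) :
    (∑ i ∈ Finset.range d, C (a i) * X ^ i : A[X]).coeff j = a j := by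
  rw [Polynomial.finset_sum_coeff, Finset.sum_eq_single j]
  · rw [coeff_C_mul_X_pow, if_pos rfl]
  · intro i _ hij
    rw [coeff_C_mul_X_pow, if_neg (Ne.symm hij)]
  · intro h
    exact absurd (Finset.mem_range.2 hj) h

theorem hmon {S : Type*} [CommRing S] (s : S) (j : ℕ) :
    (C s * X : S[X]) ^ j = monomial j (s ^ j) := by
  rw [mul_pow, ← C_pow, C_mul_X_pow_eq_monomial]

/-- From integrality over the ideal to integrality of `s t` over the Rees algebra. -/
theorem forward {R S : Type u} [CommRing R] [CommRing S] [Algebra R S] (I : Ideal R) (s : S)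
    (h : W4stkalgebra1.IsIntegralOverIdeal I s) :
    ((Polynomial.mapRingHom (algebraMap R S)).comp
      (reesAlgebra I).val.toRingHom).IsIntegralElem (C s * X) := by
  classical
  obtain ⟨p, hp, hcoef, hroot⟩ := h
  set d := p.natDegree with hd
  let a : ℕ → ↥(reesAlgebra I) := fun j =>
    if hj : j < d then ⟨monomial (d - j) (p.coeff j), reesAlgebra.monomial_mem.2 (hcoef j hj)⟩
    else 0
  refine ⟨X ^ d + ∑ j ∈ Finset.range d, C (a j) * X ^ j,
    monic_X_pow_add (degree_sum_range_lt a d), ?_⟩
  rw [eval₂_add, eval₂_X_pow, eval₂_finset_sum]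
  have hterm : ∀ j ∈ Finset.range d,
      eval₂ ((Polynomial.mapRingHom (algebraMap R S)).comp (reesAlgebra I).val.toRingHom)
        (C s * X) (C (a j) * X ^ j) = monomial d (algebraMap R S (p.coeff j) * s ^ j) := by
    intro j hj
    have hj' : j < d := Finset.mem_range.1 hj
    rw [eval₂_mul, eval₂_C, eval₂_X_pow, hmon]
    have ha : a j = ⟨monomial (d - j) (p.coeff j), reesAlgebra.monomial_mem.2 (hcoef j hj')⟩ :=
      dif_pos hj'
    rw [ha]
    change (monomial (d - j) (p.coeff j)).map (algebraMap R S) * _ = _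
    rw [map_monomial, monomial_mul_monomial, Nat.sub_add_cancel hj'.le]
  rw [Finset.sum_congr rfl hterm, hmon, ← map_sum, ← map_add]
  have : s ^ d + ∑ j ∈ Finset.range d, algebraMap R S (p.coeff j) * s ^ j =
      eval₂ (algebraMap R S) s p := by
    rw [eval₂_eq_sum_range, Finset.sum_range_succ, ← hd, hd, hp.coeff_natDegree, map_one, one_mul,
      add_comm]
  rw [this, hroot, map_zero]

/-- From integrality of `s t` over the Rees algebra to integrality over the ideal. -/
theorem backward {R S : Type u} [CommRing R] [CommRing S] [Algebra R S] (I : Ideal R) (s : S)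
    (h : ((Polynomial.mapRingHom (algebraMap R S)).comp
      (reesAlgebra I).val.toRingHom).IsIntegralElem (C s * X)) :
    W4stkalgebra1.IsIntegralOverIdeal I s := by
  classical
  rcases subsingleton_or_nontrivial R with hR | hR
  · refine ⟨1, monic_one, fun j hj => ?_, ?_⟩
    · rw [natDegree_one] at hj
      exact absurd hj (Nat.not_lt_zero j)
    · rw [eval₂_one]
      have : (1 : S) = algebraMap R S 1 := (map_one _).symm
      rw [this, Subsingleton.elim (1 : R) 0, map_zero]
  obtain ⟨P, hP, hroot⟩ := h
  set d := P.natDegree with hd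
  let b : ℕ → R := fun j => ((P.coeff j : ↥(reesAlgebra I)) : R[X]).coeff (d - j)
  have hdeg := degree_sum_range_lt b d
  have hq_monic : (X ^ d + ∑ j ∈ Finset.range d, C (b j) * X ^ j : R[X]).Monic :=
    monic_X_pow_add hdeg
  have hq_deg : (X ^ d + ∑ j ∈ Finset.range d, C (b j) * X ^ j : R[X]).natDegree = d := by
    rw [natDegree_add_eq_left_of_degree_lt (by rw [degree_X_pow]; exact hdeg), natDegree_X_pow]
  refine ⟨X ^ d + ∑ j ∈ Finset.range d, C (b j) * X ^ j, hq_monic, fun j hj => ?_, ?_⟩
  · rw [hq_deg] at hj ⊢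
    rw [coeff_add, coeff_X_pow, if_neg (Nat.ne_of_lt hj), zero_add, coeff_sum_range b d j hj]
    exact (mem_reesAlgebra_iff I _).1 (P.coeff j).2 (d - j)
  · -- take the coefficient of `t^d` in the integral equation
    have hP' := hP.as_sum
    rw [← hd] at hP'
    rw [hP', eval₂_add, eval₂_X_pow, eval₂_finset_sum] at hroot
    have hterm : ∀ j ∈ Finset.range d,
        (eval₂ ((Polynomial.mapRingHom (algebraMap R S)).comp (reesAlgebra I).val.toRingHom)
          (C s * X) (C (P.coeff j) * X ^ j)).coeff d = algebraMap R S (b j) * s ^ j := by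
      intro j hj
      have hj' : j < d := Finset.mem_range.1 hj
      rw [eval₂_mul, eval₂_C, eval₂_X_pow, mul_pow, ← C_pow, ← mul_assoc, coeff_mul_X_pow',
        if_pos hj'.le, coeff_mul_C]
      change (((P.coeff j : ↥(reesAlgebra I)) : R[X]).map (algebraMap R S)).coeff (d - j) * _ = _
      rw [coeff_map]
    have h0 := congrArg (fun f : S[X] => f.coeff d) hroot
    simp only [coeff_add, coeff_zero, finset_sum_coeff] at h0
    rw [Finset.sum_congr rfl hterm, hmon, coeff_monomial, if_pos rfl] at h0
    rw [eval₂_add, eval₂_X_pow, eval₂_finset_sum]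
    have hterm2 : ∀ j ∈ Finset.range d,
        eval₂ (algebraMap R S) s (C (b j) * X ^ j) = algebraMap R S (b j) * s ^ j := by
      intro j _
      rw [eval₂_mul, eval₂_C, eval₂_X_pow]
    rw [Finset.sum_congr rfl hterm2]
    exact h0

/-- Let R → S be a ring map, I ⊆ R an ideal and A = Σ Iⁿtⁿ ⊆ R[t] the Rees algebra of I. For s ∈ S,
being integral over I is equivalent to s·t ∈ S[t] being integral over A (via A ⊆ R[t] → S[t]). -/
theorem result {R S : Type u} [CommRing R] [CommRing S] [Algebra R S] (I : Ideal R) (s : S) : W4stkalgebra1.IsIntegralOverIdeal I s ↔ ((Polynomial.mapRingHom (algebraMap R S)).comp (reesAlgebra I).val.toRingHom).IsIntegralElem (Polynomial.C s * Polynomial.X) := by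
  exact ⟨forward I s, backward I s⟩

end Groth.Agent.S6324
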