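import Groth.Statements.S6325
import Mathlib
import Groth.Agent.S6324

set_option autoImplicit false
universe u
open CAlg

namespace Groth.Agent.S6325

open Polynomial

/-- `C s` is integral over the Rees algebra when `s` is integral over `R`. -/
theorem isIntegralElem_C {R S : Type u} [CommRing R] [CommRing S] [Algebra R S] (I : Ideal R)
    (s : S) (hs : IsIntegral R s) :
    ((Polynomial.mapRingHom (algebraMap R S)).comp
      (reesAlgebra I).val.toRingHom).IsIntegralElem (C s) := by
  obtain ⟨p, hp, hroot⟩ := hs
  refine ⟨p.map (algebraMap R ↥(reesAlgebra I)), hp.map _, ?_⟩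
  rw [eval₂_map]
  have hcomp : ((Polynomial.mapRingHom (algebraMap R S)).comp
      (reesAlgebra I).val.toRingHom).comp (algebraMap R ↥(reesAlgebra I)) =
      (C : S →+* S[X]).comp (algebraMap R S) := by
    refine RingHom.ext fun r => ?_
    change ((algebraMap R R[X] r)).map (algebraMap R S) = C (algebraMap R S r)
    rw [Polynomial.algebraMap_apply, Algebra.algebraMap_self_apply, map_C]
  rw [hcomp, ← hom_eval₂, hroot, map_zero]

/-- Let R → S be a ring map and I ⊆ R an ideal. The elements of S integral over I form an R-submodule of
S; moreover, the product s s' is integral over I for any s ∈ S integral over R and any s' ∈ S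
integral over I. -/
theorem result {R S : Type u} [CommRing R] [CommRing S] [Algebra R S] (I : Ideal R) : (∃ N : Submodule R S, ∀ s : S, s ∈ N ↔ W4stkalgebra1.IsIntegralOverIdeal I s) ∧ (∀ s s' : S, IsIntegral R s → W4stkalgebra1.IsIntegralOverIdeal I s' → W4stkalgebra1.IsIntegralOverIdeal I (s * s')) := by
  classical
  have key := fun s : S => Groth.Agent.S6324.result I s
  constructor
  · refine ⟨{ carrier := {s | W4stkalgebra1.IsIntegralOverIdeal I s}
              add_mem' := fun {s s'} hs hs' => ?_
              zero_mem' := ?_
              smul_mem' := fun r s hs => ?_ }, fun s => Iff.rfl⟩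
    · change W4stkalgebra1.IsIntegralOverIdeal I _ at hs hs' ⊢
      rw [key] at hs hs' ⊢
      rw [map_add, add_mul]
      exact RingHom.IsIntegralElem.add _ hs hs'
    · change W4stkalgebra1.IsIntegralOverIdeal I (0 : S)
      rw [key, map_zero, zero_mul]
      exact RingHom.isIntegralElem_zero _
    · change W4stkalgebra1.IsIntegralOverIdeal I _ at hs ⊢
      rw [key] at hs ⊢
      rw [Algebra.smul_def, map_mul, mul_assoc]
      exact RingHom.IsIntegralElem.mul _ (isIntegralElem_C I _ isIntegral_algebraMap) hs
  · intro s s' hs hs'
    rw [key] at hs' ⊢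
    rw [map_mul, mul_assoc]
    exact RingHom.IsIntegralElem.mul _ (isIntegralElem_C I s hs) hs'

end Groth.Agent.S6325
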