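import Groth.Statements.S6326
import Mathlib
import Groth.Agent.S4834

set_option autoImplicit false
universe u
open CategoryTheory CategoryTheory.Limits
open CAlg

namespace Groth.Agent.S6326


section helpers

open Groth.Agent.S4834

variable (R : Type u) [CommRing R] (N : Type u) [AddCommGroup N] [Module R N]

/-- finitely generated submodules -/
abbrev FGSub := {P : Submodule R N // P.FG}

instance : Nonempty (FGSub R N) := ⟨⟨⊥, Submodule.fg_bot⟩⟩

instance : IsDirected (FGSub R N) (· ≤ ·) :=
  ⟨fun P Q => ⟨⟨P.1 ⊔ Q.1, P.2.sup Q.2⟩, (le_sup_left : P.1 ≤ P.1 ⊔ Q.1),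
    (le_sup_right : Q.1 ≤ P.1 ⊔ Q.1)⟩⟩

/-- the diagram of quotients by finitely generated submodules -/
noncomputable def quotDiag : FGSub R N ⥤ ModuleCat.{u} R where
  obj P := ModuleCat.of R (N ⧸ P.1)
  map {P Q} f := ModuleCat.ofHom (Submodule.factor (show P.1 ≤ Q.1 from leOfHom f))
  map_id P := by
    apply ModuleCat.hom_ext
    apply LinearMap.ext
    intro x
    obtain ⟨x, rfl⟩ := Submodule.mkQ_surjective _ x
    rfl
  map_comp f g := by
    apply ModuleCat.hom_ext
    apply LinearMap.ext
    intro x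
    obtain ⟨x, rfl⟩ := Submodule.mkQ_surjective _ x
    rfl

lemma quotDiag_map_mk {P Q : FGSub R N} (f : P ⟶ Q) (x : N) :
    ((quotDiag R N).map f).hom (Submodule.mkQ P.1 x) = Submodule.mkQ Q.1 x := rfl

/-- the bottom element -/
def P₀ : FGSub R N := ⟨⊥, Submodule.fg_bot⟩

/-- the projection onto the quotient by zero -/
noncomputable def π₀ : ModuleCat.of R N ⟶ (quotDiag R N).obj (P₀ R N) :=
  ModuleCat.ofHom (Submodule.mkQ (⊥ : Submodule R N))

lemma π₀_ι : π₀ R N ≫ colimit.ι (quotDiag R N) (P₀ R N) =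
    (0 : ModuleCat.of R N ⟶ (quotDiag R N).obj (P₀ R N)) ≫ colimit.ι (quotDiag R N) (P₀ R N) := by
  rw [Limits.zero_comp]
  apply ModuleCat.hom_ext
  apply LinearMap.ext
  intro x
  show (colimit.ι (quotDiag R N) (P₀ R N)).hom (Submodule.mkQ (⊥ : Submodule R N) x) = 0
  let P₁ : FGSub R N := ⟨R ∙ x, Submodule.fg_span_singleton x⟩
  have hle : P₀ R N ≤ P₁ := (bot_le : (⊥ : Submodule R N) ≤ R ∙ x)
  rw [← ι_map_apply (quotDiag R N) (homOfLE hle)]
  have h1 : ((quotDiag R N).map (homOfLE hle)).hom (Submodule.mkQ (⊥ : Submodule R N) x) = 0 := by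
    show Submodule.mkQ (R ∙ x) x = 0
    exact (Submodule.Quotient.mk_eq_zero _).2 (Submodule.mem_span_singleton_self x)
  rw [h1, map_zero]

lemma key (h : Function.Injective
    (colimit.post (quotDiag R N) (coyoneda.obj (Opposite.op (ModuleCat.of R N))))) :
    Module.Finite R N := by
  have hx : colimit.ι (quotDiag R N ⋙ coyoneda.obj (Opposite.op (ModuleCat.of R N))) (P₀ R N)
      (π₀ R N) =
      colimit.ι (quotDiag R N ⋙ coyoneda.obj (Opposite.op (ModuleCat.of R N))) (P₀ R N)
        (0 : ModuleCat.of R N ⟶ (quotDiag R N).obj (P₀ R N)) := by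
    apply h
    rw [post_ι, post_ι]
    exact π₀_ι R N
  obtain ⟨Q, f, hf⟩ := (Types.FilteredColimit.isColimit_eq_iff'
    (colimit.isColimit (quotDiag R N ⋙ coyoneda.obj (Opposite.op (ModuleCat.of R N))))
    (π₀ R N) (0 : ModuleCat.of R N ⟶ (quotDiag R N).obj (P₀ R N))).1 hx
  have hf' : π₀ R N ≫ (quotDiag R N).map f =
      (0 : ModuleCat.of R N ⟶ (quotDiag R N).obj (P₀ R N)) ≫ (quotDiag R N).map f := hf
  have htop : Q.1 = ⊤ := by
    rw [eq_top_iff]
    intro x _
    have h0 : (π₀ R N ≫ (quotDiag R N).map f).hom x = 0 := by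
      rw [hf', Limits.zero_comp]
      rfl
    have h1 : Submodule.mkQ Q.1 x = 0 := h0
    exact (Submodule.Quotient.mk_eq_zero _).1 h1
  exact Module.finite_def.2 (htop ▸ Q.2)

end helpers

/-- Let R be a ring and N an R-module such that whenever M is the colimit of a filtered diagram (Mᵢ) of
R-modules (indexed by a filtered category in the same universe), the comparison map colim Hom_R(N,
Mᵢ) → Hom_R(N, M) is injective. Then N is finitely generated. (The implication from finite
generation back to this injectivity also holds; only the characterizing direction is stated here.) -/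
theorem result (R : Type u) [CommRing R] (N : Type u) [AddCommGroup N] [Module R N] (h : ∀ (J : Type u) [SmallCategory J] [IsFiltered J] (F : J ⥤ ModuleCat.{u} R), Function.Injective (colimit.post F (coyoneda.obj (Opposite.op (ModuleCat.of R N))))) : Module.Finite R N := by
  exact key R N (h (FGSub R N) (quotDiag R N))

end Groth.Agent.S6326
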