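import Groth.Statements.S6327
import Mathlib
import Groth.Agent.S4834
import Groth.Agent.S6326

set_option autoImplicit false
universe u
open CategoryTheory CategoryTheory.Limits
open CAlg

namespace Groth.Agent.S6327


section helpers

open Groth.Agent.S4834

variable (R : Type u) [CommRing R] (N : Type u) [AddCommGroup N] [Module R N] {n : ℕ}
  (p : (Fin n → R) →ₗ[R] N)

/-- finitely generated submodules of relations -/
abbrev RelSub := {K' : Submodule R (Fin n → R) // K'.FG ∧ K' ≤ LinearMap.ker p}

instance : Nonempty (RelSub R N p) := ⟨⟨⊥, Submodule.fg_bot, bot_le⟩⟩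

instance : IsDirected (RelSub R N p) (· ≤ ·) :=
  ⟨fun P Q => ⟨⟨P.1 ⊔ Q.1, P.2.1.sup Q.2.1, sup_le P.2.2 Q.2.2⟩,
    (le_sup_left : P.1 ≤ P.1 ⊔ Q.1), (le_sup_right : Q.1 ≤ P.1 ⊔ Q.1)⟩⟩

/-- the diagram of finitely presented quotients -/
noncomputable def relDiag : RelSub R N p ⥤ ModuleCat.{u} R where
  obj P := ModuleCat.of R ((Fin n → R) ⧸ P.1)
  map {P Q} f := ModuleCat.ofHom (Submodule.factor (show P.1 ≤ Q.1 from leOfHom f))
  map_id P := by
    apply ModuleCat.hom_ext
    apply LinearMap.ext
    intro x
    obtain ⟨x, rfl⟩ := Submodule.mkQ_surjective _ x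
    rfl
  map_comp f g := by
    apply ModuleCat.hom_ext
    apply LinearMap.ext
    intro x
    obtain ⟨x, rfl⟩ := Submodule.mkQ_surjective _ x
    rfl

/-- the cocone with vertex `N` -/
noncomputable def relCocone : Cocone (relDiag R N p) where
  pt := ModuleCat.of R N
  ι :=
    { app := fun P => ModuleCat.ofHom (P.1.liftQ p P.2.2)
      naturality := fun P Q f => by
        apply ModuleCat.hom_ext
        apply LinearMap.ext
        intro x
        obtain ⟨x, rfl⟩ := Submodule.mkQ_surjective _ x
        rfl }

/-- the bottom element -/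
def B₀ : RelSub R N p := ⟨⊥, Submodule.fg_bot, bot_le⟩

/-- the map from the free module to the colimit -/
noncomputable def g₀ : (Fin n → R) →ₗ[R] (colimit (relDiag R N p) : ModuleCat.{u} R) :=
  (colimit.ι (relDiag R N p) (B₀ R N p)).hom ∘ₗ Submodule.mkQ (⊥ : Submodule R (Fin n → R))

lemma ker_le_ker_g₀ : LinearMap.ker p ≤ LinearMap.ker (g₀ R N p) := by
  intro v hv
  let P₁ : RelSub R N p := ⟨R ∙ v, Submodule.fg_span_singleton v,
    Submodule.span_le.2 (Set.singleton_subset_iff.2 hv)⟩
  have hle : B₀ R N p ≤ P₁ := (bot_le : (⊥ : Submodule R (Fin n → R)) ≤ R ∙ v)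
  show (colimit.ι (relDiag R N p) (B₀ R N p)).hom
    (Submodule.mkQ (⊥ : Submodule R (Fin n → R)) v) = 0
  rw [← ι_map_apply (relDiag R N p) (homOfLE hle)]
  have h1 : ((relDiag R N p).map (homOfLE hle)).hom
      (Submodule.mkQ (⊥ : Submodule R (Fin n → R)) v) = 0 := by
    show Submodule.mkQ (R ∙ v) v = 0
    exact (Submodule.Quotient.mk_eq_zero _).2 (Submodule.mem_span_singleton_self v)
  rw [h1, map_zero]

variable {p} in
/-- the map from `N` to the colimit -/
noncomputable def gN (hp : Function.Surjective p) :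
    ModuleCat.of R N ⟶ colimit (relDiag R N p) :=
  ModuleCat.ofHom ((LinearMap.ker p).liftQ (g₀ R N p) (ker_le_ker_g₀ R N p) ∘ₗ
    (p.quotKerEquivOfSurjective hp).symm.toLinearMap)

variable {p} in
lemma gN_p (hp : Function.Surjective p) (v : Fin n → R) :
    (gN R N hp).hom (p v) = (colimit.ι (relDiag R N p) (B₀ R N p)).hom
      (Submodule.mkQ (⊥ : Submodule R (Fin n → R)) v) := by
  have h4 : (p.quotKerEquivOfSurjective hp).symm (p v) = Submodule.Quotient.mk v := by
    rw [LinearEquiv.symm_apply_eq]
    exact (LinearMap.quotKerEquivOfSurjective_apply_mk p hp v).symm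
  show (LinearMap.ker p).liftQ (g₀ R N p) (ker_le_ker_g₀ R N p)
    ((p.quotKerEquivOfSurjective hp).symm (p v)) = _
  rw [h4, Submodule.liftQ_apply]
  rfl

variable {p} in
lemma gN_desc (hp : Function.Surjective p) :
    gN R N hp ≫ colimit.desc (relDiag R N p) (relCocone R N p) = 𝟙 _ := by
  apply ModuleCat.hom_ext
  apply LinearMap.ext
  intro w
  obtain ⟨v, rfl⟩ := hp w
  show (colimit.desc (relDiag R N p) (relCocone R N p)).hom ((gN R N hp).hom (p v)) = p v
  rw [gN_p]
  have h1 := congrArg (fun t => t.hom (Submodule.mkQ (⊥ : Submodule R (Fin n → R)) v))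
    (colimit.ι_desc (relCocone R N p) (B₀ R N p))
  exact h1

variable {p} in
theorem fp_of_surjective (hp : Function.Surjective p)
    (h : Function.Surjective
      (colimit.post (relDiag R N p) (coyoneda.obj (Opposite.op (ModuleCat.of R N))))) :
    Module.FinitePresentation R N := by
  obtain ⟨x, hx⟩ := h (gN R N hp)
  obtain ⟨P, s, rfl⟩ := Types.jointly_surjective' x
  have hs : s ≫ colimit.ι (relDiag R N p) P = gN R N hp := (post_ι _ _ _ _).symm.trans hx
  have hcs : s ≫ (relCocone R N p).ι.app P = 𝟙 _ := by
    have h1 := congrArg (fun t => t ≫ colimit.desc (relDiag R N p) (relCocone R N p)) hs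
    simp only [Category.assoc, colimit.ι_desc] at h1
    rw [h1, gN_desc]
  let c : ((Fin n → R) ⧸ P.1) →ₗ[R] N := P.1.liftQ p P.2.2
  let s' : N →ₗ[R] ((Fin n → R) ⧸ P.1) := s.hom
  have hcs' : ∀ y : N, c (s' y) = y := fun y => congrArg (fun t => t.hom y) hcs
  haveI : Module.FinitePresentation R ((Fin n → R) ⧸ P.1) :=
    Module.finitePresentation_of_surjective (Submodule.mkQ P.1) (Submodule.mkQ_surjective P.1)
      (by rw [Submodule.ker_mkQ]; exact P.2.1)
  refine Module.finitePresentation_of_surjective c (fun y => ⟨s' y, hcs' y⟩) ?_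
  have hker : LinearMap.ker c = LinearMap.range (LinearMap.id - s' ∘ₗ c) := by
    ext z
    constructor
    · intro hz
      refine ⟨z, ?_⟩
      have hz' : c z = 0 := hz
      simp [hz']
    · rintro ⟨y, rfl⟩
      rw [LinearMap.mem_ker, LinearMap.sub_apply, map_sub, LinearMap.id_apply,
        LinearMap.comp_apply, hcs', sub_self]
  rw [hker]
  exact Submodule.fg_range _

end helpers

/-- Let R be a ring and N an R-module such that whenever M is the colimit of a filtered diagram (Mᵢ) of
R-modules (indexed by a filtered category in the same universe), the comparison map colim Hom_R(N,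
Mᵢ) → Hom_R(N, M) is bijective. Then N is finitely presented. (The implication from finite
presentation back to this bijectivity also holds; only the characterizing direction is stated here.) -/
theorem result (R : Type u) [CommRing R] (N : Type u) [AddCommGroup N] [Module R N] (h : ∀ (J : Type u) [SmallCategory J] [IsFiltered J] (F : J ⥤ ModuleCat.{u} R), Function.Bijective (colimit.post F (coyoneda.obj (Opposite.op (ModuleCat.of R N))))) : Module.FinitePresentation R N := by
  haveI : Module.Finite R N :=
    Groth.Agent.S6326.key R N (h (Groth.Agent.S6326.FGSub R N) (Groth.Agent.S6326.quotDiag R N)).1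
  obtain ⟨n, p, hp⟩ := Module.Finite.exists_fin' R N
  exact fp_of_surjective R N hp (h (RelSub R N p) (relDiag R N p)).2

end Groth.Agent.S6327
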