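import Groth.Statements.S6330
import Mathlib
import Groth.Agent.S6308

set_option autoImplicit false
universe u
open scoped TensorProduct
open CAlg

namespace Groth.Agent.S6330

/-- Let R be a ring and φ : P₁ → P₂ a map of finite projective R-modules. The set W of primes p of R
such that φ ⊗ κ(p) is surjective is open, and for every f ∈ R with D(f) ⊆ W the map (P₁)_f → (P₂)_f
is surjective and Ker(φ)_f is a finite projective module over R_f. -/
theorem result {R : Type u} [CommRing R] {P₁ P₂ : Type u} [AddCommGroup P₁] [Module R P₁] [AddCommGroup P₂] [Module R P₂] [Module.Finite R P₁] [Module.Projective R P₁] [Module.Finite R P₂] [Module.Projective R P₂] (φ : P₁ →ₗ[R] P₂) : IsOpen {p : PrimeSpectrum R | Function.Surjective (φ.lTensor p.asIdeal.ResidueField)} ∧ ∀ f : R, (↑(PrimeSpectrum.basicOpen f) : Set (PrimeSpectrum R)) ⊆ {p : PrimeSpectrum R | Function.Surjective (φ.lTensor p.asIdeal.ResidueField)} → Function.Surjective (LocalizedModule.map (Submonoid.powers f) φ) ∧ Module.Finite (Localization.Away f) (LocalizedModule (Submonoid.powers f) (LinearMap.ker φ)) ∧ Module.Projective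 (Localization.Away f) (LocalizedModule (Submonoid.powers f) (LinearMap.ker φ)) := by
  classical
  obtain ⟨h1, h2, h3⟩ := Groth.Agent.S6308.result φ
  have hset : {p : PrimeSpectrum R | Function.Surjective (φ.lTensor p.asIdeal.ResidueField)} =
      {p : PrimeSpectrum R | Function.Surjective (LocalizedModule.map p.asIdeal.primeCompl φ)} := by
    ext p; exact (h1 p).symm
  rw [hset]
  refine ⟨h2, fun f hf => ?_⟩
  have hsurj := h3 f hf
  refine ⟨hsurj, ?_⟩
  set S := Submonoid.powers f
  let ι : LocalizedModule S (LinearMap.ker φ) →ₗ[Localization S] LocalizedModule S P₁ :=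
    LocalizedModule.map S (LinearMap.ker φ).subtype
  let φf : LocalizedModule S P₁ →ₗ[Localization S] LocalizedModule S P₂ := LocalizedModule.map S φ
  have hιinj : Function.Injective ι :=
    LocalizedModule.map_injective S (LinearMap.ker φ).subtype (Submodule.injective_subtype _)
  have hex : Function.Exact ι φf :=
    LocalizedModule.map_exact S (LinearMap.ker φ).subtype φ (LinearMap.exact_subtype_ker_map φ)
  obtain ⟨l, hl⟩ := Module.projective_lifting_property φf LinearMap.id hsurj
  have htfae := Function.Exact.split_tfae' hex
  obtain ⟨-, r, hr⟩ := (htfae.out 0 1 rfl rfl).mp ⟨hιinj, l, hl⟩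
  have hrsurj : Function.Surjective r := fun x => ⟨ι x, LinearMap.congr_fun hr x⟩
  exact ⟨Module.Finite.of_surjective r hrsurj, Module.Projective.of_split ι r hr⟩

end Groth.Agent.S6330
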