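import Mathlib
import Groth.Statements.S6331

set_option autoImplicit false
universe u
open CAlg

namespace Groth.Agent.S6331

theorem natCast_isUnit {R : Type u} [CommRing R] (I : Ideal R) (hI : ∀ x ∈ I, IsNilpotent x) (n : ℕ)
    (hinv : IsUnit ((n : ℕ) : R ⧸ I)) : IsUnit ((n : ℕ) : R) := by
  obtain ⟨m', hm'⟩ := hinv.exists_right_inv
  obtain ⟨m, rfl⟩ := Ideal.Quotient.mk_surjective m'
  have h1 : ((n : R) * m - 1) ∈ I := by
    rw [← Ideal.Quotient.eq_zero_iff_mem]
    rw [map_sub, map_mul, map_one, map_natCast, hm', sub_self]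
  have h2 : IsUnit ((n : R) * m) := by
    have := (hI _ h1).isUnit_add_one
    simpa using this
  exact isUnit_of_mul_isUnit_left h2

theorem geom_unit {R : Type u} [CommRing R] (n : ℕ) (hnR : IsUnit ((n : ℕ) : R)) (x : R)
    (hx : IsNilpotent x) : IsUnit (∑ i ∈ Finset.range n, (1 + x) ^ i) := by
  have hx0 : Ideal.Quotient.mk (nilradical R) x = 0 := by
    rw [Ideal.Quotient.eq_zero_iff_mem]; exact (mem_nilradical).2 hx
  have h1 : IsNilpotent ((∑ i ∈ Finset.range n, (1 + x) ^ i) - (n : R)) := by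
    rw [← mem_nilradical, ← Ideal.Quotient.eq_zero_iff_mem]
    simp [map_sum, map_pow, hx0]
  have := h1.isUnit_add_left_of_commute hnR (Commute.all _ _)
  simpa using this

theorem mem_of_pow_eq {R : Type u} [CommRing R] (I : Ideal R) (n : ℕ)
    (hnR : IsUnit ((n : ℕ) : R)) (x y : R) (hx : IsNilpotent x) (hy : y ∈ I)
    (h : (1 + x) ^ n = 1 + y) : x ∈ I := by
  have hu := geom_unit n hnR x hx
  have h1 : (∑ i ∈ Finset.range n, (1 + x) ^ i) * x = y := by
    have := geom_sum_mul (1 + x) n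
    rw [h] at this
    simpa using this
  obtain ⟨v, hv⟩ := hu
  have : x = (↑v⁻¹ : R) * y := by
    rw [← h1, ← hv, ← mul_assoc, Units.inv_mul, one_mul]
  rw [this]
  exact I.mul_mem_left _ hy

open Polynomial in
theorem part1 {R : Type u} [CommRing R] (I : Ideal R) (hI : ∀ x ∈ I, IsNilpotent x) (n : ℕ)
    (hinv : IsUnit ((n : ℕ) : R ⧸ I)) (y : R) (hy : y ∈ I) :
    ∃! x : R, x ∈ I ∧ (1 + x) ^ n = 1 + y := by
  have hnR := natCast_isUnit I hI n hinv
  have hP1 : IsNilpotent (aeval (1 : R) (X ^ n - C (1 + y) : R[X])) := by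
    have : aeval (1 : R) (X ^ n - C (1 + y) : R[X]) = - y := by simp
    rw [this]
    exact (hI y hy).neg
  have hP2 : IsUnit (aeval (1 : R) (derivative (X ^ n - C (1 + y) : R[X]))) := by
    have : aeval (1 : R) (derivative (X ^ n - C (1 + y) : R[X])) = (n : R) := by
      simp [derivative_X_pow]
    rw [this]; exact hnR
  obtain ⟨r, ⟨hr1, hr2⟩, hr3⟩ := existsUnique_nilpotent_sub_and_aeval_eq_zero hP1 hP2
  have hr2' : r ^ n = 1 + y := by
    have : aeval r (X ^ n - C (1 + y) : R[X]) = r ^ n - (1 + y) := by simp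
    rw [this] at hr2
    exact sub_eq_zero.1 hr2
  have hrn : IsNilpotent (r - 1) := by
    have := hr1.neg; simpa using this
  refine ⟨r - 1, ⟨?_, ?_⟩, ?_⟩
  · refine mem_of_pow_eq I n hnR (r - 1) y hrn hy ?_
    simpa using hr2'
  · simpa using hr2'
  · rintro x ⟨hx1, hx2⟩
    have : 1 + x = r := by
      apply hr3
      refine ⟨?_, ?_⟩
      · have : (1 : R) - (1 + x) = - x := by ring
        rw [this]; exact (hI x hx1).neg
      · simp [hx2]
    rw [← this]; ring

theorem result {R : Type u} [CommRing R] (I : Ideal R) (hI : ∀ x ∈ I, IsNilpotent x) (n : ℕ) (hn : 1 ≤ n) (hinv : IsUnit ((n : ℕ) : R ⧸ I)) : (∀ y ∈ I, ∃! x : R, x ∈ I ∧ (1 + x) ^ n = 1 + y) ∧ (∀ u : Rˣ, (∃ v : R, v ^ n = (u : R)) ↔ ∃ w : R ⧸ I, w ^ n = Ideal.Quotient.mk I (u : R)) := by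
  refine ⟨fun y hy => part1 I hI n hinv y hy, fun u => ⟨?_, ?_⟩⟩
  · rintro ⟨v, hv⟩
    exact ⟨Ideal.Quotient.mk I v, by rw [← map_pow, hv]⟩
  · rintro ⟨w, hw⟩
    obtain ⟨v₀, rfl⟩ := Ideal.Quotient.mk_surjective w
    have h1 : v₀ ^ n - (u : R) ∈ I := by
      rw [← Ideal.Quotient.eq_zero_iff_mem, map_sub, map_pow, hw, sub_self]
    have h2 : IsUnit (v₀ ^ n) := by
      have := (hI _ h1).isUnit_add_left_of_commute u.isUnit (Commute.all _ _)
      simpa using this
    obtain ⟨t, ht⟩ := h2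
    have hy : (u : R) * (↑t⁻¹ : R) - 1 ∈ I := by
      have : (u : R) * (↑t⁻¹ : R) - 1 = - ((↑t⁻¹ : R) * (v₀ ^ n - (u : R))) := by
        rw [← ht]
        have := t.inv_mul
        linear_combination this
      rw [this]
      exact I.neg_mem (I.mul_mem_left _ h1)
    obtain ⟨x, ⟨_, hx2⟩, _⟩ := part1 I hI n hinv _ hy
    refine ⟨v₀ * (1 + x), ?_⟩
    rw [mul_pow, hx2, ← ht]
    have := t.mul_inv
    linear_combination (u : R) * this

end Groth.Agent.S6331
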