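import Groth.Statements.S6332
import Mathlib
import Mathlib

set_option autoImplicit false
universe u
open Fields

namespace Groth.Agent.S6332

open IntermediateField in
/-- Let L/K be a finite Galois extension of fields of characteristic p > 0 whose degree equals the prime
p (equivalently, the Galois group is cyclic of order p). Then there is an element z of L with z ^ p
- z in K which generates L over K. -/
theorem result {K L : Type u} [Field K] [Field L] [Algebra K L] (p : ℕ)
    [Fact p.Prime] [CharP K p] [FiniteDimensional K L] [IsGalois K L]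
    (hdeg : Module.finrank K L = p) :
    ∃ z : L, z ^ p - z ∈ Set.range (algebraMap K L) ∧ K⟮z⟯ = ⊤ := by
  classical
  have hp := (Fact.out : p.Prime)
  haveI : CharP L p := charP_of_injective_algebraMap (algebraMap K L).injective p
  have hcard : Nat.card (L ≃ₐ[K] L) = p := by rw [IsGalois.card_aut_eq_finrank, hdeg]
  haveI : IsCyclic (L ≃ₐ[K] L) := isCyclic_of_prime_card hcard
  obtain ⟨σ, hσ⟩ := IsCyclic.exists_generator (α := L ≃ₐ[K] L)
  have hzpow_fix : ∀ (x : L), σ x = x → ∀ i : ℤ, (σ ^ i) x = x := by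
    intro x hx i
    have hnat : ∀ n : ℕ, (σ ^ n) x = x := by
      intro n
      induction n with
      | zero => simp
      | succ n ih => rw [pow_succ, AlgEquiv.mul_apply, hx, ih]
    cases i with
    | ofNat n => simpa using hnat n
    | negSucc n =>
      rw [zpow_negSucc]
      have h1 := hnat (n + 1)
      have : (σ ^ (n + 1))⁻¹ ((σ ^ (n + 1)) x) = x := by
        rw [← AlgEquiv.mul_apply, inv_mul_cancel]; rfl
      rw [h1] at this
      exact this
  have hfix : ∀ x : L, σ x = x → x ∈ Set.range (algebraMap K L) := by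
    intro x hx
    rw [IsGalois.mem_range_algebraMap_iff_fixed]
    intro τ
    obtain ⟨i, rfl⟩ := Subgroup.mem_zpowers_iff.mp (hσ τ)
    exact hzpow_fix x hx i
  have hpow : ∀ (n : ℕ) (x : L), ((σ.toLinearMap : Module.End K L) ^ n) x = (σ ^ n) x := by
    intro n
    induction n with
    | zero => intro x; simp
    | succ n ih =>
      intro x
      rw [pow_succ, Module.End.mul_apply, ih, AlgEquiv.toLinearMap_apply, pow_succ,
        AlgEquiv.mul_apply]
  haveI : CharP (Module.End K L) p :=
    charP_of_injective_algebraMap (algebraMap K (Module.End K L)).injective p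
  have hσp : σ ^ p = 1 := by
    have := pow_card_eq_one' (G := L ≃ₐ[K] L) (x := σ)
    rwa [hcard] at this
  let N : Module.End K L := σ.toLinearMap - 1
  have hNapp : ∀ x, N x = σ x - x := fun x => rfl
  have hNp : N ^ p = 0 := by
    show (σ.toLinearMap - 1 : Module.End K L) ^ p = 0
    rw [sub_pow_char_of_commute p (Commute.one_right _), one_pow, sub_eq_zero]
    ext x
    rw [hpow, hσp]; rfl
  have hN1 : N ≠ 0 := by
    intro h0
    have hσ1 : σ = 1 := by
      ext x
      have : N x = 0 := by rw [h0]; rfl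
      rw [hNapp, sub_eq_zero] at this
      exact this
    have : Nat.card (L ≃ₐ[K] L) = 1 := by
      rw [Nat.card_eq_one_iff_unique]
      refine ⟨⟨fun a b => ?_⟩, ⟨1⟩⟩
      obtain ⟨i, rfl⟩ := Subgroup.mem_zpowers_iff.mp (hσ a)
      obtain ⟨j, rfl⟩ := Subgroup.mem_zpowers_iff.mp (hσ b)
      simp [hσ1]
    rw [hcard] at this
    exact hp.one_lt.ne' this
  have hex : ∃ m, N ^ m = 0 := ⟨p, hNp⟩
  obtain ⟨m, hm0, hmmin⟩ : ∃ m, N ^ m = 0 ∧ ∀ j < m, N ^ j ≠ 0 :=
    ⟨Nat.find hex, Nat.find_spec hex, fun j hj => Nat.find_min hex hj⟩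
  have hm2 : 2 ≤ m := by
    by_contra hlt
    push Not at hlt
    interval_cases m
    · rw [pow_zero] at hm0
      exact one_ne_zero hm0
    · exact hN1 (by simpa using hm0)
  obtain ⟨k, rfl⟩ : ∃ k, m = k + 2 := ⟨m - 2, by omega⟩
  have hne := hmmin (k + 1) (by omega)
  obtain ⟨x, hx⟩ : ∃ x, (N ^ (k + 1)) x ≠ 0 := by
    by_contra hall
    push Not at hall
    exact hne (LinearMap.ext hall)
  have hNc : N ((N ^ (k + 1)) x) = 0 := by
    rw [← Module.End.mul_apply, ← pow_succ', hm0]; rfl
  have hσc : σ ((N ^ (k + 1)) x) = (N ^ (k + 1)) x := by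
    rw [hNapp] at hNc
    exact sub_eq_zero.mp hNc
  obtain ⟨c0, hc0⟩ := hfix _ hσc
  have hc0ne : c0 ≠ 0 := by
    rintro rfl
    rw [map_zero] at hc0
    exact hx hc0.symm
  have hNz : N (c0⁻¹ • (N ^ k) x) = 1 := by
    rw [map_smul, ← Module.End.mul_apply, ← pow_succ', ← hc0, Algebra.smul_def, ← map_mul,
      inv_mul_cancel₀ hc0ne, map_one]
  have hσz : σ (c0⁻¹ • (N ^ k) x) = c0⁻¹ • (N ^ k) x + 1 := by
    rw [hNapp] at hNz
    rw [← hNz]; ring
  refine ⟨c0⁻¹ • (N ^ k) x, ?_, ?_⟩
  · apply hfix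
    rw [map_sub, map_pow, hσz, add_pow_char, one_pow]; ring
  · have hsimple := IntermediateField.isSimpleOrder_of_finrank_prime K L (hdeg ▸ hp)
    rcases eq_bot_or_eq_top K⟮c0⁻¹ • (N ^ k) x⟯ with h | h
    · exfalso
      rw [IntermediateField.adjoin_simple_eq_bot_iff, IntermediateField.mem_bot] at h
      obtain ⟨z0, hz0⟩ := h
      have : σ (c0⁻¹ • (N ^ k) x) = c0⁻¹ • (N ^ k) x := by rw [← hz0, AlgEquiv.commutes]
      rw [hσz] at this
      simp at this
    · exact h

end Groth.Agent.S6332
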