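import Groth.Statements.S6333
import Mathlib

set_option autoImplicit false
universe u
open Fields

namespace Groth.Agent.S6333

open scoped IntermediateField.algebraAdjoinAdjoin in
/-- Linear disjointness of the algebraic closure from a purely transcendental subextension. -/
lemma card_le {k K : Type u} [Field k] [Field K] [Algebra k K] (t : Set K)
    (ht : IsTranscendenceBasis k ((↑) : t → K))
    [FiniteDimensional (IntermediateField.adjoin k t) K]
    (s : Finset (algebraicClosure k K))
    (hs : LinearIndependent k (fun i : s => (i : algebraicClosure k K))) :
    s.card ≤ Module.finrank (IntermediateField.adjoin k t) K := by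
  classical
  have hxL : AlgebraicIndependent (algebraicClosure k K) ((↑) : t → K) := ht.1.algebraicClosure
  have hinj := algebraicIndependent_iff_injective_aeval.mp hxL
  -- linear independence over the polynomial subalgebra
  have hR : LinearIndependent (Algebra.adjoin k t)
      (fun i : s => (((i : algebraicClosure k K) : K))) := by
    rw [Fintype.linearIndependent_iff]
    intro g hg
    -- write g i as a polynomial
    have hrange : ∀ i : s, ∃ p : MvPolynomial t k,
        MvPolynomial.aeval ((↑) : t → K) p = (g i : K) := by
      intro i
      have h1 : (g i : K) ∈ Algebra.adjoin k (Set.range ((↑) : t → K)) := by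
        rw [Subtype.range_coe]; exact (g i).2
      rw [Algebra.adjoin_range_eq_range_aeval] at h1
      exact h1
    choose p hp using hrange
    let Q : MvPolynomial t (algebraicClosure k K) :=
      ∑ i : s, MvPolynomial.C (i : algebraicClosure k K) *
        MvPolynomial.map (algebraMap k (algebraicClosure k K)) (p i)
    have hQ : MvPolynomial.aeval ((↑) : t → K) Q = 0 := by
      simp only [Q, map_sum, map_mul, MvPolynomial.aeval_C, MvPolynomial.aeval_map_algebraMap, hp]
      rw [← hg]
      refine Finset.sum_congr rfl fun i _ => ?_
      rw [Algebra.smul_def, mul_comm]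
      rfl
    have hQ0 : Q = 0 := hinj (by rw [hQ, map_zero])
    have hcoeff : ∀ (m : t →₀ ℕ) (i : s), MvPolynomial.coeff m (p i) = 0 := by
      intro m
      have h2 : MvPolynomial.coeff m Q = 0 := by rw [hQ0]; simp
      simp only [Q, MvPolynomial.coeff_sum, MvPolynomial.coeff_C_mul, MvPolynomial.coeff_map] at h2
      have h3 : ∑ i : s, (MvPolynomial.coeff m (p i)) • ((i : algebraicClosure k K)) = 0 := by
        rw [← h2]
        refine Finset.sum_congr rfl fun i _ => ?_
        rw [Algebra.smul_def, mul_comm]
      exact Fintype.linearIndependent_iff.mp hs _ h3
    intro i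
    have hpi : p i = 0 := MvPolynomial.ext _ _ fun m => by rw [hcoeff m i]; simp
    apply Subtype.ext
    rw [← hp i, hpi, map_zero]; rfl
  have hF : LinearIndependent (IntermediateField.adjoin k t)
      (fun i : s => (((i : algebraicClosure k K) : K))) :=
    (LinearIndependent.iff_fractionRing (Algebra.adjoin k t) (IntermediateField.adjoin k t)).mp hR
  have := hF.fintype_card_le_finrank
  simpa using this

/-- For a finitely generated field extension K/k, the algebraic closure of k inside K is a finite
extension of k. -/
theorem result {k K : Type u} [Field k] [Field K] [Algebra k K]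
    (hfg : (⊤ : IntermediateField k K).FG) :
    FiniteDimensional k (algebraicClosure k K) := by
  classical
  obtain ⟨S, hS⟩ := hfg
  haveI halg : Algebra.IsAlgebraic (Algebra.adjoin k (S : Set K)) K := by
    refine ⟨fun y => ?_⟩
    have hy : y ∈ IntermediateField.adjoin k (S : Set K) := by rw [hS]; trivial
    obtain ⟨a, ha, b, hb, rfl⟩ := IntermediateField.mem_adjoin_iff_div.mp hy
    rw [div_eq_mul_inv]
    exact (isAlgebraic_algebraMap (⟨a, ha⟩ : Algebra.adjoin k (S : Set K))).mul
      (isAlgebraic_algebraMap (⟨b, hb⟩ : Algebra.adjoin k (S : Set K))).inv
  obtain ⟨t, hts, ht⟩ := exists_isTranscendenceBasis_subset (R := k) (S : Set K)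
  have htfin : t.Finite := S.finite_toSet.subset hts
  haveI halgF : Algebra.IsAlgebraic (IntermediateField.adjoin k t) K := by
    have := ht.isAlgebraic_field
    rwa [Subtype.range_coe] at this
  haveI hfinF : FiniteDimensional (IntermediateField.adjoin k t) K := by
    have htop : IntermediateField.adjoin (IntermediateField.adjoin k t) (S : Set K) = ⊤ := by
      rw [eq_top_iff]
      intro y _
      have hy : y ∈ IntermediateField.adjoin k (S : Set K) := by rw [hS]; trivial
      have hle : IntermediateField.adjoin k (S : Set K) ≤
          (IntermediateField.adjoin (IntermediateField.adjoin k t) (S : Set K)).restrictScalars k := by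
        rw [IntermediateField.adjoin_le_iff]
        intro z hz
        exact IntermediateField.subset_adjoin _ _ hz
      exact hle hy
    haveI : Finite (S : Set K) := S.finite_toSet
    haveI : FiniteDimensional (IntermediateField.adjoin k t)
        (IntermediateField.adjoin (IntermediateField.adjoin k t) (S : Set K)) :=
      IntermediateField.finiteDimensional_adjoin
        (fun x _ => (Algebra.IsAlgebraic.isAlgebraic x).isIntegral)
    rw [htop] at this
    exact LinearEquiv.finiteDimensional (IntermediateField.topEquiv.toLinearEquiv)
  have hrank : Module.rank k (algebraicClosure k K) ≤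
      (Module.finrank (IntermediateField.adjoin k t) K : ℕ) :=
    rank_le fun s hs => card_le t ht s hs
  rw [FiniteDimensional, ← Module.rank_lt_aleph0_iff]
  exact lt_of_le_of_lt hrank (Cardinal.nat_lt_aleph0 _)

end Groth.Agent.S6333
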