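import Groth.Statements.S6334
import Mathlib

set_option autoImplicit false
universe u
open Fields

namespace Groth.Agent.S6334


section Helpers

open IntermediateField Polynomial

/-- tower of `p`-th root adjunctions reaching `K`. -/
def P (F E : Type u) [Field F] [Field E] [Algebra F E] (p : ℕ) (K : IntermediateField F E) : Prop :=
  ∃ (n : ℕ) (a : Fin n → E), adjoin F (Set.range a) = K ∧
    (∀ i : Fin n, a i ^ p ∈ adjoin F (a '' {j | j < i}) ∧ a i ∉ adjoin F (a '' {j | j < i})) ∧
    Module.finrank F K = p ^ n

lemma step {F E : Type u} [Field F] [Field E] [Algebra F E] (p : ℕ)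
    [Fact p.Prime] [CharP F p] [FiniteDimensional F E] [IsPurelyInseparable F E]
    (K : IntermediateField F E) (hK : P F E p K) (hne : K ≠ ⊤) :
    ∃ K' : IntermediateField F E, P F E p K' ∧ Module.finrank F K < Module.finrank F K' := by
  classical
  haveI : CharP E p := charP_of_injective_algebraMap (algebraMap F E).injective p
  have hp : p.Prime := Fact.out
  obtain ⟨n, a, rfl, hcond, hfin⟩ := hK
  obtain ⟨x, -, hx⟩ := SetLike.exists_of_lt (lt_top_iff_ne_top.mpr hne)
  have hex : ∃ m : ℕ, x ^ p ^ m ∈ adjoin F (Set.range a) := by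
    obtain ⟨m, c, hc⟩ := IsPurelyInseparable.pow_mem F p x
    exact ⟨m, hc ▸ (adjoin F (Set.range a)).algebraMap_mem c⟩
  have hm0 : Nat.find hex ≠ 0 := by
    intro h0
    have := Nat.find_spec hex
    rw [h0, pow_zero, pow_one] at this
    exact hx this
  obtain ⟨m', hm'⟩ := Nat.exists_eq_add_one_of_ne_zero hm0
  have hy1 : x ^ p ^ m' ∉ adjoin F (Set.range a) := Nat.find_min hex (by omega)
  have hy2 : (x ^ p ^ m') ^ p ∈ adjoin F (Set.range a) := by
    have := Nat.find_spec hex
    rwa [hm', pow_succ, pow_mul] at this
  generalize x ^ p ^ m' = y at hy1 hy2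
  have hirr : Irreducible (X ^ p - C (⟨y ^ p, hy2⟩ : adjoin F (Set.range a)) :
      Polynomial (adjoin F (Set.range a))) := by
    apply X_pow_sub_C_irreducible_of_prime hp
    intro b hb
    have hb' : (b : E) ^ p = y ^ p := by
      have := congrArg Subtype.val hb
      simpa using this
    have : (b : E) = y := frobenius_inj E p (by simpa [frobenius_def] using hb')
    exact hy1 (this ▸ b.2)
  have hint : IsIntegral (adjoin F (Set.range a)) y := IsIntegral.of_finite _ _
  have hmin : minpoly (adjoin F (Set.range a)) y = X ^ p - C ⟨y ^ p, hy2⟩ := by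
    symm
    apply minpoly.eq_of_irreducible_of_monic hirr
    · rw [map_sub, map_pow, aeval_X, aeval_C]
      exact sub_self _
    · exact monic_X_pow_sub_C _ hp.ne_zero
  have hdeg : Module.finrank (adjoin F (Set.range a))
      (adjoin (adjoin F (Set.range a)) {y}) = p := by
    rw [adjoin.finrank hint, hmin, natDegree_X_pow_sub_C]
  have hle : adjoin F (Set.range a) ≤ adjoin F (Set.range (Fin.snoc a y : Fin (n + 1) → E)) :=
    adjoin.mono F _ _ (by rw [Fin.range_snoc]; exact Set.subset_insert _ _)
  have hext : extendScalars hle = adjoin (adjoin F (Set.range a)) {y} := by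
    apply restrictScalars_injective F
    rw [adjoin_adjoin_left, extendScalars_restrictScalars, Fin.range_snoc, Set.union_singleton]
  have hfin' : Module.finrank F (adjoin F (Set.range (Fin.snoc a y : Fin (n + 1) → E)))
      = p ^ (n + 1) := by
    rw [← finrank_bot_mul_relfinrank hle, relfinrank_eq_finrank_of_le hle, hext, hdeg, hfin,
      pow_succ]
  refine ⟨adjoin F (Set.range (Fin.snoc a y : Fin (n + 1) → E)),
    ⟨n + 1, Fin.snoc a y, rfl, ?_, hfin'⟩, ?_⟩
  · intro i
    induction i using Fin.lastCases with
    | last =>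
      have himg : (Fin.snoc a y : Fin (n + 1) → E) '' {j | j < Fin.last n} = Set.range a := by
        ext z
        constructor
        · rintro ⟨j, hj, rfl⟩
          have hj' : j < Fin.last n := hj
          obtain ⟨j', rfl⟩ : ∃ j', j = Fin.castSucc j' :=
            ⟨j.castPred hj'.ne, (Fin.castSucc_castPred _ _).symm⟩
          exact ⟨j', by simp⟩
        · rintro ⟨j', rfl⟩
          exact ⟨Fin.castSucc j', Fin.castSucc_lt_last j', by simp⟩
      rw [himg, Fin.snoc_last]
      exact ⟨hy2, hy1⟩
    | cast i' =>
      have himg : (Fin.snoc a y : Fin (n + 1) → E) '' {j | j < Fin.castSucc i'} =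
          a '' {j | j < i'} := by
        ext z
        constructor
        · rintro ⟨j, hj, rfl⟩
          have hj' : j < Fin.castSucc i' := hj
          have hjl : j < Fin.last n := lt_of_lt_of_le hj' (Fin.le_last _)
          obtain ⟨j', rfl⟩ : ∃ j', j = Fin.castSucc j' :=
            ⟨j.castPred hjl.ne, (Fin.castSucc_castPred _ _).symm⟩
          exact ⟨j', Fin.castSucc_lt_castSucc_iff.mp hj', by simp⟩
        · rintro ⟨j', hj', rfl⟩
          exact ⟨Fin.castSucc j', Fin.castSucc_lt_castSucc_iff.mpr hj', by simp⟩
      rw [himg, Fin.snoc_castSucc]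
      exact hcond i'
  · rw [hfin', hfin, pow_succ]
    exact lt_mul_of_one_lt_right (pow_pos hp.pos n) hp.one_lt

lemma key {F E : Type u} [Field F] [Field E] [Algebra F E] (p : ℕ)
    [Fact p.Prime] [CharP F p] [FiniteDimensional F E] [IsPurelyInseparable F E] :
    ∀ d : ℕ, ∀ K : IntermediateField F E,
      Module.finrank F E - Module.finrank F K = d → P F E p K → P F E p ⊤ := by
  intro d
  induction d using Nat.strong_induction_on with
  | _ d ih =>
    intro K hd hK
    by_cases hne : K = ⊤
    · exact hne ▸ hK
    · obtain ⟨K', hK', hlt⟩ := step p K hK hne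
      have hle' : Module.finrank F K' ≤ Module.finrank F E :=
        LinearMap.finrank_le_finrank_of_injective (f := K'.val.toLinearMap) Subtype.val_injective
      exact ih (Module.finrank F E - Module.finrank F K') (by omega) K' rfl hK'

end Helpers


open IntermediateField in
/-- Let E/F be a finite purely inseparable extension of fields of characteristic p > 0. Then there are
elements a_1, ..., a_n of E generating E over F such that for each i the p-th power of a_i lies in
F(a_1, ..., a_{i-1}) while a_i itself does not (so each step adjoins a p-th root and has degree p);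
in particular [E : F] = p ^ n. -/
theorem result {F E : Type u} [Field F] [Field E] [Algebra F E] (p : ℕ)
    [Fact p.Prime] [CharP F p] [FiniteDimensional F E] [IsPurelyInseparable F E] :
    ∃ (n : ℕ) (a : Fin n → E), adjoin F (Set.range a) = ⊤ ∧
      (∀ i : Fin n, a i ^ p ∈ adjoin F (a '' {j | j < i}) ∧ a i ∉ adjoin F (a '' {j | j < i})) ∧
      Module.finrank F E = p ^ n := by
  have hbot : P F E p ⊥ := ⟨0, Fin.elim0, by simp, fun i => i.elim0, by simp⟩
  obtain ⟨n, a, h1, h2, h3⟩ := key p _ ⊥ rfl hbot
  exact ⟨n, a, h1, h2, by rw [← h3, IntermediateField.finrank_top']⟩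

end Groth.Agent.S6334
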