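import Mathlib
import Groth.Statements.S6335

set_option autoImplicit false
universe u
open Fields

namespace Groth.Agent.S6335

/-- Let K be a field of characteristic p > 0, L/K a separable algebraic extension and a an element of L.
If a is a root of a polynomial P over K which is separable (pairwise distinct roots in an algebraic
closure) and all of whose coefficients are p-th powers in K, then a is a p-th power in L. (Part (1),
the case where P is the minimal polynomial of a, is a special case.) -/
theorem result {K L : Type u} [Field K] [Field L] [Algebra K L]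
    (p : ℕ) [Fact p.Prime] [CharP K p] [Algebra.IsSeparable K L] (a : L) (P : Polynomial K)
    (hroot : Polynomial.aeval a P = 0) (hsep : P.Separable) (hcoeff : ∀ i : ℕ, ∃ b : K, b ^ p = P.coeff i) :
    ∃ c : L, c ^ p = a := by

    classical
    obtain ⟨Q, hQ⟩ : ∃ Q : Polynomial K, Q.map (frobenius K p) = P := by
      apply (Polynomial.mem_lifts P).1
      rw [Polynomial.lifts_iff_coeff_lifts]
      intro n
      obtain ⟨b, hb⟩ := hcoeff n
      exact ⟨b, hb⟩
    have hQsep : Q.Separable := (Polynomial.separable_map (frobenius K p)).1 (hQ ▸ hsep)
    haveI : CharP L p := charP_of_injective_algebraMap (algebraMap K L).injective p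
    haveI : CharP (AlgebraicClosure L) p :=
      charP_of_injective_algebraMap (algebraMap K (AlgebraicClosure L)).injective p
    haveI : ExpChar L p := ExpChar.prime (Fact.out : p.Prime)
    obtain ⟨c, hc⟩ : ∃ c : AlgebraicClosure L, c ^ p = algebraMap L (AlgebraicClosure L) a :=
      IsAlgClosed.exists_pow_nat_eq _ (Fact.out : p.Prime).pos
    have hfrob : ∀ R : Polynomial K, (Polynomial.aeval c R) ^ p =
        Polynomial.aeval (c ^ p) (R.map (frobenius K p)) := by
      intro R
      have h1 : (frobenius (AlgebraicClosure L) p).comp
          (Polynomial.aeval c : Polynomial K →ₐ[K] AlgebraicClosure L).toRingHom =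
          (Polynomial.aeval (c ^ p) : Polynomial K →ₐ[K] AlgebraicClosure L).toRingHom.comp
            (Polynomial.mapRingHom (frobenius K p)) := by
        apply Polynomial.ringHom_ext
        · intro k
          simp [frobenius_def]
        · simp [frobenius_def]
      have := RingHom.congr_fun h1 R
      simpa [frobenius_def] using this
    have hcroot : Polynomial.aeval c Q = 0 := by
      have h2 := hfrob Q
      rw [hQ, hc, Polynomial.aeval_algebraMap_apply, hroot, map_zero] at h2
      exact (pow_eq_zero_iff (Fact.out : p.Prime).ne_zero).1 h2
    have hsepK : IsSeparable K c := Polynomial.Separable.of_dvd hQsep (minpoly.dvd K c hcroot)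
    have hsepL : IsSeparable L c := IsSeparable.tower_top L hsepK
    have hmem : c ∈ perfectClosure L (AlgebraicClosure L) :=
      (mem_perfectClosure_iff_pow_mem p).2 ⟨1, by rw [pow_one]; exact ⟨a, hc.symm⟩⟩
    have hsep' : IsSeparable L (⟨c, hmem⟩ : perfectClosure L (AlgebraicClosure L)) := by
      unfold IsSeparable
      rw [IntermediateField.minpoly_eq]
      exact hsepL
    obtain ⟨c₀, hc₀⟩ := IsPurelyInseparable.inseparable L
      (⟨c, hmem⟩ : perfectClosure L (AlgebraicClosure L)) hsep'
    have hc₀' : algebraMap L (AlgebraicClosure L) c₀ = c := congrArg Subtype.val hc₀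
    refine ⟨c₀, ?_⟩
    apply (algebraMap L (AlgebraicClosure L)).injective
    rw [map_pow, hc₀', hc]

end Groth.Agent.S6335
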