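import Groth.Statements.S6336
import Mathlib

set_option autoImplicit false
universe u
open Fields

namespace Groth.Agent.S6336

open IntermediateField Polynomial

private lemma prod_roots_aux {K L : Type u} [Field K] [Field L] [Algebra K L] (a : L)
    (s : Multiset L) (hs : ∀ r ∈ s, ∃ ζ : K, ζ ≠ 0 ∧ r = algebraMap K L ζ * a) :
    ∃ Z : K, Z ≠ 0 ∧ s.prod = algebraMap K L Z * a ^ Multiset.card s := by
  induction s using Multiset.induction_on with
  | empty => exact ⟨1, one_ne_zero, by simp⟩
  | cons r s ih =>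
    obtain ⟨Z, hZ, hprod⟩ := ih (fun r' hr' => hs r' (Multiset.mem_cons_of_mem hr'))
    obtain ⟨ζ, hζ, hr⟩ := hs r (Multiset.mem_cons_self r s)
    refine ⟨ζ * Z, mul_ne_zero hζ hZ, ?_⟩
    rw [Multiset.prod_cons, hprod, hr, Multiset.card_cons, map_mul, pow_succ]
    ring

private lemma pow_mem_aux {K L : Type u} [Field K] [Field L] [Algebra K L]
    [FiniteDimensional K L] (a : L) (ha0 : a ≠ 0) (e : ℕ) (he : 0 < e)
    (hpow : a ^ e ∈ Set.range (algebraMap K L))
    (hroots : (X ^ e - 1 : K[X]).Splits) (L' : IntermediateField K L) :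
    a ^ (minpoly L' a).natDegree ∈ L' := by
  obtain ⟨c, hc⟩ := hpow
  have hint : IsIntegral L' a := IsIntegral.of_finite L' a
  have hmemL' : a ^ e ∈ L' := hc ▸ L'.algebraMap_mem c
  -- the minimal polynomial divides `X ^ e - a ^ e`
  have hdvd : minpoly L' a ∣ (X ^ e - C (⟨a ^ e, hmemL'⟩ : L') : L'[X]) := by
    apply minpoly.dvd
    simp only [map_sub, map_pow, aeval_X, aeval_C]
    exact sub_self _
  have hmapP : (X ^ e - C (⟨a ^ e, hmemL'⟩ : L') : L'[X]).map (algebraMap L' L) =
      (X ^ e - C (a ^ e) : L[X]) := by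
    simp only [Polynomial.map_sub, Polynomial.map_pow, Polynomial.map_X, Polynomial.map_C]
    rfl
  have hqdvd : (minpoly L' a).map (algebraMap L' L) ∣ (X ^ e - C (a ^ e) : L[X]) := by
    rw [← hmapP]
    exact Polynomial.map_dvd _ hdvd
  have hP0 : (X ^ e - C (a ^ e) : L[X]) ≠ 0 := (monic_X_pow_sub_C _ he.ne').ne_zero
  -- `X ^ e - a ^ e` splits
  have hPeq : (X ^ e - C (a ^ e) : L[X]) = C (a ^ e) * ((X ^ e - 1 : L[X]).comp (C a⁻¹ * X)) := by
    simp only [sub_comp, pow_comp, X_comp, one_comp, mul_pow, mul_sub, mul_one, ← C_pow, ← mul_assoc,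
      ← C_mul]
    rw [inv_pow, mul_inv_cancel₀ (pow_ne_zero _ ha0), C_1, one_mul]
  have hPsplits : (X ^ e - C (a ^ e) : L[X]).Splits := by
    rw [hPeq]
    refine (Splits.C _).mul ?_
    have h1 : ((X ^ e - 1 : K[X]).map (algebraMap K L)).Splits := hroots.map _
    have h2 : (X ^ e - 1 : K[X]).map (algebraMap K L) = (X ^ e - 1 : L[X]) := by
      simp
    rw [h2] at h1
    apply h1.comp_of_natDegree_le_one
    exact (natDegree_C_mul_le _ _).trans natDegree_X_le
  have hqsplits : ((minpoly L' a).map (algebraMap L' L)).Splits := hPsplits.of_dvd hP0 hqdvd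
  have hqmonic : ((minpoly L' a).map (algebraMap L' L)).Monic := (minpoly.monic hint).map _
  have hqdeg : ((minpoly L' a).map (algebraMap L' L)).natDegree = (minpoly L' a).natDegree :=
    natDegree_map _
  -- roots
  have hrootsq : ∀ r ∈ ((minpoly L' a).map (algebraMap L' L)).roots,
      ∃ ζ : K, ζ ≠ 0 ∧ r = algebraMap K L ζ * a := by
    intro r hr
    have hrP : (X ^ e - C (a ^ e) : L[X]).IsRoot r := by
      have := (mem_roots hqmonic.ne_zero).mp hr
      exact this.dvd hqdvd
    have hre : r ^ e = a ^ e := by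
      have : eval r (X ^ e - C (a ^ e) : L[X]) = 0 := hrP
      simpa [sub_eq_zero] using this
    have hx : ((X ^ e - 1 : K[X]).map (algebraMap K L)).IsRoot (r * a⁻¹) := by
      simp only [IsRoot.def, Polynomial.map_sub, Polynomial.map_pow, Polynomial.map_X,
        Polynomial.map_one, eval_sub, eval_pow, eval_X, eval_one]
      rw [mul_pow, hre, inv_pow, mul_inv_cancel₀ (pow_ne_zero _ ha0), sub_self]
    have hX0 : (X ^ e - 1 : K[X]) ≠ 0 := by
      have := (monic_X_pow_sub_C (1 : K) he.ne').ne_zero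
      simpa using this
    obtain ⟨ζ, hζ⟩ := hroots.mem_range_of_isRoot hX0 hx
    refine ⟨ζ, ?_, ?_⟩
    · rintro rfl
      rw [map_zero] at hζ
      have hr0 : r = 0 := by
        rcases mul_eq_zero.mp hζ.symm with h | h
        · exact h
        · exact absurd (inv_eq_zero.mp h) ha0
      rw [hr0, zero_pow he.ne'] at hre
      exact pow_ne_zero _ ha0 hre.symm
    · rw [hζ, mul_assoc, inv_mul_cancel₀ ha0, mul_one]
  obtain ⟨Z, hZ, hprod⟩ := prod_roots_aux a _ hrootsq
  rw [← hqsplits.natDegree_eq_card_roots, hqdeg] at hprod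
  have hcoeff := hqsplits.coeff_zero_eq_prod_roots_of_monic hqmonic
  rw [hqdeg, hprod, coeff_map] at hcoeff
  -- solve for `a ^ m`
  have hu : ((-1) ^ (minpoly L' a).natDegree * algebraMap K L Z : L) ≠ 0 :=
    mul_ne_zero (pow_ne_zero _ (neg_ne_zero.mpr one_ne_zero)) (by
      rw [Ne, map_eq_zero]; exact hZ)
  have hsol : a ^ (minpoly L' a).natDegree =
      ((-1) ^ (minpoly L' a).natDegree * algebraMap K L Z : L)⁻¹ *
        algebraMap L' L ((minpoly L' a).coeff 0) := by
    rw [hcoeff, ← mul_assoc ((-1) ^ (minpoly L' a).natDegree), ← mul_assoc, inv_mul_cancel₀ hu, one_mul]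
  rw [hsol]
  refine L'.mul_mem (L'.inv_mem (L'.mul_mem (pow_mem (L'.neg_mem L'.one_mem) _)
    (L'.algebraMap_mem Z))) ?_
  exact ((minpoly L' a).coeff 0).2

theorem result {K L : Type u} [Field K] [Field L] [Algebra K L]
    [FiniteDimensional K L] (a : L) (ha : K⟮a⟯ = ⊤)
    (hpow : a ^ Module.finrank K L ∈ Set.range (algebraMap K L))
    (hroots : (X ^ Module.finrank K L - 1 : K[X]).Splits) (L' : IntermediateField K L) :
    ∃ d : ℕ, d ∣ Module.finrank K L ∧ L' = K⟮a ^ d⟯ := by
  have he_pos : 0 < Module.finrank K L := Module.finrank_pos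
  by_cases ha0 : a = 0
  · refine ⟨1, one_dvd _, ?_⟩
    have htop : (⊥ : IntermediateField K L) = ⊤ := by
      rw [← ha, ha0, adjoin_zero]
    have h1 : L' = ⊤ := top_le_iff.mp (htop ▸ bot_le)
    rw [pow_one, ha, h1]
  · have htopE : ∀ E : IntermediateField K L, (E⟮a⟯ : IntermediateField E L) = ⊤ := by
      intro E
      rw [eq_top_iff]
      intro x _
      have hx : x ∈ K⟮a⟯ := ha ▸ mem_top
      have hle : K⟮a⟯ ≤ (E⟮a⟯ : IntermediateField E L).restrictScalars K := by
        rw [adjoin_simple_le_iff]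
        exact mem_adjoin_simple_self E a
      exact hle hx
    have hfr : ∀ E : IntermediateField K L, Module.finrank E L = (minpoly E a).natDegree := by
      intro E
      rw [← IntermediateField.finrank_top' (F := E) (E := L), ← htopE E,
        IntermediateField.adjoin.finrank (IsIntegral.of_finite E a)]
    have hmem := pow_mem_aux a ha0 _ he_pos hpow hroots L'
    have hm0 : (minpoly L' a).natDegree ≠ 0 :=
      (minpoly.natDegree_pos (IsIntegral.of_finite L' a)).ne'
    refine ⟨(minpoly L' a).natDegree, ?_, ?_⟩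
    · rw [← hfr L']
      have := IntermediateField.finrank_dvd_of_le_left (bot_le : (⊥ : IntermediateField K L) ≤ L')
      rwa [IntermediateField.finrank_bot'] at this
    · have hle : K⟮a ^ (minpoly L' a).natDegree⟯ ≤ L' := by
        rw [adjoin_simple_le_iff]
        exact hmem
      symm
      apply IntermediateField.eq_of_le_of_finrank_le' hle
      rw [hfr L', hfr]
      have hp : aeval a (X ^ (minpoly L' a).natDegree -
          C (⟨a ^ (minpoly L' a).natDegree, mem_adjoin_simple_self K _⟩ :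
            K⟮a ^ (minpoly L' a).natDegree⟯) : (K⟮a ^ (minpoly L' a).natDegree⟯)[X]) = 0 := by
        simp only [map_sub, map_pow, aeval_X, aeval_C]
        exact sub_self _
      have hp0 := (monic_X_pow_sub_C (⟨a ^ (minpoly L' a).natDegree, mem_adjoin_simple_self K _⟩ :
            K⟮a ^ (minpoly L' a).natDegree⟯) hm0).ne_zero
      have := natDegree_le_of_dvd (minpoly.dvd _ a hp) hp0
      rwa [natDegree_X_pow_sub_C] at this

end Groth.Agent.S6336
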