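import Groth.Statements.S6337
import Groth.Agent.H11.ML

set_option autoImplicit false
universe u
open CAlg TensorProduct

namespace Groth.Agent.S6337

/-- A direct sum of modules is Mittag-Leffler if and only if each summand is Mittag-Leffler. -/
theorem result (R : Type u) [CommRing R] {ι : Type u} (M : ι → Type u)
    [∀ i, AddCommGroup (M i)] [∀ i, Module R (M i)] :
    CAlg.IsMittagLeffler R (DirectSum ι M) ↔ ∀ i, CAlg.IsMittagLeffler R (M i) := by
  classical
  constructor
  · intro h i
    refine Groth.Agent.H11.isMittagLeffler_of_universallyInjective R (DirectSum.lof R ι M i) ?_ h
    apply Groth.Agent.H11.universallyInjective_of_leftInverse R _ (DirectSum.component R ι M i)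
    ext x
    simp
  · intro h κ Q _ _
    rw [injective_iff_map_eq_zero]
    intro x hx
    -- each component vanishes
    have hcomp : ∀ i, (DirectSum.component R ι M i).rTensor (∀ k, Q k) x = 0 := by
      intro i
      apply h i κ Q
      rw [map_zero]
      funext k
      rw [Groth.Agent.H11.piRightHom_natural, hx]
      simp
    -- hence x = 0
    have hds : TensorProduct.directSumLeft R R M (∀ k, Q k) x = 0 := by
      ext i
      have key : ∀ y : (DirectSum ι M) ⊗[R] (∀ k, Q k),
          TensorProduct.directSumLeft R R M (∀ k, Q k) y i =
            (DirectSum.component R ι M i).rTensor (∀ k, Q k) y := by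
        intro y
        induction y using TensorProduct.induction_on with
        | zero => simp
        | tmul m q => simp [TensorProduct.directSumLeft_tmul, DirectSum.component.of]; rfl
        | add a b ha hb => simp only [map_add, DirectSum.add_apply, ha, hb]
      rw [key, hcomp i]
      simp
    exact (TensorProduct.directSumLeft R R M (∀ k, Q k)).injective (by rw [hds, map_zero])

end Groth.Agent.S6337
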