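import Groth.Statements.S6340
import Groth.Agent.H11.ML

set_option autoImplicit false
universe u
open CAlg TensorProduct

namespace Groth.Agent.S6340

/-- Let M₁ → M₂ → M₃ → 0 be exact with M₁ finitely generated; if M₂ is Mittag-Leffler then so is M₃.
Equivalently, as stated here: the quotient of a Mittag-Leffler module by a finitely generated
submodule is Mittag-Leffler. -/
theorem result (R : Type u) [CommRing R] {M : Type u} [AddCommGroup M] [Module R M]
    (N : Submodule R M) (hN : N.FG) (hM : CAlg.IsMittagLeffler R M) :
    CAlg.IsMittagLeffler R (M ⧸ N) := by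
  intro ι Q _ _
  haveI : Module.Finite R N := Module.Finite.iff_fg.mpr hN
  rw [injective_iff_map_eq_zero]
  intro z hz
  have hex : Function.Exact N.subtype N.mkQ :=
    LinearMap.exact_iff.mpr (by rw [Submodule.ker_mkQ, Submodule.range_subtype])
  have hsurj : Function.Surjective N.mkQ := N.mkQ_surjective
  obtain ⟨x, rfl⟩ := LinearMap.rTensor_surjective (∀ i, Q i) hsurj z
  have key : ∀ i, ∃ w : (N ⊗[R] Q i), N.subtype.rTensor (Q i) w = TensorProduct.piRightHom R R M Q x i := by
    intro i
    apply (rTensor_exact (Q i) hex hsurj _).mp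
    rw [← Groth.Agent.H11.piRightHom_natural, hz]
    simp
  choose w hw using key
  obtain ⟨v, hv⟩ := Groth.Agent.H11.piRightHom_surjective_of_finite R ι Q w
  have hx : x = N.subtype.rTensor (∀ i, Q i) v := by
    apply hM ι Q
    funext i
    rw [Groth.Agent.H11.piRightHom_natural, hv, hw]
  rw [hx]
  exact (rTensor_exact (∀ i, Q i) hex hsurj _).mpr ⟨v, rfl⟩

end Groth.Agent.S6340
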