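import Groth.Statements.S6341
import Groth.Agent.H11.ML

set_option autoImplicit false
universe u
open CAlg TensorProduct

namespace Groth.Agent.S6341

section
variable (R : Type u) [CommRing R] {ι : Type u}
    [Preorder ι] [IsDirected ι (· ≤ ·)] [DecidableEq ι] (G : ι → Type u) [∀ i, AddCommGroup (G i)]
    [∀ i, Module R (G i)] (f : ∀ i j, i ≤ j → G i →ₗ[R] G j) [DirectedSystem G fun i j h => f i j h]

private lemma directedSystem_rTensor (Q : Type u) [AddCommGroup Q] [Module R Q] :
    DirectedSystem (fun i => G i ⊗[R] Q) (fun i j h => (f i j h).rTensor Q) where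
  map_self i x := by
    have : f i i le_rfl = LinearMap.id := by
      ext y
      exact DirectedSystem.map_self (f := fun i j h => f i j h) y
    rw [this, LinearMap.rTensor_id, LinearMap.id_apply]
  map_map k j i hij hjk x := by
    have : (f j k hjk).comp (f i j hij) = f i k (hij.trans hjk) := by
      ext y
      exact DirectedSystem.map_map (f := fun i j h => f i j h) hij hjk y
    rw [← LinearMap.comp_apply, ← LinearMap.rTensor_comp, this]

private lemma of_universallyInjective
    (hf : ∀ i j (h : i ≤ j), CAlgX.UniversallyInjective R (f i j h)) (i : ι) :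
    CAlgX.UniversallyInjective R (Module.DirectLimit.of R ι G f i) := by
  intro Q _ _
  haveI := directedSystem_rTensor R G f Q
  rw [injective_iff_map_eq_zero]
  intro a ha
  have h1 : Module.DirectLimit.of R ι (fun i => G i ⊗[R] Q) (fun i j h => (f i j h).rTensor Q) i a = 0 := by
    rw [← TensorProduct.directLimitLeft_rTensor_of, ha, map_zero]
  obtain ⟨j, hij, hj⟩ := Module.DirectLimit.of.zero_exact h1
  exact hf i j hij Q (by rw [hj, map_zero])

private lemma exists_rep [Nonempty ι] (P : Type u) [AddCommGroup P] [Module R P]
    (x : Module.DirectLimit G f ⊗[R] P) :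
    ∃ (i : ι) (a : G i ⊗[R] P), (Module.DirectLimit.of R ι G f i).rTensor P a = x := by
  induction x using TensorProduct.induction_on with
  | zero => exact ⟨Classical.arbitrary ι, 0, by simp⟩
  | tmul l p =>
    obtain ⟨i, g, rfl⟩ := Module.DirectLimit.exists_of l
    exact ⟨i, g ⊗ₜ p, by simp⟩
  | add x y hx hy =>
    obtain ⟨i, a, rfl⟩ := hx
    obtain ⟨j, b, rfl⟩ := hy
    obtain ⟨k, hik, hjk⟩ := exists_ge_ge i j
    refine ⟨k, (f i k hik).rTensor P a + (f j k hjk).rTensor P b, ?_⟩
    rw [map_add, ← LinearMap.comp_apply, ← LinearMap.comp_apply, ← LinearMap.rTensor_comp,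
      ← LinearMap.rTensor_comp]
    congr 3
    · ext g; simp
    · ext g; simp

end

/-- The colimit of a directed system of Mittag-Leffler modules with universally injective transition
maps is Mittag-Leffler. -/
theorem result (R : Type u) [CommRing R] {ι : Type u}
    [Preorder ι] [IsDirected ι (· ≤ ·)] [DecidableEq ι] (G : ι → Type u) [∀ i, AddCommGroup (G i)]
    [∀ i, Module R (G i)] (f : ∀ i j, i ≤ j → G i →ₗ[R] G j) [DirectedSystem G fun i j h => f i j h]
    (hf : ∀ i j (h : i ≤ j), CAlgX.UniversallyInjective R (f i j h))
    (hG : ∀ i, CAlg.IsMittagLeffler R (G i)) :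
    CAlg.IsMittagLeffler R (Module.DirectLimit G f) := by
  intro κ Q _ _
  rw [injective_iff_map_eq_zero]
  intro x hx
  rcases isEmpty_or_nonempty ι with hι | hι
  · -- the direct limit is trivial
    have hsub : Subsingleton (Module.DirectLimit G f) := by
      refine ⟨fun a b => ?_⟩
      have h0 : ∀ c : Module.DirectLimit G f, c = 0 := by
        intro c
        have hid : (LinearMap.id : Module.DirectLimit G f →ₗ[R] Module.DirectLimit G f) = 0 :=
          Module.DirectLimit.hom_ext fun i => (hι.false i).elim
        exact LinearMap.congr_fun hid c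
      rw [h0 a, h0 b]
    induction x using TensorProduct.induction_on with
    | zero => rfl
    | tmul l p => rw [Subsingleton.elim l 0, TensorProduct.zero_tmul]
    | add a b ha hb =>
      -- avoid using hypotheses: everything is zero
      have h0 : ∀ z : Module.DirectLimit G f ⊗[R] (∀ k, Q k), z = 0 := by
        intro z
        induction z using TensorProduct.induction_on with
        | zero => rfl
        | tmul l p => rw [Subsingleton.elim l 0, TensorProduct.zero_tmul]
        | add a b ha hb => rw [ha, hb, add_zero]
      exact h0 _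
  · obtain ⟨i, a, rfl⟩ := exists_rep R G f (∀ k, Q k) x
    have ha : TensorProduct.piRightHom R R (G i) Q a = 0 := by
      funext k
      apply of_universallyInjective R G f hf i (Q k)
      rw [← Groth.Agent.H11.piRightHom_natural, hx]
      simp
    have : a = 0 := hG i κ Q (by rw [ha, map_zero])
    rw [this, map_zero]

end Groth.Agent.S6341
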