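import Groth.Statements.S6343
import Mathlib
import Groth.Agent.H11.PureFP
import Groth.Agent.H11.MLFP

set_option autoImplicit false
universe u
open scoped TensorProduct
open CAlg

namespace Groth.Agent.S6343

section
variable {R : Type u} [CommRing R]

private lemma ext_right3 {P N Q X : Type u} [AddCommGroup P] [Module R P] [AddCommGroup N] [Module R N]
    [AddCommGroup Q] [Module R Q] [AddCommGroup X] [Module R X]
    {g h : P ⊗[R] (N ⊗[R] Q) →ₗ[R] X}
    (H : ∀ p n q, g (p ⊗ₜ (n ⊗ₜ q)) = h (p ⊗ₜ (n ⊗ₜ q))) : g = h := by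
  apply TensorProduct.ext'
  intro p y
  induction y using TensorProduct.induction_on with
  | zero => simp
  | tmul n q => exact H p n q
  | add x y hx hy => rw [TensorProduct.tmul_add, map_add, map_add, hx, hy]

/-- The Mittag-Leffler comparison map of a Mittag-Leffler module is universally injective. -/
private lemma piRightHom_universallyInjective (N : Type u) [AddCommGroup N] [Module R N]
    (hN : CAlg.IsMittagLeffler R N) (ι : Type u) (Q : ι → Type u) [∀ i, AddCommGroup (Q i)]
    [∀ i, Module R (Q i)] :
    CAlgX.UniversallyInjective R (TensorProduct.piRightHom R R N Q) := by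
  apply Groth.Agent.H11.universallyInjective_of_fp
  intro P _ _ hP
  apply Groth.Agent.H11.rTensor_injective_of_lTensor_injective
  rw [injective_iff_map_eq_zero]
  intro z hz
  -- the second route
  have hbij := Groth.Agent.H11.piRightHom_bijective_of_finitePresentation R P ι Q
  obtain ⟨e, he⟩ : ∃ e : (P ⊗[R] (∀ i, Q i)) ≃ₗ[R] (∀ i, P ⊗[R] Q i),
      e.toLinearMap = TensorProduct.piRightHom R R P Q :=
    ⟨LinearEquiv.ofBijective _ hbij, rfl⟩
  have key : ∀ i, (LinearMap.proj i ∘ₗ TensorProduct.piRightHom R R N (fun i => P ⊗[R] Q i)) ∘ₗ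
      (e.toLinearMap.lTensor N) ∘ₗ (TensorProduct.leftComm R P N (∀ i, Q i)).toLinearMap =
      (TensorProduct.leftComm R P N (Q i)).toLinearMap ∘ₗ
        (LinearMap.proj i ∘ₗ TensorProduct.piRightHom R R P (fun i => N ⊗[R] Q i)) ∘ₗ
        ((TensorProduct.piRightHom R R N Q).lTensor P) := by
    intro i
    apply ext_right3
    intro p n q
    simp [he, TensorProduct.piRightHom_tmul]
  have h1 : TensorProduct.piRightHom R R N (fun i => P ⊗[R] Q i)
      ((e.toLinearMap.lTensor N) (TensorProduct.leftComm R P N (∀ i, Q i) z)) = 0 := by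
    funext i
    have := LinearMap.congr_fun (key i) z
    simp only [LinearMap.comp_apply, LinearEquiv.coe_coe, LinearMap.proj_apply] at this
    rw [this, hz]
    simp
  have h2 : (e.toLinearMap.lTensor N) (TensorProduct.leftComm R P N (∀ i, Q i) z) = 0 :=
    hN ι (fun i => P ⊗[R] Q i) (by rw [h1, map_zero])
  have h3 : (TensorProduct.leftComm R P N (∀ i, Q i)) z = 0 := by
    have : Function.Injective (e.toLinearMap.lTensor N) := (LinearEquiv.lTensor N e).injective
    exact this (by rw [h2, map_zero])
  exact (TensorProduct.leftComm R P N (∀ i, Q i)).injective (by rw [h3, map_zero])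

end

/-- The tensor product of two Mittag-Leffler modules over a commutative ring is Mittag-Leffler. -/
theorem result (R : Type u) [CommRing R] (M N : Type u) [AddCommGroup M] [Module R M]
    [AddCommGroup N] [Module R N] (hM : CAlg.IsMittagLeffler R M) (hN : CAlg.IsMittagLeffler R N) :
    CAlg.IsMittagLeffler R (M ⊗[R] N) := by
  intro ι Q _ _
  rw [injective_iff_map_eq_zero]
  intro x hx
  have hα := piRightHom_universallyInjective N hN ι Q
  have hαM : Function.Injective ((TensorProduct.piRightHom R R N Q).lTensor M) :=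
    Groth.Agent.H11.lTensor_injective_of_rTensor_injective _ (hα M)
  have key : ∀ i, (LinearMap.proj i ∘ₗ TensorProduct.piRightHom R R M (fun i => N ⊗[R] Q i)) ∘ₗ
      ((TensorProduct.piRightHom R R N Q).lTensor M) ∘ₗ
        (TensorProduct.assoc R M N (∀ i, Q i)).toLinearMap =
      (TensorProduct.assoc R M N (Q i)).toLinearMap ∘ₗ
        (LinearMap.proj i ∘ₗ TensorProduct.piRightHom R R (M ⊗[R] N) Q) := by
    intro i
    apply TensorProduct.ext_threefold
    intro m n q
    simp [TensorProduct.piRightHom_tmul]
  have h1 : TensorProduct.piRightHom R R M (fun i => N ⊗[R] Q i)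
      (((TensorProduct.piRightHom R R N Q).lTensor M) (TensorProduct.assoc R M N (∀ i, Q i) x)) = 0 := by
    funext i
    have := LinearMap.congr_fun (key i) x
    simp only [LinearMap.comp_apply, LinearEquiv.coe_coe, LinearMap.proj_apply] at this
    rw [this, hx]
    simp
  have h2 := hM ι (fun i => N ⊗[R] Q i) (by rw [h1, map_zero] :
    TensorProduct.piRightHom R R M (fun i => N ⊗[R] Q i)
      (((TensorProduct.piRightHom R R N Q).lTensor M) (TensorProduct.assoc R M N (∀ i, Q i) x)) =
    TensorProduct.piRightHom R R M (fun i => N ⊗[R] Q i) 0)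
  have h3 := hαM (by rw [h2, map_zero] :
    ((TensorProduct.piRightHom R R N Q).lTensor M) (TensorProduct.assoc R M N (∀ i, Q i) x) =
    ((TensorProduct.piRightHom R R N Q).lTensor M) 0)
  exact (TensorProduct.assoc R M N (∀ i, Q i)).injective (by rw [h3, map_zero])

end Groth.Agent.S6343
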