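import Groth.Statements.S6345
import Groth.Agent.H11.MLTower
import Groth.Agent.H11.MLBaseChange

set_option autoImplicit false
universe u
open CAlg TensorProduct

namespace Groth.Agent.S6345

private lemma lift_bijective (R S : Type u) [CommRing R] [CommRing S] [Algebra R S]
    (hS : Function.Surjective (algebraMap R S))
    (M : Type u) [AddCommGroup M] [Module S M] [Module R M] [IsScalarTower R S M] :
    Function.Bijective (LinearMap.liftBaseChange S (LinearMap.id : M →ₗ[R] M)) := by
  constructor
  · apply Function.LeftInverse.injective (g := fun m => (1 : S) ⊗ₜ[R] m)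
    intro x
    induction x using TensorProduct.induction_on with
    | zero => simp
    | tmul s m =>
      obtain ⟨r, rfl⟩ := hS s
      simp only [LinearMap.liftBaseChange_tmul, LinearMap.id_coe, id_eq, algebraMap_smul]
      rw [TensorProduct.tmul_smul, TensorProduct.smul_tmul', Algebra.smul_def, mul_one]
    | add a b ha hb =>
      simp only [map_add, TensorProduct.tmul_add] at ha hb ⊢
      rw [ha, hb]
  · intro m
    exact ⟨(1 : S) ⊗ₜ[R] m, by simp⟩

/-- Let I be a finitely generated ideal of a commutative ring R and M an R/I-module. Then M is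
Mittag-Leffler over R if and only if it is Mittag-Leffler over R/I. -/
theorem result (R : Type u) [CommRing R] (I : Ideal R) (hI : I.FG)
    (M : Type u) [AddCommGroup M] [Module (R ⧸ I) M] [Module R M] [IsScalarTower R (R ⧸ I) M] :
    CAlg.IsMittagLeffler R M ↔ CAlg.IsMittagLeffler (R ⧸ I) M := by
  constructor
  · intro h
    have h1 := Groth.Agent.H11.isMittagLeffler_baseChange R (R ⧸ I) M h
    let e : ((R ⧸ I) ⊗[R] M) ≃ₗ[R ⧸ I] M :=
      LinearEquiv.ofBijective (LinearMap.liftBaseChange (R ⧸ I) (LinearMap.id : M →ₗ[R] M))
        (lift_bijective R (R ⧸ I) Ideal.Quotient.mk_surjective M)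
    exact Groth.Agent.H11.isMittagLeffler_of_linearEquiv (R ⧸ I) e.symm h1
  · intro h
    have : Module.FinitePresentation R (R ⧸ I) :=
      Module.finitePresentation_of_surjective (Submodule.mkQ I) (Submodule.mkQ_surjective I)
        (by rw [Submodule.ker_mkQ]; exact hI)
    exact Groth.Agent.H11.isMittagLeffler_restrictScalars_of_fp R (R ⧸ I) M h

end Groth.Agent.S6345
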