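import Groth.Statements.S6346
import Mathlib
import Groth.Agent.H11.MLBaseChange

set_option autoImplicit false
universe u
open scoped TensorProduct
open CAlg

namespace Groth.Agent.S6346

private lemma comm_rTensor {R : Type u} [CommRing R] {A B M : Type u} [AddCommGroup A] [Module R A]
    [AddCommGroup B] [Module R B] [AddCommGroup M] [Module R M] (f : A →ₗ[R] B) (t : A ⊗[R] M) :
    TensorProduct.comm R B M ((f.rTensor M) t) = (f.lTensor M) (TensorProduct.comm R A M t) := by
  induction t using TensorProduct.induction_on with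
  | zero => simp
  | tmul a m => simp
  | add x y hx hy => simp only [map_add, hx, hy]

/-- Let M be a flat module over a commutative ring R. Then M is Mittag-Leffler exactly when, for each
finite free module F = R^n and each element x of F ⊗ M there is a smallest submodule F' of F such
that x lies in the image of F' ⊗ M → F ⊗ M. -/
theorem result (R : Type u) [CommRing R] (M : Type u)
    [AddCommGroup M] [Module R M] [Module.Flat R M] :
    CAlg.IsMittagLeffler R M ↔
      ∀ (n : ℕ) (x : (Fin n → R) ⊗[R] M), ∃ F' : Submodule R (Fin n → R),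
        x ∈ LinearMap.range (F'.subtype.rTensor M) ∧
        ∀ F'' : Submodule R (Fin n → R), x ∈ LinearMap.range (F''.subtype.rTensor M) → F' ≤ F'' := by
  constructor
  · intro hML n x
    obtain ⟨φ, hφ⟩ : ∃ φ : (Fin n → R) →ₗ[R]
        (∀ i : {F'' : Submodule R (Fin n → R) // x ∈ LinearMap.range (F''.subtype.rTensor M)},
          (Fin n → R) ⧸ i.1), ∀ i, (LinearMap.proj i) ∘ₗ φ = i.1.mkQ :=
      ⟨LinearMap.pi (fun i => i.1.mkQ), fun i => rfl⟩
    refine ⟨LinearMap.ker φ, ?_, ?_⟩
    · have hex := Module.Flat.rTensor_exact M (LinearMap.exact_subtype_ker_map φ)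
      apply (hex x).mp
      apply (TensorProduct.comm R _ M).injective
      apply hML _ _
      funext i
      rw [map_zero, map_zero, Groth.Agent.H11.piRightHom_apply_eq_lTensor_proj, comm_rTensor,
        ← LinearMap.comp_apply, ← LinearMap.lTensor_comp, hφ i, ← comm_rTensor]
      have key : ∀ (G : Submodule R (Fin n → R)) (x' : G ⊗[R] M),
          (G.mkQ.rTensor M) ((G.subtype.rTensor M) x') = 0 := by
        intro G x'
        rw [← LinearMap.comp_apply, ← LinearMap.rTensor_comp]
        have : G.mkQ ∘ₗ G.subtype = 0 := by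
          ext v
          simp
        rw [this]
        simp
      obtain ⟨x', hx'⟩ := i.2
      have h4 := key i.1 x'
      rw [hx'] at h4
      rw [h4, map_zero]
      rfl
    · intro F'' hF'' v hv
      have h1 : φ v = 0 := hv
      have h2 := congrFun h1 ⟨F'', hF''⟩
      have h3 : (LinearMap.proj (⟨F'', hF''⟩ : {F'' : Submodule R (Fin n → R) //
          x ∈ LinearMap.range (F''.subtype.rTensor M)}) ∘ₗ φ) v = 0 := h2
      rw [hφ] at h3
      simpa using h3
  · intro h ι Q _ _
    rw [injective_iff_map_eq_zero]
    intro z hz0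
    obtain ⟨n, m, q, hzq⟩ := TensorProduct.exists_sum_tmul_eq z
    obtain ⟨φ, hφ⟩ : ∃ φ : (Fin n → R) →ₗ[R] (∀ i, Q i), ∀ k, φ (Pi.single k 1) = q k :=
      ⟨Fintype.linearCombination R q, fun k => by
        rw [Fintype.linearCombination_apply_single, one_smul]⟩
    obtain ⟨x, hxdef⟩ : ∃ x : (Fin n → R) ⊗[R] M, x = ∑ k, (Pi.single k (1 : R)) ⊗ₜ[R] m k := ⟨_, rfl⟩
    have hx : TensorProduct.comm R _ _ ((φ.rTensor M) x) = z := by
      rw [hxdef, hzq, map_sum, map_sum]
      refine Finset.sum_congr rfl (fun k _ => ?_)
      rw [LinearMap.rTensor_tmul, TensorProduct.comm_tmul, hφ]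
    obtain ⟨F', hF', hmin⟩ := h n x
    have hle : F' ≤ LinearMap.ker φ := by
      intro v hv
      rw [LinearMap.mem_ker]
      funext i
      have hi : F' ≤ LinearMap.ker ((LinearMap.proj i) ∘ₗ φ) := by
        apply hmin
        have hex := Module.Flat.rTensor_exact M
          (LinearMap.exact_subtype_ker_map ((LinearMap.proj i) ∘ₗ φ))
        apply (hex x).mp
        apply (TensorProduct.comm R _ M).injective
        rw [map_zero, comm_rTensor, LinearMap.lTensor_comp, LinearMap.comp_apply, ← comm_rTensor,
          hx, ← Groth.Agent.H11.piRightHom_apply_eq_lTensor_proj, hz0]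
        rfl
      exact hi hv
    obtain ⟨x', hx'⟩ := hF'
    have h0 : (φ.rTensor M) x = 0 := by
      rw [← hx', ← LinearMap.comp_apply, ← LinearMap.rTensor_comp]
      have : φ ∘ₗ F'.subtype = 0 := by
        ext v : 1
        exact hle v.2
      rw [this]
      simp
    rw [← hx, h0, map_zero]

end Groth.Agent.S6346
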