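import Groth.Statements.S6351
import Mathlib

set_option autoImplicit false
universe u
open scoped TensorProduct
open CAlg

namespace Groth.Agent.S6351

open TensorProduct in
theorem mem_smul_ker {R : Type u} [CommRing R] (I : Ideal R) {F M : Type u}
    [AddCommGroup F] [Module R F] [AddCommGroup M] [Module R M]
    (htor : Function.Injective ((Submodule.subtype I).rTensor M))
    (φ : F →ₗ[R] M) (hsurj : Function.Surjective φ) (t' : TensorProduct R I F)
    (h0 : φ (TensorProduct.lift ((LinearMap.lsmul R F).comp I.subtype) t') = 0) :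
    TensorProduct.lift ((LinearMap.lsmul R F).comp I.subtype) t' ∈ I • LinearMap.ker φ := by
  have hnat : ∀ t : TensorProduct R I F,
      TensorProduct.lid R M ((Submodule.subtype I).rTensor M (LinearMap.lTensor I φ t)) =
        φ (TensorProduct.lift ((LinearMap.lsmul R F).comp I.subtype) t) := by
    intro t
    induction t using TensorProduct.induction_on with
    | zero => simp
    | tmul i f => simp
    | add a b ha hb => simp only [map_add, ha, hb]
  have ht0 : (LinearMap.lTensor I φ) t' = 0 := by
    apply htor
    rw [map_zero]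
    apply (TensorProduct.lid R M).injective
    rw [map_zero, hnat, h0]
  have hex0 : Function.Exact (LinearMap.ker φ).subtype φ := LinearMap.exact_subtype_ker_map φ
  have hex : Function.Exact (LinearMap.lTensor I (LinearMap.ker φ).subtype)
      (LinearMap.lTensor I φ) := lTensor_exact I hex0 hsurj
  have key : ∀ s : TensorProduct R I (LinearMap.ker φ),
      TensorProduct.lift ((LinearMap.lsmul R F).comp I.subtype)
        (LinearMap.lTensor I (LinearMap.ker φ).subtype s) ∈ I • LinearMap.ker φ := by
    intro s
    induction s using TensorProduct.induction_on with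
    | zero => simp
    | tmul i k =>
      rw [LinearMap.lTensor_tmul, TensorProduct.lift.tmul]
      exact Submodule.smul_mem_smul i.2 k.2
    | add a b ha hb =>
      rw [map_add, map_add]
      exact Submodule.add_mem _ ha hb
  obtain ⟨s, hs⟩ := (hex t').mp ht0
  rw [← hs]
  exact key s

/-- Let I be a nilpotent ideal of a commutative ring R and M an R-module with Tor_1^R(R/I, M) = 0, i.e.
I ⊗_R M → M injective. If a family of elements of M maps to a basis of the R/I-module M/IM = R/I ⊗
M, then it is a basis of M over R. -/
theorem result (R : Type u) [CommRing R] (I : Ideal R)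
    (hI : IsNilpotent I) (M : Type u) [AddCommGroup M] [Module R M]
    (htor : Function.Injective ((Submodule.subtype I).rTensor M)) {A : Type u} (x : A → M)
    (hli : LinearIndependent (R ⧸ I) (fun a => (1 : R ⧸ I) ⊗ₜ[R] x a))
    (hsp : Submodule.span (R ⧸ I) (Set.range fun a => (1 : R ⧸ I) ⊗ₜ[R] x a) = ⊤) :
    LinearIndependent R x ∧ Submodule.span R (Set.range x) = ⊤ := by
  classical
  obtain ⟨n, hn⟩ := hI
  set φ := Finsupp.linearCombination R x with hφ
  set N := Submodule.span R (Set.range x) with hN
  have hker : ∀ m : M, (1 : R ⧸ I) ⊗ₜ[R] m = 0 → m ∈ (I • ⊤ : Submodule R M) := by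
    intro m hm
    have h1 := congrArg (TensorProduct.quotTensorEquivQuotSMul M I) hm
    rw [TensorProduct.quotTensorEquivQuotSMul_mk_one_tmul, map_zero,
      Submodule.Quotient.mk_eq_zero] at h1
    exact h1
  have hkey : ∀ l : A →₀ R,
      Finsupp.linearCombination (R ⧸ I) (fun a => (1 : R ⧸ I) ⊗ₜ[R] x a)
        (l.mapRange (Ideal.Quotient.mk I) (map_zero _)) = (1 : R ⧸ I) ⊗ₜ[R] φ l := by
    intro l
    induction l using Finsupp.induction_linear with
    | zero => simp
    | add f g hf hg =>
      rw [Finsupp.mapRange_add (by intro a b; exact map_add _ a b), map_add, map_add, hf, hg,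
        TensorProduct.tmul_add]
    | single a r =>
      rw [Finsupp.mapRange_single, Finsupp.linearCombination_single, hφ,
        Finsupp.linearCombination_single, TensorProduct.smul_tmul', smul_eq_mul, mul_one,
        ← TensorProduct.smul_tmul]
      congr 1
      rw [Algebra.smul_def, mul_one]
      rfl
  -- Part 2 : spanning
  have hstep0 : (⊤ : Submodule R M) ≤ N ⊔ (I • ⊤ : Submodule R M) := by
    intro m _
    have hm : (1 : R ⧸ I) ⊗ₜ[R] m ∈ Submodule.span (R ⧸ I)
        (Set.range fun a => (1 : R ⧸ I) ⊗ₜ[R] x a) := by rw [hsp]; trivial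
    obtain ⟨c, hc⟩ := (Finsupp.mem_span_range_iff_exists_finsupp).mp hm
    obtain ⟨l, rfl⟩ := Finsupp.mapRange_surjective (Ideal.Quotient.mk I) (map_zero _)
      Ideal.Quotient.mk_surjective c
    have h2 : (1 : R ⧸ I) ⊗ₜ[R] (m - φ l) = 0 := by
      rw [TensorProduct.tmul_sub, ← hkey l, Finsupp.linearCombination_apply, hc, sub_self]
    have h3 := hker _ h2
    have h4 : φ l ∈ N := by
      rw [hφ, hN, ← Finsupp.range_linearCombination]
      exact LinearMap.mem_range_self _ _
    have : m = φ l + (m - φ l) := by abel
    rw [this]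
    exact Submodule.add_mem_sup h4 h3
  have hstep : ∀ j : ℕ, (⊤ : Submodule R M) ≤ N ⊔ (I ^ j • ⊤ : Submodule R M) := by
    intro j
    induction j with
    | zero => simp
    | succ j ih =>
      refine ih.trans (sup_le le_sup_left ?_)
      calc (I ^ j • ⊤ : Submodule R M) ≤ I ^ j • (N ⊔ (I • ⊤ : Submodule R M)) :=
            Submodule.smul_mono le_rfl hstep0
        _ = I ^ j • N ⊔ I ^ j • (I • ⊤ : Submodule R M) := Submodule.smul_sup _ _ _
        _ ≤ N ⊔ (I ^ (j + 1) • ⊤ : Submodule R M) := by
            refine sup_le_sup Submodule.smul_le_right ?_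
            rw [← Submodule.mul_smul, ← pow_succ]
  have hspan : N = ⊤ := by
    have := hstep n
    rw [hn, Submodule.zero_eq_bot, Submodule.bot_smul, sup_bot_eq] at this
    exact top_le_iff.mp this
  have hsurj : Function.Surjective φ := by
    rw [← LinearMap.range_eq_top, hφ, Finsupp.range_linearCombination]
    exact hspan
  refine ⟨?_, hspan⟩
  -- Part 1 : independence
  set K := LinearMap.ker φ with hK
  let μ : TensorProduct R I (A →₀ R) →ₗ[R] (A →₀ R) :=
    TensorProduct.lift ((LinearMap.lsmul R (A →₀ R)).comp I.subtype)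
  have hμ : ∀ (i : I) (f : A →₀ R), μ (i ⊗ₜ f) = (i : R) • f := fun i f => rfl
  have hKI : K ≤ I • K := by
    intro l hl
    have hl0 : φ l = 0 := hl
    have hlI : ∀ a, l a ∈ I := by
      intro a
      have h1 := hkey l
      rw [hl0, TensorProduct.tmul_zero] at h1
      have h2 := linearIndependent_iff.mp hli _ h1
      have h3 := DFunLike.congr_fun h2 a
      rw [Finsupp.mapRange_apply, Finsupp.zero_apply] at h3
      exact Ideal.Quotient.eq_zero_iff_mem.mp h3
    let fI : R → I := fun r => if h : r ∈ I then ⟨r, h⟩ else 0
    have hfI0 : fI 0 = 0 := by simp [fI]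
    have hfI : ∀ r, r ∈ I → ((fI r : I) : R) = r := by
      intro r hr; simp [fI, hr]
    let l' : A →₀ I := l.mapRange fI hfI0
    have hl' : ∀ a, ((l' a : I) : R) = l a := fun a => by
      rw [Finsupp.mapRange_apply]; exact hfI _ (hlI a)
    let t' : TensorProduct R I (A →₀ R) := l'.sum fun a i => i ⊗ₜ[R] Finsupp.single a (1 : R)
    have hμt : μ t' = l := by
      simp only [t', Finsupp.sum, map_sum, hμ]
      ext b
      rw [Finsupp.finsetSum_apply]
      simp only [Finsupp.smul_apply, Finsupp.single_apply, smul_eq_mul, mul_ite, mul_one, mul_zero]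
      rw [Finset.sum_ite_eq']
      split_ifs with hb
      · exact hl' b
      · have : l' b = 0 := Finsupp.notMem_support_iff.mp hb
        rw [← hl' b, this]; rfl
    have h0 : φ (μ t') = 0 := by rw [hμt]; exact hl0
    have := mem_smul_ker I htor φ hsurj t' h0
    rw [← hμt]
    exact this
  have hKpow : ∀ j : ℕ, K ≤ I ^ j • K := by
    intro j
    induction j with
    | zero => simp
    | succ j ih =>
      calc K ≤ I • K := hKI
        _ ≤ I • (I ^ j • K) := Submodule.smul_mono le_rfl ih
        _ = I ^ (j + 1) • K := by rw [← Submodule.mul_smul, ← pow_succ']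
  have hK0 : K = ⊥ := by
    have := hKpow n
    rw [hn, Submodule.zero_eq_bot, Submodule.bot_smul] at this
    exact le_bot_iff.mp this
  rw [linearIndependent_iff]
  intro l hl
  have : l ∈ K := hl
  rw [hK0] at this
  exact this

end Groth.Agent.S6351
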