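import Groth.Statements.S6353
import Mathlib

set_option autoImplicit false
universe u
open CAlg

namespace Groth.Agent.S6353

open PrimeSpectrum in
/-- Key lemma: if `V(J)` is stable under generalization then every `y ∈ J` has a power killed by an
element of `1 + J`. -/
lemma exists_pow_mul_eq_zero {R : Type u} [CommRing R] (J : Ideal R)
    (hZ : StableUnderGeneralization (zeroLocus (J : Set R))) (y : R) (hy : y ∈ J) :
    ∃ (n : ℕ) (y' : R), y' ∈ J ∧ (1 + y') * y ^ n = 0 := by
  classical
  by_contra hcon
  -- the multiplicative set `T`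
  let T : Submonoid R :=
    { carrier := {t | ∃ (n : ℕ) (y' : R), y' ∈ J ∧ t = (1 + y') * y ^ n}
      one_mem' := ⟨0, 0, J.zero_mem, by simp⟩
      mul_mem' := by
        rintro _ _ ⟨n, a, ha, rfl⟩ ⟨m, b, hb, rfl⟩
        refine ⟨n + m, a + b + a * b, ?_, by ring⟩
        exact J.add_mem (J.add_mem ha hb) (J.mul_mem_left a hb) }
  have hdisj : Disjoint ((⊥ : Ideal R) : Set R) (T : Set R) := by
    rw [Set.disjoint_left]
    rintro x hx ⟨n, y', hy', hxe⟩
    have hx0 : x = 0 := hx
    exact hcon ⟨n, y', hy', by rw [← hxe, hx0]⟩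
  obtain ⟨q, hq, -, hqT⟩ := Ideal.exists_le_prime_disjoint (⊥ : Ideal R) T hdisj
  -- `q + J` is proper
  have hne : q ⊔ J ≠ ⊤ := by
    intro htop
    have h1 : (1 : R) ∈ q ⊔ J := by rw [htop]; trivial
    obtain ⟨a, ha, j, hj, haj⟩ := Submodule.mem_sup.mp h1
    have haT : a ∈ (T : Set R) := ⟨0, -j, J.neg_mem hj, by rw [pow_zero, mul_one, ← haj]; ring⟩
    exact Set.disjoint_left.mp hqT ha haT
  obtain ⟨m, hm, hle⟩ := Ideal.exists_le_maximal _ hne
  have hmZ : (⟨m, hm.isPrime⟩ : PrimeSpectrum R) ∈ zeroLocus (J : Set R) := by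
    rw [mem_zeroLocus]
    have hJm : J ≤ m := le_trans le_sup_right hle
    exact hJm
  have hspec : (⟨q, hq⟩ : PrimeSpectrum R) ⤳ ⟨m, hm.isPrime⟩ := by
    rw [← le_iff_specializes]
    have hqm : q ≤ m := le_trans le_sup_left hle
    exact hqm
  have hqZ := hZ hspec hmZ
  rw [mem_zeroLocus] at hqZ
  have hyq : y ∈ q := hqZ hy
  have hyT : y ∈ (T : Set R) := ⟨1, 0, J.zero_mem, by simp⟩
  exact Set.disjoint_left.mp hqT hyq hyT

open PrimeSpectrum in
/-- For a commutative ring R, I ↦ V(I) is a bijection between pure ideals (R/I flat over R) and closed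
subsets of Spec R stable under generalization. Stated here as: V(I) is stable under generalization
for I pure, and every closed generalization-stable subset is V(I) for some pure I (injectivity on
pure ideals being the standard fact that pure ideals with the same zero locus coincide). -/
theorem result (R : Type u) [CommRing R] :
    (∀ I : Ideal R, I.Pure → StableUnderGeneralization (zeroLocus (I : Set R))) ∧
      ∀ Z : Set (PrimeSpectrum R), IsClosed Z → StableUnderGeneralization Z →
        ∃ I : Ideal R, I.Pure ∧ zeroLocus (I : Set R) = Z := by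
  refine ⟨?_, ?_⟩
  · intro I hI p q hqp hp
    rw [mem_zeroLocus] at hp ⊢
    intro x hx
    have := hI
    obtain ⟨y, hy, hxy⟩ := Ideal.exists_eq_mul_of_pure hx
    have h1 : x * (1 - y) = 0 := by rw [mul_sub, mul_one, ← hxy, sub_self]
    have hle : q.asIdeal ≤ p.asIdeal := (le_iff_specializes q p).mpr hqp
    have h2 : (1 - y) ∉ q.asIdeal := by
      intro h
      apply p.2.ne_top
      rw [Ideal.eq_top_iff_one]
      have := add_mem (hle h) (hp hy)
      simpa using this
    have h3 : x * (1 - y) ∈ q.asIdeal := by rw [h1]; exact zero_mem _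
    exact (q.2.mem_or_mem h3).resolve_right h2
  · intro Z hZc hZg
    have hZJ : zeroLocus (vanishingIdeal Z : Set R) = Z := by
      rw [zeroLocus_vanishingIdeal_eq_closure, hZc.closure_eq]
    have hZg' : StableUnderGeneralization (zeroLocus (vanishingIdeal Z : Set R)) := by
      rw [hZJ]; exact hZg
    have key := exists_pow_mul_eq_zero (vanishingIdeal Z) hZg'
    -- the ideal `I`
    let I : Ideal R :=
      { carrier := {x | ∃ y ∈ vanishingIdeal Z, (1 + y) * x = 0}
        zero_mem' := ⟨0, zero_mem _, by simp⟩
        add_mem' := by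
          rintro a b ⟨y, hy, hya⟩ ⟨y', hy', hyb⟩
          refine ⟨y + y' + y * y', add_mem (add_mem hy hy') (Ideal.mul_mem_left _ y hy'), ?_⟩
          have : (1 + (y + y' + y * y')) * (a + b) =
              (1 + y') * ((1 + y) * a) + (1 + y) * ((1 + y') * b) := by ring
          rw [this, hya, hyb, mul_zero, mul_zero, add_zero]
        smul_mem' := by
          rintro c a ⟨y, hy, hya⟩
          refine ⟨y, hy, ?_⟩
          rw [smul_eq_mul, mul_left_comm, hya, mul_zero] }
    have hI : ∀ x, x ∈ I ↔ ∃ y ∈ vanishingIdeal Z, (1 + y) * x = 0 := fun x => Iff.rfl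
    have hpow : ∀ y ∈ vanishingIdeal Z, ∃ n : ℕ, y ^ n ∈ I := by
      intro y hy
      obtain ⟨n, y', hy', h⟩ := key y hy
      exact ⟨n, (hI _).mpr ⟨y', hy', h⟩⟩
    refine ⟨I, ?_, ?_⟩
    · apply Ideal.Pure.of_inf_eq_mul
      intro K _
      apply le_antisymm
      · rintro x ⟨hxI, hxK⟩
        obtain ⟨y, hy, hyx⟩ := (hI x).mp hxI
        obtain ⟨n, hn⟩ := hpow y hy
        have hx : ∀ k : ℕ, x = (-y) ^ k * x := by
          intro k
          induction k with
          | zero => simp
          | succ k ih =>
            have h1 : x = -y * x := by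
              have : (1 + y) * x = x + y * x := by ring
              rw [this] at hyx
              rw [neg_mul]
              exact eq_neg_of_add_eq_zero_left hyx
            calc x = (-y) ^ k * x := ih
              _ = (-y) ^ k * (-y * x) := by rw [← h1]
              _ = (-y) ^ (k + 1) * x := by ring
        rw [hx n]
        have hmem : (-y) ^ n ∈ I := by
          rw [neg_pow]
          exact Ideal.mul_mem_left _ _ hn
        exact Ideal.mul_mem_mul hmem hxK
      · exact Ideal.mul_le_inf
    · apply Set.Subset.antisymm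
      · intro p hp
        rw [mem_zeroLocus] at hp
        rw [← hZJ, mem_zeroLocus]
        intro y hy
        obtain ⟨n, hn⟩ := hpow y hy
        exact p.2.mem_of_pow_mem n (hp hn)
      · intro p hp
        rw [mem_zeroLocus]
        intro x hx
        obtain ⟨y, hy, hyx⟩ := (hI x).mp hx
        have hyp : y ∈ p.asIdeal := by
          rw [← hZJ, mem_zeroLocus] at hp
          exact hp hy
        have h2 : (1 + y) ∉ p.asIdeal := by
          intro h
          apply p.2.ne_top
          rw [Ideal.eq_top_iff_one]
          have := sub_mem h hyp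
          simpa using this
        have h3 : (1 + y) * x ∈ p.asIdeal := by rw [hyx]; exact zero_mem _
        exact (p.2.mem_or_mem h3).resolve_left h2

end Groth.Agent.S6353
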