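import Groth.Statements.S6354
import Mathlib

set_option autoImplicit false
universe u
open CAlg

namespace Groth.Agent.S6354

open PrimeSpectrum in
/-- For an ideal I of a commutative ring R these four conditions are equivalent: (1) I is finitely
generated and pure; (2) I = (e) for some idempotent e; (3) I is pure with V(I) open in Spec R; (4)
R/I is projective as an R-module. -/
theorem result (R : Type u) [CommRing R] (I : Ideal R) :
    List.TFAE [I.Pure ∧ I.FG, ∃ e : R, IsIdempotentElem e ∧ I = Ideal.span {e},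
      I.Pure ∧ IsOpen (zeroLocus (I : Set R)), Module.Projective R (R ⧸ I)] := by
  have h12 : (I.Pure ∧ I.FG) → ∃ e : R, IsIdempotentElem e ∧ I = Ideal.span {e} := by
    rintro ⟨hp, hfg⟩
    have := hp
    exact (Ideal.isIdempotentElem_iff_of_fg I hfg).mp (Ideal.isIdempotentElem_of_pure I)
  have hfgs : ∀ e : R, (Ideal.span {e}).FG := fun e => ⟨{e}, by simp⟩
  have hpure : ∀ e : R, IsIdempotentElem e → (Ideal.span {e}).Pure := by
    intro e he
    exact Ideal.Pure.of_isIdempotentElem (hfgs e)
      ((Ideal.isIdempotentElem_iff_of_fg _ (hfgs e)).mpr ⟨e, he, rfl⟩)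
  have h21 : (∃ e : R, IsIdempotentElem e ∧ I = Ideal.span {e}) → I.Pure ∧ I.FG := by
    rintro ⟨e, he, rfl⟩
    exact ⟨hpure e he, hfgs e⟩
  have h23 : (∃ e : R, IsIdempotentElem e ∧ I = Ideal.span {e}) →
      I.Pure ∧ IsOpen (zeroLocus (I : Set R)) := by
    intro h
    refine ⟨(h21 h).1, ?_⟩
    obtain ⟨e, he, rfl⟩ := h
    rw [zeroLocus_span, zeroLocus_eq_basicOpen_of_mul_add e (1 - e)
      (by rw [mul_sub, mul_one, he.eq, sub_self]) (by ring)]
    exact (basicOpen (1 - e)).2
  have h32 : I.Pure ∧ IsOpen (zeroLocus (I : Set R)) →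
      ∃ e : R, IsIdempotentElem e ∧ I = Ideal.span {e} := by
    rintro ⟨hp, hopen⟩
    have hclopen : IsClopen (zeroLocus (I : Set R)) := ⟨isClosed_zeroLocus _, hopen⟩
    obtain ⟨e, f, hmul, hadd, hs⟩ := isClopen_iff_mul_add_zeroLocus.mp hclopen
    have he : IsIdempotentElem e := (IsIdempotentElem.of_mul_add hmul hadd).1
    refine ⟨e, he, ?_⟩
    have hpe : (Ideal.span {e}).Pure := hpure e he
    have := hp
    rw [← Ideal.zeroLocus_inj_of_pure, hs, zeroLocus_span]
  have h24 : (∃ e : R, IsIdempotentElem e ∧ I = Ideal.span {e}) →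
      Module.Projective R (R ⧸ I) := by
    rintro ⟨e, he, rfl⟩
    have hker : (Ideal.span {e} : Submodule R R) ≤ LinearMap.ker (LinearMap.mulLeft R (1 - e)) := by
      rw [Ideal.span, Submodule.span_le]
      intro x hx
      rw [Set.mem_singleton_iff] at hx
      subst hx
      rw [SetLike.mem_coe, LinearMap.mem_ker, LinearMap.mulLeft_apply, sub_mul, one_mul, he.eq,
        sub_self]
    refine Module.Projective.of_split
      (Submodule.liftQ (Ideal.span {e}) (LinearMap.mulLeft R (1 - e)) hker)
      (Submodule.mkQ (Ideal.span {e})) ?_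
    refine Submodule.linearMap_qext _ (LinearMap.ext fun x => ?_)
    simp only [LinearMap.comp_apply, Submodule.mkQ_apply, Submodule.liftQ_apply,
      LinearMap.mulLeft_apply, LinearMap.id_apply]
    rw [Submodule.Quotient.eq]
    have : (1 - e) * x - x = (-x) * e := by ring
    rw [this]
    exact Ideal.mul_mem_left _ _ (Ideal.subset_span rfl)
  have h41 : Module.Projective R (R ⧸ I) → I.Pure ∧ I.FG := by
    intro hproj
    refine ⟨inferInstance, ?_⟩
    obtain ⟨σ, hσ⟩ := Module.projective_lifting_property (Submodule.mkQ I) LinearMap.id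
      (Submodule.mkQ_surjective I)
    have hσ' : ∀ y, Submodule.mkQ I (σ y) = y := fun y => LinearMap.congr_fun hσ y
    refine ⟨{1 - σ (Submodule.Quotient.mk 1)}, ?_⟩
    rw [Finset.coe_singleton]
    apply le_antisymm
    · rw [Submodule.span_le]
      intro x hx
      rw [Set.mem_singleton_iff] at hx
      subst hx
      rw [SetLike.mem_coe, ← Submodule.Quotient.mk_eq_zero I, Submodule.Quotient.mk_sub]
      have := hσ' (Submodule.Quotient.mk 1)
      rw [Submodule.mkQ_apply] at this
      rw [this, sub_self]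
    · intro x hx
      have h0 : σ (Submodule.Quotient.mk x) = 0 := by
        rw [(Submodule.Quotient.mk_eq_zero I).mpr hx, map_zero]
      have h1 : σ (Submodule.Quotient.mk x) = x * σ (Submodule.Quotient.mk 1) := by
        have : (Submodule.Quotient.mk x : R ⧸ I) = x • Submodule.Quotient.mk 1 := by
          rw [← Submodule.Quotient.mk_smul, smul_eq_mul, mul_one]
        rw [this, map_smul, smul_eq_mul]
      have hx' : x = x * (1 - σ (Submodule.Quotient.mk 1)) := by
        rw [mul_sub, mul_one, ← h1, h0, sub_zero]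
      rw [hx']
      exact Submodule.smul_mem _ x (Submodule.subset_span rfl)
  tfae_have 1 ↔ 2 := ⟨h12, h21⟩
  tfae_have 2 ↔ 3 := ⟨h23, h32⟩
  tfae_have 2 → 4 := h24
  tfae_have 4 → 1 := h41
  tfae_finish

end Groth.Agent.S6354
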