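import Groth.Statements.S6357
import Groth.Agent.Lib.Helper12.DirLim
import Groth.Agent.Lib.Helper12.MLDominate
import Groth.Agent.Lib.Helper12.DominateFactor

set_option autoImplicit false
universe u
open CAlg

namespace Groth.Agent.S6357

/-- Given finitely presented R-modules G_i forming a directed system over a nonempty directed index set,
with transition maps f_ij and colimit M, the module M is Mittag-Leffler exactly when every index i
admits some j ≥ i for which f_ij factors through f_ik whenever k ≥ i. -/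
theorem result (R : Type u) [CommRing R] {ι : Type u}
    [Preorder ι] [IsDirected ι (· ≤ ·)] [Nonempty ι] [DecidableEq ι] (G : ι → Type u)
    [∀ i, AddCommGroup (G i)] [∀ i, Module R (G i)] [∀ i, Module.FinitePresentation R (G i)]
    (f : ∀ i j, i ≤ j → G i →ₗ[R] G j) [DirectedSystem G fun i j h => f i j h] :
    CAlg.IsMittagLeffler R (Module.DirectLimit G f) ↔
      ∀ i, ∃ (j : ι) (hij : i ≤ j), ∀ (k : ι) (hik : i ≤ k),
        ∃ h : G k →ₗ[R] G j, f i j hij = h ∘ₗ f i k hik := by
  classical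
  have hof : ∀ {i j : ι} (hij : i ≤ j),
      Module.DirectLimit.of R ι G f j ∘ₗ f i j hij = Module.DirectLimit.of R ι G f i := by
    intro i j hij
    ext x
    simp
  have hcokerfp : ∀ {P Q : Type u} [AddCommGroup P] [Module R P] [AddCommGroup Q] [Module R Q]
      [Module.Finite R P] [Module.FinitePresentation R Q] (u : P →ₗ[R] Q),
      Module.FinitePresentation R (Q ⧸ LinearMap.range u) := by
    intro P Q _ _ _ _ _ _ u
    refine Module.finitePresentation_of_surjective (LinearMap.range u).mkQ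
      (Submodule.mkQ_surjective _) ?_
    rw [Submodule.ker_mkQ, LinearMap.range_eq_map]
    exact Submodule.FG.map _ Module.Finite.fg_top
  constructor
  · intro hML i
    obtain ⟨Q, _, _, hQfp, g, hg⟩ := Groth.Agent.Helper12.dominate_of_ml R _ hML (G i)
      (Module.DirectLimit.of R ι G f i)
    -- step A
    have hA : ∀ (k : ι) (hik : i ≤ k), ∃ h : G k →ₗ[R] Q, g = h ∘ₗ f i k hik := by
      intro k hik
      have := hcokerfp (f i k hik)
      apply Groth.Agent.Helper12.factors_of_dominates (f i k hik) g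
      intro N _ _ x hx
      rw [← hg N, LinearMap.mem_ker, ← hof hik, LinearMap.rTensor_comp, LinearMap.comp_apply,
        LinearMap.mem_ker.mp hx, map_zero]
    -- step B
    have hB : ∃ h'' : Q →ₗ[R] Module.DirectLimit G f,
        Module.DirectLimit.of R ι G f i = h'' ∘ₗ g := by
      have := hcokerfp g
      apply Groth.Agent.Helper12.factors_of_dominates g (Module.DirectLimit.of R ι G f i)
      intro N _ _
      exact (hg N).ge
    obtain ⟨h'', hh''⟩ := hB
    -- step C
    obtain ⟨j₀, h', hh'⟩ := Groth.Agent.Helper12.dirLim_lift_fp f h''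
    obtain ⟨j₁, hij₁, hj₀j₁⟩ := exists_ge_ge i j₀
    have hD : Module.DirectLimit.of R ι G f j₁ ∘ₗ (f j₀ j₁ hj₀j₁ ∘ₗ h' ∘ₗ g) =
        Module.DirectLimit.of R ι G f j₁ ∘ₗ f i j₁ hij₁ := by
      rw [hof hij₁, ← LinearMap.comp_assoc, hof hj₀j₁, ← LinearMap.comp_assoc, hh', ← hh'']
    obtain ⟨j, hj₁j, hjeq⟩ := Groth.Agent.Helper12.dirLim_eq_at_stage f _ _ hD
    refine ⟨j, hij₁.trans hj₁j, fun k hik => ?_⟩
    obtain ⟨hk, hhk⟩ := hA k hik
    refine ⟨f j₁ j hj₁j ∘ₗ f j₀ j₁ hj₀j₁ ∘ₗ h' ∘ₗ hk, ?_⟩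
    rw [← Groth.Agent.Helper12.dirLim_f_comp f hij₁ hj₁j, ← hjeq]
    simp only [LinearMap.comp_assoc]
    rw [← hhk]
  · intro H ι' Qf _ _
    apply Groth.Agent.Helper12.ml_of_dominate R
    intro n φ
    obtain ⟨i, φ₀, hφ₀⟩ := Groth.Agent.Helper12.dirLim_lift_free f φ
    obtain ⟨j, hij, hj⟩ := H i
    refine ⟨G j, inferInstance, inferInstance, inferInstance, f i j hij ∘ₗ φ₀, fun N _ _ => ?_⟩
    have hφ : φ = Module.DirectLimit.of R ι G f j ∘ₗ (f i j hij ∘ₗ φ₀) := by
      rw [← LinearMap.comp_assoc, hof hij, hφ₀]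
    apply le_antisymm
    · intro x hx
      have h1 : (Module.DirectLimit.of R ι G f i).rTensor N (φ₀.rTensor N x) = 0 := by
        rw [← LinearMap.comp_apply, ← LinearMap.rTensor_comp, hφ₀]
        exact hx
      obtain ⟨k, hik, hk⟩ := Groth.Agent.Helper12.dirLim_rTensor_zero_exact f N _ h1
      obtain ⟨h, hh⟩ := hj k hik
      rw [LinearMap.mem_ker, hh, LinearMap.comp_assoc, LinearMap.rTensor_comp,
        LinearMap.comp_apply, LinearMap.rTensor_comp, LinearMap.comp_apply, hk, map_zero]
    · intro x hx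
      rw [LinearMap.mem_ker, hφ, LinearMap.rTensor_comp, LinearMap.comp_apply,
        LinearMap.mem_ker.mp hx, map_zero]

end Groth.Agent.S6357
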