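import Groth.Statements.S6359
import Groth.Agent.Lib.Helper12.DominateFactor

set_option autoImplicit false
universe u
open CAlg

namespace Groth.Agent.S6359

/-- Let f : M → N and g : M → M' be maps of R-modules such that the cokernel of f is finitely presented.
Then g dominates f (for every module Q the kernel of f ⊗ id_Q is contained in the kernel of g ⊗
id_Q) if and only if g factors through f. -/
theorem result (R : Type u) [CommRing R] {M N M' : Type u}
    [AddCommGroup M] [Module R M] [AddCommGroup N] [Module R N] [AddCommGroup M'] [Module R M']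
    (f : M →ₗ[R] N) (g : M →ₗ[R] M') [Module.FinitePresentation R (N ⧸ LinearMap.range f)] :
    (∀ (Q : Type u) [AddCommGroup Q] [Module R Q], LinearMap.ker (f.rTensor Q) ≤ LinearMap.ker (g.rTensor Q)) ↔
      ∃ h : N →ₗ[R] M', g = h ∘ₗ f := by
  constructor
  · intro h
    exact Groth.Agent.Helper12.factors_of_dominates f g h
  · rintro ⟨h, rfl⟩ Q _ _ x hx
    rw [LinearMap.mem_ker, LinearMap.rTensor_comp, LinearMap.comp_apply, LinearMap.mem_ker.mp hx,
      map_zero]

end Groth.Agent.S6359
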