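import Groth.Statements.S6362
import Mathlib
import Mathlib

set_option autoImplicit false
universe u
open scoped TensorProduct
open Fields

namespace Groth.Agent.S6362

/-- Let K/F be a finite separable extension and L/F an extension with L algebraically closed. Then the
L-algebra map K ⊗_F L → ∏_σ L, indexed by the F-algebra maps σ : K → L and sending a ⊗ b to (σ(a)
b)_σ, is an isomorphism; stated as bijectivity of that map. -/
theorem result {F K L : Type u} [Field F] [Field K] [Field L]
    [Algebra F K] [Algebra F L] [FiniteDimensional F K] [Algebra.IsSeparable F K] [IsAlgClosed L] :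
    Function.Bijective (fun x : K ⊗[F] L => fun σ : K →ₐ[F] L =>
      Algebra.TensorProduct.lift σ (AlgHom.id F L) (fun a b => Commute.all (σ a) b) x) := by
  classical
  haveI : Finite (K →ₐ[F] L) := inferInstance
  haveI := Fintype.ofFinite (K →ₐ[F] L)
  let Ψ : L ⊗[F] K →ₗ[L] ((K →ₐ[F] L) → L) :=
    LinearMap.pi (fun σ => (Algebra.TensorProduct.lift (AlgHom.id L L) σ
      (fun a b => Commute.all _ _)).toLinearMap)
  have hΨ : ∀ (l : L) (a : K) (σ : K →ₐ[F] L), Ψ (l ⊗ₜ a) σ = l * σ a := by
    intro l a σ; simp [Ψ]
  have hsurj : Function.Surjective Ψ := by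
    rw [← LinearMap.range_eq_top]
    by_contra hne
    obtain ⟨c, hc0, hc⟩ := Submodule.exists_le_ker_of_lt_top _ (lt_top_iff_ne_top.mpr hne)
    apply hc0
    have hdep : ∑ σ : K →ₐ[F] L, c (fun τ => if σ = τ then 1 else 0) • σ.toLinearMap = 0 := by
      ext a
      have h1 : c (Ψ (1 ⊗ₜ a)) = 0 := hc ⟨_, rfl⟩
      rw [LinearMap.pi_apply_eq_sum_univ] at h1
      simp only [hΨ, one_mul] at h1
      simp only [LinearMap.sum_apply, LinearMap.smul_apply, AlgHom.toLinearMap_apply,
        LinearMap.zero_apply, smul_eq_mul]
      refine (Finset.sum_congr rfl (fun σ _ => ?_)).trans h1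
      rw [smul_eq_mul, mul_comm]
    have hli := linearIndependent_algHom_toLinearMap F K L
    have hz := Fintype.linearIndependent_iff.mp hli _ hdep
    refine LinearMap.ext (fun v => ?_)
    rw [LinearMap.pi_apply_eq_sum_univ]
    simp [hz]
  have hfin : Module.finrank L (L ⊗[F] K) = Module.finrank L ((K →ₐ[F] L) → L) := by
    rw [Module.finrank_baseChange, Module.finrank_fintype_fun_eq_card,
      ← Field.finSepDegree_eq_finrank_of_isSeparable F K,
      Field.finSepDegree_eq_of_isAlgClosed F K L, Nat.card_eq_fintype_card]
  have hinj : Function.Injective Ψ :=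
    (LinearMap.injective_iff_surjective_of_finrank_eq_finrank hfin).mpr hsurj
  have key : (fun x : K ⊗[F] L => fun σ : K →ₐ[F] L =>
      Algebra.TensorProduct.lift σ (AlgHom.id F L) (fun a b => Commute.all (σ a) b) x) =
      Ψ ∘ (Algebra.TensorProduct.comm F K L) := by
    funext x σ
    induction x using TensorProduct.induction_on with
    | zero => simp
    | tmul a b => simp [hΨ, mul_comm]
    | add x y hx hy =>
      simp only [map_add, Function.comp_apply, Pi.add_apply] at *
      rw [hx, hy]
  rw [key]
  exact ⟨hinj.comp (Algebra.TensorProduct.comm F K L).injective,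
    hsurj.comp (Algebra.TensorProduct.comm F K L).surjective⟩

end Groth.Agent.S6362
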