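import Groth.Statements.S6363
import Mathlib
import Mathlib

set_option autoImplicit false
universe u
open scoped TensorProduct
open Fields

namespace Groth.Agent.S6363

/-- For a finite field extension L/K and a normal closure M of L/K, some K-algebra homomorphism from the
n-fold tensor power L ⊗_K ⋯ ⊗_K L to M is surjective, where n = [L : K]_s is the separable degree
(so n ≤ [L : K]). -/
theorem result {K L M : Type u} [Field K] [Field L] [Field M]
    [Algebra K L] [Algebra K M] [Algebra L M] [IsScalarTower K L M] [FiniteDimensional K L]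
    [IsNormalClosure K L M] :
    ∃ f : (⨂[K] _ : Fin (Field.finSepDegree K L), L) →ₐ[K] M, Function.Surjective f := by
  classical
  have h : IsNormalClosure K L M := inferInstance
  have hnorm : Normal K M := IsNormalClosure.normal (F := K) (K := L) (L := M)
  have halg : Algebra.IsAlgebraic K M := hnorm.toIsAlgebraic
  obtain ⟨hsplits, htop⟩ :=
    (Algebra.IsAlgebraic.isNormalClosure_iff (F := K) (K := L) (L := M)).mp h
  have hcard : Field.finSepDegree K L = Nat.card (L →ₐ[K] M) :=
    Field.finSepDegree_eq_of_adjoin_splits K L M (S := Set.univ)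
      (IntermediateField.adjoin_univ K L)
      (fun s _ => ⟨Algebra.IsIntegral.isIntegral s, hsplits s⟩)
  haveI : Finite (L →ₐ[K] M) := inferInstance
  let e : Fin (Field.finSepDegree K L) ≃ (L →ₐ[K] M) :=
    (Finite.equivFinOfCardEq hcard.symm).symm
  let mm : MultilinearMap K (fun _ : Fin (Field.finSepDegree K L) => L) M :=
    (MultilinearMap.mkPiAlgebra K (Fin (Field.finSepDegree K L)) M).compLinearMap
      (fun i => (e i).toLinearMap)
  have mm_apply : ∀ x, mm x = ∏ i, e i (x i) := fun x => by
    simp [mm, MultilinearMap.compLinearMap_apply, MultilinearMap.mkPiAlgebra_apply]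
  let f : (⨂[K] _ : Fin (Field.finSepDegree K L), L) →ₐ[K] M :=
    PiTensorProduct.liftAlgHom mm (by rw [mm_apply]; simp)
      (by intro x y; simp only [mm_apply, Pi.mul_apply, map_mul, Finset.prod_mul_distrib])
  refine ⟨f, ?_⟩
  have hsingle : ∀ i (a : L), f (PiTensorProduct.singleAlgHom i a) = e i a := by
    intro i a
    have : f (PiTensorProduct.singleAlgHom i a) = mm (MonoidHom.mulSingle _ i a) := by
      simp [f, PiTensorProduct.singleAlgHom_apply, PiTensorProduct.liftAlgHom_apply]
    rw [this, mm_apply, Finset.prod_eq_single i]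
    · simp
    · intro j _ hj
      simp [MonoidHom.mulSingle_apply, Pi.mulSingle_eq_of_ne hj]
    · simp
  rw [← AlgHom.range_eq_top]
  have hle : (⊤ : IntermediateField K M) ≤ subalgebraEquivIntermediateField f.range := by
    rw [← htop, normalClosure_le_iff]
    intro τ
    rintro _ ⟨a, rfl⟩
    rw [mem_subalgebraEquivIntermediateField]
    refine ⟨PiTensorProduct.singleAlgHom (e.symm τ) a, ?_⟩
    show f (PiTensorProduct.singleAlgHom (e.symm τ) a) = τ a
    rw [hsingle, Equiv.apply_symm_apply]
  rw [eq_top_iff]
  intro x _
  have := hle (IntermediateField.mem_top (x := x))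
  rwa [mem_subalgebraEquivIntermediateField] at this

end Groth.Agent.S6363
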