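import Groth.Statements.S6364
import Groth.Agent.Lib.Helper12.Charpoly

set_option autoImplicit false
universe u
open Fields

namespace Groth.Agent.S6364

open IntermediateField in
/-- Let L/K be a finite extension and a ∈ L with minimal polynomial P over K. Then P ^ e, with e = [L :
K(a)], is the characteristic polynomial of multiplication by a (the K-linear map x ↦ a x on L), and
e · deg P = [L : K]. -/
theorem result {K L : Type u} [Field K] [Field L] [Algebra K L] [FiniteDimensional K L]
    (a : L) :
    (Algebra.lmul K L a).charpoly = minpoly K a ^ Module.finrank K⟮a⟯ L ∧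
      Module.finrank K⟮a⟯ L * (minpoly K a).natDegree = Module.finrank K L := by
  classical
  have hint : IsIntegral K a := Algebra.IsIntegral.isIntegral a
  let pb : PowerBasis K K⟮a⟯ := IntermediateField.adjoin.powerBasis hint
  let c := Module.finBasis K⟮a⟯ L
  constructor
  · have h1 : Algebra.lmul K L a =
        ((AdjoinSimple.gen K a) • (LinearMap.id : L →ₗ[K⟮a⟯] L)).restrictScalars K := by
      ext x
      simp [Algebra.smul_def]
    rw [h1, ← LinearMap.charpoly_toMatrix _ (pb.basis.smulTower' c),
      LinearMap.restrictScalars_toMatrix]
    have h2 : LinearMap.toMatrix c c ((AdjoinSimple.gen K a) • (LinearMap.id : L →ₗ[K⟮a⟯] L)) =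
        Matrix.diagonal fun _ => AdjoinSimple.gen K a := by
      rw [map_smul, LinearMap.toMatrix_id, Matrix.smul_one_eq_diagonal]
    rw [h2, Matrix.diagonal_map (map_zero _), Groth.Agent.Helper12.charpoly_comp_diagonal]
    have h3 : (Algebra.leftMulMatrix pb.basis (AdjoinSimple.gen K a)).charpoly = minpoly K a := by
      have := charpoly_leftMulMatrix pb
      rw [IntermediateField.adjoin.powerBasis_gen] at this
      rw [this, IntermediateField.minpoly_gen]
    rw [h3, Fintype.card_fin]
  · rw [← IntermediateField.adjoin.finrank hint, mul_comm, Module.finrank_mul_finrank]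

end Groth.Agent.S6364
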