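import Groth.Statements.S6367
import Groth.Agent.Lib.Helper12.Coherent

set_option autoImplicit false
universe u
open CAlg

namespace Groth.Agent.S6367

/-- Let 0 → M₁ → M₂ → M₃ → 0 be a short exact sequence of R-modules (f injective, g surjective, image of
f = kernel of g). If M₁ and M₃ are coherent — finitely generated with every finitely generated
submodule finitely presented — then so is M₂. -/
theorem result (R : Type u) [CommRing R] {M₁ M₂ M₃ : Type u}
    [AddCommGroup M₁] [Module R M₁] [AddCommGroup M₂] [Module R M₂] [AddCommGroup M₃] [Module R M₃]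
    (f : M₁ →ₗ[R] M₂) (g : M₂ →ₗ[R] M₃) (hf : Function.Injective f) (hg : Function.Surjective g)
    (hfg : LinearMap.range f = LinearMap.ker g)
    (h₁ : (Module.Finite R M₁ ∧ ∀ N : Submodule R M₁, N.FG → Module.FinitePresentation R N))
    (h₃ : (Module.Finite R M₃ ∧ ∀ N : Submodule R M₃, N.FG → Module.FinitePresentation R N)) :
    (Module.Finite R M₂ ∧ ∀ N : Submodule R M₂, N.FG → Module.FinitePresentation R N) := by
  have hc1 : Groth.Agent.Helper12.Coh R M₁ := Groth.Agent.Helper12.coh_of_submodules h₁.2
  have hc3 : Groth.Agent.Helper12.Coh R M₃ := Groth.Agent.Helper12.coh_of_submodules h₃.2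
  have hmem : ∀ y : LinearMap.ker g, ∃ x : M₁, f x = y.1 := by
    intro y
    have : y.1 ∈ LinearMap.range f := by rw [hfg]; exact y.2
    exact this
  have hck : Groth.Agent.Helper12.Coh R (LinearMap.ker g) := by
    have hmem' : ∀ x : M₁, f x ∈ LinearMap.ker g := fun x => by
      rw [← hfg]; exact ⟨x, rfl⟩
    set e : M₁ →ₗ[R] LinearMap.ker g := f.codRestrict (LinearMap.ker g) hmem' with he
    have hebij : Function.Bijective e := by
      constructor
      · intro a b hab
        exact hf (congrArg Subtype.val hab)
      · intro y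
        obtain ⟨x, hx⟩ := hmem y
        exact ⟨x, Subtype.ext hx⟩
    exact Groth.Agent.Helper12.coh_of_injective (LinearEquiv.ofBijective e hebij).symm.toLinearMap
      (LinearEquiv.ofBijective e hebij).symm.injective hc1
  have hc2 : Groth.Agent.Helper12.Coh R M₂ := Groth.Agent.Helper12.coh_ext' g hck hc3
  refine ⟨?_, fun N hN => hc2.submodule N hN⟩
  have h1 := h₁.1
  have h3 := h₃.1
  rw [Module.finite_def]
  apply Submodule.fg_of_fg_map_of_fg_inf_ker g
  · rw [Submodule.map_top, LinearMap.range_eq_top.mpr hg]; exact Module.Finite.fg_top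
  · rw [top_inf_eq, ← hfg, LinearMap.range_eq_map]
    exact Submodule.FG.map _ Module.Finite.fg_top

end Groth.Agent.S6367
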