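import Groth.Statements.S6368
import Mathlib

set_option autoImplicit false
universe u
open scoped TensorProduct
open CAlg

namespace Groth.Agent.S6368

/-- Let R → S be faithfully flat and M an R-module. If the S-module S ⊗_R M is countably generated then
M is countably generated. -/
theorem result (R S : Type u) [CommRing R] [CommRing S] [Algebra R S]
    [Module.FaithfullyFlat R S] (M : Type u) [AddCommGroup M] [Module R M]
    (h : CAlg.IsCountablyGenerated S (S ⊗[R] M)) : CAlg.IsCountablyGenerated R M := by
  classical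
  obtain ⟨s, hs, hspan⟩ := h
  have hfin : ∀ t : S ⊗[R] M, ∃ F : Finset M,
      t ∈ Submodule.span S ((TensorProduct.mk R S M 1) '' (F : Set M)) := by
    intro t
    induction t using TensorProduct.induction_on with
    | zero => exact ⟨∅, Submodule.zero_mem _⟩
    | tmul a m =>
      refine ⟨{m}, ?_⟩
      have : a ⊗ₜ[R] m = a • ((1 : S) ⊗ₜ[R] m) := by
        rw [TensorProduct.smul_tmul', smul_eq_mul, mul_one]
      rw [this]
      refine Submodule.smul_mem _ _ (Submodule.subset_span ⟨m, by simp, rfl⟩)
    | add x y hx hy =>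
      obtain ⟨F, hF⟩ := hx
      obtain ⟨G, hG⟩ := hy
      refine ⟨F ∪ G, Submodule.add_mem _ ?_ ?_⟩
      · exact Submodule.span_mono (Set.image_mono (by simp)) hF
      · exact Submodule.span_mono (Set.image_mono (by simp)) hG
  choose F hF using hfin
  set T : Set M := ⋃ t ∈ s, (F t : Set M) with hT
  have hTc : T.Countable := hs.biUnion fun t _ => (F t).countable_toSet
  refine ⟨T, hTc, ?_⟩
  set N : Submodule R M := Submodule.span R T with hN
  set φ : S ⊗[R] M →ₗ[S] S ⊗[R] (M ⧸ N) := (N.mkQ).baseChange S with hφ
  have hker : ∀ t ∈ s, φ t = 0 := by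
    intro t ht
    have hle : Submodule.span S ((TensorProduct.mk R S M 1) '' (F t : Set M)) ≤ LinearMap.ker φ := by
      rw [Submodule.span_le]
      rintro _ ⟨m, hm, rfl⟩
      have hmN : m ∈ N := Submodule.subset_span (Set.mem_biUnion ht hm)
      show φ ((1 : S) ⊗ₜ[R] m) = 0
      rw [hφ, LinearMap.baseChange_tmul, Submodule.mkQ_apply,
        (Submodule.Quotient.mk_eq_zero N).mpr hmN, TensorProduct.tmul_zero]
    exact hle (hF t)
  have hφ0 : ∀ x, φ x = 0 := by
    intro x
    have hx : x ∈ Submodule.span S s := by rw [hspan]; trivial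
    have hle : Submodule.span S s ≤ LinearMap.ker φ := by
      rw [Submodule.span_le]
      exact fun t ht => hker t ht
    exact hle hx
  have hsub : Subsingleton (S ⊗[R] (M ⧸ N)) := by
    refine ⟨fun x y => ?_⟩
    suffices h0 : ∀ z : S ⊗[R] (M ⧸ N), z = 0 by rw [h0 x, h0 y]
    intro z
    induction z using TensorProduct.induction_on with
    | zero => rfl
    | tmul a q =>
      obtain ⟨m, rfl⟩ := N.mkQ_surjective q
      have := hφ0 (a ⊗ₜ[R] m)
      rwa [hφ, LinearMap.baseChange_tmul] at this
    | add x y hx hy => rw [hx, hy, add_zero]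
  have hsub' : Subsingleton (M ⧸ N) := Module.FaithfullyFlat.lTensor_reflects_triviality R S (M ⧸ N)
  exact Submodule.Quotient.subsingleton_iff.mp hsub'

end Groth.Agent.S6368
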