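import Groth.Statements.S6371
import Mathlib

set_option autoImplicit false
universe u
open CAlg

namespace Groth.Agent.S6371

open CategoryTheory TensorProduct in
/-- A ring map R → S is an epimorphism of rings if and only if for every prime p of R the localized map
R_p → S_p is an epimorphism, where S_p is S localized at the image of R ∖ p. -/
theorem result (R S : Type u) [CommRing R] [CommRing S] [Algebra R S] :
    Algebra.IsEpi R S ↔ ∀ (p : Ideal R) [p.IsPrime],
      Algebra.IsEpi (Localization.AtPrime p) (Localization (Algebra.algebraMapSubmonoid S p.primeCompl)) := by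
  constructor
  · intro h p _
    haveI : Algebra.IsPushout R S (Localization.AtPrime p)
        (Localization (Algebra.algebraMapSubmonoid S p.primeCompl)) :=
      Algebra.isPushout_of_isLocalization p.primeCompl (Localization.AtPrime p) S
        (Localization (Algebra.algebraMapSubmonoid S p.primeCompl))
    have hpo := CommRingCat.isPushout_of_isPushout R S (Localization.AtPrime p)
        (Localization (Algebra.algebraMapSubmonoid S p.primeCompl))
    have hepi : Epi (CommRingCat.ofHom (algebraMap R S)) := CommRingCat.epi_iff_epi.mpr h
    have := hpo.epi_inr_of_epi hepi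
    exact CommRingCat.epi_iff_epi.mp this
  · intro h
    rw [Algebra.isEpi_iff_forall_one_tmul_eq]
    intro s
    rw [← sub_eq_zero]
    set x : S ⊗[R] S := (1 : S) ⊗ₜ[R] s - s ⊗ₜ[R] (1 : S) with hxdef
    by_contra hx
    let I : Ideal R := LinearMap.ker (LinearMap.toSpanSingleton R (S ⊗[R] S) x)
    have hI : I ≠ ⊤ := by
      intro htop
      have h1 : (1 : R) ∈ I := htop ▸ Submodule.mem_top
      rw [LinearMap.mem_ker, LinearMap.toSpanSingleton_apply, one_smul] at h1
      exact hx h1
    obtain ⟨m, hm, hIm⟩ := Ideal.exists_le_maximal I hI
    haveI := hm.isPrime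
    let Sp := Localization (Algebra.algebraMapSubmonoid S m.primeCompl)
    let f : S →ₗ[R] Sp := (IsScalarTower.toAlgHom R S Sp).toLinearMap
    have hfx : TensorProduct.map f f x = 0 := by
      have key := (Algebra.isEpi_iff_forall_one_tmul_eq _ _).mp (h m) (algebraMap S Sp s)
      have key' := congrArg
        (IsLocalization.moduleTensorEquiv m.primeCompl (Localization.AtPrime m) Sp Sp) key
      simp only [hxdef, map_sub, TensorProduct.map_tmul, f]
      rw [sub_eq_zero]
      have e1 : (IsScalarTower.toAlgHom R S Sp).toLinearMap 1 = 1 := by simp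
      have e2 : (IsScalarTower.toAlgHom R S Sp).toLinearMap s = algebraMap S Sp s := rfl
      rw [e1, e2]
      exact key'
    obtain ⟨c, hc⟩ := (IsLocalizedModule.eq_zero_iff m.primeCompl (TensorProduct.map f f)).mp hfx
    apply c.2
    apply hIm
    rw [LinearMap.mem_ker, LinearMap.toSpanSingleton_apply]
    exact hc

end Groth.Agent.S6371
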