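import Groth.Statements.S6372
import Mathlib.Algebra.Algebra.Epi
import Mathlib.RingTheory.Flat.FaithfullyFlat.Algebra

set_option autoImplicit false
universe u
open CAlg

namespace Groth.Agent.S6372

open TensorProduct in
/-- A faithfully flat epimorphism of rings is an isomorphism: if R → S is faithfully flat and an
epimorphism in the category of rings then it is bijective. -/
theorem result (R S : Type u) [CommRing R] [CommRing S] [Algebra R S]
    [Module.FaithfullyFlat R S] [Algebra.IsEpi R S] : Function.Bijective (algebraMap R S) := by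
  refine ⟨FaithfulSMul.algebraMap_injective R S, ?_⟩
  -- surjectivity: check after tensoring with `S`
  have h1 : Function.Surjective ((Algebra.linearMap R S).lTensor S) := by
    intro x
    induction x using TensorProduct.induction_on with
    | zero => exact ⟨0, by simp⟩
    | tmul a b =>
      refine ⟨(a * b) ⊗ₜ[R] (1 : R), ?_⟩
      have hb : (1 : S) ⊗ₜ[R] b = b ⊗ₜ[R] (1 : S) :=
        (Algebra.isEpi_iff_forall_one_tmul_eq R S).mp inferInstance b
      calc (Algebra.linearMap R S).lTensor S ((a * b) ⊗ₜ[R] (1 : R))
          = (a * b) ⊗ₜ[R] (1 : S) := by simp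
        _ = a • (b ⊗ₜ[R] (1 : S)) := by rw [TensorProduct.smul_tmul', smul_eq_mul]
        _ = a • ((1 : S) ⊗ₜ[R] b) := by rw [hb]
        _ = a ⊗ₜ[R] b := by rw [TensorProduct.smul_tmul', smul_eq_mul, mul_one]
    | add x y hx hy =>
      obtain ⟨x', rfl⟩ := hx
      obtain ⟨y', rfl⟩ := hy
      exact ⟨x' + y', map_add _ _ _⟩
  have h2 : Function.Surjective (Algebra.linearMap R S) :=
    (Module.FaithfullyFlat.lTensor_surjective_iff_surjective R S _).mp h1
  exact h2

end Groth.Agent.S6372
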