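import Groth.Statements.S6378
import Mathlib
import Groth.Agent.H13.TorNil

set_option autoImplicit false
universe u
open CategoryTheory
open CAlg

namespace Groth.Agent.S6378

open TensorProduct in
theorem exists_pow_torsion (R : Type u) [CommRing R] [IsLocalRing R] (N : Type u) [AddCommGroup N]
    [Module R N] (hN : IsFiniteLength R N) :
    ∃ m : ℕ, ∀ a : R, a ∈ IsLocalRing.maximalIdeal R ^ m → ∀ x : N, a • x = 0 := by
  induction hN with
  | of_subsingleton => exact ⟨0, fun a _ x => Subsingleton.elim _ _⟩
  | @of_simple_quotient N _ _ N' hsimple hN' ih =>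
    obtain ⟨m, hm⟩ := ih
    refine ⟨m + 1, fun a ha x => ?_⟩
    rw [pow_succ] at ha
    refine Submodule.mul_induction_on (C := fun a => a • x = 0) ha ?_ ?_
    · intro b hb c hc
      have hcx : c • x ∈ N' := by
        obtain ⟨I, hI, ⟨e⟩⟩ := isSimpleModule_iff_quot_maximal.1 hsimple
        have hIm : I = IsLocalRing.maximalIdeal R := IsLocalRing.eq_maximalIdeal hI
        have h0 : c • (Submodule.Quotient.mk x : N ⧸ N') = 0 := by
          apply e.injective
          rw [map_smul, map_zero, Algebra.smul_def, Ideal.Quotient.algebraMap_eq,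
            Ideal.Quotient.eq_zero_iff_mem.2 (hIm ▸ hc), zero_mul]
        rw [← Submodule.Quotient.mk_smul] at h0
        exact (Submodule.Quotient.mk_eq_zero N').1 h0
      have := hm b hb ⟨c • x, hcx⟩
      have h2 : b • (c • x) = 0 := congrArg Subtype.val this
      show (b * c) • x = 0
      rw [mul_smul]; exact h2
    · intro y z hy hz
      show (y + z) • x = 0
      rw [add_smul, hy, hz, add_zero]

/-- Let (R, m, κ) be a local ring and M an R-module with Tor_1^R(κ, M) = 0. Then Tor_1^R(N, M) = 0 for
every finite length R-module N. -/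
theorem result (R : Type u) [CommRing R] [IsLocalRing R]
    (M : Type u) [AddCommGroup M] [Module R M]
    (h : Limits.IsZero (((CategoryTheory.Tor (ModuleCat.{u} R) 1).obj (ModuleCat.of R (IsLocalRing.ResidueField R))).obj (ModuleCat.of R M)))
    (N : Type u) [AddCommGroup N] [Module R N] (hN : IsFiniteLength R N) :
    Limits.IsZero (((CategoryTheory.Tor (ModuleCat.{u} R) 1).obj (ModuleCat.of R N)).obj (ModuleCat.of R M)) := by
  obtain ⟨m, hm⟩ := exists_pow_torsion R N hN
  have : Module.Flat (R ⧸ IsLocalRing.maximalIdeal R)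
      (TensorProduct R (R ⧸ IsLocalRing.maximalIdeal R) M) := by
    letI : Field (R ⧸ IsLocalRing.maximalIdeal R) := Ideal.Quotient.field _
    infer_instance
  exact Groth.Agent.H13.TorNil.main R (IsLocalRing.maximalIdeal R) M h N m hm

end Groth.Agent.S6378
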