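import Groth.Statements.S6379
import Groth.Agent.Lib.Helper12.TensorPi

set_option autoImplicit false
universe u
open scoped TensorProduct
open CAlg

namespace Groth.Agent.S6379

/-- Let M be a flat Mittag-Leffler module over a commutative ring R, F an R-module and x ∈ F ⊗_R M. Then
among the submodules F' of F with x in the image of F' ⊗ M → F ⊗ M there is a smallest one, and it
is a finitely generated module. -/
theorem result (R : Type u) [CommRing R] (M : Type u)
    [AddCommGroup M] [Module R M] [Module.Flat R M] (hM : CAlg.IsMittagLeffler R M)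
    (F : Type u) [AddCommGroup F] [Module R F] (x : F ⊗[R] M) :
    ∃ F' : Submodule R F, F'.FG ∧ x ∈ LinearMap.range (F'.subtype.rTensor M) ∧
      ∀ F'' : Submodule R F, x ∈ LinearMap.range (F''.subtype.rTensor M) → F' ≤ F'' := by
  classical
  let 𝒮 : Set (Submodule R F) := {F'' | x ∈ LinearMap.range (F''.subtype.rTensor M)}
  let F' : Submodule R F := sInf 𝒮
  let π : F →ₗ[R] (∀ α : 𝒮, F ⧸ α.1) := LinearMap.pi fun α => α.1.mkQ
  have hex : Function.Exact F'.subtype π := by
    intro y
    constructor
    · intro hy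
      have hmem : y ∈ F' := by
        rw [Submodule.mem_sInf]
        intro α hα
        have := congrFun hy ⟨α, hα⟩
        exact (Submodule.Quotient.mk_eq_zero α).mp this
      exact ⟨⟨y, hmem⟩, rfl⟩
    · rintro ⟨⟨y, hy⟩, rfl⟩
      funext α
      exact (Submodule.Quotient.mk_eq_zero α.1).mpr ((Submodule.mem_sInf.mp hy) α.1 α.2)
  have hex' := Module.Flat.rTensor_exact M hex
  have hπx : π.rTensor M x = 0 := by
    have hinj := hM 𝒮 (fun α => F ⧸ α.1)
    have h1 : TensorProduct.piRightHom R R M (fun α : 𝒮 => F ⧸ α.1)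
        (TensorProduct.comm R _ M (π.rTensor M x)) = 0 := by
      funext α
      rw [Groth.Agent.Helper12.piRightHom_apply']
      obtain ⟨y, hy⟩ := α.2
      have h2 : TensorProduct.comm R _ M (π.rTensor M x) = π.lTensor M (TensorProduct.comm R F M x) := by
        rw [← LinearMap.comm_comp_rTensor_comp_comm_eq]
        simp
      rw [h2, ← LinearMap.comp_apply, ← LinearMap.lTensor_comp]
      have h3 : (LinearMap.proj α : (∀ α : 𝒮, F ⧸ α.1) →ₗ[R] F ⧸ α.1) ∘ₗ π = α.1.mkQ := rfl
      rw [h3, ← hy]
      have h4 : TensorProduct.comm R F M (α.1.subtype.rTensor M y) =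
          α.1.subtype.lTensor M (TensorProduct.comm R α.1 M y) := by
        rw [← LinearMap.comm_comp_rTensor_comp_comm_eq]
        simp
      rw [h4, ← LinearMap.comp_apply, ← LinearMap.lTensor_comp]
      have h5 : α.1.mkQ ∘ₗ α.1.subtype = 0 := by
        ext z
        simp
      rw [h5, LinearMap.lTensor_zero, LinearMap.zero_apply]
      rfl
    have h6 := hinj (h1.trans (map_zero _).symm)
    exact (TensorProduct.comm R _ M).injective (h6.trans (map_zero _).symm)
  have hxF' : x ∈ LinearMap.range (F'.subtype.rTensor M) := (hex' x).mp hπx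
  have hmin : ∀ F'' : Submodule R F, x ∈ LinearMap.range (F''.subtype.rTensor M) → F' ≤ F'' :=
    fun F'' h => sInf_le h
  refine ⟨F', ?_, hxF', hmin⟩
  obtain ⟨y, hy⟩ := hxF'
  obtain ⟨k, a, m, rfl⟩ := TensorProduct.exists_sum_tmul_eq y
  let F'' : Submodule R F := Submodule.span R (Set.range fun i => (a i : F))
  have hF''fg : F''.FG := Submodule.fg_span (Set.finite_range _)
  have hF''le : F'' ≤ F' := by
    rw [Submodule.span_le]
    rintro _ ⟨i, rfl⟩
    exact (a i).2
  have hF''mem : x ∈ LinearMap.range (F''.subtype.rTensor M) := by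
    refine ⟨∑ i, (⟨(a i : F), Submodule.subset_span ⟨i, rfl⟩⟩ : F'') ⊗ₜ[R] m i, ?_⟩
    rw [← hy, map_sum, map_sum]
    rfl
  have : F' = F'' := le_antisymm (hmin F'' hF''mem) hF''le
  rw [this]
  exact hF''fg

end Groth.Agent.S6379
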