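import Groth.Statements.S6381
import Mathlib

set_option autoImplicit false
universe u
open CAlg

namespace Groth.Agent.S6381


open Polynomial

section Aux

/-- The conclusion, as a predicate. -/
def Concl (R : Type u) [CommRing R] (p : Ideal R) (L : Type u) [Field L] [Algebra R L] : Prop :=
  ∃ (S : Type u) (_ : CommRing S) (_ : Algebra R S) (_ : Module.Finite R S) (_ : Module.Free R S)
      (_ : (p.map (algebraMap R S)).IsPrime)
      (e : (p.map (algebraMap R S)).ResidueField ≃+* L),
      ∀ r : R, e (algebraMap R (p.map (algebraMap R S)).ResidueField r) = algebraMap R L r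

theorem concl_intro (R : Type u) [CommRing R] (p : Ideal R) (L : Type u) [Field L] [Algebra R L]
    (S : Type u) [CommRing S] [Algebra R S] [Module.Finite R S] [Module.Free R S]
    (q : Ideal S) [hqp : q.IsPrime] (hq : q = p.map (algebraMap R S))
    (e : q.ResidueField ≃+* L)
    (he : ∀ r : R, e (algebraMap R q.ResidueField r) = algebraMap R L r) :
    Concl R p L := by
  subst hq
  exact ⟨S, inferInstance, inferInstance, inferInstance, inferInstance, hqp, e, he⟩

theorem concl_base (R : Type u) [CommRing R] (p : Ideal R) [p.IsPrime] (L : Type u) [Field L]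
    [Algebra p.ResidueField L] [Algebra R L] [IsScalarTower R p.ResidueField L]
    (hs : Function.Surjective (algebraMap p.ResidueField L)) : Concl R p L := by
  have hmap : p = p.map (algebraMap R R) := by
    rw [Algebra.algebraMap_self, Ideal.map_id]
  refine concl_intro R p L R p hmap
    (RingEquiv.ofBijective (algebraMap p.ResidueField L)
      ⟨(algebraMap p.ResidueField L).injective, hs⟩) ?_
  intro r
  show algebraMap p.ResidueField L (algebraMap R p.ResidueField r) = algebraMap R L r
  exact (IsScalarTower.algebraMap_apply R p.ResidueField L r).symm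

theorem exists_lift_data (R : Type u) [CommRing R] (p : Ideal R) [p.IsPrime] (L : Type u) [Field L]
    [Algebra p.ResidueField L] [FiniteDimensional p.ResidueField L] [Algebra R L]
    [IsScalarTower R p.ResidueField L] (α : L)
    (hα : α ∉ Set.range (algebraMap p.ResidueField L)) :
    ∃ (F : R[X]) (β : L), F.Monic ∧ β ∉ Set.range (algebraMap p.ResidueField L) ∧
      Polynomial.eval₂ (algebraMap R L) β F = 0 ∧
      ∀ r : p.ResidueField[X], r ≠ 0 → Polynomial.aeval β r = 0 → F.natDegree ≤ r.natDegree := by
  classical
  have hαint : IsIntegral p.ResidueField α := Algebra.IsIntegral.isIntegral α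
  have hfmonic : (minpoly p.ResidueField α).Monic := minpoly.monic hαint
  have hlead : (minpoly p.ResidueField α).leadingCoeff ∈
      (algebraMap (R ⧸ p) p.ResidueField).range := by
    rw [hfmonic.leadingCoeff]
    exact ⟨1, map_one _⟩
  obtain ⟨b, hbdef⟩ : ∃ b : nonZeroDivisors (R ⧸ p),
      b = IsLocalization.commonDenom (nonZeroDivisors (R ⧸ p))
        (minpoly p.ResidueField α).support (minpoly p.ResidueField α).coeff := ⟨_, rfl⟩
  have hgA : (minpoly p.ResidueField α).scaleRoots (algebraMap (R ⧸ p) p.ResidueField b) ∈
      Polynomial.lifts (algebraMap (R ⧸ p) p.ResidueField) := by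
    rw [hbdef]
    exact IsLocalization.scaleRoots_commonDenom_mem_lifts (nonZeroDivisors (R ⧸ p)) _ hlead
  obtain ⟨s, hsdef⟩ : ∃ s : p.ResidueField, s = algebraMap (R ⧸ p) p.ResidueField b := ⟨_, rfl⟩
  rw [← hsdef] at hgA
  have hs0 : s ≠ 0 := by
    rw [hsdef]
    exact (map_ne_zero_iff _ p.injective_algebraMap_quotient_residueField).mpr
      (nonZeroDivisors.ne_zero b.2)
  have hsL : algebraMap p.ResidueField L s ≠ 0 :=
    (map_ne_zero (algebraMap p.ResidueField L)).mpr hs0
  have hgmonic : ((minpoly p.ResidueField α).scaleRoots s).Monic :=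
    (Polynomial.monic_scaleRoots_iff s).mpr hfmonic
  have hglifts : (minpoly p.ResidueField α).scaleRoots s ∈
      Polynomial.lifts (algebraMap R p.ResidueField) := by
    rw [Polynomial.lifts_iff_coeff_lifts]
    intro n
    obtain ⟨a, ha⟩ := (Polynomial.lifts_iff_coeff_lifts _).mp hgA n
    obtain ⟨a', rfl⟩ := Ideal.Quotient.mk_surjective a
    refine ⟨a', ?_⟩
    rw [← ha]
    rfl
  obtain ⟨F, hFmap, hFdeg, hFmonic⟩ :=
    Polynomial.lifts_and_natDegree_eq_and_monic hglifts hgmonic
  have hkey : algebraMap p.ResidueField L s⁻¹ * (algebraMap p.ResidueField L s * α) = α := by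
    rw [map_inv₀, inv_mul_cancel_left₀ hsL]
  refine ⟨F, algebraMap p.ResidueField L s * α, hFmonic, ?_, ?_, ?_⟩
  · rintro ⟨c, hc⟩
    apply hα
    refine ⟨s⁻¹ * c, ?_⟩
    rw [map_mul, hc, hkey]
  · have h1 : Polynomial.aeval (algebraMap p.ResidueField L s * α)
        ((minpoly p.ResidueField α).scaleRoots s) = 0 :=
      Polynomial.scaleRoots_aeval_eq_zero (minpoly.aeval p.ResidueField α)
    rw [← hFmap, Polynomial.aeval_def, Polynomial.eval₂_map,
      ← IsScalarTower.algebraMap_eq R p.ResidueField L] at h1
    exact h1
  · intro r hr hr0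
    have h2 : Polynomial.aeval
        (algebraMap p.ResidueField L s⁻¹ * (algebraMap p.ResidueField L s * α))
        (r.scaleRoots s⁻¹) = 0 :=
      Polynomial.scaleRoots_aeval_eq_zero hr0
    rw [hkey] at h2
    have h3 : (minpoly p.ResidueField α).natDegree ≤ (r.scaleRoots s⁻¹).natDegree :=
      Polynomial.natDegree_le_natDegree
        (minpoly.degree_le_of_ne_zero p.ResidueField α (Polynomial.scaleRoots_ne_zero hr _) h2)
    rw [Polynomial.natDegree_scaleRoots] at h3
    rw [hFdeg, Polynomial.natDegree_scaleRoots]
    exact h3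

theorem step (R : Type u) [CommRing R] (p : Ideal R) [p.IsPrime] (L : Type u) [Field L]
    [Algebra p.ResidueField L] [FiniteDimensional p.ResidueField L] [Algebra R L]
    [IsScalarTower R p.ResidueField L]
    (F : R[X]) (β : L) (hF : F.Monic) (hβ : β ∉ Set.range (algebraMap p.ResidueField L))
    (hroot : Polynomial.eval₂ (algebraMap R L) β F = 0)
    (hmin : ∀ r : p.ResidueField[X], r ≠ 0 → Polynomial.aeval β r = 0 →
      F.natDegree ≤ r.natDegree)
    (IH : ∀ (q : Ideal (AdjoinRoot F)) [q.IsPrime] [Algebra q.ResidueField L]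
      [FiniteDimensional q.ResidueField L] [Algebra (AdjoinRoot F) L]
      [IsScalarTower (AdjoinRoot F) q.ResidueField L],
      Module.finrank q.ResidueField L < Module.finrank p.ResidueField L →
        Concl (AdjoinRoot F) q L) :
    Concl R p L := by
  classical
  have hRL : ∀ x : R, algebraMap R L x =
      algebraMap p.ResidueField L (algebraMap R p.ResidueField x) :=
    fun x => IsScalarTower.algebraMap_apply R p.ResidueField L x
  have hinjκ : Function.Injective (algebraMap p.ResidueField L) :=
    (algebraMap p.ResidueField L).injective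
  obtain ⟨ψ, hψdef⟩ : ∃ ψ : AdjoinRoot F →+* L,
      ψ = AdjoinRoot.lift (algebraMap R L) β hroot := ⟨_, rfl⟩
  have hψ_of : ∀ x : R, ψ (AdjoinRoot.of F x) = algebraMap R L x := fun x => by
    rw [hψdef]; exact AdjoinRoot.lift_of hroot
  have hψ_mk : ∀ g : R[X], ψ (AdjoinRoot.mk F g) = Polynomial.eval₂ (algebraMap R L) β g :=
    fun g => by rw [hψdef]; exact AdjoinRoot.lift_mk hroot g
  have hψ_root : ψ (AdjoinRoot.root F) = β := by
    rw [hψdef]; exact AdjoinRoot.lift_root hroot
  have hF1 : F ≠ 1 := by
    intro h1
    rw [h1, Polynomial.eval₂_one] at hroot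
    exact one_ne_zero hroot
  obtain ⟨q, hqdef⟩ : ∃ q : Ideal (AdjoinRoot F), q = RingHom.ker ψ := ⟨_, rfl⟩
  haveI hqprime : q.IsPrime := by rw [hqdef]; exact RingHom.ker_isPrime ψ
  have hmemq : ∀ x, x ∈ q ↔ ψ x = 0 := fun x => by rw [hqdef, RingHom.mem_ker]
  have hq : q = p.map (algebraMap R (AdjoinRoot F)) := by
    apply le_antisymm
    · intro x hx
      obtain ⟨g, rfl⟩ := AdjoinRoot.mk_surjective x
      rw [hmemq, hψ_mk] at hx
      have hdiv : g %ₘ F + F * (g /ₘ F) = g := Polynomial.modByMonic_add_div g F
      have hmk : AdjoinRoot.mk F (g %ₘ F) = AdjoinRoot.mk F g := by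
        have h0 := congrArg (AdjoinRoot.mk F) hdiv
        rw [map_add, map_mul, AdjoinRoot.mk_self, zero_mul, add_zero] at h0
        exact h0
      have hev : Polynomial.eval₂ (algebraMap R L) β (g %ₘ F) = 0 := by
        have h0 := congrArg (Polynomial.eval₂ (algebraMap R L) β) hdiv
        rw [Polynomial.eval₂_add, Polynomial.eval₂_mul, hroot, zero_mul, add_zero] at h0
        rw [h0]; exact hx
      have hrbar : (g %ₘ F).map (algebraMap R p.ResidueField) = 0 := by
        by_contra hne
        have hae : Polynomial.aeval β ((g %ₘ F).map (algebraMap R p.ResidueField)) = 0 := by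
          rw [Polynomial.aeval_def, Polynomial.eval₂_map,
            ← IsScalarTower.algebraMap_eq R p.ResidueField L]
          exact hev
        have h3 := hmin _ hne hae
        have h4 : ((g %ₘ F).map (algebraMap R p.ResidueField)).natDegree ≤
            (g %ₘ F).natDegree := Polynomial.natDegree_map_le
        have h5 : (g %ₘ F).natDegree < F.natDegree :=
          Polynomial.natDegree_modByMonic_lt g hF hF1
        omega
      have hcoef : ∀ n, (g %ₘ F).coeff n ∈ p := by
        intro n
        have h6 := congrArg (fun P => Polynomial.coeff P n) hrbar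
        simp only [Polynomial.coeff_map, Polynomial.coeff_zero] at h6
        exact Ideal.algebraMap_residueField_eq_zero.mp h6
      have hmemC : (g %ₘ F) ∈ p.map (Polynomial.C : R →+* R[X]) :=
        Ideal.mem_map_C_iff.mpr hcoef
      rw [← hmk]
      have h7 : AdjoinRoot.mk F (g %ₘ F) ∈
          (p.map (Polynomial.C : R →+* R[X])).map (AdjoinRoot.mk F) :=
        Ideal.mem_map_of_mem _ hmemC
      rw [Ideal.map_map] at h7
      rw [AdjoinRoot.algebraMap_eq]
      exact h7
    · rw [Ideal.map_le_iff_le_comap]
      intro x hx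
      rw [Ideal.mem_comap, hmemq]
      show ψ (AdjoinRoot.of F x) = 0
      rw [hψ_of, hRL, Ideal.algebraMap_residueField_eq_zero.mpr hx, map_zero]
  -- algebra structures
  letI algSL : Algebra (AdjoinRoot F) L := ψ.toAlgebra
  have hSL : ∀ x : AdjoinRoot F, algebraMap (AdjoinRoot F) L x = ψ x := fun x => rfl
  haveI towRSL : IsScalarTower R (AdjoinRoot F) L :=
    IsScalarTower.of_algebraMap_eq (fun x => by
      rw [hSL]
      show algebraMap R L x = ψ (AdjoinRoot.of F x)
      rw [hψ_of])
  have hunits : q.primeCompl ≤ (IsUnit.submonoid L).comap ψ := by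
    intro x hx
    show IsUnit (ψ x)
    rw [isUnit_iff_ne_zero]
    intro h0
    exact (Ideal.mem_primeCompl_iff.mp hx) ((hmemq x).mpr h0)
  have hqle : q ≤ RingHom.ker ψ := le_of_eq hqdef
  obtain ⟨ι, hιdef⟩ : ∃ ι : q.ResidueField →+* L,
      ι = Ideal.ResidueField.lift q ψ hqle hunits := ⟨_, rfl⟩
  have hι : ∀ x : AdjoinRoot F, ι (algebraMap (AdjoinRoot F) q.ResidueField x) = ψ x :=
    fun x => by rw [hιdef]; exact Ideal.ResidueField.lift_algebraMap q ψ hqle hunits x
  letI algκ'L : Algebra q.ResidueField L := ι.toAlgebra
  have hκ'L : ∀ y : q.ResidueField, algebraMap q.ResidueField L y = ι y := fun y => rfl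
  haveI towSκ'L : IsScalarTower (AdjoinRoot F) q.ResidueField L :=
    IsScalarTower.of_algebraMap_eq (fun x => by rw [hκ'L, hι, hSL])
  have hcomap : p = q.comap (algebraMap R (AdjoinRoot F)) := by
    ext x
    rw [Ideal.mem_comap, hmemq]
    show x ∈ p ↔ ψ (AdjoinRoot.of F x) = 0
    rw [hψ_of, hRL, map_eq_zero_iff _ hinjκ, Ideal.algebraMap_residueField_eq_zero]
  obtain ⟨j, hjdef⟩ : ∃ j : p.ResidueField →+* q.ResidueField,
      j = Ideal.ResidueField.map p q (algebraMap R (AdjoinRoot F)) hcomap := ⟨_, rfl⟩
  have hj : ∀ r : R, j (algebraMap R p.ResidueField r) =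
      algebraMap (AdjoinRoot F) q.ResidueField (algebraMap R (AdjoinRoot F) r) := fun r => by
    rw [hjdef]; exact Ideal.ResidueField.map_algebraMap p q _ hcomap r
  letI algκκ' : Algebra p.ResidueField q.ResidueField := j.toAlgebra
  have hκκ' : ∀ y, algebraMap p.ResidueField q.ResidueField y = j y := fun y => rfl
  haveI towκκ'L : IsScalarTower p.ResidueField q.ResidueField L := by
    apply IsScalarTower.of_algebraMap_eq'
    apply Ideal.ResidueField.ringHom_ext
    refine RingHom.ext (fun r => ?_)
    simp only [RingHom.comp_apply]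
    rw [hκ'L, hκκ', hj, hι]
    show algebraMap p.ResidueField L (algebraMap R p.ResidueField r) = ψ (AdjoinRoot.of F r)
    rw [hψ_of, hRL]
  haveI finκ'L : FiniteDimensional q.ResidueField L :=
    Module.Finite.right p.ResidueField q.ResidueField L
  have htower : Module.finrank p.ResidueField q.ResidueField * Module.finrank q.ResidueField L =
      Module.finrank p.ResidueField L :=
    Module.finrank_mul_finrank p.ResidueField q.ResidueField L
  have hposL : 0 < Module.finrank p.ResidueField L := Module.finrank_pos
  have hne1 : Module.finrank p.ResidueField q.ResidueField ≠ 1 := by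
    intro h1
    obtain ⟨c, hc⟩ := (finrank_eq_one_iff_of_nonzero' (1 : q.ResidueField) one_ne_zero).mp h1
      (algebraMap (AdjoinRoot F) q.ResidueField (AdjoinRoot.root F))
    apply hβ
    refine ⟨c, ?_⟩
    have hc' : algebraMap p.ResidueField q.ResidueField c =
        algebraMap (AdjoinRoot F) q.ResidueField (AdjoinRoot.root F) := by
      rw [Algebra.algebraMap_eq_smul_one]; exact hc
    rw [IsScalarTower.algebraMap_apply p.ResidueField q.ResidueField L, hc', hκ'L, hι, hψ_root]
  have hlt : Module.finrank q.ResidueField L < Module.finrank p.ResidueField L := by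
    have ha0 : Module.finrank p.ResidueField q.ResidueField ≠ 0 := by
      intro h0; rw [h0, zero_mul] at htower; omega
    have hb0 : Module.finrank q.ResidueField L ≠ 0 := by
      intro h0; rw [h0, mul_zero] at htower; omega
    have ha2 : 2 ≤ Module.finrank p.ResidueField q.ResidueField := by omega
    calc Module.finrank q.ResidueField L < 2 * Module.finrank q.ResidueField L := by omega
      _ ≤ Module.finrank p.ResidueField q.ResidueField * Module.finrank q.ResidueField L :=
          Nat.mul_le_mul_right _ ha2
      _ = _ := htower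
  obtain ⟨S', instS', algSS', finSS', freeSS', hq'prime, e', he'⟩ := IH q hlt
  haveI := hq'prime
  letI algRS' : Algebra R S' :=
    ((algebraMap (AdjoinRoot F) S').comp (algebraMap R (AdjoinRoot F))).toAlgebra
  haveI towRSS' : IsScalarTower R (AdjoinRoot F) S' :=
    IsScalarTower.of_algebraMap_eq (fun _ => rfl)
  haveI : Module.Finite R (AdjoinRoot F) := hF.finite_adjoinRoot
  haveI : Module.Free R (AdjoinRoot F) := hF.free_adjoinRoot
  haveI : Module.Finite R S' := Module.Finite.trans (AdjoinRoot F) S'
  haveI : Module.Free R S' := Module.Free.trans (R := R) (S := AdjoinRoot F) (M := S')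
  refine concl_intro R p L S' (q.map (algebraMap (AdjoinRoot F) S')) ?_ e' ?_
  · rw [hq, Ideal.map_map] <;> rfl
  · intro r
    have h1 : algebraMap R (q.map (algebraMap (AdjoinRoot F) S')).ResidueField r =
        algebraMap (AdjoinRoot F) (q.map (algebraMap (AdjoinRoot F) S')).ResidueField
          (algebraMap R (AdjoinRoot F) r) := by
      rw [IsScalarTower.algebraMap_apply R S' (q.map (algebraMap (AdjoinRoot F) S')).ResidueField,
        IsScalarTower.algebraMap_apply (AdjoinRoot F) S'
          (q.map (algebraMap (AdjoinRoot F) S')).ResidueField] <;> rfl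
    rw [h1, he']
    exact (IsScalarTower.algebraMap_apply R (AdjoinRoot F) L r).symm

theorem main : ∀ (n : ℕ) (R : Type u) [CommRing R] (p : Ideal R) [p.IsPrime] (L : Type u)
    [Field L] [Algebra p.ResidueField L] [FiniteDimensional p.ResidueField L] [Algebra R L]
    [IsScalarTower R p.ResidueField L], Module.finrank p.ResidueField L = n → Concl R p L := by
  intro n
  induction n using Nat.strong_induction_on with
  | _ n ih =>
    intro R _ p _ L _ _ _ _ _ hn
    by_cases hs : Function.Surjective (algebraMap p.ResidueField L)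
    · exact concl_base R p L hs
    · have hex : ∃ α : L, α ∉ Set.range (algebraMap p.ResidueField L) := by
        by_contra hcon
        push Not at hcon
        exact hs (fun x => hcon x)
      obtain ⟨α, hα⟩ := hex
      obtain ⟨F, β, hF, hβ, hroot, hmin⟩ := exists_lift_data R p L α hα
      refine step R p L F β hF hβ hroot hmin ?_
      intro q _ _ _ _ _ hlt
      exact ih _ (by rw [← hn]; exact hlt) (AdjoinRoot F) q L rfl

end Aux


/-- Let R be a ring, p ⊆ R a prime and L a finite extension of the residue field κ(p). Then one can find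
a ring map R → S, with S finite free over R, for which q = pS is a prime of S and the residue field
κ(q) is isomorphic to L over κ(p) (stated as a ring isomorphism κ(q) ≅ L compatible with the maps
from R, which determines compatibility with κ(p)). -/
theorem result (R : Type u) [CommRing R] (p : Ideal R) [p.IsPrime]
    (L : Type u) [Field L] [Algebra p.ResidueField L] [FiniteDimensional p.ResidueField L]
    [Algebra R L] [IsScalarTower R p.ResidueField L] :
    ∃ (S : Type u) (_ : CommRing S) (_ : Algebra R S) (_ : Module.Finite R S) (_ : Module.Free R S)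
      (_ : (p.map (algebraMap R S)).IsPrime)
      (e : (p.map (algebraMap R S)).ResidueField ≃+* L),
      ∀ r : R, e (algebraMap R (p.map (algebraMap R S)).ResidueField r) = algebraMap R L r := by
  have h := main (Module.finrank p.ResidueField L) R p L rfl
  exact h

end Groth.Agent.S6381
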