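import Groth.Statements.S6385
import Mathlib
import Groth.Agent.H14Lib.KrullDim

set_option autoImplicit false
universe u
open CAlg

namespace Groth.Agent.S6385

/-- Let k be a field, S a finite type k-algebra, q a prime of S and x the corresponding point of X =
Spec S. Then there is g ∈ S, g ∉ q, such that dim S_g equals dim_x X — the minimum of dim S_{g'}
over all g' ∉ q — and, writing d for this dimension, a finite injective k-algebra map from the
polynomial ring k[y_1, ..., y_d] to S_g. -/
theorem result (k S : Type u) [Field k] [CommRing S] [Algebra k S]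
    [Algebra.FiniteType k S] (q : Ideal S) [q.IsPrime] :
    ∃ (g : S) (d : ℕ), g ∉ q ∧ ringKrullDim (Localization.Away g) = d ∧
      (∀ g' : S, g' ∉ q → ringKrullDim (Localization.Away g) ≤ ringKrullDim (Localization.Away g')) ∧
      ∃ φ : MvPolynomial (Fin d) k →ₐ[k] Localization.Away g, Function.Injective φ ∧ φ.toRingHom.Finite := by
  classical
  -- each localization away from g ∉ q has natural-number dimension, realized by Noether normalization
  have key : ∀ g : S, g ∉ q → ∃ (s : ℕ) (φ : MvPolynomial (Fin s) k →ₐ[k] Localization.Away g),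
      Function.Injective φ ∧ φ.toRingHom.Finite ∧ ringKrullDim (Localization.Away g) = s := by
    intro g hg
    have hnt : Nontrivial (Localization.Away g) := by
      have hunit : IsUnit (algebraMap S (Localization.AtPrime q) g) :=
        IsLocalization.map_units (Localization.AtPrime q) (⟨g, hg⟩ : q.primeCompl)
      let ψ : Localization.Away g →+* Localization.AtPrime q :=
        IsLocalization.Away.lift g hunit
      exact ψ.domain_nontrivial
    have hft1 : Algebra.FiniteType S (Localization.Away g) :=
      IsLocalization.finiteType_of_monoid_fg (Submonoid.powers g) (Localization.Away g)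
    have hft : Algebra.FiniteType k (Localization.Away g) :=
      Algebra.FiniteType.trans (inferInstance : Algebra.FiniteType k S) hft1
    obtain ⟨s, φ, hinj, hfin⟩ := exists_finite_inj_algHom_of_fg k (Localization.Away g)
    refine ⟨s, φ, hinj, hfin, ?_⟩
    algebraize [φ.toRingHom]
    have hmf : Module.Finite (MvPolynomial (Fin s) k) (Localization.Away g) := hfin
    have hint : Algebra.IsIntegral (MvPolynomial (Fin s) k) (Localization.Away g) :=
      Algebra.IsIntegral.of_finite _ _
    have h1 := Groth.Agent.H14Lib.ringKrullDim_eq_of_isIntegral_of_injective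
      (MvPolynomial (Fin s) k) (Localization.Away g) hinj
    rw [h1, MvPolynomial.ringKrullDim_of_isNoetherianRing, ringKrullDim_eq_zero_of_field]
    simp
  let P : ℕ → Prop := fun n => ∃ g : S, g ∉ q ∧ ringKrullDim (Localization.Away g) = n
  have hP : ∃ n, P n := by
    have h1 : (1 : S) ∉ q := fun h => (inferInstance : q.IsPrime).ne_top ((Ideal.eq_top_iff_one q).mpr h)
    obtain ⟨s, _, _, _, hs⟩ := key 1 h1
    exact ⟨s, 1, h1, hs⟩
  obtain ⟨g, hg, hgd⟩ := Nat.find_spec hP
  obtain ⟨s, φ, hinj, hfin, hs⟩ := key g hg
  have hsd : s = Nat.find hP := by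
    have := hs.symm.trans hgd
    exact_mod_cast this
  subst hsd
  refine ⟨g, Nat.find hP, hg, hgd, ?_, φ, hinj, hfin⟩
  intro g' hg'
  obtain ⟨s', _, _, _, hs'⟩ := key g' hg'
  rw [hgd, hs']
  have : Nat.find hP ≤ s' := Nat.find_min' hP ⟨g', hg', hs'⟩
  exact_mod_cast this

end Groth.Agent.S6385
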