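import Mathlib
import Groth.Agent.H11.IndEtaleHens
import Groth.Statements.S6391

set_option autoImplicit false
universe u
open CAlg

namespace Groth.Agent.S6391

/-- Let R be a ring, S and S' henselian local rings which are filtered colimits of étale R-algebras, and
K a field together with R-algebra maps S → K and S' → K identifying K with the residue field of each
(surjective with kernel the maximal ideal). Then exactly one isomorphism of R-algebras S → S'
commutes with the two maps to K. -/
theorem result (R S S' K : Type u) [CommRing R]
    [CommRing S] [CommRing S'] [Field K] [HenselianLocalRing S] [HenselianLocalRing S']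
    [Algebra R S] [Algebra R S'] [Algebra R K] (hS : EtPBC.IsIndEtale R S) (hS' : EtPBC.IsIndEtale R S')
    (u : S →ₐ[R] K) (u' : S' →ₐ[R] K) (hu : Function.Surjective u) (hu' : Function.Surjective u')
    (hku : RingHom.ker u.toRingHom = IsLocalRing.maximalIdeal S)
    (hku' : RingHom.ker u'.toRingHom = IsLocalRing.maximalIdeal S') :
    ∃! e : S ≃ₐ[R] S', u'.comp (e : S →ₐ[R] S') = u := by

    obtain ⟨F, hF⟩ := Groth.Agent.H11.IndEt.exists_algHom_of_isIndEtale hS S' K u' hu' hku' u
    obtain ⟨F', hF'⟩ := Groth.Agent.H11.IndEt.exists_algHom_of_isIndEtale hS' S K u hu hku u'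
    have h1 : F'.comp F = AlgHom.id R S := by
      apply Groth.Agent.H11.IndEt.algHom_ext_of_isIndEtale hS S K u hku
      rw [← AlgHom.comp_assoc, hF', hF]
      rfl
    have h2 : F.comp F' = AlgHom.id R S' := by
      apply Groth.Agent.H11.IndEt.algHom_ext_of_isIndEtale hS' S' K u' hku'
      rw [← AlgHom.comp_assoc, hF, hF']
      rfl
    refine ⟨AlgEquiv.ofAlgHom F F' h2 h1, ?_, ?_⟩
    · ext x
      exact DFunLike.congr_fun hF x
    · intro e' he'
      have : (e' : S →ₐ[R] S') = F := by
        apply Groth.Agent.H11.IndEt.algHom_ext_of_isIndEtale hS S' K u' hku'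
        rw [he', hF]
      ext x
      exact DFunLike.congr_fun this x

end Groth.Agent.S6391
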