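import Groth.Statements.S6392
import Groth.Agent.S6357

set_option autoImplicit false
universe u
open CAlg

namespace Groth.Agent.S6392

/-- Suppose M is the colimit of finitely presented R-modules G_i along a directed system over a nonempty
directed index set (transition maps f_ij), and M is both Mittag-Leffler and countably generated.
Then some countable directed subset I' of the indices already computes M: the canonical map from the
colimit of the G_i with i ∈ I' to M is bijective. -/
theorem result (R : Type u) [CommRing R]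
    {ι : Type u} [Preorder ι] [IsDirected ι (· ≤ ·)] [Nonempty ι] [DecidableEq ι] (G : ι → Type u)
    [∀ i, AddCommGroup (G i)] [∀ i, Module R (G i)] [∀ i, Module.FinitePresentation R (G i)]
    (f : ∀ i j, i ≤ j → G i →ₗ[R] G j) [DirectedSystem G fun i j h => f i j h]
    (hML : CAlg.IsMittagLeffler R (Module.DirectLimit G f))
    (hc : CAlg.IsCountablyGenerated R (Module.DirectLimit G f)) :
    ∃ I' : Set ι, I'.Countable ∧ DirectedOn (· ≤ ·) I' ∧
      Function.Bijective (Module.DirectLimit.lift R I' (fun i : I' => G i.1)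
        (fun (i j : I') (h : i ≤ j) => f i.1 j.1 h)
        (fun i : I' => Module.DirectLimit.of R ι G f i.1)
        (fun (i j : I') (h : i ≤ j) (x : G i.1) => Module.DirectLimit.of_f)) := by
  classical
  have hfac := (Groth.Agent.S6357.result R G f).mp hML
  choose J hJ hJfac using hfac
  -- kernel stabilisation
  have hker : ∀ (i : ι) (y : G i), Module.DirectLimit.of R ι G f i y = 0 →
      f i (J i) (hJ i) y = 0 := by
    intro i y hy
    obtain ⟨k, hik, hk⟩ := Module.DirectLimit.of.zero_exact hy
    obtain ⟨h, hh⟩ := hJfac i k hik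
    rw [hh, LinearMap.comp_apply, hk, map_zero]
  obtain ⟨s, hs, hspan⟩ := hc
  have hs' : (insert (0 : Module.DirectLimit G f) s).Countable := hs.insert 0
  obtain ⟨e, he⟩ := hs'.exists_eq_range (Set.insert_nonempty _ _)
  have hidx : ∀ m : Module.DirectLimit G f, ∃ (i : ι) (y : G i),
      Module.DirectLimit.of R ι G f i y = m := fun m => Module.DirectLimit.exists_of m
  choose idx yy hyy using hidx
  let ub : ι → ι → ι := fun a b => Classical.choose (exists_ge_ge a b)
  have hub1 : ∀ a b, a ≤ ub a b := fun a b => (Classical.choose_spec (exists_ge_ge a b)).1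
  have hub2 : ∀ a b, b ≤ ub a b := fun a b => (Classical.choose_spec (exists_ge_ge a b)).2
  let i : ℕ → ι := fun n => Nat.rec (idx (e 0)) (fun n prev => ub (J prev) (idx (e (n + 1)))) n
  have hi_succ : ∀ n, i (n + 1) = ub (J (i n)) (idx (e (n + 1))) := fun n => rfl
  have hiJ : ∀ n, J (i n) ≤ i (n + 1) := fun n => by rw [hi_succ]; exact hub1 _ _
  have hi_le : ∀ n, i n ≤ i (n + 1) := fun n => (hJ (i n)).trans (hiJ n)
  have himono : Monotone i := monotone_nat_of_le_succ hi_le
  have hidx_le : ∀ n, idx (e n) ≤ i n := by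
    intro n
    cases n with
    | zero => exact le_rfl
    | succ n => rw [hi_succ]; exact hub2 _ _
  refine ⟨Set.range i, Set.countable_range i, ?_, ?_, ?_⟩
  · rintro _ ⟨a, rfl⟩ _ ⟨b, rfl⟩
    exact ⟨i (max a b), ⟨_, rfl⟩, himono (le_max_left a b), himono (le_max_right a b)⟩
  · -- injective
    haveI : Nonempty (Set.range i) := ⟨⟨i 0, ⟨0, rfl⟩⟩⟩
    haveI : IsDirected (Set.range i) (· ≤ ·) := by
      refine ⟨?_⟩
      rintro ⟨_, ⟨a, rfl⟩⟩ ⟨_, ⟨b, rfl⟩⟩
      exact ⟨⟨i (max a b), ⟨_, rfl⟩⟩, himono (le_max_left a b), himono (le_max_right a b)⟩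
    rw [injective_iff_map_eq_zero]
    intro z hz
    obtain ⟨⟨_, ⟨n, rfl⟩⟩, y, rfl⟩ := Module.DirectLimit.exists_of z
    rw [Module.DirectLimit.lift_of] at hz
    have h1 := hker (i n) y hz
    have h2 : f (i n) (i (n + 1)) (hi_le n) y = 0 := by
      rw [← Groth.Agent.Helper12.dirLim_f_f f (hJ (i n)) (hiJ n), h1, map_zero]
    have h3 := Module.DirectLimit.of_f (R := R) (ι := Set.range i) (G := fun j : Set.range i => G j.1)
      (f := fun (a b : Set.range i) (h : a ≤ b) => f a.1 b.1 h)
      (i := ⟨i n, ⟨n, rfl⟩⟩) (j := ⟨i (n + 1), ⟨n + 1, rfl⟩⟩) (hij := hi_le n) (x := y)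
    rw [← h3]
    exact (congrArg (Module.DirectLimit.of R (Set.range i) (fun j : Set.range i => G j.1)
      (fun (a b : Set.range i) (h : a ≤ b) => f a.1 b.1 h) ⟨i (n + 1), ⟨n + 1, rfl⟩⟩) h2).trans
      (map_zero _)
  · -- surjective
    rw [← LinearMap.range_eq_top, eq_top_iff, ← hspan, Submodule.span_le]
    intro m hm
    have hm' : m ∈ Set.range e := by rw [← he]; exact Set.mem_insert_of_mem _ hm
    obtain ⟨n, rfl⟩ := hm'
    refine ⟨Module.DirectLimit.of R (Set.range i) (fun j : Set.range i => G j.1)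
      (fun (a b : Set.range i) (h : a ≤ b) => f a.1 b.1 h) ⟨i n, ⟨n, rfl⟩⟩
      (f (idx (e n)) (i n) (hidx_le n) (yy (e n))), ?_⟩
    rw [Module.DirectLimit.lift_of]
    show Module.DirectLimit.of R ι G f (i n) _ = _
    rw [Module.DirectLimit.of_f, hyy]

end Groth.Agent.S6392
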