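import Groth.Statements.S6403
import Groth.Agent.H13.HomLiftComp

set_option autoImplicit false
open CategoryTheory
universe v u
open FibCat

namespace Groth.Agent.S6403

/-- For a functor `F : 𝒳 ⟶ 𝒴` of fibred categories over `C` preserving strongly cartesian morphisms, the
relative inertia `I_{𝒳/𝒴}` is a fibred category over `C`. -/
theorem result {C : Type u} [Category.{v} C] {𝒳 𝒴 : BasedCategory.{v, max u v} C} [𝒳.p.IsFibered] [𝒴.p.IsFibered] (F : 𝒳 ⥤ᵇ 𝒴) (hF : FibCat.PreservesStronglyCartesian F) :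
    (FibCat.inertia F).p.IsFibered := by
  apply Functor.IsFibered.of_exists_isStronglyCartesian
  intro X R f₀
  obtain ⟨f, hff⟩ : ∃ f : R ⟶ 𝒳.p.obj X.pt, f = f₀ := ⟨f₀, rfl⟩
  subst hff
  obtain ⟨y, φ, hφ⟩ := Functor.IsPreFibered.exists_isCartesian' (p := 𝒳.p) (a := X.pt) f
  have hsc : 𝒳.p.IsStronglyCartesian f φ := inferInstance
  -- automorphism lifts identity
  have hα : 𝒳.p.IsHomLift (𝟙 (𝒳.p.obj X.pt)) X.aut.hom := by
    rw [← BasedFunctor.isHomLift_iff F, X.map_aut]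
    infer_instance
  have hαinv : 𝒳.p.IsHomLift (𝟙 (𝒳.p.obj X.pt)) X.aut.inv := IsHomLift.lift_id_inv 𝒳.p _ X.aut
  have hu : f = 𝟙 R ≫ f := (Category.id_comp f).symm
  have l1 : 𝒳.p.IsHomLift f (φ ≫ X.aut.hom) := inferInstance
  have l2 : 𝒳.p.IsHomLift f (φ ≫ X.aut.inv) := inferInstance
  let β : y ⟶ y := Functor.IsStronglyCartesian.map 𝒳.p f φ hu (φ ≫ X.aut.hom)
  let β' : y ⟶ y := Functor.IsStronglyCartesian.map 𝒳.p f φ hu (φ ≫ X.aut.inv)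
  have hβ : 𝒳.p.IsHomLift (𝟙 R) β := inferInstance
  have hβ' : 𝒳.p.IsHomLift (𝟙 R) β' := inferInstance
  have hβfac : β ≫ φ = φ ≫ X.aut.hom := Functor.IsStronglyCartesian.fac 𝒳.p f φ hu _
  have hβ'fac : β' ≫ φ = φ ≫ X.aut.inv := Functor.IsStronglyCartesian.fac 𝒳.p f φ hu _
  have hid : 𝒳.p.IsHomLift (𝟙 R) (𝟙 y) := IsHomLift.id (IsHomLift.domain_eq 𝒳.p f φ)
  have h1 : β ≫ β' = 𝟙 y := by
    have : 𝒳.p.IsHomLift (𝟙 R) (β ≫ β') := inferInstance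
    apply Functor.IsStronglyCartesian.ext 𝒳.p f φ (𝟙 R)
    rw [Category.assoc, hβ'fac, ← Category.assoc, hβfac, Category.assoc, Iso.hom_inv_id,
      Category.comp_id, Category.id_comp]
  have h2 : β' ≫ β = 𝟙 y := by
    have : 𝒳.p.IsHomLift (𝟙 R) (β' ≫ β) := inferInstance
    apply Functor.IsStronglyCartesian.ext 𝒳.p f φ (𝟙 R)
    rw [Category.assoc, hβfac, ← Category.assoc, hβ'fac, Category.assoc, Iso.inv_hom_id,
      Category.comp_id, Category.id_comp]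
  have hFφ : 𝒴.p.IsStronglyCartesian f (F.map φ) := hF f φ hsc
  have hFβ : F.map β = 𝟙 (F.obj y) := by
    have a1 : 𝒴.p.IsHomLift (𝟙 R) (F.map β) := inferInstance
    have a2 : 𝒴.p.IsHomLift (𝟙 R) (𝟙 (F.obj y)) := by
      have : 𝒴.p.IsHomLift (𝟙 R) (F.map (𝟙 y)) := inferInstance
      rwa [F.map_id] at this
    apply Functor.IsStronglyCartesian.ext 𝒴.p f (F.map φ) (𝟙 R)
    rw [← F.map_comp, hβfac, F.map_comp, X.map_aut, Category.comp_id, Category.id_comp]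
  let Y : FibCat.InertiaObj F := ⟨y, ⟨β, β', h1, h2⟩, hFβ⟩
  let m : Y ⟶ X := ⟨φ, hβfac⟩
  refine ⟨Y, m, ?_⟩
  have hm : (FibCat.inertia F).p.IsHomLift f m :=
    (Groth.Agent.H13.isHomLift_comp_iff FibCat.InertiaObj.forget 𝒳.p f m).2 hsc.toIsHomLift
  refine { toIsHomLift := hm, universal_property' := ?_ }
  intro Z g₀ n hn
  obtain ⟨g, hgg⟩ : ∃ g : 𝒳.p.obj Z.pt ⟶ R, g = g₀ := ⟨g₀, rfl⟩
  subst hgg
  have hn' : 𝒳.p.IsHomLift (g ≫ f) n.hom :=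
    (Groth.Agent.H13.isHomLift_comp_iff FibCat.InertiaObj.forget 𝒳.p _ n).1 hn
  let χ₀ : Z.pt ⟶ y := Functor.IsStronglyCartesian.map 𝒳.p f φ (g := g) rfl n.hom
  have hχ₀ : 𝒳.p.IsHomLift g χ₀ := inferInstance
  have hχ₀fac : χ₀ ≫ φ = n.hom := Functor.IsStronglyCartesian.fac 𝒳.p f φ rfl n.hom
  have hγ : 𝒳.p.IsHomLift (𝟙 (𝒳.p.obj Z.pt)) Z.aut.hom := by
    rw [← BasedFunctor.isHomLift_iff F, Z.map_aut]
    infer_instance
  have hcomm : Z.aut.hom ≫ χ₀ = χ₀ ≫ β := by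
    have c1 : 𝒳.p.IsHomLift g (Z.aut.hom ≫ χ₀) := inferInstance
    have c2 : 𝒳.p.IsHomLift g (χ₀ ≫ β) := inferInstance
    apply Functor.IsStronglyCartesian.ext 𝒳.p f φ g
    rw [Category.assoc, Category.assoc, hχ₀fac, hβfac, ← Category.assoc, hχ₀fac, n.comm]
  refine ⟨⟨χ₀, hcomm⟩, ⟨?_, ?_⟩, ?_⟩
  · exact (Groth.Agent.H13.isHomLift_comp_iff FibCat.InertiaObj.forget 𝒳.p g _).2 hχ₀
  · exact FibCat.InertiaObj.hom_ext hχ₀fac
  · rintro χ' ⟨h1', h2'⟩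
    apply FibCat.InertiaObj.hom_ext
    have : 𝒳.p.IsHomLift g χ'.hom :=
      (Groth.Agent.H13.isHomLift_comp_iff FibCat.InertiaObj.forget 𝒳.p g χ').1 h1'
    exact Functor.IsStronglyCartesian.map_uniq 𝒳.p f φ rfl n.hom χ'.hom
      (congrArg (fun k => k.hom) h2')

end Groth.Agent.S6403
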