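import Groth.Statements.S6404
import Groth.Agent.H13.HomLiftComp

set_option autoImplicit false
open CategoryTheory
universe v u
open FibCat

namespace Groth.Agent.S6404

/-- The inertia of a category fibred in groupoids over `C` is fibred in groupoids over `C`. -/
theorem result {C : Type u} [Category.{v} C] {𝒳 : BasedCategory.{v, max u v} C} (h𝒳 : FibCat.IsFibGrpd 𝒳.p) :
    FibCat.IsFibGrpd (FibCat.inertia (FibCat.toSelf 𝒳)).p := by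
  refine ⟨?_, ?_⟩
  · intro x V f
    obtain ⟨y, φ, hφ⟩ := h𝒳.exists_lift (x := x.pt) f
    have hsc : 𝒳.p.IsStronglyCartesian (𝒳.p.map φ) φ := h𝒳.isStronglyCartesian φ
    have haut : 𝒳.p.map x.aut.hom = 𝟙 _ := x.map_aut
    have hlift : 𝒳.p.IsHomLift (𝟙 (𝒳.p.obj y) ≫ 𝒳.p.map φ) (φ ≫ x.aut.hom) := by
      apply IsHomLift.of_fac _ _ _ rfl rfl
      simp [haut]
    obtain ⟨β₀, ⟨hβ₀, hβ₀'⟩, -⟩ := hsc.universal_property' (𝟙 (𝒳.p.obj y)) (φ ≫ x.aut.hom)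
    have hβmap : 𝒳.p.map β₀ = 𝟙 _ := (IsHomLift.eq_of_isHomLift 𝒳.p (𝟙 (𝒳.p.obj y)) β₀).symm
    have hβsc : 𝒳.p.IsStronglyCartesian (𝒳.p.map β₀) β₀ := h𝒳.isStronglyCartesian β₀
    have : IsIso (𝒳.p.map β₀) := by rw [hβmap]; infer_instance
    have hβiso : IsIso β₀ := Functor.IsStronglyCartesian.isIso_of_base_isIso 𝒳.p (𝒳.p.map β₀) β₀
    let y' : FibCat.InertiaObj (FibCat.toSelf 𝒳) := ⟨y, asIso β₀, hβmap⟩
    refine ⟨y', ⟨φ, hβ₀'⟩, ?_⟩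
    exact (Groth.Agent.H13.isHomLift_comp_iff FibCat.InertiaObj.forget 𝒳.p f _).2 hφ
  · intro y x φ
    have hsc : 𝒳.p.IsStronglyCartesian (𝒳.p.map φ.hom) φ.hom := h𝒳.isStronglyCartesian φ.hom
    refine { toIsHomLift := inferInstance, universal_property' := ?_ }
    intro z g₀ ψ hψ
    obtain ⟨g, hgg⟩ : ∃ g : 𝒳.p.obj z.pt ⟶ 𝒳.p.obj y.pt, g = g₀ := ⟨g₀, rfl⟩
    subst hgg
    have hψ' : 𝒳.p.IsHomLift (g ≫ 𝒳.p.map φ.hom) ψ.hom :=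
      (Groth.Agent.H13.isHomLift_comp_iff FibCat.InertiaObj.forget 𝒳.p _ ψ).1 hψ
    obtain ⟨χ₀, ⟨hχ₀, hχ₀'⟩, huniq⟩ := hsc.universal_property' g ψ.hom
    have hzaut : 𝒳.p.map z.aut.hom = 𝟙 _ := z.map_aut
    have hyaut : 𝒳.p.map y.aut.hom = 𝟙 _ := y.map_aut
    have hcomm : z.aut.hom ≫ χ₀ = χ₀ ≫ y.aut.hom := by
      have hg : g = 𝒳.p.map χ₀ := IsHomLift.eq_of_isHomLift 𝒳.p g χ₀
      have l1 : 𝒳.p.IsHomLift g (z.aut.hom ≫ χ₀) := by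
        apply IsHomLift.of_fac _ _ _ rfl rfl
        simp [hzaut, hg]
      have l2 : 𝒳.p.IsHomLift g (χ₀ ≫ y.aut.hom) := by
        apply IsHomLift.of_fac _ _ _ rfl rfl
        simp [hyaut, hg]
      apply Functor.IsStronglyCartesian.ext 𝒳.p (𝒳.p.map φ.hom) φ.hom g
      rw [Category.assoc, Category.assoc, hχ₀', φ.comm, ← Category.assoc, hχ₀', ψ.comm]
    refine ⟨⟨χ₀, hcomm⟩, ⟨?_, ?_⟩, ?_⟩
    · exact (Groth.Agent.H13.isHomLift_comp_iff FibCat.InertiaObj.forget 𝒳.p g _).2 hχ₀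
    · exact FibCat.InertiaObj.hom_ext hχ₀'
    · rintro χ' ⟨h1, h2⟩
      apply FibCat.InertiaObj.hom_ext
      apply huniq
      exact ⟨(Groth.Agent.H13.isHomLift_comp_iff FibCat.InertiaObj.forget 𝒳.p g χ').1 h1,
        congrArg (fun k => k.hom) h2⟩

end Groth.Agent.S6404
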