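import Groth.Statements.S6405
import Groth.Agent.H13.EquivOver

set_option autoImplicit false
open CategoryTheory
universe v u
open FibCat

namespace Groth.Agent.S6405

/-- (2) ⇒ (1): if `𝒳` is fibred in groupoids over `C` and the canonical functor `I_𝒳 ⟶ 𝒳` from its
inertia is an equivalence over `C`, then `𝒳` is fibred in setoids. (The published statement is an
equivalence; this row states only that the inertia condition implies that `𝒳` is fibred in setoids.) -/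
theorem result {C : Type u} [Category.{v} C] {𝒳 : BasedCategory.{v, max u v} C} (h𝒳 : FibCat.IsFibGrpd 𝒳.p)
    (h : FibCat.IsEquivOver (FibCat.inertiaToBase (FibCat.toSelf 𝒳))) : FibCat.IsFibSetoid 𝒳.p := by
  refine ⟨h𝒳, fun U a b => ⟨fun f g => ?_⟩⟩
  have hE : (FibCat.InertiaObj.forget (F := FibCat.toSelf 𝒳)).IsEquivalence :=
    Groth.Agent.H13.isEquivalence_of_isEquivOver _ h
  have hf : 𝒳.p.IsHomLift (𝟙 U) f.1 := f.2
  have hg : 𝒳.p.IsHomLift (𝟙 U) g.1 := g.2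
  have hmapf : 𝒳.p.map f.1 = eqToHom (a.2.trans b.2.symm) := by
    rw [IsHomLift.fac' 𝒳.p (𝟙 U) f.1]; simp
  have hmapg : 𝒳.p.map g.1 = eqToHom (a.2.trans b.2.symm) := by
    rw [IsHomLift.fac' 𝒳.p (𝟙 U) g.1]; simp
  have hgsc : 𝒳.p.IsStronglyCartesian (𝒳.p.map g.1) g.1 := h𝒳.isStronglyCartesian g.1
  have : IsIso (𝒳.p.map g.1) := by rw [hmapg]; infer_instance
  have hgiso : IsIso g.1 := Functor.IsStronglyCartesian.isIso_of_base_isIso 𝒳.p (𝒳.p.map g.1) g.1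
  let e : a.1 ⟶ a.1 := f.1 ≫ inv g.1
  have he : 𝒳.p.map e = 𝟙 _ := by
    simp only [e, Functor.map_comp, Functor.map_inv, hmapf, hmapg, inv_eqToHom, eqToHom_trans,
      eqToHom_refl]
  have hesc : 𝒳.p.IsStronglyCartesian (𝒳.p.map e) e := h𝒳.isStronglyCartesian e
  have : IsIso (𝒳.p.map e) := by rw [he]; infer_instance
  have heiso : IsIso e := Functor.IsStronglyCartesian.isIso_of_base_isIso 𝒳.p (𝒳.p.map e) e
  let X₁ : FibCat.InertiaObj (FibCat.toSelf 𝒳) := ⟨a.1, asIso e, he⟩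
  let X₂ : FibCat.InertiaObj (FibCat.toSelf 𝒳) := ⟨a.1, Iso.refl _, (FibCat.toSelf 𝒳).map_id a.1⟩
  obtain ⟨φ, hφ⟩ := (FibCat.InertiaObj.forget (F := FibCat.toSelf 𝒳)).map_surjective
    (X := X₁) (Y := X₂) (𝟙 a.1)
  have hφ' : φ.hom = 𝟙 a.1 := hφ
  have hcomm := φ.comm
  rw [hφ'] at hcomm
  have he1 : e = 𝟙 a.1 := by
    simpa [X₁, X₂] using hcomm
  apply Subtype.ext
  have : f.1 ≫ inv g.1 = 𝟙 a.1 := he1
  rw [← cancel_mono (inv g.1), this, IsIso.hom_inv_id]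

end Groth.Agent.S6405
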