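import Groth.Statements.S6407
import Groth.Agent.H13.FibGrpd

set_option autoImplicit false
open CategoryTheory
universe v u
open FibCat

namespace Groth.Agent.S6407

/-- For categories `𝒳, 𝒴` fibred in setoids over `C` and functors `f, g : 𝒳 ⟶ 𝒴` over `C` that agree on
isomorphism classes of objects of each fibre category, there is a unique 2-isomorphism `f ≅ g` over
`C`. -/
theorem result {C : Type u} [Category.{v} C] {𝒳 𝒴 : BasedCategory.{v, max u v} C} (h𝒳 : FibCat.IsFibSetoid 𝒳.p) (h𝒴 : FibCat.IsFibSetoid 𝒴.p) (f g : 𝒳 ⥤ᵇ 𝒴)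
    (hfg : ∀ (U : C) (x : 𝒳.p.Fiber U), Nonempty ((FibCat.fiberFunctor f U).obj x ≅ (FibCat.fiberFunctor g U).obj x)) :
    Nonempty (Unique (f ≅ g)) := by
  have hcomp : ∀ x : 𝒳.obj, ∃ e : f.obj x ≅ g.obj x, 𝒴.p.IsHomLift (𝟙 (𝒳.p.obj x)) e.hom := by
    intro x
    obtain ⟨e⟩ := hfg (𝒳.p.obj x) ⟨x, rfl⟩
    exact ⟨Functor.Fiber.fiberInclusion.mapIso e, e.hom.2⟩
  choose e he using hcomp
  have hnat : ∀ {x y : 𝒳.obj} (φ : x ⟶ y), f.map φ ≫ (e y).hom = (e x).hom ≫ g.map φ := by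
    intro x y φ
    have := he x
    have := he y
    have l1 : 𝒴.p.IsHomLift (𝒳.p.map φ) (f.map φ ≫ (e y).hom) := inferInstance
    have l2 : 𝒴.p.IsHomLift (𝒳.p.map φ) ((e x).hom ≫ g.map φ) := inferInstance
    exact Groth.Agent.H13.FibSetoid.hom_ext_of_lift h𝒴 (𝒳.p.map φ) _ _
  let α : f.toFunctor ≅ g.toFunctor := NatIso.ofComponents e (fun φ => hnat φ)
  let A : f ≅ g := BasedNatIso.mkNatIso α (fun a => he a)
  refine ⟨⟨⟨A⟩, fun B => ?_⟩⟩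
  apply Iso.ext
  apply BasedNatTrans.homCategory.ext
  ext x
  have h1 : 𝒴.p.IsHomLift (𝟙 (𝒳.p.obj x)) (B.hom.toNatTrans.app x) := B.hom.isHomLift' x
  have h2 : 𝒴.p.IsHomLift (𝟙 (𝒳.p.obj x)) (A.hom.toNatTrans.app x) := A.hom.isHomLift' x
  exact Groth.Agent.H13.FibSetoid.hom_ext_of_lift h𝒴 (𝟙 (𝒳.p.obj x)) _ _

end Groth.Agent.S6407
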