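import Groth.Statements.S6408
-- import your own Groth.Agent.* helpers here

set_option autoImplicit false
open CategoryTheory
universe v u
open FibCat

namespace Groth.Agent.S6408

/-- Between categories fibred in sets over `C` the only 2-morphisms over `C` are identities. -/
theorem result {C : Type u} [Category.{v} C] {𝒳 𝒴 : BasedCategory.{v, max u v} C} (h𝒳 : FibCat.IsFibSet 𝒳.p) (h𝒴 : FibCat.IsFibSet 𝒴.p) {F G : 𝒳 ⥤ᵇ 𝒴} (α : F ⟶ G) :
    ∃ h : F = G, α = eqToHom h := by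
  have hdisc := h𝒴.2
  have hobj : ∀ x : 𝒳.obj, F.obj x = G.obj x := by
    intro x
    have := hdisc (𝒳.p.obj x)
    let a : 𝒴.p.Fiber (𝒳.p.obj x) := ⟨F.obj x, F.w_obj x⟩
    let b : 𝒴.p.Fiber (𝒳.p.obj x) := ⟨G.obj x, G.w_obj x⟩
    let φ : a ⟶ b := ⟨α.toNatTrans.app x, α.isHomLift' x⟩
    exact congrArg Subtype.val (@IsDiscrete.eq_of_hom (𝒴.p.Fiber (𝒳.p.obj x)) _ this a b φ)
  have happ : ∀ x, α.toNatTrans.app x = eqToHom (hobj x) := by
    intro x
    have := hdisc (𝒳.p.obj x)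
    let a : 𝒴.p.Fiber (𝒳.p.obj x) := ⟨F.obj x, F.w_obj x⟩
    let b : 𝒴.p.Fiber (𝒳.p.obj x) := ⟨G.obj x, G.w_obj x⟩
    let φ : a ⟶ b := ⟨α.toNatTrans.app x, α.isHomLift' x⟩
    let φ' : a ⟶ b := ⟨eqToHom (hobj x), IsHomLift.eqToHom_domain_lift_id (hobj x) (F.w_obj x)⟩
    exact congrArg Subtype.val (@Subsingleton.elim _ (@IsDiscrete.subsingleton (𝒴.p.Fiber (𝒳.p.obj x)) _ this a b) φ φ')
  have hFG : F.toFunctor = G.toFunctor := Functor.ext hobj (fun x y f => by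
    have := α.toNatTrans.naturality f
    rw [happ, happ] at this
    rw [← Category.assoc, ← this]
    simp)
  have hFG' : F = G := by
    obtain ⟨F', hF⟩ := F
    obtain ⟨G', hG⟩ := G
    simp only at hFG
    subst hFG
    rfl
  subst hFG'
  refine ⟨rfl, ?_⟩
  apply BasedNatTrans.homCategory.ext
  ext x
  rw [happ]
  simp

end Groth.Agent.S6408
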