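import Groth.Statements.S6410
import Groth.Agent.H13.TwoYoneda

set_option autoImplicit false
open CategoryTheory
universe v u
open FibCat

namespace Groth.Agent.S6410

/-- For `𝒳` fibred over `C`, evaluation at `𝟙_U` restricted to the functors `C/U ⟶ 𝒳` over `C` that
preserve strongly cartesian morphisms is an equivalence of categories onto the fibre category `𝒳_U`. -/
theorem result {C : Type u} [Category.{v} C] {𝒳 : BasedCategory.{v, max u v} C} [𝒳.p.IsFibered] (U : C) :
    ((ObjectProperty.ι (FibCat.PreservesStronglyCartesian (𝒳 := FibCat.overCat U) (𝒴 := 𝒳))) ⋙ FibCat.evalAtId 𝒳 U).IsEquivalence := by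
  have ht : Limits.IsTerminal (Over.mk (𝟙 U) : (FibCat.overCat U).obj) := Over.mkIdTerminal
  have hcart : ∀ {a b : (FibCat.overCat U).obj} (g : a ⟶ b),
      (FibCat.overCat U).p.IsStronglyCartesian ((FibCat.overCat U).p.map g) g :=
    fun g => Groth.Agent.H13.TwoYoneda.over_isStronglyCartesian U g
  refine { faithful := ⟨?_⟩, full := ⟨?_⟩, essSurj := ⟨?_⟩ }
  · intro X Y α β h
    apply ObjectProperty.hom_ext
    apply Groth.Agent.H13.TwoYoneda.nat_ext ht hcart Y.property
    exact congrArg Subtype.val h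
  · intro X Y ψ
    refine ⟨InducedCategory.homMk
      (Groth.Agent.H13.TwoYoneda.liftNat ht hcart Y.property ψ.1 (hφ := ψ.2)), ?_⟩
    apply Functor.Fiber.hom_ext
    exact Groth.Agent.H13.TwoYoneda.liftNat_app ht hcart Y.property ψ.1 (hφ := ψ.2)
  · intro x
    have hx : 𝒳.p.obj x.1 = (FibCat.overCat U).p.obj (Over.mk (𝟙 U) : (FibCat.overCat U).obj) := x.2
    refine ⟨⟨Groth.Agent.H13.TwoYoneda.pbFunctor ht x.1 hx,
      Groth.Agent.H13.TwoYoneda.pbFunctor_preserves ht x.1 hx⟩, ⟨?_⟩⟩
    exact Groth.Agent.H13.TwoYoneda.pbIso ht x.1 hx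

end Groth.Agent.S6410
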