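import Groth.Statements.S6412
import Groth.Agent.Lib.Helper22.RepDiagP
import Groth.Agent.Lib.Helper22.RepDiagE

set_option autoImplicit false
open CategoryTheory CategoryTheory.Limits
universe v u
open FibCat

namespace Groth.Agent.S6412

/-- For `C` with binary products and fibre products and `𝒮` fibred in groupoids over `C`, the diagonal
`𝒮 ⟶ 𝒮 ×_C 𝒮` is representable if and only if every functor `C/U ⟶ 𝒮` over `C` is representable.
(Representability of each base change to a slice `C/V` is taken as a category over `C`; for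
categories fibred in groupoids this agrees with representability over `C/V`.) -/
theorem result {C : Type u} [Category.{v} C] [HasBinaryProducts C] [HasPullbacks C] {𝒮 : BasedCategory.{v, max u v} C} (h𝒮 : FibCat.IsFibGrpd 𝒮.p) :
    FibCat.IsRepresentable1 (FibCat.diag (FibCat.toSelf 𝒮)) ↔ ∀ (U : C) (G : FibCat.overCat U ⥤ᵇ 𝒮), FibCat.IsRepresentable1 G := by
  have h𝒫 : FibCat.IsFibGrpd (FibCat.fp (FibCat.toSelf 𝒮) (FibCat.toSelf 𝒮)).p :=
    Groth.Agent.H13.fp_isFibGrpd (FibCat.toSelf 𝒮) (FibCat.toSelf 𝒮) h𝒮 h𝒮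
      Groth.Agent.Helper22.SelfOver.isFibGrpd_self
  haveI : HasEqualizers C := hasEqualizers_of_hasPullbacks_and_binary_products
  constructor
  · intro hΔ U G V G'
    have hfg : FibCat.IsFibGrpd (FibCat.fp G' G).p :=
      Groth.Agent.H13.fp_isFibGrpd G' G (Groth.Agent.Helper22.OverFib.isFibGrpd_over V)
        (Groth.Agent.Helper22.OverFib.isFibGrpd_over U) h𝒮
    rw [Groth.Agent.Helper22.RepDiag.rep_iff _ hfg]
    apply Groth.Agent.Helper22.RepDiag.hasTerm_of_prod h𝒮 G' G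
    have hfgH : FibCat.IsFibGrpd (FibCat.fp (Groth.Agent.Helper22.RepDiag.prodH G' G)
        (FibCat.diag (FibCat.toSelf 𝒮))).p :=
      Groth.Agent.H13.fp_isFibGrpd _ _ (Groth.Agent.Helper22.OverFib.isFibGrpd_over _) h𝒮 h𝒫
    exact (Groth.Agent.Helper22.RepDiag.rep_iff _ hfgH).1
      (hΔ (V ⨯ U) (Groth.Agent.Helper22.RepDiag.prodH G' G))
  · intro hall W H
    have hfgH : FibCat.IsFibGrpd (FibCat.fp H (FibCat.diag (FibCat.toSelf 𝒮))).p :=
      Groth.Agent.H13.fp_isFibGrpd _ _ (Groth.Agent.Helper22.OverFib.isFibGrpd_over W) h𝒮 h𝒫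
    rw [Groth.Agent.Helper22.RepDiag.rep_iff _ hfgH]
    apply Groth.Agent.Helper22.RepDiag.hasTerm_of_eq h𝒮 H
    have hfg : FibCat.IsFibGrpd (FibCat.fp
        (BasedFunctor.comp H (FibCat.fpFst (FibCat.toSelf 𝒮) (FibCat.toSelf 𝒮)))
        (BasedFunctor.comp H (FibCat.fpSnd (FibCat.toSelf 𝒮) (FibCat.toSelf 𝒮)))).p :=
      Groth.Agent.H13.fp_isFibGrpd _ _ (Groth.Agent.Helper22.OverFib.isFibGrpd_over W)
        (Groth.Agent.Helper22.OverFib.isFibGrpd_over W) h𝒮
    exact (Groth.Agent.Helper22.RepDiag.rep_iff _ hfg).1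
      (hall W (BasedFunctor.comp H (FibCat.fpSnd (FibCat.toSelf 𝒮) (FibCat.toSelf 𝒮))) W
        (BasedFunctor.comp H (FibCat.fpFst (FibCat.toSelf 𝒮) (FibCat.toSelf 𝒮))))

end Groth.Agent.S6412
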