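import Groth.Statements.S6417
-- import your own Groth.Agent.* helpers here

set_option autoImplicit false
open CategoryTheory CategoryTheory.Limits
universe v₁ u₁ v₂ u₂
open FibCat

namespace Groth.Agent.S6417

/-- For `p : 𝒮 ⥤ C`, a strongly cartesian `φ : x ⟶ y`, any `ψ : z ⟶ y`, and a strongly cartesian `a : w
⟶ z` lying over the second projection of `p x ×_{p y} p z`, the object `w` is a fibre product `x ×_y
z`: there is `b : w ⟶ x` over the first projection with `(b, a)` a pullback square. -/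
theorem result {𝒮 : Type u₁} [Category.{v₁} 𝒮] {C : Type u₂} [Category.{v₂} C] (p : 𝒮 ⥤ C) {x y z w : 𝒮} (φ : x ⟶ y) (ψ : z ⟶ y)
    [p.IsStronglyCartesian (p.map φ) φ] [HasPullback (p.map φ) (p.map ψ)] (a : w ⟶ z)
    [p.IsStronglyCartesian (pullback.snd (p.map φ) (p.map ψ)) a] :
    ∃ b : w ⟶ x, p.IsHomLift (pullback.fst (p.map φ) (p.map ψ)) b ∧ IsPullback b a φ ψ := by
  have hcond : pullback.snd (p.map φ) (p.map ψ) ≫ p.map ψ = pullback.fst (p.map φ) (p.map ψ) ≫ p.map φ :=
    pullback.condition.symm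
  have haψ : p.IsHomLift (pullback.snd (p.map φ) (p.map ψ) ≫ p.map ψ) (a ≫ ψ) := inferInstance
  have haψ' : p.IsHomLift (pullback.fst (p.map φ) (p.map ψ) ≫ p.map φ) (a ≫ ψ) := hcond ▸ haψ
  let b : w ⟶ x := Functor.IsStronglyCartesian.map p (p.map φ) φ (g := pullback.fst (p.map φ) (p.map ψ)) rfl (a ≫ ψ)
  have hb : p.IsHomLift (pullback.fst (p.map φ) (p.map ψ)) b := inferInstance
  have hbφ : b ≫ φ = a ≫ ψ := Functor.IsStronglyCartesian.fac p (p.map φ) φ rfl (a ≫ ψ)
  have hw : p.obj w = pullback (p.map φ) (p.map ψ) := IsHomLift.domain_eq p (pullback.fst (p.map φ) (p.map ψ)) b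
  have H : ∀ s : PullbackCone φ ψ, ∃ l : s.pt ⟶ w, l ≫ b = s.fst ∧ l ≫ a = s.snd ∧
      ∀ m : s.pt ⟶ w, m ≫ b = s.fst → m ≫ a = s.snd → m = l := by
    intro s
    have hs : p.map s.fst ≫ p.map φ = p.map s.snd ≫ p.map ψ := by
      rw [← p.map_comp, ← p.map_comp, s.condition]
    have inst1 : p.IsHomLift (pullback.lift (p.map s.fst) (p.map s.snd) hs ≫ pullback.snd (p.map φ) (p.map ψ)) s.snd := by
      rw [pullback.lift_snd]; infer_instance
    refine ⟨Functor.IsStronglyCartesian.map p (pullback.snd (p.map φ) (p.map ψ)) a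
      (g := pullback.lift (p.map s.fst) (p.map s.snd) hs) rfl s.snd, ?_, ?_, ?_⟩
    · have h1 : p.IsHomLift (p.map s.fst) (Functor.IsStronglyCartesian.map p (pullback.snd (p.map φ) (p.map ψ)) a
        (g := pullback.lift (p.map s.fst) (p.map s.snd) hs) rfl s.snd ≫ b) := by
        have : p.IsHomLift (pullback.lift (p.map s.fst) (p.map s.snd) hs ≫ pullback.fst (p.map φ) (p.map ψ))
          (Functor.IsStronglyCartesian.map p (pullback.snd (p.map φ) (p.map ψ)) a
            (g := pullback.lift (p.map s.fst) (p.map s.snd) hs) rfl s.snd ≫ b) := inferInstance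
        rwa [pullback.lift_fst] at this
      apply Functor.IsStronglyCartesian.ext p (p.map φ) φ (p.map s.fst)
      rw [Category.assoc, hbφ, Functor.IsStronglyCartesian.fac_assoc, s.condition]
    · exact Functor.IsStronglyCartesian.fac p _ a rfl s.snd
    · intro m h1 h2
      have hm : p.IsHomLift (pullback.lift (p.map s.fst) (p.map s.snd) hs) m := by
        apply IsHomLift.of_fac _ _ _ rfl hw
        apply pullback.hom_ext
        · simp only [Category.assoc, pullback.lift_fst]
          have := IsHomLift.fac p (pullback.fst (p.map φ) (p.map ψ)) b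
          rw [← h1, p.map_comp]
          rw [this]
          simp
        · simp only [Category.assoc, pullback.lift_snd]
          have := IsHomLift.fac p (pullback.snd (p.map φ) (p.map ψ)) a
          rw [← h2, p.map_comp]
          rw [this]
          simp
      exact Functor.IsStronglyCartesian.map_uniq p _ a rfl s.snd m h2
  choose l hl1 hl2 hl3 using H
  refine ⟨b, hb, ⟨⟨hbφ⟩, ⟨?_⟩⟩⟩
  exact PullbackCone.IsLimit.mk _ l hl1 hl2 (fun s m h1 h2 => hl3 s m h1 h2)

end Groth.Agent.S6417
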