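import Groth.Statements.S6418
import Groth.Agent.H13.OverLift

set_option autoImplicit false
open CategoryTheory
universe v₁ u₁ v₂ u₂
open FibCat

namespace Groth.Agent.S6418

/-- If `p' : 𝒮 ⥤ C/U` composed with the forgetful functor `C/U ⥤ C` is a fibred category, then so is
`p'`. -/
theorem result {𝒮 : Type u₁} [Category.{v₁} 𝒮] {C : Type u₂} [Category.{v₂} C] {U : C} (p' : 𝒮 ⥤ Over U) [(p' ⋙ Over.forget U).IsFibered] : p'.IsFibered := by
  apply Functor.IsFibered.of_exists_isStronglyCartesian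
  intro a R f
  obtain ⟨b, φ, hφ⟩ := Functor.IsPreFibered.exists_isCartesian' (p := p' ⋙ Over.forget U) (a := a) f.left
  have hsc : (p' ⋙ Over.forget U).IsStronglyCartesian f.left φ :=
    @Functor.IsFibered.isStronglyCartesian_of_isCartesian _ _ _ _ (p' ⋙ Over.forget U) _ _ _ f.left _ _ φ hφ
  have hlift : p'.IsHomLift f φ :=
    Groth.Agent.H13.isHomLift_over p' f φ rfl (h := hsc.toIsHomLift)
  refine ⟨b, φ, { toIsHomLift := hlift, universal_property' := ?_ }⟩
  intro a' g φ' hφ'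
  have hφ'' : (p' ⋙ Over.forget U).IsHomLift (g ≫ f).left φ' :=
    Groth.Agent.H13.isHomLift_forget p' (g ≫ f) φ'
  obtain ⟨χ, ⟨hχ, hχ'⟩, huniq⟩ :=
    @Functor.IsStronglyCartesian.universal_property _ _ _ _ (p' ⋙ Over.forget U) _ _ _ _ f.left φ hsc
      _ a' g.left (g ≫ f).left rfl φ' hφ''
  have hb : p'.obj b = R := IsHomLift.domain_eq p' f φ
  refine ⟨χ, ⟨Groth.Agent.H13.isHomLift_over p' g χ hb (h := hχ), hχ'⟩, ?_⟩
  rintro χ' ⟨h1, h2⟩
  exact huniq χ' ⟨Groth.Agent.H13.isHomLift_forget p' g χ', h2⟩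

end Groth.Agent.S6418
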