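import Groth.Statements.S6419
import Groth.Agent.H13.OverLift

set_option autoImplicit false
open CategoryTheory
universe v₁ u₁ v₂ u₂
open FibCat

namespace Groth.Agent.S6419

/-- If `p' : 𝒮 ⥤ C/U` composed with the forgetful functor `C/U ⥤ C` is fibred in groupoids, then so is
`p'`. -/
theorem result {𝒮 : Type u₁} [Category.{v₁} 𝒮] {C : Type u₂} [Category.{v₂} C] {U : C} (p' : 𝒮 ⥤ Over U) (h : FibCat.IsFibGrpd (p' ⋙ Over.forget U)) : FibCat.IsFibGrpd p' := by
  refine ⟨?_, ?_⟩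
  · intro x V f
    obtain ⟨y, φ, hφ⟩ := h.exists_lift (x := x) (f := f.left)
    exact ⟨y, φ, Groth.Agent.H13.isHomLift_over p' f φ rfl (h := hφ)⟩
  · intro y x φ
    refine { toIsHomLift := inferInstance, universal_property' := ?_ }
    intro a' g φ' hφ'
    have hsc : (p' ⋙ Over.forget U).IsStronglyCartesian ((p' ⋙ Over.forget U).map φ) φ :=
      h.isStronglyCartesian φ
    have hφ'' : (p' ⋙ Over.forget U).IsHomLift (g.left ≫ (p' ⋙ Over.forget U).map φ) φ' :=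
      Groth.Agent.H13.isHomLift_forget p' (g ≫ p'.map φ) φ'
    obtain ⟨χ, ⟨hχ, hχ'⟩, huniq⟩ := @Functor.IsStronglyCartesian.universal_property' _ _ _ _ (p' ⋙ Over.forget U) _ _ _ _ _ φ hsc a' g.left φ' hφ''
    refine ⟨χ, ⟨Groth.Agent.H13.isHomLift_over p' g χ rfl (h := hχ), hχ'⟩, ?_⟩
    rintro χ' ⟨h1, h2⟩
    exact huniq χ' ⟨Groth.Agent.H13.isHomLift_forget p' g χ', h2⟩

end Groth.Agent.S6419
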