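import Groth.Statements.S6425
import Mathlib.CategoryTheory.Limits.Types.Products
import Mathlib.CategoryTheory.Limits.Types.Colimits
import Mathlib.CategoryTheory.Limits.Preserves.Shapes.BinaryProducts
import Mathlib.CategoryTheory.Limits.FunctorCategory.Basic

set_option autoImplicit false
open CategoryTheory CategoryTheory.Limits
universe v
open CatLim

namespace Groth.Agent.S6425


theorem prod_ext_type {X Y : Type v} (u w : (X ⨯ Y : Type v))
    (h1 : (prod.fst : X ⨯ Y ⟶ X) u = (prod.fst : X ⨯ Y ⟶ X) w)
    (h2 : (prod.snd : X ⨯ Y ⟶ Y) u = (prod.snd : X ⨯ Y ⟶ Y) w) : u = w := by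
  apply Types.limit_ext
  rintro ⟨⟨⟩⟩
  · exact h1
  · exact h2

/-- Over an index category in which any two objects map to a common object, the comparison map `colim (M
× N) → colim M × colim N` for diagrams of sets is surjective. -/
theorem result {I : Type v} [SmallCategory I]
    (hI : ∀ x y : I, ∃ (z : I) (_ : x ⟶ z) (_ : y ⟶ z), True) (M N : I ⥤ Type v) :
    Function.Surjective (prodComparison (colim : (I ⥤ Type v) ⥤ Type v) M N) := by
  intro w
  obtain ⟨i, a, ha⟩ := Types.jointly_surjective' ((prod.fst : colim.obj M ⨯ colim.obj N ⟶ colim.obj M) w)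
  obtain ⟨j, b, hb⟩ := Types.jointly_surjective' ((prod.snd : colim.obj M ⨯ colim.obj N ⟶ colim.obj N) w)
  obtain ⟨k, α, β, -⟩ := hI i j
  let a' : M.obj k := M.map α a
  let b' : N.obj k := N.map β b
  let G := (evaluation I (Type v)).obj k
  let z' : (M.obj k ⨯ N.obj k : Type v) := (Types.binaryProductIso (M.obj k) (N.obj k)).inv (a', b')
  let z : (M ⨯ N).obj k := (PreservesLimitPair.iso G M N).inv z'
  have hz1 : (prod.fst : M ⨯ N ⟶ M).app k z = a' := by
    have h1 := congrArg (fun f => (ConcreteCategory.hom f) z') (PreservesLimitPair.iso_inv_fst G M N)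
    have h2 := congrArg (fun f => (ConcreteCategory.hom f) (a', b'))
      (Types.binaryProductIso_inv_comp_fst (M.obj k) (N.obj k))
    simp only [G, evaluation_obj_map] at h1
    exact h1.trans h2
  have hz2 : (prod.snd : M ⨯ N ⟶ N).app k z = b' := by
    have h1 := congrArg (fun f => (ConcreteCategory.hom f) z') (PreservesLimitPair.iso_inv_snd G M N)
    have h2 := congrArg (fun f => (ConcreteCategory.hom f) (a', b'))
      (Types.binaryProductIso_inv_comp_snd (M.obj k) (N.obj k))
    simp only [G, evaluation_obj_map] at h1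
    exact h1.trans h2
  refine ⟨colimit.ι (M ⨯ N) k z, ?_⟩
  apply prod_ext_type
  · have h1 := congrArg (fun f => (ConcreteCategory.hom f) (colimit.ι (M ⨯ N) k z))
      (prodComparison_fst (colim : (I ⥤ Type v) ⥤ Type v) M N)
    have h2 := congrArg (fun f => (ConcreteCategory.hom f) z)
      (colimit.ι_map (prod.fst : M ⨯ N ⟶ M) k)
    simp only [ConcreteCategory.comp_apply] at h1 h2
    rw [h1, h2, hz1, ← ha]
    exact (congrArg (fun f => (ConcreteCategory.hom f) a) (colimit.w M α))
  · have h1 := congrArg (fun f => (ConcreteCategory.hom f) (colimit.ι (M ⨯ N) k z))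
      (prodComparison_snd (colim : (I ⥤ Type v) ⥤ Type v) M N)
    have h2 := congrArg (fun f => (ConcreteCategory.hom f) z)
      (colimit.ι_map (prod.snd : M ⨯ N ⟶ N) k)
    simp only [ConcreteCategory.comp_apply] at h1 h2
    rw [h1, h2, hz2, ← hb]
    exact (congrArg (fun f => (ConcreteCategory.hom f) b) (colimit.w N β))

end Groth.Agent.S6425
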