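import Groth.Statements.S6426
import Mathlib.CategoryTheory.Limits.Types.Colimits

set_option autoImplicit false
open CategoryTheory CategoryTheory.Limits
universe v
open CatLim

namespace Groth.Agent.S6426

/-- Over a nonempty index category in which any two objects map to a common object, the set-theoretic
colimit of a diagram of abelian groups surjects onto its colimit in abelian groups. (The published
statement does not require the index category to be nonempty; this row assumes it, because for the
empty index category the colimit of sets is empty while the colimit of abelian groups is the zero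
group.) -/
theorem result {I : Type v} [SmallCategory I] [Nonempty I]
    (hI : ∀ x y : I, ∃ (z : I) (_ : x ⟶ z) (_ : y ⟶ z), True) (M : I ⥤ AddCommGrpCat.{v}) :
    Function.Surjective (colimit.post M (forget AddCommGrpCat.{v})) := by
  set P := colimit.post M (forget AddCommGrpCat.{v}) with hPdef
  have hP : ∀ (i : I) (a : M.obj i),
      P (colimit.ι (M ⋙ forget AddCommGrpCat.{v}) i a) = (colimit.ι M i) a := by
    intro i a
    have := congrArg (fun f => (ConcreteCategory.hom f) a)
      (colimit.ι_post M (forget AddCommGrpCat.{v}) i)
    exact this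
  have hrange : ∀ y : (colimit M : AddCommGrpCat.{v}),
      y ∈ Set.range P ↔ ∃ (i : I) (a : M.obj i), (colimit.ι M i) a = y := by
    intro y
    constructor
    · rintro ⟨x, rfl⟩
      obtain ⟨i, a, rfl⟩ := Types.jointly_surjective' x
      exact ⟨i, a, (hP i a).symm⟩
    · rintro ⟨i, a, rfl⟩
      exact ⟨_, hP i a⟩
  let S : AddSubgroup (colimit M : AddCommGrpCat.{v}) :=
    { carrier := {y | ∃ (i : I) (a : M.obj i), (colimit.ι M i) a = y}
      zero_mem' := by
        obtain ⟨i⟩ := ‹Nonempty I›
        exact ⟨i, 0, map_zero _⟩
      add_mem' := by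
        rintro _ _ ⟨i, a, rfl⟩ ⟨j, b, rfl⟩
        obtain ⟨k, α, β, -⟩ := hI i j
        refine ⟨k, M.map α a + M.map β b, ?_⟩
        rw [map_add]
        have h1 := congrArg (fun f => (ConcreteCategory.hom f) a) (colimit.w M α)
        have h2 := congrArg (fun f => (ConcreteCategory.hom f) b) (colimit.w M β)
        simp only [ConcreteCategory.comp_apply] at h1 h2
        rw [h1, h2]
      neg_mem' := by
        rintro _ ⟨i, a, rfl⟩
        exact ⟨i, -a, map_neg _ _⟩ }
  have hS : ∀ y : (colimit M : AddCommGrpCat.{v}), y ∈ S := by
    let q : colimit M ⟶ AddCommGrpCat.of ((colimit M : AddCommGrpCat.{v}) ⧸ S) :=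
      AddCommGrpCat.ofHom (QuotientAddGroup.mk' S)
    have hq : q = 0 := by
      apply colimit.hom_ext
      intro i
      ext a
      simp only [q, ConcreteCategory.comp_apply, Limits.comp_zero]
      change (QuotientAddGroup.mk' S) ((colimit.ι M i) a) = 0
      rw [QuotientAddGroup.mk'_apply, QuotientAddGroup.eq_zero_iff]
      exact ⟨i, a, rfl⟩
    intro y
    have : (QuotientAddGroup.mk' S) y = 0 := by
      have := congrArg (fun f => (ConcreteCategory.hom f) y) hq
      exact this
    rwa [QuotientAddGroup.mk'_apply, QuotientAddGroup.eq_zero_iff] at this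
  intro y
  exact (hrange y).2 (hS y)

end Groth.Agent.S6426
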