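import Groth.Statements.S6427
import Mathlib.CategoryTheory.Limits.Types.Colimits

set_option autoImplicit false
open CategoryTheory CategoryTheory.Limits
universe v
open CatLim

namespace Groth.Agent.S6427

/-- Over an index category in which every pair of morphisms with common source can be completed to a
commutative square, colimits of sets preserve injective morphisms of diagrams. -/
theorem result {I : Type v} [SmallCategory I]
    (hI : ∀ ⦃x y z : I⦄ (f : x ⟶ y) (g : x ⟶ z), ∃ (w : I) (f' : y ⟶ w) (g' : z ⟶ w), f ≫ f' = g ≫ g')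
    {M N : I ⥤ Type v} (φ : M ⟶ N) (hφ : ∀ i, Function.Injective (φ.app i)) :
    Function.Injective (colimMap φ) := by
  have key : ∀ (F : I ⥤ Type v) (p q : Σ j, F.obj j), Relation.EqvGen F.ColimitTypeRel p q →
      ∃ (k : I) (a : p.1 ⟶ k) (b : q.1 ⟶ k), F.map a p.2 = F.map b q.2 := by
    intro F p q h
    induction h with
    | rel p q h =>
      obtain ⟨f, hf⟩ := h
      exact ⟨q.1, f, 𝟙 _, by simp [hf]⟩
    | refl p => exact ⟨p.1, 𝟙 _, 𝟙 _, rfl⟩
    | symm p q _ ih =>
      obtain ⟨k, a, b, h⟩ := ih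
      exact ⟨k, b, a, h.symm⟩
    | trans p q r _ _ ih1 ih2 =>
      obtain ⟨k, a, b, h⟩ := ih1
      obtain ⟨k', c, d, h'⟩ := ih2
      obtain ⟨w, b', c', hw⟩ := hI b c
      refine ⟨w, a ≫ b', d ≫ c', ?_⟩
      calc F.map (a ≫ b') p.2 = F.map b' (F.map a p.2) := by simp
        _ = F.map b' (F.map b q.2) := by rw [h]
        _ = F.map (b ≫ b') q.2 := by simp
        _ = F.map (c ≫ c') q.2 := by rw [hw]
        _ = F.map c' (F.map c q.2) := by simp
        _ = F.map c' (F.map d r.2) := by rw [h']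
        _ = F.map (d ≫ c') r.2 := by simp
  intro x y hxy
  obtain ⟨i, a, rfl⟩ := Types.jointly_surjective' x
  obtain ⟨j, b, rfl⟩ := Types.jointly_surjective' y
  have e1 : colimMap φ (colimit.ι M i a) = colimit.ι N i (φ.app i a) :=
    congrArg (fun f => (ConcreteCategory.hom f) a) (ι_colimMap φ i)
  have e2 : colimMap φ (colimit.ι M j b) = colimit.ι N j (φ.app j b) :=
    congrArg (fun f => (ConcreteCategory.hom f) b) (ι_colimMap φ j)
  rw [e1, e2] at hxy
  obtain ⟨k, α, β, h⟩ := key N ⟨i, φ.app i a⟩ ⟨j, φ.app j b⟩ (Types.colimit_eq hxy)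
  dsimp only at α β h
  apply Types.colimit_sound' α β
  apply hφ k
  have n1 : φ.app k (M.map α a) = N.map α (φ.app i a) :=
    congrArg (fun f => (ConcreteCategory.hom f) a) (φ.naturality α)
  have n2 : φ.app k (M.map β b) = N.map β (φ.app j b) :=
    congrArg (fun f => (ConcreteCategory.hom f) b) (φ.naturality β)
  rw [n1, n2, h]

end Groth.Agent.S6427
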