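import Groth.Statements.S6428
import Mathlib.CategoryTheory.Limits.Final

set_option autoImplicit false
open CategoryTheory CategoryTheory.Limits
universe v₁ u₁ v₂ u₂ v₃ u₃
open CatLim

namespace Groth.Agent.S6428


/-- The functor from a fibre of `F` to structured arrows induced by a morphism into the base object. -/
def fibToStructuredArrow {I : Type u₁} [Category.{v₁} I] {I' : Type u₂} [Category.{v₂} I']
    (F : I ⥤ I') {d e : I'} (u : d ⟶ e) : F.Fiber e ⥤ StructuredArrow d F where
  obj b := StructuredArrow.mk (Y := b.1) (u ≫ eqToHom b.2.symm)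
  map {b₁ b₂} β := StructuredArrow.homMk β.1 (by
    have hβ : F.IsHomLift (𝟙 e) β.1 := β.2
    have := IsHomLift.fac' F (𝟙 e) β.1
    simp only [StructuredArrow.mk_hom_eq_self, Category.assoc]
    rw [this]
    simp)
  map_id b := rfl
  map_comp f g := rfl

theorem final_of_fibers {I : Type u₁} [Category.{v₁} I] {I' : Type u₂} [Category.{v₂} I']
    (F : I ⥤ I') (h1 : ∀ x' : I', IsConnected (F.Fiber x'))
    (h2 : ∀ ⦃x' y' : I'⦄ (α' : x' ⟶ y'), ∃ (x y : I) (hx : F.obj x = x') (hy : F.obj y = y')
      (α : x ⟶ y), F.map α = eqToHom hx ≫ α' ≫ eqToHom hy.symm) : F.Final := by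
  constructor
  intro d
  have hne : Nonempty (StructuredArrow d F) := by
    obtain ⟨a⟩ := (h1 d).is_nonempty
    exact ⟨StructuredArrow.mk (Y := a.1) (eqToHom a.2.symm)⟩
  -- every object is connected to the image of some object of the fibre over `d`
  have step : ∀ A : StructuredArrow d F, ∃ a : F.Fiber d,
      Zigzag A ((fibToStructuredArrow F (𝟙 d)).obj a) := by
    intro A
    obtain ⟨a, b, ha, hb, α, hα⟩ := h2 A.hom
    have := h1 (F.obj A.right)
    let x' : F.Fiber (F.obj A.right) := ⟨A.right, rfl⟩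
    let b' : F.Fiber (F.obj A.right) := ⟨b, hb⟩
    have z1 : Zigzag ((fibToStructuredArrow F A.hom).obj x') ((fibToStructuredArrow F A.hom).obj b') :=
      zigzag_obj_of_zigzag _ (isPreconnected_zigzag x' b')
    have z0 : Zigzag A ((fibToStructuredArrow F A.hom).obj x') := by
      apply Zigzag.of_hom
      exact StructuredArrow.homMk (𝟙 _) (by simp [fibToStructuredArrow, x'])
    have z2 : Zigzag ((fibToStructuredArrow F A.hom).obj b')
        ((fibToStructuredArrow F (𝟙 d)).obj ⟨a, ha⟩) := by
      apply Zigzag.of_inv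
      exact StructuredArrow.homMk α (by simp [fibToStructuredArrow, b', hα])
    exact ⟨⟨a, ha⟩, z0.trans (z1.trans z2)⟩
  apply zigzag_isConnected
  intro A B
  obtain ⟨a₁, hA⟩ := step A
  obtain ⟨a₂, hB⟩ := step B
  have := h1 d
  have z : Zigzag ((fibToStructuredArrow F (𝟙 d)).obj a₁) ((fibToStructuredArrow F (𝟙 d)).obj a₂) :=
    zigzag_obj_of_zigzag _ (isPreconnected_zigzag a₁ a₂)
  exact hA.trans (z.trans hB.symm)

/-- If `F : I ⥤ I'` has connected fibre categories and is surjective on morphisms, then for every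
diagram `M : I' ⥤ C` the colimit of `F ⋙ M` exists if and only if that of `M` does, and the
canonical comparison between them is then an isomorphism. -/
theorem result {I : Type u₁} [Category.{v₁} I] {I' : Type u₂} [Category.{v₂} I'] {C : Type u₃} [Category.{v₃} C] (F : I ⥤ I')
    (h1 : ∀ x' : I', IsConnected (F.Fiber x'))
    (h2 : ∀ ⦃x' y' : I'⦄ (α' : x' ⟶ y'), ∃ (x y : I) (hx : F.obj x = x') (hy : F.obj y = y') (α : x ⟶ y), F.map α = eqToHom hx ≫ α' ≫ eqToHom hy.symm)
    (M : I' ⥤ C) :
    (HasColimit (F ⋙ M) ↔ HasColimit M) ∧ ∀ [HasColimit (F ⋙ M)] [HasColimit M], IsIso (colimit.pre M F) := by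
  have := final_of_fibers F h1 h2
  exact ⟨Functor.Final.hasColimit_comp_iff F, fun {_ _} => inferInstance⟩

end Groth.Agent.S6428
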