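import Groth.Statements.S6430
-- import your own Groth.Agent.* helpers here

set_option autoImplicit false
open CategoryTheory
universe v₂ u₂ v u
open FibCat

namespace Groth.Agent.S6430

/-- For a fibred category `p : 𝒮 ⥤ C`, the wide subcategory of `𝒮` on the strongly cartesian morphisms
is fibred in groupoids over `C`. -/
theorem result {C : Type u} [Category.{v} C] {𝒮 : Type u₂} [Category.{v₂} 𝒮] (p : 𝒮 ⥤ C) [p.IsFibered] :
    FibCat.IsFibGrpd (FibCat.cartSubProj p) := by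
  refine ⟨?_, ?_⟩
  · intro x V f
    obtain ⟨y, φ, hφ⟩ := Functor.IsPreFibered.exists_isCartesian' (p := p) (a := x.obj) f
    have hsc : p.IsStronglyCartesian f φ :=
      @Functor.IsFibered.isStronglyCartesian_of_isCartesian _ _ _ _ p _ _ _ f _ _ φ hφ
    have hy : p.obj y = V := IsHomLift.domain_eq p f φ
    subst hy
    obtain rfl := @IsHomLift.eq_of_isHomLift _ _ _ _ p _ _ f φ hsc.toIsHomLift
    exact ⟨⟨y⟩, ⟨φ, hsc⟩, IsHomLift.map (FibCat.cartSubProj p) (⟨φ, hsc⟩ : (⟨y⟩ : FibCat.cartSub p) ⟶ x)⟩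
  · intro y x φ
    have hφ : p.IsStronglyCartesian (p.map φ.hom) φ.hom := φ.property
    refine { toIsHomLift := inferInstance, universal_property' := ?_ }
    intro z g₀ ψ hψ
    obtain ⟨g, hgg⟩ : ∃ g : p.obj z.obj ⟶ p.obj y.obj, g = g₀ := ⟨g₀, rfl⟩
    subst hgg
    have hψ' : p.IsStronglyCartesian (p.map ψ.hom) ψ.hom := ψ.property
    have e : g ≫ p.map φ.hom = p.map ψ.hom :=
      @IsHomLift.eq_of_isHomLift _ _ _ _ (FibCat.cartSubProj p) _ _ (g ≫ (FibCat.cartSubProj p).map φ) ψ hψ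
    have hlift : p.IsHomLift (g ≫ p.map φ.hom) ψ.hom := e ▸ IsHomLift.map p ψ.hom
    obtain ⟨χ₀, ⟨hχ₀, hχ₀'⟩, huniq⟩ :=
      @Functor.IsStronglyCartesian.universal_property' _ _ _ _ p _ _ _ _ _ φ.hom hφ z.obj g ψ.hom hlift
    have hg : g = p.map χ₀ := @IsHomLift.eq_of_isHomLift _ _ _ _ p _ _ g χ₀ hχ₀
    have hχsc : p.IsStronglyCartesian (p.map χ₀) χ₀ := by
      have h1 : p.IsStronglyCartesian (p.map χ₀ ≫ p.map φ.hom) (χ₀ ≫ φ.hom) := by
        rw [hχ₀', ← hg, e]; exact hψ'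
      exact Functor.IsStronglyCartesian.of_comp (p := p) (f := p.map χ₀) (g := p.map φ.hom)
        (φ := χ₀) (ψ := φ.hom)
    refine ⟨⟨χ₀, hχsc⟩, ⟨?_, ?_⟩, ?_⟩
    · rw [hg]
      exact IsHomLift.map (FibCat.cartSubProj p) (⟨χ₀, hχsc⟩ : z ⟶ y)
    · exact WideSubcategory.hom_ext _ hχ₀'
    · rintro χ' ⟨h1, h2⟩
      apply WideSubcategory.hom_ext
      apply huniq
      refine ⟨?_, congrArg (fun k => k.hom) h2⟩
      have := IsHomLift.eq_of_isHomLift (FibCat.cartSubProj p) g χ'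
      rw [this]
      exact IsHomLift.map p χ'.hom

end Groth.Agent.S6430
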