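import Groth.Statements.S6433
import Groth.Agent.H13.CommonDenominator

set_option autoImplicit false
open CategoryTheory
universe v u v' u'
open CatLoc

namespace Groth.Agent.S6433

/-- For a left multiplicative system `W` and a localization functor `L`, any finite family of morphisms
`L X_i ⟶ L Y` admits a common denominator: some `s : Y ⟶ Y'` in `W` and morphisms `f_i : X_i ⟶ Y'`
with `g_i = L(s)⁻¹ L(f_i)`. -/
theorem result {C : Type u} [Category.{v} C] {D : Type u'} [Category.{v'} D] (W : MorphismProperty C) (L : C ⥤ D) [L.IsLocalization W] [W.HasLeftCalculusOfFractions]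
    {ι : Type} [Finite ι] (X : ι → C) (Y : C) (g : ∀ i, L.obj (X i) ⟶ L.obj Y) :
    ∃ (Y' : C) (s : Y ⟶ Y') (_ : W s) (f : ∀ i, X i ⟶ Y'), ∀ i, g i ≫ L.map s = L.map (f i) := by
  choose φ hφ using fun i => Localization.exists_leftFraction L W (g i)
  obtain ⟨Y', s', hs', t, ht⟩ := Groth.Agent.H13.exists_common_refinement W Y ι
    (fun i => (φ i).Y') (fun i => (φ i).s) (fun i => (φ i).hs)
  refine ⟨Y', s', hs', fun i => (φ i).f ≫ t i, ?_⟩
  intro i
  rw [← ht i, L.map_comp, L.map_comp, ← Category.assoc, hφ i,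
    MorphismProperty.LeftFraction.map_comp_map_s]

end Groth.Agent.S6433
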