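import Groth.Statements.S6434
import Groth.Agent.H13.CommonDenominator
import Groth.Agent.S6433
import Mathlib.Data.Fintype.Sigma
import Mathlib.Data.Fintype.Prod

set_option autoImplicit false
open CategoryTheory
universe v u v' u'
open CatLoc

namespace Groth.Agent.S6434


/-- Uniqueness part: two morphisms out of `L c.pt` agreeing on all legs are equal. -/
theorem hom_ext_of_isColimit {C : Type u} [Category.{v} C] {D : Type u'} [Category.{v'} D]
    (W : MorphismProperty C) (L : C ⥤ D) [L.IsLocalization W] [W.HasLeftCalculusOfFractions]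
    {J : Type} [SmallCategory J] [FinCategory J] {K : J ⥤ C} {c : Limits.Cocone K}
    (hc : Limits.IsColimit c) {Y : C} (m₁ m₂ : L.obj c.pt ⟶ L.obj Y)
    (h : ∀ j, L.map (c.ι.app j) ≫ m₁ = L.map (c.ι.app j) ≫ m₂) : m₁ = m₂ := by
  obtain ⟨Y₂, s₂, hs₂, d, hd⟩ := Groth.Agent.S6433.result W L (fun _ : Bool => c.pt) Y
    (fun b => if b then m₁ else m₂)
  have h1 : m₁ ≫ L.map s₂ = L.map (d true) := by simpa using hd true
  have h2 : m₂ ≫ L.map s₂ = L.map (d false) := by simpa using hd false
  have hJ : Finite J := Finite.of_fintype J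
  obtain ⟨Y₃, t, ht, hfac⟩ := Groth.Agent.H13.exists_common_coequalizer W L Y₂ J (fun j => K.obj j)
    (fun j => c.ι.app j ≫ d true) (fun j => c.ι.app j ≫ d false) (by
      intro j
      rw [L.map_comp, L.map_comp, ← h1, ← h2, ← Category.assoc, ← Category.assoc, h j])
  have hdt : d true ≫ t = d false ≫ t := by
    apply hc.hom_ext
    intro j
    simpa only [Category.assoc] using hfac j
  have hLd : L.map (d true) = L.map (d false) :=
    (MorphismProperty.map_eq_iff_postcomp L W _ _).2 ⟨Y₃, t, ht, hdt⟩
  have : IsIso (L.map s₂) := Localization.inverts L W _ hs₂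
  rw [← cancel_mono (L.map s₂), h1, h2, hLd]

/-- The localization functor at a left multiplicative system commutes with finite colimits. -/
theorem result {C : Type u} [Category.{v} C] {D : Type u'} [Category.{v'} D] (W : MorphismProperty C) (L : C ⥤ D) [L.IsLocalization W] [W.HasLeftCalculusOfFractions] :
    Limits.PreservesFiniteColimits L := by
  constructor
  intro J _ _
  constructor
  intro K
  constructor
  intro c hc
  refine ⟨Limits.IsColimit.ofExistsUnique ?_⟩
  intro s
  have := Localization.essSurj L W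
  let Y := L.objPreimage s.pt
  let e : L.obj Y ≅ s.pt := L.objObjPreimageIso s.pt
  have hJ : Finite J := Finite.of_fintype J
  obtain ⟨Y', σ, hσ, f, hf⟩ := Groth.Agent.S6433.result W L (fun j : J => K.obj j) Y
    (fun j => s.ι.app j ≫ e.inv)
  have hcompat : ∀ a : (Σ p : J × J, p.1 ⟶ p.2),
      L.map (K.map a.2 ≫ f a.1.2) = L.map (f a.1.1) := by
    rintro ⟨⟨j, j'⟩, α⟩
    dsimp
    rw [L.map_comp, ← hf j', ← hf j]
    have := s.w α
    dsimp at this
    rw [← this]
    simp only [Category.assoc]
  have hfin : Finite (Σ p : J × J, p.1 ⟶ p.2) := Finite.of_fintype _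
  obtain ⟨Y'', t, ht, hfac⟩ := Groth.Agent.H13.exists_common_coequalizer W L Y'
    (Σ p : J × J, p.1 ⟶ p.2) (fun a => K.obj a.1.1) (fun a => K.map a.2 ≫ f a.1.2)
    (fun a => f a.1.1) hcompat
  let c' : Limits.Cocone K :=
    { pt := Y''
      ι := { app := fun j => f j ≫ t
             naturality := fun j j' α => by
               have := hfac ⟨⟨j, j'⟩, α⟩
               dsimp at this ⊢
               rw [Category.comp_id, ← this, Category.assoc] } }
  have hd : ∀ j, c.ι.app j ≫ hc.desc c' = f j ≫ t := hc.fac c'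
  have hiso : IsIso (L.map (σ ≫ t)) := Localization.inverts L W _ (W.comp_mem _ _ hσ ht)
  have hfacs : ∀ j, L.map (c.ι.app j) ≫ (L.map (hc.desc c') ≫ inv (L.map (σ ≫ t))) =
      s.ι.app j ≫ e.inv := by
    intro j
    rw [← Category.assoc, ← L.map_comp, hd j, IsIso.comp_inv_eq, L.map_comp, L.map_comp,
      ← hf j]
    simp only [Category.assoc]
  refine ⟨(L.map (hc.desc c') ≫ inv (L.map (σ ≫ t))) ≫ e.hom, ?_, ?_⟩
  · intro j
    dsimp only [Functor.mapCocone_ι_app]
    rw [← Category.assoc, hfacs j, Category.assoc, e.inv_hom_id]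
    exact Category.comp_id _
  · intro m hm
    rw [← cancel_mono e.inv, Category.assoc, e.hom_inv_id, Category.comp_id]
    apply hom_ext_of_isColimit W L hc
    intro j
    rw [hfacs j, ← Category.assoc]
    have := hm j
    dsimp only [Functor.mapCocone_ι_app] at this
    rw [this]

end Groth.Agent.S6434
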