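import Groth.Statements.S6436
import Mathlib.CategoryTheory.Adjunction.FullyFaithful

set_option autoImplicit false
open CategoryTheory
universe v₁ u₁ v₂ u₂
open CatLim

namespace Groth.Agent.S6436

/-- For an adjunction `u ⊣ v`, if `v ∘ u` is fully faithful then so is `u`, and if `u ∘ v` is fully
faithful then so is `v`. -/
theorem result {C : Type u₁} [Category.{v₁} C] {D : Type u₂} [Category.{v₂} D] {u : C ⥤ D} {v : D ⥤ C} (adj : u ⊣ v) :
    ((u ⋙ v).Full → (u ⋙ v).Faithful → u.Full ∧ u.Faithful) ∧ ((v ⋙ u).Full → (v ⋙ u).Faithful → v.Full ∧ v.Faithful) := by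
  constructor
  · intro hfull hfaith
    have hiso : ∀ X : C, IsIso (adj.unit.app X) := by
      intro X
      obtain ⟨m, hm⟩ := (u ⋙ v).map_surjective (v.map (adj.counit.app (u.obj X)) :
        (u ⋙ v).obj ((u ⋙ v).obj X) ⟶ (u ⋙ v).obj X)
      refine ⟨m, ?_, ?_⟩
      · apply (u ⋙ v).map_injective
        rw [Functor.map_comp, hm]
        simp only [Functor.comp_map, Functor.id_obj, Functor.comp_obj, Functor.map_id]
        rw [← v.map_comp, adj.left_triangle_components, v.map_id]
      · have nat := adj.unit.naturality m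
        simp only [Functor.id_map] at nat
        rw [nat, hm]
        exact adj.right_triangle_components (u.obj X)
    have : IsIso adj.unit := NatIso.isIso_of_isIso_app _
    exact ⟨adj.fullyFaithfulLOfIsIsoUnit.full, adj.fullyFaithfulLOfIsIsoUnit.faithful⟩
  · intro hfull hfaith
    have hiso : ∀ Y : D, IsIso (adj.counit.app Y) := by
      intro Y
      obtain ⟨d, hd⟩ := (v ⋙ u).map_surjective (u.map (adj.unit.app (v.obj Y)) :
        (v ⋙ u).obj Y ⟶ (v ⋙ u).obj ((v ⋙ u).obj Y))
      refine ⟨d, ?_, ?_⟩
      · have nat := adj.counit.naturality d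
        simp only [Functor.id_map] at nat
        rw [← nat, hd]
        exact adj.left_triangle_components (v.obj Y)
      · apply (v ⋙ u).map_injective
        rw [Functor.map_comp, hd]
        simp only [Functor.comp_map, Functor.id_obj, Functor.comp_obj, Functor.map_id]
        rw [← u.map_comp, adj.right_triangle_components, u.map_id]
    have : IsIso adj.counit := NatIso.isIso_of_isIso_app _
    exact ⟨adj.fullyFaithfulROfIsIsoCounit.full, adj.fullyFaithfulROfIsIsoCounit.faithful⟩

end Groth.Agent.S6436
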