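import Groth.Statements.S6442
import Mathlib

set_option autoImplicit false
open CategoryTheory CategoryTheory.Limits Opposite
universe u
open SiteMisc

namespace Groth.Agent.S6442

section helpers
open CategoryTheory CategoryTheory.Limits Opposite

variable {C : Type u} [SmallCategory C] (J : GrothendieckTopology C) (U : C)

noncomputable def bEq (G : Sheaf J (Type u)) :
    ((presheafToSheaf J (Type u)).obj (yoneda.obj U) ⟶ G) ≃ G.obj.obj (op U) :=
  ((sheafificationAdjunction J (Type u)).homEquiv (yoneda.obj U) G).trans yonedaEquiv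

lemma bEq_nat {G G' : Sheaf J (Type u)}
    (φ : (presheafToSheaf J (Type u)).obj (yoneda.obj U) ⟶ G) (ψ : G ⟶ G') :
    bEq J U G' (φ ≫ ψ) = ψ.hom.app (op U) (bEq J U G φ) := by
  show yonedaEquiv ((sheafificationAdjunction J (Type u)).homEquiv _ _ (φ ≫ ψ)) = _
  rw [Adjunction.homEquiv_naturality_right]
  exact yonedaEquiv_comp _ _

noncomputable abbrev PS (S : Sieve U) : Cᵒᵖ ⥤ Type u :=
  ∐ fun i : (Σ V : C, {f : V ⟶ U // S f}) => yoneda.obj i.1

noncomputable abbrev πS (S : Sieve U) : PS U S ⟶ yoneda.obj U :=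
  (Sigma.desc (fun i : (Σ V : C, {f : V ⟶ U // S f}) => yoneda.map i.2.1) :
    (∐ fun i : (Σ V : C, {f : V ⟶ U // S f}) => yoneda.obj i.1) ⟶ yoneda.obj U)

lemma πS_locallySurjective (S : Sieve U) (hS : S ∈ J U) :
    Presheaf.IsLocallySurjective J (πS U S) := by
  constructor
  intro V s
  apply J.superset_covering _ (J.pullback_stable (s : V ⟶ U) hS)
  intro W g hg
  refine ⟨(Sigma.ι (fun i : (Σ V : C, {f : V ⟶ U // S f}) => yoneda.obj i.1)
    ⟨W, g ≫ (s : V ⟶ U), hg⟩).app (op W) (𝟙 W), ?_⟩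
  have e := Sigma.ι_desc (fun i : (Σ V : C, {f : V ⟶ U // S f}) => yoneda.map i.2.1)
    ⟨W, g ≫ (s : V ⟶ U), hg⟩
  have e' := congrArg (fun α => α.app (op W) (𝟙 W)) e
  refine e'.trans ?_
  simp

lemma splitEpi_of_surj
    (h : ∀ (F G : Sheaf J (Type u)) (φ : F ⟶ G), Epi φ → Function.Surjective (φ.hom.app (op U)))
    (S : Sieve U) (hS : S ∈ J U) :
    IsSplitEpi ((presheafToSheaf J (Type u)).map (πS U S)) := by
  haveI := πS_locallySurjective J U S hS
  haveI : Sheaf.IsLocallySurjective ((presheafToSheaf J (Type u)).map (πS U S)) :=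
    (Presheaf.isLocallySurjective_presheafToSheaf_map_iff J (πS U S)).2 inferInstance
  have hepi : Epi ((presheafToSheaf J (Type u)).map (πS U S)) := inferInstance
  obtain ⟨t, ht⟩ := h _ _ _ hepi (bEq J U _ (𝟙 _))
  refine IsSplitEpi.mk' ⟨(bEq J U _).symm t, ?_⟩
  apply (bEq J U _).injective
  rw [bEq_nat, Equiv.apply_symm_apply, ht]

lemma surj_of_splitEpi
    (hA : ∀ S : Sieve U, S ∈ J U → IsSplitEpi ((presheafToSheaf J (Type u)).map (πS U S)))
    (F G : Sheaf J (Type u)) (φ : F ⟶ G) (hφ : Epi φ) :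
    Function.Surjective (φ.hom.app (op U)) := by
  intro g
  haveI : Sheaf.IsLocallySurjective φ := (Sheaf.isLocallySurjective_iff_epi φ).2 hφ
  have hS : Presheaf.imageSieve φ.hom g ∈ J U := Presheaf.imageSieve_mem J φ.hom (U := op U) g
  haveI := hA _ hS
  let x : ∀ i : (Σ V : C, {f : V ⟶ U // Presheaf.imageSieve φ.hom g f}), F.obj.obj (op i.1) :=
    fun i => Presheaf.localPreimage φ.hom (U := op U) g i.2.1 i.2.2
  have hx : ∀ i, φ.hom.app (op i.1) (x i) = G.obj.map i.2.1.op g :=
    fun i => Presheaf.app_localPreimage φ.hom (U := op U) g i.2.1 i.2.2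
  let ρ : PS U (Presheaf.imageSieve φ.hom g) ⟶ F.obj := Sigma.desc (fun i => yonedaEquiv.symm (x i))
  let γ : yoneda.obj U ⟶ G.obj := yonedaEquiv.symm g
  have hcomm : ρ ≫ φ.hom = πS U (Presheaf.imageSieve φ.hom g) ≫ γ := by
    apply Sigma.hom_ext
    intro i
    rw [Sigma.ι_desc_assoc, Sigma.ι_desc_assoc]
    apply yonedaEquiv.injective
    rw [yonedaEquiv_comp, Equiv.apply_symm_apply, hx, ← yonedaEquiv_naturality,
      Equiv.apply_symm_apply]
  let adj := sheafificationAdjunction J (Type u)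
  have hcomm' : (presheafToSheaf J (Type u)).map (πS U (Presheaf.imageSieve φ.hom g)) ≫
      (adj.homEquiv _ G).symm γ = (adj.homEquiv _ F).symm ρ ≫ φ := by
    rw [← adj.homEquiv_naturality_left_symm, ← adj.homEquiv_naturality_right_symm]
    congr 1
    exact hcomm.symm
  refine ⟨bEq J U F (section_ ((presheafToSheaf J (Type u)).map
    (πS U (Presheaf.imageSieve φ.hom g))) ≫ (adj.homEquiv _ F).symm ρ), ?_⟩
  rw [← bEq_nat, Category.assoc, ← hcomm', ← Category.assoc, IsSplitEpi.id, Category.id_comp]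
  show yonedaEquiv (adj.homEquiv _ _ ((adj.homEquiv _ G).symm γ)) = g
  rw [Equiv.apply_symm_apply]
  exact Equiv.apply_symm_apply _ _

theorem main :
    (∀ S : Sieve U, S ∈ J U →
      IsSplitEpi ((presheafToSheaf J (Type u)).map
        (Sigma.desc (fun i : (Σ V : C, {f : V ⟶ U // S f}) => yoneda.map i.2.1) :
          (∐ fun i : (Σ V : C, {f : V ⟶ U // S f}) => yoneda.obj i.1) ⟶ yoneda.obj U))) ↔
    ∀ (F G : Sheaf J (Type u)) (φ : F ⟶ G), Epi φ → Function.Surjective (φ.hom.app (op U)) :=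
  ⟨fun hA F G φ hφ => surj_of_splitEpi J U hA F G φ hφ,
   fun h S hS => splitEpi_of_surj J U h S hS⟩


end helpers

/-- An object `U` of a site is weakly contractible, i.e. for every covering sieve `S` the sheafified map
`(∐_{V → U ∈ S} h_V)^# ⟶ h_U^#` has a section, if and only if taking sections over `U` turns
epimorphisms of sheaves of sets into surjections. (Coverings are taken as covering sieves; the
coproduct is formed in presheaves and then sheafified.) -/
theorem result {C : Type u} [SmallCategory C] (J : GrothendieckTopology C) (U : C) :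
    (∀ S : Sieve U, S ∈ J U →
      IsSplitEpi ((presheafToSheaf J (Type u)).map
        (Sigma.desc (fun i : (Σ V : C, {f : V ⟶ U // S f}) => yoneda.map i.2.1) :
          (∐ fun i : (Σ V : C, {f : V ⟶ U // S f}) => yoneda.obj i.1) ⟶ yoneda.obj U))) ↔
    ∀ (F G : Sheaf J (Type u)) (φ : F ⟶ G), Epi φ → Function.Surjective (φ.hom.app (op U)) := by
  exact Groth.Agent.S6442.main J U

end Groth.Agent.S6442
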