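import Groth.Statements.S6443
import Groth.Agent.Lib.Helper12.EquivOver

set_option autoImplicit false
open CategoryTheory
universe v u
open FibCat


namespace Groth.Agent.S6443aux

set_option backward.isDefEq.respectTransparency false
set_option backward.isDefEq.respectTransparency.types false

theorem main {C : Type u} [Category.{v} C] {𝒮 : BasedCategory.{v, max u v} C} (h𝒮 : FibCat.IsFibGrpd 𝒮.p)
    {X X' : C} (j : 𝒮 ⥤ᵇ FibCat.overCat X) (j' : 𝒮 ⥤ᵇ FibCat.overCat X') (hj : FibCat.IsEquivOver j) (hj' : FibCat.IsEquivOver j') :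
    ∃ e : X' ≅ X, Nonempty (BasedFunctor.comp j' (⟨Over.map e.hom, Over.mapForget_eq e.hom⟩ : FibCat.overCat X' ⥤ᵇ FibCat.overCat X) ≅ j) := by
  haveI hE : j.toFunctor.IsEquivalence := Groth.Agent.Helper12.isEquivalence_of_isEquivOver j hj
  haveI hE' : j'.toFunctor.IsEquivalence :=
    Groth.Agent.Helper12.isEquivalence_of_isEquivOver j' hj'
  let tX : Over X := Over.mk (𝟙 X)
  let t : 𝒮.obj := j.toFunctor.objPreimage tX
  let α : j.toFunctor.obj t ≅ tX := j.toFunctor.objObjPreimageIso tX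
  have htj : Limits.IsTerminal (j.toFunctor.obj t) :=
    Limits.IsTerminal.ofIso Over.mkIdTerminal α.symm
  have ht : Limits.IsTerminal t := Limits.IsTerminal.isTerminalOfObj j.toFunctor t htj
  have htj' : Limits.IsTerminal (j'.toFunctor.obj t) :=
    Limits.IsTerminal.isTerminalObj j'.toFunctor t ht
  let α' : j'.toFunctor.obj t ≅ Over.mk (𝟙 X') := htj'.uniqueUpToIso Over.mkIdTerminal
  let a : (j.obj t).left ≅ X := (Over.forget X).mapIso α
  let a' : (j'.obj t).left ≅ X' := (Over.forget X').mapIso α'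
  have ha : a.hom = (j.obj t).hom := by
    exact (Category.comp_id _).symm.trans (Over.w α.hom)
  have ha' : a'.hom = (j'.obj t).hom := by
    exact (Category.comp_id _).symm.trans (Over.w α'.hom)
  have hl : (j'.obj t).left = (j.obj t).left := (j'.w_obj t).trans (j.w_obj t).symm
  let e : X' ≅ X := a'.symm ≪≫ eqToIso hl ≪≫ a
  refine ⟨e, ⟨?_⟩⟩
  have hj_hom : ∀ s, (j.obj s).hom = (j.map (ht.from s)).left ≫ (j.obj t).hom :=
    fun s => (Over.w (j.map (ht.from s))).symm
  have hj'_hom : ∀ s, (j'.obj s).hom = (j'.map (ht.from s)).left ≫ (j'.obj t).hom :=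
    fun s => (Over.w (j'.map (ht.from s))).symm
  have hjl : ∀ {s s' : 𝒮.obj} (k : s ⟶ s'), (j.map k).left =
      eqToHom (j.w_obj s) ≫ 𝒮.p.map k ≫ eqToHom (j.w_obj s').symm :=
    fun k => Functor.congr_hom j.w k
  have hj'l : ∀ {s s' : 𝒮.obj} (k : s ⟶ s'), (j'.map k).left =
      eqToHom (j'.w_obj s) ≫ 𝒮.p.map k ≫ eqToHom (j'.w_obj s').symm :=
    fun k => Functor.congr_hom j'.w k
  have hs : ∀ s, (j'.obj s).left = (j.obj s).left :=
    fun s => (j'.w_obj s).trans (j.w_obj s).symm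
  have hw : ∀ s, eqToHom (hs s) ≫ (j.obj s).hom = (j'.obj s).hom ≫ e.hom := by
    intro s
    show _ = (j'.obj s).hom ≫ (a'.inv ≫ eqToHom hl ≫ a.hom)
    rw [hj_hom s, hj'_hom s, hjl, hj'l, ha, ← ha']
    simp
  let F' : 𝒮 ⥤ᵇ FibCat.overCat X := BasedFunctor.comp j'
    (⟨Over.map e.hom, Over.mapForget_eq e.hom⟩ : FibCat.overCat X' ⥤ᵇ FibCat.overCat X)
  let iso : ∀ s, F'.obj s ≅ j.obj s := fun s => Over.isoMk (eqToIso (hs s)) (hw s)
  refine BasedNatIso.mkNatIso (NatIso.ofComponents iso ?_) ?_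
  · intro s s' k
    apply Over.OverMorphism.ext
    show (j'.map k).left ≫ eqToHom (hs s') = eqToHom (hs s) ≫ (j.map k).left
    rw [hjl k, hj'l k]
    simp
  · intro s
    apply IsHomLift.of_fac' (FibCat.overCat X).p (𝟙 (𝒮.p.obj s)) (iso s).hom (F'.w_obj s)
      (j.w_obj s)
    show eqToHom (hs s) = _
    rw [Category.id_comp, eqToHom_trans]

end Groth.Agent.S6443aux

namespace Groth.Agent.S6443

/-- If a category `𝒮` fibred in groupoids over `C` is represented by `X` via `j : 𝒮 ⟶ C/X` and by `X'`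
via `j' : 𝒮 ⟶ C/X'` (equivalences over `C`), then there is an isomorphism `X' ≅ X` under which `j'`
becomes 2-isomorphic to `j` over `C`. -/
theorem result {C : Type u} [Category.{v} C] {𝒮 : BasedCategory.{v, max u v} C} (h𝒮 : FibCat.IsFibGrpd 𝒮.p)
    {X X' : C} (j : 𝒮 ⥤ᵇ FibCat.overCat X) (j' : 𝒮 ⥤ᵇ FibCat.overCat X') (hj : FibCat.IsEquivOver j) (hj' : FibCat.IsEquivOver j') :
    ∃ e : X' ≅ X, Nonempty (BasedFunctor.comp j' (⟨Over.map e.hom, Over.mapForget_eq e.hom⟩ : FibCat.overCat X' ⥤ᵇ FibCat.overCat X) ≅ j) := by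
  exact Groth.Agent.S6443aux.main h𝒮 j j' hj hj'

end Groth.Agent.S6443
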