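import Groth.Statements.S6444
-- import your own Groth.Agent.* helpers here

set_option autoImplicit false
open CategoryTheory
universe v u v' u'
open CatLoc

namespace Groth.Agent.S6444

/-- For a left multiplicative system, a commutative square in the localization between the images of two
morphisms `f, f'` of `C` lifts to a commutative diagram `X → X'' ← X'`, `Y → Y'' ← Y'` in `C` over a
third morphism `f''`, the backward arrows lying in `W`. -/
theorem result {C : Type u} [Category.{v} C] {D : Type u'} [Category.{v'} D] (W : MorphismProperty C) (L : C ⥤ D) [L.IsLocalization W] [W.HasLeftCalculusOfFractions]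
    {X Y X' Y' : C} (f : X ⟶ Y) (f' : X' ⟶ Y') (a : L.obj X ⟶ L.obj X') (b : L.obj Y ⟶ L.obj Y') (w : L.map f ≫ b = a ≫ L.map f') :
    ∃ (X'' Y'' : C) (f'' : X'' ⟶ Y'') (g : X ⟶ X'') (h : Y ⟶ Y'') (s : X' ⟶ X'') (t : Y' ⟶ Y''),
      W s ∧ W t ∧ f ≫ h = g ≫ f'' ∧ f' ≫ t = s ≫ f'' ∧ L.map g = a ≫ L.map s ∧ L.map h = b ≫ L.map t := by
  obtain ⟨φa, hφa⟩ := Localization.exists_leftFraction L W a
  obtain ⟨φb, hφb⟩ := Localization.exists_leftFraction L W b
  have ha : a ≫ L.map φa.s = L.map φa.f := by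
    rw [hφa]; exact φa.map_comp_map_s L (Localization.inverts L W)
  have hb : b ≫ L.map φb.s = L.map φb.f := by
    rw [hφb]; exact φb.map_comp_map_s L (Localization.inverts L W)
  obtain ⟨ψ, hψ⟩ := MorphismProperty.HasLeftCalculusOfFractions.exists_leftFraction
    (W := W) (MorphismProperty.RightFraction.mk φa.s φa.hs f' : W.RightFraction φa.Y' Y')
  dsimp at hψ
  obtain ⟨ψ', hψ'⟩ := MorphismProperty.HasLeftCalculusOfFractions.exists_leftFraction
    (W := W) (MorphismProperty.RightFraction.mk ψ.s ψ.hs φb.s : W.RightFraction ψ.Y' φb.Y')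
  dsimp at hψ'
  -- t₁ = φb.s ≫ ψ'.s = ψ.s ≫ ψ'.f
  have ht₁ : W (φb.s ≫ ψ'.s) := W.comp_mem _ _ φb.hs ψ'.hs
  have e : L.map (f ≫ φb.f ≫ ψ'.s) = L.map (φa.f ≫ ψ.f ≫ ψ'.f) := by
    simp only [L.map_comp]
    rw [← hb, ← ha]
    simp only [Category.assoc]
    rw [reassoc_of% w]
    congr 1
    simp only [← L.map_comp]
    congr 1
    rw [hψ', reassoc_of% hψ]
  obtain ⟨Y'', v, hv, fac⟩ := (MorphismProperty.map_eq_iff_postcomp L W _ _).1 e
  refine ⟨φa.Y', Y'', ψ.f ≫ ψ'.f ≫ v, φa.f, φb.f ≫ ψ'.s ≫ v, φa.s, φb.s ≫ ψ'.s ≫ v, φa.hs, ?_, ?_, ?_, ha.symm, ?_⟩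
  · rw [← Category.assoc]; exact W.comp_mem _ _ ht₁ hv
  · simpa only [Category.assoc] using fac
  · rw [reassoc_of% hψ', reassoc_of% hψ]
  · simp only [L.map_comp]
    rw [← reassoc_of% hb]

end Groth.Agent.S6444
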