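import Groth.Statements.S6447
import Mathlib

set_option autoImplicit false
open CategoryTheory CategoryTheory.Limits
universe v u
open FibCat

set_option backward.isDefEq.respectTransparency false
set_option backward.isDefEq.respectTransparency.types false

namespace Groth.Agent.S6447aux

open CategoryTheory CategoryTheory.Limits

universe v₁ v₂ v₃ v₄ v₅ v₆ u₁ u₂ u₃ u₄ u₅ u₆

theorem cpm_obj_iso_hom' {X : Type u₁} {Y : Type u₂} {Z : Type u₃} {A : Type u₄} {B : Type u₅}
    {C : Type u₆} [Category.{v₁} X] [Category.{v₂} Y] [Category.{v₃} Z] [Category.{v₄} A]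
    [Category.{v₅} B] [Category.{v₆} C] {H : X ⥤ Z} {I : Y ⥤ Z} {F : A ⥤ C} {G : B ⥤ C}
    (ψ : CatCospanTransform H I F G) (x : CategoricalPullback H I) :
    ((FibCat.categoricalPullbackMap ψ).obj x).iso.hom =
      ψ.squareLeft.iso.inv.app x.fst ≫ ψ.base.map x.iso.hom ≫ ψ.squareRight.iso.hom.app x.snd := by
  simp [FibCat.categoricalPullbackMap]
  rfl

section
variable {X Y V : Type u} [Category.{v} X] [Category.{v} Y] [Category.{v} V] (p : X ⥤ Y) (q : V ⥤ Y)

/-- diagonal of `U = X ×_Y V` over `V`. -/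
abbrev DU : CategoricalPullback p q ⥤
    CategoricalPullback (CategoricalPullback.π₂ p q) (CategoricalPullback.π₂ p q) :=
  (CategoricalPullback.CatCommSqOver.toFunctorToCategoricalPullback (CategoricalPullback.π₂ p q)
    (CategoricalPullback.π₂ p q) (CategoricalPullback p q)).obj ⟨𝟭 _, 𝟭 _, Iso.refl _⟩

/-- diagonal of `X` over `Y`. -/
abbrev DX : X ⥤ CategoricalPullback p p :=
  (CategoricalPullback.CatCommSqOver.toFunctorToCategoricalPullback p p X).obj ⟨𝟭 _, 𝟭 _, Iso.refl _⟩

/-- the cospan transform. -/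
abbrev psi : CatCospanTransform (CategoricalPullback.π₂ p q) (CategoricalPullback.π₂ p q) p p :=
  ⟨CategoricalPullback.π₁ p q, q, CategoricalPullback.π₁ p q,
    ⟨(CatCommSq.iso (CategoricalPullback.π₁ p q) (CategoricalPullback.π₂ p q) p q).symm⟩,
    ⟨(CatCommSq.iso (CategoricalPullback.π₁ p q) (CategoricalPullback.π₂ p q) p q).symm⟩⟩

/-- the induced functor on fibre products. -/
noncomputable abbrev M : CategoricalPullback (CategoricalPullback.π₂ p q) (CategoricalPullback.π₂ p q) ⥤
    CategoricalPullback p p :=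
  FibCat.categoricalPullbackMap (psi p q)

lemma M_iso_hom (w : CategoricalPullback (CategoricalPullback.π₂ p q) (CategoricalPullback.π₂ p q)) :
    ((M p q).obj w).iso.hom = w.fst.iso.hom ≫ q.map w.iso.hom ≫ w.snd.iso.inv := by
  exact (cpm_obj_iso_hom' (psi p q) w).trans rfl

lemma aux_id {Z : Type*} [Category Z] {A : Z} (m i j : A ⟶ A) (hm : m = 𝟙 A) (hi : i = 𝟙 A)
    (hj : j = 𝟙 A) : m ≫ j = i ≫ m := by
  subst hm hi hj
  rfl

/-- the 2-cell. -/
noncomputable def e : CategoricalPullback.π₁ p q ⋙ DX p ≅ DU p q ⋙ M p q :=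
  NatIso.ofComponents (fun u => CategoricalPullback.mkIso (Iso.refl _) (Iso.refl _) (by
      have h1 : ((M p q).obj ((DU p q).obj u)).iso.hom =
          u.iso.hom ≫ q.map (𝟙 u.snd) ≫ u.iso.inv := (M_iso_hom p q ((DU p q).obj u)).trans rfl
      have h1' : ((M p q).obj ((DU p q).obj u)).iso.hom = 𝟙 (p.obj u.fst) :=
        h1.trans (by simp)
      have h2 : ((DX p).obj u.fst).iso.hom = 𝟙 (p.obj u.fst) := rfl
      exact aux_id _ _ _ (p.map_id u.fst) h2 h1')) (by
      intro u u' f
      apply CategoricalPullback.hom_ext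
      · show f.fst ≫ 𝟙 _ = 𝟙 _ ≫ f.fst
        simp
      · show f.fst ≫ 𝟙 _ = 𝟙 _ ≫ f.fst
        simp)

/-- the comparison functor. -/
noncomputable abbrev Phi : CategoricalPullback p q ⥤ CategoricalPullback (DX p) (M p q) :=
  (CategoricalPullback.CatCommSqOver.toFunctorToCategoricalPullback (DX p) (M p q)
    (CategoricalPullback p q)).obj ⟨CategoricalPullback.π₁ p q, DU p q, e p q⟩

lemma faithful_Phi : (Phi p q).Faithful where
  map_injective {u u'} f g h := by
    have h2 : f = g := congrArg (fun k => k.snd.fst) h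
    exact h2

lemma full_Phi : (Phi p q).Full where
  map_surjective {u u'} h := by
    have hw := h.w
    have t1 : h.fst ≫ 𝟙 _ = 𝟙 _ ≫ h.snd.fst.fst := congrArg (fun k => k.fst) hw
    have t2 : h.fst ≫ 𝟙 _ = 𝟙 _ ≫ h.snd.snd.fst := congrArg (fun k => k.snd) hw
    have e1 : h.fst = h.snd.fst.fst :=
      (Category.comp_id _).symm.trans (t1.trans (Category.id_comp _))
    have e2 : h.fst = h.snd.snd.fst :=
      (Category.comp_id _).symm.trans (t2.trans (Category.id_comp _))
    have t3 : h.snd.fst.snd ≫ 𝟙 _ = 𝟙 _ ≫ h.snd.snd.snd := h.snd.w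
    have e3 : h.snd.fst.snd = h.snd.snd.snd :=
      (Category.comp_id _).symm.trans (t3.trans (Category.id_comp _))
    have e4 : h.snd.fst = h.snd.snd := CategoricalPullback.hom_ext (e1.symm.trans e2) e3
    refine ⟨h.snd.fst, ?_⟩
    apply CategoricalPullback.hom_ext
    · exact e1.symm
    · apply CategoricalPullback.hom_ext
      · rfl
      · exact e4

lemma essSurj_Phi : (Phi p q).EssSurj where
  mem_essImage t := by
    let a : t.fst ≅ t.snd.fst.fst := (CategoricalPullback.π₁ p p).mapIso t.iso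
    let b : t.fst ≅ t.snd.snd.fst := (CategoricalPullback.π₂ p p).mapIso t.iso
    have hab : p.map a.hom ≫ (t.snd.fst.iso.hom ≫ q.map t.snd.iso.hom ≫ t.snd.snd.iso.inv) =
        p.map b.hom := by
      have h0 : p.map a.hom ≫ ((M p q).obj t.snd).iso.hom = 𝟙 _ ≫ p.map b.hom := t.iso.hom.w
      exact ((congrArg (fun z => p.map a.hom ≫ z) (M_iso_hom p q t.snd)).symm.trans h0).trans
        (Category.id_comp _)
    let u : CategoricalPullback p q := ⟨t.fst, t.snd.fst.snd, p.mapIso a ≪≫ t.snd.fst.iso⟩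
    let α : u ≅ t.snd.fst := CategoricalPullback.mkIso a (Iso.refl _) (by
      show p.map a.hom ≫ t.snd.fst.iso.hom = (p.map a.hom ≫ t.snd.fst.iso.hom) ≫ q.map (𝟙 _)
      simp)
    let β : u ≅ t.snd.snd := CategoricalPullback.mkIso b t.snd.iso (by
      show p.map b.hom ≫ t.snd.snd.iso.hom =
        (p.map a.hom ≫ t.snd.fst.iso.hom) ≫ q.map t.snd.iso.hom
      rw [← hab]
      simp)
    let γ : (DU p q).obj u ≅ t.snd := CategoricalPullback.mkIso α β (by
      show 𝟙 _ ≫ t.snd.iso.hom = 𝟙 _ ≫ t.snd.iso.hom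
      rfl)
    refine ⟨u, ⟨CategoricalPullback.mkIso (Iso.refl _) γ ?_⟩⟩
    apply CategoricalPullback.hom_ext
    · show 𝟙 _ ≫ a.hom = 𝟙 _ ≫ a.hom
      rfl
    · show 𝟙 _ ≫ b.hom = 𝟙 _ ≫ b.hom
      rfl

lemma isEquivalence_Phi : (Phi p q).IsEquivalence := by
  have := faithful_Phi p q
  have := full_Phi p q
  have := essSurj_Phi p q
  exact { }

end

end Groth.Agent.S6447aux

namespace Groth.Agent.S6447

/-- For a 2-fibre product `U = X ×_Y V` of categories, the square formed by `U ⟶ X`, the diagonals `U ⟶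
U ×_V U`, `X ⟶ X ×_Y X` and the induced functor `U ×_V U ⟶ X ×_Y X` is 2-cartesian. (The filling
2-isomorphism is the one whose two components at every object are identities; it exists and is
unique with that property.) -/
theorem result {X Y V : Type u} [Category.{v} X] [Category.{v} Y] [Category.{v} V] (p : X ⥤ Y) (q : V ⥤ Y) :
    ∃ e, (∀ u, (e.hom.app u).fst = 𝟙 _ ∧ (e.hom.app u).snd = 𝟙 _) ∧ FibCat.IsTwoCart
      (CategoricalPullback.π₁ p q)
      ((CategoricalPullback.CatCommSqOver.toFunctorToCategoricalPullback (CategoricalPullback.π₂ p q) (CategoricalPullback.π₂ p q) (CategoricalPullback p q)).obj ⟨𝟭 _, 𝟭 _, Iso.refl _⟩)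
      ((CategoricalPullback.CatCommSqOver.toFunctorToCategoricalPullback p p X).obj ⟨𝟭 _, 𝟭 _, Iso.refl _⟩)
      (FibCat.categoricalPullbackMap (⟨CategoricalPullback.π₁ p q, q, CategoricalPullback.π₁ p q, ⟨(CatCommSq.iso (CategoricalPullback.π₁ p q) (CategoricalPullback.π₂ p q) p q).symm⟩, ⟨(CatCommSq.iso (CategoricalPullback.π₁ p q) (CategoricalPullback.π₂ p q) p q).symm⟩⟩ : CatCospanTransform (CategoricalPullback.π₂ p q) (CategoricalPullback.π₂ p q) p p))
      e := by
  exact ⟨Groth.Agent.S6447aux.e p q, fun u => ⟨rfl, rfl⟩, Groth.Agent.S6447aux.isEquivalence_Phi p q⟩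

end Groth.Agent.S6447
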