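import Groth.Statements.S6448
-- import your own Groth.Agent.* helpers here

set_option autoImplicit false
open CategoryTheory
universe v u
open CatLim

namespace Groth.Agent.S6448

/-- In a category where spans complete to commutative squares and parallel pairs are coequalized by a
later arrow, every connected component is filtered (so the category is a disjoint union of filtered
categories). -/
theorem result {I : Type u} [Category.{v} I]
    (h1 : ∀ ⦃w x y : I⦄ (a : w ⟶ x) (b : w ⟶ y), ∃ (z : I) (c : x ⟶ z) (d : y ⟶ z), a ≫ c = b ≫ d)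
    (h2 : ∀ ⦃x y : I⦄ (a b : x ⟶ y), ∃ (z : I) (c : y ⟶ z), a ≫ c = b ≫ c)
    (j : ConnectedComponents I) : IsFiltered j.Component := by
  have key : ∀ X Y : I, Zigzag X Y → ∃ (Z : I) (_ : X ⟶ Z) (_ : Y ⟶ Z), True := by
    intro X Y h
    induction h with
    | refl => exact ⟨X, 𝟙 X, 𝟙 X, trivial⟩
    | tail _ hzag ih =>
      obtain ⟨Z', a, b, -⟩ := ih
      rcases hzag with ⟨⟨f⟩⟩ | ⟨⟨f⟩⟩
      · obtain ⟨w, c, d, -⟩ := h1 b f
        exact ⟨w, a ≫ c, d, trivial⟩
      · exact ⟨Z', a, f ≫ b, trivial⟩
  have hmem : ∀ (X : j.Component) (Z : I) (_ : X.obj ⟶ Z), j.objectProperty Z := by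
    intro X Z f
    have hX : Quotient.mk'' X.obj = j := X.property
    rw [← hX]
    exact (Quotient.sound' (Zigzag.of_hom f)).symm
  have : IsFilteredOrEmpty j.Component :=
    { cocone_objs := by
        intro X Y
        have hz : Zigzag X.obj Y.obj := by
          have hX : Quotient.mk'' X.obj = j := X.property
          have hY : Quotient.mk'' Y.obj = j := Y.property
          exact Quotient.exact' (hX.trans hY.symm)
        obtain ⟨Z, a, b, -⟩ := key _ _ hz
        exact ⟨⟨Z, hmem X Z a⟩, ObjectProperty.homMk a, ObjectProperty.homMk b, trivial⟩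
      cocone_maps := by
        intro X Y f g
        obtain ⟨Z, c, hc⟩ := h2 f.hom g.hom
        refine ⟨⟨Z, hmem Y Z c⟩, ObjectProperty.homMk c, ?_⟩
        apply ObjectProperty.hom_ext
        simpa using hc }
  exact { }

end Groth.Agent.S6448
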