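import Groth.Statements.S6459
import Mathlib
import Groth.Agent.H29.DimFun

set_option autoImplicit false
universe u
open CategoryTheory AlgebraicGeometry
open Cyc

namespace Groth.Agent.S6459

/-- (b) ⇔ (c): let X be integral with generic point η and Z ⊂ X an integral closed subscheme with
generic point ξ. Then Z has codimension 1 in X (the local ring O_{X,ξ} is one-dimensional; Z is a
prime divisor) if and only if dim_δ(Z) = dim_δ(X) − 1. Here a pair (X, δ) with Cyc.IsSetup plays the
role of a scheme locally of finite type over the base (S, δ) (X locally Noetherian with universally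
catenary local rings, δ a dimension function). -/
theorem result (X : Scheme.{u}) [IsIntegral X] (δ : X → ℤ) (hX : Cyc.IsSetup X δ) (ξ : X) : ringKrullDim ↑(X.presheaf.stalk ξ) = 1 ↔ δ ξ = δ (genericPoint X) - 1 := by
  obtain ⟨hLN, -, hδ⟩ := hX
  haveI := hLN
  have hgen : ∀ ξ' : X, ξ' ⤳ genericPoint X → ξ' = genericPoint X := fun ξ' h =>
    (h.antisymm (genericPoint_specializes ξ')).eq
  obtain ⟨p, hp, hpmin⟩ := Groth.Agent.H29.DimFun.exists_minimal_of_generic ξ
    (genericPoint X) hgen (genericPoint_specializes ξ)
  obtain ⟨h0, h1⟩ := Groth.Agent.H29.DimFun.delta_eq δ hδ ξ p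
  rw [hp] at h0 h1
  have hbot : p.asIdeal = ⊥ := by
    rw [IsDomain.minimalPrimes_eq_singleton_bot] at hpmin
    exact hpmin
  have h2 : ((Order.coheight p : ℕ∞) : WithBot ℕ∞) = ringKrullDim (X.presheaf.stalk ξ) := by
    rw [Groth.Agent.H29.DimFun.coheight_eq_ringKrullDim_quotient, hbot]
    exact ringKrullDim_eq_of_ringEquiv (RingEquiv.quotientBot _)
  rw [← h2, ← h1]
  constructor
  · intro h
    have h3 : (δ (genericPoint X) - δ ξ).toNat = 1 := by exact_mod_cast h
    omega
  · intro h
    have h3 : (δ (genericPoint X) - δ ξ).toNat = 1 := by omega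
    rw [h3]; rfl

end Groth.Agent.S6459
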