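import Groth.Statements.S6461
import Mathlib
import Groth.Agent.H29.DimFun

set_option autoImplicit false
universe u
open CategoryTheory AlgebraicGeometry
open Cyc

namespace Groth.Agent.S6461

/-- If all local rings of X are Cohen–Macaulay then every x ∈ X has an open neighbourhood U and an
integer n with δ(ξ) = n for every generic point ξ of an irreducible component of U (every point of U
maximal under specialization). Here a pair (X, δ) with Cyc.IsSetup plays the role of a scheme
locally of finite type over the base (S, δ) (X locally Noetherian with universally catenary local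
rings, δ a dimension function). -/
theorem result (X : Scheme.{u}) (δ : X → ℤ) (hX : Cyc.IsSetup X δ) (hCM : ∀ x : X, LocCoh.IsCohenMacaulayLocalRing ↑(X.presheaf.stalk x)) (x : X) : ∃ (U : X.Opens) (n : ℤ), x ∈ U ∧ ∀ ξ : X, ξ ∈ U → (∀ ξ' : X, ξ' ⤳ ξ → ξ' = ξ) → δ ξ = n := by
  obtain ⟨hLN, -, hδ⟩ := hX
  haveI := hLN
  obtain ⟨U, hxU, hU⟩ := Groth.Agent.H29.DimFun.exists_open_generic_specializes X x
  haveI := hCM x
  obtain ⟨D, hD⟩ : ∃ D : ℕ, ringKrullDim (X.presheaf.stalk x) = D :=
    Groth.Agent.H29.withBot_exists_natCast ringKrullDim_ne_bot ringKrullDim_ne_top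
  refine ⟨U, δ x + D, hxU, fun ξ hξU hgen => ?_⟩
  have hξx := hU ξ hξU hgen
  obtain ⟨p, hp, hpmin⟩ := Groth.Agent.H29.DimFun.exists_minimal_of_generic x ξ hgen hξx
  obtain ⟨h0, h1⟩ := Groth.Agent.H29.DimFun.delta_eq δ hδ x p
  rw [hp] at h0 h1
  have h2 : ((Order.coheight p : ℕ∞) : WithBot ℕ∞) = D := by
    rw [Groth.Agent.H29.DimFun.coheight_eq_ringKrullDim_quotient,
      Groth.Agent.H29.DimFun.ringKrullDim_quotient_eq_of_CM _ _ hpmin, hD]
  rw [← h1] at h2
  have h3 : (δ ξ - δ x).toNat = D := by exact_mod_cast h2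
  omega

end Groth.Agent.S6461
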