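import Groth.Statements.S6462
import Mathlib
import Groth.Agent.H29.DimFun

set_option autoImplicit false
universe u
open CategoryTheory AlgebraicGeometry
open Cyc

namespace Groth.Agent.S6462

section helpers
open TopologicalSpace Groth.Agent.H29

variable {X : Scheme.{u}}

theorem exists_closed_specializes [JacobsonSpace X] (y : X) :
    ∃ z : X, IsClosed ({z} : Set X) ∧ y ⤳ z := by
  have h := JacobsonSpace.closure_inter_closedPoints (X := X) (isClosed_closure (s := {y}))
  have hne : (closure {y} ∩ closedPoints X).Nonempty := by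
    by_contra hempty
    rw [Set.not_nonempty_iff_eq_empty] at hempty
    rw [hempty, closure_empty] at h
    exact (Set.singleton_nonempty y).closure.ne_empty h.symm
  obtain ⟨z, hz1, hz2⟩ := hne
  exact ⟨z, hz2, specializes_iff_mem_closure.mpr hz1⟩

theorem delta_nonneg [JacobsonSpace X] (δ : X → ℤ) (hδ : Cyc.IsDimFun X δ)
    (h0 : ∀ x : X, IsClosed ({x} : Set X) → δ x = 0) (y : X) : 0 ≤ δ y := by
  obtain ⟨z, hz, hyz⟩ := exists_closed_specializes y
  by_cases h : y = z
  · rw [h, h0 z hz]
  · have := (hδ y z hyz h).1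
    rw [h0 z hz] at this
    exact this.le

theorem delta_mono (δ : X → ℤ) (hδ : Cyc.IsDimFun X δ) {a b : X} (h : a ⤳ b) : δ b ≤ δ a := by
  by_cases hab : a = b
  · rw [hab]
  · exact (hδ a b h hab).1.le

theorem topDim_le [JacobsonSpace X] (δ : X → ℤ) (hδ : Cyc.IsDimFun X δ)
    (h0 : ∀ x : X, IsClosed ({x} : Set X) → δ x = 0) (ξ : X) :
    topologicalKrullDim ↥(closure ({ξ} : Set X)) ≤ ((δ ξ).toNat : WithBot ℕ∞) := by
  haveI : QuasiSober ↥(closure ({ξ} : Set X)) :=
    (isClosed_closure.isClosedEmbedding_subtypeVal).quasiSober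
  unfold topologicalKrullDim Order.krullDim
  apply iSup_le
  intro l
  let gp : IrreducibleCloseds ↥(closure ({ξ} : Set X)) → ↥(closure ({ξ} : Set X)) :=
    fun C => C.isIrreducible.genericPoint
  have hgp : ∀ C, IsGenericPoint (gp C) (C : Set ↥(closure ({ξ} : Set X))) :=
    fun C => C.isIrreducible.isGenericPoint_genericPoint C.isClosed
  let g : IrreducibleCloseds ↥(closure ({ξ} : Set X)) → ℤ := fun C => δ (gp C : X)
  have hg : StrictMono g := by
    intro C C' hCC'
    have hsub : (C : Set ↥(closure ({ξ} : Set X))) ⊆ C' := le_of_lt hCC'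
    have h1 : gp C' ⤳ gp C := (hgp C').specializes (hsub (hgp C).mem)
    have hne : gp C' ≠ gp C := by
      intro heq
      apply hCC'.ne
      apply IrreducibleCloseds.ext
      rw [← (hgp C).def, ← (hgp C').def, heq]
    have h2 : (gp C' : X) ⤳ (gp C : X) := h1.map continuous_subtype_val
    have hne' : (gp C' : X) ≠ (gp C : X) := fun h => hne (Subtype.ext h)
    exact (hδ _ _ h2 hne').1
  have h3 := LTSeries.head_add_length_le_int (l.map g hg)
  rw [LTSeries.head_map, LTSeries.last_map, LTSeries.map_length] at h3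
  have h4 : 0 ≤ g l.head := delta_nonneg δ hδ h0 _
  have h5 : g l.last ≤ δ ξ := delta_mono δ hδ (specializes_iff_mem_closure.mpr (gp l.last).2)
  have h6 : l.length ≤ (δ ξ).toNat := by omega
  exact_mod_cast h6

theorem le_topDim (δ : X → ℤ) (hδ : Cyc.IsDimFun X δ) (ξ z : X) (hz0 : δ z = 0) (h : ξ ⤳ z) :
    ((δ ξ).toNat : WithBot ℕ∞) ≤ topologicalKrullDim ↥(closure ({ξ} : Set X)) := by
  obtain ⟨p, hp⟩ : ∃ p : PrimeSpectrum (X.presheaf.stalk z), X.fromSpecStalk z p = ξ := by
    have h5 : ξ ∈ Set.range (X.fromSpecStalk z) := by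
      rw [Scheme.range_fromSpecStalk]; exact h
    exact h5
  obtain ⟨-, h1⟩ := DimFun.delta_eq δ hδ z p
  rw [hp, hz0, sub_zero] at h1
  have h2 : (((δ ξ).toNat : ℕ∞) : WithBot ℕ∞) = Order.krullDim (Set.Ici p) := by
    rw [h1]; exact Order.coheight_eq_krullDim_Ici p
  have hmem : ∀ q : Set.Ici p, X.fromSpecStalk z q.1 ∈ closure ({ξ} : Set X) := by
    intro q
    rw [← specializes_iff_mem_closure, ← hp]
    exact DimFun.specializes_of_le z q.2
  let pt : Set.Ici p → ↥(closure ({ξ} : Set X)) := fun q => ⟨X.fromSpecStalk z q.1, hmem q⟩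
  let φ : (Set.Ici p)ᵒᵈ → IrreducibleCloseds ↥(closure ({ξ} : Set X)) := fun q =>
    ⟨closure {pt (OrderDual.ofDual q)}, isIrreducible_singleton.closure, isClosed_closure⟩
  have hφ : StrictMono φ := by
    intro a b hab
    have hlt : (OrderDual.ofDual b).1 < (OrderDual.ofDual a).1 := hab
    have hsp : X.fromSpecStalk z (OrderDual.ofDual b).1 ⤳
        X.fromSpecStalk z (OrderDual.ofDual a).1 := DimFun.specializes_of_le z hlt.le
    have hsp' : pt (OrderDual.ofDual b) ⤳ pt (OrderDual.ofDual a) :=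
      (subtype_specializes_iff _ _).mpr hsp
    refine lt_of_le_of_ne ?_ ?_
    · show closure {pt (OrderDual.ofDual a)} ⊆ closure {pt (OrderDual.ofDual b)}
      exact specializes_iff_closure_subset.mp hsp'
    · intro heq
      have h3 : closure {pt (OrderDual.ofDual a)} = closure {pt (OrderDual.ofDual b)} :=
        congrArg (fun C : IrreducibleCloseds ↥(closure ({ξ} : Set X)) =>
          (C : Set ↥(closure ({ξ} : Set X)))) heq
      have hsp2 : pt (OrderDual.ofDual a) ⤳ pt (OrderDual.ofDual b) :=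
        specializes_iff_closure_subset.mpr h3.ge
      have hsp3 : X.fromSpecStalk z (OrderDual.ofDual a).1 ⤳
          X.fromSpecStalk z (OrderDual.ofDual b).1 := hsp2.map continuous_subtype_val
      exact absurd (DimFun.le_of_specializes z hsp3) (not_le_of_gt hlt)
  have h4 : ((δ ξ).toNat : WithBot ℕ∞) = (((δ ξ).toNat : ℕ∞) : WithBot ℕ∞) := rfl
  rw [h4, h2, ← Order.krullDim_orderDual]
  exact Order.krullDim_le_of_strictMono φ hφ

theorem locQuot_dim (δ : X → ℤ) (hδ : Cyc.IsDimFun X δ) (ξ z : X) (hz0 : δ z = 0) (h : ξ ⤳ z) :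
    ringKrullDim (Cyc.LocQuot z ξ h) = ((δ ξ).toNat : WithBot ℕ∞) := by
  let p' : PrimeSpectrum (X.presheaf.stalk z) :=
    (Spec.map (X.presheaf.stalkSpecializes h)) (IsLocalRing.closedPoint (X.presheaf.stalk ξ))
  have hp' : X.fromSpecStalk z p' = ξ := by
    have h1 := Scheme.SpecMap_stalkSpecializes_fromSpecStalk h
    calc X.fromSpecStalk z p'
        = (Spec.map (X.presheaf.stalkSpecializes h) ≫ X.fromSpecStalk z)
            (IsLocalRing.closedPoint (X.presheaf.stalk ξ)) := (Scheme.Hom.comp_apply _ _ _).symm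
      _ = X.fromSpecStalk ξ (IsLocalRing.closedPoint (X.presheaf.stalk ξ)) := by rw [h1]
      _ = ξ := Scheme.fromSpecStalk_closedPoint
  have hker : p'.asIdeal = RingHom.ker (Cyc.specMap z ξ h) := by
    ext a
    show a ∈ Ideal.comap (X.presheaf.stalkSpecializes h).hom
      (IsLocalRing.maximalIdeal (X.presheaf.stalk ξ)) ↔ _
    rw [Ideal.mem_comap, RingHom.mem_ker]
    unfold Cyc.specMap
    rw [CommRingCat.hom_comp, RingHom.comp_apply]
    exact (IsLocalRing.residue_eq_zero_iff _).symm
  obtain ⟨-, h1⟩ := DimFun.delta_eq δ hδ z p'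
  rw [hp', hz0, sub_zero] at h1
  show ringKrullDim (X.presheaf.stalk z ⧸ RingHom.ker (Cyc.specMap z ξ h)) = _
  rw [← hker, ← DimFun.coheight_eq_ringKrullDim_quotient, ← h1]
  rfl

end helpers

/-- Assume in addition that X is Jacobson and δ(x) = 0 for every closed point x. For a point ξ of X with
closure Z (an integral closed subscheme whose generic point is ξ) one then has δ(ξ) = dim Z = dim
O_{Z,z} for every closed point z of Z; here Z is the closure of ξ and O_{Z,z} = O_{X,z}/𝔭_ξ
(Cyc.LocQuot). (The published statement takes X locally of finite type over a Jacobson base with δ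
zero on the base's closed points; this row assumes instead that X is Jacobson and δ vanishes on the
closed points of X, which follows from the published hypotheses.) Here a pair (X, δ) with
Cyc.IsSetup plays the role of a scheme locally of finite type over the base (S, δ) (X locally
Noetherian with universally catenary local rings, δ a dimension function). -/
theorem result (X : Scheme.{u}) [JacobsonSpace X] (δ : X → ℤ) (hX : Cyc.IsSetup X δ) (h0 : ∀ x : X, IsClosed ({x} : Set X) → δ x = 0) (ξ : X) : (topologicalKrullDim ↥(closure ({ξ} : Set X)) = ((δ ξ).toNat : WithBot ℕ∞) ∧ 0 ≤ δ ξ) ∧ ∀ (z : X) (h : ξ ⤳ z), IsClosed ({z} : Set X) → ringKrullDim (Cyc.LocQuot z ξ h) = ((δ ξ).toNat : WithBot ℕ∞) := by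
  obtain ⟨hLN, -, hδ⟩ := hX
  refine ⟨⟨?_, delta_nonneg δ hδ h0 ξ⟩, fun z h hz => locQuot_dim δ hδ ξ z (h0 z hz) h⟩
  obtain ⟨z, hz, hξz⟩ := exists_closed_specializes ξ
  exact le_antisymm (topDim_le δ hδ h0 ξ) (le_topDim δ hδ ξ z (h0 z hz) hξz)

end Groth.Agent.S6462
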