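import Groth.Statements.S6484
import Mathlib

set_option autoImplicit false
universe u
open CategoryTheory AlgebraicGeometry
open CategoryTheory.Limits
open Cyc

namespace Groth.Agent.S6484

lemma lemA {P X' : Scheme.{u}} (K : Type u) [Field K] (t : Spec (.of K) ⟶ P) (h : P ⟶ X')
    (x' : X') (ψ : X'.residueField x' ⟶ .of K) (hψ : Function.Bijective ψ.hom)
    (e : t ≫ h = Spec.map ψ ≫ X'.fromSpecResidueField x') :
    h (t (IsLocalRing.closedPoint K)) = x' ∧
      Function.Surjective (h.residueFieldMap (t (IsLocalRing.closedPoint K))).hom := by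
  have h1 : Scheme.SpecToEquivOfField K X' (t ≫ h) = ⟨x', ψ⟩ := by
    rw [e]
    exact (Scheme.SpecToEquivOfField K X').apply_symm_apply ⟨x', ψ⟩
  rw [Scheme.SpecToEquivOfField_eq_iff] at h1
  obtain ⟨e1, e2⟩ := h1
  refine ⟨e1, ?_⟩
  have e3 : h.residueFieldMap (t (IsLocalRing.closedPoint K)) ≫
      Scheme.descResidueField (Scheme.stalkClosedPointTo t) =
      (X'.residueFieldCongr e1).hom ≫ ψ := by
    rw [← e2]
    exact (Scheme.descResidueField_stalkClosedPointTo_comp h t).symm
  have hbij : Function.Bijective ((X'.residueFieldCongr e1).hom ≫ ψ).hom := by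
    rw [CommRingCat.hom_comp]
    exact hψ.comp ((ConcreteCategory.isIso_iff_bijective (X'.residueFieldCongr e1).hom).mp inferInstance)
  rw [← e3] at hbij
  have hinj : Function.Injective (Scheme.descResidueField (Scheme.stalkClosedPointTo t)).hom :=
    RingHom.injective _
  intro c
  obtain ⟨d, hd⟩ := hbij.2 ((Scheme.descResidueField (Scheme.stalkClosedPointTo t)).hom c)
  exact ⟨d, hinj hd⟩

/-- If f : Y → X is completely decomposed (this prelude's Cyc.IsCompletelyDecomposed: over every point
of X lies a point of Y with trivial residue field extension) and g : X' → X is any morphism of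
schemes, then the base change Y ×_X X' → X' is completely decomposed. Consequently the base change
of an envelope (a proper completely decomposed morphism) is an envelope, properness being preserved
by base change. (The published envelope statement takes X′ → X between schemes locally of finite
type over a base; this row allows any g.) -/
theorem result (X X' Y : Scheme.{u}) (f : Y ⟶ X) (g : X' ⟶ X) (hcd : Cyc.IsCompletelyDecomposed f) : Cyc.IsCompletelyDecomposed (pullback.snd f g) := by
  intro x'
  obtain ⟨y, hy, hsurj⟩ := hcd (g x')
  have hbij : Function.Bijective (f.residueFieldMap y).hom := ⟨RingHom.injective _, hsurj⟩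
  haveI : IsIso (f.residueFieldMap y) := (ConcreteCategory.isIso_iff_bijective _).mpr hbij
  let φ : Y.residueField y ⟶ X'.residueField x' :=
    inv (f.residueFieldMap y) ≫ (X.residueFieldCongr hy).hom ≫ g.residueFieldMap x'
  let a : Spec (X'.residueField x') ⟶ Y := Spec.map φ ≫ Y.fromSpecResidueField y
  have hab : a ≫ f = X'.fromSpecResidueField x' ≫ g := by
    simp only [a, Category.assoc]
    rw [← Scheme.Hom.SpecMap_residueFieldMap_fromSpecResidueField, ← Spec.map_comp_assoc]
    have : f.residueFieldMap y ≫ φ = (X.residueFieldCongr hy).hom ≫ g.residueFieldMap x' := by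
      simp only [φ, IsIso.hom_inv_id_assoc]
    rw [this, Spec.map_comp_assoc, Scheme.residueFieldCongr_fromSpecResidueField,
      Scheme.Hom.SpecMap_residueFieldMap_fromSpecResidueField]
  let t : Spec (X'.residueField x') ⟶ pullback f g := pullback.lift a (X'.fromSpecResidueField x') hab
  have ht : t ≫ pullback.snd f g = Spec.map (𝟙 (X'.residueField x')) ≫ X'.fromSpecResidueField x' := by
    rw [Spec.map_id, Category.id_comp]
    exact pullback.lift_snd _ _ _
  obtain ⟨h1, h2⟩ := lemA (X'.residueField x') t (pullback.snd f g) x' (𝟙 _)
    Function.bijective_id ht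
  exact ⟨_, h1, h2⟩

end Groth.Agent.S6484
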