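import Groth.Statements.S6493
import Mathlib

set_option autoImplicit false
universe u
open CategoryTheory AlgebraicGeometry
open Cyc

namespace Groth.Agent.S6493

/-- Suppose Z ⊂ X is a closed subscheme whose δ-dimension is at most k, and pick a point ξ of Z
satisfying δ(ξ) = k. In that case Z has an irreducible component whose generic point is ξ; and at
every generic point ξ' of an irreducible component of Z (every point of Z maximal under
generalization) the length of O_{Z,ξ'} over O_{X,ξ'} (= its length over itself) is finite. Here a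
pair (X, δ) with Cyc.IsSetup plays the role of a scheme locally of finite type over the base (S, δ)
(X locally Noetherian with universally catenary local rings, δ a dimension function). -/
theorem result (X Z : Scheme.{u}) (δ : X → ℤ) (hX : Cyc.IsSetup X δ) (i : Z ⟶ X) [IsClosedImmersion i] (k : ℤ) (hZ : ∀ z : Z, δ (i z) ≤ k) (ξ : Z) (hξ : δ (i ξ) = k) : (∀ z : Z, z ⤳ ξ → z = ξ) ∧ ∀ ξ' : Z, (∀ z : Z, z ⤳ ξ' → z = ξ') → Module.length ↑(Z.presheaf.stalk ξ') ↑(Z.presheaf.stalk ξ') < ⊤ := by
  obtain ⟨hLN, -, hδ⟩ := hX
  haveI := hLN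
  have hinj : Function.Injective i := i.isClosedEmbedding.injective
  constructor
  · intro z hz
    by_contra hne
    have h1 : i z ⤳ i ξ := hz.map i.continuous
    have h2 := (hδ (i z) (i ξ) h1 (fun h => hne (hinj h))).1
    have := hZ z
    omega
  · intro ξ' hξ'
    haveI : IsNoetherianRing (Z.presheaf.stalk ξ') :=
      isNoetherianRing_of_surjective _ _ (i.stalkMap ξ').hom (i.stalkMap_surjective ξ')
    have hprime : ∀ I : Ideal (Z.presheaf.stalk ξ'), I.IsPrime → I.IsMaximal := by
      intro I hI
      have h1 : Z.fromSpecStalk ξ' ⟨I, hI⟩ ⤳ ξ' := by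
        have : Z.fromSpecStalk ξ' ⟨I, hI⟩ ∈ Set.range (Z.fromSpecStalk ξ') := ⟨_, rfl⟩
        rw [Scheme.range_fromSpecStalk] at this; exact this
      have h2 := hξ' _ h1
      have h3 : (⟨I, hI⟩ : PrimeSpectrum _) = IsLocalRing.closedPoint _ :=
        (Z.fromSpecStalk ξ').isEmbedding.injective
          (h2.trans Scheme.fromSpecStalk_closedPoint.symm)
      have h4 : I = IsLocalRing.maximalIdeal _ := congrArg PrimeSpectrum.asIdeal h3
      rw [h4]; exact IsLocalRing.maximalIdeal.isMaximal _
    haveI : Ring.KrullDimLE 0 (Z.presheaf.stalk ξ') := Ring.krullDimLE_zero_iff.mpr hprime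
    haveI : IsArtinianRing (Z.presheaf.stalk ξ') :=
      isArtinianRing_iff_isNoetherianRing_krullDimLE_zero.mpr ⟨inferInstance, inferInstance⟩
    exact Module.length_ne_top.lt_top

end Groth.Agent.S6493
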