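import Groth.Statements.S6499
import Mathlib
import Groth.Agent.S0019
import Groth.Agent.Lead.QCoh3

set_option autoImplicit false
universe u
open CategoryTheory AlgebraicGeometry
open Cyc

namespace Groth.Agent.S6499


open CategoryTheory CategoryTheory.Limits AlgebraicGeometry Opposite TopologicalSpace
  Groth.Agent.Lead.QCoh in
theorem exists_nontrivial_stalk {X S : Scheme.{u}} (f : X ⟶ S) [IsFinite f] (F : X.Modules)
    [F.IsQuasicoherent] (s : S)
    (hs : Nontrivial (((Scheme.Modules.pushforward f).obj F).presheaf.stalk s)) :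
    ∃ x : X, f x = s ∧ Nontrivial (F.presheaf.stalk x) := by
  by_contra hcon
  push Not at hcon
  obtain ⟨t, ht⟩ := exists_ne (0 : ((Scheme.Modules.pushforward f).obj F).presheaf.stalk s)
  obtain ⟨V₀, hsV₀, n₀, rfl⟩ :=
    TopCat.Presheaf.exists_germ_eq ((Scheme.Modules.pushforward f).obj F).presheaf t
  obtain ⟨_, ⟨V, hV, rfl⟩, hsV, hVV₀⟩ :=
    S.isBasis_affineOpens.exists_subset_of_mem_open hsV₀ V₀.isOpen
  have hV' : IsAffineOpen V := hV
  let n : Γ((Scheme.Modules.pushforward f).obj F, V) :=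
    ((Scheme.Modules.pushforward f).obj F).presheaf.map (homOfLE hVV₀).op n₀
  have hgerm : ((Scheme.Modules.pushforward f).obj F).presheaf.germ V s hsV n =
      ((Scheme.Modules.pushforward f).obj F).presheaf.germ V₀ s hsV₀ n₀ :=
    TopCat.Presheaf.germ_res_apply _ (homOfLE hVV₀) s hsV n₀
  rw [← hgerm] at ht
  apply ht
  have hU : IsAffineOpen (f ⁻¹ᵁ V) := hV'.preimage f
  let m : Γ(F, f ⁻¹ᵁ V) := n
  let I : Ideal Γ(X, f ⁻¹ᵁ V) := LinearMap.ker (LinearMap.toSpanSingleton Γ(X, f ⁻¹ᵁ V)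
    Γ(F, f ⁻¹ᵁ V) m)
  have hI : ∀ a, a ∈ I ↔ a • m = 0 := fun a => by
    rw [LinearMap.mem_ker, LinearMap.toSpanSingleton_apply]
  have hsmul : ∀ (a : Γ(S, V)) (n' : Γ((Scheme.Modules.pushforward f).obj F, V)),
      a • n' = ((f.app V a) • (show Γ(F, f ⁻¹ᵁ V) from n') : Γ(F, f ⁻¹ᵁ V)) := fun a n' => rfl
  letI := (f.app V).hom.toAlgebra
  haveI : Algebra.IsIntegral Γ(S, V) Γ(X, f ⁻¹ᵁ V) :=
    ⟨(IsFinite.finite_app f V hV').to_isIntegral⟩
  haveI := (hV'.primeIdealOf ⟨s, hsV⟩).isPrime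
  -- some function invertible at `s` kills `n`
  have hex : ∃ g : Γ(S, V), g ∉ (hV'.primeIdealOf ⟨s, hsV⟩).asIdeal ∧ (f.app V g) • m = 0 := by
    by_contra hno
    push Not at hno
    have hle : I.comap (algebraMap Γ(S, V) Γ(X, f ⁻¹ᵁ V)) ≤
        (hV'.primeIdealOf ⟨s, hsV⟩).asIdeal := by
      intro g hg
      by_contra hgq
      exact hno g hgq ((hI _).mp hg)
    obtain ⟨Q, hIQ, hQp, hQ⟩ := Ideal.exists_ideal_over_prime_of_isIntegral
      (hV'.primeIdealOf ⟨s, hsV⟩).asIdeal I hle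
    let Q' : PrimeSpectrum Γ(X, f ⁻¹ᵁ V) := ⟨Q, hQp⟩
    have hxU : hU.fromSpec Q' ∈ f ⁻¹ᵁ V := by
      rw [← SetLike.mem_coe, ← hU.range_fromSpec]
      exact ⟨Q', rfl⟩
    have hQ' : hU.primeIdealOf ⟨hU.fromSpec Q', hxU⟩ = Q' :=
      hU.fromSpec.isOpenEmbedding.injective (hU.fromSpec_primeIdealOf ⟨_, hxU⟩)
    have hfx : f (hU.fromSpec Q') = s := by
      have h1 := IsAffineOpen.comap_primeIdealOf_appLE (f := f) V hV' (f ⁻¹ᵁ V) hU le_rfl hxU
      rw [hQ'] at h1
      have h2 : PrimeSpectrum.comap (f.appLE V (f ⁻¹ᵁ V) le_rfl).hom Q' =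
          hV'.primeIdealOf ⟨s, hsV⟩ := by
        apply PrimeSpectrum.ext
        rw [← Scheme.Hom.app_eq_appLE]
        exact hQ
      have h3 := h1.symm.trans h2
      have h4 := congrArg hV'.fromSpec h3
      rw [hV'.fromSpec_primeIdealOf, hV'.fromSpec_primeIdealOf] at h4
      exact h4
    have hsub : Subsingleton (F.presheaf.stalk (hU.fromSpec Q')) :=
      hcon _ hfx
    have hz : F.presheaf.germ (f ⁻¹ᵁ V) (hU.fromSpec Q') hxU m = 0 := Subsingleton.elim _ _
    obtain ⟨a, hxa, ha⟩ := (germ_eq_zero_iff F hU _ hxU m).mp hz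
    have haQ : a ∈ Q := hIQ ((hI a).mpr ha)
    have : a ∈ (hU.primeIdealOf ⟨hU.fromSpec Q', hxU⟩).asIdeal := by rw [hQ']; exact haQ
    exact (mem_primeIdealOf_iff hU _ hxU a).mp this hxa
  obtain ⟨g, hgq, hgm⟩ := hex
  have hsg : s ∈ S.basicOpen g := by
    by_contra hns
    exact hgq ((mem_primeIdealOf_iff hV' s hsV g).mpr hns)
  have hu : IsUnit (S.presheaf.germ V s hsV g) := (Scheme.mem_basicOpen _ _ s hsV).mp hsg
  have hgn : g • n = 0 := (hsmul g n).trans hgm
  have := congrArg (((Scheme.Modules.pushforward f).obj F).presheaf.germ V s hsV) hgn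
  rw [germ_smul, map_zero] at this
  exact hu.smul_eq_zero.mp this

/-- Suppose X and Y are schemes locally of finite type over the base, and π : X → Y is a morphism
between them that is finite. Then π_* sends Coh_{≤k}(X) into Coh_{≤k}(Y): for F coherent on X with
dim_δ Supp(F) ≤ k, the direct image π_*F is coherent with dim_δ Supp(π_*F) ≤ k (Cyc.CohLe).
(Exactness of π_* and the commutative diagram with the cycle maps are not restated; the latter is
the existing compatibility of [−]_k with π_*.) Here a pair (X, δ) with Cyc.IsSetup plays the role of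
a scheme locally of finite type over the base (S, δ) (X locally Noetherian with universally catenary
local rings, δ a dimension function), and Cyc.DeltaCompat records that the dimension function
upstairs is the induced one. -/
theorem result (X Y : Scheme.{u}) (δX : X → ℤ) (δY : Y → ℤ) (hX : Cyc.IsSetup X δX) (hY : Cyc.IsSetup Y δY) (π : X ⟶ Y) [IsFinite π] (hδ : Cyc.DeltaCompat π δX δY) (k : ℤ) (F : X.Modules) (hF : Cyc.CohLe δX k F) : Cyc.CohLe δY k ((Coh.push π).obj F) := by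
  obtain ⟨hXn, -, -⟩ := hX
  obtain ⟨hYn, -, -⟩ := hY
  haveI := hYn
  obtain ⟨hcoh, hsupp⟩ := hF
  refine ⟨Groth.Agent.S0019.result π F hcoh, ?_⟩
  intro y hy
  haveI : F.IsQuasicoherent := hcoh.1
  obtain ⟨x, hxy, hx⟩ := exists_nontrivial_stalk π F y hy
  obtain ⟨n, -, hn⟩ := hδ x
  have h1 := hsupp x hx
  rw [hxy] at hn
  omega


end Groth.Agent.S6499
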