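import Groth.Statements.S6500
import Mathlib
import Groth.Agent.H19.TorShift
import Groth.Agent.S3527
import Groth.Agent.S4991
import Groth.Agent.H29.RegGlobalDim

set_option autoImplicit false
universe u
open CategoryTheory CategoryTheory.Limits AlgebraicGeometry
attribute [local instance] HasDerivedCategory.standard
open IntMult

namespace Groth.Agent.S6500


set_option backward.isDefEq.respectTransparency false in
open CategoryTheory TensorProduct Function in
theorem tor_vanish (A : Type u) [CommRing A] (n : ℕ) :
    ∀ (M : Type u) [AddCommGroup M] [Module A M] (N : Type u) [AddCommGroup N] [Module A N],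
    HasProjectiveDimensionLT (ModuleCat.of A M) (n + 1) →
      ∀ i : ℕ, n < i → Subsingleton (DRing.Tor A i M N) := by
  induction n with
  | zero =>
    intro M _ _ N _ _ hpd i hi
    have hproj : Projective (ModuleCat.of A M) :=
      projective_iff_hasProjectiveDimensionLT_one.2 hpd
    haveI : Module.Projective A M := (IsProjective.iff_projective (R := A) M).2 hproj
    exact (Groth.Agent.S3527.result A M N i hi).1
  | succ n ih =>
    intro M _ _ N _ _ hpd i hi'
    let P : ModuleCat.{u} A := Projective.over (ModuleCat.of A M)
    let p : P →ₗ[A] M := (Projective.π (ModuleCat.of A M)).hom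
    have hp : Surjective p :=
      (ModuleCat.epi_iff_surjective (Projective.π (ModuleCat.of A M))).1 inferInstance
    have hprojP : Projective (ModuleCat.of A P) :=
      (inferInstance : Projective (Projective.over (ModuleCat.of A M)))
    haveI : Module.Projective A P := (IsProjective.iff_projective (R := A) P).2 hprojP
    have hi : Injective (LinearMap.ker p).subtype := Submodule.injective_subtype _
    have hip : Exact (LinearMap.ker p).subtype p := LinearMap.exact_subtype_ker_map p
    let S : ShortComplex (ModuleCat.{u} A) :=
      ShortComplex.mk (ModuleCat.ofHom (LinearMap.ker p).subtype) (ModuleCat.ofHom p) (by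
        ext x
        exact x.2)
    have hS : S.ShortExact := by
      refine ShortComplex.ShortExact.mk' ?_ ?_ ?_
      · rw [ShortComplex.moduleCat_exact_iff]
        intro y hy
        exact ⟨⟨y, hy⟩, rfl⟩
      · rw [ModuleCat.mono_iff_injective]
        exact hi
      · rw [ModuleCat.epi_iff_surjective]
        exact hp
    have hproj : Projective S.X₂ := hprojP
    have hiff := hS.hasProjectiveDimensionLT_X₃_iff n hproj
    obtain ⟨j, rfl⟩ : ∃ j, i = j + 2 := ⟨i - 2, by omega⟩
    obtain ⟨e⟩ := Groth.Agent.H19.TorShift.tor_succ_succ_equiv' (LinearMap.ker p).subtype p hi hp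
      hip N j
    haveI := ih (LinearMap.ker p) N (hiff.1 hpd) (j + 1) (by omega)
    exact e.toEquiv.subsingleton

open AlgebraicGeometry CategoryTheory Limits in
attribute [local instance] specializationOrder in
lemma ringKrullDim_stalk_le_topologicalKrullDim (C : Scheme.{u}) (y : C) :
    ringKrullDim (C.presheaf.stalk y) ≤ topologicalKrullDim C := by
  rw [ringKrullDim_stalk_eq_coheight]
  refine (Order.coheight_le_krullDim y).trans (le_of_eq ?_)
  exact (Order.krullDim_eq_of_orderIso (irreducibleSetEquivPoints (α := C))).symm

open AlgebraicGeometry in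
lemma isRegularLocalRing_stalk_spec_field (K : Type u) [Field K]
    (y : Spec (CommRingCat.of K)) :
    IsRegularLocalRing ((Spec (CommRingCat.of K)).presheaf.stalk y) := by
  letI : Algebra K ((Spec (CommRingCat.of K)).presheaf.stalk y) :=
    StructureSheaf.stalkAlgebra K y
  haveI : IsLocalization.AtPrime ((Spec (CommRingCat.of K)).presheaf.stalk y) y.asIdeal :=
    StructureSheaf.IsLocalization.to_stalk (CommRingCat.of K) y
  haveI : IsRegularRing K := inferInstance
  haveI : IsRegularLocalRing (Localization.AtPrime y.asIdeal) := inferInstance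
  exact IsRegularLocalRing.of_ringEquiv (IsLocalization.algEquiv y.asIdeal.primeCompl
    (Localization.AtPrime y.asIdeal) ((Spec (CommRingCat.of K)).presheaf.stalk y)).toRingEquiv

/-- Let X be a nonsingular variety of dimension n and F, G coherent O_X-modules. The Tor sheaves
Tor_p^{O_X}(F, G), whose stalks are Tor_p^{O_{X,x}}(F_x, G_x), are nonzero only for p ∈ {0, …, n}:
for every point x and every p > n, Tor_p^{O_{X,x}}(F_x, G_x) = 0. (Coherence of the Tor sheaves and
the support statement are not restated.) Nonsingular variety: X → Spec K smooth, separated,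
quasi-compact, X integral, K algebraically closed; n = dim X. -/
theorem result (K : Type u) [Field K] [IsAlgClosed K] (X : Scheme.{u}) (f : X ⟶ Spec (CommRingCat.of K)) [Smooth f] [IsSeparated f] [QuasiCompact f] [IsIntegral X] (n : ℕ) (hn : topologicalKrullDim X = n) (F G : X.Modules) (hF : Coh.IsCoh F) (hG : Coh.IsCoh G) (x : X) (p : ℕ) (hp : n < p) : Subsingleton (DRing.Tor ↑(X.presheaf.stalk x) p ↑(F.presheaf.stalk x) ↑(G.presheaf.stalk x)) := by
  haveI : IsNoetherianRing (CommRingCat.of K) := inferInstanceAs (IsNoetherianRing K)
  haveI : IsLocallyNoetherian (Spec (CommRingCat.of K)) := inferInstance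
  have hregY : IsRegularLocalRing
      ((Spec (CommRingCat.of K)).presheaf.stalk (f.base x)) :=
    isRegularLocalRing_stalk_spec_field K _
  have hreg : IsRegularLocalRing (X.presheaf.stalk x) :=
    (Groth.Agent.S4991.result f x ⟨⊤, trivial, inferInstance⟩).mpr hregY
  haveI := hreg
  have hle := ringKrullDim_stalk_le_topologicalKrullDim X x
  rw [hn] at hle
  have hd : ringKrullDim (X.presheaf.stalk x) =
      ((IsLocalRing.maximalIdeal (X.presheaf.stalk x)).spanFinrank : ℕ) :=
    IsRegularLocalRing.spanFinrank_maximalIdeal.symm
  have hdn : (IsLocalRing.maximalIdeal (X.presheaf.stalk x)).spanFinrank ≤ n := by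
    rw [hd] at hle
    exact_mod_cast hle
  have hpd := Groth.Agent.H29.hasProjectiveDimensionLT_of_isRegularLocalRing
    (X.presheaf.stalk x) _ hd
    (ModuleCat.of ↑(X.presheaf.stalk x) ↑(F.presheaf.stalk x))
  exact tor_vanish (X.presheaf.stalk x) _ (F.presheaf.stalk x) (G.presheaf.stalk x) hpd p
    (by omega)


end Groth.Agent.S6500
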