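import Groth.Statements.S6501
import Mathlib

set_option autoImplicit false
universe u
open DPow

namespace Groth.Agent.S6501

section Aux

variable {A : Type u} [CommRing A] [IsAddTorsionFree A]

lemma cancel (m : ℕ) (hm : m ≠ 0) {a b : A} (h : (m : A) * a = (m : A) * b) : a = b := by
  apply nsmul_right_injective hm
  simpa [nsmul_eq_mul] using h

lemma hfac (i j : ℕ) :
    (Nat.cast ((i + j).choose i) : A) * Nat.cast (Nat.factorial i) * Nat.cast (Nat.factorial j) =
      Nat.cast (Nat.factorial (i + j)) := by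
  have := Nat.add_choose_mul_factorial_mul_factorial i j
  rw [← Nat.choose_symm_add] at this
  have h2 := congrArg (Nat.cast (R := A)) this
  push_cast at h2
  exact h2

lemma closure {I : Ideal A} (S : Set A) (hS : Ideal.span S = I)
    (h : ∀ x ∈ S, ∀ n : ℕ, 1 ≤ n → x ^ n ∈ Ideal.span {(Nat.factorial n : A)} * I) :
    ∀ x ∈ I, ∀ n : ℕ, 1 ≤ n → ∃ y ∈ I, (Nat.factorial n : A) * y = x ^ n := by
  intro x hx
  rw [← hS] at hx
  refine Submodule.span_induction
    (p := fun x _ => ∀ n : ℕ, 1 ≤ n → ∃ y ∈ I, (Nat.factorial n : A) * y = x ^ n) ?_ ?_ ?_ ?_ hx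
  · intro x hxS n hn
    exact Ideal.mem_span_singleton_mul.mp (h x hxS n hn)
  · intro n hn
    exact ⟨0, I.zero_mem, by rw [mul_zero, zero_pow (by omega)]⟩
  · intro x y _ _ hx hy n hn
    have hax : ∀ i : ℕ, ∃ a : A, (Nat.factorial i : A) * a = x ^ i ∧ (1 ≤ i → a ∈ I) := by
      intro i
      rcases Nat.eq_zero_or_pos i with rfl | hi
      · exact ⟨1, by simp, fun h => absurd h (by omega)⟩
      · obtain ⟨a, ha, hae⟩ := hx i hi
        exact ⟨a, hae, fun _ => ha⟩
    have hby : ∀ i : ℕ, ∃ b : A, (Nat.factorial i : A) * b = y ^ i ∧ (1 ≤ i → b ∈ I) := by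
      intro i
      rcases Nat.eq_zero_or_pos i with rfl | hi
      · exact ⟨1, by simp, fun h => absurd h (by omega)⟩
      · obtain ⟨a, ha, hae⟩ := hy i hi
        exact ⟨a, hae, fun _ => ha⟩
    choose a ha1 ha2 using hax
    choose b hb1 hb2 using hby
    refine ⟨∑ p ∈ Finset.HasAntidiagonal.antidiagonal n, a p.1 * b p.2, ?_, ?_⟩
    · refine Ideal.sum_mem _ fun p hp => ?_
      rw [Finset.HasAntidiagonal.mem_antidiagonal] at hp
      by_cases h1 : 1 ≤ p.1
      · exact Ideal.mul_mem_right _ _ (ha2 _ h1)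
      · exact Ideal.mul_mem_left _ _ (hb2 _ (by omega))
    · rw [Finset.mul_sum, (Commute.all x y).add_pow' n]
      refine Finset.sum_congr rfl fun p hp => ?_
      rw [Finset.HasAntidiagonal.mem_antidiagonal] at hp
      subst hp
      rw [nsmul_eq_mul, ← ha1, ← hb1, ← hfac]
      ring
  · intro c x _ hx n hn
    obtain ⟨y, hy, hye⟩ := hx n hn
    exact ⟨c ^ n * y, I.mul_mem_left _ hy, by rw [smul_eq_mul, mul_pow, ← hye]; ring⟩

theorem nonempty_dp {I : Ideal A}
    (hdiv : ∀ x ∈ I, ∀ n : ℕ, 1 ≤ n → ∃ y ∈ I, (Nat.factorial n : A) * y = x ^ n) :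
    Nonempty (DividedPowers I) := by
  classical
  have hex : ∀ (n : ℕ) (x : A), ∃ y : A,
      x ∈ I → ((Nat.factorial n : A) * y = x ^ n ∧ (1 ≤ n → y ∈ I)) := by
    intro n x
    by_cases hx : x ∈ I
    · rcases Nat.eq_zero_or_pos n with rfl | hn
      · exact ⟨1, fun _ => ⟨by simp, fun h => absurd h (by omega)⟩⟩
      · obtain ⟨y, hy, hye⟩ := hdiv x hx n hn
        exact ⟨y, fun _ => ⟨hye, fun _ => hy⟩⟩
    · exact ⟨0, fun h => absurd h hx⟩
  choose d hd using hex
  have P : ∀ (n : ℕ) (x : A), x ∈ I → (Nat.factorial n : A) * d n x = x ^ n :=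
    fun n x hx => (hd n x hx).1
  have Q : ∀ (n : ℕ) (x : A), x ∈ I → n ≠ 0 → d n x ∈ I :=
    fun n x hx hn => (hd n x hx).2 (Nat.one_le_iff_ne_zero.mpr hn)
  refine ⟨{
    dpow := fun n x => if x ∈ I then d n x else 0
    dpow_null := ?_
    dpow_zero := ?_
    dpow_one := ?_
    dpow_mem := ?_
    dpow_add := ?_
    dpow_mul := ?_
    mul_dpow := ?_
    dpow_comp := ?_ }⟩
  · intro n x hx
    simp only [if_neg hx]
  · intro x hx
    simp only [if_pos hx]
    simpa using P 0 x hx
  · intro x hx
    simp only [if_pos hx]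
    simpa using P 1 x hx
  · intro n x hn hx
    simp only [if_pos hx]
    exact Q n x hx hn
  · intro n x y hx hy
    have hxy : x + y ∈ I := I.add_mem hx hy
    simp only [if_pos hx, if_pos hy, if_pos hxy]
    apply cancel (Nat.factorial n) (Nat.factorial_ne_zero n)
    rw [P n _ hxy, Finset.mul_sum, (Commute.all x y).add_pow' n]
    refine Finset.sum_congr rfl fun p hp => ?_
    rw [Finset.HasAntidiagonal.mem_antidiagonal] at hp
    subst hp
    rw [nsmul_eq_mul, ← P p.1 x hx, ← P p.2 y hy, ← hfac]
    ring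
  · intro n a x hx
    have hax : a * x ∈ I := I.mul_mem_left _ hx
    simp only [if_pos hx, if_pos hax]
    apply cancel (Nat.factorial n) (Nat.factorial_ne_zero n)
    rw [P n _ hax, mul_pow, ← P n x hx]
    ring
  · intro m n x hx
    simp only [if_pos hx]
    apply cancel (Nat.factorial m * Nat.factorial n)
      (Nat.mul_ne_zero (Nat.factorial_ne_zero m) (Nat.factorial_ne_zero n))
    have e1 := P m x hx
    have e2 := P n x hx
    have e3 := P (m + n) x hx
    have e4 := hfac (A := A) m n
    push_cast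
    calc (Nat.factorial m : A) * (Nat.factorial n : A) * (d m x * d n x)
        = ((Nat.factorial m : A) * d m x) * ((Nat.factorial n : A) * d n x) := by ring
      _ = x ^ (m + n) := by rw [e1, e2, pow_add]
      _ = (Nat.factorial (m + n) : A) * d (m + n) x := e3.symm
      _ = (Nat.factorial m : A) * (Nat.factorial n : A) *
          (((m + n).choose m : ℕ) * d (m + n) x) := by rw [← e4]; ring
  · intro m n x hn hx
    have hdx : d n x ∈ I := Q n x hx hn
    simp only [if_pos hx, if_pos hdx]
    apply cancel (Nat.factorial m * Nat.factorial n ^ m)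
      (Nat.mul_ne_zero (Nat.factorial_ne_zero m) (pow_ne_zero _ (Nat.factorial_ne_zero n)))
    have e1 := P m (d n x) hdx
    have e2 := P n x hx
    have e3 := P (m * n) x hx
    have e4 : (Nat.cast (Nat.uniformBell m n) : A) * (Nat.cast (Nat.factorial n)) ^ m *
        Nat.cast (Nat.factorial m) = Nat.cast (Nat.factorial (m * n)) := by
      have h2 := congrArg (Nat.cast (R := A)) (Nat.uniformBell_mul_eq m hn)
      push_cast at h2
      exact h2
    push_cast
    calc (Nat.factorial m : A) * (Nat.factorial n : A) ^ m * d m (d n x)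
        = (Nat.factorial n : A) ^ m * ((Nat.factorial m : A) * d m (d n x)) := by ring
      _ = ((Nat.factorial n : A) * d n x) ^ m := by rw [e1, mul_pow]
      _ = x ^ (m * n) := by rw [e2, ← pow_mul, mul_comm]
      _ = (Nat.factorial (m * n) : A) * d (m * n) x := e3.symm
      _ = (Nat.factorial m : A) * (Nat.factorial n : A) ^ m *
          ((Nat.uniformBell m n : ℕ) * d (m * n) x) := by rw [← e4]; ring

end Aux

/-- Let A be a commutative ring whose additive group is torsion free and I an ideal of A. Then I carries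
at most one divided power structure, and it carries one if and only if I is generated by a set S
such that for every x in S and every n ≥ 1 the power x^n lies in the ideal generated by the products
of n! with elements of I. -/
theorem result {A : Type u} [CommRing A] [IsAddTorsionFree A] (I : Ideal A) :
    Subsingleton (DividedPowers I) ∧
    (Nonempty (DividedPowers I) ↔ ∃ S : Set A, Ideal.span S = I ∧
      ∀ x ∈ S, ∀ n : ℕ, 1 ≤ n → x ^ n ∈ Ideal.span {(Nat.factorial n : A)} * I) := by
  refine ⟨⟨fun γ δ => ?_⟩, ⟨?_, ?_⟩⟩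
  · apply DividedPowers.ext
    intro n x hx
    apply cancel (Nat.factorial n) (Nat.factorial_ne_zero n)
    rw [γ.factorial_mul_dpow_eq_pow hx, δ.factorial_mul_dpow_eq_pow hx]
  · rintro ⟨γ⟩
    refine ⟨(I : Set A), Ideal.span_eq I, ?_⟩
    intro x hx n hn
    rw [Ideal.mem_span_singleton_mul]
    exact ⟨γ.dpow n x, γ.dpow_mem (by omega) hx, γ.factorial_mul_dpow_eq_pow hx⟩
  · rintro ⟨S, hS, h⟩
    exact nonempty_dp (closure S hS h)

end Groth.Agent.S6501
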