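import Groth.Statements.S6516
import Mathlib
-- import your own Groth.Agent.* helpers here

set_option autoImplicit false
universe u
open CategoryTheory
open DCoh

namespace Groth.Agent.S6516

open AlgebraicGeometry CategoryTheory.Limits

/-- Restriction of a free module along an open immersion is free. -/
noncomputable def restrictFreeIso {Z' Z : Scheme.{u}} (j : Z' ⟶ Z) [IsOpenImmersion j] (n : ℕ) :
    (FlatMod.freeMod Z n).restrict j ≅ FlatMod.freeMod Z' n := by
  haveI : PreservesColimitsOfSize.{0, 0} (Scheme.Modules.restrictFunctor j) :=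
    (Scheme.Modules.restrictAdjunction j).leftAdjoint_preservesColimits
  exact PreservesCoproduct.iso (Scheme.Modules.restrictFunctor j)
      (fun _ : Fin n => Coh.structureModule Z) ≪≫
    Sigma.mapIso (fun _ => Scheme.Modules.restrictUnitIso j)

/-- Freeness over `U` passes to a smaller open `V ≤ U`. -/
theorem shrink {X : Scheme.{u}} (M : X.Modules) {U V : X.Opens} (hVU : V ≤ U) (n : ℕ)
    (e : M.restrict U.ι ≅ FlatMod.freeMod (U : Scheme.{u}) n) :
    Nonempty (M.restrict V.ι ≅ FlatMod.freeMod (V : Scheme.{u}) n) := by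
  let j : (V : Scheme.{u}) ⟶ (U : Scheme.{u}) := X.homOfLE hVU
  have hj : j ≫ U.ι = V.ι := X.homOfLE_ι hVU
  let iso2 := Scheme.Modules.restrictFunctorCongr hj.symm ≪≫
    Scheme.Modules.restrictFunctorComp j U.ι
  exact ⟨iso2.app M ≪≫ (Scheme.Modules.restrictFunctor j).mapIso e ≪≫ restrictFreeIso j n⟩

/-- `O^n ⊞ O^m ≅ O^(n+m)`. -/
theorem freeAdd (Z : Scheme.{u}) (n m : ℕ) :
    Nonempty (FlatMod.freeMod Z n ⊞ FlatMod.freeMod Z m ≅ FlatMod.freeMod Z (n + m)) := by
  let f₁ : Fin n → Z.Modules := fun _ => Coh.structureModule Z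
  let f₂ : Fin m → Z.Modules := fun _ => Coh.structureModule Z
  let c₁ : Cofan f₁ := Cofan.mk (∐ f₁) (Sigma.ι f₁)
  let c₂ : Cofan f₂ := Cofan.mk (∐ f₂) (Sigma.ι f₂)
  let h₁ : IsColimit c₁ := coproductIsCoproduct f₁
  let h₂ : IsColimit c₂ := coproductIsCoproduct f₂
  let bc : BinaryCofan c₁.pt c₂.pt := (BinaryBiproduct.bicone (∐ f₁) (∐ f₂)).toCocone
  let h : IsColimit bc := BinaryBiproduct.isColimit _ _
  let hc := Cofan.combPairIsColimit h₁ h₂ h
  let i1 : (∐ f₁) ⊞ (∐ f₂) ≅ ∐ (Sum.elim f₁ f₂) :=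
    hc.coconePointUniqueUpToIso (coproductIsCoproduct (Sum.elim f₁ f₂))
  let i2 : ∐ (Sum.elim f₁ f₂) ≅ ∐ (fun _ : Fin (n + m) => Coh.structureModule Z) :=
    Sigma.whiskerEquiv finSumFinEquiv (fun j => by
      cases j
      · exact Iso.refl _
      · exact Iso.refl _)
  exact ⟨i1 ≪≫ i2⟩

theorem isFinLocFree_of_iso {X : Scheme.{u}} {P Q : X.Modules} (e : P ≅ Q)
    (hP : FlatMod.IsFinLocFree P) : FlatMod.IsFinLocFree Q := by
  intro x
  obtain ⟨U, n, hx, ⟨e₁⟩⟩ := hP x
  exact ⟨U, n, hx, ⟨(Scheme.Modules.restrictFunctor U.ι).mapIso e.symm ≪≫ e₁⟩⟩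

theorem isFinLocFree_biprod {X : Scheme.{u}} {P Q : X.Modules}
    (hP : FlatMod.IsFinLocFree P) (hQ : FlatMod.IsFinLocFree Q) :
    FlatMod.IsFinLocFree (P ⊞ Q) := by
  intro x
  obtain ⟨U, n, hxU, ⟨e₁⟩⟩ := hP x
  obtain ⟨U', m, hxU', ⟨e₂⟩⟩ := hQ x
  obtain ⟨e₁'⟩ := shrink P (inf_le_left : U ⊓ U' ≤ U) n e₁
  obtain ⟨e₂'⟩ := shrink Q (inf_le_right : U ⊓ U' ≤ U') m e₂
  obtain ⟨e₃⟩ := freeAdd ((U ⊓ U' : X.Opens) : Scheme.{u}) n m
  have : PreservesBinaryBiproducts (Scheme.Modules.restrictFunctor (U ⊓ U').ι) :=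
    preservesBinaryBiproducts_of_preservesBinaryCoproducts _
  exact ⟨U ⊓ U', n + m, ⟨hxU, hxU'⟩,
    ⟨(Scheme.Modules.restrictFunctor (U ⊓ U').ι).mapBiprod P Q ≪≫ biprod.mapIso e₁' e₂' ≪≫ e₃⟩⟩

theorem isZero_biprod {C : Type*} [Category C] [Preadditive C] {P Q : C} [HasBinaryBiproduct P Q]
    (hP : IsZero P) (hQ : IsZero Q) : IsZero (P ⊞ Q) := by
  rw [IsZero.iff_id_eq_zero, ← biprod.total, hP.eq_of_tgt biprod.fst 0, hQ.eq_of_tgt biprod.snd 0]
  simp

noncomputable def coneXIso {X : Scheme.{u}} {E F : CochainComplex X.Modules ℤ} (φ : E ⟶ F) (i : ℤ) :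
    (CochainComplex.mappingCone φ).X i ≅ E.X (i + 1) ⊞ F.X i :=
  HomologicalComplex.homotopyCofiber.XIsoBiprod φ i (i + 1) (by simp)


open AlgebraicGeometry in
/-- Schemes; with the bounded finite-locally-free reading of strictly perfect used throughout this
problem's derived-category definitions: the mapping cone of a morphism between strictly perfect
complexes of O_X-modules is strictly perfect. -/
theorem result {X : Scheme.{u}} {E F : CochainComplex X.Modules ℤ} (φ : E ⟶ F)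
    (hE : DCoh.IsStrictlyPerfect E) (hF : DCoh.IsStrictlyPerfect F) :
    DCoh.IsStrictlyPerfect (CochainComplex.mappingCone φ) := by
  obtain ⟨⟨a, b, hEa⟩, hEf⟩ := hE
  obtain ⟨⟨a', b', hFa⟩, hFf⟩ := hF
  refine ⟨⟨min (a - 1) a', max b b', fun i hi => ?_⟩, fun i => ?_⟩
  · have h1 : IsZero (E.X (i + 1)) := hEa (i + 1) (by
      rcases hi with hi | hi
      · left
        have := (lt_min_iff.1 hi).1
        omega
      · right
        have := (max_lt_iff.1 hi).1
        omega)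
    have h2 : IsZero (F.X i) := hFa i (by
      rcases hi with hi | hi
      · left
        exact (lt_min_iff.1 hi).2
      · right
        exact (max_lt_iff.1 hi).2)
    exact (isZero_biprod h1 h2).of_iso (coneXIso φ i)
  · exact isFinLocFree_of_iso (coneXIso φ i).symm (isFinLocFree_biprod (hEf (i + 1)) (hFf i))

end Groth.Agent.S6516
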