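import Groth.Statements.S6517
import Mathlib
-- import your own Groth.Agent.* helpers here

set_option autoImplicit false
universe u
open CategoryTheory
open DCoh

namespace Groth.Agent.S6517

open AlgebraicGeometry CategoryTheory.Limits TopologicalSpace

instance opensMap_final {X Y : Scheme.{u}} (f : X ⟶ Y) : (Opens.map f.base).Final :=
  Functor.final_of_exists_of_isFiltered _ (fun _ => ⟨⊤, ⟨homOfLE le_top⟩⟩)
    (fun {_ c} _ _ => ⟨c, 𝟙 c, Subsingleton.elim _ _⟩)

set_option backward.isDefEq.respectTransparency.types false in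
/-- The pullback of the structure module is the structure module. -/
noncomputable def pullbackUnitIso {X Y : Scheme.{u}} (f : X ⟶ Y) :
    (Scheme.Modules.pullback f).obj (Coh.structureModule Y) ≅ Coh.structureModule X := by
  haveI : (SheafOfModules.pushforward.{u} f.toRingCatSheafHom).IsRightAdjoint :=
    inferInstanceAs ((Scheme.Modules.pushforward f).IsRightAdjoint)
  have h : IsIso (SheafOfModules.pullbackObjUnitToUnit f.toRingCatSheafHom) := inferInstance
  exact @asIso _ _ _ _ _ h

/-- The pullback of a free module is free. -/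
noncomputable def pullbackFreeIso {X Y : Scheme.{u}} (f : X ⟶ Y) (n : ℕ) :
    (Scheme.Modules.pullback f).obj (FlatMod.freeMod Y n) ≅ FlatMod.freeMod X n := by
  haveI : PreservesColimitsOfSize.{0, 0} (Scheme.Modules.pullback f) :=
    (Scheme.Modules.pullbackPushforwardAdjunction f).leftAdjoint_preservesColimits
  exact PreservesCoproduct.iso (Scheme.Modules.pullback f)
      (fun _ : Fin n => Coh.structureModule Y) ≪≫
    Sigma.mapIso (fun _ => pullbackUnitIso f)

theorem isFinLocFree_pullback {X Y : Scheme.{u}} (f : X ⟶ Y) (M : Y.Modules)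
    (hM : FlatMod.IsFinLocFree M) : FlatMod.IsFinLocFree ((Scheme.Modules.pullback f).obj M) := by
  intro x
  obtain ⟨U, n, hxU, ⟨e⟩⟩ := hM (f x)
  let V : X.Opens := f ⁻¹ᵁ U
  let g : (V : Scheme.{u}) ⟶ (U : Scheme.{u}) := f ∣_ U
  have hg : V.ι ≫ f = g ≫ U.ι := (morphismRestrict_ι f U).symm
  refine ⟨V, n, hxU, ⟨?_⟩⟩
  exact (Scheme.Modules.restrictFunctorIsoPullback V.ι).app _ ≪≫
    (Scheme.Modules.pullbackComp V.ι f).app M ≪≫
    (Scheme.Modules.pullbackCongr hg).app M ≪≫
    ((Scheme.Modules.pullbackComp g U.ι).symm).app M ≪≫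
    (Scheme.Modules.pullback g).mapIso (((Scheme.Modules.restrictFunctorIsoPullback U.ι).symm).app M) ≪≫
    (Scheme.Modules.pullback g).mapIso e ≪≫
    pullbackFreeIso g n


open AlgebraicGeometry in
/-- Schemes; bounded finite-locally-free reading of strictly perfect: if f : X → Y is a morphism and F a
strictly perfect complex of O_Y-modules, then f^*F (pullback applied termwise) is a strictly perfect
complex of O_X-modules. -/
theorem result {X Y : Scheme.{u}} (f : X ⟶ Y) (F : CochainComplex Y.Modules ℤ)
    (hF : DCoh.IsStrictlyPerfect F) :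
    DCoh.IsStrictlyPerfect (((Scheme.Modules.pullback f).mapHomologicalComplex (ComplexShape.up ℤ)).obj F) := by
  obtain ⟨⟨a, b, hFa⟩, hFf⟩ := hF
  refine ⟨⟨a, b, fun i hi => ?_⟩, fun i => ?_⟩
  · exact (Scheme.Modules.pullback f).map_isZero (hFa i hi)
  · exact isFinLocFree_pullback f (F.X i) (hFf i)

end Groth.Agent.S6517
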