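import Groth.Statements.S6530
import Mathlib

set_option autoImplicit false
universe u
open DPow

namespace Groth.Agent.S6530

section Aux

variable {A : Type u} [CommRing A] {I : Ideal A} (γ : DividedPowers I) (p : A) (t : ℕ)
  (ht : Ideal.span {p} ^ t ≤ I)

include ht in
theorem cont (n e : ℕ) {a a' : A} (ha : a ∈ I) (ha' : a' ∈ I)
    (h : Ideal.Quotient.mk (Ideal.span {p} ^ (e + t)) a' =
      Ideal.Quotient.mk (Ideal.span {p} ^ (e + t)) a) :
    Ideal.Quotient.mk (Ideal.span {p} ^ e) (γ.dpow n a') =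
      Ideal.Quotient.mk (Ideal.span {p} ^ e) (γ.dpow n a) := by
  classical
  rw [Ideal.Quotient.eq, Ideal.span_singleton_pow, Ideal.mem_span_singleton'] at h
  obtain ⟨c, hc⟩ := h
  set z := p ^ t * c with hz
  have hzI : z ∈ I :=
    ht (Ideal.mul_mem_right _ _ (Ideal.pow_mem_pow (Ideal.mem_span_singleton_self p) t))
  have ha'eq : a' = a + p ^ e * z := by
    have : p ^ e * z = a' - a := by rw [hz, ← hc, pow_add]; ring
    rw [this]; ring
  have hmem : ∀ j, j ≠ 0 → (p ^ e) ^ j ∈ Ideal.span {p} ^ e := by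
    intro j hj
    obtain ⟨j', rfl⟩ := Nat.exists_eq_succ_of_ne_zero hj
    rw [pow_succ]
    exact Ideal.mul_mem_left _ _ (Ideal.pow_mem_pow (Ideal.mem_span_singleton_self p) e)
  rw [Ideal.Quotient.eq, ha'eq, γ.dpow_add ha (I.mul_mem_left _ hzI),
    ← Finset.add_sum_erase (Finset.HasAntidiagonal.antidiagonal n) _
      (show (n, 0) ∈ Finset.HasAntidiagonal.antidiagonal n by simp)]
  have h0 : γ.dpow n a * γ.dpow 0 (p ^ e * z) = γ.dpow n a := by
    rw [γ.dpow_zero (I.mul_mem_left _ hzI), mul_one]
  rw [h0, add_sub_cancel_left]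
  refine Ideal.sum_mem _ fun ij hij => ?_
  rw [Finset.mem_erase, Finset.HasAntidiagonal.mem_antidiagonal] at hij
  have hj : ij.2 ≠ 0 := by
    intro hj0
    apply hij.1
    have h1 : ij.1 = n := by omega
    exact Prod.ext h1 hj0
  rw [γ.dpow_mul hzI]
  exact Ideal.mul_mem_left _ _ (Ideal.mul_mem_right _ _ (hmem _ hj))

/-- A Cauchy sequence representing an element of the completion. -/
noncomputable def rep (x : AdicCompletion (Ideal.span {p}) A) :
    AdicCompletion.AdicCauchySequence (Ideal.span {p}) A :=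
  Classical.choose (AdicCompletion.mk_surjective (Ideal.span {p}) A x)

theorem rep_spec (x : AdicCompletion (Ideal.span {p}) A) :
    AdicCompletion.mk (Ideal.span {p}) A (rep p x) = x :=
  Classical.choose_spec (AdicCompletion.mk_surjective (Ideal.span {p}) A x)

theorem eval_rep (x : AdicCompletion (Ideal.span {p}) A) {m n : ℕ} (hmn : m ≤ n) :
    AdicCompletion.evalₐ (Ideal.span {p}) m x =
      Ideal.Quotient.mk (Ideal.span {p} ^ m) (rep p x n) := by
  conv_lhs => rw [← rep_spec p x]
  rw [AdicCompletion.evalₐ_mk, Ideal.Quotient.eq]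
  have h := (rep p x).2 hmn
  rw [SModEq.sub_mem, smul_eq_mul, Ideal.mul_top] at h
  exact h

theorem eval_alg (e : ℕ) (a : A) :
    AdicCompletion.evalₐ (Ideal.span {p}) e (algebraMap A (AdicCompletion (Ideal.span {p}) A) a) =
      Ideal.Quotient.mk (Ideal.span {p} ^ e) a :=
  (AdicCompletion.evalₐ (Ideal.span {p}) e).commutes a

/-- The projection to `A ⧸ I`. -/
noncomputable def piMap : AdicCompletion (Ideal.span {p}) A →+* A ⧸ I :=
  (Ideal.Quotient.factor ht).comp (AdicCompletion.evalₐ (Ideal.span {p}) t).toRingHom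

theorem piMap_eq (x : AdicCompletion (Ideal.span {p}) A) (b : A) {e : ℕ} (hte : t ≤ e)
    (hb : AdicCompletion.evalₐ (Ideal.span {p}) e x = Ideal.Quotient.mk (Ideal.span {p} ^ e) b) :
    piMap p t ht x = Ideal.Quotient.mk I b := by
  have h1 := eval_rep p x hte
  have h2 := eval_rep p x (le_refl e)
  rw [hb, Ideal.Quotient.eq] at h2
  change Ideal.Quotient.factor ht (AdicCompletion.evalₐ (Ideal.span {p}) t x) = _
  rw [h1, Ideal.Quotient.factor_mk, Ideal.Quotient.eq]
  have h3 : rep p x e - b = -(b - rep p x e) := by ring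
  rw [h3]
  exact I.neg_mem (ht (Ideal.pow_le_pow_right hte h2))

theorem mem_ker_iff (x : AdicCompletion (Ideal.span {p}) A) (b : A) {e : ℕ} (hte : t ≤ e)
    (hb : AdicCompletion.evalₐ (Ideal.span {p}) e x = Ideal.Quotient.mk (Ideal.span {p} ^ e) b) :
    x ∈ RingHom.ker (piMap p t ht) ↔ b ∈ I := by
  rw [RingHom.mem_ker, piMap_eq p t ht x b hte hb, Ideal.Quotient.eq_zero_iff_mem]

theorem rep_mem (x : AdicCompletion (Ideal.span {p}) A) (hx : x ∈ RingHom.ker (piMap p t ht))
    {e : ℕ} (hte : t ≤ e) : rep p x e ∈ I :=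
  (mem_ker_iff p t ht x _ hte (eval_rep p x le_rfl)).1 hx

open Classical in
/-- The divided power operations on the kernel. -/
noncomputable def delta (n : ℕ) (x : AdicCompletion (Ideal.span {p}) A) :
    AdicCompletion (Ideal.span {p}) A :=
  if hx : x ∈ RingHom.ker (piMap p t ht) then
    AdicCompletion.mk (Ideal.span {p}) A
      (AdicCompletion.AdicCauchySequence.mk (Ideal.span {p}) A
        (fun e => γ.dpow n (rep p x (e + t)))
        (fun e => by
          rw [SModEq.sub_mem, smul_eq_mul, Ideal.mul_top]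
          exact Ideal.Quotient.eq.1 (cont γ p t ht n e
            (rep_mem p t ht x hx (by omega : t ≤ e + 1 + t))
            (rep_mem p t ht x hx (Nat.le_add_left t e))
            ((eval_rep p x le_rfl).symm.trans (eval_rep p x (by omega : e + t ≤ e + 1 + t))))))
  else 0

theorem eval_delta (n : ℕ) (x : AdicCompletion (Ideal.span {p}) A)
    (hx : x ∈ RingHom.ker (piMap p t ht)) (e : ℕ) :
    AdicCompletion.evalₐ (Ideal.span {p}) e (delta γ p t ht n x) =
      Ideal.Quotient.mk (Ideal.span {p} ^ e) (γ.dpow n (rep p x (e + t))) := by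
  rw [delta, dif_pos hx, AdicCompletion.evalₐ_mk]
  rfl

theorem eval_delta' (n : ℕ) (x : AdicCompletion (Ideal.span {p}) A)
    (hx : x ∈ RingHom.ker (piMap p t ht)) (e : ℕ) (b : A)
    (hb : AdicCompletion.evalₐ (Ideal.span {p}) (e + t) x =
      Ideal.Quotient.mk (Ideal.span {p} ^ (e + t)) b) :
    AdicCompletion.evalₐ (Ideal.span {p}) e (delta γ p t ht n x) =
      Ideal.Quotient.mk (Ideal.span {p} ^ e) (γ.dpow n b) := by
  rw [eval_delta γ p t ht n x hx e]
  have hbI : b ∈ I := (mem_ker_iff p t ht x b (Nat.le_add_left t e) hb).1 hx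
  exact cont γ p t ht n e hbI (rep_mem p t ht x hx (Nat.le_add_left t e))
    ((eval_rep p x le_rfl).symm.trans hb)

theorem delta_mem (n : ℕ) (hn : n ≠ 0) (x : AdicCompletion (Ideal.span {p}) A)
    (hx : x ∈ RingHom.ker (piMap p t ht)) : delta γ p t ht n x ∈ RingHom.ker (piMap p t ht) := by
  rw [mem_ker_iff p t ht (delta γ p t ht n x) (γ.dpow n (rep p x (t + t))) le_rfl
    (eval_delta γ p t ht n x hx t)]
  exact γ.dpow_mem hn (rep_mem p t ht x hx (Nat.le_add_left t t))

/-- The divided power structure on the kernel. -/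
noncomputable def dp : DividedPowers (RingHom.ker (piMap p t ht)) where
  dpow := delta γ p t ht
  dpow_null {n x} hx := by rw [delta, dif_neg hx]
  dpow_zero {x} hx := by
    refine AdicCompletion.ext_evalₐ fun e => ?_
    rw [eval_delta γ p t ht 0 x hx e, γ.dpow_zero (rep_mem p t ht x hx (Nat.le_add_left t e)),
      map_one, map_one]
  dpow_one {x} hx := by
    refine AdicCompletion.ext_evalₐ fun e => ?_
    rw [eval_delta γ p t ht 1 x hx e, γ.dpow_one (rep_mem p t ht x hx (Nat.le_add_left t e)),
      eval_rep p x (Nat.le_add_right e t)]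
  dpow_mem {n x} hn hx := delta_mem γ p t ht n hn x hx
  dpow_add {n x y} hx hy := by
    refine AdicCompletion.ext_evalₐ fun e => ?_
    have hxy := Ideal.add_mem _ hx hy
    rw [eval_delta' γ p t ht n (x + y) hxy e (rep p x (e + t) + rep p y (e + t))
      (by rw [map_add, map_add, eval_rep p x le_rfl, eval_rep p y le_rfl])]
    rw [γ.dpow_add (rep_mem p t ht x hx (Nat.le_add_left t e))
      (rep_mem p t ht y hy (Nat.le_add_left t e)), map_sum, map_sum]
    refine Finset.sum_congr rfl fun ij _ => ?_
    rw [map_mul, map_mul, eval_delta γ p t ht ij.1 x hx e, eval_delta γ p t ht ij.2 y hy e]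
  dpow_mul {n a x} hx := by
    refine AdicCompletion.ext_evalₐ fun e => ?_
    have hax := Ideal.mul_mem_left _ a hx
    rw [eval_delta' γ p t ht n (a * x) hax e (rep p a (e + t) * rep p x (e + t))
      (by rw [map_mul, map_mul, eval_rep p a le_rfl, eval_rep p x le_rfl])]
    rw [γ.dpow_mul (rep_mem p t ht x hx (Nat.le_add_left t e)), map_mul, map_mul, map_pow,
      map_pow, eval_delta γ p t ht n x hx e, eval_rep p a (Nat.le_add_right e t)]
  mul_dpow {m n x} hx := by
    refine AdicCompletion.ext_evalₐ fun e => ?_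
    rw [map_mul, eval_delta γ p t ht m x hx e, eval_delta γ p t ht n x hx e, ← map_mul,
      γ.mul_dpow (rep_mem p t ht x hx (Nat.le_add_left t e)), map_mul, map_mul, map_natCast,
      map_natCast, eval_delta γ p t ht (m + n) x hx e]
  dpow_comp {m n x} hn hx := by
    refine AdicCompletion.ext_evalₐ fun e => ?_
    have hy := delta_mem γ p t ht n hn x hx
    rw [eval_delta' γ p t ht m (delta γ p t ht n x) hy e (γ.dpow n (rep p x (e + t + t)))
      (eval_delta γ p t ht n x hx (e + t))]
    rw [γ.dpow_comp hn (rep_mem p t ht x hx (by omega : t ≤ e + t + t)), map_mul, map_mul,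
      map_natCast, map_natCast]
    rw [eval_delta' γ p t ht (m * n) x hx e (rep p x (e + t + t))
      (eval_rep p x (Nat.le_add_right (e + t) t))]

end Aux

/-- Let (A, I, γ) be a divided power ring and p a prime number with p^t A ⊆ I for some t ≥ 0, so that p
is nilpotent in A/I. Let A^∧ be the p-adic completion of A and π : A^∧ → A/I the composite of the
evaluation A^∧ → A/p^tA with the projection A/p^tA → A/I. Then π is surjective, and there is a
divided power structure on Ker(π) (this kernel is the p-adic completion of I) such that the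
canonical map A → A^∧ is a homomorphism of divided power rings. -/
theorem result {A : Type u} [CommRing A] {I : Ideal A}
    (γ : DividedPowers I) (p : ℕ) [Fact p.Prime] (t : ℕ) (ht : Ideal.span {(p : A)} ^ t ≤ I) :
    Function.Surjective ((Ideal.Quotient.factor ht).comp
      (AdicCompletion.evalₐ (Ideal.span {(p : A)}) t).toRingHom) ∧
    ∃ δ : DividedPowers (RingHom.ker ((Ideal.Quotient.factor ht).comp
      (AdicCompletion.evalₐ (Ideal.span {(p : A)}) t).toRingHom)),
      γ.IsDPMorphism δ (algebraMap A (AdicCompletion (Ideal.span {(p : A)}) A)) := by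
  classical
  refine ⟨?_, dp γ (p : A) t ht, ⟨?_, ?_⟩⟩
  · intro y
    obtain ⟨z, rfl⟩ := Ideal.Quotient.factor_surjective ht y
    obtain ⟨x, rfl⟩ := AdicCompletion.surjective_evalₐ (Ideal.span {(p : A)}) t z
    exact ⟨x, rfl⟩
  · rw [Ideal.map_le_iff_le_comap]
    intro a ha
    rw [Ideal.mem_comap]
    exact (mem_ker_iff (p : A) t ht _ a le_rfl (eval_alg (p : A) t a)).2 ha
  · intro n a ha
    refine AdicCompletion.ext_evalₐ fun e => ?_
    have hx : algebraMap A (AdicCompletion (Ideal.span {(p : A)}) A) a ∈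
        RingHom.ker (piMap (p : A) t ht) :=
      (mem_ker_iff (p : A) t ht _ a le_rfl (eval_alg (p : A) t a)).2 ha
    change AdicCompletion.evalₐ (Ideal.span {(p : A)}) e
      (delta γ (p : A) t ht n (algebraMap A (AdicCompletion (Ideal.span {(p : A)}) A) a)) = _
    rw [eval_delta' γ (p : A) t ht n _ hx e a (eval_alg (p : A) (e + t) a),
      eval_alg (p : A) e (γ.dpow n a)]

end Groth.Agent.S6530
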