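import Groth.Statements.S6564
-- import your own Groth.Agent.* helpers here

set_option autoImplicit false
universe u
open CategoryTheory CategoryTheory.Limits AlgebraicGeometry
open Curves

namespace Groth.Agent.S6564

/-- Let X be proper over the field k of dimension at most 1. If X has a g^r_d (an invertible module L of
degree d with an ordered family of r + 1 global sections linearly independent over k), then X has a
g^s_d for every 0 ≤ s ≤ r. -/
theorem result (k : Type u) [Field k] (X : Scheme.{u}) [X.Over (Spec (CommRingCat.of k))] [IsProper (X ↘ (Spec (CommRingCat.of k)))] (hdim : topologicalKrullDim X ≤ 1)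
    (d r : ℕ) (L : X.Modules) (σ : Fin (r + 1) → LinSer.Sect X L) (hL : LinSer.IsLinSer k X L d r σ)
    (s : ℕ) (hs : s ≤ r) :
    ∃ (L' : X.Modules) (τ : Fin (s + 1) → LinSer.Sect X L'), LinSer.IsLinSer k X L' d s τ := by
  classical
  obtain ⟨hinv, hdeg, hli⟩ := hL
  have hle : s + 1 ≤ r + 1 := by omega
  refine ⟨L, fun i => σ (Fin.castLE hle i), hinv, hdeg, ?_⟩
  intro c hc
  let c' : Fin (r + 1) → k := fun j => if h : (j : ℕ) < s + 1 then c ⟨j, h⟩ else 0
  have hc'1 : ∀ i : Fin (s + 1), c' (Fin.castLE hle i) = c i := by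
    intro i
    have : ((Fin.castLE hle i : Fin (r + 1)) : ℕ) < s + 1 := by
      rw [Fin.val_castLE]; exact i.isLt
    simp only [c', this, dite_true]
    congr 1
  have hc'2 : ∀ j : Fin (r + 1), ¬ (j : ℕ) < s + 1 → c' j = 0 := by
    intro j hj
    simp only [c', hj, dite_false]
  have h0 : c' = 0 := by
    apply hli
    rw [← hc]
    have hsum : ∀ F : Fin (r + 1) → LinSer.Sect X L, (∀ j : Fin (r + 1), ¬ (j : ℕ) < s + 1 → F j = 0) →
        ∑ j : Fin (r + 1), F j = ∑ i : Fin (s + 1), F (Fin.castLE hle i) := by
      intro F hF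
      have e1 : ∑ i : Fin (s + 1), F (Fin.castLE hle i) =
          ∑ j ∈ Finset.univ.map (Fin.castLEEmb hle), F j := by
        rw [Finset.sum_map]
        rfl
      rw [e1]
      symm
      apply Finset.sum_subset (Finset.subset_univ _)
      intro j _ hj
      apply hF
      intro h
      apply hj
      rw [Finset.mem_map]
      exact ⟨⟨j, h⟩, Finset.mem_univ _, Fin.ext rfl⟩
    rw [hsum]
    · apply Finset.sum_congr rfl
      intro i _
      rw [hc'1]
    · intro j hj
      rw [hc'2 j hj, map_zero, zero_smul]
  funext i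
  have := congr_fun h0 (Fin.castLE hle i)
  rw [hc'1] at this
  exact this

end Groth.Agent.S6564
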