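import Groth.Statements.S6580
import Mathlib.Tactic.NoncommRing

set_option autoImplicit false
universe v u
open CohDer

namespace Groth.Agent.S6580

open CategoryTheory CategoryTheory.Limits CategoryTheory.Pretriangulated

theorem ring_idem {R : Type*} [Ring R] (e : R) (h : (e * e - e) * (e * e - e) = 0) :
    ((3 : ℤ) • (e * e) - (2 : ℤ) • (e * e * e)) * ((3 : ℤ) • (e * e) - (2 : ℤ) • (e * e * e)) =
      (3 : ℤ) • (e * e) - (2 : ℤ) • (e * e * e) := by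
  have key : ((3 : ℤ) • (e * e) - (2 : ℤ) • (e * e * e)) * ((3 : ℤ) • (e * e) - (2 : ℤ) • (e * e * e)) -
      ((3 : ℤ) • (e * e) - (2 : ℤ) • (e * e * e)) =
      ((4 : ℤ) • (e * e) - (4 : ℤ) • e - (3 : ℤ) • (1 : R)) * ((e * e - e) * (e * e - e)) := by
    noncomm_ring
  rw [h, mul_zero, sub_eq_zero] at key
  exact key

theorem result {D : Type u} [Category.{v} D] [Preadditive D] [HasZeroObject D] [HasShift D ℤ]
    [∀ n : ℤ, (shiftFunctor D n).Additive] [Pretriangulated D]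
    (T : Triangle D) (hT : T ∈ distinguishedTriangles) (a : T.obj₁ ⟶ T.obj₁) (c : T.obj₃ ⟶ T.obj₃)
    (ha : a ≫ a = a) (hc : c ≫ c = c) (comm : T.mor₃ ≫ (shiftFunctor D (1 : ℤ)).map a = c ≫ T.mor₃) :
    ∃ b : T.obj₂ ⟶ T.obj₂, b ≫ b = b ∧ T.mor₁ ≫ b = a ≫ T.mor₁ ∧ T.mor₂ ≫ c = b ≫ T.mor₂ := by
  obtain ⟨e, he₁, he₂⟩ := complete_distinguished_triangle_morphism₂ T T hT hT a c comm
  -- powers of e
  have h1 : T.mor₁ ≫ e ≫ e = a ≫ T.mor₁ := by
    rw [← Category.assoc, he₁, Category.assoc, he₁, ← Category.assoc, ha]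
  have h1' : T.mor₁ ≫ e ≫ e ≫ e = a ≫ T.mor₁ := by
    rw [← Category.assoc, he₁, Category.assoc, h1, ← Category.assoc, ha]
  have h2 : (e ≫ e) ≫ T.mor₂ = T.mor₂ ≫ c := by
    rw [Category.assoc, ← he₂, ← Category.assoc, ← he₂, Category.assoc, hc]
  have h2' : (e ≫ e ≫ e) ≫ T.mor₂ = T.mor₂ ≫ c := by
    rw [Category.assoc, Category.assoc, ← he₂, ← Category.assoc e, ← Category.assoc (e ≫ e), h2,
      Category.assoc, hc]
  -- d = e² - e squares to zero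
  have hd1 : T.mor₁ ≫ (e ≫ e - e) = 0 := by
    rw [Preadditive.comp_sub, h1, he₁, sub_self]
  have hd2 : (e ≫ e - e) ≫ T.mor₂ = 0 := by
    rw [Preadditive.sub_comp, h2, ← he₂, sub_self]
  obtain ⟨d'', hd''⟩ := Triangle.yoneda_exact₂ T hT _ hd1
  obtain ⟨d', hd'⟩ := Triangle.coyoneda_exact₂ T hT _ hd2
  have hdd : (e ≫ e - e) ≫ (e ≫ e - e) = 0 := by
    calc (e ≫ e - e) ≫ (e ≫ e - e) = (d' ≫ T.mor₁) ≫ (T.mor₂ ≫ d'') := by
          rw [← hd', ← hd'']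
      _ = 0 := by
          rw [Category.assoc, ← Category.assoc T.mor₁, comp_distTriang_mor_zero₁₂ _ hT, zero_comp,
            comp_zero]
  refine ⟨(3 : ℤ) • (e ≫ e) - (2 : ℤ) • (e ≫ e ≫ e), ?_, ?_, ?_⟩
  · exact ring_idem (R := End T.obj₂) e hdd
  · rw [Preadditive.comp_sub, Preadditive.comp_zsmul, Preadditive.comp_zsmul, h1, h1']
    abel
  · rw [Preadditive.sub_comp, Preadditive.zsmul_comp, Preadditive.zsmul_comp, h2, h2']
    abel
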