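import Groth.Statements.S6581
import Mathlib.CategoryTheory.Triangulated.Pretriangulated
-- import your own Groth.Agent.* helpers here

set_option autoImplicit false
universe v u
open CategoryTheory CategoryTheory.Limits
open CohDer

namespace Groth.Agent.S6581

section helpers

set_option linter.unusedSectionVars false

variable {D : Type u} [Category.{v} D] [Preadditive D] [HasZeroObject D] [HasShift D ℤ]
    [∀ n : ℤ, (shiftFunctor D n).Additive] [Pretriangulated D]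

lemma sh_inl_dd {X X' A : D} [HasBinaryBiproduct X X']
    (b : (shiftFunctor D (1 : ℤ)).obj X ⟶ A) (b' : (shiftFunctor D (1 : ℤ)).obj X' ⟶ A) :
    (shiftFunctor D (1 : ℤ)).map (biprod.inl : X ⟶ X ⊞ X') ≫
      ((shiftFunctor D (1 : ℤ)).map biprod.fst ≫ b + (shiftFunctor D (1 : ℤ)).map biprod.snd ≫ b')
        = b := by
  simp only [Preadditive.comp_add, ← Functor.map_comp_assoc, biprod.inl_fst, biprod.inl_snd,
    CategoryTheory.Functor.map_id, Functor.map_zero, Category.id_comp, zero_comp, add_zero]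

lemma sh_inr_dd {X X' A : D} [HasBinaryBiproduct X X']
    (b : (shiftFunctor D (1 : ℤ)).obj X ⟶ A) (b' : (shiftFunctor D (1 : ℤ)).obj X' ⟶ A) :
    (shiftFunctor D (1 : ℤ)).map (biprod.inr : X' ⟶ X ⊞ X') ≫
      ((shiftFunctor D (1 : ℤ)).map biprod.fst ≫ b + (shiftFunctor D (1 : ℤ)).map biprod.snd ≫ b')
        = b' := by
  simp only [Preadditive.comp_add, ← Functor.map_comp_assoc, biprod.inr_fst, biprod.inr_snd,
    CategoryTheory.Functor.map_id, Functor.map_zero, Category.id_comp, zero_comp, zero_add]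

lemma sh_hom_ext {X X' A : D} [HasBinaryBiproduct X X']
    (u w : (shiftFunctor D (1 : ℤ)).obj (X ⊞ X') ⟶ A)
    (h1 : (shiftFunctor D (1 : ℤ)).map (biprod.inl : X ⟶ X ⊞ X') ≫ u =
      (shiftFunctor D (1 : ℤ)).map biprod.inl ≫ w)
    (h2 : (shiftFunctor D (1 : ℤ)).map (biprod.inr : X' ⟶ X ⊞ X') ≫ u =
      (shiftFunctor D (1 : ℤ)).map biprod.inr ≫ w) : u = w := by
  have key : ∀ t : (shiftFunctor D (1 : ℤ)).obj (X ⊞ X') ⟶ A,
      t = (shiftFunctor D (1 : ℤ)).map biprod.fst ≫ (shiftFunctor D (1 : ℤ)).map biprod.inl ≫ t +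
        (shiftFunctor D (1 : ℤ)).map biprod.snd ≫ (shiftFunctor D (1 : ℤ)).map biprod.inr ≫ t := by
    intro t
    rw [← Functor.map_comp_assoc, ← Functor.map_comp_assoc, ← Preadditive.add_comp,
      ← Functor.map_add, biprod.total, CategoryTheory.Functor.map_id, Category.id_comp]
  rw [key u, key w, h1, h2]

open CategoryTheory.Pretriangulated in
lemma retract_aux {X Y Z A B C : D} (f : X ⟶ Y) (g : Y ⟶ Z)
    (h : Z ⟶ (shiftFunctor D (1 : ℤ)).obj X) (α : A ⟶ B) (β : B ⟶ C)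
    (γ : C ⟶ (shiftFunctor D (1 : ℤ)).obj A)
    (hS : Triangle.mk α β γ ∈ distinguishedTriangles)
    (i₁ : X ⟶ A) (i₂ : Y ⟶ B) (i₃ : Z ⟶ C) (p₁ : A ⟶ X) (p₂ : B ⟶ Y) (p₃ : C ⟶ Z)
    (hi₁ : f ≫ i₂ = i₁ ≫ α) (hi₂ : g ≫ i₃ = i₂ ≫ β)
    (hi₃ : h ≫ (shiftFunctor D (1 : ℤ)).map i₁ = i₃ ≫ γ)
    (hp₁ : α ≫ p₂ = p₁ ≫ f) (hp₂ : β ≫ p₃ = p₂ ≫ g)
    (hp₃ : γ ≫ (shiftFunctor D (1 : ℤ)).map p₁ = p₃ ≫ h)
    (h₁ : i₁ ≫ p₁ = 𝟙 X) (h₂ : i₂ ≫ p₂ = 𝟙 Y) (h₃ : i₃ ≫ p₃ = 𝟙 Z) :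
    Triangle.mk f g h ∈ distinguishedTriangles := by
  obtain ⟨Q, g₁, k₁, hT₁⟩ := distinguished_cocone_triangle f
  obtain ⟨a, ha₂, ha₃⟩ : ∃ a : Q ⟶ C, g₁ ≫ a = i₂ ≫ β ∧
      k₁ ≫ (shiftFunctor D (1 : ℤ)).map i₁ = a ≫ γ :=
    complete_distinguished_triangle_morphism _ _ hT₁ hS i₁ i₂ hi₁
  have hc₂ : g₁ ≫ (a ≫ p₃) = g := by
    rw [← Category.assoc, ha₂, Category.assoc, hp₂, ← Category.assoc, h₂, Category.id_comp]
  have hc₃ : k₁ = (a ≫ p₃) ≫ h := by
    rw [Category.assoc, ← hp₃, ← Category.assoc, ← ha₃, Category.assoc, ← Functor.map_comp, h₁,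
      CategoryTheory.Functor.map_id, Category.comp_id]
  have ex₂ : ∀ {W : D} (t : W ⟶ Y), t ≫ g = 0 → ∃ w : W ⟶ X, t = w ≫ f := by
    intro W t ht
    obtain ⟨w', hw'⟩ : ∃ w' : W ⟶ A, t ≫ i₂ = w' ≫ α :=
      Triangle.coyoneda_exact₂ _ hS (t ≫ i₂) (by
        show (t ≫ i₂) ≫ β = 0
        rw [Category.assoc, ← hi₂, ← Category.assoc, ht, zero_comp])
    refine ⟨w' ≫ p₁, ?_⟩
    calc t = (t ≫ i₂) ≫ p₂ := by rw [Category.assoc, h₂, Category.comp_id]
      _ = (w' ≫ p₁) ≫ f := by rw [hw', Category.assoc, hp₁, Category.assoc]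
  have ex₃ : ∀ {W : D} (y : W ⟶ Z), y ≫ h = 0 → ∃ t : W ⟶ Y, y = t ≫ g := by
    intro W y hy
    obtain ⟨t', ht'⟩ : ∃ t' : W ⟶ B, y ≫ i₃ = t' ≫ β :=
      Triangle.coyoneda_exact₃ _ hS (y ≫ i₃) (by
        show (y ≫ i₃) ≫ γ = 0
        rw [Category.assoc, ← hi₃, ← Category.assoc, hy, zero_comp])
    refine ⟨t' ≫ p₂, ?_⟩
    calc y = (y ≫ i₃) ≫ p₃ := by rw [Category.assoc, h₃, Category.comp_id]
      _ = (t' ≫ p₂) ≫ g := by rw [ht', Category.assoc, hp₂, Category.assoc]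
  have hzero : h ≫ (shiftFunctor D (1 : ℤ)).map f = 0 := by
    have e1 : γ ≫ (shiftFunctor D (1 : ℤ)).map α = 0 := comp_distTriang_mor_zero₃₁ _ hS
    calc h ≫ (shiftFunctor D (1 : ℤ)).map f
        = h ≫ (shiftFunctor D (1 : ℤ)).map ((f ≫ i₂) ≫ p₂) := by
          rw [Category.assoc, h₂, Category.comp_id]
      _ = (h ≫ (shiftFunctor D (1 : ℤ)).map i₁) ≫ (shiftFunctor D (1 : ℤ)).map α ≫
            (shiftFunctor D (1 : ℤ)).map p₂ := by
          rw [hi₁]; simp only [Functor.map_comp, Category.assoc]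
      _ = 0 := by rw [hi₃, Category.assoc, reassoc_of% e1, zero_comp, comp_zero]
  have hiso : IsIso (a ≫ p₃) := by
    refine isIso_of_yoneda_map_bijective _ (fun W => ⟨?_, ?_⟩)
    · suffices Mono (a ≫ p₃) by
        intro a₁ a₂ ha
        simpa only [cancel_mono (a ≫ p₃)] using ha
      rw [Preadditive.mono_iff_cancel_zero]
      intro W u hu
      obtain ⟨t, ht⟩ : ∃ t : W ⟶ Y, u = t ≫ g₁ := Triangle.coyoneda_exact₃ _ hT₁ u (by
        show u ≫ k₁ = 0
        rw [hc₃, ← Category.assoc, hu, zero_comp])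
      obtain ⟨w, hw⟩ := ex₂ t (by rw [← hc₂, ← Category.assoc, ← ht, hu])
      have e2 : f ≫ g₁ = 0 := comp_distTriang_mor_zero₁₂ _ hT₁
      rw [ht, hw, Category.assoc, e2, comp_zero]
    · intro z
      obtain ⟨u₀, hu₀⟩ : ∃ u₀ : W ⟶ Q, z ≫ h = u₀ ≫ k₁ :=
        Triangle.coyoneda_exact₁ _ hT₁ (z ≫ h) (by
          show (z ≫ h) ≫ (shiftFunctor D (1 : ℤ)).map f = 0
          rw [Category.assoc, hzero, comp_zero])
      obtain ⟨t, ht⟩ := ex₃ (z - u₀ ≫ (a ≫ p₃)) (by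
        rw [Preadditive.sub_comp, Category.assoc u₀, ← hc₃, hu₀, sub_self])
      refine ⟨u₀ + t ≫ g₁, ?_⟩
      show (u₀ + t ≫ g₁) ≫ (a ≫ p₃) = z
      rw [Preadditive.add_comp, Category.assoc t, hc₂, ← ht, add_sub_cancel]
  refine isomorphic_distinguished _ hT₁ _ (Triangle.isoMk (Triangle.mk f g₁ k₁)
    (Triangle.mk f g h) (Iso.refl X) (Iso.refl Y)
    (@asIso _ _ _ _ (a ≫ p₃) hiso) ?_ ?_ ?_).symm
  · show f ≫ 𝟙 Y = 𝟙 X ≫ f
    rw [Category.comp_id, Category.id_comp]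
  · show g₁ ≫ (a ≫ p₃) = 𝟙 Y ≫ g
    rw [hc₂, Category.id_comp]
  · show k₁ ≫ (shiftFunctor D (1 : ℤ)).map (𝟙 X) = (a ≫ p₃) ≫ h
    rw [← hc₃, CategoryTheory.Functor.map_id, Category.comp_id]

open CategoryTheory.Pretriangulated in
lemma sum_aux {X Y Z X' Y' Z' : D} (f : X ⟶ Y) (g : Y ⟶ Z)
    (h : Z ⟶ (shiftFunctor D (1 : ℤ)).obj X) (f' : X' ⟶ Y') (g' : Y' ⟶ Z')
    (h' : Z' ⟶ (shiftFunctor D (1 : ℤ)).obj X')
    (hT : Triangle.mk f g h ∈ distinguishedTriangles)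
    (hT' : Triangle.mk f' g' h' ∈ distinguishedTriangles) :
    Triangle.mk (biprod.map f f') (biprod.map g g')
      (biprod.desc (h ≫ (shiftFunctor D (1 : ℤ)).map biprod.inl)
        (h' ≫ (shiftFunctor D (1 : ℤ)).map biprod.inr)) ∈ distinguishedTriangles := by
  obtain ⟨W, f₂, f₃, hT''⟩ := distinguished_cocone_triangle (biprod.map f f')
  obtain ⟨c, hc₂, hc₃⟩ : ∃ c : Z ⟶ W, g ≫ c = biprod.inl ≫ f₂ ∧
      h ≫ (shiftFunctor D (1 : ℤ)).map biprod.inl = c ≫ f₃ :=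
    complete_distinguished_triangle_morphism _ _ hT hT'' biprod.inl biprod.inl
      (biprod.inl_map f f').symm
  obtain ⟨c', hc₂', hc₃'⟩ : ∃ c' : Z' ⟶ W, g' ≫ c' = biprod.inr ≫ f₂ ∧
      h' ≫ (shiftFunctor D (1 : ℤ)).map biprod.inr = c' ≫ f₃ :=
    complete_distinguished_triangle_morphism _ _ hT' hT'' biprod.inr biprod.inr
      (biprod.inr_map f f').symm
  have c₂ : biprod.map g g' ≫ biprod.desc c c' = f₂ := by
    apply biprod.hom_ext'
    · rw [biprod.inl_map_assoc, biprod.inl_desc, hc₂]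
    · rw [biprod.inr_map_assoc, biprod.inr_desc, hc₂']
  have c₃ : biprod.desc (h ≫ (shiftFunctor D (1 : ℤ)).map biprod.inl)
      (h' ≫ (shiftFunctor D (1 : ℤ)).map biprod.inr) = biprod.desc c c' ≫ f₃ := by
    apply biprod.hom_ext'
    · rw [biprod.inl_desc, biprod.inl_desc_assoc, hc₃]
    · rw [biprod.inr_desc, biprod.inr_desc_assoc, hc₃']
  suffices IsIso (biprod.desc c c') by
    refine isomorphic_distinguished _ hT'' _ (Triangle.isoMk
      (Triangle.mk (biprod.map f f') (biprod.map g g')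
        (biprod.desc (h ≫ (shiftFunctor D (1 : ℤ)).map biprod.inl)
          (h' ≫ (shiftFunctor D (1 : ℤ)).map biprod.inr)))
      (Triangle.mk (biprod.map f f') f₂ f₃) (Iso.refl (X ⊞ X')) (Iso.refl (Y ⊞ Y'))
      (@asIso _ _ _ _ (biprod.desc c c') this) ?_ ?_ ?_)
    · show biprod.map f f' ≫ 𝟙 (Y ⊞ Y') = 𝟙 (X ⊞ X') ≫ biprod.map f f'
      rw [Category.comp_id, Category.id_comp]
    · show biprod.map g g' ≫ biprod.desc c c' = 𝟙 (Y ⊞ Y') ≫ f₂
      rw [c₂, Category.id_comp]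
    · show biprod.desc (h ≫ (shiftFunctor D (1 : ℤ)).map biprod.inl)
        (h' ≫ (shiftFunctor D (1 : ℤ)).map biprod.inr) ≫
          (shiftFunctor D (1 : ℤ)).map (𝟙 (X ⊞ X')) = biprod.desc c c' ≫ f₃
      rw [c₃, CategoryTheory.Functor.map_id, Category.comp_id]
  refine isIso_of_coyoneda_map_bijective _ (fun A => ⟨?_, ?_⟩)
  · suffices Epi (biprod.desc c c') by
      intro a₁ a₂ ha
      simpa only [cancel_epi (biprod.desc c c')] using ha
    rw [Preadditive.epi_iff_cancel_zero]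
    intro A k hk
    have hk' : f₂ ≫ k = 0 := by rw [← c₂, Category.assoc, hk, comp_zero]
    obtain ⟨u, hu⟩ : ∃ u : (shiftFunctor D (1 : ℤ)).obj (X ⊞ X') ⟶ A, k = f₃ ≫ u :=
      Triangle.yoneda_exact₃ _ hT'' k hk'
    have hl : c ≫ k = 0 := by rw [← biprod.inl_desc c c', Category.assoc, hk, comp_zero]
    have hr : c' ≫ k = 0 := by rw [← biprod.inr_desc c c', Category.assoc, hk, comp_zero]
    obtain ⟨α, hα⟩ : ∃ α : (shiftFunctor D (1 : ℤ)).obj Y ⟶ A,
        (shiftFunctor D (1 : ℤ)).map biprod.inl ≫ u = (shiftFunctor D (1 : ℤ)).map f ≫ α := by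
      obtain ⟨α, hα⟩ : ∃ α : (shiftFunctor D (1 : ℤ)).obj Y ⟶ A,
          (shiftFunctor D (1 : ℤ)).map biprod.inl ≫ u = (-(shiftFunctor D (1 : ℤ)).map f) ≫ α :=
        Triangle.yoneda_exact₃ _ (rot_of_distTriang _ hT)
          ((shiftFunctor D (1 : ℤ)).map biprod.inl ≫ u) (by
            show h ≫ (shiftFunctor D (1 : ℤ)).map biprod.inl ≫ u = 0
            rw [reassoc_of% hc₃, ← hu, hl])
      exact ⟨-α, by rw [hα]; simp⟩
    obtain ⟨α', hα'⟩ : ∃ α' : (shiftFunctor D (1 : ℤ)).obj Y' ⟶ A,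
        (shiftFunctor D (1 : ℤ)).map biprod.inr ≫ u = (shiftFunctor D (1 : ℤ)).map f' ≫ α' := by
      obtain ⟨α, hα⟩ : ∃ α : (shiftFunctor D (1 : ℤ)).obj Y' ⟶ A,
          (shiftFunctor D (1 : ℤ)).map biprod.inr ≫ u = (-(shiftFunctor D (1 : ℤ)).map f') ≫ α :=
        Triangle.yoneda_exact₃ _ (rot_of_distTriang _ hT')
          ((shiftFunctor D (1 : ℤ)).map biprod.inr ≫ u) (by
            show h' ≫ (shiftFunctor D (1 : ℤ)).map biprod.inr ≫ u = 0
            rw [reassoc_of% hc₃', ← hu, hr])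
      exact ⟨-α, by rw [hα]; simp⟩
    have hu3 : u = (shiftFunctor D (1 : ℤ)).map (biprod.map f f') ≫
        ((shiftFunctor D (1 : ℤ)).map biprod.fst ≫ α +
          (shiftFunctor D (1 : ℤ)).map biprod.snd ≫ α') := by
      apply sh_hom_ext
      · rw [← Functor.map_comp_assoc, biprod.inl_map, Functor.map_comp_assoc, sh_inl_dd, hα]
      · rw [← Functor.map_comp_assoc, biprod.inr_map, Functor.map_comp_assoc, sh_inr_dd, hα']
    have z : f₃ ≫ (shiftFunctor D (1 : ℤ)).map (biprod.map f f') = 0 :=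
      comp_distTriang_mor_zero₃₁ _ hT''
    rw [hu, hu3, reassoc_of% z, zero_comp]
  · intro a
    have zero : biprod.map f f' ≫ biprod.map g g' = 0 := by
      have e : f ≫ g = 0 := comp_distTriang_mor_zero₁₂ _ hT
      have e' : f' ≫ g' = 0 := comp_distTriang_mor_zero₁₂ _ hT'
      apply biprod.hom_ext'
      · rw [biprod.inl_map_assoc, biprod.inl_map, reassoc_of% e, zero_comp, comp_zero]
      · rw [biprod.inr_map_assoc, biprod.inr_map, reassoc_of% e', zero_comp, comp_zero]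
    obtain ⟨a', ha'⟩ : ∃ a' : W ⟶ A, biprod.map g g' ≫ a = f₂ ≫ a' :=
      Triangle.yoneda_exact₂ _ hT'' (biprod.map g g' ≫ a) (by
        show biprod.map f f' ≫ biprod.map g g' ≫ a = 0
        rw [reassoc_of% zero, zero_comp])
    obtain ⟨b, hb⟩ : ∃ b : (shiftFunctor D (1 : ℤ)).obj X ⟶ A,
        biprod.inl ≫ (a - biprod.desc c c' ≫ a') = h ≫ b :=
      Triangle.yoneda_exact₃ _ hT _ (by
        show g ≫ biprod.inl ≫ (a - biprod.desc c c' ≫ a') = 0
        rw [Preadditive.comp_sub, Preadditive.comp_sub, biprod.inl_desc_assoc,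
          reassoc_of% hc₂, ← ha', biprod.inl_map_assoc, sub_self])
    obtain ⟨b', hb'⟩ : ∃ b' : (shiftFunctor D (1 : ℤ)).obj X' ⟶ A,
        biprod.inr ≫ (a - biprod.desc c c' ≫ a') = h' ≫ b' :=
      Triangle.yoneda_exact₃ _ hT' _ (by
        show g' ≫ biprod.inr ≫ (a - biprod.desc c c' ≫ a') = 0
        rw [Preadditive.comp_sub, Preadditive.comp_sub, biprod.inr_desc_assoc,
          reassoc_of% hc₂', ← ha', biprod.inr_map_assoc, sub_self])
    have hbb : a - biprod.desc c c' ≫ a' =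
        biprod.desc (h ≫ (shiftFunctor D (1 : ℤ)).map biprod.inl)
          (h' ≫ (shiftFunctor D (1 : ℤ)).map biprod.inr) ≫
        ((shiftFunctor D (1 : ℤ)).map biprod.fst ≫ b +
          (shiftFunctor D (1 : ℤ)).map biprod.snd ≫ b') := by
      apply biprod.hom_ext'
      · rw [hb, biprod.inl_desc_assoc, Category.assoc, sh_inl_dd]
      · rw [hb', biprod.inr_desc_assoc, Category.assoc, sh_inr_dd]
    refine ⟨a' + f₃ ≫ ((shiftFunctor D (1 : ℤ)).map biprod.fst ≫ b +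
          (shiftFunctor D (1 : ℤ)).map biprod.snd ≫ b'), ?_⟩
    show biprod.desc c c' ≫ (a' + f₃ ≫ ((shiftFunctor D (1 : ℤ)).map biprod.fst ≫ b +
          (shiftFunctor D (1 : ℤ)).map biprod.snd ≫ b')) = a
    rw [Preadditive.comp_add, ← Category.assoc (biprod.desc c c') f₃, ← c₃, ← hbb, add_sub_cancel]

end helpers


open CategoryTheory.Pretriangulated in
/-- Let T = (X, Y, Z, f, g, h) and T' = (X', Y', Z', f', g', h') be triangles in a pretriangulated
category. The direct sum triangle (X ⊞ X', Y ⊞ Y', Z ⊞ Z', f ⊕ f', g ⊕ g', h ⊕ h') (whose third map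
Z ⊞ Z' ⟶ (X ⊞ X')⟦1⟧ has components h ≫ inl⟦1⟧ and h' ≫ inr⟦1⟧) is distinguished if and only if T
and T' are both distinguished. -/
theorem result {D : Type u} [Category.{v} D] [Preadditive D] [HasZeroObject D] [HasShift D ℤ]
    [∀ n : ℤ, (shiftFunctor D n).Additive] [Pretriangulated D]
    (T T' : Triangle D) :
    Triangle.mk (biprod.map T.mor₁ T'.mor₁) (biprod.map T.mor₂ T'.mor₂)
        (biprod.desc (T.mor₃ ≫ (shiftFunctor D (1 : ℤ)).map biprod.inl) (T'.mor₃ ≫ (shiftFunctor D (1 : ℤ)).map biprod.inr)) ∈ distinguishedTriangles ↔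
      (T ∈ distinguishedTriangles ∧ T' ∈ distinguishedTriangles) := by
  constructor
  · intro hS
    constructor
    · refine retract_aux T.mor₁ T.mor₂ T.mor₃ _ _ _ hS biprod.inl biprod.inl biprod.inl
        biprod.fst biprod.fst biprod.fst (biprod.inl_map _ _).symm (biprod.inl_map _ _).symm
        (biprod.inl_desc _ _).symm (biprod.map_fst _ _) (biprod.map_fst _ _) ?_
        biprod.inl_fst biprod.inl_fst biprod.inl_fst
      apply biprod.hom_ext'
      · rw [biprod.inl_desc_assoc, Category.assoc, ← Functor.map_comp, biprod.inl_fst,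
          CategoryTheory.Functor.map_id, Category.comp_id, biprod.inl_fst_assoc]
      · rw [biprod.inr_desc_assoc, Category.assoc, ← Functor.map_comp, biprod.inr_fst,
          Functor.map_zero, comp_zero, biprod.inr_fst_assoc, zero_comp]
    · refine retract_aux T'.mor₁ T'.mor₂ T'.mor₃ _ _ _ hS biprod.inr biprod.inr biprod.inr
        biprod.snd biprod.snd biprod.snd (biprod.inr_map _ _).symm (biprod.inr_map _ _).symm
        (biprod.inr_desc _ _).symm (biprod.map_snd _ _) (biprod.map_snd _ _) ?_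
        biprod.inr_snd biprod.inr_snd biprod.inr_snd
      apply biprod.hom_ext'
      · rw [biprod.inl_desc_assoc, Category.assoc, ← Functor.map_comp, biprod.inl_snd,
          Functor.map_zero, comp_zero, biprod.inl_snd_assoc, zero_comp]
      · rw [biprod.inr_desc_assoc, Category.assoc, ← Functor.map_comp, biprod.inr_snd,
          CategoryTheory.Functor.map_id, Category.comp_id, biprod.inr_snd_assoc]
  · rintro ⟨hT, hT'⟩
    exact sum_aux _ _ _ _ _ _ hT hT'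

end Groth.Agent.S6581
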