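import Groth.Statements.S6585
import Mathlib.CategoryTheory.Triangulated.Orthogonal

set_option autoImplicit false
universe v u
open CohDer

namespace Groth.Agent.S6585

open CategoryTheory CategoryTheory.Limits CategoryTheory.Pretriangulated

theorem isStableUnderRetracts_leftOrthogonal {D : Type u} [Category.{v} D] [HasZeroMorphisms D]
    (P : ObjectProperty D) : P.leftOrthogonal.IsStableUnderRetracts where
  of_retract {X Y} r hY := by
    intro Z f hZ
    have : f = r.i ≫ (r.r ≫ f) := by rw [← Category.assoc, r.retract, Category.id_comp]
    rw [this, hY (r.r ≫ f) hZ, comp_zero]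

theorem result {D : Type u} [Category.{v} D] [Preadditive D] [HasZeroObject D] [HasShift D ℤ]
    [∀ n : ℤ, (shiftFunctor D n).Additive] [Pretriangulated D] [IsTriangulated D]
    (E K : D) :
    (∀ (i : ℤ) (f : E ⟶ (shiftFunctor D i).obj K), f = 0) ↔
      ∀ (E' : D), (ObjectProperty.singleton E).triangEnvelope E' → ∀ f : E' ⟶ K, f = 0 := by
  let PK : ObjectProperty D := (ObjectProperty.singleton K).shiftClosure ℤ
  have hQr : PK.leftOrthogonal.IsStableUnderRetracts := isStableUnderRetracts_leftOrthogonal PK
  constructor
  · intro h
    have hle : ObjectProperty.singleton E ≤ PK.leftOrthogonal := by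
      rw [ObjectProperty.singleton_le_iff]
      rintro Z f ⟨Y, a, e, hY⟩
      rw [ObjectProperty.singleton_iff] at hY
      subst hY
      rw [← cancel_mono e.hom, zero_comp]
      exact h a _
    have hle' := (ObjectProperty.triangEnvelope_le_iff (P := ObjectProperty.singleton E)
      (Q := PK.leftOrthogonal)).mpr hle
    intro E' hE' f
    refine hle' E' hE' f ?_
    exact ObjectProperty.le_shiftClosure _ _ ((ObjectProperty.singleton_iff K K).mpr rfl)
  · intro h i f
    have hE : (ObjectProperty.singleton E).triangEnvelope E :=
      ObjectProperty.le_triangEnvelope _ _ ((ObjectProperty.singleton_iff E E).mpr rfl)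
    have hE' : (ObjectProperty.singleton E).triangEnvelope ((shiftFunctor D (-i)).obj E) :=
      (ObjectProperty.singleton E).triangEnvelope.le_shift (-i) _ hE
    have h1 := h _ hE' ((shiftFunctor D (-i)).map f ≫
      (shiftFunctorCompIsoId D i (-i) (by simp)).hom.app K)
    have h2 : (shiftFunctor D (-i)).map f = 0 := by
      rw [← cancel_mono ((shiftFunctorCompIsoId D i (-i) (by simp)).hom.app K), zero_comp]
      exact h1
    apply (shiftFunctor D (-i)).map_injective
    rw [h2, Functor.map_zero]
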