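import Groth.Statements.S6587
import Mathlib.CategoryTheory.Triangulated.Pretriangulated
-- import your own Groth.Agent.* helpers here

set_option autoImplicit false
universe v u
open CategoryTheory CategoryTheory.Limits Opposite
open CohDer

namespace Groth.Agent.S6587

open CategoryTheory.Pretriangulated in
/-- Let D be a triangulated category and let X_n → Y_n → Z_n → X_n⟦1⟧ be an inverse system of
distinguished triangles of D indexed by ℕ (levelwise maps f, g, h of inverse systems, each level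
distinguished). If the inverse system (Z_n) is pro-zero, then the levelwise map f : (X_n) → (Y_n) is
a pro-isomorphism. -/
theorem result {D : Type u} [Category.{v} D] [Preadditive D] [HasZeroObject D] [HasShift D ℤ]
    [∀ n : ℤ, (shiftFunctor D n).Additive] [Pretriangulated D] [IsTriangulated D]
    (X Y Z : ARSys.PS D) (f : X ⟶ Y) (g : Y ⟶ Z) (h : Z ⟶ X ⋙ shiftFunctor D (1 : ℤ))
    (hT : ∀ n : ℕ, Triangle.mk (f.app (op n)) (g.app (op n)) (h.app (op n)) ∈ distinguishedTriangles)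
    (hZ : DerCA.IsProZero Z) :
    DerCA.IsProIso f := by
  intro n
  obtain ⟨m₁, h₁, hz₁⟩ := hZ n
  obtain ⟨m, h₂, hz₂⟩ := hZ m₁
  have htrX : ARSys.tr X (h₁.trans h₂) = ARSys.tr X h₂ ≫ ARSys.tr X h₁ := by
    dsimp only [ARSys.tr]
    rw [← X.map_comp]
    congr 1
  have htrY : ARSys.tr Y (h₁.trans h₂) = ARSys.tr Y h₂ ≫ ARSys.tr Y h₁ := by
    dsimp only [ARSys.tr]
    rw [← Y.map_comp]
    congr 1
  have nf₁ : ARSys.tr X h₁ ≫ f.app (op n) = f.app (op m₁) ≫ ARSys.tr Y h₁ :=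
    f.naturality (homOfLE h₁).op
  have nf₂ : ARSys.tr X h₂ ≫ f.app (op m₁) = f.app (op m) ≫ ARSys.tr Y h₂ :=
    f.naturality (homOfLE h₂).op
  have ng₂ : ARSys.tr Y h₂ ≫ g.app (op m₁) = g.app (op m) ≫ ARSys.tr Z h₂ :=
    g.naturality (homOfLE h₂).op
  have nh₁ : ARSys.tr Z h₁ ≫ h.app (op n) =
      h.app (op m₁) ≫ (shiftFunctor D (1 : ℤ)).map (ARSys.tr X h₁) :=
    h.naturality (homOfLE h₁).op
  have e1 : ARSys.tr Y h₂ ≫ g.app (op m₁) = 0 := by
    rw [ng₂, hz₂, comp_zero]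
  obtain ⟨b₁, hb₁⟩ : ∃ b₁ : Y.obj (op m) ⟶ X.obj (op m₁), ARSys.tr Y h₂ = b₁ ≫ f.app (op m₁) :=
    Triangle.coyoneda_exact₂ _ (hT m₁) (ARSys.tr Y h₂) e1
  refine ⟨m, h₁.trans h₂, b₁ ≫ ARSys.tr X h₁, ?_, ?_⟩
  · rw [htrX, ← sub_eq_zero, ← Category.assoc, ← Preadditive.sub_comp]
    apply (shiftFunctor D (1 : ℤ)).map_injective
    rw [Functor.map_zero, Functor.map_comp]
    have hd : (f.app (op m) ≫ b₁ - ARSys.tr X h₂) ≫ f.app (op m₁) = 0 := by
      rw [Preadditive.sub_comp, Category.assoc, ← hb₁, nf₂, sub_self]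
    obtain ⟨v, hv⟩ : ∃ v : (shiftFunctor D (1 : ℤ)).obj (X.obj (op m)) ⟶ Z.obj (op m₁),
        (shiftFunctor D (1 : ℤ)).map (f.app (op m) ≫ b₁ - ARSys.tr X h₂) = v ≫ h.app (op m₁) :=
      Triangle.coyoneda_exact₃ _ (rot_of_distTriang _ (hT m₁))
        ((shiftFunctor D (1 : ℤ)).map (f.app (op m) ≫ b₁ - ARSys.tr X h₂)) (by
          show (shiftFunctor D (1 : ℤ)).map (f.app (op m) ≫ b₁ - ARSys.tr X h₂) ≫
            (-(shiftFunctor D (1 : ℤ)).map (f.app (op m₁))) = 0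
          rw [Preadditive.comp_neg, ← Functor.map_comp, hd, Functor.map_zero, neg_zero])
    rw [hv, Category.assoc, ← nh₁, hz₁, zero_comp, comp_zero]
  · rw [Category.assoc, nf₁, ← Category.assoc, ← hb₁, htrY]

end Groth.Agent.S6587
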