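import Groth.Statements.S6588
import Groth.Agent.Lib.Helper6.EssConst5

set_option autoImplicit false
universe w v u
open CategoryTheory CategoryTheory.Limits Opposite
open CohDer

namespace Groth.Agent.S6588

/-- Let A be an abelian category and let (X_n) → (Y_n) be an ℕ-indexed inverse system of maps of D(A).
Assume (1) there are a ≤ b with Hⁱ(X_n) = 0 and Hⁱ(Y_n) = 0 for all n and all i outside [a, b], and
(2) for every i the maps Hⁱ(X_n) → Hⁱ(Y_n) form a pro-isomorphism of inverse systems of A. Then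
(X_n) → (Y_n) is a pro-isomorphism of inverse systems of D(A). -/
theorem result {A : Type u} [Category.{v} A] [Abelian A] [HasDerivedCategory.{w} A]
    (X Y : ARSys.PS (DerivedCategory A)) (f : X ⟶ Y) (a b : ℤ) (hab : a ≤ b)
    (hX : ∀ (n : ℕ) (i : ℤ), i < a ∨ b < i → IsZero ((DerivedCategory.homologyFunctor A i).obj (X.obj (op n))))
    (hY : ∀ (n : ℕ) (i : ℤ), i < a ∨ b < i → IsZero ((DerivedCategory.homologyFunctor A i).obj (Y.obj (op n))))
    (hH : ∀ i : ℤ, DerCA.IsProIso (Functor.whiskerRight f (DerivedCategory.homologyFunctor A i))) :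
    DerCA.IsProIso f := by
  have hgeX : ∀ n, (X.obj (op n)).IsGE a :=
    fun n => (DerivedCategory.isGE_iff _ _).2 (fun i hi => hX n i (Or.inl hi))
  have hleX : ∀ n, (X.obj (op n)).IsLE b :=
    fun n => (DerivedCategory.isLE_iff _ _).2 (fun i hi => hX n i (Or.inr hi))
  have hgeY : ∀ n, (Y.obj (op n)).IsGE a :=
    fun n => (DerivedCategory.isGE_iff _ _).2 (fun i hi => hY n i (Or.inl hi))
  have hleY : ∀ n, (Y.obj (op n)).IsLE b :=
    fun n => (DerivedCategory.isLE_iff _ _).2 (fun i hi => hY n i (Or.inr hi))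
  have hk : a + ((b - a + 1).toNat : ℤ) - 1 = b := by
    rw [Int.toNat_of_nonneg (by omega)]
    ring
  have hleX' : ∀ n, (X.obj (op n)).IsLE (a + ((b - a + 1).toNat : ℤ) - 1) := by
    intro n
    rw [hk]
    exact hleX n
  have hleY' : ∀ n, (Y.obj (op n)).IsLE (a + ((b - a + 1).toNat : ℤ) - 1) := by
    intro n
    rw [hk]
    exact hleY n
  exact Groth.Agent.Helper6.EssConst.pi_of_bounded (b - a + 1).toNat a X Y f hgeX hleX' hgeY hleY'
    (fun i => hH i)

end Groth.Agent.S6588
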