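import Groth.Statements.S6592
import Mathlib.Algebra.BigOperators.Intervals

set_option autoImplicit false
universe v u
open CategoryTheory CategoryTheory.Limits
open DerLim

namespace Groth.Agent.S6592

open CategoryTheory.Pretriangulated

section Tri
variable {D : Type u} [Category.{v} D] [Preadditive D] [HasZeroObject D] [HasShift D ℤ]
    [∀ n : ℤ, (shiftFunctor D n).Additive] [Pretriangulated D]

lemma sq_zero_of_comp (T : Triangle D) (hT : T ∈ distTriang D) (w : T.obj₃ ⟶ T.obj₃)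
    (h1 : T.mor₂ ≫ w = 0) (h2 : w ≫ T.mor₃ = 0) : w ≫ w = 0 := by
  obtain ⟨t, ht⟩ := Triangle.yoneda_exact₃ T hT w h1
  have h3 : w ≫ w = (w ≫ T.mor₃) ≫ t := by rw [Category.assoc, ← ht]
  rw [h3, h2, zero_comp]

lemma isIso_of_homotopyEquiv (T₁ T₂ : Triangle D) (hT₁ : T₁ ∈ distTriang D)
    (hT₂ : T₂ ∈ distTriang D)
    (a : T₁.obj₁ ⟶ T₂.obj₁) (b : T₁.obj₂ ⟶ T₂.obj₂) (c : T₁.obj₃ ⟶ T₂.obj₃)
    (comm₂ : T₁.mor₂ ≫ c = b ≫ T₂.mor₂)
    (comm₃ : T₁.mor₃ ≫ a⟦(1 : ℤ)⟧' = c ≫ T₂.mor₃)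
    (p : T₂.obj₁ ⟶ T₁.obj₁) (q : T₂.obj₂ ⟶ T₁.obj₂) (comm' : T₂.mor₁ ≫ q = p ≫ T₁.mor₁)
    (h₁ : T₁.obj₂ ⟶ T₁.obj₁) (h₂ : T₂.obj₂ ⟶ T₂.obj₁)
    (hap : a ≫ p = 𝟙 _ + T₁.mor₁ ≫ h₁) (hbq : b ≫ q = 𝟙 _ + h₁ ≫ T₁.mor₁)
    (hpa : p ≫ a = 𝟙 _ + T₂.mor₁ ≫ h₂) (hqb : q ≫ b = 𝟙 _ + h₂ ≫ T₂.mor₁) : IsIso c := by
  obtain ⟨r, hr₁, hr₂⟩ := complete_distinguished_triangle_morphism T₂ T₁ hT₂ hT₁ p q comm'
  have e1 : T₁.mor₂ ≫ (c ≫ r - 𝟙 _) = 0 := by
    have : T₁.mor₂ ≫ c ≫ r = (b ≫ q) ≫ T₁.mor₂ := by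
      rw [← Category.assoc, comm₂, Category.assoc, hr₁, Category.assoc]
    rw [Preadditive.comp_sub, Category.comp_id, this, hbq, Preadditive.add_comp,
      Category.id_comp, Category.assoc, comp_distTriang_mor_zero₁₂ T₁ hT₁, comp_zero, add_zero,
      sub_self]
  have e2 : (c ≫ r - 𝟙 _) ≫ T₁.mor₃ = 0 := by
    have : (c ≫ r) ≫ T₁.mor₃ = T₁.mor₃ ≫ (a ≫ p)⟦(1 : ℤ)⟧' := by
      rw [Category.assoc, ← hr₂, ← Category.assoc, ← comm₃, Category.assoc, ← CategoryTheory.Functor.map_comp]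
    rw [Preadditive.sub_comp, Category.id_comp, this, hap, CategoryTheory.Functor.map_add, CategoryTheory.Functor.map_id,
      Preadditive.comp_add, Category.comp_id, CategoryTheory.Functor.map_comp, ← Category.assoc,
      comp_distTriang_mor_zero₃₁ T₁ hT₁, zero_comp, add_zero, sub_self]
  have e3 : T₂.mor₂ ≫ (r ≫ c - 𝟙 _) = 0 := by
    have : T₂.mor₂ ≫ r ≫ c = (q ≫ b) ≫ T₂.mor₂ := by
      rw [← Category.assoc, hr₁, Category.assoc, comm₂, Category.assoc]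
    rw [Preadditive.comp_sub, Category.comp_id, this, hqb, Preadditive.add_comp,
      Category.id_comp, Category.assoc, comp_distTriang_mor_zero₁₂ T₂ hT₂, comp_zero, add_zero,
      sub_self]
  have e4 : (r ≫ c - 𝟙 _) ≫ T₂.mor₃ = 0 := by
    have : (r ≫ c) ≫ T₂.mor₃ = T₂.mor₃ ≫ (p ≫ a)⟦(1 : ℤ)⟧' := by
      rw [Category.assoc, ← comm₃, ← Category.assoc, ← hr₂, Category.assoc, ← CategoryTheory.Functor.map_comp]
    rw [Preadditive.sub_comp, Category.id_comp, this, hpa, CategoryTheory.Functor.map_add, CategoryTheory.Functor.map_id,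
      Preadditive.comp_add, Category.comp_id, CategoryTheory.Functor.map_comp, ← Category.assoc,
      comp_distTriang_mor_zero₃₁ T₂ hT₂, zero_comp, add_zero, sub_self]
  have s1 := sq_zero_of_comp T₁ hT₁ _ e1 e2
  have s2 := sq_zero_of_comp T₂ hT₂ _ e3 e4
  obtain ⟨w₁, hw₁⟩ : ∃ w, w = c ≫ r - 𝟙 _ := ⟨_, rfl⟩
  obtain ⟨w₂, hw₂⟩ : ∃ w, w = r ≫ c - 𝟙 _ := ⟨_, rfl⟩
  rw [← hw₁] at s1
  rw [← hw₂] at s2
  have hcr : c ≫ r = 𝟙 _ + w₁ := by rw [hw₁]; abel
  have hrc : r ≫ c = 𝟙 _ + w₂ := by rw [hw₂]; abel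
  have hR : c ≫ (r ≫ (𝟙 _ - w₁)) = 𝟙 _ := by
    rw [← Category.assoc, hcr]
    simp only [Preadditive.add_comp, Preadditive.comp_sub, Category.comp_id, Category.id_comp, s1]
    abel
  have hL : ((𝟙 _ - w₂) ≫ r) ≫ c = 𝟙 _ := by
    rw [Category.assoc, hrc]
    simp only [Preadditive.sub_comp, Preadditive.comp_add, Category.comp_id, Category.id_comp, s2]
    abel
  have hRL : r ≫ (𝟙 _ - w₁) = (𝟙 _ - w₂) ≫ r := by
    calc r ≫ (𝟙 _ - w₁) = (((𝟙 _ - w₂) ≫ r) ≫ c) ≫ (r ≫ (𝟙 _ - w₁)) := by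
          rw [hL, Category.id_comp]
      _ = ((𝟙 _ - w₂) ≫ r) ≫ (c ≫ (r ≫ (𝟙 _ - w₁))) := by simp only [Category.assoc]
      _ = (𝟙 _ - w₂) ≫ r := by rw [hR, Category.comp_id]
  exact ⟨⟨r ≫ (𝟙 _ - w₁), hR, by rw [hRL]; exact hL⟩⟩

end Tri

section Idx
variable (n : ℕ → ℕ)

/-- least index `i` with `m ≤ n i`. -/
noncomputable def idx (m : ℕ) : ℕ := sInf {i | m ≤ n i}

variable {n}

lemma idx_le {m i : ℕ} (h : m ≤ n i) : idx n m ≤ i := Nat.sInf_le h

variable (hn : StrictMono n)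
include hn

lemma le_idx (m : ℕ) : m ≤ n (idx n m) :=
  Nat.sInf_mem (s := {i | m ≤ n i}) ⟨m, hn.le_apply⟩

lemma idx_n (i : ℕ) : idx n (n i) = i :=
  le_antisymm (idx_le le_rfl) (hn.le_iff_le.1 (le_idx hn (n i)))

lemma idx_succ_of_lt {m : ℕ} (h : m < n (idx n m)) : idx n (m + 1) = idx n m :=
  le_antisymm (idx_le h) (idx_le ((Nat.le_add_right m 1).trans (le_idx hn (m + 1))))

lemma idx_succ_n (i : ℕ) : idx n (n i + 1) = i + 1 := by
  apply le_antisymm (idx_le (hn (Nat.lt_add_one i)))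
  by_contra hlt
  push Not at hlt
  have h1 : idx n (n i + 1) ≤ i := Nat.lt_succ_iff.1 hlt
  have h2 := le_idx hn (n i + 1)
  have h3 := hn.monotone h1
  omega

end Idx

section Main
variable {D : Type u} [Category.{v} D] [Preadditive D] (F : ℕ ⥤ D)

/-- total transition maps -/
noncomputable def tr (m l : ℕ) : F.obj m ⟶ F.obj l :=
  if h : m ≤ l then F.map (homOfLE h) else 0

lemma tr_of_le {m l : ℕ} (h : m ≤ l) : tr F m l = F.map (homOfLE h) := dif_pos h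

lemma tr_self (m : ℕ) : tr F m m = 𝟙 _ := by
  rw [tr_of_le F le_rfl, show homOfLE (le_refl m) = 𝟙 m from Subsingleton.elim _ _, F.map_id]

lemma tr_comp {m l k : ℕ} (h₁ : m ≤ l) (h₂ : l ≤ k) : tr F m l ≫ tr F l k = tr F m k := by
  rw [tr_of_le F h₁, tr_of_le F h₂, tr_of_le F (h₁.trans h₂), ← F.map_comp]
  exact congrArg (fun x => F.map x) (Subsingleton.elim _ _)

variable (n : ℕ → ℕ)
variable [HasCoproduct (fun m : ℕ => F.obj m)] [HasCoproduct (fun i : ℕ => F.obj (n i))]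

noncomputable def u (m l : ℕ) : F.obj m ⟶ ∐ (fun m : ℕ => F.obj m) :=
  tr F m l ≫ Sigma.ι (fun m : ℕ => F.obj m) l

noncomputable def u' (m i : ℕ) : F.obj m ⟶ ∐ (fun i : ℕ => F.obj (n i)) :=
  tr F m (n i) ≫ Sigma.ι (fun i : ℕ => F.obj (n i)) i

omit [HasCoproduct (fun i : ℕ => F.obj (n i))] in
lemma u_self (m : ℕ) : u F m m = Sigma.ι (fun m : ℕ => F.obj m) m := by
  unfold u
  rw [tr_self]
  exact Category.id_comp _

omit [HasCoproduct (fun m : ℕ => F.obj m)] in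
lemma u'_self (i : ℕ) : u' F n (n i) i = Sigma.ι (fun i : ℕ => F.obj (n i)) i := by
  unfold u'
  rw [tr_self]
  exact Category.id_comp _

omit [HasCoproduct (fun i : ℕ => F.obj (n i))] in
lemma tr_u {m l k : ℕ} (h₁ : m ≤ l) (h₂ : l ≤ k) : tr F m l ≫ u F l k = u F m k := by
  unfold u
  rw [← Category.assoc, tr_comp F h₁ h₂]

omit [HasCoproduct (fun m : ℕ => F.obj m)] in
lemma tr_u' {m l i : ℕ} (h₁ : m ≤ l) (h₂ : l ≤ n i) : tr F m l ≫ u' F n l i = u' F n m i := by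
  unfold u'
  rw [← Category.assoc, tr_comp F h₁ h₂]

omit [HasCoproduct (fun i : ℕ => F.obj (n i))] in
lemma ι_shift (m : ℕ) : Sigma.ι (fun m : ℕ => F.obj m) m ≫
    DerLim.shiftMap (fun m : ℕ => F.obj m) (fun m => F.map (homOfLE (Nat.le_succ m))) =
      u F m (m + 1) := by
  have h1 : u F m (m + 1) =
      F.map (homOfLE (Nat.le_succ m)) ≫ Sigma.ι (fun m : ℕ => F.obj m) (m + 1) := by
    unfold u
    rw [tr_of_le F (Nat.le_add_right m 1)]
  rw [h1]
  unfold DerLim.shiftMap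
  exact Sigma.ι_desc _ _

omit [HasCoproduct (fun i : ℕ => F.obj (n i))] in
lemma u_shift {m l : ℕ} (h : m ≤ l) : u F m l ≫
    DerLim.shiftMap (fun m : ℕ => F.obj m) (fun m => F.map (homOfLE (Nat.le_succ m))) =
      u F m (l + 1) := by
  have : u F m l = tr F m l ≫ Sigma.ι (fun m : ℕ => F.obj m) l := rfl
  rw [this, Category.assoc, ι_shift, tr_u F h (Nat.le_add_right l 1)]

omit [HasCoproduct (fun i : ℕ => F.obj (n i))] in
lemma u_dS {m l : ℕ} (h : m ≤ l) : u F m l ≫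
    (𝟙 _ - DerLim.shiftMap (fun m : ℕ => F.obj m) (fun m => F.map (homOfLE (Nat.le_succ m)))) =
      u F m l - u F m (l + 1) := by
  rw [Preadditive.comp_sub, Category.comp_id, u_shift F h]

omit [HasCoproduct (fun i : ℕ => F.obj (n i))] in
lemma tele {m N : ℕ} (h : m ≤ N) :
    ∑ l ∈ Finset.Ico m N, (u F m l - u F m (l + 1)) = u F m m - u F m N := by
  induction N, h using Nat.le_induction with
  | base => simp
  | succ N hN ih => rw [Finset.sum_Ico_succ_top hN, ih]; abel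

omit [HasCoproduct (fun i : ℕ => F.obj (n i))] in
lemma tele_dS {m N : ℕ} (h : m ≤ N) :
    ∑ l ∈ Finset.Ico m N, u F m l ≫
      (𝟙 _ - DerLim.shiftMap (fun m : ℕ => F.obj m) (fun m => F.map (homOfLE (Nat.le_succ m)))) =
      u F m m - u F m N := by
  rw [← tele F h]
  refine Finset.sum_congr rfl (fun l hl => ?_)
  exact u_dS F (Finset.mem_Ico.1 hl).1

variable {n} (hn : StrictMono n)

omit [HasCoproduct (fun m : ℕ => F.obj m)] in
lemma ι_shift' (i : ℕ) : Sigma.ι (fun i : ℕ => F.obj (n i)) i ≫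
    DerLim.shiftMap (fun i : ℕ => F.obj (n i))
      (fun i => F.map (homOfLE (hn.monotone (Nat.le_succ i)))) = u' F n (n i) (i + 1) := by
  have h1 : u' F n (n i) (i + 1) = F.map (homOfLE (hn.monotone (Nat.le_succ i))) ≫
      Sigma.ι (fun i : ℕ => F.obj (n i)) (i + 1) := by
    unfold u'
    rw [tr_of_le F (hn.monotone (Nat.le_add_right i 1))]
  rw [h1]
  unfold DerLim.shiftMap
  exact Sigma.ι_desc _ _

omit [HasCoproduct (fun m : ℕ => F.obj m)] in
lemma u'_dS' {m i : ℕ} (h : m ≤ n i) : u' F n m i ≫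
    (𝟙 _ - DerLim.shiftMap (fun i : ℕ => F.obj (n i))
      (fun i => F.map (homOfLE (hn.monotone (Nat.le_succ i))))) =
      u' F n m i - u' F n m (i + 1) := by
  have : u' F n m i = tr F m (n i) ≫ Sigma.ι (fun i : ℕ => F.obj (n i)) i := rfl
  rw [Preadditive.comp_sub, Category.comp_id]
  congr 1
  rw [this, Category.assoc, ι_shift' F hn, tr_u' F n h (hn.monotone (Nat.le_add_right i 1))]

variable (n)

noncomputable def bMap : (∐ fun i : ℕ => F.obj (n i)) ⟶ ∐ fun m : ℕ => F.obj m :=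
  Sigma.desc (fun i => u F (n i) (n i))

noncomputable def aMap : (∐ fun i : ℕ => F.obj (n i)) ⟶ ∐ fun m : ℕ => F.obj m :=
  Sigma.desc (fun i => ∑ l ∈ Finset.Ico (n i) (n (i + 1)), u F (n i) l)

noncomputable def qMap : (∐ fun m : ℕ => F.obj m) ⟶ ∐ fun i : ℕ => F.obj (n i) :=
  Sigma.desc (fun m => u' F n m (idx n m))

noncomputable def pMap : (∐ fun m : ℕ => F.obj m) ⟶ ∐ fun i : ℕ => F.obj (n i) :=
  Sigma.desc (fun m => if m = n (idx n m) then u' F n m (idx n m) else 0)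

noncomputable def hMap : (∐ fun m : ℕ => F.obj m) ⟶ ∐ fun m : ℕ => F.obj m :=
  Sigma.desc (fun m => - ∑ l ∈ Finset.Ico m (n (idx n m)), u F m l)

lemma u'_b {m i : ℕ} (h : m ≤ n i) : u' F n m i ≫ bMap F n = u F m (n i) := by
  have : u' F n m i = tr F m (n i) ≫ Sigma.ι (fun i : ℕ => F.obj (n i)) i := rfl
  rw [this, Category.assoc]
  unfold bMap
  rw [Sigma.ι_desc, tr_u F h le_rfl]

lemma u'_a {m i : ℕ} (h : m ≤ n i) :
    u' F n m i ≫ aMap F n = ∑ l ∈ Finset.Ico (n i) (n (i + 1)), u F m l := by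
  have : u' F n m i = tr F m (n i) ≫ Sigma.ι (fun i : ℕ => F.obj (n i)) i := rfl
  rw [this, Category.assoc]
  unfold aMap
  rw [Sigma.ι_desc, Preadditive.comp_sum]
  refine Finset.sum_congr rfl (fun l hl => ?_)
  exact tr_u F h (Finset.mem_Ico.1 hl).1

lemma u_p_neg {m l : ℕ} (hl : l ≠ n (idx n l)) : u F m l ≫ pMap F n = 0 := by
  have : u F m l = tr F m l ≫ Sigma.ι (fun m : ℕ => F.obj m) l := rfl
  rw [this, Category.assoc]
  unfold pMap
  rw [Sigma.ι_desc, if_neg hl, comp_zero]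

lemma u_h {m l : ℕ} (h : m ≤ l) :
    u F m l ≫ hMap F n = - ∑ k ∈ Finset.Ico l (n (idx n l)), u F m k := by
  have : u F m l = tr F m l ≫ Sigma.ι (fun m : ℕ => F.obj m) l := rfl
  rw [this, Category.assoc]
  unfold hMap
  rw [Sigma.ι_desc, Preadditive.comp_neg, Preadditive.comp_sum]
  congr 1
  refine Finset.sum_congr rfl (fun k hk => ?_)
  exact tr_u F h (Finset.mem_Ico.1 hk).1

variable {n}
include hn

lemma u_q {m l : ℕ} (h : m ≤ l) : u F m l ≫ qMap F n = u' F n m (idx n l) := by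
  have : u F m l = tr F m l ≫ Sigma.ι (fun m : ℕ => F.obj m) l := rfl
  rw [this, Category.assoc]
  unfold qMap
  rw [Sigma.ι_desc, tr_u' F n h (le_idx hn l)]

lemma u_p_pos {m l : ℕ} (h : m ≤ l) (hl : l = n (idx n l)) :
    u F m l ≫ pMap F n = u' F n m (idx n l) := by
  have : u F m l = tr F m l ≫ Sigma.ι (fun m : ℕ => F.obj m) l := rfl
  rw [this, Category.assoc]
  unfold pMap
  rw [Sigma.ι_desc, if_pos hl, tr_u' F n h (le_idx hn l)]

lemma comm_ab :
    (𝟙 _ - DerLim.shiftMap (fun i : ℕ => F.obj (n i))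
      (fun i => F.map (homOfLE (hn.monotone (Nat.le_succ i))))) ≫ bMap F n =
    aMap F n ≫ (𝟙 _ - DerLim.shiftMap (fun m : ℕ => F.obj m)
      (fun m => F.map (homOfLE (Nat.le_succ m)))) := by
  refine Sigma.hom_ext _ _ (fun i => ?_)
  rw [← u'_self F n i, ← Category.assoc, ← Category.assoc, u'_dS' F hn le_rfl,
    Preadditive.sub_comp, u'_b F n le_rfl, u'_b F n (hn.monotone (Nat.le_add_right i 1)),
    u'_a F n le_rfl, Preadditive.sum_comp, tele_dS F (hn.monotone (Nat.le_add_right i 1))]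

lemma comm_pq :
    (𝟙 _ - DerLim.shiftMap (fun m : ℕ => F.obj m)
      (fun m => F.map (homOfLE (Nat.le_succ m)))) ≫ qMap F n =
    pMap F n ≫ (𝟙 _ - DerLim.shiftMap (fun i : ℕ => F.obj (n i))
      (fun i => F.map (homOfLE (hn.monotone (Nat.le_succ i))))) := by
  refine Sigma.hom_ext _ _ (fun m => ?_)
  rw [← u_self F m, ← Category.assoc, ← Category.assoc, u_dS F le_rfl, Preadditive.sub_comp,
    u_q F hn le_rfl, u_q F hn (Nat.le_add_right m 1)]
  rcases (le_idx hn m).lt_or_eq with hlt | heq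
  · rw [idx_succ_of_lt hn hlt, sub_self, u_p_neg F n (ne_of_lt hlt), zero_comp]
  · obtain ⟨i, rfl⟩ : ∃ i, m = n i := ⟨_, heq⟩
    rw [u_p_pos F hn le_rfl (by rw [idx_n hn]), idx_n hn, idx_succ_n hn, u'_dS' F hn le_rfl]

lemma ap_id : aMap F n ≫ pMap F n = 𝟙 _ := by
  refine Sigma.hom_ext _ _ (fun i => ?_)
  rw [← u'_self F n i, ← Category.assoc, u'_a F n le_rfl, Preadditive.sum_comp,
    Category.comp_id]
  rw [Finset.sum_eq_single (n i)]
  · rw [u_p_pos F hn le_rfl (by rw [idx_n hn]), idx_n hn]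
  · intro l hl hne
    have hl' := Finset.mem_Ico.1 hl
    have h1 : idx n l = i + 1 := by
      apply le_antisymm (idx_le (le_of_lt hl'.2))
      have h5 := le_idx hn l
      by_contra hcon
      push Not at hcon
      have h6 := hn.monotone (Nat.lt_succ_iff.1 hcon)
      omega
    apply u_p_neg
    rw [h1]
    omega
  · intro hni
    exact absurd (Finset.mem_Ico.2 ⟨le_rfl, hn (Nat.lt_add_one i)⟩) hni

lemma bq_id : bMap F n ≫ qMap F n = 𝟙 _ := by
  refine Sigma.hom_ext _ _ (fun i => ?_)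
  rw [← u'_self F n i, ← Category.assoc, u'_b F n le_rfl, u_q F hn le_rfl, idx_n hn,
    Category.comp_id]

lemma qb_eq : qMap F n ≫ bMap F n = 𝟙 _ + hMap F n ≫
    (𝟙 _ - DerLim.shiftMap (fun m : ℕ => F.obj m)
      (fun m => F.map (homOfLE (Nat.le_succ m)))) := by
  refine Sigma.hom_ext _ _ (fun m => ?_)
  rw [← u_self F m, ← Category.assoc, u_q F hn le_rfl, u'_b F n (le_idx hn m),
    Preadditive.comp_add, Category.comp_id, ← Category.assoc, u_h F n le_rfl,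
    Preadditive.neg_comp, Preadditive.sum_comp, tele_dS F (le_idx hn m)]
  abel

lemma pa_eq : pMap F n ≫ aMap F n = 𝟙 _ +
    (𝟙 _ - DerLim.shiftMap (fun m : ℕ => F.obj m)
      (fun m => F.map (homOfLE (Nat.le_succ m)))) ≫ hMap F n := by
  refine Sigma.hom_ext _ _ (fun m => ?_)
  rw [← u_self F m, Preadditive.comp_add, Category.comp_id, ← Category.assoc,
    ← Category.assoc, u_dS F le_rfl, Preadditive.sub_comp, u_h F n le_rfl,
    u_h F n (Nat.le_add_right m 1)]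
  rcases (le_idx hn m).lt_or_eq with hlt | heq
  · rw [idx_succ_of_lt hn hlt, u_p_neg F n (ne_of_lt hlt), zero_comp,
      Finset.sum_eq_sum_Ico_succ_bot hlt]
    abel
  · obtain ⟨i, rfl⟩ : ∃ i, m = n i := ⟨_, heq⟩
    rw [u_p_pos F hn le_rfl (by rw [idx_n hn]), idx_n hn, idx_succ_n hn, u'_a F n le_rfl,
      Finset.Ico_self, Finset.sum_empty, Finset.sum_eq_sum_Ico_succ_bot (hn (Nat.lt_add_one i))]
    abel

end Main

/-- Let D be a triangulated category, (K_m, f_m) a system of objects of D indexed by ℕ (given as a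
functor F : ℕ ⥤ D) and n₁ < n₂ < … a strictly increasing sequence. Assume ⨁ K_m and ⨁ K_{n_i} exist.
If L is a homotopy colimit of (K_m) and L' a homotopy colimit of the subsequence (K_{n_i}) (with the
composite transition maps), then there is an isomorphism L' ≅ L under which the structure map
K_{n_i} ⟶ L' corresponds to K_{n_i} ⟶ L for every i. -/
theorem result {D : Type u} [Category.{v} D] [Preadditive D] [HasZeroObject D] [HasShift D ℤ]
    [∀ n : ℤ, (shiftFunctor D n).Additive] [Pretriangulated D] [IsTriangulated D]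
    (F : ℕ ⥤ D) (n : ℕ → ℕ) (hn : StrictMono n)
    [HasCoproduct (fun m : ℕ => F.obj m)] [HasCoproduct (fun i : ℕ => F.obj (n i))]
    (L : D) (ι : ∀ m : ℕ, F.obj m ⟶ L)
    (hL : DerLim.IsHocolim (fun m : ℕ => F.obj m) (fun m : ℕ => F.map (homOfLE (Nat.le_succ m))) L ι)
    (L' : D) (ι' : ∀ i : ℕ, F.obj (n i) ⟶ L')
    (hL' : DerLim.IsHocolim (fun i : ℕ => F.obj (n i)) (fun i : ℕ => F.map (homOfLE (hn.monotone (Nat.le_succ i)))) L' ι') :
    ∃ e : L' ≅ L, ∀ i : ℕ, ι' i ≫ e.hom = ι (n i) := by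
  obtain ⟨c₀, hT⟩ := hL
  obtain ⟨c₀', hT'⟩ := hL'
  obtain ⟨c, hc₂, hc₃⟩ := Pretriangulated.complete_distinguished_triangle_morphism _ _ hT' hT
    (aMap F n) (bMap F n) (comm_ab F hn)
  have hiso : IsIso c := isIso_of_homotopyEquiv _ _ hT' hT (aMap F n) (bMap F n) c hc₂ hc₃
    (pMap F n) (qMap F n) (comm_pq F hn) 0 (hMap F n)
    (by rw [comp_zero, add_zero]; exact ap_id F hn)
    (by rw [zero_comp, add_zero]; exact bq_id F hn)
    (pa_eq F hn) (qb_eq F hn)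
  refine ⟨@asIso _ _ _ _ c hiso, fun i => ?_⟩
  have h1 : Sigma.ι (fun i : ℕ => F.obj (n i)) i ≫ (Sigma.desc ι' ≫ c) =
      Sigma.ι (fun i : ℕ => F.obj (n i)) i ≫ (bMap F n ≫ Sigma.desc ι) :=
    congrArg (fun t => Sigma.ι (fun i : ℕ => F.obj (n i)) i ≫ t) hc₂
  rw [← Category.assoc, Sigma.ι_desc, ← Category.assoc] at h1
  have h2 : Sigma.ι (fun i : ℕ => F.obj (n i)) i ≫ bMap F n =
      Sigma.ι (fun m : ℕ => F.obj m) (n i) := by
    rw [← u'_self F n i, u'_b F n le_rfl, u_self]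
  rw [h2, Sigma.ι_desc] at h1
  exact h1

end Groth.Agent.S6592
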