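import Groth.Statements.S6593
import Mathlib.CategoryTheory.Triangulated.Pretriangulated
import Mathlib.CategoryTheory.Limits.Preserves.Shapes.Products
import Mathlib.CategoryTheory.Adjunction.Limits
-- import your own Groth.Agent.* helpers here

set_option autoImplicit false
universe w v u
open CategoryTheory CategoryTheory.Limits
open CohDer

namespace Groth.Agent.S6593

open CategoryTheory.Pretriangulated in
lemma aux {D : Type u} [Category.{v} D] [Preadditive D] [HasZeroObject D] [HasShift D ℤ]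
    [∀ n : ℤ, (shiftFunctor D n).Additive] [Pretriangulated D]
    {J : Type w} (X Y Zf : J → D) (f : ∀ j, X j ⟶ Y j) (g : ∀ j, Y j ⟶ Zf j)
    (h : ∀ j, Zf j ⟶ (shiftFunctor D (1 : ℤ)).obj (X j))
    (hT : ∀ j, Triangle.mk (f j) (g j) (h j) ∈ distinguishedTriangles)
    [HasCoproduct X] [HasCoproduct Y] [HasCoproduct Zf] :
    Triangle.mk (Limits.Sigma.map f) (Limits.Sigma.map g)
      (Sigma.desc (fun j => h j ≫ (shiftFunctor D (1 : ℤ)).map (Sigma.ι X j))) ∈
        distinguishedTriangles := by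
  have hcX : IsColimit (Cofan.mk ((shiftFunctor D (1 : ℤ)).obj (∐ X))
      (fun j => (shiftFunctor D (1 : ℤ)).map (Sigma.ι X j))) :=
    isColimitOfHasCoproductOfPreservesColimit (shiftFunctor D (1 : ℤ)) X
  have hcY : IsColimit (Cofan.mk ((shiftFunctor D (1 : ℤ)).obj (∐ Y))
      (fun j => (shiftFunctor D (1 : ℤ)).map (Sigma.ι Y j))) :=
    isColimitOfHasCoproductOfPreservesColimit (shiftFunctor D (1 : ℤ)) Y
  obtain ⟨Z, f₂, f₃, hT'⟩ := distinguished_cocone_triangle (Limits.Sigma.map f)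
  have hφ : ∀ j, ∃ c : Zf j ⟶ Z, g j ≫ c = Sigma.ι Y j ≫ f₂ ∧
      h j ≫ (shiftFunctor D (1 : ℤ)).map (Sigma.ι X j) = c ≫ f₃ := fun j =>
    complete_distinguished_triangle_morphism _ _ (hT j) hT' (Sigma.ι X j) (Sigma.ι Y j)
      (Sigma.ι_map f j).symm
  choose c hc₂ hc₃ using hφ
  let ψ : ∐ Zf ⟶ Z := Sigma.desc c
  have hψ : ∀ j, Sigma.ι Zf j ≫ ψ = c j := fun j => Sigma.ι_desc c j
  have c₂ : Limits.Sigma.map g ≫ ψ = f₂ := by
    refine Sigma.hom_ext _ _ (fun j => ?_)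
    rw [Sigma.ι_map_assoc, hψ j, hc₂ j]
  have c₃ : Sigma.desc (fun j => h j ≫ (shiftFunctor D (1 : ℤ)).map (Sigma.ι X j)) = ψ ≫ f₃ := by
    refine Sigma.hom_ext _ _ (fun j => ?_)
    rw [Sigma.ι_desc, reassoc_of% (hψ j), hc₃ j]
  let φ' : Triangle.mk (Limits.Sigma.map f) (Limits.Sigma.map g)
      (Sigma.desc (fun j => h j ≫ (shiftFunctor D (1 : ℤ)).map (Sigma.ι X j))) ⟶
      Triangle.mk (Limits.Sigma.map f) f₂ f₃ :=
    { hom₁ := 𝟙 (∐ X)
      hom₂ := 𝟙 (∐ Y)
      hom₃ := ψ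
      comm₁ := by
        show Limits.Sigma.map f ≫ 𝟙 (∐ Y) = 𝟙 (∐ X) ≫ Limits.Sigma.map f
        rw [Category.comp_id, Category.id_comp]
      comm₂ := by
        show Limits.Sigma.map g ≫ ψ = 𝟙 (∐ Y) ≫ f₂
        rw [c₂, Category.id_comp]
      comm₃ := by
        show Sigma.desc (fun j => h j ≫ (shiftFunctor D (1 : ℤ)).map (Sigma.ι X j)) ≫
          (shiftFunctor D (1 : ℤ)).map (𝟙 (∐ X)) = ψ ≫ f₃
        rw [c₃, CategoryTheory.Functor.map_id, Category.comp_id] }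
  suffices IsIso ψ by
    have h1 : IsIso φ'.hom₁ := (inferInstance : IsIso (𝟙 (∐ X)))
    have h2 : IsIso φ'.hom₂ := (inferInstance : IsIso (𝟙 (∐ Y)))
    have h3 : IsIso φ'.hom₃ := this
    have : IsIso φ' := Triangle.isIso_of_isIsos φ' h1 h2 h3
    exact isomorphic_distinguished _ hT' _ (asIso φ')
  refine isIso_of_coyoneda_map_bijective _ (fun A => ⟨?_, ?_⟩)
  · suffices Epi ψ by
      intro a₁ a₂ ha
      simpa only [cancel_epi ψ] using ha
    rw [Preadditive.epi_iff_cancel_zero]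
    intro A k hk
    have hk' : f₂ ≫ k = 0 := by
      rw [← c₂, Category.assoc, hk, comp_zero]
    obtain ⟨u, hu⟩ : ∃ u : (shiftFunctor D (1 : ℤ)).obj (∐ X) ⟶ A, k = f₃ ≫ u :=
      Triangle.yoneda_exact₃ _ hT' k hk'
    have hu' : ∀ j, h j ≫ ((shiftFunctor D (1 : ℤ)).map (Sigma.ι X j) ≫ u) = 0 := fun j => by
      rw [reassoc_of% (hc₃ j), ← hu, ← hψ j, Category.assoc, hk, comp_zero]
    have hu'' : ∀ j, ∃ α : (shiftFunctor D (1 : ℤ)).obj (Y j) ⟶ A,
        (shiftFunctor D (1 : ℤ)).map (Sigma.ι X j) ≫ u =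
          (shiftFunctor D (1 : ℤ)).map (f j) ≫ α := fun j => by
      obtain ⟨α, hα⟩ : ∃ α : (shiftFunctor D (1 : ℤ)).obj (Y j) ⟶ A,
          (shiftFunctor D (1 : ℤ)).map (Sigma.ι X j) ≫ u =
          (-(shiftFunctor D (1 : ℤ)).map (f j)) ≫ α :=
        Triangle.yoneda_exact₃ _ (rot_of_distTriang _ (hT j))
          ((shiftFunctor D (1 : ℤ)).map (Sigma.ι X j) ≫ u) (hu' j)
      refine ⟨-α, ?_⟩
      rw [hα]
      simp
    choose α hα using hu''
    have hu3 : u = (shiftFunctor D (1 : ℤ)).map (Limits.Sigma.map f) ≫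
        Cofan.IsColimit.desc hcY α := by
      refine Cofan.IsColimit.hom_ext hcX _ _ (fun j => ?_)
      dsimp only [Cofan.mk_pt, Cofan.inj, Cofan.mk_ι_app]
      rw [hα j, ← Functor.map_comp_assoc, Sigma.ι_map, Functor.map_comp_assoc]
      congr 1
      exact (Cofan.IsColimit.fac hcY α j).symm
    rw [hu, hu3, ← Category.assoc]
    have : f₃ ≫ (shiftFunctor D (1 : ℤ)).map (Limits.Sigma.map f) = 0 :=
      comp_distTriang_mor_zero₃₁ _ hT'
    rw [this, zero_comp]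
  · intro a
    have zero : Limits.Sigma.map f ≫ Limits.Sigma.map g = 0 := by
      refine Sigma.hom_ext _ _ (fun j => ?_)
      have : f j ≫ g j = 0 := comp_distTriang_mor_zero₁₂ _ (hT j)
      rw [Sigma.ι_map_assoc, Sigma.ι_map, reassoc_of% this, zero_comp, comp_zero]
    obtain ⟨a', ha'⟩ : ∃ a' : Z ⟶ A, Limits.Sigma.map g ≫ a = f₂ ≫ a' :=
      Triangle.yoneda_exact₂ _ hT' (Limits.Sigma.map g ≫ a)
        (by
          show Limits.Sigma.map f ≫ Limits.Sigma.map g ≫ a = 0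
          rw [← Category.assoc, zero, zero_comp])
    have ha'' : ∀ j, ∃ b : (shiftFunctor D (1 : ℤ)).obj (X j) ⟶ A,
        Sigma.ι Zf j ≫ (a - ψ ≫ a') = h j ≫ b := fun j => by
      refine Triangle.yoneda_exact₃ _ (hT j) _ ?_
      show g j ≫ Sigma.ι Zf j ≫ (a - ψ ≫ a') = 0
      rw [Preadditive.comp_sub, Preadditive.comp_sub, reassoc_of% (hψ j), reassoc_of% (hc₂ j),
        ← ha', ← Sigma.ι_map_assoc, sub_self]
    choose b hb using ha''
    have hb' : a - ψ ≫ a' = Sigma.desc (fun j => h j ≫ (shiftFunctor D (1 : ℤ)).map (Sigma.ι X j))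
        ≫ Cofan.IsColimit.desc hcX b := by
      refine Sigma.hom_ext _ _ (fun j => ?_)
      rw [hb j, Sigma.ι_desc_assoc, Category.assoc]
      congr 1
      exact (Cofan.IsColimit.fac hcX b j).symm
    refine ⟨a' + f₃ ≫ Cofan.IsColimit.desc hcX b, ?_⟩
    dsimp only
    rw [Preadditive.comp_add, ← Category.assoc, ← c₃, ← hb', add_sub_cancel]


open CategoryTheory.Pretriangulated in
/-- Let D be a pretriangulated category and (X_i → Y_i → Z_i → X_i⟦1⟧)_{i ∈ I} a family of distinguished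
triangles. If the direct sums ⨁ X_i, ⨁ Y_i, ⨁ Z_i exist, then ⨁ X_i → ⨁ Y_i → ⨁ Z_i → (⨁ X_i)⟦1⟧ is
a distinguished triangle (the last map is induced by the composites Z_i → X_i⟦1⟧ → (⨁ X_i)⟦1⟧). -/
theorem result {D : Type u} [Category.{v} D] [Preadditive D] [HasZeroObject D] [HasShift D ℤ]
    [∀ n : ℤ, (shiftFunctor D n).Additive] [Pretriangulated D]
    {J : Type w} (T : J → Triangle D) (hT : ∀ j, T j ∈ distinguishedTriangles)
    [HasCoproduct (fun j => (T j).obj₁)] [HasCoproduct (fun j => (T j).obj₂)] [HasCoproduct (fun j => (T j).obj₃)] :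
    Triangle.mk (Limits.Sigma.map (fun j => (T j).mor₁)) (Limits.Sigma.map (fun j => (T j).mor₂))
      (Sigma.desc (fun j => (T j).mor₃ ≫ (shiftFunctor D (1 : ℤ)).map (Sigma.ι (fun j => (T j).obj₁) j))) ∈ distinguishedTriangles := by
  exact aux (fun j => (T j).obj₁) (fun j => (T j).obj₂) (fun j => (T j).obj₃)
    (fun j => (T j).mor₁) (fun j => (T j).mor₂) (fun j => (T j).mor₃) hT

end Groth.Agent.S6593
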