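import Groth.Statements.S6594

set_option autoImplicit false
universe v u
open CohDer

namespace Groth.Agent.S6594

open CategoryTheory CategoryTheory.Limits CategoryTheory.Pretriangulated

theorem result {D : Type u} [Category.{v} D] [Preadditive D] [HasZeroObject D] [HasShift D ℤ]
    [∀ n : ℤ, (shiftFunctor D n).Additive] [Pretriangulated D]
    {X Y : D} (f : X ⟶ Y) :
    HasKernel f ↔ ∃ (K Z Q : D) (e₁ : X ≅ K ⊞ Z) (e₂ : Y ≅ Z ⊞ Q),
      f = e₁.hom ≫ biprod.snd ≫ biprod.inl ≫ e₂.inv := by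
  constructor
  · intro hk
    -- kernel is a split mono
    obtain ⟨Z, p, δ, hT⟩ := distinguished_cocone_triangle (kernel.ι f)
    have hδ : δ = 0 := Triangle.mor₃_eq_zero_of_mono₁ _ hT (show Mono (kernel.ι f) from inferInstance)
    obtain ⟨e₁, he₁, he₁'⟩ : ∃ (e : X ≅ kernel f ⊞ Z), kernel.ι f ≫ e.hom = biprod.inl ∧
        p = e.hom ≫ biprod.snd := exists_iso_binaryBiproduct_of_distTriang _ hT hδ
    obtain ⟨f', hf'⟩ : ∃ f' : Z ⟶ Y, f = p ≫ f' :=
      Triangle.yoneda_exact₂ _ hT f (kernel.condition f)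
    have hmono : Mono f' := by
      rw [Preadditive.mono_iff_cancel_zero]
      intro W g hg
      have h1 : (g ≫ biprod.inr ≫ e₁.inv) ≫ f = 0 := by
        refine (congrArg (fun t => (g ≫ biprod.inr ≫ e₁.inv) ≫ t) hf').trans ?_
        rw [he₁']
        simp only [Category.assoc, Iso.inv_hom_id_assoc, biprod.inr_snd_assoc]
        exact hg
      have h2 : g = (g ≫ biprod.inr ≫ e₁.inv) ≫ p := by
        rw [he₁']
        simp
      rw [h2, ← kernel.lift_ι f _ h1, Category.assoc]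
      have : kernel.ι f ≫ p = 0 := comp_distTriang_mor_zero₁₂ _ hT
      rw [this, comp_zero]
    obtain ⟨Q, q, δ', hT'⟩ := distinguished_cocone_triangle f'
    have hδ' : δ' = 0 := Triangle.mor₃_eq_zero_of_mono₁ _ hT' hmono
    obtain ⟨e₂, he₂, -⟩ : ∃ (e : Y ≅ Z ⊞ Q), f' ≫ e.hom = biprod.inl ∧
        q = e.hom ≫ biprod.snd := exists_iso_binaryBiproduct_of_distTriang _ hT' hδ'
    refine ⟨kernel f, Z, Q, e₁, e₂, ?_⟩
    have he₂' : f' = biprod.inl ≫ e₂.inv := by rw [← he₂]; simp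
    refine hf'.trans ?_
    rw [he₁', he₂']
    simp
  · rintro ⟨K, Z, Q, e₁, e₂, rfl⟩
    have hmono : Mono (biprod.inl ≫ e₂.inv : Z ⟶ Y) := mono_comp _ _
    refine ⟨⟨⟨KernelFork.ofι (biprod.inl ≫ e₁.inv : K ⟶ X) (by simp), ?_⟩⟩⟩
    refine KernelFork.IsLimit.ofι _ _ (fun {W} g hg => g ≫ e₁.hom ≫ biprod.fst) ?_ ?_
    · intro W g hg
      have h1 : (g ≫ e₁.hom ≫ biprod.snd) ≫ (biprod.inl ≫ e₂.inv : Z ⟶ Y) = 0 := by
        simpa using hg
      have h2 : g ≫ e₁.hom ≫ biprod.snd = 0 := by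
        rw [← cancel_mono (biprod.inl ≫ e₂.inv : Z ⟶ Y), h1, zero_comp]
      rw [← cancel_mono e₁.hom]
      apply biprod.hom_ext
      · simp
      · simp only [Category.assoc, Iso.inv_hom_id, Category.comp_id, biprod.inl_snd, comp_zero]
        simpa using h2.symm
    · intro W g hg m hm
      rw [← hm]
      simp
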