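import Groth.Statements.S6596
import Groth.Agent.S6595

set_option autoImplicit false
universe v u
open CategoryTheory CategoryTheory.Limits
open CohDer

namespace Groth.Agent.S6596

open CategoryTheory.Pretriangulated in
set_option maxHeartbeats 1000000 in
/-- Let D be a triangulated category and φ : X ⟶ X' a morphism of chain complexes in D considered in
degrees ≤ n, where a Postnikov system for the complex X_n → … → X_0 consists of objects Y_k, an
isomorphism Y_0 ⟶ X_0, and for 0 ≤ k < n distinguished triangles Y_{k+1} ⟶ X_{k+1} ⟶ Y_k ⟶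
Y_{k+1}⟦1⟧ with X_{k+1} ⟶ Y_k ⟶ X_k the differential. Suppose X and X' carry Postnikov systems (Y,
a, b, c) and (Y', a', b', c'). If Hom(X_i⟦i - j - 1⟧, X'_j) = 0 for all j + 1 < i ≤ n, then φ
extends to a morphism of Postnikov systems: morphisms y_k : Y_k ⟶ Y'_k for k ≤ n forming, with the
φ_k, morphisms of the distinguished triangles and compatible with Y_0 ⟶ X_0 and Y'_0 ⟶ X'_0. -/
theorem result {D : Type u} [Category.{v} D] [Preadditive D] [HasZeroObject D] [HasShift D ℤ]
    [∀ n : ℤ, (shiftFunctor D n).Additive] [Pretriangulated D] [IsTriangulated D]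
    (X X' : ChainComplex D ℕ) (φ : X ⟶ X') (n : ℕ)
    (Y : ℕ → D) (a : ∀ k, Y k ⟶ X.X k) (b : ∀ k, X.X (k + 1) ⟶ Y k)
    (c : ∀ k, Y k ⟶ (shiftFunctor D (1 : ℤ)).obj (Y (k + 1)))
    (h0 : IsIso (a 0))
    (hP : ∀ k, k < n → Triangle.mk (a (k + 1)) (b k) (c k) ∈ distinguishedTriangles ∧ b k ≫ a k = X.d (k + 1) k)
    (qY : ℕ → D) (qa : ∀ k, qY k ⟶ X'.X k) (qb : ∀ k, X'.X (k + 1) ⟶ qY k)
    (qc : ∀ k, qY k ⟶ (shiftFunctor D (1 : ℤ)).obj (qY (k + 1)))
    (qh0 : IsIso (qa 0))
    (qhP : ∀ k, k < n → Triangle.mk (qa (k + 1)) (qb k) (qc k) ∈ distinguishedTriangles ∧ qb k ≫ qa k = X'.d (k + 1) k)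
    (hX : ∀ i j : ℕ, j + 1 < i → i ≤ n → ∀ ψ : (shiftFunctor D ((i : ℤ) - j - 1)).obj (X.X i) ⟶ X'.X j, ψ = 0) :
    ∃ y : ∀ k, Y k ⟶ qY k,
      (∀ k, k ≤ n → y k ≫ qa k = a k ≫ φ.f k) ∧
      (∀ k, k < n → b k ≫ y k = φ.f (k + 1) ≫ qb k ∧ c k ≫ (shiftFunctor D (1 : ℤ)).map (y (k + 1)) = y k ≫ qc k) := by
  have van : ∀ i j : ℕ, j + 1 < i → i ≤ n →
      ∀ ψ : (shiftFunctor D ((i : ℤ) - j - 1)).obj (X.X i) ⟶ qY j, ψ = 0 :=
    fun i j hij hi ψ => Groth.Agent.S6595.result X X' n qY qa qb qc qh0 qhP hX i j hij hi ψ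
  -- commutation of the middle square
  have comm : ∀ m, m < n → ∀ ym : Y m ⟶ qY m, ym ≫ qa m = a m ≫ φ.f m →
      b m ≫ ym = φ.f (m + 1) ≫ qb m := by
    intro m hm ym hym
    have hΔ : (b m ≫ ym - φ.f (m + 1) ≫ qb m) ≫ qa m = 0 := by
      rw [Preadditive.sub_comp, Category.assoc, hym, ← Category.assoc, (hP m hm).2,
        Category.assoc, (qhP m hm).2, φ.comm, sub_self]
    rw [← sub_eq_zero]
    cases m with
    | zero =>
      rw [← cancel_mono (qa 0), hΔ, zero_comp]
    | succ m' =>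
      obtain ⟨hT', -⟩ := qhP m' (by omega)
      have h : (shiftFunctor D (1 : ℤ)).map (b (m' + 1) ≫ ym - φ.f (m' + 1 + 1) ≫ qb (m' + 1)) ≫
          (shiftFunctor D (1 : ℤ)).map (qa (m' + 1)) = 0 := by
        rw [← Functor.map_comp, hΔ, Functor.map_zero]
      obtain ⟨g, hg⟩ := Triangle.coyoneda_exact₁ _ hT' _ h
      have hg0 : g = 0 := by
        have key : ∀ (p : ℤ) (_ : p = 1),
            (∀ ψ : (shiftFunctor D p).obj (X.X (m' + 1 + 1)) ⟶ qY m', ψ = 0) →
            ∀ g : (shiftFunctor D (1 : ℤ)).obj (X.X (m' + 1 + 1)) ⟶ qY m', g = 0 := by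
          intro p hp
          subst hp
          exact id
        exact key _ (by push_cast; omega) (van (m' + 1 + 1) m' (by omega) (by omega)) g
      apply (shiftFunctor D (1 : ℤ)).map_injective
      rw [hg, hg0, zero_comp, Functor.map_zero]
      rfl
  -- inductive construction
  have ex : ∀ m, m ≤ n → ∃ y : ∀ k, Y k ⟶ qY k,
      (∀ k, k ≤ m → y k ≫ qa k = a k ≫ φ.f k) ∧
      (∀ k, k < m → b k ≫ y k = φ.f (k + 1) ≫ qb k ∧
        c k ≫ (shiftFunctor D (1 : ℤ)).map (y (k + 1)) = y k ≫ qc k) := by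
    intro m
    induction m with
    | zero =>
      intro _
      refine ⟨Function.update (fun k => (0 : Y k ⟶ qY k)) 0 (a 0 ≫ φ.f 0 ≫ inv (qa 0)), ?_, ?_⟩
      · intro k hk
        obtain rfl : k = 0 := by omega
        rw [Function.update_self]
        simp
      · intro k hk
        omega
    | succ m ih =>
      intro hm
      obtain ⟨y, hy1, hy2⟩ := ih (by omega)
      have hcomm := comm m (by omega) (y m) (hy1 m le_rfl)
      obtain ⟨hT₁, -⟩ := hP m (by omega)
      obtain ⟨hT₂, -⟩ := qhP m (by omega)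
      obtain ⟨a', ha'1, ha'2⟩ := complete_distinguished_triangle_morphism₁ _ _ hT₁ hT₂
        (φ.f (m + 1)) (y m) hcomm
      replace ha'1 : a (m + 1) ≫ φ.f (m + 1) = a' ≫ qa (m + 1) := ha'1
      replace ha'2 : c m ≫ (shiftFunctor D (1 : ℤ)).map a' = y m ≫ qc m := ha'2
      refine ⟨Function.update y (m + 1) a', ?_, ?_⟩
      · intro k hk
        by_cases hkm : k = m + 1
        · subst hkm
          rw [Function.update_self]
          exact ha'1.symm
        · rw [Function.update_of_ne hkm]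
          exact hy1 k (by omega)
      · intro k hk
        by_cases hkm : k = m
        · subst hkm
          rw [Function.update_self, Function.update_of_ne (by omega)]
          exact ⟨hcomm, ha'2⟩
        · rw [Function.update_of_ne (by omega), Function.update_of_ne (by omega)]
          exact hy2 k (by omega)
  exact ex n le_rfl

end Groth.Agent.S6596
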