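import Groth.Statements.S6597
-- import your own Groth.Agent.* helpers here

set_option autoImplicit false
universe v u
open CategoryTheory CategoryTheory.Limits
open CohDer

namespace Groth.Agent.S6597

open CategoryTheory.Pretriangulated in
theorem shifted_yoneda_exact₃ {D : Type u} [Category.{v} D] [Preadditive D] [HasZeroObject D]
    [HasShift D ℤ] [∀ n : ℤ, (shiftFunctor D n).Additive] [Pretriangulated D]
    (T : Triangle D) (hT : T ∈ distinguishedTriangles) (n : ℤ) {Z : D}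
    (f : (shiftFunctor D n).obj T.obj₃ ⟶ Z) (hf : (shiftFunctor D n).map T.mor₂ ≫ f = 0) :
    ∃ (m : (shiftFunctor D n).obj T.obj₃ ⟶
        (shiftFunctor D (1 : ℤ)).obj ((shiftFunctor D n).obj T.obj₁))
      (g' : (shiftFunctor D (1 : ℤ)).obj ((shiftFunctor D n).obj T.obj₁) ⟶ Z), f = m ≫ g' := by
  have hT' := Triangle.shift_distinguished T hT n
  obtain ⟨g', hg'⟩ := Triangle.yoneda_exact₃ _ hT' f (by
    change (n.negOnePow • (shiftFunctor D n).map T.mor₂) ≫ f = 0
    rw [Linear.units_smul_comp, hf, smul_zero])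
  exact ⟨_, g', hg'⟩

open CategoryTheory.Pretriangulated in
/-- Let D be a triangulated category, φ : X ⟶ X' a morphism of chain complexes in D considered in
degrees ≤ n, where a Postnikov system for the complex X_n → … → X_0 consists of objects Y_k, an
isomorphism Y_0 ⟶ X_0, and for 0 ≤ k < n distinguished triangles Y_{k+1} ⟶ X_{k+1} ⟶ Y_k ⟶
Y_{k+1}⟦1⟧ with X_{k+1} ⟶ Y_k ⟶ X_k the differential; let (Y, a, b, c) and (Y', a', b', c') be
Postnikov systems for X and X'. If Hom(X_i⟦i⟧, Y'_n⟦n⟧) = 0 for i = 1, …, n, then two morphisms of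
Postnikov systems extending φ agree on Y_n. (The published statement says there is at most one
morphism of Postnikov systems; the argument, by induction along Y_0 → Y_1⟦1⟧ → … → Y_n⟦n⟧,
determines the component in degree n, which is what is asserted here.) -/
theorem result {D : Type u} [Category.{v} D] [Preadditive D] [HasZeroObject D] [HasShift D ℤ]
    [∀ n : ℤ, (shiftFunctor D n).Additive] [Pretriangulated D] [IsTriangulated D]
    (X X' : ChainComplex D ℕ) (φ : X ⟶ X') (n : ℕ)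
    (Y : ℕ → D) (a : ∀ k, Y k ⟶ X.X k) (b : ∀ k, X.X (k + 1) ⟶ Y k)
    (c : ∀ k, Y k ⟶ (shiftFunctor D (1 : ℤ)).obj (Y (k + 1)))
    (h0 : IsIso (a 0))
    (hP : ∀ k, k < n → Triangle.mk (a (k + 1)) (b k) (c k) ∈ distinguishedTriangles ∧ b k ≫ a k = X.d (k + 1) k)
    (qY : ℕ → D) (qa : ∀ k, qY k ⟶ X'.X k) (qb : ∀ k, X'.X (k + 1) ⟶ qY k)
    (qc : ∀ k, qY k ⟶ (shiftFunctor D (1 : ℤ)).obj (qY (k + 1)))
    (qh0 : IsIso (qa 0))
    (qhP : ∀ k, k < n → Triangle.mk (qa (k + 1)) (qb k) (qc k) ∈ distinguishedTriangles ∧ qb k ≫ qa k = X'.d (k + 1) k)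
    (hv : ∀ i : ℕ, 1 ≤ i → i ≤ n → ∀ ψ : (shiftFunctor D (i : ℤ)).obj (X.X i) ⟶ (shiftFunctor D (n : ℤ)).obj (qY n), ψ = 0)
    (y z : ∀ k, Y k ⟶ qY k)
    (hy : (∀ k, k ≤ n → y k ≫ qa k = a k ≫ φ.f k) ∧
      (∀ k, k < n → b k ≫ y k = φ.f (k + 1) ≫ qb k ∧ c k ≫ (shiftFunctor D (1 : ℤ)).map (y (k + 1)) = y k ≫ qc k))
    (hz : (∀ k, k ≤ n → z k ≫ qa k = a k ≫ φ.f k) ∧
      (∀ k, k < n → b k ≫ z k = φ.f (k + 1) ≫ qb k ∧ c k ≫ (shiftFunctor D (1 : ℤ)).map (z (k + 1)) = z k ≫ qc k)) :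
    y n = z n := by
  have L : ∀ k : ℕ, k ≤ n → ∀ (Z : D),
      (∀ i : ℕ, 1 ≤ i → i ≤ k → ∀ ψ : (shiftFunctor D (i : ℤ)).obj (X.X i) ⟶ Z, ψ = 0) →
      ∀ g : (shiftFunctor D (k : ℤ)).obj (qY k) ⟶ Z,
        (shiftFunctor D (k : ℤ)).map (y k - z k) ≫ g = 0 := by
    intro k
    induction k with
    | zero =>
      intro _ Z _ g
      have h1 : y 0 = z 0 := by
        rw [← cancel_mono (qa 0), hy.1 0 (Nat.zero_le n), hz.1 0 (Nat.zero_le n)]
      rw [h1, sub_self, Functor.map_zero, zero_comp]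
    | succ k ih =>
      intro hk Z hZ g
      have hk' : k < n := by omega
      obtain ⟨hT, -⟩ := hP k hk'
      have hc : c k ≫ (shiftFunctor D (1 : ℤ)).map (y (k + 1) - z (k + 1)) =
          (y k - z k) ≫ qc k := by
        rw [Functor.map_sub, Preadditive.comp_sub, Preadditive.sub_comp, (hy.2 k hk').2,
          (hz.2 k hk').2]
      have hK : (1 : ℤ) + (k : ℤ) = ((k + 1 : ℕ) : ℤ) := by push_cast; omega
      have hK' : (k : ℤ) + 1 = ((k + 1 : ℕ) : ℤ) := by push_cast; rfl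
      have hnat := (shiftFunctorAdd' D 1 (k : ℤ) ((k + 1 : ℕ) : ℤ) hK).hom.naturality
        (y (k + 1) - z (k + 1))
      simp only [Functor.comp_map] at hnat
      -- it suffices to prove vanishing after precomposing with the iso
      suffices hf : (shiftFunctor D (k : ℤ)).map ((shiftFunctor D (1 : ℤ)).map
          (y (k + 1) - z (k + 1))) ≫
          (shiftFunctorAdd' D 1 (k : ℤ) ((k + 1 : ℕ) : ℤ) hK).inv.app (qY (k + 1)) ≫ g = 0 by
        have h2 : (shiftFunctorAdd' D 1 (k : ℤ) ((k + 1 : ℕ) : ℤ) hK).hom.app (Y (k + 1)) ≫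
            (shiftFunctor D (k : ℤ)).map ((shiftFunctor D (1 : ℤ)).map
              (y (k + 1) - z (k + 1))) ≫
            (shiftFunctorAdd' D 1 (k : ℤ) ((k + 1 : ℕ) : ℤ) hK).inv.app (qY (k + 1)) ≫ g = 0 := by
          rw [hf, comp_zero]
        rw [← Category.assoc, ← hnat, Category.assoc, Iso.hom_inv_id_app_assoc] at h2
        exact h2
      -- apply exactness of the shifted rotated triangle
      have hrot := rot_of_distTriang _ hT
      have hvan : (shiftFunctor D (k : ℤ)).map (c k) ≫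
          ((shiftFunctor D (k : ℤ)).map ((shiftFunctor D (1 : ℤ)).map
          (y (k + 1) - z (k + 1))) ≫
          (shiftFunctorAdd' D 1 (k : ℤ) ((k + 1 : ℕ) : ℤ) hK).inv.app (qY (k + 1)) ≫ g) = 0 := by
        rw [← Category.assoc, ← Functor.map_comp, hc, Functor.map_comp, Category.assoc]
        exact ih (by omega) Z (fun i h1 h2 ψ => hZ i h1 (by omega) ψ) _
      obtain ⟨m, g', hg'⟩ := shifted_yoneda_exact₃ _ hrot (k : ℤ) _ hvan
      have hg0 : g' = 0 := by
        have := hZ (k + 1) (by omega) le_rfl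
          ((shiftFunctorAdd' D (k : ℤ) 1 ((k + 1 : ℕ) : ℤ) hK').hom.app (X.X (k + 1)) ≫ g')
        exact (cancel_epi ((shiftFunctorAdd' D (k : ℤ) 1 ((k + 1 : ℕ) : ℤ) hK').hom.app
          (X.X (k + 1)))).mp (this.trans comp_zero.symm)
      exact hg'.trans (by rw [hg0, comp_zero]; rfl)
  have hfin := L n le_rfl ((shiftFunctor D (n : ℤ)).obj (qY n)) hv (𝟙 _)
  rw [Category.comp_id] at hfin
  have h3 : y n - z n = 0 := by
    apply (shiftFunctor D (n : ℤ)).map_injective
    rw [hfin, Functor.map_zero]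
  exact sub_eq_zero.mp h3

end Groth.Agent.S6597
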