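import Groth.Statements.S6598
import Mathlib.Algebra.Homology.HomotopyCategory.MappingCone
import Mathlib.Algebra.Homology.Embedding.CochainComplex
import Mathlib.Algebra.Homology.HomologicalComplexBiprod
-- import your own Groth.Agent.* helpers here

set_option autoImplicit false
universe v u
open CategoryTheory CategoryTheory.Limits
open CohDer

namespace Groth.Agent.S6598

set_option linter.unusedSimpArgs false

lemma G1 {V : Type u} [Category.{v} V] [Preadditive V] [HasBinaryBiproducts V]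
    {A A' L₀ M₀ B : V}
    (fstB : B ⟶ M₀) (sndB : B ⟶ L₀) (inlB : M₀ ⟶ B) (inrB : L₀ ⟶ B)
    (h1 : inlB ≫ fstB = 𝟙 _) (h2 : inlB ≫ sndB = 0) (h3 : inrB ≫ fstB = 0)
    (h4 : inrB ≫ sndB = 𝟙 _) (h5 : fstB ≫ inlB + sndB ≫ inrB = 𝟙 _)
    (fM : M₀ ⟶ A') (sM : M₀ ⟶ A) (ilM : A' ⟶ M₀) (irM : A ⟶ M₀)
    (k1 : ilM ≫ fM = 𝟙 _) (k2 : ilM ≫ sM = 0) (k3 : irM ≫ fM = 0) (k4 : irM ≫ sM = 𝟙 _)
    (k5 : fM ≫ ilM + sM ≫ irM = 𝟙 _)
    (a : A ⟶ L₀) (i : A ⟶ B) (hi1 : i ≫ fstB = irM) (hi2 : i ≫ sndB = a) :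
    ∃ e : B ≅ A ⊞ (A' ⊞ L₀), i ≫ e.hom = biprod.inl := by
  have hi : i = irM ≫ inlB + a ≫ inrB := by
    calc i = i ≫ (fstB ≫ inlB + sndB ≫ inrB) := by rw [h5, Category.comp_id]
      _ = irM ≫ inlB + a ≫ inrB := by
        rw [Preadditive.comp_add, ← Category.assoc, ← Category.assoc, hi1, hi2]
  have e1 : biprod.lift (fstB ≫ sM) (biprod.lift (fstB ≫ fM) (sndB - fstB ≫ sM ≫ a)) ≫
      biprod.desc i (biprod.desc (ilM ≫ inlB) inrB) = 𝟙 B := by
    rw [biprod.lift_desc, biprod.lift_desc, hi]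
    simp only [Preadditive.comp_add, Preadditive.sub_comp, Category.assoc]
    have : fstB ≫ inlB = fstB ≫ fM ≫ ilM ≫ inlB + fstB ≫ sM ≫ irM ≫ inlB := by
      rw [← Preadditive.comp_add, ← Category.assoc fM, ← Category.assoc sM,
        ← Preadditive.add_comp, k5, Category.id_comp]
    rw [← h5, this]
    abel
  have e2 : biprod.desc i (biprod.desc (ilM ≫ inlB) inrB) ≫
      biprod.lift (fstB ≫ sM) (biprod.lift (fstB ≫ fM) (sndB - fstB ≫ sM ≫ a)) = 𝟙 _ := by
    ext <;> simp [hi1, hi2, reassoc_of% hi1, reassoc_of% hi2, h1, h2, h3, h4, reassoc_of% h1,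
      reassoc_of% h2, reassoc_of% h3, reassoc_of% h4, k1, k2, k3, k4, reassoc_of% k1, reassoc_of% k2,
      reassoc_of% k3, reassoc_of% k4]
  refine ⟨⟨_, _, e1, e2⟩, ?_⟩
  dsimp only
  apply biprod.hom_ext
  · rw [Category.assoc, biprod.lift_fst, biprod.inl_fst, ← Category.assoc, hi1, k4]
  · rw [Category.assoc, biprod.lift_snd, biprod.inl_snd]
    apply biprod.hom_ext
    · rw [Category.assoc, biprod.lift_fst, zero_comp, ← Category.assoc, hi1, k3]
    · rw [Category.assoc, biprod.lift_snd, zero_comp, Preadditive.comp_sub, hi2,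
        ← Category.assoc, hi1, ← Category.assoc, k4, Category.id_comp, sub_self]


/-- Let α : K ⟶ L be a morphism of cochain complexes over an additive category. There is a factorization
K ⟶ L' ⟶ L of α such that (1) K ⟶ L' is a termwise split injection (in each degree isomorphic to the
inclusion of a direct summand) and (2) L' ⟶ L admits a section s : L ⟶ L' (s followed by L' ⟶ L is
the identity) such that L' ⟶ L followed by s is homotopic to the identity of L'. Moreover if K and L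
are both bounded below, resp. both bounded above, then L' may be chosen bounded below, resp. bounded
above. -/
theorem result {V : Type u} [Category.{v} V] [Preadditive V] [HasBinaryBiproducts V] [HasZeroObject V]
    (K L : CochainComplex V ℤ) (α : K ⟶ L) :
    ∃ (L' : CochainComplex V ℤ) (α' : K ⟶ L') (π : L' ⟶ L) (s : L ⟶ L'),
      α' ≫ π = α ∧ s ≫ π = 𝟙 L ∧ Nonempty (Homotopy (π ≫ s) (𝟙 L')) ∧
      (∀ n : ℤ, ∃ (C : V) (e : L'.X n ≅ K.X n ⊞ C), α'.f n ≫ e.hom = biprod.inl) ∧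
      (∀ a : ℤ, K.IsStrictlyGE a → L.IsStrictlyGE a → ∃ a' : ℤ, L'.IsStrictlyGE a') ∧
      (∀ a : ℤ, K.IsStrictlyLE a → L.IsStrictlyLE a → ∃ a' : ℤ, L'.IsStrictlyLE a') := by
  refine ⟨CochainComplex.mappingCone (𝟙 K) ⊞ L,
    biprod.lift (CochainComplex.mappingCone.inr (𝟙 K)) α, biprod.snd, biprod.inr,
    by simp, by simp, ⟨?_⟩, ?_, ?_, ?_⟩
  · let h₀ : Homotopy (𝟙 (CochainComplex.mappingCone (𝟙 K))) 0 :=
      CochainComplex.mappingCone.liftHomotopy _ _ _ (CochainComplex.mappingCone.snd _) 0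
        (by simp) (by simp)
    let h₁ := (h₀.compRight
      (biprod.inl : _ ⟶ CochainComplex.mappingCone (𝟙 K) ⊞ L)).compLeft
        (biprod.fst : CochainComplex.mappingCone (𝟙 K) ⊞ L ⟶ _)
    let h₂ := Homotopy.add h₁ (Homotopy.refl (biprod.snd ≫ biprod.inr))
    exact (Homotopy.ofEq (by simp)).trans (h₂.symm.trans (Homotopy.ofEq (by simp)))
  · intro n
    obtain ⟨e, he⟩ := G1
      ((biprod.fst : CochainComplex.mappingCone (𝟙 K) ⊞ L ⟶ _).f n)
      ((biprod.snd : CochainComplex.mappingCone (𝟙 K) ⊞ L ⟶ _).f n)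
      ((biprod.inl : _ ⟶ CochainComplex.mappingCone (𝟙 K) ⊞ L).f n)
      ((biprod.inr : _ ⟶ CochainComplex.mappingCone (𝟙 K) ⊞ L).f n)
      (HomologicalComplex.biprod_inl_fst_f _ _ n) (HomologicalComplex.biprod_inl_snd_f _ _ n)
      (HomologicalComplex.biprod_inr_fst_f _ _ n) (HomologicalComplex.biprod_inr_snd_f _ _ n)
      (HomologicalComplex.biprod_total_f _ _ n)
      ((CochainComplex.mappingCone.fst (𝟙 K)).1.v n (n + 1) rfl)
      ((CochainComplex.mappingCone.snd (𝟙 K)).v n n (add_zero n))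
      ((CochainComplex.mappingCone.inl (𝟙 K)).v (n + 1) n (by omega))
      ((CochainComplex.mappingCone.inr (𝟙 K)).f n)
      (CochainComplex.mappingCone.inl_v_fst_v _ _ _ _) (CochainComplex.mappingCone.inl_v_snd_v _ _ _ _)
      (CochainComplex.mappingCone.inr_f_fst_v _ _ _ _) (CochainComplex.mappingCone.inr_f_snd_v _ _)
      (CochainComplex.mappingCone.id_X _ _ _ _)
      (α.f n) ((biprod.lift (CochainComplex.mappingCone.inr (𝟙 K)) α).f n)
      (HomologicalComplex.biprod_lift_fst_f _ _ n) (HomologicalComplex.biprod_lift_snd_f _ _ n)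
    exact ⟨_, e, he⟩
  · intro a hK hL
    refine ⟨a - 1, ?_⟩
    rw [CochainComplex.isStrictlyGE_iff]
    intro i hi
    refine IsZero.of_iso ?_ ((HomologicalComplex.eval V (ComplexShape.up ℤ) i).mapBiprod _ _)
    simp only [HomologicalComplex.eval_obj, biprod_isZero_iff,
      CochainComplex.mappingCone.isZero_X_iff]
    exact ⟨⟨K.isZero_of_isStrictlyGE a _ (by omega), K.isZero_of_isStrictlyGE a _ (by omega)⟩,
      L.isZero_of_isStrictlyGE a i (by omega)⟩
  · intro a hK hL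
    refine ⟨a, ?_⟩
    rw [CochainComplex.isStrictlyLE_iff]
    intro i hi
    refine IsZero.of_iso ?_ ((HomologicalComplex.eval V (ComplexShape.up ℤ) i).mapBiprod _ _)
    simp only [HomologicalComplex.eval_obj, biprod_isZero_iff,
      CochainComplex.mappingCone.isZero_X_iff]
    exact ⟨⟨K.isZero_of_isStrictlyLE a _ (by omega), K.isZero_of_isStrictlyLE a _ (by omega)⟩,
      L.isZero_of_isStrictlyLE a i (by omega)⟩

end Groth.Agent.S6598
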