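import Groth.Statements.S6599
import Mathlib.Algebra.Homology.HomotopyCategory.MappingCocone
import Mathlib.Algebra.Homology.HomotopyCategory.MappingCone
import Mathlib.Algebra.Homology.HomotopyCategory.Shift
import Mathlib.Algebra.Homology.Embedding.CochainComplex
import Mathlib.Algebra.Homology.HomologicalComplexBiprod
-- import your own Groth.Agent.* helpers here

set_option autoImplicit false
universe v u
open CategoryTheory CategoryTheory.Limits
open CohDer

namespace Groth.Agent.S6599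

set_option linter.unusedSimpArgs false

lemma G2 {V : Type u} [Category.{v} V] [Preadditive V] [HasBinaryBiproducts V]
    {K₀ L₀ L₁ M₀ B : V}
    (fstB : B ⟶ K₀) (sndB : B ⟶ M₀) (inlB : K₀ ⟶ B) (inrB : M₀ ⟶ B)
    (h1 : inlB ≫ fstB = 𝟙 _) (h2 : inlB ≫ sndB = 0) (h3 : inrB ≫ fstB = 0)
    (h4 : inrB ≫ sndB = 𝟙 _) (h5 : fstB ≫ inlB + sndB ≫ inrB = 𝟙 _)
    (fC : M₀ ⟶ L₀) (sC : M₀ ⟶ L₁) (ilC : L₀ ⟶ M₀) (irC : L₁ ⟶ M₀)
    (k1 : ilC ≫ fC = 𝟙 _) (k2 : ilC ≫ sC = 0) (k3 : irC ≫ fC = 0) (k4 : irC ≫ sC = 𝟙 _)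
    (k5 : fC ≫ ilC + sC ≫ irC = 𝟙 _)
    (a : K₀ ⟶ L₀) (p : B ⟶ L₀) (hp1 : inlB ≫ p = a) (hp2 : inrB ≫ p = fC) :
    ∃ e : B ≅ (K₀ ⊞ L₁) ⊞ L₀, e.inv ≫ p = biprod.snd := by
  have hp : p = fstB ≫ a + sndB ≫ fC := by
    calc p = (fstB ≫ inlB + sndB ≫ inrB) ≫ p := by rw [h5, Category.id_comp]
      _ = fstB ≫ a + sndB ≫ fC := by
        rw [Preadditive.add_comp, Category.assoc, Category.assoc, hp1, hp2]
  have e1 : biprod.lift (biprod.lift fstB (sndB ≫ sC)) p ≫
      biprod.desc (biprod.desc (inlB - a ≫ ilC ≫ inrB) (irC ≫ inrB)) (ilC ≫ inrB) = 𝟙 B := by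
    rw [biprod.lift_desc, biprod.lift_desc, hp]
    simp only [Preadditive.comp_sub, Preadditive.add_comp, Category.assoc]
    have : sndB ≫ inrB = sndB ≫ fC ≫ ilC ≫ inrB + sndB ≫ sC ≫ irC ≫ inrB := by
      rw [← Preadditive.comp_add, ← Category.assoc fC, ← Category.assoc sC,
        ← Preadditive.add_comp, k5, Category.id_comp]
    rw [← h5, this]
    abel
  have e2 : biprod.desc (biprod.desc (inlB - a ≫ ilC ≫ inrB) (irC ≫ inrB)) (ilC ≫ inrB) ≫
      biprod.lift (biprod.lift fstB (sndB ≫ sC)) p = 𝟙 _ := by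
    ext <;> simp [hp1, hp2, reassoc_of% hp1, reassoc_of% hp2, h1, h2, h3, h4, reassoc_of% h1,
      reassoc_of% h2, reassoc_of% h3, reassoc_of% h4, k1, k2, k3, k4, reassoc_of% k1,
      reassoc_of% k2, reassoc_of% k3, reassoc_of% k4]
  refine ⟨⟨_, _, e1, e2⟩, ?_⟩
  dsimp only
  apply biprod.hom_ext'
  · rw [biprod.inl_desc_assoc, biprod.inl_snd]
    apply biprod.hom_ext'
    · rw [biprod.inl_desc_assoc, comp_zero, Preadditive.sub_comp, hp1, Category.assoc,
        Category.assoc, hp2, k1, Category.comp_id, sub_self]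
    · rw [biprod.inr_desc_assoc, comp_zero, Category.assoc, hp2, k3]
  · rw [biprod.inr_desc_assoc, biprod.inr_snd, Category.assoc, hp2, k1]


/-- Let α : K ⟶ L be a morphism of cochain complexes over an additive category. There is a factorization
K ⟶ K' ⟶ L of α such that (1) K' ⟶ L is a termwise split surjection (in each degree isomorphic to
the projection onto a direct summand) and (2) K ⟶ K' admits a retraction s : K' ⟶ K (K ⟶ K' followed
by s is the identity) such that s followed by K ⟶ K' is homotopic to the identity of K'. Moreover if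
K and L are both bounded below, resp. both bounded above, then K' may be chosen bounded below, resp.
bounded above. -/
theorem result {V : Type u} [Category.{v} V] [Preadditive V] [HasBinaryBiproducts V] [HasZeroObject V]
    (K L : CochainComplex V ℤ) (α : K ⟶ L) :
    ∃ (K' : CochainComplex V ℤ) (i : K ⟶ K') (α' : K' ⟶ L) (s : K' ⟶ K),
      i ≫ α' = α ∧ i ≫ s = 𝟙 K ∧ Nonempty (Homotopy (s ≫ i) (𝟙 K')) ∧
      (∀ n : ℤ, ∃ (C : V) (e : K'.X n ≅ C ⊞ L.X n), e.inv ≫ α'.f n = biprod.snd) ∧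
      (∀ a : ℤ, K.IsStrictlyGE a → L.IsStrictlyGE a → ∃ a' : ℤ, K'.IsStrictlyGE a') ∧
      (∀ a : ℤ, K.IsStrictlyLE a → L.IsStrictlyLE a → ∃ a' : ℤ, K'.IsStrictlyLE a') := by
  refine ⟨K ⊞ CochainComplex.mappingCocone (𝟙 L), biprod.inl,
    biprod.desc α (CochainComplex.mappingCocone.fst (𝟙 L)), biprod.fst,
    by simp, by simp, ⟨?_⟩, ?_, ?_, ?_⟩
  · let hc : Homotopy (𝟙 (CochainComplex.mappingCone (𝟙 L))) 0 :=
      CochainComplex.mappingCone.liftHomotopy _ _ _ (CochainComplex.mappingCone.snd _) 0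
        (by simp) (by simp)
    let h₀ : Homotopy (𝟙 (CochainComplex.mappingCocone (𝟙 L))) 0 :=
      (Homotopy.ofEq (CategoryTheory.Functor.map_id _ _).symm).trans
        ((hc.shift (-1)).trans (Homotopy.ofEq (Functor.map_zero _ _ _)))
    let h₁ := (h₀.compRight
      (biprod.inr : _ ⟶ K ⊞ CochainComplex.mappingCocone (𝟙 L))).compLeft
        (biprod.snd : K ⊞ CochainComplex.mappingCocone (𝟙 L) ⟶ _)
    let h₂ := Homotopy.add (Homotopy.refl (biprod.fst ≫ biprod.inl)) h₁
    exact (Homotopy.ofEq (by simp)).trans (h₂.symm.trans (Homotopy.ofEq (by simp)))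
  · intro n
    obtain ⟨e, he⟩ := G2
      ((biprod.fst : K ⊞ CochainComplex.mappingCocone (𝟙 L) ⟶ _).f n)
      ((biprod.snd : K ⊞ CochainComplex.mappingCocone (𝟙 L) ⟶ _).f n)
      ((biprod.inl : _ ⟶ K ⊞ CochainComplex.mappingCocone (𝟙 L)).f n)
      ((biprod.inr : _ ⟶ K ⊞ CochainComplex.mappingCocone (𝟙 L)).f n)
      (HomologicalComplex.biprod_inl_fst_f _ _ n) (HomologicalComplex.biprod_inl_snd_f _ _ n)
      (HomologicalComplex.biprod_inr_fst_f _ _ n) (HomologicalComplex.biprod_inr_snd_f _ _ n)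
      (HomologicalComplex.biprod_total_f _ _ n)
      ((CochainComplex.mappingCocone.fst (𝟙 L)).f n)
      ((CochainComplex.mappingCocone.snd (𝟙 L)).v n (n - 1) (by omega))
      ((CochainComplex.mappingCocone.inl (𝟙 L)).v n n (add_zero n))
      ((CochainComplex.mappingCocone.inr (𝟙 L)).1.v (n - 1) n (by omega))
      (CochainComplex.mappingCocone.inl_v_fst_f _ _) (CochainComplex.mappingCocone.inl_v_snd_v _ _ _ _)
      (CochainComplex.mappingCocone.inr_v_fst_f _ _ _ _)
      (CochainComplex.mappingCocone.inr_v_snd_v _ _ _ _)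
      (CochainComplex.mappingCocone.id_X _ _ _ _)
      (α.f n) ((biprod.desc α (CochainComplex.mappingCocone.fst (𝟙 L))).f n)
      (HomologicalComplex.biprod_inl_desc_f _ _ n) (HomologicalComplex.biprod_inr_desc_f _ _ n)
    exact ⟨_, e, he⟩
  · intro a hK hL
    refine ⟨a, ?_⟩
    rw [CochainComplex.isStrictlyGE_iff]
    intro i hi
    refine IsZero.of_iso ?_ ((HomologicalComplex.eval V (ComplexShape.up ℤ) i).mapBiprod _ _)
    simp only [HomologicalComplex.eval_obj, biprod_isZero_iff]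
    refine ⟨K.isZero_of_isStrictlyGE a i (by omega), ?_⟩
    show IsZero ((CochainComplex.mappingCone (𝟙 L)).X (i + -1))
    rw [CochainComplex.mappingCone.isZero_X_iff]
    exact ⟨L.isZero_of_isStrictlyGE a _ (by omega), L.isZero_of_isStrictlyGE a _ (by omega)⟩
  · intro a hK hL
    refine ⟨a + 1, ?_⟩
    rw [CochainComplex.isStrictlyLE_iff]
    intro i hi
    refine IsZero.of_iso ?_ ((HomologicalComplex.eval V (ComplexShape.up ℤ) i).mapBiprod _ _)
    simp only [HomologicalComplex.eval_obj, biprod_isZero_iff]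
    refine ⟨K.isZero_of_isStrictlyLE a i (by omega), ?_⟩
    show IsZero ((CochainComplex.mappingCone (𝟙 L)).X (i + -1))
    rw [CochainComplex.mappingCone.isZero_X_iff]
    exact ⟨L.isZero_of_isStrictlyLE a _ (by omega), L.isZero_of_isStrictlyLE a _ (by omega)⟩

end Groth.Agent.S6599
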