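import Groth.Statements.S6600
import Mathlib.CategoryTheory.Triangulated.Orthogonal

set_option autoImplicit false
universe v u
open CohDer

namespace Groth.Agent.S6600

open CategoryTheory CategoryTheory.Limits CategoryTheory.Pretriangulated

theorem result {D : Type u} [Category.{v} D] [Preadditive D] [HasZeroObject D] [HasShift D ℤ]
    [∀ n : ℤ, (shiftFunctor D n).Additive] [Pretriangulated D] [IsTriangulated D]
    (P : ObjectProperty D) [P.IsStableUnderShift ℤ] (T : Triangle D) (hT : T ∈ distinguishedTriangles) :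
    P.rightOrthogonal T.obj₃ ↔ ∀ A : D, P A → Function.Bijective (fun u : A ⟶ T.obj₁ => u ≫ T.mor₁) := by
  constructor
  · intro h A hA
    constructor
    · intro u u' huu'
      dsimp only at huu'
      have hw : (u - u') ≫ T.invRotate.mor₂ = 0 := by
        change (u - u') ≫ T.mor₁ = 0
        rw [Preadditive.sub_comp, huu', sub_self]
      obtain ⟨g, hg⟩ := Triangle.coyoneda_exact₂ T.invRotate (inv_rot_of_distTriang _ hT) (u - u') hw
      have h' : P.rightOrthogonal (T.invRotate.obj₁) :=
        P.rightOrthogonal.le_shift (-1 : ℤ) _ h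
      rw [h' g hA, zero_comp] at hg
      exact sub_eq_zero.mp hg
    · intro v
      have hv : v ≫ T.mor₂ = 0 := h _ hA
      obtain ⟨u, hu⟩ := Triangle.coyoneda_exact₂ T hT v hv
      exact ⟨u, hu.symm⟩
  · intro h A f hA
    -- step 1
    have h1 : f ≫ T.mor₃ = 0 := by
      obtain ⟨g, hg⟩ := ((shiftEquiv D (1 : ℤ)).symm.toAdjunction.homEquiv _ _).surjective
        (f ≫ T.mor₃)
      have hA' : P ((shiftFunctor D (-1 : ℤ)).obj A) := P.le_shift (-1 : ℤ) _ hA
      have h2 : ((shiftEquiv D (1 : ℤ)).symm.toAdjunction.homEquiv _ _) (g ≫ T.mor₁) = 0 := by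
        rw [Adjunction.homEquiv_naturality_right, hg, Category.assoc]
        have := comp_distTriang_mor_zero₃₁ _ hT
        exact (by rw [this, comp_zero] : f ≫ T.mor₃ ≫ (shiftFunctor D (1 : ℤ)).map T.mor₁ = 0)
      have h3 : g ≫ T.mor₁ = 0 := by
        apply ((shiftEquiv D (1 : ℤ)).symm.toAdjunction.homEquiv _ _).injective
        rw [h2]
        simp [Adjunction.homEquiv_unit]
      have h4 : g = 0 := (h _ hA').1 (h3.trans zero_comp.symm)
      refine hg.symm.trans ?_
      rw [h4]
      simp [Adjunction.homEquiv_unit]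
      rfl
    obtain ⟨v, hv⟩ := Triangle.coyoneda_exact₃ T hT f h1
    obtain ⟨u, hu⟩ := (h A hA).2 v
    dsimp only at hu
    rw [hv, ← hu, Category.assoc, comp_distTriang_mor_zero₁₂ _ hT, comp_zero]
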