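import Groth.Statements.S6602
import Groth.Agent.Lib.Helper17.TriOrth

set_option autoImplicit false
universe v u
open CategoryTheory CategoryTheory.Limits
open CohDer

namespace Groth.Agent.S6602

open CategoryTheory.Pretriangulated in
/-- (1) ⇔ (2): let D be a triangulated category and B a full triangulated subcategory. The inclusion
functor B → D has a left adjoint if and only if for every X in D there is a distinguished triangle A
→ X → B → A⟦1⟧ with B in B and A in the left orthogonal ^⊥B. (The published statement further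
asserts that B is then saturated and, when strictly full, equals the right orthogonal of its left
orthogonal; this row asserts only the equivalence.) -/
theorem result {D : Type u} [Category.{v} D] [Preadditive D] [HasZeroObject D] [HasShift D ℤ]
    [∀ n : ℤ, (shiftFunctor D n).Additive] [Pretriangulated D] [IsTriangulated D]
    (P : ObjectProperty D) [P.IsTriangulated] :
    P.ι.IsRightAdjoint ↔ ∀ X : D, ∃ (A B : D) (f : A ⟶ X) (g : X ⟶ B) (h : B ⟶ (shiftFunctor D (1 : ℤ)).obj A),
      Triangle.mk f g h ∈ distinguishedTriangles ∧ P B ∧ P.leftOrthogonal A := by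
  constructor
  · intro hR X
    let L := P.ι.leftAdjoint
    let adj : L ⊣ P.ι := Adjunction.ofIsRightAdjoint P.ι
    obtain ⟨A, f, h, hT⟩ := distinguished_cocone_triangle₁ (adj.unit.app X)
    refine ⟨A, (L.obj X).obj, f, adj.unit.app X, h, hT, (L.obj X).property, ?_⟩
    apply Groth.Agent.Helper17.TriOrth.leftOrthogonal_of_bijective P
      (Triangle.mk f (adj.unit.app X) h) hT
    intro B' hB'
    let Y : P.FullSubcategory := ⟨B', hB'⟩
    constructor
    · intro u₁ u₂ hu
      dsimp only [Triangle.mk_obj₃, Triangle.mk_mor₂] at hu u₁ u₂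
      obtain ⟨v₁, hv₁⟩ := P.ι.map_surjective (X := L.obj X) (Y := Y) u₁
      obtain ⟨v₂, hv₂⟩ := P.ι.map_surjective (X := L.obj X) (Y := Y) u₂
      have hv : v₁ = v₂ := by
        apply (adj.homEquiv X Y).injective
        rw [Adjunction.homEquiv_unit, Adjunction.homEquiv_unit, hv₁, hv₂]
        exact hu
      rw [← hv₁, ← hv₂, hv]
    · intro (v : X ⟶ P.ι.obj Y)
      refine ⟨P.ι.map ((adj.homEquiv X Y).symm v), ?_⟩
      show adj.unit.app X ≫ P.ι.map ((adj.homEquiv X Y).symm v) = v
      have h5 := adj.homEquiv_unit (X := X) (Y := Y) (f := (adj.homEquiv X Y).symm v)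
      rw [Equiv.apply_symm_apply] at h5
      exact h5.symm
  · intro hex
    choose A B f g h hT hB hA using hex
    let e : ∀ (X : D) (Y : P.FullSubcategory),
        ((⟨B X, hB X⟩ : P.FullSubcategory) ⟶ Y) ≃ (X ⟶ P.ι.obj Y) :=
      fun X Y => Equiv.ofBijective (fun u => g X ≫ P.ι.map u) (by
        have h1 := Groth.Agent.Helper17.TriOrth.bijective_of_leftOrthogonal P
          (Triangle.mk (f X) (g X) (h X)) (hT X) (hA X) Y.obj Y.property
        have h2 : Function.Bijective
            (fun u : (⟨B X, hB X⟩ : P.FullSubcategory) ⟶ Y => P.ι.map u) :=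
          P.fullyFaithfulι.map_bijective _ _
        exact h1.comp h2)
    have he : ∀ (X : D) (Y Y' : P.FullSubcategory) (k : Y ⟶ Y')
        (u : (⟨B X, hB X⟩ : P.FullSubcategory) ⟶ Y),
        e X Y' (u ≫ k) = e X Y u ≫ P.ι.map k := by
      intro X Y Y' k u
      show g X ≫ P.ι.map (u ≫ k) = (g X ≫ P.ι.map u) ≫ P.ι.map k
      rw [Functor.map_comp, Category.assoc]
    exact (Adjunction.adjunctionOfEquivLeft e he).isRightAdjoint

end Groth.Agent.S6602
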