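import Groth.Statements.S6603
import Groth.Agent.Lib.Helper17.LocTri

set_option autoImplicit false
universe v u v' u'
open CategoryTheory CategoryTheory.Limits
open CohDer

namespace Groth.Agent.S6603

open CategoryTheory.Pretriangulated in
/-- (1) ⇔ (2) ⇔ (3) ⇔ (4): let D be a pretriangulated category, S a multiplicative system compatible
with the triangulated structure, and Q : D → S⁻¹D the localization functor. For an object Z of D the
following are equivalent: (1) Q(Z) = 0; (2) 0 : Z ⟶ Z' is in S for some Z'; (3) 0 : Z' ⟶ Z is in S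
for some Z'; (4) there are an object Z' and a distinguished triangle (X, Y, Z ⊞ Z', f, g, h) with f
∈ S. (The further equivalences (5)–(7) for saturated S are not asserted.) -/
theorem result {D : Type u} [Category.{v} D] [Preadditive D] [HasZeroObject D] [HasShift D ℤ]
    [∀ n : ℤ, (shiftFunctor D n).Additive] [Pretriangulated D]
    (S : MorphismProperty D) [S.HasLeftCalculusOfFractions] [S.HasRightCalculusOfFractions]
    [S.IsCompatibleWithTriangulation]
    {E : Type u'} [Category.{v'} E] (Q : D ⥤ E) [Q.IsLocalization S] (Z : D) :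
    (IsZero (Q.obj Z) ↔ ∃ Z' : D, S (0 : Z ⟶ Z')) ∧
    (IsZero (Q.obj Z) ↔ ∃ Z' : D, S (0 : Z' ⟶ Z)) ∧
    (IsZero (Q.obj Z) ↔ ∃ (Z' X Y : D) (f : X ⟶ Y) (g : Y ⟶ Z ⊞ Z') (h : Z ⊞ Z' ⟶ (shiftFunctor D (1 : ℤ)).obj X),
      Triangle.mk f g h ∈ distinguishedTriangles ∧ S f) := by
  have h1 : IsZero (Q.obj Z) ↔ ∃ Z' : D, S (0 : Z ⟶ Z') := by
    constructor
    · intro hZ
      obtain ⟨Z', s, hs, hs'⟩ := (MorphismProperty.map_eq_iff_postcomp Q S (𝟙 Z) (0 : Z ⟶ Z)).1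
        (hZ.eq_of_src _ _)
      rw [Category.id_comp, zero_comp] at hs'
      exact ⟨Z', hs' ▸ hs⟩
    · rintro ⟨Z', h⟩
      exact Groth.Agent.Helper17.LocTri.isZero_of_zero_mem_left S Q h
  have h2 : IsZero (Q.obj Z) ↔ ∃ Z' : D, S (0 : Z' ⟶ Z) := by
    constructor
    · intro hZ
      obtain ⟨Z', s, hs, hs'⟩ := (MorphismProperty.map_eq_iff_precomp Q S (𝟙 Z) (0 : Z ⟶ Z)).1
        (hZ.eq_of_src _ _)
      rw [Category.comp_id, comp_zero] at hs'
      exact ⟨Z', hs' ▸ hs⟩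
    · rintro ⟨Z', h⟩
      exact Groth.Agent.Helper17.LocTri.isZero_of_zero_mem_right S Q h
  refine ⟨h1, h2, ?_⟩
  constructor
  · intro hZ
    obtain ⟨W, h0⟩ := h2.1 hZ
    obtain ⟨C, g, h, hT⟩ := distinguished_cocone_triangle (0 : W ⟶ Z)
    obtain ⟨e, -, -⟩ := Groth.Agent.Helper17.LocTri.exists_iso_of_mor₁_zero g h hT
    refine ⟨(shiftFunctor D (1:ℤ)).obj W, W, Z, 0, g ≫ e.hom, e.inv ≫ h, ?_, h0⟩
    refine isomorphic_distinguished _ hT _
      (Triangle.isoMk _ _ (Iso.refl _) (Iso.refl _) e.symm ?_ ?_ ?_)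
    · show (0 : W ⟶ Z) ≫ 𝟙 Z = 𝟙 W ≫ (0 : W ⟶ Z)
      rw [zero_comp, comp_zero]
    · show (g ≫ e.hom) ≫ e.inv = 𝟙 Z ≫ g
      rw [Category.assoc, e.hom_inv_id, Category.comp_id, Category.id_comp]
    · show (e.inv ≫ h) ≫ (shiftFunctor D (1:ℤ)).map (𝟙 W) = e.inv ≫ h
      rw [CategoryTheory.Functor.map_id, Category.comp_id]
  · rintro ⟨Z', X, Y, f, g, h, hT, hf⟩
    have hiso : IsIso (Q.map f) := Localization.inverts Q S _ hf
    have hz : IsZero (Q.obj (Z ⊞ Z')) :=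
      (Groth.Agent.Helper17.LocTri.isZero_obj₃_iff_loc S Q (Triangle.mk f g h) hT).2 hiso
    exact Groth.Agent.Helper17.LocTri.isZero_of_retract (Q.map biprod.inl) (Q.map biprod.fst)
      (by rw [← Q.map_comp, biprod.inl_fst, Q.map_id]) hz

end Groth.Agent.S6603
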