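import Groth.Statements.S6604
import Groth.Agent.Lib.Helper17.LocTri

set_option autoImplicit false
universe v u v' u'
open CategoryTheory CategoryTheory.Limits
open CohDer
open ZeroObject

namespace Groth.Agent.S6604

/-- Let D be a triangulated category, B a full triangulated subcategory and Q : D → D/B the quotient
functor. Q sends an object Z of D to zero (Q(Z) = 0, i.e. Z belongs to the kernel of Q) exactly
when, for a suitable object Z' of D, the direct sum Z ⊞ Z' is isomorphic to some object lying in B;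
put differently, the kernel is the smallest saturated, strictly full triangulated subcategory that
contains B. -/
theorem result {D : Type u} [Category.{v} D] [Preadditive D] [HasZeroObject D] [HasShift D ℤ]
    [∀ n : ℤ, (shiftFunctor D n).Additive] [Pretriangulated D] [IsTriangulated D]
    (B : ObjectProperty D) [B.IsTriangulated]
    {E : Type u'} [Category.{v'} E] (Q : D ⥤ E) [Q.IsLocalization B.trW] (Z : D) :
    IsZero (Q.obj Z) ↔ ∃ (Z' Y : D), B Y ∧ Nonempty (Z ⊞ Z' ≅ Y) := by
  constructor
  · intro hZ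
    obtain ⟨W, s, hs, hs'⟩ := (MorphismProperty.map_eq_iff_precomp Q B.trW (𝟙 Z) (0 : Z ⟶ Z)).1
      (hZ.eq_of_src _ _)
    rw [Category.comp_id, comp_zero] at hs'
    subst hs'
    obtain ⟨Z₃, g, h, hT, hZ₃⟩ := hs
    obtain ⟨e, -, -⟩ := Groth.Agent.Helper17.LocTri.exists_iso_of_mor₁_zero g h hT
    exact ⟨(shiftFunctor D (1:ℤ)).obj W, Z₃, hZ₃, ⟨e.symm⟩⟩
  · rintro ⟨Z', Y, hY, ⟨e⟩⟩
    have htr : B.trW (0 : (0 : D) ⟶ Y) :=
      ObjectProperty.trW.mk B (CategoryTheory.Pretriangulated.contractible_distinguished₁ Y) hY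
    have hz : IsZero (Q.obj Y) :=
      Groth.Agent.Helper17.LocTri.isZero_of_zero_mem_right B.trW Q htr
    refine Groth.Agent.Helper17.LocTri.isZero_of_retract (Q.map (biprod.inl ≫ e.hom))
      (Q.map (e.inv ≫ biprod.fst)) ?_ hz
    rw [← Q.map_comp, Category.assoc, e.hom_inv_id_assoc, biprod.inl_fst, Q.map_id]

end Groth.Agent.S6604
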