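import Groth.Statements.S6607
import Mathlib

set_option autoImplicit false
universe v u
open CategoryTheory CategoryTheory.Limits
open CohDer

namespace Groth.Agent.S6607

open CategoryTheory.Pretriangulated in
/-- Let D be a triangulated category and B a full triangulated subcategory. Let P(X) be the property:
there is a distinguished triangle A → X → B → A⟦1⟧ with B in B and A in ^⊥B. Then P satisfies
two-out-of-three in distinguished triangles, i.e. it is stable under all shifts and closed under
extensions (a triangulated object property). -/
theorem result {D : Type u} [Category.{v} D] [Preadditive D] [HasZeroObject D] [HasShift D ℤ]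
    [∀ n : ℤ, (shiftFunctor D n).Additive] [Pretriangulated D] [IsTriangulated D]
    (B : ObjectProperty D) [B.IsTriangulated] :
    ObjectProperty.IsTriangulated (fun X : D => ∃ (A Y : D) (f : A ⟶ X) (g : X ⟶ Y) (h : Y ⟶ (shiftFunctor D (1 : ℤ)).obj A),
      Triangle.mk f g h ∈ distinguishedTriangles ∧ B Y ∧ B.leftOrthogonal A) := by
  have hEq : (fun X : D => ∃ (A Y : D) (f : A ⟶ X) (g : X ⟶ Y)
      (h : Y ⟶ (shiftFunctor D (1 : ℤ)).obj A),
      Triangle.mk f g h ∈ distinguishedTriangles ∧ B Y ∧ B.leftOrthogonal A) =
      ObjectProperty.extensionProduct B.leftOrthogonal B := by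
    funext X
    apply propext
    constructor
    · rintro ⟨A, Y, f, g, h, hT, hY, hA⟩; exact ⟨A, Y, f, g, h, hT, hA, hY⟩
    · rintro ⟨A, Y, f, g, h, hT, hA, hY⟩; exact ⟨A, Y, f, g, h, hT, hY, hA⟩
  rw [hEq]
  have hswap : ObjectProperty.extensionProduct B B.leftOrthogonal ≤
      ObjectProperty.extensionProduct B.leftOrthogonal B := by
    intro X ⟨Y, Z, f, g, h, hT, hY, hZ⟩
    have h0 : h = 0 := hZ h (B.le_shift 1 _ hY)
    obtain ⟨e, -, -⟩ := exists_iso_binaryBiproduct_of_distTriang _ hT h0
    have hmem : ObjectProperty.extensionProduct B.leftOrthogonal B (Z ⊞ Y) :=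
      ⟨Z, Y, biprod.inl, biprod.snd, 0, binaryBiproductTriangle_distinguished Z Y, hZ, hY⟩
    exact (ObjectProperty.extensionProduct B.leftOrthogonal B).prop_of_iso
      ((biprod.braiding Z Y) ≪≫ e.symm) hmem
  have hLL : ObjectProperty.extensionProduct B.leftOrthogonal B.leftOrthogonal ≤
      B.leftOrthogonal :=
    ObjectProperty.extensionProduct_le_of_isTriangulatedClosed₂ le_rfl le_rfl
  have hBB : ObjectProperty.extensionProduct B B ≤ B.isoClosure :=
    ObjectProperty.extensionProduct_le_of_isTriangulatedClosed₂' le_rfl le_rfl
  have hEE : ObjectProperty.extensionProduct (ObjectProperty.extensionProduct B.leftOrthogonal B)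
      (ObjectProperty.extensionProduct B.leftOrthogonal B) ≤
      ObjectProperty.extensionProduct B.leftOrthogonal B := by
    calc ObjectProperty.extensionProduct (ObjectProperty.extensionProduct B.leftOrthogonal B)
          (ObjectProperty.extensionProduct B.leftOrthogonal B)
        = ObjectProperty.extensionProduct B.leftOrthogonal
            (ObjectProperty.extensionProduct
              (ObjectProperty.extensionProduct B B.leftOrthogonal) B) := by
          rw [ObjectProperty.extensionProduct_assoc B.leftOrthogonal B
            (ObjectProperty.extensionProduct B.leftOrthogonal B),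
            ← ObjectProperty.extensionProduct_assoc B B.leftOrthogonal B]
      _ ≤ ObjectProperty.extensionProduct B.leftOrthogonal
            (ObjectProperty.extensionProduct
              (ObjectProperty.extensionProduct B.leftOrthogonal B) B) :=
          ObjectProperty.monotone_extensionProduct_right _
            (ObjectProperty.monotone_extensionProduct_left _ hswap)
      _ = ObjectProperty.extensionProduct
            (ObjectProperty.extensionProduct B.leftOrthogonal B.leftOrthogonal)
            (ObjectProperty.extensionProduct B B) := by
          rw [ObjectProperty.extensionProduct_assoc B.leftOrthogonal B B,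
            ← ObjectProperty.extensionProduct_assoc B.leftOrthogonal B.leftOrthogonal
              (ObjectProperty.extensionProduct B B)]
      _ ≤ ObjectProperty.extensionProduct B.leftOrthogonal B.isoClosure :=
          (ObjectProperty.monotone_extensionProduct_left _ hLL).trans
            (ObjectProperty.monotone_extensionProduct_right _ hBB)
      _ = ObjectProperty.extensionProduct B.leftOrthogonal B :=
          ObjectProperty.extensionProduct_isoClosure_right _ _
  haveI : (ObjectProperty.extensionProduct B.leftOrthogonal B).IsTriangulatedClosed₂ :=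
    ObjectProperty.IsTriangulatedClosed₂.mk' (fun T hT h₁ h₃ =>
      hEE _ ⟨T.obj₁, T.obj₃, T.mor₁, T.mor₂, T.mor₃, hT, h₁, h₃⟩)
  haveI : (ObjectProperty.extensionProduct B.leftOrthogonal B).ContainsZero := by
    obtain ⟨Z, hZ, hLZ⟩ := B.leftOrthogonal.exists_prop_of_containsZero
    exact ⟨⟨Z, hZ, ObjectProperty.le_extensionProduct_left B Z hLZ⟩⟩
  exact { }

end Groth.Agent.S6607
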