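import Groth.Statements.S6608
import Mathlib

set_option autoImplicit false
universe v u
open CategoryTheory CategoryTheory.Limits
open CohDer
open ZeroObject

namespace Groth.Agent.S6608

open CategoryTheory.Pretriangulated in
/-- Let D be a pretriangulated category and S a set of arrows of D containing the identities and
satisfying MS6 (compatibility with the triangulated structure; here together with stability under
shifts, MS5). Then every isomorphism of D lies in S. -/
theorem result {D : Type u} [Category.{v} D] [Preadditive D] [HasZeroObject D] [HasShift D ℤ]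
    [∀ n : ℤ, (shiftFunctor D n).Additive] [Pretriangulated D]
    (S : MorphismProperty D) [S.ContainsIdentities] [S.IsCompatibleWithTriangulation]
    {X Y : D} (f : X ⟶ Y) [IsIso f] : S f := by
  let T₁ : Triangle D := Triangle.mk (0 : (0 : D) ⟶ X) (𝟙 X) 0
  let T₂ : Triangle D := Triangle.mk (0 : (0 : D) ⟶ X) f 0
  have hT₁ : T₁ ∈ distinguishedTriangles := contractible_distinguished₁ X
  have hT₂ : T₂ ∈ distinguishedTriangles :=
    isomorphic_distinguished _ hT₁ _ (Triangle.isoMk T₂ T₁ (Iso.refl _) (Iso.refl _)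
      (asIso f).symm
      (by
        show (0 : (0 : D) ⟶ X) ≫ 𝟙 X = 𝟙 (0 : D) ≫ (0 : (0 : D) ⟶ X)
        rw [zero_comp, comp_zero])
      (by
        show f ≫ inv f = 𝟙 X ≫ 𝟙 X
        rw [IsIso.hom_inv_id, Category.id_comp])
      (by
        show (0 : Y ⟶ (shiftFunctor D (1:ℤ)).obj (0 : D)) ≫
          (shiftFunctor D (1:ℤ)).map (𝟙 (0 : D)) = inv f ≫ (0 : X ⟶ (shiftFunctor D (1:ℤ)).obj (0 : D))
        rw [zero_comp, comp_zero]))
  obtain ⟨c, hc, h1, -⟩ := MorphismProperty.compatible_with_triangulation T₁ T₂ hT₁ hT₂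
    (𝟙 _) (𝟙 _) (S.id_mem _) (S.id_mem _) (by
      show (0 : (0 : D) ⟶ X) ≫ 𝟙 X = 𝟙 (0 : D) ≫ (0 : (0 : D) ⟶ X)
      rw [zero_comp, comp_zero])
  have hcf : c = f := by
    have h3 : 𝟙 X ≫ c = 𝟙 X ≫ f := h1
    rwa [Category.id_comp, Category.id_comp] at h3
  rw [← hcf]; exact hc

end Groth.Agent.S6608
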