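import Groth.Statements.S6610
import Groth.Agent.S1123
import Groth.Agent.Lib.Helper22.OpCx

set_option autoImplicit false
universe v u
open CategoryTheory CategoryTheory.Limits
open CohDer

namespace Groth.Agent.S6610

open Opposite Groth.Agent.Helper22.OpCx

/-- Let A be an abelian category with enough projectives and S : 0 → A• → B• → C• → 0 a short exact
sequence of cochain complexes all vanishing above degree n. Then there are a short exact sequence T
: 0 → P₁ → P₂ → P₃ → 0 of complexes of projective objects vanishing above degree n and a morphism of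
short exact sequences T ⟶ S whose three components are quasi-isomorphisms (projective resolutions).
(The published statement is phrased for bounded below complexes; projective resolutions are bounded
above by definition and exist only for complexes with cohomology bounded above, so the statement is
given here for bounded above complexes, the case dual to the injective one.) -/
theorem result {A : Type u} [Category.{v} A] [Abelian A] [EnoughProjectives A]
    (S : ShortComplex (CochainComplex A ℤ)) (hS : S.ShortExact) (n : ℤ)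
    [S.X₁.IsStrictlyLE n] [S.X₂.IsStrictlyLE n] [S.X₃.IsStrictlyLE n] :
    ∃ (T : ShortComplex (CochainComplex A ℤ)) (φ : T ⟶ S), T.ShortExact ∧
      T.X₁.IsStrictlyLE n ∧ T.X₂.IsStrictlyLE n ∧ T.X₃.IsStrictlyLE n ∧
      (∀ k : ℤ, Projective (T.X₁.X k) ∧ Projective (T.X₂.X k) ∧ Projective (T.X₃.X k)) ∧
      QuasiIso φ.τ₁ ∧ QuasiIso φ.τ₂ ∧ QuasiIso φ.τ₃ := by
  haveI : (opSC S).X₁.IsStrictlyGE (-n) := opCx_isStrictlyGE S.X₃ n (-n) (by omega)
  haveI : (opSC S).X₂.IsStrictlyGE (-n) := opCx_isStrictlyGE S.X₂ n (-n) (by omega)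
  haveI : (opSC S).X₃.IsStrictlyGE (-n) := opCx_isStrictlyGE S.X₁ n (-n) (by omega)
  obtain ⟨T', φ', hT', h1, h2, h3, hinj, q1, q2, q3⟩ :=
    Groth.Agent.S1123.result (opSC S) (opSC_shortExact hS) (-n)
  haveI := h1
  haveI := h2
  haveI := h3
  have c12 : (unopMap φ'.τ₃ ≫ (η S.X₁).hom) ≫ S.f =
      (unopSC T').f ≫ unopMap φ'.τ₂ ≫ (η S.X₂).hom := by
    have e : opMap S.f ≫ φ'.τ₃ = φ'.τ₂ ≫ T'.g := φ'.comm₂₃.symm
    show (unopMap φ'.τ₃ ≫ (η S.X₁).hom) ≫ S.f = unopMap T'.g ≫ unopMap φ'.τ₂ ≫ (η S.X₂).hom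
    rw [Category.assoc, ← η_naturality S.f, ← Category.assoc, ← Category.assoc, ← unopMap_comp,
      ← unopMap_comp, e]
  have c23 : (unopMap φ'.τ₂ ≫ (η S.X₂).hom) ≫ S.g =
      (unopSC T').g ≫ unopMap φ'.τ₁ ≫ (η S.X₃).hom := by
    have e : opMap S.g ≫ φ'.τ₂ = φ'.τ₁ ≫ T'.f := φ'.comm₁₂.symm
    show (unopMap φ'.τ₂ ≫ (η S.X₂).hom) ≫ S.g = unopMap T'.f ≫ unopMap φ'.τ₁ ≫ (η S.X₃).hom
    rw [Category.assoc, ← η_naturality S.g, ← Category.assoc, ← Category.assoc, ← unopMap_comp,
      ← unopMap_comp, e]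
  let φ : unopSC T' ⟶ S :=
    { τ₁ := unopMap φ'.τ₃ ≫ (η S.X₁).hom
      τ₂ := unopMap φ'.τ₂ ≫ (η S.X₂).hom
      τ₃ := unopMap φ'.τ₁ ≫ (η S.X₃).hom
      comm₁₂ := c12
      comm₂₃ := c23 }
  refine ⟨unopSC T', φ, unopSC_shortExact hT', unopCx_isStrictlyLE T'.X₃ (-n) n (by omega),
    unopCx_isStrictlyLE T'.X₂ (-n) n (by omega), unopCx_isStrictlyLE T'.X₁ (-n) n (by omega),
    fun k => ?_, ?_, ?_, ?_⟩
  · obtain ⟨i1, i2, i3⟩ := hinj (-k)
    exact ⟨(inferInstance : Projective (unop (T'.X₃.X (-k)))),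
      (inferInstance : Projective (unop (T'.X₂.X (-k)))),
      (inferInstance : Projective (unop (T'.X₁.X (-k))))⟩
  · haveI := q3
    haveI := quasiIso_unopMap φ'.τ₃
    exact (inferInstance : QuasiIso (unopMap φ'.τ₃ ≫ (η S.X₁).hom))
  · haveI := q2
    haveI := quasiIso_unopMap φ'.τ₂
    exact (inferInstance : QuasiIso (unopMap φ'.τ₂ ≫ (η S.X₂).hom))
  · haveI := q1
    haveI := quasiIso_unopMap φ'.τ₁
    exact (inferInstance : QuasiIso (unopMap φ'.τ₁ ≫ (η S.X₃).hom))

end Groth.Agent.S6610
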