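import Groth.Statements.S6611
import Mathlib
open CochainComplex HomComplex

set_option autoImplicit false
universe v u
open CategoryTheory CategoryTheory.Limits
open CohDer

namespace Groth.Agent.S6611

/-- Let A be an abelian category, α : K ⟶ L a quasi-isomorphism of cochain complexes which is injective
in every degree, I a bounded below complex of injective objects and γ : K ⟶ I a morphism. Then there
is a morphism β : L ⟶ I with α ≫ β = γ. -/
theorem result {A : Type u} [Category.{v} A] [Abelian A]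
    (K L I : CochainComplex A ℤ) (α : K ⟶ L) [QuasiIso α] (hα : ∀ n : ℤ, Mono (α.f n))
    (a : ℤ) [I.IsStrictlyGE a] (hI : ∀ n : ℤ, Injective (I.X n)) (γ : K ⟶ I) :
    ∃ β : L ⟶ I, α ≫ β = γ := by
  classical
  haveI := hI
  haveI : I.IsKInjective := CochainComplex.isKInjective_of_injective I a
  haveI : Mono α := HomologicalComplex.mono_of_mono_f α hα
  let S : ShortComplex (CochainComplex A ℤ) :=
    ShortComplex.mk α (cokernel.π α) (cokernel.condition α)
  have hS : S.ShortExact := { exact := ShortComplex.exact_cokernel α }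
  have hC : S.X₃.Acyclic := hS.acyclic_X₃ (inferInstanceAs (QuasiIso α))
  have hSn : ∀ n, (S.map (HomologicalComplex.eval A (ComplexShape.up ℤ) n)).ShortExact :=
    (HomologicalComplex.shortExact_iff_degreewise_shortExact S).1 hS
  have hepi : ∀ n, Epi ((cokernel.π α).f n) := fun n => (hSn n).epi_g
  have hzero : ∀ n, α.f n ≫ (cokernel.π α).f n = 0 := by
    intro n
    rw [← HomologicalComplex.comp_f, cokernel.condition, HomologicalComplex.zero_f]
  let β₀ : Cochain L I 0 := Cochain.ofHoms (fun n => Injective.factorThru (γ.f n) (α.f n))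
  have hβ₀ : (Cochain.ofHom α).comp β₀ (zero_add 0) = Cochain.ofHom γ := by
    apply Cochain.ext₀
    intro p
    rw [Cochain.zero_cochain_comp_v, Cochain.ofHom_v, Cochain.ofHom_v, Cochain.ofHoms_v,
      Injective.comp_factorThru]
  have h1 : (Cochain.ofHom α).comp (δ 0 1 β₀) (zero_add 1) = 0 := by
    rw [← δ_ofHom_comp, hβ₀, δ_ofHom]
  have h1v : ∀ (p q : ℤ) (hpq : p + 1 = q), α.f p ≫ (δ 0 1 β₀).v p q hpq = 0 := by
    intro p q hpq
    have := Cochain.congr_v h1 p q hpq
    rw [Cochain.zero_cochain_comp_v, Cochain.ofHom_v, Cochain.zero_v] at this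
    exact this
  let ζ : Cochain S.X₃ I 1 := Cochain.mk (fun p q hpq =>
    haveI : Epi (S.map (HomologicalComplex.eval A (ComplexShape.up ℤ) p)).g := (hSn p).epi_g
    (hSn p).exact.desc ((δ 0 1 β₀).v p q hpq) (h1v p q hpq))
  have hζ : (Cochain.ofHom (cokernel.π α)).comp ζ (zero_add 1) = δ 0 1 β₀ := by
    ext p q hpq
    rw [Cochain.zero_cochain_comp_v, Cochain.ofHom_v, Cochain.mk_v]
    haveI : Epi (S.map (HomologicalComplex.eval A (ComplexShape.up ℤ) p)).g := (hSn p).epi_g
    exact (hSn p).exact.g_desc ((δ 0 1 β₀).v p q hpq) (h1v p q hpq)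
  have hδζ : δ 1 2 ζ = 0 := by
    have h2 : (Cochain.ofHom (cokernel.π α)).comp (δ 1 2 ζ) (zero_add 2) = 0 := by
      rw [← δ_ofHom_comp, hζ, δ_δ]
    ext p q hpq
    have h3 := Cochain.congr_v h2 p q hpq
    rw [Cochain.zero_cochain_comp_v, Cochain.ofHom_v, Cochain.zero_v] at h3
    haveI := hepi p
    rw [Cochain.zero_v, ← cancel_epi ((cokernel.π α).f p), h3, comp_zero]
  obtain ⟨hh, hhh⟩ := CochainComplex.IsKInjective.eq_δ_of_cocycle
    (Cocycle.mk ζ 2 (by norm_num) hδζ) hC 0 (zero_add 1)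
  have hhh' : δ 0 1 hh = ζ := hhh
  let β' : Cochain L I 0 := β₀ - (Cochain.ofHom (cokernel.π α)).comp hh (zero_add 0)
  have hδβ' : δ 0 1 β' = 0 := by
    show δ 0 1 (β₀ - (Cochain.ofHom (cokernel.π α)).comp hh (zero_add 0)) = 0
    rw [δ_sub, δ_ofHom_comp, hhh', hζ, sub_self]
  refine ⟨Cocycle.homOf (Cocycle.mk β' 1 (zero_add 1) hδβ'), ?_⟩
  ext n
  rw [HomologicalComplex.comp_f, Cocycle.homOf_f]
  show α.f n ≫ (β₀ - (Cochain.ofHom (cokernel.π α)).comp hh (zero_add 0)).v n n (add_zero n) = γ.f n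
  rw [Cochain.sub_v, Cochain.zero_cochain_comp_v, Cochain.ofHom_v, Cochain.ofHoms_v,
    Preadditive.comp_sub, Injective.comp_factorThru, ← Category.assoc, hzero, zero_comp, sub_zero]

end Groth.Agent.S6611
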