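import Groth.Statements.S6612
import Mathlib

set_option autoImplicit false
universe v u
open CategoryTheory CategoryTheory.Limits
open CohDer

namespace Groth.Agent.S6612

/-- Let A be an additive category and 0 → A₂ → B₂ → C₂ → 0 a termwise split exact sequence of complexes.
Given a chain map b from a complex B₁ into B₂ and a chain map b' from B₂ into a complex B₃, suppose
that both composites b ≫ (B₂ → C₂) and (A₂ → B₂) ≫ b' are null-homotopic. Then b ≫ b' is homotopic
to zero. (The published statement has three termwise split sequences Aᵢ → Bᵢ → Cᵢ and asks both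
squares of each diagram to commute up to homotopy; this row keeps only the middle sequence and the
two conditions at B₂ that the argument uses, so it is more general.) -/
theorem result {V : Type u} [Category.{v} V] [Preadditive V] [HasBinaryBiproducts V]
    (S : ShortComplex (CochainComplex V ℤ))
    (σ : ∀ n : ℤ, (S.map (HomologicalComplex.eval V (ComplexShape.up ℤ) n)).Splitting)
    {B₁ B₃ : CochainComplex V ℤ} (b : B₁ ⟶ S.X₂) (b' : S.X₂ ⟶ B₃)
    (hb : Nonempty (Homotopy (b ≫ S.g) 0)) (hb' : Nonempty (Homotopy (S.f ≫ b') 0)) :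
    Nonempty (Homotopy (b ≫ b') 0) := by
  obtain ⟨H⟩ := hb
  obtain ⟨H'⟩ := hb'
  obtain ⟨r, s, hfr, hsg, hid⟩ : ∃ (r : ∀ i, S.X₂.X i ⟶ S.X₁.X i) (s : ∀ i, S.X₃.X i ⟶ S.X₂.X i),
      (∀ i, S.f.f i ≫ r i = 𝟙 _) ∧ (∀ i, s i ≫ S.g.f i = 𝟙 _) ∧
      (∀ i, r i ≫ S.f.f i + S.g.f i ≫ s i = 𝟙 _) :=
    ⟨fun k => (σ k).r, fun k => (σ k).s, fun k => (σ k).f_r, fun k => (σ k).s_g,
      fun k => (σ k).id⟩
  let θ : ∀ i j, B₁.X i ⟶ S.X₂.X j := fun i j => H.hom i j ≫ s j
  have hθ : ∀ i j, ¬ (ComplexShape.up ℤ).Rel j i → θ i j = 0 := fun i j hij => by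
    show H.hom i j ≫ s j = 0
    rw [H.zero i j hij, zero_comp]
  let n : B₁ ⟶ S.X₂ := Homotopy.nullHomotopicMap θ
  have hn : Homotopy n 0 := Homotopy.nullHomotopy θ hθ
  have hng : n ≫ S.g = b ≫ S.g := by
    show Homotopy.nullHomotopicMap θ ≫ S.g = b ≫ S.g
    rw [Homotopy.nullHomotopicMap_comp]
    have h2 : (fun i j => θ i j ≫ S.g.f j) = H.hom := by
      funext i j
      show (H.hom i j ≫ s j) ≫ S.g.f j = H.hom i j
      rw [Category.assoc, hsg, Category.comp_id]
    rw [h2]
    ext i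
    have h1 := H.comm i
    rw [HomologicalComplex.zero_f, add_zero] at h1
    rw [h1]
    rfl
  let bt : B₁ ⟶ S.X₂ := b - n
  have hbt : bt ≫ S.g = 0 := by
    show (b - n) ≫ S.g = 0
    rw [Preadditive.sub_comp, hng, sub_self]
  have hbtf : ∀ i, bt.f i ≫ r i ≫ S.f.f i = bt.f i := by
    intro i
    have h1 : bt.f i ≫ S.g.f i = 0 := by
      rw [← HomologicalComplex.comp_f, hbt, HomologicalComplex.zero_f]
    have h2 : r i ≫ S.f.f i = 𝟙 _ - S.g.f i ≫ s i := eq_sub_of_add_eq (hid i)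
    rw [h2, Preadditive.comp_sub, Category.comp_id, ← Category.assoc, h1, zero_comp, sub_zero]
  have hbtf' : ∀ i {W : V} (k : S.X₂.X i ⟶ W),
      bt.f i ≫ r i ≫ S.f.f i ≫ k = bt.f i ≫ k := by
    intro i W k
    rw [← Category.assoc (r i), ← Category.assoc (bt.f i), hbtf i]
  have hcancel : ∀ i {W : V} (x y : W ⟶ S.X₁.X i), x ≫ S.f.f i = y ≫ S.f.f i → x = y := by
    intro i W x y h
    have h1 := congrArg (fun z => z ≫ r i) h
    simp only [Category.assoc, hfr, Category.comp_id] at h1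
    exact h1
  let a : B₁ ⟶ S.X₁ :=
    { f := fun i => bt.f i ≫ r i
      comm' := fun i j _ => by
        apply hcancel j
        simp only [Category.assoc]
        rw [← S.f.comm i j, hbtf' i, hbtf j, bt.comm i j] }
  have haf : a ≫ S.f = bt := by
    ext i
    show (bt.f i ≫ r i) ≫ S.f.f i = bt.f i
    rw [Category.assoc]; exact hbtf i
  have h1 : Homotopy (bt ≫ b') 0 := by
    have h4 := H'.compLeft a
    exact (Homotopy.ofEq (by rw [← haf, Category.assoc])).trans
      (h4.trans (Homotopy.ofEq comp_zero))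
  have h2 : Homotopy (n ≫ b') 0 := (hn.compRight b').trans (Homotopy.ofEq zero_comp)
  have h3 : b ≫ b' = bt ≫ b' + n ≫ b' := by
    show b ≫ b' = (b - n) ≫ b' + n ≫ b'
    rw [Preadditive.sub_comp, sub_add_cancel]
  exact ⟨(Homotopy.ofEq h3).trans ((h1.add h2).trans (Homotopy.ofEq (add_zero 0)))⟩

end Groth.Agent.S6612
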