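import Groth.Statements.S6622
import Mathlib
open CategoryTheory.Pretriangulated

set_option autoImplicit false
universe v u
open CategoryTheory CategoryTheory.Limits
open CohDer
open ZeroObject

namespace Groth.Agent.S6622

theorem isStrictlyLE_zero {V : Type u} [Category.{v} V] [Preadditive V] [HasZeroObject V]
    (n : ℤ) : (0 : CochainComplex V ℤ).IsStrictlyLE n := by
  rw [CochainComplex.isStrictlyLE_iff]
  intro i _
  exact Functor.map_isZero (HomologicalComplex.eval V (ComplexShape.up ℤ) i) (isZero_zero _)

theorem isStrictlyGE_zero {V : Type u} [Category.{v} V] [Preadditive V] [HasZeroObject V]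
    (n : ℤ) : (0 : CochainComplex V ℤ).IsStrictlyGE n := by
  rw [CochainComplex.isStrictlyGE_iff]
  intro i _
  exact Functor.map_isZero (HomologicalComplex.eval V (ComplexShape.up ℤ) i) (isZero_zero _)

theorem isStrictlyLE_mappingCone {V : Type u} [Category.{v} V] [Preadditive V]
    [HasBinaryBiproducts V] {K L : CochainComplex V ℤ} (f : K ⟶ L)
    (n₁ n₂ n : ℤ) [K.IsStrictlyLE n₁] [L.IsStrictlyLE n₂] (h1 : n₁ - 1 ≤ n) (h2 : n₂ ≤ n) :
    (CochainComplex.mappingCone f).IsStrictlyLE n := by
  rw [CochainComplex.isStrictlyLE_iff]
  intro i hi
  rw [CochainComplex.mappingCone.isZero_X_iff]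
  exact ⟨K.isZero_of_isStrictlyLE n₁ _ (by lia), L.isZero_of_isStrictlyLE n₂ _ (by lia)⟩

/-- Let A be an additive category. The full subcategories K⁻(A) (complexes K with Kⁿ = 0 for n ≫ 0) and
Kᵇ(A) (Kⁿ = 0 for |n| ≫ 0) of the homotopy category K(A) are full triangulated subcategories. -/
theorem result {V : Type u} [Category.{v} V] [Preadditive V] [HasZeroObject V] [HasBinaryBiproducts V] :
    (ObjectProperty.IsTriangulated (fun K : HomotopyCategory V (ComplexShape.up ℤ) => ∃ n : ℤ, CochainComplex.IsStrictlyLE K.as n)) ∧
    (ObjectProperty.IsTriangulated (fun K : HomotopyCategory V (ComplexShape.up ℤ) =>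
      ∃ a b : ℤ, CochainComplex.IsStrictlyGE K.as a ∧ CochainComplex.IsStrictlyLE K.as b)) := by
  constructor
  · exact
      { toContainsZero := ⟨⟨(HomotopyCategory.quotient _ _).obj 0,
          Functor.map_isZero _ (isZero_zero _), 0, isStrictlyLE_zero 0⟩⟩
        toIsStableUnderShift :=
          { isStableUnderShiftBy := fun n =>
              { le_shift := fun K hK => by
                  obtain ⟨K : CochainComplex _ _, rfl⟩ := K.quotient_obj_surjective
                  obtain ⟨q, hq⟩ := hK
                  haveI : K.IsStrictlyLE q := hq
                  rw [ObjectProperty.prop_shift_iff, HomotopyCategory.shift_quotient_obj]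
                  exact ⟨q - n, K.isStrictlyLE_shift q n (q - n) (by lia)⟩ } }
        toIsTriangulatedClosed₂ :=
          haveI : ObjectProperty.IsStableUnderShift (fun K : HomotopyCategory V (ComplexShape.up ℤ) =>
              ∃ n : ℤ, CochainComplex.IsStrictlyLE K.as n) ℤ :=
            { isStableUnderShiftBy := fun n =>
              { le_shift := fun K hK => by
                  obtain ⟨K : CochainComplex _ _, rfl⟩ := K.quotient_obj_surjective
                  obtain ⟨q, hq⟩ := hK
                  haveI : K.IsStrictlyLE q := hq
                  rw [ObjectProperty.prop_shift_iff, HomotopyCategory.shift_quotient_obj]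
                  exact ⟨q - n, K.isStrictlyLE_shift q n (q - n) (by lia)⟩ } }
          haveI : ObjectProperty.IsTriangulatedClosed₃ (fun K : HomotopyCategory V (ComplexShape.up ℤ) =>
              ∃ n : ℤ, CochainComplex.IsStrictlyLE K.as n) :=
            { ext₃' := fun T hT h₁ h₂ => by
                obtain ⟨n₁, hn₁⟩ := h₁
                obtain ⟨n₂, hn₂⟩ := h₂
                haveI : CochainComplex.IsStrictlyLE T.obj₁.as n₁ := hn₁
                haveI : CochainComplex.IsStrictlyLE T.obj₂.as n₂ := hn₂
                obtain ⟨f : T.obj₁.as ⟶ T.obj₂.as, hf⟩ :=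
                  (HomotopyCategory.quotient _ _).map_surjective T.mor₁
                refine ⟨_, ?_,
                  ⟨Triangle.π₃.mapIso (isoTriangleOfIso₁₂ T _ hT
                    (HomotopyCategory.mappingCone_triangleh_distinguished f)
                    (Iso.refl _) (Iso.refl _) ?_)⟩⟩
                · exact ⟨max (n₁ - 1) n₂, isStrictlyLE_mappingCone f n₁ n₂ _
                    (le_max_left _ _) (le_max_right _ _)⟩
                · exact (Category.comp_id _).trans (hf.symm.trans (Category.id_comp _).symm) }
          .of_isTriangulatedClosed₃ }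
  · exact
      { toContainsZero := ⟨⟨(HomotopyCategory.quotient _ _).obj 0,
          Functor.map_isZero _ (isZero_zero _), 0, 0, isStrictlyGE_zero 0, isStrictlyLE_zero 0⟩⟩
        toIsStableUnderShift :=
          { isStableUnderShiftBy := fun n =>
              { le_shift := fun K hK => by
                  obtain ⟨K : CochainComplex _ _, rfl⟩ := K.quotient_obj_surjective
                  obtain ⟨p, q, hp, hq⟩ := hK
                  haveI : K.IsStrictlyGE p := hp
                  haveI : K.IsStrictlyLE q := hq
                  rw [ObjectProperty.prop_shift_iff, HomotopyCategory.shift_quotient_obj]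
                  exact ⟨p - n, q - n, K.isStrictlyGE_shift p n (p - n) (by lia),
                    K.isStrictlyLE_shift q n (q - n) (by lia)⟩ } }
        toIsTriangulatedClosed₂ :=
          haveI : ObjectProperty.IsStableUnderShift (fun K : HomotopyCategory V (ComplexShape.up ℤ) =>
              ∃ a b : ℤ, CochainComplex.IsStrictlyGE K.as a ∧ CochainComplex.IsStrictlyLE K.as b) ℤ :=
            { isStableUnderShiftBy := fun n =>
              { le_shift := fun K hK => by
                  obtain ⟨K : CochainComplex _ _, rfl⟩ := K.quotient_obj_surjective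
                  obtain ⟨p, q, hp, hq⟩ := hK
                  haveI : K.IsStrictlyGE p := hp
                  haveI : K.IsStrictlyLE q := hq
                  rw [ObjectProperty.prop_shift_iff, HomotopyCategory.shift_quotient_obj]
                  exact ⟨p - n, q - n, K.isStrictlyGE_shift p n (p - n) (by lia),
                    K.isStrictlyLE_shift q n (q - n) (by lia)⟩ } }
          haveI : ObjectProperty.IsTriangulatedClosed₃ (fun K : HomotopyCategory V (ComplexShape.up ℤ) =>
              ∃ a b : ℤ, CochainComplex.IsStrictlyGE K.as a ∧ CochainComplex.IsStrictlyLE K.as b) :=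
            { ext₃' := fun T hT h₁ h₂ => by
                obtain ⟨p₁, n₁, hp₁, hn₁⟩ := h₁
                obtain ⟨p₂, n₂, hp₂, hn₂⟩ := h₂
                haveI : CochainComplex.IsStrictlyLE T.obj₁.as n₁ := hn₁
                haveI : CochainComplex.IsStrictlyLE T.obj₂.as n₂ := hn₂
                haveI : CochainComplex.IsStrictlyGE T.obj₁.as p₁ := hp₁
                haveI : CochainComplex.IsStrictlyGE T.obj₂.as p₂ := hp₂
                obtain ⟨f : T.obj₁.as ⟶ T.obj₂.as, hf⟩ :=
                  (HomotopyCategory.quotient _ _).map_surjective T.mor₁
                refine ⟨_, ?_,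
                  ⟨Triangle.π₃.mapIso (isoTriangleOfIso₁₂ T _ hT
                    (HomotopyCategory.mappingCone_triangleh_distinguished f)
                    (Iso.refl _) (Iso.refl _) ?_)⟩⟩
                · exact ⟨min (p₁ - 1) p₂, max (n₁ - 1) n₂,
                    CochainComplex.isStrictlyGE_mappingCone f p₁ p₂ _
                      (by simp) (by simp),
                    isStrictlyLE_mappingCone f n₁ n₂ _
                      (le_max_left _ _) (le_max_right _ _)⟩
                · exact (Category.comp_id _).trans (hf.symm.trans (Category.id_comp _).symm) }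
          .of_isTriangulatedClosed₃ }

end Groth.Agent.S6622
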