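import Groth.Statements.S6623
-- import your own Groth.Agent.* helpers here

set_option autoImplicit false
universe v u
open CategoryTheory CategoryTheory.Limits
open CohDer

namespace Groth.Agent.S6623

section Helper

open CategoryTheory.Pretriangulated

variable {D : Type u} [Category.{v} D] [Preadditive D] [HasZeroObject D] [HasShift D ℤ]
    [∀ n : ℤ, (shiftFunctor D n).Additive] [Pretriangulated D]

lemma eq_zero_of_tri {Y' Xk Yk : D} (a' : Y' ⟶ Xk) (b : Xk ⟶ Yk) (c : Yk ⟶ Y'⟦(1 : ℤ)⟧)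
    (hT : Triangle.mk a' b c ∈ distTriang D) {A : D} (hA : ∀ ψ : A⟦(1 : ℤ)⟧ ⟶ Yk, ψ = 0)
    (φ : A ⟶ Y') (hφ : φ ≫ a' = 0) : φ = 0 := by
  obtain ⟨g, hg⟩ := Triangle.coyoneda_exact₁ _ hT (φ⟦(1 : ℤ)⟧') (by
    change φ⟦(1 : ℤ)⟧' ≫ a'⟦(1 : ℤ)⟧' = 0
    rw [← Functor.map_comp, hφ, Functor.map_zero])
  have h0 : φ⟦(1 : ℤ)⟧' = 0 := hg.trans (by rw [show g = 0 from hA g]; exact zero_comp)
  exact (shiftFunctor D (1 : ℤ)).map_injective (by rw [h0, Functor.map_zero])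

lemma exists_fac {Y₁ X₁ Y₀ Z : D} (a : Y₁ ⟶ X₁) (b : X₁ ⟶ Y₀) (c : Y₀ ⟶ Y₁⟦(1 : ℤ)⟧)
    (hT : Triangle.mk a b c ∈ distTriang D) (w : Y₁ ⟶ Z) (hw : c ≫ w⟦(1 : ℤ)⟧' = 0) :
    ∃ u : X₁ ⟶ Z, w = a ≫ u := by
  have hT2 := rot_of_distTriang _ (rot_of_distTriang _ hT)
  obtain ⟨g, hg⟩ : ∃ g : X₁⟦(1 : ℤ)⟧ ⟶ Z⟦(1 : ℤ)⟧, w⟦(1 : ℤ)⟧' = (-a⟦(1 : ℤ)⟧') ≫ g :=
    Triangle.yoneda_exact₂ _ hT2 (w⟦(1 : ℤ)⟧') hw
  obtain ⟨g', hg'⟩ : ∃ g' : X₁ ⟶ Z, g'⟦(1 : ℤ)⟧' = g := (shiftFunctor D (1 : ℤ)).map_surjective g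
  refine ⟨-g', (shiftFunctor D (1 : ℤ)).map_injective ?_⟩
  rw [hg, ← hg']
  simp

lemma eq_zero_left {Y₁ X₁ Y₀ Z : D} (a : Y₁ ⟶ X₁) (b : X₁ ⟶ Y₀) (c : Y₀ ⟶ Y₁⟦(1 : ℤ)⟧)
    (hT : Triangle.mk a b c ∈ distTriang D) (h1 : ∀ ψ : X₁ ⟶ Z, ψ = 0)
    (h2 : ∀ ψ : Y₀ ⟶ Z⟦(1 : ℤ)⟧, ψ = 0) (ψ : Y₁ ⟶ Z) : ψ = 0 := by
  obtain ⟨u, hu⟩ := exists_fac a b c hT ψ (h2 _)
  rw [hu, h1 u, comp_zero]

lemma conv_right {A B : D} (s t : ℤ) (hst : t + s = 0) (h : ∀ ψ : A⟦s⟧ ⟶ B, ψ = 0)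
    (ψ : A ⟶ B⟦t⟧) : ψ = 0 := by
  have h1 := h (ψ⟦s⟧' ≫ (shiftFunctorCompIsoId D t s hst).hom.app B)
  have h2 : ψ⟦s⟧' = 0 :=
    (cancel_mono ((shiftFunctorCompIsoId D t s hst).hom.app B)).1 (h1.trans zero_comp.symm)
  exact (shiftFunctor D s).map_injective (h2.trans (Functor.map_zero _ _ _).symm)

lemma conv_left {A B : D} (s t : ℤ) (hst : s + t = 0) (h : ∀ ψ : A ⟶ B⟦t⟧, ψ = 0)
    (ψ : A⟦s⟧ ⟶ B) : ψ = 0 := by
  have h1 := h ((shiftFunctorCompIsoId D s t hst).inv.app A ≫ ψ⟦t⟧')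
  have h2 : ψ⟦t⟧' = 0 :=
    (cancel_epi ((shiftFunctorCompIsoId D s t hst).inv.app A)).1 (h1.trans comp_zero.symm)
  exact (shiftFunctor D t).map_injective (h2.trans (Functor.map_zero _ _ _).symm)

end Helper

open CategoryTheory.Pretriangulated in
/-- Let D be a triangulated category, φ : X ⟶ X' a morphism of chain complexes in D considered in
degrees ≤ n, where a Postnikov system for the complex X_n → … → X_0 consists of objects Y_k, an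
isomorphism Y_0 ⟶ X_0, and for 0 ≤ k < n distinguished triangles Y_{k+1} ⟶ X_{k+1} ⟶ Y_k ⟶
Y_{k+1}⟦1⟧ with X_{k+1} ⟶ Y_k ⟶ X_k the differential; let (Y, a, b, c) and (Y', a', b', c') be
Postnikov systems for X and X'. If Hom(X_{j-i}⟦1-i⟧, X'_j) = 0 and Hom(X_j, X'_{j-i}⟦-i⟧) = 0 for
all 0 < i ≤ j ≤ n, then there is at most one morphism of Postnikov systems extending φ: two such
morphisms agree on Y_k for every k ≤ n. -/
theorem result {D : Type u} [Category.{v} D] [Preadditive D] [HasZeroObject D] [HasShift D ℤ]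
    [∀ n : ℤ, (shiftFunctor D n).Additive] [Pretriangulated D] [IsTriangulated D]
    (X X' : ChainComplex D ℕ) (φ : X ⟶ X') (n : ℕ)
    (Y : ℕ → D) (a : ∀ k, Y k ⟶ X.X k) (b : ∀ k, X.X (k + 1) ⟶ Y k)
    (c : ∀ k, Y k ⟶ (shiftFunctor D (1 : ℤ)).obj (Y (k + 1)))
    (h0 : IsIso (a 0))
    (hP : ∀ k, k < n → Triangle.mk (a (k + 1)) (b k) (c k) ∈ distinguishedTriangles ∧ b k ≫ a k = X.d (k + 1) k)
    (qY : ℕ → D) (qa : ∀ k, qY k ⟶ X'.X k) (qb : ∀ k, X'.X (k + 1) ⟶ qY k)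
    (qc : ∀ k, qY k ⟶ (shiftFunctor D (1 : ℤ)).obj (qY (k + 1)))
    (qh0 : IsIso (qa 0))
    (qhP : ∀ k, k < n → Triangle.mk (qa (k + 1)) (qb k) (qc k) ∈ distinguishedTriangles ∧ qb k ≫ qa k = X'.d (k + 1) k)
    (hv : ∀ i j : ℕ, 0 < i → i ≤ j → j ≤ n →
      (∀ ψ : (shiftFunctor D (1 - (i : ℤ))).obj (X.X (j - i)) ⟶ X'.X j, ψ = 0) ∧
      (∀ ψ : X.X j ⟶ (shiftFunctor D (-(i : ℤ))).obj (X'.X (j - i)), ψ = 0))
    (y z : ∀ k, Y k ⟶ qY k)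
    (hy : (∀ k, k ≤ n → y k ≫ qa k = a k ≫ φ.f k) ∧
      (∀ k, k < n → b k ≫ y k = φ.f (k + 1) ≫ qb k ∧ c k ≫ (shiftFunctor D (1 : ℤ)).map (y (k + 1)) = y k ≫ qc k))
    (hz : (∀ k, k ≤ n → z k ≫ qa k = a k ≫ φ.f k) ∧
      (∀ k, k < n → b k ≫ z k = φ.f (k + 1) ≫ qb k ∧ c k ≫ (shiftFunctor D (1 : ℤ)).map (z (k + 1)) = z k ≫ qc k))
    (k : ℕ) (hk : k ≤ n) :
    y k = z k := by
  have hv2' : ∀ (m j : ℕ) (t : ℤ), m < j → j ≤ n → t = (m : ℤ) - (j : ℤ) →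
      ∀ ψ : X.X j ⟶ (shiftFunctor D t).obj (X'.X m), ψ = 0 := by
    intro m j t hmj hj ht
    have h := (hv (j - m) j (by omega) (by omega) hj).2
    have e : j - (j - m) = m := by omega
    rw [e] at h
    obtain rfl : t = -((j - m : ℕ) : ℤ) := by omega
    exact h
  have hv1' : ∀ (m j : ℕ) (s : ℤ), m < j → j ≤ n → s = 1 - ((j : ℤ) - (m : ℤ)) →
      ∀ ψ : (shiftFunctor D s).obj (X.X m) ⟶ X'.X j, ψ = 0 := by
    intro m j s hmj hj hs
    have h := (hv (j - m) j (by omega) (by omega) hj).1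
    have e : j - (j - m) = m := by omega
    rw [e] at h
    obtain rfl : s = 1 - ((j - m : ℕ) : ℤ) := by omega
    exact h
  -- dévissage A
  have hA : ∀ (j : ℕ), j ≤ n → ∀ m : ℕ, m < j → ∀ s : ℤ, s = (j : ℤ) - (m : ℤ) →
      ∀ ψ : (shiftFunctor D s).obj (X.X j) ⟶ qY m, ψ = 0 := by
    intro j hj m
    induction m with
    | zero =>
      intro hm s hs ψ
      have h1 : ψ ≫ qa 0 = 0 :=
        conv_left s (-s) (by omega) (hv2' 0 j (-s) hm hj (by omega)) _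
      exact (cancel_mono (qa 0)).1 (h1.trans zero_comp.symm)
    | succ m ih =>
      intro hm s hs ψ
      have hT := (qhP m (by omega)).1
      refine eq_zero_of_tri _ _ _ hT ?_ ψ ?_
      · intro ψ'
        have h := ih (by omega) (s + 1) (by push_cast at hs; omega)
          ((shiftFunctorAdd' D s 1 (s + 1) rfl).hom.app (X.X j) ≫ ψ')
        exact (cancel_epi _).1 (h.trans comp_zero.symm)
      · exact conv_left s (-s) (by omega) (hv2' (m + 1) j (-s) hm hj (by omega)) _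
  -- dévissage B
  have hB : ∀ (j : ℕ), j ≤ n → ∀ m : ℕ, m < j → ∀ t : ℤ, t = (j : ℤ) - 1 - (m : ℤ) →
      ∀ ψ : Y m ⟶ (shiftFunctor D t).obj (X'.X j), ψ = 0 := by
    intro j hj m
    induction m with
    | zero =>
      intro hm t ht ψ
      have h1 : inv (a 0) ≫ ψ = 0 :=
        conv_right (-t) t (by omega) (hv1' 0 j (-t) hm hj (by push_cast at ht; omega)) _
      exact (cancel_epi (inv (a 0))).1 (h1.trans comp_zero.symm)
    | succ m ih =>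
      intro hm t ht ψ
      have hT := (hP m (by omega)).1
      refine eq_zero_left _ _ _ hT ?_ ?_ ψ
      · exact conv_right (-t) t (by omega) (hv1' (m + 1) j (-t) hm hj (by push_cast at ht ⊢; omega))
      · intro ψ'
        have h := ih (by omega) (t + 1) (by push_cast at ht; omega)
          (ψ' ≫ (shiftFunctorAdd' D t 1 (t + 1) rfl).inv.app (X'.X j))
        exact (cancel_mono _).1 (h.trans zero_comp.symm)
  -- main induction
  induction k with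
  | zero =>
    have h1 : y 0 ≫ qa 0 = z 0 ≫ qa 0 := (hy.1 0 hk).trans (hz.1 0 hk).symm
    exact (cancel_mono (qa 0)).1 h1
  | succ k ih =>
    have ihk : y k = z k := ih (by omega)
    have hkn : k < n := by omega
    have hT := (hP k hkn).1
    have hqT := (qhP k hkn).1
    have hw1 : (y (k + 1) - z (k + 1)) ≫ qa (k + 1) = 0 := by
      rw [Preadditive.sub_comp, hy.1 (k + 1) hk, hz.1 (k + 1) hk, sub_self]
    have hw2 : c k ≫ (shiftFunctor D (1 : ℤ)).map (y (k + 1) - z (k + 1)) = 0 := by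
      rw [Functor.map_sub, Preadditive.comp_sub, (hy.2 k hkn).2, (hz.2 k hkn).2, ihk, sub_self]
    obtain ⟨u, hu⟩ := exists_fac _ _ _ hT (y (k + 1) - z (k + 1)) hw2
    have h3 : a (k + 1) ≫ (u ≫ qa (k + 1)) = 0 := by
      rw [← Category.assoc, ← hu, hw1]
    obtain ⟨t, ht⟩ : ∃ t : Y k ⟶ X'.X (k + 1), u ≫ qa (k + 1) = b k ≫ t :=
      Triangle.yoneda_exact₂ _ hT _ h3
    have ht0 : t = 0 := by
      have h := hB (k + 1) hk k (by omega) 0 (by push_cast; omega)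
        (t ≫ (shiftFunctorZero D ℤ).inv.app (X'.X (k + 1)))
      exact (cancel_mono _).1 (h.trans zero_comp.symm)
    have hu0 : u = 0 := by
      refine eq_zero_of_tri _ _ _ hqT ?_ u ?_
      · exact hA (k + 1) hk k (by omega) 1 (by push_cast; omega)
      · rw [ht, ht0, comp_zero]
    have : y (k + 1) - z (k + 1) = 0 := by rw [hu, hu0, comp_zero]
    exact sub_eq_zero.1 this

end Groth.Agent.S6623
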