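import Groth.Statements.S6626
-- import your own Groth.Agent.* helpers here

set_option autoImplicit false
open CategoryTheory CategoryTheory.Limits AlgebraicGeometry Opposite
universe u
open EtCore

namespace Groth.Agent.S6626

set_option backward.isDefEq.respectTransparency.types false in
/-- Restriction of a sheaf to an open and closed subscheme has a section (extension by zero). -/
theorem exists_section_of_clopen {X : Scheme.{u}}
    (F : Sheaf X.smallEtaleTopology AddCommGrpCat.{u + 1})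
    (P : X.Etale) (W : P.left.Opens) (hW : IsClosed (W : Set ↥P.left)) :
    ∃ σ : F.obj.obj (op (Scheme.Etale.mk (W.ι ≫ P.hom))) ⟶ F.obj.obj (op P),
      σ ≫ F.obj.map
        (MorphismProperty.Over.homMk W.ι rfl : Scheme.Etale.mk (W.ι ≫ P.hom) ⟶ P).op = 𝟙 _ := by
  have eX : X.smallEtaleTopology =
      (X.smallPretopology (P := EtCoh.etaleMP) (Q := EtCoh.etaleMP)).toGrothendieck :=
    Scheme.smallGrothendieckTopology_eq_toGrothendieck_smallPretopology X le_rfl
  let Wc : P.left.Opens := ⟨(W : Set ↥P.left)ᶜ, hW.isOpen_compl⟩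
  let Wo : X.Etale := Scheme.Etale.mk (W.ι ≫ P.hom)
  let Wco : X.Etale := Scheme.Etale.mk (Wc.ι ≫ P.hom)
  let i : Wo ⟶ P := MorphismProperty.Over.homMk W.ι rfl
  let ic : Wco ⟶ P := MorphismProperty.Over.homMk Wc.ι rfl
  let E : AddCommGrpCat.{u + 1} := F.obj.obj (op Wo)
  let Xf : Bool → X.Etale := fun b => cond b Wo Wco
  let ff : ∀ b, Xf b ⟶ P := fun b => Bool.rec (motive := fun b => Xf b ⟶ P) ic i b
  let xf : ∀ b, E ⟶ F.obj.obj (op (Xf b)) := fun b =>
    Bool.rec (motive := fun b => E ⟶ F.obj.obj (op (Xf b))) 0 (𝟙 _) b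
  have hcov : Sieve.ofArrows _ ff ∈ X.smallEtaleTopology P := by
    rw [Scheme.ofArrows_mem_smallEtaleTopology_iff]
    ext p
    simp only [Set.mem_iUnion, Set.mem_univ, iff_true]
    by_cases hp : p ∈ (W : Set ↥P.left)
    · refine ⟨true, ?_⟩
      show p ∈ Set.range W.ι
      rw [Scheme.Opens.range_ι]; exact hp
    · refine ⟨false, ?_⟩
      show p ∈ Set.range Wc.ι
      rw [Scheme.Opens.range_ι]; exact hp
  have hmixed : ∀ {Z : X.Etale} (a : Z ⟶ Wo) (b : Z ⟶ Wco), a ≫ i = b ≫ ic →
      ∀ (t₁ t₂ : E ⟶ F.obj.obj (op Z)), t₁ = t₂ := by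
    intro Z a b hab t₁ t₂
    have hab' : a.left ≫ W.ι = b.left ≫ Wc.ι := congrArg (fun t => t.left) hab
    have hbot : (⊥ : Sieve Z) ∈ X.smallEtaleTopology Z := by
      rw [eX]
      refine (Scheme.mem_toGrothendieck_smallPretopology Z ⊥).2 ?_
      intro z
      exfalso
      have h1 : W.ι (a.left z) ∈ Set.range W.ι := ⟨_, rfl⟩
      have h2 : Wc.ι (b.left z) ∈ Set.range Wc.ι := ⟨_, rfl⟩
      rw [Scheme.Opens.range_ι] at h1 h2
      have h3 : W.ι (a.left z) = Wc.ι (b.left z) :=
        congrArg (fun t : Z.left ⟶ P.left => t z) hab'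
      rw [h3] at h1
      exact h2 h1
    exact (Sheaf.isTerminalOfBotCover F Z hbot).hom_ext _ _
  have hx : ∀ ⦃Z : X.Etale⦄ ⦃b₁ b₂ : Bool⦄ (a : Z ⟶ Xf b₁) (b : Z ⟶ Xf b₂),
      a ≫ ff b₁ = b ≫ ff b₂ → xf b₁ ≫ F.obj.map a.op = xf b₂ ≫ F.obj.map b.op := by
    intro Z b₁ b₂ a b hab
    cases b₁ <;> cases b₂
    · show (0 : E ⟶ _) ≫ F.obj.map a.op = (0 : E ⟶ _) ≫ F.obj.map b.op
      rw [zero_comp, zero_comp]
    · exact (hmixed b a hab.symm _ _)
    · exact hmixed a b hab _ _
    · have hab' : a.left ≫ W.ι = b.left ≫ W.ι := congrArg (fun t => t.left) hab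
      have : a = b := MorphismProperty.Over.Hom.ext ((cancel_mono W.ι).1 hab')
      rw [this]
  refine ⟨F.property.amalgamateOfArrows ff hcov xf hx, ?_⟩
  exact F.property.amalgamateOfArrows_map ff hcov xf hx true

set_option backward.isDefEq.respectTransparency.types false in
theorem faithful_push {X Y : Scheme.{u}} (f : X ⟶ Y) (hA : BigSite.PropA f) :
    (EtCoh.push f).Faithful := by
  have eX : X.smallEtaleTopology =
      (X.smallPretopology (P := EtCoh.etaleMP) (Q := EtCoh.etaleMP)).toGrothendieck :=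
    Scheme.smallGrothendieckTopology_eq_toGrothendieck_smallPretopology X le_rfl
  constructor
  intro F G φ ψ hφψ
  have hval : ∀ V : Y.Etale, φ.hom.app (op ((EtCoh.bc f).obj V)) =
      ψ.hom.app (op ((EtCoh.bc f).obj V)) := fun V =>
    congrArg (fun t => t.hom.app (op V)) hφψ
  apply Sheaf.hom_ext
  apply NatTrans.ext
  funext U'
  obtain ⟨U⟩ := U'
  let S : Sieve U :=
    { arrows := fun Z k => F.obj.map k.op ≫ φ.hom.app (op Z) = F.obj.map k.op ≫ ψ.hom.app (op Z)
      downward_closed := by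
        intro Z Z' k hk m
        show F.obj.map (m ≫ k).op ≫ φ.hom.app (op Z') = F.obj.map (m ≫ k).op ≫ ψ.hom.app (op Z')
        rw [op_comp, Functor.map_comp, Category.assoc, Category.assoc, φ.hom.naturality,
          ψ.hom.naturality, reassoc_of% hk] }
  have hS : S ∈ X.smallEtaleTopology U := by
    rw [eX]
    refine (Scheme.mem_toGrothendieck_smallPretopology U S).2 ?_
    intro u
    obtain ⟨V, v, hv, W, hWcl, h, hh, hu⟩ := hA U.left U.hom u
    haveI : Etale v := hv
    obtain ⟨w0, hw0⟩ := hu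
    let Vo : Y.Etale := Scheme.Etale.mk v
    let P : X.Etale := Scheme.Etale.mk (pullback.fst f v)
    let j : P ≅ (EtCoh.bc f).obj Vo :=
      MorphismProperty.Over.isoMk (pullbackSymmetry f v) (pullbackSymmetry_hom_comp_snd f v)
    let Wo : X.Etale := Scheme.Etale.mk (W.ι ≫ pullback.fst f v)
    let i : Wo ⟶ P := MorphismProperty.Over.homMk W.ι rfl
    let k : Wo ⟶ U := MorphismProperty.Over.homMk h hh
    obtain ⟨σ, hσ⟩ := exists_section_of_clopen F P W hWcl
    have hP : φ.hom.app (op P) = ψ.hom.app (op P) := by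
      apply (cancel_epi (F.obj.map j.hom.op)).1
      rw [φ.hom.naturality, ψ.hom.naturality, hval]
    have hWo : φ.hom.app (op Wo) = ψ.hom.app (op Wo) := by
      have e1 : φ.hom.app (op Wo) = σ ≫ φ.hom.app (op P) ≫ G.obj.map i.op := by
        rw [← φ.hom.naturality, ← Category.assoc]
        show _ = (σ ≫ F.obj.map i.op) ≫ _
        rw [show σ ≫ F.obj.map i.op = 𝟙 _ from hσ]
        exact (Category.id_comp _).symm
      have e2 : ψ.hom.app (op Wo) = σ ≫ ψ.hom.app (op P) ≫ G.obj.map i.op := by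
        rw [← ψ.hom.naturality, ← Category.assoc]
        show _ = (σ ≫ F.obj.map i.op) ≫ _
        rw [show σ ≫ F.obj.map i.op = 𝟙 _ from hσ]
        exact (Category.id_comp _).symm
      rw [e1, e2, hP]
    refine ⟨Wo, k, w0, ?_, inferInstanceAs (Etale k.left), hw0⟩
    show F.obj.map k.op ≫ φ.hom.app (op Wo) = F.obj.map k.op ≫ ψ.hom.app (op Wo)
    rw [hWo]
  refine Presheaf.IsSheaf.hom_ext G.property ⟨S, hS⟩ _ _ ?_
  intro I
  rw [← φ.hom.naturality, ← ψ.hom.naturality]
  exact I.hf


/-- Let f : X ⟶ Y be a morphism of schemes satisfying condition (A) (for every etale U ⟶ X and every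
point u of U there are an etale V ⟶ Y, an open and closed subscheme W of X ×_Y V and an X-morphism W
⟶ U whose image contains u). Then, on abelian sheaves on the small etale sites, f_* reflects
monomorphisms and epimorphisms, the counit f⁻¹ f_* F ⟶ F is an epimorphism for every F, and f_* is
faithful. -/
theorem result {X Y : Scheme.{u}} (f : X ⟶ Y) (hA : BigSite.PropA f) :
    (EtCoh.push f).ReflectsMonomorphisms ∧ (EtCoh.push f).ReflectsEpimorphisms ∧
      (∀ F : EtCoh.Ab X, Epi ((EtCoh.pullPushAdj f).counit.app F)) ∧ (EtCoh.push f).Faithful := by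
  haveI := faithful_push f hA
  exact ⟨inferInstance, inferInstance, fun F => inferInstance, inferInstance⟩

end Groth.Agent.S6626
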