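import Groth.Statements.S6629
-- import your own Groth.Agent.* helpers here

set_option autoImplicit false
open CategoryTheory CategoryTheory.Limits AlgebraicGeometry Opposite
universe u
open EtDesc

namespace Groth.Agent.S6629

set_option backward.isDefEq.respectTransparency.types false in
/-- Let f : X ⟶ Y be a morphism of schemes satisfying condition (B) (for every etale V ⟶ Y and every
etale covering of X ×_Y V there is an etale covering of V by schemes V_j such that each X ×_Y V_j is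
a disjoint union of open subschemes each mapping into X ×_Y V through a member of the given
covering). Then the direct image of sheaves of sets on the small etale sites along f sends
epimorphisms to epimorphisms. -/
theorem result {X Y : Scheme.{u}} (f : X ⟶ Y) (hB : BigSite.PropB f) :
    (EtDesc.pushSh f).PreservesEpimorphisms := by
  have eY : Y.smallEtaleTopology =
      (Y.smallPretopology (P := EtCoh.etaleMP) (Q := EtCoh.etaleMP)).toGrothendieck :=
    Scheme.smallGrothendieckTopology_eq_toGrothendieck_smallPretopology Y le_rfl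
  have eX : X.smallEtaleTopology =
      (X.smallPretopology (P := EtCoh.etaleMP) (Q := EtCoh.etaleMP)).toGrothendieck :=
    Scheme.smallGrothendieckTopology_eq_toGrothendieck_smallPretopology X le_rfl
  refine ⟨fun {F G} φ hφ => ?_⟩
  haveI := hφ
  have hls : Sheaf.IsLocallySurjective φ := (Sheaf.isLocallySurjective_iff_epi φ).2 inferInstance
  suffices Sheaf.IsLocallySurjective ((EtDesc.pushSh f).map φ) from inferInstance
  refine ⟨fun {V} t => ?_⟩
  let t' : G.obj.obj (op ((EtCoh.bc f).obj V)) := t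
  have hT : Presheaf.imageSieve φ.hom t' ∈ X.smallEtaleTopology ((EtCoh.bc f).obj V) :=
    Presheaf.imageSieve_mem X.smallEtaleTopology φ.hom (U := op ((EtCoh.bc f).obj V)) t'
  have keyX : ∀ (U : X.Etale) (S : Sieve U), S ∈ X.smallEtaleTopology U →
      S ∈ (X.smallPretopology (P := EtCoh.etaleMP) (Q := EtCoh.etaleMP)).toGrothendieck U :=
    fun U S hS => by rw [← eX]; exact hS
  have keyY : ∀ (S : Sieve V),
      S ∈ (Y.smallPretopology (P := EtCoh.etaleMP) (Q := EtCoh.etaleMP)).toGrothendieck V →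
      S ∈ Y.smallEtaleTopology V :=
    fun S hS => by rw [eY]; exact hS
  have hT' := (Scheme.mem_toGrothendieck_smallPretopology _ _).1 (keyX _ _ hT)
  choose Ux gx yx hgT hget hgy using hT'
  choose rx hrx using hgT
  let sym : pullback f V.hom ≅ pullback V.hom f := pullbackSymmetry f V.hom
  have hs1 : sym.hom ≫ pullback.fst V.hom f = pullback.snd f V.hom :=
    pullbackSymmetry_hom_comp_fst f V.hom
  have hs2 : sym.hom ≫ pullback.snd V.hom f = pullback.fst f V.hom :=
    pullbackSymmetry_hom_comp_snd f V.hom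
  have hinv : ∀ a, sym.inv (sym.hom a) = a := fun a => by
    rw [← Scheme.Hom.comp_apply, Iso.hom_inv_id]; rfl
  let gl : ∀ x : ↥(pullback V.hom f), (Ux x).left ⟶ pullback V.hom f := fun x => (gx x).left
  have hgl : ∀ x, Etale (gl x ≫ sym.inv) := fun x => by
    haveI : Etale (gl x) := inferInstanceAs (Etale (gx x).left)
    infer_instance
  have hsurj : ∀ p : ↥(pullback f V.hom), ∃ x, p ∈ Set.range (gl x ≫ sym.inv).base := by
    intro p
    refine ⟨sym.hom p, yx (sym.hom p), ?_⟩
    have e1 : (gl (sym.hom p)) (yx (sym.hom p)) = sym.hom p := hgy (sym.hom p)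
    show (gl (sym.hom p) ≫ sym.inv) (yx (sym.hom p)) = p
    rw [Scheme.Hom.comp_apply, e1]; exact hinv p
  obtain ⟨κ, V', v', hv'et, hv'surj, hW⟩ := hB V.left V.hom ↥(pullback V.hom f)
    (fun x => (Ux x).left) (fun x => gl x ≫ sym.inv) hgl hsurj
  refine keyY _ ((Scheme.mem_toGrothendieck_smallPretopology V _).2 ?_)
  intro y
  obtain ⟨j, z, hz⟩ := hv'surj y
  haveI : Etale (v' j) := hv'et j
  obtain ⟨μ, W, hdisj, hsup, hfac⟩ := hW j
  choose ia ha hha using hfac
  let V'o : Y.Etale := Scheme.Etale.mk (v' j ≫ V.hom)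
  let gj : V'o ⟶ V := MorphismProperty.Over.homMk (v' j) rfl
  refine ⟨V'o, gj, z, ?_, hv'et j, hz⟩
  let symj : pullback f (v' j ≫ V.hom) ≅ pullback (v' j ≫ V.hom) f :=
    pullbackSymmetry f (v' j ≫ V.hom)
  have hj1 : symj.hom ≫ pullback.fst (v' j ≫ V.hom) f = pullback.snd f (v' j ≫ V.hom) :=
    pullbackSymmetry_hom_comp_fst f (v' j ≫ V.hom)
  have hj2 : symj.hom ≫ pullback.snd (v' j ≫ V.hom) f = pullback.fst f (v' j ≫ V.hom) :=
    pullbackSymmetry_hom_comp_snd f (v' j ≫ V.hom)
  have hinvj : ∀ a, symj.hom (symj.inv a) = a := fun a => by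
    rw [← Scheme.Hom.comp_apply, Iso.inv_hom_id]; rfl
  let pmap : pullback f (v' j ≫ V.hom) ⟶ pullback f V.hom :=
    pullback.map f (v' j ≫ V.hom) f V.hom (𝟙 X) (v' j) (𝟙 Y) (by simp) (by simp)
  have hp1 : pmap ≫ pullback.fst f V.hom = pullback.fst f (v' j ≫ V.hom) :=
    (pullback.lift_fst (f := f) (g := V.hom) (pullback.fst f (v' j ≫ V.hom) ≫ 𝟙 X)
      (pullback.snd f (v' j ≫ V.hom) ≫ v' j) (by simp [pullback.condition])).trans
      (Category.comp_id _)
  have hp2 : pmap ≫ pullback.snd f V.hom = pullback.snd f (v' j ≫ V.hom) ≫ v' j :=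
    pullback.lift_snd (f := f) (g := V.hom) (pullback.fst f (v' j ≫ V.hom) ≫ 𝟙 X)
      (pullback.snd f (v' j ≫ V.hom) ≫ v' j) (by simp [pullback.condition])
  have hfacl : ∀ a, ha a ≫ gl (ia a) = (W a).ι ≫ pmap ≫ sym.hom := by
    intro a
    calc ha a ≫ gl (ia a) = (ha a ≫ gl (ia a) ≫ sym.inv) ≫ sym.hom := by simp
      _ = ((W a).ι ≫ pmap) ≫ sym.hom := by rw [hha a]
      _ = _ := Category.assoc _ _ _
  let Wo : μ → X.Etale := fun a => Scheme.Etale.mk ((W a).ι ≫ pullback.fst f (v' j ≫ V.hom))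
  have hwa : ∀ a, ((W a).ι ≫ symj.hom) ≫ pullback.snd (v' j ≫ V.hom) f =
      (W a).ι ≫ pullback.fst f (v' j ≫ V.hom) := fun a => by
    rw [Category.assoc, hj2]
  let wa : ∀ a, Wo a ⟶ (EtCoh.bc f).obj V'o := fun a =>
    MorphismProperty.Over.homMk ((W a).ι ≫ symj.hom) (hwa a)
  have hka : ∀ a, ha a ≫ (Ux (ia a)).hom = (W a).ι ≫ pullback.fst f (v' j ≫ V.hom) := by
    intro a
    have e1 : gl (ia a) ≫ pullback.snd V.hom f = (Ux (ia a)).hom := Over.w (gx (ia a)).hom
    rw [← e1, ← Category.assoc, hfacl a, Category.assoc, Category.assoc, hs2, hp1]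
  let ka : ∀ a, Wo a ⟶ Ux (ia a) := fun a => MorphismProperty.Over.homMk (ha a) (hka a)
  have hsq : pmap ≫ sym.hom = symj.hom ≫ pullback.lift (pullback.fst (v' j ≫ V.hom) f ≫ v' j)
      (pullback.snd (v' j ≫ V.hom) f) (by simp [pullback.condition]) := by
    apply pullback.hom_ext
    · rw [Category.assoc, hs1, hp2, Category.assoc, pullback.lift_fst, ← Category.assoc, hj1]
    · rw [Category.assoc, hs2, hp1, Category.assoc, pullback.lift_snd, hj2]
  have heq : ∀ a, ka a ≫ gx (ia a) = wa a ≫ (EtCoh.bc f).map gj := by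
    intro a
    apply MorphismProperty.Over.Hom.ext
    change ha a ≫ gl (ia a) = ((W a).ι ≫ symj.hom) ≫
      pullback.lift (pullback.fst (v' j ≫ V.hom) f ≫ v' j) (pullback.snd (v' j ≫ V.hom) f) _
    rw [hfacl a, hsq]
    exact (Category.assoc _ _ _).symm
  -- the covering of `X ×_Y V'_j` by the `W a`
  have hcov : Sieve.ofArrows Wo wa ∈ X.smallEtaleTopology ((EtCoh.bc f).obj V'o) := by
    rw [Scheme.ofArrows_mem_smallEtaleTopology_iff]
    ext p
    simp only [Set.mem_iUnion, Set.mem_univ, iff_true]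
    let p' : ↥(pullback (v' j ≫ V.hom) f) := p
    have hq : symj.inv p' ∈ (⨆ a, W a) := by rw [hsup]; trivial
    obtain ⟨a, hqa⟩ := TopologicalSpace.Opens.mem_iSup.1 hq
    have hr : symj.inv p' ∈ Set.range (W a).ι := by rw [Scheme.Opens.range_ι]; exact hqa
    obtain ⟨q0, hq0⟩ := hr
    refine ⟨a, q0, ?_⟩
    show ((W a).ι ≫ symj.hom) q0 = p'
    rw [Scheme.Hom.comp_apply, hq0]; exact hinvj p'
  let xa : ∀ a, F.obj.obj (op (Wo a)) := fun a => F.obj.map (ka a).op (rx (ia a))
  let E : Type (u + 1) := PUnit.{u + 2}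
  let xs : ∀ a, E ⟶ F.obj.obj (op (Wo a)) := fun a => TypeCat.ofHom (fun _ => xa a)
  have hx : ∀ ⦃Z : X.Etale⦄ ⦃a b : μ⦄ (m1 : Z ⟶ Wo a) (m2 : Z ⟶ Wo b),
      m1 ≫ wa a = m2 ≫ wa b → xs a ≫ F.obj.map m1.op = xs b ≫ F.obj.map m2.op := by
    intro Z a b m1 m2 hm
    have hm' : m1.left ≫ (W a).ι ≫ symj.hom = m2.left ≫ (W b).ι ≫ symj.hom :=
      congrArg (fun t => t.left) hm
    have hm'' : m1.left ≫ (W a).ι = m2.left ≫ (W b).ι := by
      apply (cancel_mono symj.hom).1
      rw [Category.assoc, Category.assoc]; exact hm'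
    by_cases hab : a = b
    · subst hab
      have : m1 = m2 := MorphismProperty.Over.Hom.ext ((cancel_mono (W a).ι).1 hm'')
      rw [this]
    · have hbot : (⊥ : Sieve Z) ∈ X.smallEtaleTopology Z := by
        rw [eX]
        refine (Scheme.mem_toGrothendieck_smallPretopology Z ⊥).2 ?_
        intro z
        exfalso
        have h1 : (W a).ι (m1.left z) ∈ Set.range (W a).ι := ⟨_, rfl⟩
        have h2 : (W b).ι (m2.left z) ∈ Set.range (W b).ι := ⟨_, rfl⟩
        rw [Scheme.Opens.range_ι] at h1 h2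
        have h3 : (W a).ι (m1.left z) = (W b).ι (m2.left z) :=
          congrArg (fun t : Z.left ⟶ pullback f (v' j ≫ V.hom) => t z) hm''
        rw [← h3] at h2
        have := (hdisj a b hab).le_bot
          (show (W a).ι (m1.left z) ∈ W a ⊓ W b from ⟨h1, h2⟩)
        exact TopologicalSpace.Opens.mem_bot.1 this
      exact (Sheaf.isTerminalOfBotCover F Z hbot).hom_ext _ _
  let r' : F.obj.obj (op ((EtCoh.bc f).obj V'o)) :=
    (F.property.amalgamateOfArrows wa hcov xs hx) PUnit.unit
  have hr' : ∀ a, F.obj.map (wa a).op r' = xa a := fun a =>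
    ConcreteCategory.congr_hom (F.property.amalgamateOfArrows_map wa hcov xs hx a) PUnit.unit
  refine ⟨r', ?_⟩
  show φ.hom.app (op ((EtCoh.bc f).obj V'o)) r' = G.obj.map ((EtCoh.bc f).map gj).op t'
  have hsepG := (((isSheaf_iff_isSheaf_of_type _ _).1 G.property) _ hcov).isSeparatedFor
  refine hsepG.ext ?_
  rintro Z k ⟨_, m, _, ⟨a⟩, rfl⟩
  simp only [op_comp, FunctorToTypes.map_comp_apply]
  refine congrArg _ ?_
  calc G.obj.map (wa a).op (φ.hom.app _ r')
      = φ.hom.app _ (F.obj.map (wa a).op r') :=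
        (NatTrans.naturality_apply φ.hom (wa a).op r').symm
    _ = φ.hom.app _ (F.obj.map (ka a).op (rx (ia a))) := by rw [hr' a]
    _ = G.obj.map (ka a).op (φ.hom.app _ (rx (ia a))) :=
        NatTrans.naturality_apply φ.hom (ka a).op _
    _ = G.obj.map (ka a).op (G.obj.map (gx (ia a)).op t') :=
        congrArg (fun z => G.obj.map (ka a).op z) (hrx (ia a))
    _ = G.obj.map (ka a ≫ gx (ia a)).op t' := by
        simp only [op_comp, FunctorToTypes.map_comp_apply] <;> rfl
    _ = G.obj.map (wa a ≫ (EtCoh.bc f).map gj).op t' := by rw [heq a]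
    _ = _ := by simp only [op_comp, FunctorToTypes.map_comp_apply] <;> rfl

end Groth.Agent.S6629
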