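import Groth.Statements.S6631
-- import your own Groth.Agent.* helpers here

set_option autoImplicit false
open CategoryTheory CategoryTheory.Limits AlgebraicGeometry Opposite
universe u
open EtDesc

namespace Groth.Agent.S6631

set_option backward.isDefEq.respectTransparency.types false in
/-- Under (C), every object of the small etale site of `X` is covered by a single base-changed
object. -/
theorem exists_dominating {X Y : Scheme.{u}} (f : X ⟶ Y) (hC : BigSite.PropC f) (U : X.Etale) :
    ∃ (V : Y.Etale) (h : (EtCoh.bc f).obj V ⟶ U),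
      Sieve.ofArrows (fun _ : Unit => (EtCoh.bc f).obj V) (fun _ => h) ∈
        X.smallEtaleTopology U := by
  obtain ⟨V, v, hv, h, hh, hsurj⟩ := hC U.left U.hom
  haveI : Etale v := hv
  let Vo : Y.Etale := Scheme.Etale.mk v
  have hw : ((pullbackSymmetry v f).hom ≫ h) ≫ U.hom = pullback.snd v f := by
    rw [Category.assoc, hh, pullbackSymmetry_hom_comp_fst]
  let h' : (EtCoh.bc f).obj Vo ⟶ U :=
    MorphismProperty.Over.homMk ((pullbackSymmetry v f).hom ≫ h) hw
  refine ⟨Vo, h', ?_⟩
  rw [Scheme.ofArrows_mem_smallEtaleTopology_iff]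
  ext p
  simp only [Set.mem_iUnion, Set.mem_univ, iff_true]
  refine ⟨(), ?_⟩
  have hs : Function.Surjective ((pullbackSymmetry v f).hom ≫ h) :=
    ((pullbackSymmetry v f).hom ≫ h).surjective
  obtain ⟨z, hz⟩ := hs p
  exact ⟨z, hz⟩


set_option backward.isDefEq.respectTransparency.types false in
/-- Let f : X ⟶ Y be a morphism of schemes satisfying condition (C) (for every etale U ⟶ X there are an
etale V ⟶ Y and a surjective X-morphism X ×_Y V ⟶ U). Then the direct image of sheaves of sets on
the small etale sites along f reflects monomorphisms and epimorphisms. -/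
theorem result {X Y : Scheme.{u}} (f : X ⟶ Y) (hC : BigSite.PropC f) :
    (EtDesc.pushSh f).ReflectsMonomorphisms ∧ (EtDesc.pushSh f).ReflectsEpimorphisms := by
  constructor
  · -- monomorphisms
    refine ⟨fun {F G} φ hφ => ?_⟩
    haveI := hφ
    have hinj : ∀ V : Y.Etale, Function.Injective (φ.hom.app (op ((EtCoh.bc f).obj V))) := by
      intro V
      have h1 : Mono ((EtDesc.pushSh f).map φ).hom := inferInstance
      have h2 := (NatTrans.mono_iff_mono_app _).1 h1 (op V)
      exact (mono_iff_injective _).1 h2
    apply Sheaf.mono_of_injective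
    intro U'
    obtain ⟨U⟩ := U'
    intro s t hst
    obtain ⟨V, h, hcov⟩ := exists_dominating f hC U
    have hsep := (((isSheaf_iff_isSheaf_of_type _ _).1 F.property) _ hcov).isSeparatedFor
    refine hsep.ext ?_
    rintro Z k ⟨_, m, _, ⟨_⟩, rfl⟩
    have e0 : F.obj.map h.op s = F.obj.map h.op t := by
      apply hinj V
      rw [NatTrans.naturality_apply, NatTrans.naturality_apply]
      exact congrArg _ hst
    simp only [op_comp, FunctorToTypes.map_comp_apply]
    exact congrArg _ e0
  · -- epimorphisms
    refine ⟨fun {F G} φ hφ => ?_⟩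
    haveI := hφ
    have hls : Sheaf.IsLocallySurjective ((EtDesc.pushSh f).map φ) :=
      (Sheaf.isLocallySurjective_iff_epi _).2 inferInstance
    suffices Sheaf.IsLocallySurjective φ from inferInstance
    refine ⟨fun {U} s => ?_⟩
    obtain ⟨V, h, hcov⟩ := exists_dominating f hC U
    let t : G.obj.obj (op ((EtCoh.bc f).obj V)) := G.obj.map h.op s
    have hI : Presheaf.imageSieve ((EtDesc.pushSh f).map φ).hom (U := V) t ∈
        Y.smallEtaleTopology V :=
      Presheaf.imageSieve_mem Y.smallEtaleTopology ((EtDesc.pushSh f).map φ).hom (U := op V) t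
    have h2 := (EtCoh.coverPreserving_bc f).cover_preserve hI
    have h3 : (Presheaf.imageSieve φ.hom s).pullback h ∈
        X.smallEtaleTopology ((EtCoh.bc f).obj V) := by
      refine X.smallEtaleTopology.superset_covering ?_ h2
      intro Z k hk
      obtain ⟨V', g, m, ⟨r, hr⟩, rfl⟩ := hk
      refine ⟨F.obj.map m.op r, ?_⟩
      have hr' : φ.hom.app (op ((EtCoh.bc f).obj V')) r =
          G.obj.map ((EtCoh.bc f).map g).op (G.obj.map h.op s) := hr
      rw [NatTrans.naturality_apply, hr']
      simp only [op_comp, FunctorToTypes.map_comp_apply]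
    refine X.smallEtaleTopology.transitive hcov _ ?_
    rintro Z k ⟨_, m, _, ⟨_⟩, rfl⟩
    rw [Sieve.pullback_comp]
    exact X.smallEtaleTopology.pullback_stable m h3

end Groth.Agent.S6631
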