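import Groth.Statements.S6632
-- import your own Groth.Agent.* helpers here

set_option autoImplicit false
open CategoryTheory CategoryTheory.Limits AlgebraicGeometry Opposite
universe u
open EtCore

namespace Groth.Agent.S6632

set_option backward.isDefEq.respectTransparency.types false in
/-- Let f : X ⟶ Y be a morphism of schemes such that, for every etale V ⟶ Y, the base change X ×_Y V ⟶ V
satisfies condition (C) (for every etale U ⟶ X ×_Y V there are an etale V' ⟶ V and a surjective
morphism from the base change of V' to U over X ×_Y V) and is closed as a map of topological spaces.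
Then the base change functor V ↦ X ×_Y V from the small etale site of Y to that of X is almost
cocontinuous: every covering sieve of X ×_Y V contains the images of the members of some covering
sieve of V, except for members V' for which X ×_Y V' is covered by the empty sieve. -/
theorem result {X Y : Scheme.{u}} (f : X ⟶ Y)
    (hC : ∀ (V : Scheme.{u}) (v : V ⟶ Y) [Etale v], BigSite.PropC (pullback.snd f v))
    (hcl : ∀ (V : Scheme.{u}) (v : V ⟶ Y) [Etale v], IsClosedMap (pullback.snd f v).base) :
    BigSite.IsAlmostCocontinuous (EtCoh.bc f) Y.smallEtaleTopology X.smallEtaleTopology := by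
  have eY : Y.smallEtaleTopology =
      (Y.smallPretopology (P := EtCoh.etaleMP) (Q := EtCoh.etaleMP)).toGrothendieck :=
    Scheme.smallGrothendieckTopology_eq_toGrothendieck_smallPretopology Y le_rfl
  have eX : X.smallEtaleTopology =
      (X.smallPretopology (P := EtCoh.etaleMP) (Q := EtCoh.etaleMP)).toGrothendieck :=
    Scheme.smallGrothendieckTopology_eq_toGrothendieck_smallPretopology X le_rfl
  intro V R hR
  let R' : Sieve V :=
    { arrows := fun V' g =>
        (⊥ : Sieve ((EtCoh.bc f).obj V')) ∈ X.smallEtaleTopology ((EtCoh.bc f).obj V') ∨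
          R ((EtCoh.bc f).map g)
      downward_closed := by
        intro V' V'' g hg k
        rcases hg with h0 | h1
        · left
          have := X.smallEtaleTopology.pullback_stable ((EtCoh.bc f).map k) h0
          rwa [Sieve.pullback_bot] at this
        · right
          rw [Functor.map_comp]
          exact R.downward_closed h1 _ }
  refine ⟨R', ?_, fun V' g hg => hg⟩
  rw [eY]
  rw [eX] at hR
  have hR' := (Scheme.mem_toGrothendieck_smallPretopology ((EtCoh.bc f).obj V) R).1 hR
  refine (Scheme.mem_toGrothendieck_smallPretopology V R').2 ?_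
  intro y
  by_cases hy : y ∈ Set.range (pullback.snd f V.hom).base
  · -- `y` is in the image of `X ×_Y V`
    obtain ⟨w, rfl⟩ := hy
    let sym : pullback f V.hom ≅ pullback V.hom f := pullbackSymmetry f V.hom
    obtain ⟨Uo, φ, u, hφR, -, hu⟩ := hR' (sym.hom w)
    let φl : Uo.left ⟶ pullback V.hom f := φ.left
    have hφw : φl ≫ pullback.snd V.hom f = Uo.hom := Over.w φ.hom
    haveI : Etale φl := inferInstanceAs (Etale φ.left)
    haveI : Etale (φl ≫ sym.inv) := inferInstance
    obtain ⟨V', v', hv'et, h, hh, hsurj⟩ := hC V.left V.hom Uo.left (φl ≫ sym.inv)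
    haveI : Etale v' := hv'et
    have hk : h ≫ φl = pullback.fst (pullback.snd f V.hom) v' ≫ sym.hom := by
      rw [← hh]; simp
    obtain ⟨z, hz⟩ := hsurj.surj u
    -- the point
    have hz1 : (pullback.fst (pullback.snd f V.hom) v') z = w := by
      have e1 : (h ≫ φl) z = sym.hom w := by
        rw [Scheme.Hom.comp_apply, hz]; exact hu
      rw [hk, Scheme.Hom.comp_apply] at e1
      have hinv : ∀ a, sym.inv (sym.hom a) = a := fun a => by
        rw [← Scheme.Hom.comp_apply, Iso.hom_inv_id]; rfl
      have e2 := congrArg (fun t => sym.inv t) e1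
      simp only [hinv] at e2
      exact e2
    have hz2 : v' ((pullback.snd (pullback.snd f V.hom) v') z) = (pullback.snd f V.hom) w := by
      have hc : (pullback.fst (pullback.snd f V.hom) v' ≫ pullback.snd f V.hom) z =
          (pullback.snd (pullback.snd f V.hom) v' ≫ v') z := by rw [pullback.condition]
      simp only [Scheme.Hom.comp_apply] at hc
      rw [← hc, hz1]
    let V'o : Y.Etale := Scheme.Etale.mk (v' ≫ V.hom)
    let gV : V'o ⟶ V := MorphismProperty.Over.homMk v' rfl
    -- the comparison map
    let inner : pullback (v' ≫ V.hom) f ⟶ pullback f V.hom :=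
      pullback.lift (pullback.snd (v' ≫ V.hom) f) (pullback.fst (v' ≫ V.hom) f ≫ v')
        (by simp [pullback.condition])
    let α : pullback (v' ≫ V.hom) f ⟶ pullback (pullback.snd f V.hom) v' :=
      pullback.lift inner (pullback.fst (v' ≫ V.hom) f) (pullback.lift_snd _ _ _)
    have hα1 : α ≫ pullback.fst (pullback.snd f V.hom) v' = inner := pullback.lift_fst _ _ _
    have hi1 : inner ≫ pullback.fst f V.hom = pullback.snd (v' ≫ V.hom) f := pullback.lift_fst _ _ _
    have hi2 : inner ≫ pullback.snd f V.hom = pullback.fst (v' ≫ V.hom) f ≫ v' :=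
      pullback.lift_snd _ _ _
    have hs1 : sym.hom ≫ pullback.fst V.hom f = pullback.snd f V.hom :=
      pullbackSymmetry_hom_comp_fst f V.hom
    have hs2 : sym.hom ≫ pullback.snd V.hom f = pullback.fst f V.hom :=
      pullbackSymmetry_hom_comp_snd f V.hom
    have hkw : (α ≫ h) ≫ Uo.hom = pullback.snd (v' ≫ V.hom) f := by
      rw [← hφw, Category.assoc, ← Category.assoc h, hk, Category.assoc, hs2, ← Category.assoc,
        hα1, hi1]
    let k : (EtCoh.bc f).obj V'o ⟶ Uo := MorphismProperty.Over.homMk (α ≫ h) hkw
    have hkφ : k ≫ φ = (EtCoh.bc f).map gV := by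
      apply MorphismProperty.Over.Hom.ext
      change (α ≫ h) ≫ φl = pullback.lift (pullback.fst (v' ≫ V.hom) f ≫ v')
        (pullback.snd (v' ≫ V.hom) f) _
      apply pullback.hom_ext
      · rw [pullback.lift_fst, Category.assoc, Category.assoc, reassoc_of% hk, reassoc_of% hα1,
          hs1, hi2]
      · rw [pullback.lift_snd, Category.assoc, Category.assoc, reassoc_of% hk, reassoc_of% hα1,
          hs2, hi1]
    refine ⟨V'o, gV, (pullback.snd (pullback.snd f V.hom) v') z, Or.inr ?_, hv'et, hz2⟩
    rw [← hkφ]
    exact R.downward_closed hφR k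
  · -- `y` is outside the (closed) image
    have hclosed : IsClosed (Set.range (pullback.snd f V.hom).base) :=
      (hcl V.left V.hom).isClosed_range
    let V0 : V.left.Opens := ⟨(Set.range (pullback.snd f V.hom).base)ᶜ, hclosed.isOpen_compl⟩
    have hy0 : y ∈ Set.range V0.ι := by
      rw [Scheme.Opens.range_ι]; exact hy
    obtain ⟨y0, hy0⟩ := hy0
    let V0o : Y.Etale := Scheme.Etale.mk (V0.ι ≫ V.hom)
    let g0 : V0o ⟶ V := MorphismProperty.Over.homMk V0.ι rfl
    refine ⟨V0o, g0, y0, Or.inl ?_, inferInstanceAs (Etale V0.ι), hy0⟩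
    rw [eX]
    refine (Scheme.mem_toGrothendieck_smallPretopology ((EtCoh.bc f).obj V0o) ⊥).2 ?_
    intro x
    exfalso
    let x' : ↑(pullback (V0.ι ≫ V.hom) f) := x
    have hc : (pullback.fst (V0.ι ≫ V.hom) f ≫ (V0.ι ≫ V.hom)) x' =
        (pullback.snd (V0.ι ≫ V.hom) f ≫ f) x' := by rw [pullback.condition]
    simp only [Scheme.Hom.comp_apply] at hc
    obtain ⟨z, -, hz⟩ := Scheme.Pullback.exists_preimage_pullback (f := f) (g := V.hom)
      ((pullback.snd (V0.ι ≫ V.hom) f) x') (V0.ι ((pullback.fst (V0.ι ≫ V.hom) f) x')) hc.symm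
    have hmem : V0.ι ((pullback.fst (V0.ι ≫ V.hom) f) x') ∈ Set.range V0.ι := ⟨_, rfl⟩
    rw [Scheme.Opens.range_ι] at hmem
    exact hmem ⟨z, hz⟩

end Groth.Agent.S6632
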