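import Groth.Statements.S6637
import Groth.Agent.H10.ShriekEx
import Mathlib

set_option autoImplicit false
open CategoryTheory CategoryTheory.Limits AlgebraicGeometry Opposite
universe u
open BigSite

namespace Groth.Agent.S6637

/-- For the Zariski, etale, smooth and fppf topologies: for a monomorphism of schemes f : X ⟶ Y the
counit f_big⁻¹ f_big,* F ⟶ F is an isomorphism for every sheaf of sets F on the big site of X, and
for every abelian sheaf. (The published statement also covers the syntomic topology; this row treats
the Zariski, etale, smooth and fppf topologies only.) -/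
theorem result {X Y : Scheme.{u}} (f : X ⟶ Y) [Mono f]
    (K : Precoverage Scheme.{u}) (hK : K = Scheme.zariskiPrecoverage ∨ K = Scheme.etalePrecoverage ∨
      K = Scheme.precoverage @Smooth ∨ K = Scheme.fppfPrecoverage) :
    (∀ F : QuotSh.Sh K X, IsIso ((BigSite.bigAdj K f (Type (u + 1))).counit.app F)) ∧
      (∀ F : BigSite.Ab K X, IsIso ((BigSite.bigAdj K f AddCommGrpCat.{u + 1}).counit.app F)) := by
  haveI : (Over.map f).Faithful :=
    ⟨fun {V W} g g' h => by
      ext
      have h2 := congrArg (fun k => k.left) h
      simpa using h2⟩
  haveI : (Over.map f).Full :=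
    ⟨fun {V W} g => ⟨Over.homMk g.left (by
      have h1 := Over.w g
      simp only [Over.map_obj_hom] at h1
      exact (cancel_mono f).1 (by simpa using h1)), by ext; simp⟩⟩
  haveI : IsIso (Over.mapPullbackAdj f).unit := inferInstance
  constructor
  · intro F
    have := Groth.Agent.H10.ShriekEx.isIso_counit_of_isIso_unit (Over.mapPullbackAdj f)
      (Type (u + 1)) (QuotSh.J K X) (QuotSh.J K Y)
    infer_instance
  · intro F
    have := Groth.Agent.H10.ShriekEx.isIso_counit_of_isIso_unit (Over.mapPullbackAdj f)
      AddCommGrpCat.{u + 1} (QuotSh.J K X) (QuotSh.J K Y)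
    infer_instance

end Groth.Agent.S6637
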