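import Groth.Statements.S6658
import Groth.Prelude.Def_EtShriek2
import Groth.Agent.H10.ShriekEx
import Groth.Agent.H10.FlasqueInj
import Groth.Agent.H10.LocCohAbs
import Mathlib
import Mathlib

set_option autoImplicit false
universe u
open CategoryTheory CategoryTheory.Limits AlgebraicGeometry Opposite
open EtDual

namespace Groth.Agent.S6658

/-- The exact sequence and the isomorphisms: let j : U → X be an open immersion of schemes with closed
complement Z and F an abelian sheaf on the small etale site of X. Write H^q_Z(F) for the q-th local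
cohomology sheaf of F with support in Z, kept as a sheaf on X (the q-th right derived functor of G ↦
ker(G → j_* j⁻¹ G)). Then the cokernel of the unit F → j_* j⁻¹ F is isomorphic to H^1_Z(F), and for
every p ≥ 1 the higher direct image R^p j_* (j⁻¹ F) is isomorphic to H^{p+1}_Z(F). (The published
statement also gives the distinguished triangle behind these isomorphisms and identifies them with
its connecting maps; this row asserts only that isomorphisms exist.) -/
theorem result {X U : Scheme.{u}} (j : U ⟶ X) [IsOpenImmersion j]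
    (F : EtCoh.Ab X) :
    Nonempty (cokernel (EtDual.unitApp j F) ≅ (EtDual.locCoh j 1).obj F) ∧
      ∀ p : ℕ, 1 ≤ p →
        Nonempty ((EtCoh.Rpush j p).obj ((EtCoh.pull j).obj F) ≅ (EtDual.locCoh j (p + 1)).obj F) := by
  haveI : Mono j := inferInstance
  haveI : AlgebraicGeometry.Etale j := inferInstance
  have hj : EtCoh.etaleMP j := ‹AlgebraicGeometry.Etale j›
  let adjS : EtShriek.compEtale j ⊣ EtCoh.bc j :=
    MorphismProperty.Over.mapPullbackAdj EtCoh.etaleMP ⊤ j hj trivial
  let adjR : EtShriek.restrAlong j ⊣ EtCoh.push j :=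
    adjS.sheafPushforwardContinuous (E := AddCommGrpCat.{u + 1}) U.smallEtaleTopology
      X.smallEtaleTopology
  let e : EtCoh.pull j ≅ EtShriek.restrAlong j := (EtCoh.pullPushAdj j).leftAdjointUniq adjR
  have hlim : PreservesFiniteLimits (EtCoh.pull j) := by
    have : PreservesLimitsOfSize.{0, 0} (EtShriek.restrAlong j) :=
      (EtShriek.extZeroAdj j).rightAdjoint_preservesLimits
    have : PreservesFiniteLimits (EtShriek.restrAlong j) :=
      PreservesLimitsOfSize.preservesFiniteLimits _
    exact preservesFiniteLimits_of_natIso e.symm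
  have hcolim : PreservesFiniteColimits (EtCoh.pull j) := by
    have : PreservesColimitsOfSize.{0, 0} (EtCoh.pull j) :=
      (EtCoh.pullPushAdj j).leftAdjoint_preservesColimits
    exact PreservesColimitsOfSize.preservesFiniteColimits _
  have hadd : (EtCoh.pull j).Additive := (EtCoh.pullPushAdj j).left_adjoint_additive
  have hex : PreservesFiniteLimits (EtShriek.extZero j) := by
    haveI : AB4OfSize.{u} AddCommGrpCat.{u + 1} := AB4OfSize_shrink.{u, u + 1} _
    exact Groth.Agent.H10.ShriekEx.sheafPullback_preservesFiniteLimits.{u} (EtShriek.compEtale j)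
      AddCommGrpCat.{u + 1} _ _
      (fun V => Groth.Agent.H10.ShriekEx.liftsMPOverMap EtCoh.etaleMP.{u} (j := j) ‹_› V)
  have hL : ∀ I : EtCoh.Ab X, Injective I → Injective ((EtCoh.pull j).obj I) := by
    intro I hI
    have : Injective ((EtShriek.restrAlong j).obj I) :=
      Injective.injective_of_adjoint (EtShriek.extZeroAdj j) I
    exact Injective.of_iso (e.app I).symm this
  have hmono : ∀ V : X.Etale, Mono (adjS.counit.app V) := by
    intro V
    apply (MorphismProperty.Over.forget EtCoh.etaleMP ⊤ X ⋙ Over.forget X).mono_of_mono_map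
    show Mono (pullback.fst V.hom j)
    infer_instance
  have hepi : ∀ I : EtCoh.Ab X, Injective I → Epi ((EtCoh.pullPushAdj j).unit.app I) := by
    intro I hI
    exact Groth.Agent.H10.FlasqueInj.epi_unit.{u + 1} U.smallEtaleTopology X.smallEtaleTopology
      adjS hmono I
  let ι : EtDual.secSupp j ⟶ 𝟭 (EtCoh.Ab X) :=
    { app := fun G => kernel.ι (EtDual.unitApp j G)
      naturality := fun G G' f => kernel.lift_ι _ _ _ }
  have w : ∀ G : EtCoh.Ab X, ι.app G ≫ (EtCoh.pullPushAdj j).unit.app G = 0 :=
    fun G => kernel.condition _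
  have hΓ : ∀ G : EtCoh.Ab X, IsLimit (KernelFork.ofι (ι.app G) (w G)) :=
    fun G => kernelIsKernel _
  obtain ⟨-, h1, h2⟩ := Groth.Agent.H10.LocCohAbs.main (EtCoh.pullPushAdj j) hL hepi ι w hΓ
  refine ⟨h1 F, ?_⟩
  intro p hp
  obtain ⟨n, rfl⟩ : ∃ n, p = n + 1 := ⟨p - 1, by omega⟩
  obtain ⟨φ⟩ := h2 n
  exact ⟨φ.app F⟩

end Groth.Agent.S6658
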