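import Groth.Statements.S6685
import Groth.Agent.H10.BigEx
import Groth.Agent.S6638
import Mathlib
import Mathlib

set_option autoImplicit false
universe u
open CategoryTheory CategoryTheory.Limits AlgebraicGeometry Opposite
open BigSite

namespace Groth.Agent.S6685

/-- Let S be a scheme, I an injective abelian sheaf on the big etale site of S and f : T → S a scheme
over S. Then (b) the restriction I|_{S_et} of I to the small etale site of S is injective, and (a)
the restriction i_f⁻¹ I of I to the small etale site of T (sections over an etale U → T are the
sections of I over U → S) is injective. -/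
theorem result (S : Scheme.{u}) (I : BigSite.Ab Scheme.etalePrecoverage S) [Injective I]
    {T : Scheme.{u}} (f : T ⟶ S) :
    Injective ((BigSite.resEt Scheme.etalePrecoverage S).obj I) ∧
      Injective ((BigSite.resEtAlong Scheme.etalePrecoverage f).obj I) := by
  have h1 : PreservesFiniteLimits (BigSite.piEtPull Scheme.etalePrecoverage S) :=
    Groth.Agent.H10.BigEx.piEtPull_exact S
  have h2 : PreservesFiniteLimits (BigSite.piEtPull Scheme.etalePrecoverage T) :=
    Groth.Agent.H10.BigEx.piEtPull_exact T
  have h3 : PreservesFiniteLimits (BigSite.shriekAb Scheme.etalePrecoverage f) :=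
    Groth.Agent.S6638.result f Scheme.etalePrecoverage (Or.inr (Or.inl rfl))
  have h4 : PreservesFiniteLimits (BigSite.piEtPull Scheme.etalePrecoverage T ⋙
      BigSite.shriekAb Scheme.etalePrecoverage f) := comp_preservesFiniteLimits _ _
  refine ⟨Injective.injective_of_adjoint (BigSite.piEtAdj Scheme.etalePrecoverage S) I, ?_⟩
  exact Injective.injective_of_adjoint
    ((BigSite.piEtAdj Scheme.etalePrecoverage T).comp
      (BigSite.shriekAbAdj Scheme.etalePrecoverage f)) I

end Groth.Agent.S6685
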