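import Groth.Statements.S6686
import Groth.Agent.H10.RDBase
import Groth.Agent.H10.BCIso
import Groth.Agent.H10.BigEx
import Groth.Agent.S6638
import Mathlib

set_option autoImplicit false
universe u
open CategoryTheory CategoryTheory.Limits AlgebraicGeometry Opposite
open BigSite

namespace Groth.Agent.S6686

/-- Part (3): for an abelian sheaf and degree by degree: let f : T → S be a morphism of schemes, g : S'
→ S a scheme over S and T' = S' ×_S T with projections g' : T' → T and f' : T' → S'. For an abelian
sheaf F on the big etale site of T and every q ≥ 0, the restriction i_g⁻¹ (R^q f_{big,*} F) to the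
small etale site of S' is isomorphic to R^q f'_{small,*} (i_{g'}⁻¹ F), where i_h⁻¹ restricts a
big-etale sheaf over a base to the small etale site of a scheme h over that base. (Existence of an
isomorphism only: the comparison map is not constructed here. For g the identity of S this gives
(R^q f_{big,*} F)|_{S_et} ≅ R^q f_{small,*} (F|_{T_et}).) -/
theorem result {T S T' S' : Scheme.{u}} (f : T ⟶ S) (g : S' ⟶ S)
    (g' : T' ⟶ T) (f' : T' ⟶ S') (c : IsPullback g' f' f g) (F : BigSite.Ab Scheme.etalePrecoverage T) (q : ℕ) :
    Nonempty ((BigSite.resEtAlong Scheme.etalePrecoverage g).obj ((BigSite.RpushBig Scheme.etalePrecoverage f q).obj F) ≅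
      (EtCoh.Rpush f' q).obj ((BigSite.resEtAlong Scheme.etalePrecoverage g').obj F)) := by
  have s1 : PreservesFiniteLimits (BigSite.shriekAb Scheme.etalePrecoverage g') :=
    Groth.Agent.S6638.result g' Scheme.etalePrecoverage (Or.inr (Or.inl rfl))
  have hQl : PreservesFiniteLimits (BigSite.pullBig Scheme.etalePrecoverage g AddCommGrpCat.{u + 1}) :=
    have : PreservesLimitsOfSize.{0, 0}
        (BigSite.pullBig Scheme.etalePrecoverage g AddCommGrpCat.{u + 1}) :=
      (BigSite.shriekAbAdj Scheme.etalePrecoverage g).rightAdjoint_preservesLimits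
    PreservesLimitsOfSize.preservesFiniteLimits _
  have hQc : PreservesFiniteColimits
      (BigSite.pullBig Scheme.etalePrecoverage g AddCommGrpCat.{u + 1}) :=
    have : PreservesColimitsOfSize.{0, 0}
        (BigSite.pullBig Scheme.etalePrecoverage g AddCommGrpCat.{u + 1}) :=
      (BigSite.bigAdj Scheme.etalePrecoverage g AddCommGrpCat.{u + 1}).leftAdjoint_preservesColimits
    PreservesColimitsOfSize.preservesFiniteColimits _
  have hPl : PreservesFiniteLimits
      (BigSite.pullBig Scheme.etalePrecoverage g' AddCommGrpCat.{u + 1}) :=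
    have : PreservesLimitsOfSize.{0, 0}
        (BigSite.pullBig Scheme.etalePrecoverage g' AddCommGrpCat.{u + 1}) :=
      (BigSite.shriekAbAdj Scheme.etalePrecoverage g').rightAdjoint_preservesLimits
    PreservesLimitsOfSize.preservesFiniteLimits _
  have hPc : PreservesFiniteColimits
      (BigSite.pullBig Scheme.etalePrecoverage g' AddCommGrpCat.{u + 1}) :=
    have : PreservesColimitsOfSize.{0, 0}
        (BigSite.pullBig Scheme.etalePrecoverage g' AddCommGrpCat.{u + 1}) :=
      (BigSite.bigAdj Scheme.etalePrecoverage g' AddCommGrpCat.{u + 1}).leftAdjoint_preservesColimits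
    PreservesColimitsOfSize.preservesFiniteColimits _
  have hP : ∀ X : BigSite.Ab Scheme.etalePrecoverage T, Injective X →
      Injective ((BigSite.pullBig Scheme.etalePrecoverage g' AddCommGrpCat.{u + 1}).obj X) := by
    intro X hX
    exact Injective.injective_of_adjoint (BigSite.shriekAbAdj Scheme.etalePrecoverage g') X
  haveI c1 : (Over.pullback f' ⋙ Over.map g').IsContinuous (QuotSh.J Scheme.etalePrecoverage S')
      (QuotSh.J Scheme.etalePrecoverage T) :=
    Functor.isContinuous_comp _ _ _ (QuotSh.J Scheme.etalePrecoverage T') _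
  let φ : BigSite.pushBig Scheme.etalePrecoverage f AddCommGrpCat.{u + 1} ⋙
      BigSite.pullBig Scheme.etalePrecoverage g AddCommGrpCat.{u + 1} ≅
      BigSite.pullBig Scheme.etalePrecoverage g' AddCommGrpCat.{u + 1} ⋙
      BigSite.pushBig Scheme.etalePrecoverage f' AddCommGrpCat.{u + 1} :=
    (Functor.sheafPushforwardContinuousComp' (F := Over.map g) (G := Over.pullback f)
      (Groth.Agent.H10.BCIso.bcIso c).symm AddCommGrpCat.{u + 1}
      (QuotSh.J Scheme.etalePrecoverage S') (QuotSh.J Scheme.etalePrecoverage S)
      (QuotSh.J Scheme.etalePrecoverage T)) ≪≫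
    (Functor.sheafPushforwardContinuousComp' (F := Over.pullback f') (G := Over.map g')
      (Iso.refl _) AddCommGrpCat.{u + 1}
      (QuotSh.J Scheme.etalePrecoverage S') (QuotSh.J Scheme.etalePrecoverage T')
      (QuotSh.J Scheme.etalePrecoverage T)).symm
  -- small/big comparison for f'
  let e' : EtCoh.bc f' ⋙ EtFppf.a T' ≅ EtFppf.a S' ⋙ Over.pullback f' :=
    MorphismProperty.Over.pullbackCompForgetIso (P := EtCoh.etaleMP) (Q := ⊤) f'
  haveI c2 : (EtFppf.a S' ⋙ Over.pullback f').IsContinuous S'.smallEtaleTopology
      (QuotSh.J Scheme.etalePrecoverage T') :=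
    Functor.isContinuous_comp _ _ _ (QuotSh.J Scheme.etalePrecoverage S') _
  let i1 : BigSite.pushBig Scheme.etalePrecoverage f' AddCommGrpCat.{u + 1} ⋙
      BigSite.resEt Scheme.etalePrecoverage S' ≅
      BigSite.resEt Scheme.etalePrecoverage T' ⋙ EtCoh.push f' :=
    (Functor.sheafPushforwardContinuousComp' (F := EtFppf.a S') (G := Over.pullback f')
      (Iso.refl _) AddCommGrpCat.{u + 1} S'.smallEtaleTopology
      (QuotSh.J Scheme.etalePrecoverage S') (QuotSh.J Scheme.etalePrecoverage T')) ≪≫
    (Functor.sheafPushforwardContinuousComp' (F := EtCoh.bc f') (G := EtFppf.a T') e'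
      AddCommGrpCat.{u + 1} S'.smallEtaleTopology T'.smallEtaleTopology
      (QuotSh.J Scheme.etalePrecoverage T')).symm
  let ψ : BigSite.pushBig Scheme.etalePrecoverage f AddCommGrpCat.{u + 1} ⋙
      BigSite.resEtAlong Scheme.etalePrecoverage g ≅
      BigSite.resEtAlong Scheme.etalePrecoverage g' ⋙ EtCoh.push f' :=
    (Functor.associator _ _ _).symm ≪≫ Functor.isoWhiskerRight φ _ ≪≫
      Functor.associator _ _ _ ≪≫ Functor.isoWhiskerLeft _ i1 ≪≫ (Functor.associator _ _ _).symm
  -- exactness of the restriction functors
  have r1l : PreservesFiniteLimits (BigSite.resEt Scheme.etalePrecoverage S') :=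
    have : PreservesLimitsOfSize.{0, 0} (BigSite.resEt Scheme.etalePrecoverage S') :=
      (BigSite.piEtAdj Scheme.etalePrecoverage S').rightAdjoint_preservesLimits
    PreservesLimitsOfSize.preservesFiniteLimits _
  have r1c : PreservesFiniteColimits (BigSite.resEt Scheme.etalePrecoverage S') :=
    have : PreservesColimitsOfSize.{0, 0} (BigSite.resEt Scheme.etalePrecoverage S') :=
      (BigSite.iEtAdj Scheme.etalePrecoverage S').leftAdjoint_preservesColimits
    PreservesColimitsOfSize.preservesFiniteColimits _
  have r2l : PreservesFiniteLimits (BigSite.resEt Scheme.etalePrecoverage T') :=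
    have : PreservesLimitsOfSize.{0, 0} (BigSite.resEt Scheme.etalePrecoverage T') :=
      (BigSite.piEtAdj Scheme.etalePrecoverage T').rightAdjoint_preservesLimits
    PreservesLimitsOfSize.preservesFiniteLimits _
  have r2c : PreservesFiniteColimits (BigSite.resEt Scheme.etalePrecoverage T') :=
    have : PreservesColimitsOfSize.{0, 0} (BigSite.resEt Scheme.etalePrecoverage T') :=
      (BigSite.iEtAdj Scheme.etalePrecoverage T').leftAdjoint_preservesColimits
    PreservesColimitsOfSize.preservesFiniteColimits _
  have q1 : PreservesFiniteLimits (BigSite.resEtAlong Scheme.etalePrecoverage g) :=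
    comp_preservesFiniteLimits _ _
  have q2 : PreservesFiniteColimits (BigSite.resEtAlong Scheme.etalePrecoverage g) :=
    comp_preservesFiniteColimits _ _
  have p1 : PreservesFiniteLimits (BigSite.resEtAlong Scheme.etalePrecoverage g') :=
    comp_preservesFiniteLimits _ _
  have p2 : PreservesFiniteColimits (BigSite.resEtAlong Scheme.etalePrecoverage g') :=
    comp_preservesFiniteColimits _ _
  have t1 : PreservesFiniteLimits (BigSite.piEtPull Scheme.etalePrecoverage T') :=
    Groth.Agent.H10.BigEx.piEtPull_exact T'
  have hP' : ∀ X : BigSite.Ab Scheme.etalePrecoverage T, Injective X →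
      Injective ((BigSite.resEtAlong Scheme.etalePrecoverage g').obj X) := by
    intro X hX
    have : PreservesFiniteLimits (BigSite.piEtPull Scheme.etalePrecoverage T' ⋙
        BigSite.shriekAb Scheme.etalePrecoverage g') := comp_preservesFiniteLimits _ _
    exact Injective.injective_of_adjoint ((BigSite.piEtAdj Scheme.etalePrecoverage T').comp
      (BigSite.shriekAbAdj Scheme.etalePrecoverage g')) X
  exact Groth.Agent.H10.RDBase.nonempty_rightDerived_baseChange
    (BigSite.pushBig Scheme.etalePrecoverage f AddCommGrpCat.{u + 1})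
    (EtCoh.push f')
    (BigSite.resEtAlong Scheme.etalePrecoverage g')
    (BigSite.resEtAlong Scheme.etalePrecoverage g) hP' ψ F q

end Groth.Agent.S6686
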