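import Groth.Statements.S6687
import Groth.Agent.H10.CocontFF
import Groth.Agent.S6185
import Mathlib

set_option autoImplicit false
universe u
open CategoryTheory CategoryTheory.Limits AlgebraicGeometry Opposite
open BigSite

namespace Groth.Agent.S6687

/-- Let f : T → S be a morphism of schemes, F an abelian sheaf on the small etale site of S and n ≥ 0.
Write π_S⁻¹ F for the pullback of F to the big etale site of S. Then the cohomology of π_S⁻¹ F over
the object (T → S) of the big site is isomorphic to H^n(T_et, f⁻¹ F). (Existence of an isomorphism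
of abelian groups only; the published statement identifies the two through the restriction of π_S⁻¹
F to the small etale site of T, which is f⁻¹ F.) -/
theorem result {T S : Scheme.{u}} (f : T ⟶ S) (n : ℕ) (F : EtCoh.Ab S) :
    Nonempty (BigSite.HU Scheme.etalePrecoverage ((BigSite.piEtPull Scheme.etalePrecoverage S).obj F) n (Over.mk f) ≃+
      EtCoh.H T ((EtCoh.pull f).obj F) n) := by
  obtain ⟨e1⟩ := Groth.Agent.S6185.result T
    ((BigSite.pullBig Scheme.etalePrecoverage f AddCommGrpCat.{u + 1}).obj
      ((BigSite.piEtPull Scheme.etalePrecoverage S).obj F)) n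
  let adjΦ := ((BigSite.piEtAdj Scheme.etalePrecoverage S).comp
    (BigSite.bigAdj Scheme.etalePrecoverage f AddCommGrpCat.{u + 1})).comp
    (BigSite.iEtAdj Scheme.etalePrecoverage T)
  let e : EtCoh.bc f ⋙ EtFppf.a T ≅ EtFppf.a S ⋙ Over.pullback f :=
    MorphismProperty.Over.pullbackCompForgetIso (P := EtCoh.etaleMP) (Q := ⊤) f
  haveI c1 : (EtFppf.a S ⋙ Over.pullback f).IsContinuous S.smallEtaleTopology
      (QuotSh.J Scheme.etalePrecoverage T) :=
    Functor.isContinuous_comp _ _ _ (QuotSh.J Scheme.etalePrecoverage S) _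
  let i1 : BigSite.pushBig Scheme.etalePrecoverage f AddCommGrpCat.{u + 1} ⋙
      BigSite.resEt Scheme.etalePrecoverage S ≅
      BigSite.resEt Scheme.etalePrecoverage T ⋙ EtCoh.push f :=
    (Functor.sheafPushforwardContinuousComp' (F := EtFppf.a S) (G := Over.pullback f)
      (Iso.refl _) AddCommGrpCat.{u + 1} S.smallEtaleTopology
      (QuotSh.J Scheme.etalePrecoverage S) (QuotSh.J Scheme.etalePrecoverage T)) ≪≫
    (Functor.sheafPushforwardContinuousComp' (F := EtCoh.bc f) (G := EtFppf.a T) e
      AddCommGrpCat.{u + 1} S.smallEtaleTopology T.smallEtaleTopology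
      (QuotSh.J Scheme.etalePrecoverage T)).symm
  haveI : (EtFppf.a T).Full := inferInstanceAs (Scheme.Etale.forget T).Full
  haveI : (EtFppf.a T).Faithful := inferInstanceAs (Scheme.Etale.forget T).Faithful
  haveI : IsIso (BigSite.iEtAdj Scheme.etalePrecoverage T).counit :=
    Groth.Agent.H10.CocontFF.isIso_counit_cocont (EtFppf.a T) AddCommGrpCat.{u + 1}
      T.smallEtaleTopology (QuotSh.J Scheme.etalePrecoverage T)
  let i2 : BigSite.iEtPush Scheme.etalePrecoverage T ⋙
      (BigSite.pushBig Scheme.etalePrecoverage f AddCommGrpCat.{u + 1} ⋙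
        BigSite.resEt Scheme.etalePrecoverage S) ≅ EtCoh.push f :=
    Functor.isoWhiskerLeft _ i1 ≪≫ (Functor.associator _ _ _).symm ≪≫
      Functor.isoWhiskerRight (asIso (BigSite.iEtAdj Scheme.etalePrecoverage T).counit) _ ≪≫
      Functor.leftUnitor _
  let iΦ := (adjΦ.ofNatIsoRight i2).leftAdjointUniq (EtCoh.pullPushAdj f)
  let e2 := (Abelian.extFunctorObj.{u + 1}
    ((constantSheaf T.smallEtaleTopology AddCommGrpCat.{u + 1}).obj
      (AddCommGrpCat.of (ULift ℤ))) n).mapIso (iΦ.app F)
  exact ⟨e1.symm.trans e2.addCommGroupIsoToAddEquiv⟩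

end Groth.Agent.S6687
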