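import Groth.Statements.S6697
import Groth.Agent.H10.KInj
import Groth.Agent.H10.BigEx
import Groth.Agent.S6638
import Mathlib

set_option autoImplicit false
universe u
open CategoryTheory CategoryTheory.Limits AlgebraicGeometry Opposite
open BigSite

namespace Groth.Agent.S6697

/-- Let S be a scheme, I a K-injective complex of abelian sheaves on the big etale site of S (every
morphism from an acyclic complex to I is null-homotopic) and f : T → S a scheme over S. Then (b) the
termwise restriction I|_{S_et} to the small etale site of S is K-injective, and (a) the termwise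
restriction i_f⁻¹ I to the small etale site of T is K-injective. -/
theorem result (S : Scheme.{u})
    (I : CochainComplex (BigSite.Ab Scheme.etalePrecoverage S) ℤ) [I.IsKInjective] {T : Scheme.{u}} (f : T ⟶ S) :
    CochainComplex.IsKInjective (((BigSite.resEt Scheme.etalePrecoverage S).mapHomologicalComplex (ComplexShape.up ℤ)).obj I) ∧
      CochainComplex.IsKInjective (((BigSite.resEtAlong Scheme.etalePrecoverage f).mapHomologicalComplex (ComplexShape.up ℤ)).obj I) := by
  have h1 : PreservesFiniteLimits (BigSite.piEtPull Scheme.etalePrecoverage S) :=
    Groth.Agent.H10.BigEx.piEtPull_exact S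
  have h1T : PreservesFiniteLimits (BigSite.piEtPull Scheme.etalePrecoverage T) :=
    Groth.Agent.H10.BigEx.piEtPull_exact T
  have h2 : PreservesFiniteLimits (BigSite.shriekAb Scheme.etalePrecoverage f) :=
    Groth.Agent.S6638.result f Scheme.etalePrecoverage (Or.inr (Or.inl rfl))
  have a1 : (BigSite.piEtPull Scheme.etalePrecoverage S).Additive :=
    (BigSite.piEtAdj Scheme.etalePrecoverage S).left_adjoint_additive
  have a1T : (BigSite.piEtPull Scheme.etalePrecoverage T).Additive :=
    (BigSite.piEtAdj Scheme.etalePrecoverage T).left_adjoint_additive
  have a2 : (BigSite.shriekAb Scheme.etalePrecoverage f).Additive :=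
    (BigSite.shriekAbAdj Scheme.etalePrecoverage f).left_adjoint_additive
  have c1 : PreservesFiniteColimits (BigSite.piEtPull Scheme.etalePrecoverage S) :=
    have : PreservesColimitsOfSize.{0, 0} (BigSite.piEtPull Scheme.etalePrecoverage S) :=
      (BigSite.piEtAdj Scheme.etalePrecoverage S).leftAdjoint_preservesColimits
    PreservesColimitsOfSize.preservesFiniteColimits _
  constructor
  · exact Groth.Agent.H10.KInj.isKInjective_map (BigSite.piEtAdj Scheme.etalePrecoverage S) I
  · let adj := (BigSite.piEtAdj Scheme.etalePrecoverage T).comp
      (BigSite.shriekAbAdj Scheme.etalePrecoverage f)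
    have e1 : PreservesFiniteLimits (BigSite.piEtPull Scheme.etalePrecoverage T ⋙
        BigSite.shriekAb Scheme.etalePrecoverage f) := comp_preservesFiniteLimits _ _
    have e2 : PreservesFiniteColimits (BigSite.piEtPull Scheme.etalePrecoverage T ⋙
        BigSite.shriekAb Scheme.etalePrecoverage f) :=
      have : PreservesColimitsOfSize.{0, 0} (BigSite.piEtPull Scheme.etalePrecoverage T ⋙
          BigSite.shriekAb Scheme.etalePrecoverage f) := adj.leftAdjoint_preservesColimits
      PreservesColimitsOfSize.preservesFiniteColimits _
    exact Groth.Agent.H10.KInj.isKInjective_map adj I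

end Groth.Agent.S6697
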