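import Groth.Statements.S6703
-- import your own Groth.Agent.* helpers here

set_option autoImplicit false
universe v v' u u'
open CategoryTheory
open DEquiv

namespace Groth.Agent.S6703

open CategoryTheory.Limits CategoryTheory.Pretriangulated

section Ortho
universe v₁ u₁
variable {D : Type u₁} [Category.{v₁} D] [Preadditive D] [HasZeroObject D] [HasShift D ℤ]
    [∀ n : ℤ, (shiftFunctor D n).Additive] [Pretriangulated D]

/-- If composition with `u` is bijective on maps from all shifts of `E`, then the cone of `u`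
receives no nonzero map from a shift of `E`. -/
lemma ortho_left (E : D) (T : Triangle D) (hT : T ∈ distTriang D)
    (hu : ∀ m : ℤ, Function.Bijective (fun f : E⟦m⟧ ⟶ T.obj₁ => f ≫ T.mor₁))
    (m : ℤ) (c : E⟦m⟧ ⟶ T.obj₃) : c = 0 := by
  -- injectivity of composition with `u⟦1⟧'`
  have hinj : ∀ φ : E⟦m⟧ ⟶ T.obj₁⟦(1 : ℤ)⟧, φ ≫ T.mor₁⟦(1 : ℤ)⟧' = 0 → φ = 0 := by
    intro φ hφ
    let e : (E⟦m - 1⟧)⟦(1 : ℤ)⟧ ≅ E⟦m⟧ :=
      ((shiftFunctorAdd' D (m - 1) 1 m (by omega)).app E).symm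
    obtain ⟨ψ, hψ⟩ := (shiftFunctor D (1 : ℤ)).map_surjective (e.hom ≫ φ)
    have h1 : (ψ ≫ T.mor₁)⟦(1 : ℤ)⟧' = 0 := by
      rw [Functor.map_comp, hψ, Category.assoc, hφ, comp_zero]
    have h2 : ψ ≫ T.mor₁ = 0 :=
      (shiftFunctor D (1 : ℤ)).map_injective (by rw [h1, Functor.map_zero])
    have h3 : ψ = 0 := (hu (m - 1)).1 (by simpa using h2)
    have h4 : e.hom ≫ φ = 0 := by rw [← hψ, h3, Functor.map_zero]
    exact (cancel_epi e.hom).1 (by rw [h4, comp_zero])
  have h1 : c ≫ T.mor₃ = 0 := hinj _ (by rw [Category.assoc, comp_distTriang_mor_zero₃₁ T hT,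
    comp_zero])
  obtain ⟨g, hg⟩ := Triangle.coyoneda_exact₃ T hT c h1
  obtain ⟨g', hg'⟩ := (hu m).2 g
  dsimp at hg'
  rw [hg, ← hg', Category.assoc, comp_distTriang_mor_zero₁₂ T hT, comp_zero]

/-- Dual statement. -/
lemma ortho_right (E : D) (T : Triangle D) (hT : T ∈ distTriang D)
    (hu : ∀ m : ℤ, Function.Bijective (fun f : T.obj₂ ⟶ E⟦m⟧ => T.mor₁ ≫ f))
    (m : ℤ) (c : T.obj₃ ⟶ E⟦m⟧) : c = 0 := by
  have h1 : T.mor₂ ≫ c = 0 :=
    (hu m).1 (by dsimp; rw [← Category.assoc, comp_distTriang_mor_zero₁₂ T hT, zero_comp,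
      comp_zero])
  obtain ⟨g, hg⟩ := Triangle.yoneda_exact₃ T hT c h1
  let e : E⟦m⟧ ≅ (E⟦m - 1⟧)⟦(1 : ℤ)⟧ := (shiftFunctorAdd' D (m - 1) 1 m (by omega)).app E
  obtain ⟨ψ, hψ⟩ := (shiftFunctor D (1 : ℤ)).map_surjective (g ≫ e.hom)
  obtain ⟨ψ', hψ'⟩ := (hu (m - 1)).2 ψ
  dsimp at hψ'
  have h2 : g = T.mor₁⟦(1 : ℤ)⟧' ≫ ψ'⟦(1 : ℤ)⟧' ≫ e.inv := by
    rw [← Category.assoc, ← Functor.map_comp, hψ', hψ, Category.assoc, Iso.hom_inv_id,
      Category.comp_id]
  rw [hg, h2, ← Category.assoc, comp_distTriang_mor_zero₃₁ T hT, zero_comp]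

end Ortho

section FB
universe v₁ u₁ v₂ u₂
variable {D : Type u₁} [Category.{v₁} D] [HasShift D ℤ]
  {D' : Type u₂} [Category.{v₂} D'] [HasShift D' ℤ]
  (F : D ⥤ D')

/-- `F` is bijective on `Hom(X, Y)`. -/
def FB (X Y : D) : Prop := Function.Bijective (fun f : X ⟶ Y => F.map f)

lemma FB_of_iso {X Y X' Y' : D} (eX : X ≅ X') (eY : Y ≅ Y') (h : FB F X Y) : FB F X' Y' := by
  constructor
  · intro g₁ g₂ hg
    dsimp at hg
    have : eX.hom ≫ g₁ ≫ eY.inv = eX.hom ≫ g₂ ≫ eY.inv := h.1 (by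
      dsimp
      rw [F.map_comp, F.map_comp, F.map_comp, F.map_comp, hg])
    exact (cancel_mono eY.inv).1 ((cancel_epi eX.hom).1 this)
  · intro k
    obtain ⟨f, hf⟩ := h.2 (F.map eX.hom ≫ k ≫ F.map eY.inv)
    dsimp at hf
    refine ⟨eX.inv ≫ f ≫ eY.hom, ?_⟩
    dsimp
    rw [F.map_comp, F.map_comp, hf, Category.assoc, Category.assoc, ← F.map_comp eY.inv,
      eY.inv_hom_id, F.map_id, Category.comp_id, ← Category.assoc, ← F.map_comp, eX.inv_hom_id,
      F.map_id, Category.id_comp]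

variable [F.CommShift ℤ]

lemma FB_shift {X Y : D} (a : ℤ) (h : FB F X Y) : FB F (X⟦a⟧) (Y⟦a⟧) := by
  have hnat : ∀ f : X ⟶ Y, F.map (f⟦a⟧') =
      (F.commShiftIso a).hom.app X ≫ (F.map f)⟦a⟧' ≫ (F.commShiftIso a).inv.app Y := by
    intro f
    have := (F.commShiftIso a).hom.naturality f
    dsimp at this
    rw [← Category.assoc, ← this, Category.assoc, Iso.hom_inv_id_app]
    dsimp
    rw [Category.comp_id]
  constructor
  · intro g₁ g₂ hg
    dsimp at hg
    obtain ⟨f₁, rfl⟩ := (shiftFunctor D a).map_surjective g₁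
    obtain ⟨f₂, rfl⟩ := (shiftFunctor D a).map_surjective g₂
    rw [hnat, hnat] at hg
    have h1 : (F.map f₁)⟦a⟧' = (F.map f₂)⟦a⟧' := by
      have h2 := (cancel_epi _).1 hg
      exact (cancel_mono _).1 h2
    have h3 : F.map f₁ = F.map f₂ := (shiftFunctor D' a).map_injective h1
    rw [h.1 h3]
  · intro k
    obtain ⟨l, hl⟩ := (shiftFunctor D' a).map_surjective
      ((F.commShiftIso a).inv.app X ≫ k ≫ (F.commShiftIso a).hom.app Y)
    obtain ⟨f, hf⟩ := h.2 l
    dsimp at hf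
    refine ⟨f⟦a⟧', ?_⟩
    dsimp
    rw [hnat, hf, hl]
    simp

end FB

open CategoryTheory.Limits CategoryTheory.Pretriangulated in
/-- Let F : D ⥤ D' be an exact functor of triangulated categories admitting both a left and a right
adjoint, and let S be a set of objects of D such that an object K of D is zero as soon as Hom(E,
K⟦i⟧) = 0 for all E ∈ S and i ∈ ℤ, and also as soon as Hom(K, E⟦i⟧) = 0 for all E ∈ S and i ∈ ℤ. If
for all E, E' ∈ S and i ∈ ℤ the map Hom(E, E'⟦i⟧) → Hom(F E, F (E'⟦i⟧)) given by F is bijective,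
then F is full and faithful. -/
theorem result
    {D : Type u} [Category.{v} D] [Preadditive D] [HasZeroObject D] [HasShift D ℤ]
    [∀ n : ℤ, (shiftFunctor D n).Additive] [Pretriangulated D] [IsTriangulated D]
    {D' : Type u'} [Category.{v'} D'] [Preadditive D'] [HasZeroObject D'] [HasShift D' ℤ]
    [∀ n : ℤ, (shiftFunctor D' n).Additive] [Pretriangulated D'] [IsTriangulated D']
    (F : D ⥤ D') [F.CommShift ℤ] [F.IsTriangulated] [F.IsLeftAdjoint] [F.IsRightAdjoint]
    (S : Set D)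
    (h2 : ∀ K : D, (∀ E ∈ S, ∀ (i : ℤ) (f : E ⟶ (shiftFunctor D i).obj K), f = 0) → IsZero K)
    (h3 : ∀ K : D, (∀ E ∈ S, ∀ (i : ℤ) (f : K ⟶ (shiftFunctor D i).obj E), f = 0) → IsZero K)
    (h4 : ∀ E ∈ S, ∀ E' ∈ S, ∀ i : ℤ,
      Function.Bijective (fun f : E ⟶ (shiftFunctor D i).obj E' => F.map f)) :
    F.Full ∧ F.Faithful := by
  classical
  let H := F.rightAdjoint
  let adjH : F ⊣ H := Adjunction.ofIsLeftAdjoint F
  let G := F.leftAdjoint
  let adjG : G ⊣ F := Adjunction.ofIsRightAdjoint F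
  -- bijectivity on Hom versus unit
  have hunit : ∀ X Y : D, FB F X Y ↔
      Function.Bijective (fun f : X ⟶ Y => f ≫ adjH.unit.app Y) := by
    intro X Y
    have e : (fun f : X ⟶ Y => f ≫ adjH.unit.app Y) =
        (adjH.homEquiv X (F.obj Y)) ∘ (fun f : X ⟶ Y => F.map f) := by
      funext f
      have := adjH.unit.naturality f
      dsimp at this ⊢
      rw [Adjunction.homEquiv_unit, this]
    rw [e]
    exact (Function.Bijective.of_comp_iff' (adjH.homEquiv X (F.obj Y)).bijective _).symm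
  have hcounit : ∀ X Y : D, FB F X Y ↔
      Function.Bijective (fun f : X ⟶ Y => adjG.counit.app X ≫ f) := by
    intro X Y
    have e : (fun f : X ⟶ Y => adjG.counit.app X ≫ f) =
        (adjG.homEquiv (F.obj X) Y).symm ∘ (fun f : X ⟶ Y => F.map f) := by
      funext f
      have := adjG.counit.naturality f
      dsimp at this ⊢
      rw [Adjunction.homEquiv_counit, this]
    rw [e]
    exact (Function.Bijective.of_comp_iff' (adjG.homEquiv (F.obj X) Y).symm.bijective _).symm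
  -- Step 1: the unit is an isomorphism on shifts of objects of `S`
  have step1 : ∀ B ∈ S, ∀ i : ℤ, IsIso (adjH.unit.app (B⟦i⟧)) := by
    intro B hB i
    obtain ⟨Z, g, h, hT⟩ := distinguished_cocone_triangle (adjH.unit.app (B⟦i⟧))
    have hZ : IsZero Z := by
      apply h2
      intro E hE j f
      have hbij : ∀ m : ℤ, Function.Bijective
          (fun φ : E⟦m⟧ ⟶ (Triangle.mk (adjH.unit.app (B⟦i⟧)) g h).obj₁ =>
            φ ≫ (Triangle.mk (adjH.unit.app (B⟦i⟧)) g h).mor₁) := by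
        intro m
        have h1 : FB F E (B⟦i - m⟧) := h4 E hE B hB (i - m)
        have h2' : FB F (E⟦m⟧) ((B⟦i - m⟧)⟦m⟧) := FB_shift F m h1
        have h3' : FB F (E⟦m⟧) (B⟦i⟧) :=
          FB_of_iso F (Iso.refl _) ((shiftFunctorAdd' D (i - m) m i (by omega)).symm.app B) h2'
        exact (hunit _ _).1 h3'
      have hc := ortho_left E _ hT hbij (-j)
        (f⟦-j⟧' ≫ ((shiftFunctorCompIsoId D j (-j) (by omega)).app Z).hom)
      have h5 : f⟦-j⟧' = 0 :=
        (cancel_mono ((shiftFunctorCompIsoId D j (-j) (by omega)).app Z).hom).1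
          (hc.trans zero_comp.symm)
      exact (shiftFunctor D (-j)).map_injective (by rw [h5, Functor.map_zero])
    exact (Triangle.isZero₃_iff_isIso₁ _ hT).1 hZ
  -- Step 2: the counit of `G ⊣ F` is an isomorphism
  have step2 : ∀ A : D, IsIso (adjG.counit.app A) := by
    intro A
    obtain ⟨Z, g, h, hT⟩ := distinguished_cocone_triangle (adjG.counit.app A)
    have hZ : IsZero Z := by
      apply h3
      intro B hB j f
      have hbij : ∀ m : ℤ, Function.Bijective
          (fun φ : (Triangle.mk (adjG.counit.app A) g h).obj₂ ⟶ B⟦m⟧ =>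
            (Triangle.mk (adjG.counit.app A) g h).mor₁ ≫ φ) := by
        intro m
        haveI := step1 B hB m
        have h1 : FB F A (B⟦m⟧) := by
          rw [hunit]
          constructor
          · intro f₁ f₂ hf
            exact (cancel_mono (adjH.unit.app (B⟦m⟧))).1 hf
          · intro k
            exact ⟨k ≫ inv (adjH.unit.app (B⟦m⟧)), by simp⟩
        exact (hcounit _ _).1 h1
      exact ortho_right B _ hT hbij j f
    exact (Triangle.isZero₃_iff_isIso₁ _ hT).1 hZ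
  haveI : IsIso adjG.counit := NatIso.isIso_of_isIso_app _
  have ff : F.FullyFaithful := adjG.fullyFaithfulROfIsIsoCounit
  exact ⟨ff.full, ff.faithful⟩

end Groth.Agent.S6703
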