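import Groth.Statements.S6707
import Mathlib
open CategoryTheory.Limits

set_option autoImplicit false
universe w v u
open CategoryTheory
open DEquiv

namespace Groth.Agent.S6707

section helpers

open DerivedCategory Pretriangulated

variable {A : Type u} [Category.{v} A] [Abelian A]

lemma exists_epi_homologyMap (K : CochainComplex A ℤ) (b : ℤ) [K.IsStrictlyLE b] {N : A}
    (p : N ⟶ K.X b) [Epi p] :
    ∃ φ : (CochainComplex.singleFunctor A b).obj N ⟶ K,
      Epi (HomologicalComplex.homologyMap φ b) := by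
  have hd : K.d b (b + 1) = 0 := (K.isZero_of_isStrictlyLE b (b + 1)).eq_of_tgt _ _
  obtain ⟨φ, hφ⟩ : ∃ φ : (HomologicalComplex.single A (ComplexShape.up ℤ) b).obj N ⟶ K,
      φ.f b = (HomologicalComplex.singleObjXSelf (ComplexShape.up ℤ) b N).hom ≫ p :=
    ⟨HomologicalComplex.mkHomFromSingle p (fun k hk => by
      obtain rfl : b + 1 = k := hk
      rw [hd, comp_zero]), HomologicalComplex.mkHomFromSingle_f _ _⟩
  refine ⟨φ, ?_⟩
  have h1 : IsIso (K.iCycles b) := K.isIso_iCycles b (b + 1) (by simp) hd
  have h2 : IsIso (((HomologicalComplex.single A (ComplexShape.up ℤ) b).obj N).iCycles b) :=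
    HomologicalComplex.isIso_iCycles _ b (b + 1) (by simp) (by simp)
  have hf : Epi (φ.f b) := by rw [hφ]; infer_instance
  have hc : Epi (HomologicalComplex.cyclesMap φ b) := by
    have e : HomologicalComplex.cyclesMap φ b =
        ((HomologicalComplex.single A (ComplexShape.up ℤ) b).obj N).iCycles b ≫ φ.f b ≫
          inv (K.iCycles b) := by
      rw [← Category.assoc, ← HomologicalComplex.cyclesMap_i, Category.assoc, IsIso.hom_inv_id,
        Category.comp_id]
    rw [e]; infer_instance
  haveI : Epi (HomologicalComplex.cyclesMap φ b ≫ K.homologyπ b) := epi_comp _ _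
  exact epi_of_epi_fac (HomologicalComplex.homologyπ_naturality φ b)

lemma exists_epi_to_homology (K : CochainComplex A ℤ) (b : ℤ) [K.IsStrictlyLE b] :
    ∃ q : K.X b ⟶ K.homology b, Epi q := by
  have hd : K.d b (b + 1) = 0 := (K.isZero_of_isStrictlyLE b (b + 1)).eq_of_tgt _ _
  have h1 : IsIso (K.iCycles b) := K.isIso_iCycles b (b + 1) (by simp) hd
  exact ⟨inv (K.iCycles b) ≫ K.homologyπ b, inferInstance⟩

variable [HasDerivedCategory.{w} A]

lemma isIso_homologyMap_mor₁ (T : Triangle (DerivedCategory A)) (hT : T ∈ distTriang _) (n : ℤ)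
    (h₀ : IsZero ((homologyFunctor A (n - 1)).obj T.obj₃))
    (h₁ : IsZero ((homologyFunctor A n).obj T.obj₃)) :
    IsIso ((homologyFunctor A n).map T.mor₁) := by
  have : Mono ((homologyFunctor A n).map T.mor₁) :=
    (HomologySequence.mono_homologyMap_mor₁_iff T hT (n - 1) n (by lia)).2 (h₀.eq_of_src _ _)
  have : Epi ((homologyFunctor A n).map T.mor₁) :=
    (HomologySequence.epi_homologyMap_mor₁_iff T hT n).2 (h₁.eq_of_tgt _ _)
  exact isIso_of_mono_of_epi _

end helpers


open CategoryTheory.Limits in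
/-- Let A be an abelian category in which every object X is the target of an epimorphism N ⟶ X with
Hom(X, N) = 0. Let f : X ⟶ X' be a morphism between bounded objects of D(A) and b an integer with
H^i(X) = 0 for i > b and H^i(X') = 0 for i ≥ b. Then there exist an object N of A and a morphism
N⟦-b⟧ ⟶ X (N placed in degree b) inducing an epimorphism N ⟶ H^b(X), with Hom(H^b(X), N) = 0, and
whose composite with f is zero. -/
theorem result
    {A : Type u} [Category.{v} A] [Abelian A] [HasDerivedCategory.{w} A]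
    (hneg : ∀ X : A, ∃ (N : A) (p : N ⟶ X), Epi p ∧ ∀ f : X ⟶ N, f = 0)
    (X X' : DerivedCategory A) (f : X ⟶ X') (a b a' : ℤ) [X.IsGE a] [X.IsLE b] [X'.IsGE a']
    [X'.IsLE (b - 1)] :
    ∃ (N : A) (g : (DerivedCategory.singleFunctor A b).obj N ⟶ X),
      Epi ((DerivedCategory.homologyFunctor A b).map g) ∧
        (∀ φ : (DerivedCategory.homologyFunctor A b).obj X ⟶ N, φ = 0) ∧ g ≫ f = 0 := by
  obtain ⟨Z, i, δ, hT⟩ := Pretriangulated.distinguished_cocone_triangle₁ f
  have hif : i ≫ f = 0 := Pretriangulated.comp_distTriang_mor_zero₁₂ _ hT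
  have hHf : (DerivedCategory.homologyFunctor A b).map f = 0 :=
    (DerivedCategory.isZero_of_isLE X' (b - 1) b (by lia)).eq_of_tgt _ _
  have hi : Epi ((DerivedCategory.homologyFunctor A b).map i) :=
    (DerivedCategory.HomologySequence.epi_homologyMap_mor₁_iff _ hT b).2 hHf
  have hj₀ : IsIso ((DerivedCategory.homologyFunctor A b).map
      ((DerivedCategory.TStructure.t.truncLTι (b + 1)).app Z)) :=
    isIso_homologyMap_mor₁ ((DerivedCategory.TStructure.t.triangleLTGE (b + 1)).obj Z)
      (DerivedCategory.TStructure.t.triangleLTGE_distinguished (b + 1) Z) b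
      (DerivedCategory.isZero_of_isGE ((DerivedCategory.TStructure.t.truncGE (b + 1)).obj Z)
        (b + 1) (b - 1) (by lia))
      (DerivedCategory.isZero_of_isGE ((DerivedCategory.TStructure.t.truncGE (b + 1)).obj Z)
        (b + 1) b (by lia))
  obtain ⟨j₀, hj₀def⟩ : ∃ j₀ : (DerivedCategory.TStructure.t.truncLT (b + 1)).obj Z ⟶ Z,
      j₀ = (DerivedCategory.TStructure.t.truncLTι (b + 1)).app Z := ⟨_, rfl⟩
  rw [← hj₀def] at hj₀
  obtain ⟨K, hK, ⟨e⟩⟩ := DerivedCategory.exists_iso_Q_obj_of_isLE
    ((DerivedCategory.TStructure.t.truncLT (b + 1)).obj Z) b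
  obtain ⟨N, p, hp, hN⟩ := hneg (K.X b)
  obtain ⟨φ, hφ⟩ := exists_epi_homologyMap K b p
  obtain ⟨q, hq⟩ := exists_epi_to_homology K b
  have hQφ : Epi ((DerivedCategory.homologyFunctor A b).map (DerivedCategory.Q.map φ)) := by
    have h := DerivedCategory.homologyFunctorFactors_hom_naturality φ b
    have h' : Epi ((DerivedCategory.homologyFunctor A b).map (DerivedCategory.Q.map φ) ≫
        (DerivedCategory.homologyFunctorFactors A b).hom.app K) := by
      rw [h]; exact epi_comp' inferInstance hφ
    exact (epi_comp_iff_of_isIso _ _).1 h'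
  haveI he : IsIso ((DerivedCategory.homologyFunctor A b).map e.inv) := Functor.map_isIso _ _
  have htail : Epi ((DerivedCategory.homologyFunctor A b).map (e.inv ≫ j₀ ≫ i)) := by
    rw [CategoryTheory.Functor.map_comp, CategoryTheory.Functor.map_comp]
    haveI : Epi ((DerivedCategory.homologyFunctor A b).map j₀ ≫
        (DerivedCategory.homologyFunctor A b).map i) := epi_comp _ _
    exact epi_comp _ _
  refine ⟨N, DerivedCategory.Q.map φ ≫ e.inv ≫ j₀ ≫ i, ?_, ?_, ?_⟩
  · rw [CategoryTheory.Functor.map_comp]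
    exact epi_comp' hQφ htail
  · intro ψ
    have hepi : Epi (q ≫ (DerivedCategory.homologyFunctorFactors A b).inv.app K ≫
        (DerivedCategory.homologyFunctor A b).map (e.inv ≫ j₀ ≫ i)) := by
      have hfac : IsIso ((DerivedCategory.homologyFunctorFactors A b).inv.app K) :=
        NatIso.inv_app_isIso (DerivedCategory.homologyFunctorFactors A b) K
      have hfac' : Epi ((DerivedCategory.homologyFunctorFactors A b).inv.app K) :=
        IsIso.epi_of_iso _
      exact epi_comp' hq (epi_comp' hfac' htail)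
    have h0 := hN ((q ≫ (DerivedCategory.homologyFunctorFactors A b).inv.app K ≫
        (DerivedCategory.homologyFunctor A b).map (e.inv ≫ j₀ ≫ i)) ≫ ψ)
    exact (cancel_epi _).1 (h0.trans Limits.comp_zero.symm)
  · simp only [Category.assoc, hif, Limits.comp_zero]

end Groth.Agent.S6707
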