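import Groth.Statements.S6708
import Mathlib

set_option autoImplicit false
universe v u
open CategoryTheory
open DEquiv

namespace Groth.Agent.S6708

open CategoryTheory.Limits CategoryTheory.Pretriangulated in
/-- Let D be a pretriangulated category, D' ⊆ D a full triangulated subcategory (given as a property of
objects that is triangulated in Mathlib's sense) and X an object of D. Then the category of arrows E
⟶ X with E in D' is filtered. -/
theorem result
    {D : Type u} [Category.{v} D] [Preadditive D] [HasZeroObject D] [HasShift D ℤ]
    [∀ n : ℤ, (shiftFunctor D n).Additive] [Pretriangulated D]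
    (P : ObjectProperty D) [P.IsTriangulated] (X : D) :
    IsFiltered (CostructuredArrow P.ι X) := by
  have hne : Nonempty (CostructuredArrow P.ι X) := by
    obtain ⟨Z, hZ, hPZ⟩ := (inferInstance : P.ContainsZero).exists_zero
    exact ⟨CategoryTheory.CostructuredArrow.mk (S := P.ι) (Y := ⟨Z, hPZ⟩) (0 : P.ι.obj ⟨Z, hPZ⟩ ⟶ X)⟩
  have hfe : IsFilteredOrEmpty (CostructuredArrow P.ι X) := by
    refine ⟨?_, ?_⟩
    · intro A B
      obtain ⟨Z, hZ, ⟨e⟩⟩ := P.ext_of_isTriangulatedClosed₂' _
        (CategoryTheory.Pretriangulated.binaryBiproductTriangle_distinguished A.left.obj B.left.obj)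
        A.left.property B.left.property
      replace e : CategoryTheory.Limits.biprod A.left.obj B.left.obj ≅ Z := e
      let Y : P.FullSubcategory := ⟨Z, hZ⟩
      let C : CostructuredArrow P.ι X :=
        CategoryTheory.CostructuredArrow.mk (S := P.ι) (Y := Y)
          (show P.ι.obj Y ⟶ X from e.inv ≫ CategoryTheory.Limits.biprod.desc A.hom B.hom)
      refine ⟨C, CategoryTheory.CostructuredArrow.homMk
          (P.homMk (CategoryTheory.Limits.biprod.inl ≫ e.hom)) ?_,
        CategoryTheory.CostructuredArrow.homMk
          (P.homMk (CategoryTheory.Limits.biprod.inr ≫ e.hom)) ?_, trivial⟩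
      · simp [C, CategoryTheory.ObjectProperty.homMk]
      · simp [C, CategoryTheory.ObjectProperty.homMk]
    · intro A B f g
      obtain ⟨Z, hZ, b, c, hT⟩ := P.distinguished_cocone_triangle (f.left.hom - g.left.hom)
        A.left.property B.left.property
      have h0 : (f.left.hom - g.left.hom) ≫ B.hom = 0 := by
        have h1 := CategoryTheory.CostructuredArrow.w f
        have h2 := CategoryTheory.CostructuredArrow.w g
        simp only [CategoryTheory.ObjectProperty.ι_map] at h1 h2
        rw [CategoryTheory.Preadditive.sub_comp, h1, h2, sub_self]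
      obtain ⟨a, ha⟩ := CategoryTheory.Pretriangulated.Triangle.yoneda_exact₂ _ hT B.hom h0
      replace ha : B.hom = b ≫ a := ha
      let Y : P.FullSubcategory := ⟨Z, hZ⟩
      let C : CostructuredArrow P.ι X :=
        CategoryTheory.CostructuredArrow.mk (S := P.ι) (Y := Y) (show P.ι.obj Y ⟶ X from a)
      refine ⟨C, CategoryTheory.CostructuredArrow.homMk (P.homMk b) ?_, ?_⟩
      · simp only [C, CategoryTheory.ObjectProperty.homMk, CategoryTheory.ObjectProperty.ι_map, ha]
        rfl
      · ext
        have h3 : (f.left.hom - g.left.hom) ≫ b = 0 :=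
          CategoryTheory.Pretriangulated.comp_distTriang_mor_zero₁₂ _ hT
        rw [CategoryTheory.Preadditive.sub_comp, sub_eq_zero] at h3
        simpa [CategoryTheory.ObjectProperty.homMk] using h3
  exact { toIsFilteredOrEmpty := hfe, nonempty := hne }

end Groth.Agent.S6708
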