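import Groth.Statements.S6710
import Mathlib

set_option autoImplicit false
universe u v
open CategoryTheory
open FunMor

namespace Groth.Agent.S6710

/-- finitely many elements each nilpotent on `x ≠ 0`: find a nonzero multiple of `x` killed by all. -/
theorem exists_ne_zero_killed {R : Type*} [CommRing R] {N : Type*} [AddCommGroup N] [Module R N]
    (x : N) (hx : x ≠ 0) (G : Finset R) (hG : ∀ g ∈ G, ∃ k : ℕ, g ^ k • x = 0) :
    ∃ y : N, y ≠ 0 ∧ (∃ c : R, y = c • x) ∧ ∀ g ∈ G, g • y = 0 := by
  classical
  induction G using Finset.induction_on with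
  | empty => exact ⟨x, hx, ⟨1, (one_smul _ _).symm⟩, by simp⟩
  | insert a G ha ih =>
    obtain ⟨y, hy, ⟨c, rfl⟩, hyG⟩ := ih (fun g hg => hG g (Finset.mem_insert_of_mem hg))
    have H : ∃ k : ℕ, a ^ k • (c • x) = 0 := by
      obtain ⟨k, hk⟩ := hG a (Finset.mem_insert_self a G)
      exact ⟨k, by rw [smul_comm, hk, smul_zero]⟩
    have h0 : Nat.find H ≠ 0 := by
      intro h
      have := Nat.find_spec H
      rw [h, pow_zero, one_smul] at this
      exact hy this
    refine ⟨a ^ (Nat.find H - 1) • (c • x), Nat.find_min H (Nat.sub_one_lt h0),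
      ⟨a ^ (Nat.find H - 1) * c, by rw [mul_smul]⟩, ?_⟩
    intro g hg
    rcases Finset.mem_insert.mp hg with rfl | hg
    · rw [← mul_smul, ← pow_succ', Nat.sub_add_cancel (Nat.one_le_iff_ne_zero.mpr h0)]
      exact Nat.find_spec H
    · rw [smul_comm, hyG g hg, smul_zero]

theorem exists_ne_zero_hom_of_local {R : Type*} [CommRing R] [IsLocalRing R]
    {M : Type*} [AddCommGroup M] [Module R M] [Module.FinitePresentation R M] [Nontrivial M]
    {N : Type*} [AddCommGroup N] [Module R N] (x : N) (hx : x ≠ 0)
    (hnil : ∀ a ∈ IsLocalRing.maximalIdeal R, ∃ k : ℕ, a ^ k • x = 0) :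
    ∃ φ : M →ₗ[R] N, φ ≠ 0 := by
  classical
  have hex : ∃ n : ℕ, ∃ s : Finset M, s.card = n ∧ Submodule.span R (s : Set M) = ⊤ := by
    obtain ⟨s, hs⟩ := (inferInstance : Module.Finite R M).fg_top
    exact ⟨s.card, s, rfl, hs⟩
  obtain ⟨s, hcard, hs⟩ := Nat.find_spec hex
  have hmin : ∀ s' : Finset M, Submodule.span R (s' : Set M) = ⊤ → Nat.find hex ≤ s'.card :=
    fun s' hs' => Nat.find_min' hex ⟨s', rfl, hs'⟩
  let π : (s →₀ R) →ₗ[R] M := Finsupp.linearCombination R ((↑) : s → M)
  have hπ : Function.Surjective π := by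
    rw [← LinearMap.range_eq_top, Finsupp.range_linearCombination, Subtype.range_val]
    exact hs
  -- all coordinates of relations lie in the maximal ideal
  have hcoord : ∀ r ∈ LinearMap.ker π, ∀ i : s, r i ∈ IsLocalRing.maximalIdeal R := by
    intro r hr i
    by_contra hi
    have hu : IsUnit (r i) := by
      by_contra h
      exact hi ((IsLocalRing.mem_maximalIdeal _).mpr h)
    obtain ⟨u, hu⟩ := hu
    have hsum : ∑ j : s, r j • (j : M) = 0 := by
      have := LinearMap.mem_ker.mp hr
      rw [Finsupp.linearCombination_apply, Finsupp.sum_fintype _ _ (by simp)] at this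
      exact this
    have hi_mem : (i : M) ∈ Submodule.span R ((s.erase (i : M) : Finset M) : Set M) := by
      rw [← Finset.add_sum_erase _ _ (Finset.mem_univ i)] at hsum
      have h1 : (i : M) = -((↑u⁻¹ : R) • ∑ j ∈ Finset.univ.erase i, r j • (j : M)) := by
        have h2 : r i • (i : M) = -∑ j ∈ Finset.univ.erase i, r j • (j : M) :=
          eq_neg_of_add_eq_zero_left hsum
        rw [← smul_neg, ← h2, ← hu, ← mul_smul, Units.inv_mul, one_smul]
      have hmem : -((↑u⁻¹ : R) • ∑ j ∈ Finset.univ.erase i, r j • (j : M)) ∈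
          Submodule.span R ((s.erase (i : M) : Finset M) : Set M) := by
        refine neg_mem (Submodule.smul_mem _ _ (Submodule.sum_mem _ ?_))
        intro j hj
        refine Submodule.smul_mem _ _ (Submodule.subset_span ?_)
        simp only [Finset.coe_erase, Set.mem_sdiff, Finset.mem_coe, Set.mem_singleton_iff]
        refine ⟨j.2, fun h => ?_⟩
        exact (Finset.mem_erase.mp hj).1 (Subtype.ext h)
      rwa [← h1] at hmem
    have hspan : Submodule.span R ((s.erase (i : M) : Finset M) : Set M) = ⊤ := by
      rw [eq_top_iff, ← hs, Submodule.span_le]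
      intro m hm
      by_cases hmi : m = i
      · rw [hmi]; exact hi_mem
      · exact Submodule.subset_span (Finset.mem_coe.mpr (Finset.mem_erase.mpr ⟨hmi, hm⟩))
    have := hmin _ hspan
    rw [Finset.card_erase_of_mem i.2, ← hcard] at this
    have hpos : 0 < s.card := Finset.card_pos.mpr ⟨i, i.2⟩
    omega
  -- s is nonempty
  have hne : s.Nonempty := by
    by_contra h
    rw [Finset.not_nonempty_iff_eq_empty] at h
    rw [h] at hs
    simp only [Finset.coe_empty, Submodule.span_empty] at hs
    exact (not_subsingleton M) ((Submodule.subsingleton_iff R).mp (subsingleton_of_bot_eq_top hs))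
  obtain ⟨i0, hi0⟩ := hne
  let i0' : s := ⟨i0, hi0⟩
  obtain ⟨T, hT⟩ := Module.FinitePresentation.fg_ker π hπ
  have hTker : ∀ r ∈ T, r ∈ LinearMap.ker π := fun r hr => hT ▸ Submodule.subset_span hr
  obtain ⟨y, hy0, -, hyG⟩ := exists_ne_zero_killed x hx (T.image (fun r => r i0'))
    (by
      intro g hg
      obtain ⟨r, hr, rfl⟩ := Finset.mem_image.mp hg
      exact hnil _ (hcoord r (hTker r hr) i0'))
  let φ0 : (s →₀ R) →ₗ[R] N := (LinearMap.toSpanSingleton R N y) ∘ₗ (Finsupp.lapply i0')
  have hφ0 : LinearMap.ker π ≤ LinearMap.ker φ0 := by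
    rw [← hT, Submodule.span_le]
    intro r hr
    simp only [SetLike.mem_coe, LinearMap.mem_ker, φ0, LinearMap.comp_apply, Finsupp.lapply_apply,
      LinearMap.toSpanSingleton_apply]
    exact hyG _ (Finset.mem_image_of_mem _ hr)
  refine ⟨(LinearMap.ker π).liftQ φ0 hφ0 ∘ₗ (LinearMap.quotKerEquivOfSurjective π hπ).symm.toLinearMap, ?_⟩
  intro h
  have := LinearMap.congr_fun h (π (Finsupp.single i0' 1))
  simp only [LinearMap.comp_apply, LinearEquiv.coe_coe, LinearMap.zero_apply] at this
  have h2 : (LinearMap.quotKerEquivOfSurjective π hπ).symm (π (Finsupp.single i0' 1)) =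
      Submodule.Quotient.mk (Finsupp.single i0' 1) := by
    rw [LinearEquiv.symm_apply_eq]
    rfl
  rw [h2, Submodule.liftQ_apply] at this
  simp only [φ0, LinearMap.comp_apply, Finsupp.lapply_apply, Finsupp.single_eq_same,
    LinearMap.toSpanSingleton_apply, one_smul] at this
  exact hy0 this

/-- The statement for an affine scheme written in terms of modules: let A be a commutative ring, M a
finitely presented A-module and N a nonzero A-module with Supp(N) ⊆ Supp(M). Then Hom_A(M, N) is
nonzero. -/
theorem result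
    (A : Type u) [CommRing A] (M : Type v) [AddCommGroup M] [Module A M]
    [Module.FinitePresentation A M] (N : Type v) [AddCommGroup N] [Module A N] [Nontrivial N]
    (h : Module.support A N ⊆ Module.support A M) : Nontrivial (M →ₗ[A] N) := by
  classical
  obtain ⟨x, hx⟩ := exists_ne (0 : N)
  let J : Ideal A := (Submodule.span A {x}).annihilator
  have hJmem : ∀ a : A, a ∈ J ↔ a • x = 0 := fun a => Submodule.mem_annihilator_span_singleton _ _
  have hJ : J ≠ ⊤ := by
    intro hJ
    have : (1 : A) ∈ J := hJ ▸ Submodule.mem_top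
    rw [hJmem, one_smul] at this
    exact hx this
  obtain ⟨p, hp⟩ := Ideal.nonempty_minimalPrimes hJ
  haveI : p.IsPrime := hp.1.1
  have hpN : (⟨p, hp.1.1⟩ : PrimeSpectrum A) ∈ Module.support A N :=
    Module.mem_support_iff_exists_annihilator.mpr ⟨x, hp.1.2⟩
  have hpM := h hpN
  haveI : Nontrivial (LocalizedModule p.primeCompl M) := Module.mem_support_iff.mp hpM
  let x' : LocalizedModule p.primeCompl N := LocalizedModule.mkLinearMap p.primeCompl N x
  have hx' : x' ≠ 0 := by
    intro h0
    obtain ⟨s, hs⟩ := (IsLocalizedModule.eq_zero_iff p.primeCompl (LocalizedModule.mkLinearMap p.primeCompl N)).mp h0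
    have : (s : A) ∈ J := (hJmem _).mpr hs
    exact s.2 (hp.1.2 this)
  have hnil : ∀ a ∈ IsLocalRing.maximalIdeal (Localization.AtPrime p), ∃ k : ℕ, a ^ k • x' = 0 := by
    intro a ha
    rw [← IsLocalization.AtPrime.map_eq_maximalIdeal p (Localization.AtPrime p),
      ← IsLocalization.AtPrime.radical_map_of_mem_minimalPrimes (Localization.AtPrime p) p J hp] at ha
    obtain ⟨k, hk⟩ := ha
    refine ⟨k, ?_⟩
    let K : Ideal (Localization.AtPrime p) := (Submodule.span (Localization.AtPrime p) {x'}).annihilator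
    have hK : J.map (algebraMap A (Localization.AtPrime p)) ≤ K := by
      rw [Ideal.map_le_iff_le_comap]
      intro j hj
      rw [Ideal.mem_comap, Submodule.mem_annihilator_span_singleton, algebraMap_smul]
      simp only [x']
      rw [← map_smul, (hJmem j).mp hj, map_zero]
    exact (Submodule.mem_annihilator_span_singleton _ _).mp (hK hk)
  obtain ⟨ψ, hψ⟩ := exists_ne_zero_hom_of_local (R := Localization.AtPrime p)
    (M := LocalizedModule p.primeCompl M) x' hx' hnil
  let g : M →ₗ[A] LocalizedModule p.primeCompl N :=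
    (ψ.restrictScalars A) ∘ₗ (LocalizedModule.mkLinearMap p.primeCompl M)
  have hg : g ≠ 0 := by
    intro hg0
    apply hψ
    have h1 : ψ.restrictScalars A = 0 := by
      apply IsLocalizedModule.ext p.primeCompl (LocalizedModule.mkLinearMap p.primeCompl M)
        (IsLocalizedModule.map_units (LocalizedModule.mkLinearMap p.primeCompl N))
      rw [LinearMap.zero_comp]
      exact hg0
    ext z
    exact LinearMap.congr_fun h1 z
  obtain ⟨φ, s, hφ⟩ := Module.FinitePresentation.exists_lift_of_isLocalizedModule p.primeCompl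
    (LocalizedModule.mkLinearMap p.primeCompl N) g
  refine ⟨φ, 0, ?_⟩
  intro h0
  apply hg
  ext m
  have h1 := LinearMap.congr_fun hφ m
  rw [h0] at h1
  simp only [LinearMap.comp_zero, LinearMap.zero_apply, LinearMap.smul_apply] at h1
  have := IsLocalizedModule.smul_injective (LocalizedModule.mkLinearMap p.primeCompl N) s
  exact this (by simpa using h1.symm)

end Groth.Agent.S6710
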