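import Groth.Statements.S6718
import Mathlib

set_option autoImplicit false
universe w v u
open CategoryTheory
open DEquiv

namespace Groth.Agent.S6718

section
variable {k : Type w} [Field k]
    {T : Type u} [Category.{v} T] [Preadditive T] [Linear k T]
    [∀ X Y : T, Module.Finite k (X ⟶ Y)]

/-- data of a "right Serre object" assignment -/
structure SData (k : Type w) [Field k] (T : Type u) [Category.{v} T] [Preadditive T] [Linear k T] where
  Sobj : T → T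
  tr : ∀ X : T, Module.Dual k (X ⟶ Sobj X)
  P1 : ∀ {X Z : T} (h₁ h₂ : Z ⟶ Sobj X),
    (∀ u : X ⟶ Z, tr X (u ≫ h₁) = tr X (u ≫ h₂)) → h₁ = h₂
  P2 : ∀ {X Z : T} (ξ : Module.Dual k (X ⟶ Z)), ∃ h : Z ⟶ Sobj X, ∀ u : X ⟶ Z, tr X (u ≫ h) = ξ u
  P3 : ∀ {X Y : T} (f₁ f₂ : X ⟶ Y),
    (∀ h : Y ⟶ Sobj X, tr X (f₁ ≫ h) = tr X (f₂ ≫ h)) → f₁ = f₂
  P4 : ∀ {X Y : T} (ξ : Module.Dual k (Y ⟶ Sobj X)), ∃ f : X ⟶ Y, ∀ h : Y ⟶ Sobj X, tr X (f ≫ h) = ξ h

open CategoryTheory in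
theorem mkSData
    (hS : ∀ X : T, ∃ (SX : T) (e : ∀ Y : T, (Y ⟶ SX) ≃ₗ[k] Module.Dual k (X ⟶ Y)),
        ∀ (Y Y' : T) (g : Y' ⟶ Y) (f : Y ⟶ SX),
          e Y' (g ≫ f) = (e Y f) ∘ₗ Linear.rightComp k X g) :
    ∃ D : SData.{w, v, u} k T, True := by
  choose Sobj e he using hS
  have E1 : ∀ (X Y : T) (f : Y ⟶ Sobj X) (u : X ⟶ Y),
      e X Y f u = e X (Sobj X) (𝟙 _) (u ≫ f) := by
    intro X Y f u
    have := he X (Sobj X) Y f (𝟙 _)
    rw [Category.comp_id] at this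
    rw [this]; rfl
  have hflip : ∀ X Y : T, Function.Bijective
      ((e X Y).toLinearMap.flip : (X ⟶ Y) →ₗ[k] Module.Dual k (Y ⟶ Sobj X)) := by
    intro X Y
    haveI : FiniteDimensional k (Y ⟶ Sobj X) := inferInstance
    exact LinearMap.flip_bijective_iff₁.2 (e X Y).bijective
  refine ⟨{ Sobj := Sobj, tr := fun X ↦ e X (Sobj X) (𝟙 _), P1 := ?_, P2 := ?_, P3 := ?_, P4 := ?_ },
    trivial⟩
  · intro X Z h₁ h₂ h
    apply (e X Z).injective
    ext u
    rw [E1 X Z h₁ u, E1 X Z h₂ u, h]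
  · intro X Z ξ
    refine ⟨(e X Z).symm ξ, fun u ↦ ?_⟩
    rw [← E1, LinearEquiv.apply_symm_apply]
  · intro X Y f₁ f₂ h
    apply (hflip X Y).1
    ext g
    simp only [LinearMap.flip_apply, LinearEquiv.coe_coe]
    rw [E1 X Y g f₁, E1 X Y g f₂, h]
  · intro X Y ξ
    obtain ⟨f, hf⟩ := (hflip X Y).2 ξ
    refine ⟨f, fun h ↦ ?_⟩
    rw [← hf, ← E1]
    rfl

namespace SData
variable (D : SData.{w, v, u} k T)

open CategoryTheory in
noncomputable def Smap {X' X : T} (a : X' ⟶ X) : D.Sobj X' ⟶ D.Sobj X :=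
  (D.P2 ((D.tr X').comp (Linear.leftComp k (D.Sobj X') a))).choose

open CategoryTheory in
theorem K2 {X' X : T} (a : X' ⟶ X) (h : X ⟶ D.Sobj X') :
    D.tr X (h ≫ D.Smap a) = D.tr X' (a ≫ h) :=
  (D.P2 ((D.tr X').comp (Linear.leftComp k (D.Sobj X') a))).choose_spec h

open CategoryTheory in
theorem Smap_id (X : T) : D.Smap (𝟙 X) = 𝟙 (D.Sobj X) := by
  apply D.P1; intro u; rw [K2]; simp

open CategoryTheory in
theorem Smap_comp {X'' X' X : T} (a' : X'' ⟶ X') (a : X' ⟶ X) :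
    D.Smap (a' ≫ a) = D.Smap a' ≫ D.Smap a := by
  apply D.P1; intro u
  rw [K2, ← Category.assoc u, K2, ← Category.assoc a, K2, Category.assoc]

open CategoryTheory in
theorem Smap_add {X' X : T} (a b : X' ⟶ X) : D.Smap (a + b) = D.Smap a + D.Smap b := by
  apply D.P1; intro u
  rw [Preadditive.comp_add, map_add, K2, K2, K2, Preadditive.add_comp, map_add]

open CategoryTheory in
theorem Smap_smul {X' X : T} (r : k) (a : X' ⟶ X) : D.Smap (r • a) = r • D.Smap a := by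
  apply D.P1; intro u
  rw [Linear.comp_smul, map_smul, K2, K2, Linear.smul_comp, map_smul]

open CategoryTheory in
theorem Smap_inj {X' X : T} (a b : X' ⟶ X) (hab : D.Smap a = D.Smap b) : a = b := by
  apply D.P3; intro h
  rw [← D.K2 a h, ← D.K2 b h, hab]

open CategoryTheory in
theorem Smap_surj {X' X : T} (φ : D.Sobj X' ⟶ D.Sobj X) : ∃ a : X' ⟶ X, D.Smap a = φ := by
  obtain ⟨a, ha⟩ := D.P4 (X := X') (Y := X) ((D.tr X).comp (Linear.rightComp k X φ))
  refine ⟨a, ?_⟩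
  apply D.P1; intro u
  rw [K2, ha]; rfl

open CategoryTheory in
noncomputable def S : T ⥤ T where
  obj := D.Sobj
  map a := D.Smap a
  map_id X := D.Smap_id X
  map_comp a' a := D.Smap_comp a' a

open CategoryTheory in
instance : D.S.Additive where
  map_add {X' X a b} := D.Smap_add a b

open CategoryTheory in
instance : D.S.Linear k where
  map_smul {X' X} a r := D.Smap_smul r a

open CategoryTheory in
instance : D.S.Faithful where
  map_injective {X' X a b} hab := D.Smap_inj a b hab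

open CategoryTheory in
instance : D.S.Full where
  map_surjective {X' X} φ := D.Smap_surj φ

open CategoryTheory in
noncomputable def c (X Y : T) : (X ⟶ Y) ≃ₗ[k] Module.Dual k (Y ⟶ D.S.obj X) :=
  LinearEquiv.ofBijective
    { toFun := fun f ↦ (D.tr X).comp (Linear.leftComp k (D.Sobj X) f)
      map_add' := by intro f g; ext h; simp [Preadditive.add_comp]
      map_smul' := by
        intro r f; ext h
        simp only [LinearMap.coe_comp, Function.comp_apply, Linear.leftComp_apply, Linear.smul_comp,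
          map_smul, RingHom.id_apply]
        rfl }
    ⟨fun f₁ f₂ h ↦ D.P3 f₁ f₂ (fun g ↦ congrArg (fun l ↦ l g) h),
     fun ξ ↦ by
      obtain ⟨f, hf⟩ := D.P4 ξ
      exact ⟨f, by ext h; exact hf h⟩⟩

open CategoryTheory in
theorem c_apply (X Y : T) (f : X ⟶ Y) (h : Y ⟶ D.Sobj X) : D.c X Y f h = D.tr X (f ≫ h) := rfl

open CategoryTheory in
theorem hc₁ (X Y Y' : T) (f : X ⟶ Y) (g : Y ⟶ Y') :
    D.c X Y' (f ≫ g) = (D.c X Y f) ∘ₗ Linear.leftComp k (D.S.obj X) g := by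
  refine LinearMap.ext (fun (h : Y' ⟶ D.Sobj X) ↦ ?_)
  show D.tr X ((f ≫ g) ≫ h) = D.tr X (f ≫ g ≫ h)
  rw [Category.assoc]

open CategoryTheory in
theorem hc₂ (X' X Y : T) (a : X' ⟶ X) (f : X ⟶ Y) :
    D.c X' Y (a ≫ f) = (D.c X Y f) ∘ₗ Linear.rightComp k Y (D.S.map a) := by
  refine LinearMap.ext (fun (h : Y ⟶ D.Sobj X') ↦ ?_)
  show D.tr X' ((a ≫ f) ≫ h) = D.tr X (f ≫ h ≫ D.Smap a)
  rw [← Category.assoc f, D.K2, Category.assoc]

open CategoryTheory in
theorem essSurj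
    (hR : ∀ X : T, ∃ (RX : T) (e : ∀ Y : T, (RX ⟶ Y) ≃ₗ[k] Module.Dual k (Y ⟶ X)),
        ∀ (Y Y' : T) (g : Y ⟶ Y') (f : RX ⟶ Y),
          e Y' (f ≫ g) = (e Y f) ∘ₗ Linear.leftComp k X g) : D.S.EssSurj := by
  choose R e' he' using hR
  have E1 : ∀ (Z Y : T) (f : R Z ⟶ Y) (u : Y ⟶ Z),
      e' Z Y f u = e' Z (R Z) (𝟙 _) (f ≫ u) := by
    intro Z Y f u
    have := he' Z (R Z) Y f (𝟙 _)
    rw [Category.id_comp] at this
    rw [this]; rfl
  have hflip : ∀ Z Y : T, Function.Bijective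
      ((e' Z Y).toLinearMap.flip : (Y ⟶ Z) →ₗ[k] Module.Dual k (R Z ⟶ Y)) := by
    intro Z Y
    haveI : FiniteDimensional k (R Z ⟶ Y) := inferInstance
    exact LinearMap.flip_bijective_iff₁.2 (e' Z Y).bijective
  refine ⟨fun Z ↦ ?_⟩
  obtain ⟨α, hα⟩ := D.P2 (X := R Z) (Z := Z) (e' Z (R Z) (𝟙 _))
  obtain ⟨β, hβ⟩ := (hflip Z (D.Sobj (R Z))).2 (D.tr (R Z))
  have hβ' : ∀ f : R Z ⟶ D.Sobj (R Z), e' Z (R Z) (𝟙 _) (f ≫ β) = D.tr (R Z) f := by
    intro f
    rw [← hβ, ← E1]; rfl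
  have h1 : β ≫ α = 𝟙 (D.Sobj (R Z)) := by
    apply D.P1; intro u
    rw [Category.comp_id, ← Category.assoc, hα, hβ']
  have h2 : α ≫ β = 𝟙 Z := by
    apply (hflip Z Z).1
    ext f
    simp only [LinearMap.flip_apply, LinearEquiv.coe_coe]
    rw [E1 Z Z f (α ≫ β), E1 Z Z f (𝟙 Z), Category.comp_id, ← Category.assoc, hβ', hα]
  exact ⟨R Z, ⟨(⟨β, α, h1, h2⟩ : D.Sobj (R Z) ≅ Z)⟩⟩

end SData
end

open CategoryTheory.Limits CategoryTheory.Pretriangulated in
/-- Let k be a field and T a k-linear (pre)triangulated category with dim_k Hom(X, Y) < ∞ for all X, Y.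
The following are equivalent: (1) there are a k-linear equivalence S : T ⥤ T and k-linear
isomorphisms c_{X,Y} : Hom(X, Y) ≅ Hom(Y, S X)^∨ natural in X and in Y; (2) for every object X the
functor Y ↦ Hom(X, Y)^∨ is representable and the functor Y ↦ Hom(Y, X)^∨ is corepresentable, by
k-linear isomorphisms natural in Y. (Here V^∨ is the k-linear dual.) -/
theorem result
    {k : Type w} [Field k]
    {T : Type u} [Category.{v} T] [Preadditive T] [Linear k T] [HasZeroObject T] [HasShift T ℤ]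
    [∀ n : ℤ, (shiftFunctor T n).Additive] [∀ n : ℤ, (shiftFunctor T n).Linear k] [Pretriangulated T]
    [∀ X Y : T, Module.Finite k (X ⟶ Y)] :
    (∃ (S : T ≌ T) (_ : S.functor.Additive) (_ : S.functor.Linear k)
        (c : ∀ X Y : T, (X ⟶ Y) ≃ₗ[k] Module.Dual k (Y ⟶ S.functor.obj X)),
        (∀ (X Y Y' : T) (f : X ⟶ Y) (g : Y ⟶ Y'),
          c X Y' (f ≫ g) = (c X Y f) ∘ₗ Linear.leftComp k (S.functor.obj X) g) ∧
        (∀ (X' X Y : T) (a : X' ⟶ X) (f : X ⟶ Y),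
          c X' Y (a ≫ f) = (c X Y f) ∘ₗ Linear.rightComp k Y (S.functor.map a))) ↔
    ((∀ X : T, ∃ (SX : T) (e : ∀ Y : T, (Y ⟶ SX) ≃ₗ[k] Module.Dual k (X ⟶ Y)),
        ∀ (Y Y' : T) (g : Y' ⟶ Y) (f : Y ⟶ SX),
          e Y' (g ≫ f) = (e Y f) ∘ₗ Linear.rightComp k X g) ∧
      (∀ X : T, ∃ (RX : T) (e : ∀ Y : T, (RX ⟶ Y) ≃ₗ[k] Module.Dual k (Y ⟶ X)),
        ∀ (Y Y' : T) (g : Y ⟶ Y') (f : RX ⟶ Y),
          e Y' (f ≫ g) = (e Y f) ∘ₗ Linear.leftComp k X g)) := by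
  constructor
  · rintro ⟨S, _, _, c, hc₁, hc₂⟩
    have hflip : ∀ X Y : T, Function.Bijective
        ((c X Y).toLinearMap.flip : (Y ⟶ S.functor.obj X) →ₗ[k] Module.Dual k (X ⟶ Y)) := by
      intro X Y
      haveI : FiniteDimensional k (X ⟶ Y) := inferInstance
      exact LinearMap.flip_bijective_iff₁.2 (c X Y).bijective
    constructor
    · intro X
      refine ⟨S.functor.obj X, fun Y ↦ LinearEquiv.ofBijective _ (hflip X Y), ?_⟩
      intro Y Y' g f
      ext u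
      simp only [LinearEquiv.ofBijective_apply, LinearMap.flip_apply, LinearEquiv.coe_coe,
        LinearMap.coe_comp, Function.comp_apply, Linear.rightComp_apply]
      rw [hc₁ X Y' Y u g]
      rfl
    · intro X
      let ε := S.counitIso.app X
      let θ : ∀ Y : T, (Y ⟶ X) ≃ₗ[k] (Y ⟶ S.functor.obj (S.inverse.obj X)) := fun Y ↦
        LinearEquiv.ofLinear (Linear.rightComp k Y ε.inv) (Linear.rightComp k Y ε.hom)
          (by ext u; simp) (by ext u; simp)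
      refine ⟨S.inverse.obj X, fun Y ↦ (c (S.inverse.obj X) Y).trans (θ Y).dualMap, ?_⟩
      intro Y Y' g f
      ext u
      simp only [LinearEquiv.trans_apply, LinearEquiv.dualMap_apply, LinearMap.coe_comp,
        Function.comp_apply, Linear.leftComp_apply]
      rw [hc₁ (S.inverse.obj X) Y Y' f g]
      simp [θ]
  · rintro ⟨hS, hR⟩
    obtain ⟨D, -⟩ := Groth.Agent.S6718.mkSData hS
    haveI : D.S.EssSurj := D.essSurj hR
    haveI : D.S.IsEquivalence := { }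
    refine ⟨D.S.asEquivalence, (inferInstance : D.S.Additive), (inferInstance : D.S.Linear k),
      D.c, ?_, ?_⟩
    · exact D.hc₁
    · exact D.hc₂

end Groth.Agent.S6718
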