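import Groth.Statements.S6731
import Mathlib

set_option autoImplicit false
universe w v u
open CategoryTheory
open DEquiv

namespace Groth.Agent.S6731

section
variable {k : Type w} [Field k]
    {T : Type u} [Category.{v} T] [Preadditive T] [Linear k T]
    [∀ X Y : T, Module.Finite k (X ⟶ Y)]

open CategoryTheory in
theorem K1 {F : T ⥤ T}
    (c : ∀ X Y : T, (X ⟶ Y) ≃ₗ[k] Module.Dual k (Y ⟶ F.obj X))
    (hc₁ : ∀ (X Y Y' : T) (f : X ⟶ Y) (g : Y ⟶ Y'),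
      c X Y' (f ≫ g) = (c X Y f) ∘ₗ Linear.leftComp k (F.obj X) g)
    {X Y : T} (f : X ⟶ Y) (h : Y ⟶ F.obj X) :
    c X Y f h = c X X (𝟙 X) (f ≫ h) := by
  have := hc₁ X X Y (𝟙 X) f
  rw [Category.id_comp] at this
  rw [this]
  rfl

open CategoryTheory in
theorem K2 {F : T ⥤ T}
    (c : ∀ X Y : T, (X ⟶ Y) ≃ₗ[k] Module.Dual k (Y ⟶ F.obj X))
    (hc₁ : ∀ (X Y Y' : T) (f : X ⟶ Y) (g : Y ⟶ Y'),
      c X Y' (f ≫ g) = (c X Y f) ∘ₗ Linear.leftComp k (F.obj X) g)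
    (hc₂ : ∀ (X' X Y : T) (a : X' ⟶ X) (f : X ⟶ Y),
      c X' Y (a ≫ f) = (c X Y f) ∘ₗ Linear.rightComp k Y (F.map a))
    {X' X : T} (a : X' ⟶ X) (h : X ⟶ F.obj X') :
    c X' X' (𝟙 X') (a ≫ h) = c X X (𝟙 X) (h ≫ F.map a) := by
  rw [← K1 c hc₁ a h]
  have := hc₂ X' X X a (𝟙 X)
  rw [Category.comp_id] at this
  rw [this]
  rfl

open CategoryTheory in
theorem flip_bij {F : T ⥤ T}
    (c : ∀ X Y : T, (X ⟶ Y) ≃ₗ[k] Module.Dual k (Y ⟶ F.obj X)) (X Z : T) :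
    Function.Bijective ((c X Z).toLinearMap.flip : (Z ⟶ F.obj X) →ₗ[k] Module.Dual k (X ⟶ Z)) := by
  haveI : FiniteDimensional k (X ⟶ Z) := inferInstance
  exact LinearMap.flip_bijective_iff₁.2 (c X Z).bijective

open CategoryTheory in
theorem uniq_comp {F : T ⥤ T}
    (c : ∀ X Y : T, (X ⟶ Y) ≃ₗ[k] Module.Dual k (Y ⟶ F.obj X))
    (hc₁ : ∀ (X Y Y' : T) (f : X ⟶ Y) (g : Y ⟶ Y'),
      c X Y' (f ≫ g) = (c X Y f) ∘ₗ Linear.leftComp k (F.obj X) g)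
    {X Z : T} (h₁ h₂ : Z ⟶ F.obj X)
    (h : ∀ u : X ⟶ Z, c X X (𝟙 X) (u ≫ h₁) = c X X (𝟙 X) (u ≫ h₂)) : h₁ = h₂ := by
  apply (flip_bij c X Z).1
  ext u
  simp only [LinearMap.flip_apply, LinearEquiv.coe_coe]
  rw [K1 c hc₁ u h₁, K1 c hc₁ u h₂, h]

open CategoryTheory in
theorem exists_comp {F : T ⥤ T}
    (c : ∀ X Y : T, (X ⟶ Y) ≃ₗ[k] Module.Dual k (Y ⟶ F.obj X))
    (hc₁ : ∀ (X Y Y' : T) (f : X ⟶ Y) (g : Y ⟶ Y'),
      c X Y' (f ≫ g) = (c X Y f) ∘ₗ Linear.leftComp k (F.obj X) g)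
    {X Z : T} (ξ : Module.Dual k (X ⟶ Z)) :
    ∃ h : Z ⟶ F.obj X, ∀ u : X ⟶ Z, c X X (𝟙 X) (u ≫ h) = ξ u := by
  obtain ⟨h, hh⟩ := (flip_bij c X Z).2 ξ
  refine ⟨h, fun u ↦ ?_⟩
  rw [← K1 c hc₁, ← hh]
  rfl

open CategoryTheory in
theorem exists_nat {F F' : T ⥤ T}
    (c : ∀ X Y : T, (X ⟶ Y) ≃ₗ[k] Module.Dual k (Y ⟶ F.obj X))
    (hc₁ : ∀ (X Y Y' : T) (f : X ⟶ Y) (g : Y ⟶ Y'),
      c X Y' (f ≫ g) = (c X Y f) ∘ₗ Linear.leftComp k (F.obj X) g)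
    (hc₂ : ∀ (X' X Y : T) (a : X' ⟶ X) (f : X ⟶ Y),
      c X' Y (a ≫ f) = (c X Y f) ∘ₗ Linear.rightComp k Y (F.map a))
    (c' : ∀ X Y : T, (X ⟶ Y) ≃ₗ[k] Module.Dual k (Y ⟶ F'.obj X))
    (hc'₁ : ∀ (X Y Y' : T) (f : X ⟶ Y) (g : Y ⟶ Y'),
      c' X Y' (f ≫ g) = (c' X Y f) ∘ₗ Linear.leftComp k (F'.obj X) g)
    (hc'₂ : ∀ (X' X Y : T) (a : X' ⟶ X) (f : X ⟶ Y),
      c' X' Y (a ≫ f) = (c' X Y f) ∘ₗ Linear.rightComp k Y (F'.map a)) :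
    ∃ φ : F ⟶ F', ∀ (X : T) (u : X ⟶ F.obj X),
      c X X (𝟙 X) u = c' X X (𝟙 X) (u ≫ φ.app X) := by
  choose φ hφ using fun X : T ↦ exists_comp c' hc'₁ (X := X) (Z := F.obj X) (c X X (𝟙 X))
  refine ⟨{ app := φ, naturality := ?_ }, fun X u ↦ (hφ X u).symm⟩
  intro X' X a
  apply uniq_comp c' hc'₁
  intro u
  rw [← Category.assoc, hφ X (u ≫ F.map a), ← K2 c hc₁ hc₂ a u,
    ← Category.assoc, ← K2 c' hc'₁ hc'₂ a (u ≫ φ X'), ← Category.assoc, hφ X' (a ≫ u)]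

end

open CategoryTheory.Limits CategoryTheory.Pretriangulated in
/-- Let k be a field and T a k-linear triangulated category with dim_k Hom(X, Y) < ∞ for all X, Y. Let
(S, c) and (S', c') be Serre functors: k-linear equivalences T ⥤ T with k-linear isomorphisms
c_{X,Y} : Hom(X, Y) ≅ Hom(Y, S X)^∨ natural in X and Y (likewise c'). Then there is a unique
isomorphism of functors φ : S ≅ S' compatible with c and c', i.e. c_{X,Y}(f) is c'_{X,Y}(f) composed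
with postcomposition by φ_X. -/
theorem result
    {k : Type w} [Field k]
    {T : Type u} [Category.{v} T] [Preadditive T] [Linear k T] [HasZeroObject T] [HasShift T ℤ]
    [∀ n : ℤ, (shiftFunctor T n).Additive] [∀ n : ℤ, (shiftFunctor T n).Linear k] [Pretriangulated T]
    [IsTriangulated T] [∀ X Y : T, Module.Finite k (X ⟶ Y)]
    (S : T ≌ T) [S.functor.Additive] [S.functor.Linear k]
    (c : ∀ X Y : T, (X ⟶ Y) ≃ₗ[k] Module.Dual k (Y ⟶ S.functor.obj X))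
    (hc₁ : ∀ (X Y Y' : T) (f : X ⟶ Y) (g : Y ⟶ Y'),
      c X Y' (f ≫ g) = (c X Y f) ∘ₗ Linear.leftComp k (S.functor.obj X) g)
    (hc₂ : ∀ (X' X Y : T) (a : X' ⟶ X) (f : X ⟶ Y),
      c X' Y (a ≫ f) = (c X Y f) ∘ₗ Linear.rightComp k Y (S.functor.map a))
    (S' : T ≌ T) [S'.functor.Additive] [S'.functor.Linear k]
    (c' : ∀ X Y : T, (X ⟶ Y) ≃ₗ[k] Module.Dual k (Y ⟶ S'.functor.obj X))
    (hc'₁ : ∀ (X Y Y' : T) (f : X ⟶ Y) (g : Y ⟶ Y'),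
      c' X Y' (f ≫ g) = (c' X Y f) ∘ₗ Linear.leftComp k (S'.functor.obj X) g)
    (hc'₂ : ∀ (X' X Y : T) (a : X' ⟶ X) (f : X ⟶ Y),
      c' X' Y (a ≫ f) = (c' X Y f) ∘ₗ Linear.rightComp k Y (S'.functor.map a)) :
    ∃! φ : S.functor ≅ S'.functor, ∀ (X Y : T) (f : X ⟶ Y),
      c X Y f = (c' X Y f) ∘ₗ Linear.rightComp k Y (φ.hom.app X) := by
  obtain ⟨φ, hφ⟩ := Groth.Agent.S6731.exists_nat c hc₁ hc₂ c' hc'₁ hc'₂
  obtain ⟨ψ, hψ⟩ := Groth.Agent.S6731.exists_nat c' hc'₁ hc'₂ c hc₁ hc₂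
  have h1 : φ ≫ ψ = 𝟙 _ := by
    ext X
    apply Groth.Agent.S6731.uniq_comp c hc₁
    intro u
    simp only [NatTrans.comp_app, NatTrans.id_app, Category.comp_id]
    rw [← Category.assoc, ← hψ X (u ≫ φ.app X), ← hφ X u]
  have h2 : ψ ≫ φ = 𝟙 _ := by
    ext X
    apply Groth.Agent.S6731.uniq_comp c' hc'₁
    intro u
    simp only [NatTrans.comp_app, NatTrans.id_app, Category.comp_id]
    rw [← Category.assoc, ← hφ X (u ≫ ψ.app X), ← hψ X u]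
  refine ⟨⟨φ, ψ, h1, h2⟩, ?_, ?_⟩
  · intro X Y f
    ext g
    simp only [LinearMap.coe_comp, Function.comp_apply, Linear.rightComp_apply]
    rw [Groth.Agent.S6731.K1 c hc₁ f g, Groth.Agent.S6731.K1 c' hc'₁ f (g ≫ φ.app X),
      hφ X (f ≫ g), Category.assoc]
  · intro φ' hφ'
    ext X
    apply Groth.Agent.S6731.uniq_comp c' hc'₁
    intro u
    have := hφ' X X (𝟙 X)
    have h3 := congrArg (fun l ↦ l u) this
    simp only [LinearMap.coe_comp, Function.comp_apply, Linear.rightComp_apply] at h3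
    rw [← h3, hφ X u]

end Groth.Agent.S6731
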