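import Groth.Statements.S6732
import Mathlib
import Groth.Agent.S6731

set_option autoImplicit false
universe w v u
open CategoryTheory
open DEquiv

namespace Groth.Agent.S6732

section
variable {k : Type w} [Field k]
    {T : Type u} [Category.{v} T] [Preadditive T] [Linear k T]
    [∀ X Y : T, Module.Finite k (X ⟶ Y)]

open CategoryTheory in
theorem exists_commIso {F F' G : T ⥤ T} [G.Full] [G.Faithful] [G.EssSurj] [G.Additive] [G.Linear k]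
    (c : ∀ X Y : T, (X ⟶ Y) ≃ₗ[k] Module.Dual k (Y ⟶ F.obj X))
    (hc₁ : ∀ (X Y Y' : T) (f : X ⟶ Y) (g : Y ⟶ Y'),
      c X Y' (f ≫ g) = (c X Y f) ∘ₗ Linear.leftComp k (F.obj X) g)
    (hc₂ : ∀ (X' X Y : T) (a : X' ⟶ X) (f : X ⟶ Y),
      c X' Y (a ≫ f) = (c X Y f) ∘ₗ Linear.rightComp k Y (F.map a))
    (c' : ∀ X Y : T, (X ⟶ Y) ≃ₗ[k] Module.Dual k (Y ⟶ F'.obj X))
    (hc'₁ : ∀ (X Y Y' : T) (f : X ⟶ Y) (g : Y ⟶ Y'),
      c' X Y' (f ≫ g) = (c' X Y f) ∘ₗ Linear.leftComp k (F'.obj X) g)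
    (hc'₂ : ∀ (X' X Y : T) (a : X' ⟶ X) (f : X ⟶ Y),
      c' X' Y (a ≫ f) = (c' X Y f) ∘ₗ Linear.rightComp k Y (F'.map a)) :
    ∃ ε : F ⋙ G ≅ G ⋙ F', ∀ (X : T) (v : X ⟶ F.obj X),
      c' (G.obj X) (G.obj X) (𝟙 _) (G.map v ≫ ε.hom.app X) = c X X (𝟙 X) v := by
  -- the shift equivalence on homs
  let σ : ∀ X Y : T, (X ⟶ Y) ≃ₗ[k] (G.obj X ⟶ G.obj Y) := fun X Y ↦
    LinearEquiv.ofBijective (G.mapLinearMap k)
      ⟨G.map_injective, G.map_surjective⟩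
  have hσ : ∀ (X Y : T) (v : X ⟶ Y), σ X Y v = G.map v := fun _ _ _ ↦ rfl
  have hσs : ∀ (X Y : T) (w : G.obj X ⟶ G.obj Y), G.map ((σ X Y).symm w) = w := fun X Y w ↦
    (σ X Y).apply_symm_apply w
  choose ε hε using fun X : T ↦ Groth.Agent.S6731.exists_comp c' hc'₁ (X := G.obj X)
    (Z := G.obj (F.obj X)) ((c X X (𝟙 X)).comp (σ X (F.obj X)).symm.toLinearMap)
  have hε' : ∀ (X : T) (v : X ⟶ F.obj X),
      c' (G.obj X) (G.obj X) (𝟙 _) (G.map v ≫ ε X) = c X X (𝟙 X) v := by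
    intro X v
    rw [hε X (G.map v)]
    simp only [LinearMap.coe_comp, LinearEquiv.coe_coe, Function.comp_apply]
    rw [← hσ, LinearEquiv.symm_apply_apply]
  -- naturality
  have hnat : ∀ {X' X : T} (a : X' ⟶ X), G.map (F.map a) ≫ ε X = ε X' ≫ F'.map (G.map a) := by
    intro X' X a
    apply Groth.Agent.S6731.uniq_comp c' hc'₁
    intro u
    obtain ⟨u0, rfl⟩ := G.map_surjective u
    rw [← Category.assoc, ← G.map_comp, hε' X (u0 ≫ F.map a),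
      ← Groth.Agent.S6731.K2 c hc₁ hc₂ a u0,
      ← Category.assoc, ← Groth.Agent.S6731.K2 c' hc'₁ hc'₂ (G.map a) (G.map u0 ≫ ε X'),
      ← Category.assoc, ← G.map_comp, hε' X' (a ≫ u0)]
  -- inverse
  have hinv : ∀ X : T, IsIso (ε X) := by
    intro X
    obtain ⟨W, ⟨ζ⟩⟩ : ∃ W, Nonempty (G.obj W ≅ F'.obj (G.obj X)) :=
      ⟨G.objPreimage _, ⟨G.objObjPreimageIso _⟩⟩
    obtain ⟨w0, hw0⟩ := Groth.Agent.S6731.exists_comp c hc₁ (X := X) (Z := W)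
      ((c' (G.obj X) (G.obj X) (𝟙 _)).comp
        ((Linear.rightComp k (G.obj X) ζ.hom).comp (σ X W).toLinearMap))
    have hw0' : ∀ u0 : X ⟶ W, c X X (𝟙 X) (u0 ≫ w0) =
        c' (G.obj X) (G.obj X) (𝟙 _) (G.map u0 ≫ ζ.hom) := fun u0 ↦ hw0 u0
    have h1 : (ζ.inv ≫ G.map w0) ≫ ε X = 𝟙 _ := by
      apply Groth.Agent.S6731.uniq_comp c' hc'₁
      intro u
      obtain ⟨u0, hu0⟩ := G.map_surjective (u ≫ ζ.inv)
      rw [Category.comp_id, Category.assoc, ← Category.assoc u, ← hu0, ← Category.assoc,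
        ← G.map_comp, hε', hw0', hu0, Category.assoc, Iso.inv_hom_id, Category.comp_id]
    have h2 : ε X ≫ (ζ.inv ≫ G.map w0) = 𝟙 _ := by
      obtain ⟨m, hm⟩ := G.map_surjective (ε X ≫ (ζ.inv ≫ G.map w0))
      have : m = 𝟙 _ := by
        apply Groth.Agent.S6731.uniq_comp c hc₁
        intro v
        rw [Category.comp_id, ← hε' X (v ≫ m), G.map_comp, hm, Category.assoc,
          Category.assoc, h1, Category.comp_id, hε']
      rw [← hm, this, G.map_id]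
    exact ⟨⟨ζ.inv ≫ G.map w0, h2, h1⟩⟩
  refine ⟨NatIso.ofComponents (fun X ↦ @asIso _ _ _ _ (ε X) (hinv X)) ?_, ?_⟩
  · intro X' X a
    exact hnat a
  · intro X v
    exact hε' X v

end
set_option backward.defeqAttrib.useBackward true in
open CategoryTheory CategoryTheory.Limits CategoryTheory.Pretriangulated in
theorem triangle_dist
    {k : Type w} [Field k]
    {T : Type u} [Category.{v} T] [Preadditive T] [Linear k T] [HasZeroObject T] [HasShift T ℤ]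
    [∀ n : ℤ, (shiftFunctor T n).Additive] [∀ n : ℤ, (shiftFunctor T n).Linear k] [Pretriangulated T]
    [∀ X Y : T, Module.Finite k (X ⟶ Y)]
    (F : T ⥤ T) [F.Full] [F.Faithful] [F.EssSurj] [F.Additive] [F.Linear k]
    (c : ∀ X Y : T, (X ⟶ Y) ≃ₗ[k] Module.Dual k (Y ⟶ F.obj X))
    (hc₁ : ∀ (X Y Y' : T) (f : X ⟶ Y) (g : Y ⟶ Y'),
      c X Y' (f ≫ g) = (c X Y f) ∘ₗ Linear.leftComp k (F.obj X) g)
    (hc₂ : ∀ (X' X Y : T) (a : X' ⟶ X) (f : X ⟶ Y),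
      c X' Y (a ≫ f) = (c X Y f) ∘ₗ Linear.rightComp k Y (F.map a))
    (ε : F ⋙ shiftFunctor T (1 : ℤ) ≅ shiftFunctor T (1 : ℤ) ⋙ F)
    (hε : ∀ (X : T) (v : X ⟶ F.obj X),
      c (X⟦(1 : ℤ)⟧) (X⟦(1 : ℤ)⟧) (𝟙 _) (v⟦(1 : ℤ)⟧' ≫ ε.hom.app X) = - c X X (𝟙 X) v)
    (Δ : Triangle T) (hΔ : Δ ∈ distTriang T) :
    Triangle.mk (F.map Δ.mor₁) (F.map Δ.mor₂) (F.map Δ.mor₃ ≫ ε.inv.app Δ.obj₁) ∈ distTriang T := by
  obtain ⟨A, B, C, f, g, h⟩ := Δ
  dsimp only at *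
  have K2 : ∀ {X' X : T} (a : X' ⟶ X) (h : X ⟶ F.obj X'),
      c X' X' (𝟙 X') (a ≫ h) = c X X (𝟙 X) (h ≫ F.map a) :=
    fun a h ↦ Groth.Agent.S6731.K2 c hc₁ hc₂ a h
  obtain ⟨C₀, φ, ψ, hΔ₂⟩ := distinguished_cocone_triangle (F.map f)
  -- key vanishing
  have key : ∀ (s : C ⟶ F.obj B) (r : A⟦(1 : ℤ)⟧ ⟶ C₀), s ≫ φ = h ≫ r →
      c B B (𝟙 B) (g ≫ s) = c (A⟦(1 : ℤ)⟧) (A⟦(1 : ℤ)⟧) (𝟙 _) (r ≫ ψ ≫ ε.hom.app A) := by
    intro s r hsr
    have hrot₁ := rot_of_distTriang _ (rot_of_distTriang _ hΔ)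
    have hrot₂ := rot_of_distTriang _ hΔ₂
    obtain ⟨t, ht₁, ht₂⟩ : ∃ t : B⟦(1 : ℤ)⟧ ⟶ (F.obj A)⟦(1 : ℤ)⟧,
        (-f⟦(1 : ℤ)⟧') ≫ t = r ≫ ψ ∧ (-g⟦(1 : ℤ)⟧') ≫ s⟦(1 : ℤ)⟧' = t ≫ (-(F.map f)⟦(1 : ℤ)⟧') :=
      complete_distinguished_triangle_morphism _ _ hrot₁ hrot₂ s r hsr.symm
    obtain ⟨t₀, rfl⟩ := (shiftFunctor T (1 : ℤ)).map_surjective t
    have h1 : g ≫ s = t₀ ≫ F.map f := by
      apply (shiftFunctor T (1 : ℤ)).map_injective
      rw [Functor.map_comp, Functor.map_comp]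
      simpa using ht₂
    have h2 : r ≫ ψ = -((f ≫ t₀)⟦(1 : ℤ)⟧') := by
      rw [← ht₁, Functor.map_comp, Preadditive.neg_comp]
    rw [h1, ← K2 f t₀, ← Category.assoc, h2, Preadditive.neg_comp, map_neg, hε, neg_neg]
  -- linear algebra: the functional Ξ
  let P : ((C ⟶ F.obj B) × (A⟦(1 : ℤ)⟧ ⟶ C₀)) →ₗ[k] (C ⟶ C₀) :=
    (Linear.rightComp k C φ).coprod (-(Linear.leftComp k C₀ h))
  let lam : ((C ⟶ F.obj B) × (A⟦(1 : ℤ)⟧ ⟶ C₀)) →ₗ[k] k :=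
    ((c B B (𝟙 B)).comp (Linear.leftComp k (F.obj B) g)).coprod
      (-((c (A⟦(1 : ℤ)⟧) (A⟦(1 : ℤ)⟧) (𝟙 _)).comp
        (Linear.rightComp k (A⟦(1 : ℤ)⟧) (ψ ≫ ε.hom.app A))))
  have hP : ∀ s r, P (s, r) = s ≫ φ - h ≫ r := by
    intro s r
    simp [P, sub_eq_add_neg]
  have hlam : ∀ s r, lam (s, r) = c B B (𝟙 B) (g ≫ s) -
      c (A⟦(1 : ℤ)⟧) (A⟦(1 : ℤ)⟧) (𝟙 _) (r ≫ ψ ≫ ε.hom.app A) := by
    intro s r
    simp [lam, sub_eq_add_neg]
  have hmem : lam ∈ LinearMap.range P.dualMap := by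
    rw [LinearMap.range_dualMap_eq_dualAnnihilator_ker, Submodule.mem_dualAnnihilator]
    rintro ⟨s, r⟩ hw
    rw [LinearMap.mem_ker, hP, sub_eq_zero] at hw
    rw [hlam, key s r hw, sub_self]
  obtain ⟨Ξ, hΞ⟩ := hmem
  have hΞ' : ∀ s r, Ξ (s ≫ φ - h ≫ r) = c B B (𝟙 B) (g ≫ s) -
      c (A⟦(1 : ℤ)⟧) (A⟦(1 : ℤ)⟧) (𝟙 _) (r ≫ ψ ≫ ε.hom.app A) := by
    intro s r
    rw [← hP, ← hlam, ← hΞ]
    rfl
  obtain ⟨ξ, hξ⟩ := Groth.Agent.S6731.exists_comp c hc₁ (X := C) (Z := C₀) Ξ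
  have hi : φ ≫ ξ = F.map g := by
    apply Groth.Agent.S6731.uniq_comp c hc₁
    intro s
    have := hΞ' s 0
    simp only [comp_zero, sub_zero, zero_comp, map_zero] at this
    rw [← Category.assoc, hξ, this, K2 g s]
  have hii : ξ ≫ F.map h = ψ ≫ ε.hom.app A := by
    apply Groth.Agent.S6731.uniq_comp c hc₁
    intro r
    have := hΞ' 0 r
    simp only [zero_comp, comp_zero, zero_sub, map_neg, map_zero, neg_inj] at this
    rw [← Category.assoc, ← K2 h (r ≫ ξ), ← Category.assoc, hξ, this]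
  have hεnat : ε.inv.app A ≫ (F.map f)⟦(1 : ℤ)⟧' = F.map (f⟦(1 : ℤ)⟧') ≫ ε.inv.app B :=
    (ε.inv.naturality f).symm
  have hξiso : IsIso ξ := by
    refine isIso_of_yoneda_map_bijective _ (fun Y ↦ ⟨?_, ?_⟩)
    · intro y₁ y₂ hy
      dsimp at hy
      rw [← sub_eq_zero]
      have hy0 : (y₁ - y₂) ≫ ξ = 0 := by rw [Preadditive.sub_comp, hy, sub_self]
      generalize y₁ - y₂ = y at hy0
      have hyψ : y ≫ ψ = 0 := by
        have h1 : y ≫ ψ ≫ ε.hom.app A = 0 := by rw [← hii, ← Category.assoc, hy0, zero_comp]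
        have h2 : y ≫ ψ = (y ≫ ψ ≫ ε.hom.app A) ≫ ε.inv.app A := by simp
        rw [h2, h1, zero_comp]
      obtain ⟨y', hy'⟩ := Triangle.coyoneda_exact₃ _ hΔ₂ y hyψ
      dsimp at y' hy'
      have hy'g : y' ≫ F.map g = 0 := by rw [← hi, ← Category.assoc, ← hy', hy0]
      let ι := F.objObjPreimageIso Y
      obtain ⟨y0, hy0'⟩ := F.map_surjective (ι.hom ≫ y')
      have h3 : y0 ≫ g = 0 := by
        apply F.map_injective
        rw [F.map_comp, hy0', Category.assoc, hy'g, comp_zero, F.map_zero]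
      obtain ⟨y1, hy1⟩ := Triangle.coyoneda_exact₂ _ hΔ y0 h3
      dsimp at y1 hy1
      have h4 : y' = ι.inv ≫ F.map y1 ≫ F.map f := by
        rw [← F.map_comp, ← hy1, hy0', Iso.inv_hom_id_assoc]
      have h5 : F.map f ≫ φ = 0 := comp_distTriang_mor_zero₁₂ _ hΔ₂
      rw [hy', h4, Category.assoc, Category.assoc, h5, comp_zero, comp_zero]
    · intro z
      have h6 : h ≫ f⟦(1 : ℤ)⟧' = 0 := comp_distTriang_mor_zero₃₁ _ hΔ
      have hz1 : (z ≫ F.map h ≫ ε.inv.app A) ≫ (F.map f)⟦(1 : ℤ)⟧' = 0 := by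
        rw [Category.assoc, Category.assoc, hεnat, ← F.map_comp_assoc, h6, F.map_zero, zero_comp,
          comp_zero]
      obtain ⟨y, hy⟩ := Triangle.coyoneda_exact₁ _ hΔ₂ (z ≫ F.map h ≫ ε.inv.app A) hz1
      dsimp at y hy
      have hd : (y ≫ ξ - z) ≫ F.map h = 0 := by
        have h1 : (y ≫ ξ - z) ≫ F.map h ≫ ε.inv.app A = 0 := by
          rw [Preadditive.sub_comp, Category.assoc, ← Category.assoc ξ, hii, Category.assoc]
          have h7 : ψ ≫ ε.hom.app A ≫ ε.inv.app A = ψ := by simp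
          rw [h7, hy, sub_self]
        have h2 : (y ≫ ξ - z) ≫ F.map h = ((y ≫ ξ - z) ≫ F.map h ≫ ε.inv.app A) ≫ ε.hom.app A := by
          simp
        rw [h2, h1, zero_comp]
      let ι := F.objObjPreimageIso Y
      obtain ⟨d0, hd0⟩ := F.map_surjective (ι.hom ≫ (y ≫ ξ - z))
      have h3 : d0 ≫ h = 0 := by
        apply F.map_injective
        rw [F.map_comp, hd0, Category.assoc, hd, comp_zero, F.map_zero]
      obtain ⟨d1, hd1⟩ := Triangle.coyoneda_exact₃ _ hΔ d0 h3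
      dsimp at d1 hd1
      have hd' : y ≫ ξ - z = ι.inv ≫ F.map d1 ≫ F.map g := by
        rw [← F.map_comp, ← hd1, hd0, Iso.inv_hom_id_assoc]
      refine ⟨y - ι.inv ≫ F.map d1 ≫ φ, ?_⟩
      dsimp
      rw [Preadditive.sub_comp, Category.assoc, Category.assoc, hi, ← hd']
      abel
  haveI := hξiso
  have e : Triangle.mk (F.map f) φ ψ ≅
      Triangle.mk (F.map f) (F.map g) (F.map h ≫ ε.inv.app A) :=
    Triangle.isoMk _ _ (Iso.refl _) (Iso.refl _) (@asIso _ _ _ _ ξ hξiso) (by simp) (by simpa using hi)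
      (by
        dsimp
        have h7 : ψ ≫ ε.hom.app A ≫ ε.inv.app A = ψ := by simp
        rw [CategoryTheory.Functor.map_id, Category.comp_id, ← Category.assoc, hii, Category.assoc, h7])
  exact isomorphic_distinguished _ hΔ₂ _ e.symm

open CategoryTheory.Limits CategoryTheory.Pretriangulated in
/-- Let k be a field and T a k-linear triangulated category with dim_k Hom(X, Y) < ∞ for all X, Y, and
let (S, c) be a Serre functor: a k-linear equivalence T ⥤ T with k-linear isomorphisms c_{X,Y} :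
Hom(X, Y) ≅ Hom(Y, S X)^∨ natural in X and Y. Then S is an exact functor of triangulated categories:
there is an isomorphism of functors S ∘ ⟦1⟧ ≅ ⟦1⟧ ∘ S such that for every distinguished triangle (A,
B, C, f, g, h) the triangle (S A, S B, S C, S f, S g, S h followed by that isomorphism at A) is
distinguished. -/
theorem result
    {k : Type w} [Field k]
    {T : Type u} [Category.{v} T] [Preadditive T] [Linear k T] [HasZeroObject T] [HasShift T ℤ]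
    [∀ n : ℤ, (shiftFunctor T n).Additive] [∀ n : ℤ, (shiftFunctor T n).Linear k] [Pretriangulated T]
    [IsTriangulated T] [∀ X Y : T, Module.Finite k (X ⟶ Y)]
    (S : T ≌ T) [S.functor.Additive] [S.functor.Linear k]
    (c : ∀ X Y : T, (X ⟶ Y) ≃ₗ[k] Module.Dual k (Y ⟶ S.functor.obj X))
    (hc₁ : ∀ (X Y Y' : T) (f : X ⟶ Y) (g : Y ⟶ Y'),
      c X Y' (f ≫ g) = (c X Y f) ∘ₗ Linear.leftComp k (S.functor.obj X) g)
    (hc₂ : ∀ (X' X Y : T) (a : X' ⟶ X) (f : X ⟶ Y),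
      c X' Y (a ≫ f) = (c X Y f) ∘ₗ Linear.rightComp k Y (S.functor.map a)) :
    ∃ e : shiftFunctor T (1 : ℤ) ⋙ S.functor ≅ S.functor ⋙ shiftFunctor T (1 : ℤ),
      ∀ T' ∈ distTriang T,
        Triangle.mk (S.functor.map T'.mor₁) (S.functor.map T'.mor₂)
          (S.functor.map T'.mor₃ ≫ e.hom.app T'.obj₁) ∈ distTriang T := by
  let cn : ∀ X Y : T, (X ⟶ Y) ≃ₗ[k] Module.Dual k (Y ⟶ S.functor.obj X) :=
    fun X Y ↦ (c X Y).trans (LinearEquiv.neg k)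
  have hcn : ∀ (X Y : T) (f : X ⟶ Y), cn X Y f = -(c X Y f) := fun _ _ _ ↦ rfl
  have hcn₁ : ∀ (X Y Y' : T) (f : X ⟶ Y) (g : Y ⟶ Y'),
      cn X Y' (f ≫ g) = (cn X Y f) ∘ₗ Linear.leftComp k (S.functor.obj X) g := by
    intro X Y Y' f g
    rw [hcn, hcn, hc₁, LinearMap.neg_comp]
  have hcn₂ : ∀ (X' X Y : T) (a : X' ⟶ X) (f : X ⟶ Y),
      cn X' Y (a ≫ f) = (cn X Y f) ∘ₗ Linear.rightComp k Y (S.functor.map a) := by
    intro X' X Y a f
    rw [hcn, hcn, hc₂, LinearMap.neg_comp]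
  obtain ⟨ε, hε⟩ := Groth.Agent.S6732.exists_commIso (F := S.functor) (F' := S.functor)
    (G := shiftFunctor T (1 : ℤ)) cn hcn₁ hcn₂ c hc₁ hc₂
  refine ⟨ε.symm, fun T' hT' ↦ ?_⟩
  exact Groth.Agent.S6732.triangle_dist S.functor c hc₁ hc₂ ε
    (fun X v ↦ by rw [hε X v, hcn]; rfl) T' hT'

end Groth.Agent.S6732
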