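import Groth.Statements.S6769
import Mathlib
import Groth.Agent.S2204

set_option autoImplicit false
universe u
open CategoryTheory CategoryTheory.Limits TensorProduct
open scoped ModuleCat.Algebra
open FunMor

namespace Groth.Agent.S6769

section helpers
open CategoryTheory CategoryTheory.Limits MonoidalCategory TensorProduct
open Groth.Agent.S2405 (hat hat_apply hat_add hat_smul hat_comp hat_self)
open Groth.Agent.S2204
open scoped ModuleCat.Algebra

variable {A B : Type u} [CommRing A] [CommRing B] (F F' : ModuleCat.{u} A ⥤ ModuleCat.{u} B)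
  [PreservesFiniteColimits F] [∀ J : Type u, PreservesColimitsOfShape (Discrete J) F]
  [PreservesFiniteColimits F'] [∀ J : Type u, PreservesColimitsOfShape (Discrete J) F']

omit [∀ J : Type u, PreservesColimitsOfShape (Discrete J) F] in
lemma tauAdd_one (x : KK F) : tauAdd F (ModuleCat.of A A) (x ⊗ₜ[A] (1 : A)) = x := by
  rw [tauAdd_tmul, hat_self, one_smul, F.map_id]; rfl

omit [∀ J : Type u, PreservesColimitsOfShape (Discrete J) F'] [PreservesFiniteColimits F'] in
lemma nat_ext (t t' : F ⟶ F') (h : t.app (ModuleCat.of A A) = t'.app (ModuleCat.of A A)) :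
    t = t' := by
  apply NatTrans.ext
  funext M
  apply ModuleCat.hom_ext; apply LinearMap.ext; intro x
  obtain ⟨z, rfl⟩ := (tauAdd_bijective F M).surjective x
  induction z using TensorProduct.induction_on with
  | zero => simp
  | tmul k m =>
    rw [tauAdd_tmul]
    have n1 := congrArg (fun g => g.hom k) (t.naturality (hat m))
    have n2 := congrArg (fun g => g.hom k) (t'.naturality (hat m))
    exact n1.trans ((congrArg (fun g => (F'.map (hat m)).hom (g.hom k)) h).trans n2.symm)
  | add z w hz hw => rw [map_add, map_add, map_add, hz, hw]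

omit [∀ J : Type u, PreservesColimitsOfShape (Discrete J) F] in
lemma R_compat (R : Type u) [CommRing R] [Algebra R A] [Algebra R B] [F.Additive] [F.Linear R]
    (r : R) (x : KK F) : algebraMap R A r • x = algebraMap R B r • x := by
  rw [modA_smul_def]
  have h1 := F.map_smul r (𝟙 (ModuleCat.of A A))
  have h2 : F.map ((algebraMap R A r) • 𝟙 (ModuleCat.of A A)) = _ :=
    (congrArg F.map (?_ : (algebraMap R A r) • 𝟙 (ModuleCat.of A A) = _)).trans h1
  · rw [h2, F.map_id]
    rfl
  · apply ModuleCat.hom_ext; apply LinearMap.ext; intro a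
    rfl

variable {F F'}

omit [∀ J : Type u, PreservesColimitsOfShape (Discrete J) F]
  [∀ J : Type u, PreservesColimitsOfShape (Discrete J) F'] in
/-- `φ` as an `A`-linear map -/
noncomputable def phiA (φ : F.obj (ModuleCat.of A A) ⟶ F'.obj (ModuleCat.of A A))
    (hφ : ∀ a : A, F.map (a • 𝟙 (ModuleCat.of A A)) ≫ φ = φ ≫ F'.map (a • 𝟙 (ModuleCat.of A A))) :
    KK F →ₗ[A] KK F' :=
  { toFun := φ.hom
    map_add' := map_add _
    map_smul' := fun a x => congrArg (fun g => g.hom x) (hφ a) }

omit [∀ J : Type u, PreservesColimitsOfShape (Discrete J) F]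
  [∀ J : Type u, PreservesColimitsOfShape (Discrete J) F'] in
lemma r_l_comm (g : KK F →ₗ[A] KK F') {M N : ModuleCat.{u} A} (f : M ⟶ N)
    (z : (KK F) ⊗[A] M) :
    LinearMap.rTensor N g (LinearMap.lTensor (KK F) f.hom z) =
      LinearMap.lTensor (KK F') f.hom (LinearMap.rTensor M g z) := by
  induction z using TensorProduct.induction_on with
  | zero => simp
  | tmul k m => simp
  | add z w hz hw => rw [map_add, map_add, hz, hw, map_add, map_add]

omit [∀ J : Type u, PreservesColimitsOfShape (Discrete J) F]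
  [∀ J : Type u, PreservesColimitsOfShape (Discrete J) F'] in
noncomputable def midLin (M : ModuleCat.{u} A)
    (φ : F.obj (ModuleCat.of A A) ⟶ F'.obj (ModuleCat.of A A))
    (hφ : ∀ a : A, F.map (a • 𝟙 (ModuleCat.of A A)) ≫ φ = φ ≫ F'.map (a • 𝟙 (ModuleCat.of A A))) :
    (KK F) ⊗[A] M →ₗ[B] (KK F') ⊗[A] M :=
  { toFun := LinearMap.rTensor M (phiA φ hφ)
    map_add' := map_add _
    map_smul' := fun b z => by
      induction z using TensorProduct.induction_on with
      | zero => simp
      | tmul k m =>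
        show LinearMap.rTensor M (phiA φ hφ) (b • (k ⊗ₜ[A] m)) =
          b • LinearMap.rTensor M (phiA φ hφ) (k ⊗ₜ[A] m)
        rw [TensorProduct.smul_tmul', LinearMap.rTensor_tmul, LinearMap.rTensor_tmul,
          TensorProduct.smul_tmul']
        congr 1
        exact map_smul φ.hom b k
      | add z w hz hw =>
        simp only [smul_add, map_add] at hz hw ⊢
        rw [hz, hw] }

omit [∀ J : Type u, PreservesColimitsOfShape (Discrete J) F'] in
noncomputable def tApp (M : ModuleCat.{u} A)
    (φ : F.obj (ModuleCat.of A A) ⟶ F'.obj (ModuleCat.of A A))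
    (hφ : ∀ a : A, F.map (a • 𝟙 (ModuleCat.of A A)) ≫ φ = φ ≫ F'.map (a • 𝟙 (ModuleCat.of A A))) :
    F.obj M ⟶ F'.obj M :=
  ModuleCat.ofHom ((tauLin F' M).comp ((midLin M φ hφ).comp
    (LinearEquiv.ofBijective (tauLin F M) (tauAdd_bijective F M)).symm.toLinearMap))

omit [∀ J : Type u, PreservesColimitsOfShape (Discrete J) F'] in
lemma tApp_tau (M : ModuleCat.{u} A)
    (φ : F.obj (ModuleCat.of A A) ⟶ F'.obj (ModuleCat.of A A))
    (hφ : ∀ a : A, F.map (a • 𝟙 (ModuleCat.of A A)) ≫ φ = φ ≫ F'.map (a • 𝟙 (ModuleCat.of A A)))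
    (z : (KK F) ⊗[A] M) :
    (tApp M φ hφ).hom (tauAdd F M z) = tauAdd F' M (LinearMap.rTensor M (phiA φ hφ) z) := by
  have h : (LinearEquiv.ofBijective (tauLin F M) (tauAdd_bijective F M)).symm (tauAdd F M z) = z :=
    (LinearEquiv.ofBijective (tauLin F M) (tauAdd_bijective F M)).symm_apply_apply z
  show tauAdd F' M (LinearMap.rTensor M (phiA φ hφ)
    ((LinearEquiv.ofBijective (tauLin F M) (tauAdd_bijective F M)).symm (tauAdd F M z))) = _
  rw [h]

omit [∀ J : Type u, PreservesColimitsOfShape (Discrete J) F'] in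
noncomputable def tNat (φ : F.obj (ModuleCat.of A A) ⟶ F'.obj (ModuleCat.of A A))
    (hφ : ∀ a : A, F.map (a • 𝟙 (ModuleCat.of A A)) ≫ φ = φ ≫ F'.map (a • 𝟙 (ModuleCat.of A A))) :
    F ⟶ F' where
  app M := tApp M φ hφ
  naturality M N f := by
    apply ModuleCat.hom_ext; apply LinearMap.ext; intro x
    obtain ⟨z, rfl⟩ := (tauAdd_bijective F M).surjective x
    show (tApp N φ hφ).hom ((F.map f).hom (tauAdd F M z)) =
      (F'.map f).hom ((tApp M φ hφ).hom (tauAdd F M z))
    rw [← tauAdd_nat, tApp_tau, tApp_tau, ← tauAdd_nat, r_l_comm]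

omit [∀ J : Type u, PreservesColimitsOfShape (Discrete J) F'] in
lemma tNat_app_A (φ : F.obj (ModuleCat.of A A) ⟶ F'.obj (ModuleCat.of A A))
    (hφ : ∀ a : A, F.map (a • 𝟙 (ModuleCat.of A A)) ≫ φ = φ ≫ F'.map (a • 𝟙 (ModuleCat.of A A))) :
    (tNat φ hφ).app (ModuleCat.of A A) = φ := by
  apply ModuleCat.hom_ext; apply LinearMap.ext; intro x
  show (tApp (ModuleCat.of A A) φ hφ).hom x = φ.hom x
  conv_lhs => rw [← tauAdd_one F x]
  rw [tApp_tau, LinearMap.rTensor_tmul]
  exact tauAdd_one F' (φ.hom x)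

end helpers

/-- Let R be a commutative ring and A, B commutative R-algebras; Mod_A and Mod_B are R-linear
categories. Suppose F, F' : Mod_A ⥤ Mod_B are R-linear functors, each of which preserves finite
colimits (so is right exact) and also preserves direct sums indexed by any set. Then: (i) there is
an A ⊗_R B-module K — a module over A and over B with commuting actions on which the two R-actions
agree — and B-linear isomorphisms K ⊗_A M ≅ F(M) natural in the A-module M; (ii) a natural
transformation F ⟶ F' is determined by its component at A, and a B-linear map φ : F(A) ⟶ F'(A) is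
the component at A of some natural transformation F ⟶ F' if and only if it commutes with the
A-actions, i.e. F(a · id_A) ≫ φ = φ ≫ F'(a · id_A) for all a ∈ A. (Together: K ↦ (- ⊗_A K) is an
equivalence from Mod_{A ⊗_R B} onto the category of such functors.) -/
theorem result
    (R : Type u) [CommRing R] (A B : Type u) [CommRing A] [CommRing B] [Algebra R A] [Algebra R B]
    (F F' : ModuleCat.{u} A ⥤ ModuleCat.{u} B) [F.Additive] [F.Linear R] [F'.Additive] [F'.Linear R]
    [PreservesFiniteColimits F] [∀ J : Type u, PreservesColimitsOfShape (Discrete J) F]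
    [PreservesFiniteColimits F'] [∀ J : Type u, PreservesColimitsOfShape (Discrete J) F'] :
    (∃ (K : Type u) (_ : AddCommGroup K) (_ : Module A K) (_ : Module B K) (_ : SMulCommClass A B K),
      (∀ (r : R) (x : K), algebraMap R A r • x = algebraMap R B r • x) ∧
      ∃ η : ∀ M : ModuleCat.{u} A, (K ⊗[A] M) ≃ₗ[B] F.obj M,
        ∀ (M N : ModuleCat.{u} A) (f : M ⟶ N) (x : K ⊗[A] M),
          η N (LinearMap.lTensor K f.hom x) = F.map f (η M x)) ∧
    (∀ t t' : F ⟶ F', t.app (ModuleCat.of A A) = t'.app (ModuleCat.of A A) → t = t') ∧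
    (∀ φ : F.obj (ModuleCat.of A A) ⟶ F'.obj (ModuleCat.of A A),
      (∃ t : F ⟶ F', t.app (ModuleCat.of A A) = φ) ↔
        ∀ a : A, F.map (a • 𝟙 (ModuleCat.of A A)) ≫ φ = φ ≫ F'.map (a • 𝟙 (ModuleCat.of A A))) := by
  refine ⟨⟨Groth.Agent.S2204.KK F, inferInstance, Groth.Agent.S2204.modA F, inferInstance,
    Groth.Agent.S2204.sccAB F, fun r x => R_compat F R r x,
    fun M => LinearEquiv.ofBijective (Groth.Agent.S2204.tauLin F M)
      (Groth.Agent.S2204.tauAdd_bijective F M),
    fun M N f x => Groth.Agent.S2204.tauAdd_nat F f x⟩,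
    fun t t' h => nat_ext F F' t t' h,
    fun φ => ⟨?_, fun hφ => ⟨tNat φ hφ, tNat_app_A φ hφ⟩⟩⟩
  rintro ⟨t, rfl⟩ a
  exact t.naturality (a • 𝟙 (ModuleCat.of A A))

end Groth.Agent.S6769
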