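import Groth.Statements.S6776
import Mathlib.CategoryTheory.Abelian.CommSq

set_option autoImplicit false
open CategoryTheory CategoryTheory.Limits
universe v u
open CategoryTheory CategoryTheory.Abelian

namespace Groth.Agent.S6776

/-- In an abelian category a cocartesian square whose left arrow `g` is a monomorphism is also
cartesian, and the arrow `h` opposite to `g` is a monomorphism. -/
theorem result {A : Type u} [Category.{v} A] [Abelian A] {w x y z : A} (f : w ⟶ y) (g : w ⟶ x) (h : y ⟶ z) (k : x ⟶ z) (sq : IsPushout f g h k) [Mono g] : IsPullback f g h k ∧ Mono h := by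
  have hh : Mono h :=
    (MorphismProperty.monomorphisms A).of_isPushout sq (show Mono g from inferInstance)
  have key : ∀ s : PullbackCone h k, ∃ d : s.pt ⟶ w, d ≫ g = s.snd := by
    intro s
    have hl : g ≫ cokernel.π g = f ≫ (0 : y ⟶ cokernel g) := by simp
    have hb : s.snd ≫ cokernel.π g = 0 := by
      have h1 : k ≫ sq.desc 0 (cokernel.π g) hl.symm = cokernel.π g := sq.inr_desc _ _ _
      have h2 : h ≫ sq.desc 0 (cokernel.π g) hl.symm = 0 := sq.inl_desc _ _ _
      rw [← h1, ← Category.assoc, ← s.condition, Category.assoc, h2, comp_zero]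
    let hc := Abelian.monoIsKernelOfCokernel (CokernelCofork.ofπ (cokernel.π g) (cokernel.condition g))
      (cokernelIsCokernel g)
    exact ⟨hc.lift (KernelFork.ofι s.snd hb), hc.fac (KernelFork.ofι s.snd hb) .zero⟩
  choose d hd using key
  refine ⟨⟨sq.toCommSq, ⟨PullbackCone.IsLimit.mk _ (fun s => d s) ?_ ?_ ?_⟩⟩, hh⟩
  · intro s
    rw [← cancel_mono h, Category.assoc, sq.w, ← Category.assoc, hd, s.condition]
  · intro s
    exact hd s
  · intro s m h1 h2
    rw [← cancel_mono g, hd, h2]

end Groth.Agent.S6776
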