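import Groth.Statements.S6779
import Mathlib

set_option autoImplicit false
open CategoryTheory
universe u
open SSet

namespace Groth.Agent.S6779

section helpers

open Simplicial Opposite

section core

variable {A B C : Type*} [Group A] [Group B] [Group C]

/-- Algebraic horn filling (Moore), relative to subgroups `KB`, `KC`. -/
@[to_additive horn_core_add]
theorem horn_core (m k : ℕ) (hk : k ≤ m + 2)
    (dB : ℕ → B →* A) (dC : ℕ → C →* B) (sA : ℕ → A →* B) (sB : ℕ → B →* C)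
    (I1 : ∀ i j : ℕ, i ≤ j → j ≤ m + 1 → ∀ c : C, dB i (dC (j + 1) c) = dB j (dC i c))
    (I2 : ∀ i j : ℕ, i ≤ j → j ≤ m → ∀ b : B, dC i (sB (j + 1) b) = sA j (dB i b))
    (I3 : ∀ t : ℕ, t ≤ m + 1 → ∀ b : B, dC t (sB t b) = b)
    (I4 : ∀ t : ℕ, t ≤ m + 1 → ∀ b : B, dC (t + 1) (sB t b) = b)
    (I5 : ∀ i j : ℕ, j < i → i ≤ m + 1 → ∀ b : B, dC (i + 1) (sB j b) = sA j (dB i b))
    (KB : Subgroup B) (KC : Subgroup C)
    (hKs : ∀ (t : ℕ) (u : B), u ∈ KB → sB t u ∈ KC)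
    (hKd : ∀ (j : ℕ) (c : C), c ∈ KC → dC j c ∈ KB)
    (x : ℕ → B)
    (hx : ∀ j l : ℕ, j ≤ l → l ≤ m + 1 → j ≠ k → l + 1 ≠ k → dB l (x j) = dB j (x (l + 1)))
    (g₀ : C) (hg₀ : ∀ j : ℕ, j ≤ m + 2 → j ≠ k → (x j)⁻¹ * dC j g₀ ∈ KB) :
    ∃ g : C, g₀⁻¹ * g ∈ KC ∧ ∀ j : ℕ, j ≤ m + 2 → j ≠ k → dC j g = x j := by
  have hinv : ∀ g : C, g₀⁻¹ * g ∈ KC → ∀ j : ℕ, j ≤ m + 2 → j ≠ k →
      (x j)⁻¹ * dC j g ∈ KB := by
    intro g hg j hj hjk
    have h3 : (x j)⁻¹ * dC j g = ((x j)⁻¹ * dC j g₀) * dC j (g₀⁻¹ * g) := by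
      rw [map_mul, map_inv, mul_assoc, mul_inv_cancel_left]
    rw [h3]
    exact KB.mul_mem (hg₀ j hj hjk) (hKd j _ hg)
  have claimLt : ∀ (g : C) (r' i : ℕ), i ≤ r' → r' ≤ m + 1 → r' + 1 ≠ k → i ≠ k →
      dC i g = x i → dB i ((x (r' + 1))⁻¹ * dC (r' + 1) g) = 1 := by
    intro g r' i hir hr' hrk hik hgi
    rw [map_mul, map_inv, I1 i r' hir hr' g, hgi, hx i r' hir hr' hik hrk, inv_mul_cancel]
  have claimGt : ∀ (g : C) (r i' : ℕ), r ≤ i' → i' ≤ m + 1 → r ≠ k → i' + 1 ≠ k →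
      dC (i' + 1) g = x (i' + 1) → dB i' ((x r)⁻¹ * dC r g) = 1 := by
    intro g r i' hri hi' hrk hik hgi
    rw [map_mul, map_inv, ← I1 r i' hri hi' g, hgi, ← hx r i' hri hi' hrk hik, inv_mul_cancel]
  have stepA : ∀ a b : ℕ, a < k → k ≤ b → b ≤ m + 2 →
      (∃ g : C, g₀⁻¹ * g ∈ KC ∧
        ∀ j : ℕ, j ≤ m + 2 → j ≠ k → (j < a ∨ b < j) → dC j g = x j) →
      (∃ g : C, g₀⁻¹ * g ∈ KC ∧
        ∀ j : ℕ, j ≤ m + 2 → j ≠ k → (j < a + 1 ∨ b < j) → dC j g = x j) := by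
    rintro a b hak hkb hbm ⟨g, hgK, hg⟩
    obtain ⟨u, hu⟩ : ∃ u : B, u = (x a)⁻¹ * dC a g := ⟨_, rfl⟩
    have huK : u ∈ KB := by
      rw [hu]
      exact hinv g hgK a (by omega) (by omega)
    refine ⟨g * (sB a u)⁻¹, ?_, ?_⟩
    · rw [← mul_assoc]
      exact KC.mul_mem hgK (KC.inv_mem (hKs a u huK))
    · intro j hj hjk hcond
      rw [map_mul, map_inv]
      rcases lt_trichotomy j a with hlt | heq | hgt
      · have hgj : dC j g = x j := hg j hj hjk (Or.inl hlt)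
        obtain ⟨a', rfl⟩ : ∃ a', a = a' + 1 := ⟨a - 1, by omega⟩
        have h1 : dB j u = 1 := by
          rw [hu]
          exact claimLt g a' j (by omega) (by omega) (by omega) hjk hgj
        rw [I2 j a' (by omega) (by omega) u, h1, map_one, inv_one, mul_one]
        exact hgj
      · rw [heq, I3 a (by omega) u, hu, mul_inv_rev, inv_inv, mul_inv_cancel_left]
      · have hbj : b < j := by omega
        have hgj : dC j g = x j := hg j hj hjk (Or.inr hbj)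
        obtain ⟨i, rfl⟩ : ∃ i, j = i + 1 := ⟨j - 1, by omega⟩
        have h1 : dB i u = 1 := by
          rw [hu]
          exact claimGt g a i (by omega) (by omega) (by omega) hjk hgj
        rw [I5 i a (by omega) (by omega) u, h1, map_one, inv_one, mul_one]
        exact hgj
  have stepB : ∀ a t : ℕ, a ≤ k → k ≤ t → t + 1 ≤ m + 2 →
      (∃ g : C, g₀⁻¹ * g ∈ KC ∧
        ∀ j : ℕ, j ≤ m + 2 → j ≠ k → (j < a ∨ t + 1 < j) → dC j g = x j) →
      (∃ g : C, g₀⁻¹ * g ∈ KC ∧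
        ∀ j : ℕ, j ≤ m + 2 → j ≠ k → (j < a ∨ t < j) → dC j g = x j) := by
    rintro a t hak hkt htm ⟨g, hgK, hg⟩
    obtain ⟨u, hu⟩ : ∃ u : B, u = (x (t + 1))⁻¹ * dC (t + 1) g := ⟨_, rfl⟩
    have huK : u ∈ KB := by
      rw [hu]
      exact hinv g hgK (t + 1) (by omega) (by omega)
    refine ⟨g * (sB t u)⁻¹, ?_, ?_⟩
    · rw [← mul_assoc]
      exact KC.mul_mem hgK (KC.inv_mem (hKs t u huK))
    · intro j hj hjk hcond
      rw [map_mul, map_inv]
      rcases lt_trichotomy j (t + 1) with hlt | heq | hgt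
      · have hja : j < a := by omega
        have hgj : dC j g = x j := hg j hj hjk (Or.inl hja)
        obtain ⟨t', rfl⟩ : ∃ t', t = t' + 1 := ⟨t - 1, by omega⟩
        have h1 : dB j u = 1 := by
          rw [hu]
          exact claimLt g (t' + 1) j (by omega) (by omega) (by omega) hjk hgj
        rw [I2 j t' (by omega) (by omega) u, h1, map_one, inv_one, mul_one]
        exact hgj
      · rw [heq, I4 t (by omega) u, hu, mul_inv_rev, inv_inv, mul_inv_cancel_left]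
      · have hgj : dC j g = x j := hg j hj hjk (Or.inr hgt)
        obtain ⟨i, rfl⟩ : ∃ i, j = i + 1 := ⟨j - 1, by omega⟩
        have h1 : dB i u = 1 := by
          rw [hu]
          exact claimGt g (t + 1) i (by omega) (by omega) (by omega) hjk hgj
        rw [I5 i t (by omega) (by omega) u, h1, map_one, inv_one, mul_one]
        exact hgj
  have main : ∀ N a b : ℕ, b - a = N → a ≤ k → k ≤ b → b ≤ m + 2 →
      (∃ g : C, g₀⁻¹ * g ∈ KC ∧
        ∀ j : ℕ, j ≤ m + 2 → j ≠ k → (j < a ∨ b < j) → dC j g = x j) →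
      (∃ g : C, g₀⁻¹ * g ∈ KC ∧ ∀ j : ℕ, j ≤ m + 2 → j ≠ k → dC j g = x j) := by
    intro N
    induction N with
    | zero =>
      rintro a b hN hak hkb hbm ⟨g, hgK, hg⟩
      exact ⟨g, hgK, fun j hj hjk => hg j hj hjk (by omega)⟩
    | succ N ih =>
      intro a b hN hak hkb hbm hP
      by_cases h : a < k
      · exact ih (a + 1) b (by omega) (by omega) hkb hbm (stepA a b h hkb hbm hP)
      · have hak' : a = k := by omega
        obtain ⟨t, rfl⟩ : ∃ t, b = t + 1 := ⟨b - 1, by omega⟩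
        exact ih a t (by omega) hak (by omega) (by omega) (stepB a t hak (by omega) hbm hP)
  refine main (m + 2 - 0) 0 (m + 2) rfl (Nat.zero_le _) hk le_rfl ⟨g₀, ?_, ?_⟩
  · rw [inv_mul_cancel]
    exact KC.one_mem
  · intro j hj hjk hcond
    omega

/-- The one-dimensional horn. -/
@[to_additive horn_core_zero_add]
theorem horn_core_zero (dC : ℕ → C →* B) (sB : B →* C)
    (h0 : ∀ b : B, dC 0 (sB b) = b) (h1 : ∀ b : B, dC 1 (sB b) = b)
    (KB : Subgroup B) (KC : Subgroup C) (hKs : ∀ u : B, u ∈ KB → sB u ∈ KC)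
    (j : ℕ) (hj : j = 0 ∨ j = 1) (xj : B) (g₀ : C) (hg₀ : xj⁻¹ * dC j g₀ ∈ KB) :
    ∃ g : C, g₀⁻¹ * g ∈ KC ∧ dC j g = xj := by
  have hd : dC j (sB (xj⁻¹ * dC j g₀)) = xj⁻¹ * dC j g₀ := by
    rcases hj with rfl | rfl
    · exact h0 _
    · exact h1 _
  refine ⟨g₀ * (sB (xj⁻¹ * dC j g₀))⁻¹, ?_, ?_⟩
  · rw [← mul_assoc, inv_mul_cancel, one_mul]
    exact KC.inv_mem (hKs _ hg₀)
  · rw [map_mul, map_inv, hd, mul_inv_rev, inv_inv, mul_inv_cancel_left]

end core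

/-- Lifting criterion for horn inclusions in terms of compatible families. -/
theorem rlp_of_lift {X Y : SSet.{u}} (p : X ⟶ Y)
    (h : ∀ ⦃n : ℕ⦄ ⦃i : Fin (n + 2)⦄ (f : ∀ (j : Fin (n + 2)) (_ : j ≠ i), Δ[n] ⟶ X)
        (_ : SSet.horn.IsCompatible f) (b : Δ[n + 1] ⟶ Y)
        (_ : ∀ (j : Fin (n + 2)) (hj : j ≠ i), f j hj ≫ p = SSet.stdSimplex.δ j ≫ b),
        ∃ (φ : Δ[n + 1] ⟶ X),
          (∀ (j : Fin (n + 2)) (hj : j ≠ i), SSet.stdSimplex.δ j ≫ φ = f j hj) ∧ φ ≫ p = b) :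
    SSet.modelCategoryQuillen.J.rlp p := by
  intro _ _ _ hf
  simp only [SSet.modelCategoryQuillen.J, MorphismProperty.iSup_iff] at hf
  obtain ⟨n, ⟨i⟩⟩ := hf
  refine ⟨fun {t b} sq ↦ ?_⟩
  obtain ⟨φ, hφ, hφb⟩ := h (fun j hj ↦ SSet.horn.ι i j hj ≫ t) (SSet.horn.IsCompatible.of_hom t) b
    (fun j hj ↦ by rw [Category.assoc, sq.w, SSet.horn.ι_ι_assoc])
  exact ⟨⟨{ l := φ
            fac_left := SSet.horn.hom_ext' (fun j hj ↦ by
              rw [SSet.horn.ι_ι_assoc]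
              exact hφ j hj)
            fac_right := hφb }⟩⟩

section grp

variable (X : SimplicialObject GrpCat.{u})

/-- The group of `p`-simplices. -/
abbrev Lv (p : ℕ) : Type u := ↑(X.obj (op (SimplexCategory.mk p)))

/-- `ℕ`-indexed faces. -/
noncomputable def dN (p i : ℕ) : Lv X (p + 1) →* Lv X p :=
  if h : i < p + 2 then (X.δ (⟨i, h⟩ : Fin (p + 2))).hom else 1

theorem dN_eq (p i : ℕ) (h : i < p + 2) : dN X p i = (X.δ (⟨i, h⟩ : Fin (p + 2))).hom :=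
  dif_pos h

/-- `ℕ`-indexed degeneracies. -/
noncomputable def sN (p i : ℕ) : Lv X p →* Lv X (p + 1) :=
  if h : i < p + 1 then (X.σ (⟨i, h⟩ : Fin (p + 1))).hom else 1

theorem sN_eq (p i : ℕ) (h : i < p + 1) : sN X p i = (X.σ (⟨i, h⟩ : Fin (p + 1))).hom :=
  dif_pos h

theorem I1 (m i j : ℕ) (hij : i ≤ j) (hj : j ≤ m + 1) (c : Lv X (m + 1 + 1)) :
    dN X m i (dN X (m + 1) (j + 1) c) = dN X m j (dN X (m + 1) i c) := by
  rw [dN_eq X m i (by omega), dN_eq X (m + 1) (j + 1) (by omega), dN_eq X m j (by omega),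
    dN_eq X (m + 1) i (by omega)]
  have h := X.δ_comp_δ (n := m) (i := (⟨i, by omega⟩ : Fin (m + 2)))
    (j := (⟨j, by omega⟩ : Fin (m + 2))) (by rw [Fin.le_def]; exact hij)
  exact congrArg (fun φ : X.obj (op (SimplexCategory.mk (m + 1 + 1))) ⟶
    X.obj (op (SimplexCategory.mk m)) => φ.hom c) h

theorem I2 (m i j : ℕ) (hij : i ≤ j) (hj : j ≤ m) (b : Lv X (m + 1)) :
    dN X (m + 1) i (sN X (m + 1) (j + 1) b) = sN X m j (dN X m i b) := by
  rw [dN_eq X (m + 1) i (by omega), sN_eq X (m + 1) (j + 1) (by omega), sN_eq X m j (by omega),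
    dN_eq X m i (by omega)]
  have h := X.δ_comp_σ_of_le (n := m) (i := (⟨i, by omega⟩ : Fin (m + 2)))
    (j := (⟨j, by omega⟩ : Fin (m + 1))) (by rw [Fin.le_def]; exact hij)
  exact congrArg (fun φ : X.obj (op (SimplexCategory.mk (m + 1))) ⟶
    X.obj (op (SimplexCategory.mk (m + 1))) => φ.hom b) h

theorem I3 (m t : ℕ) (ht : t ≤ m + 1) (b : Lv X (m + 1)) :
    dN X (m + 1) t (sN X (m + 1) t b) = b := by
  rw [dN_eq X (m + 1) t (by omega), sN_eq X (m + 1) t (by omega)]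
  have h := X.δ_comp_σ_self (n := m + 1) (i := (⟨t, by omega⟩ : Fin (m + 1 + 1)))
  exact congrArg (fun φ : X.obj (op (SimplexCategory.mk (m + 1))) ⟶
    X.obj (op (SimplexCategory.mk (m + 1))) => φ.hom b) h

theorem I4 (m t : ℕ) (ht : t ≤ m + 1) (b : Lv X (m + 1)) :
    dN X (m + 1) (t + 1) (sN X (m + 1) t b) = b := by
  rw [dN_eq X (m + 1) (t + 1) (by omega), sN_eq X (m + 1) t (by omega)]
  have h := X.δ_comp_σ_succ (n := m + 1) (i := (⟨t, by omega⟩ : Fin (m + 1 + 1)))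
  exact congrArg (fun φ : X.obj (op (SimplexCategory.mk (m + 1))) ⟶
    X.obj (op (SimplexCategory.mk (m + 1))) => φ.hom b) h

theorem I5 (m i j : ℕ) (hji : j < i) (hi : i ≤ m + 1) (b : Lv X (m + 1)) :
    dN X (m + 1) (i + 1) (sN X (m + 1) j b) = sN X m j (dN X m i b) := by
  rw [dN_eq X (m + 1) (i + 1) (by omega), sN_eq X (m + 1) j (by omega), sN_eq X m j (by omega),
    dN_eq X m i (by omega)]
  have h := X.δ_comp_σ_of_gt (n := m) (i := (⟨i, by omega⟩ : Fin (m + 2)))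
    (j := (⟨j, by omega⟩ : Fin (m + 1))) (by rw [Fin.lt_def]; exact hji)
  exact congrArg (fun φ : X.obj (op (SimplexCategory.mk (m + 1))) ⟶
    X.obj (op (SimplexCategory.mk (m + 1))) => φ.hom b) h

theorem forget_δ_apply {n : ℕ} (i : Fin (n + 2)) (z : Lv X (n + 1)) :
    SimplicialObject.δ (X ⋙ forget GrpCat.{u} : SSet.{u}) i z = (X.δ i).hom z := rfl

end grp

end helpers

/-- The underlying simplicial set of a simplicial group is a Kan complex. -/
theorem result (X : SimplicialObject GrpCat.{u}) : SSet.KanComplex (X ⋙ forget GrpCat.{u}) := by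
  rw [SSet.KanComplex.iff]
  intro n k f hf
  obtain _ | m := n
  · -- the one-dimensional horn
    obtain ⟨j₀, hj₀⟩ : ∃ j₀ : Fin 2, j₀ ≠ k := by
      by_cases h : k = 0
      · exact ⟨1, by rw [h]; decide⟩
      · exact ⟨0, Ne.symm h⟩
    have hface : ∀ (j : Fin 2) (z : Lv X 0), (X.δ j).hom ((X.σ (0 : Fin 1)).hom z) = z := by
      intro j z
      fin_cases j
      · have h := X.δ_comp_σ_self (n := 0) (i := (0 : Fin 1))
        exact congrArg (fun φ : X.obj (Opposite.op (SimplexCategory.mk 0)) ⟶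
          X.obj (Opposite.op (SimplexCategory.mk 0)) => φ.hom z) h
      · have h := X.δ_comp_σ_succ (n := 0) (i := (0 : Fin 1))
        exact congrArg (fun φ : X.obj (Opposite.op (SimplexCategory.mk 0)) ⟶
          X.obj (Opposite.op (SimplexCategory.mk 0)) => φ.hom z) h
    refine ⟨SSet.yonedaEquiv.symm ((X.σ (0 : Fin 1)).hom (SSet.yonedaEquiv (f j₀ hj₀))),
      fun j hj => ?_⟩
    have hjj : j = j₀ := by
      apply Fin.ext
      have h1 : j.val ≠ k.val := fun h => hj (Fin.ext h)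
      have h2 : j₀.val ≠ k.val := fun h => hj₀ (Fin.ext h)
      have := j.isLt
      have := j₀.isLt
      have := k.isLt
      omega
    subst hjj
    rw [SSet.stdSimplex.δ_comp_yonedaEquiv_symm, forget_δ_apply, hface]
    exact SSet.yonedaEquiv.symm_apply_apply _
  · have hf' := (SSet.horn.isCompatible_iff f).mp hf
    have hk := k.isLt
    let x : ℕ → Lv X (m + 1) := fun j =>
      if h : j < m + 3 ∧ j ≠ k.val then
        SSet.yonedaEquiv (f ⟨j, h.1⟩ (fun e => h.2 (congrArg Fin.val e)))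
      else 1
    have x_eq : ∀ (j : ℕ) (hj : j < m + 3) (hjk : j ≠ k.val),
        x j = SSet.yonedaEquiv (f ⟨j, hj⟩ (fun e => hjk (congrArg Fin.val e))) :=
      fun j hj hjk => dif_pos ⟨hj, hjk⟩
    have hx : ∀ j l : ℕ, j ≤ l → l ≤ m + 1 → j ≠ k.val → l + 1 ≠ k.val →
        dN X m l (x j) = dN X m j (x (l + 1)) := by
      intro j l hjl hl hjk hlk
      rw [dN_eq X m l (by omega), dN_eq X m j (by omega), x_eq j (by omega) hjk,
        x_eq (l + 1) (by omega) hlk]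
      have h := hf' ⟨j, by omega⟩ ⟨l + 1, by omega⟩ (fun e => hjk (congrArg Fin.val e))
        (fun e => hlk (congrArg Fin.val e)) (by rw [Fin.lt_def]; exact Nat.lt_succ_of_le hjl)
      have h2 := congrArg SSet.yonedaEquiv h
      rw [SSet.stdSimplex.yonedaEquiv_δ_comp, SSet.stdSimplex.yonedaEquiv_δ_comp] at h2
      exact h2
    obtain ⟨g, -, hg⟩ := horn_core (A := Lv X m) (B := Lv X (m + 1)) (C := Lv X (m + 1 + 1))
      m k.val (by omega)
      (dN X m) (dN X (m + 1)) (sN X m) (sN X (m + 1))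
      (I1 X m) (I2 X m) (I3 X m) (I4 X m) (I5 X m) ⊤ ⊤
      (fun _ _ _ => Subgroup.mem_top _) (fun _ _ _ => Subgroup.mem_top _) x hx 1
      (fun _ _ _ => Subgroup.mem_top _)
    refine ⟨SSet.yonedaEquiv.symm g, fun j hj => ?_⟩
    have hjlt := j.isLt
    rw [SSet.stdSimplex.δ_comp_yonedaEquiv_symm, forget_δ_apply]
    have h1 : (X.δ j).hom g = x j.val := by
      rw [← hg j.val (by omega) (fun e => hj (Fin.ext e)), dN_eq X (m + 1) j.val j.isLt]
    rw [h1, x_eq j.val j.isLt (fun e => hj (Fin.ext e))]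
    exact SSet.yonedaEquiv.symm_apply_apply _

end Groth.Agent.S6779
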