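import Groth.Statements.S6780
import Mathlib
import Groth.Agent.S6779

set_option autoImplicit false
open CategoryTheory
universe u
open SSet

namespace Groth.Agent.S6780

section helpers

open Simplicial Opposite

section addgrp

variable (X : SimplicialObject AddCommGrpCat.{u})

/-- The group of `p`-simplices. -/
abbrev LvA (p : ℕ) : Type u := ↑(X.obj (op (SimplexCategory.mk p)))

/-- `ℕ`-indexed faces. -/
noncomputable def dA (p i : ℕ) : LvA X (p + 1) →+ LvA X p :=
  if h : i < p + 2 then (X.δ (⟨i, h⟩ : Fin (p + 2))).hom else 0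

theorem dA_eq (p i : ℕ) (h : i < p + 2) : dA X p i = (X.δ (⟨i, h⟩ : Fin (p + 2))).hom :=
  dif_pos h

theorem dA_neg (p i : ℕ) (h : ¬ i < p + 2) : dA X p i = 0 := dif_neg h

/-- `ℕ`-indexed degeneracies. -/
noncomputable def sA (p i : ℕ) : LvA X p →+ LvA X (p + 1) :=
  if h : i < p + 1 then (X.σ (⟨i, h⟩ : Fin (p + 1))).hom else 0

theorem sA_eq (p i : ℕ) (h : i < p + 1) : sA X p i = (X.σ (⟨i, h⟩ : Fin (p + 1))).hom :=
  dif_pos h

theorem sA_neg (p i : ℕ) (h : ¬ i < p + 1) : sA X p i = 0 := dif_neg h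

theorem J1 (m i j : ℕ) (hij : i ≤ j) (hj : j ≤ m + 1) (c : LvA X (m + 1 + 1)) :
    dA X m i (dA X (m + 1) (j + 1) c) = dA X m j (dA X (m + 1) i c) := by
  rw [dA_eq X m i (by omega), dA_eq X (m + 1) (j + 1) (by omega), dA_eq X m j (by omega),
    dA_eq X (m + 1) i (by omega)]
  have h := X.δ_comp_δ (n := m) (i := (⟨i, by omega⟩ : Fin (m + 2)))
    (j := (⟨j, by omega⟩ : Fin (m + 2))) (by rw [Fin.le_def]; exact hij)
  exact congrArg (fun φ : X.obj (op (SimplexCategory.mk (m + 1 + 1))) ⟶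
    X.obj (op (SimplexCategory.mk m)) => φ.hom c) h

theorem J2 (m i j : ℕ) (hij : i ≤ j) (hj : j ≤ m) (b : LvA X (m + 1)) :
    dA X (m + 1) i (sA X (m + 1) (j + 1) b) = sA X m j (dA X m i b) := by
  rw [dA_eq X (m + 1) i (by omega), sA_eq X (m + 1) (j + 1) (by omega), sA_eq X m j (by omega),
    dA_eq X m i (by omega)]
  have h := X.δ_comp_σ_of_le (n := m) (i := (⟨i, by omega⟩ : Fin (m + 2)))
    (j := (⟨j, by omega⟩ : Fin (m + 1))) (by rw [Fin.le_def]; exact hij)
  exact congrArg (fun φ : X.obj (op (SimplexCategory.mk (m + 1))) ⟶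
    X.obj (op (SimplexCategory.mk (m + 1))) => φ.hom b) h

theorem J3 (p t : ℕ) (ht : t ≤ p) (b : LvA X p) :
    dA X p t (sA X p t b) = b := by
  rw [dA_eq X p t (by omega), sA_eq X p t (by omega)]
  have h := X.δ_comp_σ_self (n := p) (i := (⟨t, by omega⟩ : Fin (p + 1)))
  exact congrArg (fun φ : X.obj (op (SimplexCategory.mk p)) ⟶
    X.obj (op (SimplexCategory.mk p)) => φ.hom b) h

theorem J4 (p t : ℕ) (ht : t ≤ p) (b : LvA X p) :
    dA X p (t + 1) (sA X p t b) = b := by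
  rw [dA_eq X p (t + 1) (by omega), sA_eq X p t (by omega)]
  have h := X.δ_comp_σ_succ (n := p) (i := (⟨t, by omega⟩ : Fin (p + 1)))
  exact congrArg (fun φ : X.obj (op (SimplexCategory.mk p)) ⟶
    X.obj (op (SimplexCategory.mk p)) => φ.hom b) h

theorem J5 (m i j : ℕ) (hji : j < i) (hi : i ≤ m + 1) (b : LvA X (m + 1)) :
    dA X (m + 1) (i + 1) (sA X (m + 1) j b) = sA X m j (dA X m i b) := by
  rw [dA_eq X (m + 1) (i + 1) (by omega), sA_eq X (m + 1) j (by omega), sA_eq X m j (by omega),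
    dA_eq X m i (by omega)]
  have h := X.δ_comp_σ_of_gt (n := m) (i := (⟨i, by omega⟩ : Fin (m + 2)))
    (j := (⟨j, by omega⟩ : Fin (m + 1))) (by rw [Fin.lt_def]; exact hji)
  exact congrArg (fun φ : X.obj (op (SimplexCategory.mk (m + 1))) ⟶
    X.obj (op (SimplexCategory.mk (m + 1))) => φ.hom b) h

variable {X} {Y : SimplicialObject AddCommGrpCat.{u}} (f : X ⟶ Y)

/-- The components of `f` as additive homomorphisms. -/
abbrev fN (q : ℕ) : LvA X q →+ LvA Y q := (f.app (op (SimplexCategory.mk q))).hom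

theorem fN_d (q i : ℕ) (z : LvA X (q + 1)) :
    fN f q (dA X q i z) = dA Y q i (fN f (q + 1) z) := by
  by_cases h : i < q + 2
  · rw [dA_eq X q i h, dA_eq Y q i h]
    exact congrArg (fun φ : X.obj (op (SimplexCategory.mk (q + 1))) ⟶
      Y.obj (op (SimplexCategory.mk q)) => φ.hom z)
      (f.naturality (SimplexCategory.δ (⟨i, h⟩ : Fin (q + 2))).op)
  · rw [dA_neg X q i h, dA_neg Y q i h, AddMonoidHom.zero_apply, AddMonoidHom.zero_apply,
      map_zero]

theorem fN_s (q i : ℕ) (z : LvA X q) :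
    fN f (q + 1) (sA X q i z) = sA Y q i (fN f q z) := by
  by_cases h : i < q + 1
  · rw [sA_eq X q i h, sA_eq Y q i h]
    exact congrArg (fun φ : X.obj (op (SimplexCategory.mk q)) ⟶
      Y.obj (op (SimplexCategory.mk (q + 1))) => φ.hom z)
      (f.naturality (SimplexCategory.σ (⟨i, h⟩ : Fin (q + 1))).op)
  · rw [sA_neg X q i h, sA_neg Y q i h, AddMonoidHom.zero_apply, AddMonoidHom.zero_apply,
      map_zero]

theorem comm_elem {n : ℕ} (J : Fin (n + 2))
    (a : Δ[n] ⟶ (X ⋙ forget AddCommGrpCat.{u} : SSet.{u}))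
    (b : Δ[n + 1] ⟶ (Y ⋙ forget AddCommGrpCat.{u} : SSet.{u}))
    (h : a ≫ Functor.whiskerRight f (forget AddCommGrpCat.{u}) = SSet.stdSimplex.δ J ≫ b) :
    fN f n (SSet.yonedaEquiv a) = (Y.δ J).hom (SSet.yonedaEquiv b) := by
  have h2 := congrArg SSet.yonedaEquiv h
  rw [SSet.stdSimplex.yonedaEquiv_δ_comp] at h2
  exact h2

theorem lift_of_elem {n : ℕ} {k : Fin (n + 2)}
    (fam : ∀ (j : Fin (n + 2)) (_ : j ≠ k), Δ[n] ⟶ (X ⋙ forget AddCommGrpCat.{u} : SSet.{u}))
    (b : Δ[n + 1] ⟶ (Y ⋙ forget AddCommGrpCat.{u} : SSet.{u}))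
    (g : LvA X (n + 1))
    (hg : ∀ (j : Fin (n + 2)) (hj : j ≠ k), (X.δ j).hom g = SSet.yonedaEquiv (fam j hj))
    (hgb : fN f (n + 1) g = SSet.yonedaEquiv b) :
    ∃ (φ : Δ[n + 1] ⟶ (X ⋙ forget AddCommGrpCat.{u} : SSet.{u})),
      (∀ (j : Fin (n + 2)) (hj : j ≠ k), SSet.stdSimplex.δ j ≫ φ = fam j hj) ∧
      φ ≫ Functor.whiskerRight f (forget AddCommGrpCat.{u}) = b := by
  refine ⟨SSet.yonedaEquiv.symm g, fun j hj => ?_, ?_⟩
  · rw [SSet.stdSimplex.δ_comp_yonedaEquiv_symm]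
    have h1 : SimplicialObject.δ (X ⋙ forget AddCommGrpCat.{u} : SSet.{u}) j g =
        SSet.yonedaEquiv (fam j hj) := hg j hj
    rw [h1]
    exact SSet.yonedaEquiv.symm_apply_apply _
  · rw [SSet.yonedaEquiv_symm_comp]
    have h1 : (Functor.whiskerRight f (forget AddCommGrpCat.{u})).app
        (op (SimplexCategory.mk (n + 1))) g = SSet.yonedaEquiv b := hgb
    rw [h1]
    exact SSet.yonedaEquiv.symm_apply_apply _

end addgrp

end helpers

/-- A degreewise surjective homomorphism of simplicial abelian groups is a Kan fibration of the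
underlying simplicial sets. -/
theorem result {X Y : SimplicialObject AddCommGrpCat.{u}} (f : X ⟶ Y) (hf : ∀ n : SimplexCategoryᵒᵖ, Function.Surjective (f.app n)) : SSet.modelCategoryQuillen.J.rlp (X := X ⋙ forget AddCommGrpCat.{u}) (Y := Y ⋙ forget AddCommGrpCat.{u}) (Functor.whiskerRight f (forget AddCommGrpCat.{u})) := by
  apply Groth.Agent.S6779.rlp_of_lift
  intro n k fam hfam b comm
  obtain _ | m := n
  · -- the one-dimensional horn
    obtain ⟨j₀, hj₀⟩ : ∃ j₀ : Fin 2, j₀ ≠ k := by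
      by_cases h : k = 0
      · exact ⟨1, by rw [h]; decide⟩
      · exact ⟨0, Ne.symm h⟩
    obtain ⟨g₀, hg₀⟩ := hf (Opposite.op (SimplexCategory.mk (0 + 1))) (SSet.yonedaEquiv b)
    have hg₀' : fN f (0 + 1) g₀ = SSet.yonedaEquiv b := hg₀
    have hj₀v : j₀.val = 0 ∨ j₀.val = 1 := by
      have := j₀.isLt
      omega
    obtain ⟨g, hgK, hg⟩ := Groth.Agent.S6779.horn_core_zero_add (B := LvA X 0)
      (C := LvA X (0 + 1))
      (dA X 0) (sA X 0 0) (fun z => J3 X 0 0 le_rfl z) (fun z => J4 X 0 0 le_rfl z)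
      (AddMonoidHom.ker (fN f 0)) (AddMonoidHom.ker (fN f (0 + 1)))
      (fun u hu => by
        rw [AddMonoidHom.mem_ker] at hu ⊢
        rw [fN_s, hu, map_zero])
      j₀.val hj₀v (SSet.yonedaEquiv (fam j₀ hj₀)) g₀
      (by
        rw [AddMonoidHom.mem_ker, map_add, map_neg, fN_d, hg₀',
          comm_elem f j₀ _ b (comm j₀ hj₀), dA_eq Y 0 j₀.val j₀.isLt, neg_add_cancel])
    apply lift_of_elem f fam b g
    · intro j hj
      have hjj : j = j₀ := by
        apply Fin.ext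
        have h1 : j.val ≠ k.val := fun h => hj (Fin.ext h)
        have h2 : j₀.val ≠ k.val := fun h => hj₀ (Fin.ext h)
        have := j.isLt
        have := j₀.isLt
        have := k.isLt
        omega
      have h1 : (X.δ j₀).hom g = SSet.yonedaEquiv (fam j₀ hj₀) := by
        rw [← hg, dA_eq X 0 j₀.val j₀.isLt]
      subst hjj
      exact h1
    · rw [AddMonoidHom.mem_ker, map_add, map_neg, neg_add_eq_zero] at hgK
      exact hgK.symm.trans hg₀'
  · have hf' := (SSet.horn.isCompatible_iff fam).mp hfam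
    have hk := k.isLt
    let x : ℕ → LvA X (m + 1) := fun j =>
      if h : j < m + 3 ∧ j ≠ k.val then
        SSet.yonedaEquiv (fam ⟨j, h.1⟩ (fun e => h.2 (congrArg Fin.val e)))
      else 0
    have x_eq : ∀ (j : ℕ) (hj : j < m + 3) (hjk : j ≠ k.val),
        x j = SSet.yonedaEquiv (fam ⟨j, hj⟩ (fun e => hjk (congrArg Fin.val e))) :=
      fun j hj hjk => dif_pos ⟨hj, hjk⟩
    have hx : ∀ j l : ℕ, j ≤ l → l ≤ m + 1 → j ≠ k.val → l + 1 ≠ k.val →
        dA X m l (x j) = dA X m j (x (l + 1)) := by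
      intro j l hjl hl hjk hlk
      rw [dA_eq X m l (by omega), dA_eq X m j (by omega), x_eq j (by omega) hjk,
        x_eq (l + 1) (by omega) hlk]
      have h := hf' ⟨j, by omega⟩ ⟨l + 1, by omega⟩ (fun e => hjk (congrArg Fin.val e))
        (fun e => hlk (congrArg Fin.val e)) (by rw [Fin.lt_def]; exact Nat.lt_succ_of_le hjl)
      have h2 := congrArg SSet.yonedaEquiv h
      rw [SSet.stdSimplex.yonedaEquiv_δ_comp, SSet.stdSimplex.yonedaEquiv_δ_comp] at h2
      exact h2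
    obtain ⟨g₀, hg₀⟩ := hf (Opposite.op (SimplexCategory.mk (m + 1 + 1))) (SSet.yonedaEquiv b)
    have hg₀' : fN f (m + 1 + 1) g₀ = SSet.yonedaEquiv b := hg₀
    obtain ⟨g, hgK, hg⟩ := Groth.Agent.S6779.horn_core_add (A := LvA X m) (B := LvA X (m + 1))
      (C := LvA X (m + 1 + 1))
      m k.val (by omega)
      (dA X m) (dA X (m + 1)) (sA X m) (sA X (m + 1))
      (J1 X m) (J2 X m) (fun t ht z => J3 X (m + 1) t ht z) (fun t ht z => J4 X (m + 1) t ht z)
      (J5 X m)
      (AddMonoidHom.ker (fN f (m + 1))) (AddMonoidHom.ker (fN f (m + 1 + 1)))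
      (fun t u hu => by
        rw [AddMonoidHom.mem_ker] at hu ⊢
        rw [fN_s, hu, map_zero])
      (fun j c hc => by
        rw [AddMonoidHom.mem_ker] at hc ⊢
        rw [fN_d, hc, map_zero])
      x hx g₀
      (fun j hj hjk => by
        rw [AddMonoidHom.mem_ker, map_add, map_neg, fN_d, hg₀', x_eq j (by omega) hjk,
          comm_elem f ⟨j, by omega⟩ _ b
            (comm ⟨j, by omega⟩ (fun e => hjk (congrArg Fin.val e))),
          dA_eq Y (m + 1) j (by omega), neg_add_cancel])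
    apply lift_of_elem f fam b g
    · intro j hj
      have hjlt := j.isLt
      have h1 : (X.δ j).hom g = x j.val := by
        rw [← hg j.val (by omega) (fun e => hj (Fin.ext e)), dA_eq X (m + 1) j.val j.isLt]
      exact h1.trans (x_eq j.val j.isLt (fun e => hj (Fin.ext e)))
    · rw [AddMonoidHom.mem_ker, map_add, map_neg, neg_add_eq_zero] at hgK
      exact hgK.symm.trans hg₀'

end Groth.Agent.S6780
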