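import Groth.Statements.S6781
import Mathlib
import Groth.Agent.S6780

set_option autoImplicit false
open CategoryTheory
universe u
open SSet

namespace Groth.Agent.S6781

section helpers

open Simplicial Opposite AlgebraicTopology AlgebraicTopology.DoldKan CategoryTheory.Limits
open Groth.Agent.S6780

variable {X Y : SimplicialObject AddCommGrpCat.{u}} (f : X ⟶ Y)

/-- Categorical form of the key step: a normalized cycle killed by `f` is `d₀` of a
normalized element killed by `f` (up to refinements). -/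
theorem star_cat
    (hq : QuasiIso ((AlgebraicTopology.alternatingFaceMapComplex AddCommGrpCat.{u}).map f))
    (hepi : ∀ n : ℕ, Epi (f.app (op (SimplexCategory.mk n))))
    (k : ℕ) {A : AddCommGrpCat.{u}} (φ : A ⟶ X _⦋k⦌)
    (hcyc : φ ≫ (AlternatingFaceMapComplex.obj X).d k ((ComplexShape.down ℕ).next k) = 0)
    (hP : φ ≫ (PInfty : AlternatingFaceMapComplex.obj X ⟶ AlternatingFaceMapComplex.obj X).f k = φ)
    (hfφ : φ ≫ f.app (op (SimplexCategory.mk k)) = 0) :
    ∃ (A' : AddCommGrpCat.{u}) (π : A' ⟶ A) (_ : Epi π) (ψ : A' ⟶ X _⦋k + 1⦌),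
      ψ ≫ X.δ 0 = π ≫ φ ∧ (∀ j : Fin (k + 1), ψ ≫ X.δ j.succ = 0) ∧
      ψ ≫ f.app (op (SimplexCategory.mk (k + 1))) = 0 := by
  have hq' : QuasiIso (AlternatingFaceMapComplex.map f) := hq
  haveI := hq'.quasiIsoAt k
  haveI := hq'.quasiIsoAt (k + 1)
  have hmono : Mono (HomologicalComplex.homologyMap (AlternatingFaceMapComplex.map f) k) :=
    inferInstance
  have hepiH : Epi (HomologicalComplex.homologyMap (AlternatingFaceMapComplex.map f) (k + 1)) :=
    inferInstance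
  -- step (b)
  obtain ⟨A₁, π₁, hπ₁, u₁, hu₁⟩ :=
    (HomologicalComplex.mono_homologyMap_iff_up_to_refinements (AlternatingFaceMapComplex.map f)
      (k + 1) k ((ComplexShape.down ℕ).next k) (by simp) rfl).mp hmono φ hcyc 0
      (by rw [zero_comp]; exact hfφ)
  -- commutation of `f` with the differentials
  have e1 : f.app (op (SimplexCategory.mk (k + 1))) ≫ (AlternatingFaceMapComplex.obj Y).d (k + 1) k =
      (AlternatingFaceMapComplex.obj X).d (k + 1) k ≫ f.app (op (SimplexCategory.mk k)) :=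
    (AlternatingFaceMapComplex.map f).comm (k + 1) k
  have e2 : (AlternatingFaceMapComplex.obj X).d (k + 2) (k + 1) ≫
      f.app (op (SimplexCategory.mk (k + 1))) =
      f.app (op (SimplexCategory.mk (k + 2))) ≫ (AlternatingFaceMapComplex.obj Y).d (k + 2) (k + 1) :=
    ((AlternatingFaceMapComplex.map f).comm (k + 2) (k + 1)).symm
  -- steps (c), (d)
  have hcyc2 : (u₁ ≫ f.app (op (SimplexCategory.mk (k + 1)))) ≫
      (AlternatingFaceMapComplex.obj Y).d (k + 1) k = 0 := by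
    rw [Category.assoc, e1, ← Category.assoc, ← hu₁, Category.assoc, hfφ, comp_zero]
  obtain ⟨A₂, π₂, hπ₂, x₂, hx₂, y₁, hy⟩ :=
    (HomologicalComplex.epi_homologyMap_iff_up_to_refinements (AlternatingFaceMapComplex.map f)
      (k + 2) (k + 1) k (by simp) (by simp)).mp hepiH
      (u₁ ≫ f.app (op (SimplexCategory.mk (k + 1)))) hcyc2
  obtain ⟨t₂, ht₂, hy'⟩ : ∃ t₂ : A₂ ⟶ Y _⦋k + 1⦌,
      t₂ = y₁ ≫ (AlternatingFaceMapComplex.obj Y).d (k + 2) (k + 1) ∧
      π₂ ≫ u₁ ≫ f.app (op (SimplexCategory.mk (k + 1))) =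
        x₂ ≫ f.app (op (SimplexCategory.mk (k + 1))) + t₂ := ⟨_, rfl, hy⟩
  -- step (e)
  haveI := hepi (k + 2)
  obtain ⟨A₃, π₃, hπ₃, v, hv⟩ :=
    surjective_up_to_refinements_of_epi (f.app (op (SimplexCategory.mk (k + 2)))) y₁
  -- step (f)
  obtain ⟨u, hu⟩ : ∃ u : A₃ ⟶ X _⦋k + 1⦌, u = π₃ ≫ π₂ ≫ u₁ - π₃ ≫ x₂ -
      v ≫ (AlternatingFaceMapComplex.obj X).d (k + 2) (k + 1) := ⟨_, rfl⟩
  have h1 : u ≫ (AlternatingFaceMapComplex.obj X).d (k + 1) k = π₃ ≫ π₂ ≫ π₁ ≫ φ := by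
    rw [hu, Preadditive.sub_comp, Preadditive.sub_comp, Category.assoc, Category.assoc,
      Category.assoc, Category.assoc, hx₂, HomologicalComplex.d_comp_d, comp_zero, comp_zero,
      sub_zero, sub_zero, ← hu₁]
  have h2 : u ≫ f.app (op (SimplexCategory.mk (k + 1))) = 0 := by
    have a1 : (π₃ ≫ π₂ ≫ u₁) ≫ f.app (op (SimplexCategory.mk (k + 1))) =
        π₃ ≫ x₂ ≫ f.app (op (SimplexCategory.mk (k + 1))) + π₃ ≫ t₂ := by
      rw [Category.assoc, Category.assoc, hy', Preadditive.comp_add]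
    have a2 : (v ≫ (AlternatingFaceMapComplex.obj X).d (k + 2) (k + 1)) ≫
        f.app (op (SimplexCategory.mk (k + 1))) = π₃ ≫ t₂ := by
      rw [Category.assoc, e2, ← Category.assoc, ← hv, Category.assoc, ht₂]
    rw [hu, Preadditive.sub_comp, Preadditive.sub_comp, a1, a2, Category.assoc]
    abel
  -- step (g)
  haveI := hπ₁
  haveI := hπ₂
  haveI := hπ₃
  have g2 : ∀ j : Fin (k + 1), (u ≫ (PInfty : AlternatingFaceMapComplex.obj X ⟶ AlternatingFaceMapComplex.obj X).f (k + 1)) ≫ X.δ j.succ = 0 := by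
    intro j
    have hv' := (HigherFacesVanish.of_P (k + 1) k :
      HigherFacesVanish (k + 1) ((P (k + 1)).f (k + 1) : X _⦋k + 1⦌ ⟶ X _⦋k + 1⦌)) j (by omega)
    rw [Category.assoc, PInfty_f, hv', comp_zero]
  have hd : (u ≫ (PInfty : AlternatingFaceMapComplex.obj X ⟶ AlternatingFaceMapComplex.obj X).f (k + 1)) ≫ (AlternatingFaceMapComplex.obj X).d (k + 1) k =
      (u ≫ (PInfty : AlternatingFaceMapComplex.obj X ⟶ AlternatingFaceMapComplex.obj X).f (k + 1)) ≫ X.δ 0 := by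
    rw [AlternatingFaceMapComplex.obj_d_eq, Preadditive.comp_sum, Fin.sum_univ_succ,
      Finset.sum_eq_zero (fun j _ => by rw [Preadditive.comp_zsmul, g2 j, smul_zero]), add_zero]
    simp
  refine ⟨A₃, π₃ ≫ π₂ ≫ π₁, inferInstance, u ≫ (PInfty : AlternatingFaceMapComplex.obj X ⟶ AlternatingFaceMapComplex.obj X).f (k + 1), ?_, g2, ?_⟩
  · rw [← hd, Category.assoc, (PInfty : AlternatingFaceMapComplex.obj X ⟶ AlternatingFaceMapComplex.obj X).comm (k + 1) k, ← Category.assoc, h1]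
    simp only [Category.assoc, hP]
  · rw [Category.assoc, ← PInfty_f_naturality, ← Category.assoc, h2, zero_comp]

/-- Elementwise extraction. -/
theorem star_of_hom
    (hq : QuasiIso ((AlgebraicTopology.alternatingFaceMapComplex AddCommGrpCat.{u}).map f))
    (hsurj : ∀ n : SimplexCategoryᵒᵖ, Function.Surjective (f.app n))
    (k : ℕ) {A : AddCommGrpCat.{u}} (φ : A ⟶ X _⦋k⦌)
    (hcyc : φ ≫ (AlternatingFaceMapComplex.obj X).d k ((ComplexShape.down ℕ).next k) = 0)
    (hP : φ ≫ (PInfty : AlternatingFaceMapComplex.obj X ⟶ AlternatingFaceMapComplex.obj X).f k = φ)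
    (hfφ : φ ≫ f.app (op (SimplexCategory.mk k)) = 0) (a₀ : A) :
    ∃ w : LvA X (k + 1), (X.δ 0).hom w = φ.hom a₀ ∧
      (∀ j : Fin (k + 1), (X.δ j.succ).hom w = 0) ∧
      (f.app (op (SimplexCategory.mk (k + 1)))).hom w = 0 := by
  obtain ⟨A', π, hπ, ψ, h0, hj, hfw⟩ := star_cat f hq
    (fun n => (AddCommGrpCat.epi_iff_surjective _).mpr (hsurj _)) k φ hcyc hP hfφ
  obtain ⟨a', ha'⟩ := (AddCommGrpCat.epi_iff_surjective π).mp hπ a₀
  refine ⟨ψ.hom a', ?_, ?_, ?_⟩
  · exact (congrArg (fun g : A' ⟶ X _⦋k⦌ => g.hom a') h0).trans (congrArg φ.hom ha')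
  · intro j
    exact congrArg (fun g : A' ⟶ X _⦋k⦌ => g.hom a') (hj j)
  · exact congrArg (fun g : A' ⟶ Y _⦋k + 1⦌ => g.hom a') hfw

theorem star_elem_zero
    (hq : QuasiIso ((AlgebraicTopology.alternatingFaceMapComplex AddCommGrpCat.{u}).map f))
    (hsurj : ∀ n : SimplexCategoryᵒᵖ, Function.Surjective (f.app n))
    (c : LvA X 0) (hfc : (f.app (op (SimplexCategory.mk 0))).hom c = 0) :
    ∃ w : LvA X (0 + 1), (X.δ 0).hom w = c ∧
      (∀ j : Fin (0 + 1), (X.δ j.succ).hom w = 0) ∧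
      (f.app (op (SimplexCategory.mk (0 + 1)))).hom w = 0 := by
  let S : AddSubgroup (LvA X 0) := (f.app (op (SimplexCategory.mk 0))).hom.ker
  have hcS : c ∈ S := AddMonoidHom.mem_ker.mpr hfc
  exact star_of_hom f hq hsurj 0 (A := AddCommGrpCat.of S) (AddCommGrpCat.ofHom S.subtype)
    (by rw [ChainComplex.next_nat_zero, HomologicalComplex.shape _ 0 0 (by simp), comp_zero])
    (by rw [PInfty_f_0]; exact Category.comp_id _)
    (by
      ext ⟨x, hx⟩
      exact AddMonoidHom.mem_ker.mp hx)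
    ⟨c, hcS⟩

theorem star_elem_succ
    (hq : QuasiIso ((AlgebraicTopology.alternatingFaceMapComplex AddCommGrpCat.{u}).map f))
    (hsurj : ∀ n : SimplexCategoryᵒᵖ, Function.Surjective (f.app n))
    (k' : ℕ) (c : LvA X (k' + 1)) (hc : ∀ i : Fin (k' + 2), (X.δ i).hom c = 0)
    (hfc : (f.app (op (SimplexCategory.mk (k' + 1)))).hom c = 0) :
    ∃ w : LvA X (k' + 1 + 1), (X.δ 0).hom w = c ∧
      (∀ j : Fin (k' + 1 + 1), (X.δ j.succ).hom w = 0) ∧
      (f.app (op (SimplexCategory.mk (k' + 1 + 1)))).hom w = 0 := by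
  let S : AddSubgroup (LvA X (k' + 1)) :=
    (⨅ i : Fin (k' + 2), (X.δ i).hom.ker) ⊓ (f.app (op (SimplexCategory.mk (k' + 1)))).hom.ker
  have hcS : c ∈ S :=
    AddSubgroup.mem_inf.mpr ⟨AddSubgroup.mem_iInf.mpr (fun i => AddMonoidHom.mem_ker.mpr (hc i)),
      AddMonoidHom.mem_ker.mpr hfc⟩
  have hφδ : ∀ i : Fin (k' + 2),
      (AddCommGrpCat.ofHom S.subtype : AddCommGrpCat.of S ⟶ X _⦋k' + 1⦌) ≫ X.δ i = 0 := by
    intro i
    ext ⟨x, hx⟩
    exact AddMonoidHom.mem_ker.mp (AddSubgroup.mem_iInf.mp (AddSubgroup.mem_inf.mp hx).1 i)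
  exact star_of_hom f hq hsurj (k' + 1) (A := AddCommGrpCat.of S) (AddCommGrpCat.ofHom S.subtype)
    (by
      rw [ChainComplex.next_nat_succ, AlternatingFaceMapComplex.obj_d_eq, Preadditive.comp_sum]
      exact Finset.sum_eq_zero (fun i _ => by rw [Preadditive.comp_zsmul, hφδ i, smul_zero]))
    (by
      rw [PInfty_f]
      exact HigherFacesVanish.comp_P_eq_self (fun j _ => hφδ j.succ))
    (by
      ext ⟨x, hx⟩
      exact AddMonoidHom.mem_ker.mp (AddSubgroup.mem_inf.mp hx).2)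
    ⟨c, hcS⟩

theorem horn_le_boundary (n : ℕ) (i : Fin (n + 1)) : SSet.horn.{u} n i ≤ SSet.boundary n := by
  rw [SSet.horn_eq_iSup, SSet.boundary_eq_iSup]
  exact iSup_le (fun j => le_iSup (fun l : Fin (n + 1) => SSet.stdSimplex.face {l}ᶜ) j.1)

theorem lift_succ (hf : ∀ n : SimplexCategoryᵒᵖ, Function.Surjective (f.app n))
    (hq : QuasiIso ((AlgebraicTopology.alternatingFaceMapComplex AddCommGrpCat.{u}).map f))
    (k : ℕ)
    (a : (∂Δ[k + 1] : SSet.{u}) ⟶ (X ⋙ forget AddCommGrpCat.{u} : SSet.{u}))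
    (b : Δ[k + 1] ⟶ (Y ⋙ forget AddCommGrpCat.{u} : SSet.{u}))
    (sq : CommSq a (∂Δ[k + 1]).ι (Functor.whiskerRight f (forget AddCommGrpCat.{u})) b) :
    sq.HasLift := by
  have hJ := Groth.Agent.S6780.result f hf
  haveI hlp : HasLiftingProperty (SSet.horn.{u} (k + 1) (0 : Fin (k + 1 + 1))).ι
      (Functor.whiskerRight f (forget AddCommGrpCat.{u})) :=
    hJ _ (SSet.modelCategoryQuillen.horn_ι_mem_J (k + 1) 0)
  have hle := horn_le_boundary.{u} (k + 1) (0 : Fin (k + 1 + 1))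
  have sq' : CommSq (SSet.Subcomplex.homOfLE hle ≫ a)
      (SSet.horn.{u} (k + 1) (0 : Fin (k + 1 + 1))).ι
      (Functor.whiskerRight f (forget AddCommGrpCat.{u})) b :=
    ⟨by rw [Category.assoc, sq.w, ← Category.assoc, SSet.Subcomplex.homOfLE_ι]⟩
  obtain ⟨φ', hφ'1, hφ'2⟩ : ∃ φ' : Δ[k + 1] ⟶ (X ⋙ forget AddCommGrpCat.{u} : SSet.{u}),
      (SSet.horn.{u} (k + 1) (0 : Fin (k + 1 + 1))).ι ≫ φ' = SSet.Subcomplex.homOfLE hle ≫ a ∧
      φ' ≫ Functor.whiskerRight f (forget AddCommGrpCat.{u}) = b :=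
    ⟨sq'.lift, sq'.fac_left, sq'.fac_right⟩
  obtain ⟨z', hz'⟩ : ∃ z' : LvA X (k + 1), z' = SSet.yonedaEquiv φ' := ⟨_, rfl⟩
  obtain ⟨yb, hyb⟩ : ∃ yb : LvA Y (k + 1), yb = SSet.yonedaEquiv b := ⟨_, rfl⟩
  obtain ⟨xs, hxs⟩ : ∃ xs : Fin (k + 2) → LvA X k,
      ∀ j, xs j = SSet.yonedaEquiv (SSet.boundary.ι j ≫ a) := ⟨fun j => _, fun j => rfl⟩
  have F1 : ∀ j : Fin (k + 2), j ≠ 0 → (X.δ j).hom z' = xs j := by
    intro j hj
    have e : SSet.stdSimplex.δ j ≫ φ' = SSet.boundary.ι j ≫ a := by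
      have e1 : SSet.horn.ι 0 j hj ≫ SSet.Subcomplex.homOfLE hle = SSet.boundary.ι j := by
        rw [← cancel_mono (∂Δ[k + 1]).ι, Category.assoc, SSet.Subcomplex.homOfLE_ι,
          SSet.horn.ι_ι, SSet.boundary.ι_ι]
      rw [← SSet.horn.ι_ι 0 j hj, Category.assoc, hφ'1, ← Category.assoc, e1]
    have e2 := congrArg SSet.yonedaEquiv e
    rw [SSet.stdSimplex.yonedaEquiv_δ_comp] at e2
    rw [hz', hxs j]
    exact e2
  have F2 : (f.app (op (SimplexCategory.mk (k + 1)))).hom z' = yb := by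
    rw [hz', hyb]
    exact congrArg SSet.yonedaEquiv hφ'2
  have F3 : ∀ j : Fin (k + 2), (f.app (op (SimplexCategory.mk k))).hom (xs j) =
      (Y.δ j).hom yb := by
    intro j
    rw [hxs j, hyb]
    exact comm_elem f j _ b (by rw [Category.assoc, sq.w, SSet.boundary.ι_ι_assoc])
  have N0 : ∀ z : LvA X (k + 1), (f.app (op (SimplexCategory.mk k))).hom ((X.δ 0).hom z) =
      (Y.δ 0).hom ((f.app (op (SimplexCategory.mk (k + 1)))).hom z) :=
    fun z => congrArg (fun φ : X.obj (op (SimplexCategory.mk (k + 1))) ⟶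
      Y.obj (op (SimplexCategory.mk k)) => φ.hom z)
      (f.naturality (SimplexCategory.δ (0 : Fin (k + 2))).op)
  obtain ⟨c, hc⟩ : ∃ c : LvA X k, c = xs 0 - (X.δ 0).hom z' := ⟨_, rfl⟩
  have hfc : (f.app (op (SimplexCategory.mk k))).hom c = 0 := by
    rw [hc, map_sub, F3 0, N0, F2, sub_self]
  have hw : ∃ w : LvA X (k + 1), (X.δ 0).hom w = c ∧
      (∀ j : Fin (k + 1), (X.δ j.succ).hom w = 0) ∧
      (f.app (op (SimplexCategory.mk (k + 1)))).hom w = 0 := by
    obtain _ | k' := k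
    · exact star_elem_zero f hq hf c hfc
    · refine star_elem_succ f hq hf k' c ?_ hfc
      intro i
      have F4 : (X.δ i).hom (xs 0) = (X.δ 0).hom (xs i.succ) := by
        have e : SSet.stdSimplex.δ i ≫ SSet.boundary.ι 0 ≫ a =
            SSet.stdSimplex.δ 0 ≫ SSet.boundary.ι i.succ ≫ a := by
          have e1 : SSet.stdSimplex.δ i ≫ SSet.boundary.ι (0 : Fin (k' + 1 + 2)) =
              SSet.stdSimplex.δ 0 ≫ SSet.boundary.ι i.succ := by
            rw [← cancel_mono (∂Δ[k' + 1 + 1]).ι, Category.assoc, Category.assoc,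
              SSet.boundary.ι_ι, SSet.boundary.ι_ι]
            exact (SSet.stdSimplex.δ_comp_δ (i := (0 : Fin (k' + 2))) (j := i)
              (Fin.zero_le i)).symm
          rw [← Category.assoc, e1, Category.assoc]
        have e2 := congrArg SSet.yonedaEquiv e
        rw [SSet.stdSimplex.yonedaEquiv_δ_comp, SSet.stdSimplex.yonedaEquiv_δ_comp] at e2
        rw [hxs 0, hxs i.succ]
        exact e2
      have F5 : (X.δ i).hom ((X.δ 0).hom z') = (X.δ 0).hom ((X.δ i.succ).hom z') :=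
        (congrArg (fun φ : X.obj (op (SimplexCategory.mk (k' + 1 + 1))) ⟶
          X.obj (op (SimplexCategory.mk k')) => φ.hom z')
          (X.δ_comp_δ (i := (0 : Fin (k' + 2))) (j := i) (Fin.zero_le i))).symm
      rw [hc, map_sub, F4, F5, F1 i.succ (Fin.succ_ne_zero i), sub_self]
  obtain ⟨w, hw0, hwj, hfw⟩ := hw
  refine ⟨⟨{ l := SSet.yonedaEquiv.symm (z' + w)
             fac_left := ?_
             fac_right := ?_ }⟩⟩
  · refine SSet.boundary.hom_ext (fun j => ?_)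
    rw [SSet.boundary.ι_ι_assoc, SSet.stdSimplex.δ_comp_yonedaEquiv_symm]
    apply SSet.yonedaEquiv.injective
    rw [Equiv.apply_symm_apply, ← hxs j]
    show (X.δ j).hom (z' + w) = xs j
    rw [map_add]
    obtain rfl | ⟨j', rfl⟩ := Fin.eq_zero_or_eq_succ j
    · rw [hw0, hc]
      abel
    · rw [hwj j', add_zero]
      exact F1 j'.succ (Fin.succ_ne_zero j')
  · rw [SSet.yonedaEquiv_symm_comp]
    have h1 : (Functor.whiskerRight f (forget AddCommGrpCat.{u})).app
        (op (SimplexCategory.mk (k + 1))) (z' + w) = SSet.yonedaEquiv b := by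
      rw [← hyb]
      show (f.app (op (SimplexCategory.mk (k + 1)))).hom (z' + w) = yb
      rw [map_add, F2, hfw, add_zero]
    rw [h1, Equiv.symm_apply_apply]

end helpers

/-- A degreewise surjective homomorphism of simplicial abelian groups inducing a quasi-isomorphism of
the associated chain complexes is a trivial Kan fibration of the underlying simplicial sets. -/
theorem result {X Y : SimplicialObject AddCommGrpCat.{u}} (f : X ⟶ Y) (hf : ∀ n : SimplexCategoryᵒᵖ, Function.Surjective (f.app n)) (hq : QuasiIso ((AlgebraicTopology.alternatingFaceMapComplex AddCommGrpCat.{u}).map f)) : SSet.modelCategoryQuillen.I.rlp (X := X ⋙ forget AddCommGrpCat.{u}) (Y := Y ⋙ forget AddCommGrpCat.{u}) (Functor.whiskerRight f (forget AddCommGrpCat.{u})) := by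
  intro A B i hi
  obtain ⟨m⟩ := hi
  refine ⟨fun {a b} sq => ?_⟩
  obtain _ | k := m
  · obtain ⟨z, hz⟩ := hf (Opposite.op (SimplexCategory.mk 0)) (SSet.yonedaEquiv b)
    refine ⟨⟨{ l := SSet.yonedaEquiv.symm z
               fac_left := SSet.boundary.hom_ext₀
               fac_right := ?_ }⟩⟩
    rw [SSet.yonedaEquiv_symm_comp]
    have h1 : (Functor.whiskerRight f (forget AddCommGrpCat.{u})).app
        (Opposite.op (SimplexCategory.mk 0)) z = SSet.yonedaEquiv b := hz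
    rw [h1, Equiv.symm_apply_apply]
  · exact lift_succ f hf hq k a b sq

end Groth.Agent.S6781
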