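import Groth.Statements.S6782
import Mathlib

set_option autoImplicit false
open CategoryTheory Opposite
universe u
open SSet

namespace Groth.Agent.S6782

section helpers

open Simplicial

variable {U V : SSet.{u}} (f : V ⟶ U) (n : ℕ)

/-- Low-dimensional lifting: `m ≤ n`. -/
theorem lift_low
    (h1 : ∀ i : ℕ, i < n → Function.Bijective (f.app (op (SimplexCategory.mk i))))
    (h2 : Function.Surjective (f.app (op (SimplexCategory.mk n))))
    (m : ℕ) (hmn : m ≤ n) (a : (∂Δ[m] : SSet.{u}) ⟶ V) (b : Δ[m] ⟶ U)
    (sq : CommSq a (∂Δ[m]).ι f b) : sq.HasLift := by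
  obtain ⟨z, hz⟩ : ∃ z : V.obj (op (SimplexCategory.mk m)),
      f.app (op (SimplexCategory.mk m)) z = SSet.yonedaEquiv b := by
    rcases Nat.lt_or_ge m n with hlt | hge
    · exact (h1 m hlt).2 _
    · have hmn' : m = n := le_antisymm hmn hge
      subst hmn'
      exact h2 _
  refine ⟨⟨{ l := SSet.yonedaEquiv.symm z, fac_left := ?_, fac_right := ?_ }⟩⟩
  · obtain _ | k := m
    · exact SSet.boundary.hom_ext₀
    · refine SSet.boundary.hom_ext (fun j => ?_)
      rw [SSet.boundary.ι_ι_assoc, SSet.stdSimplex.δ_comp_yonedaEquiv_symm]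
      apply SSet.yonedaEquiv.injective
      rw [Equiv.apply_symm_apply]
      apply (h1 k (by omega)).1
      have e1 : f.app (op (SimplexCategory.mk k)) (V.δ j z) =
          U.δ j (f.app (op (SimplexCategory.mk (k + 1))) z) :=
        NatTrans.naturality_apply f (SimplexCategory.δ j).op z
      have e2 : f.app (op (SimplexCategory.mk k)) (SSet.yonedaEquiv (SSet.boundary.ι j ≫ a)) =
          SSet.yonedaEquiv (SSet.boundary.ι j ≫ a ≫ f) := rfl
      rw [e1, hz, e2, sq.w, SSet.boundary.ι_ι_assoc, SSet.stdSimplex.yonedaEquiv_δ_comp]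
  · rw [SSet.yonedaEquiv_symm_comp, hz, Equiv.symm_apply_apply]

/-- High-dimensional lifting: `n < m`. -/
theorem lift_high [SimplicialObject.IsCoskeletal U n] [SimplicialObject.IsCoskeletal V n]
    (m : ℕ) (hnm : n < m) (a : (∂Δ[m] : SSet.{u}) ⟶ V) (b : Δ[m] ⟶ U)
    (sq : CommSq a (∂Δ[m]).ι f b) : sq.HasLift := by
  have hmem : ∀ (x : (SimplexCategory.Truncated n)ᵒᵖ)
      (s : (Δ[m] : SSet.{u}).obj ((SimplexCategory.Truncated.inclusion n).op.obj x)),
      s ∈ (SSet.boundary m).obj ((SimplexCategory.Truncated.inclusion n).op.obj x) := by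
    intro x s
    show ¬ Function.Surjective (SSet.stdSimplex.asOrderHom s)
    intro hsurj
    have hx : ((SimplexCategory.Truncated.inclusion n).op.obj x).unop.len ≤ n :=
      x.unop.property
    have hc := Fintype.card_le_of_surjective _ hsurj
    simp only [Fintype.card_fin] at hc
    omega
  let β : (SimplexCategory.Truncated.inclusion n).op ⋙ (Δ[m] : SSet.{u}) ⟶
      (SimplexCategory.Truncated.inclusion n).op ⋙ V :=
    { app := fun x => TypeCat.ofHom (fun s =>
        a.app ((SimplexCategory.Truncated.inclusion n).op.obj x) ⟨s, hmem x s⟩)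
      naturality := fun x y θ => by
        ext s
        exact NatTrans.naturality_apply a ((SimplexCategory.Truncated.inclusion n).op.map θ)
          ⟨s, hmem x s⟩ }
  obtain ⟨l, hl⟩ : ∃ l : (Δ[m] : SSet.{u}) ⟶ V,
      ∀ x : (SimplexCategory.Truncated n)ᵒᵖ,
        l.app ((SimplexCategory.Truncated.inclusion n).op.obj x) = β.app x :=
    ⟨Functor.liftOfIsRightKanExtension V
        (𝟙 ((SimplexCategory.Truncated.inclusion n).op ⋙ V)) _ β,
      fun x => by
        simpa only [NatTrans.id_app, Category.comp_id] using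
          Functor.liftOfIsRightKanExtension_fac_app V
            (𝟙 ((SimplexCategory.Truncated.inclusion n).op ⋙ V)) _ β x⟩
  refine ⟨⟨{ l := l, fac_left := ?_, fac_right := ?_ }⟩⟩
  · apply Functor.hom_ext_of_isRightKanExtension V
      (𝟙 ((SimplexCategory.Truncated.inclusion n).op ⋙ V))
    ext x ⟨s, hs⟩
    show l.app ((SimplexCategory.Truncated.inclusion n).op.obj x) s =
      a.app ((SimplexCategory.Truncated.inclusion n).op.obj x) ⟨s, hs⟩
    rw [hl x]
    rfl
  · apply Functor.hom_ext_of_isRightKanExtension U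
      (𝟙 ((SimplexCategory.Truncated.inclusion n).op ⋙ U))
    ext x s
    show f.app ((SimplexCategory.Truncated.inclusion n).op.obj x)
      (l.app ((SimplexCategory.Truncated.inclusion n).op.obj x) s) =
      b.app ((SimplexCategory.Truncated.inclusion n).op.obj x) s
    rw [hl x]
    exact ConcreteCategory.congr_hom
      (NatTrans.congr_app sq.w ((SimplexCategory.Truncated.inclusion n).op.obj x))
      ⟨s, hmem x s⟩

end helpers

/-- A map of `n`-coskeletal simplicial sets which is bijective on simplices of dimension `< n` and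
surjective on `n`-simplices is a trivial Kan fibration. -/
theorem result {U V : SSet.{u}} (f : V ⟶ U) (n : ℕ) (h1 : ∀ i : ℕ, i < n → Function.Bijective (f.app (op (SimplexCategory.mk i)))) (h2 : Function.Surjective (f.app (op (SimplexCategory.mk n)))) [SimplicialObject.IsCoskeletal U n] [SimplicialObject.IsCoskeletal V n] : SSet.modelCategoryQuillen.I.rlp f := by
  intro A B i hi
  obtain ⟨m⟩ := hi
  refine ⟨fun {a b} sq => ?_⟩
  by_cases hmn : m ≤ n
  · exact lift_low f n h1 h2 m hmn a b sq
  · exact lift_high f n m (by omega) a b sq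

end Groth.Agent.S6782
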