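import Groth.Statements.S6783
import Mathlib

set_option autoImplicit false
open CategoryTheory
universe u
open SSet

namespace Groth.Agent.S6783


section helpers

open Simplicial Limits Opposite

variable (F : Arrow (Type u))

/-- the `j`-th vertex of `Δ[n]` -/
def vertex (n : ℕ) (j : Fin ((⦋n⦌ : SimplexCategory).len + 1)) :
    (Δ[n] : SSet.{u}).obj (op ⦋0⦌) :=
  (SSet.stdSimplex.objEquiv (n := ⦋n⦌) (m := op ⦋0⦌)).symm (SimplexCategory.const ⦋0⦌ ⦋n⦌ j)

theorem wp_ext {d : ℕ}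
    (y y' : widePullback F.right (fun _ : Fin (d + 1) => F.left) (fun _ => F.hom))
    (h : ∀ k, WidePullback.π (fun _ : Fin (d + 1) => F.hom) k y =
      WidePullback.π (fun _ : Fin (d + 1) => F.hom) k y') : y = y' := by
  apply Limits.Types.limit_ext
  rintro (_ | k)
  · have e : ∀ z : widePullback F.right (fun _ : Fin (d + 1) => F.left) (fun _ => F.hom),
        WidePullback.base (fun _ : Fin (d + 1) => F.hom) z =
          F.hom (WidePullback.π (fun _ : Fin (d + 1) => F.hom) 0 z) := fun z =>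
      (types_congr_hom (WidePullback.π_arrow (fun _ : Fin (d + 1) => F.hom) 0) z).symm
    exact ((e y).trans (TypeCat.congr_arg F.hom (h 0))).trans (e y').symm
  · exact h k

theorem map_π {m n : SimplexCategory} (g : m ⟶ n) (k : Fin (m.len + 1)) :
    F.cechNerve.map g.op ≫ WidePullback.π (fun _ : Fin (m.len + 1) => F.hom) k =
      WidePullback.π (fun _ : Fin (n.len + 1) => F.hom) (g.toOrderHom k) :=
  WidePullback.lift_π _ _ _ _ k

theorem π_map {m n : SimplexCategory} (g : m ⟶ n) (x : F.cechNerve.obj (op n))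
    (k : Fin (m.len + 1)) :
    WidePullback.π (fun _ : Fin (m.len + 1) => F.hom) k (F.cechNerve.map g.op x) =
      WidePullback.π (fun _ : Fin (n.len + 1) => F.hom) (g.toOrderHom k) x :=
  types_congr_hom (map_π F g k) x

/-- the map from a point with prescribed projections -/
noncomputable def mkMap (m : SimplexCategory) (b₀ : F.right) (a : Fin (m.len + 1) → F.left)
    (ha : ∀ j, F.hom (a j) = b₀) : PUnit.{u + 1} ⟶ F.cechNerve.obj (op m) :=
  WidePullback.lift (↾fun _ => b₀) (fun j => ↾fun _ => a j) (fun j => by ext; exact ha j)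

theorem mkMap_π (m : SimplexCategory) (b₀ : F.right) (a : Fin (m.len + 1) → F.left)
    (ha : ∀ j, F.hom (a j) = b₀) (j : Fin (m.len + 1)) :
    mkMap F m b₀ a ha ≫ WidePullback.π (fun _ : Fin (m.len + 1) => F.hom) j = ↾fun _ => a j :=
  WidePullback.lift_π _ _ _ _ j

theorem mkMap_base (m : SimplexCategory) (b₀ : F.right) (a : Fin (m.len + 1) → F.left)
    (ha : ∀ j, F.hom (a j) = b₀) :
    mkMap F m b₀ a ha ≫ WidePullback.base (fun _ : Fin (m.len + 1) => F.hom) = ↾fun _ => b₀ :=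
  WidePullback.lift_base _ _ _ _

theorem exists_simplex (m : SimplexCategory) (b₀ : F.right) (a : Fin (m.len + 1) → F.left)
    (ha : ∀ j, F.hom (a j) = b₀) :
    ∃ x : F.cechNerve.obj (op m),
      (∀ j, WidePullback.π (fun _ : Fin (m.len + 1) => F.hom) j x = a j) ∧
        WidePullback.base (fun _ : Fin (m.len + 1) => F.hom) x = b₀ :=
  ⟨mkMap F m b₀ a ha PUnit.unit,
    fun j => types_congr_hom (mkMap_π F m b₀ a ha j) PUnit.unit,
    types_congr_hom (mkMap_base F m b₀ a ha) PUnit.unit⟩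

theorem fac_left_aux (n : ℕ) (t : (SSet.boundary.{u} n).toSSet ⟶ F.cechNerve)
    (x : F.cechNerve.obj (op ⦋n⦌))
    (hx : ∀ (j : Fin ((⦋n⦌ : SimplexCategory).len + 1))
      (h : vertex n j ∈ (SSet.boundary.{u} n).obj (op ⦋0⦌)),
      WidePullback.π (fun _ : Fin ((⦋0⦌ : SimplexCategory).len + 1) => F.hom) 0
        (t.app (op ⦋0⦌) ⟨vertex n j, h⟩) =
      WidePullback.π (fun _ : Fin ((⦋n⦌ : SimplexCategory).len + 1) => F.hom) j x)
    (m : SimplexCategory) (τ : (Δ[n] : SSet.{u}).obj (op m))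
    (hτ : τ ∈ (SSet.boundary.{u} n).obj (op m)) :
    ((SSet.yonedaEquiv (X := F.cechNerve) (n := ⦋n⦌)).symm x).app (op m) τ =
      t.app (op m) ⟨τ, hτ⟩ := by
  apply wp_ext F
  intro k
  have e1 : WidePullback.π (fun _ : Fin (m.len + 1) => F.hom) k
      (((SSet.yonedaEquiv (X := F.cechNerve) (n := ⦋n⦌)).symm x).app (op m) τ) =
      WidePullback.π (fun _ : Fin ((⦋n⦌ : SimplexCategory).len + 1) => F.hom)
        ((SSet.stdSimplex.objEquiv τ).toOrderHom k) x :=
    π_map F (SSet.stdSimplex.objEquiv τ) x k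
  have e2 : F.cechNerve.map (SimplexCategory.const ⦋0⦌ m k).op (t.app (op m) ⟨τ, hτ⟩) =
      t.app (op ⦋0⦌)
        ((SSet.boundary.{u} n).toSSet.map (SimplexCategory.const ⦋0⦌ m k).op ⟨τ, hτ⟩) :=
    (NatTrans.naturality_apply t (SimplexCategory.const ⦋0⦌ m k).op ⟨τ, hτ⟩).symm
  have e3 : WidePullback.π (fun _ : Fin ((⦋0⦌ : SimplexCategory).len + 1) => F.hom) 0
      (F.cechNerve.map (SimplexCategory.const ⦋0⦌ m k).op (t.app (op m) ⟨τ, hτ⟩)) =
      WidePullback.π (fun _ : Fin (m.len + 1) => F.hom) k (t.app (op m) ⟨τ, hτ⟩) :=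
    π_map F (SimplexCategory.const ⦋0⦌ m k) (t.app (op m) ⟨τ, hτ⟩) 0
  have hv : ((SSet.boundary.{u} n).toSSet.map (SimplexCategory.const ⦋0⦌ m k).op ⟨τ, hτ⟩).1 =
      vertex n ((SSet.stdSimplex.objEquiv τ).toOrderHom k) := rfl
  obtain ⟨h, e4⟩ : ∃ h,
      (SSet.boundary.{u} n).toSSet.map (SimplexCategory.const ⦋0⦌ m k).op ⟨τ, hτ⟩ =
      (⟨vertex n ((SSet.stdSimplex.objEquiv τ).toOrderHom k), h⟩ :
        (SSet.boundary.{u} n).toSSet.obj (op ⦋0⦌)) :=
    ⟨by rw [← hv]; exact Subtype.property _, Subtype.ext hv⟩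
  have e5 : WidePullback.π (fun _ : Fin (m.len + 1) => F.hom) k (t.app (op m) ⟨τ, hτ⟩) =
      WidePullback.π (fun _ : Fin ((⦋0⦌ : SimplexCategory).len + 1) => F.hom) 0
        (t.app (op ⦋0⦌) ⟨vertex n ((SSet.stdSimplex.objEquiv τ).toOrderHom k), h⟩) := by
    rw [← e3, e2, e4]
  exact e1.trans ((hx _ h).symm.trans e5.symm)

theorem lifting (hF : Function.Surjective F.hom) (n : ℕ) :
    HasLiftingProperty (SSet.boundary.{u} n).ι F.augmentedCechNerve.hom := by
  constructor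
  intro t b sq
  obtain ⟨b₀, hb₀, hb⟩ : ∃ b₀ : F.right, SSet.yonedaEquiv b = b₀ ∧
      ∀ (m : SimplexCategoryᵒᵖ) (τ : (Δ[n] : SSet.{u}).obj m), b.app m τ = b₀ := by
    refine ⟨SSet.yonedaEquiv b, rfl, fun m τ => ?_⟩
    have h1 : (SSet.yonedaEquiv.symm (SSet.yonedaEquiv b)).app m τ = SSet.yonedaEquiv b := rfl
    rwa [Equiv.symm_apply_apply] at h1
  have hbase : ∀ (σ : (SSet.boundary.{u} n).toSSet.obj (op ⦋0⦌)),
      F.hom (WidePullback.π (fun _ : Fin ((⦋0⦌ : SimplexCategory).len + 1) => F.hom) 0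
        (t.app (op ⦋0⦌) σ)) = b₀ := by
    intro σ
    have h1 := types_congr_hom (NatTrans.congr_app sq.w (op ⦋0⦌)) σ
    have h2 := types_congr_hom
      (WidePullback.π_arrow (fun _ : Fin ((⦋0⦌ : SimplexCategory).len + 1) => F.hom) 0)
      (t.app (op ⦋0⦌) σ)
    exact h2.trans (h1.trans (hb _ _))
  obtain ⟨a, ha, hat⟩ : ∃ a : Fin ((⦋n⦌ : SimplexCategory).len + 1) → F.left,
      (∀ j, F.hom (a j) = b₀) ∧
      ∀ (j : Fin ((⦋n⦌ : SimplexCategory).len + 1))
        (h : vertex n j ∈ (SSet.boundary.{u} n).obj (op ⦋0⦌)),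
        WidePullback.π (fun _ : Fin ((⦋0⦌ : SimplexCategory).len + 1) => F.hom) 0
          (t.app (op ⦋0⦌) ⟨vertex n j, h⟩) = a j := by
    by_cases hn : n = 0
    · subst hn
      obtain ⟨a₀, ha₀⟩ := hF b₀
      refine ⟨fun _ => a₀, fun _ => ha₀, fun j h => ?_⟩
      exact absurd h (by simp)
    · have hmem : ∀ j, vertex n j ∈ (SSet.boundary.{u} n).obj (op ⦋0⦌) := fun j => by
        rw [SSet.boundary_obj_eq_univ 0 n (Nat.pos_of_ne_zero hn)]
        exact Set.mem_univ _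
      exact ⟨fun j => WidePullback.π (fun _ : Fin ((⦋0⦌ : SimplexCategory).len + 1) => F.hom) 0
        (t.app (op ⦋0⦌) ⟨vertex n j, hmem j⟩), fun j => hbase _, fun j h => rfl⟩
  obtain ⟨x, hxπ, hxb⟩ := exists_simplex F ⦋n⦌ b₀ a ha
  refine ⟨⟨{ l := (SSet.yonedaEquiv (X := F.cechNerve) (n := ⦋n⦌)).symm x,
             fac_left := ?_, fac_right := ?_ }⟩⟩
  · ext m ⟨τ, hτ⟩
    obtain ⟨m⟩ := m
    exact fac_left_aux F n t x (fun j h => (hat j h).trans (hxπ j).symm) m τ hτ
  · refine (SSet.yonedaEquiv_symm_comp x _).trans ?_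
    exact (Equiv.symm_apply_eq _).mpr (hxb.trans hb₀.symm)

end helpers

/-- For a surjective map of sets `f : A → B`, the augmentation from the Čech nerve of `f` (with
`n`-simplices the `(n+1)`-fold fibre product of `A` over `B`) to the constant simplicial set `B` is
a trivial Kan fibration. -/
theorem result {A B : Type u} (f : A ⟶ B) (hf : Function.Surjective f) : SSet.modelCategoryQuillen.I.rlp (Arrow.mk f).augmentedCechNerve.hom := by
  intro K L i hi
  obtain ⟨n⟩ := hi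
  exact lifting (Arrow.mk f) hf n

end Groth.Agent.S6783
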