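import Groth.Statements.S6784
import Mathlib

set_option autoImplicit false
open CategoryTheory
universe u
open SSet

namespace Groth.Agent.S6784


section helpers
open CategoryTheory Simplicial SimplexCategory Truncated
open Opposite Category Functor Limits StructuredArrow SSet

abbrev XN (N : ℕ) : SSet.{u} := stdSimplex.{u}.obj ⦋N⦌

abbrev strArrowMk₁ {i m : ℕ} (φ : ⦋i⦌ ⟶ ⦋m⦌) (hi : i ≤ 1 := by lia) :
    StructuredArrow (op ⦋m⦌) (Truncated.inclusion 1).op :=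
  StructuredArrow.mk (Y := op ⦋i⦌₁) φ.op

abbrev CN (N m : ℕ) :=
  Cone (proj (op ⦋m⦌) (Truncated.inclusion 1).op ⋙ (Truncated.inclusion 1).op ⋙ XN.{u} N)

def ev {N k : ℕ} (y : (XN.{u} N) _⦋k⦌) (t : Fin (k + 1)) : Fin (N + 1) := y t

variable {N : ℕ}

lemma cone_nat {m : ℕ} (s : CN.{u} N m) (x : s.pt) {k k' : ℕ} (hk : k ≤ 1) (hk' : k' ≤ 1)
    (φ : ⦋k⦌ ⟶ ⦋m⦌) (ψ : ⦋k'⦌ ⟶ ⦋k⦌) :
    (XN N).map ψ.op (s.π.app (strArrowMk₁ φ hk) x) = s.π.app (strArrowMk₁ (ψ ≫ φ) hk') x := by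
  let α : strArrowMk₁ φ hk ⟶ strArrowMk₁ (ψ ≫ φ) hk' :=
    StructuredArrow.homMk (Hom.tr ψ).op (by simp)
  exact ConcreteCategory.congr_hom (s.w α) x

noncomputable def vtx {m : ℕ} (s : CN.{u} N m) (x : s.pt) (i : Fin (m + 1)) : Fin (N + 1) :=
  ev (k := 0) (s.π.app (strArrowMk₁ (SimplexCategory.const ⦋0⦌ ⦋m⦌ i)) x) 0

lemma key {m : ℕ} (s : CN.{u} N m) (x : s.pt) {k : ℕ} (hk : k ≤ 1) (φ : ⦋k⦌ ⟶ ⦋m⦌)
    (t : Fin (k + 1)) :
    ev (k := k) (s.π.app (strArrowMk₁ φ hk) x) t = vtx s x (φ.toOrderHom t) := by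
  have h1 := cone_nat s x hk (Nat.zero_le 1) φ (SimplexCategory.const ⦋0⦌ ⦋k⦌ t)
  have h2 : SimplexCategory.const ⦋0⦌ ⦋k⦌ t ≫ φ = SimplexCategory.const ⦋0⦌ ⦋m⦌ (φ.toOrderHom t) :=
    SimplexCategory.const_comp _ _ _
  have h3 : ev (k := k) (s.π.app (strArrowMk₁ φ hk) x) t
      = ev (k := 0) ((XN N).map (SimplexCategory.const ⦋0⦌ ⦋k⦌ t).op
          (s.π.app (strArrowMk₁ φ hk) x)) 0 := rfl
  rw [h3, h1, h2]
  rfl


lemma vtx_mono {m : ℕ} (s : CN.{u} N m) (x : s.pt) : Monotone (vtx s x) := by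
  intro i j hij
  have h0 := key s x (le_refl 1) (mkOfLe i j hij) 0
  have h1 := key s x (le_refl 1) (mkOfLe i j hij) 1
  have hm : ev (k := 1) (s.π.app (strArrowMk₁ (mkOfLe i j hij) (le_refl 1)) x) 0
      ≤ ev (k := 1) (s.π.app (strArrowMk₁ (mkOfLe i j hij) (le_refl 1)) x) 1 :=
    stdSimplex.monotone_apply _ (by decide)
  rw [h0, h1] at hm
  exact hm

noncomputable def lift {m : ℕ} (s : CN.{u} N m) (x : s.pt) : (XN.{u} N) _⦋m⦌ :=
  stdSimplex.objMk ⟨vtx s x, vtx_mono s x⟩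

lemma ev_lift {m : ℕ} (s : CN.{u} N m) (x : s.pt) (i : Fin (m + 1)) :
    ev (lift s x) i = vtx s x i := rfl

lemma ev_ext {k : ℕ} (y z : (XN.{u} N) _⦋k⦌) (h : ∀ t, ev y t = ev z t) : y = z :=
  DFunLike.ext _ _ h

lemma ev_map {k m : ℕ} (φ : ⦋k⦌ ⟶ ⦋m⦌) (y : (XN.{u} N) _⦋m⦌) (t : Fin (k + 1)) :
    ev ((XN N).map φ.op y) t = ev y (φ.toOrderHom t) := rfl


open Truncated in
set_option backward.isDefEq.respectTransparency.types false in
set_option backward.defeqAttrib.useBackward true in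
noncomputable def isPRKEAt (m : ℕ) :
    (rightExtensionInclusion (XN.{u} N) 1).IsPointwiseRightKanExtensionAt ⟨⦋m⦌⟩ where
  lift s := ↾fun x ↦ lift s x
  fac s j := by
    ext x
    obtain ⟨⟨i, hi⟩, ⟨f : _ ⟶ _⟩, rfl⟩ := j.mk_surjective
    obtain ⟨i, rfl⟩ : ∃ j, ⦋j⦌ = i := ⟨_, i.mk_len⟩
    dsimp at hi ⊢
    apply ev_ext
    intro t
    exact (ev_map f (lift s x) t).trans ((ev_lift s x _).trans (key s x hi f t).symm)
  uniq s m' hm := by
    ext x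
    apply ev_ext
    intro i
    have h1 := ConcreteCategory.congr_hom (hm (strArrowMk₁ (SimplexCategory.const ⦋0⦌ ⦋m⦌ i))) x
    change ev (k := 0) ((XN N).map (SimplexCategory.const ⦋0⦌ ⦋m⦌ i).op (m' x)) 0 = vtx s x i
    exact congrArg (fun y => ev (k := 0) y 0) h1


noncomputable def isPRKE (N : ℕ) :
    (rightExtensionInclusion (XN.{u} N) 1).IsPointwiseRightKanExtension :=
  fun Δ => isPRKEAt (N := N) Δ.unop.len

theorem isCosk (N : ℕ) : SimplicialObject.IsCoskeletal (XN.{u} N) 1 where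
  isRightKanExtension :=
    RightExtension.IsPointwiseRightKanExtension.isRightKanExtension (isPRKE N)

end helpers

/-- The standard simplex `Δ[n]` is `1`-coskeletal, i.e. it is the right Kan extension of its
`1`-truncation. -/
theorem result (n : ℕ) : SimplicialObject.IsCoskeletal (SSet.stdSimplex.{u}.obj (SimplexCategory.mk n)) 1 := by
  exact Groth.Agent.S6784.isCosk n

end Groth.Agent.S6784
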