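import Groth.Statements.S6785
import Mathlib

set_option autoImplicit false
open CategoryTheory
universe u
open SSet

namespace Groth.Agent.S6785


section helpers

open Simplicial MonoidalCategory

variable {Z X Y : SSet.{u}}

/-- The subcomplex of `Z ⊗ Δ[1]` of pairs whose second component is constant. -/
def endsSub (Z : SSet.{u}) : (Z ⊗ Δ[1] : SSet.{u}).Subcomplex where
  obj x := {p | ∀ i, SSet.stdSimplex.asOrderHom p.2 i = SSet.stdSimplex.asOrderHom p.2 0}
  map {x y} θ := by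
    intro p hp i
    have e : ∀ j, SSet.stdSimplex.asOrderHom ((Z ⊗ Δ[1] : SSet.{u}).map θ p).2 j =
        SSet.stdSimplex.asOrderHom p.2 (θ.unop.toOrderHom j) := fun j => rfl
    exact ((e i).trans (hp _)).trans ((e 0).trans (hp _)).symm

/-- The map on the ends. -/
noncomputable def endsFun (a b : Z ⟶ X) (x : SimplexCategoryᵒᵖ)
    (p : (Z ⊗ Δ[1] : SSet.{u}).obj x) : X.obj x :=
  if SSet.stdSimplex.asOrderHom p.2 0 = 1 then b.app x p.1 else a.app x p.1

theorem endsFun_ι₀ (a b : Z ⟶ X) (x : SimplexCategoryᵒᵖ) (v : Z.obj x) :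
    endsFun a b x (SSet.ι₀.app x v) = a.app x v := by
  unfold endsFun
  have c : SSet.stdSimplex.asOrderHom (SSet.ι₀.app x v).2 0 = 0 := rfl
  rw [if_neg (by rw [c]; decide)]
  rfl

theorem endsFun_ι₁ (a b : Z ⟶ X) (x : SimplexCategoryᵒᵖ) (v : Z.obj x) :
    endsFun a b x (SSet.ι₁.app x v) = b.app x v := by
  unfold endsFun
  have c : SSet.stdSimplex.asOrderHom (SSet.ι₁.app x v).2 0 = 1 := rfl
  rw [if_pos c]
  rfl

theorem endsFun_natural (a b : Z ⟶ X) {x y : SimplexCategoryᵒᵖ} (θ : x ⟶ y)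
    (p : (Z ⊗ Δ[1] : SSet.{u}).obj x)
    (hp : ∀ i, SSet.stdSimplex.asOrderHom p.2 i = SSet.stdSimplex.asOrderHom p.2 0) :
    endsFun a b y ((Z ⊗ Δ[1] : SSet.{u}).map θ p) = X.map θ (endsFun a b x p) := by
  have e1 : ((Z ⊗ Δ[1] : SSet.{u}).map θ p).1 = Z.map θ p.1 := rfl
  have e2 : SSet.stdSimplex.asOrderHom ((Z ⊗ Δ[1] : SSet.{u}).map θ p).2 0 =
      SSet.stdSimplex.asOrderHom p.2 (θ.unop.toOrderHom 0) := rfl
  have n0 : ∀ e : Z ⟶ X, e.app y (Z.map θ p.1) = X.map θ (e.app x p.1) :=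
    fun e => NatTrans.naturality_apply e θ p.1
  unfold endsFun
  rw [e1, e2, hp]
  split_ifs
  · exact n0 b
  · exact n0 a

/-- The map from the ends. -/
noncomputable def endsMap (a b : Z ⟶ X) : ((endsSub Z).toSSet : SSet.{u}) ⟶ X where
  app x := TypeCat.ofHom (fun p => endsFun a b x p.1)
  naturality x y θ := by
    ext p
    exact endsFun_natural a b θ p.1 p.2

theorem homotopy_of_rlp (f : X ⟶ Y) (hf : (MorphismProperty.monomorphisms SSet.{u}).rlp f)
    (a b : Z ⟶ X) (hab : a ≫ f = b ≫ f) : Nonempty (SSet.Homotopy a b) := by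
  have sq : CommSq (endsMap a b) (endsSub Z).ι f
      (CartesianMonoidalCategory.fst Z Δ[1] ≫ a ≫ f) := ⟨by
    ext x p
    show f.app x (endsFun a b x p.1) = f.app x (a.app x p.1.1)
    unfold endsFun
    split_ifs
    · exact (congrArg (fun φ : Z ⟶ Y => φ.app x p.1.1) hab).symm
    · rfl⟩
  haveI hl : HasLiftingProperty (endsSub Z).ι f :=
    hf _ (MorphismProperty.monomorphisms.infer_property _)
  refine ⟨{ h := sq.lift, h₀ := ?_, h₁ := ?_, rel := ?_ }⟩
  · ext x v
    have hv : SSet.ι₀.app x v ∈ (endsSub Z).obj x := fun i => rfl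
    have h1 : sq.lift.app x (SSet.ι₀.app x v) = (endsMap a b).app x ⟨SSet.ι₀.app x v, hv⟩ :=
      congrArg (fun φ : ((endsSub Z).toSSet ⟶ X) => φ.app x ⟨SSet.ι₀.app x v, hv⟩) sq.fac_left
    show sq.lift.app x (SSet.ι₀.app x v) = a.app x v
    exact h1.trans (endsFun_ι₀ a b x v)
  · ext x v
    have hv : SSet.ι₁.app x v ∈ (endsSub Z).obj x := fun i => rfl
    have h1 : sq.lift.app x (SSet.ι₁.app x v) = (endsMap a b).app x ⟨SSet.ι₁.app x v, hv⟩ :=
      congrArg (fun φ : ((endsSub Z).toSSet ⟶ X) => φ.app x ⟨SSet.ι₁.app x v, hv⟩) sq.fac_left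
    show sq.lift.app x (SSet.ι₁.app x v) = b.app x v
    exact h1.trans (endsFun_ι₁ a b x v)
  · ext _ ⟨⟨_, ⟨⟩⟩, _⟩

end helpers

/-- A trivial Kan fibration `f : X ⟶ Y` of simplicial sets is a homotopy equivalence; more precisely it
has a section `g`, and `g ∘ f` is homotopic to the identity of `X` by a single homotopy in each
direction. (The published statement only asserts a homotopy equivalence; the section and the
one-step homotopies are what its proof constructs.) -/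
theorem result {X Y : SSet.{u}} (f : X ⟶ Y) (hf : SSet.modelCategoryQuillen.I.rlp f) : ∃ g : Y ⟶ X, g ≫ f = 𝟙 Y ∧ Nonempty (SSet.Homotopy (𝟙 X) (f ≫ g)) ∧ Nonempty (SSet.Homotopy (f ≫ g) (𝟙 X)) := by
  have hf' : (MorphismProperty.monomorphisms SSet.{u}).rlp f := by
    rw [SSet.rlp_monomorphisms]; exact hf
  have hI : Limits.IsInitial ((⊥ : Y.Subcomplex) : SSet.{u}) := SSet.Subcomplex.isInitialBot
  have sq0 : CommSq (hI.to X) (⊥ : Y.Subcomplex).ι f (𝟙 Y) :=
    ⟨hI.hom_ext _ _⟩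
  haveI : HasLiftingProperty (⊥ : Y.Subcomplex).ι f :=
    hf' _ (MorphismProperty.monomorphisms.infer_property _)
  have e1 : 𝟙 X ≫ f = (f ≫ sq0.lift) ≫ f := by
    rw [Category.assoc, sq0.fac_right, Category.comp_id, Category.id_comp]
  refine ⟨sq0.lift, sq0.fac_right, ?_, ?_⟩
  · exact homotopy_of_rlp f hf' (𝟙 X) (f ≫ sq0.lift) e1
  · exact homotopy_of_rlp f hf' (f ≫ sq0.lift) (𝟙 X) e1.symm

end Groth.Agent.S6785
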