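import Groth.Statements.S6786
import Mathlib

set_option autoImplicit false
open CategoryTheory CategoryTheory.Limits
universe u
open HomAlg3

namespace Groth.Agent.S6786

section helpers
open Opposite

noncomputable def tseq {G : ℕᵒᵖ ⥤ Type u}
    (hG : ∀ n, Function.Surjective (G.map (homOfLE (Nat.le_succ n)).op)) (n : ℕ)
    (a : G.obj (op n)) : (k : ℕ) → G.obj (op (n + k))
  | 0 => a
  | k + 1 => (hG (n + k) (tseq hG n a k)).choose

theorem tseq_succ {G : ℕᵒᵖ ⥤ Type u}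
    (hG : ∀ n, Function.Surjective (G.map (homOfLE (Nat.le_succ n)).op)) (n : ℕ)
    (a : G.obj (op n)) (k : ℕ) :
    G.map (homOfLE (Nat.le_succ (n + k))).op (tseq hG n a (k + 1)) = tseq hG n a k :=
  (hG (n + k) (tseq hG n a k)).choose_spec

theorem tseq_comp {G : ℕᵒᵖ ⥤ Type u}
    (hG : ∀ n, Function.Surjective (G.map (homOfLE (Nat.le_succ n)).op)) (n : ℕ)
    (a : G.obj (op n)) (k k' : ℕ) (h : k ≤ k') :
    G.map (homOfLE (Nat.add_le_add_left h n)).op (tseq hG n a k') = tseq hG n a k := by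
  induction h with
  | refl =>
    have : (homOfLE (Nat.add_le_add_left (le_refl k) n)).op = 𝟙 (op (n + k)) :=
      Subsingleton.elim _ _
    rw [this, FunctorToTypes.map_id_apply]
  | @step p h ih =>
    have e : (homOfLE (Nat.add_le_add_left (Nat.le.step h) n)).op =
        (homOfLE (Nat.le_succ (n + p))).op ≫ (homOfLE (Nat.add_le_add_left h n)).op :=
      Subsingleton.elim _ _
    rw [e, FunctorToTypes.map_comp_apply, tseq_succ, ih]

theorem exists_section {G : ℕᵒᵖ ⥤ Type u}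
    (hG : ∀ n, Function.Surjective (G.map (homOfLE (Nat.le_succ n)).op))
    (a : G.obj (op 0)) : ∃ s : (j : ℕᵒᵖ) → G.obj j, s ∈ G.sections := by
  let s : (j : ℕᵒᵖ) → G.obj j := fun j =>
    G.map (homOfLE (Nat.le_add_left j.unop 0)).op (tseq hG 0 a j.unop)
  refine ⟨s, ?_⟩
  intro j j' f
  have hle : j'.unop ≤ j.unop := leOfHom f.unop
  show G.map f (G.map (homOfLE (Nat.le_add_left j.unop 0)).op (tseq hG 0 a j.unop)) =
    G.map (homOfLE (Nat.le_add_left j'.unop 0)).op (tseq hG 0 a j'.unop)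
  rw [← tseq_comp hG 0 a j'.unop j.unop hle, ← FunctorToTypes.map_comp_apply,
    ← FunctorToTypes.map_comp_apply]
  exact congrArg (fun φ => G.map φ (tseq hG 0 a j.unop)) (Subsingleton.elim _ _)

theorem limMap_apply' {F G : ℕᵒᵖ ⥤ AddCommGrpCat.{u}} (α : F ⟶ G) (j : ℕᵒᵖ) (x : ↑(limit F)) :
    (limit.π G j).hom ((limMap α).hom x) = (α.app j).hom ((limit.π F j).hom x) :=
  ConcreteCategory.congr_hom (limMap_π α j) x

theorem nat_apply {F G : ℕᵒᵖ ⥤ AddCommGrpCat.{u}} (α : F ⟶ G) {j j' : ℕᵒᵖ} (f : j ⟶ j')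
    (x : ↑(F.obj j)) :
    (α.app j').hom ((F.map f).hom x) = (G.map f).hom ((α.app j).hom x) :=
  ConcreteCategory.congr_hom (α.naturality f) x

theorem map_comp_apply' (F : ℕᵒᵖ ⥤ AddCommGrpCat.{u}) {j j' j'' : ℕᵒᵖ} (f : j ⟶ j')
    (g : j' ⟶ j'') (x : ↑(F.obj j)) :
    (F.map (f ≫ g)).hom x = (F.map g).hom ((F.map f).hom x) := by
  rw [F.map_comp]; rfl

def Esub {B C : ℕᵒᵖ ⥤ AddCommGrpCat.{u}} (b : B ⟶ C) (zz : ∀ j, ↑(C.obj j))
    (hzz : ∀ {j j' : ℕᵒᵖ} (f : j ⟶ j'), (C.map f).hom (zz j) = zz j') :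
    Subfunctor (B ⋙ forget AddCommGrpCat) where
  obj j := {y : ↑(B.obj j) | (b.app j).hom y = zz j}
  map {j j'} f := by
    intro y hy
    show (b.app j').hom ((B.map f).hom y) = zz j'
    rw [nat_apply, show (b.app j).hom y = zz j from hy, hzz f]

theorem E_ML {A B C : ℕᵒᵖ ⥤ AddCommGrpCat.{u}} (a : A ⟶ B) (b : B ⟶ C)
    (hB : ∀ i, (b.app i).hom.ker = (a.app i).hom.range)
    (hA : (A ⋙ forget AddCommGrpCat).IsMittagLeffler)
    (zz : ∀ j, ↑(C.obj j)) (hzz : ∀ {j j' : ℕᵒᵖ} (f : j ⟶ j'), (C.map f).hom (zz j) = zz j')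
    (hne : ∀ j, ∃ y : ↑(B.obj j), (b.app j).hom y = zz j) :
    (Esub b zz hzz).toFunctor.IsMittagLeffler := by
  intro j
  obtain ⟨i, f, hf⟩ := hA j
  refine ⟨i, f, ?_⟩
  intro k g
  rintro _ ⟨⟨ei, hei⟩, rfl⟩
  have hei' : (b.app i).hom ei = zz i := hei
  let l : ℕᵒᵖ := op (max k.unop i.unop)
  let u : l ⟶ k := (homOfLE (le_max_left k.unop i.unop)).op
  let v : l ⟶ i := (homOfLE (le_max_right k.unop i.unop)).op
  have huv : u ≫ g = v ≫ f := Subsingleton.elim _ _
  obtain ⟨el, hel⟩ := hne l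
  have hd : ei - (B.map v).hom el ∈ (b.app i).hom.ker := by
    rw [AddMonoidHom.mem_ker, map_sub, nat_apply, hel, hzz v, hei', sub_self]
  rw [hB i] at hd
  obtain ⟨α, hα⟩ := hd
  have hα' : ((A ⋙ forget AddCommGrpCat).map f) α ∈
      Set.range ((A ⋙ forget AddCommGrpCat).map (v ≫ f)) := hf (v ≫ f) ⟨α, rfl⟩
  obtain ⟨α', hα'⟩ := hα'
  have hα'' : (A.map (v ≫ f)).hom α' = (A.map f).hom α := hα'
  have he' : (b.app l).hom (el + (a.app l).hom α') = zz l := by
    have h0 : (a.app l).hom α' ∈ (b.app l).hom.ker := by rw [hB l]; exact ⟨α', rfl⟩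
    rw [map_add, hel, AddMonoidHom.mem_ker.mp h0, add_zero]
  refine ⟨(Esub b zz hzz).toFunctor.map u ⟨el + (a.app l).hom α', he'⟩, ?_⟩
  apply Subtype.ext
  show (B.map g).hom ((B.map u).hom (el + (a.app l).hom α')) = (B.map f).hom ei
  rw [← map_comp_apply', huv, map_add, ← nat_apply a (v ≫ f) α', hα'', nat_apply a f α, hα,
    map_comp_apply', ← map_add]
  congr 1
  abel

end helpers

/-- For a sequence `(A_i) ⟶ (B_i) ⟶ (C_i) ⟶ (D_i)` of inverse systems of abelian groups over `ℕ` that is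
exact levelwise at the two middle places, if `(A_i)` is Mittag-Leffler then `lim B_i ⟶ lim C_i ⟶ lim
D_i` is exact. -/
theorem result {A B C D : ℕᵒᵖ ⥤ AddCommGrpCat.{u}} (a : A ⟶ B) (b : B ⟶ C) (c : C ⟶ D) (hB : ∀ i, (b.app i).hom.ker = (a.app i).hom.range) (hC : ∀ i, (c.app i).hom.ker = (b.app i).hom.range) (hA : (A ⋙ forget AddCommGrpCat).IsMittagLeffler) : (limMap c).hom.ker = (limMap b).hom.range := by
  apply le_antisymm
  · intro z hz
    rw [AddMonoidHom.mem_ker] at hz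
    let zz : ∀ j, ↑(C.obj j) := fun j => (limit.π C j).hom z
    have hzz : ∀ {j j' : ℕᵒᵖ} (f : j ⟶ j'), (C.map f).hom (zz j) = zz j' := by
      intro j j' f
      exact ConcreteCategory.congr_hom (limit.w C f) z
    have hcz : ∀ j, (c.app j).hom (zz j) = 0 := by
      intro j
      show (c.app j).hom ((limit.π C j).hom z) = 0
      rw [← limMap_apply' c j z, hz, map_zero]
    have hne : ∀ j, ∃ y : ↑(B.obj j), (b.app j).hom y = zz j := by
      intro j
      have : zz j ∈ (c.app j).hom.ker := AddMonoidHom.mem_ker.mpr (hcz j)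
      rw [hC j] at this
      exact this
    have hML := E_ML a b hB hA zz hzz hne
    let E := (Esub b zz hzz).toFunctor
    haveI : ∀ j, Nonempty (E.obj j) := fun j => by
      obtain ⟨y, hy⟩ := hne j
      exact ⟨⟨y, hy⟩⟩
    obtain ⟨e0⟩ := E.toEventualRanges_nonempty hML (Opposite.op 0)
    obtain ⟨s, hs⟩ := exists_section (G := E.toEventualRanges)
      (fun n => E.surjective_toEventualRanges hML _) e0
    let t := E.toEventualRangesSectionsEquiv ⟨s, hs⟩
    have hy : (fun j => ((t.1 j).1 : (B ⋙ forget AddCommGrpCat).obj j)) ∈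
        (B ⋙ forget AddCommGrpCat).sections := by
      intro j j' f
      exact congrArg Subtype.val (t.2 f)
    let hlimB := isLimitOfPreserves (forget AddCommGrpCat) (limit.isLimit B)
    let y : ↑(limit B) := (Types.isLimitEquivSections hlimB).symm ⟨_, hy⟩
    have hyπ : ∀ j, (limit.π B j).hom y = (t.1 j).1 := fun j =>
      Types.isLimitEquivSections_symm_apply hlimB ⟨_, hy⟩ j
    refine ⟨y, ?_⟩
    refine Concrete.limit_ext _ _ _ (fun j => ?_)
    show (limit.π C j).hom ((limMap b).hom y) = (limit.π C j).hom z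
    rw [limMap_apply', hyπ]
    exact (t.1 j).2
  · rintro _ ⟨y, rfl⟩
    rw [AddMonoidHom.mem_ker]
    refine Concrete.limit_ext _ _ _ (fun j => ?_)
    show (limit.π D j).hom ((limMap c).hom ((limMap b).hom y)) = (limit.π D j).hom 0
    rw [limMap_apply', limMap_apply', map_zero]
    have : (b.app j).hom ((limit.π B j).hom y) ∈ (c.app j).hom.ker := by
      rw [hC j]; exact ⟨_, rfl⟩
    exact AddMonoidHom.mem_ker.mp this

end Groth.Agent.S6786
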