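import Groth.Statements.S6787
import Mathlib

set_option autoImplicit false
open CategoryTheory CategoryTheory.Limits
universe u
open HomAlg3

namespace Groth.Agent.S6787

section helpers
open Opposite

theorem nat_apply {F G : ℕᵒᵖ ⥤ AddCommGrpCat.{u}} (α : F ⟶ G) {j j' : ℕᵒᵖ} (f : j ⟶ j')
    (x : ↑(F.obj j)) :
    (α.app j').hom ((F.map f).hom x) = (G.map f).hom ((α.app j).hom x) :=
  ConcreteCategory.congr_hom (α.naturality f) x

theorem map_comp_apply' (F : ℕᵒᵖ ⥤ AddCommGrpCat.{u}) {j j' j'' : ℕᵒᵖ} (f : j ⟶ j')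
    (g : j' ⟶ j'') (x : ↑(F.obj j)) :
    (F.map (f ≫ g)).hom x = (F.map g).hom ((F.map f).hom x) := by
  rw [F.map_comp]; rfl

theorem ml_A_of_B {A B C : ℕᵒᵖ ⥤ AddCommGrpCat.{u}} (a : A ⟶ B) (b : B ⟶ C)
    (ha : ∀ i, Function.Injective (a.app i).hom)
    (hex : ∀ i, (b.app i).hom.ker = (a.app i).hom.range)
    (C₀ : AddCommGrpCat.{u}) (c : (Functor.const ℕᵒᵖ).obj C₀ ⟶ C)
    (hC : DerCA.IsEssConstant C C₀ c)
    (hBML : (B ⋙ forget AddCommGrpCat).IsMittagLeffler) :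
    (A ⋙ forget AddCommGrpCat).IsMittagLeffler := by
  obtain ⟨i, s, hs, hk⟩ := hC
  intro j
  obtain ⟨i1, f1, hf1⟩ := hBML (op (max j.unop i))
  let p : op (max j.unop i) ⟶ j := (homOfLE (le_max_left j.unop i)).op
  refine ⟨i1, f1 ≫ p, ?_⟩
  intro k g
  rintro _ ⟨x, rfl⟩
  obtain ⟨m', hi, hm, htr⟩ := hk k.unop
  have hjm : j.unop ≤ k.unop := leOfHom g.unop
  have hj'm' : max j.unop i ≤ m' := max_le (hjm.trans hm) hi
  let q : op m' ⟶ op (max j.unop i) := (homOfLE hj'm').op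
  let r : op m' ⟶ k := (homOfLE hm).op
  have hrq : r ≫ g = q ≫ p := Subsingleton.elim _ _
  have hmem : ((B ⋙ forget AddCommGrpCat).map f1) ((a.app i1).hom x) ∈
      Set.range ((B ⋙ forget AddCommGrpCat).map q) := hf1 q ⟨_, rfl⟩
  obtain ⟨β, hβ'⟩ := hmem
  have hβ : (B.map q).hom β = (B.map f1).hom ((a.app i1).hom x) := hβ'
  have h0 : (C.map q).hom ((b.app (op m')).hom β) = 0 := by
    rw [← nat_apply b q β, hβ, ← nat_apply a f1 x]
    have : (a.app (op (max j.unop i))).hom ((A.map f1).hom x) ∈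
        (b.app (op (max j.unop i))).hom.ker := by rw [hex]; exact ⟨_, rfl⟩
    exact AddMonoidHom.mem_ker.mp this
  have h1 : (ARSys.tr C hi).hom ((b.app (op m')).hom β) = 0 := by
    have e : (homOfLE hi).op = q ≫ (homOfLE (le_max_right j.unop i)).op := Subsingleton.elim _ _
    show (C.map (homOfLE hi).op).hom _ = 0
    rw [e, map_comp_apply', h0, map_zero]
  have h2 : (C.map r).hom ((b.app (op m')).hom β) = 0 := by
    have e2 : (C.map r).hom ((b.app (op m')).hom β) =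
        (c.app (op k.unop)).hom (s.hom ((ARSys.tr C hi).hom ((b.app (op m')).hom β))) :=
      congrArg (fun φ : C.obj (op m') ⟶ C.obj (op k.unop) => φ.hom ((b.app (op m')).hom β)) htr
    rw [e2, h1, map_zero, map_zero]
  have h3 : (B.map r).hom β ∈ (b.app k).hom.ker := by
    rw [AddMonoidHom.mem_ker, nat_apply b r β, h2]
  rw [hex k] at h3
  obtain ⟨α, hα⟩ := h3
  refine ⟨α, ?_⟩
  apply ha j
  show (a.app j).hom ((A.map g).hom α) = (a.app j).hom ((A.map (f1 ≫ p)).hom x)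
  calc (a.app j).hom ((A.map g).hom α) = (B.map g).hom ((a.app k).hom α) := nat_apply a g α
    _ = (B.map g).hom ((B.map r).hom β) := by rw [hα]
    _ = (B.map (r ≫ g)).hom β := (map_comp_apply' B r g β).symm
    _ = (B.map (q ≫ p)).hom β := by rw [hrq]
    _ = (B.map p).hom ((B.map q).hom β) := map_comp_apply' B q p β
    _ = (B.map p).hom ((B.map f1).hom ((a.app i1).hom x)) := by rw [hβ]
    _ = (B.map (f1 ≫ p)).hom ((a.app i1).hom x) := (map_comp_apply' B f1 p _).symm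
    _ = (a.app j).hom ((A.map (f1 ≫ p)).hom x) := (nat_apply a (f1 ≫ p) x).symm

theorem ml_B_of_A {A B C : ℕᵒᵖ ⥤ AddCommGrpCat.{u}} (a : A ⟶ B) (b : B ⟶ C)
    (hb : ∀ i, Function.Surjective (b.app i).hom)
    (hex : ∀ i, (b.app i).hom.ker = (a.app i).hom.range)
    (C₀ : AddCommGrpCat.{u}) (c : (Functor.const ℕᵒᵖ).obj C₀ ⟶ C)
    (hC : DerCA.IsEssConstant C C₀ c)
    (hAML : (A ⋙ forget AddCommGrpCat).IsMittagLeffler) :
    (B ⋙ forget AddCommGrpCat).IsMittagLeffler := by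
  obtain ⟨i, s, hs, hk⟩ := hC
  intro j
  obtain ⟨i1, f1, hf1⟩ := hAML j
  obtain ⟨k1, hi, hn1, htr⟩ := hk i1.unop
  let w : op k1 ⟶ i1 := (homOfLE hn1).op
  refine ⟨op k1, w ≫ f1, ?_⟩
  intro k g
  rintro _ ⟨x, rfl⟩
  let rk : op (max k.unop k1) ⟶ k := (homOfLE (le_max_left k.unop k1)).op
  let r1 : op (max k.unop k1) ⟶ op k1 := (homOfLE (le_max_right k.unop k1)).op
  have hcomm : rk ≫ g = r1 ≫ w ≫ f1 := Subsingleton.elim _ _
  let ζ : ↑C₀ := s.hom ((ARSys.tr C hi).hom ((b.app (op k1)).hom x))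
  have hζ : (C.map w).hom ((b.app (op k1)).hom x) = (c.app i1).hom ζ :=
    congrArg (fun φ : C.obj (op k1) ⟶ C.obj (op i1.unop) => φ.hom ((b.app (op k1)).hom x)) htr
  obtain ⟨β, hβ⟩ := hb (op (max k.unop k1)) ((c.app (op (max k.unop k1))).hom ζ)
  have hc : (C.map (r1 ≫ w)).hom ((c.app (op (max k.unop k1))).hom ζ) = (c.app i1).hom ζ := by
    have := ConcreteCategory.congr_hom (c.naturality (r1 ≫ w)) ζ
    exact this.symm
  have hker : (B.map w).hom x - (B.map (r1 ≫ w)).hom β ∈ (b.app i1).hom.ker := by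
    rw [AddMonoidHom.mem_ker, map_sub, nat_apply b w x, nat_apply b (r1 ≫ w) β, hβ, hζ, hc,
      sub_self]
  rw [hex i1] at hker
  obtain ⟨α, hα⟩ := hker
  have hmem : ((A ⋙ forget AddCommGrpCat).map f1) α ∈
      Set.range ((A ⋙ forget AddCommGrpCat).map (r1 ≫ w ≫ f1)) := hf1 (r1 ≫ w ≫ f1) ⟨α, rfl⟩
  obtain ⟨α', hα''⟩ := hmem
  have hα' : (A.map (r1 ≫ w ≫ f1)).hom α' = (A.map f1).hom α := hα''
  refine ⟨(B.map rk).hom (β + (a.app (op (max k.unop k1))).hom α'), ?_⟩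
  show (B.map g).hom ((B.map rk).hom (β + (a.app (op (max k.unop k1))).hom α')) =
    (B.map (w ≫ f1)).hom x
  calc (B.map g).hom ((B.map rk).hom (β + (a.app (op (max k.unop k1))).hom α'))
      = (B.map (rk ≫ g)).hom (β + (a.app (op (max k.unop k1))).hom α') :=
        (map_comp_apply' B rk g _).symm
    _ = (B.map (r1 ≫ w ≫ f1)).hom (β + (a.app (op (max k.unop k1))).hom α') := by rw [hcomm]
    _ = (B.map (r1 ≫ w ≫ f1)).hom β +
          (B.map (r1 ≫ w ≫ f1)).hom ((a.app (op (max k.unop k1))).hom α') := map_add _ _ _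
    _ = (B.map (r1 ≫ w ≫ f1)).hom β + (a.app j).hom ((A.map (r1 ≫ w ≫ f1)).hom α') := by
        rw [← nat_apply a (r1 ≫ w ≫ f1) α']
    _ = (B.map (r1 ≫ w ≫ f1)).hom β + (a.app j).hom ((A.map f1).hom α) := by rw [hα']
    _ = (B.map (r1 ≫ w ≫ f1)).hom β + (B.map f1).hom ((a.app i1).hom α) := by
        rw [nat_apply a f1 α]
    _ = (B.map f1).hom ((B.map (r1 ≫ w)).hom β) +
          (B.map f1).hom ((B.map w).hom x - (B.map (r1 ≫ w)).hom β) := by
        rw [hα, ← map_comp_apply' B (r1 ≫ w) f1 β, Category.assoc]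
    _ = (B.map f1).hom ((B.map w).hom x) := by
        rw [← map_add]; congr 1; abel
    _ = (B.map (w ≫ f1)).hom x := (map_comp_apply' B w f1 x).symm

end helpers

/-- Take inverse systems `(A_i)`, `(B_i)`, `(C_i)` of abelian groups over `ℕ`, with morphisms of systems
`(A_i) ⟶ (B_i) ⟶ (C_i)` that give a short exact sequence at every index, and suppose `(C_i)` is
essentially constant. Then `(A_i)` is Mittag-Leffler if and only if `(B_i)` is. -/
theorem result {A B C : ℕᵒᵖ ⥤ AddCommGrpCat.{u}} (a : A ⟶ B) (b : B ⟶ C) (ha : ∀ i, Function.Injective (a.app i).hom) (hb : ∀ i, Function.Surjective (b.app i).hom) (hex : ∀ i, (b.app i).hom.ker = (a.app i).hom.range) (hC : ∃ (C₀ : AddCommGrpCat.{u}) (c : (Functor.const ℕᵒᵖ).obj C₀ ⟶ C), DerCA.IsEssConstant C C₀ c) : (A ⋙ forget AddCommGrpCat).IsMittagLeffler ↔ (B ⋙ forget AddCommGrpCat).IsMittagLeffler := by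
  obtain ⟨C₀, c, hC⟩ := hC
  exact ⟨fun hA => ml_B_of_A a b hb hex C₀ c hC hA, fun hB => ml_A_of_B a b ha hex C₀ c hC hB⟩

end Groth.Agent.S6787
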