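import Groth.Statements.S6788
import Mathlib

set_option autoImplicit false
open CategoryTheory CategoryTheory.Limits
universe v u v' u'
open CategoryTheory CategoryTheory.Localization

namespace Groth.Agent.S6788

/-- For a multiplicative system `W` (left and right calculus of fractions) in a preadditive category
with a zero object and its localization functor `L`, an object `X` becomes zero in the localization
iff some zero map out of `X` lies in `W`, iff some zero map into `X` lies in `W`. (The published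
statement assumes the category additive; only the zero object and the preadditive structure are
used.) -/
theorem result {C : Type u} [Category.{v} C] [Preadditive C] [HasZeroObject C] {D : Type u'} [Category.{v'} D] (L : C ⥤ D) (W : MorphismProperty C) [W.HasLeftCalculusOfFractions] [W.HasRightCalculusOfFractions] [L.IsLocalization W] (X : C) : (IsZero (L.obj X) ↔ ∃ Y : C, W (0 : X ⟶ Y)) ∧ (IsZero (L.obj X) ↔ ∃ Z : C, W (0 : Z ⟶ X)) := by
  letI : Preadditive D := Localization.preadditive L W
  haveI : L.Additive := Localization.functor_additive L W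
  have hzero_of_W_out : ∀ Y : C, W (0 : X ⟶ Y) → IsZero (L.obj X) := by
    intro Y hW
    haveI : IsIso (L.map (0 : X ⟶ Y)) := Localization.inverts L W _ hW
    rw [IsZero.iff_id_eq_zero]
    have h1 : L.map (0 : X ⟶ Y) ≫ inv (L.map (0 : X ⟶ Y)) = 𝟙 _ := IsIso.hom_inv_id _
    have h2 : L.map (0 : X ⟶ Y) = 0 := L.map_zero _ _
    rw [← h1]
    conv_lhs => arg 1; rw [h2]
    rw [zero_comp]
  have hzero_of_W_in : ∀ Z : C, W (0 : Z ⟶ X) → IsZero (L.obj X) := by
    intro Z hW
    haveI : IsIso (L.map (0 : Z ⟶ X)) := Localization.inverts L W _ hW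
    rw [IsZero.iff_id_eq_zero]
    have h1 : inv (L.map (0 : Z ⟶ X)) ≫ L.map (0 : Z ⟶ X) = 𝟙 _ := IsIso.inv_hom_id _
    have h2 : L.map (0 : Z ⟶ X) = 0 := L.map_zero _ _
    rw [← h1]
    conv_lhs => arg 2; rw [h2]
    rw [comp_zero]
  refine ⟨⟨fun h => ?_, fun ⟨Y, hY⟩ => hzero_of_W_out Y hY⟩,
    ⟨fun h => ?_, fun ⟨Z, hZ⟩ => hzero_of_W_in Z hZ⟩⟩
  · have h1 : L.map (𝟙 X) = L.map (0 : X ⟶ X) := h.eq_of_src _ _
    obtain ⟨Z, s, hs, hs'⟩ := (MorphismProperty.map_eq_iff_postcomp L W (𝟙 X) 0).mp h1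
    rw [Category.id_comp, zero_comp] at hs'
    exact ⟨Z, hs' ▸ hs⟩
  · have h1 : L.map (𝟙 X) = L.map (0 : X ⟶ X) := h.eq_of_src _ _
    obtain ⟨Z, s, hs, hs'⟩ := (MorphismProperty.map_eq_iff_precomp L W (𝟙 X) 0).mp h1
    rw [Category.comp_id, comp_zero] at hs'
    exact ⟨Z, hs' ▸ hs⟩

end Groth.Agent.S6788
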