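import Groth.Statements.S6789
import Mathlib

set_option autoImplicit false
open CategoryTheory CategoryTheory.Limits
universe v u
open CategoryTheory CategoryTheory.SimplicialObject

namespace Groth.Agent.S6789


section helpers

open Limits Opposite Simplicial

theorem valS {n : ℕ} (j : Fin (n + 2)) (k : Fin (n + 1)) :
    (Fin.succAbove j k).val = if k.val < j.val then k.val else k.val + 1 := by
  unfold Fin.succAbove
  by_cases h : k.castSucc < j
  · rw [if_pos h]
    have h' : k.val < j.val := h
    rw [if_pos h']; rfl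
  · rw [if_neg h]
    have h' : ¬ k.val < j.val := h
    rw [if_neg h']; rfl

theorem valP {n : ℕ} (i : Fin (n + 1)) (k : Fin (n + 2)) :
    (Fin.predAbove i k).val = if i.val < k.val then k.val - 1 else k.val := by
  unfold Fin.predAbove
  by_cases h : i.castSucc < k
  · rw [dif_pos h]
    have h' : i.val < k.val := h
    rw [if_pos h']; rfl
  · rw [dif_neg h]
    have h' : ¬ i.val < k.val := h
    rw [if_neg h']; rfl

theorem flag_iff {n : ℕ} (i : Fin (n + 1)) (k : Fin (n + 2)) :
    i.castSucc < k ↔ i.val < k.val := Iff.rfl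

theorem flag_iff' {n : ℕ} (i : Fin (n + 1)) (k : Fin (n + 2)) :
    k ≤ i.castSucc ↔ k.val ≤ i.val := Iff.rfl

theorem δ_apply {n : ℕ} (j : Fin (n + 2)) (k : Fin (n + 1)) :
    (SimplexCategory.δ j).toOrderHom k = Fin.succAbove j k := rfl

theorem σ_apply {n : ℕ} (j : Fin (n + 1)) (k : Fin (n + 2)) :
    (SimplexCategory.σ j).toOrderHom k = Fin.predAbove j k := rfl

macro "fin_bash" : tactic => `(tactic|
  (simp only [Function.comp_apply, δ_apply, σ_apply, Fin.ext_iff, flag_iff, flag_iff', valP, valS,
      Fin.val_succ, Fin.val_castSucc, Fin.val_zero, Fin.val_last, or_false, false_or, iff_true,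
      iff_false, or_true, true_or, not_lt, not_le] <;>
    (try split_ifs) <;> (try omega)))

variable {C : Type u} [Category.{v} C] (F : Arrow C) (e : F.left ⟶ F.left)
  (he : e ≫ F.hom = F.hom)
  [∀ n : ℕ, HasWidePullback F.right (fun _ : Fin (n + 1) => F.left) (fun _ => F.hom)]

open scoped Classical in
/-- the operator attached to an index map and a flag -/
noncomputable def T {n m : ℕ} (θ : Fin (m + 1) → Fin (n + 1)) (ε : Fin (m + 1) → Prop) :
    F.cechNerve.obj (op ⦋n⦌) ⟶ F.cechNerve.obj (op ⦋m⦌) :=
  WidePullback.lift (objs := fun _ : Fin (m + 1) => F.left) (arrows := fun _ => F.hom)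
    (WidePullback.base (fun _ : Fin (n + 1) => F.hom))
    (fun k => WidePullback.π (fun _ : Fin (n + 1) => F.hom) (θ k) ≫ (if ε k then e else 𝟙 _))
    (fun k => by
      split_ifs
      · rw [Category.assoc, he]; exact WidePullback.π_arrow _ _
      · rw [Category.comp_id]; exact WidePullback.π_arrow _ _)

open scoped Classical in
theorem T_π {n m : ℕ} (θ : Fin (m + 1) → Fin (n + 1)) (ε : Fin (m + 1) → Prop) (k : Fin (m + 1)) :
    T F e he θ ε ≫ WidePullback.π (fun _ : Fin (m + 1) => F.hom) k =
      WidePullback.π (fun _ : Fin (n + 1) => F.hom) (θ k) ≫ (if ε k then e else 𝟙 _) :=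
  WidePullback.lift_π _ _ _ _ k

theorem T_base {n m : ℕ} (θ : Fin (m + 1) → Fin (n + 1)) (ε : Fin (m + 1) → Prop) :
    T F e he θ ε ≫ WidePullback.base (fun _ : Fin (m + 1) => F.hom) =
      WidePullback.base (fun _ : Fin (n + 1) => F.hom) :=
  WidePullback.lift_base _ _ _ _

theorem T_congr {n m : ℕ} {θ θ' : Fin (m + 1) → Fin (n + 1)} {ε ε' : Fin (m + 1) → Prop}
    (hθ : ∀ k, θ k = θ' k) (hε : ∀ k, ε k ↔ ε' k) : T F e he θ ε = T F e he θ' ε' := by
  obtain rfl : θ = θ' := funext hθ
  obtain rfl : ε = ε' := funext (fun k => propext (hε k))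
  rfl

variable (hee : e ≫ e = e)
include hee

theorem T_comp {n m l : ℕ} (θ : Fin (m + 1) → Fin (n + 1)) (ε : Fin (m + 1) → Prop)
    (θ' : Fin (l + 1) → Fin (m + 1)) (ε' : Fin (l + 1) → Prop) :
    T F e he θ ε ≫ T F e he θ' ε' = T F e he (θ ∘ θ') (fun k => ε (θ' k) ∨ ε' k) := by
  classical
  apply WidePullback.hom_ext
  · intro k
    rw [Category.assoc, T_π, T_π, ← Category.assoc, T_π, Category.assoc]
    by_cases h1 : ε (θ' k) <;> by_cases h2 : ε' k <;> simp [h1, h2, hee]
  · rw [Category.assoc, T_base, T_base, T_base]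

omit hee

theorem map_eq {n m : ℕ} (g : ⦋m⦌ ⟶ ⦋n⦌) :
    F.cechNerve.map g.op = T F e he (fun k => g.toOrderHom k) (fun _ => False) := by
  classical
  apply WidePullback.hom_ext
  · intro k
    have h1 : F.cechNerve.map g.op ≫ WidePullback.π (fun _ : Fin (m + 1) => F.hom) k =
        WidePullback.π (fun _ : Fin (n + 1) => F.hom) (g.toOrderHom k) :=
      WidePullback.lift_π _ _ _ _ k
    rw [h1, T_π, if_neg not_false, Category.comp_id]
  · have h1 : F.cechNerve.map g.op ≫ WidePullback.base (fun _ : Fin (m + 1) => F.hom) =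
        WidePullback.base (fun _ : Fin (n + 1) => F.hom) :=
      WidePullback.lift_base _ _ _ _
    rw [h1, T_base]

theorem mapφ_eq (φ : F ⟶ F) (hφl : φ.left = e) (hφr : φ.right = 𝟙 _) (n : ℕ) :
    (Arrow.mapCechNerve φ).app (op ⦋n⦌) = T F e he (fun k => k) (fun _ => True) := by
  classical
  apply WidePullback.hom_ext
  · intro k
    have h1 : (Arrow.mapCechNerve φ).app (op ⦋n⦌) ≫
        WidePullback.π (fun _ : Fin (n + 1) => F.hom) k =
        WidePullback.π (fun _ : Fin (n + 1) => F.hom) k ≫ φ.left :=
      WidePullback.lift_π _ _ _ _ k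
    rw [h1, T_π, if_pos trivial, hφl]
  · have h1 : (Arrow.mapCechNerve φ).app (op ⦋n⦌) ≫
        WidePullback.base (fun _ : Fin (n + 1) => F.hom) =
        WidePullback.base (fun _ : Fin (n + 1) => F.hom) ≫ φ.right :=
      WidePullback.lift_base _ _ _ _
    rw [h1, T_base, hφr, Category.comp_id]

theorem id_eq (n : ℕ) :
    (𝟙 F.cechNerve : F.cechNerve ⟶ F.cechNerve).app (op ⦋n⦌) =
      T F e he (fun k => k) (fun _ => False) := by
  classical
  rw [NatTrans.id_app]
  apply WidePullback.hom_ext
  · intro k
    rw [Category.id_comp, T_π, if_neg not_false, Category.comp_id]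
  · rw [Category.id_comp, T_base]

include hee

/-- the homotopy from the identity -/
noncomputable def hom1 (φ : F ⟶ F) (hφl : φ.left = e) (hφr : φ.right = 𝟙 _) :
    SimplicialObject.Homotopy (𝟙 F.cechNerve) (Arrow.mapCechNerve φ) where
  h {n} i := T F e he (Fin.predAbove i) (fun k => Fin.castSucc i < k)
  h_zero_comp_δ_zero n := by
    dsimp only [SimplicialObject.δ]
    rw [mapφ_eq F e he φ hφl hφr n, map_eq F e he, T_comp F e he hee]
    apply T_congr <;> intro k <;> fin_bash
  h_last_comp_δ_last n := by
    dsimp only [SimplicialObject.δ]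
    rw [id_eq F e he n, map_eq F e he, T_comp F e he hee]
    apply T_congr <;> intro k <;> (have hk : k.val < n + 1 := k.isLt) <;> fin_bash
  h_succ_comp_δ_castSucc_of_lt {n} i j hij := by
    have hij' : i.val ≤ j.val := hij
    dsimp only [SimplicialObject.δ]
    rw [map_eq F e he (SimplexCategory.δ i.castSucc), map_eq F e he (SimplexCategory.δ i),
      T_comp F e he hee, T_comp F e he hee]
    apply T_congr <;> intro k <;> fin_bash
  h_succ_comp_δ_castSucc_succ {n} j := by
    dsimp only [SimplicialObject.δ]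
    rw [map_eq F e he, T_comp F e he hee, T_comp F e he hee]
    apply T_congr <;> intro k <;> fin_bash
  h_castSucc_comp_δ_succ_of_lt {n} i j hji := by
    have hji' : j.val < i.val := hji
    dsimp only [SimplicialObject.δ]
    rw [map_eq F e he (SimplexCategory.δ i.succ), map_eq F e he (SimplexCategory.δ i),
      T_comp F e he hee, T_comp F e he hee]
    apply T_congr <;> intro k <;> fin_bash
  h_comp_σ_castSucc_of_le {n} i j hij := by
    have hij' : i.val ≤ j.val := hij
    dsimp only [SimplicialObject.σ]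
    rw [map_eq F e he (SimplexCategory.σ i.castSucc), map_eq F e he (SimplexCategory.σ i),
      T_comp F e he hee, T_comp F e he hee]
    apply T_congr <;> intro k <;> fin_bash
  h_comp_σ_succ_of_lt {n} i j hji := by
    have hji' : j.val ≤ i.val := hji
    dsimp only [SimplicialObject.σ]
    rw [map_eq F e he (SimplexCategory.σ i.succ), map_eq F e he (SimplexCategory.σ i),
      T_comp F e he hee, T_comp F e he hee]
    apply T_congr <;> intro k <;> fin_bash

/-- the homotopy to the identity -/
noncomputable def hom2 (φ : F ⟶ F) (hφl : φ.left = e) (hφr : φ.right = 𝟙 _) :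
    SimplicialObject.Homotopy (Arrow.mapCechNerve φ) (𝟙 F.cechNerve) where
  h {n} i := T F e he (Fin.predAbove i) (fun k => k ≤ Fin.castSucc i)
  h_zero_comp_δ_zero n := by
    dsimp only [SimplicialObject.δ]
    rw [id_eq F e he n, map_eq F e he, T_comp F e he hee]
    apply T_congr <;> intro k <;> fin_bash
  h_last_comp_δ_last n := by
    dsimp only [SimplicialObject.δ]
    rw [mapφ_eq F e he φ hφl hφr n, map_eq F e he, T_comp F e he hee]
    apply T_congr <;> intro k <;> (have hk : k.val < n + 1 := k.isLt) <;> fin_bash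
  h_succ_comp_δ_castSucc_of_lt {n} i j hij := by
    have hij' : i.val ≤ j.val := hij
    dsimp only [SimplicialObject.δ]
    rw [map_eq F e he (SimplexCategory.δ i.castSucc), map_eq F e he (SimplexCategory.δ i),
      T_comp F e he hee, T_comp F e he hee]
    apply T_congr <;> intro k <;> fin_bash
  h_succ_comp_δ_castSucc_succ {n} j := by
    dsimp only [SimplicialObject.δ]
    rw [map_eq F e he, T_comp F e he hee, T_comp F e he hee]
    apply T_congr <;> intro k <;> fin_bash
  h_castSucc_comp_δ_succ_of_lt {n} i j hji := by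
    have hji' : j.val < i.val := hji
    dsimp only [SimplicialObject.δ]
    rw [map_eq F e he (SimplexCategory.δ i.succ), map_eq F e he (SimplexCategory.δ i),
      T_comp F e he hee, T_comp F e he hee]
    apply T_congr <;> intro k <;> fin_bash
  h_comp_σ_castSucc_of_le {n} i j hij := by
    have hij' : i.val ≤ j.val := hij
    dsimp only [SimplicialObject.σ]
    rw [map_eq F e he (SimplexCategory.σ i.castSucc), map_eq F e he (SimplexCategory.σ i),
      T_comp F e he hee, T_comp F e he hee]
    apply T_congr <;> intro k <;> fin_bash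
  h_comp_σ_succ_of_lt {n} i j hji := by
    have hji' : j.val ≤ i.val := hji
    dsimp only [SimplicialObject.σ]
    rw [map_eq F e he (SimplexCategory.σ i.succ), map_eq F e he (SimplexCategory.σ i),
      T_comp F e he hee, T_comp F e he hee]
    apply T_congr <;> intro k <;> fin_bash

end helpers

/-- For a morphism `f : Y ⟶ X` with a section `s`, the endomorphism of the Čech nerve of `f` (the
simplicial object of iterated fibre products of `Y` over `X`) that applies `s ∘ f` factorwise admits
simplicial homotopies to and from the identity: the published formula gives one direction and its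
mirror image (exchange the roles of the identity and `s ∘ f`) gives the other. -/
theorem result {C : Type u} [Category.{v} C] {Y X : C} (f : Y ⟶ X) (s : X ⟶ Y) (hs : s ≫ f = 𝟙 X) [∀ n : ℕ, HasWidePullback (Arrow.mk f).right (fun _ : Fin (n + 1) => (Arrow.mk f).left) (fun _ => (Arrow.mk f).hom)] (φ : Arrow.mk f ⟶ Arrow.mk f) (hφl : φ.left = f ≫ s) (hφr : φ.right = 𝟙 X) : Nonempty (SimplicialObject.Homotopy (𝟙 (Arrow.mk f).cechNerve) (Arrow.mapCechNerve φ)) ∧ Nonempty (SimplicialObject.Homotopy (Arrow.mapCechNerve φ) (𝟙 (Arrow.mk f).cechNerve)) := by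
  have he : (f ≫ s) ≫ (Arrow.mk f).hom = (Arrow.mk f).hom := by
    show (f ≫ s) ≫ f = f
    rw [Category.assoc, hs, Category.comp_id]
  have hee : (f ≫ s) ≫ (f ≫ s) = f ≫ s := by
    rw [Category.assoc, ← Category.assoc s, hs, Category.id_comp]
  exact ⟨⟨hom1 (Arrow.mk f) (f ≫ s) he hee φ hφl hφr⟩, ⟨hom2 (Arrow.mk f) (f ≫ s) he hee φ hφl hφr⟩⟩

end Groth.Agent.S6789
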