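import Groth.Statements.S6790
import Mathlib

set_option autoImplicit false
open CategoryTheory CategoryTheory.Limits MonoidalCategory
universe v u
open CategoryTheory CategoryTheory.Monoidal

namespace Groth.Agent.S6790

/-- In an idempotent-complete additive monoidal category, a direct summand of an object admitting a dual
(with coevaluation `𝟙_ A ⟶ X ⊗ Y` and evaluation `Y ⊗ X ⟶ 𝟙_ A`) again admits such a dual. -/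
theorem result {A : Type u} [Category.{v} A] [Preadditive A] [HasFiniteBiproducts A] [MonoidalCategory A] [MonoidalPreadditive A] [IsIdempotentComplete A] {X X₁ : A} (i : X₁ ⟶ X) (p : X ⟶ X₁) (hip : i ≫ p = 𝟙 X₁) [HasRightDual X] : Nonempty (HasRightDual X₁) := by
  classical
  have hipi : i ≫ p ≫ i = i := by rw [← Category.assoc, hip, Category.id_comp]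
  have hee : (p ≫ i) ≫ (p ≫ i) = p ≫ i := by
    rw [Category.assoc, hipi]
  have hEE : (p ≫ i)ᘁ ≫ (p ≫ i)ᘁ = (p ≫ i)ᘁ := by
    rw [← comp_rightAdjointMate, hee]
  obtain ⟨Y₁, i', p', hi'p', hp'i'⟩ :=
    IsIdempotentComplete.idempotents_split (Xᘁ) ((p ≫ i)ᘁ) hEE
  have hE : (p ≫ i)ᘁ ≫ p' = p' := by
    rw [← hp'i', Category.assoc, hi'p', Category.comp_id]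
  refine ⟨{ rightDual := Y₁, exact := ?_ }⟩
  exact
    { coevaluation' := η_ X (Xᘁ) ≫ p ▷ (Xᘁ) ≫ X₁ ◁ p'
      evaluation' := i' ▷ X₁ ≫ (Xᘁ) ◁ i ≫ ε_ X (Xᘁ)
      coevaluation_evaluation' := by
        calc
          _ = (Y₁ ◁ (η_ X (Xᘁ) ≫ p ▷ (Xᘁ) ≫ X₁ ◁ p') ≫ i' ▷ (X₁ ⊗ Y₁)) ⊗≫
              ((Xᘁ) ◁ i) ▷ Y₁ ⊗≫ ε_ X (Xᘁ) ▷ Y₁ := by monoidal
          _ = (i' ▷ 𝟙_ A ≫ (Xᘁ) ◁ (η_ X (Xᘁ) ≫ p ▷ (Xᘁ) ≫ X₁ ◁ p')) ⊗≫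
              ((Xᘁ) ◁ i) ▷ Y₁ ⊗≫ ε_ X (Xᘁ) ▷ Y₁ := by rw [whisker_exchange]
          _ = i' ▷ 𝟙_ A ⊗≫ (Xᘁ) ◁ η_ X (Xᘁ) ⊗≫ (Xᘁ) ◁ (p ▷ (Xᘁ)) ⊗≫
              (Xᘁ) ◁ (X₁ ◁ p' ≫ i ▷ Y₁) ⊗≫ ε_ X (Xᘁ) ▷ Y₁ := by monoidal
          _ = i' ▷ 𝟙_ A ⊗≫ (Xᘁ) ◁ η_ X (Xᘁ) ⊗≫ (Xᘁ) ◁ (p ▷ (Xᘁ)) ⊗≫
              (Xᘁ) ◁ (i ▷ (Xᘁ) ≫ X ◁ p') ⊗≫ ε_ X (Xᘁ) ▷ Y₁ := by rw [whisker_exchange]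
          _ = i' ▷ 𝟙_ A ⊗≫ (Xᘁ) ◁ (η_ X (Xᘁ) ≫ (p ≫ i) ▷ (Xᘁ)) ⊗≫
              (Xᘁ) ◁ (X ◁ p') ⊗≫ ε_ X (Xᘁ) ▷ Y₁ := by monoidal
          _ = i' ▷ 𝟙_ A ⊗≫ (Xᘁ) ◁ (η_ X (Xᘁ) ≫ X ◁ (p ≫ i)ᘁ) ⊗≫
              (Xᘁ) ◁ (X ◁ p') ⊗≫ ε_ X (Xᘁ) ▷ Y₁ := by
            rw [← coevaluation_comp_rightAdjointMate]
          _ = i' ▷ 𝟙_ A ⊗≫ (Xᘁ) ◁ η_ X (Xᘁ) ⊗≫
              (Xᘁ) ◁ (X ◁ ((p ≫ i)ᘁ ≫ p')) ⊗≫ ε_ X (Xᘁ) ▷ Y₁ := by monoidal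
          _ = i' ▷ 𝟙_ A ⊗≫ (Xᘁ) ◁ η_ X (Xᘁ) ⊗≫
              (((Xᘁ) ⊗ X) ◁ p' ≫ ε_ X (Xᘁ) ▷ Y₁) := by rw [hE]; monoidal
          _ = i' ▷ 𝟙_ A ⊗≫ (Xᘁ) ◁ η_ X (Xᘁ) ⊗≫
              (ε_ X (Xᘁ) ▷ (Xᘁ) ≫ 𝟙_ A ◁ p') := by rw [whisker_exchange]
          _ = i' ▷ 𝟙_ A ⊗≫ ((Xᘁ) ◁ η_ X (Xᘁ) ⊗≫ ε_ X (Xᘁ) ▷ (Xᘁ)) ⊗≫ 𝟙_ A ◁ p' := by
            monoidal
          _ = (ρ_ Y₁).hom ≫ (i' ≫ p') ≫ (λ_ Y₁).inv := by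
            rw [ExactPairing.coevaluation_evaluation'']; monoidal
          _ = _ := by rw [hi'p', Category.id_comp]
      evaluation_coevaluation' := by
        calc
          _ = η_ X (Xᘁ) ▷ X₁ ⊗≫ (p ▷ ((Xᘁ) ⊗ X₁) ≫
              X₁ ◁ (p' ▷ X₁ ≫ i' ▷ X₁ ≫ (Xᘁ) ◁ i ≫ ε_ X (Xᘁ))) := by monoidal
          _ = η_ X (Xᘁ) ▷ X₁ ⊗≫ (X ◁ (p' ▷ X₁ ≫ i' ▷ X₁ ≫ (Xᘁ) ◁ i ≫ ε_ X (Xᘁ)) ≫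
              p ▷ 𝟙_ A) := by rw [← whisker_exchange]
          _ = η_ X (Xᘁ) ▷ X₁ ⊗≫ X ◁ ((p' ≫ i') ▷ X₁ ≫ (Xᘁ) ◁ i) ⊗≫ X ◁ ε_ X (Xᘁ) ⊗≫
              p ▷ 𝟙_ A := by monoidal
          _ = η_ X (Xᘁ) ▷ X₁ ⊗≫ X ◁ ((p ≫ i)ᘁ ▷ X₁ ≫ (Xᘁ) ◁ i) ⊗≫ X ◁ ε_ X (Xᘁ) ⊗≫
              p ▷ 𝟙_ A := by rw [hp'i']
          _ = η_ X (Xᘁ) ▷ X₁ ⊗≫ X ◁ ((Xᘁ) ◁ i ≫ (p ≫ i)ᘁ ▷ X) ⊗≫ X ◁ ε_ X (Xᘁ) ⊗≫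
              p ▷ 𝟙_ A := by rw [← whisker_exchange]
          _ = η_ X (Xᘁ) ▷ X₁ ⊗≫ X ◁ ((Xᘁ) ◁ i) ⊗≫ X ◁ ((p ≫ i)ᘁ ▷ X ≫ ε_ X (Xᘁ)) ⊗≫
              p ▷ 𝟙_ A := by monoidal
          _ = η_ X (Xᘁ) ▷ X₁ ⊗≫ X ◁ ((Xᘁ) ◁ i) ⊗≫ X ◁ ((Xᘁ) ◁ (p ≫ i) ≫ ε_ X (Xᘁ)) ⊗≫
              p ▷ 𝟙_ A := by rw [rightAdjointMate_comp_evaluation]
          _ = (η_ X (Xᘁ) ▷ X₁ ≫ (X ⊗ (Xᘁ)) ◁ (i ≫ p ≫ i)) ⊗≫ X ◁ ε_ X (Xᘁ) ⊗≫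
              p ▷ 𝟙_ A := by monoidal
          _ = (𝟙_ A ◁ i ≫ η_ X (Xᘁ) ▷ X) ⊗≫ X ◁ ε_ X (Xᘁ) ⊗≫
              p ▷ 𝟙_ A := by rw [hipi, ← whisker_exchange]
          _ = 𝟙_ A ◁ i ⊗≫ (η_ X (Xᘁ) ▷ X ⊗≫ X ◁ ε_ X (Xᘁ)) ⊗≫ p ▷ 𝟙_ A := by monoidal
          _ = (λ_ X₁).hom ≫ (i ≫ p) ≫ (ρ_ X₁).inv := by
            rw [ExactPairing.evaluation_coevaluation'']; monoidal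
          _ = _ := by rw [hip, Category.id_comp] }

end Groth.Agent.S6790
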