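import Groth.Statements.S6791
import Mathlib

set_option autoImplicit false
open CategoryTheory CategoryTheory.Limits
universe v u v' u' v'' u''
open CategoryTheory CategoryTheory.SerreClass

namespace Groth.Agent.S6791

/-- For an exact functor `F : A ⥤ B` of abelian categories and a Serre class `P` of `A` killed by `F`,
with `L : A ⥤ Q` a model of the quotient `A/P` and `Fbar : Q ⥤ B` the induced functor, `P` is
exactly the kernel of `F` if and only if `Fbar` is faithful. -/
theorem result {A : Type u} [Category.{v} A] [Abelian A] {B : Type u'} [Category.{v'} B] [Abelian B] (F : A ⥤ B) [F.Additive] [PreservesFiniteLimits F] [PreservesFiniteColimits F] (P : ObjectProperty A) [P.IsSerreClass] (hP : ∀ X : A, P X → IsZero (F.obj X)) {Q : Type u''} [Category.{v''} Q] [Abelian Q] (L : A ⥤ Q) [L.IsLocalization P.isoModSerre] [L.Additive] [PreservesFiniteLimits L] [PreservesFiniteColimits L] (Fbar : Q ⥤ B) (e : L ⋙ Fbar ≅ F) : (∀ X : A, IsZero (F.obj X) → P X) ↔ Fbar.Faithful := by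
  constructor
  · intro hker
    haveI : L.EssSurj := Localization.essSurj L P.isoModSerre
    refine ⟨?_⟩
    intro Q₁ Q₂ a b hab
    -- reduce to objects in the image of L
    have key : ∀ (X Y : A) (a' b' : L.obj X ⟶ L.obj Y), Fbar.map a' = Fbar.map b' → a' = b' := by
      intro X Y a' b' hab'
      obtain ⟨φ, ha, hb⟩ := Localization.exists_leftFraction₂ L P.isoModSerre a' b'
      have ha' : a' ≫ L.map φ.s = L.map φ.f := by
        rw [ha]; exact MorphismProperty.LeftFraction.map_comp_map_s _ _ _
      have hb' : b' ≫ L.map φ.s = L.map φ.f' := by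
        rw [hb]; exact MorphismProperty.LeftFraction.map_comp_map_s _ _ _
      haveI : IsIso (L.map φ.s) := Localization.inverts L P.isoModSerre _ φ.hs
      have hFb : Fbar.map (L.map φ.f) = Fbar.map (L.map φ.f') := by
        rw [← ha', ← hb', Functor.map_comp, Functor.map_comp, hab']
      have hF : F.map φ.f = F.map φ.f' := by
        have h1 : ∀ {U V : A} (f : U ⟶ V),
            F.map f = e.inv.app U ≫ Fbar.map (L.map f) ≫ e.hom.app V := by
          intro U V f
          have := e.hom.naturality f
          simp only [Functor.comp_map] at this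
          rw [this, Iso.inv_hom_id_app_assoc]
        rw [h1 φ.f, h1 φ.f', hFb]
      have hF0 : F.map (φ.f - φ.f') = 0 := by
        rw [Functor.map_sub, hF, sub_self]
      have hfac : Abelian.factorThruImage (φ.f - φ.f') ≫ Abelian.image.ι (φ.f - φ.f') =
          φ.f - φ.f' := Abelian.image.fac _
      have h2 : F.map (Abelian.factorThruImage (φ.f - φ.f')) = 0 := by
        rw [← cancel_mono (F.map (Abelian.image.ι (φ.f - φ.f'))), ← Functor.map_comp, hfac,
          hF0, zero_comp]
      have h3 : IsZero (F.obj (Abelian.image (φ.f - φ.f'))) :=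
        IsZero.of_epi_eq_zero _ h2
      have h4 : P (Abelian.image (φ.f - φ.f')) := hker _ h3
      have h5 : L.map (φ.f - φ.f') = 0 := (ObjectProperty.SerreClassLocalization.map_eq_zero_iff L P _).mpr h4
      have h6 : L.map φ.f = L.map φ.f' := by
        rw [Functor.map_sub, sub_eq_zero] at h5
        exact h5
      rw [← cancel_mono (L.map φ.s), ha', hb', h6]
    have h := key (L.objPreimage Q₁) (L.objPreimage Q₂)
      ((L.objObjPreimageIso Q₁).hom ≫ a ≫ (L.objObjPreimageIso Q₂).inv)
      ((L.objObjPreimageIso Q₁).hom ≫ b ≫ (L.objObjPreimageIso Q₂).inv)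
      (by simp only [Functor.map_comp, hab])
    rw [cancel_epi, cancel_mono] at h
    exact h
  · intro hfaith X hX
    rw [← ObjectProperty.SerreClassLocalization.isZero_obj_iff L P X]
    have hz : IsZero (Fbar.obj (L.obj X)) := hX.of_iso (e.app X)
    rw [IsZero.iff_id_eq_zero]
    apply Fbar.map_injective
    exact hz.eq_of_src _ _

end Groth.Agent.S6791
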