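import Groth.Statements.S6804
import Mathlib
import Groth.Agent.S6794

set_option autoImplicit false
open CategoryTheory CategoryTheory.Limits
universe v u
open SpSeq SpSeq.FilObj

namespace Groth.Agent.S6804

section helpers
open CategoryTheory CategoryTheory.Limits Groth.Agent.S6794

variable {A : Type u} [Category.{v} A] [Abelian A]

theorem comp_hom {X Y Z : SpSeq.FilObj A} (a : X ⟶ Y) (b : Y ⟶ Z) :
    (a ≫ b).hom = a.hom ≫ b.hom := rfl

theorem hom_ext' {X Y : SpSeq.FilObj A} (a b : X ⟶ Y) (h : a.hom = b.hom) : a = b :=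
  SpSeq.FilObj.Hom.ext h

theorem pullback_factors {X Y Z : A} (h : X ⟶ Y) (S : Subobject Y) (z : Z ⟶ X)
    (hz : S.Factors (z ≫ h)) : ((Subobject.pullback h).obj S).Factors z := by
  rw [Subobject.pullback_obj]
  have e : z = pullback.lift (S.factorThru _ hz) z (by simp) ≫ pullback.snd S.arrow h :=
    (pullback.lift_snd _ _ _).symm
  rw [e]
  exact mk_factors_comp _ _

theorem factors_of_pullback_factors {X Y Z : A} (h : X ⟶ Y) (S : Subobject Y) (z : Z ⟶ X)
    (hz : ((Subobject.pullback h).obj S).Factors z) : S.Factors (z ≫ h) := by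
  rw [Subobject.pullback_obj] at hz
  obtain ⟨u, hu⟩ := exists_of_mk_factors _ _ hz
  rw [← hu, Category.assoc, ← pullback.condition, ← Category.assoc]
  exact Subobject.factors_comp_arrow _

theorem factors_arrow_of_le {X : A} {S T : Subobject X} (h : S ≤ T) : T.Factors S.arrow := by
  rw [← Subobject.ofLE_arrow h]
  exact Subobject.factors_comp_arrow _

theorem le_of_factors_arrow {X : A} {S T : Subobject X} (h : T.Factors S.arrow) : S ≤ T :=
  Subobject.le_of_comm (T.factorThru S.arrow h) (Subobject.factorThru_arrow _ _ _)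

theorem image_le_of_factors {X Y : A} (a : X ⟶ Y) (S : Subobject Y) (h : S.Factors a) :
    imageSubobject a ≤ S :=
  le_of_refinement (imageSubobject a) S (factorThruImageSubobject a) inferInstance
    (by rw [imageSubobject_arrow_comp]; exact h)

theorem factors_of_top_le {W : A} (S : Subobject W) (h : ⊤ ≤ S) : S.Factors (𝟙 W) :=
  Subobject.factors_of_le _ h (Subobject.top_factors _)

theorem top_le_of_factors {W : A} (S : Subobject W) (h : S.Factors (𝟙 W)) : ⊤ ≤ S := by
  apply le_of_factors_arrow
  have := Subobject.factors_of_factors_right (⊤ : Subobject W).arrow h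
  simpa using this

section construction
variable {K L M : SpSeq.FilObj A} (f : L ⟶ K) (g : M ⟶ K)

@[reducible] noncomputable def P0 : SpSeq.FilObj A where
  obj := pullback f.hom g.hom
  fil p := (Subobject.pullback (pullback.fst f.hom g.hom)).obj (L.fil p) ⊓
    (Subobject.pullback (pullback.snd f.hom g.hom)).obj (M.fil p)
  anti := fun _ _ h => inf_le_inf ((Subobject.pullback _).monotone (L.anti h))
    ((Subobject.pullback _).monotone (M.anti h))

noncomputable def fstHom : P0 f g ⟶ L :=
  SpSeq.FilObj.Hom.mk (pullback.fst f.hom g.hom) (fun _ => inf_le_left)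

noncomputable def sndHom : P0 f g ⟶ M :=
  SpSeq.FilObj.Hom.mk (pullback.snd f.hom g.hom) (fun _ => inf_le_right)

theorem cond0 : fstHom f g ≫ f = sndHom f g ≫ g :=
  hom_ext' _ _ (by
    show pullback.fst f.hom g.hom ≫ f.hom = pullback.snd f.hom g.hom ≫ g.hom
    exact pullback.condition)

noncomputable def liftHom (s : PullbackCone f g) : s.pt ⟶ P0 f g :=
  SpSeq.FilObj.Hom.mk (pullback.lift s.fst.hom s.snd.hom
      (congrArg SpSeq.FilObj.Hom.hom s.condition)) (fun p => by
    show s.pt.fil p ≤ (Subobject.pullback _).obj (_ ⊓ _)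
    rw [Subobject.inf_pullback, ← Subobject.pullback_comp, ← Subobject.pullback_comp,
      pullback.lift_fst, pullback.lift_snd]
    exact le_inf (s.fst.compat p) (s.snd.compat p))

noncomputable def isLimit0 :
    IsLimit (PullbackCone.mk (fstHom f g) (sndHom f g) (cond0 f g)) :=
  PullbackCone.IsLimit.mk _ (fun s => liftHom f g s)
    (fun s => hom_ext' _ _ (pullback.lift_fst _ _ _))
    (fun s => hom_ext' _ _ (pullback.lift_snd _ _ _))
    (fun s m h1 h2 => hom_ext' _ _ (by
      apply pullback.hom_ext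
      · rw [show (liftHom f g s).hom ≫ pullback.fst f.hom g.hom = s.fst.hom from
          pullback.lift_fst _ _ _]
        exact congrArg SpSeq.FilObj.Hom.hom h1
      · rw [show (liftHom f g s).hom ≫ pullback.snd f.hom g.hom = s.snd.hom from
          pullback.lift_snd _ _ _]
        exact congrArg SpSeq.FilObj.Hom.hom h2))

theorem hasPullback0 : HasPullback f g := HasLimit.mk ⟨_, isLimit0 f g⟩

end construction

noncomputable def stepObj (W : A) (p : ℤ) : SpSeq.FilObj A where
  obj := W
  fil q := if q ≤ p then ⊤ else ⊥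
  anti := fun q q' h => by
    by_cases h' : q' ≤ p
    · have h'' : q ≤ p := h.trans h'
      simp only [if_pos h', if_pos h'']
      exact le_rfl
    · simp only [if_neg h']
      exact bot_le

noncomputable def stepHom {W : A} (p : ℤ) (N : SpSeq.FilObj A) (a : W ⟶ N.obj)
    (ha : (N.fil p).Factors a) : stepObj W p ⟶ N :=
  SpSeq.FilObj.Hom.mk a (fun q => by
    show (if q ≤ p then ⊤ else ⊥) ≤ _
    by_cases hq : q ≤ p
    · rw [if_pos hq]
      have h1 : (N.fil q).Factors a := Subobject.factors_of_le _ (N.anti hq) ha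
      exact top_le_of_factors _ (pullback_factors a _ (𝟙 W) (by simpa using h1))
    · rw [if_neg hq]
      exact bot_le)

theorem strict_pullback {K L M : SpSeq.FilObj A} (f : L ⟶ K) (g : M ⟶ K)
    (P : SpSeq.FilObj A) (g' : P ⟶ L) (f' : P ⟶ M) (hP : IsPullback g' f' f g)
    (hf : SpSeq.FilObj.IsStrict f) : SpSeq.FilObj.IsStrict f' := by
  intro p
  apply le_antisymm
  · apply le_inf
    · exact imageSubobject_comp_le _ _
    · exact image_le_of_factors _ _
        (factors_of_pullback_factors _ _ _ (factors_arrow_of_le (f'.compat p)))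
  · obtain ⟨S, hS⟩ : ∃ S : Subobject M.obj, S = imageSubobject f'.hom ⊓ M.fil p := ⟨_, rfl⟩
    rw [← hS]
    have hS1 : (imageSubobject f'.hom).Factors S.arrow :=
      factors_arrow_of_le (hS.le.trans inf_le_left)
    have hS2 : (M.fil p).Factors S.arrow := factors_arrow_of_le (hS.le.trans inf_le_right)
    obtain ⟨W₁, π₁, hπ₁, z, hz⟩ := image_refine f'.hom S.arrow hS1
    have w : g'.hom ≫ f.hom = f'.hom ≫ g.hom := congrArg SpSeq.FilObj.Hom.hom hP.w
    have hm : (M.fil p).Factors (π₁ ≫ S.arrow) := Subobject.factors_of_factors_right _ hS2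
    have hk : (K.fil p).Factors ((π₁ ≫ S.arrow) ≫ g.hom) :=
      factors_of_pullback_factors _ _ _ (Subobject.factors_of_le _ (g.compat p) hm)
    have hl : (z ≫ g'.hom) ≫ f.hom = (π₁ ≫ S.arrow) ≫ g.hom := by
      rw [Category.assoc, w, ← Category.assoc, ← hz]
    have hfl : (imageSubobject ((L.fil p).arrow ≫ f.hom)).Factors ((z ≫ g'.hom) ≫ f.hom) := by
      rw [hf p]
      refine (Subobject.inf_factors _).mpr ⟨imageSubobject_factors_comp_self _ _, ?_⟩
      rw [hl]
      exact hk
    obtain ⟨W₂, π₂, hπ₂, y, hy⟩ := image_refine _ _ hfl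
    have hab : stepHom p L (y ≫ (L.fil p).arrow) (Subobject.factors_comp_arrow _) ≫ f =
        stepHom p M (π₂ ≫ π₁ ≫ S.arrow) (Subobject.factors_of_factors_right _ hm) ≫ g :=
      hom_ext' _ _ (by
        show (y ≫ (L.fil p).arrow) ≫ f.hom = (π₂ ≫ π₁ ≫ S.arrow) ≫ g.hom
        rw [Category.assoc, ← hy, hl]
        simp only [Category.assoc])
    have hc2' : (hP.lift _ _ hab).hom ≫ f'.hom = π₂ ≫ π₁ ≫ S.arrow :=
      congrArg SpSeq.FilObj.Hom.hom (hP.lift_snd _ _ hab)
    have hcp : (P.fil p).Factors (hP.lift _ _ hab).hom := by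
      have h1 := (hP.lift _ _ hab).compat p
      have h2 : (stepObj W₂ p).fil p = ⊤ := if_pos le_rfl
      rw [h2] at h1
      simpa using factors_of_pullback_factors _ _ _ (factors_of_top_le _ h1)
    haveI := hπ₁
    haveI := hπ₂
    refine le_of_refinement S _ (π₂ ≫ π₁) inferInstance ?_
    have e : (π₂ ≫ π₁) ≫ S.arrow =
        (P.fil p).factorThru _ hcp ≫ ((P.fil p).arrow ≫ f'.hom) := by
      rw [← Category.assoc, Subobject.factorThru_arrow, hc2', Category.assoc]
    rw [e]
    exact imageSubobject_factors_comp_self _ _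

theorem main {K L M : SpSeq.FilObj A} (f : L ⟶ K) (g : M ⟶ K) :
    HasPullback f g ∧ ∀ (P : SpSeq.FilObj A) (g' : P ⟶ L) (f' : P ⟶ M), IsPullback g' f' f g →
      SpSeq.FilObj.IsStrict f → SpSeq.FilObj.IsStrict f' :=
  ⟨hasPullback0 f g, fun P g' f' hP hf => strict_pullback f g P g' f' hP hf⟩

end helpers

/-- Fibre products exist in the category of filtered objects of an abelian category, and the base change
of a strict morphism is strict. -/
theorem result {A : Type u} [Category.{v} A] [Abelian A] {K L M : SpSeq.FilObj A} (f : L ⟶ K) (g : M ⟶ K) : HasPullback f g ∧ ∀ (P : SpSeq.FilObj A) (g' : P ⟶ L) (f' : P ⟶ M), IsPullback g' f' f g → SpSeq.FilObj.IsStrict f → SpSeq.FilObj.IsStrict f' := by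
  exact Groth.Agent.S6804.main f g

end Groth.Agent.S6804
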