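import Groth.Statements.S6803
import Mathlib
import Groth.Agent.S6794
import Groth.Agent.S6804

set_option autoImplicit false
open CategoryTheory CategoryTheory.Limits
universe v u
open SpSeq SpSeq.FilObj

namespace Groth.Agent.S6803

section helpers
open CategoryTheory CategoryTheory.Limits Groth.Agent.S6794 Groth.Agent.S6804

variable {A : Type u} [Category.{v} A] [Abelian A]

theorem image_comp_mono {X Y : A} {S T : Subobject X} (h : S ≤ T) (ι : X ⟶ Y) :
    imageSubobject (S.arrow ≫ ι) ≤ imageSubobject (T.arrow ≫ ι) := by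
  rw [← Subobject.ofLE_arrow h, Category.assoc]
  exact imageSubobject_comp_le _ _

theorem image_factors_self {X Y : A} (a : X ⟶ Y) : (imageSubobject a).Factors a := by
  have := imageSubobject_factors_comp_self a (𝟙 X)
  rwa [Category.id_comp] at this

theorem hom_factors {L N : SpSeq.FilObj A} (φ : L ⟶ N) (p : ℤ) :
    (N.fil p).Factors ((L.fil p).arrow ≫ φ.hom) :=
  factors_of_pullback_factors _ _ _ (factors_arrow_of_le (φ.compat p))

theorem sup_refine {X₁ X₂ Y W : A} (a : X₁ ⟶ Y) (b : X₂ ⟶ Y) (x : W ⟶ Y)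
    (h : (imageSubobject a ⊔ imageSubobject b).Factors x) :
    ∃ (W' : A) (π : W' ⟶ W) (_ : Epi π) (u : W' ⟶ X₁) (v : W' ⟶ X₂),
      π ≫ x = u ≫ a + v ≫ b := by
  have hle : imageSubobject a ⊔ imageSubobject b ≤ imageSubobject (biprod.desc a b) := by
    apply sup_le
    · have := imageSubobject_comp_le (biprod.inl : X₁ ⟶ X₁ ⊞ X₂) (biprod.desc a b)
      rwa [biprod.inl_desc] at this
    · have := imageSubobject_comp_le (biprod.inr : X₂ ⟶ X₁ ⊞ X₂) (biprod.desc a b)
      rwa [biprod.inr_desc] at this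
  obtain ⟨W', π, hπ, w, hw⟩ := image_refine (biprod.desc a b) x (Subobject.factors_of_le _ hle h)
  refine ⟨W', π, hπ, w ≫ biprod.fst, w ≫ biprod.snd, ?_⟩
  rw [hw, biprod.desc_eq, Preadditive.comp_add, Category.assoc, Category.assoc]

@[reducible] noncomputable def supObj {L M : SpSeq.FilObj A} {X : A} (a : L.obj ⟶ X)
    (b : M.obj ⟶ X) : SpSeq.FilObj A where
  obj := X
  fil p := imageSubobject ((L.fil p).arrow ≫ a) ⊔ imageSubobject ((M.fil p).arrow ≫ b)
  anti := fun _ _ h => sup_le_sup (image_comp_mono (L.anti h) a) (image_comp_mono (M.anti h) b)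

noncomputable def supInl {L M : SpSeq.FilObj A} {X : A} (a : L.obj ⟶ X) (b : M.obj ⟶ X) :
    L ⟶ supObj a b :=
  SpSeq.FilObj.Hom.mk a (fun p => le_of_factors_arrow (S6804.pullback_factors _ _ _
    (Subobject.factors_of_le _
      (show imageSubobject ((L.fil p).arrow ≫ a) ≤ (supObj a b).fil p from le_sup_left)
      (image_factors_self _))))

noncomputable def supInr {L M : SpSeq.FilObj A} {X : A} (a : L.obj ⟶ X) (b : M.obj ⟶ X) :
    M ⟶ supObj a b :=
  SpSeq.FilObj.Hom.mk b (fun p => le_of_factors_arrow (S6804.pullback_factors _ _ _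
    (Subobject.factors_of_le _
      (show imageSubobject ((M.fil p).arrow ≫ b) ≤ (supObj a b).fil p from le_sup_right)
      (image_factors_self _))))

noncomputable def supDesc {L M N : SpSeq.FilObj A} {X : A} (a : L.obj ⟶ X) (b : M.obj ⟶ X)
    (d : X ⟶ N.obj) (ha : ∀ p, (N.fil p).Factors (((L.fil p).arrow ≫ a) ≫ d))
    (hb : ∀ p, (N.fil p).Factors (((M.fil p).arrow ≫ b) ≫ d)) : supObj a b ⟶ N :=
  SpSeq.FilObj.Hom.mk d (fun p => sup_le
    (image_le_of_factors _ _ (S6804.pullback_factors _ _ _ (ha p)))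
    (image_le_of_factors _ _ (S6804.pullback_factors _ _ _ (hb p))))

section construction
variable {K L M : SpSeq.FilObj A} (f : K ⟶ L) (g : K ⟶ M)

noncomputable abbrev Q0 : SpSeq.FilObj A :=
  supObj (pushout.inl f.hom g.hom) (pushout.inr f.hom g.hom)

theorem cond0 : f ≫ supInl (pushout.inl f.hom g.hom) (pushout.inr f.hom g.hom) =
    g ≫ supInr (pushout.inl f.hom g.hom) (pushout.inr f.hom g.hom) :=
  hom_ext' _ _ (by
    show f.hom ≫ pushout.inl f.hom g.hom = g.hom ≫ pushout.inr f.hom g.hom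
    exact pushout.condition)

noncomputable def descHom (s : PushoutCocone f g) : Q0 f g ⟶ s.pt :=
  supDesc _ _ (pushout.desc s.inl.hom s.inr.hom (congrArg SpSeq.FilObj.Hom.hom s.condition))
    (fun p => by
      rw [Category.assoc, pushout.inl_desc]
      exact hom_factors s.inl p)
    (fun p => by
      rw [Category.assoc, pushout.inr_desc]
      exact hom_factors s.inr p)

noncomputable def isColimit0 :
    IsColimit (PushoutCocone.mk _ _ (cond0 f g)) :=
  PushoutCocone.IsColimit.mk _ (fun s => descHom f g s)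
    (fun s => hom_ext' _ _ (pushout.inl_desc _ _ _))
    (fun s => hom_ext' _ _ (pushout.inr_desc _ _ _))
    (fun s m h1 h2 => hom_ext' _ _ (by
      apply pushout.hom_ext
      · rw [show pushout.inl f.hom g.hom ≫ (descHom f g s).hom = s.inl.hom from
          pushout.inl_desc _ _ _]
        exact congrArg SpSeq.FilObj.Hom.hom h1
      · rw [show pushout.inr f.hom g.hom ≫ (descHom f g s).hom = s.inr.hom from
          pushout.inr_desc _ _ _]
        exact congrArg SpSeq.FilObj.Hom.hom h2))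

theorem hasPushout0 : HasPushout f g := HasColimit.mk ⟨_, isColimit0 f g⟩

end construction

@[reducible] noncomputable def topObj (X : A) : SpSeq.FilObj A := ⟨X, fun _ => ⊤, fun _ _ _ => le_rfl⟩

noncomputable def topHom (N : SpSeq.FilObj A) {X : A} (a : N.obj ⟶ X) : N ⟶ topObj X :=
  SpSeq.FilObj.Hom.mk a (fun p => by
    show N.fil p ≤ (Subobject.pullback a).obj ⊤
    rw [Subobject.pullback_top]
    exact le_top)

section general
variable {K L M P : SpSeq.FilObj A} (f : K ⟶ L) (g : K ⟶ M) (g' : L ⟶ P) (f' : M ⟶ P)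
  (hP : IsPushout f g g' f')

include hP in
theorem isPushout_hom : IsPushout f.hom g.hom g'.hom f'.hom :=
  ⟨⟨congrArg SpSeq.FilObj.Hom.hom hP.w⟩, ⟨PushoutCocone.IsColimit.mk _
    (fun s => (hP.desc (topHom L s.inl) (topHom M s.inr) (hom_ext' _ _ s.condition)).hom)
    (fun s => congrArg SpSeq.FilObj.Hom.hom (hP.inl_desc _ _ _))
    (fun s => congrArg SpSeq.FilObj.Hom.hom (hP.inr_desc _ _ _))
    (fun s m h1 h2 => by
      have e : topHom P m = hP.desc (topHom L s.inl) (topHom M s.inr)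
          (hom_ext' _ _ s.condition) :=
        hP.hom_ext ((hom_ext' _ _ h1).trans (hP.inl_desc _ _ _).symm)
          ((hom_ext' _ _ h2).trans (hP.inr_desc _ _ _).symm)
      exact congrArg SpSeq.FilObj.Hom.hom e)⟩⟩

noncomputable def supId : supObj g'.hom f'.hom ⟶ P :=
  supDesc g'.hom f'.hom (𝟙 _)
    (fun q => by rw [Category.comp_id]; exact hom_factors g' q)
    (fun q => by rw [Category.comp_id]; exact hom_factors f' q)

include hP in
theorem fil_le_sup (p : ℤ) : P.fil p ≤
    imageSubobject ((L.fil p).arrow ≫ g'.hom) ⊔ imageSubobject ((M.fil p).arrow ≫ f'.hom) := by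
  have hw : f ≫ supInl g'.hom f'.hom = g ≫ supInr g'.hom f'.hom :=
    hom_ext' _ _ (show f.hom ≫ g'.hom = g.hom ≫ f'.hom from
      congrArg SpSeq.FilObj.Hom.hom hP.w)
  obtain ⟨d, hd1, hd2⟩ := hP.exists_desc (supInl g'.hom f'.hom) (supInr g'.hom f'.hom) hw
  have hdi : d ≫ supId g' f' = 𝟙 P :=
    hP.hom_ext (by rw [← Category.assoc, hd1]; exact hom_ext' _ _ rfl)
      (by rw [← Category.assoc, hd2]; exact hom_ext' _ _ rfl)
  have hd : d.hom = 𝟙 _ :=
    (Category.comp_id d.hom).symm.trans (congrArg SpSeq.FilObj.Hom.hom hdi)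
  have h := d.compat p
  rw [hd, Subobject.pullback_id] at h
  exact h

include hP in
theorem strict_pushout (hf : SpSeq.FilObj.IsStrict f) : SpSeq.FilObj.IsStrict f' := by
  intro p
  apply le_antisymm
  · exact le_inf (imageSubobject_comp_le _ _) (image_le_of_factors _ _ (hom_factors f' p))
  · obtain ⟨S, hS⟩ : ∃ S : Subobject P.obj, S = imageSubobject f'.hom ⊓ P.fil p := ⟨_, rfl⟩
    rw [← hS]
    have hS1 : (imageSubobject f'.hom).Factors S.arrow :=
      factors_arrow_of_le (hS.le.trans inf_le_left)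
    have hS2 : (imageSubobject ((L.fil p).arrow ≫ g'.hom) ⊔
        imageSubobject ((M.fil p).arrow ≫ f'.hom)).Factors S.arrow :=
      factors_arrow_of_le ((hS.le.trans inf_le_right).trans (fil_le_sup f g g' f' hP p))
    have hA : IsPushout f.hom g.hom g'.hom f'.hom := isPushout_hom f g g' f' hP
    have w : f.hom ≫ g'.hom = g.hom ≫ f'.hom := hA.w
    obtain ⟨W₁, π₁, hπ₁, m, hm⟩ := image_refine f'.hom S.arrow hS1
    obtain ⟨W₂, π₂, hπ₂, u, v, huv⟩ := sup_refine _ _ (π₁ ≫ S.arrow)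
      (Subobject.factors_of_factors_right _ hS2)
    obtain ⟨l, hl⟩ : ∃ l : W₂ ⟶ L.obj, l = u ≫ (L.fil p).arrow := ⟨_, rfl⟩
    obtain ⟨m₁, hm₁⟩ : ∃ m₁ : W₂ ⟶ M.obj, m₁ = v ≫ (M.fil p).arrow := ⟨_, rfl⟩
    have huv' : (π₂ ≫ π₁) ≫ S.arrow = l ≫ g'.hom + m₁ ≫ f'.hom := by
      rw [Category.assoc, huv, hl, hm₁]
      simp only [Category.assoc]
    have huv'' : (π₂ ≫ m) ≫ f'.hom = l ≫ g'.hom + m₁ ≫ f'.hom := by
      rw [Category.assoc, ← hm, ← Category.assoc]
      exact huv'
    have hz : biprod.lift l (-(π₂ ≫ m - m₁)) ≫ biprod.desc g'.hom f'.hom = 0 := by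
      rw [biprod.lift_desc, Preadditive.neg_comp, Preadditive.sub_comp, huv'']
      abel
    obtain ⟨W₃, π₃, hπ₃, k, hk⟩ := hA.exact_shortComplex.exact_up_to_refinements _ hz
    have hk1 : π₃ ≫ l = k ≫ f.hom := by
      have h := congrArg (fun t => t ≫ (biprod.fst : L.obj ⊞ M.obj ⟶ L.obj)) hk
      have h' : (π₃ ≫ biprod.lift l (-(π₂ ≫ m - m₁))) ≫ (biprod.fst : L.obj ⊞ M.obj ⟶ L.obj) =
          (k ≫ biprod.lift f.hom (-g.hom)) ≫ biprod.fst := h
      rw [Category.assoc, Category.assoc, biprod.lift_fst, biprod.lift_fst] at h'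
      exact h'
    have h4 : (imageSubobject ((K.fil p).arrow ≫ f.hom)).Factors (π₃ ≫ l) := by
      rw [hf p]
      refine (Subobject.inf_factors _).mpr ⟨?_, ?_⟩
      · rw [hk1]
        exact imageSubobject_factors_comp_self _ _
      · rw [hl, ← Category.assoc]
        exact Subobject.factors_comp_arrow _
    obtain ⟨W₄, π₄, hπ₄, k', hk'⟩ := image_refine _ _ h4
    obtain ⟨k₁, hk₁⟩ : ∃ k₁ : W₄ ⟶ K.obj, k₁ = k' ≫ (K.fil p).arrow := ⟨_, rfl⟩
    have hk'' : (π₄ ≫ π₃) ≫ l = k₁ ≫ f.hom := by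
      rw [hk₁, Category.assoc, Category.assoc]
      exact hk'
    have hn : (M.fil p).Factors (k₁ ≫ g.hom + (π₄ ≫ π₃) ≫ m₁) :=
      Subobject.factors_add _ _
        (by rw [hk₁, Category.assoc]
            exact Subobject.factors_of_factors_right _ (hom_factors g p))
        (by rw [hm₁, ← Category.assoc]
            exact Subobject.factors_comp_arrow _)
    have hnf : (k₁ ≫ g.hom + (π₄ ≫ π₃) ≫ m₁) ≫ f'.hom =
        ((π₄ ≫ π₃) ≫ (π₂ ≫ π₁)) ≫ S.arrow := by
      rw [Category.assoc (π₄ ≫ π₃) (π₂ ≫ π₁) S.arrow, huv', Preadditive.add_comp,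
        Preadditive.comp_add, Category.assoc k₁, ← w, ← Category.assoc k₁, ← hk'']
      simp only [Category.assoc]
    haveI := hπ₁
    haveI := hπ₂
    haveI := hπ₃
    haveI := hπ₄
    refine le_of_refinement S _ ((π₄ ≫ π₃) ≫ (π₂ ≫ π₁)) inferInstance ?_
    rw [← hnf]
    have e : (k₁ ≫ g.hom + (π₄ ≫ π₃) ≫ m₁) ≫ f'.hom =
        (M.fil p).factorThru _ hn ≫ ((M.fil p).arrow ≫ f'.hom) := by
      rw [← Category.assoc, Subobject.factorThru_arrow]
    rw [e]
    exact imageSubobject_factors_comp_self _ _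

end general

theorem main {K L M : SpSeq.FilObj A} (f : K ⟶ L) (g : K ⟶ M) :
    HasPushout f g ∧ ∀ (P : SpSeq.FilObj A) (g' : L ⟶ P) (f' : M ⟶ P), IsPushout f g g' f' →
      SpSeq.FilObj.IsStrict f → SpSeq.FilObj.IsStrict f' :=
  ⟨hasPushout0 f g, fun _ g' f' hP hf => strict_pushout f g g' f' hP hf⟩

end helpers

/-- Pushouts exist in the category of filtered objects of an abelian category, and the pushout of a
strict morphism is strict. -/
theorem result {A : Type u} [Category.{v} A] [Abelian A] {K L M : SpSeq.FilObj A} (f : K ⟶ L) (g : K ⟶ M) : HasPushout f g ∧ ∀ (P : SpSeq.FilObj A) (g' : L ⟶ P) (f' : M ⟶ P), IsPushout f g g' f' → SpSeq.FilObj.IsStrict f → SpSeq.FilObj.IsStrict f' := by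
  exact Groth.Agent.S6803.main f g

end Groth.Agent.S6803
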