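import Groth.Statements.S6793
import Mathlib
import Groth.Agent.S6794
import Groth.Agent.S6803

set_option autoImplicit false
open CategoryTheory CategoryTheory.Limits
universe v u
open SpSeq SpSeq.FilCx

namespace Groth.Agent.S6793

section helpers

open CategoryTheory.Limits Groth.Agent.S6792 Groth.Agent.S6794

variable {A : Type u} [Category.{v} A] [Abelian A]

theorem factors_of_epi_comp {X W W' : A} (S : Subobject X) (π : W' ⟶ W) (hπ : Epi π) (x : W ⟶ X)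
    (h : S.Factors (π ≫ x)) : S.Factors x := by
  haveI : StrongEpi π := strongEpi_of_epi π
  have sq : CommSq (S.factorThru _ h) π S.arrow x := ⟨by simp⟩
  have := Subobject.factors_comp_arrow (P := S) sq.lift
  rwa [sq.fac_right] at this

theorem fac_of_le {X : A} {S T : Subobject X} (h : S ≤ T) : T.Factors S.arrow := by
  have := Subobject.factors_comp_arrow (P := T) (S.ofLE T h)
  rwa [Subobject.ofLE_arrow] at this

noncomputable abbrev SQ {X : A} (Z B : Subobject X) (h : B ≤ Z) : A := cokernel (B.ofLE Z h)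

noncomputable def cls {X : A} (Z B : Subobject X) (h : B ≤ Z) {W : A} (x : W ⟶ X)
    (hx : Z.Factors x) : W ⟶ SQ Z B h :=
  Z.factorThru x hx ≫ cokernel.π (B.ofLE Z h)

theorem cls_comp {X : A} (Z B : Subobject X) (h : B ≤ Z) {W W' : A} (π : W' ⟶ W) (x : W ⟶ X)
    (hx : Z.Factors x) :
    π ≫ cls Z B h x hx = cls Z B h (π ≫ x) (Subobject.factors_of_factors_right π hx) := by
  unfold cls
  rw [← Category.assoc, Subobject.factorThru_right]

theorem cls_congr {X : A} (Z B : Subobject X) (h : B ≤ Z) {W : A} {x y : W ⟶ X} (e : x = y)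
    (hx : Z.Factors x) (hy : Z.Factors y) : cls Z B h x hx = cls Z B h y hy := by
  subst e; rfl

theorem cls_eq_zero {X : A} (Z B : Subobject X) (h : B ≤ Z) {W : A} (x : W ⟶ X)
    (hx : Z.Factors x) (hb : B.Factors x) : cls Z B h x hx = 0 := by
  have e : Z.factorThru x hx = B.factorThru x hb ≫ B.ofLE Z h := by
    apply (cancel_mono Z.arrow).mp
    rw [Category.assoc, Subobject.ofLE_arrow, Subobject.factorThru_arrow,
      Subobject.factorThru_arrow]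
  unfold cls
  rw [e, Category.assoc, cokernel.condition, comp_zero]

theorem factors_of_cls_eq_zero {X : A} (Z B : Subobject X) (h : B ≤ Z) {W : A} (x : W ⟶ X)
    (hx : Z.Factors x) (e : cls Z B h x hx = 0) : B.Factors x := by
  have hex : (ShortComplex.mk (B.ofLE Z h) (cokernel.π (B.ofLE Z h))
      (cokernel.condition _)).Exact := ShortComplex.exact_cokernel _
  obtain ⟨W', π, hπ, y, hy⟩ : ∃ (W' : A) (π : W' ⟶ W) (_ : Epi π) (y : W' ⟶ (B : A)),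
      π ≫ Z.factorThru x hx = y ≫ B.ofLE Z h :=
    hex.exact_up_to_refinements (Z.factorThru x hx) e
  refine factors_of_epi_comp B π hπ x ?_
  have e2 : π ≫ x = y ≫ B.arrow := by
    rw [← Subobject.factorThru_arrow Z x hx, ← Category.assoc, hy, Category.assoc,
      Subobject.ofLE_arrow]
  rw [e2]
  exact Subobject.factors_comp_arrow y

theorem cls_surj {X : A} (Z B : Subobject X) (h : B ≤ Z) {W : A} (y : W ⟶ SQ Z B h) :
    ∃ (W' : A) (π : W' ⟶ W) (_ : Epi π) (x : W' ⟶ X) (hx : Z.Factors x),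
      π ≫ y = cls Z B h x hx := by
  obtain ⟨W', π, hπ, z, hz⟩ := surjective_up_to_refinements_of_epi (cokernel.π (B.ofLE Z h)) y
  refine ⟨W', π, hπ, z ≫ Z.arrow, Subobject.factors_comp_arrow z, ?_⟩
  rw [hz]
  unfold cls
  rw [Subobject.factorThru_comp_arrow]

theorem cls_eq_of_sub {X : A} (Z B : Subobject X) (h : B ≤ Z) {W : A} (x y : W ⟶ X)
    (hx : Z.Factors x) (hy : Z.Factors y) (hb : B.Factors (x - y)) :
    cls Z B h x hx = cls Z B h y hy := by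
  have hxy : Z.Factors (x - y) := Subobject.factors_of_le _ h hb
  have e3 : Z.factorThru x hx - Z.factorThru y hy = Z.factorThru (x - y) hxy := by
    apply (cancel_mono Z.arrow).mp
    rw [Preadditive.sub_comp, Subobject.factorThru_arrow, Subobject.factorThru_arrow,
      Subobject.factorThru_arrow]
  have e : cls Z B h x hx - cls Z B h y hy = cls Z B h (x - y) hxy := by
    unfold cls
    rw [← Preadditive.sub_comp, e3]
  have h0 := cls_eq_zero Z B h (x - y) hxy hb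
  rw [← e] at h0
  exact sub_eq_zero.mp h0

noncomputable def sqIncl {X : A} (Z B : Subobject X) (h : B ≤ Z) (Z' B' : Subobject X)
    (h' : B' ≤ Z') (hZ : Z ≤ Z') (hB : B ≤ B') : SQ Z B h ⟶ SQ Z' B' h' :=
  cokernel.desc _ (cls Z' B' h' Z.arrow (fac_of_le hZ)) (by
    rw [cls_comp]
    apply cls_eq_zero
    rw [Subobject.ofLE_arrow]
    exact fac_of_le hB)

theorem cls_sqIncl {X : A} (Z B : Subobject X) (h : B ≤ Z) (Z' B' : Subobject X)
    (h' : B' ≤ Z') (hZ : Z ≤ Z') (hB : B ≤ B') {W : A} (x : W ⟶ X) (hx : Z.Factors x)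
    (hx' : Z'.Factors x) :
    cls Z B h x hx ≫ sqIncl Z B h Z' B' h' hZ hB = cls Z' B' h' x hx' := by
  have e2 : Z.factorThru x hx ≫ Z'.factorThru Z.arrow (fac_of_le hZ) = Z'.factorThru x hx' := by
    apply (cancel_mono Z'.arrow).mp
    rw [Category.assoc, Subobject.factorThru_arrow, Subobject.factorThru_arrow,
      Subobject.factorThru_arrow]
  unfold sqIncl cls
  rw [Category.assoc, cokernel.π_desc, ← Category.assoc, e2]

theorem exists_incl {X : A} (Z B : Subobject X) (h : B ≤ Z) (Z' B' : Subobject X)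
    (h' : B' ≤ Z') (hZ : Z ≤ Z') (hB : B ≤ B') :
    ∃ ι : SQ Z B h ⟶ SQ Z' B' h', ∀ {W : A} (x : W ⟶ X) (hx : Z.Factors x) (hx' : Z'.Factors x),
      cls Z B h x hx ≫ ι = cls Z' B' h' x hx' :=
  ⟨sqIncl Z B h Z' B' h' hZ hB, fun x hx hx' => cls_sqIncl Z B h Z' B' h' hZ hB x hx hx'⟩

theorem mono_of_rule {X : A} (Z B : Subobject X) (h : B ≤ Z) (Z' B' : Subobject X) (h' : B' ≤ Z')
    (ι : SQ Z B h ⟶ SQ Z' B' h') (hZ : Z ≤ Z')
    (rule : ∀ {W : A} (x : W ⟶ X) (hx : Z.Factors x) (hx' : Z'.Factors x),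
      cls Z B h x hx ≫ ι = cls Z' B' h' x hx')
    (hcrit : ∀ {W : A} (x : W ⟶ X), Z.Factors x → B'.Factors x → B.Factors x) : Mono ι := by
  apply Preadditive.mono_of_cancel_zero
  intro W g hg
  obtain ⟨W', π, hπ, x, hx, e⟩ := cls_surj Z B h g
  have hx' : Z'.Factors x := Subobject.factors_of_le _ hZ hx
  have h1 : cls Z' B' h' x hx' = 0 := by
    rw [← rule x hx hx', ← e, Category.assoc, hg, comp_zero]
  have h2 := hcrit x hx (factors_of_cls_eq_zero Z' B' h' x hx' h1)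
  have h3 : π ≫ g = 0 := by rw [e]; exact cls_eq_zero Z B h x hx h2
  exact (cancel_epi π).mp (by rw [h3, comp_zero])

theorem epi_of_rule {X : A} (Z B : Subobject X) (h : B ≤ Z) (Z' B' : Subobject X) (h' : B' ≤ Z')
    (q : SQ Z B h ⟶ SQ Z' B' h') (hZ : Z ≤ Z')
    (rule : ∀ {W : A} (x : W ⟶ X) (hx : Z.Factors x) (hx' : Z'.Factors x),
      cls Z B h x hx ≫ q = cls Z' B' h' x hx')
    (hcrit : ∀ {W : A} (y : W ⟶ X), Z'.Factors y → ∃ (W' : A) (π : W' ⟶ W) (_ : Epi π)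
      (x : W' ⟶ X), Z.Factors x ∧ B'.Factors (π ≫ y - x)) : Epi q := by
  rw [epi_iff_surjective_up_to_refinements]
  intro W y
  obtain ⟨W₁, π₁, hπ₁, y₀, hy₀, e⟩ := cls_surj Z' B' h' y
  obtain ⟨W₂, π₂, hπ₂, x, hx, hb⟩ := hcrit y₀ hy₀
  refine ⟨W₂, π₂ ≫ π₁, epi_comp _ _, cls Z B h x hx, ?_⟩
  rw [Category.assoc, e, cls_comp, rule x hx (Subobject.factors_of_le _ hZ hx)]
  exact cls_eq_of_sub _ _ _ _ _ _ _ hb

theorem sup_refine' {X W : A} (S T : Subobject X) (x : W ⟶ X) (h : (S ⊔ T).Factors x) :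
    ∃ (W' : A) (π : W' ⟶ W) (_ : Epi π) (u v : W' ⟶ X), π ≫ x = u + v ∧ S.Factors u ∧
      T.Factors v := by
  have e : S ⊔ T = imageSubobject S.arrow ⊔ imageSubobject T.arrow := by
    rw [imageSubobject_mono, imageSubobject_mono, Subobject.mk_arrow, Subobject.mk_arrow]
  rw [e] at h
  obtain ⟨W', π, hπ, u, v, huv⟩ := Groth.Agent.S6803.sup_refine S.arrow T.arrow x h
  exact ⟨W', π, hπ, u ≫ S.arrow, v ≫ T.arrow, huv, Subobject.factors_comp_arrow u,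
    Subobject.factors_comp_arrow v⟩

theorem P_mid (P : ObjectProperty A)
    (hP : ∀ S : ComposableArrows A 4, S.Exact → P (S.obj 0) → P (S.obj 1) → P (S.obj 3) →
      P (S.obj 4) → P (S.obj 2))
    {X₀ X₁ X₂ X₃ X₄ : A} (f₀ : X₀ ⟶ X₁) (f₁ : X₁ ⟶ X₂) (f₂ : X₂ ⟶ X₃) (f₃ : X₃ ⟶ X₄)
    (w₀ : f₀ ≫ f₁ = 0) (w₁ : f₁ ≫ f₂ = 0) (w₂ : f₂ ≫ f₃ = 0)
    (e₀ : (ShortComplex.mk f₀ f₁ w₀).Exact) (e₁ : (ShortComplex.mk f₁ f₂ w₁).Exact)
    (e₂ : (ShortComplex.mk f₂ f₃ w₂).Exact)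
    (h0 : P X₀) (h1 : P X₁) (h3 : P X₃) (h4 : P X₄) : P X₂ := by
  let S : ComposableArrows A 4 := ComposableArrows.mk₄ f₀ f₁ f₂ f₃
  have hS : S.Exact := ComposableArrows.exact_of_δ₀ e₀.exact_toComposableArrows
    (ComposableArrows.exact_of_δ₀ e₁.exact_toComposableArrows e₂.exact_toComposableArrows)
  exact hP S hS h0 h1 h3 h4

theorem P_ker (P : ObjectProperty A)
    (hP : ∀ S : ComposableArrows A 4, S.Exact → P (S.obj 0) → P (S.obj 1) → P (S.obj 3) →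
      P (S.obj 4) → P (S.obj 2))
    (Z₀ : A) (hZ₀ : IsZero Z₀) (hPZ₀ : P Z₀) {N E E' : A} (ι : N ⟶ E) (β : E ⟶ E') [Mono ι]
    (w : ι ≫ β = 0) (ex : (ShortComplex.mk ι β w).Exact) (hE : P E) (hE' : P E') : P N := by
  have w₀ : (0 : Z₀ ⟶ Z₀) ≫ (0 : Z₀ ⟶ N) = 0 := comp_zero
  have w₁ : (0 : Z₀ ⟶ N) ≫ ι = 0 := zero_comp
  have e₀ : (ShortComplex.mk _ _ w₀).Exact := ShortComplex.exact_of_isZero_X₂ _ hZ₀
  have e₁ : (ShortComplex.mk _ _ w₁).Exact := by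
    rw [ShortComplex.exact_iff_mono _ rfl]; dsimp; infer_instance
  exact P_mid P hP _ _ _ _ w₀ w₁ w e₀ e₁ ex hPZ₀ hPZ₀ hE hE'

theorem P_coker (P : ObjectProperty A)
    (hP : ∀ S : ComposableArrows A 4, S.Exact → P (S.obj 0) → P (S.obj 1) → P (S.obj 3) →
      P (S.obj 4) → P (S.obj 2))
    (Z₀ : A) (hZ₀ : IsZero Z₀) (hPZ₀ : P Z₀) {E N E1 : A} (α : E ⟶ N) (q : N ⟶ E1) [Epi q]
    (w : α ≫ q = 0) (ex : (ShortComplex.mk α q w).Exact) (hE : P E) (hN : P N) : P E1 := by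
  have w₁ : q ≫ (0 : E1 ⟶ Z₀) = 0 := comp_zero
  have w₂ : (0 : E1 ⟶ Z₀) ≫ (0 : Z₀ ⟶ Z₀) = 0 := comp_zero
  have e₁ : (ShortComplex.mk _ _ w₁).Exact := by
    rw [ShortComplex.exact_iff_epi _ rfl]; dsimp; infer_instance
  have e₂ : (ShortComplex.mk _ _ w₂).Exact := ShortComplex.exact_of_isZero_X₂ _ hZ₀
  exact P_mid P hP _ _ _ _ w w₁ w₂ ex e₁ e₂ hE hN hPZ₀ hPZ₀

theorem P_ext (P : ObjectProperty A)
    (hP : ∀ S : ComposableArrows A 4, S.Exact → P (S.obj 0) → P (S.obj 1) → P (S.obj 3) →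
      P (S.obj 4) → P (S.obj 2))
    (Z₀ : A) (hZ₀ : IsZero Z₀) (hPZ₀ : P Z₀) {M' M M'' : A} (i : M' ⟶ M) (q : M ⟶ M'') [Mono i]
    [Epi q] (w : i ≫ q = 0) (ex : (ShortComplex.mk i q w).Exact) (h1 : P M') (h2 : P M'') :
    P M := by
  have w₀ : (0 : Z₀ ⟶ M') ≫ i = 0 := zero_comp
  have w₂ : q ≫ (0 : M'' ⟶ Z₀) = 0 := comp_zero
  have e₀ : (ShortComplex.mk _ _ w₀).Exact := by
    rw [ShortComplex.exact_iff_mono _ rfl]; dsimp; infer_instance
  have e₂ : (ShortComplex.mk _ _ w₂).Exact := by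
    rw [ShortComplex.exact_iff_epi _ rfl]; dsimp; infer_instance
  exact P_mid P hP _ _ _ _ w₀ w w₂ e₀ ex e₂ hPZ₀ h1 h2 hPZ₀

theorem P_congr (P : ObjectProperty A) {X : A} {Z Z' B B' : Subobject X} (eZ : Z = Z')
    (eB : B = B') (h : B ≤ Z) (h' : B' ≤ Z') (hP : P (SQ Z B h)) : P (SQ Z' B' h') := by
  subst eZ eB; exact hP

variable (K : SpSeq.FilCx A)

theorem zs_elim (r : ℕ) (p m q m' : ℤ) (hq : q = p + (r : ℤ)) (hm : m' = m + 1) {W : A}
    (x : W ⟶ K.obj.X m) (h : (K.ZSub r p m).Factors x) :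
    ∃ (W' : A) (π : W' ⟶ W) (_ : Epi π) (u v : W' ⟶ K.obj.X m), π ≫ x = u + v ∧
      (K.filX p m).Factors u ∧ (K.filX q m').Factors (u ≫ K.obj.d m m') ∧
      (K.filX (p + 1) m).Factors v := by
  subst hq hm
  unfold SpSeq.FilCx.ZSub at h
  obtain ⟨W', π, hπ, u, v, huv, hu, hv⟩ := sup_refine' _ _ x h
  exact ⟨W', π, hπ, u, v, huv, ((Subobject.inf_factors u).mp hu).1,
    (pullback_factors_iff _ _ _).mp ((Subobject.inf_factors u).mp hu).2, hv⟩

theorem zs_intro (r : ℕ) (p m q m' : ℤ) (hq : p + (r : ℤ) ≤ q) (hm : m' = m + 1) {W : A}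
    (u : W ⟶ K.obj.X m) (h1 : (K.filX p m).Factors u)
    (h2 : (K.filX q m').Factors (u ≫ K.obj.d m m')) : (K.ZSub r p m).Factors u := by
  subst hm
  unfold SpSeq.FilCx.ZSub
  exact Subobject.sup_factors_of_factors_left ((Subobject.inf_factors u).mpr
    ⟨h1, (pullback_factors_iff _ _ _).mpr
      (Subobject.factors_of_le _ (filX_le K (m + 1) hq) h2)⟩)

theorem bs_elim (r : ℕ) (p n q m : ℤ) (hq : q = p - (r : ℤ) + 1) (hm : m = n - 1) {W : A}
    (x : W ⟶ K.obj.X n) (h : (K.BSub r p n).Factors x) :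
    ∃ (W' : A) (π : W' ⟶ W) (_ : Epi π) (w : W' ⟶ K.obj.X m) (v : W' ⟶ K.obj.X n),
      π ≫ x = w ≫ K.obj.d m n + v ∧ (K.filX q m).Factors w ∧
      (K.filX p n).Factors (w ≫ K.obj.d m n) ∧ (K.filX (p + 1) n).Factors v := by
  subst hq hm
  unfold SpSeq.FilCx.BSub at h
  obtain ⟨W₁, π₁, hπ₁, u, v, huv, hu, hv⟩ := sup_refine' _ _ x h
  have hu1 := ((Subobject.inf_factors u).mp hu).1
  have hu2 := ((Subobject.inf_factors u).mp hu).2
  obtain ⟨W₂, π₂, hπ₂, w, hw⟩ := image_refine _ u hu2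
  refine ⟨W₂, π₂ ≫ π₁, epi_comp _ _, w ≫ (K.filX (p - (r : ℤ) + 1) (n - 1)).arrow, π₂ ≫ v, ?_,
    Subobject.factors_comp_arrow w, ?_, Subobject.factors_of_factors_right π₂ hv⟩
  · rw [Category.assoc, huv, Preadditive.comp_add, hw, Category.assoc]
  · rw [Category.assoc, ← hw]
    exact Subobject.factors_of_factors_right π₂ hu1

theorem bs_intro (r : ℕ) (p n q m : ℤ) (hq : p - (r : ℤ) + 1 ≤ q) (hm : m = n - 1) {W : A}
    (w : W ⟶ K.obj.X m) (h1 : (K.filX q m).Factors w)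
    (h2 : (K.filX p n).Factors (w ≫ K.obj.d m n)) :
    (K.BSub r p n).Factors (w ≫ K.obj.d m n) := by
  subst hm
  unfold SpSeq.FilCx.BSub
  refine Subobject.sup_factors_of_factors_left ((Subobject.inf_factors _).mpr ⟨h2, ?_⟩)
  have h1' : (K.filX (p - (r : ℤ) + 1) (n - 1)).Factors w :=
    Subobject.factors_of_le _ (filX_le K (n - 1) hq) h1
  have e : w ≫ K.obj.d (n - 1) n = (K.filX (p - (r : ℤ) + 1) (n - 1)).factorThru w h1' ≫
      ((K.filX (p - (r : ℤ) + 1) (n - 1)).arrow ≫ K.obj.d (n - 1) n) := by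
    rw [← Category.assoc, Subobject.factorThru_arrow]
  rw [e]
  exact imageSubobject_factors_comp_self _ _

theorem bs_intro' (r : ℕ) (p n q : ℤ) (hq : p + 1 ≤ q) {W : A} (v : W ⟶ K.obj.X n)
    (h : (K.filX q n).Factors v) : (K.BSub r p n).Factors v := by
  unfold SpSeq.FilCx.BSub
  exact Subobject.sup_factors_of_factors_right (Subobject.factors_of_le _ (filX_le K n hq) h)

theorem filX_succ_le_BSub (r : ℕ) (p n : ℤ) : K.filX (p + 1) n ≤ K.BSub r p n := by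
  unfold SpSeq.FilCx.BSub
  exact le_sup_right

theorem zs_surj (r : ℕ) (p m q m' : ℤ) (hq : q = p + (r : ℤ)) (hm : m' = m + 1)
    (B : Subobject (K.obj.X m)) (h : B ≤ K.ZSub r p m) (hB : K.filX (p + 1) m ≤ B) {W : A}
    (y : W ⟶ SQ (K.ZSub r p m) B h) :
    ∃ (W' : A) (π : W' ⟶ W) (_ : Epi π) (x : W' ⟶ K.obj.X m) (_ : (K.filX p m).Factors x)
      (_ : (K.filX q m').Factors (x ≫ K.obj.d m m')) (hx : (K.ZSub r p m).Factors x),
      π ≫ y = cls (K.ZSub r p m) B h x hx := by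
  obtain ⟨W₁, π₁, hπ₁, x₀, hx₀, e₀⟩ := cls_surj _ B h y
  obtain ⟨W₂, π₂, hπ₂, u, v, huv, hu1, hu2, hv⟩ := zs_elim K r p m q m' hq hm x₀ hx₀
  have hu : (K.ZSub r p m).Factors u := zs_intro K r p m q m' (by omega) hm u hu1 hu2
  refine ⟨W₂, π₂ ≫ π₁, epi_comp _ _, u, hu1, hu2, hu, ?_⟩
  rw [Category.assoc, e₀, cls_comp]
  apply cls_eq_of_sub
  rw [huv, add_sub_cancel_left]
  exact Subobject.factors_of_le _ hB hv

set_option maxHeartbeats 800000 in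
theorem exists_dMap (r : ℕ) (p₁ p₂ m m' : ℤ) (hp : p₂ = p₁ + (r : ℤ)) (hm : m' = m + 1)
    (Z' B' : Subobject (K.obj.X m')) (h' : B' ≤ Z')
    (c1 : ∀ {W : A} (x : W ⟶ K.obj.X m), (K.filX p₁ m).Factors x →
      (K.filX p₂ m').Factors (x ≫ K.obj.d m m') → Z'.Factors (x ≫ K.obj.d m m'))
    (c2 : ∀ {W : A} (v : W ⟶ K.obj.X m), (K.filX (p₁ + 1) m).Factors v →
      (K.filX p₂ m').Factors (v ≫ K.obj.d m m') → B'.Factors (v ≫ K.obj.d m m')) :
    ∃ δ : SQ (K.ZSub r p₁ m) (K.BSub r p₁ m) (K.BSub_le_ZSub r p₁ m) ⟶ SQ Z' B' h',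
      ∀ {W : A} (x : W ⟶ K.obj.X m) (_ : (K.filX p₁ m).Factors x)
        (_ : (K.filX p₂ m').Factors (x ≫ K.obj.d m m'))
        (hx : (K.ZSub r p₁ m).Factors x) (hx' : Z'.Factors (x ≫ K.obj.d m m')),
        cls _ _ (K.BSub_le_ZSub r p₁ m) x hx ≫ δ = cls Z' B' h' (x ≫ K.obj.d m m') hx' := by
  subst hp hm
  have hVm : ∀ {W : A} (x : W ⟶ K.obj.X m), (K.filX p₁ m).Factors x →
      (K.filX (p₁ + (r : ℤ)) (m + 1)).Factors (x ≫ K.obj.d m (m + 1)) →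
      (K.filX p₁ m ⊓ (Subobject.pullback (K.obj.d m (m + 1))).obj
        (K.filX (p₁ + (r : ℤ)) (m + 1))).Factors x :=
    fun x h1 h2 => (Subobject.inf_factors x).mpr ⟨h1, (pullback_factors_iff _ _ _).mpr h2⟩
  obtain ⟨V, hV⟩ : ∃ V : Subobject (K.obj.X m), V = K.filX p₁ m ⊓
      (Subobject.pullback (K.obj.d m (m + 1))).obj (K.filX (p₁ + (r : ℤ)) (m + 1)) := ⟨_, rfl⟩
  rw [← hV] at hVm
  have hV1 : (K.filX p₁ m).Factors V.arrow := by
    rw [hV]; exact Subobject.inf_arrow_factors_left _ _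
  have hV2 : (K.filX (p₁ + (r : ℤ)) (m + 1)).Factors (V.arrow ≫ K.obj.d m (m + 1)) := by
    rw [hV]; exact (pullback_factors_iff _ _ _).mp (Subobject.inf_arrow_factors_right _ _)
  have hVZ : (K.ZSub r p₁ m).Factors V.arrow :=
    zs_intro K r p₁ m (p₁ + (r : ℤ)) (m + 1) le_rfl rfl V.arrow hV1 hV2
  obtain ⟨e, he⟩ : ∃ e : (V : A) ⟶ SQ (K.ZSub r p₁ m) (K.BSub r p₁ m) (K.BSub_le_ZSub r p₁ m),
      e = cls _ _ _ V.arrow hVZ := ⟨_, rfl⟩
  have hcls : ∀ {W : A} (x : W ⟶ K.obj.X m) (hxV : V.Factors x)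
      (hx : (K.ZSub r p₁ m).Factors x),
      cls _ _ (K.BSub_le_ZSub r p₁ m) x hx = V.factorThru x hxV ≫ e := by
    intro W x hxV hx
    rw [he, cls_comp]
    exact cls_congr _ _ _ (Subobject.factorThru_arrow V x hxV).symm _ _
  haveI : Epi e := by
    rw [epi_iff_surjective_up_to_refinements]
    intro W y
    obtain ⟨W', π, hπ, x, hx1, hx2, hx, hy⟩ := zs_surj K r p₁ m (p₁ + (r : ℤ)) (m + 1) rfl rfl
      _ (K.BSub_le_ZSub r p₁ m) (filX_succ_le_BSub K r p₁ m) y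
    exact ⟨W', π, hπ, V.factorThru x (hVm x hx1 hx2), by rw [hy]; exact hcls x _ hx⟩
  have hg0 : Z'.Factors (V.arrow ≫ K.obj.d m (m + 1)) := c1 V.arrow hV1 hV2
  obtain ⟨g, hgdef⟩ : ∃ g : (V : A) ⟶ SQ Z' B' h',
      g = cls Z' B' h' (V.arrow ≫ K.obj.d m (m + 1)) hg0 := ⟨_, rfl⟩
  have hgk : kernel.ι e ≫ g = 0 := by
    rw [hgdef, cls_comp]
    apply cls_eq_zero
    have hxV : V.Factors (kernel.ι e ≫ V.arrow) := Subobject.factors_comp_arrow _
    have hxZ : (K.ZSub r p₁ m).Factors (kernel.ι e ≫ V.arrow) :=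
      Subobject.factors_of_factors_right _ hVZ
    have h0 : cls _ _ (K.BSub_le_ZSub r p₁ m) (kernel.ι e ≫ V.arrow) hxZ = 0 := by
      rw [hcls _ hxV hxZ, Subobject.factorThru_comp_arrow, kernel.condition]
    have hb := factors_of_cls_eq_zero _ _ _ _ hxZ h0
    obtain ⟨W', π, hπ, w, v, hwv, -, -, hv⟩ :=
      bs_elim K r p₁ m (p₁ - (r : ℤ) + 1) (m - 1) rfl rfl _ hb
    have e1 : π ≫ kernel.ι e ≫ V.arrow ≫ K.obj.d m (m + 1) = v ≫ K.obj.d m (m + 1) := by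
      rw [← Category.assoc (kernel.ι e), ← Category.assoc π, hwv, Preadditive.add_comp,
        Category.assoc, K.obj.d_comp_d, comp_zero, zero_add]
    refine factors_of_epi_comp B' π hπ _ ?_
    rw [e1]
    refine c2 v hv ?_
    rw [← e1]
    exact Subobject.factors_of_factors_right _ (Subobject.factors_of_factors_right _ hV2)
  refine ⟨Abelian.epiDesc e g hgk, ?_⟩
  intro W x hx1 hx2 hx hx'
  have hxV : V.Factors x := hVm x hx1 hx2
  rw [hcls x hxV hx, Category.assoc, Abelian.comp_epiDesc, hgdef, cls_comp]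
  exact cls_congr _ _ _ (by rw [← Category.assoc, Subobject.factorThru_arrow]) _ _

theorem BSub_le_ZSub' (r r' : ℕ) (p n : ℤ) : K.BSub r p n ≤ K.ZSub r' p n := by
  unfold SpSeq.FilCx.BSub SpSeq.FilCx.ZSub
  exact sup_le_sup_right (inf_le_inf_left _ (K.image_d_le_pullback n _ _)) _

theorem ZSub_succ_le (r : ℕ) (p n : ℤ) : K.ZSub (r + 1) p n ≤ K.ZSub r p n := by
  unfold SpSeq.FilCx.ZSub
  exact sup_le_sup_right (inf_le_inf_left _ ((Subobject.pullback _).map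
    (homOfLE (filX_le K (n + 1) (by push_cast; omega)))).le) _

theorem BSub_le_succ (r : ℕ) (p n : ℤ) : K.BSub r p n ≤ K.BSub (r + 1) p n := by
  unfold SpSeq.FilCx.BSub
  exact sup_le_sup_right (inf_le_inf_left _ (Groth.Agent.S6803.image_comp_mono
    (filX_le K (n - 1) (by push_cast; omega)) _)) _

theorem zero_factors_dd (n : ℤ) {W : A} (x : W ⟶ K.obj.X n) (n₁ n₂ : ℤ)
    (T : Subobject (K.obj.X n₂)) : T.Factors ((x ≫ K.obj.d n n₁) ≫ K.obj.d n₁ n₂) := by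
  rw [Category.assoc, K.obj.d_comp_d, comp_zero]
  exact Subobject.factors_zero

set_option maxHeartbeats 1600000 in
theorem P_succ (P : ObjectProperty A)
    (hP : ∀ S : ComposableArrows A 4, S.Exact → P (S.obj 0) → P (S.obj 1) → P (S.obj 3) →
      P (S.obj 4) → P (S.obj 2))
    (Z₀ : A) (hZ₀ : IsZero Z₀) (hPZ₀ : P Z₀) (r : ℕ)
    (hr : ∀ p n : ℤ, P (SQ (K.ZSub r p n) (K.BSub r p n) (K.BSub_le_ZSub r p n))) (p n : ℤ) :
    P (SQ (K.ZSub (r + 1) p n) (K.BSub (r + 1) p n) (K.BSub_le_ZSub (r + 1) p n)) := by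
  have hBZ1 : K.BSub r p n ≤ K.ZSub (r + 1) p n := BSub_le_ZSub' K r (r + 1) p n
  have hZZ : K.ZSub (r + 1) p n ≤ K.ZSub r p n := ZSub_succ_le K r p n
  have hBB : K.BSub r p n ≤ K.BSub (r + 1) p n := BSub_le_succ K r p n
  have hFB : K.filX (p + 1) n ≤ K.BSub r p n := filX_succ_le_BSub K r p n
  obtain ⟨β, rβ⟩ := exists_dMap K r p (p + (r : ℤ)) n (n + 1) rfl rfl
    (K.ZSub r (p + (r : ℤ)) (n + 1)) (K.BSub r (p + (r : ℤ)) (n + 1))
    (K.BSub_le_ZSub r (p + (r : ℤ)) (n + 1))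
    (fun x _ h2 => zs_intro K r (p + (r : ℤ)) (n + 1) (p + (r : ℤ) + (r : ℤ)) (n + 1 + 1) le_rfl rfl
      _ h2 (zero_factors_dd K n x _ _ _))
    (fun v h1 h2 => bs_intro K r (p + (r : ℤ)) (n + 1) (p + 1) n (by omega) (by omega) v h1 h2)
  obtain ⟨α, rα⟩ := exists_dMap K r (p - (r : ℤ)) p (n - 1) n (by omega) (by omega)
    (K.ZSub (r + 1) p n) (K.BSub r p n) hBZ1
    (fun x _ h2 => zs_intro K (r + 1) p n (p + ((r + 1 : ℕ) : ℤ)) (n + 1) le_rfl rfl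
      _ h2 (zero_factors_dd K (n - 1) x _ _ _))
    (fun v h1 h2 => bs_intro K r p n (p - (r : ℤ) + 1) (n - 1) le_rfl rfl v h1 h2)
  obtain ⟨ι, rι⟩ := exists_incl (K.ZSub (r + 1) p n) (K.BSub r p n) hBZ1 (K.ZSub r p n)
    (K.BSub r p n) (K.BSub_le_ZSub r p n) hZZ le_rfl
  obtain ⟨q, rq⟩ := exists_incl (K.ZSub (r + 1) p n) (K.BSub r p n) hBZ1 (K.ZSub (r + 1) p n)
    (K.BSub (r + 1) p n) (K.BSub_le_ZSub (r + 1) p n) le_rfl hBB
  haveI : Mono ι := mono_of_rule _ _ _ _ _ _ ι hZZ rι (fun x _ hb => hb)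
  haveI : Epi q := epi_of_rule _ _ _ _ _ _ q le_rfl rq (fun y hy =>
    ⟨_, 𝟙 _, inferInstance, y, hy, by
      rw [Category.id_comp, sub_self]; exact Subobject.factors_zero⟩)
  -- kernel part
  have w1 : ι ≫ β = 0 := by
    obtain ⟨W, π, hπ, x, hx1, hx2, hx, e⟩ := zs_surj K (r + 1) p n (p + ((r + 1 : ℕ) : ℤ)) (n + 1)
      rfl rfl (K.BSub r p n) hBZ1 hFB (𝟙 _)
    rw [Category.comp_id] at e
    apply (cancel_epi π).mp
    have hx2' : (K.filX (p + (r : ℤ)) (n + 1)).Factors (x ≫ K.obj.d n (n + 1)) :=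
      Subobject.factors_of_le _ (filX_le K (n + 1) (by push_cast; omega)) hx2
    have hx' : (K.ZSub r (p + (r : ℤ)) (n + 1)).Factors (x ≫ K.obj.d n (n + 1)) :=
      zs_intro K r (p + (r : ℤ)) (n + 1) (p + (r : ℤ) + (r : ℤ)) (n + 1 + 1) le_rfl rfl _ hx2'
        (zero_factors_dd K n x _ _ _)
    rw [comp_zero, e, ← Category.assoc, rι x hx (Subobject.factors_of_le _ hZZ hx),
      rβ x hx1 hx2' _ hx']
    apply cls_eq_zero
    exact bs_intro' K r (p + (r : ℤ)) (n + 1) (p + ((r + 1 : ℕ) : ℤ)) (by push_cast; omega) _ hx2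
  have ex1 : (ShortComplex.mk ι β w1).Exact := by
    rw [ShortComplex.exact_iff_exact_up_to_refinements]
    intro W (y : W ⟶ SQ (K.ZSub r p n) (K.BSub r p n) (K.BSub_le_ZSub r p n)) (hy : y ≫ β = 0)
    obtain ⟨W₁, π₁, hπ₁, x, hx1, hx2, hx, e⟩ := zs_surj K r p n (p + (r : ℤ)) (n + 1) rfl rfl
      (K.BSub r p n) (K.BSub_le_ZSub r p n) hFB y
    have hx' : (K.ZSub r (p + (r : ℤ)) (n + 1)).Factors (x ≫ K.obj.d n (n + 1)) :=
      zs_intro K r (p + (r : ℤ)) (n + 1) (p + (r : ℤ) + (r : ℤ)) (n + 1 + 1) le_rfl rfl _ hx2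
        (zero_factors_dd K n x _ _ _)
    have h0 : cls _ _ (K.BSub_le_ZSub r (p + (r : ℤ)) (n + 1)) (x ≫ K.obj.d n (n + 1)) hx' = 0 := by
      rw [← rβ x hx1 hx2 hx hx', ← e, Category.assoc, hy, comp_zero]
    have hb := factors_of_cls_eq_zero _ _ _ _ hx' h0
    obtain ⟨W₂, π₂, hπ₂, w, v, hwv, hw1, -, hv⟩ :=
      bs_elim K r (p + (r : ℤ)) (n + 1) (p + 1) n (by omega) (by omega) _ hb
    have hx'1 : (K.filX p n).Factors (π₂ ≫ x - w) :=
      factors_sub _ _ _ (Subobject.factors_of_factors_right π₂ hx1)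
        (Subobject.factors_of_le _ (filX_le K n (by omega)) hw1)
    have ed : (π₂ ≫ x - w) ≫ K.obj.d n (n + 1) = v := by
      rw [Preadditive.sub_comp, Category.assoc, hwv, add_sub_cancel_left]
    have hx'2 : (K.filX (p + ((r + 1 : ℕ) : ℤ)) (n + 1)).Factors
        ((π₂ ≫ x - w) ≫ K.obj.d n (n + 1)) := by
      rw [ed]
      exact Subobject.factors_of_le _ (filX_le K (n + 1) (by push_cast; omega)) hv
    have hxN : (K.ZSub (r + 1) p n).Factors (π₂ ≫ x - w) :=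
      zs_intro K (r + 1) p n _ (n + 1) le_rfl rfl _ hx'1 hx'2
    refine ⟨W₂, π₂ ≫ π₁, epi_comp _ _, cls _ _ hBZ1 (π₂ ≫ x - w) hxN, ?_⟩
    show (π₂ ≫ π₁) ≫ y = cls _ _ hBZ1 (π₂ ≫ x - w) hxN ≫ ι
    rw [Category.assoc, e, cls_comp, rι _ hxN (Subobject.factors_of_le _ hZZ hxN)]
    apply cls_eq_of_sub
    rw [sub_sub_cancel]
    exact Subobject.factors_of_le _ hFB hw1
  have hPN : P (SQ (K.ZSub (r + 1) p n) (K.BSub r p n) hBZ1) :=
    P_ker P hP Z₀ hZ₀ hPZ₀ ι β w1 ex1 (hr p n) (hr (p + (r : ℤ)) (n + 1))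
  -- cokernel part
  have w2 : α ≫ q = 0 := by
    obtain ⟨W, π, hπ, x, hx1, hx2, hx, e⟩ := zs_surj K r (p - (r : ℤ)) (n - 1) p n (by omega)
      (by omega) (K.BSub r (p - (r : ℤ)) (n - 1)) (K.BSub_le_ZSub r (p - (r : ℤ)) (n - 1))
      (filX_succ_le_BSub K r (p - (r : ℤ)) (n - 1)) (𝟙 _)
    rw [Category.comp_id] at e
    apply (cancel_epi π).mp
    have hx' : (K.ZSub (r + 1) p n).Factors (x ≫ K.obj.d (n - 1) n) :=
      zs_intro K (r + 1) p n (p + ((r + 1 : ℕ) : ℤ)) (n + 1) le_rfl rfl _ hx2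
        (zero_factors_dd K (n - 1) x _ _ _)
    rw [comp_zero, e, ← Category.assoc, rα x hx1 hx2 hx hx', rq _ hx' hx']
    apply cls_eq_zero
    exact bs_intro K (r + 1) p n (p - (r : ℤ)) (n - 1) (by push_cast; omega) rfl x hx1 hx2
  have ex2 : (ShortComplex.mk α q w2).Exact := by
    rw [ShortComplex.exact_iff_exact_up_to_refinements]
    intro W (y : W ⟶ SQ (K.ZSub (r + 1) p n) (K.BSub r p n) hBZ1) (hy : y ≫ q = 0)
    obtain ⟨W₁, π₁, hπ₁, x, hx1, hx2, hx, e⟩ := zs_surj K (r + 1) p n (p + ((r + 1 : ℕ) : ℤ))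
      (n + 1) rfl rfl (K.BSub r p n) hBZ1 hFB y
    have h0 : cls _ _ (K.BSub_le_ZSub (r + 1) p n) x hx = 0 := by
      rw [← rq x hx hx, ← e, Category.assoc, hy, comp_zero]
    have hb := factors_of_cls_eq_zero _ _ _ _ hx h0
    obtain ⟨W₂, π₂, hπ₂, w, v, hwv, hw1, hw2, hv⟩ :=
      bs_elim K (r + 1) p n (p - (r : ℤ)) (n - 1) (by push_cast; omega) rfl _ hb
    have hwZ : (K.ZSub r (p - (r : ℤ)) (n - 1)).Factors w :=
      zs_intro K r (p - (r : ℤ)) (n - 1) p n (by omega) (by omega) w hw1 hw2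
    have hw' : (K.ZSub (r + 1) p n).Factors (w ≫ K.obj.d (n - 1) n) :=
      zs_intro K (r + 1) p n (p + ((r + 1 : ℕ) : ℤ)) (n + 1) le_rfl rfl _ hw2
        (zero_factors_dd K (n - 1) w _ _ _)
    refine ⟨W₂, π₂ ≫ π₁, epi_comp _ _, cls _ _ (K.BSub_le_ZSub r (p - (r : ℤ)) (n - 1)) w hwZ, ?_⟩
    show (π₂ ≫ π₁) ≫ y = cls _ _ (K.BSub_le_ZSub r (p - (r : ℤ)) (n - 1)) w hwZ ≫ α
    rw [Category.assoc, e, cls_comp, rα w hw1 hw2 hwZ hw']
    apply cls_eq_of_sub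
    rw [hwv, add_sub_cancel_left]
    exact Subobject.factors_of_le _ hFB hv
  exact P_coker P hP Z₀ hZ₀ hPZ₀ α q w2 ex2 (hr (p - (r : ℤ)) (n - 1)) hPN

theorem P_pages (P : ObjectProperty A)
    (hP : ∀ S : ComposableArrows A 4, S.Exact → P (S.obj 0) → P (S.obj 1) → P (S.obj 3) →
      P (S.obj 4) → P (S.obj 2))
    (Z₀ : A) (hZ₀ : IsZero Z₀) (hPZ₀ : P Z₀) (r : ℕ)
    (hr : ∀ p n : ℤ, P (SQ (K.ZSub r p n) (K.BSub r p n) (K.BSub_le_ZSub r p n))) (k : ℕ) :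
    ∀ p n : ℤ, P (SQ (K.ZSub (r + k) p n) (K.BSub (r + k) p n) (K.BSub_le_ZSub (r + k) p n)) := by
  induction k with
  | zero => exact hr
  | succ k ih => exact fun p n => P_succ K P hP Z₀ hZ₀ hPZ₀ (r + k) ih p n

theorem Bc_le_Zc (n : ℤ) :
    imageSubobject (K.obj.d (n - 1) n) ≤ kernelSubobject (K.obj.d n (n + 1)) :=
  le_kernelSubobject _ _ (imageSubobject_arrow_comp_eq_zero (by simp))

theorem BBot_le_ZTop (p n : ℤ) : K.BBot p n ≤ K.ZTop p n := by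
  unfold SpSeq.FilCx.BBot SpSeq.FilCx.ZTop
  exact sup_le_sup_right (inf_le_inf_left _ (Bc_le_Zc K n)) _

theorem P_limit (P : ObjectProperty A)
    (hP : ∀ S : ComposableArrows A 4, S.Exact → P (S.obj 0) → P (S.obj 1) → P (S.obj 3) →
      P (S.obj 4) → P (S.obj 2))
    (Z₀ : A) (hZ₀ : IsZero Z₀) (hPZ₀ : P Z₀) (r : ℕ)
    (hr : ∀ p n : ℤ, P (SQ (K.ZSub r p n) (K.BSub r p n) (K.BSub_le_ZSub r p n)))
    (hK : ∀ n : ℤ, (K.XFil n).IsFinite) (p n : ℤ) :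
    P (SQ (K.ZTop p n) (K.BBot p n) (BBot_le_ZTop K p n)) := by
  obtain ⟨-, ⟨b, hb⟩⟩ := hK (n + 1)
  obtain ⟨⟨a, ha⟩, -⟩ := hK (n - 1)
  have hb' : K.filX b (n + 1) = ⊥ := hb
  have ha' : K.filX a (n - 1) = ⊤ := ha
  obtain ⟨k, hk1, hk2⟩ : ∃ k : ℕ, b ≤ p + ((r + k : ℕ) : ℤ) ∧
      p - ((r + k : ℕ) : ℤ) + 1 ≤ a :=
    ⟨(b - p).toNat + (p + 1 - a).toNat, by push_cast; omega, by push_cast; omega⟩
  have e1 : K.filX (p + ((r + k : ℕ) : ℤ)) (n + 1) = ⊥ := filX_bot_of_le K (n + 1) hb' hk1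
  have e2 : K.filX (p - ((r + k : ℕ) : ℤ) + 1) (n - 1) = ⊤ := filX_top_of_le K (n - 1) ha' hk2
  have eZ : K.ZSub (r + k) p n = K.ZTop p n := by
    unfold SpSeq.FilCx.ZTop SpSeq.FilCx.ZSub
    rw [e1, Groth.Agent.S6792.pullback_bot]
  have eB : K.BSub (r + k) p n = K.BBot p n := by
    unfold SpSeq.FilCx.BSub SpSeq.FilCx.BBot
    rw [Groth.Agent.S6792.image_top_comp _ e2]
  exact P_congr P eZ eB _ _ (P_pages K P hP Z₀ hZ₀ hPZ₀ r hr k p n)

noncomputable abbrev ZQ (p n : ℤ) : Subobject (K.obj.X n) :=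
  K.filX p n ⊓ kernelSubobject (K.obj.d n (n + 1))

noncomputable abbrev BQ (p n : ℤ) : Subobject (K.obj.X n) :=
  K.filX p n ⊓ imageSubobject (K.obj.d (n - 1) n)

theorem BQ_le (p n : ℤ) : BQ K p n ≤ ZQ K p n := inf_le_inf_left _ (Bc_le_Zc K n)

set_option maxHeartbeats 800000 in
theorem Q_step (P : ObjectProperty A)
    (hP : ∀ S : ComposableArrows A 4, S.Exact → P (S.obj 0) → P (S.obj 1) → P (S.obj 3) →
      P (S.obj 4) → P (S.obj 2))
    (Z₀ : A) (hZ₀ : IsZero Z₀) (hPZ₀ : P Z₀) (p n : ℤ)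
    (h1 : P (SQ (ZQ K (p + 1) n) (BQ K (p + 1) n) (BQ_le K (p + 1) n)))
    (h2 : P (SQ (K.ZTop p n) (K.BBot p n) (BBot_le_ZTop K p n))) :
    P (SQ (ZQ K p n) (BQ K p n) (BQ_le K p n)) := by
  have hZ1 : ZQ K (p + 1) n ≤ ZQ K p n := inf_le_inf_right _ (filX_le K n (by omega))
  have hB1 : BQ K (p + 1) n ≤ BQ K p n := inf_le_inf_right _ (filX_le K n (by omega))
  have hZ2 : ZQ K p n ≤ K.ZTop p n := by unfold SpSeq.FilCx.ZTop; exact le_sup_left
  have hB2 : BQ K p n ≤ K.BBot p n := by unfold SpSeq.FilCx.BBot; exact le_sup_left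
  obtain ⟨i, ri⟩ := exists_incl _ _ (BQ_le K (p + 1) n) _ _ (BQ_le K p n) hZ1 hB1
  obtain ⟨q, rq⟩ := exists_incl _ _ (BQ_le K p n) _ _ (BBot_le_ZTop K p n) hZ2 hB2
  haveI : Mono i := mono_of_rule _ _ _ _ _ _ i hZ1 ri (fun x hx hb =>
    (Subobject.inf_factors x).mpr
      ⟨((Subobject.inf_factors x).mp hx).1, ((Subobject.inf_factors x).mp hb).2⟩)
  haveI : Epi q := epi_of_rule _ _ _ _ _ _ q hZ2 rq (fun y hy => by
    unfold SpSeq.FilCx.ZTop at hy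
    obtain ⟨W', π, hπ, u, v, huv, hu, hv⟩ := sup_refine' _ _ y hy
    refine ⟨W', π, hπ, u, hu, ?_⟩
    rw [huv, add_sub_cancel_left]
    unfold SpSeq.FilCx.BBot
    exact Subobject.sup_factors_of_factors_right hv)
  have w : i ≫ q = 0 := by
    obtain ⟨W, π, hπ, x, hx, e⟩ := cls_surj _ _ (BQ_le K (p + 1) n) (𝟙 _)
    rw [Category.comp_id] at e
    apply (cancel_epi π).mp
    have hxZ : (ZQ K p n).Factors x := Subobject.factors_of_le _ hZ1 hx
    have hxT : (K.ZTop p n).Factors x := Subobject.factors_of_le _ hZ2 hxZ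
    rw [comp_zero, e, ← Category.assoc, ri x hx hxZ, rq x hxZ hxT]
    apply cls_eq_zero
    unfold SpSeq.FilCx.BBot
    exact Subobject.sup_factors_of_factors_right ((Subobject.inf_factors x).mp hx).1
  have ex : (ShortComplex.mk i q w).Exact := by
    rw [ShortComplex.exact_iff_exact_up_to_refinements]
    intro W (y : W ⟶ SQ (ZQ K p n) (BQ K p n) (BQ_le K p n)) (hy : y ≫ q = 0)
    obtain ⟨W₁, π₁, hπ₁, x, hx, e⟩ := cls_surj _ _ (BQ_le K p n) y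
    have hxT : (K.ZTop p n).Factors x := Subobject.factors_of_le _ hZ2 hx
    have h0 : cls _ _ (BBot_le_ZTop K p n) x hxT = 0 := by
      rw [← rq x hx hxT, ← e, Category.assoc, hy, comp_zero]
    have hb := factors_of_cls_eq_zero _ _ _ _ hxT h0
    unfold SpSeq.FilCx.BBot at hb
    obtain ⟨W₂, π₂, hπ₂, u, v, huv, hu, hv⟩ := sup_refine' _ _ x hb
    have hxc : (kernelSubobject (K.obj.d n (n + 1))).Factors (π₂ ≫ x) :=
      Subobject.factors_of_factors_right π₂ ((Subobject.inf_factors x).mp hx).2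
    have huc : (kernelSubobject (K.obj.d n (n + 1))).Factors u :=
      Subobject.factors_of_le _ (Bc_le_Zc K n) ((Subobject.inf_factors u).mp hu).2
    have hvc : (kernelSubobject (K.obj.d n (n + 1))).Factors v := by
      have hv' : v = π₂ ≫ x - u := by rw [huv, add_sub_cancel_left]
      rw [hv']; exact factors_sub _ _ _ hxc huc
    have hvZ : (ZQ K (p + 1) n).Factors v := (Subobject.inf_factors v).mpr ⟨hv, hvc⟩
    refine ⟨W₂, π₂ ≫ π₁, epi_comp _ _, cls _ _ (BQ_le K (p + 1) n) v hvZ, ?_⟩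
    show (π₂ ≫ π₁) ≫ y = cls _ _ (BQ_le K (p + 1) n) v hvZ ≫ i
    rw [Category.assoc, e, cls_comp, ri v hvZ (Subobject.factors_of_le _ hZ1 hvZ)]
    apply cls_eq_of_sub
    rw [huv, add_sub_cancel_right]
    exact hu
  exact P_ext P hP Z₀ hZ₀ hPZ₀ i q w ex h1 h2

theorem Q_all (P : ObjectProperty A) [P.IsClosedUnderIsomorphisms]
    (hP : ∀ S : ComposableArrows A 4, S.Exact → P (S.obj 0) → P (S.obj 1) → P (S.obj 3) →
      P (S.obj 4) → P (S.obj 2))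
    (Z₀ : A) (hZ₀ : IsZero Z₀) (hPZ₀ : P Z₀) (hK : ∀ n : ℤ, (K.XFil n).IsFinite)
    (hlim : ∀ p n : ℤ, P (SQ (K.ZTop p n) (K.BBot p n) (BBot_le_ZTop K p n))) (n : ℤ) :
    ∀ p : ℤ, P (SQ (ZQ K p n) (BQ K p n) (BQ_le K p n)) := by
  obtain ⟨-, ⟨b, hb⟩⟩ := hK n
  have hb' : K.filX b n = ⊥ := hb
  have hzero : ∀ p, b ≤ p → P (SQ (ZQ K p n) (BQ K p n) (BQ_le K p n)) := by
    intro p hp
    have e : K.filX p n = ⊥ := filX_bot_of_le K n hb' hp
    have hz : IsZero (SQ (ZQ K p n) (BQ K p n) (BQ_le K p n)) :=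
      subquot_isZero _ _ (BQ_le K p n) (by
        show K.filX p n ⊓ _ = K.filX p n ⊓ _
        rw [e, bot_inf_eq, bot_inf_eq])
    exact P.prop_of_iso (hZ₀.iso hz) hPZ₀
  have key : ∀ k : ℕ, ∀ p : ℤ, p + (k : ℤ) = b →
      P (SQ (ZQ K p n) (BQ K p n) (BQ_le K p n)) := by
    intro k
    induction k with
    | zero => intro p hp; exact hzero p (by omega)
    | succ k ih =>
      intro p hp
      exact Q_step K P hP Z₀ hZ₀ hPZ₀ p n (ih (p + 1) (by push_cast at hp; omega)) (hlim p n)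
  intro p
  by_cases h : b ≤ p
  · exact hzero p h
  · exact key (b - p).toNat p (by omega)

noncomputable def hc (n : ℤ) {W : A} (x : W ⟶ K.obj.X n) (hx : x ≫ K.obj.d n (n + 1) = 0) :
    W ⟶ K.obj.homology n :=
  K.obj.liftCycles x (n + 1) (by simp) hx ≫ K.obj.homologyπ n

theorem hc_comp (n : ℤ) {W W' : A} (π : W' ⟶ W) (x : W ⟶ K.obj.X n)
    (hx : x ≫ K.obj.d n (n + 1) = 0) :
    π ≫ hc K n x hx = hc K n (π ≫ x) (by rw [Category.assoc, hx, comp_zero]) := by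
  unfold hc
  rw [← Category.assoc, HomologicalComplex.comp_liftCycles]

theorem hc_congr (n : ℤ) {W : A} {x y : W ⟶ K.obj.X n} (e : x = y)
    (hx : x ≫ K.obj.d n (n + 1) = 0) (hy : y ≫ K.obj.d n (n + 1) = 0) :
    hc K n x hx = hc K n y hy := by
  subst e; rfl

theorem hc_eq_zero_iff (n : ℤ) {W : A} (x : W ⟶ K.obj.X n) (hx : x ≫ K.obj.d n (n + 1) = 0) :
    hc K n x hx = 0 ↔ ∃ (W' : A) (π : W' ⟶ W) (_ : Epi π) (w : W' ⟶ K.obj.X (n - 1)),
      π ≫ x = w ≫ K.obj.d (n - 1) n :=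
  K.obj.liftCycles_comp_homologyπ_eq_zero_iff_up_to_refinements (n - 1) n (n + 1) (by simp)
    (by simp) x hx

theorem hc_surj (n : ℤ) {W : A} (y : W ⟶ K.obj.homology n) :
    ∃ (W' : A) (π : W' ⟶ W) (_ : Epi π) (x : W' ⟶ K.obj.X n)
      (hx : x ≫ K.obj.d n (n + 1) = 0), π ≫ y = hc K n x hx :=
  K.obj.eq_liftCycles_homologyπ_up_to_refinements y (n + 1) (by simp)

theorem cyc_of_ZQ (p n : ℤ) {W : A} (x : W ⟶ K.obj.X n) (hx : (ZQ K p n).Factors x) :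
    x ≫ K.obj.d n (n + 1) = 0 :=
  (kernelSubobject_factors_iff _ _).mp ((Subobject.inf_factors x).mp hx).2

set_option maxHeartbeats 800000 in
theorem bridge (P : ObjectProperty A) [P.IsClosedUnderIsomorphisms] (n a : ℤ)
    (ha : K.filX a n = ⊤) (h : P (SQ (ZQ K a n) (BQ K a n) (BQ_le K a n))) :
    P (K.obj.homology n) := by
  have hZd : (ZQ K a n).arrow ≫ K.obj.d n (n + 1) = 0 :=
    cyc_of_ZQ K a n _ (fac_of_le (le_refl _))
  have hcond : (BQ K a n).ofLE (ZQ K a n) (BQ_le K a n) ≫ hc K n (ZQ K a n).arrow hZd = 0 := by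
    rw [hc_comp, hc_eq_zero_iff]
    have hB : (imageSubobject (K.obj.d (n - 1) n)).Factors
        ((BQ K a n).ofLE (ZQ K a n) (BQ_le K a n) ≫ (ZQ K a n).arrow) := by
      rw [Subobject.ofLE_arrow]; exact Subobject.inf_arrow_factors_right _ _
    obtain ⟨W', π, hπ, w, hw⟩ := image_refine _ _ hB
    exact ⟨W', π, hπ, w, hw⟩
  obtain ⟨φ, rφ⟩ : ∃ φ : SQ (ZQ K a n) (BQ K a n) (BQ_le K a n) ⟶ K.obj.homology n,
      ∀ {W : A} (x : W ⟶ K.obj.X n) (hx : (ZQ K a n).Factors x)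
        (hxd : x ≫ K.obj.d n (n + 1) = 0), cls _ _ (BQ_le K a n) x hx ≫ φ = hc K n x hxd := by
    refine ⟨cokernel.desc _ (hc K n (ZQ K a n).arrow hZd) hcond, ?_⟩
    intro W x hx hxd
    unfold cls
    rw [Category.assoc, cokernel.π_desc, hc_comp]
    exact hc_congr K n (Subobject.factorThru_arrow _ x hx) _ _
  haveI : Mono φ := by
    apply Preadditive.mono_of_cancel_zero
    intro W g hg
    obtain ⟨W', π, hπ, x, hx, e⟩ := cls_surj _ _ (BQ_le K a n) g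
    have hxd := cyc_of_ZQ K a n x hx
    have h1 : hc K n x hxd = 0 := by rw [← rφ x hx hxd, ← e, Category.assoc, hg, comp_zero]
    obtain ⟨W₂, π₂, hπ₂, w, hw⟩ := (hc_eq_zero_iff K n x hxd).mp h1
    have hb : (BQ K a n).Factors x := by
      refine factors_of_epi_comp _ π₂ hπ₂ x ?_
      refine (Subobject.inf_factors _).mpr
        ⟨Subobject.factors_of_factors_right π₂ ((Subobject.inf_factors x).mp hx).1, ?_⟩
      rw [hw]; exact imageSubobject_factors_comp_self _ _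
    have h3 : π ≫ g = 0 := by rw [e]; exact cls_eq_zero _ _ _ x hx hb
    exact (cancel_epi π).mp (by rw [h3, comp_zero])
  haveI : Epi φ := by
    rw [epi_iff_surjective_up_to_refinements]
    intro W y
    obtain ⟨W', π, hπ, x, hxd, e⟩ := hc_surj K n y
    have hx : (ZQ K a n).Factors x := (Subobject.inf_factors x).mpr
      ⟨by rw [ha]; exact Subobject.top_factors x, kernelSubobject_factors _ x hxd⟩
    exact ⟨W', π, hπ, cls _ _ (BQ_le K a n) x hx, by rw [e, rφ x hx hxd]⟩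
  haveI : IsIso φ := isIso_of_mono_of_epi φ
  exact P.prop_of_iso (asIso φ) h

theorem main (hK : ∀ n : ℤ, (K.XFil n).IsFinite) (P : ObjectProperty A)
    [P.IsClosedUnderIsomorphisms] (h0 : ∃ Z : A, IsZero Z ∧ P Z)
    (hP : ∀ S : ComposableArrows A 4, S.Exact → P (S.obj 0) → P (S.obj 1) → P (S.obj 3) →
      P (S.obj 4) → P (S.obj 2))
    (r : ℕ) (hr : ∀ p n : ℤ, P (K.E r p n)) (n : ℤ) : P (K.obj.homology n) := by
  obtain ⟨Z₀, hZ₀, hPZ₀⟩ := h0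
  have hr' : ∀ p n : ℤ, P (SQ (K.ZSub r p n) (K.BSub r p n) (K.BSub_le_ZSub r p n)) :=
    fun p n => hr p n
  have hlim : ∀ p n : ℤ, P (SQ (K.ZTop p n) (K.BBot p n) (BBot_le_ZTop K p n)) :=
    fun p n => P_limit K P hP Z₀ hZ₀ hPZ₀ r hr' hK p n
  obtain ⟨⟨a, ha⟩, -⟩ := hK n
  exact bridge K P n a ha (Q_all K P hP Z₀ hZ₀ hPZ₀ hK hlim n a)

end helpers

/-- For a filtered complex with degreewise finite filtration, if all terms of some page of its spectral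
sequence lie in a weak Serre class `P`, then so does each cohomology object. -/
theorem result {A : Type u} [Category.{v} A] [Abelian A] (K : SpSeq.FilCx A) (hK : ∀ n : ℤ, (K.XFil n).IsFinite) (P : ObjectProperty A) [P.IsClosedUnderIsomorphisms] (h0 : ∃ Z : A, IsZero Z ∧ P Z) (hP : ∀ S : ComposableArrows A 4, S.Exact → P (S.obj 0) → P (S.obj 1) → P (S.obj 3) → P (S.obj 4) → P (S.obj 2)) (r : ℕ) (hr : ∀ p n : ℤ, P (K.E r p n)) (n : ℤ) : P (K.obj.homology n) := by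
  exact Groth.Agent.S6793.main K hK P h0 hP r hr n

end Groth.Agent.S6793
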