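import Groth.Statements.S6795
import Mathlib

set_option autoImplicit false
open CategoryTheory CategoryTheory.Limits
universe v u
open CategoryTheory CategoryTheory.Preadditive

namespace Groth.Agent.S6795

/-- A preadditive category with countable products in which split epimorphisms have kernels is
idempotent complete (Karoubian). -/
theorem result {D : Type u} [Category.{v} D] [Preadditive D] [HasCountableProducts D] (hk : ∀ ⦃X Y : D⦄ (f : X ⟶ Y), IsSplitEpi f → HasKernel f) : IsIdempotentComplete D := by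
  rw [CategoryTheory.Idempotents.isIdempotentComplete_iff_idempotents_have_kernels]
  intro X p hp
  set q : X ⟶ X := 𝟙 X - p with hq
  have hpq : p ≫ q = 0 := by rw [hq, comp_sub, Category.comp_id, hp, sub_self]
  have hqp : q ≫ p = 0 := by rw [hq, sub_comp, Category.id_comp, hp, sub_self]
  have hqq : q ≫ q = q := CategoryTheory.Idempotents.idem_of_id_sub_idem p hp
  have hsum : p + q = 𝟙 X := by rw [hq]; abel
  let π : ∀ n : ℕ, (∏ᶜ fun _ : ℕ => X) ⟶ X := fun n => Pi.π (fun _ : ℕ => X) n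
  let T : (∏ᶜ fun _ : ℕ => X) ⟶ (∏ᶜ fun _ : ℕ => X) :=
    Pi.lift (fun n => π n ≫ p + π (n + 1) ≫ q)
  let S : (∏ᶜ fun _ : ℕ => X) ⟶ (∏ᶜ fun _ : ℕ => X) :=
    Pi.lift (fun n => Nat.casesOn n (π 0 ≫ p) (fun m => π (m + 1) ≫ p + π m ≫ q))
  have hTπ : ∀ n, T ≫ π n = π n ≫ p + π (n + 1) ≫ q := fun n => Pi.lift_π _ _
  have hSπ0 : S ≫ π 0 = π 0 ≫ p := Pi.lift_π _ _
  have hSπs : ∀ m, S ≫ π (m + 1) = π (m + 1) ≫ p + π m ≫ q := fun m => Pi.lift_π _ _
  have hST : S ≫ T = 𝟙 _ := by
    apply Pi.hom_ext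
    intro n
    change (S ≫ T) ≫ π n = 𝟙 _ ≫ π n
    rw [Category.assoc, hTπ, comp_add, ← Category.assoc, ← Category.assoc, hSπs, Category.id_comp]
    cases n with
    | zero =>
      rw [hSπ0, add_comp]
      simp only [Category.assoc, hp, hpq, hqq, comp_zero, zero_add]
      rw [← comp_add, hsum, Category.comp_id]
    | succ m =>
      rw [hSπs, add_comp, add_comp]
      simp only [Category.assoc, hp, hpq, hqp, hqq, comp_zero, zero_add, add_zero]
      rw [← comp_add, hsum, Category.comp_id]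
  haveI : IsSplitEpi T := IsSplitEpi.mk' ⟨S, hST⟩
  haveI : HasKernel T := hk T inferInstance
  let k := kernel.ι T
  have hkT : ∀ n, k ≫ π n ≫ p + k ≫ π (n + 1) ≫ q = 0 := by
    intro n
    have : k ≫ T ≫ π n = 0 := by rw [← Category.assoc, kernel.condition, zero_comp]
    rw [hTπ, comp_add] at this
    exact this
  have hk0 : ∀ n, k ≫ π n ≫ p = 0 := by
    intro n
    have := congrArg (· ≫ p) (hkT n)
    simp only [add_comp, Category.assoc, hp, hqp, comp_zero, add_zero, zero_comp] at this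
    exact this
  have hkq : ∀ n, k ≫ π (n + 1) ≫ q = 0 := by
    intro n
    have := congrArg (· ≫ q) (hkT n)
    simp only [add_comp, Category.assoc, hqq, hpq, comp_zero, zero_add, zero_comp] at this
    exact this
  have hkn : ∀ n, k ≫ π (n + 1) = 0 := by
    intro n
    have : k ≫ π (n + 1) ≫ (p + q) = 0 := by
      rw [comp_add, comp_add, hk0, hkq, add_zero]
    rwa [hsum, Category.comp_id] at this
  have hι : (k ≫ π 0) ≫ p = 0 := by rw [Category.assoc]; exact hk0 0
  refine HasLimit.mk ⟨KernelFork.ofι (k ≫ π 0) hι, KernelFork.IsLimit.ofι _ _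
    (fun {Z} g hg => kernel.lift T (Pi.lift (fun n => Nat.casesOn n g (fun _ => 0))) ?_) ?_ ?_⟩
  · apply Pi.hom_ext
    intro n
    change (_ ≫ T) ≫ π n = 0 ≫ π n
    rw [Category.assoc, hTπ, comp_add, ← Category.assoc, ← Category.assoc, zero_comp]
    have h0 : (Pi.lift (fun n => Nat.casesOn n g (fun _ => 0)) : Z ⟶ ∏ᶜ fun _ : ℕ => X) ≫ π 0 = g :=
      Pi.lift_π _ _
    have hs : ∀ m, (Pi.lift (fun n => Nat.casesOn n g (fun _ => 0)) : Z ⟶ ∏ᶜ fun _ : ℕ => X) ≫
        π (m + 1) = 0 := fun m => Pi.lift_π _ _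
    rw [hs n, zero_comp, add_zero]
    cases n with
    | zero => rw [h0, hg]
    | succ m => rw [hs m, zero_comp]
  · intro Z g hg
    rw [← Category.assoc, kernel.lift_ι]
    exact Pi.lift_π _ _
  · intro Z g hg b hb
    rw [← cancel_mono (kernel.ι T), kernel.lift_ι]
    apply Pi.hom_ext
    intro n
    change (b ≫ k) ≫ π n = _ ≫ π n
    rw [Pi.lift_π]
    cases n with
    | zero => rw [Category.assoc]; exact hb
    | succ m => rw [Category.assoc, hkn, comp_zero]

end Groth.Agent.S6795
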