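import Groth.Statements.S6799
import Mathlib

set_option autoImplicit false
open CategoryTheory Opposite
universe u
open SSet

namespace Groth.Agent.S6799

section helpers

open Simplicial MonoidalCategory

variable {U V : SSet.{u}} (f₀ f₁ : V ⟶ U)

/-- The candidate homotopy on simplices. -/
noncomputable def Qfun (x : SimplexCategoryᵒᵖ) (p : (V ⊗ Δ[1] : SSet.{u}).obj x) : U.obj x :=
  if SSet.stdSimplex.asOrderHom p.2 0 = 1 then f₁.app x p.1 else f₀.app x p.1

theorem Qfun_ι₀ (x : SimplexCategoryᵒᵖ) (v : V.obj x) :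
    Qfun f₀ f₁ x (SSet.ι₀.app x v) = f₀.app x v := by
  unfold Qfun
  have c : SSet.stdSimplex.asOrderHom (SSet.ι₀.app x v).2 0 = 0 := rfl
  rw [if_neg (by rw [c]; decide)]
  rfl

theorem Qfun_ι₁ (x : SimplexCategoryᵒᵖ) (v : V.obj x) :
    Qfun f₀ f₁ x (SSet.ι₁.app x v) = f₁.app x v := by
  unfold Qfun
  have c : SSet.stdSimplex.asOrderHom (SSet.ι₁.app x v).2 0 = 1 := rfl
  rw [if_pos c]
  rfl

theorem map_eq_of_not_surj (n : ℕ)
    (h : ∀ i : ℕ, i < n → f₀.app (op (SimplexCategory.mk i)) = f₁.app (op (SimplexCategory.mk i)))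
    {x y : SimplexCategoryᵒᵖ} (θ : x ⟶ y) (hx : x.unop.len ≤ n)
    (hs : ¬ Function.Surjective θ.unop.toOrderHom) (v : V.obj x) :
    U.map θ (f₀.app x v) = U.map θ (f₁.app x v) := by
  obtain ⟨x⟩ := x
  obtain ⟨y⟩ := y
  induction x using SimplexCategory.rec with | _ k
  obtain _ | m := k
  · exfalso
    apply hs
    intro j
    refine ⟨0, Fin.ext ?_⟩
    have h1 := (θ.unop.toOrderHom 0).isLt
    have h2 := j.isLt
    simp only [Opposite.unop_op, SimplexCategory.len_mk] at h1 h2
    omega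
  · obtain ⟨i, θ', hθ⟩ := SimplexCategory.eq_comp_δ_of_not_surjective θ.unop hs
    have hθ2 : θ = (SimplexCategory.δ i).op ≫ θ'.op := by
      rw [← op_comp, ← hθ, Quiver.Hom.op_unop]
    have hm : m < n := by
      simp only [Opposite.unop_op, SimplexCategory.len_mk] at hx
      omega
    have e0 : ∀ e : V ⟶ U, U.map θ (e.app (op (SimplexCategory.mk (m + 1))) v) =
        U.map θ'.op (e.app (op (SimplexCategory.mk m)) (V.map (SimplexCategory.δ i).op v)) := by
      intro e
      rw [hθ2, CategoryTheory.Functor.map_comp_apply, NatTrans.naturality_apply]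
    rw [e0 f₀, e0 f₁, h m hm]

theorem Qfun_natural (n : ℕ)
    (h : ∀ i : ℕ, i < n → f₀.app (op (SimplexCategory.mk i)) = f₁.app (op (SimplexCategory.mk i)))
    {x y : SimplexCategoryᵒᵖ} (θ : x ⟶ y) (hx : x.unop.len ≤ n)
    (p : (V ⊗ Δ[1] : SSet.{u}).obj x) :
    Qfun f₀ f₁ y ((V ⊗ Δ[1] : SSet.{u}).map θ p) = U.map θ (Qfun f₀ f₁ x p) := by
  have e1 : ((V ⊗ Δ[1] : SSet.{u}).map θ p).1 = V.map θ p.1 := rfl
  have e2 : SSet.stdSimplex.asOrderHom ((V ⊗ Δ[1] : SSet.{u}).map θ p).2 0 =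
      SSet.stdSimplex.asOrderHom p.2 (θ.unop.toOrderHom 0) := rfl
  have n0 : ∀ e : V ⟶ U, e.app y (V.map θ p.1) = U.map θ (e.app x p.1) :=
    fun e => NatTrans.naturality_apply e θ p.1
  by_cases hs : Function.Surjective θ.unop.toOrderHom
  · have h0 : θ.unop.toOrderHom 0 = 0 := by
      obtain ⟨j, hj⟩ := hs 0
      exact le_antisymm ((θ.unop.toOrderHom.monotone (Fin.zero_le j)).trans (le_of_eq hj))
        (Fin.zero_le _)
    unfold Qfun
    rw [e1, e2, h0]
    split_ifs
    · exact n0 f₁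
    · exact n0 f₀
  · have hA := map_eq_of_not_surj f₀ f₁ n h θ hx hs p.1
    unfold Qfun
    rw [e1]
    split_ifs
    all_goals first
      | exact n0 f₁
      | exact n0 f₀
      | exact (n0 f₁).trans hA.symm
      | exact (n0 f₀).trans hA

/-- The truncated homotopy. -/
noncomputable def βtr (n : ℕ)
    (h : ∀ i : ℕ, i < n → f₀.app (op (SimplexCategory.mk i)) =
      f₁.app (op (SimplexCategory.mk i))) :
    (SimplexCategory.Truncated.inclusion n).op ⋙ (V ⊗ Δ[1] : SSet.{u}) ⟶
      (SimplexCategory.Truncated.inclusion n).op ⋙ U where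
  app x := TypeCat.ofHom
    (fun p => Qfun f₀ f₁ ((SimplexCategory.Truncated.inclusion n).op.obj x) p)
  naturality x y θ := by
    ext p
    exact Qfun_natural f₀ f₁ n h ((SimplexCategory.Truncated.inclusion n).op.map θ)
      x.unop.property p

end helpers

/-- Two maps between `n`-coskeletal simplicial sets which agree on simplices of dimension `< n` are
homotopic, by a single homotopy. -/
theorem result {U V : SSet.{u}} (f₀ f₁ : V ⟶ U) (n : ℕ) (h : ∀ i : ℕ, i < n → f₀.app (op (SimplexCategory.mk i)) = f₁.app (op (SimplexCategory.mk i))) [SimplicialObject.IsCoskeletal U n] [SimplicialObject.IsCoskeletal V n] : Nonempty (SSet.Homotopy f₀ f₁) := by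
  obtain ⟨H, hH⟩ : ∃ H : (MonoidalCategoryStruct.tensorObj V (SSet.stdSimplex.obj (SimplexCategory.mk 1)) : SSet.{u}) ⟶ U,
      ∀ x : (SimplexCategory.Truncated n)ᵒᵖ,
        H.app ((SimplexCategory.Truncated.inclusion n).op.obj x) = (βtr f₀ f₁ n h).app x :=
    ⟨Functor.liftOfIsRightKanExtension U
        (𝟙 ((SimplexCategory.Truncated.inclusion n).op ⋙ U)) _ (βtr f₀ f₁ n h),
      fun x => by
        simpa only [NatTrans.id_app, Category.comp_id] using
          Functor.liftOfIsRightKanExtension_fac_app U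
            (𝟙 ((SimplexCategory.Truncated.inclusion n).op ⋙ U)) _ (βtr f₀ f₁ n h) x⟩
  refine ⟨{ h := H, h₀ := ?_, h₁ := ?_, rel := ?_ }⟩
  · apply Functor.hom_ext_of_isRightKanExtension U
      (𝟙 ((SimplexCategory.Truncated.inclusion n).op ⋙ U))
    ext x v
    show H.app ((SimplexCategory.Truncated.inclusion n).op.obj x)
      (SSet.ι₀.app ((SimplexCategory.Truncated.inclusion n).op.obj x) v) =
      f₀.app ((SimplexCategory.Truncated.inclusion n).op.obj x) v
    rw [hH x]
    exact Qfun_ι₀ f₀ f₁ _ v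
  · apply Functor.hom_ext_of_isRightKanExtension U
      (𝟙 ((SimplexCategory.Truncated.inclusion n).op ⋙ U))
    ext x v
    show H.app ((SimplexCategory.Truncated.inclusion n).op.obj x)
      (SSet.ι₁.app ((SimplexCategory.Truncated.inclusion n).op.obj x) v) =
      f₁.app ((SimplexCategory.Truncated.inclusion n).op.obj x) v
    rw [hH x]
    exact Qfun_ι₁ f₀ f₁ _ v
  · ext _ ⟨⟨_, ⟨⟩⟩, _⟩

end Groth.Agent.S6799
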