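import Groth.Statements.S6807
import Mathlib
import Groth.Agent.S2370

set_option autoImplicit false
open CategoryTheory CategoryTheory.Limits
universe u
open HomAlg3

namespace Groth.Agent.S6807

section helpers

open CategoryTheory CategoryTheory.Limits Opposite Groth.Agent.S2370

theorem ml_of_essConstant (X : ℕᵒᵖ ⥤ AddCommGrpCat.{u}) (C₀ : AddCommGrpCat.{u})
    (c : (Functor.const ℕᵒᵖ).obj C₀ ⟶ X) (h : DerCA.IsEssConstant X C₀ c) :
    (X ⋙ forget AddCommGrpCat).IsMittagLeffler := by
  obtain ⟨i, s, hs, hk⟩ := h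
  intro j
  rcases j with ⟨j⟩
  obtain ⟨k, hi, hj, e⟩ := hk j
  refine ⟨op k, (homOfLE hj).op, ?_⟩
  intro l g
  rintro _ ⟨x, rfl⟩
  have e1 : (X.map (homOfLE hj).op).hom x =
      (c.app (op j)).hom (s.hom ((X.map (homOfLE hi).op).hom x)) := hom_congr_apply e x
  have e2 : c.app l ≫ X.map g = c.app (op j) := by
    have := c.naturality g
    simpa using this.symm
  refine ⟨(c.app l).hom (s.hom ((X.map (homOfLE hi).op).hom x)), ?_⟩
  show (X.map g).hom ((c.app l).hom _) = (X.map (homOfLE hj).op).hom x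
  rw [e1]
  exact hom_congr_apply e2 _

theorem main (K : ℕᵒᵖ ⥤ HomologicalComplex AddCommGrpCat.{u} (ComplexShape.up ℤ)) (n : ℤ)
    (h2 : ((K ⋙ HomologicalComplex.eval _ _ (n - 2)) ⋙ forget AddCommGrpCat).IsMittagLeffler)
    (h1 : ((K ⋙ HomologicalComplex.eval _ _ (n - 1)) ⋙ forget AddCommGrpCat).IsMittagLeffler)
    (hH : ∃ (C₀ : AddCommGrpCat.{u}) (c : (Functor.const ℕᵒᵖ).obj C₀ ⟶
      K ⋙ HomologicalComplex.homologyFunctor _ _ (n - 1)),
      DerCA.IsEssConstant (K ⋙ HomologicalComplex.homologyFunctor _ _ (n - 1)) C₀ c) :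
    IsIso (limit.post K (HomologicalComplex.homologyFunctor _ _ n)) := by
  obtain ⟨C₀, c, hc⟩ := hH
  have hcof : ∃ s : Set ℕ, s.Countable ∧ ∀ i, ∃ j ∈ s, i ≤ j :=
    ⟨Set.univ, Set.countable_univ, fun i => ⟨i, trivial, le_rfl⟩⟩
  have hHml := ml_of_essConstant _ C₀ c hc
  have hs := core_surj K hcof n (n - 1) (by omega) h1
  have hi := core_inj K hcof n (n - 1) (n - 2) (by omega) (by omega) h2 hHml
  exact (ConcreteCategory.isIso_iff_bijective _).mpr ⟨hi, hs⟩

end helpers

/-- For an inverse system of cochain complexes of abelian groups over `ℕ` whose terms in degrees `n-2`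
and `n-1` form Mittag-Leffler systems and whose degree-`(n-1)` cohomologies form an essentially
constant system, the canonical map from the degree-`n` cohomology of the limit complex to the limit
of the degree-`n` cohomologies is an isomorphism. (The published statement is for four-term
complexes in degrees `-2, …, 1`; only those four degrees of a longer complex enter.) -/
theorem result (K : ℕᵒᵖ ⥤ HomologicalComplex AddCommGrpCat.{u} (ComplexShape.up ℤ)) (n : ℤ) (h2 : ((K ⋙ HomologicalComplex.eval _ _ (n - 2)) ⋙ forget AddCommGrpCat).IsMittagLeffler) (h1 : ((K ⋙ HomologicalComplex.eval _ _ (n - 1)) ⋙ forget AddCommGrpCat).IsMittagLeffler) (hH : ∃ (C₀ : AddCommGrpCat.{u}) (c : (Functor.const ℕᵒᵖ).obj C₀ ⟶ K ⋙ HomologicalComplex.homologyFunctor _ _ (n - 1)), DerCA.IsEssConstant (K ⋙ HomologicalComplex.homologyFunctor _ _ (n - 1)) C₀ c) : IsIso (limit.post K (HomologicalComplex.homologyFunctor _ _ n)) := by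
  exact Groth.Agent.S6807.main K n h2 h1 hH

end Groth.Agent.S6807
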