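import Groth.Statements.S6810
import Mathlib

set_option autoImplicit false
open CategoryTheory CategoryTheory.Limits
universe v u
open CategoryTheory CategoryTheory.SimplicialObject CategoryTheory.SimplicialObject.Truncated

namespace Groth.Agent.S6810

/-- In a category with finite colimits every truncated simplicial object has a pointwise left Kan
extension along the inclusion of the truncated simplex category, i.e. the left adjoints `i_{m!}` of
truncation exist and are given by the colimit formula. -/
theorem result {C : Type u} [Category.{v} C] [HasFiniteColimits C] (m : ℕ) (U : (SimplexCategory.Truncated m)ᵒᵖ ⥤ C) : (SimplexCategory.Truncated.inclusion m).op.HasPointwiseLeftKanExtension U := by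
  intro Y
  -- the comma category is finite
  haveI hfinT : Finite (SimplexCategory.Truncated m) := by
    refine Finite.of_injective (fun a : SimplexCategory.Truncated m => (⟨a.obj.len, Nat.lt_succ_of_le a.property⟩ : Fin (m + 1))) ?_
    intro a b hab
    have h1 : a.obj.len = b.obj.len := congrArg Fin.val hab
    have h2 : a.obj = b.obj := SimplexCategory.ext h1
    cases a; cases b; cases h2; rfl
  haveI hfinTop : Finite (SimplexCategory.Truncated m)ᵒᵖ := Finite.of_equiv _ (Opposite.equivToOpposite)
  haveI hfinHom : ∀ (a b : SimplexCategoryᵒᵖ), Finite (a ⟶ b) := fun a b =>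
    Finite.of_equiv (b.unop ⟶ a.unop) (opEquiv a b).symm
  haveI hfinHomT : ∀ (a b : (SimplexCategory.Truncated m)ᵒᵖ), Finite (a ⟶ b) := fun a b =>
    Finite.of_injective (fun f => (SimplexCategory.Truncated.inclusion m).op.map f)
      ((SimplexCategory.Truncated.inclusion m).op.map_injective)
  haveI hfinObj : Finite (CostructuredArrow (SimplexCategory.Truncated.inclusion m).op Y) := by
    refine Finite.of_injective
      (fun A : CostructuredArrow (SimplexCategory.Truncated.inclusion m).op Y =>
        (⟨A.left, A.hom⟩ : Σ X : (SimplexCategory.Truncated m)ᵒᵖ,
          ((SimplexCategory.Truncated.inclusion m).op.obj X ⟶ Y))) ?_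
    intro A B hAB
    cases A with | mk l r h =>
    cases B with | mk l' r' h' =>
    cases r; cases r'
    simp only [Sigma.mk.injEq] at hAB
    obtain ⟨h1, h2⟩ := hAB
    cases h1
    cases h2
    rfl
  haveI hfinHomC : ∀ (A B : CostructuredArrow (SimplexCategory.Truncated.inclusion m).op Y),
      Finite (A ⟶ B) := fun A B =>
    Finite.of_injective (fun f => f.left) (fun f g hfg => CostructuredArrow.hom_ext _ _ hfg)
  letI : FinCategory (CostructuredArrow (SimplexCategory.Truncated.inclusion m).op Y) :=
    { fintypeObj := Fintype.ofFinite _
      fintypeHom := fun _ _ => Fintype.ofFinite _ }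
  infer_instance

end Groth.Agent.S6810
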