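import Groth.Statements.S6820
import Mathlib

set_option autoImplicit false
universe u
open Smoothing

namespace Groth.Agent.S6820

/-- Let A be a Noetherian ring, M a finite A-module, S a multiplicative subset of A and π an element of
A such that on the localised module S⁻¹M the kernels of multiplication by π and by π² agree. Then
there is an element s of S such that for every n > 0 the kernels of multiplication by sⁿπ and by
(sⁿπ)² on M agree. (Kernel equalities are written as implications, the reverse inclusions being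
automatic.) -/
theorem result {A : Type u} [CommRing A] [IsNoetherianRing A]
    (M : Type u) [AddCommGroup M] [Module A M] [Module.Finite A M] (S : Submonoid A) (π : A)
    (h : ∀ m : LocalizedModule S M, π ^ 2 • m = 0 → π • m = 0) :
    ∃ s ∈ S, ∀ n : ℕ, 0 < n → ∀ m : M, (s ^ n * π) ^ 2 • m = 0 → (s ^ n * π) • m = 0 := by
  classical
  haveI : IsNoetherian A M := isNoetherian_of_isNoetherianRing_of_finite A M
  -- general lemma: a submodule all of whose elements are S-torsion is killed by one element of S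
  have key : ∀ N : Submodule A M, (∀ x ∈ N, ∃ u ∈ S, u • x = 0) → ∃ s ∈ S, ∀ x ∈ N, s • x = 0 := by
    intro N hN
    obtain ⟨G, hG⟩ := (IsNoetherian.noetherian N : N.FG)
    have hGN : ∀ g ∈ G, g ∈ N := fun g hg => hG ▸ Submodule.subset_span hg
    choose! u hu using hN
    refine ⟨∏ g ∈ G, u g, Submonoid.prod_mem _ (fun g hg => (hu g (hGN g hg)).1), ?_⟩
    intro x hx
    rw [← hG] at hx
    induction hx using Submodule.span_induction with
    | mem g hg =>
      obtain ⟨c, hc⟩ := Finset.dvd_prod_of_mem u hg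
      rw [hc, mul_comm, mul_smul, (hu g (hGN g hg)).2, smul_zero]
    | zero => simp
    | add x y _ _ hx hy => rw [smul_add, hx, hy, add_zero]
    | smul a x _ hx => rw [smul_comm, hx, smul_zero]
  -- torsion submodule
  let T : Submodule A M :=
    { carrier := {m | ∃ u ∈ S, u • m = 0}
      add_mem' := by
        rintro a b ⟨u, hu, hua⟩ ⟨v, hv, hvb⟩
        refine ⟨u * v, S.mul_mem hu hv, ?_⟩
        rw [smul_add, mul_smul u v b, hvb, smul_zero, mul_comm, mul_smul v u a, hua, smul_zero,
          add_zero]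
      zero_mem' := ⟨1, S.one_mem, by simp⟩
      smul_mem' := by
        rintro c a ⟨u, hu, hua⟩
        exact ⟨u, hu, by rw [smul_comm, hua, smul_zero]⟩ }
  obtain ⟨s₁, hs₁, hs₁T⟩ := key T (fun x hx => hx)
  -- K = ker π², N = π K
  let K : Submodule A M := LinearMap.ker ((π ^ 2) • (LinearMap.id : M →ₗ[A] M))
  let N : Submodule A M := K.map (π • (LinearMap.id : M →ₗ[A] M))
  have hN : ∀ x ∈ N, ∃ u ∈ S, u • x = 0 := by
    rintro _ ⟨m, hm, rfl⟩
    have hm' : π ^ 2 • m = 0 := hm
    have h1 : π ^ 2 • (LocalizedModule.mkLinearMap S M m) = 0 := by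
      rw [← map_smul, hm', map_zero]
    have h2 := h _ h1
    rw [← map_smul] at h2
    obtain ⟨⟨u, hu⟩, hum⟩ := (IsLocalizedModule.eq_zero_iff S (LocalizedModule.mkLinearMap S M)).mp h2
    exact ⟨u, hu, hum⟩
  obtain ⟨s₀, hs₀, hs₀N⟩ := key N hN
  refine ⟨s₀ * s₁, S.mul_mem hs₀ hs₁, ?_⟩
  intro n hn m hm
  have h1 : π ^ 2 • m ∈ T := by
    refine ⟨(s₀ * s₁) ^ (2 * n), S.pow_mem (S.mul_mem hs₀ hs₁) _, ?_⟩
    rw [← hm, smul_smul]
    congr 1
    ring
  have h2 : s₁ • π ^ 2 • m = 0 := hs₁T _ h1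
  have h3 : s₁ • m ∈ K := by
    show π ^ 2 • (s₁ • m) = 0
    rw [smul_comm, h2]
  have h4 : π • (s₁ • m) ∈ N := ⟨s₁ • m, h3, rfl⟩
  have h5 := hs₀N _ h4
  obtain ⟨n', rfl⟩ : ∃ n', n = n' + 1 := ⟨n - 1, by omega⟩
  have : ((s₀ * s₁) ^ (n' + 1) * π) • m = (s₀ * s₁) ^ n' • (s₀ • π • s₁ • m) := by
    simp only [smul_smul]
    congr 1
    ring
  rw [this, h5, smul_zero]

end Groth.Agent.S6820
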