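import Groth.Statements.S6863
import Mathlib.Algebra.Module.StablyFree.Basic
import Mathlib.LinearAlgebra.TensorProduct.Quotient
import Mathlib.LinearAlgebra.Matrix.ToLin
import Mathlib.LinearAlgebra.Matrix.NonsingularInverse
import Mathlib.RingTheory.Jacobson.Ideal
import Mathlib.LinearAlgebra.Dimension.Free
import Mathlib.Tactic

set_option autoImplicit false
universe u
open TensorProduct
open CAlg

namespace Groth.Agent.S6863

open Matrix in
theorem core {R : Type u} [CommRing R] (I : Ideal R) (hI : I ≤ Ideal.jacobson (⊥ : Ideal R))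
    (E : Type u) [AddCommGroup E] [Module (R ⧸ I) E] (a b : ℕ)
    (φ : (E × (Fin a → R ⧸ I)) ≃ₗ[R ⧸ I] (Fin b → R ⧸ I)) :
    ∃ (M : Type u) (_ : AddCommGroup M) (_ : Module R M), Module.Finite R M ∧
      Module.IsStablyFree R M ∧ Nonempty ((R ⧸ I) ⊗[R] M ≃ₗ[R ⧸ I] E) := by
  classical
  let _ : Module R E := Module.compHom E (Ideal.Quotient.mk I)
  have _ : IsScalarTower R (R ⧸ I) E := IsScalarTower.of_compHom R (R ⧸ I) E
  have hsurj : Function.Surjective (Ideal.Quotient.mk I) := Ideal.Quotient.mk_surjective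
  have hsurj' : Function.Surjective (algebraMap R (R ⧸ I)) := Ideal.Quotient.mk_surjective
  let pibar : (Fin b → R ⧸ I) →ₗ[R ⧸ I] (Fin a → R ⧸ I) :=
    (LinearMap.snd (R ⧸ I) E (Fin a → R ⧸ I)) ∘ₗ φ.symm.toLinearMap
  let sigbar : (Fin a → R ⧸ I) →ₗ[R ⧸ I] (Fin b → R ⧸ I) :=
    φ.toLinearMap ∘ₗ (LinearMap.inr (R ⧸ I) E (Fin a → R ⧸ I))
  have hps : pibar ∘ₗ sigbar = LinearMap.id := by
    refine LinearMap.ext (fun y => ?_)
    simp [pibar, sigbar]
  let Pbar := LinearMap.toMatrix' pibar
  let Sbar := LinearMap.toMatrix' sigbar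
  have hPS : Pbar * Sbar = 1 := by
    rw [← LinearMap.toMatrix'_comp, hps, LinearMap.toMatrix'_id]
  let P : Matrix (Fin a) (Fin b) R := Pbar.map (Function.surjInv hsurj)
  let S : Matrix (Fin b) (Fin a) R := Sbar.map (Function.surjInv hsurj)
  have hP : P.map (Ideal.Quotient.mk I) = Pbar := by
    ext i j; simp [P, Function.surjInv_eq hsurj]
  have hS : S.map (Ideal.Quotient.mk I) = Sbar := by
    ext i j; simp [S, Function.surjInv_eq hsurj]
  let D := P * S
  have hD : D.map (Ideal.Quotient.mk I) = 1 := by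
    rw [Matrix.map_mul, hP, hS, hPS]
  have hdet : IsUnit D.det := by
    have h1 : (Ideal.Quotient.mk I) D.det = 1 := by
      rw [RingHom.map_det, RingHom.mapMatrix_apply, hD, Matrix.det_one]
    have h2 : D.det - 1 ∈ I := by
      rw [← Ideal.Quotient.eq_zero_iff_mem, map_sub, h1, map_one, sub_self]
    have h3 := (Ideal.mem_jacobson_bot.1 (hI h2)) 1
    simpa using h3
  let S' := S * D⁻¹
  have hPS' : P * S' = 1 := by
    rw [← Matrix.mul_assoc]; exact Matrix.mul_nonsing_inv D hdet
  let π := Matrix.toLin' P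
  let σ := Matrix.toLin' S'
  have hπσ : π ∘ₗ σ = LinearMap.id := by
    rw [← Matrix.toLin'_mul, hPS', Matrix.toLin'_one]
  have hπσ' : ∀ y, π (σ y) = y := fun y => LinearMap.congr_fun hπσ y
  let pr : (Fin b → R) →ₗ[R] ↥(LinearMap.ker π) :=
    (LinearMap.id - σ ∘ₗ π).codRestrict (LinearMap.ker π) (fun x => by
      rw [LinearMap.mem_ker, LinearMap.sub_apply, map_sub, LinearMap.id_apply, LinearMap.comp_apply,
        hπσ', sub_self])
  have hprval : ∀ x, (pr x : Fin b → R) = x - σ (π x) := fun x => rfl
  have hpr : ∀ m : ↥(LinearMap.ker π), pr m.1 = m := by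
    intro m
    apply Subtype.ext
    rw [hprval, LinearMap.mem_ker.1 m.2, map_zero, sub_zero]
  refine ⟨↥(LinearMap.ker π), inferInstance, inferInstance, ?_, ?_, ?_⟩
  · exact Module.Finite.of_surjective pr (fun m => ⟨m.1, hpr m⟩)
  · let e : (↥(LinearMap.ker π) × (Fin a → R)) ≃ₗ[R] (Fin b → R) :=
      LinearEquiv.ofLinear ((LinearMap.ker π).subtype.coprod σ) (pr.prod π)
        (by
          refine LinearMap.ext (fun x => ?_)
          change ((pr x : Fin b → R)) + σ (π x) = x
          rw [hprval]
          abel)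
        (by
          refine LinearMap.ext (fun ⟨m, y⟩ => ?_)
          change (pr ((m : Fin b → R) + σ y), π ((m : Fin b → R) + σ y)) = (m, y)
          apply Prod.ext
          · change pr ((m : Fin b → R) + σ y) = m
            apply Subtype.ext
            rw [hprval, map_add, hπσ', LinearMap.mem_ker.1 m.2, zero_add]
            abel
          · change π ((m : Fin b → R) + σ y) = y
            rw [map_add, hπσ', LinearMap.mem_ker.1 m.2, zero_add])
    have : Module.Free R (↥(LinearMap.ker π) × (Fin a → R)) := Module.Free.of_equiv e.symm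
    exact Module.IsStablyFree.of_free_prod R _ (Fin a → R)
  · -- the base change
    let redb : (Fin b → R) →ₗ[R] (Fin b → R ⧸ I) := (Algebra.linearMap R (R ⧸ I)).compLeft (Fin b)
    let reda : (Fin a → R) →ₗ[R] (Fin a → R ⧸ I) := (Algebra.linearMap R (R ⧸ I)).compLeft (Fin a)
    have hredb : ∀ x j, redb x j = Ideal.Quotient.mk I (x j) := fun x j => rfl
    have hreda : ∀ x j, reda x j = Ideal.Quotient.mk I (x j) := fun x j => rfl
    have hF1 : ∀ x : Fin b → R, pibar (redb x) = reda (π x) := by
      intro x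
      funext i
      rw [hreda, ← LinearMap.toMatrix'_mulVec pibar]
      change (Pbar *ᵥ redb x) i = _
      rw [← hP]
      exact (RingHom.map_mulVec (Ideal.Quotient.mk I) P x i).symm
    have hF3 : ∀ y : Fin a → R, reda y = 0 → redb (σ y) = 0 := by
      intro y hy
      funext j
      rw [hredb]
      have := RingHom.map_mulVec (Ideal.Quotient.mk I) S' y j
      change (Ideal.Quotient.mk I) ((S' *ᵥ y) j) = _ at this
      have hy' : (⇑(Ideal.Quotient.mk I) ∘ y) = 0 := hy
      rw [hy', Matrix.mulVec_zero] at this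
      exact this
    let ψ : ↥(LinearMap.ker π) →ₗ[R] E :=
      ((LinearMap.fst (R ⧸ I) E (Fin a → R ⧸ I)).restrictScalars R) ∘ₗ
        (φ.symm.toLinearMap.restrictScalars R) ∘ₗ redb ∘ₗ (LinearMap.ker π).subtype
    have hψ : ∀ m : ↥(LinearMap.ker π), φ.symm (redb m.1) = (ψ m, 0) := by
      intro m
      apply Prod.ext
      · rfl
      · have := hF1 m.1
        rw [LinearMap.mem_ker.1 m.2, map_zero] at this
        exact this
    have hψsurj : Function.Surjective ψ := by
      intro e
      let x : Fin b → R := fun j => Function.surjInv hsurj (φ (e, 0) j)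
      have hx : redb x = φ (e, 0) := by
        funext j
        rw [hredb]
        exact Function.surjInv_eq hsurj _
      have hπx : reda (π x) = 0 := by
        rw [← hF1, hx]
        simp [pibar]
      refine ⟨pr x, ?_⟩
      have h1 : redb (pr x).1 = φ (e, 0) := by
        rw [hprval, map_sub, hF3 _ hπx, sub_zero, hx]
      have h2 := hψ (pr x)
      rw [h1, LinearEquiv.symm_apply_apply] at h2
      exact (congrArg Prod.fst h2).symm
    have hker : LinearMap.ker ψ = I • (⊤ : Submodule R ↥(LinearMap.ker π)) := by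
      apply le_antisymm
      · intro m hm
        rw [LinearMap.mem_ker] at hm
        have h1 := hψ m
        rw [hm] at h1
        have h2 : redb m.1 = 0 := by
          have : φ.symm (redb m.1) = 0 := h1
          simpa using this
        have hmI : ∀ j, m.1 j ∈ I := by
          intro j
          have := congrFun h2 j
          rw [hredb] at this
          exact Ideal.Quotient.eq_zero_iff_mem.1 this
        have hsum : m = ∑ j, m.1 j • pr (Pi.single j 1) := by
          have h1 : (m.1 : Fin b → R) = ∑ j, m.1 j • (Pi.single j (1:R) : Fin b → R) := by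
            funext l
            simp [Finset.sum_apply, Pi.single_apply]
          calc m = pr m.1 := (hpr m).symm
            _ = pr (∑ j, m.1 j • (Pi.single j (1:R) : Fin b → R)) := by rw [← h1]
            _ = ∑ j, m.1 j • pr (Pi.single j 1) := by simp only [map_sum, map_smul]
        rw [hsum]
        exact Submodule.sum_mem _ (fun j _ => Submodule.smul_mem_smul (hmI j) Submodule.mem_top)
      · rw [Submodule.smul_le]
        intro r hr m _
        rw [LinearMap.mem_ker, map_smul, ← algebraMap_smul (R ⧸ I) r (ψ m),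
          Ideal.Quotient.algebraMap_eq, Ideal.Quotient.eq_zero_iff_mem.2 hr, zero_smul]
    let e1 : (R ⧸ I) ⊗[R] ↥(LinearMap.ker π) ≃ₗ[R ⧸ I]
        (↥(LinearMap.ker π) ⧸ (I • (⊤ : Submodule R ↥(LinearMap.ker π)))) :=
      (TensorProduct.quotTensorEquivQuotSMul ↥(LinearMap.ker π) I).extendScalarsOfSurjective hsurj'
    let e2 : (↥(LinearMap.ker π) ⧸ (I • (⊤ : Submodule R ↥(LinearMap.ker π)))) ≃ₗ[R] E :=
      (Submodule.quotEquivOfEq _ _ hker.symm) ≪≫ₗ ψ.quotKerEquivOfSurjective hψsurj
    exact ⟨e1 ≪≫ₗ e2.extendScalarsOfSurjective hsurj'⟩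

/-- Let `I` be an ideal of a commutative ring `R` contained in the Jacobson radical (equivalently, `1 +
i` is a unit for each `i ∈ I`). Then each finitely generated stably free module `E` over `R/I`
lifts: there is a finite stably free `R`-module `M` with `M/IM ≅ E` (existence of an isomorphism
only; the published statement names no map). -/
theorem result {R : Type u} [CommRing R] (I : Ideal R)
    (hI : I ≤ Ideal.jacobson (⊥ : Ideal R)) (E : Type u) [AddCommGroup E] [Module (R ⧸ I) E]
    [Module.Finite (R ⧸ I) E] [Module.IsStablyFree (R ⧸ I) E] :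
    ∃ (M : Type u) (_ : AddCommGroup M) (_ : Module R M), Module.Finite R M ∧ Module.IsStablyFree R M ∧
      Nonempty ((R ⧸ I) ⊗[R] M ≃ₗ[R ⧸ I] E) := by
  classical
  obtain ⟨N, _, _, hNfin, hNfree, hfree⟩ := Module.IsStablyFree.exist_free_prod (R ⧸ I) E
  rcases subsingleton_or_nontrivial (R ⧸ I) with hsub | hnt
  · haveI : Subsingleton E := Module.subsingleton (R ⧸ I) E
    haveI : Subsingleton ((R ⧸ I) ⊗[R] PUnit.{u+1}) := Module.subsingleton (R ⧸ I) _
    refine ⟨PUnit.{u+1}, inferInstance, inferInstance, inferInstance, inferInstance, ?_⟩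
    exact ⟨{ toFun := fun _ => 0, invFun := fun _ => 0, map_add' := fun _ _ => Subsingleton.elim _ _,
             map_smul' := fun _ _ => Subsingleton.elim _ _,
             left_inv := fun _ => Subsingleton.elim _ _, right_inv := fun _ => Subsingleton.elim _ _ }⟩
  · let ν := (Module.finBasis (R ⧸ I) N).equivFun
    let φ0 := (Module.finBasis (R ⧸ I) (E × N)).equivFun
    exact core I hI E _ _ ((LinearEquiv.prodCongr (LinearEquiv.refl (R ⧸ I) E) ν.symm) ≪≫ₗ φ0)

end Groth.Agent.S6863
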