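import Groth.Statements.S6866
import Groth.Agent.Lib.TorsionFree
import Mathlib.LinearAlgebra.TensorProduct.Pi
import Mathlib.RingTheory.Flat.Basic

set_option autoImplicit false
universe u
open TensorProduct
open CAlg

namespace Groth.Agent.S6866

/-- If `M` is a torsion free module over a domain `R` and `R → R'` is a flat ring map to another domain,
then `R' ⊗_R M` is torsion free over `R'`. -/
theorem result (R R' : Type u) [CommRing R] [IsDomain R] [CommRing R']
    [IsDomain R'] [Algebra R R'] [Module.Flat R R'] (M : Type u) [AddCommGroup M] [Module R M]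
    [Module.IsTorsionFree R M] : Module.IsTorsionFree R' (R' ⊗[R] M) := by
  constructor
  intro r' hr' z₁ z₂ hz
  obtain ⟨N, hN, hs⟩ := TensorProduct.exists_finite_submodule_right_of_setFinite
    ({z₁ - z₂} : Set (R' ⊗[R] M)) (Set.finite_singleton _)
  obtain ⟨w, hw⟩ := hs (Set.mem_singleton _)
  have hinjN : Function.Injective (N.subtype.baseChange R') := by
    rw [LinearMap.baseChange_eq_ltensor]
    exact Module.Flat.lTensor_preserves_injective_linearMap _ N.injective_subtype
  obtain ⟨n, f, hf⟩ := Groth.Agent.Lib.exists_injective_of_isTorsionFree R N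
  have hinjf : Function.Injective (f.baseChange R') := by
    rw [LinearMap.baseChange_eq_ltensor]
    exact Module.Flat.lTensor_preserves_injective_linearMap _ hf
  let g : R' ⊗[R] N →ₗ[R'] (Fin n → R') :=
    (TensorProduct.piScalarRight R R' R' (Fin n)).toLinearMap ∘ₗ f.baseChange R'
  have hg : Function.Injective g :=
    (TensorProduct.piScalarRight R R' R' (Fin n)).injective.comp hinjf
  have htf : Module.IsTorsionFree R' (R' ⊗[R] N) :=
    Function.Injective.moduleIsTorsionFree g hg (fun r m => map_smul g r m)
  have hw' : (N.subtype.baseChange R') w = z₁ - z₂ := hw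
  have h0 : r' • w = 0 := by
    apply hinjN
    rw [map_smul, hw', map_zero, smul_sub, sub_eq_zero]
    exact hz
  have hw0 : w = 0 := by
    have := htf.isSMulRegular hr'
    exact this (by simpa using h0)
  rw [hw0, map_zero] at hw'
  exact sub_eq_zero.mp hw'.symm

end Groth.Agent.S6866
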