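import Groth.Statements.S6873
import Groth.Agent.Lib.Reflexive
import Mathlib.RingTheory.Noetherian.Basic

set_option autoImplicit false
universe u
open CAlg

namespace Groth.Agent.S6873

/-- For a Noetherian domain `R`, a finite `R`-module `M` is reflexive if and only if `M` admits an
injective `R`-linear map into `Rⁿ`, for some `n`, whose cokernel is torsion free. -/
theorem result (R : Type u) [CommRing R] [IsDomain R]
    [IsNoetherianRing R] (M : Type u) [AddCommGroup M] [Module R M] [Module.Finite R M] :
    Module.IsReflexive R M ↔ ∃ (n : ℕ) (f : M →ₗ[R] (Fin n → R)), Function.Injective f ∧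
      Module.IsTorsionFree R ((Fin n → R) ⧸ LinearMap.range f) := by
  constructor
  · intro hM
    have : Module.Finite R (Module.Dual R M) := inferInstance
    obtain ⟨n, π, hπ⟩ := Module.Finite.exists_fin' R (Module.Dual R M)
    let f : M →ₗ[R] (Fin n → R) := LinearMap.pi (fun i => π (Pi.single i 1))
    have hπv : ∀ v : Fin n → R, π v = ∑ i, v i • π (Pi.single i 1) := by
      intro v
      conv_lhs => rw [← Finset.univ_sum_single v]
      rw [map_sum]
      refine Finset.sum_congr rfl fun i _ => ?_
      rw [← map_smul]
      congr 1
      ext j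
      simp [Pi.single_apply]
    have hf : Function.Injective f := by
      rw [injective_iff_map_eq_zero]
      intro m hm
      apply (Module.bijective_dual_eval R M).1
      rw [map_zero]
      ext φ
      obtain ⟨v, rfl⟩ := hπ φ
      rw [hπv v]
      simp only [Module.Dual.eval_apply, LinearMap.coe_sum, Finset.sum_apply,
        LinearMap.smul_apply, LinearMap.zero_apply]
      refine Finset.sum_eq_zero fun i _ => ?_
      have : f m i = 0 := by rw [hm]; rfl
      have h2 : (π (Pi.single i 1)) m = 0 := this
      rw [h2, smul_zero]
    refine ⟨n, f, hf, ?_⟩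
    -- pairing
    let ψ : (Fin n → R) →ₗ[R] Module.Dual R (Fin n → R) :=
      ∑ i, (LinearMap.proj i : (Fin n → R) →ₗ[R] R).smulRight
        (LinearMap.proj i : Module.Dual R (Fin n → R))
    have hψ : ∀ v w, ψ v w = ∑ i, v i * w i := by
      intro v w
      simp [ψ]
    let h : (Fin n → R) →ₗ[R] Module.Dual R (LinearMap.ker π) :=
      (LinearMap.ker π).dualRestrict ∘ₗ ψ
    have hker : LinearMap.range f ≤ LinearMap.ker h := by
      rintro _ ⟨m, rfl⟩
      rw [LinearMap.mem_ker]
      ext w
      have hw : π (w : Fin n → R) = 0 := w.2
      have := congrArg (fun φ => φ m) hw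
      rw [hπv] at this
      simp only [LinearMap.coe_sum, Finset.sum_apply, LinearMap.smul_apply,
        LinearMap.zero_apply, smul_eq_mul] at this
      simp only [h, LinearMap.comp_apply, Submodule.dualRestrict_apply, hψ, LinearMap.zero_apply]
      rw [← this]
      refine Finset.sum_congr rfl fun i _ => ?_
      change (π (Pi.single i 1)) m * (w : Fin n → R) i = (w : Fin n → R) i * _
      ring
    have hker' : LinearMap.ker h ≤ LinearMap.range f := by
      intro v hv
      have hv' : ψ v ∈ (LinearMap.ker π).dualAnnihilator := by
        rw [← Submodule.dualRestrict_ker_eq_dualAnnihilator]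
        exact hv
      rw [← LinearMap.range_dualMap_eq_dualAnnihilator_ker_of_surjective π hπ] at hv'
      obtain ⟨y, hy⟩ := hv'
      obtain ⟨m, rfl⟩ := (Module.bijective_dual_eval R M).2 y
      refine ⟨m, ?_⟩
      funext i
      have := congrArg (fun φ => φ (Pi.single i 1)) hy
      simp only [LinearMap.dualMap_apply, Module.Dual.eval_apply, hψ] at this
      change (π (Pi.single i 1)) m = v i
      rw [this]
      simp [Pi.single_apply]
    let hbar : ((Fin n → R) ⧸ LinearMap.range f) →ₗ[R] Module.Dual R (LinearMap.ker π) :=
      (LinearMap.range f).liftQ h hker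
    have hinj : Function.Injective hbar := by
      rw [← LinearMap.ker_eq_bot]
      exact Submodule.ker_liftQ_eq_bot _ _ _ hker'
    exact Function.Injective.moduleIsTorsionFree hbar hinj (fun r m => map_smul hbar r m)
  · rintro ⟨n, f, hf, htf⟩
    exact Groth.Agent.Lib.isReflexive_of_exact R f (LinearMap.range f).mkQ hf
      (LinearMap.exact_map_mkQ_range f)

end Groth.Agent.S6873
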