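import Groth.Statements.S6875
import Groth.Agent.Lib.Reflexive
import Mathlib.RingTheory.Noetherian.Basic

set_option autoImplicit false
universe u
open CAlg

namespace Groth.Agent.S6875

/-- Let `R` be a Noetherian domain, `M` a finite `R`-module and `N` a finite reflexive `R`-module. Then
`Hom_R(M, N)` is reflexive. -/
theorem result (R : Type u) [CommRing R] [IsDomain R] [IsNoetherianRing R]
    (M N : Type u) [AddCommGroup M] [Module R M] [Module.Finite R M] [AddCommGroup N] [Module R N] [Module.Finite R N]
    [Module.IsReflexive R N] : Module.IsReflexive R (M →ₗ[R] N) := by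
  obtain ⟨n, p, hp⟩ := Module.Finite.exists_fin' R M
  have hK : Module.Finite R (LinearMap.ker p) := inferInstance
  obtain ⟨m, q, hq⟩ := Module.Finite.exists_fin' R (LinearMap.ker p)
  let ι : (Fin m → R) →ₗ[R] (Fin n → R) := (LinearMap.ker p).subtype ∘ₗ q
  have hι : LinearMap.range ι = LinearMap.ker p := by
    rw [LinearMap.range_comp, LinearMap.range_eq_top.mpr hq, Submodule.map_top,
      Submodule.range_subtype]
  let F : (M →ₗ[R] N) →ₗ[R] ((Fin n → R) →ₗ[R] N) := LinearMap.lcomp R N p
  let G : ((Fin n → R) →ₗ[R] N) →ₗ[R] ((Fin m → R) →ₗ[R] N) := LinearMap.lcomp R N ι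
  have hF : Function.Injective F := by
    intro a b hab
    ext x
    obtain ⟨v, rfl⟩ := hp x
    exact LinearMap.congr_fun hab v
  have hFG : Function.Exact F G := by
    intro φ
    constructor
    · intro hφ
      have hle : LinearMap.ker p ≤ LinearMap.ker φ := by
        rw [← hι]
        rintro _ ⟨w, rfl⟩
        exact LinearMap.congr_fun hφ w
      refine ⟨(LinearMap.ker p).liftQ φ hle ∘ₗ (p.quotKerEquivOfSurjective hp).symm.toLinearMap, ?_⟩
      apply LinearMap.ext
      intro v
      change (LinearMap.ker p).liftQ φ hle ((p.quotKerEquivOfSurjective hp).symm (p v)) = φ v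
      have : (p.quotKerEquivOfSurjective hp).symm (p v) = (LinearMap.ker p).mkQ v := by
        rw [LinearEquiv.symm_apply_eq]
        rfl
      rw [this]
      rfl
    · rintro ⟨ψ, rfl⟩
      apply LinearMap.ext
      intro w
      change ψ (p ((q w : LinearMap.ker p) : Fin n → R)) = 0
      rw [LinearMap.mem_ker.mp (q w).2, map_zero]
  have h1 := Groth.Agent.Lib.isReflexive_linearMap_pi_fin R N n
  have h2 := Groth.Agent.Lib.isReflexive_linearMap_pi_fin R N m
  have h3 : Module.IsTorsionFree R ((Fin m → R) →ₗ[R] N) := inferInstance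
  have h4 : Module.Finite R (M →ₗ[R] N) := inferInstance
  exact Groth.Agent.Lib.isReflexive_of_exact R F G hF hFG

end Groth.Agent.S6875
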