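import Groth.Statements.S6876
import Groth.Agent.H29.DepthLib

set_option autoImplicit false
universe u
open CAlg

namespace Groth.Agent.S6876

open scoped Pointwise

open RingTheory.Sequence in
/-- regularity passes to Hom -/
theorem homReg {R : Type*} [CommRing R] (M N : Type*) [AddCommGroup M] [Module R M]
    [AddCommGroup N] [Module R N] (x : R) (hx : IsSMulRegular N x) :
    IsSMulRegular (M →ₗ[R] N) x := by
  intro f g hfg
  ext m'
  apply hx
  have := LinearMap.congr_fun hfg m'
  simpa using this

/-- The comparison map `Hom(M,N)/x → Hom(M, N/xN)` is injective when `x` is `N`-regular. -/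
theorem homQuot {R : Type*} [CommRing R] (M N : Type*) [AddCommGroup M] [Module R M]
    [AddCommGroup N] [Module R N] (x y : R) (hx : IsSMulRegular N x)
    (hy : IsSMulRegular (QuotSMulTop x N) y) :
    IsSMulRegular (QuotSMulTop x (M →ₗ[R] N)) y := by
  classical
  -- the map
  let post : (M →ₗ[R] N) →ₗ[R] (M →ₗ[R] QuotSMulTop x N) :=
    LinearMap.compRight R (Submodule.mkQ (x • (⊤ : Submodule R N)))
  have hpost : ∀ f : M →ₗ[R] N, ∀ m', post f m' = Submodule.Quotient.mk (f m') := fun f m' => rfl
  have hker : x • (⊤ : Submodule R (M →ₗ[R] N)) ≤ LinearMap.ker post := by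
    intro f hf
    obtain ⟨g, -, rfl⟩ := (Submodule.mem_smul_pointwise_iff_exists _ _ _).1 hf
    rw [LinearMap.mem_ker]
    ext m'
    rw [hpost, LinearMap.smul_apply, LinearMap.zero_apply, Submodule.Quotient.mk_eq_zero]
    exact Submodule.smul_mem_pointwise_smul _ _ _ Submodule.mem_top
  let Φ : QuotSMulTop x (M →ₗ[R] N) →ₗ[R] (M →ₗ[R] QuotSMulTop x N) :=
    Submodule.liftQ _ post hker
  have hΦinj : Function.Injective Φ := by
    rw [← LinearMap.ker_eq_bot, Submodule.ker_liftQ_eq_bot']
    · exact le_antisymm hker (by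
        intro f hf
        rw [LinearMap.mem_ker] at hf
        have hfm : ∀ m', ∃ n : N, x • n = f m' := by
          intro m'
          have := LinearMap.congr_fun hf m'
          rw [hpost, LinearMap.zero_apply, Submodule.Quotient.mk_eq_zero] at this
          obtain ⟨n, -, hn⟩ := (Submodule.mem_smul_pointwise_iff_exists _ _ _).1 this
          exact ⟨n, hn⟩
        choose g hg using hfm
        let G : M →ₗ[R] N :=
          { toFun := g
            map_add' := fun a b => by
              apply hx
              change x • g (a + b) = x • (g a + g b)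
              rw [smul_add, hg, hg, hg, map_add]
            map_smul' := fun c a => by
              apply hx
              change x • g (c • a) = x • (RingHom.id R c • g a)
              rw [RingHom.id_apply, smul_comm, hg, hg, map_smul] }
        have : f = x • G := by
          ext m'
          rw [LinearMap.smul_apply]
          exact (hg m').symm
        rw [this]
        exact Submodule.smul_mem_pointwise_smul _ _ _ Submodule.mem_top)
  have hyH : IsSMulRegular (M →ₗ[R] QuotSMulTop x N) y := homReg M (QuotSMulTop x N) y hy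
  intro a b hab
  apply hΦinj
  apply hyH
  change y • Φ a = y • Φ b
  rw [← map_smul, ← map_smul]
  exact congrArg Φ hab

/-- Let `R` be a Noetherian local ring and `M, N` finite `R`-modules. If `N` has depth `≥ 1` then so
does `Hom_R(M, N)`; if `N` has depth `≥ 2` then so does `Hom_R(M, N)`. -/
theorem result (R : Type u) [CommRing R] [IsNoetherianRing R] [IsLocalRing R]
    (M N : Type u) [AddCommGroup M] [Module R M] [Module.Finite R M] [AddCommGroup N] [Module R N] [Module.Finite R N] :
    (1 ≤ LocCoh.depth R N → 1 ≤ LocCoh.depth R (M →ₗ[R] N)) ∧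
    (2 ≤ LocCoh.depth R N → 2 ≤ LocCoh.depth R (M →ₗ[R] N)) := by
  classical
  have key : ∀ (n : ℕ) (rs : List R), rs.length = n →
      (∀ r ∈ rs, r ∈ IsLocalRing.maximalIdeal R) →
      RingTheory.Sequence.IsWeaklyRegular (M →ₗ[R] N) rs →
      (n : ℕ∞) ≤ LocCoh.depth R (M →ₗ[R] N) := by
    intro n rs hlen hmem hreg
    unfold LocCoh.depth
    by_cases htop : IsLocalRing.maximalIdeal R • (⊤ : Submodule R (M →ₗ[R] N)) = ⊤
    · unfold LocCoh.idealDepth
      rw [if_pos htop]; exact le_top
    · exact (Groth.Agent.H29.le_idealDepth_iff _ _ htop n).2 ⟨rs, hlen, hreg, hmem⟩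
  have hN0 : IsLocalRing.maximalIdeal R • (⊤ : Submodule R N) = ⊤ → ∀ n : ℕ,
      (n : ℕ∞) ≤ LocCoh.depth R (M →ₗ[R] N) := by
    intro htop n
    have hNb : (⊤ : Submodule R N) = ⊥ :=
      Submodule.eq_bot_of_le_smul_of_le_jacobson_bot _ _ Module.Finite.fg_top
        (le_of_eq htop.symm) (IsLocalRing.maximalIdeal_le_jacobson _)
    have hsub : Subsingleton N := ⟨fun a b => by
      have ha : a ∈ (⊤ : Submodule R N) := Submodule.mem_top
      have hb : b ∈ (⊤ : Submodule R N) := Submodule.mem_top
      rw [hNb, Submodule.mem_bot] at ha hb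
      rw [ha, hb]⟩
    have hsubH : Subsingleton (M →ₗ[R] N) := ⟨fun f g => by ext m'; exact Subsingleton.elim _ _⟩
    unfold LocCoh.depth LocCoh.idealDepth
    rw [if_pos (Subsingleton.elim _ _)]
    exact le_top
  constructor
  · intro h1
    by_cases htop : IsLocalRing.maximalIdeal R • (⊤ : Submodule R N) = ⊤
    · exact_mod_cast hN0 htop 1
    · obtain ⟨rs, hlen, hreg, hmem⟩ := (Groth.Agent.H29.le_idealDepth_iff _ _ htop 1).1 h1
      obtain ⟨x, rfl⟩ := List.length_eq_one_iff.1 hlen
      rw [RingTheory.Sequence.isWeaklyRegular_cons_iff] at hreg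
      have := key 1 [x] rfl hmem (by
        rw [RingTheory.Sequence.isWeaklyRegular_cons_iff]
        exact ⟨homReg M N x hreg.1, RingTheory.Sequence.IsWeaklyRegular.nil _ _⟩)
      exact_mod_cast this
  · intro h2
    by_cases htop : IsLocalRing.maximalIdeal R • (⊤ : Submodule R N) = ⊤
    · exact_mod_cast hN0 htop 2
    · obtain ⟨rs, hlen, hreg, hmem⟩ := (Groth.Agent.H29.le_idealDepth_iff _ _ htop 2).1 h2
      obtain ⟨x, y, rfl⟩ := List.length_eq_two.1 hlen
      rw [RingTheory.Sequence.isWeaklyRegular_cons_iff,
        RingTheory.Sequence.isWeaklyRegular_cons_iff] at hreg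
      have := key 2 [x, y] rfl hmem (by
        rw [RingTheory.Sequence.isWeaklyRegular_cons_iff,
          RingTheory.Sequence.isWeaklyRegular_cons_iff]
        exact ⟨homReg M N x hreg.1, homQuot M N x y hreg.1 hreg.2.1,
          RingTheory.Sequence.IsWeaklyRegular.nil _ _⟩)
      exact_mod_cast this

end Groth.Agent.S6876
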