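import Groth.Statements.S6877
import Groth.Agent.H29.DepthLib
import Groth.Agent.S6876

set_option autoImplicit false
universe u
open CAlg

namespace Groth.Agent.S6877

/-- Support dimension of `Hom(M,N)` is at most that of `N` (finite modules, Noetherian ring). -/
theorem sdim_hom_le {A : Type u} [CommRing A] [IsNoetherianRing A]
    (M' N' : Type u) [AddCommGroup M'] [Module A M'] [Module.Finite A M']
    [AddCommGroup N'] [Module A N'] [Module.Finite A N'] :
    Module.supportDim A (M' →ₗ[A] N') ≤ Module.supportDim A N' := by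
  have hsub : Module.support A (M' →ₗ[A] N') ⊆ Module.support A N' := by
    rw [Module.support_eq_zeroLocus, Module.support_eq_zeroLocus]
    apply PrimeSpectrum.zeroLocus_anti_mono
    intro r hr
    rw [SetLike.mem_coe, Module.mem_annihilator] at hr ⊢
    intro f
    ext m'
    rw [LinearMap.smul_apply, hr, LinearMap.zero_apply]
  unfold Module.supportDim
  exact Order.krullDim_le_of_strictMono (fun x => (⟨x.1, hsub x.2⟩ : Module.support A N'))
    (fun a b hab => hab)

/-- The arithmetic core. -/
theorem arith (a b : WithBot ℕ∞) (d e : ℕ∞) (hba : b ≤ a) (h1 : 1 ≤ d → 1 ≤ e)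
    (h2 : 2 ≤ d → 2 ≤ e) :
    (min (1 : WithBot ℕ∞) a ≤ (d : WithBot ℕ∞) → min (1 : WithBot ℕ∞) b ≤ (e : WithBot ℕ∞)) ∧
    (min (2 : WithBot ℕ∞) a ≤ (d : WithBot ℕ∞) → min (2 : WithBot ℕ∞) b ≤ (e : WithBot ℕ∞)) := by
  have small : d < 2 → d ≤ e := by
    intro hlt
    obtain ⟨n, rfl⟩ := ENat.ne_top_iff_exists.1 (ne_top_of_lt hlt)
    have hn : n < 2 := by exact_mod_cast hlt
    interval_cases n
    · simp
    · exact_mod_cast h1 (by norm_num)
  have two_cast : ∀ x : ℕ∞, (2 : WithBot ℕ∞) ≤ (x : WithBot ℕ∞) ↔ 2 ≤ x := fun x => by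
    rw [show (2 : WithBot ℕ∞) = ((2 : ℕ∞) : WithBot ℕ∞) from rfl, WithBot.coe_le_coe]
  constructor
  · intro h
    by_cases hd : 1 ≤ d
    · exact (min_le_left _ _).trans (by exact_mod_cast h1 hd)
    · have hlt : d < 2 := lt_of_lt_of_le (not_le.1 hd) (by norm_num)
      rcases min_le_iff.1 h with h' | h'
      · exact absurd (by exact_mod_cast h') hd
      · exact (min_le_right _ _).trans (hba.trans (h'.trans (by exact_mod_cast small hlt)))
  · intro h
    by_cases hd : 2 ≤ d
    · exact (min_le_left _ _).trans ((two_cast e).2 (h2 hd))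
    · have hlt : d < 2 := not_le.1 hd
      rcases min_le_iff.1 h with h' | h'
      · exact absurd ((two_cast d).1 h') hd
      · exact (min_le_right _ _).trans (hba.trans (h'.trans (by exact_mod_cast small hlt)))

/-- Let `R` be a Noetherian ring and `M, N` finite `R`-modules. If `N` has `(S_1)`, resp. `(S_2)`, then
so does `Hom_R(M, N)`. (The published statement has a third part, over a domain: `N` torsion free
with `(S_2)` implies the same for `Hom_R(M, N)`; this row states parts one and two.) -/
theorem result (R : Type u) [CommRing R] [IsNoetherianRing R]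
    (M N : Type u) [AddCommGroup M] [Module R M] [Module.Finite R M] [AddCommGroup N] [Module R N] [Module.Finite R N] :
    (LocCoh.HasSk 1 R N → LocCoh.HasSk 1 R (M →ₗ[R] N)) ∧
    (LocCoh.HasSk 2 R N → LocCoh.HasSk 2 R (M →ₗ[R] N)) := by
  classical
  have hfp : Module.FinitePresentation R M := Module.finitePresentation_of_finite R M
  have main : ∀ (p : Ideal R) [p.IsPrime],
      (min (1 : WithBot ℕ∞) (Module.supportDim (Localization.AtPrime p) (LocalizedModule p.primeCompl N)) ≤
          ((LocCoh.depth (Localization.AtPrime p) (LocalizedModule p.primeCompl N) : ℕ∞) : WithBot ℕ∞) →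
        min (1 : WithBot ℕ∞) (Module.supportDim (Localization.AtPrime p)
            (LocalizedModule p.primeCompl (M →ₗ[R] N))) ≤
          ((LocCoh.depth (Localization.AtPrime p) (LocalizedModule p.primeCompl (M →ₗ[R] N)) : ℕ∞) :
            WithBot ℕ∞)) ∧
      (min (2 : WithBot ℕ∞) (Module.supportDim (Localization.AtPrime p) (LocalizedModule p.primeCompl N)) ≤
          ((LocCoh.depth (Localization.AtPrime p) (LocalizedModule p.primeCompl N) : ℕ∞) : WithBot ℕ∞) →
        min (2 : WithBot ℕ∞) (Module.supportDim (Localization.AtPrime p)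
            (LocalizedModule p.primeCompl (M →ₗ[R] N))) ≤
          ((LocCoh.depth (Localization.AtPrime p) (LocalizedModule p.primeCompl (M →ₗ[R] N)) : ℕ∞) :
            WithBot ℕ∞)) := by
    intro p _
    let e := (Module.FinitePresentation.linearEquivMapExtendScalars (M := M) (N := N)
      p.primeCompl).extendScalarsOfIsLocalization p.primeCompl (Localization.AtPrime p)
    have hdep : LocCoh.depth (Localization.AtPrime p) (LocalizedModule p.primeCompl (M →ₗ[R] N)) =
        LocCoh.depth (Localization.AtPrime p)
          (LocalizedModule p.primeCompl M →ₗ[Localization.AtPrime p] LocalizedModule p.primeCompl N) :=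
      Groth.Agent.H29.idealDepth_congr _ e
    have hsd : Module.supportDim (Localization.AtPrime p) (LocalizedModule p.primeCompl (M →ₗ[R] N)) =
        Module.supportDim (Localization.AtPrime p)
          (LocalizedModule p.primeCompl M →ₗ[Localization.AtPrime p] LocalizedModule p.primeCompl N) :=
      Module.supportDim_eq_of_equiv e
    rw [hdep, hsd]
    have h76 := Groth.Agent.S6876.result (Localization.AtPrime p) (LocalizedModule p.primeCompl M)
      (LocalizedModule p.primeCompl N)
    exact arith _ _ _ _ (sdim_hom_le _ _) h76.1 h76.2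
  constructor
  · intro h p _
    exact (main p).1 (h p)
  · intro h p _
    exact (main p).2 (h p)

end Groth.Agent.S6877
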