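import Groth.Statements.S6882
import Mathlib.LinearAlgebra.FreeModule.PID
import Mathlib.LinearAlgebra.Dual.Lemmas
import Mathlib.Algebra.Module.Torsion.Basic
import Mathlib.RingTheory.DiscreteValuationRing.Basic

set_option autoImplicit false
universe u
open CAlg

namespace Groth.Agent.S6882

/-- For a finite module `M` over a discrete valuation ring `R`, the evaluation map from `M` to its
double dual `M**` is surjective. -/
theorem result (R : Type u) [CommRing R] [IsDomain R]
    [IsDiscreteValuationRing R] (M : Type u) [AddCommGroup M] [Module R M] [Module.Finite R M] :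
    Function.Surjective (Module.Dual.eval R M) := by
  classical
  have hrefl : Module.IsReflexive R (M ⧸ Submodule.torsion R M) := inferInstance
  intro y
  let y' : Module.Dual R (Module.Dual R (M ⧸ Submodule.torsion R M)) :=
    y ∘ₗ (Submodule.torsion R M).mkQ.dualMap
  obtain ⟨mbar, hm⟩ := (Module.bijective_dual_eval R (M ⧸ Submodule.torsion R M)).2 y'
  obtain ⟨m, rfl⟩ := (Submodule.torsion R M).mkQ_surjective mbar
  refine ⟨m, ?_⟩
  ext φ
  have hφ : Submodule.torsion R M ≤ LinearMap.ker φ := by
    intro t ht
    obtain ⟨a, ha⟩ := (Submodule.mem_torsion_iff t).mp ht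
    have h1 : (a : R) * φ t = 0 := by
      rw [← smul_eq_mul, ← map_smul]
      have : (a : R) • t = 0 := ha
      rw [this, map_zero]
    exact (mul_eq_zero.mp h1).resolve_left (nonZeroDivisors.coe_ne_zero a)
  have h2 : φ = (Submodule.torsion R M).mkQ.dualMap ((Submodule.torsion R M).liftQ φ hφ) := by
    ext x; simp
  have h3 := congrArg (fun z => z ((Submodule.torsion R M).liftQ φ hφ)) hm
  simp only [Module.Dual.eval_apply, y', LinearMap.comp_apply] at h3
  rw [← h2] at h3
  simpa using h3

end Groth.Agent.S6882
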