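import Groth.Statements.S6886
import Mathlib

set_option autoImplicit false
universe u
open TensorProduct
open CAlg

namespace Groth.Agent.S6886

/-- Let `R → S` be a finite ring map. One can find an extension `R ⊆ R'` of rings, with `R'` finite and
free as an `R`-module, for which the ring `S ⊗_R R'` arises as a quotient of `R'[T_1, …,
T_n]/(P_1(T_1), …, P_n(T_n))` with each `P_i(T) = ∏_j (T - α_{ij})` a product of linear factors over
`R'`. -/
theorem result (R S : Type u) [CommRing R] [CommRing S] [Algebra R S]
    [Module.Finite R S] :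
    ∃ (R' : Type u) (_ : CommRing R') (_ : Algebra R R'), Module.Finite R R' ∧ Module.Free R R' ∧
      Function.Injective (algebraMap R R') ∧
      ∃ (n : ℕ) (d : Fin n → ℕ) (α : (i : Fin n) → Fin (d i) → R')
        (φ : MvPolynomial (Fin n) R' →ₐ[R'] R' ⊗[R] S), Function.Surjective φ ∧
          ∀ i, φ (∏ j, (MvPolynomial.X i - MvPolynomial.C (α i j))) = 0 := by
  classical
  rcases subsingleton_or_nontrivial R with hsub | hnt
  · -- trivial ring
    haveI : Subsingleton (R ⊗[R] S) := Module.subsingleton R _
    refine ⟨R, inferInstance, inferInstance, inferInstance, inferInstance,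
      fun x y _ => Subsingleton.elim x y, 0, fun i => i.elim0, fun i => i.elim0,
      MvPolynomial.aeval (fun i : Fin 0 => i.elim0), ?_, fun i => i.elim0⟩
    exact Function.surjective_to_subsingleton _
  · obtain ⟨n, g, hg⟩ := Module.Finite.exists_fin (R := R) (M := S)
    have hint : ∀ i, ∃ p : Polynomial R, p.Monic ∧ Polynomial.aeval (g i) p = 0 := by
      intro i
      obtain ⟨p, hp, hp0⟩ := Algebra.IsIntegral.isIntegral (R := R) (g i)
      exact ⟨p, hp, hp0⟩
    choose Pi hPi_monic hPi_zero using hint
    obtain ⟨P, hP⟩ : ∃ P : Polynomial R, P = ∏ i, Pi i := ⟨_, rfl⟩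
    have hPmonic : P.Monic := by
      rw [hP]; exact Polynomial.monic_prod_of_monic _ _ (fun i _ => hPi_monic i)
    have hPzero : ∀ i, Polynomial.aeval (g i) P = 0 := by
      intro i
      rw [hP, map_prod]
      exact Finset.prod_eq_zero (Finset.mem_univ i) (hPi_zero i)
    obtain ⟨R', instR', instA, hfin, hfree, hnt', hsplit⟩ := hPmonic.exists_splits_map
    obtain ⟨m, hm⟩ := Polynomial.splits_iff_exists_multiset.mp hsplit
    have hlead : (P.map (algebraMap R R')).leadingCoeff = 1 := (hPmonic.map _)
    rw [hlead, map_one, one_mul] at hm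
    obtain ⟨l, hl⟩ : ∃ l : List R', l = m.toList := ⟨_, rfl⟩
    have hml : m = (l : Multiset R') := by rw [hl, Multiset.coe_toList]
    refine ⟨R', instR', instA, hfin, hfree, FaithfulSMul.algebraMap_injective R R', n,
      fun _ => l.length, fun _ j => l[j.1],
      MvPolynomial.aeval (fun i : Fin n => (1 : R') ⊗ₜ[R] g i), ?_, ?_⟩
    · -- surjectivity
      intro z
      induction z using TensorProduct.induction_on with
      | zero => exact ⟨0, map_zero _⟩
      | add x y hx hy =>
        obtain ⟨a, ha⟩ := hx
        obtain ⟨b, hb⟩ := hy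
        exact ⟨a + b, by rw [map_add, ha, hb]⟩
      | tmul r' s =>
        have hs : s ∈ Submodule.span R (Set.range g) := by rw [hg]; trivial
        obtain ⟨c, hc⟩ := (Submodule.mem_span_range_iff_exists_fun R).mp hs
        refine ⟨∑ i, MvPolynomial.C (c i • r') * MvPolynomial.X i, ?_⟩
        rw [map_sum, ← hc, TensorProduct.tmul_sum]
        refine Finset.sum_congr rfl fun i _ => ?_
        rw [map_mul, MvPolynomial.aeval_C, MvPolynomial.aeval_X,
          Algebra.TensorProduct.algebraMap_apply, Algebra.TensorProduct.tmul_mul_tmul,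
          Algebra.algebraMap_self_apply, mul_one, one_mul, TensorProduct.smul_tmul]
    · intro i
      have h1 : Polynomial.aeval ((1 : R') ⊗ₜ[R] g i) (P.map (algebraMap R R')) = 0 := by
        rw [Polynomial.aeval_map_algebraMap]
        have h2 : ((1 : R') ⊗ₜ[R] g i) =
            (Algebra.TensorProduct.includeRight : S →ₐ[R] R' ⊗[R] S) (g i) := rfl
        rw [h2, Polynomial.aeval_algHom_apply, hPzero, map_zero]
      rw [hm, hml, Multiset.map_coe, Multiset.prod_coe, map_list_prod, List.map_map] at h1
      rw [map_prod]
      rw [← h1, ← Fin.prod_univ_fun_getElem]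
      refine Finset.prod_congr rfl fun j _ => ?_
      simp only [Function.comp_apply, map_sub, MvPolynomial.aeval_X, MvPolynomial.aeval_C,
        Polynomial.aeval_X, Polynomial.aeval_C]

end Groth.Agent.S6886
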