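import Groth.Statements.S6887
import Mathlib.LinearAlgebra.Matrix.Charpoly.LinearMap
import Mathlib.RingTheory.Nakayama
import Mathlib.Tactic

set_option autoImplicit false
universe u
open Polynomial
open CAlg

namespace Groth.Agent.S6887

/-- Let `(A, I)` be a Zariski pair (`I` inside the Jacobson radical) and `A → B` a finite ring map.
Suppose `B/IB ≅ B₁ × B₂` as `A`-algebras with `A → B₁` surjective, and `b ∈ B` maps to `(1, 0)`.
Then there is a monic `f ∈ A[x]` with `f(b) = 0` whose reduction modulo `I` is `(x - 1) x^d` for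
some `d ≥ 1`. -/
theorem result (A B : Type u) [CommRing A] [CommRing B]
    [Algebra A B] [Module.Finite A B] (I : Ideal A) (hI : I ≤ Ideal.jacobson (⊥ : Ideal A))
    (B₁ B₂ : Type u) [CommRing B₁] [CommRing B₂] [Algebra A B₁] [Algebra A B₂]
    (e : (B ⧸ I.map (algebraMap A B)) ≃ₐ[A] B₁ × B₂) (h₁ : Function.Surjective (algebraMap A B₁)) (b : B)
    (hb : e (Ideal.Quotient.mk (I.map (algebraMap A B)) b) = (1, 0)) :
    ∃ (f : A[X]) (d : ℕ), f.Monic ∧ Polynomial.aeval b f = 0 ∧ 1 ≤ d ∧
      f.map (Ideal.Quotient.mk I) = (X - 1) * X ^ d := by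
  classical
  let q : B →ₐ[A] B₁ × B₂ := (e : (B ⧸ (I.map (algebraMap A B))) →ₐ[A] B₁ × B₂).comp (Ideal.Quotient.mkₐ A (I.map (algebraMap A B)))
  have hq_apply : ∀ x, q x = e (Ideal.Quotient.mk (I.map (algebraMap A B)) x) := fun x => rfl
  have hq_surj : Function.Surjective q := e.surjective.comp Ideal.Quotient.mk_surjective
  have hker : ∀ x : B, q x = 0 → x ∈ (I.map (algebraMap A B)) := by
    intro x hx
    rw [hq_apply] at hx
    have h0 : Ideal.Quotient.mk (I.map (algebraMap A B)) x = 0 := by
      apply e.injective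
      rw [hx, map_zero]
    exact Ideal.Quotient.eq_zero_iff_mem.mp h0
  have hqb : q b = (1, 0) := hb
  have hfinB₂ : Module.Finite A B₂ := by
    apply Module.Finite.of_surjective ((LinearMap.snd A B₁ B₂).comp q.toLinearMap)
    intro y
    obtain ⟨x, hx⟩ := hq_surj (0, y)
    exact ⟨x, by simp [hx]⟩
  obtain ⟨n, s, hs⟩ := Module.Finite.exists_fin (R := A) (M := B₂)
  choose β hβ using fun k => hq_surj ((0 : B₁), s k)
  let v : Fin (n + 1) → B := Fin.cons b β
  let d : Fin (n + 1) → A := Fin.cons 1 (fun _ => 0)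
  have hv0 : v 0 = b := rfl
  have hvs : ∀ k : Fin n, v k.succ = β k := fun k => by simp [v]
  have hd0 : d 0 = 1 := rfl
  have hds : ∀ k : Fin n, d k.succ = 0 := fun k => by simp [d]
  have hspan : Submodule.span A (Set.range v) = ⊤ := by
    rw [eq_top_iff]
    apply Submodule.le_of_le_smul_of_le_jacobson_bot Module.Finite.fg_top hI
    intro x _
    obtain ⟨a, ha⟩ := h₁ (q x).1
    have hx2 : (q x).2 ∈ Submodule.span A (Set.range s) := by rw [hs]; trivial
    obtain ⟨c, hc⟩ := (Submodule.mem_span_range_iff_exists_fun A).mp hx2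
    set z := a • b + ∑ k, c k • β k with hz
    have hqz : q z = q x := by
      rw [hz, map_add, map_smul, map_sum, hqb]
      simp_rw [map_smul, hβ]
      ext
      · simp [Algebra.smul_def, ha, Prod.fst_sum]
      · simp [← hc, Prod.snd_sum]
    have hmem : x - z ∈ (I.map (algebraMap A B)) := hker _ (by rw [map_sub, hqz, sub_self])
    have hxz : x = z + (x - z) := by ring
    rw [hxz]
    apply Submodule.add_mem_sup
    · apply Submodule.add_mem
      · exact Submodule.smul_mem _ _ (Submodule.subset_span ⟨0, rfl⟩)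
      · exact Submodule.sum_mem _ fun k _ =>
          Submodule.smul_mem _ _ (Submodule.subset_span ⟨k.succ, hvs k⟩)
    · rw [Ideal.smul_top_eq_map]
      exact hmem
  -- the defect vectors lie in `I • ⊤`
  have hw : ∀ j, b * v j - d j • v j ∈ LinearMap.range (Ideal.finsuppTotal (Fin (n + 1)) B I v) := by
    intro j
    rw [Ideal.range_finsuppTotal, hspan, Ideal.smul_top_eq_map]
    apply hker
    refine Fin.cases ?_ (fun k => ?_) j
    · rw [hv0, hd0, one_smul, map_sub, map_mul, hqb]
      ext <;> simp
    · rw [hvs, hds, zero_smul, sub_zero, map_mul, hqb, hβ]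
      ext <;> simp
  choose c hc using hw
  let M : Matrix (Fin (n + 1)) (Fin (n + 1)) A := fun i j => (c j i : A) + Matrix.diagonal d i j
  have hrep : M.Represents v (Algebra.lmul A B b) := by
    rw [Matrix.represents_iff']
    intro j
    have h1 := hc j
    rw [Ideal.finsuppTotal_apply_eq_of_fintype] at h1
    simp only [M, add_smul, Finset.sum_add_distrib]
    rw [h1]
    have h2 : ∑ i, Matrix.diagonal d i j • v i = d j • v j := by
      rw [Finset.sum_eq_single j]
      · rw [Matrix.diagonal_apply_eq]
      · intro i _ hij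
        rw [Matrix.diagonal_apply_ne _ hij, zero_smul]
      · intro h; exact absurd (Finset.mem_univ j) h
    rw [h2]
    simp
  let M' : Matrix.isRepresentation A v := ⟨M, _, hrep⟩
  have htoEnd : Matrix.isRepresentation.toEnd A v hspan M' = Algebra.lmul A B b :=
    Matrix.isRepresentation.eq_toEnd_of_represents A v hspan M' hrep
  have hCH : Polynomial.aeval (Algebra.lmul A B b) M.charpoly = 0 := by
    rw [← htoEnd, Polynomial.aeval_algHom_apply,
      ← map_zero (Matrix.isRepresentation.toEnd A v hspan)]
    congr 1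
    ext1
    rw [Polynomial.aeval_subalgebra_coe, Matrix.aeval_self_charpoly, Subalgebra.coe_zero]
  have hCHb : Polynomial.aeval b M.charpoly = 0 := by
    rw [Polynomial.aeval_algHom_apply] at hCH
    have := LinearMap.congr_fun hCH 1
    simpa using this
  have hMmap : M.map (Ideal.Quotient.mk I) = Matrix.diagonal (fun i => Ideal.Quotient.mk I (d i)) := by
    ext i j
    simp only [M, Matrix.map_apply, map_add]
    rw [Ideal.Quotient.eq_zero_iff_mem.mpr (c j i).2, zero_add]
    by_cases hij : i = j
    · subst hij; simp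
    · simp [Matrix.diagonal_apply_ne _ hij]
  refine ⟨M.charpoly * X, n + 1, (Matrix.charpoly_monic M).mul monic_X, ?_, by omega, ?_⟩
  · rw [map_mul, hCHb, zero_mul]
  · rw [Polynomial.map_mul, ← Matrix.charpoly_map, hMmap, Matrix.charpoly_diagonal,
      Fin.prod_univ_succ, Polynomial.map_X]
    simp only [hd0, hds, map_one, map_zero, sub_zero, Finset.prod_const, Finset.card_univ,
      Fintype.card_fin]
    rw [pow_succ, mul_assoc]

end Groth.Agent.S6887
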