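import Groth.Statements.S6888
import Mathlib.Algebra.BigOperators.Fin
import Mathlib.Algebra.Polynomial.Derivative
import Mathlib.Tactic

set_option autoImplicit false
universe u
open Polynomial
open CAlg

namespace Groth.Agent.S6888

lemma idem_eq_of_sub_mem {A : Type*} [CommRing A] {I : Ideal A}
    (hI : I ≤ Ideal.jacobson (⊥ : Ideal A)) {e e' : A} (he : IsIdempotentElem e)
    (he' : IsIdempotentElem e') (h : e - e' ∈ I) : e = e' := by
  have hx3 : (e - e') * ((e - e') * (e - e') * (-1) + 1) = 0 := by
    linear_combination (-(e + 1 - 3 * e')) * he.eq + (-(3 * e - e' - 1)) * he'.eq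
  have hu : IsUnit ((e - e') * (e - e') * (-1) + 1) :=
    Ideal.mem_jacobson_bot.mp (hI (I.mul_mem_left _ h)) (-1)
  have := (hu.mul_left_eq_zero).mp hx3
  exact sub_eq_zero.mp this

/-- Let `A` be absolutely integrally closed (every monic polynomial over `A` is a product of linear
factors) and `I ⊆ A` an ideal contained in the Jacobson radical such that `A → A/I` is surjective
(hence bijective) on idempotents. Then `(A, I)` is a henselian pair. (The published statement also
records the converse, which holds for every henselian pair; this row states the sufficiency only.) -/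
theorem result (A : Type u) [CommRing A]
    (hA : ∀ f : A[X], f.Monic → ∃ s : Multiset A, f = (s.map fun a => X - C a).prod) (I : Ideal A)
    (hI : I ≤ Ideal.jacobson (⊥ : Ideal A))
    (hidem : ∀ e : A ⧸ I, IsIdempotentElem e → ∃ e' : A, IsIdempotentElem e' ∧ Ideal.Quotient.mk I e' = e) :
    HenselianRing A I := by
  classical
  refine ⟨hI, ?_⟩
  intro f hf a₀ hfa hder
  obtain ⟨s, hs⟩ := hA f hf
  -- index the roots
  set l := s.toList with hl
  set n := l.length with hn
  let r : Fin n → A := fun i => l[i.1]
  have hfprod : f = ∏ i : Fin n, (X - C (r i)) := by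
    rw [hs]
    have h1 : (s.map fun a => X - C a).prod = (l.map fun a => X - C a).prod := by
      conv_lhs => rw [← Multiset.coe_toList s]
      rw [Multiset.map_coe, Multiset.prod_coe]
    rw [h1]
    exact (Fin.prod_univ_fun_getElem l (fun a => X - C a)).symm
  let mk := Ideal.Quotient.mk I
  let bb : Fin n → A ⧸ I := fun i => mk (a₀ - r i)
  let cc : Fin n → A ⧸ I := fun j => ∏ i ∈ Finset.univ.erase j, bb i
  have hprod0 : ∏ i, bb i = 0 := by
    have h1 : f.eval a₀ = ∏ i : Fin n, (a₀ - r i) := by
      rw [hfprod, Polynomial.eval_prod]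
      simp
    have h2 : mk (f.eval a₀) = 0 := Ideal.Quotient.eq_zero_iff_mem.mpr hfa
    rw [h1, map_prod] at h2
    exact h2
  have hu : IsUnit (∑ j, cc j) := by
    have h1 : f.derivative.eval a₀ = ∑ j : Fin n, ∏ i ∈ Finset.univ.erase j, (a₀ - r i) := by
      rw [hfprod, Polynomial.derivative_prod_finset, Polynomial.eval_finsetSum]
      apply Finset.sum_congr rfl
      intro j _
      rw [Polynomial.eval_mul, Polynomial.eval_prod]
      simp
    rw [h1, map_sum] at hder
    simp_rw [map_prod] at hder
    exact hder
  obtain ⟨w, hw⟩ := hu.exists_right_inv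
  have hcb : ∀ j, cc j * bb j = 0 := by
    intro j
    rw [← hprod0]
    exact Finset.prod_erase_mul _ _ (Finset.mem_univ j)
  have hcc : ∀ j k, j ≠ k → cc j * cc k = 0 := by
    intro j k hjk
    have h1 : cc k = bb j * ∏ i ∈ (Finset.univ.erase k).erase j, bb i := by
      refine (Finset.mul_prod_erase _ _ ?_).symm
      exact Finset.mem_erase.mpr ⟨hjk, Finset.mem_univ j⟩
    rw [h1, ← mul_assoc, hcb, zero_mul]
  let ee : Fin n → A ⧸ I := fun j => cc j * w
  have hee_sum : ∑ j, ee j = 1 := by
    simp only [ee]
    rw [← Finset.sum_mul, hw]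
  have hee_orth : ∀ j k, j ≠ k → ee j * ee k = 0 := by
    intro j k hjk
    simp only [ee]
    have : cc j * w * (cc k * w) = (cc j * cc k) * (w * w) := by ring
    rw [this, hcc j k hjk, zero_mul]
  have hee_idem : ∀ j, IsIdempotentElem (ee j) := by
    intro j
    show ee j * ee j = ee j
    have h1 : ee j * ∑ k, ee k = ee j * ee j := by
      rw [Finset.mul_sum, Finset.sum_eq_single j]
      · intro k _ hkj
        exact hee_orth j k (Ne.symm hkj)
      · intro h; exact absurd (Finset.mem_univ j) h
    rw [← h1, hee_sum, mul_one]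
  have hee_b : ∀ j, ee j * bb j = 0 := by
    intro j
    simp only [ee]
    have : cc j * w * bb j = (cc j * bb j) * w := by ring
    rw [this, hcb, zero_mul]
  -- lift the idempotents
  choose e he_idem he_mk using fun j => hidem (ee j) (hee_idem j)
  have he_orth : ∀ j k, j ≠ k → e j * e k = 0 := by
    intro j k hjk
    apply idem_eq_of_sub_mem hI ((he_idem j).mul (he_idem k)) IsIdempotentElem.zero
    rw [sub_zero, ← Ideal.Quotient.eq_zero_iff_mem, map_mul, he_mk, he_mk]
    exact hee_orth j k hjk
  have he_mul_sum : ∀ j (g : Fin n → A), e j * ∑ k, e k * g k = e j * g j := by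
    intro j g
    rw [Finset.mul_sum, Finset.sum_eq_single j]
    · rw [← mul_assoc, (he_idem j).eq]
    · intro k _ hkj
      rw [← mul_assoc, he_orth j k (Ne.symm hkj), zero_mul]
    · intro h; exact absurd (Finset.mem_univ j) h
  have he_sum : ∑ j, e j = 1 := by
    apply idem_eq_of_sub_mem hI _ IsIdempotentElem.one
    · rw [← Ideal.Quotient.eq_zero_iff_mem, map_sub, map_sum, map_one]
      simp_rw [he_mk]
      rw [hee_sum, sub_self]
    · show (∑ j, e j) * (∑ j, e j) = ∑ j, e j
      rw [Finset.sum_mul]
      apply Finset.sum_congr rfl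
      intro j _
      have := he_mul_sum j (fun _ => 1)
      simpa using this
  refine ⟨∑ j, e j * r j, ?_, ?_⟩
  · show f.eval (∑ j, e j * r j) = 0
    rw [hfprod, Polynomial.eval_prod]
    simp only [Polynomial.eval_sub, Polynomial.eval_X, Polynomial.eval_C]
    have h1 : ∀ j, e j * ∏ i, ((∑ k, e k * r k) - r i) = 0 := by
      intro j
      rw [← Finset.mul_prod_erase _ _ (Finset.mem_univ j), ← mul_assoc, mul_sub, he_mul_sum j r,
        sub_self, zero_mul]
    calc ∏ i, ((∑ k, e k * r k) - r i) = (∑ j, e j) * ∏ i, ((∑ k, e k * r k) - r i) := by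
          rw [he_sum, one_mul]
      _ = 0 := by
          rw [Finset.sum_mul]
          exact Finset.sum_eq_zero fun j _ => h1 j
  · rw [← Ideal.Quotient.eq_zero_iff_mem]
    have h1 : (∑ j, e j * r j) - a₀ = -∑ j, e j * (a₀ - r j) := by
      have : a₀ = (∑ j, e j) * a₀ := by rw [he_sum, one_mul]
      conv_lhs => rw [this]
      rw [Finset.sum_mul, ← Finset.sum_sub_distrib, ← Finset.sum_neg_distrib]
      apply Finset.sum_congr rfl
      intro j _
      ring
    rw [h1, map_neg, map_sum, neg_eq_zero]
    apply Finset.sum_eq_zero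
    intro j _
    rw [map_mul, he_mk]
    exact hee_b j

end Groth.Agent.S6888
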