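import Groth.Statements.S6894
import Groth.Agent.Lib.Helper22.FitLocal
import Mathlib.RingTheory.LocalRing.ResidueField.Ideal
import Mathlib.LinearAlgebra.Dimension.Free
import Mathlib.LinearAlgebra.FreeModule.Finite.Basic

set_option autoImplicit false
universe u
open TensorProduct
open Fitt

namespace Groth.Agent.S6894

/-- Let `M` be a finite `R`-module, `k ≥ 0` and `𝔭 ⊆ R` a prime. Then each of the following conditions
implies all the others: the Fitting ideal `Fit_k(M)` is not contained in `𝔭`; the fiber `M ⊗_R κ(𝔭)`
has dimension at most `k` over `κ(𝔭)`; some `k` elements span the localization `M_𝔭` over `R_𝔭`; and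
for some `f ∉ 𝔭`, the module `M_f` is spanned over `R_f` by `k` elements. -/
theorem result {R : Type u} [CommRing R] (M : Type u) [AddCommGroup M] [Module R M]
    [Module.Finite R M] (k : ℕ) (p : Ideal R) [p.IsPrime] :
    (¬ Fitt.ideal R M k ≤ p ↔ Module.finrank p.ResidueField (p.ResidueField ⊗[R] M) ≤ k) ∧
    (¬ Fitt.ideal R M k ≤ p ↔
      ∃ g : Fin k → LocalizedModule p.primeCompl M, Submodule.span (Localization.AtPrime p) (Set.range g) = ⊤) ∧
    (¬ Fitt.ideal R M k ≤ p ↔ ∃ f : R, f ∉ p ∧
      ∃ g : Fin k → LocalizedModule (Submonoid.powers f) M,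
        Submodule.span (Localization.Away f) (Set.range g) = ⊤) := by
  classical
  obtain ⟨n, x, hx⟩ := Module.Finite.exists_fin (R := R) (M := M)
  have hp : p.IsPrime := inferInstance
  refine ⟨?_, ?_, ?_⟩
  · have hbc : Fitt.ideal p.ResidueField (p.ResidueField ⊗[R] M) k =
        (Fitt.ideal R M k).map (algebraMap R p.ResidueField) :=
      Groth.Agent.Helper22.FitBase.ideal_baseChange k
    set b := Module.finBasis p.ResidueField (p.ResidueField ⊗[R] M) with hb
    constructor
    · intro h
      by_contra hlt
      have hlt' : k < Module.finrank p.ResidueField (p.ResidueField ⊗[R] M) := not_le.1 hlt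
      have h0 := Groth.Agent.Helper22.FitLocal.ideal_of_basis_lt b k hlt'
      rw [hbc] at h0
      apply h
      intro r hr
      have : algebraMap R p.ResidueField r ∈ (Fitt.ideal R M k).map (algebraMap R p.ResidueField) :=
        Ideal.mem_map_of_mem _ hr
      rw [h0, Ideal.mem_bot, Ideal.algebraMap_residueField_eq_zero] at this
      exact this
    · intro hle hfit
      have h0 := Groth.Agent.Helper22.FitLocal.ideal_of_basis_le b k hle
      rw [hbc] at h0
      have h1 : (Fitt.ideal R M k).map (algebraMap R p.ResidueField) ≤ ⊥ := by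
        rw [Ideal.map_le_iff_le_comap]
        intro r hr
        rw [Ideal.mem_comap, Ideal.mem_bot, Ideal.algebraMap_residueField_eq_zero]
        exact hfit hr
      rw [h0] at h1
      exact bot_ne_top (le_bot_iff.1 h1).symm
  · constructor
    · intro h
      obtain ⟨z, e, hz, hd⟩ := Groth.Agent.Helper22.FitLocal.exists_minor_not_mem k x hx p h
      exact Groth.Agent.Helper22.FitLocal.gen_of_minor_mem p.primeCompl k x hx z hz e hd
    · rintro ⟨g, hg⟩
      exact Groth.Agent.Helper22.FitLocal.not_le_of_gen p.primeCompl k p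
        (Set.disjoint_left.2 (fun a ha hap => ha hap)) g hg
  · constructor
    · intro h
      obtain ⟨z, e, hz, hd⟩ := Groth.Agent.Helper22.FitLocal.exists_minor_not_mem k x hx p h
      exact ⟨_, hd, Groth.Agent.Helper22.FitLocal.gen_of_minor_mem
        (Submonoid.powers (Groth.Agent.Helper22.FitCore.minor z e)) k x hx z hz e
        (Submonoid.mem_powers _)⟩
    · rintro ⟨f, hf, g, hg⟩
      refine Groth.Agent.Helper22.FitLocal.not_le_of_gen (Submonoid.powers f) k p ?_ g hg
      rw [Set.disjoint_left]
      rintro _ ⟨m, rfl⟩ hm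
      exact hf (hp.mem_of_pow_mem m hm)

end Groth.Agent.S6894
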