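import Groth.Statements.S6895
import Groth.Agent.Lib.Helper22.FitFree
import Mathlib.LinearAlgebra.Dimension.StrongRankCondition
import Mathlib.LinearAlgebra.InvariantBasisNumber

set_option autoImplicit false
universe u
open Fitt

namespace Groth.Agent.S6895

/-- (1) ⇔ (3): let `M` be a finite `R`-module and `r ≥ 0`. Then `M` is finite locally free of rank `r`
(every prime has a basic open neighbourhood `D(f)` with `M_f` free of rank `r` over `R_f`) if and
only if `Fit_k(M) = 0` for `k < r` and `Fit_k(M) = R` for `k ≥ r`. -/
theorem result {R : Type u} [CommRing R] (M : Type u) [AddCommGroup M] [Module R M]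
    [Module.Finite R M] (r : ℕ) :
    (∀ (p : Ideal R) [p.IsPrime], ∃ f : R, f ∉ p ∧
      Module.Free (Localization.Away f) (LocalizedModule (Submonoid.powers f) M) ∧
        Module.finrank (Localization.Away f) (LocalizedModule (Submonoid.powers f) M) = r) ↔
    ((∀ k, k < r → Fitt.ideal R M k = ⊥) ∧ (∀ k, r ≤ k → Fitt.ideal R M k = ⊤)) := by
  classical
  constructor
  · intro H
    constructor
    · intro k hk
      rw [eq_bot_iff]
      intro a ha
      rw [Ideal.mem_bot]
      by_contra ha0
      set I : Ideal R := LinearMap.ker (LinearMap.mulRight R a) with hI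
      have hI1 : I ≠ ⊤ := by
        intro h
        have : (1 : R) ∈ I := h ▸ Submodule.mem_top
        rw [hI, LinearMap.mem_ker, LinearMap.mulRight_apply, one_mul] at this
        exact ha0 this
      obtain ⟨m, hm, hIm⟩ := Ideal.exists_le_maximal I hI1
      have hmp : m.IsPrime := hm.isPrime
      obtain ⟨f, hf, hfree, hrank⟩ := H m
      have hdis := Groth.Agent.Helper22.FitFree.disjoint_powers m f hf
      have hnt : Nontrivial (Localization (Submonoid.powers f)) :=
        Groth.Agent.Helper22.FitFree.nontrivial_localization _ m hdis
      have hnt' : Nontrivial (Localization.Away f) := hnt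
      let b := Module.finBasisOfFinrankEq (Localization.Away f)
        (LocalizedModule (Submonoid.powers f) M) hrank
      have h0 := Groth.Agent.Helper22.FitLocal.ideal_of_basis_lt b k hk
      have h1 := Groth.Agent.Helper22.FitLocal.ideal_localized (M := M) (Submonoid.powers f) k
      have h2 : algebraMap R (Localization (Submonoid.powers f)) a = 0 := by
        have : algebraMap R (Localization (Submonoid.powers f)) a ∈
            (Fitt.ideal R M k).map (algebraMap R (Localization (Submonoid.powers f))) :=
          Ideal.mem_map_of_mem _ ha
        rw [← h1] at this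
        have h0' : Fitt.ideal (Localization (Submonoid.powers f))
            (LocalizedModule (Submonoid.powers f) M) k = ⊥ := h0
        rw [h0', Ideal.mem_bot] at this
        exact this
      rw [IsLocalization.map_eq_zero_iff (Submonoid.powers f)] at h2
      obtain ⟨⟨c, n, rfl⟩, hc⟩ := h2
      have hcI : f ^ n ∈ I := by
        rw [hI, LinearMap.mem_ker, LinearMap.mulRight_apply]
        exact hc
      exact hf (hmp.mem_of_pow_mem n (hIm hcI))
    · intro k hk
      by_contra hne
      obtain ⟨m, hm, hIm⟩ := Ideal.exists_le_maximal _ hne
      have hmp : m.IsPrime := hm.isPrime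
      obtain ⟨f, hf, hfree, hrank⟩ := H m
      have hdis := Groth.Agent.Helper22.FitFree.disjoint_powers m f hf
      have hnt : Nontrivial (Localization (Submonoid.powers f)) :=
        Groth.Agent.Helper22.FitFree.nontrivial_localization _ m hdis
      have hnt' : Nontrivial (Localization.Away f) := hnt
      let b := Module.finBasisOfFinrankEq (Localization.Away f)
        (LocalizedModule (Submonoid.powers f) M) hrank
      have h0 := Groth.Agent.Helper22.FitLocal.ideal_of_basis_le b k hk
      exact Groth.Agent.Helper22.FitFree.not_le_of_localized_top (Submonoid.powers f) k m hdis h0 hIm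
  · rintro ⟨hbot, htop⟩ p hp
    obtain ⟨n, x, hx⟩ := Module.Finite.exists_fin (R := R) (M := M)
    have hnot : ¬ Fitt.ideal R M r ≤ p := by
      rw [htop r le_rfl]
      intro h
      exact hp.ne_top (top_le_iff.1 h)
    obtain ⟨z, e, hz, hd⟩ := Groth.Agent.Helper22.FitLocal.exists_minor_not_mem r x hx p hnot
    set f := Groth.Agent.Helper22.FitCore.minor z e with hf
    refine ⟨f, hd, ?_⟩
    obtain ⟨g, hg⟩ := Groth.Agent.Helper22.FitLocal.gen_of_minor_mem (Submonoid.powers f) r x hx z hz e
      (Submonoid.mem_powers _)
    have hdis := Groth.Agent.Helper22.FitFree.disjoint_powers p f hd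
    have hnt : Nontrivial (Localization (Submonoid.powers f)) :=
      Groth.Agent.Helper22.FitFree.nontrivial_localization _ p hdis
    have hnt' : Nontrivial (Localization.Away f) := hnt
    have hli : LinearIndependent (Localization (Submonoid.powers f)) g := by
      apply Groth.Agent.Helper22.FitFree.linearIndependent_of_fit_bot g hg
      intro k hk
      rw [Groth.Agent.Helper22.FitLocal.ideal_localized (M := M) (Submonoid.powers f) k, hbot k hk,
        Ideal.map_bot]
    let b : Module.Basis (Fin r) (Localization.Away f) (LocalizedModule (Submonoid.powers f) M) :=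
      Module.Basis.mk hli (by rw [hg])
    refine ⟨Module.Free.of_basis b, ?_⟩
    rw [Module.finrank_eq_card_basis b, Fintype.card_fin]

end Groth.Agent.S6895
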