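import Groth.Statements.S6897
import Groth.Agent.Lib.Helper22.FitSplit3
import Groth.Agent.S6895
import Mathlib.Algebra.Homology.ShortComplex.ModuleCat
import Mathlib.Algebra.Category.ModuleCat.Projective
import Mathlib.CategoryTheory.Abelian.Projective.Dimension
import Mathlib.LinearAlgebra.Projection

set_option autoImplicit false
universe u
open CategoryTheory
open Fitt

namespace Groth.Agent.S6897

/-- Let `M` be a finitely presented `R`-module and `k ≥ 0` such that `Fit_k(M) = (f)` for a
nonzerodivisor `f` and `Fit_{k-1}(M) = 0` (no condition when `k = 0`). Let `M' = Ker(f : M → M)`.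
Then: the projective dimension of `M` is at most `1`; `M'` coincides with the `f`-power torsion of
`M` and its projective dimension is at most `1`; every prime of `R` has a basic open neighbourhood
over which `M/M'` is free of rank `k`; and `M ≅ M/M' ⊕ M'` (existence of an isomorphism). -/
theorem result {R : Type u} [CommRing R] (M : Type u)
    [AddCommGroup M] [Module R M] [Module.FinitePresentation R M] (k : ℕ) (f : R) (hf0 : f ∈ nonZeroDivisors R)
    (hf : Fitt.ideal R M k = Ideal.span {f}) (hk : k = 0 ∨ Fitt.ideal R M (k - 1) = ⊥) :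
    HasProjectiveDimensionLT (ModuleCat.of R M) 2 ∧
    (∀ x : M, (∃ n : ℕ, f ^ n • x = 0) ↔ f • x = 0) ∧
    HasProjectiveDimensionLT (ModuleCat.of R ↥(LinearMap.ker (f • (LinearMap.id : M →ₗ[R] M)))) 2 ∧
    (∀ (p : Ideal R) [p.IsPrime], ∃ g : R, g ∉ p ∧
      Module.Free (Localization.Away g)
          (LocalizedModule (Submonoid.powers g) (M ⧸ LinearMap.ker (f • (LinearMap.id : M →ₗ[R] M)))) ∧
        Module.finrank (Localization.Away g)
          (LocalizedModule (Submonoid.powers g) (M ⧸ LinearMap.ker (f • (LinearMap.id : M →ₗ[R] M)))) = k) ∧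
    Nonempty (M ≃ₗ[R] (M ⧸ LinearMap.ker (f • (LinearMap.id : M →ₗ[R] M))) ×
      ↥(LinearMap.ker (f • (LinearMap.id : M →ₗ[R] M)))) := by
  classical
  have hfin : Module.Finite R M := inferInstance
  obtain ⟨n₀, x₀, hx₀⟩ := Module.Finite.exists_fin (R := R) (M := M)
  set x : Fin (n₀ + k) → M := Fin.append x₀ (fun _ => 0) with hxdef
  have hx : Submodule.span R (Set.range x) = ⊤ := by
    rw [eq_top_iff, ← hx₀]
    apply Submodule.span_mono
    rintro _ ⟨i, rfl⟩
    exact ⟨Fin.castAdd k i, Fin.append_left _ _ i⟩
  have hkn : k ≤ n₀ + k := Nat.le_add_left _ _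
  have hD := Groth.Agent.Helper22.FitSplit.div_of_fit x hx hf
  have hV := Groth.Agent.Helper22.FitSplit.vanish_of_fit x hx hkn hk
  obtain ⟨N, d, c, hc⟩ := Groth.Agent.Helper22.FitSplit.exists_partition x hx hf0 hf 2
  obtain ⟨ε, hε1, hε2⟩ := Groth.Agent.Helper22.FitSplit.exists_retraction x hx hf0 hV hD d c hc
  have hts := Groth.Agent.Helper22.FitSplit.torsion_stable x hx hf0 hV hD d c hc
  let ε' : M →ₗ[R] ↥(LinearMap.ker (f • (LinearMap.id : M →ₗ[R] M))) :=
    ε.codRestrict _ (fun m => (Groth.Agent.Helper22.FitSplit.mem_tors _).2 (hε1 m))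
  have hε' : ∀ y : ↥(LinearMap.ker (f • (LinearMap.id : M →ₗ[R] M))), ε' y = y :=
    fun y => Subtype.ext (hε2 y ((Groth.Agent.Helper22.FitSplit.mem_tors _).1 y.2))
  have hpd : HasProjectiveDimensionLT (ModuleCat.of R M) 2 := by
    have hK : Module.Projective R (Groth.Agent.Helper22.FitCore.Rel (R := R) x) :=
      Groth.Agent.Helper22.FitSplit.projective_K hf0 hV hD d c hc
    have hπ : Function.Surjective (Fintype.linearCombination R x) := by
      rw [← LinearMap.range_eq_top, Fintype.range_linearCombination, hx]
    have hS := LinearMap.shortExact_shortComplexKer hπ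
    have h1 : Projective (ModuleCat.of R (LinearMap.ker (Fintype.linearCombination R x))) :=
      (IsProjective.iff_projective _).1 hK
    have h2 : Projective (ModuleCat.of R (Fin (n₀ + k) → R)) :=
      (IsProjective.iff_projective _).1 inferInstance
    have h1' : HasProjectiveDimensionLT (Fintype.linearCombination R x).shortComplexKer.X₁ 1 := by
      change HasProjectiveDimensionLT (ModuleCat.of R (LinearMap.ker (Fintype.linearCombination R x))) 1
      infer_instance
    have h2' : HasProjectiveDimensionLT (Fintype.linearCombination R x).shortComplexKer.X₂ 2 := by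
      change HasProjectiveDimensionLT (ModuleCat.of R (Fin (n₀ + k) → R)) 2
      exact hasProjectiveDimensionLT_of_ge _ 1 2 (by omega)
    exact hS.hasProjectiveDimensionLT_X₃ 1 h1' h2'
  refine ⟨hpd, ?_, ?_, ?_, ?_⟩
  · intro m
    constructor
    · rintro ⟨N', hN'⟩
      have key : ∀ (N'' : ℕ) (m : M), f ^ (N'' + 1) • m = 0 → f • m = 0 := by
        intro N''
        induction N'' with
        | zero => intro m h; simpa using h
        | succ N'' ih =>
          intro m h
          have h' : f ^ (N'' + 1) • (f • m) = 0 := by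
            rw [smul_smul, ← pow_succ]; exact h
          exact hts m (ih (f • m) h')
      rcases N' with _ | N'
      · simp only [pow_zero, one_smul] at hN'
        rw [hN', smul_zero]
      · exact key N' m hN'
    · intro h
      exact ⟨1, by simpa using h⟩
  · let rt : Retract (ModuleCat.of R ↥(LinearMap.ker (f • (LinearMap.id : M →ₗ[R] M))))
        (ModuleCat.of R M) :=
      { i := ModuleCat.ofHom (LinearMap.ker (f • (LinearMap.id : M →ₗ[R] M))).subtype
        r := ModuleCat.ofHom ε'
        retract := by
          ext y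
          exact congrArg Subtype.val (hε' y) }
    exact rt.hasProjectiveDimensionLT 2
  · intro p hp
    exact (Groth.Agent.S6895.result (M ⧸ LinearMap.ker (f • (LinearMap.id : M →ₗ[R] M))) k).2
      ⟨fun j hj => Groth.Agent.Helper22.FitSplit.fit_quot_bot x hx hkn hf0 hk j hj,
        fun j hj => Groth.Agent.Helper22.FitSplit.fit_quot_top x hx hf0 hf j hj⟩ p
  · have hcompl := LinearMap.isCompl_of_proj hε'
    exact ⟨(Submodule.prodEquivOfIsCompl _ _ hcompl).symm ≪≫ₗ (LinearEquiv.prodComm R _ _) ≪≫ₗ
      LinearEquiv.prodCongr (Submodule.quotientEquivOfIsCompl _ _ hcompl).symm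
        (LinearEquiv.refl R _)⟩

end Groth.Agent.S6897
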