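import Groth.Statements.S6899
import Mathlib
import Groth.Agent.Lib.Helper8.Milnor

set_option autoImplicit false
universe u
open TensorProduct
open EtAlg

namespace Groth.Agent.S6899

/-- Let `B' = B ×_A A'` be a fibre square of rings with `A' → A` surjective, and let `(N₁, M₁', φ₁) →
(N₂, M₂', φ₂)` be a morphism of glueing data (a `B`-linear `u : N₁ → N₂` and an `A'`-linear `v : M₁'
→ M₂'` compatible with the `φ_i`) with `u` and `v` surjective. Then the induced map of glued modules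
`N₁ ×_{φ₁} M₁' → N₂ ×_{φ₂} M₂'` is surjective. -/
theorem result (B' B A' A : Type u) [CommRing B'] [CommRing B] [CommRing A'] [CommRing A]
    [Algebra B' B] [Algebra B' A'] [Algebra B A] [Algebra A' A] [Algebra B' A] [IsScalarTower B' B A] [IsScalarTower B' A' A]
    (hsq : EtMil.IsFibreSquare B' B A' A)
    {N₁ N₂ M₁' M₂' : Type u} [AddCommGroup N₁] [Module B N₁] [Module B' N₁] [IsScalarTower B' B N₁]
    [AddCommGroup N₂] [Module B N₂] [Module B' N₂] [IsScalarTower B' B N₂]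
    [AddCommGroup M₁'] [Module A' M₁'] [Module B' M₁'] [IsScalarTower B' A' M₁']
    [AddCommGroup M₂'] [Module A' M₂'] [Module B' M₂'] [IsScalarTower B' A' M₂']
    (φ₁ : A ⊗[B] N₁ ≃ₗ[A] A ⊗[A'] M₁') (φ₂ : A ⊗[B] N₂ ≃ₗ[A] A ⊗[A'] M₂') (u : N₁ →ₗ[B] N₂) (v : M₁' →ₗ[A'] M₂')
    (hc : (v.baseChange A).comp φ₁.toLinearMap = φ₂.toLinearMap.comp (u.baseChange A))
    (hu : Function.Surjective u) (hv : Function.Surjective v) :
    ∀ y : N₂ × M₂', y ∈ EtMil.glue B' φ₂ → ∃ x : N₁ × M₁', x ∈ EtMil.glue B' φ₁ ∧ u x.1 = y.1 ∧ v x.2 = y.2 := by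
  intro y hy
  have hs := hsq.1
  obtain ⟨n₁, hn₁⟩ := hu y.1
  obtain ⟨m₁, hm₁⟩ := Groth.Agent.Lib.Helper8.Milnor.exists_one_tmul hs
    (φ₁ ((1 : A) ⊗ₜ[B] n₁))
  have hy' : φ₂ ((1 : A) ⊗ₜ[B] y.1) = (1 : A) ⊗ₜ[A'] y.2 := hy
  have h1 : (1 : A) ⊗ₜ[A'] (v m₁) = (1 : A) ⊗ₜ[A'] y.2 := by
    have h2 := LinearMap.congr_fun hc ((1 : A) ⊗ₜ[B] n₁)
    rw [LinearMap.comp_apply, LinearMap.comp_apply, LinearEquiv.coe_coe, LinearEquiv.coe_coe,
      hm₁, LinearMap.baseChange_tmul, LinearMap.baseChange_tmul, hn₁, hy'] at h2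
    exact h2
  have h3 : (1 : A) ⊗ₜ[A'] (v m₁ - y.2) = 0 := by rw [TensorProduct.tmul_sub, h1, sub_self]
  have h4 := Groth.Agent.Lib.Helper8.Milnor.mem_of_one_tmul_eq_zero hs h3
  have h5 : (RingHom.ker (algebraMap A' A) • (⊤ : Submodule A' M₂'))
      = Submodule.map v (RingHom.ker (algebraMap A' A) • (⊤ : Submodule A' M₁')) := by
    rw [Submodule.map_smul'', Submodule.map_top, LinearMap.range_eq_top.2 hv]
  rw [h5] at h4
  obtain ⟨k, hk, hvk⟩ := h4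
  have hk0 := Groth.Agent.Lib.Helper8.Milnor.one_tmul_eq_zero_of_mem (S := A) hk
  refine ⟨(n₁, m₁ - k), ?_, hn₁, ?_⟩
  · show φ₁ ((1 : A) ⊗ₜ[B] n₁) = (1 : A) ⊗ₜ[A'] (m₁ - k)
    rw [TensorProduct.tmul_sub, hk0, sub_zero, hm₁]
  · show v (m₁ - k) = y.2
    rw [map_sub, hvk]; abel

end Groth.Agent.S6899
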