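import Groth.Statements.S6909
import Groth.Agent.H23.ArtinReesPerturb

set_option autoImplicit false
universe u
open CAlg

namespace Groth.Agent.S6909

/-- Let `A` be a Noetherian ring, `I ⊆ A` an ideal inside the Jacobson radical, and `L → M → N` two
complexes `(f, g)` and `(f', g')` of finite `A`-modules with `f' ≡ f` modulo `I^{c+1}M` and `g' ≡ g`
modulo `I^{c+1}N`. If `c` works in the Artin–Rees lemma for `f` and for `g` (that is `f(L) ∩ IⁿM ⊆
f(I^{n-c}L)` for `n ≥ c`, and likewise for `g`) and `(f, g)` is exact, then `c` works for `g'` and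
`(f', g')` is exact. -/
theorem result {A : Type u} [CommRing A] [IsNoetherianRing A] (I : Ideal A)
    (hI : I ≤ Ideal.jacobson (⊥ : Ideal A)) {L M N : Type u} [AddCommGroup L] [Module A L] [Module.Finite A L]
    [AddCommGroup M] [Module A M] [Module.Finite A M] [AddCommGroup N] [Module A N] [Module.Finite A N]
    (f f' : L →ₗ[A] M) (g g' : M →ₗ[A] N) (c : ℕ) (hgf : g.comp f = 0) (hgf' : g'.comp f' = 0)
    (hf : (∀ n : ℕ, c ≤ n → LinearMap.range f ⊓ (I ^ n • (⊤ : Submodule A M)) ≤ Submodule.map f (I ^ (n - c) • (⊤ : Submodule A L))))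
    (hg : (∀ n : ℕ, c ≤ n → LinearMap.range g ⊓ (I ^ n • (⊤ : Submodule A N)) ≤ Submodule.map g (I ^ (n - c) • (⊤ : Submodule A M))))
    (hex : Function.Exact f g)
    (hff' : ∀ x : L, f x - f' x ∈ I ^ (c + 1) • (⊤ : Submodule A M))
    (hgg' : ∀ y : M, g y - g' y ∈ I ^ (c + 1) • (⊤ : Submodule A N)) :
    (∀ n : ℕ, c ≤ n → LinearMap.range g' ⊓ (I ^ n • (⊤ : Submodule A N)) ≤ Submodule.map g' (I ^ (n - c) • (⊤ : Submodule A M))) ∧
    Function.Exact f' g' := by
  have core := fun n a ha => H23.arp_core I f f' g g' c hgf' hf hg hex hff' hgg' n a ha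
  refine ⟨?_, ?_⟩
  · intro n hn y hy
    obtain ⟨hy1, hy2⟩ := Submodule.mem_inf.1 hy
    obtain ⟨a, rfl⟩ := LinearMap.mem_range.1 hy1
    obtain ⟨b, hb⟩ := core n a hy2 (n - c) le_rfl
    refine Submodule.mem_map.2 ⟨a - f' b, hb, ?_⟩
    have : g' (f' b) = 0 := LinearMap.congr_fun hgf' b
    simp [this]
  · intro a
    constructor
    · intro ha
      have hmem : ∀ m : ℕ, a ∈ LinearMap.range f' ⊔ I ^ m • (⊤ : Submodule A M) := by
        intro m
        obtain ⟨b, hb⟩ := core (m + c) a (by rw [ha]; exact zero_mem _) m (by omega)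
        have : a = f' b + (a - f' b) := by abel
        rw [this]
        exact Submodule.add_mem_sup (LinearMap.mem_range.2 ⟨b, rfl⟩) hb
      set P := LinearMap.range f' with hP
      have hK := Ideal.iInf_pow_smul_eq_bot_of_le_jacobson (M := M ⧸ P) I hI
      have hq : P.mkQ a ∈ (⨅ i : ℕ, I ^ i • (⊤ : Submodule A (M ⧸ P))) := by
        rw [Submodule.mem_iInf]
        intro m
        obtain ⟨p, hp, z, hz, hpz⟩ := Submodule.mem_sup.1 (hmem m)
        rw [← hpz, map_add]
        have h0 : P.mkQ p = 0 := by simpa using hp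
        rw [h0, zero_add]
        have hle : Submodule.map P.mkQ (I ^ m • ⊤) ≤ I ^ m • ⊤ := by
          rw [Submodule.map_smul'']; exact Submodule.smul_mono le_rfl le_top
        exact hle (Submodule.mem_map_of_mem hz)
      rw [hK] at hq
      have haP : a ∈ P := by simpa using hq
      exact LinearMap.mem_range.1 haP
    · rintro ⟨b, rfl⟩
      exact LinearMap.congr_fun hgf' b

end Groth.Agent.S6909
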