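import Groth.Statements.S6910
import Groth.Agent.H23.ArtinReesPerturb
import Groth.Agent.S6909

set_option autoImplicit false
universe u
open CAlg

namespace Groth.Agent.S6910

lemma aux {A : Type u} [CommRing A] (I : Ideal A) {M N : Type u}
    [AddCommGroup M] [Module A M] [AddCommGroup N] [Module A N]
    (h h' : M →ₗ[A] N) (c : ℕ)
    (hh : (∀ n : ℕ, c ≤ n → LinearMap.range h ⊓ (I ^ n • (⊤ : Submodule A N)) ≤
      Submodule.map h (I ^ (n - c) • (⊤ : Submodule A M))))
    (hhh' : ∀ y : M, h y - h' y ∈ I ^ (c + 1) • (⊤ : Submodule A N)) (n : ℕ) :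
    LinearMap.range h ⊓ I ^ n • (⊤ : Submodule A N) ≤
      I ^ (n + 1) • (⊤ : Submodule A N) ⊔ (LinearMap.range h' ⊓ I ^ n • (⊤ : Submodule A N)) := by
  intro x hx
  obtain ⟨hx1, hx2⟩ := Submodule.mem_inf.1 hx
  have key : ∃ a : M, h a = x ∧ (h - h') a ∈ I ^ (n + 1) • (⊤ : Submodule A N) := by
    by_cases hcn : c ≤ n
    · obtain ⟨a, ha, hax⟩ := Submodule.mem_map.1 (hh n hcn hx)
      refine ⟨a, hax, ?_⟩
      have := H23.arp_shift I (h - h') (c + 1) (fun y => by simpa using hhh' y) (n - c) ha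
      rwa [show n - c + (c + 1) = n + 1 by omega] at this
    · obtain ⟨a, rfl⟩ := LinearMap.mem_range.1 hx1
      refine ⟨a, rfl, ?_⟩
      exact H23.arp_mono I (m := c + 1) (n := n + 1) (by omega) (by simpa using hhh' a)
  obtain ⟨a, rfl, ha⟩ := key
  have e : h a = (h - h') a + h' a := by simp
  rw [e]
  refine Submodule.add_mem_sup ha (Submodule.mem_inf.2 ⟨LinearMap.mem_range.2 ⟨a, rfl⟩, ?_⟩)
  have : h' a = h a - (h - h') a := by simp
  rw [this]
  exact sub_mem hx2 (H23.arp_mono I (Nat.le_succ n) ha)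

/-- Let `A` be a Noetherian ring, `I ⊆ A` an ideal inside the Jacobson radical, and `L → M → N` two
complexes `(f, g)` and `(f', g')` of finite `A`-modules with `f' ≡ f` modulo `I^{c+1}M` and `g' ≡ g`
modulo `I^{c+1}N`, such that the Artin–Rees bound holds with constant `c` for both `f` and `g`, and
`(f, g)` is exact. Then for every `n` the submodules `I^{n+1}N + g(M) ∩ IⁿN` and `I^{n+1}N + g'(M) ∩
IⁿN` of `N` are equal; consequently the associated graded modules of `Coker g` and `Coker g'` with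
respect to `I` coincide degreewise as subquotients of `N`. -/
theorem result {A : Type u} [CommRing A] [IsNoetherianRing A] (I : Ideal A)
    (hI : I ≤ Ideal.jacobson (⊥ : Ideal A)) {L M N : Type u} [AddCommGroup L] [Module A L] [Module.Finite A L]
    [AddCommGroup M] [Module A M] [Module.Finite A M] [AddCommGroup N] [Module A N] [Module.Finite A N]
    (f f' : L →ₗ[A] M) (g g' : M →ₗ[A] N) (c : ℕ) (hgf : g.comp f = 0) (hgf' : g'.comp f' = 0)
    (hf : (∀ n : ℕ, c ≤ n → LinearMap.range f ⊓ (I ^ n • (⊤ : Submodule A M)) ≤ Submodule.map f (I ^ (n - c) • (⊤ : Submodule A L))))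
    (hg : (∀ n : ℕ, c ≤ n → LinearMap.range g ⊓ (I ^ n • (⊤ : Submodule A N)) ≤ Submodule.map g (I ^ (n - c) • (⊤ : Submodule A M))))
    (hex : Function.Exact f g)
    (hff' : ∀ x : L, f x - f' x ∈ I ^ (c + 1) • (⊤ : Submodule A M))
    (hgg' : ∀ y : M, g y - g' y ∈ I ^ (c + 1) • (⊤ : Submodule A N)) (n : ℕ) :
    I ^ (n + 1) • (⊤ : Submodule A N) ⊔ (LinearMap.range g ⊓ I ^ n • (⊤ : Submodule A N)) =
      I ^ (n + 1) • (⊤ : Submodule A N) ⊔ (LinearMap.range g' ⊓ I ^ n • (⊤ : Submodule A N)) := by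
  have hg' := (Groth.Agent.S6909.result I hI f f' g g' c hgf hgf' hf hg hex hff' hgg').1
  apply le_antisymm
  · exact sup_le le_sup_left (aux I g g' c hg hgg' n)
  · refine sup_le le_sup_left (aux I g' g c hg' (fun y => ?_) n)
    have := neg_mem (hgg' y)
    rwa [neg_sub] at this

end Groth.Agent.S6910
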