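import Groth.Statements.S6912
import Mathlib.LinearAlgebra.Dimension.Localization
import Mathlib.Algebra.Module.FinitePresentation
import Mathlib.LinearAlgebra.FreeModule.Finite.Matrix

set_option autoImplicit false
universe u
open TensorProduct
open CAlg

namespace Groth.Agent.S6912

/-- Let `R` be a domain and `M`, `N` two `R`-modules; rank means dimension over the fraction field after
base change. Then `rank (M ⊗_R N) = rank M · rank N`, and when `M` is finitely presented also `rank
Hom_R(M, N) = rank M · rank N`. -/
theorem result (R : Type u) [CommRing R] [IsDomain R] (M N : Type u)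
    [AddCommGroup M] [Module R M] [AddCommGroup N] [Module R N] :
    Module.rank R (M ⊗[R] N) = Module.rank R M * Module.rank R N ∧
    (Module.FinitePresentation R M → Module.rank R (M →ₗ[R] N) = Module.rank R M * Module.rank R N) := by
  have hK : ∀ (P : Type u) [AddCommGroup P] [Module R P],
      Module.rank (FractionRing R) (FractionRing R ⊗[R] P) = Module.rank R P := fun P _ _ =>
    IsBaseChange.rank_eq (TensorProduct.isBaseChange R P (FractionRing R))
  refine ⟨?_, ?_⟩
  · rw [← hK (M ⊗[R] N), ← hK M, ← hK N,
      (TensorProduct.AlgebraTensorModule.distribBaseChange R (FractionRing R) M N).rank_eq]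
    exact rank_tensorProduct'
  · intro hM
    have h1 := IsLocalizedModule.rank_eq (M := M →ₗ[R] N)
      (N := FractionRing R ⊗[R] M →ₗ[FractionRing R] FractionRing R ⊗[R] N) (nonZeroDivisors R) le_rfl
      (IsLocalizedModule.mapExtendScalars (nonZeroDivisors R)
        (TensorProduct.mk R (FractionRing R) M 1) (TensorProduct.mk R (FractionRing R) N 1)
        (FractionRing R))
    have h2 : Module.rank (FractionRing R)
        (FractionRing R ⊗[R] M →ₗ[FractionRing R] FractionRing R ⊗[R] N) =
        Module.rank R (FractionRing R ⊗[R] M →ₗ[FractionRing R] FractionRing R ⊗[R] N) :=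
      IsLocalization.rank_eq (N := FractionRing R ⊗[R] M →ₗ[FractionRing R] FractionRing R ⊗[R] N)
        (FractionRing R) (nonZeroDivisors R) le_rfl
    have h3 : Module.rank (FractionRing R)
        (FractionRing R ⊗[R] M →ₗ[FractionRing R] FractionRing R ⊗[R] N) =
        Module.rank (FractionRing R) (FractionRing R ⊗[R] M) *
          Module.rank (FractionRing R) (FractionRing R ⊗[R] N) := by
      rw [Module.rank_linearMap]; simp
    rw [← h1, ← h2, h3, hK M, hK N]

end Groth.Agent.S6912
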