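import Groth.Statements.S6913
import Mathlib.LinearAlgebra.Dimension.Localization
import Mathlib.RingTheory.LocalProperties.Projective
import Mathlib.RingTheory.Localization.Module

set_option autoImplicit false
universe u
open CAlg

namespace Groth.Agent.S6913

/-- Let `R` be a domain and `M` a finite `R`-module, of (finite) rank `r`. Then: some linear map `M →
R^r` has torsion kernel and torsion cokernel; some nonzero `f ∈ R` makes `M_f` free of rank `r` over
`R_f`; and some injective linear map `R^r → M` has torsion cokernel. -/
theorem result (R : Type u) [CommRing R] [IsDomain R] (M : Type u) [AddCommGroup M]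
    [Module R M] [Module.Finite R M] :
    (∃ h : M →ₗ[R] (Fin (Module.finrank R M) → R),
      (∀ x : M, h x = 0 → ∃ c : R, c ≠ 0 ∧ c • x = 0) ∧
      (∀ y : Fin (Module.finrank R M) → R, ∃ c : R, c ≠ 0 ∧ c • y ∈ LinearMap.range h)) ∧
    (∃ f : R, f ≠ 0 ∧ Module.Free (Localization.Away f) (LocalizedModule (Submonoid.powers f) M) ∧
      Module.finrank (Localization.Away f) (LocalizedModule (Submonoid.powers f) M) = Module.finrank R M) ∧
    (∃ g : (Fin (Module.finrank R M) → R) →ₗ[R] M, Function.Injective g ∧
      ∀ x : M, ∃ c : R, c ≠ 0 ∧ c • x ∈ LinearMap.range g) := by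
  classical
  obtain ⟨v, hv⟩ := exists_linearIndependent_of_le_finrank (R := R) (M := M)
    (le_refl (Module.finrank R M))
  set g := Fintype.linearCombination R v with hg
  have hginj : Function.Injective g := hv.fintypeLinearCombination_injective
  have hrange : LinearMap.range g = Submodule.span R (Set.range v) :=
    Fintype.range_linearCombination R v
  have key : ∀ x : M, ∃ c : R, c ≠ 0 ∧ c • x ∈ LinearMap.range g := by
    intro x
    by_contra hcon
    push Not at hcon
    have hli : LinearIndependent R (Fin.cons x v : Fin (Module.finrank R M).succ → M) := by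
      refine LinearIndependent.finCons' x v hv ?_
      intro c y hy hcy
      by_contra hc
      apply hcon c hc
      rw [hrange]
      have : c • x = -y := eq_neg_of_add_eq_zero_left hcy
      rw [this]
      exact neg_mem hy
    have := hli.fintype_card_le_finrank
    simp at this
  choose c hc0 hc using key
  obtain ⟨s, hs⟩ := (Module.Finite.fg_top : (⊤ : Submodule R M).FG)
  set d := ∏ m ∈ s, c m with hd
  have hd0 : d ≠ 0 := Finset.prod_ne_zero_iff.2 (fun m _ => hc0 m)
  have hdM : ∀ x : M, d • x ∈ LinearMap.range g := by
    intro x
    have hx : x ∈ Submodule.span R (s : Set M) := by rw [hs]; trivial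
    induction hx using Submodule.span_induction with
    | mem m hm =>
      obtain ⟨e, he⟩ := Finset.dvd_prod_of_mem c hm
      rw [hd, he, mul_comm, mul_smul]
      exact Submodule.smul_mem _ _ (hc m)
    | zero => simp
    | add x y _ _ hx hy => rw [smul_add]; exact add_mem hx hy
    | smul a x _ hx => rw [smul_comm]; exact Submodule.smul_mem _ _ hx
  refine ⟨?_, ?_, ?_⟩
  · refine ⟨(LinearEquiv.ofInjective g hginj).symm.toLinearMap ∘ₗ
      (LinearMap.codRestrict (LinearMap.range g) (d • LinearMap.id) hdM), ?_, ?_⟩
    · intro x hx
      refine ⟨d, hd0, ?_⟩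
      simp only [LinearMap.coe_comp, LinearEquiv.coe_coe, Function.comp_apply,
        EmbeddingLike.map_eq_zero_iff] at hx
      simpa using congrArg Subtype.val hx
    · intro y
      refine ⟨d, hd0, g y, ?_⟩
      simp only [LinearMap.coe_comp, LinearEquiv.coe_coe, Function.comp_apply]
      rw [LinearEquiv.symm_apply_eq]
      ext
      simp
  · refine ⟨d, hd0, ?_, ?_⟩
    · have hbij : Function.Bijective (LocalizedModule.map (Submonoid.powers d) g) := by
        refine ⟨LocalizedModule.map_injective _ g hginj, ?_⟩
        intro z
        induction z using LocalizedModule.induction_on with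
        | h x t =>
          obtain ⟨y, hy⟩ := hdM x
          refine ⟨LocalizedModule.mk y (⟨d, Submonoid.mem_powers d⟩ * t), ?_⟩
          rw [LocalizedModule.map_mk, hy]
          exact LocalizedModule.mk_cancel_common_left (⟨d, Submonoid.mem_powers d⟩ : Submonoid.powers d) t x
      have : Module.Free (Localization (Submonoid.powers d))
          (LocalizedModule (Submonoid.powers d) (Fin (Module.finrank R M) → R)) :=
        Module.free_of_isLocalizedModule (Submonoid.powers d)
          (LocalizedModule.mkLinearMap (Submonoid.powers d) (Fin (Module.finrank R M) → R))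
      exact Module.Free.of_equiv (LinearEquiv.ofBijective _ hbij)
    · have hp : Submonoid.powers d ≤ nonZeroDivisors R :=
        powers_le_nonZeroDivisors_of_noZeroDivisors hd0
      rw [IsLocalization.finrank_eq (Localization.Away d) (Submonoid.powers d) hp,
        IsLocalizedModule.finrank_eq (Submonoid.powers d) (LocalizedModule.mkLinearMap _ M) hp]
  · exact ⟨g, hginj, fun x => ⟨c x, hc0 x, hc x⟩⟩

end Groth.Agent.S6913
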