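import Groth.Statements.S6917
import Groth.Agent.H23.MilnorSpec

set_option autoImplicit false
universe u
open CategoryTheory
open EtAlg

namespace Groth.Agent.S6917

/-- Let `B' = B ×_A A'` be a fibre square of rings with `A' → A` surjective. Then `Spec(B') = Spec(B)
⨿_{Spec(A)} Spec(A')`: the square of prime spectra is a pushout of topological spaces. -/
theorem result (B' B A' A : Type u) [CommRing B'] [CommRing B] [CommRing A'] [CommRing A]
    [Algebra B' B] [Algebra B' A'] [Algebra B A] [Algebra A' A] [Algebra B' A] [IsScalarTower B' B A] [IsScalarTower B' A' A]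
    (hsq : EtMil.IsFibreSquare B' B A' A) :
    IsPushout (TopCat.ofHom (ContinuousMap.mk (PrimeSpectrum.comap (algebraMap B A)) (PrimeSpectrum.continuous_comap _))) (TopCat.ofHom (ContinuousMap.mk (PrimeSpectrum.comap (algebraMap A' A)) (PrimeSpectrum.continuous_comap _)))
      (TopCat.ofHom (ContinuousMap.mk (PrimeSpectrum.comap (algebraMap B' B)) (PrimeSpectrum.continuous_comap _)))
      (TopCat.ofHom (ContinuousMap.mk (PrimeSpectrum.comap (algebraMap B' A')) (PrimeSpectrum.continuous_comap _))) := by
  classical
  have hsq' : Groth.Agent.H23.MilnorSpec.Sq (algebraMap B' B) (algebraMap B' A')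
      (algebraMap B A) (algebraMap A' A) :=
    { comm := fun x => by
        rw [← IsScalarTower.algebraMap_apply, ← IsScalarTower.algebraMap_apply]
      surj := hsq.1
      fib := hsq.2 }
  have hmono : Mono (TypeCat.ofHom (PrimeSpectrum.comap (algebraMap B' B))) :=
    (mono_iff_injective _).2 (PrimeSpectrum.comap_injective_of_surjective _ hsq'.surjB)
  have hT : IsPushout
      (TypeCat.ofHom (PrimeSpectrum.comap (algebraMap B A)))
      (TypeCat.ofHom (PrimeSpectrum.comap (algebraMap A' A)))
      (TypeCat.ofHom (PrimeSpectrum.comap (algebraMap B' B)))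
      (TypeCat.ofHom (PrimeSpectrum.comap (algebraMap B' A'))) := by
    apply Limits.Types.isPushout_of_isPullback_of_mono'
    · rw [Limits.Types.isPullback_iff]
      refine ⟨?_, ?_, ?_⟩
      · exact ConcreteCategory.hom_ext _ _ (fun p => hsq'.comap_comm p)
      · rintro p₁ p₂ ⟨_, h2⟩
        exact PrimeSpectrum.comap_injective_of_surjective _ hsq'.surj h2
      · intro q p' hqp
        exact hsq'.pullback_exists q p' hqp
    · ext q'
      simp only [Set.sup_eq_union, Set.mem_union, Set.mem_range, Set.mem_univ, iff_true]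
      exact hsq'.joint_surj q'
    · intro p₁ p₂ h1 _ heq
      exact hsq'.inj_compl p₁ p₂ h1 heq
  have hcomm : TopCat.ofHom (ContinuousMap.mk (PrimeSpectrum.comap (algebraMap B A))
        (PrimeSpectrum.continuous_comap _)) ≫
      TopCat.ofHom (ContinuousMap.mk (PrimeSpectrum.comap (algebraMap B' B))
        (PrimeSpectrum.continuous_comap _)) =
      TopCat.ofHom (ContinuousMap.mk (PrimeSpectrum.comap (algebraMap A' A))
        (PrimeSpectrum.continuous_comap _)) ≫
      TopCat.ofHom (ContinuousMap.mk (PrimeSpectrum.comap (algebraMap B' A'))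
        (PrimeSpectrum.continuous_comap _)) := by
    exact ConcreteCategory.hom_ext _ _ (fun p => hsq'.comap_comm p)
  have hw : ∀ s : Limits.PushoutCocone
      (TopCat.ofHom (ContinuousMap.mk (PrimeSpectrum.comap (algebraMap B A))
        (PrimeSpectrum.continuous_comap _)))
      (TopCat.ofHom (ContinuousMap.mk (PrimeSpectrum.comap (algebraMap A' A))
        (PrimeSpectrum.continuous_comap _))),
      TypeCat.ofHom (PrimeSpectrum.comap (algebraMap B A)) ≫
        TypeCat.ofHom (fun q : PrimeSpectrum B => s.inl.hom q) =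
      TypeCat.ofHom (PrimeSpectrum.comap (algebraMap A' A)) ≫
        TypeCat.ofHom (fun p' : PrimeSpectrum A' => s.inr.hom p') := by
    intro s
    exact ConcreteCategory.hom_ext _ _ (fun p => congrArg (fun f => (TopCat.Hom.hom f) p) s.condition)
  have hdl : ∀ s q, hT.desc _ _ (hw s) (PrimeSpectrum.comap (algebraMap B' B) q) = s.inl.hom q :=
    fun s q => ConcreteCategory.congr_hom (hT.inl_desc _ _ (hw s)) q
  have hdr : ∀ s p', hT.desc _ _ (hw s) (PrimeSpectrum.comap (algebraMap B' A') p') =
      s.inr.hom p' :=
    fun s p' => ConcreteCategory.congr_hom (hT.inr_desc _ _ (hw s)) p'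
  have hcont : ∀ s, Continuous (fun x : PrimeSpectrum B' => hT.desc _ _ (hw s) x) := by
    intro s
    rw [continuous_iff_isClosed]
    intro C hC
    apply hsq'.isClosed_of_preimages
    · have : PrimeSpectrum.comap (algebraMap B' B) ⁻¹'
          ((fun x : PrimeSpectrum B' => hT.desc _ _ (hw s) x) ⁻¹' C) = s.inl.hom ⁻¹' C := by
        ext q
        simp only [Set.mem_preimage]
        rw [hdl]
      rw [this]
      exact hC.preimage s.inl.hom.continuous
    · have : PrimeSpectrum.comap (algebraMap B' A') ⁻¹'
          ((fun x : PrimeSpectrum B' => hT.desc _ _ (hw s) x) ⁻¹' C) = s.inr.hom ⁻¹' C := by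
        ext q
        simp only [Set.mem_preimage]
        rw [hdr]
      rw [this]
      exact hC.preimage s.inr.hom.continuous
  refine ⟨⟨hcomm⟩, ⟨Limits.PushoutCocone.IsColimit.mk _
    (fun s => TopCat.ofHom ⟨fun x => hT.desc _ _ (hw s) x, hcont s⟩)
    (fun s => ?_) (fun s => ?_) (fun s m hml hmr => ?_)⟩⟩
  · exact ConcreteCategory.hom_ext _ _ (fun q => hdl s q)
  · exact ConcreteCategory.hom_ext _ _ (fun p' => hdr s p')
  · have : TypeCat.ofHom (fun x : PrimeSpectrum B' => m.hom x) = hT.desc _ _ (hw s) := by
      apply hT.hom_ext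
      · rw [hT.inl_desc]
        exact ConcreteCategory.hom_ext _ _ (fun q => congrArg (fun f => (TopCat.Hom.hom f) q) hml)
      · rw [hT.inr_desc]
        exact ConcreteCategory.hom_ext _ _ (fun p' => congrArg (fun f => (TopCat.Hom.hom f) p') hmr)
    exact ConcreteCategory.hom_ext _ _ (fun x => ConcreteCategory.congr_hom this x)

end Groth.Agent.S6917
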