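import Groth.Statements.S6920
import Mathlib

set_option autoImplicit false
universe u
open CategoryTheory CategoryTheory.Limits MonoidalCategory
open DRing TensorProduct

namespace Groth.Agent.S6920


open TensorProduct in
theorem lin_of_epi {R S : Type*} [CommRing R] [CommRing S] [Algebra R S]
    (hepi : ∀ s : S, (1 : S) ⊗ₜ[R] s = s ⊗ₜ[R] 1)
    {M N : Type*} [AddCommGroup M] [AddCommGroup N] [Module S M] [Module S N] [Module R M] [Module R N]
    [IsScalarTower R S M] [IsScalarTower R S N] (h : M →ₗ[R] N) (s : S) (m : M) :
    h (s • m) = s • h m := by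
  let B : S →ₗ[R] S →ₗ[R] N := LinearMap.mk₂ R (fun a b => a • h (b • m))
    (fun a₁ a₂ b => by simp only [add_smul])
    (fun c a b => by simp only [smul_assoc])
    (fun a b₁ b₂ => by simp only [add_smul, map_add, smul_add])
    (fun c a b => by
      simp only [smul_assoc, map_smul]
      rw [smul_comm])
  have := congrArg (TensorProduct.lift B) (hepi s)
  simpa [B] using this

/-- For an epimorphism of rings `φ : R → S` and a complex `I•` of `S`-modules, if the underlying complex
of `R`-modules of `I•` is K-injective, then `I•` itself is K-injective over `S`. -/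
theorem result (R S : Type u) [CommRing R] [CommRing S] (φ : R →+* S)
    (hφ : Epi (CommRingCat.ofHom φ)) (I : DRing.Cx S)
    [CochainComplex.IsKInjective ((DRing.restrictCx φ).obj I)] : CochainComplex.IsKInjective I := by
  classical
  let _ : Algebra R S := φ.toAlgebra
  have hepi : Algebra.IsEpi R S := CommRingCat.epi_iff_epi.mp hφ
  have key : ∀ s : S, (1 : S) ⊗ₜ[R] s = s ⊗ₜ[R] 1 :=
    (Algebra.isEpi_iff_forall_one_tmul_eq R S).mp hepi
  have tower : ∀ (M : ModuleCat.{u} S),
      IsScalarTower R S ((ModuleCat.restrictScalars φ).obj M) := fun M =>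
    IsScalarTower.of_algebraMap_smul (fun r m => rfl)
  refine ⟨fun {K} f hK => ?_⟩
  have hK' : ((DRing.restrictCx φ).obj K).Acyclic := fun i => by
    have := hK i
    rw [HomologicalComplex.exactAt_iff, ShortComplex.moduleCat_exact_iff] at this ⊢
    intro x hx
    obtain ⟨y, hy⟩ := this x hx
    exact ⟨y, hy⟩
  obtain ⟨h⟩ := CochainComplex.IsKInjective.nonempty_homotopy_zero
    ((DRing.restrictCx φ).map f) hK'
  let g : ∀ i j : ℤ, ((ModuleCat.restrictScalars φ).obj (K.X i)) ⟶
      ((ModuleCat.restrictScalars φ).obj (I.X j)) := fun i j => h.hom i j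
  have hlin : ∀ (i j : ℤ) (s : S) (x : (ModuleCat.restrictScalars φ).obj (K.X i)),
      (g i j).hom (s • x) = s • (g i j).hom x := fun i j s x => by
    haveI := tower (K.X i)
    haveI := tower (I.X j)
    exact lin_of_epi key (g i j).hom s x
  refine ⟨{
    hom := fun i j => ModuleCat.ofHom
      { toFun := fun x => (g i j).hom x
        map_add' := fun x y => map_add (g i j).hom x y
        map_smul' := fun s x => hlin i j s x }
    zero := fun i j w => ?_
    comm := fun i => ?_ }⟩
  · refine ModuleCat.hom_ext (LinearMap.ext fun x => ?_)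
    rw [ModuleCat.hom_zero, LinearMap.zero_apply]
    have e : (h.hom i j).hom x = 0 := by rw [h.zero i j w]; rfl
    exact e
  · rw [dNext_eq _ (show (ComplexShape.up ℤ).Rel i (i + 1) from rfl),
      prevD_eq _ (show (ComplexShape.up ℤ).Rel (i - 1) i from by simp)]
    have e := h.comm i
    rw [dNext_eq _ (show (ComplexShape.up ℤ).Rel i (i + 1) from rfl),
      prevD_eq _ (show (ComplexShape.up ℤ).Rel (i - 1) i from by simp)] at e
    refine ModuleCat.hom_ext (LinearMap.ext fun x => ?_)
    rw [HomologicalComplex.zero_f, add_zero] at e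
    have e2 : (ModuleCat.restrictScalars φ).map (f.f i) =
        (ModuleCat.restrictScalars φ).map (K.d i (i + 1)) ≫ g (i + 1) i +
          g i (i - 1) ≫ (ModuleCat.restrictScalars φ).map (I.d (i - 1) i) := e
    have e' := congrArg (fun g => g.hom x) e2
    simp only [ModuleCat.hom_add, ModuleCat.hom_comp, LinearMap.add_apply,
      LinearMap.comp_apply] at e'
    simp only [HomologicalComplex.zero_f, add_zero, ModuleCat.hom_add,
      ModuleCat.hom_comp, LinearMap.add_apply, LinearMap.comp_apply]
    exact e'

end Groth.Agent.S6920
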