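import Groth.Statements.S6929
import Mathlib

set_option autoImplicit false
universe u
open EtAlg

namespace Groth.Agent.S6929

theorem finiteType_pi (R : Type u) [CommRing R] {ι : Type u} [Fintype ι] (A : ι → Type u)
    [∀ i, CommRing (A i)] [∀ i, Algebra R (A i)] (hA : ∀ i, Algebra.FiniteType R (A i)) :
    Algebra.FiniteType R (∀ i, A i) := by
  classical
  choose s hs using fun i => (hA i).out
  refine ⟨⟨(Finset.univ.image fun i => (Pi.single i 1 : ∀ i, A i)) ∪
    Finset.univ.biUnion (fun i => (s i).image (Pi.single i)), ?_⟩⟩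
  rw [eq_top_iff]
  intro a _
  have key : ∀ i (x : A i), (Pi.single i x : ∀ i, A i) ∈ Algebra.adjoin R
      (↑((Finset.univ.image fun i => (Pi.single i 1 : ∀ i, A i)) ∪
        Finset.univ.biUnion (fun i => (s i).image (Pi.single i))) : Set (∀ i, A i)) := by
    intro i x
    have hx : x ∈ Algebra.adjoin R (↑(s i) : Set (A i)) := by rw [hs i]; trivial
    induction hx using Algebra.adjoin_induction with
    | mem x hx =>
        apply Algebra.subset_adjoin
        simp only [Finset.coe_union, Finset.coe_image, Finset.coe_univ, Set.image_univ,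
          Finset.coe_biUnion, Set.mem_union, Set.mem_range, Set.mem_iUnion, Set.mem_image]
        right
        exact ⟨i, trivial, x, hx, rfl⟩
    | algebraMap r =>
        have : (Pi.single i (algebraMap R (A i) r) : ∀ i, A i) = r • Pi.single i 1 := by
          rw [← Pi.single_smul, Algebra.smul_def, mul_one]
        rw [this]
        refine Subalgebra.smul_mem _ (Algebra.subset_adjoin ?_) r
        simp only [Finset.coe_union, Finset.coe_image, Finset.coe_univ, Set.image_univ,
          Set.mem_union, Set.mem_range]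
        left
        exact ⟨i, rfl⟩
    | add x y _ _ hx hy => rw [Pi.single_add]; exact add_mem hx hy
    | mul x y _ _ hx hy => rw [Pi.single_mul]; exact mul_mem hx hy
  rw [← Finset.univ_sum_single a]
  exact sum_mem fun i _ => key i (a i)

theorem aux (R : Type u) [CommRing R] [IsNoetherianRing R] {ι : Type u} [Fintype ι]
    (Q : Type u) [CommRing Q] [Algebra R Q] [Algebra.FiniteType R Q] (A B : ι → Type u) [∀ i, CommRing (A i)]
    [∀ i, CommRing (B i)] [∀ i, Algebra R (A i)] [∀ i, Algebra R (B i)] (hA : ∀ i, Algebra.FiniteType R (A i))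
    (φ : ∀ i, A i →ₐ[R] B i) (ψ : ∀ i, Q →ₐ[R] B i)
    (hφ : ∀ i, Function.Surjective (φ i)) (hψ : ∀ i, Function.Surjective (ψ i))
    (P : Subalgebra R (Q × (∀ i, A i)))
    (memP : ∀ t : Q × (∀ i, A i), t ∈ P ↔ ∀ i, ψ i t.1 = φ i (t.2 i)) :
    Algebra.FiniteType R ↥P := by
  classical
  have hT : Algebra.FiniteType R (Q × (∀ i, A i)) := by
    have := finiteType_pi R A hA
    infer_instance
  constructor
  refine fg_of_fg_of_fg R P (Q × (∀ i, A i)) hT.out ?_ Subtype.val_injective
  refine ⟨insert ((1, 0) : Q × (∀ i, A i))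
    (Finset.univ.image fun i => ((0, Pi.single i 1) : Q × (∀ i, A i))), ?_⟩
  rw [eq_top_iff]
  rintro ⟨q, a⟩ -
  have h0 : ((q, 0) : Q × (∀ i, A i)) ∈ Submodule.span P
      (↑(insert ((1, 0) : Q × (∀ i, A i))
        (Finset.univ.image fun i => ((0, Pi.single i 1) : Q × (∀ i, A i)))) : Set (Q × (∀ i, A i))) := by
    choose a' ha' using fun i => hφ i (ψ i q)
    have hp : ((q, a') : Q × (∀ i, A i)) ∈ P :=
      (memP _).2 fun i => (ha' i).symm
    have : ((q, 0) : Q × (∀ i, A i)) = (⟨(q, a'), hp⟩ : P) • ((1, 0) : Q × (∀ i, A i)) := by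
      rw [Subalgebra.smul_def]
      ext <;> simp
    rw [this]
    exact Submodule.smul_mem _ _ (Submodule.subset_span (by simp))
  have hi : ∀ i, ((0, Pi.single i (a i)) : Q × (∀ i, A i)) ∈ Submodule.span P
      (↑(insert ((1, 0) : Q × (∀ i, A i))
        (Finset.univ.image fun i => ((0, Pi.single i 1) : Q × (∀ i, A i)))) : Set (Q × (∀ i, A i))) := by
    intro i
    obtain ⟨qi, hqi⟩ := hψ i (φ i (a i))
    choose a' ha' using fun j => hφ j (ψ j qi)
    have hp : ((qi, Function.update a' i (a i)) : Q × (∀ i, A i)) ∈ P := by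
      refine (memP _).2 fun j => ?_
      by_cases hj : j = i
      · subst hj; simp [hqi]
      · simp [Function.update_of_ne hj, ha']
    have : ((0, Pi.single i (a i)) : Q × (∀ i, A i)) =
        (⟨_, hp⟩ : P) • ((0, Pi.single i 1) : Q × (∀ i, A i)) := by
      rw [Subalgebra.smul_def]
      ext j
      · simp
      · by_cases hj : j = i
        · subst hj; simp
        · simp [Pi.single_eq_of_ne hj]
    rw [this]
    exact Submodule.smul_mem _ _ (Submodule.subset_span (by simp))
  have hsum : ((q, a) : Q × (∀ i, A i)) = (q, 0) + ∑ i, (0, Pi.single i (a i)) := by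
    ext j
    · simp [Prod.fst_sum]
    · simp [Prod.snd_sum, Finset.univ_sum_single]
  rw [hsum]
  exact add_mem h0 (sum_mem fun i _ => hi i)

/-- Let `R` be a Noetherian ring, `ι` a finite index type, and `φ_i : A_i → B_i`, `ψ_i : Q → B_i`
surjective `R`-algebra maps, where `Q` and all `A_i`, `B_i` are `R`-algebras of finite type. Then
the fibre product ring `P = Q ×_{∏ B_i} ∏ A_i` (pairs `(q, a)` with `ψ_i(q) = φ_i(a_i)` for all `i`)
is an `R`-algebra of finite type. -/
theorem result (R : Type u) [CommRing R] [IsNoetherianRing R] {ι : Type u} [Fintype ι]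
    (Q : Type u) [CommRing Q] [Algebra R Q] [Algebra.FiniteType R Q] (A B : ι → Type u) [∀ i, CommRing (A i)]
    [∀ i, CommRing (B i)] [∀ i, Algebra R (A i)] [∀ i, Algebra R (B i)] (hA : ∀ i, Algebra.FiniteType R (A i))
    (hB : ∀ i, Algebra.FiniteType R (B i)) (φ : ∀ i, A i →ₐ[R] B i) (ψ : ∀ i, Q →ₐ[R] B i)
    (hφ : ∀ i, Function.Surjective (φ i)) (hψ : ∀ i, Function.Surjective (ψ i)) :
    Algebra.FiniteType R ↥(AlgHom.equalizer ((AlgHom.pi ψ).comp (AlgHom.fst R Q (∀ i, A i)))
      ((AlgHom.pi fun i => (φ i).comp (Pi.evalAlgHom R A i)).comp (AlgHom.snd R Q (∀ i, A i)))) := by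
  refine aux R Q A B hA φ ψ hφ hψ _ ?_
  intro t
  rw [AlgHom.mem_equalizer]
  constructor
  · intro h i
    exact congrFun h i
  · intro h
    funext i
    exact h i

end Groth.Agent.S6929
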