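import Groth.Statements.S6933
-- import your own Groth.Agent.* helpers here

set_option autoImplicit false
universe u
open CategoryTheory
open InjHull

namespace Groth.Agent.S6933

/-- An abelian group `J` that is injective as an object of the category of abelian groups is divisible:
`n J = J` for every nonzero integer `n`. (The published statement is an equivalence; this row states
the implication from injective to divisible.) -/
theorem result (J : Type u) [AddCommGroup J] (hJ : Injective (AddCommGrpCat.of J))
    (n : ℤ) (hn : n ≠ 0) (x : J) : ∃ y : J, n • y = x := by
  have h1 : Injective (ModuleCat.of ℤ J) := (AddCommGrpCat.injective_as_module_iff J).mpr hJ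
  have h2 : Module.Injective ℤ J := Module.injective_module_of_injective_object ℤ J
  obtain ⟨h, hh⟩ := Module.Injective.extension_property ℤ J ℤ ℤ
    (LinearMap.lsmul ℤ ℤ n) (fun a b hab => by
      simpa [hn] using hab)
    (LinearMap.toSpanSingleton ℤ J x)
  refine ⟨h 1, ?_⟩
  have := LinearMap.congr_fun hh 1
  simp only [LinearMap.coe_comp, Function.comp_apply, LinearMap.lsmul_apply,
    LinearMap.toSpanSingleton_apply, one_smul] at this
  rw [← this, ← map_zsmul]

end Groth.Agent.S6933
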