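import Groth.Statements.S6934
-- import your own Groth.Agent.* helpers here

set_option autoImplicit false
universe u
open EtAlg

namespace Groth.Agent.S6934

/-- Let `s : B → R`, `t : R' → R` be ring maps and `B' = B ×_R R'` the fibre product ring, i.e. a ring
`B'` with maps `p : B' → B`, `q : B' → R'`, `s ∘ p = t ∘ q`, such that `(p, q)` is injective with
image the pairs `(b, r')` with `s(b) = t(r')`. Let `h ∈ B'` with images `g = p(h)`, `f = q(h)`. Then
the square of localizations `B'_h → B_g`, `B'_h → R'_f`, `B_g → R_{s(g)}`, `R'_f → R_{t(f)} =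
R_{s(g)}` (the induced maps) is cartesian as well: `B'_h = B_g ×_{R_{s(g)}} R'_f`. -/
theorem result {B R R' B' : Type u} [CommRing B] [CommRing R] [CommRing R'] [CommRing B']
    (s : B →+* R) (t : R' →+* R) (p : B' →+* B) (q : B' →+* R') (hc : s.comp p = t.comp q)
    (hinj : ∀ x y : B', p x = p y → q x = q y → x = y) (hsurj : ∀ (b : B) (r' : R'), s b = t r' → ∃ x : B', p x = b ∧ q x = r')
    (h : B') (Bh Bg Rf Rsg : Type u) [CommRing Bh] [CommRing Bg] [CommRing Rf] [CommRing Rsg]
    [Algebra B' Bh] [IsLocalization.Away h Bh] [Algebra B Bg] [IsLocalization.Away (p h) Bg]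
    [Algebra R' Rf] [IsLocalization.Away (q h) Rf] [Algebra R Rsg] [IsLocalization.Away (s (p h)) Rsg]
    (pL : Bh →+* Bg) (qL : Bh →+* Rf) (sL : Bg →+* Rsg) (tL : Rf →+* Rsg)
    (hp : pL.comp (algebraMap B' Bh) = (algebraMap B Bg).comp p) (hq : qL.comp (algebraMap B' Bh) = (algebraMap R' Rf).comp q)
    (hs : sL.comp (algebraMap B Bg) = (algebraMap R Rsg).comp s) (ht : tL.comp (algebraMap R' Rf) = (algebraMap R Rsg).comp t) :
    (∀ x y : Bh, pL x = pL y → qL x = qL y → x = y) ∧
    (∀ (b : Bg) (r : Rf), sL b = tL r → ∃ x : Bh, pL x = b ∧ qL x = r) := by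
  have ha : ∀ b', pL (algebraMap B' Bh b') = algebraMap B Bg (p b') := fun b' =>
    RingHom.congr_fun hp b'
  have hb : ∀ b', qL (algebraMap B' Bh b') = algebraMap R' Rf (q b') := fun b' =>
    RingHom.congr_fun hq b'
  have hc' : ∀ b, sL (algebraMap B Bg b) = algebraMap R Rsg (s b) := fun b =>
    RingHom.congr_fun hs b
  have hd : ∀ r', tL (algebraMap R' Rf r') = algebraMap R Rsg (t r') := fun r' =>
    RingHom.congr_fun ht r'
  have he : ∀ x, s (p x) = t (q x) := fun x => RingHom.congr_fun hc x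
  have uh : ∀ n : ℕ, IsUnit (algebraMap B' Bh h ^ n) :=
    IsLocalization.Away.algebraMap_pow_isUnit h
  have ug : ∀ n : ℕ, IsUnit (algebraMap B Bg (p h) ^ n) :=
    IsLocalization.Away.algebraMap_pow_isUnit (p h)
  have uf : ∀ n : ℕ, IsUnit (algebraMap R' Rf (q h) ^ n) :=
    IsLocalization.Away.algebraMap_pow_isUnit (q h)
  have hinj0 : ∀ x : B', p x = 0 → q x = 0 → x = 0 := fun x h1 h2 =>
    hinj x 0 (by rw [h1, map_zero]) (by rw [h2, map_zero])
  constructor
  · -- injectivity
    have key : ∀ z : Bh, pL z = 0 → qL z = 0 → z = 0 := by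
      intro z hz1 hz2
      obtain ⟨n, b', hz⟩ := IsLocalization.Away.surj h z
      have h1 : algebraMap B Bg (p b') = 0 := by
        rw [← ha, ← hz, map_mul, hz1, zero_mul]
      have h2 : algebraMap R' Rf (q b') = 0 := by
        rw [← hb, ← hz, map_mul, hz2, zero_mul]
      rw [← map_zero (algebraMap B Bg)] at h1
      rw [← map_zero (algebraMap R' Rf)] at h2
      obtain ⟨m₁, hm₁⟩ := IsLocalization.Away.exists_of_eq (p h) h1
      obtain ⟨m₂, hm₂⟩ := IsLocalization.Away.exists_of_eq (q h) h2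
      have h3 : h ^ (m₁ + m₂) * b' = 0 := by
        apply hinj0
        · have e : p (h ^ (m₁ + m₂) * b') = p h ^ m₂ * (p h ^ m₁ * p b') := by
            rw [map_mul, map_pow]; ring
          rw [e, hm₁]; simp
        · have e : q (h ^ (m₁ + m₂) * b') = q h ^ m₁ * (q h ^ m₂ * q b') := by
            rw [map_mul, map_pow]; ring
          rw [e, hm₂]; simp
      have h4 : algebraMap B' Bh h ^ (m₁ + m₂) * algebraMap B' Bh b' = 0 := by
        rw [← map_pow, ← map_mul, h3, map_zero]
      have h5 : algebraMap B' Bh b' = 0 := (uh _).mul_right_eq_zero.mp h4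
      rw [h5] at hz
      exact (uh n).mul_left_eq_zero.mp hz
    intro x y h1 h2
    have := key (x - y) (by rw [map_sub, h1, sub_self]) (by rw [map_sub, h2, sub_self])
    exact sub_eq_zero.mp this
  · -- surjectivity
    intro b r hbr
    obtain ⟨n₁, b₀, hb₀⟩ := IsLocalization.Away.surj (p h) b
    obtain ⟨n₂, r₀, hr₀⟩ := IsLocalization.Away.surj (q h) r
    set n := n₁ + n₂ with hn
    have hb₁ : b * algebraMap B Bg (p h) ^ n = algebraMap B Bg (b₀ * p h ^ n₂) := by
      rw [hn, pow_add, ← mul_assoc, hb₀, map_mul, map_pow]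
    have hr₁ : r * algebraMap R' Rf (q h) ^ n = algebraMap R' Rf (r₀ * q h ^ n₁) := by
      rw [hn, pow_add, mul_comm (algebraMap R' Rf (q h) ^ n₁), ← mul_assoc, hr₀, map_mul, map_pow]
    have h1 : algebraMap R Rsg (s (b₀ * p h ^ n₂)) = algebraMap R Rsg (t (r₀ * q h ^ n₁)) := by
      rw [← hc', ← hd, ← hb₁, ← hr₁, map_mul, map_mul, map_pow, map_pow, hc', hd, hbr, he]
    obtain ⟨m, hm⟩ := IsLocalization.Away.exists_of_eq (s (p h)) h1
    have h2 : s (p h ^ m * (b₀ * p h ^ n₂)) = t (q h ^ m * (r₀ * q h ^ n₁)) := by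
      rw [map_mul, map_mul t, map_pow, map_pow, ← he, hm]
    obtain ⟨x₀, hx₀p, hx₀q⟩ := hsurj _ _ h2
    obtain ⟨v, hv⟩ := uh (n + m)
    refine ⟨algebraMap B' Bh x₀ * ↑v⁻¹, ?_, ?_⟩
    · have : pL (algebraMap B' Bh x₀ * ↑v⁻¹) * algebraMap B Bg (p h) ^ (n + m) =
          b * algebraMap B Bg (p h) ^ (n + m) := by
        have e1 : algebraMap B Bg (p h) ^ (n + m) = pL (↑v) := by
          rw [hv, map_pow, ha]
        rw [e1, ← map_mul, mul_assoc, Units.inv_mul, mul_one, ha, hx₀p, ← e1, pow_add,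
          ← mul_assoc b, hb₁, map_mul, map_pow, mul_comm]
      exact (ug _).mul_left_injective this
    · have : qL (algebraMap B' Bh x₀ * ↑v⁻¹) * algebraMap R' Rf (q h) ^ (n + m) =
          r * algebraMap R' Rf (q h) ^ (n + m) := by
        have e1 : algebraMap R' Rf (q h) ^ (n + m) = qL (↑v) := by
          rw [hv, map_pow, hb]
        rw [e1, ← map_mul, mul_assoc, Units.inv_mul, mul_one, hb, hx₀q, ← e1, pow_add,
          ← mul_assoc r, hr₁, map_mul, map_pow, mul_comm]
      exact (uf _).mul_left_injective this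

end Groth.Agent.S6934
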