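import Groth.Statements.S6936
import Groth.Agent.Lib.Helper6.PCm4

set_option autoImplicit false
universe u
open CategoryTheory CategoryTheory.Limits
attribute [local instance] HasDerivedCategory.standard
open DRing

namespace Groth.Agent.S6936

/-- Let R be a commutative ring, m an integer and K an object of D(R). If H^i(K) = 0 for every i > m +
1, H^(m+1)(K) is a finitely presented R-module and H^m(K) is a finitely generated R-module, then K
is m-pseudo-coherent. -/
theorem result (R : Type u) [CommRing R]
    (m : ℤ) (K : Dual.D R) (hvan : ∀ i : ℤ, m + 1 < i → Subsingleton (Dual.HD R K i))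
    (hfp : Module.FinitePresentation R (Dual.HD R K (m + 1))) (hfin : Module.Finite R (Dual.HD R K m)) :
    DRing.IsPseudoCoherent R m K := by
  show Groth.Agent.Helper6.PCm.IsPC m K
  have hb : DerivedCategory.IsLE K (m + 1) := by
    rw [DerivedCategory.isLE_iff]
    intro i hi
    haveI := hvan i hi
    exact ModuleCat.isZero_of_subsingleton _
  refine Groth.Agent.Helper6.PCm.isPC_of_homology m K (m + 1) hb (fun i => ?_)
  by_cases h1 : m + 1 < i
  · haveI := hvan i h1
    exact Groth.Agent.Helper6.PCm.isPC_of_isZero _ _
      (Functor.map_isZero _ (ModuleCat.isZero_of_subsingleton _))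
  · by_cases h2 : i = m + 1
    · subst h2
      haveI : Module.FinitePresentation R
        ((DerivedCategory.homologyFunctor (ModuleCat.{u} R) (m + 1)).obj K) := hfp
      exact Groth.Agent.Helper6.PCm.isPC_mono (by omega)
        (Groth.Agent.Helper6.PCm.isPC_single_of_fp _)
    · by_cases h3 : i = m
      · subst h3
        haveI : Module.Finite R
          ((DerivedCategory.homologyFunctor (ModuleCat.{u} R) i).obj K) := hfin
        exact Groth.Agent.Helper6.PCm.isPC_mono (by omega)
          (Groth.Agent.Helper6.PCm.isPC_single_of_finite _)
      · haveI : DerivedCategory.IsLE ((DerivedCategory.singleFunctor (ModuleCat.{u} R) 0).obj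
            ((DerivedCategory.homologyFunctor (ModuleCat.{u} R) i).obj K)) (m - i - 1) :=
          DerivedCategory.TStructure.t.isLE_of_le _ 0 (m - i - 1) (by omega)
        exact Groth.Agent.Helper6.PCm.isPC_of_isLE (m - i) _

end Groth.Agent.S6936
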