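import Groth.Statements.S6937
import Groth.Agent.Lib.Helper6.PCm8

set_option autoImplicit false
universe u
open CategoryTheory CategoryTheory.Limits
attribute [local instance] HasDerivedCategory.standard
open DRing

namespace Groth.Agent.S6937

/-- Let R be a commutative ring, m an integer and K, L objects of D(R). If K ⊕ L is m-pseudo-coherent
then K and L are m-pseudo-coherent; if K ⊕ L is pseudo-coherent (isomorphic in D(R) to a bounded
above complex of finite free modules) then so are K and L. -/
theorem result (R : Type u) [CommRing R] (m : ℤ) (K L : Dual.D R)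
    [HasBinaryBiproduct K L] :
    (DRing.IsPseudoCoherent R m (K ⊞ L) → DRing.IsPseudoCoherent R m K ∧ DRing.IsPseudoCoherent R m L) ∧
      (DRing.IsPseudoCoherent' R (K ⊞ L) → DRing.IsPseudoCoherent' R K ∧ DRing.IsPseudoCoherent' R L) := by
  have key' : ∀ K : Dual.D R, DRing.IsPseudoCoherent' R K ↔
      ∀ m : ℤ, Groth.Agent.Helper6.PCm.IsPC m K :=
    fun K => (Groth.Agent.Helper6.PCm.forall_isPC_iff_rep K).symm
  refine ⟨fun h => ?_, fun h => ?_⟩
  · exact Groth.Agent.Helper6.PCm.isPC_of_biprod h
  · have h' := (key' _).1 h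
    exact ⟨(key' K).2 (fun m => (Groth.Agent.Helper6.PCm.isPC_of_biprod (h' m)).1),
      (key' L).2 (fun m => (Groth.Agent.Helper6.PCm.isPC_of_biprod (h' m)).2)⟩

end Groth.Agent.S6937
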