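import Groth.Statements.S6940
import Groth.Agent.Lib.Helper6.PCm10

set_option autoImplicit false
universe u
open CategoryTheory CategoryTheory.Limits
attribute [local instance] HasDerivedCategory.standard
open DRing

namespace Groth.Agent.S6940

/-- Let A → B be a homomorphism of commutative rings making B a pseudo-coherent A-module; let K be an
object of D(B) and m an integer. Then m-pseudo-coherence of K over B is equivalent to
m-pseudo-coherence over A of K with its scalars restricted to A, and likewise pseudo-coherence of K
over B is equivalent to pseudo-coherence over A of its restriction. -/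
theorem result {A B : Type u} [CommRing A]
    [CommRing B] [Algebra A B] (hB : DRing.IsPseudoCoherentModule' A B) (K : Dual.D B) (m : ℤ) :
    (DRing.IsPseudoCoherent B m K ↔ DRing.IsPseudoCoherent A m ((DRing.restrictD (algebraMap A B)).obj K)) ∧
      (DRing.IsPseudoCoherent' B K ↔ DRing.IsPseudoCoherent' A ((DRing.restrictD (algebraMap A B)).obj K)) := by
  have HB : Groth.Agent.Helper6.PCm.ResPC (algebraMap A B) := by
    intro k
    have h1 : Groth.Agent.Helper6.PCm.IsPC k (Dual.inD A B) :=
      (Groth.Agent.Helper6.PCm.forall_isPC_iff_rep _).2 hB k
    let e : B ≃ₗ[A] ((ModuleCat.restrictScalars.{u} (algebraMap A B)).obj (ModuleCat.of B B)) :=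
      { toFun := fun x => x
        invFun := fun x => x
        map_add' := fun _ _ => rfl
        map_smul' := fun a b => Algebra.smul_def a b
        left_inv := fun _ => rfl
        right_inv := fun _ => rfl }
    exact Groth.Agent.Helper6.PCm.isPC_of_iso
      ((DerivedCategory.singleFunctor (ModuleCat.{u} A) 0).mapIso e.toModuleIso) h1
  refine ⟨(Groth.Agent.Helper6.PCm.isPC_resD_iff (algebraMap A B) HB K m).symm, ?_⟩
  exact (Groth.Agent.Helper6.PCm.forall_isPC_iff_rep K).symm.trans
    ((forall_congr' fun k =>
      (Groth.Agent.Helper6.PCm.isPC_resD_iff (algebraMap A B) HB K k).symm).trans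
      (Groth.Agent.Helper6.PCm.forall_isPC_iff_rep _))

end Groth.Agent.S6940
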