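import Groth.Statements.S6941
import Groth.Agent.Lib.Helper6.PCm15

set_option autoImplicit false
universe u
open CategoryTheory CategoryTheory.Limits
attribute [local instance] HasDerivedCategory.standard
open DRing

namespace Groth.Agent.S6941

/-- Let R → R' be a faithfully flat homomorphism of commutative rings, K a cochain complex of R-modules
and m an integer. If the termwise base change K ⊗_R R' is m-pseudo-coherent in D(R'), then K is
m-pseudo-coherent in D(R); if K ⊗_R R' is pseudo-coherent, then K is pseudo-coherent. -/
theorem result {R R' : Type u} [CommRing R] [CommRing R']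
    [Algebra R R'] [Module.FaithfullyFlat R R'] (K : DRing.Cx R) (m : ℤ) :
    (DRing.IsPseudoCoherent R' m (DRing.toD (((ModuleCat.extendScalars (algebraMap R R')).mapHomologicalComplex
        (ComplexShape.up ℤ)).obj K)) → DRing.IsPseudoCoherent R m (DRing.toD K)) ∧
      (DRing.IsPseudoCoherent' R' (DRing.toD (((ModuleCat.extendScalars (algebraMap R R')).mapHomologicalComplex
        (ComplexShape.up ℤ)).obj K)) → DRing.IsPseudoCoherent' R (DRing.toD K)) := by
  have key : ∀ k : ℤ, Groth.Agent.Helper6.PCm.IsPC k (DRing.toD
      (((ModuleCat.extendScalars (algebraMap R R')).mapHomologicalComplex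
        (ComplexShape.up ℤ)).obj K)) → Groth.Agent.Helper6.PCm.IsPC k (DRing.toD K) :=
    fun k h => Groth.Agent.Helper6.PCm.isPC_of_extF (S := R') (DRing.toD K)
      (Groth.Agent.Helper6.PCm.isPC_of_iso
        (Groth.Agent.Helper6.PCm.mapDQIso (Groth.Agent.Helper6.PCm.extF R R') K).symm h)
  refine ⟨key m, fun h => ?_⟩
  exact (Groth.Agent.Helper6.PCm.forall_isPC_iff_rep _).1
    (fun k => key k ((Groth.Agent.Helper6.PCm.forall_isPC_iff_rep _).2 h k))

end Groth.Agent.S6941
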