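import Groth.Statements.S6942
import Groth.Agent.Lib.Helper6.PCm9
import Groth.Agent.S6935

set_option autoImplicit false
universe u
open CategoryTheory CategoryTheory.Limits
attribute [local instance] HasDerivedCategory.standard
open DRing

namespace Groth.Agent.S6942

/-- Let R be a Noetherian commutative ring and m an integer. An object K of D(R) is m-pseudo-coherent
exactly when H^i(K) = 0 for all large i and H^i(K) is a finitely generated R-module for each i ≥ m.
Every finitely generated R-module M is pseudo-coherent, and conversely. -/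
theorem result (R : Type u) [CommRing R]
    [IsNoetherianRing R] (m : ℤ) (K : Dual.D R) (M : Type u) [AddCommGroup M] [Module R M] :
    (DRing.IsPseudoCoherent R m K ↔
      (∃ b : ℤ, ∀ i : ℤ, b < i → Subsingleton (Dual.HD R K i)) ∧ ∀ i : ℤ, m ≤ i → Module.Finite R (Dual.HD R K i)) ∧
      (DRing.IsPseudoCoherentModule' R M ↔ Module.Finite R M) := by
  refine ⟨?_, ⟨fun h => ?_, fun h => ?_⟩⟩
  · exact Groth.Agent.Helper6.PCm.isPC_iff_of_isNoetherianRing m K
  · have h' : DRing.IsPseudoCoherentModule R 0 M :=
      (Groth.Agent.Helper6.PCm.forall_isPC_iff_rep _).2 h 0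
    exact (Groth.Agent.S6935.result R M).1.1 h'
  · haveI : Module.Finite R (ModuleCat.of R M) := h
    exact (Groth.Agent.Helper6.PCm.forall_isPC_iff_rep _).1
      (fun k => Groth.Agent.Helper6.PCm.isPC_single_of_finite_noeth (ModuleCat.of R M) k)

end Groth.Agent.S6942
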