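import Groth.Statements.S6943
import Groth.Agent.Lib.Helper6.PCmCoh

set_option autoImplicit false
universe u
open CategoryTheory CategoryTheory.Limits
attribute [local instance] HasDerivedCategory.standard
open DRing

namespace Groth.Agent.S6943

/-- Let R be a coherent commutative ring, i.e. every finitely generated ideal of R is finitely presented
as an R-module. Let K be an object of D(R) whose cohomology vanishes in large degrees and m an
integer. Then K is m-pseudo-coherent if and only if H^m(K) is finitely generated and H^i(K) is
finitely presented for every i > m. Consequently K is pseudo-coherent if and only if every H^i(K) is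
finitely presented. -/
theorem result (R : Type u) [CommRing R]
    (hR : ∀ I : Ideal R, I.FG → Module.FinitePresentation R I) (K : Dual.D R)
    (hb : ∃ b : ℤ, ∀ i : ℤ, b < i → Subsingleton (Dual.HD R K i)) (m : ℤ) :
    (DRing.IsPseudoCoherent R m K ↔
      Module.Finite R (Dual.HD R K m) ∧ ∀ i : ℤ, m < i → Module.FinitePresentation R (Dual.HD R K i)) ∧
      (DRing.IsPseudoCoherent' R K ↔ ∀ i : ℤ, Module.FinitePresentation R (Dual.HD R K i)) := by
  have key : ∀ m' : ℤ, DRing.IsPseudoCoherent R m' K ↔
      Module.Finite R (Dual.HD R K m') ∧
        ∀ i : ℤ, m' < i → Module.FinitePresentation R (Dual.HD R K i) :=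
    fun m' => Groth.Agent.Helper6.PCm.isPC_iff_of_coh hR m' K hb
  refine ⟨key m, ⟨fun h i => ?_, fun h => ?_⟩⟩
  · have h' : DRing.IsPseudoCoherent R (i - 1) K :=
      (Groth.Agent.Helper6.PCm.forall_isPC_iff_rep K).2 h (i - 1)
    exact ((key (i - 1)).1 h').2 i (by omega)
  · refine (Groth.Agent.Helper6.PCm.forall_isPC_iff_rep K).1 (fun m' => ?_)
    refine (key m').2 ⟨?_, fun i _ => h i⟩
    haveI := h m'
    infer_instance

end Groth.Agent.S6943
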