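import Groth.Statements.S6954
import Groth.Agent.Lib.Helper6.Flat2

set_option autoImplicit false
universe u
open CategoryTheory CategoryTheory.Limits
attribute [local instance] HasDerivedCategory.standard
open DRing

namespace Groth.Agent.S6954

/-- Let R be a commutative ring and K an object of D(R). Then K is perfect (isomorphic in D(R) to a
bounded complex of finite projective modules) if and only if K is pseudo-coherent (isomorphic to a
bounded above complex of finite free modules) and has finite tor dimension (isomorphic to a bounded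
complex of flat modules). -/
theorem result (R : Type u) [CommRing R] (K : Dual.D R) :
    DRing.IsPerfect R K ↔ DRing.IsPseudoCoherent' R K ∧ DRing.HasFiniteTorDimCx R K := by
  constructor
  · rintro ⟨E, a, b, h1, h2, h3⟩
    refine ⟨(Groth.Agent.Helper6.PCm.forall_isPC_iff_rep K).1
      (fun m => Groth.Agent.Helper6.Perf.isPC_of_rep_PF ⟨E, ⟨a, b, h1, h2⟩, h3⟩ m),
      a, b, E, h1, fun i => ?_, h3⟩
    haveI := (h2 i).2
    exact Module.Flat.of_projective
  · rintro ⟨hpc, a, b, E, hE0, hEf, ⟨eE⟩⟩
    obtain ⟨T, hT0, hTf, hT⟩ :=
      Groth.Agent.Helper6.FlatAmp.exists_finProj_rep_of_isPC_of_flat_rep K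
        ((Groth.Agent.Helper6.PCm.forall_isPC_iff_rep K).2 hpc) E a b hE0 hEf eE
    exact ⟨T, a, b, hT0, hTf, hT⟩

end Groth.Agent.S6954
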