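import Groth.Statements.S6955
import Mathlib
-- import your own Groth.Agent.* helpers here

set_option autoImplicit false
universe u
open CategoryTheory CategoryTheory.Limits
attribute [local instance] HasDerivedCategory.standard
open DRing

namespace Groth.Agent.S6955

open Category DerivedCategory

section Aux

variable {R : Type u} [CommRing R]

theorem fp_of_ses {A B C : Type u} [AddCommGroup A] [Module R A] [AddCommGroup B] [Module R B]
    [AddCommGroup C] [Module R C] (i : A →ₗ[R] B) (p : B →ₗ[R] C) (hi : Function.Injective i)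
    (hp : Function.Surjective p) (hex : Function.Exact i p) [Module.Finite R B]
    [Module.Projective R B] [Module.Projective R C] :
    Module.Finite R A ∧ Module.Projective R A := by
  obtain ⟨s, hs⟩ := Module.projective_lifting_property p LinearMap.id hp
  have hps : ∀ c, p (s c) = c := fun c => LinearMap.congr_fun hs c
  have hmem : ∀ b, (LinearMap.id - s ∘ₗ p : B →ₗ[R] B) b ∈ LinearMap.range i := by
    intro b
    have h0 : p ((LinearMap.id - s ∘ₗ p : B →ₗ[R] B) b) = 0 := by
      simp only [LinearMap.sub_apply, LinearMap.id_apply, LinearMap.comp_apply, map_sub, hps,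
        sub_self]
    exact (hex _).1 h0
  let e := LinearEquiv.ofInjective i hi
  let r : B →ₗ[R] A := e.symm.toLinearMap ∘ₗ
    LinearMap.codRestrict (LinearMap.range i) (LinearMap.id - s ∘ₗ p : B →ₗ[R] B) hmem
  have hr : r ∘ₗ i = LinearMap.id := by
    apply LinearMap.ext
    intro a
    have h0 : p (i a) = 0 := (hex (i a)).2 ⟨a, rfl⟩
    show e.symm (LinearMap.codRestrict (LinearMap.range i)
      (LinearMap.id - s ∘ₗ p : B →ₗ[R] B) hmem (i a)) = a
    rw [LinearEquiv.symm_apply_eq]
    apply Subtype.ext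
    show (LinearMap.id - s ∘ₗ p : B →ₗ[R] B) (i a) = i a
    simp only [LinearMap.sub_apply, LinearMap.id_apply, LinearMap.comp_apply, h0, map_zero,
      sub_zero]
  have hsurj : Function.Surjective r := fun a => ⟨i a, LinearMap.congr_fun hr a⟩
  exact ⟨Module.Finite.of_surjective r hsurj, Module.Projective.of_split i r hr⟩

theorem cycles_fp (E : CochainComplex (ModuleCat.{u} R) ℤ) (b : ℤ)
    (hb : ∀ i : ℤ, b < i → IsZero (E.X i)) (m : ℤ)
    (hfl : ∀ i : ℤ, m ≤ i → Module.Finite R (E.X i) ∧ Module.Projective R (E.X i))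
    (hex : ∀ i : ℤ, m < i → IsZero (E.homology i)) :
    ∀ (k : ℕ) (j : ℤ), m ≤ j → b < j + k →
      Module.Finite R (E.cycles j) ∧ Module.Projective R (E.cycles j) := by
  intro k
  induction k with
  | zero =>
    intro j _ hj
    have hz : IsZero (E.cycles j) := IsZero.of_mono (E.iCycles j) (hb j (by simpa using hj))
    haveI := ModuleCat.subsingleton_of_isZero hz
    exact ⟨inferInstance, inferInstance⟩
  | succ k ih =>
    intro j hmj hj
    obtain ⟨_, hp1⟩ := ih (j + 1) (by omega) (by push_cast at hj ⊢; omega)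
    obtain ⟨hf0, hp0⟩ := hfl j hmj
    haveI := hp1
    haveI := hf0
    haveI := hp0
    have hepi : Epi (E.toCycles j (j + 1)) :=
      Preadditive.epi_of_isZero_cokernel' _ (E.homologyIsCokernel j (j + 1) (by simp))
        (hex (j + 1) (by omega))
    have h2 : E.iCycles j ≫ E.toCycles j (j + 1) = 0 := by
      rw [← cancel_mono (E.iCycles (j + 1)), assoc, E.toCycles_i, E.iCycles_d, zero_comp]
    have hker : IsLimit (KernelFork.ofι (E.iCycles j) h2) :=
      isKernelOfComp (E.iCycles (j + 1)) (E.d j (j + 1))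
        (E.cyclesIsKernel j (j + 1) (by simp)) h2 (E.toCycles_i j (j + 1))
    have hS : (ShortComplex.mk _ _ h2).Exact := ShortComplex.exact_of_f_is_kernel _ hker
    exact fp_of_ses (E.iCycles j).hom (E.toCycles j (j + 1)).hom
      ((ModuleCat.mono_iff_injective _).1 inferInstance)
      ((ModuleCat.epi_iff_surjective _).1 hepi)
      ((ShortComplex.ShortExact.moduleCat_exact_iff_function_exact _).1 hS)

noncomputable def PX (E : CochainComplex (ModuleCat.{u} R) ℤ) : ℕ → ModuleCat.{u} R
  | 0 => E.cycles 0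
  | n+1 => E.X (-((n:ℤ)+1))

noncomputable def Pd (E : CochainComplex (ModuleCat.{u} R) ℤ) : ∀ n, PX E (n+1) ⟶ PX E n
  | 0 => E.toCycles (-(((0:ℕ):ℤ)+1)) 0
  | n+1 => E.d (-(((n+1:ℕ):ℤ)+1)) (-((n:ℤ)+1))

theorem Pd_sq (E : CochainComplex (ModuleCat.{u} R) ℤ) : ∀ n, Pd E (n+1) ≫ Pd E n = 0
  | 0 => E.d_toCycles _ _ _
  | n+1 => E.d_comp_d _ _ _

noncomputable def Pcx (E : CochainComplex (ModuleCat.{u} R) ℤ) :
    ChainComplex (ModuleCat.{u} R) ℕ :=
  ChainComplex.of (PX E) (Pd E) (Pd_sq E)

theorem Pcx_d (E : CochainComplex (ModuleCat.{u} R) ℤ) (n : ℕ) :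
    (Pcx E).d (n+1) n = Pd E n := ChainComplex.of_d _ _ n

theorem Pcx_exact (E : CochainComplex (ModuleCat.{u} R) ℤ)
    (exE : ∀ i j k : ℤ, i + 1 = j → j + 1 = k → j ≠ 0 → ∀ x : E.X j, (E.d j k).hom x = 0 →
      ∃ y : E.X i, (E.d i j).hom y = x) (n : ℕ) : (Pcx E).ExactAt (n+1) := by
  rw [HomologicalComplex.exactAt_iff' _ (n+1+1) (n+1) n (by simp) (by simp),
    ShortComplex.moduleCat_exact_iff]
  intro x₂ hx₂
  have hx : (Pd E n).hom x₂ = 0 := by
    rw [← Pcx_d E n]
    exact hx₂
  suffices h : ∃ x₁ : PX E (n+1+1), (Pd E (n+1)).hom x₁ = x₂ by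
    obtain ⟨x₁, hx₁⟩ := h
    refine ⟨x₁, ?_⟩
    show ((Pcx E).d (n+1+1) (n+1)).hom x₁ = x₂
    rw [Pcx_d E (n+1)]
    exact hx₁
  cases n with
  | zero =>
    have hx' : (E.toCycles (-(((0:ℕ):ℤ)+1)) 0).hom x₂ = 0 := hx
    have hd : (E.d (-(((0:ℕ):ℤ)+1)) 0).hom x₂ = 0 := by
      have h1 := congrArg (fun f => f.hom x₂) (E.toCycles_i (-(((0:ℕ):ℤ)+1)) 0)
      have h2 : (E.d (-(((0:ℕ):ℤ)+1)) 0).hom x₂ =
          (E.iCycles 0).hom ((E.toCycles (-(((0:ℕ):ℤ)+1)) 0).hom x₂) := h1.symm
      rw [h2, hx', map_zero]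
    exact exE (-(((0+1:ℕ):ℤ)+1)) (-(((0:ℕ):ℤ)+1)) 0 (by omega) (by omega)
      (by omega) x₂ hd
  | succ n =>
    exact exE (-(((n+1+1:ℕ):ℤ)+1)) (-(((n+1:ℕ):ℤ)+1)) (-((n:ℤ)+1)) (by omega)
      (by omega) (by omega) x₂ hx

end Aux

/-- Let R be a commutative ring and M an R-module. Then M is perfect (M[0] is isomorphic in D(R) to a
bounded complex of finite projective modules) if and only if M admits a projective resolution of
finite length whose terms are finitely generated, i.e. a resolution 0 → F_d → ... → F_0 → M → 0 by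
finite projective modules. -/
theorem result (R : Type u) [CommRing R] (M : Type u)
    [AddCommGroup M] [Module R M] :
    DRing.IsPerfectModule R M ↔
      ∃ (P : ProjectiveResolution (ModuleCat.of R M)) (d : ℕ),
        (∀ i : ℕ, d < i → IsZero (P.complex.X i)) ∧ ∀ i : ℕ, Module.Finite R (P.complex.X i) := by
  constructor
  · rintro ⟨E, a, b, hE, hfp, ⟨iso⟩⟩
    -- homology of E
    have eH : ∀ i : ℤ, E.homology i ≅
        ((CochainComplex.singleFunctor (ModuleCat.{u} R) 0).obj (ModuleCat.of R M)).homology i :=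
      fun i => ((homologyFunctorFactors (ModuleCat.{u} R) i).app E).symm ≪≫
        (homologyFunctor (ModuleCat.{u} R) i).mapIso
          (iso ≪≫ (singleFunctorIsoCompQ (ModuleCat.{u} R) 0).app (ModuleCat.of R M)) ≪≫
        (homologyFunctorFactors (ModuleCat.{u} R) i).app _
    have hH : ∀ i : ℤ, i ≠ 0 → IsZero (E.homology i) := fun i hi =>
      IsZero.of_iso (HomologicalComplex.isZero_single_obj_homology _ _ _ _ hi) (eH i)
    let eM : E.homology 0 ≅ ModuleCat.of R M :=
      eH 0 ≪≫ HomologicalComplex.singleObjHomologySelfIso (ComplexShape.up ℤ) 0 (ModuleCat.of R M)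
    have exE : ∀ i j k : ℤ, i + 1 = j → j + 1 = k → j ≠ 0 → ∀ x : E.X j, (E.d j k).hom x = 0 →
        ∃ y : E.X i, (E.d i j).hom y = x := by
      intro i j k hij hjk hj x hx
      subst hij hjk
      have h1 : E.ExactAt (i+1) :=
        (HomologicalComplex.exactAt_iff_isZero_homology _ _).2 (hH (i+1) hj)
      rw [HomologicalComplex.exactAt_iff' E i (i+1) (i+1+1) (by simp) (by simp),
        ShortComplex.moduleCat_exact_iff] at h1
      exact h1 x hx
    have hcyc : Module.Finite R (E.cycles 0) ∧ Module.Projective R (E.cycles 0) :=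
      cycles_fp E b (fun i hi => hE i (Or.inr hi)) 0 (fun i _ => hfp i)
        (fun i hi => hH i (by omega)) (b.toNat + 1) 0 le_rfl
        (by have := Int.self_le_toNat b; push_cast; omega)
    have h10 : (Pcx E).d 1 0 = E.toCycles (-(((0:ℕ):ℤ)+1)) 0 := Pcx_d E 0
    have hzero : E.toCycles (-(((0:ℕ):ℤ)+1)) 0 ≫ (E.homologyπ 0 ≫ eM.hom) = 0 := by
      rw [← assoc, E.toCycles_comp_homologyπ, zero_comp]
    have hf₀ : (Pcx E).d 1 0 ≫ (E.homologyπ 0 ≫ eM.hom) = 0 := by
      rw [h10]
      exact hzero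
    obtain ⟨π, hπ0⟩ : ∃ π : Pcx E ⟶ (ChainComplex.single₀ (ModuleCat.{u} R)).obj (ModuleCat.of R M),
        π.f 0 = E.homologyπ 0 ≫ eM.hom :=
      ⟨(ChainComplex.toSingle₀Equiv (Pcx E) (ModuleCat.of R M)).symm ⟨E.homologyπ 0 ≫ eM.hom, hf₀⟩,
        ChainComplex.toSingle₀Equiv_symm_apply_f_zero _ _⟩
    have hS1 : (ShortComplex.mk (E.toCycles (-(((0:ℕ):ℤ)+1)) 0) (E.homologyπ 0)
        (E.toCycles_comp_homologyπ _ 0)).Exact :=
      ShortComplex.exact_of_g_is_cokernel _ (E.homologyIsCokernel _ 0 (by simp))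
    have hS0 : (ShortComplex.mk (E.toCycles (-(((0:ℕ):ℤ)+1)) 0) (E.homologyπ 0 ≫ eM.hom)
        hzero).Exact :=
      (ShortComplex.exact_iff_of_iso
        (ShortComplex.isoMk (Iso.refl _) (Iso.refl _) eM (by simp) (by simp) :
          ShortComplex.mk (E.toCycles (-(((0:ℕ):ℤ)+1)) 0) (E.homologyπ 0)
            (E.toCycles_comp_homologyπ _ 0) ≅
          ShortComplex.mk (E.toCycles (-(((0:ℕ):ℤ)+1)) 0) (E.homologyπ 0 ≫ eM.hom) hzero)).1 hS1
    have hq : QuasiIso π := by
      refine ⟨fun n => ?_⟩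
      cases n with
      | zero =>
        rw [ChainComplex.quasiIsoAt₀_iff, ShortComplex.quasiIso_iff_of_zeros']
        · refine (ShortComplex.exact_and_epi_g_iff_of_iso ?_).2 ⟨hS0, by dsimp; infer_instance⟩
          exact ShortComplex.isoMk (Iso.refl _) (Iso.refl _) (Iso.refl _)
            (by
              show 𝟙 _ ≫ E.toCycles (-(((0:ℕ):ℤ)+1)) 0 = (Pcx E).d 1 0 ≫ 𝟙 _
              rw [id_comp, comp_id, h10])
            (by
              show 𝟙 _ ≫ (E.homologyπ 0 ≫ eM.hom) = π.f 0 ≫ 𝟙 _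
              rw [id_comp, comp_id, hπ0])
        all_goals first | rfl | exact HomologicalComplex.shape _ _ _ (by simp)
      | succ n =>
        rw [quasiIsoAt_iff_exactAt' π (n+1) (ChainComplex.exactAt_succ_single_obj _ _)]
        exact Pcx_exact E exE n
    refine ⟨{ complex := Pcx E
              projective := ?_
              π := π
              quasiIso := hq }, (-a).toNat, ?_, ?_⟩
    · intro n
      cases n with
      | zero =>
        show Projective (E.cycles 0)
        haveI := hcyc.2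
        infer_instance
      | succ n =>
        show Projective (E.X (-((n:ℤ)+1)))
        haveI := (hfp (-((n:ℤ)+1))).2
        infer_instance
    · intro i hi
      cases i with
      | zero => omega
      | succ n =>
        show IsZero (E.X (-((n:ℤ)+1)))
        exact hE _ (Or.inl (by omega))
    · intro i
      cases i with
      | zero =>
        show Module.Finite R (E.cycles 0)
        exact hcyc.1
      | succ n =>
        show Module.Finite R (E.X (-((n:ℤ)+1)))
        exact (hfp _).1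
  · rintro ⟨P, d, hz, hfin⟩
    refine ⟨P.cochainComplex, -(d:ℤ), 0, ?_, ?_, ⟨?_⟩⟩
    · intro i hi
      rcases hi with hi | hi
      · obtain ⟨k, rfl⟩ : ∃ k : ℕ, i = -(k:ℤ) := ⟨(-i).toNat, by omega⟩
        exact IsZero.of_iso (hz k (by omega)) (P.cochainComplexXIso (-(k:ℤ)) k rfl)
      · exact CochainComplex.isZero_of_isStrictlyLE P.cochainComplex 0 i hi
    · intro i
      by_cases hi : i ≤ 0
      · obtain ⟨k, rfl⟩ := Int.exists_eq_neg_ofNat hi
        let e := (P.cochainComplexXIso (-(k:ℤ)) k rfl).toLinearEquiv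
        haveI := hfin k
        haveI : Module.Projective R (P.complex.X k) := inferInstance
        exact ⟨Module.Finite.equiv e.symm, Module.Projective.of_equiv e.symm⟩
      · have hz0 := CochainComplex.isZero_of_isStrictlyLE P.cochainComplex 0 i (by omega)
        haveI := ModuleCat.subsingleton_of_isZero hz0
        exact ⟨inferInstance, inferInstance⟩
    · haveI : IsIso (Q.map P.π') :=
        (isIso_Q_map_iff_quasiIso (ModuleCat.{u} R) P.π').2 inferInstance
      exact (asIso (Q.map P.π')) ≪≫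
        ((singleFunctorIsoCompQ (ModuleCat.{u} R) 0).app (ModuleCat.of R M)).symm

end Groth.Agent.S6955
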