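import Groth.Statements.S6956
import Groth.Agent.Lib.Helper6.Perf2

set_option autoImplicit false
universe u
open CategoryTheory CategoryTheory.Limits
attribute [local instance] HasDerivedCategory.standard
open DRing

namespace Groth.Agent.S6956

/-- Let A → B be a homomorphism of commutative rings such that B is perfect as an A-module, and let K be
a perfect object of D(B). Then K, with scalars restricted to A, is a perfect object of D(A). -/
theorem result {A B : Type u} [CommRing A] [CommRing B] [Algebra A B]
    (hB : DRing.IsPerfectModule A B) (K : Dual.D B) (hK : DRing.IsPerfect B K) :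
    DRing.IsPerfect A ((DRing.restrictD (algebraMap A B)).obj K) := by
  have HB : Groth.Agent.Helper6.Perf.ResPerfMod (algebraMap A B) B := by
    obtain ⟨E, a, b, h1, h2, h3⟩ := hB
    let e : B ≃ₗ[A] ((ModuleCat.restrictScalars.{u} (algebraMap A B)).obj (ModuleCat.of B B)) :=
      { toFun := fun x => x
        invFun := fun x => x
        map_add' := fun _ _ => rfl
        map_smul' := fun a b => Algebra.smul_def a b
        left_inv := fun _ => rfl
        right_inv := fun _ => rfl }
    exact Groth.Agent.Helper6.PerfTri.rep_of_iso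
      ((DerivedCategory.singleFunctor (ModuleCat.{u} A) 0).mapIso e.toModuleIso)
      ⟨E, ⟨a, b, h1, h2⟩, h3⟩
  obtain ⟨E, a, b, h1, h2, h3⟩ := hK
  obtain ⟨E', ⟨a', b', h1', h2'⟩, h3'⟩ :=
    Groth.Agent.Helper6.Perf.rep_PF_resD (algebraMap A B) HB ⟨E, ⟨a, b, h1, h2⟩, h3⟩
  exact ⟨E', a', b', h1', h2', h3'⟩

end Groth.Agent.S6956
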