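import Groth.Statements.S6960
import Groth.Agent.Lib.Helper6.Perf1

set_option autoImplicit false
universe u
open CategoryTheory CategoryTheory.Limits
attribute [local instance] HasDerivedCategory.standard
open DRing

namespace Groth.Agent.S6960

/-- Let R be a commutative ring, f_1, ..., f_r elements generating the unit ideal and K a cochain
complex of R-modules. If for every i the termwise localization K ⊗_R R_(f_i) is a perfect object of
D(R_(f_i)), then K is a perfect object of D(R). -/
theorem result {R : Type u} [CommRing R] {r : ℕ} (f : Fin r → R)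
    (hf : Ideal.span (Set.range f) = ⊤) (K : DRing.Cx R)
    (hK : ∀ i, DRing.IsPerfect (Localization.Away (f i))
      (DRing.toD (((ModuleCat.extendScalars (algebraMap R (Localization.Away (f i)))).mapHomologicalComplex
        (ComplexShape.up ℤ)).obj K))) :
    DRing.IsPerfect R (DRing.toD K) := by
  have h1 : ∀ i, Groth.Agent.Helper6.PerfTri.Rep Groth.Agent.Helper6.PerfTri.PF
      ((Groth.Agent.Helper6.PCm.mapD (Groth.Agent.Helper6.PCm.extF R
        (Localization.Away (f i)))).obj (DRing.toD K)) := by
    intro i
    obtain ⟨E, a, b, h1, h2, h3⟩ := hK i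
    exact Groth.Agent.Helper6.PerfTri.rep_of_iso
      (Groth.Agent.Helper6.PCm.mapDQIso
        (Groth.Agent.Helper6.PCm.extF R (Localization.Away (f i))) K).symm
      ⟨E, ⟨a, b, h1, h2⟩, h3⟩
  obtain ⟨E, ⟨a, b, h1, h2⟩, h3⟩ :=
    Groth.Agent.Helper6.Perf.rep_PF_of_extF_away f hf (DRing.toD K) h1
  exact ⟨E, a, b, h1, h2, h3⟩

end Groth.Agent.S6960
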