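import Groth.Statements.S6961
import Groth.Agent.Lib.Helper6.Perf1

set_option autoImplicit false
universe u
open CategoryTheory CategoryTheory.Limits
attribute [local instance] HasDerivedCategory.standard
open DRing

namespace Groth.Agent.S6961

/-- Let R → R' be a faithfully flat homomorphism of commutative rings and K a cochain complex of
R-modules. If the termwise base change K ⊗_R R' is a perfect object of D(R'), then K is a perfect
object of D(R). -/
theorem result {R R' : Type u} [CommRing R] [CommRing R'] [Algebra R R']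
    [Module.FaithfullyFlat R R'] (K : DRing.Cx R)
    (hK : DRing.IsPerfect R' (DRing.toD (((ModuleCat.extendScalars (algebraMap R R')).mapHomologicalComplex
        (ComplexShape.up ℤ)).obj K))) :
    DRing.IsPerfect R (DRing.toD K) := by
  have h1 : Groth.Agent.Helper6.PerfTri.Rep Groth.Agent.Helper6.PerfTri.PF
      ((Groth.Agent.Helper6.PCm.mapD (Groth.Agent.Helper6.PCm.extF R R')).obj (DRing.toD K)) := by
    obtain ⟨E, a, b, h1, h2, h3⟩ := hK
    exact Groth.Agent.Helper6.PerfTri.rep_of_iso
      (Groth.Agent.Helper6.PCm.mapDQIso (Groth.Agent.Helper6.PCm.extF R R') K).symm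
      ⟨E, ⟨a, b, h1, h2⟩, h3⟩
  obtain ⟨E, ⟨a, b, h1, h2⟩, h3⟩ := Groth.Agent.Helper6.Perf.rep_PF_of_extF (S := R') (DRing.toD K) h1
  exact ⟨E, a, b, h1, h2, h3⟩

end Groth.Agent.S6961
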