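import Groth.Statements.S6964
import Groth.Agent.H23.ProjAmp

set_option autoImplicit false
universe u
open CategoryTheory CategoryTheory.Limits
attribute [local instance] HasDerivedCategory.standard
open DRing

namespace Groth.Agent.S6964

/-- Let R be a commutative ring, K an object of D(R) and a, b integers. These four conditions are
equivalent: (1) the projective amplitude of K lies in [a, b], meaning K is isomorphic in D(R) to a
complex of projective R-modules vanishing outside [a, b]; (2) Hom(K, N[i]) = 0 in D(R) for every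
R-module N and every integer i outside [-b, -a]; (3) H^n(K) = 0 for all n > b and Hom(K, N[i]) = 0
for every R-module N and every i > -a; (4) H^n(K) = 0 for all n outside [a - 1, b] and Hom(K, N[-a +
1]) = 0 for every R-module N. -/
theorem result (R : Type u) [CommRing R] (K : Dual.D R) (a b : ℤ) :
    [∃ P : DRing.Cx R, DRing.VanishesOutside P a b ∧ (∀ i : ℤ, Module.Projective R (P.X i)) ∧
        Nonempty (DRing.toD P ≅ K),
      ∀ (N : Type u) [AddCommGroup N] [Module R N] (i : ℤ), (i < -b ∨ -a < i) →
        Subsingleton (DRing.ExtD R K (Dual.inD R N) i),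
      (∀ n : ℤ, b < n → Subsingleton (Dual.HD R K n)) ∧
        ∀ (N : Type u) [AddCommGroup N] [Module R N] (i : ℤ), -a < i → Subsingleton (DRing.ExtD R K (Dual.inD R N) i),
      (∀ n : ℤ, (n < a - 1 ∨ b < n) → Subsingleton (Dual.HD R K n)) ∧
        ∀ (N : Type u) [AddCommGroup N] [Module R N], Subsingleton (DRing.ExtD R K (Dual.inD R N) (-a + 1))].TFAE := by
  tfae_have 1 → 2 := by
    rintro ⟨P, hv, hproj, ⟨e⟩⟩ N _ _ i hi
    have hA : Groth.Agent.H23.PerfCone.Amp (Groth.Agent.H23.ProjAmp.Pj (ModuleCat.{u} R)) a b K :=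
      ⟨P, fun j => by haveI := hproj j; exact (inferInstance : Projective (P.X j)), hv, ⟨e⟩⟩
    have hW : Groth.Agent.H23.ProjAmp.W K (-i) :=
      Groth.Agent.H23.ProjAmp.W_of_amp hA (-i) (by omega)
    exact subsingleton_of_forall_eq 0
      (fun f => (Groth.Agent.H23.ProjAmp.W_iff_shift K i (-i) (by omega)).1 hW (ModuleCat.of R N) f)
  tfae_have 2 → 3 := by
    intro h2
    refine ⟨fun n hn => ?_, fun N _ _ i hi => h2 N i (Or.inr hi)⟩
    have hW : Groth.Agent.H23.ProjAmp.W K n :=
      (Groth.Agent.H23.ProjAmp.W_iff_shift K (-n) n (by omega)).2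
        (fun M f => (h2 M (-n) (Or.inl (by omega))).elim f 0)
    exact ModuleCat.subsingleton_of_isZero (Groth.Agent.H23.ProjAmp.isZero_homology_of_W K n hW)
  tfae_have 3 → 4 := by
    rintro ⟨h3a, h3b⟩
    refine ⟨fun n hn => ?_, fun N _ _ => h3b N (-a + 1) (by omega)⟩
    rcases hn with hn | hn
    · have hW : Groth.Agent.H23.ProjAmp.W K n :=
        (Groth.Agent.H23.ProjAmp.W_iff_shift K (-n) n (by omega)).2
          (fun M f => (h3b M (-n) (by omega)).elim f 0)
      exact ModuleCat.subsingleton_of_isZero (Groth.Agent.H23.ProjAmp.isZero_homology_of_W K n hW)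
    · exact h3a n hn
  tfae_have 4 → 1 := by
    rintro ⟨h4a, h4b⟩
    have hW : Groth.Agent.H23.ProjAmp.W K (a - 1) :=
      (Groth.Agent.H23.ProjAmp.W_iff_shift K (-a + 1) (a - 1) (by omega)).2
        (fun M f => (h4b M).elim f 0)
    obtain ⟨E, hP, hv, ⟨e⟩⟩ := Groth.Agent.H23.ProjAmp.amp_of_four K a b
      (fun n hn => by haveI := h4a n hn; exact ModuleCat.isZero_of_subsingleton _) hW
    exact ⟨E, hv, fun i => by haveI : Projective (E.X i) := hP i; infer_instance, ⟨e⟩⟩
  tfae_finish

end Groth.Agent.S6964
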