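import Groth.Statements.S6965
import Groth.Agent.H23.InjAmpBaer

set_option autoImplicit false
universe u
open CategoryTheory CategoryTheory.Limits
attribute [local instance] HasDerivedCategory.standard
open DRing

namespace Groth.Agent.S6965

/-- Let R be a commutative ring, K an object of D(R) and a, b integers. These three conditions are
equivalent: (1) the injective amplitude of K lies in [a, b], meaning K is isomorphic in D(R) to a
complex of injective R-modules vanishing outside [a, b]; (2) Hom(N[0], K[i]) = 0 in D(R) for every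
R-module N and every integer i outside [a, b]; (3) Hom((R/I)[0], K[i]) = 0 in D(R) for every ideal I
of R and every integer i outside [a, b]. -/
theorem result (R : Type u) [CommRing R] (K : Dual.D R) (a b : ℤ) :
    [DRing.HasInjAmplitudeIn R a b K,
      ∀ (N : Type u) [AddCommGroup N] [Module R N] (i : ℤ), (i < a ∨ b < i) →
        Subsingleton (DRing.ExtD R (Dual.inD R N) K i),
      ∀ (I : Ideal R) (i : ℤ), (i < a ∨ b < i) → Subsingleton (DRing.ExtD R (Dual.inD R (R ⧸ I)) K i)].TFAE := by
  tfae_have 1 → 2 := by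
    rintro ⟨E, hE0, hEinj, ⟨e⟩⟩ N _ _ i hi
    refine subsingleton_of_forall_eq 0 (fun φ => ?_)
    have hinj : ∀ j, Injective (E.X j) := fun j =>
      @Module.injective_object_of_injective_module R (E.X j) _ _ _ (hEinj j)
    by_cases hab : a ≤ b
    · exact (Groth.Agent.H23.InjAmp.amp_iff K a b hab).2 ⟨E, hinj, hE0, ⟨e⟩⟩
        (ModuleCat.of R N) i hi φ
    · have hE0' : ∀ j, (j < i + 1 ∨ i + 1 < j) → IsZero (E.X j) := fun j _ => hE0 j (by omega)
      exact (Groth.Agent.H23.InjAmp.amp_iff K (i + 1) (i + 1) le_rfl).2 ⟨E, hinj, hE0', ⟨e⟩⟩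
        (ModuleCat.of R N) i (Or.inl (by omega)) φ
  tfae_have 2 → 3 := fun h I i hi => h (R ⧸ I) i hi
  tfae_have 3 → 1 := by
    intro h3
    obtain ⟨I, hI, hI0, ⟨e⟩⟩ := Groth.Agent.H23.InjAmp.exists_injective_of_quotients K a b
      (fun J i hi φ => (h3 J i hi).elim φ 0)
    exact ⟨I, hI0, fun j => @Module.injective_module_of_injective_object R (I.X j) _ _ _ (hI j),
      ⟨e⟩⟩
  tfae_finish

end Groth.Agent.S6965
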