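import Groth.Statements.S6966
import Groth.Agent.Lib.Helper6.PerfTri

set_option autoImplicit false
universe u
open CategoryTheory CategoryTheory.Limits
attribute [local instance] HasDerivedCategory.standard
open CAlg

namespace Groth.Agent.S6966

/-- Let R be a commutative ring, I an ideal of R and M an R-module. Then the following two conditions
coincide: for each a ∈ I, the endomorphism of M given by multiplication by a can be written as a
composite M → P → M with P some projective R-module; and for every R-module N and every a ∈ I, a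
annihilates Ext^1_R(M, N) = Hom(M[0], N[1]) in D(R). -/
theorem result (R : Type u) [CommRing R] (I : Ideal R) (M : Type u)
    [AddCommGroup M] [Module R M] :
    (∀ a ∈ I, ∃ (P : Type u) (_ : AddCommGroup P) (_ : Module R P) (_ : Module.Projective R P)
        (f : M →ₗ[R] P) (g : P →ₗ[R] M), g ∘ₗ f = a • LinearMap.id) ↔
      ∀ (N : Type u) [AddCommGroup N] [Module R N], ∀ a ∈ I,
        ∀ x : DRing.ExtD R (Dual.inD R M) (Dual.inD R N) 1, a • x = 0 := by
  -- vanishing of `Hom(P[0], N[1])` for `P` projective
  have key_zero : ∀ (P N : ModuleCat.{u} R), Module.Projective R P →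
      ∀ y : (DerivedCategory.singleFunctor (ModuleCat.{u} R) 0).obj P ⟶
        ((DerivedCategory.singleFunctor (ModuleCat.{u} R) 0).obj N)⟦(1 : ℤ)⟧, y = 0 := by
    intro P N hP y
    have eP : DerivedCategory.Q.obj ((HomologicalComplex.single (ModuleCat.{u} R)
        (ComplexShape.up ℤ) 0).obj P) ≅
        (DerivedCategory.singleFunctor (ModuleCat.{u} R) 0).obj P :=
      ((DerivedCategory.singleFunctorIsoCompQ (ModuleCat.{u} R) 0).app P).symm
    have eN : ((DerivedCategory.singleFunctor (ModuleCat.{u} R) 0).obj N)⟦(1 : ℤ)⟧ ≅
        DerivedCategory.Q.obj ((HomologicalComplex.single (ModuleCat.{u} R)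
          (ComplexShape.up ℤ) (-1)).obj N) :=
      ((DerivedCategory.singleFunctors (ModuleCat.{u} R)).shiftIso 1 (-1) 0 (by omega)).app N ≪≫
        (DerivedCategory.singleFunctorIsoCompQ (ModuleCat.{u} R) (-1)).app N
    haveI : CochainComplex.IsKProjective ((HomologicalComplex.single (ModuleCat.{u} R)
        (ComplexShape.up ℤ) 0).obj P) := by
      refine Groth.Agent.Helper6.PerfTri.kproj_of_bdd _ 0 (fun i hi =>
        HomologicalComplex.isZero_single_obj_X (ComplexShape.up ℤ) 0 P i (by omega)) (fun i => ?_)
      by_cases hi : i = 0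
      · subst hi
        exact Module.Projective.of_equiv'
          (HomologicalComplex.singleObjXSelf (ComplexShape.up ℤ) 0 P).toLinearEquiv.symm
      · haveI : Subsingleton (((HomologicalComplex.single (ModuleCat.{u} R)
            (ComplexShape.up ℤ) 0).obj P).X i) := ModuleCat.subsingleton_of_isZero
          (HomologicalComplex.isZero_single_obj_X (ComplexShape.up ℤ) 0 P i hi)
        infer_instance
    obtain ⟨f, hf⟩ := Groth.Agent.Helper6.PerfTri.lift_of_kproj (eP.hom ≫ y ≫ eN.hom)
    have hf0 : f = 0 := by
      apply HomologicalComplex.hom_ext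
      intro i
      by_cases hi : i = 0
      · subst hi
        exact (HomologicalComplex.isZero_single_obj_X (ComplexShape.up ℤ) (-1) N 0
          (by omega)).eq_of_tgt _ _
      · exact (HomologicalComplex.isZero_single_obj_X (ComplexShape.up ℤ) 0 P i hi).eq_of_src _ _
    rw [hf0, CategoryTheory.Functor.map_zero] at hf
    have h1 : y ≫ eN.hom = 0 := by
      rw [← cancel_epi eP.hom, ← hf, comp_zero]
    rw [← cancel_mono eN.hom, h1, zero_comp]
  constructor
  · intro h N _ _ a ha x
    obtain ⟨P, _, _, hP, f, g, hgf⟩ := h a ha
    have e : ModuleCat.ofHom f ≫ ModuleCat.ofHom g = a • 𝟙 (ModuleCat.of R M) := by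
      rw [← ModuleCat.ofHom_comp, hgf]
      rfl
    have h1 : a • x = (DerivedCategory.singleFunctor (ModuleCat.{u} R) 0).map (ModuleCat.ofHom f) ≫
        ((DerivedCategory.singleFunctor (ModuleCat.{u} R) 0).map (ModuleCat.ofHom g) ≫ x) := by
      rw [← Category.assoc, ← CategoryTheory.Functor.map_comp, e,
        CategoryTheory.Functor.map_smul, CategoryTheory.Functor.map_id, Linear.smul_comp,
        Category.id_comp]
    have hz := key_zero (ModuleCat.of R P) (ModuleCat.of R N) hP
      ((DerivedCategory.singleFunctor (ModuleCat.{u} R) 0).map (ModuleCat.ofHom g) ≫ x)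
    rw [h1, hz, comp_zero]
  · intro h a ha
    have hp : Function.Surjective (Finsupp.linearCombination R (id : M → M)) :=
      Finsupp.linearCombination_id_surjective R M
    let S : ShortComplex (ModuleCat.{u} R) :=
      ShortComplex.mk (ModuleCat.ofHom
          (LinearMap.ker (Finsupp.linearCombination R (id : M → M))).subtype :
          ModuleCat.of R (LinearMap.ker (Finsupp.linearCombination R (id : M → M))) ⟶
            ModuleCat.of R (M →₀ R))
        (ModuleCat.ofHom (Finsupp.linearCombination R (id : M → M)) :
          ModuleCat.of R (M →₀ R) ⟶ ModuleCat.of R M) (by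
          ext x
          exact x.2)
    have hS : S.ShortExact :=
      { exact := (ShortComplex.ShortExact.moduleCat_exact_iff_function_exact S).2
          (LinearMap.exact_subtype_ker_map _)
        mono_f := (ModuleCat.mono_iff_injective _).2 (Submodule.injective_subtype _)
        epi_g := (ModuleCat.epi_iff_surjective _).2 hp }
    have hT := hS.singleTriangle_distinguished
    have h0 : a • hS.singleδ = 0 :=
      h (LinearMap.ker (Finsupp.linearCombination R (id : M → M))) a ha hS.singleδ
    have h1 : (a • 𝟙 hS.singleTriangle.obj₃) ≫ hS.singleTriangle.mor₃ = 0 := by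
      rw [Linear.smul_comp, Category.id_comp]
      exact h0
    obtain ⟨φ, hφ⟩ := Pretriangulated.Triangle.coyoneda_exact₃ _ hT _ h1
    obtain ⟨f', rfl⟩ := (DerivedCategory.singleFunctor (ModuleCat.{u} R) 0).map_surjective φ
    have h2 : (DerivedCategory.singleFunctor (ModuleCat.{u} R) 0).map (a • 𝟙 S.X₃) =
        (DerivedCategory.singleFunctor (ModuleCat.{u} R) 0).map (f' ≫ S.g) := by
      rw [CategoryTheory.Functor.map_smul, CategoryTheory.Functor.map_id,
        CategoryTheory.Functor.map_comp]
      exact hφ
    have h3 : a • 𝟙 S.X₃ = f' ≫ S.g :=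
      (DerivedCategory.singleFunctor (ModuleCat.{u} R) 0).map_injective h2
    refine ⟨(M →₀ R), inferInstance, inferInstance, inferInstance, f'.hom,
      Finsupp.linearCombination R (id : M → M), ?_⟩
    have h4 := congrArg ModuleCat.Hom.hom h3
    exact h4.symm

end Groth.Agent.S6966
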