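import Groth.Statements.S6969
import Mathlib.RingTheory.Finiteness.Basic
import Mathlib.LinearAlgebra.FreeModule.Basic
import Mathlib.RingTheory.Finiteness.Finsupp

set_option autoImplicit false
universe u
open CAlg

namespace Groth.Agent.S6969

/-- Let R be a commutative ring and φ : M → N an R-linear map which factors through a projective
R-module. If M is finitely generated, then φ factors through a finitely generated projective
R-module. -/
theorem result (R : Type u) [CommRing R] {M N : Type u} [AddCommGroup M]
    [Module R M] [Module.Finite R M] [AddCommGroup N] [Module R N] (φ : M →ₗ[R] N)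
    (h : ∃ (P : Type u) (_ : AddCommGroup P) (_ : Module R P) (_ : Module.Projective R P) (f : M →ₗ[R] P)
      (g : P →ₗ[R] N), g ∘ₗ f = φ) :
    ∃ (P : Type u) (_ : AddCommGroup P) (_ : Module R P) (_ : Module.Projective R P) (_ : Module.Finite R P)
      (f : M →ₗ[R] P) (g : P →ₗ[R] N), g ∘ₗ f = φ := by
  classical
  obtain ⟨P, _, _, hP, f, g, hfg⟩ := h
  obtain ⟨s, hs⟩ := (Module.projective_def' (R := R) (P := P)).mp hP
  obtain ⟨T, hT⟩ := (Module.Finite.fg_top : (⊤ : Submodule R M).FG)
  let S : Finset P := T.biUnion (fun m => (s (f m)).support)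
  have hmem : ∀ m : M, s (f m) ∈ Finsupp.supported R R (S : Set P) := by
    intro m
    have hle : (⊤ : Submodule R M) ≤ (Finsupp.supported R R (S : Set P)).comap (s ∘ₗ f) := by
      rw [← hT, Submodule.span_le]
      intro m hm
      simp only [Submodule.comap_coe, Set.mem_preimage, LinearMap.comp_apply, SetLike.mem_coe,
        Finsupp.mem_supported]
      intro p hp
      simp only [S, Finset.coe_biUnion, Set.mem_iUnion]
      exact ⟨m, hm, hp⟩
    exact hle (Submodule.mem_top : m ∈ ⊤)
  let P' := ↥(Finsupp.supported R R (S : Set P))
  let e : P' ≃ₗ[R] ((S : Set P) →₀ R) := Finsupp.supportedEquivFinsupp (S : Set P)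
  have : Module.Free R P' := Module.Free.of_equiv e.symm
  have : Module.Finite R P' := Module.Finite.equiv e.symm
  refine ⟨P', inferInstance, inferInstance, inferInstance, inferInstance,
    (s ∘ₗ f).codRestrict _ hmem,
    g ∘ₗ (Finsupp.linearCombination R id) ∘ₗ (Finsupp.supported R R (S : Set P)).subtype, ?_⟩
  ext m
  have h1 : Finsupp.linearCombination R id (s (f m)) = f m := by
    have := congrArg (fun t => t (f m)) hs
    simpa using this
  have h2 : g (f m) = φ m := by
    have := congrArg (fun t => t m) hfg
    simpa using this
  change g ((Finsupp.linearCombination R id) (s (f m))) = φ m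
  rw [h1, h2]

end Groth.Agent.S6969
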