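import Groth.Statements.S6976
import Groth.Agent.Lib.Helper6.Flat2

set_option autoImplicit false
universe u
open CategoryTheory CategoryTheory.Limits
attribute [local instance] HasDerivedCategory.standard
open DRing

namespace Groth.Agent.S6976

/-- Let R be a commutative ring, K a pseudo-coherent object of D(R) and a, b integers. Then K is
isomorphic in D(R) to a complex of projective R-modules vanishing outside [a, b] if and only if K is
perfect with tor amplitude in [a, b]. -/
theorem result (R : Type u) [CommRing R]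
    (K : Dual.D R) (hK : DRing.IsPseudoCoherent' R K) (a b : ℤ) :
    (∃ P : DRing.Cx R, DRing.VanishesOutside P a b ∧ (∀ i : ℤ, Module.Projective R (P.X i)) ∧
        Nonempty (DRing.toD P ≅ K)) ↔ DRing.IsPerfect R K ∧ DRing.HasTorAmplitudeIn R a b K := by
  have hpc := (Groth.Agent.Helper6.PCm.forall_isPC_iff_rep K).2 hK
  constructor
  · rintro ⟨P, hP0, hPp, ⟨eP⟩⟩
    obtain ⟨E, ⟨a', b', h1, h2⟩, h3⟩ :=
      Groth.Agent.Helper6.FlatAmp.rep_PF_of_isPC_of_proj_rep K hpc P a b hP0 hPp eP
    refine ⟨⟨E, a', b', h1, h2, h3⟩, P, hP0, fun i => ?_, ⟨eP⟩⟩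
    haveI := hPp i
    exact Module.Flat.of_projective
  · rintro ⟨-, E, hE0, hEf, ⟨eE⟩⟩
    obtain ⟨T, hT0, hTf, hT⟩ :=
      Groth.Agent.Helper6.FlatAmp.exists_finProj_rep_of_isPC_of_flat_rep K hpc E a b hE0 hEf eE
    exact ⟨T, hT0, fun i => (hTf i).2, hT⟩

end Groth.Agent.S6976
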