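import Groth.Statements.S6989
import Groth.Agent.Lib.Helper6.HomSingle
import Groth.Agent.Lib.Helper6.PCm9

set_option autoImplicit false
universe u
open CategoryTheory CategoryTheory.Limits
attribute [local instance] HasDerivedCategory.standard
open DRing

namespace Groth.Agent.S6989

/-- Let A be a Noetherian commutative ring, K an object of D(A) whose cohomology vanishes in large
degrees and whose cohomology modules are all finitely generated, m a maximal ideal of A and i an
integer such that m H^i(K) ≠ H^i(K). Then some finitely generated A-module E killed by a power of m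
receives a morphism K → E[-i] in D(A) whose induced map H^i(K) → H^i(E[-i]) is nonzero. -/
theorem result (A : Type u) [CommRing A]
    [IsNoetherianRing A] (K : Dual.D A) (hb : ∃ b : ℤ, ∀ j : ℤ, b < j → Subsingleton (Dual.HD A K j))
    (hfin : ∀ j : ℤ, Module.Finite A (Dual.HD A K j)) (m : Ideal A) [m.IsMaximal] (i : ℤ)
    (hi : m • (⊤ : Submodule A (Dual.HD A K i)) ≠ ⊤) :
    ∃ (E : Type u) (_ : AddCommGroup E) (_ : Module A E) (_ : Module.Finite A E) (n : ℕ)
      (_ : m ^ n • (⊤ : Submodule A E) = ⊥) (f : K ⟶ (shiftFunctor (Dual.D A) (-i)).obj (Dual.inD A E)),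
      (DerivedCategory.homologyFunctor (ModuleCat.{u} A) i).map f ≠ 0 := by
  obtain ⟨b, hb⟩ := hb
  have hpc : ∀ m' : ℤ, Groth.Agent.Helper6.PCm.IsPC m' K := fun m' =>
    (Groth.Agent.Helper6.PCm.isPC_iff_of_isNoetherianRing m' K).2 ⟨⟨b, hb⟩, fun j _ => hfin j⟩
  obtain ⟨E, bE, _, hE, ⟨eK⟩⟩ := Groth.Agent.Helper6.PCm.exists_rep_of_forall_isPC K hpc
  haveI := (hE i).1
  haveI : Module.Finite A (E.opcycles i) := Module.Finite.of_surjective (E.pOpcycles i).hom
    ((ModuleCat.epi_iff_surjective _).1 inferInstance)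
  have φ : E.homology i ≅ (DerivedCategory.homologyFunctor (ModuleCat.{u} A) i).obj K :=
    ((DerivedCategory.homologyFunctorFactors (ModuleCat.{u} A) i).app E).symm ≪≫
      (DerivedCategory.homologyFunctor (ModuleCat.{u} A) i).mapIso eK
  have hsurj : Function.Surjective φ.hom.hom := (ModuleCat.epi_iff_surjective _).1 inferInstance
  have hH : m • (⊤ : Submodule A (E.homology i)) ≠ ⊤ := by
    intro h
    apply hi
    have := congrArg (Submodule.map φ.hom.hom) h
    rw [Submodule.map_smul'', Submodule.map_top, LinearMap.range_eq_top.2 hsurj] at this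
    exact this
  obtain ⟨n, hn⟩ := Groth.Agent.Helper6.HomSingle.exists_quot_nonzero m (E.homologyι i).hom
    ((ModuleCat.mono_iff_injective _).1 inferInstance) hH
  obtain ⟨q, hq⟩ : ∃ q : E.opcycles i ⟶
      ModuleCat.of A (E.opcycles i ⧸ (m ^ n • ⊤ : Submodule A (E.opcycles i))),
      q.hom = Submodule.mkQ (m ^ n • (⊤ : Submodule A (E.opcycles i))) :=
    ⟨ModuleCat.ofHom (Submodule.mkQ _), rfl⟩
  obtain ⟨f, β, α, hf⟩ := Groth.Agent.Helper6.HomSingle.exists_hom_to_shift_single E i
    (ModuleCat.of A (E.opcycles i ⧸ (m ^ n • ⊤ : Submodule A (E.opcycles i)))) q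
  refine ⟨(E.opcycles i ⧸ (m ^ n • ⊤ : Submodule A (E.opcycles i))), inferInstance, inferInstance,
    inferInstance, n, ?_, eK.inv ≫ f, ?_⟩
  · rw [← Submodule.range_mkQ (m ^ n • (⊤ : Submodule A (E.opcycles i))),
      LinearMap.range_eq_map, ← Submodule.map_smul'', Submodule.mkQ_map_self]
  · intro h0
    rw [CategoryTheory.Functor.map_comp] at h0
    have h1 : (DerivedCategory.homologyFunctor (ModuleCat.{u} A) i).map f = 0 := by
      rw [← cancel_epi ((DerivedCategory.homologyFunctor (ModuleCat.{u} A) i).map eK.inv), h0,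
        comp_zero]
    have h2 : α.hom ≫ E.homologyι i ≫ q = 0 := by
      rw [← hf, h1, zero_comp]
    have h3 : E.homologyι i ≫ q = 0 := by
      rw [← cancel_epi α.hom, h2, comp_zero]
    apply hn
    have := congrArg ModuleCat.Hom.hom h3
    rw [ModuleCat.hom_comp, hq, ModuleCat.hom_zero] at this
    exact this

end Groth.Agent.S6989
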