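import Groth.Statements.S6990
import Groth.Agent.Lib.Helper6.ProjAmp

set_option autoImplicit false
universe u
open CategoryTheory CategoryTheory.Limits
attribute [local instance] HasDerivedCategory.standard
open DRing

namespace Groth.Agent.S6990

open CategoryTheory.Pretriangulated in
/-- Let R be a commutative ring, a, b integers, L an object of D(R) isomorphic to a complex of
projective R-modules vanishing outside [a, b], and K an object of D(R). (1) If H^i(K) = 0 for all i
≥ a, then every morphism L → K in D(R) is zero. (2) If H^i(K) = 0 for all i ≥ a + 1, then for every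
distinguished triangle K → M → L → K[1] there is an isomorphism M ≅ K ⊕ L carrying K → M to the
first inclusion and whose composite with the second projection is M → L. -/
theorem result (R : Type u) [CommRing R] (a b : ℤ)
    (L : Dual.D R) (hL : ∃ P : DRing.Cx R, DRing.VanishesOutside P a b ∧ (∀ i : ℤ, Module.Projective R (P.X i)) ∧
      Nonempty (DRing.toD P ≅ L)) (K : Dual.D R) :
    ((∀ i : ℤ, a ≤ i → Subsingleton (Dual.HD R K i)) → Subsingleton (L ⟶ K)) ∧
      ((∀ i : ℤ, a + 1 ≤ i → Subsingleton (Dual.HD R K i)) → ∀ (T : Triangle (Dual.D R)), T ∈ distinguishedTriangles →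
        T.obj₁ = K → T.obj₃ = L → ∀ [HasBinaryBiproduct T.obj₁ T.obj₃],
          ∃ e : T.obj₂ ≅ T.obj₁ ⊞ T.obj₃, T.mor₁ ≫ e.hom = biprod.inl ∧ e.hom ≫ biprod.snd = T.mor₂) := by
  obtain ⟨P, hPv, hPp, ⟨e⟩⟩ := hL
  have hge : P.IsStrictlyGE a := by
    rw [CochainComplex.isStrictlyGE_iff]
    intro i hi
    exact hPv i (Or.inl hi)
  have hle : P.IsStrictlyLE b := by
    rw [CochainComplex.isStrictlyLE_iff]
    intro i hi
    exact hPv i (Or.inr hi)
  have hproj : ∀ i, Projective (P.X i) := fun i => by
    have := hPp i
    infer_instance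
  constructor
  · intro hK
    have : DerivedCategory.IsLE K (a - 1) := by
      rw [DerivedCategory.isLE_iff]
      intro i hi
      have := hK i (by lia)
      exact ModuleCat.isZero_of_subsingleton _
    refine ⟨fun f g => ?_⟩
    have hf := Groth.Agent.Helper6.ProjAmp.hom_eq_zero P a b K (e.hom ≫ f)
    have hg := Groth.Agent.Helper6.ProjAmp.hom_eq_zero P a b K (e.hom ≫ g)
    rw [← cancel_epi e.hom, hf, hg]
  · intro hK T hT h1 h3
    subst h1 h3
    intro _
    have : DerivedCategory.IsLE T.obj₁ a := by
      rw [DerivedCategory.isLE_iff]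
      intro i hi
      have := hK i (by lia)
      exact ModuleCat.isZero_of_subsingleton _
    exact Groth.Agent.Helper6.ProjAmp.split P a b T hT e

end Groth.Agent.S6990
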