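import Groth.Statements.S6991
import Mathlib
import Groth.Agent.Lib.Helper24.FPRel

set_option autoImplicit false
universe u
open CAlg

namespace Groth.Agent.S6991

/-- Let R → A be a finite type homomorphism of commutative rings, M an A-module, and α : R[x_1, ...,
x_n] → A, β : R[y_1, ..., y_k] → A surjective R-algebra homomorphisms. Then M is finitely presented
as an R[x_1, ..., x_n]-module through α if and only if M is finitely presented as an R[y_1, ...,
y_k]-module through β. If this holds, M is a finitely presented A-module. -/
theorem result {R A : Type u} [CommRing R] [CommRing A] [Algebra R A]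
    [Algebra.FiniteType R A] (M : Type u) [AddCommGroup M] [Module A M] {n k : ℕ}
    (α : MvPolynomial (Fin n) R →ₐ[R] A) (hα : Function.Surjective α)
    (β : MvPolynomial (Fin k) R →ₐ[R] A) (hβ : Function.Surjective β) :
    (@Module.FinitePresentation (MvPolynomial (Fin n) R) M _ _ (Module.compHom M α.toRingHom) ↔
      @Module.FinitePresentation (MvPolynomial (Fin k) R) M _ _ (Module.compHom M β.toRingHom)) ∧
      (@Module.FinitePresentation (MvPolynomial (Fin n) R) M _ _ (Module.compHom M α.toRingHom) →
        Module.FinitePresentation A M) := by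
  letI i1 : Module (MvPolynomial (Fin n) R) M := Module.compHom M α.toRingHom
  letI i2 : Module (MvPolynomial (Fin k) R) M := Module.compHom M β.toRingHom
  refine ⟨⟨fun h => ?_, fun h => ?_⟩, fun h => ?_⟩
  · haveI := h
    exact Groth.Agent.Helper24.FPRel.fp_two_pres M α hα β hβ (fun _ _ => rfl) (fun _ _ => rfl)
  · haveI := h
    exact Groth.Agent.Helper24.FPRel.fp_two_pres M β hβ α hα (fun _ _ => rfl) (fun _ _ => rfl)
  · haveI := h
    exact Groth.Agent.Helper24.FPRel.fp_of_surj M α.toRingHom hα (fun _ _ => rfl)

end Groth.Agent.S6991
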