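import Groth.Statements.S6992
import Mathlib
import Groth.Agent.Lib.Helper24.FPRel

set_option autoImplicit false
universe u
open CAlg

namespace Groth.Agent.S6992

open MvPolynomial Groth.Agent.Helper24 in
theorem aux {R A B : Type u} [CommRing R] [CommRing A] [CommRing B]
    [Algebra R A] [Algebra A B] [Algebra R B] [IsScalarTower R A B] [Algebra.FiniteType R A]
    [Algebra.FiniteType R B] [Module.Finite A B] (M : Type u) [AddCommGroup M] [Module B M] [Module A M]
    [IsScalarTower A B M] {n k : ℕ} (α : MvPolynomial (Fin n) R →ₐ[R] A) (hα : Function.Surjective α)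
    (β : MvPolynomial (Fin k) R →ₐ[R] B) (hβ : Function.Surjective β) :
    @Module.FinitePresentation (MvPolynomial (Fin n) R) M _ _ (Module.compHom M α.toRingHom) ↔
      @Module.FinitePresentation (MvPolynomial (Fin k) R) M _ _ (Module.compHom M β.toRingHom) := by
  letI i1 : Module (MvPolynomial (Fin n) R) M := Module.compHom M α.toRingHom
  letI i2 : Module (MvPolynomial (Fin k) R) M := Module.compHom M β.toRingHom
  let αB : MvPolynomial (Fin n) R →ₐ[R] B := (IsScalarTower.toAlgHom R A B).comp α
  have hαB : ∀ (p : MvPolynomial (Fin n) R) (m : M), p • m = αB p • m :=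
    fun p m => (algebraMap_smul B (α p) m).symm
  constructor
  · intro h
    haveI := h
    let γ : MvPolynomial (Fin n ⊕ Fin k) R →ₐ[R] B :=
      MvPolynomial.aeval (Sum.elim (fun i => αB (X i)) (fun j => β (X j)))
    have hγ : Function.Surjective γ := fun b => by
      obtain ⟨q, rfl⟩ := hβ b
      refine ⟨rename Sum.inr q, ?_⟩
      simp only [γ]
      rw [aeval_rename]
      exact DFunLike.congr_fun (aeval_unique β).symm q
    have hγinl : ∀ p : MvPolynomial (Fin n) R, γ (rename Sum.inl p) = αB p := by
      intro p
      simp only [γ]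
      rw [aeval_rename]
      exact DFunLike.congr_fun (aeval_unique αB).symm p
    letI iP' : Module (MvPolynomial (Fin n ⊕ Fin k) R) M := Module.compHom M γ.toRingHom
    letI aPP' : Algebra (MvPolynomial (Fin n) R) (MvPolynomial (Fin n ⊕ Fin k) R) :=
      (MvPolynomial.rename Sum.inl :
        MvPolynomial (Fin n) R →ₐ[R] MvPolynomial (Fin n ⊕ Fin k) R).toRingHom.toAlgebra
    haveI : IsScalarTower R (MvPolynomial (Fin n) R) (MvPolynomial (Fin n ⊕ Fin k) R) :=
      IsScalarTower.of_algebraMap_eq fun r => by
        show algebraMap R (MvPolynomial (Fin n ⊕ Fin k) R) r = rename Sum.inl (algebraMap R _ r)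
        simp [MvPolynomial.algebraMap_eq]
    haveI : Algebra.FiniteType (MvPolynomial (Fin n) R) (MvPolynomial (Fin n ⊕ Fin k) R) :=
      Algebra.FiniteType.of_restrictScalars_finiteType R _ _
    haveI : IsScalarTower (MvPolynomial (Fin n) R) (MvPolynomial (Fin n ⊕ Fin k) R) M :=
      IsScalarTower.of_algebraMap_smul fun p m => by
        show γ (rename Sum.inl p) • m = p • m
        rw [hαB, hγinl]
    haveI : Module.FinitePresentation (MvPolynomial (Fin n ⊕ Fin k) R) M :=
      FPRel.fp_of_finiteType (MvPolynomial (Fin n) R) (MvPolynomial (Fin n ⊕ Fin k) R) M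
    exact FPRel.fp_two_pres M γ hγ β hβ (fun _ _ => rfl) (fun _ _ => rfl)
  · intro h
    haveI := h
    letI aPA : Algebra (MvPolynomial (Fin n) R) A := α.toRingHom.toAlgebra
    letI aPB : Algebra (MvPolynomial (Fin n) R) B := αB.toRingHom.toAlgebra
    haveI : IsScalarTower (MvPolynomial (Fin n) R) A B := IsScalarTower.of_algebraMap_eq fun p => rfl
    haveI : Module.Finite (MvPolynomial (Fin n) R) A :=
      Module.Finite.of_surjective (Algebra.linearMap (MvPolynomial (Fin n) R) A) hα
    haveI : Module.Finite (MvPolynomial (Fin n) R) B := Module.Finite.trans A B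
    obtain ⟨S', _, _, _, _, _, f, hf⟩ :=
      Module.Finite.exists_free_surjective (MvPolynomial (Fin n) R) B
    letI aRS' : Algebra R S' :=
      ((algebraMap (MvPolynomial (Fin n) R) S').comp (algebraMap R (MvPolynomial (Fin n) R))).toAlgebra
    haveI : IsScalarTower R (MvPolynomial (Fin n) R) S' := IsScalarTower.of_algebraMap_eq fun r => rfl
    haveI : IsScalarTower R (MvPolynomial (Fin n) R) B := IsScalarTower.of_algebraMap_eq fun r => by
      show algebraMap R B r = αB (algebraMap R (MvPolynomial (Fin n) R) r)
      rw [AlgHom.commutes]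
    haveI : Algebra.FinitePresentation R S' :=
      Algebra.FinitePresentation.trans R (MvPolynomial (Fin n) R) S'
    obtain ⟨l, θ, hθ⟩ := Algebra.FiniteType.iff_quotient_mvPolynomial''.1
      (inferInstance : Algebra.FiniteType R S')
    let fR : S' →ₐ[R] B := f.restrictScalars R
    let δ : MvPolynomial (Fin l) R →ₐ[R] B := fR.comp θ
    have hδ : Function.Surjective δ := hf.comp hθ
    letI iW : Module (MvPolynomial (Fin l) R) M := Module.compHom M δ.toRingHom
    haveI : Module.FinitePresentation (MvPolynomial (Fin l) R) M :=
      FPRel.fp_two_pres M β hβ δ hδ (fun _ _ => rfl) (fun _ _ => rfl)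
    letI iS' : Module S' M := Module.compHom M f.toRingHom
    haveI : Module.FinitePresentation S' M :=
      FPRel.fp_of_surj M θ.toRingHom hθ (fun _ _ => rfl)
    haveI : IsScalarTower (MvPolynomial (Fin n) R) S' M :=
      IsScalarTower.of_algebraMap_smul fun p m => by
        show f (algebraMap (MvPolynomial (Fin n) R) S' p) • m = p • m
        rw [f.commutes, hαB]; rfl
    haveI : Module.FinitePresentation (MvPolynomial (Fin n) R) S' :=
      Module.finitePresentation_of_projective (MvPolynomial (Fin n) R) S'
    exact Module.FinitePresentation.trans (MvPolynomial (Fin n) R) M S'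


/-- Let R be a commutative ring, A → B a finite homomorphism of finite type R-algebras, M a B-module,
and α : R[x_1, ..., x_n] → A, β : R[y_1, ..., y_k] → B surjective R-algebra homomorphisms. Then M is
finitely presented as an R[x_1, ..., x_n]-module through α and A → B (M is finitely presented
relative to R as an A-module) if and only if M is finitely presented as an R[y_1, ..., y_k]-module
through β (M is finitely presented relative to R as a B-module). -/
theorem result {R A B : Type u} [CommRing R] [CommRing A] [CommRing B]
    [Algebra R A] [Algebra A B] [Algebra R B] [IsScalarTower R A B] [Algebra.FiniteType R A]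
    [Algebra.FiniteType R B] [Module.Finite A B] (M : Type u) [AddCommGroup M] [Module B M] [Module A M]
    [IsScalarTower A B M] {n k : ℕ} (α : MvPolynomial (Fin n) R →ₐ[R] A) (hα : Function.Surjective α)
    (β : MvPolynomial (Fin k) R →ₐ[R] B) (hβ : Function.Surjective β) :
    @Module.FinitePresentation (MvPolynomial (Fin n) R) M _ _ (Module.compHom M α.toRingHom) ↔
      @Module.FinitePresentation (MvPolynomial (Fin k) R) M _ _ (Module.compHom M β.toRingHom) := by
  exact aux M α hα β hβ

end Groth.Agent.S6992
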