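import Groth.Statements.S7000
import Groth.Agent.Lib.Helper6.PCm15

set_option autoImplicit false
universe u
open CategoryTheory CategoryTheory.Limits
attribute [local instance] HasDerivedCategory.standard
open DRing

namespace Groth.Agent.S7000

/-- Let A → B be a flat homomorphism of commutative rings, m an integer and M an A-module. If M is
m-pseudo-coherent then the B-module B ⊗_A M is m-pseudo-coherent; if M is pseudo-coherent then B ⊗_A
M is pseudo-coherent. -/
theorem result {A B : Type u} [CommRing A] [CommRing B] [Algebra A B]
    [Module.Flat A B] (m : ℤ) (M : Type u) [AddCommGroup M] [Module A M] :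
    (DRing.IsPseudoCoherentModule A m M → DRing.IsPseudoCoherentModule B m (TensorProduct A B M)) ∧
      (DRing.IsPseudoCoherentModule' A M → DRing.IsPseudoCoherentModule' B (TensorProduct A B M)) := by
  have key : ∀ k : ℤ, Groth.Agent.Helper6.PCm.IsPC k (Dual.inD A M) →
      Groth.Agent.Helper6.PCm.IsPC k (Dual.inD B (TensorProduct A B M)) :=
    fun k h => Groth.Agent.Helper6.PCm.isPC_of_iso
      (Groth.Agent.Helper6.PCm.extSingleIso (S := B) M)
      (Groth.Agent.Helper6.PCm.isPC_extF (S := B) h)
  refine ⟨key m, fun h => ?_⟩
  exact (Groth.Agent.Helper6.PCm.forall_isPC_iff_rep _).1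
    (fun k => key k ((Groth.Agent.Helper6.PCm.forall_isPC_iff_rep _).2 h k))

end Groth.Agent.S7000
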