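import Groth.Statements.S7010
import Groth.Agent.Lib.Helper6.BddCx

set_option autoImplicit false
universe u
open CategoryTheory CategoryTheory.Limits
attribute [local instance] HasDerivedCategory.standard
open DRing

namespace Groth.Agent.S7010

open CategoryTheory.Pretriangulated in
/-- The inclusion of the perfect objects in the subcategory generated by R: let R be a commutative ring
and P a property of objects of D(R) which is closed under isomorphisms, holds for R[0], is stable
under all shifts, is closed under extensions (if it holds for the outer terms of a distinguished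
triangle it holds for the middle term) and is closed under taking direct summands. Then P holds for
every perfect object of D(R). -/
theorem result (R : Type u) [CommRing R]
    (P : ObjectProperty (Dual.D R)) [P.IsClosedUnderIsomorphisms] (hR : P (Dual.inD R R))
    (hshift : ∀ (K : Dual.D R) (n : ℤ), P K → P ((shiftFunctor (Dual.D R) n).obj K))
    (hext : ∀ T : Triangle (Dual.D R), T ∈ distinguishedTriangles → P T.obj₁ → P T.obj₃ → P T.obj₂)
    (hsum : ∀ (X Y : Dual.D R) [HasBinaryBiproduct X Y], P (X ⊞ Y) → P X)
    (K : Dual.D R) (hK : DRing.IsPerfect R K) : P K := by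
  have hiso : ∀ {K L : Dual.D R}, (K ≅ L) → P K → P L := fun e h => P.prop_of_iso e h
  have hbiprod : ∀ (X Y : Dual.D R), P X → P Y → P (X ⊞ Y) := by
    intro X Y hX hY
    exact hext _ (Pretriangulated.binaryBiproductTriangle_distinguished X Y) hX hY
  haveI : Limits.PreservesBinaryBiproducts (DerivedCategory.singleFunctor (ModuleCat.{u} R) 0) :=
    Limits.preservesBinaryBiproducts_of_preservesBiproducts _
  have hprodS : ∀ (M N : ModuleCat.{u} R),
      P ((DerivedCategory.singleFunctor (ModuleCat.{u} R) 0).obj M) →
      P ((DerivedCategory.singleFunctor (ModuleCat.{u} R) 0).obj N) →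
      P ((DerivedCategory.singleFunctor (ModuleCat.{u} R) 0).obj (M ⊞ N)) := by
    intro M N hM hN
    exact hiso ((DerivedCategory.singleFunctor (ModuleCat.{u} R) 0).mapBiprod M N).symm
      (hbiprod _ _ hM hN)
  have hsumS : ∀ (M N : ModuleCat.{u} R),
      P ((DerivedCategory.singleFunctor (ModuleCat.{u} R) 0).obj (M ⊞ N)) →
      P ((DerivedCategory.singleFunctor (ModuleCat.{u} R) 0).obj M) := by
    intro M N h
    exact hsum _ _ (hiso ((DerivedCategory.singleFunctor (ModuleCat.{u} R) 0).mapBiprod M N) h)
  have hzeroS : ∀ (Z : ModuleCat.{u} R), Limits.IsZero Z →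
      P ((DerivedCategory.singleFunctor (ModuleCat.{u} R) 0).obj Z) := by
    intro Z hZ
    have h1 : P ((DerivedCategory.singleFunctor (ModuleCat.{u} R) 0).obj
        (Z ⊞ ModuleCat.of R R)) :=
      hiso ((DerivedCategory.singleFunctor (ModuleCat.{u} R) 0).mapIso
        (Limits.isoZeroBiprod hZ)) hR
    exact hsumS _ _ h1
  have hfree : ∀ n : ℕ, P ((DerivedCategory.singleFunctor (ModuleCat.{u} R) 0).obj
      (ModuleCat.of R (Fin n → R))) := by
    intro n
    induction n with
    | zero => exact hzeroS _ (ModuleCat.isZero_of_subsingleton _)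
    | succ n ih =>
      have e : ModuleCat.of R R ⊞ ModuleCat.of R (Fin n → R) ≅
          ModuleCat.of R (Fin (n + 1) → R) :=
        ModuleCat.biprodIsoProd _ _ ≪≫
          (Fin.consLinearEquiv R (fun _ : Fin (n + 1) => R)).toModuleIso
      exact hiso ((DerivedCategory.singleFunctor (ModuleCat.{u} R) 0).mapIso e)
        (hprodS _ _ hR ih)
  have hproj : ∀ M : ModuleCat.{u} R, Module.Finite R M → Module.Projective R M →
      P ((DerivedCategory.singleFunctor (ModuleCat.{u} R) 0).obj M) := by
    intro M hfin hpr
    obtain ⟨n, f, g, -, -, hfg⟩ := Module.Finite.exists_comp_eq_id_of_projective R M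
    obtain ⟨g', f', hgf⟩ : ∃ (g' : M ⟶ ModuleCat.of R (Fin n → R))
        (f' : ModuleCat.of R (Fin n → R) ⟶ M), g' ≫ f' = 𝟙 M := by
      refine ⟨ModuleCat.ofHom g, ModuleCat.ofHom f, ?_⟩
      ext x
      exact LinearMap.congr_fun hfg x
    haveI : IsSplitMono g' := ⟨⟨⟨f', hgf⟩⟩⟩
    have hb := Limits.isBilimitBinaryBiconeOfIsSplitMonoOfCokernel (Limits.cokernelIsCokernel g')
    have e : ModuleCat.of R (Fin n → R) ≅ M ⊞ Limits.cokernel g' :=
      Limits.biprod.uniqueUpToIso _ _ hb
    exact hsumS _ _ (hiso ((DerivedCategory.singleFunctor (ModuleCat.{u} R) 0).mapIso e)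
      (hfree n))
  obtain ⟨E, a, b, hab, hE, ⟨e⟩⟩ := hK
  refine hiso e ?_
  exact Groth.Agent.Helper6.BddCx.prop_of_bounded_complex' (fun K => P K) hiso hshift hext E a b
    hab (fun i => hproj _ (hE i).1 (hE i).2)

end Groth.Agent.S7010
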