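import Groth.Statements.S7015
import Mathlib

set_option autoImplicit false
universe u
open CategoryTheory MonoidalCategory
open DRing

namespace Groth.Agent.S7015

open TensorProduct in
/-- a module with a finite "dual basis" is finite projective -/
theorem finite_projective_of_dualBasis (R : Type u) [CommRing R] (M : Type u) [AddCommGroup M]
    [Module R M] {ι : Type u} [Fintype ι] (v : ι → M) (c : ι → M →ₗ[R] R)
    (h : ∀ m, ∑ i, c i m • v i = m) : Module.Finite R M ∧ Module.Projective R M := by
  have hcomp : (Fintype.linearCombination R v) ∘ₗ (LinearMap.pi c) = LinearMap.id := by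
    ext m
    rw [LinearMap.comp_apply, Fintype.linearCombination_apply, LinearMap.id_apply]
    exact h m
  have hsurj : Function.Surjective (Fintype.linearCombination R v) := fun m =>
    ⟨LinearMap.pi c m, LinearMap.congr_fun hcomp m⟩
  exact ⟨Module.Finite.of_surjective _ hsurj, Module.Projective.of_split _ _ hcomp⟩

open TensorProduct in
/-- Let R be a commutative ring and M, N R-modules such that N is a left dual of M for the tensor
product of R-modules, i.e. there are a coevaluation R → M ⊗ N and an evaluation N ⊗ M → R satisfying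
the triangle identities (an exact pairing). Then M and N are finitely generated projective
R-modules. -/
theorem result (R : Type u) [CommRing R] (M N : Type u) [AddCommGroup M]
    [Module R M] [AddCommGroup N] [Module R N] [ExactPairing (ModuleCat.of R M) (ModuleCat.of R N)] :
    Module.Finite R M ∧ Module.Projective R M ∧ Module.Finite R N ∧ Module.Projective R N := by
  obtain ⟨η, hη⟩ : ∃ η : R →ₗ[R] M ⊗[R] N,
      η = (η_ (ModuleCat.of R M) (ModuleCat.of R N)).hom := ⟨_, rfl⟩
  obtain ⟨ε, hε⟩ : ∃ ε : N ⊗[R] M →ₗ[R] R,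
      ε = (ε_ (ModuleCat.of R M) (ModuleCat.of R N)).hom := ⟨_, rfl⟩
  have h1 : ∀ m : M, LinearMap.lTensor M ε (TensorProduct.assoc R M N M (η 1 ⊗ₜ[R] m)) =
      ((1 : R) • m) ⊗ₜ[R] (1 : R) := by
    intro m
    have := congrArg (fun f => (ModuleCat.Hom.hom f) ((1 : R) ⊗ₜ[R] m))
      (ExactPairing.evaluation_coevaluation (ModuleCat.of R M) (ModuleCat.of R N))
    rw [hη, hε]
    exact this
  have h2 : ∀ n : N, LinearMap.rTensor N ε ((TensorProduct.assoc R N M N).symm (n ⊗ₜ[R] η 1)) =
      (1 : R) ⊗ₜ[R] ((1 : R) • n) := by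
    intro n
    have := congrArg (fun f => (ModuleCat.Hom.hom f) (n ⊗ₜ[R] (1 : R)))
      (ExactPairing.coevaluation_evaluation (ModuleCat.of R M) (ModuleCat.of R N))
    rw [hη, hε]
    exact this
  obtain ⟨S, hS⟩ := TensorProduct.exists_finset (η 1)
  have keyM : ∀ m : M, ∑ i : S, ε (i.1.2 ⊗ₜ[R] m) • i.1.1 = m := by
    intro m
    have h := congrArg (TensorProduct.rid R M) (h1 m)
    rw [hS, TensorProduct.sum_tmul, map_sum, map_sum, map_sum] at h
    simp only [TensorProduct.assoc_tmul, LinearMap.lTensor_tmul, TensorProduct.rid_tmul,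
      one_smul] at h
    rw [Finset.sum_coe_sort S (fun i => ε (i.2 ⊗ₜ[R] m) • i.1)]
    exact h
  have keyN : ∀ n : N, ∑ i : S, ε (n ⊗ₜ[R] i.1.1) • i.1.2 = n := by
    intro n
    have h := congrArg (TensorProduct.lid R N) (h2 n)
    rw [hS, TensorProduct.tmul_sum, map_sum, map_sum, map_sum] at h
    simp only [TensorProduct.assoc_symm_tmul, LinearMap.rTensor_tmul, TensorProduct.lid_tmul,
      one_smul] at h
    rw [Finset.sum_coe_sort S (fun i => ε (n ⊗ₜ[R] i.1) • i.2)]
    exact h
  have hM := finite_projective_of_dualBasis R M (ι := S) (fun i => i.1.1)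
    (fun i => ε ∘ₗ (TensorProduct.mk R N M i.1.2)) keyM
  have hN := finite_projective_of_dualBasis R N (ι := S) (fun i => i.1.2)
    (fun i => ε ∘ₗ ((TensorProduct.mk R N M).flip i.1.1)) keyN
  exact ⟨hM.1, hM.2, hN.1, hN.2⟩

end Groth.Agent.S7015
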