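import Groth.Statements.S7017
import Groth.Agent.Lib.Helper6.PerfTri

set_option autoImplicit false
universe u
open CategoryTheory CategoryTheory.Limits
attribute [local instance] HasDerivedCategory.standard
open DRing

namespace Groth.Agent.S7017

open CategoryTheory.Pretriangulated in
/-- Let R be a commutative ring and K → L → M → K[1] a distinguished triangle in D(R). Whenever two of
K, L, M are pseudo-coherent (isomorphic in D(R) to bounded above complexes of finite free modules),
the remaining one is as well. -/
theorem result (R : Type u) [CommRing R] (T : Triangle (Dual.D R))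
    (hT : T ∈ distinguishedTriangles) :
    (DRing.IsPseudoCoherent' R T.obj₁ → DRing.IsPseudoCoherent' R T.obj₂ → DRing.IsPseudoCoherent' R T.obj₃) ∧
      (DRing.IsPseudoCoherent' R T.obj₁ → DRing.IsPseudoCoherent' R T.obj₃ → DRing.IsPseudoCoherent' R T.obj₂) ∧
      (DRing.IsPseudoCoherent' R T.obj₂ → DRing.IsPseudoCoherent' R T.obj₃ → DRing.IsPseudoCoherent' R T.obj₁) := by
  have key : ∀ K : Dual.D R, DRing.IsPseudoCoherent' R K ↔
      Groth.Agent.Helper6.PerfTri.Rep Groth.Agent.Helper6.PerfTri.PC K := by
    intro K
    constructor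
    · rintro ⟨E, b, hb, hE, he⟩
      exact ⟨E, ⟨b, hb, hE⟩, he⟩
    · rintro ⟨E, ⟨b, hb, hE⟩, he⟩
      exact ⟨E, b, hb, hE, he⟩
  simp only [key]
  exact Groth.Agent.Helper6.PerfTri.two_of_three Groth.Agent.Helper6.PerfTri.good_PC T hT

end Groth.Agent.S7017
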