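import Groth.Statements.S7019
import Groth.Agent.Lib.Helper6.Perf1

set_option autoImplicit false
universe u
open CategoryTheory CategoryTheory.Limits
attribute [local instance] HasDerivedCategory.standard
open DRing

namespace Groth.Agent.S7019

/-- Let R be a commutative ring such that the derived tensor product - ⊗^L_R M exists on D(R) for every
R-module M, and let K, L be objects of D(R). If K ⊕ L is perfect, then K and L are perfect. -/
theorem result (R : Type u) [CommRing R] [∀ M : ModuleCat.{u} R, DRing.HasLTensor R M]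
    (K L : Dual.D R) [HasBinaryBiproduct K L] (h : DRing.IsPerfect R (K ⊞ L)) :
    DRing.IsPerfect R K ∧ DRing.IsPerfect R L := by
  have hrep : Groth.Agent.Helper6.PerfTri.Rep Groth.Agent.Helper6.PerfTri.PF (K ⊞ L) := by
    obtain ⟨E, a, b, h1, h2, h3⟩ := h
    exact ⟨E, ⟨a, b, h1, h2⟩, h3⟩
  have hpc : ∀ m : ℤ, Groth.Agent.Helper6.PCm.IsPC m (K ⊞ L) :=
    fun m => Groth.Agent.Helper6.Perf.isPC_of_rep_PF hrep m
  have hK := Groth.Agent.Helper6.Perf.rep_PF_of_retract
    (fun m => (Groth.Agent.Helper6.PCm.isPC_of_biprod (hpc m)).1) hrep biprod.inl biprod.fst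
    biprod.inl_fst
  have hL := Groth.Agent.Helper6.Perf.rep_PF_of_retract
    (fun m => (Groth.Agent.Helper6.PCm.isPC_of_biprod (hpc m)).2) hrep biprod.inr biprod.snd
    biprod.inr_snd
  refine ⟨?_, ?_⟩
  · obtain ⟨E, ⟨a, b, h1, h2⟩, h3⟩ := hK
    exact ⟨E, a, b, h1, h2, h3⟩
  · obtain ⟨E, ⟨a, b, h1, h2⟩, h3⟩ := hL
    exact ⟨E, a, b, h1, h2, h3⟩

end Groth.Agent.S7019
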