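import Groth.Statements.S7020
import Groth.Agent.Lib.Helper6.PCm12

set_option autoImplicit false
universe u
open CategoryTheory CategoryTheory.Limits
attribute [local instance] HasDerivedCategory.standard
open DerCA

namespace Groth.Agent.S7020

open CategoryTheory.Pretriangulated in
/-- Let R → A be a finite type homomorphism of commutative rings, m an integer and K → L → M → K[1] a
distinguished triangle in D(A); all pseudo-coherence below is relative to R. (1) M is
m-pseudo-coherent when K is (m+1)-pseudo-coherent and L is m-pseudo-coherent. (2) L is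
m-pseudo-coherent when K and M are. (3) K is (m+1)-pseudo-coherent when L is (m+1)-pseudo-coherent
and M is m-pseudo-coherent. (4) Pseudo-coherence in every degree of any two of K, L, M implies that
of the third. -/
theorem result {R A : Type u} [CommRing R] [CommRing A] [Algebra R A] [Algebra.FiniteType R A] (m : ℤ) (T : Triangle (Dual.D A))
    (hT : T ∈ distinguishedTriangles) :
    (DerCA.IsRelPseudoCoherent R A (m + 1) T.obj₁ → DerCA.IsRelPseudoCoherent R A m T.obj₂ →
        DerCA.IsRelPseudoCoherent R A m T.obj₃) ∧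
      (DerCA.IsRelPseudoCoherent R A m T.obj₁ → DerCA.IsRelPseudoCoherent R A m T.obj₃ →
        DerCA.IsRelPseudoCoherent R A m T.obj₂) ∧
      (DerCA.IsRelPseudoCoherent R A (m + 1) T.obj₂ → DerCA.IsRelPseudoCoherent R A m T.obj₃ →
        DerCA.IsRelPseudoCoherent R A (m + 1) T.obj₁) ∧
      ((DerCA.IsRelPseudoCoherentAll R A T.obj₁ → DerCA.IsRelPseudoCoherentAll R A T.obj₂ →
          DerCA.IsRelPseudoCoherentAll R A T.obj₃) ∧
        (DerCA.IsRelPseudoCoherentAll R A T.obj₁ → DerCA.IsRelPseudoCoherentAll R A T.obj₃ →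
          DerCA.IsRelPseudoCoherentAll R A T.obj₂) ∧
        (DerCA.IsRelPseudoCoherentAll R A T.obj₂ → DerCA.IsRelPseudoCoherentAll R A T.obj₃ →
          DerCA.IsRelPseudoCoherentAll R A T.obj₁)) := by
  obtain ⟨n₀, α₀, hα₀⟩ := Algebra.FiniteType.iff_quotient_mvPolynomial''.1
    (inferInstance : Algebra.FiniteType R A)
  have key : ∀ (m : ℤ) (X : Dual.D A), DerCA.IsRelPseudoCoherent R A m X ↔
      Groth.Agent.Helper6.PCm.IsPC m
        ((Groth.Agent.Helper6.PCm.resD (α₀ : MvPolynomial (Fin n₀) R →+* A)).obj X) :=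
    fun m X => Groth.Agent.Helper6.PCm.relPC_iff α₀ hα₀ m X
  simp only [DerCA.IsRelPseudoCoherentAll, key]
  have tt := fun k : ℤ => Groth.Agent.Helper6.PCm.two_of_three _
    ((Groth.Agent.Helper6.PCm.resD (α₀ : MvPolynomial (Fin n₀) R →+* A)).map_distinguished T hT) k
  refine ⟨(tt m).1, (tt m).2.1, (tt m).2.2, fun h₁ h₂ k => (tt k).1 (h₁ (k + 1)) (h₂ k),
    fun h₁ h₃ k => (tt k).2.1 (h₁ k) (h₃ k), fun h₂ h₃ k => ?_⟩
  have h := (tt (k - 1)).2.2
  rw [show k - 1 + 1 = k by ring] at h
  exact h (h₂ k) (h₃ (k - 1))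

end Groth.Agent.S7020
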