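import Groth.Statements.S7021
import Groth.Agent.Lib.Helper6.PCm12
import Groth.Agent.S6935

set_option autoImplicit false
universe u
open CategoryTheory CategoryTheory.Limits
attribute [local instance] HasDerivedCategory.standard
open DerCA

namespace Groth.Agent.S7021

/-- Let R → A be a finite type homomorphism of commutative rings, α : R[x_1, ..., x_n] → A a surjective
R-algebra homomorphism and M an A-module. Then relative 0-pseudo-coherence of M over R amounts to M
being a finitely generated A-module, and relative (-1)-pseudo-coherence of M over R amounts to M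
being finitely presented as an R[x_1, ..., x_n]-module through α. -/
theorem result {R A : Type u} [CommRing R] [CommRing A]
    [Algebra R A] [Algebra.FiniteType R A] {n : ℕ} (α : MvPolynomial (Fin n) R →ₐ[R] A)
    (hα : Function.Surjective α) (M : Type u) [AddCommGroup M] [Module A M] :
    (DerCA.IsRelPseudoCoherentModule R A 0 M ↔ Module.Finite A M) ∧
      (DerCA.IsRelPseudoCoherentModule R A (-1) M ↔
        @Module.FinitePresentation (MvPolynomial (Fin n) R) M _ _ (Module.compHom M α.toRingHom)) := by
  have key : ∀ (m : ℤ) (X : Dual.D A), DerCA.IsRelPseudoCoherent R A m X ↔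
      Groth.Agent.Helper6.PCm.IsPC m
        ((Groth.Agent.Helper6.PCm.resD (α : MvPolynomial (Fin n) R →+* A)).obj X) :=
    fun m X => Groth.Agent.Helper6.PCm.relPC_iff α hα m X
  simp only [DerCA.IsRelPseudoCoherentModule, key]
  have e := Groth.Agent.Helper6.PCm.resDSingleIso (α : MvPolynomial (Fin n) R →+* A)
    (ModuleCat.of A M)
  have h0 : ∀ k : ℤ, Groth.Agent.Helper6.PCm.IsPC k
      ((Groth.Agent.Helper6.PCm.resD (α : MvPolynomial (Fin n) R →+* A)).obj (Dual.inD A M)) ↔
      Groth.Agent.Helper6.PCm.IsPC k
        ((DerivedCategory.singleFunctor (ModuleCat.{u} (MvPolynomial (Fin n) R)) 0).obj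
          ((ModuleCat.restrictScalars.{u} (α : MvPolynomial (Fin n) R →+* A)).obj
            (ModuleCat.of A M))) :=
    fun k => ⟨Groth.Agent.Helper6.PCm.isPC_of_iso e, Groth.Agent.Helper6.PCm.isPC_of_iso e.symm⟩
  have s := Groth.Agent.S6935.result (MvPolynomial (Fin n) R)
    ((ModuleCat.restrictScalars.{u} (α : MvPolynomial (Fin n) R →+* A)).obj (ModuleCat.of A M))
  exact ⟨(h0 0).trans (s.1.trans
    (Groth.Agent.Helper6.PCm.finite_restrict_iff _ hα (ModuleCat.of A M))), (h0 (-1)).trans s.2⟩

end Groth.Agent.S7021
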