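import Groth.Statements.S7022
import Groth.Agent.Lib.Helper6.PCm12

set_option autoImplicit false
universe u
open CategoryTheory CategoryTheory.Limits
attribute [local instance] HasDerivedCategory.standard
open DerCA

namespace Groth.Agent.S7022

/-- Let R → A be a finite type homomorphism of commutative rings, m an integer and K, L objects of the
derived category D(A). Whenever the direct sum K ⊕ L is pseudo-coherent relative to R in degree m,
both summands K and L are too; likewise, relative pseudo-coherence of K ⊕ L (in every degree) passes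
to K and to L. -/
theorem result {R A : Type u} [CommRing R] [CommRing A] [Algebra R A] [Algebra.FiniteType R A] (m : ℤ) (K L : Dual.D A) [HasBinaryBiproduct K L] :
    (DerCA.IsRelPseudoCoherent R A m (K ⊞ L) → DerCA.IsRelPseudoCoherent R A m K ∧ DerCA.IsRelPseudoCoherent R A m L) ∧
      (DerCA.IsRelPseudoCoherentAll R A (K ⊞ L) →
        DerCA.IsRelPseudoCoherentAll R A K ∧ DerCA.IsRelPseudoCoherentAll R A L) := by
  obtain ⟨n₀, α₀, hα₀⟩ := Algebra.FiniteType.iff_quotient_mvPolynomial''.1
    (inferInstance : Algebra.FiniteType R A)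
  have key : ∀ (m : ℤ) (X : Dual.D A), DerCA.IsRelPseudoCoherent R A m X ↔
      Groth.Agent.Helper6.PCm.IsPC m
        ((Groth.Agent.Helper6.PCm.resD (α₀ : MvPolynomial (Fin n₀) R →+* A)).obj X) :=
    fun m X => Groth.Agent.Helper6.PCm.relPC_iff α₀ hα₀ m X
  simp only [DerCA.IsRelPseudoCoherentAll, key]
  refine ⟨fun h => Groth.Agent.Helper6.PCm.isPC_resD_of_biprod _ K L h, fun h =>
    ⟨fun k => (Groth.Agent.Helper6.PCm.isPC_resD_of_biprod _ K L (h k)).1,
      fun k => (Groth.Agent.Helper6.PCm.isPC_resD_of_biprod _ K L (h k)).2⟩⟩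

end Groth.Agent.S7022
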