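import Groth.Statements.S7024
import Groth.Agent.Lib.Helper6.PCm12

set_option autoImplicit false
universe u
open CategoryTheory CategoryTheory.Limits
attribute [local instance] HasDerivedCategory.standard
open DerCA

namespace Groth.Agent.S7024

/-- Let R → A be a finite type homomorphism of commutative rings, m an integer and K an object of D(A)
whose cohomology vanishes in large degrees. If the module H^i(K) is (m - i)-pseudo-coherent relative
to R for every i, then K is m-pseudo-coherent relative to R. Moreover, K is relatively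
pseudo-coherent over R as soon as each cohomology module H^i(K) has this property over R. -/
theorem result {R A : Type u} [CommRing R] [CommRing A] [Algebra R A] [Algebra.FiniteType R A] (m : ℤ) (K : Dual.D A)
    (hb : ∃ b : ℤ, ∀ i : ℤ, b < i → Subsingleton (Dual.HD A K i)) :
    ((∀ i : ℤ, DerCA.IsRelPseudoCoherentModule R A (m - i) (Dual.HD A K i)) → DerCA.IsRelPseudoCoherent R A m K) ∧
      ((∀ i : ℤ, DerCA.IsRelPseudoCoherentModuleAll R A (Dual.HD A K i)) → DerCA.IsRelPseudoCoherentAll R A K) := by
  obtain ⟨n₀, α₀, hα₀⟩ := Algebra.FiniteType.iff_quotient_mvPolynomial''.1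
    (inferInstance : Algebra.FiniteType R A)
  have key : ∀ (m : ℤ) (X : Dual.D A), DerCA.IsRelPseudoCoherent R A m X ↔
      Groth.Agent.Helper6.PCm.IsPC m
        ((Groth.Agent.Helper6.PCm.resD (α₀ : MvPolynomial (Fin n₀) R →+* A)).obj X) :=
    fun m X => Groth.Agent.Helper6.PCm.relPC_iff α₀ hα₀ m X
  simp only [DerCA.IsRelPseudoCoherentModuleAll, DerCA.IsRelPseudoCoherentModule,
    DerCA.IsRelPseudoCoherentAll, key]
  obtain ⟨b, hb⟩ := hb
  have hle : DerivedCategory.IsLE K b := by
    rw [DerivedCategory.isLE_iff]
    intro i hi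
    haveI := hb i hi
    exact ModuleCat.isZero_of_subsingleton _
  refine ⟨fun h => Groth.Agent.Helper6.PCm.isPC_resD_of_homology _ m K b hle h, fun h k =>
    Groth.Agent.Helper6.PCm.isPC_resD_of_homology _ k K b hle (fun i => h i (k - i))⟩

end Groth.Agent.S7024
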