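import Groth.Statements.S7026
import Groth.Agent.Lib.Helper6.PCm12

set_option autoImplicit false
universe u
open CategoryTheory CategoryTheory.Limits
attribute [local instance] HasDerivedCategory.standard
open DerCA

namespace Groth.Agent.S7026

/-- Let R be a Noetherian commutative ring, R → A a finite type ring homomorphism, m an integer, K an
object of D(A) and M an A-module. Then: m-pseudo-coherence of K relative to R is equivalent to
H^i(K) vanishing for all large i together with H^i(K) being a finitely generated A-module for each i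
≥ m; pseudo-coherence of K relative to R (every degree) is equivalent to the same with H^i(K)
finitely generated for every i; and the A-module M is pseudo-coherent relative to R exactly when M
is finitely generated. -/
theorem result {R A : Type u} [CommRing R]
    [IsNoetherianRing R] [CommRing A] [Algebra R A] [Algebra.FiniteType R A] (m : ℤ) (K : Dual.D A)
    (M : Type u) [AddCommGroup M] [Module A M] :
    (DerCA.IsRelPseudoCoherent R A m K ↔
      (∃ b : ℤ, ∀ i : ℤ, b < i → Subsingleton (Dual.HD A K i)) ∧ ∀ i : ℤ, m ≤ i → Module.Finite A (Dual.HD A K i)) ∧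
    (DerCA.IsRelPseudoCoherentAll R A K ↔
      (∃ b : ℤ, ∀ i : ℤ, b < i → Subsingleton (Dual.HD A K i)) ∧ ∀ i : ℤ, Module.Finite A (Dual.HD A K i)) ∧
    (DerCA.IsRelPseudoCoherentModuleAll R A M ↔ Module.Finite A M) := by
  obtain ⟨n₀, α₀, hα₀⟩ := Algebra.FiniteType.iff_quotient_mvPolynomial''.1
    (inferInstance : Algebra.FiniteType R A)
  have key : ∀ (m : ℤ) (X : Dual.D A), DerCA.IsRelPseudoCoherent R A m X ↔
      Groth.Agent.Helper6.PCm.IsPC m
        ((Groth.Agent.Helper6.PCm.resD (α₀ : MvPolynomial (Fin n₀) R →+* A)).obj X) :=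
    fun m X => Groth.Agent.Helper6.PCm.relPC_iff α₀ hα₀ m X
  have p1 : ∀ (m : ℤ) (X : Dual.D A), DerCA.IsRelPseudoCoherent R A m X ↔
      (∃ b : ℤ, ∀ i : ℤ, b < i → Subsingleton (Dual.HD A X i)) ∧
        ∀ i : ℤ, m ≤ i → Module.Finite A (Dual.HD A X i) := fun m X =>
    (key m X).trans (Groth.Agent.Helper6.PCm.isPC_resD_iff_of_isNoetherianRing
      (α₀ : MvPolynomial (Fin n₀) R →+* A) hα₀ m X)
  have p2 : ∀ X : Dual.D A, DerCA.IsRelPseudoCoherentAll R A X ↔
      (∃ b : ℤ, ∀ i : ℤ, b < i → Subsingleton (Dual.HD A X i)) ∧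
        ∀ i : ℤ, Module.Finite A (Dual.HD A X i) := by
    intro X
    constructor
    · intro h
      exact ⟨((p1 0 X).1 (h 0)).1, fun i => ((p1 i X).1 (h i)).2 i le_rfl⟩
    · rintro ⟨hb, hf⟩ k
      exact (p1 k X).2 ⟨hb, fun i _ => hf i⟩
  refine ⟨p1 m K, p2 K, ?_⟩
  show DerCA.IsRelPseudoCoherentAll R A (Dual.inD A M) ↔ Module.Finite A M
  rw [p2]
  let e : ((DerivedCategory.homologyFunctor (ModuleCat.{u} A) 0).obj (Dual.inD A M)) ≃ₗ[A] M :=
    ((DerivedCategory.singleFunctorCompHomologyFunctorIso (ModuleCat.{u} A) 0).app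
      (ModuleCat.of A M)).toLinearEquiv
  constructor
  · rintro ⟨-, hf⟩
    haveI := hf 0
    exact Module.Finite.equiv e
  · intro h
    refine ⟨⟨0, fun i hi => ModuleCat.subsingleton_of_isZero
      (DerivedCategory.isZero_of_isLE (Dual.inD A M) 0 i hi)⟩, fun i => ?_⟩
    rcases lt_trichotomy i 0 with hi | hi | hi
    · haveI : Subsingleton (Dual.HD A (Dual.inD A M) i) := ModuleCat.subsingleton_of_isZero
        (DerivedCategory.isZero_of_isGE (Dual.inD A M) 0 i hi)
      infer_instance
    · subst hi
      exact Module.Finite.equiv e.symm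
    · haveI : Subsingleton (Dual.HD A (Dual.inD A M) i) := ModuleCat.subsingleton_of_isZero
        (DerivedCategory.isZero_of_isLE (Dual.inD A M) 0 i hi)
      infer_instance

end Groth.Agent.S7026
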