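import Groth.Statements.S7029
import Groth.Agent.Lib.Helper6.PerfTri
import Groth.Agent.Lib.Helper6.BddCx

set_option autoImplicit false
universe u
open CategoryTheory CategoryTheory.Limits
attribute [local instance] HasDerivedCategory.standard
open DRing

namespace Groth.Agent.S7029

/-- Let R be a commutative ring such that the derived tensor product - ⊗^L_R M exists on D(R) for every
R-module M, and let K be a bounded cochain complex of R-modules each term of which is a perfect
R-module. Then K is a perfect object of D(R). -/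
theorem result (R : Type u) [CommRing R] [∀ M : ModuleCat.{u} R, DRing.HasLTensor R M] (K : DRing.Cx R)
    (a b : ℤ) (hab : DRing.VanishesOutside K a b) (hK : ∀ i : ℤ, DRing.IsPerfectModule R (K.X i)) :
    DRing.IsPerfect R (DRing.toD K) := by
  have key : ∀ K : Dual.D R, DRing.IsPerfect R K ↔
      Groth.Agent.Helper6.PerfTri.Rep Groth.Agent.Helper6.PerfTri.PF K := by
    intro K
    constructor
    · rintro ⟨E, a, b, hb, hE, he⟩
      exact ⟨E, ⟨a, b, hb, hE⟩, he⟩
    · rintro ⟨E, ⟨a, b, hb, hE⟩, he⟩
      exact ⟨E, a, b, hb, hE, he⟩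
  rw [key]
  exact Groth.Agent.Helper6.BddCx.prop_of_bounded_complex'
    (Groth.Agent.Helper6.PerfTri.Rep Groth.Agent.Helper6.PerfTri.PF)
    (fun e h => Groth.Agent.Helper6.PerfTri.rep_of_iso e h)
    (fun K n h => Groth.Agent.Helper6.PerfTri.rep_shift Groth.Agent.Helper6.PerfTri.good_PF n h)
    (fun T hT h1 h3 => (Groth.Agent.Helper6.PerfTri.two_of_three
      Groth.Agent.Helper6.PerfTri.good_PF T hT).2.1 h1 h3)
    K a b hab (fun i => (key _).1 (hK i))

end Groth.Agent.S7029
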