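import Groth.Statements.S7033
import Groth.Agent.Lib.Helper6.Flat7

set_option autoImplicit false
universe u
open CategoryTheory CategoryTheory.Limits
attribute [local instance] HasDerivedCategory.standard
open DRing

namespace Groth.Agent.S7033

/-- Let R be a commutative ring such that the derived tensor product - ⊗^L_R M exists on D(R) for every
R-module M, let a, b be integers and K an object of D(R) whose cohomology vanishes outside a bounded
range, such that for every i the module H^i(K) (placed in degree 0) has tor amplitude in [a - i, b -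
i]. Then K has tor amplitude in [a, b]. -/
theorem result (R : Type u) [CommRing R] [∀ M : ModuleCat.{u} R, DRing.HasLTensor R M] (a b : ℤ) (K : Dual.D R)
    (hb : ∃ c d : ℤ, ∀ i : ℤ, (i < c ∨ d < i) → Subsingleton (Dual.HD R K i))
    (hK : ∀ i : ℤ, DRing.HasTorAmplitudeIn R (a - i) (b - i) (Dual.inD R (Dual.HD R K i))) :
    DRing.HasTorAmplitudeIn R a b K := by
  have toFA : ∀ {a b : ℤ} {K : Dual.D R}, DRing.HasTorAmplitudeIn R a b K →
      Groth.Agent.Helper6.FlatAmp.FA a b K := fun ⟨E, h1, h2, h3⟩ => ⟨E, h1, h2, h3⟩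
  have ofFA : ∀ {a b : ℤ} {K : Dual.D R}, Groth.Agent.Helper6.FlatAmp.FA a b K →
      DRing.HasTorAmplitudeIn R a b K := fun ⟨E, h1, h2, h3⟩ => ⟨E, h1, h2, h3⟩
  obtain ⟨c, d, hcd⟩ := hb
  refine ofFA (Groth.Agent.Helper6.FlatAmp.FA_of_homology a b K c d (fun i hi => ?_)
    (fun i => toFA (hK i)))
  haveI := hcd i hi
  exact ModuleCat.isZero_of_subsingleton _

end Groth.Agent.S7033
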