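import Groth.Statements.S7036
import Groth.Agent.Lib.Helper6.PerfBdd
import Groth.Agent.Lib.Helper6.BddCx

set_option autoImplicit false
universe u
open CategoryTheory CategoryTheory.Limits
attribute [local instance] HasDerivedCategory.standard
open DRing

namespace Groth.Agent.S7036

/-- Let R be a commutative ring. (1) If K is an object of D(R) whose cohomology vanishes outside a
bounded range and every cohomology module H^i(K), placed in degree 0, has finite injective
dimension, then K has finite injective dimension. (2) If K is a bounded cochain complex of R-modules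
and every term K^i, placed in degree 0, has finite injective dimension, then K has finite injective
dimension. -/
theorem result (R : Type u) [CommRing R] :
    (∀ (K : Dual.D R), (∃ a b : ℤ, ∀ i : ℤ, (i < a ∨ b < i) → Subsingleton (Dual.HD R K i)) →
        (∀ i : ℤ, DRing.HasFiniteInjDim R (Dual.inD R (Dual.HD R K i))) → DRing.HasFiniteInjDim R K) ∧
      (∀ (K : DRing.Cx R) (a b : ℤ), DRing.VanishesOutside K a b →
        (∀ i : ℤ, DRing.HasFiniteInjDim R (Dual.inD R (K.X i))) → DRing.HasFiniteInjDim R (DRing.toD K)) := by
  have key : ∀ K : Dual.D R, DRing.HasFiniteInjDim R K ↔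
      Groth.Agent.Helper6.PerfTri.Rep Groth.Agent.Helper6.PerfTri.PI K := by
    intro K
    constructor
    · rintro ⟨a, b, E, hb, hE, he⟩
      exact ⟨E, ⟨a, b, hb, hE⟩, he⟩
    · rintro ⟨E, ⟨a, b, hb, hE⟩, he⟩
      exact ⟨a, b, E, hb, hE, he⟩
  constructor
  · rintro K ⟨a, b, hab⟩ hK
    rw [key]
    refine Groth.Agent.Helper6.PerfTri.rep_of_bounded' Groth.Agent.Helper6.PerfTri.good_PI K a b
      (fun i hi => ?_) (fun i => (key _).1 (hK i))
    haveI := hab i hi
    exact ModuleCat.isZero_of_subsingleton _
  · intro K a b hab hK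
    rw [key]
    exact Groth.Agent.Helper6.BddCx.prop_of_bounded_complex'
      (Groth.Agent.Helper6.PerfTri.Rep Groth.Agent.Helper6.PerfTri.PI)
      (fun e h => Groth.Agent.Helper6.PerfTri.rep_of_iso e h)
      (fun K n h => Groth.Agent.Helper6.PerfTri.rep_shift Groth.Agent.Helper6.PerfTri.good_PI n h)
      (fun T hT h1 h3 => (Groth.Agent.Helper6.PerfTri.two_of_three
        Groth.Agent.Helper6.PerfTri.good_PI T hT).2.1 h1 h3)
      K a b hab (fun i => (key _).1 (hK i))

end Groth.Agent.S7036
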