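import Groth.Statements.S7040
import Groth.Agent.H25.PowTors
import Mathlib.Algebra.Category.ModuleCat.EpiMono
import Mathlib.Algebra.Homology.ShortComplex.ModuleCat

set_option autoImplicit false
universe u
open CategoryTheory
open LocCoh

namespace Groth.Agent.S7040

/-- For a finitely generated ideal I of a commutative ring R, the property of being an I-power torsion
module (every element killed by a power of I) is a Serre class in the category of R-modules: it
holds for 0 and is closed under subobjects, quotients and extensions. -/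
theorem result {R : Type u} [CommRing R] (I : Ideal R) (hI : I.FG) :
    ObjectProperty.IsSerreClass (C := ModuleCat.{u} R) (fun M => LocCoh.IsPowerTorsion I M) := by
  refine { exists_zero := ?_, prop_of_mono := ?_, prop_of_epi := ?_, prop_X₂_of_shortExact := ?_ }
  · exact ⟨ModuleCat.of R PUnit, ModuleCat.isZero_of_subsingleton _,
      fun m => ⟨0, fun a _ => Subsingleton.elim _ _⟩⟩
  · intro M N f hf hN
    rw [ModuleCat.mono_iff_injective] at hf
    intro m
    obtain ⟨n, hn⟩ := hN (f m)
    refine ⟨n, fun a ha => hf ?_⟩
    rw [map_smul, hn a ha, map_zero]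
  · intro M N f hf hM
    rw [ModuleCat.epi_iff_surjective] at hf
    intro y
    obtain ⟨m, rfl⟩ := hf y
    obtain ⟨n, hn⟩ := hM m
    exact ⟨n, fun a ha => by rw [← map_smul, hn a ha, map_zero]⟩
  · intro S hS h₁ h₃
    intro x₂
    obtain ⟨n, hn⟩ := h₃ (S.g x₂)
    apply Groth.Agent.H25.powTors_of_pow_smul I hI x₂ n
    intro a ha
    have h0 : S.g (a • x₂) = 0 := by rw [map_smul, hn a ha]
    obtain ⟨y, hy⟩ := (ShortComplex.moduleCat_exact_iff S).1 hS.exact (a • x₂) h0
    obtain ⟨n', hn'⟩ := h₁ y
    refine ⟨n', fun x hx => ?_⟩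
    rw [← hy, ← map_smul, hn' x hx, map_zero]

end Groth.Agent.S7040
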