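import Groth.Statements.S7041
import Mathlib

set_option autoImplicit false
universe u
open TensorProduct
open LocCoh

namespace Groth.Agent.S7041

section aux
variable {R R' : Type u} [CommRing R] [CommRing R'] [Algebra R R'] (I : Ideal R)
variable {M : Type u} [AddCommGroup M] [Module R M]

theorem tmul_eq_zero_of_mem_map (n : ℕ) (x : R')
    (hx : x ∈ Ideal.map (algebraMap R R') (I ^ n)) (m : M) (hm : ∀ a ∈ I ^ n, a • m = 0) :
    x ⊗ₜ[R] m = 0 := by
  unfold Ideal.map Ideal.span at hx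
  induction hx using Submodule.span_induction with
  | mem y hy =>
    obtain ⟨a, ha, rfl⟩ := hy
    rw [Algebra.algebraMap_eq_smul_one, TensorProduct.smul_tmul, hm a ha, tmul_zero]
  | zero => exact zero_tmul _ _
  | add y z _ _ hy hz => rw [add_tmul, hy, hz, add_zero]
  | smul c y _ hy => rw [← TensorProduct.smul_tmul', hy, smul_zero]

theorem exists_lift
    (hq : ∀ n : ℕ, 0 < n → Function.Bijective
      (Ideal.quotientMap (Ideal.map (algebraMap R R') (I ^ n)) (algebraMap R R') Ideal.le_comap_map))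
    (n : ℕ) (hn : 0 < n) (r' : R') :
    ∃ r : R, algebraMap R R' r - r' ∈ Ideal.map (algebraMap R R') (I ^ n) := by
  obtain ⟨x, hx⟩ := (hq n hn).2 (Ideal.Quotient.mk _ r')
  obtain ⟨r, rfl⟩ := Ideal.Quotient.mk_surjective x
  refine ⟨r, ?_⟩
  rw [Ideal.quotientMap_mk] at hx
  exact Ideal.Quotient.eq.mp hx

theorem mem_of_map_mem
    (hq : ∀ n : ℕ, 0 < n → Function.Bijective
      (Ideal.quotientMap (Ideal.map (algebraMap R R') (I ^ n)) (algebraMap R R') Ideal.le_comap_map))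
    (n : ℕ) (hn : 0 < n) (r : R)
    (hr : algebraMap R R' r ∈ Ideal.map (algebraMap R R') (I ^ n)) : r ∈ I ^ n := by
  have h1 : Ideal.quotientMap (Ideal.map (algebraMap R R') (I ^ n)) (algebraMap R R')
      Ideal.le_comap_map (Ideal.Quotient.mk (I ^ n) r) = 0 := by
    rw [Ideal.quotientMap_mk]; exact Ideal.Quotient.eq_zero_iff_mem.mpr hr
  have h2 := (hq n hn).1 (h1.trans (map_zero _).symm)
  exact Ideal.Quotient.eq_zero_iff_mem.mp h2

theorem smul_eq_of_lifts_aux
    (hq : ∀ n : ℕ, 0 < n → Function.Bijective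
      (Ideal.quotientMap (Ideal.map (algebraMap R R') (I ^ n)) (algebraMap R R') Ideal.le_comap_map))
    {r' : R'} {m : M} {n₁ n₂ : ℕ} (h₁ : 0 < n₁) (h : n₁ ≤ n₂) {r₁ r₂ : R}
    (hr₁ : algebraMap R R' r₁ - r' ∈ Ideal.map (algebraMap R R') (I ^ n₁))
    (hr₂ : algebraMap R R' r₂ - r' ∈ Ideal.map (algebraMap R R') (I ^ n₂))
    (hm₁ : ∀ a ∈ I ^ n₁, a • m = 0) : r₁ • m = r₂ • m := by
  have hle : Ideal.map (algebraMap R R') (I ^ n₂) ≤ Ideal.map (algebraMap R R') (I ^ n₁) :=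
    Ideal.map_mono (Ideal.pow_le_pow_right h)
  have h3 : algebraMap R R' (r₁ - r₂) ∈ Ideal.map (algebraMap R R') (I ^ n₁) := by
    have := Ideal.sub_mem _ hr₁ (hle hr₂)
    rw [map_sub]
    convert this using 1
    ring
  have h4 := mem_of_map_mem I hq n₁ h₁ _ h3
  have h5 := hm₁ _ h4
  rw [sub_smul, sub_eq_zero] at h5
  exact h5

theorem smul_eq_of_lifts
    (hq : ∀ n : ℕ, 0 < n → Function.Bijective
      (Ideal.quotientMap (Ideal.map (algebraMap R R') (I ^ n)) (algebraMap R R') Ideal.le_comap_map))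
    {r' : R'} {m : M} {n₁ n₂ : ℕ} (h₁ : 0 < n₁) (h₂ : 0 < n₂) {r₁ r₂ : R}
    (hr₁ : algebraMap R R' r₁ - r' ∈ Ideal.map (algebraMap R R') (I ^ n₁))
    (hr₂ : algebraMap R R' r₂ - r' ∈ Ideal.map (algebraMap R R') (I ^ n₂))
    (hm₁ : ∀ a ∈ I ^ n₁, a • m = 0) (hm₂ : ∀ a ∈ I ^ n₂, a • m = 0) : r₁ • m = r₂ • m := by
  rcases le_total n₁ n₂ with h | h
  · exact smul_eq_of_lifts_aux I hq h₁ h hr₁ hr₂ hm₁
  · exact (smul_eq_of_lifts_aux I hq h₂ h hr₂ hr₁ hm₂).symm

theorem exists_rel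
    (hq : ∀ n : ℕ, 0 < n → Function.Bijective
      (Ideal.quotientMap (Ideal.map (algebraMap R R') (I ^ n)) (algebraMap R R') Ideal.le_comap_map))
    (hM : LocCoh.IsPowerTorsion I M) (r' : R') (m : M) :
    ∃ y : M, ∀ (n : ℕ) (r : R), 0 < n →
      algebraMap R R' r - r' ∈ Ideal.map (algebraMap R R') (I ^ n) →
      (∀ a ∈ I ^ n, a • m = 0) → y = r • m := by
  obtain ⟨n₀, hn₀⟩ := hM m
  have hk : ∀ a ∈ I ^ (n₀ + 1), a • m = 0 :=
    fun a ha => hn₀ a (Ideal.pow_le_pow_right (Nat.le_succ _) ha)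
  obtain ⟨r₀, hr₀⟩ := exists_lift I hq (n₀ + 1) (Nat.succ_pos _) r'
  exact ⟨r₀ • m, fun n r hn hr hm => smul_eq_of_lifts I hq (Nat.succ_pos _) hn hr₀ hr hk hm⟩

noncomputable def g
    (hq : ∀ n : ℕ, 0 < n → Function.Bijective
      (Ideal.quotientMap (Ideal.map (algebraMap R R') (I ^ n)) (algebraMap R R') Ideal.le_comap_map))
    (hM : LocCoh.IsPowerTorsion I M) (r' : R') (m : M) : M :=
  Classical.choose (exists_rel I hq hM r' m)

theorem g_eq
    (hq : ∀ n : ℕ, 0 < n → Function.Bijective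
      (Ideal.quotientMap (Ideal.map (algebraMap R R') (I ^ n)) (algebraMap R R') Ideal.le_comap_map))
    (hM : LocCoh.IsPowerTorsion I M) {r' : R'} {m : M} {n : ℕ} {r : R} (hn : 0 < n)
    (hr : algebraMap R R' r - r' ∈ Ideal.map (algebraMap R R') (I ^ n))
    (hm : ∀ a ∈ I ^ n, a • m = 0) : g I hq hM r' m = r • m :=
  Classical.choose_spec (exists_rel I hq hM r' m) n r hn hr hm

theorem exists_kill₂ (hM : LocCoh.IsPowerTorsion I M) (m₁ m₂ : M) :
    ∃ n : ℕ, 0 < n ∧ (∀ a ∈ I ^ n, a • m₁ = 0) ∧ (∀ a ∈ I ^ n, a • m₂ = 0) := by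
  obtain ⟨n₁, h₁⟩ := hM m₁
  obtain ⟨n₂, h₂⟩ := hM m₂
  exact ⟨n₁ + n₂ + 1, Nat.succ_pos _,
    fun a ha => h₁ a (Ideal.pow_le_pow_right (by omega) ha),
    fun a ha => h₂ a (Ideal.pow_le_pow_right (by omega) ha)⟩

noncomputable def G
    (hq : ∀ n : ℕ, 0 < n → Function.Bijective
      (Ideal.quotientMap (Ideal.map (algebraMap R R') (I ^ n)) (algebraMap R R') Ideal.le_comap_map))
    (hM : LocCoh.IsPowerTorsion I M) : R' →ₗ[R] M →ₗ[R] M :=
  LinearMap.mk₂ R (g I hq hM)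
    (by
      intro r₁' r₂' m
      obtain ⟨n, hn, hk, -⟩ := exists_kill₂ I hM m m
      obtain ⟨r₁, hr₁⟩ := exists_lift I hq n hn r₁'
      obtain ⟨r₂, hr₂⟩ := exists_lift I hq n hn r₂'
      have h12 : algebraMap R R' (r₁ + r₂) - (r₁' + r₂') ∈
          Ideal.map (algebraMap R R') (I ^ n) := by
        have := Ideal.add_mem _ hr₁ hr₂
        rw [map_add]; convert this using 1; ring
      rw [g_eq I hq hM hn h12 hk, g_eq I hq hM hn hr₁ hk, g_eq I hq hM hn hr₂ hk, add_smul])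
    (by
      intro c r' m
      obtain ⟨n, hn, hk, -⟩ := exists_kill₂ I hM m m
      obtain ⟨r, hr⟩ := exists_lift I hq n hn r'
      have hc : algebraMap R R' (c * r) - c • r' ∈ Ideal.map (algebraMap R R') (I ^ n) := by
        have := Ideal.mul_mem_left _ (algebraMap R R' c) hr
        rw [map_mul, Algebra.smul_def]; convert this using 1; ring
      rw [g_eq I hq hM hn hc hk, g_eq I hq hM hn hr hk, mul_smul])
    (by
      intro r' m₁ m₂
      obtain ⟨n, hn, hk₁, hk₂⟩ := exists_kill₂ I hM m₁ m₂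
      obtain ⟨r, hr⟩ := exists_lift I hq n hn r'
      have hk : ∀ a ∈ I ^ n, a • (m₁ + m₂) = 0 :=
        fun a ha => by rw [smul_add, hk₁ a ha, hk₂ a ha, add_zero]
      rw [g_eq I hq hM hn hr hk, g_eq I hq hM hn hr hk₁, g_eq I hq hM hn hr hk₂, smul_add])
    (by
      intro c r' m
      obtain ⟨n, hn, hk, -⟩ := exists_kill₂ I hM m m
      obtain ⟨r, hr⟩ := exists_lift I hq n hn r'
      have hk' : ∀ a ∈ I ^ n, a • (c • m) = 0 :=
        fun a ha => by rw [smul_comm, hk a ha, smul_zero]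
      rw [g_eq I hq hM hn hr hk', g_eq I hq hM hn hr hk, smul_comm])

end aux

/-- Let R → R' be a homomorphism of commutative rings and I an ideal of R such that the induced map
R/I^n → R'/I^n R' is bijective for every n > 0. Then for every R-module M in which every element is
killed by a power of I, the map M → R' ⊗_R M sending m to 1 ⊗ m is bijective. -/
theorem result {R R' : Type u} [CommRing R] [CommRing R'] [Algebra R R']
    (I : Ideal R)
    (hq : ∀ n : ℕ, 0 < n → Function.Bijective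
      (Ideal.quotientMap (Ideal.map (algebraMap R R') (I ^ n)) (algebraMap R R') Ideal.le_comap_map))
    (M : Type u) [AddCommGroup M] [Module R M] (hM : LocCoh.IsPowerTorsion I M) :
    Function.Bijective (fun m : M => (1 : R') ⊗ₜ[R] m) := by
  constructor
  · have hleft : ∀ m : M, TensorProduct.lift (G I hq hM) ((1 : R') ⊗ₜ[R] m) = m := by
      intro m
      obtain ⟨n, hn, hk, -⟩ := exists_kill₂ I hM m m
      have h1 : algebraMap R R' 1 - (1 : R') ∈ Ideal.map (algebraMap R R') (I ^ n) := by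
        rw [map_one, sub_self]; exact Ideal.zero_mem _
      rw [TensorProduct.lift.tmul]
      show g I hq hM 1 m = m
      rw [g_eq I hq hM hn h1 hk, one_smul]
    intro m₁ m₂ h
    have h' : (1 : R') ⊗ₜ[R] m₁ = (1 : R') ⊗ₜ[R] m₂ := h
    calc m₁ = TensorProduct.lift (G I hq hM) ((1 : R') ⊗ₜ[R] m₁) := (hleft m₁).symm
      _ = TensorProduct.lift (G I hq hM) ((1 : R') ⊗ₜ[R] m₂) := by rw [h']
      _ = m₂ := hleft m₂
  · intro t
    induction t using TensorProduct.induction_on with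
    | zero => exact ⟨0, tmul_zero _ _⟩
    | tmul r' m =>
      obtain ⟨n, hn, hk, -⟩ := exists_kill₂ I hM m m
      obtain ⟨r, hr⟩ := exists_lift I hq n hn r'
      refine ⟨r • m, ?_⟩
      have h0 := tmul_eq_zero_of_mem_map I n _ hr m hk
      rw [sub_tmul, sub_eq_zero] at h0
      show (1 : R') ⊗ₜ[R] (r • m) = r' ⊗ₜ[R] m
      rw [← h0, Algebra.algebraMap_eq_smul_one, TensorProduct.smul_tmul]
    | add x y hx hy =>
      obtain ⟨a, ha⟩ := hx
      obtain ⟨b, hb⟩ := hy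
      refine ⟨a + b, ?_⟩
      show (1 : R') ⊗ₜ[R] (a + b) = x + y
      rw [tmul_add]
      exact congrArg₂ (· + ·) ha hb

end Groth.Agent.S7041
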