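import Groth.Statements.S7043
import Groth.Agent.H23.DCompMod2

set_option autoImplicit false
universe u
attribute [local instance] HasDerivedCategory.standard
open DRing

namespace Groth.Agent.S7043

/-- Let f be an element of a commutative ring A and let M be an A-module which, placed in degree 0, is
derived complete with respect to the ideal (f). Then the ideal J = ⋂ f^n A annihilates the submodule
⋂ f^n M, which is the kernel of M → lim M/f^n M. (The case M = A says that J has square zero when A
itself is derived complete.) -/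
theorem result {A : Type u} [CommRing A] (f : A)
    (M : Type u) [AddCommGroup M] [Module A M]
    (hc : DRing.IsDerivedComplete (Ideal.span {f}) (Dual.inD A M)) :
    (⨅ n : ℕ, Ideal.span {f ^ n}) • (⨅ n : ℕ, (Ideal.span {f ^ n}) • (⊤ : Submodule A M)) = (⊥ : Submodule A M) := by
  have hDC : Groth.Agent.H23.DComp.DCo (Groth.Agent.H23.DComp.Tf f) (ModuleCat.of A M) :=
    (Groth.Agent.H23.DComp.isDerivedComplete_iff _ _).1 hc f (Ideal.subset_span rfl)
  have hbij := (Groth.Agent.H23.DComp.seq_crit f).1 hDC
  rw [eq_bot_iff, Submodule.smul_le]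
  intro a ha x hx
  rw [Submodule.mem_bot]
  have ha' : ∀ n : ℕ, ∃ b : A, b * f ^ n = a := fun n =>
    Ideal.mem_span_singleton'.1 ((Ideal.mem_iInf.1 ha) n)
  choose as has using ha'
  have hx' : ∀ n : ℕ, ∃ y : M, f ^ n • y = x := by
    intro n
    have h1 := (Submodule.mem_iInf _).1 hx n
    rw [Submodule.ideal_span_singleton_smul] at h1
    obtain ⟨y, -, hy⟩ := (Submodule.mem_smul_pointwise_iff_exists _ _ _).1 h1
    exact ⟨y, hy⟩
  choose xs hxs using hx'
  have hm : (fun (m : ℕ → M) (i : ℕ) => f • m (i + 1) - m i) (fun i => as i • x) =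
      (fun (m : ℕ → M) (i : ℕ) => f • m (i + 1) - m i) (fun _ => (0 : M)) := by
    funext i
    show f • (as (i + 1) • x) - as i • x = f • (0 : M) - 0
    rw [smul_zero, sub_zero, smul_smul, ← sub_smul]
    have h2 : (f * as (i + 1) - as i) * f ^ i = 0 := by
      have e1 := has (i + 1)
      have e2 := has i
      rw [pow_succ] at e1
      calc (f * as (i + 1) - as i) * f ^ i = as (i + 1) * (f ^ i * f) - as i * f ^ i := by ring
        _ = 0 := by rw [e1, e2, sub_self]
    conv_lhs => rw [← hxs i]
    rw [smul_smul, h2, zero_smul]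
  have h3 := congrFun (@hbij.1 (fun i => as i • x) (fun _ => (0 : M)) hm) 0
  have h4 : as 0 = a := by
    have e0 := has 0
    rwa [pow_zero, mul_one] at e0
  have h5 : as 0 • x = 0 := h3
  rw [← h4]
  exact h5

end Groth.Agent.S7043
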