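import Groth.Statements.S7046
import Groth.Agent.H23.DCompMod4

set_option autoImplicit false
universe u
attribute [local instance] HasDerivedCategory.standard
open DRing

namespace Groth.Agent.S7046

/-- A reduced commutative ring A which, placed in degree 0 of D(A), is derived complete with respect to
a finitely generated ideal I is I-adically complete, i.e. separated and complete for the I-adic
topology. -/
theorem result {A : Type u} [CommRing A] [IsReduced A]
    (I : Ideal A) (hI : I.FG) (hc : DRing.IsDerivedComplete I (Dual.inD A A)) :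
    IsAdicComplete I A := by
  classical
  obtain ⟨s, rfl⟩ := hI
  have hP : ∀ f ∈ s, Groth.Agent.H23.DComp.P (A := A) A f := fun f hf =>
    Groth.Agent.H23.DComp.P_of_isDerivedComplete _ A hc f (Ideal.subset_span hf)
  have hprec : IsPrecomplete (Ideal.span (s : Set A)) A :=
    Groth.Agent.H23.DComp.isPrecomplete_of_Q (Groth.Agent.H23.DComp.Q_span_finset s hP)
  have hhaus : IsHausdorff (Ideal.span (s : Set A)) A := by
    refine ⟨fun x hx => ?_⟩
    have hxJ : x ∈ ⨅ n : ℕ, Ideal.span (s : Set A) ^ n := by
      rw [Ideal.mem_iInf]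
      intro n
      have h1 := SModEq.zero.1 (hx n)
      rwa [smul_eq_mul, Ideal.mul_top] at h1
    have h2 : x ^ (2 ^ s.card) ∈ (⨅ n : ℕ, Ideal.span (s : Set A) ^ n) ^ (2 ^ s.card) :=
      Ideal.pow_mem_pow hxJ _
    rw [Groth.Agent.H23.DComp.iInf_pow_eq_bot s hP, Ideal.mem_bot] at h2
    exact IsReduced.eq_zero _ ⟨_, h2⟩
  exact { toIsHausdorff := hhaus, toIsPrecomplete := hprec }

end Groth.Agent.S7046
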