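import Groth.Statements.S7048
import Groth.Agent.H23.DCompMod2

set_option autoImplicit false
universe u
attribute [local instance] HasDerivedCategory.standard
open DRing

namespace Groth.Agent.S7048

/-- For a commutative ring A, an ideal I and an A-module M which is I-adically complete, the object M[0]
of D(A) is derived complete with respect to I. -/
theorem result {A : Type u} [CommRing A] (I : Ideal A)
    (M : Type u) [AddCommGroup M] [Module A M] [IsAdicComplete I M] :
    DRing.IsDerivedComplete I (Dual.inD A M) := by
  rw [Groth.Agent.H23.DComp.isDerivedComplete_iff]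
  intro f hf
  show Groth.Agent.H23.DComp.DCo (Groth.Agent.H23.DComp.Tf f) (ModuleCat.of A M)
  rw [Groth.Agent.H23.DComp.seq_crit]
  have hH : IsHausdorff I M := inferInstance
  have hP : IsPrecomplete I M := inferInstance
  constructor
  · intro m m' hmm
    have hd : ∀ i, f • (m (i + 1) - m' (i + 1)) = m i - m' i := by
      intro i
      have h1 : f • m (i + 1) - m i = f • m' (i + 1) - m' i := congrFun hmm i
      rw [smul_sub]
      exact sub_eq_sub_iff_sub_eq_sub.2 h1
    have key : ∀ k i, m i - m' i = f ^ k • (m (i + k) - m' (i + k)) := by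
      intro k
      induction k with
      | zero => intro i; simp
      | succ k ih =>
        intro i
        rw [ih i, ← hd (i + k), smul_smul, ← pow_succ]
        rfl
    funext i
    apply sub_eq_zero.1
    apply hH.haus
    intro n
    rw [SModEq.zero, key n i]
    exact Submodule.smul_mem_smul (Ideal.pow_mem_pow hf n) Submodule.mem_top
  · intro c
    let s : ℕ → ℕ → M := fun i n => ∑ k ∈ Finset.range n, f ^ k • c (i + k)
    have hcauchy : ∀ i, ∀ {a b : ℕ}, a ≤ b →
        s i a ≡ s i b [SMOD (I ^ a • ⊤ : Submodule A M)] := by
      intro i a b hab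
      obtain ⟨j, rfl⟩ := Nat.exists_eq_add_of_le hab
      rw [SModEq.sub_mem]
      have e : s i a - s i (a + j) =
          -∑ k ∈ Finset.range j, f ^ (a + k) • c (i + (a + k)) := by
        simp only [s]
        rw [Finset.sum_range_add, sub_add_cancel_left]
      rw [e]
      apply Submodule.neg_mem
      apply Submodule.sum_mem
      intro k _
      exact Submodule.smul_mem_smul
        (Ideal.pow_le_pow_right (Nat.le_add_right a k) (Ideal.pow_mem_pow hf (a + k)))
        Submodule.mem_top
    have hex : ∀ i, ∃ L : M, ∀ n, s i n ≡ L [SMOD (I ^ n • ⊤ : Submodule A M)] :=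
      fun i => hP.prec (fun {a b} hab => hcauchy i hab)
    choose L hL using hex
    have hrec : ∀ i n, s i (n + 1) = c i + f • s (i + 1) n := by
      intro i n
      simp only [s]
      rw [Finset.sum_range_succ', Finset.smul_sum, pow_zero, one_smul, add_zero, add_comm]
      congr 1
      apply Finset.sum_congr rfl
      intro k _
      have e1 : i + (k + 1) = i + 1 + k := by omega
      rw [pow_succ', mul_smul, e1]
    have hLrec : ∀ i, L i = c i + f • L (i + 1) := by
      intro i
      apply sub_eq_zero.1
      apply hH.haus
      intro n
      rw [SModEq.zero]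
      have e : L i - (c i + f • L (i + 1)) =
          -(s i (n + 1) - L i) + f • (s (i + 1) n - L (i + 1)) := by
        rw [hrec i n, smul_sub]; abel
      rw [e]
      have h1 : s i (n + 1) - L i ∈ (I ^ n • ⊤ : Submodule A M) :=
        Submodule.smul_mono_left (Ideal.pow_le_pow_right (Nat.le_succ n))
          (SModEq.sub_mem.1 (hL i (n + 1)))
      have h2 : s (i + 1) n - L (i + 1) ∈ (I ^ n • ⊤ : Submodule A M) :=
        SModEq.sub_mem.1 (hL (i + 1) n)
      exact Submodule.add_mem _ (Submodule.neg_mem _ h1) (Submodule.smul_mem _ f h2)
    refine ⟨fun i => -L i, ?_⟩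
    funext i
    show f • (-L (i + 1)) - (-L i) = c i
    rw [hLrec i, smul_neg]
    abel

end Groth.Agent.S7048
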