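import Groth.Statements.S7052
import Groth.Agent.H23.DCompMod

set_option autoImplicit false
universe u
attribute [local instance] HasDerivedCategory.standard
open DRing

namespace Groth.Agent.S7052

/-- For a commutative ring A, an ideal I, an A-module M and a submodule M₁ such that both M₁ and M/M₁
(placed in degree 0) are derived complete with respect to I, the module M is derived complete with
respect to I. -/
theorem result {A : Type u} [CommRing A] (I : Ideal A)
    (M : Type u) [AddCommGroup M] [Module A M] (M₁ : Submodule A M)
    (h1 : DRing.IsDerivedComplete I (Dual.inD A M₁)) (h3 : DRing.IsDerivedComplete I (Dual.inD A (M ⧸ M₁))) :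
    DRing.IsDerivedComplete I (Dual.inD A M) := by
  rw [Groth.Agent.H23.DComp.isDerivedComplete_iff] at h1 h3 ⊢
  intro f hf
  let S : CategoryTheory.ShortComplex (ModuleCat.{u} A) :=
    CategoryTheory.ShortComplex.mk (ModuleCat.ofHom M₁.subtype) (ModuleCat.ofHom M₁.mkQ)
      (ModuleCat.hom_ext (LinearMap.ext (fun x => by
        show M₁.mkQ (M₁.subtype x) = 0
        simp)))
  have hS : S.ShortExact := by
    have hex : S.Exact := by
      rw [CategoryTheory.ShortComplex.moduleCat_exact_iff]
      intro x₂ hx₂
      have h : M₁.mkQ x₂ = 0 := hx₂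
      rw [Submodule.mkQ_apply, Submodule.Quotient.mk_eq_zero] at h
      exact ⟨⟨x₂, h⟩, rfl⟩
    have hm : CategoryTheory.Mono S.f :=
      (ModuleCat.mono_iff_injective _).2 M₁.injective_subtype
    have he : CategoryTheory.Epi S.g :=
      (ModuleCat.epi_iff_surjective _).2 M₁.mkQ_surjective
    exact CategoryTheory.ShortComplex.ShortExact.mk' hex hm he
  exact Groth.Agent.H23.DComp.DCo.ext hS (h1 f hf) (h3 f hf)

end Groth.Agent.S7052
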