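import Groth.Statements.S7053
import Groth.Agent.H23.DCompMod2

set_option autoImplicit false
universe u
attribute [local instance] HasDerivedCategory.standard
open DRing

namespace Groth.Agent.S7053

/-- For a commutative ring A, a finitely generated ideal I and an A-module M which, placed in degree 0
of D(A), is derived complete with respect to I, if IM = M then M = 0. -/
theorem result {A : Type u} [CommRing A] (I : Ideal A) (hI : I.FG)
    (M : Type u) [AddCommGroup M] [Module A M] (hc : DRing.IsDerivedComplete I (Dual.inD A M))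
    (h : I • (⊤ : Submodule A M) = ⊤) : Subsingleton M := by
  classical
  have hDC : ∀ f ∈ I, Groth.Agent.H23.DComp.DCo (Groth.Agent.H23.DComp.Tf f) (ModuleCat.of A M) :=
    (Groth.Agent.H23.DComp.isDerivedComplete_iff _ _).1 hc
  obtain ⟨s, rfl⟩ := hI
  have key : ∀ (s : Finset A) (M : Type u) [AddCommGroup M] [Module A M],
      (∀ f ∈ s, Groth.Agent.H23.DComp.DCo (Groth.Agent.H23.DComp.Tf f) (ModuleCat.of A M)) →
      Ideal.span (s : Set A) • (⊤ : Submodule A M) = ⊤ → Subsingleton M := by
    intro s
    refine Finset.induction_on s ?_ ?_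
    · intro M _ _ _ h0
      rw [Finset.coe_empty, Ideal.span_empty, Submodule.bot_smul] at h0
      refine subsingleton_of_forall_eq 0 (fun x => ?_)
      have hx : x ∈ (⊥ : Submodule A M) := by rw [h0]; exact Submodule.mem_top
      exact (Submodule.mem_bot A).1 hx
    · intro a s' ha ih M _ _ hDC' hspan
      let u : M →ₗ[A] M := LinearMap.lsmul A M a
      have hq : ∀ f ∈ s', Groth.Agent.H23.DComp.DCo (Groth.Agent.H23.DComp.Tf f)
          (ModuleCat.of A (M ⧸ LinearMap.range u)) := fun f hf =>
        Groth.Agent.H23.DComp.DCo.of_iso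
          (Groth.Agent.H23.DComp.DCo.ker_coker (Groth.Agent.H23.DComp.good_Tf f)
            (ModuleCat.ofHom u) (hDC' f (Finset.mem_insert_of_mem hf))
            (hDC' f (Finset.mem_insert_of_mem hf))).2
          (ModuleCat.cokernelIsoRangeQuotient (ModuleCat.ofHom u))
      have hspan' : Ideal.span (s' : Set A) • (⊤ : Submodule A (M ⧸ LinearMap.range u)) = ⊤ := by
        rw [eq_top_iff]
        intro y _
        obtain ⟨x, rfl⟩ := Submodule.mkQ_surjective _ y
        have hx : x ∈ Ideal.span ((insert a s' : Finset A) : Set A) • (⊤ : Submodule A M) := by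
          rw [hspan]; exact Submodule.mem_top
        rw [Finset.coe_insert, Ideal.span_insert, Submodule.sup_smul] at hx
        obtain ⟨y1, hy1, z, hz, rfl⟩ := Submodule.mem_sup.1 hx
        rw [Submodule.ideal_span_singleton_smul] at hy1
        obtain ⟨y0, -, rfl⟩ := (Submodule.mem_smul_pointwise_iff_exists _ _ _).1 hy1
        have e1 : (LinearMap.range u).mkQ (a • y0) = 0 := by
          rw [Submodule.mkQ_apply, Submodule.Quotient.mk_eq_zero]
          exact ⟨y0, rfl⟩
        rw [map_add, e1, zero_add]
        have h1 : (LinearMap.range u).mkQ z ∈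
            (Ideal.span (s' : Set A) • (⊤ : Submodule A M)).map (LinearMap.range u).mkQ :=
          Submodule.mem_map_of_mem hz
        rw [Submodule.map_smul''] at h1
        exact Submodule.smul_mono le_rfl le_top h1
      have hsub : Subsingleton (M ⧸ LinearMap.range u) := ih (M ⧸ LinearMap.range u) hq hspan'
      have hr : LinearMap.range u = ⊤ := Submodule.Quotient.subsingleton_iff.1 hsub
      have hsurj : ∀ x : M, ∃ y : M, a • y = x := fun x => by
        have hx : x ∈ LinearMap.range u := by rw [hr]; exact Submodule.mem_top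
        obtain ⟨y, hy⟩ := hx
        exact ⟨y, hy⟩
      choose g hg using hsurj
      have hbij := (Groth.Agent.H23.DComp.seq_crit a).1 (hDC' a (Finset.mem_insert_self a s'))
      refine subsingleton_of_forall_eq 0 (fun x0 => ?_)
      have hm : (fun (m : ℕ → M) (i : ℕ) => a • m (i + 1) - m i) (fun i => g^[i] x0) =
          (fun (m : ℕ → M) (i : ℕ) => a • m (i + 1) - m i) (fun _ => (0 : M)) := by
        funext i
        show a • g^[i + 1] x0 - g^[i] x0 = a • (0 : M) - 0
        rw [Function.iterate_succ_apply', hg, sub_self, smul_zero, sub_zero]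
      exact congrFun (@hbij.1 (fun i => g^[i] x0) (fun _ => (0 : M)) hm) 0
  exact key s M (fun f hf => hDC f (Ideal.subset_span hf)) h

end Groth.Agent.S7053
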