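import Groth.Statements.S7054
import Groth.Agent.H23.DCompMod2

set_option autoImplicit false
universe u
attribute [local instance] HasDerivedCategory.standard
open DRing

namespace Groth.Agent.S7054

/-- For a commutative ring A and an ideal I such that A, placed in degree 0, is derived complete with
respect to I, every object of D(A) isomorphic to a bounded above complex of finite free A-modules is
derived complete with respect to I. -/
theorem result {A : Type u} [CommRing A] (I : Ideal A)
    (hA : DRing.IsDerivedComplete I (Dual.inD A A)) (K : Dual.D A) (hK : DRing.IsPseudoCoherent' A K) :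
    DRing.IsDerivedComplete I K := by
  obtain ⟨E, b, hb, hfree, ⟨e⟩⟩ := hK
  rw [Groth.Agent.H23.DComp.isDerivedComplete_iff] at hA ⊢
  intro f hf
  refine Groth.Agent.H23.DComp.DC.of_iso ?_ e
  refine (Groth.Agent.H23.DComp.dc_iff (Groth.Agent.H23.DComp.good_Tf f) _).2 (fun i => ?_)
  refine Groth.Agent.H23.DComp.DCo.of_iso ?_
    ((DerivedCategory.homologyFunctorFactors (ModuleCat.{u} A) i).app E).symm
  have hX : ∀ j, Groth.Agent.H23.DComp.DCo (Groth.Agent.H23.DComp.Tf f) (E.X j) := fun j => by
    haveI := (hfree j).1
    haveI := (hfree j).2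
    exact Groth.Agent.H23.DComp.DCo_of_finite_free (hA f hf) (E.X j)
  exact Groth.Agent.H23.DComp.DCo.homology (Groth.Agent.H23.DComp.good_Tf f) (E.sc i)
    (hX _) (hX _) (hX _)

end Groth.Agent.S7054
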