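import Groth.Statements.S7057
import Groth.Agent.H23.DCompMod3

set_option autoImplicit false
universe u
attribute [local instance] HasDerivedCategory.standard
open DRing

namespace Groth.Agent.S7057

/-- For a homomorphism of commutative rings A → B, an ideal I of A and an object L of D(B), L is derived
complete with respect to the extended ideal IB if and only if L viewed in D(A) by restriction of
scalars is derived complete with respect to I. -/
theorem result {A B : Type u} [CommRing A] [CommRing B] (φ : A →+* B)
    (I : Ideal A) (L : Dual.D B) :
    DRing.IsDerivedComplete (I.map φ) L ↔ DRing.IsDerivedComplete I ((DRing.restrictD φ).obj L) := by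
  rw [Groth.Agent.H23.DComp.isDerivedComplete_iff, Groth.Agent.H23.DComp.isDerivedComplete_iff]
  constructor
  · intro h f hf
    exact (Groth.Agent.H23.DComp.dc_restrict_iff φ L f).2
      ((Groth.Agent.H23.DComp.dc_iff_P (φ f) L).1 (h (φ f) (Ideal.mem_map_of_mem φ hf)))
  · intro h g hg
    rw [Groth.Agent.H23.DComp.dc_iff_P]
    intro i
    have hle : I.map φ ≤ Groth.Agent.H23.DComp.JM (A := B) (Dual.HD B L i) := by
      rw [Ideal.map_le_iff_le_comap]
      intro f hf
      exact ((Groth.Agent.H23.DComp.dc_restrict_iff φ L f).1 (h f hf)) i
    exact hle hg

end Groth.Agent.S7057
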