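import Groth.Statements.S7062
import Groth.Agent.H13.TorOne

set_option autoImplicit false
universe u
open EtGlue

namespace Groth.Agent.S7062

/-- For a glueing pair (R → R', f), i.e. R/f^nR → R'/f^nR' is bijective for all n > 0 and the sequence 0
→ R → R' ⊕ R_f → R'_f → 0 is exact, the group Tor_1^R(R', f^n R) vanishes for every n > 0 (Tor
computed by resolving the second argument, the ideal f^n R). -/
theorem result {R R' : Type u} [CommRing R] [CommRing R'] [Algebra R R']
    (f : R) (h : EtGlue.IsGlueingPair R R' f) (n : ℕ) (hn : 0 < n) :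
    Subsingleton (DRing.Tor R 1 R' ↥(Ideal.span ({f ^ n} : Set R))) := by
  let J : Ideal R := Ideal.span ({f ^ n} : Set R)
  let g : R →ₗ[R] J := (LinearMap.toSpanSingleton R R (f ^ n)).codRestrict J (fun r => by
    show r • f ^ n ∈ J
    exact Ideal.mul_mem_left _ _ (Ideal.subset_span rfl))
  have hg : Function.Surjective g := by
    intro y
    obtain ⟨a, ha⟩ := Ideal.mem_span_singleton'.1 y.2
    exact ⟨a, Subtype.ext ha⟩
  exact Groth.Agent.H13.TorOne.subsingleton_tor_one_of_injective R' J (LinearMap.ker g).subtype g
    (Submodule.injective_subtype _) hg (LinearMap.exact_subtype_ker_map g)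
    (Groth.Agent.H13.TorOne.lTensor_subtype_injective f h (LinearMap.ker g) (fun k hk => ⟨n, by
      have h1 : (g k).1 = 0 := congrArg Subtype.val (LinearMap.mem_ker.1 hk)
      have h2 : (g k).1 = k * f ^ n := rfl
      rw [mul_comm, ← h2, h1]⟩))

end Groth.Agent.S7062
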