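import Groth.Statements.S7064
import Mathlib
import Groth.Agent.H13.TorOne

set_option autoImplicit false
universe u
open EtGlue

namespace Groth.Agent.S7064

section Helpers
open TensorProduct Groth.Agent.H13.TorOne

variable {R R' : Type u} [CommRing R] [CommRing R'] [Algebra R R'] (f : R)

theorem mod_inj (h1 : EtGlue.QuotPowBijective R R' f) (N : ℕ) (hN : 0 < N) (r : R) (c' : R')
    (hr : algebraMap R R' r = c' * algebraMap R R' (f ^ N)) : ∃ y : R, r = y * f ^ N := by
  have h0 : Ideal.Quotient.mk (Ideal.span {f ^ N}) r = 0 := by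
    apply (h1 N hN).1
    rw [Ideal.quotientMap_mk, map_zero, Ideal.Quotient.eq_zero_iff_mem, Ideal.map_span,
      Set.image_singleton, Ideal.mem_span_singleton']
    exact ⟨c', hr.symm⟩
  obtain ⟨y, hy⟩ := Ideal.mem_span_singleton'.mp (Ideal.Quotient.eq_zero_iff_mem.mp h0)
  exact ⟨y, hy.symm⟩

theorem tors_surj (h : EtGlue.IsGlueingPair R R' f) (N : ℕ) (x' : R')
    (hx : x' * algebraMap R R' (f ^ N) = 0) :
    ∃ t : R, algebraMap R R' t = x' ∧ t * f ^ N = 0 := by
  have h0 : algebraMap R' (Localization.Away (algebraMap R R' f)) x' = 0 := by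
    rw [IsLocalization.map_eq_zero_iff (Submonoid.powers (algebraMap R R' f))]
    refine ⟨⟨algebraMap R R' f ^ N, N, rfl⟩, ?_⟩
    show algebraMap R R' f ^ N * x' = 0
    rw [← map_pow, mul_comm]; exact hx
  obtain ⟨r, hr1, hr2⟩ := h.2.2.1 x' 0 (by rw [h0, map_zero])
  refine ⟨r, hr1, ?_⟩
  apply h.2.1
  show (algebraMap R R' (r * f ^ N), algebraMap R (Localization.Away f) (r * f ^ N)) =
    (algebraMap R R' 0, algebraMap R (Localization.Away f) 0)
  rw [map_mul, map_mul, hr1, hr2, hx, zero_mul, map_zero, map_zero]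

theorem key (h : EtGlue.IsGlueingPair R R' f) {B : Type u} (K : Submodule R (B →₀ R))
    (hK : ∀ b : B, ∃ n : ℕ, f ^ n • Finsupp.single b (1 : R) ∈ K) :
    Function.Injective (K.subtype.lTensor R') := by
  classical
  obtain ⟨κ, hκ⟩ : ∃ κ : ℕ → B → K, ∀ N b, f ^ N • Finsupp.single b (1 : R) ∈ K →
      (κ N b : B →₀ R) = f ^ N • Finsupp.single b 1 :=
    ⟨fun N b => if hb : f ^ N • Finsupp.single b (1 : R) ∈ K then ⟨_, hb⟩ else 0,
      fun N b hb => by simp only [dif_pos hb]⟩
  have hmono : ∀ n N b, n ≤ N → f ^ n • Finsupp.single b (1 : R) ∈ K →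
      f ^ N • Finsupp.single b (1 : R) ∈ K := by
    intro n N b hnN hb
    have : f ^ N • Finsupp.single b (1 : R) = f ^ (N - n) • (f ^ n • Finsupp.single b (1 : R)) := by
      rw [smul_smul, ← pow_add, Nat.sub_add_cancel hnN]
    rw [this]; exact K.smul_mem _ hb
  -- representation
  have rep : ∀ z : R' ⊗[R] K, ∃ (S : Finset B) (N₀ : ℕ),
      (∀ b ∈ S, f ^ N₀ • Finsupp.single b (1 : R) ∈ K) ∧
      ∀ N, N₀ ≤ N → ∃ (k₀ : K) (c' : B → R'), (∀ b, b ∉ S → (k₀ : B →₀ R) b = 0) ∧
        (∀ b, b ∉ S → c' b = 0) ∧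
        z = (1 : R') ⊗ₜ[R] k₀ + ∑ b ∈ S, c' b ⊗ₜ[R] κ N b := by
    intro z
    induction z using TensorProduct.induction_on with
    | zero =>
      refine ⟨∅, 0, by simp, fun N _ => ⟨0, 0, by simp, by simp, by simp⟩⟩
    | tmul r' k =>
      choose n hn using hK
      refine ⟨(k : B →₀ R).support, (k : B →₀ R).support.sup n + 1, ?_, ?_⟩
      · intro b hb
        exact hmono _ _ b (Nat.le_succ_of_le (Finset.le_sup hb)) (hn b)
      · intro N hN
        have hNpos : 0 < N := by omega
        have hmem : ∀ b ∈ (k : B →₀ R).support, f ^ N • Finsupp.single b (1 : R) ∈ K := by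
          intro b hb
          have := Finset.le_sup (f := n) hb
          exact hmono _ _ b (by omega) (hn b)
        obtain ⟨a, b', hab⟩ := exists_decomp f h.1 N hNpos r'
        refine ⟨a • k, fun b => (k : B →₀ R) b • b', ?_, ?_, ?_⟩
        · intro b hb
          have : (k : B →₀ R) b = 0 := Finsupp.notMem_support_iff.mp hb
          simp [this]
        · intro b hb
          have : (k : B →₀ R) b = 0 := Finsupp.notMem_support_iff.mp hb
          simp [this]
        · have hfk : f ^ N • k = ∑ b ∈ (k : B →₀ R).support, (k : B →₀ R) b • κ N b := by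
            apply Subtype.ext
            rw [Submodule.coe_smul, Submodule.coe_sum]
            have : ∀ b ∈ (k : B →₀ R).support, (((k : B →₀ R) b • κ N b : K) : B →₀ R) =
                f ^ N • Finsupp.single b ((k : B →₀ R) b) := by
              intro b hb
              rw [Submodule.coe_smul, hκ N b (hmem b hb), smul_comm, Finsupp.smul_single,
                smul_eq_mul, mul_one]
            rw [Finset.sum_congr rfl this, ← Finset.smul_sum]
            congr 1
            exact ((k : B →₀ R).sum_single).symm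
          have hb1 : b' * algebraMap R R' (f ^ N) = f ^ N • b' := by
            rw [Algebra.smul_def, mul_comm]
          rw [hab, add_tmul, hb1, smul_tmul, hfk, tmul_sum, Algebra.algebraMap_eq_smul_one,
            smul_tmul]
          congr 1
          refine Finset.sum_congr rfl fun b _ => ?_
          exact (smul_tmul _ _ _).symm
    | add z₁ z₂ h₁ h₂ =>
      obtain ⟨S₁, N₁, hS₁, H₁⟩ := h₁
      obtain ⟨S₂, N₂, hS₂, H₂⟩ := h₂
      refine ⟨S₁ ∪ S₂, max N₁ N₂, ?_, ?_⟩
      · intro b hb
        rcases Finset.mem_union.mp hb with hb | hb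
        · exact hmono _ _ b (le_max_left _ _) (hS₁ b hb)
        · exact hmono _ _ b (le_max_right _ _) (hS₂ b hb)
      · intro N hN
        obtain ⟨k₁, c₁, hk₁, hc₁, e₁⟩ := H₁ N (le_trans (le_max_left _ _) hN)
        obtain ⟨k₂, c₂, hk₂, hc₂, e₂⟩ := H₂ N (le_trans (le_max_right _ _) hN)
        refine ⟨k₁ + k₂, c₁ + c₂, ?_, ?_, ?_⟩
        · intro b hb
          have hb1 : b ∉ S₁ := fun h => hb (Finset.mem_union_left _ h)
          have hb2 : b ∉ S₂ := fun h => hb (Finset.mem_union_right _ h)
          rw [Submodule.coe_add, Finsupp.add_apply, hk₁ b hb1, hk₂ b hb2, add_zero]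
        · intro b hb
          have hb1 : b ∉ S₁ := fun h => hb (Finset.mem_union_left _ h)
          have hb2 : b ∉ S₂ := fun h => hb (Finset.mem_union_right _ h)
          rw [Pi.add_apply, hc₁ b hb1, hc₂ b hb2, add_zero]
        · have s₁ : ∑ b ∈ S₁, c₁ b ⊗ₜ[R] κ N b = ∑ b ∈ S₁ ∪ S₂, c₁ b ⊗ₜ[R] κ N b :=
            Finset.sum_subset Finset.subset_union_left
              (fun b _ hb => by rw [hc₁ b hb, zero_tmul])
          have s₂ : ∑ b ∈ S₂, c₂ b ⊗ₜ[R] κ N b = ∑ b ∈ S₁ ∪ S₂, c₂ b ⊗ₜ[R] κ N b :=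
            Finset.sum_subset Finset.subset_union_right
              (fun b _ hb => by rw [hc₂ b hb, zero_tmul])
          rw [e₁, e₂, s₁, s₂, tmul_add]
          simp only [Pi.add_apply, add_tmul, Finset.sum_add_distrib]
          abel
  -- coordinates
  obtain ⟨co, co_tmul, co_zero⟩ : ∃ co : B → (R' ⊗[R] K →ₗ[R] R'),
      (∀ b (r' : R') (k : K), co b (r' ⊗ₜ k) = (k : B →₀ R) b • r') ∧
      (∀ b z, K.subtype.lTensor R' z = 0 → co b z = 0) := by
    refine ⟨fun b => (Finsupp.lapply b) ∘ₗ
      (TensorProduct.finsuppScalarRight R R R' B).toLinearMap ∘ₗ (K.subtype.lTensor R'), ?_, ?_⟩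
    · intro b r' k
      simp [TensorProduct.finsuppScalarRight_apply_tmul_apply]
    · intro b z hz
      simp only [LinearMap.comp_apply, hz, map_zero]
  rw [injective_iff_map_eq_zero]
  intro z hz
  obtain ⟨S, N₀, hS, H⟩ := rep z
  obtain ⟨N, hN0, hNpos⟩ : ∃ N, N₀ ≤ N ∧ 0 < N := ⟨max N₀ 1, le_max_left _ _, by omega⟩
  obtain ⟨k₀, c', hk₀, hc', ez⟩ := H N hN0
  have hSN : ∀ b ∈ S, f ^ N • Finsupp.single b (1 : R) ∈ K :=
    fun b hb => hmono _ _ b hN0 (hS b hb)
  have hcoord : ∀ b, algebraMap R R' ((k₀ : B →₀ R) b) + f ^ N • c' b = 0 := by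
    intro b
    have hb0 := co_zero b z hz
    rw [ez, map_add, map_sum, co_tmul] at hb0
    by_cases hb : b ∈ S
    · rw [Finset.sum_eq_single b] at hb0
      · rw [co_tmul, hκ N b (hSN b hb)] at hb0
        simpa [Algebra.algebraMap_eq_smul_one] using hb0
      · intro b' hb' hne
        rw [co_tmul, hκ N b' (hSN b' hb')]
        simp [Finsupp.single_apply, hne]
      · intro hb'; exact absurd hb hb'
    · rw [Finset.sum_eq_zero] at hb0
      · rw [hc' b hb, smul_zero, add_zero]
        simpa [Algebra.algebraMap_eq_smul_one] using hb0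
      · intro b' hb'
        have hne : b' ≠ b := fun hbb => hb (hbb ▸ hb')
        rw [co_tmul, hκ N b' (hSN b' hb')]
        simp [Finsupp.single_apply, hne]
  have hy : ∀ b, ∃ y : R, (k₀ : B →₀ R) b = y * f ^ N := by
    intro b
    refine mod_inj f h.1 N hNpos _ (- c' b) ?_
    have := hcoord b
    rw [Algebra.smul_def, mul_comm] at this
    rw [neg_mul]; exact eq_neg_of_add_eq_zero_left this
  choose y hy using hy
  have ht : ∀ b, ∃ t : R, algebraMap R R' t = algebraMap R R' (y b) + c' b ∧ t * f ^ N = 0 := by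
    intro b
    apply tors_surj f h N
    have := hcoord b
    rw [hy b, map_mul, Algebra.smul_def, mul_comm _ (c' b)] at this
    rw [add_mul]; exact this
  choose t ht1 ht2 using ht
  have hk₀' : k₀ = ∑ b ∈ S, y b • κ N b := by
    apply Subtype.ext
    rw [Submodule.coe_sum]
    have : ∀ b ∈ S, ((y b • κ N b : K) : B →₀ R) = Finsupp.single b ((k₀ : B →₀ R) b) := by
      intro b hb
      rw [Submodule.coe_smul, hκ N b (hSN b hb), smul_smul, Finsupp.smul_single, smul_eq_mul,
        mul_one, hy b]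
    rw [Finset.sum_congr rfl this]
    ext b
    rw [Finsupp.finset_sum_apply]
    by_cases hb : b ∈ S
    · rw [Finset.sum_eq_single b]
      · simp
      · intro b' _ hne
        simp [Finsupp.single_apply, hne]
      · intro hb'; exact absurd hb hb'
    · rw [hk₀ b hb, Finset.sum_eq_zero]
      intro b' hb'
      have hne : b' ≠ b := fun hbb => hb (hbb ▸ hb')
      simp [Finsupp.single_apply, hne]
  rw [ez, hk₀', tmul_sum, ← Finset.sum_add_distrib]
  refine Finset.sum_eq_zero fun b hb => ?_
  have hκ0 : t b • κ N b = 0 := by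
    apply Subtype.ext
    rw [Submodule.coe_smul, hκ N b (hSN b hb), smul_smul, ht2 b, zero_smul]; rfl
  rw [← smul_tmul, ← add_tmul, ← Algebra.algebraMap_eq_smul_one, ← ht1 b,
    Algebra.algebraMap_eq_smul_one, smul_tmul, hκ0, tmul_zero]

/-- For a glueing pair, `Tor₁(R', N) = 0` for every `f`-power torsion module `N`. -/
theorem tor_one_torsion (h : EtGlue.IsGlueingPair R R' f) (N : Type u) [AddCommGroup N]
    [Module R N] (hN : ∀ x : N, ∃ n : ℕ, f ^ n • x = 0) :
    Subsingleton (DRing.Tor R 1 R' N) := by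
  obtain ⟨π, hπdef⟩ : ∃ π : (N →₀ R) →ₗ[R] N, ∀ x, π (Finsupp.single x 1) = x :=
    ⟨Finsupp.linearCombination R (id : N → N), fun x => by simp⟩
  have hπ : Function.Surjective π := fun x => ⟨Finsupp.single x 1, hπdef x⟩
  have hinj : Function.Injective ((LinearMap.ker π).subtype.lTensor R') := by
    apply key f h
    intro b
    obtain ⟨n, hn⟩ := hN b
    refine ⟨n, ?_⟩
    rw [LinearMap.mem_ker, map_smul, hπdef]
    exact hn
  refine subsingleton_tor_one_of_injective R' N (K := LinearMap.ker π) (F := N →₀ R)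
    (LinearMap.ker π).subtype π (Submodule.injective_subtype _) hπ
    (LinearMap.exact_subtype_ker_map _) ?_
  exact hinj

end Helpers


/-- For a glueing pair (R → R', f) and any R-module M, the group Tor_1^R(R', Coker(M → M_f)) vanishes,
where M_f is the localization of M at the powers of f (Tor computed by resolving the second
argument). -/
theorem result {R R' : Type u} [CommRing R] [CommRing R']
    [Algebra R R'] (f : R) (h : EtGlue.IsGlueingPair R R' f) (M : Type u) [AddCommGroup M] [Module R M] :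
    Subsingleton (DRing.Tor R 1 R'
      (LocalizedModule (Submonoid.powers f) M ⧸
        LinearMap.range (LocalizedModule.mkLinearMap (Submonoid.powers f) M))) := by
  apply tor_one_torsion f h
  intro x
  obtain ⟨y, rfl⟩ := Submodule.Quotient.mk_surjective _ x
  obtain ⟨⟨m, s⟩, hms⟩ := IsLocalizedModule.surj (Submonoid.powers f)
    (LocalizedModule.mkLinearMap (Submonoid.powers f) M) y
  obtain ⟨n, hn⟩ := s.2
  have hn' : f ^ n = (s : R) := hn
  refine ⟨n, ?_⟩
  rw [← Submodule.Quotient.mk_smul, Submodule.Quotient.mk_eq_zero]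
  refine ⟨m, ?_⟩
  rw [← hms, hn']
  rfl

end Groth.Agent.S7064
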