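import Groth.Statements.S7065
import Mathlib

set_option autoImplicit false
universe u
open EtGlue

namespace Groth.Agent.S7065

/-- Let R → R' be a homomorphism of commutative rings and f an element of R such that the induced map
R/fR → R'/fR' is bijective. Then Spec(R') ⊔ Spec(R_f) → Spec(R) is surjective: every prime of R is
the contraction of a prime of R' or of a prime of R_f. -/
theorem result {R R' : Type u} [CommRing R] [CommRing R']
    [Algebra R R'] (f : R)
    (hq : Function.Bijective
      (Ideal.quotientMap (Ideal.map (algebraMap R R') (Ideal.span {f})) (algebraMap R R') Ideal.le_comap_map))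
    (p : PrimeSpectrum R) :
    (∃ q : PrimeSpectrum R', PrimeSpectrum.comap (algebraMap R R') q = p) ∨
      ∃ q : PrimeSpectrum (Localization.Away f), PrimeSpectrum.comap (algebraMap R (Localization.Away f)) q = p := by
  by_cases hf : f ∈ p.asIdeal
  · left
    have hIp : Ideal.span {f} ≤ p.asIdeal := (Ideal.span_singleton_le_iff_mem _).2 hf
    let e : (R ⧸ Ideal.span {f}) ≃+* (R' ⧸ Ideal.map (algebraMap R R') (Ideal.span {f})) :=
      RingEquiv.ofBijective _ hq
    let pbar : Ideal (R ⧸ Ideal.span {f}) := p.asIdeal.map (Ideal.Quotient.mk (Ideal.span {f}))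
    have hpbar : pbar.IsPrime :=
      Ideal.map_isPrime_of_surjective Ideal.Quotient.mk_surjective (by rwa [Ideal.mk_ker])
    let q : Ideal R' := (pbar.comap (e.symm : _ →+* (R ⧸ Ideal.span {f}))).comap
      (Ideal.Quotient.mk (Ideal.map (algebraMap R R') (Ideal.span {f})))
    have hq' : q.IsPrime := inferInstance
    refine ⟨⟨q, hq'⟩, ?_⟩
    ext r
    have h1 : e.symm (Ideal.Quotient.mk (Ideal.map (algebraMap R R') (Ideal.span {f})) (algebraMap R R' r))
        = Ideal.Quotient.mk (Ideal.span {f}) r := by
      rw [RingEquiv.symm_apply_eq]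
      simp [e]
    show algebraMap R R' r ∈ q ↔ r ∈ p.asIdeal
    simp only [q, Ideal.mem_comap, RingEquiv.coe_toRingHom, h1, pbar]
    rw [Ideal.mem_map_iff_of_surjective _ Ideal.Quotient.mk_surjective]
    constructor
    · rintro ⟨x, hx, hxr⟩
      have : x - r ∈ Ideal.span {f} := by
        rw [← Ideal.Quotient.eq]; exact hxr
      have : r = x - (x - r) := by ring
      rw [this]
      exact Ideal.sub_mem _ hx (hIp ‹_›)
    · intro hr
      exact ⟨r, hr, rfl⟩
  · right
    have : p ∈ Set.range (PrimeSpectrum.comap (algebraMap R (Localization.Away f))) := by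
      rw [PrimeSpectrum.localization_away_comap_range (Localization.Away f) f]
      exact hf
    exact this

end Groth.Agent.S7065
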