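import Groth.Statements.S7071
import Groth.Agent.Lib.Helper6.PCm12

set_option autoImplicit false
universe u
attribute [local instance] HasDerivedCategory.standard
open DerCA

namespace Groth.Agent.S7071

/-- Let R → A be a pseudo-coherent homomorphism of commutative rings, m an integer and K an object of
D(A). Then the object K is m-pseudo-coherent as an object of D(A) exactly when, relative to R, it is
m-pseudo-coherent. -/
theorem result (R A : Type u) [CommRing R] [CommRing A]
    [Algebra R A] (hRA : MoreMor.IsPseudoCoherentHom R A) (m : ℤ) (K : Dual.D A) :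
    DerCA.IsRelPseudoCoherent R A m K ↔ DRing.IsPseudoCoherent A m K := by
  obtain ⟨n₀, φ₀, hφ₀, hpc⟩ := hRA
  have HB : Groth.Agent.Helper6.PCm.ResPC (φ₀ : MvPolynomial (Fin n₀) R →+* A) := by
    intro k
    letI := φ₀.toRingHom.toAlgebra
    have h1 : Groth.Agent.Helper6.PCm.IsPC k (Dual.inD (MvPolynomial (Fin n₀) R) A) :=
      (Groth.Agent.Helper6.PCm.forall_isPC_iff_rep _).2 hpc k
    let e : A ≃ₗ[MvPolynomial (Fin n₀) R]
        ((ModuleCat.restrictScalars.{u} (φ₀ : MvPolynomial (Fin n₀) R →+* A)).obj
          (ModuleCat.of A A)) :=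
      { toFun := fun x => x
        invFun := fun x => x
        map_add' := fun _ _ => rfl
        map_smul' := fun _ _ => rfl
        left_inv := fun _ => rfl
        right_inv := fun _ => rfl }
    exact Groth.Agent.Helper6.PCm.isPC_of_iso
      ((DerivedCategory.singleFunctor (ModuleCat.{u} (MvPolynomial (Fin n₀) R)) 0).mapIso
        e.toModuleIso) h1
  have key := Groth.Agent.Helper6.PCm.isPC_resD_iff
    (φ₀ : MvPolynomial (Fin n₀) R →+* A) HB K m
  have key2 := Groth.Agent.Helper6.PCm.relPC_iff φ₀ hφ₀ m K
  exact key2.trans key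

end Groth.Agent.S7071
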