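import Groth.Statements.S7073
import Groth.Agent.Lib.Helper6.PCm8

set_option autoImplicit false
universe u
attribute [local instance] HasDerivedCategory.standard
open Dual2

namespace Groth.Agent.S7073

/-- For a flat homomorphism of finite presentation R → A of commutative rings, every perfect object of
D(A) is R-perfect, i.e. pseudo-coherent over A and of finite tor dimension as a complex of
R-modules. -/
theorem result (R A : Type u) [CommRing R] [CommRing A] [Algebra R A]
    [Module.Flat R A] [Algebra.FinitePresentation R A] (K : Dual.D A) (hK : DRing.IsPerfect A K) :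
    Dual2.IsRelPerfect R A K := by
  have flat_restrict : ∀ (M : ModuleCat.{u} A), Module.Flat A M →
      Module.Flat R ((ModuleCat.restrictScalars.{u} (algebraMap R A)).obj M) := by
    intro M hM
    letI : Module R M := Module.compHom M (algebraMap R A)
    haveI : IsScalarTower R A M := IsScalarTower.of_algebraMap_smul (fun r x => rfl)
    exact Module.Flat.trans R A M
  obtain ⟨E, a, b, hE0, hE, ⟨e⟩⟩ := hK
  refine ⟨?_, ?_⟩
  · exact (Groth.Agent.Helper6.PCm.forall_isPC_iff_rep K).1
      (fun m => Groth.Agent.Helper6.PCm.isPC_of_bddAbove_projective_rep m E b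
        (fun i hi => hE0 i (Or.inr hi)) hE e)
  · refine ⟨a, b, ((ModuleCat.restrictScalars.{u} (algebraMap R A)).mapHomologicalComplex
      (ComplexShape.up ℤ)).obj E, ?_, ?_, ⟨?_⟩⟩
    · intro i hi
      exact CategoryTheory.Functor.map_isZero (ModuleCat.restrictScalars.{u} (algebraMap R A)) (hE0 i hi)
    · intro i
      haveI := (hE i).2
      exact flat_restrict (E.X i) Module.Flat.of_projective
    · exact ((ModuleCat.restrictScalars.{u} (algebraMap R A)).mapDerivedCategoryFactors.app
        E).symm ≪≫ (DRing.restrictD (algebraMap R A)).mapIso e

end Groth.Agent.S7073
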