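import Groth.Statements.S7078
import Groth.Agent.Lib.Helper6.TwoTermRep

set_option autoImplicit false
universe u
attribute [local instance] HasDerivedCategory.standard
open CategoryTheory
open DRing

namespace Groth.Agent.S7078

/-- For a commutative ring R and an object K of D(R) whose cohomology modules vanish outside degrees -1
and 0, K is represented by a two-term complex K^{-1} → K^0 with K^0 a free R-module. -/
theorem result {R : Type u} [CommRing R] (K : Dual.D R)
    (hK : ∀ i : ℤ, i ≠ -1 → i ≠ 0 → Subsingleton (Dual.HD R K i)) :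
    ∃ E : DRing.Cx R, DRing.VanishesOutside E (-1) 0 ∧ Module.Free R (E.X 0) ∧ Nonempty (DRing.toD E ≅ K) := by
  have hK0 : ∀ i : ℤ, i ≠ -1 → i ≠ 0 →
      Limits.IsZero ((DerivedCategory.homologyFunctor (ModuleCat.{u} R) i).obj K) := by
    intro i h1 h2
    haveI := hK i h1 h2
    exact ModuleCat.isZero_of_subsingleton _
  obtain ⟨L, hL, ⟨eL⟩⟩ := Groth.Agent.Helper6.TwoTermRep.exists_twoTerm K hK0
  obtain ⟨F, hF⟩ : ∃ F : ModuleCat.{u} R, F = ModuleCat.of R (L.X 0 →₀ R) := ⟨_, rfl⟩
  have hFree : Module.Free R F := by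
    subst hF
    exact Module.Free.finsupp R R _
  obtain ⟨p, hp0⟩ : ∃ p : F ⟶ L.X 0, Epi p := by
    subst hF
    exact ⟨ModuleCat.ofHom (Finsupp.linearCombination R id),
      (ModuleCat.epi_iff_surjective _).2 (Finsupp.linearCombination_id_surjective R _)⟩
  haveI := hp0
  have hp : Epi (Limits.biprod.desc p (L.d (-1) 0)) :=
    epi_of_epi_fac (Limits.biprod.inl_desc p (L.d (-1) 0))
  obtain ⟨E, e0, hE, ⟨e⟩⟩ := Groth.Agent.Helper6.TwoTermRep.exists_twoTerm_of_epi L hL p hp
  refine ⟨E, fun i hi => hE i (by omega) (by omega), ?_, ⟨e ≪≫ eL⟩⟩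
  exact Module.Free.of_equiv e0.symm.toLinearEquiv

end Groth.Agent.S7078
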