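import Groth.Statements.S7077
import Groth.Agent.S7078
import Groth.Agent.S7106
import Groth.Agent.Lib.Helper6.TwoTermSplit

set_option autoImplicit false
universe u
attribute [local instance] HasDerivedCategory.standard
open CategoryTheory
open DRing

namespace Groth.Agent.S7077

/-- (1)⇔(2): let R be a commutative ring and K an object of D(R) whose cohomology modules vanish outside
degrees -1 and 0. Then H^{-1}(K) vanishes and H^0(K) is a projective R-module if and only if
Ext^1_R(K, M) = Hom_{D(R)}(K, M[1]) vanishes for every R-module M. -/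
theorem result {R : Type u} [CommRing R] (K : Dual.D R)
    (hK : ∀ i : ℤ, i ≠ -1 → i ≠ 0 → Subsingleton (Dual.HD R K i)) :
    (Subsingleton (Dual.HD R K (-1)) ∧ Module.Projective R (Dual.HD R K 0)) ↔
      ∀ (M : Type u) [AddCommGroup M] [Module R M], Subsingleton (K ⟶ (Dual.inD R M)⟦(1 : ℤ)⟧) := by
  obtain ⟨E, hE, hfree, ⟨e⟩⟩ := Groth.Agent.S7078.result K hK
  haveI := hfree
  have hproj : Module.Projective R (E.X 0) := inferInstance
  haveI : Projective (E.X 0) := ModuleCat.projective_of_categoryTheory_projective (E.X 0)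
  have hM : ∀ i : ℤ, 0 < i → Limits.IsZero (E.X i) := fun i hi => hE i (Or.inr hi)
  have hK' : ∀ i : ℤ, i ≠ -1 → i ≠ 0 → Limits.IsZero (E.X i) := fun i h1 h0 => hE i (by omega)
  have h7106 := Groth.Agent.S7106.result E E hM hproj hK' hproj (𝟙 E)
  have hsplit := Groth.Agent.Helper6.TwoTermSplit.retraction_iff E hK'
  have iso : ∀ i : ℤ, E.homology i ≅
      (DerivedCategory.homologyFunctor (ModuleCat.{u} R) i).obj K := fun i =>
    ((DerivedCategory.homologyFunctorFactors (ModuleCat.{u} R) i).app E).symm ≪≫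
      (DerivedCategory.homologyFunctor (ModuleCat.{u} R) i).mapIso e
  have hA : (∀ (M : Type u) [AddCommGroup M] [Module R M],
      Subsingleton (K ⟶ (Dual.inD R M)⟦(1 : ℤ)⟧)) ↔
      ∃ r : E.X 0 ⟶ E.X (-1), E.d (-1) 0 ≫ r = 𝟙 _ := by
    constructor
    · intro H
      obtain ⟨h, hh⟩ := h7106.1 (fun N _ _ ξ => by
        haveI := H N
        rw [CategoryTheory.Functor.map_id, Category.id_comp]
        have : e.inv ≫ ξ = 0 := Subsingleton.elim _ _
        rw [← cancel_epi e.inv, this, Limits.comp_zero])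
      rw [HomologicalComplex.id_f] at hh
      exact ⟨-h, by rw [Preadditive.comp_neg]; exact neg_eq_of_add_eq_zero_left hh⟩
    · rintro ⟨r, hr⟩ M _ _
      refine ⟨fun ξ₁ ξ₂ => ?_⟩
      have h0 : ∀ ξ : K ⟶ (Dual.inD R M)⟦(1 : ℤ)⟧, ξ = 0 := by
        intro ξ
        have := h7106.2 ⟨-r, by
          rw [HomologicalComplex.id_f, Preadditive.comp_neg, hr, add_neg_cancel]⟩ M (e.hom ≫ ξ)
        rw [CategoryTheory.Functor.map_id, Category.id_comp] at this
        rw [← cancel_epi e.hom, this, Limits.comp_zero]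
      rw [h0 ξ₁, h0 ξ₂]
  refine Iff.trans ?_ hA.symm
  refine Iff.trans ?_ hsplit.symm
  constructor
  · rintro ⟨h1, h2⟩
    refine ⟨?_, ?_⟩
    · haveI := h1
      exact (ModuleCat.isZero_of_subsingleton _).of_iso (iso (-1))
    · haveI := h2
      exact Projective.of_iso (iso 0).symm (ModuleCat.projective_of_categoryTheory_projective _)
  · rintro ⟨h1, h2⟩
    refine ⟨?_, ?_⟩
    · exact ModuleCat.subsingleton_of_isZero (h1.of_iso (iso (-1)).symm)
    · haveI : Projective ((DerivedCategory.homologyFunctor (ModuleCat.{u} R) 0).obj K) :=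
        Projective.of_iso (iso 0) h2
      exact ModuleCat.projective_of_module_projective _

end Groth.Agent.S7077
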