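import Groth.Statements.S7079
import Groth.Agent.Lib.Helper6.TwoTermRep

set_option autoImplicit false
universe u
attribute [local instance] HasDerivedCategory.standard
open CategoryTheory
open DRing

namespace Groth.Agent.S7079

/-- For a Noetherian commutative ring R and an object K of D(R) whose cohomology modules vanish outside
degrees -1 and 0 and are finite modules in those two degrees, K is represented by a two-term complex
K^{-1} → K^0 with K^0 finite free and K^{-1} finite. -/
theorem result {R : Type u} [CommRing R] [IsNoetherianRing R] (K : Dual.D R)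
    (hK : ∀ i : ℤ, i ≠ -1 → i ≠ 0 → Subsingleton (Dual.HD R K i))
    (h1 : Module.Finite R (Dual.HD R K (-1))) (h0 : Module.Finite R (Dual.HD R K 0)) :
    ∃ E : DRing.Cx R, DRing.VanishesOutside E (-1) 0 ∧ Module.Free R (E.X 0) ∧ Module.Finite R (E.X 0) ∧
      Module.Finite R (E.X (-1)) ∧ Nonempty (DRing.toD E ≅ K) := by
  have hK0 : ∀ i : ℤ, i ≠ -1 → i ≠ 0 →
      Limits.IsZero ((DerivedCategory.homologyFunctor (ModuleCat.{u} R) i).obj K) := by
    intro i h1 h2
    haveI := hK i h1 h2
    exact ModuleCat.isZero_of_subsingleton _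
  obtain ⟨L, hL, ⟨eL⟩⟩ := Groth.Agent.Helper6.TwoTermRep.exists_twoTerm K hK0
  have isoL : L.homology 0 ≅ (DerivedCategory.homologyFunctor (ModuleCat.{u} R) 0).obj K :=
    ((DerivedCategory.homologyFunctorFactors (ModuleCat.{u} R) 0).app L).symm ≪≫
      (DerivedCategory.homologyFunctor (ModuleCat.{u} R) 0).mapIso eL
  have h01 : L.d 0 1 = 0 := (hL 1 (by norm_num) (by norm_num)).eq_of_tgt _ _
  have jL : L.homology 0 ≅ L.opcycles 0 := L.isoHomologyι 0 1 (by simp) h01
  haveI : Module.Finite R (L.opcycles 0) :=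
    Module.Finite.equiv (isoL.symm ≪≫ jL).toLinearEquiv
  have hq := L.opcyclesIsCokernel (-1) 0 (by simp)
  have hqs : Function.Surjective (L.pOpcycles 0).hom :=
    (ModuleCat.epi_iff_surjective (L.pOpcycles 0)).1 inferInstance
  obtain ⟨n, g, hg⟩ := Module.Finite.exists_fin (R := R) (M := L.opcycles 0)
  choose t ht using fun i => hqs (g i)
  obtain ⟨F, hF⟩ : ∃ F : ModuleCat.{u} R, F = ModuleCat.of R (Fin n → R) := ⟨_, rfl⟩
  have hFree : Module.Free R F := by
    subst hF
    infer_instance
  have hFin : Module.Finite R F := by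
    subst hF
    infer_instance
  obtain ⟨p, hpq⟩ : ∃ p : F ⟶ L.X 0, Epi (p ≫ L.pOpcycles 0) := by
    subst hF
    refine ⟨ModuleCat.ofHom (Fintype.linearCombination R t), ?_⟩
    rw [ModuleCat.epi_iff_surjective]
    intro y
    have hy : y ∈ LinearMap.range (Fintype.linearCombination R g) := by
      rw [Fintype.range_linearCombination, hg]
      exact Submodule.mem_top
    obtain ⟨c, hc⟩ := hy
    refine ⟨c, ?_⟩
    rw [← hc]
    simp only [ModuleCat.hom_comp, ModuleCat.hom_ofHom, LinearMap.comp_apply,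
      Fintype.linearCombination_apply, map_sum, map_smul, ht]
  haveI := hpq
  have hp : Epi (Limits.biprod.desc p (L.d (-1) 0)) := by
    apply Preadditive.epi_of_cancel_zero
    intro T c hc
    have h1 : p ≫ c = 0 := by
      rw [← Limits.biprod.inl_desc p (L.d (-1) 0), Category.assoc, hc, Limits.comp_zero]
    have h2 : L.d (-1) 0 ≫ c = 0 := by
      rw [← Limits.biprod.inr_desc p (L.d (-1) 0), Category.assoc, hc, Limits.comp_zero]
    obtain ⟨c', hc'⟩ : ∃ c' : L.opcycles 0 ⟶ T, L.pOpcycles 0 ≫ c' = c := by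
      obtain ⟨c', hc'⟩ := Limits.CokernelCofork.IsColimit.desc' hq _ h2
      exact ⟨c', hc'⟩
    have : c' = 0 := by
      rw [← cancel_epi (p ≫ L.pOpcycles 0), Category.assoc, hc', h1, Limits.comp_zero]
    rw [← hc', this, Limits.comp_zero]
  obtain ⟨E, e0, hE, ⟨e⟩⟩ := Groth.Agent.Helper6.TwoTermRep.exists_twoTerm_of_epi L hL p hp
  haveI hFreeE : Module.Free R (E.X 0) := Module.Free.of_equiv e0.symm.toLinearEquiv
  haveI hFinE : Module.Finite R (E.X 0) := Module.Finite.equiv e0.symm.toLinearEquiv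
  have isoE : E.homology (-1) ≅ (DerivedCategory.homologyFunctor (ModuleCat.{u} R) (-1)).obj K :=
    ((DerivedCategory.homologyFunctorFactors (ModuleCat.{u} R) (-1)).app E).symm ≪≫
      (DerivedCategory.homologyFunctor (ModuleCat.{u} R) (-1)).mapIso (e ≪≫ eL)
  have hd : E.d (-2) (-1) = 0 := (hE (-2) (by norm_num) (by norm_num)).eq_of_src _ _
  have cyc : E.cycles (-1) ≅ E.homology (-1) := E.isoHomologyπ (-2) (-1) (by simp) hd
  have hk2 : Limits.IsLimit (Limits.KernelFork.ofι (Limits.kernel.ι (E.d (-1) 0))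
      (Limits.kernel.condition _)) := Limits.kernelIsKernel _
  have ker0 := (E.cyclesIsKernel (-1) 0 (by simp)).conePointUniqueUpToIso hk2
  have ker : E.cycles (-1) ≅ Limits.kernel (E.d (-1) 0) := ker0
  have kk := ModuleCat.kernelIsoKer (E.d (-1) 0)
  haveI : Module.Finite R (LinearMap.ker (E.d (-1) 0).hom) :=
    Module.Finite.equiv (isoE.symm ≪≫ cyc.symm ≪≫ ker ≪≫ kk).toLinearEquiv
  haveI : IsNoetherian R (E.X 0) := isNoetherian_of_isNoetherianRing_of_finite R _
  haveI : IsNoetherian R (LinearMap.ker (E.d (-1) 0).hom) :=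
    isNoetherian_of_isNoetherianRing_of_finite R _
  haveI : IsNoetherian R (E.X (-1)) :=
    isNoetherian_of_range_eq_ker (LinearMap.ker (E.d (-1) 0).hom).subtype (E.d (-1) 0).hom
      (Submodule.range_subtype _)
  exact ⟨E, fun i hi => hE i (by omega) (by omega), hFreeE, hFinE, inferInstance, ⟨e ≪≫ eL⟩⟩

end Groth.Agent.S7079
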