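import Groth.Statements.S7082
import Groth.Agent.S7078
import Groth.Agent.S7106

set_option autoImplicit false
universe u
attribute [local instance] HasDerivedCategory.standard
open CategoryTheory
open DRing

namespace Groth.Agent.S7082

/-- (1)⇔(3): let R be a commutative ring, I an ideal and K an object of D(R) whose cohomology vanishes
outside degrees -1 and 0. Then I annihilates Ext^1_R(K, N) = Hom_{D(R)}(K, N[1]) for every R-module
N if and only if, for every two-term complex E in degrees -1 and 0 with E^0 projective that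
represents K, and every a in I, multiplication by a on E^{-1} factors through the differential
E^{-1} → E^0. -/
theorem result {R : Type u} [CommRing R] (I : Ideal R) (K : Dual.D R)
    (hK : ∀ i : ℤ, i ≠ -1 → i ≠ 0 → Subsingleton (Dual.HD R K i)) :
    (∀ (N : Type u) [AddCommGroup N] [Module R N] (a : R), a ∈ I →
        ∀ ξ : K ⟶ (Dual.inD R N)⟦(1 : ℤ)⟧, a • ξ = 0) ↔
      ∀ (E : DRing.Cx R), DRing.VanishesOutside E (-1) 0 → Module.Projective R (E.X 0) →
        Nonempty (DRing.toD E ≅ K) → ∀ a : R, a ∈ I →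
          ∃ h : E.X 0 ⟶ E.X (-1), E.d (-1) 0 ≫ h = a • 𝟙 (E.X (-1)) := by
  have key : ∀ (E : DRing.Cx R), DRing.VanishesOutside E (-1) 0 → Module.Projective R (E.X 0) →
      ∀ a : R, ((∀ (N : Type u) [AddCommGroup N] [Module R N]
          (ξ : DRing.toD E ⟶ (Dual.inD R N)⟦(1 : ℤ)⟧), a • ξ = 0) ↔
        ∃ h : E.X 0 ⟶ E.X (-1), E.d (-1) 0 ≫ h = a • 𝟙 (E.X (-1))) := by
    intro E hE hproj a
    have hM : ∀ i : ℤ, 0 < i → Limits.IsZero (E.X i) := fun i hi => hE i (Or.inr hi)
    have hK' : ∀ i : ℤ, i ≠ -1 → i ≠ 0 → Limits.IsZero (E.X i) :=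
      fun i h1 h0 => hE i (by omega)
    have h7106 := Groth.Agent.S7106.result E E hM hproj hK' hproj (a • 𝟙 E)
    have hf : (a • 𝟙 E : E ⟶ E).f (-1) = a • 𝟙 (E.X (-1)) := by
      rw [HomologicalComplex.smul_f_apply, HomologicalComplex.id_f]
    have hQ : DerivedCategory.Q.map (a • 𝟙 E) = a • 𝟙 (DerivedCategory.Q.obj E) := by
      rw [Functor.map_smul, CategoryTheory.Functor.map_id]
    constructor
    · intro H
      obtain ⟨h, hh⟩ := h7106.1 (fun N _ _ ξ => by
        rw [hQ, Linear.smul_comp, Category.id_comp]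
        exact H N ξ)
      refine ⟨-h, ?_⟩
      rw [hf] at hh
      rw [Preadditive.comp_neg]
      exact neg_eq_of_add_eq_zero_left hh
    · rintro ⟨h, hh⟩ N _ _ ξ
      have := h7106.2 ⟨-h, by rw [hf, Preadditive.comp_neg, hh, add_neg_cancel]⟩ N ξ
      rwa [hQ, Linear.smul_comp, Category.id_comp] at this
  constructor
  · rintro H E hE hproj ⟨e⟩ a ha
    refine (key E hE hproj a).1 (fun N _ _ ξ => ?_)
    have h1 := H N a ha (e.inv ≫ ξ)
    have : a • ξ = e.hom ≫ (a • (e.inv ≫ ξ)) := by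
      rw [Linear.comp_smul, e.hom_inv_id_assoc]
    rw [this, h1, Limits.comp_zero]
  · intro H N _ _ a ha ξ
    obtain ⟨E, hE, hfree, ⟨e⟩⟩ := Groth.Agent.S7078.result K hK
    haveI := hfree
    have hproj : Module.Projective R (E.X 0) := inferInstance
    have h1 := (key E hE hproj a).2 (H E hE hproj ⟨e⟩ a ha) N (e.hom ≫ ξ)
    have : a • ξ = e.inv ≫ (a • (e.hom ≫ ξ)) := by
      rw [Linear.comp_smul, e.inv_hom_id_assoc]
    rw [this, h1, Limits.comp_zero]

end Groth.Agent.S7082
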