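import Groth.Statements.S7085
import Mathlib

set_option autoImplicit false
universe u
open LocCoh

namespace Groth.Agent.S7085

/-- Let R be a commutative ring, I an ideal generated by finitely many elements f_1, …, f_t, and M an
R-module. Then: M has no nonzero element killed by I if and only if it has no nonzero element killed
by I^n for every n ≥ 1; and M has no nonzero element killed by I if and only if an element of M
vanishing in every localization M_{f_i} is zero. -/
theorem result {R : Type u} [CommRing R] {t : ℕ} (f : Fin t → R)
    (I : Ideal R) (hI : Ideal.span (Set.range f) = I) (M : Type u) [AddCommGroup M] [Module R M] :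
    (LocCoh.torsionBy I M = ⊥ ↔ ∀ n : ℕ, 1 ≤ n → LocCoh.torsionBy (I ^ n) M = ⊥) ∧
    (LocCoh.torsionBy I M = ⊥ ↔
      ∀ m : M, (∀ i : Fin t, LocalizedModule.mkLinearMap (Submonoid.powers (f i)) M m = 0) → m = 0) := by
  subst hI
  have mem_tors : ∀ (J : Ideal R) (m : M), m ∈ LocCoh.torsionBy J M ↔ ∀ a ∈ J, a • m = 0 := by
    intro J m
    rw [LocCoh.torsionBy, Submodule.mem_torsionBySet_iff]
    exact ⟨fun h a ha => h ⟨a, ha⟩, fun h a => h a.1 a.2⟩
  constructor
  · constructor
    · intro h n hn
      induction n, hn using Nat.le_induction with
      | base => simpa using h
      | succ n hn ih =>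
        rw [eq_bot_iff]
        intro x hx
        have hx' : x ∈ LocCoh.torsionBy (Ideal.span (Set.range f) ^ n) M := by
          rw [mem_tors]; intro b hb
          have : b • x ∈ LocCoh.torsionBy (Ideal.span (Set.range f)) M := by
            rw [mem_tors]; intro a ha
            rw [← mul_smul]
            exact (mem_tors _ _).1 hx _ (by rw [pow_succ']; exact Ideal.mul_mem_mul ha hb)
          rw [h] at this; simpa using this
        rw [ih] at hx'; exact hx'
    · intro h; simpa using h 1 le_rfl
  · constructor
    · intro h m hm
      have hex : ∀ i, ∃ k : ℕ, f i ^ k • m = 0 := by
        intro i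
        have := (IsLocalizedModule.eq_zero_iff (Submonoid.powers (f i))
          (LocalizedModule.mkLinearMap (Submonoid.powers (f i)) M)).1 (hm i)
        obtain ⟨⟨_, k, rfl⟩, hk⟩ := this
        exact ⟨k, hk⟩
      choose k hk using hex
      have key : ∀ (N : ℕ) (m : M) (k : Fin t → ℕ), ∑ i, k i = N → (∀ i, f i ^ k i • m = 0) → m = 0 := by
        intro N
        induction N using Nat.strong_induction_on with
        | _ N ih =>
          intro m k hsum hk
          have hm : m ∈ LocCoh.torsionBy (Ideal.span (Set.range f)) M := by
            rw [mem_tors]
            intro a ha
            obtain ⟨c, rfl⟩ := (Ideal.mem_span_range_iff_exists_fun).1 ha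
            rw [Finset.sum_smul]
            refine Finset.sum_eq_zero fun j _ => ?_
            rw [mul_smul]
            suffices hj : f j • m = 0 by rw [hj, smul_zero]
            by_cases hkj : k j = 0
            · have := hk j
              rw [hkj, pow_zero, one_smul] at this
              rw [this, smul_zero]
            · have hlt : ∑ i, Function.update k j (k j - 1) i < N := by
                rw [← hsum]
                apply Finset.sum_lt_sum
                · intro i _
                  by_cases hij : i = j
                  · subst hij; simp
                  · simp [Function.update_of_ne hij]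
                · exact ⟨j, Finset.mem_univ _, by simp; omega⟩
              refine ih _ hlt (f j • m) (Function.update k j (k j - 1)) rfl ?_
              intro i
              by_cases hij : i = j
              · subst hij
                simp only [Function.update_self]
                rw [← mul_smul, ← pow_succ, Nat.sub_add_cancel (Nat.pos_of_ne_zero hkj)]
                exact hk i
              · rw [Function.update_of_ne hij, smul_comm, hk i, smul_zero]
          rw [h] at hm; simpa using hm
      exact key _ m k rfl hk
    · intro h
      rw [eq_bot_iff]; intro m hm
      apply h; intro i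
      rw [IsLocalizedModule.eq_zero_iff (Submonoid.powers (f i))]
      exact ⟨⟨f i, 1, pow_one _⟩, (mem_tors _ _).1 hm _ (Ideal.subset_span ⟨i, rfl⟩)⟩

end Groth.Agent.S7085
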