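import Groth.Statements.S7087
import Mathlib

set_option autoImplicit false
universe u
open LocCoh

namespace Groth.Agent.S7087

/-- Let R be a commutative ring and f_1, …, f_n elements generating an ideal I. Let M be the module with
generators e_1, …, e_n and relations f_i e_j = f_j e_i. Then e_i ↦ f_i defines a surjection M → I
whose kernel is annihilated by I. Elementwise: if a tuple (a_1, …, a_n) in R^n satisfies Σ a_i f_i =
0, then for every b in I the tuple b • a lies in the submodule of R^n spanned by the vectors f_i e_j
− f_j e_i. -/
theorem result {R : Type u} [CommRing R] {n : ℕ} (f : Fin n → R)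
    (a : Fin n → R) (ha : ∑ i, a i * f i = 0) (b : R) (hb : b ∈ Ideal.span (Set.range f)) :
    b • a ∈ Submodule.span R {v : Fin n → R | ∃ i j : Fin n, v = f i • Pi.single j (1 : R) - f j • Pi.single i (1 : R)} := by
  have key : ∀ k, f k • a ∈ Submodule.span R {v : Fin n → R | ∃ i j : Fin n,
      v = f i • Pi.single j (1 : R) - f j • Pi.single i (1 : R)} := by
    intro k
    have h : f k • a = ∑ j, a j • (f k • Pi.single j (1:R) - f j • Pi.single k (1:R)) := by
      ext l
      simp only [Pi.smul_apply, smul_eq_mul, Finset.sum_apply, Pi.sub_apply, Pi.single_apply,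
        mul_sub, Finset.sum_sub_distrib, mul_ite, mul_one, mul_zero]
      rw [Finset.sum_ite_eq Finset.univ l (fun j => a j * f k)]
      simp only [Finset.mem_univ, if_true]
      by_cases hlk : l = k
      · subst hlk
        simp only [if_true]
        rw [ha]; ring
      · simp only [hlk, if_false, Finset.sum_const_zero]; ring
    rw [h]
    exact Submodule.sum_mem _ fun j _ => Submodule.smul_mem _ _ (Submodule.subset_span ⟨k, j, rfl⟩)
  obtain ⟨c, rfl⟩ := (Ideal.mem_span_range_iff_exists_fun).1 hb
  rw [Finset.sum_smul]
  refine Submodule.sum_mem _ fun i _ => ?_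
  rw [mul_smul]
  exact Submodule.smul_mem _ _ (key i)

end Groth.Agent.S7087
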