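import Groth.Statements.S7089
import Mathlib
-- import your own Groth.Agent.* helpers here

set_option autoImplicit false
universe u
open CategoryTheory
open LocCoh

namespace Groth.Agent.S7089

attribute [local instance] Classical.propDecidable

section Resolution

variable {R : Type u} [CommRing R] (I : Ideal R)

structure PTMod where
  K : ModuleCat.{u} R
  pt : LocCoh.IsPowerTorsion I K

theorem cov_pt {ι : Type u} (n : ι → ℕ) (x : DirectSum ι fun j => R ⧸ I ^ n j) :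
    ∃ N : ℕ, ∀ a ∈ I ^ N, a • x = 0 := by
  induction x using DirectSum.induction_on with
  | zero => exact ⟨0, fun a _ => smul_zero a⟩
  | of j y =>
    refine ⟨n j, fun a ha => ?_⟩
    show a • (DirectSum.lof R ι (fun j => R ⧸ I ^ n j) j y) = 0
    rw [← map_smul]
    have hy : a • y = 0 := by
      obtain ⟨r, rfl⟩ := Submodule.Quotient.mk_surjective _ y
      rw [← Submodule.Quotient.mk_smul]
      exact (Submodule.Quotient.mk_eq_zero _).2 (by
        rw [smul_eq_mul]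
        exact Ideal.mul_mem_right r _ ha)
    rw [hy, map_zero]
  | add x y hx hy =>
    obtain ⟨N1, h1⟩ := hx
    obtain ⟨N2, h2⟩ := hy
    refine ⟨N1 + N2, fun a ha => ?_⟩
    rw [smul_add, h1 a (Ideal.pow_le_pow_right (Nat.le_add_right _ _) ha),
      h2 a (Ideal.pow_le_pow_right (Nat.le_add_left _ _) ha), add_zero]

variable {I}

abbrev Idx (Z : PTMod I) : Type u := {p : Z.K × ℕ // ∀ a ∈ I ^ p.2, a • p.1 = 0}

abbrev Cov (Z : PTMod I) : Type u := DirectSum (Idx Z) fun j => R ⧸ I ^ j.1.2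

theorem ker_le (Z : PTMod I) (j : Idx Z) :
    I ^ j.1.2 ≤ LinearMap.ker (LinearMap.toSpanSingleton R Z.K j.1.1) := by
  intro a ha
  rw [LinearMap.mem_ker, LinearMap.toSpanSingleton_apply]
  exact j.2 a ha

noncomputable def pC (Z : PTMod I) : Cov Z →ₗ[R] Z.K :=
  DirectSum.toModule R (Idx Z) Z.K
    (fun j => Submodule.liftQ (I ^ j.1.2) (LinearMap.toSpanSingleton R Z.K j.1.1) (ker_le Z j))

theorem pC_surj (Z : PTMod I) : Function.Surjective (pC Z) := by
  intro z
  obtain ⟨n, hn⟩ := Z.pt z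
  let j : Idx Z := ⟨(z, n), hn⟩
  refine ⟨DirectSum.lof R (Idx Z) (fun j => R ⧸ I ^ j.1.2) j (Submodule.Quotient.mk 1), ?_⟩
  show DirectSum.toModule R (Idx Z) Z.K _ (DirectSum.lof R (Idx Z) _ j _) = z
  rw [DirectSum.toModule_lof]
  show Submodule.liftQ _ _ _ (Submodule.Quotient.mk 1) = z
  rw [Submodule.liftQ_apply, LinearMap.toSpanSingleton_apply, one_smul]

theorem ker_pt (Z : PTMod I) : LocCoh.IsPowerTorsion I (LinearMap.ker (pC Z)) := by
  intro m
  obtain ⟨N, hN⟩ := cov_pt I (fun j : Idx Z => j.1.2) m.1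
  refine ⟨N, fun a ha => ?_⟩
  apply Subtype.ext
  rw [Submodule.coe_smul, hN a ha]
  rfl

noncomputable def next (Z : PTMod I) : PTMod I :=
  ⟨ModuleCat.of R (LinearMap.ker (pC Z)), ker_pt Z⟩

noncomputable def syz (X : PTMod I) : ℕ → PTMod I
  | 0 => X
  | n+1 => next (syz X n)

noncomputable abbrev PXf (X : PTMod I) (n : ℕ) : ModuleCat.{u} R :=
  ModuleCat.of R (Cov (syz X n))

noncomputable def pC' (X : PTMod I) (n : ℕ) :
    Cov (syz X (n+1)) →ₗ[R] LinearMap.ker (pC (syz X n)) :=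
  pC (syz X (n+1))

theorem pC'_surj (X : PTMod I) (n : ℕ) : Function.Surjective (pC' X n) :=
  pC_surj (syz X (n+1))

noncomputable def Pdf (X : PTMod I) (n : ℕ) : PXf X (n+1) ⟶ PXf X n :=
  ModuleCat.ofHom ((LinearMap.ker (pC (syz X n))).subtype ∘ₗ pC' X n)

theorem Pdf_apply (X : PTMod I) (n : ℕ) (x : PXf X (n+1)) :
    (Pdf X n).hom x =
      ((pC' X n x : LinearMap.ker (pC (syz X n))) : Cov (syz X n)) := rfl

theorem pC_Pdf (X : PTMod I) (n : ℕ) (x : PXf X (n+1)) :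
    pC (syz X n) ((Pdf X n).hom x) = 0 := by
  rw [Pdf_apply]
  exact LinearMap.mem_ker.1 (pC' X n x).2

theorem Pdf_sq (X : PTMod I) (n : ℕ) : Pdf X (n+1) ≫ Pdf X n = 0 := by
  apply ModuleCat.hom_ext
  refine LinearMap.ext fun x => ?_
  show (Pdf X n).hom ((Pdf X (n+1)).hom x) = 0
  rw [Pdf_apply X n]
  have h : pC' X n ((Pdf X (n+1)).hom x) = 0 := pC_Pdf X (n+1) x
  rw [h]
  rfl

noncomputable def Pc (X : PTMod I) : ChainComplex (ModuleCat.{u} R) ℕ :=
  ChainComplex.of (PXf X) (Pdf X) (Pdf_sq X)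

theorem Pc_d (X : PTMod I) (n : ℕ) : (Pc X).d (n+1) n = Pdf X n := ChainComplex.of_d _ _ n

theorem Pc_exact (X : PTMod I) (n : ℕ) : (Pc X).ExactAt (n+1) := by
  rw [HomologicalComplex.exactAt_iff' _ (n+1+1) (n+1) n (by simp) (by simp),
    ShortComplex.moduleCat_exact_iff]
  intro x₂ hx₂
  let x : PXf X (n+1) := x₂
  have hx : (Pdf X n).hom x = 0 := by
    rw [← Pc_d X n]
    exact hx₂
  have hx' : ((pC' X n x : LinearMap.ker (pC (syz X n))) : Cov (syz X n)) = 0 := hx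
  have hk : pC' X n x = 0 := Subtype.ext hx'
  have hk' : x ∈ LinearMap.ker (pC (syz X (n+1))) := LinearMap.mem_ker.2 hk
  obtain ⟨y, hy⟩ := pC'_surj X (n+1) ⟨x, hk'⟩
  refine ⟨(show PXf X (n+1+1) from y), ?_⟩
  show ((Pc X).d (n+1+1) (n+1)).hom (show PXf X (n+1+1) from y) = x
  rw [Pc_d X (n+1)]
  exact (Pdf_apply X (n+1) _).trans (congrArg Subtype.val hy)

theorem exists_resolution (X0 : PTMod I) :
    ∃ (π : Pc X0 ⟶ (ChainComplex.single₀ (ModuleCat.{u} R)).obj X0.K), QuasiIso π := by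
  let π₀ : PXf X0 0 ⟶ X0.K := ModuleCat.ofHom (pC X0)
  have hzero : Pdf X0 0 ≫ π₀ = 0 := by
    apply ModuleCat.hom_ext
    refine LinearMap.ext fun x => ?_
    exact pC_Pdf X0 0 x
  have h10 : (Pc X0).d 1 0 = Pdf X0 0 := Pc_d X0 0
  have hf₀ : (Pc X0).d 1 0 ≫ π₀ = 0 := by
    rw [h10]
    exact hzero
  obtain ⟨π, hπ0⟩ : ∃ π : Pc X0 ⟶ (ChainComplex.single₀ (ModuleCat.{u} R)).obj X0.K,
      π.f 0 = π₀ :=
    ⟨(ChainComplex.toSingle₀Equiv (Pc X0) X0.K).symm ⟨π₀, hf₀⟩,
      ChainComplex.toSingle₀Equiv_symm_apply_f_zero _ _⟩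
  have hS0 : (ShortComplex.mk (Pdf X0 0) π₀ hzero).Exact := by
    rw [ShortComplex.moduleCat_exact_iff]
    intro x₂ hx₂
    let x : PXf X0 0 := x₂
    have hk' : x ∈ LinearMap.ker (pC (syz X0 0)) := LinearMap.mem_ker.2 hx₂
    obtain ⟨y, hy⟩ := pC'_surj X0 0 ⟨x, hk'⟩
    refine ⟨(show PXf X0 (0+1) from y), ?_⟩
    show (Pdf X0 0).hom (show PXf X0 (0+1) from y) = x
    exact (Pdf_apply X0 0 _).trans (congrArg Subtype.val hy)
  haveI : Epi π₀ := (ModuleCat.epi_iff_surjective _).2 (pC_surj X0)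
  refine ⟨π, ⟨fun n => ?_⟩⟩
  cases n with
  | zero =>
    rw [ChainComplex.quasiIsoAt₀_iff, ShortComplex.quasiIso_iff_of_zeros']
    · refine (ShortComplex.exact_and_epi_g_iff_of_iso ?_).2 ⟨hS0, by dsimp; infer_instance⟩
      exact ShortComplex.isoMk (Iso.refl _) (Iso.refl _) (Iso.refl _)
        (by
          show 𝟙 _ ≫ Pdf X0 0 = (Pc X0).d 1 0 ≫ 𝟙 _
          rw [Category.id_comp, Category.comp_id, h10])
        (by
          show 𝟙 _ ≫ π₀ = π.f 0 ≫ 𝟙 _
          rw [Category.id_comp, Category.comp_id, hπ0])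
    all_goals first | rfl | exact HomologicalComplex.shape _ _ _ (by simp)
  | succ n =>
    rw [quasiIsoAt_iff_exactAt' π (n+1) (ChainComplex.exactAt_succ_single_obj _ _)]
    exact Pc_exact X0 n

end Resolution


/-- Let R be a commutative ring, I an ideal and M an R-module in which every element is killed by a
power of I. Then M has a left resolution by modules each of which is a direct sum of copies of R/I^n
for varying n: there are a chain complex K of R-modules, a quasi-isomorphism from K to M placed in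
degree 0, and for each i an isomorphism of K_i with such a direct sum. -/
theorem result {R : Type u} [CommRing R] (I : Ideal R)
    (M : Type u) [AddCommGroup M] [Module R M] (hM : LocCoh.IsPowerTorsion I M) :
    ∃ (K : ChainComplex (ModuleCat.{u} R) ℕ) (π : K ⟶ (ChainComplex.single₀ (ModuleCat.{u} R)).obj (ModuleCat.of R M)),
      QuasiIso π ∧ ∀ i : ℕ, ∃ (ι : Type u) (n : ι → ℕ),
        Nonempty (K.X i ≅ ModuleCat.of R (DirectSum ι fun j => R ⧸ I ^ n j)) := by
  let X0 : PTMod I := ⟨ModuleCat.of R M, hM⟩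
  obtain ⟨π, hq⟩ := exists_resolution X0
  exact ⟨Pc X0, π, hq, fun i => ⟨Idx (syz X0 i), fun j => j.1.2, ⟨Iso.refl _⟩⟩⟩

end Groth.Agent.S7089
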