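import Groth.Statements.S7090
import Mathlib

set_option autoImplicit false
universe u
open TensorProduct
open EtAlg

namespace Groth.Agent.S7090

section Helpers

open TensorProduct

variable {R S : Type u} [CommRing R] [CommRing S] [Algebra R S]

lemma alpha (I : Ideal R)
    (hq : Function.Bijective
      (Ideal.quotientMap (Ideal.map (algebraMap R S) I) (algebraMap R S) Ideal.le_comap_map))
    (s : S) : ∃ r : R, s - algebraMap R S r ∈ Ideal.map (algebraMap R S) I := by
  obtain ⟨y, hy⟩ := hq.2 (Ideal.Quotient.mk _ s)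
  obtain ⟨r, rfl⟩ := Ideal.Quotient.mk_surjective y
  refine ⟨r, ?_⟩
  rw [Ideal.quotientMap_mk] at hy
  exact Ideal.Quotient.eq.mp hy.symm

lemma base_inj (I : Ideal R)
    (hq : Function.Bijective
      (Ideal.quotientMap (Ideal.map (algebraMap R S) I) (algebraMap R S) Ideal.le_comap_map))
    {N : Type u} [AddCommGroup N] [Module R N] (hN : ∀ a ∈ I, ∀ n : N, a • n = 0) (n : N)
    (h : (1 : S) ⊗ₜ[R] n = 0) : n = 0 := by
  let e : (R ⧸ I) ≃+* (S ⧸ Ideal.map (algebraMap R S) I) := RingEquiv.ofBijective _ hq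
  let ψ : S →+* (R ⧸ I) := e.symm.toRingHom.comp (Ideal.Quotient.mk _)
  have hψ : ∀ r : R, ψ (algebraMap R S r) = Ideal.Quotient.mk I r := by
    intro r
    show e.symm (Ideal.Quotient.mk _ (algebraMap R S r)) = _
    rw [RingEquiv.symm_apply_eq]
    show _ = Ideal.quotientMap (Ideal.map (algebraMap R S) I) (algebraMap R S) Ideal.le_comap_map
      (Ideal.Quotient.mk I r)
    rw [Ideal.quotientMap_mk]
  let ρ : S →ₗ[R] (R ⧸ I) :=
    { toFun := fun s => ψ s
      map_add' := fun a b => map_add ψ a b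
      map_smul' := fun r s => by
        show ψ (r • s) = r • ψ s
        rw [Algebra.smul_def r s, map_mul, hψ, Algebra.smul_def r (ψ s),
          Ideal.Quotient.algebraMap_eq] }
  have hρ1 : ρ 1 = 1 := map_one ψ
  have key := congrArg
    (fun z => TensorProduct.quotTensorEquivQuotSMul N I (LinearMap.rTensor N ρ z)) h
  simp only [LinearMap.rTensor_tmul, map_zero] at key
  rw [hρ1, ← map_one (Ideal.Quotient.mk I), TensorProduct.quotTensorEquivQuotSMul_mk_tmul,
    one_smul, Submodule.Quotient.mk_eq_zero] at key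
  have hbot : I • (⊤ : Submodule R N) = ⊥ := by
    rw [eq_bot_iff, Submodule.smul_le]
    intro a ha m _
    rw [Submodule.mem_bot]; exact hN a ha m
  rw [hbot, Submodule.mem_bot] at key
  exact key

lemma tinj (I : Ideal R)
    (hq : Function.Bijective
      (Ideal.quotientMap (Ideal.map (algebraMap R S) I) (algebraMap R S) Ideal.le_comap_map))
    [Module.Flat R S] {N : Type u} [AddCommGroup N] [Module R N] :
    ∀ (k : ℕ) (n : N), (∀ a ∈ I ^ k, a • n = 0) → (1 : S) ⊗ₜ[R] n = 0 → n = 0 := by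
  intro k
  induction k with
  | zero =>
    intro n hn _
    have := hn 1 (by simp)
    simpa using this
  | succ k ih =>
    intro n hn h1
    have hIn : ∀ a ∈ I, a • n = 0 := by
      intro a ha
      apply ih (a • n)
      · intro b hb
        rw [smul_smul]
        exact hn (b * a) (by rw [pow_succ]; exact Ideal.mul_mem_mul hb ha)
      · rw [TensorProduct.tmul_smul, h1, smul_zero]
    let N' : Submodule R N := Submodule.span R {n}
    have hN' : ∀ a ∈ I, ∀ y : N', a • y = 0 := by
      intro a ha y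
      obtain ⟨r, hr⟩ := Submodule.mem_span_singleton.mp y.2
      apply Subtype.ext
      rw [Submodule.coe_smul, ← hr, smul_comm, hIn a ha, smul_zero]; rfl
    have hinj := Module.Flat.lTensor_preserves_injective_linearMap (M := S) N'.subtype
      (Submodule.injective_subtype N')
    have h0 : (1 : S) ⊗ₜ[R] (⟨n, Submodule.mem_span_singleton_self n⟩ : N') = 0 := by
      apply hinj
      rw [LinearMap.lTensor_tmul, map_zero]
      exact h1
    have := base_inj I hq hN' _ h0
    exact congrArg Subtype.val this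

lemma tsurj_aux (I : Ideal R)
    (hq : Function.Bijective
      (Ideal.quotientMap (Ideal.map (algebraMap R S) I) (algebraMap R S) Ideal.le_comap_map))
    {N : Type u} [AddCommGroup N] [Module R N] :
    ∀ (k : ℕ) (s : S) (n : N), (∀ a ∈ I ^ k, a • n = 0) →
      ∃ n' : N, (1 : S) ⊗ₜ[R] n' = s ⊗ₜ[R] n := by
  intro k
  induction k with
  | zero =>
    intro s n hn
    have : n = 0 := by simpa using hn 1 (by simp)
    exact ⟨0, by rw [this, TensorProduct.tmul_zero, TensorProduct.tmul_zero]⟩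
  | succ k ih =>
    intro s n hn
    obtain ⟨r, hr⟩ := alpha I hq s
    have claim : ∀ σ ∈ Ideal.map (algebraMap R S) I, ∀ s' : S,
        ∃ n' : N, (1 : S) ⊗ₜ[R] n' = (s' * σ) ⊗ₜ[R] n := by
      intro σ hσ
      replace hσ : σ ∈ Submodule.span S ((algebraMap R S) '' (I : Set R)) := hσ
      induction hσ using Submodule.span_induction with
      | mem x hx =>
        obtain ⟨a, ha, rfl⟩ := hx
        intro s'
        have hk : ∀ b ∈ I ^ k, b • (a • n) = 0 := by
          intro b hb; rw [smul_smul]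
          exact hn (b * a) (by rw [pow_succ]; exact Ideal.mul_mem_mul hb ha)
        obtain ⟨n', hn'⟩ := ih s' (a • n) hk
        refine ⟨n', ?_⟩
        rw [hn', TensorProduct.tmul_smul, TensorProduct.smul_tmul', Algebra.smul_def, mul_comm]
      | zero => intro s'; exact ⟨0, by simp⟩
      | add x y _ _ hx hy =>
        intro s'
        obtain ⟨n1, h1⟩ := hx s'
        obtain ⟨n2, h2⟩ := hy s'
        exact ⟨n1 + n2, by rw [TensorProduct.tmul_add, h1, h2, mul_add, TensorProduct.add_tmul]⟩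
      | smul c x _ hx =>
        intro s'
        obtain ⟨n1, h1⟩ := hx (s' * c)
        exact ⟨n1, by rw [h1, smul_eq_mul, mul_assoc]⟩
    obtain ⟨n1, h1⟩ := claim _ hr 1
    refine ⟨r • n + n1, ?_⟩
    rw [TensorProduct.tmul_add, h1, one_mul, TensorProduct.tmul_smul, TensorProduct.smul_tmul',
      Algebra.smul_def, mul_one, ← TensorProduct.add_tmul, add_sub_cancel]

lemma tsurj (I : Ideal R)
    (hq : Function.Bijective
      (Ideal.quotientMap (Ideal.map (algebraMap R S) I) (algebraMap R S) Ideal.le_comap_map))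
    {N : Type u} [AddCommGroup N] [Module R N]
    (hN : ∀ n : N, ∃ k, ∀ a ∈ I ^ k, a • n = 0) (z : S ⊗[R] N) :
    ∃ n : N, (1 : S) ⊗ₜ[R] n = z := by
  induction z using TensorProduct.induction_on with
  | zero => exact ⟨0, by simp⟩
  | tmul s n => obtain ⟨k, hk⟩ := hN n; exact tsurj_aux I hq k s n hk
  | add a b ha hb =>
    obtain ⟨n1, h1⟩ := ha; obtain ⟨n2, h2⟩ := hb
    exact ⟨n1 + n2, by rw [TensorProduct.tmul_add, h1, h2]⟩

lemma span_kill {t : ℕ} (g : Fin t → R) {P : Type u} [AddCommGroup P] [Module R P] (y : P)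
    (h : ∀ i, g i • y = 0) : ∀ a ∈ Ideal.span (Set.range g), a • y = 0 := by
  intro a ha
  replace ha : a ∈ Submodule.span R (Set.range g) := ha
  induction ha using Submodule.span_induction with
  | mem x hx => obtain ⟨i, rfl⟩ := hx; exact h i
  | zero => exact zero_smul _ _
  | add x z _ _ hx hz => rw [add_smul, hx, hz, add_zero]
  | smul c x _ hx => rw [smul_eq_mul, mul_smul, hx, smul_zero]

lemma pow_le_span {t : ℕ} (f : Fin t → R) (E : ℕ) :
    ∃ n₀ : ℕ, (Ideal.span (Set.range f)) ^ n₀ ≤ Ideal.span (Set.range fun i => f i ^ E) := by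
  apply Ideal.exists_pow_le_of_le_radical_of_fg
  · rw [Ideal.span_le]
    rintro _ ⟨i, rfl⟩
    exact ⟨E, Ideal.subset_span ⟨i, rfl⟩⟩
  · exact Submodule.fg_span (Set.finite_range f)

lemma flat_tors (I : Ideal R)
    (hq : Function.Bijective
      (Ideal.quotientMap (Ideal.map (algebraMap R S) I) (algebraMap R S) Ideal.le_comap_map))
    [Module.Flat R S] {t : ℕ} (g : Fin t → R) {n₀ : ℕ}
    (hJ : I ^ n₀ ≤ Ideal.span (Set.range g))
    {P : Type u} [AddCommGroup P] [Module R P] (d : S ⊗[R] P) (hd : ∀ i, g i • d = 0) :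
    ∃ τ : P, (∀ i, g i • τ = 0) ∧ (1 : S) ⊗ₜ[R] τ = d := by
  let Γ : P →ₗ[R] (Fin t → P) := LinearMap.pi (fun i => g i • (LinearMap.id : P →ₗ[R] P))
  have hΓ : ∀ p i, Γ p i = g i • p := fun p i => rfl
  have hex : Function.Exact (LinearMap.ker Γ).subtype Γ := LinearMap.exact_subtype_ker_map Γ
  have hex' := Module.Flat.lTensor_exact S hex
  have hcomp : ∀ (i : Fin t) (z : S ⊗[R] P),
      TensorProduct.piRight R R S (fun _ : Fin t => P) (LinearMap.lTensor S Γ z) i = g i • z := by
    intro i z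
    induction z using TensorProduct.induction_on with
    | zero => simp
    | tmul s p =>
      rw [LinearMap.lTensor_tmul, TensorProduct.piRight_apply, TensorProduct.piRightHom_tmul]
      show s ⊗ₜ[R] Γ p i = _
      rw [hΓ, TensorProduct.tmul_smul]
    | add a b ha hb => rw [map_add, map_add, Pi.add_apply, ha, hb, smul_add]
  have hΓd : (LinearMap.lTensor S Γ) d = 0 := by
    apply (TensorProduct.piRight R R S (fun _ : Fin t => P)).injective
    rw [map_zero]
    funext i
    rw [hcomp, hd i]; rfl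
  obtain ⟨d', hd'⟩ := (hex' d).mp hΓd
  have htors : ∀ y : LinearMap.ker Γ, ∃ k, ∀ a ∈ I ^ k, a • y = 0 := by
    intro y
    refine ⟨n₀, fun a ha => ?_⟩
    apply Subtype.ext
    rw [Submodule.coe_smul]
    apply span_kill g (y : P) _ a (hJ ha)
    intro i
    have := congrFun (LinearMap.mem_ker.mp y.2) i
    rwa [hΓ] at this
  obtain ⟨τ', hτ'⟩ := tsurj I hq htors d'
  refine ⟨τ'.1, ?_, ?_⟩
  · intro i
    have := congrFun (LinearMap.mem_ker.mp τ'.2) i
    rwa [hΓ] at this
  · rw [← hd', ← hτ', LinearMap.lTensor_tmul]; rfl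

end Helpers


/-- Let R → S be a flat homomorphism of commutative rings and I = (f_1, …, f_t) a finitely generated
ideal such that R/I → S/IS is bijective. Then for every R-module M the glueing complex 0 → M → (S
⊗_R M) × ∏ M_{f_i} → ∏ (S ⊗_R M)_{f_i} × ∏ M_{f_i f_j} is exact. Concretely: an element of M with
zero image in S ⊗_R M and in every M_{f_i} is zero; and given x in S ⊗_R M and elements m_1, …, m_t
of M and N ≥ 0 such that x and m_i / f_i^N have the same image in (S ⊗_R M)_{f_i} for each i, and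
m_i / f_i^N, m_j / f_j^N have the same image in M_{f_i f_j} for all i, j, there is m in M with 1 ⊗ m
= x and m / 1 = m_i / f_i^N in M_{f_i} for every i. -/
theorem result {R S : Type u} [CommRing R] [CommRing S] [Algebra R S] [Module.Flat R S]
    {t : ℕ} (f : Fin t → R) (I : Ideal R) (hI : Ideal.span (Set.range f) = I)
    (hq : Function.Bijective
      (Ideal.quotientMap (Ideal.map (algebraMap R S) I) (algebraMap R S) Ideal.le_comap_map))
    (M : Type u) [AddCommGroup M] [Module R M] :
    (∀ m : M, (1 : S) ⊗ₜ[R] m = 0 →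
        (∀ i : Fin t, LocalizedModule.mkLinearMap (Submonoid.powers (f i)) M m = 0) → m = 0) ∧
    ∀ (x : S ⊗[R] M) (N : ℕ) (m : Fin t → M),
      (∀ i : Fin t, EtGlue.locOfTensor R S (f i) M x =
          EtGlue.tensorOfLoc R S (f i) M (LocalizedModule.mk (m i) ⟨f i ^ N, Submonoid.pow_mem _ (Submonoid.mem_powers (f i)) N⟩)) →
      (∀ i j : Fin t, ∃ e : ℕ, (f i * f j) ^ e • (f j ^ N • m i - f i ^ N • m j) = 0) →
        ∃ μ : M, (1 : S) ⊗ₜ[R] μ = x ∧
          ∀ i : Fin t, LocalizedModule.mkLinearMap (Submonoid.powers (f i)) M μ =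
            LocalizedModule.mk (m i) ⟨f i ^ N, Submonoid.pow_mem _ (Submonoid.mem_powers (f i)) N⟩ := by
  subst hI
  constructor
  · intro m hm1 hmloc
    have hm' : ∀ i : Fin t, ∃ c : ℕ, f i ^ c • m = 0 := by
      intro i
      obtain ⟨⟨_, c, rfl⟩, hc⟩ := (IsLocalizedModule.eq_zero_iff (Submonoid.powers (f i))
        (LocalizedModule.mkLinearMap (Submonoid.powers (f i)) M)).mp (hmloc i)
      exact ⟨c, hc⟩
    choose c hc using hm'
    obtain ⟨E, hE⟩ : ∃ E, ∀ i, c i ≤ E :=
      ⟨∑ i, c i, fun i => Finset.single_le_sum (fun _ _ => Nat.zero_le _) (Finset.mem_univ i)⟩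
    have hE' : ∀ i, f i ^ E • m = 0 := by
      intro i
      obtain ⟨k, hk⟩ : ∃ k, E = k + c i := ⟨E - c i, (Nat.sub_add_cancel (hE i)).symm⟩
      rw [hk, pow_add, mul_smul, hc i, smul_zero]
    obtain ⟨n₀, hn₀⟩ := pow_le_span f E
    apply tinj _ hq n₀ m _ hm1
    intro a ha
    exact span_kill (fun i => f i ^ E) m hE' a (hn₀ ha)
  · intro x N m hA hB
    have hA' : ∀ i : Fin t, ∃ c : ℕ,
        f i ^ c • (f i ^ N • x) = f i ^ c • ((1 : S) ⊗ₜ[R] m i) := by
      intro i
      have h := hA i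
      unfold EtGlue.locOfTensor EtGlue.tensorOfLoc at h
      rw [LocalizedModule.mkLinearMap_apply, IsLocalizedModule.mk_eq_mk' _ (m i),
        IsLocalizedModule.map_mk', ← IsLocalizedModule.mk_eq_mk', LocalizedModule.mk_eq] at h
      obtain ⟨⟨_, c, rfl⟩, hc⟩ := h
      refine ⟨c, ?_⟩
      simpa [Submonoid.smul_def] using hc
    choose c hc using hA'
    choose eB heB using hB
    obtain ⟨e, hce, hee⟩ : ∃ e, (∀ i, c i ≤ e) ∧ (∀ i j, eB i j ≤ e) := by
      refine ⟨(∑ i, c i) + ∑ i, ∑ j, eB i j, fun i => ?_, fun i j => ?_⟩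
      · exact le_trans (Finset.single_le_sum (fun _ _ => Nat.zero_le _) (Finset.mem_univ i))
          (Nat.le_add_right _ _)
      · exact le_trans (le_trans
          (Finset.single_le_sum (f := fun j => eB i j) (fun _ _ => Nat.zero_le _)
            (Finset.mem_univ j))
          (Finset.single_le_sum (f := fun i => ∑ j, eB i j) (fun _ _ => Nat.zero_le _)
            (Finset.mem_univ i))) (Nat.le_add_left _ _)
    obtain ⟨g, hg⟩ : ∃ g : Fin t → R, ∀ i, g i = f i ^ (N + e) := ⟨_, fun _ => rfl⟩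
    obtain ⟨n, hn⟩ : ∃ n : Fin t → M, ∀ i, n i = f i ^ e • m i := ⟨_, fun _ => rfl⟩
    have H1 : ∀ i, g i • x = (1 : S) ⊗ₜ[R] n i := by
      intro i
      obtain ⟨k, hk⟩ : ∃ k, e = k + c i := ⟨e - c i, (Nat.sub_add_cancel (hce i)).symm⟩
      have e1 : f i ^ (N + e) • x = f i ^ k • (f i ^ c i • (f i ^ N • x)) := by
        rw [smul_smul, smul_smul, hk]; congr 1; ring
      rw [hg, hn, e1, hc i, smul_smul, ← pow_add, ← hk, TensorProduct.tmul_smul]
    have H2 : ∀ i k, g i • n k = g k • n i := by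
      intro i k
      obtain ⟨l, hl⟩ : ∃ l, e = l + eB i k := ⟨e - eB i k, (Nat.sub_add_cancel (hee i k)).symm⟩
      have hb := heB i k
      have hb' : (f i * f k) ^ e • (f k ^ N • m i - f i ^ N • m k) = 0 := by
        rw [hl, pow_add, mul_smul, hb, smul_zero]
      rw [smul_sub, sub_eq_zero, smul_smul, smul_smul] at hb'
      rw [hg, hg, hn, hn, smul_smul, smul_smul]
      have e1 : f i ^ (N + e) * f k ^ e = (f i * f k) ^ e * f i ^ N := by ring
      have e2 : f k ^ (N + e) * f i ^ e = (f i * f k) ^ e * f k ^ N := by ring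
      rw [e1, e2, hb']
    obtain ⟨n₀, hn₀⟩ := pow_le_span f (N + e)
    have hn₀' : (Ideal.span (Set.range f)) ^ n₀ ≤ Ideal.span (Set.range g) := by
      have : g = fun i => f i ^ (N + e) := funext hg
      rw [this]; exact hn₀
    let ι : M →ₗ[R] S ⊗[R] M := TensorProduct.mk R S M 1
    let μS : S ⊗[R] (S ⊗[R] M) →ₗ[R] S ⊗[R] M :=
      TensorProduct.lift (LinearMap.mk₂ R (fun (s : S) (z : S ⊗[R] M) => s • z)
        (fun s₁ s₂ z => add_smul s₁ s₂ z) (fun c s z => smul_assoc c s z)
        (fun s z₁ z₂ => smul_add s z₁ z₂) (fun c s z => smul_comm s c z))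
    have hμ1 : ∀ z : S ⊗[R] M, μS ((1 : S) ⊗ₜ[R] z) = z := by
      intro z
      show TensorProduct.lift _ _ = _
      rw [TensorProduct.lift.tmul]
      show (1 : S) • z = z
      rw [one_smul]
    have hμ2 : ∀ z : S ⊗[R] M, μS (LinearMap.lTensor S ι z) = z := by
      intro z
      induction z using TensorProduct.induction_on with
      | zero => simp
      | tmul s m' =>
        rw [LinearMap.lTensor_tmul]
        show TensorProduct.lift _ _ = _
        rw [TensorProduct.lift.tmul]
        show s • ((1 : S) ⊗ₜ[R] m') = s ⊗ₜ[R] m'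
        rw [TensorProduct.smul_tmul', smul_eq_mul, mul_one]
      | add a b ha hb => rw [map_add, map_add, ha, hb]
    obtain ⟨ξ, hξdef⟩ : ∃ ξ : S ⊗[R] (S ⊗[R] M),
        ξ = (1 : S) ⊗ₜ[R] x - LinearMap.lTensor S ι x := ⟨_, rfl⟩
    have hξ0 : μS ξ = 0 := by rw [hξdef, map_sub, hμ1, hμ2, sub_self]
    have hξg : ∀ i, g i • ξ = 0 := by
      intro i
      rw [hξdef, smul_sub, ← TensorProduct.tmul_smul, ← map_smul, H1 i, LinearMap.lTensor_tmul]
      exact sub_self _
    obtain ⟨τ, hτg, hτ⟩ := flat_tors _ hq g hn₀' ξ hξg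
    have hτ0 : τ = 0 := by rw [← hμ1 τ, hτ, hξ0]
    have hξ : (1 : S) ⊗ₜ[R] x = LinearMap.lTensor S ι x := by
      have : ξ = 0 := by rw [← hτ, hτ0, TensorProduct.tmul_zero]
      rw [hξdef] at this
      exact sub_eq_zero.mp this
    let q : S ⊗[R] M →ₗ[R] (S ⊗[R] M) ⧸ LinearMap.range ι := (LinearMap.range ι).mkQ
    have hqι : q ∘ₗ ι = 0 := by
      ext m'
      exact (Submodule.Quotient.mk_eq_zero _).mpr ⟨m', rfl⟩
    have hx1 : (1 : S) ⊗ₜ[R] (q x) = 0 := by
      have := congrArg (LinearMap.lTensor S q) hξ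
      rw [LinearMap.lTensor_tmul, ← LinearMap.comp_apply, ← LinearMap.lTensor_comp, hqι,
        LinearMap.lTensor_zero, LinearMap.zero_apply] at this
      exact this
    have hqx : q x = 0 := by
      apply tinj _ hq n₀ (q x) _ hx1
      intro a ha
      apply span_kill g (q x) _ a (hn₀' ha)
      intro i
      rw [← map_smul, H1 i]
      exact LinearMap.congr_fun hqι (n i)
    obtain ⟨μ₁, hμ₁⟩ : ∃ μ₁ : M, (1 : S) ⊗ₜ[R] μ₁ = x := by
      obtain ⟨μ₁, h⟩ := (Submodule.Quotient.mk_eq_zero _).mp hqx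
      exact ⟨μ₁, h⟩
    obtain ⟨δ, hδ⟩ : ∃ δ : Fin t → M, ∀ i, δ i = g i • μ₁ - n i := ⟨_, fun _ => rfl⟩
    have hδ1 : ∀ i, (1 : S) ⊗ₜ[R] δ i = 0 := by
      intro i
      rw [hδ, TensorProduct.tmul_sub, TensorProduct.tmul_smul, hμ₁, H1 i, sub_self]
    have hδ2 : ∀ i k, g k • δ i = g i • δ k := by
      intro i k
      rw [hδ, hδ, smul_sub, smul_sub, H2 k i, smul_comm]
    have hLker : ∀ l ∈ Submodule.span R (Set.range δ), (1 : S) ⊗ₜ[R] l = 0 := by
      intro l hl
      induction hl using Submodule.span_induction with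
      | mem y hy => obtain ⟨i, rfl⟩ := hy; exact hδ1 i
      | zero => exact TensorProduct.tmul_zero _ _
      | add y z _ _ hy hz => rw [TensorProduct.tmul_add, hy, hz, add_zero]
      | smul r y _ hy => rw [TensorProduct.tmul_smul, hy, smul_zero]
    have hLJ : Submodule.span R (Set.range δ) ≤
        Ideal.span (Set.range g) • Submodule.span R (Set.range δ) := by
      intro l hl
      have h1 : (1 : S) ⊗ₜ[R]
          ((Ideal.span (Set.range g) • Submodule.span R (Set.range δ)).mkQ l) = 0 := by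
        have := congrArg (LinearMap.lTensor S
          (Ideal.span (Set.range g) • Submodule.span R (Set.range δ)).mkQ) (hLker l hl)
        rwa [LinearMap.lTensor_tmul, map_zero] at this
      have h2 : (Ideal.span (Set.range g) • Submodule.span R (Set.range δ)).mkQ l = 0 := by
        apply tinj _ hq n₀ _ _ h1
        intro a ha
        rw [← map_smul]
        exact (Submodule.Quotient.mk_eq_zero _).mpr (Submodule.smul_mem_smul (hn₀' ha) hl)
      exact (Submodule.Quotient.mk_eq_zero _).mp h2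
    obtain ⟨r, hr1, hr2⟩ := Submodule.exists_sub_one_mem_and_smul_eq_zero_of_fg_of_le_smul
      (Ideal.span (Set.range g)) (Submodule.span R (Set.range δ))
      (Submodule.fg_span (Set.finite_range δ)) hLJ
    have hj : (1 - r) ∈ Ideal.span (Set.range g) := by
      have := (Ideal.span (Set.range g)).neg_mem hr1
      rwa [neg_sub] at this
    obtain ⟨coef, hcoef⟩ := (Ideal.mem_span_range_iff_exists_fun).mp hj
    obtain ⟨κ, hκ⟩ : ∃ κ : M, κ = ∑ k, coef k • δ k := ⟨_, rfl⟩
    have hκ1 : (1 : S) ⊗ₜ[R] κ = 0 := by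
      rw [hκ, TensorProduct.tmul_sum]
      apply Finset.sum_eq_zero
      intro k _
      rw [TensorProduct.tmul_smul, hδ1, smul_zero]
    have hκ2 : ∀ i, g i • κ = δ i := by
      intro i
      rw [hκ, Finset.smul_sum]
      have : ∀ k ∈ Finset.univ, g i • coef k • δ k = (coef k * g k) • δ i := by
        intro k _
        rw [smul_comm, hδ2 k i, smul_smul]
      rw [Finset.sum_congr rfl this, ← Finset.sum_smul, hcoef, sub_smul, one_smul,
        hr2 (δ i) (Submodule.subset_span ⟨i, rfl⟩), sub_zero]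
    refine ⟨μ₁ - κ, ?_, ?_⟩
    · rw [TensorProduct.tmul_sub, hμ₁, hκ1, sub_zero]
    · intro i
      rw [LocalizedModule.mkLinearMap_apply, LocalizedModule.mk_eq]
      refine ⟨⟨f i ^ e, Submonoid.pow_mem _ (Submonoid.mem_powers (f i)) e⟩, ?_⟩
      show f i ^ e • f i ^ N • (μ₁ - κ) = f i ^ e • (1 : R) • m i
      have hgi : g i • (μ₁ - κ) = n i := by
        rw [smul_sub, hκ2 i, hδ]; abel
      rw [one_smul, smul_smul, ← pow_add, add_comm, ← hg i, hgi, hn i]

end Groth.Agent.S7090
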