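import Groth.Statements.S7109
import Mathlib.Algebra.Module.Projective
import Mathlib.LinearAlgebra.FreeModule.Basic
import Mathlib.LinearAlgebra.FreeModule.Finite.Basic
import Mathlib.LinearAlgebra.Prod
import Mathlib.RingTheory.Finiteness.Basic

set_option autoImplicit false
universe u
open CAlg

namespace Groth.Agent.S7109

/-- The composite of two shears on `M × P` attached to `g : M → P` and `h : P → M`:
`(x, p) ↦ (x - h (g x) - h p, g x + p)`. -/
noncomputable def shear {R M P : Type*} [Ring R] [AddCommGroup M] [Module R M]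
    [AddCommGroup P] [Module R P] (g : M →ₗ[R] P) (h : P →ₗ[R] M) : (M × P) ≃ₗ[R] (M × P) :=
  LinearEquiv.ofLinearMap
    (((LinearMap.id - h ∘ₗ g).prod g).coprod ((-h).prod LinearMap.id))
    (((LinearMap.id).coprod h).prod
      ((LinearMap.snd R M P) - g ∘ₗ ((LinearMap.id).coprod h)))
    (by
      apply LinearMap.ext
      rintro ⟨x, p⟩
      ext <;> simp)
    (by
      apply LinearMap.ext
      rintro ⟨x, p⟩
      ext <;> simp <;> abel)

theorem shear_apply {R M P : Type*} [Ring R] [AddCommGroup M] [Module R M]
    [AddCommGroup P] [Module R P] (g : M →ₗ[R] P) (h : P →ₗ[R] M) (x : M) (p : P) :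
    shear g h (x, p) = (x - h (g x) - h p, g x + p) := by
  simp [shear, sub_eq_add_neg]

/-- Let P be a projective module over a ring R and s an element of P. Then there are a finite free
module R^n and a direct summand K of R^n ⊕ P which is finite free and contains (0, s). -/
theorem result (R : Type u) [CommRing R] (P : Type u) [AddCommGroup P]
    [Module R P] [Module.Projective R P] (s : P) :
    ∃ (n : ℕ) (K K' : Submodule R ((Fin n → R) × P)), IsCompl K K' ∧ Module.Free R K ∧ Module.Finite R K ∧
      ((0, s) : (Fin n → R) × P) ∈ K := by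
  classical
  obtain ⟨σ, hσ⟩ := Module.projective_def'.mp (inferInstance : Module.Projective R P)
  have hσ' : ∀ p, Finsupp.linearCombination R id (σ p) = p := fun p => LinearMap.congr_fun hσ p
  set t : P →₀ R := σ s with ht
  let I0 : Finset P := t.support
  let n := I0.card
  let en : Fin n ≃ I0 := I0.equivFin.symm
  -- the two maps
  let g : (Fin n → R) →ₗ[R] P :=
    Fintype.linearCombination R (fun j : Fin n => ((en j : I0) : P))
  let h : P →ₗ[R] (Fin n → R) :=
    LinearMap.pi fun j => (Finsupp.lapply ((en j : I0) : P)) ∘ₗ σ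
  let u : Fin n → R := fun j => t ((en j : I0) : P)
  have hhs : h s = u := by
    ext j
    simp [h, u, ht]
  have hgu : g u = s := by
    have h1 : g u = ∑ j : Fin n, t ((en j : I0) : P) • ((en j : I0) : P) := by
      simp [g, u, Fintype.linearCombination_apply]
    rw [h1]
    have h2 : ∑ j : Fin n, t ((en j : I0) : P) • ((en j : I0) : P) =
        ∑ p : I0, t (p : P) • (p : P) :=
      Equiv.sum_comp en (fun p : I0 => t (p : P) • (p : P))
    rw [h2, Finset.sum_coe_sort I0 (fun p => t p • p)]
    have h3 := hσ' s
    rw [← ht, Finsupp.linearCombination_apply, Finsupp.sum] at h3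
    simpa using h3
  let Ψ := shear g h
  refine ⟨n, Submodule.map Ψ.toLinearMap (LinearMap.range (LinearMap.inl R (Fin n → R) P)),
    Submodule.map Ψ.toLinearMap (LinearMap.range (LinearMap.inr R (Fin n → R) P)), ?_, ?_, ?_, ?_⟩
  · exact (Submodule.orderIsoMapComap Ψ).isCompl LinearMap.isCompl_range_inl_inr
  · let e : (Fin n → R) ≃ₗ[R]
        Submodule.map Ψ.toLinearMap (LinearMap.range (LinearMap.inl R (Fin n → R) P)) :=
      (LinearEquiv.ofInjective (LinearMap.inl R (Fin n → R) P) LinearMap.inl_injective) ≪≫ₗ
        (Ψ.submoduleMap _)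
    exact Module.Free.of_equiv e
  · let e : (Fin n → R) ≃ₗ[R]
        Submodule.map Ψ.toLinearMap (LinearMap.range (LinearMap.inl R (Fin n → R) P)) :=
      (LinearEquiv.ofInjective (LinearMap.inl R (Fin n → R) P) LinearMap.inl_injective) ≪≫ₗ
        (Ψ.submoduleMap _)
    exact Module.Finite.equiv e
  · refine ⟨(u, 0), ⟨u, rfl⟩, ?_⟩
    show Ψ (u, 0) = (0, s)
    rw [shear_apply, hgu, hhs]
    simp

end Groth.Agent.S7109
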