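import Groth.Statements.S7114
import Mathlib.LinearAlgebra.Isomorphisms
import Mathlib.Algebra.Exact
import Mathlib.Tactic

set_option autoImplicit false
universe u
open CAlg

namespace Groth.Agent.S7114

theorem length_succ_le (R : Type u) [CommRing R] (x : R) (n : ℕ) :
    Module.length R (R ⧸ Ideal.span {x ^ (n + 1)}) ≤
        Module.length R (R ⧸ Ideal.span {x ^ n}) + Module.length R (R ⧸ Ideal.span {x}) ∧
    (x ∈ nonZeroDivisors R → Module.length R (R ⧸ Ideal.span {x ^ (n + 1)}) =
        Module.length R (R ⧸ Ideal.span {x ^ n}) + Module.length R (R ⧸ Ideal.span {x})) := by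
  classical
  have h1 : (Ideal.span {x ^ (n + 1)} : Ideal R) ≤ Ideal.span {x} := by
    rw [Ideal.span_singleton_le_iff_mem]
    exact Ideal.mem_span_singleton.mpr (Dvd.intro_left (x ^ n) (by ring))
  let g : (R ⧸ (Ideal.span {x ^ (n + 1)} : Ideal R)) →ₗ[R] (R ⧸ (Ideal.span {x} : Ideal R)) :=
    Submodule.mapQ _ _ LinearMap.id h1
  have hg : Function.Surjective g := by
    intro y
    obtain ⟨b, rfl⟩ := Submodule.mkQ_surjective _ y
    exact ⟨Submodule.mkQ _ b, rfl⟩
  have h2 : (Ideal.span {x ^ n} : Ideal R) ≤
      Submodule.comap (LinearMap.lsmul R R x) (Ideal.span {x ^ (n + 1)} : Ideal R) := by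
    intro a ha
    rw [Submodule.mem_comap]
    obtain ⟨b, rfl⟩ := Ideal.mem_span_singleton.mp ha
    show x • (x ^ n * b) ∈ (Ideal.span {x ^ (n + 1)} : Ideal R)
    exact Ideal.mem_span_singleton.mpr ⟨b, by rw [smul_eq_mul]; ring⟩
  let f : (R ⧸ (Ideal.span {x ^ n} : Ideal R)) →ₗ[R] (R ⧸ (Ideal.span {x ^ (n + 1)} : Ideal R)) :=
    Submodule.mapQ _ _ (LinearMap.lsmul R R x) h2
  have hfa : ∀ a : R, f (Submodule.Quotient.mk a) = Submodule.Quotient.mk (x * a) := fun a => rfl
  have hga : ∀ a : R, g (Submodule.Quotient.mk a) = Submodule.Quotient.mk a := fun a => rfl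
  have hex : Function.Exact (LinearMap.range f).subtype g := by
    rw [LinearMap.exact_iff, Submodule.range_subtype]
    ext y
    obtain ⟨b, rfl⟩ := Submodule.mkQ_surjective _ y
    rw [LinearMap.mem_ker, LinearMap.mem_range]
    constructor
    · intro hb
      have hb' : b ∈ (Ideal.span {x} : Ideal R) := (Submodule.Quotient.mk_eq_zero _).mp hb
      obtain ⟨a, rfl⟩ := Ideal.mem_span_singleton.mp hb'
      exact ⟨Submodule.Quotient.mk a, rfl⟩
    · rintro ⟨z, hz⟩
      obtain ⟨a, rfl⟩ := Submodule.mkQ_surjective _ z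
      rw [← hz]
      show g (f (Submodule.Quotient.mk a)) = 0
      rw [hfa, hga, Submodule.Quotient.mk_eq_zero]
      exact Ideal.mem_span_singleton.mpr ⟨a, rfl⟩
  have hlen := Module.length_eq_add_of_exact (LinearMap.range f).subtype g
    (Submodule.subtype_injective _) hg hex
  constructor
  · rw [hlen]
    exact add_le_add_left
      (Module.length_le_of_surjective f.rangeRestrict f.surjective_rangeRestrict) _
  · intro hx
    have hinj : Function.Injective f := by
      rw [← LinearMap.ker_eq_bot, LinearMap.ker_eq_bot']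
      intro z hz
      obtain ⟨a, rfl⟩ := Submodule.mkQ_surjective _ z
      have h3 : x * a ∈ (Ideal.span {x ^ (n + 1)} : Ideal R) :=
        (Submodule.Quotient.mk_eq_zero _).mp hz
      obtain ⟨b, hb⟩ := Ideal.mem_span_singleton.mp h3
      have h4 : x * (a - x ^ n * b) = 0 := by rw [mul_sub, hb]; ring
      have h5 : a - x ^ n * b = 0 := (mem_nonZeroDivisors_iff_left.mp hx) _ h4
      refine (Submodule.Quotient.mk_eq_zero _).mpr ?_
      exact Ideal.mem_span_singleton.mpr ⟨b, sub_eq_zero.mp h5⟩
    rw [hlen, (LinearEquiv.ofInjective f hinj).length_eq]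


/-- Let R be a Noetherian local ring of Krull dimension one and x an element of the maximal ideal lying
in no minimal prime of R. Then for every n the length of R/xⁿR is at most n times the length of
R/xR, and equality holds when x is a nonzerodivisor. -/
theorem result (R : Type u) [CommRing R] [IsNoetherianRing R] [IsLocalRing R]
    (hdim : ringKrullDim R = 1) (x : R) (hx : x ∈ IsLocalRing.maximalIdeal R)
    (hmin : ∀ p ∈ minimalPrimes R, x ∉ p) (n : ℕ) :
    Module.length R (R ⧸ Ideal.span {x ^ n}) ≤ (n : ℕ∞) * Module.length R (R ⧸ Ideal.span {x}) ∧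
      (x ∈ nonZeroDivisors R →
        Module.length R (R ⧸ Ideal.span {x ^ n}) = (n : ℕ∞) * Module.length R (R ⧸ Ideal.span {x})) := by
  constructor
  · induction n with
    | zero =>
      have : Subsingleton (R ⧸ Ideal.span {x ^ 0}) := by
        rw [pow_zero, Ideal.span_singleton_one]
        exact Ideal.Quotient.subsingleton_iff.mpr rfl
      rw [Module.length_eq_zero]
      exact bot_le
    | succ k ih =>
      refine (length_succ_le R x k).1.trans ?_
      rw [Nat.cast_succ, add_mul, one_mul]
      exact add_le_add_left ih _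
  · intro hx
    induction n with
    | zero =>
      have : Subsingleton (R ⧸ Ideal.span {x ^ 0}) := by
        rw [pow_zero, Ideal.span_singleton_one]
        exact Ideal.Quotient.subsingleton_iff.mpr rfl
      rw [Module.length_eq_zero, Nat.cast_zero, zero_mul]
    | succ k ih =>
      rw [(length_succ_le R x k).2 hx, ih, Nat.cast_succ, add_mul, one_mul]

end Groth.Agent.S7114
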