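import Groth.Statements.S7116
import Mathlib
import Groth.Agent.H27.SopExt

set_option autoImplicit false
universe u
open CAlg

namespace Groth.Agent.S7116

/-- Let R be a Noetherian local ring of Krull dimension d with maximal ideal m and let f be an element
of m contained in no minimal prime. Then there are g_1, ..., g_{d-1} in m and a natural number N
such that f, g_1, ..., g_{d-1} is a system of parameters (these d elements of m generate an ideal
with radical m) and, for every h in m^N, the elements f + h, g_1, ..., g_{d-1} again form a system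
of parameters and the lengths of R/(f, g_1, ..., g_{d-1}) and R/(f + h, g_1, ..., g_{d-1}) agree. -/
theorem result (R : Type u) [CommRing R] [IsNoetherianRing R] [IsLocalRing R]
    (d : ℕ) (hd : ringKrullDim R = d) (f : R) (hf : f ∈ IsLocalRing.maximalIdeal R)
    (hmin : ∀ p ∈ minimalPrimes R, f ∉ p) :
    ∃ (g : Fin (d - 1) → R) (N : ℕ), (∀ i, g i ∈ IsLocalRing.maximalIdeal R) ∧
      IsLocalRing.maximalIdeal R ≤ (Ideal.span (insert f (Set.range g))).radical ∧
      ∀ h ∈ IsLocalRing.maximalIdeal R ^ N,
        IsLocalRing.maximalIdeal R ≤ (Ideal.span (insert (f + h) (Set.range g))).radical ∧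
        Module.length R (R ⧸ Ideal.span (insert f (Set.range g))) =
          Module.length R (R ⧸ Ideal.span (insert (f + h) (Set.range g))) := by
  obtain ⟨g, hg, hrad⟩ := Groth.Agent.H27.SopExt.sop_exists R d hd f hf hmin 0
  have hgm : ∀ i, g i ∈ IsLocalRing.maximalIdeal R := fun i =>
    Ideal.pow_le_self (Nat.succ_ne_zero 0) (hg i)
  obtain ⟨N₀, hN₀⟩ := Ideal.exists_pow_le_of_le_radical_of_fg_radical hrad
    (IsNoetherian.noetherian _)
  refine ⟨g, N₀ + 1, hgm, hrad, fun h hh => ?_⟩
  have hhJ : h ∈ IsLocalRing.maximalIdeal R • Ideal.span (insert f (Set.range g)) := by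
    rw [smul_eq_mul]
    rw [pow_succ'] at hh
    exact Ideal.mul_mono_right hN₀ hh
  have hhJ' : h ∈ Ideal.span (insert f (Set.range g)) :=
    Ideal.mul_le_right (by rwa [smul_eq_mul] at hhJ)
  have heq : Ideal.span (insert (f + h) (Set.range g)) = Ideal.span (insert f (Set.range g)) := by
    apply le_antisymm
    · rw [Ideal.span_le]
      rintro x (rfl | ⟨i, rfl⟩)
      · exact add_mem (Ideal.subset_span (Set.mem_insert _ _)) hhJ'
      · exact Ideal.subset_span (Set.mem_insert_of_mem _ ⟨i, rfl⟩)
    · refine Submodule.le_of_le_smul_of_le_jacobson_bot (IsNoetherian.noetherian _)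
        (IsLocalRing.maximalIdeal_le_jacobson ⊥) ?_
      rw [Ideal.span_le]
      rintro x (rfl | ⟨i, rfl⟩)
      · have hx := Submodule.add_mem_sup
          (Ideal.subset_span (Set.mem_insert (x + h) (Set.range g))) (Submodule.neg_mem _ hhJ)
        rwa [add_neg_cancel_right] at hx
      · exact Submodule.mem_sup_left (Ideal.subset_span (Set.mem_insert_of_mem _ ⟨i, rfl⟩))
  rw [heq]
  exact ⟨hrad, rfl⟩

end Groth.Agent.S7116
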