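import Groth.Statements.S7122
import Mathlib.RingTheory.PrincipalIdealDomain
import Mathlib.RingTheory.Ideal.Operations
import Mathlib.LinearAlgebra.Matrix.Determinant.Basic

set_option autoImplicit false
universe u
open CAlg

namespace Groth.Agent.S7122

open Matrix

/-- the matrix used in the inductive step -/
def stepMatrix {R : Type*} [CommRing R] {n : ℕ} (f0 g a b : R) (B : Matrix (Fin (n + 1)) (Fin (n + 1)) R) :
    Matrix (Fin (n + 2)) (Fin (n + 2)) R :=
  Matrix.of (Fin.cons (Fin.cons f0 (g • B 0))
    (Fin.cons (Fin.cons (-b) (a • B 0)) (fun i : Fin n => Fin.cons 0 (B i.succ))))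

theorem stepMatrix_det {R : Type*} [CommRing R] {n : ℕ} (f0 g a b : R)
    (B : Matrix (Fin (n + 1)) (Fin (n + 1)) R) :
    (stepMatrix f0 g a b B).det = (a * f0 + b * g) * B.det := by
  rw [Matrix.det_succ_column_zero, Fin.sum_univ_succ, Fin.sum_univ_succ]
  have h0 : (stepMatrix f0 g a b B).submatrix (Fin.succAbove 0) Fin.succ =
      Matrix.updateRow B 0 (a • B 0) := by
    ext i j
    refine Fin.cases ?_ (fun i' => ?_) i
    · simp [stepMatrix, Matrix.updateRow_apply]
    · simp [stepMatrix, Matrix.updateRow_apply, Fin.succ_ne_zero]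
  have h1 : (stepMatrix f0 g a b B).submatrix (Fin.succAbove (Fin.succ 0)) Fin.succ =
      Matrix.updateRow B 0 (g • B 0) := by
    ext i j
    refine Fin.cases ?_ (fun i' => ?_) i
    · simp [stepMatrix, Matrix.updateRow_apply]
    · have : (Fin.succ (0 : Fin (n + 1))).succAbove i'.succ = i'.succ.succ := by
        rw [Fin.succ_succAbove_succ]
        simp
      simp [stepMatrix, Matrix.updateRow_apply, Fin.succ_ne_zero, this]
  have hrest : ∀ i : Fin n, (stepMatrix f0 g a b B) i.succ.succ 0 = 0 := by
    intro i
    simp [stepMatrix]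
  rw [h0, h1, Matrix.det_updateRow_smul, Matrix.det_updateRow_smul, Matrix.updateRow_eq_self]
  have hsum : ∑ i : Fin n, (-1 : R) ^ ((i.succ.succ : Fin (n + 2)) : ℕ) *
      (stepMatrix f0 g a b B) i.succ.succ 0 *
      ((stepMatrix f0 g a b B).submatrix (Fin.succAbove i.succ.succ) Fin.succ).det = 0 := by
    refine Finset.sum_eq_zero fun i _ => ?_
    rw [hrest i]; ring
  rw [hsum]
  simp [stepMatrix]
  ring

theorem stepMatrix_row_zero {R : Type*} [CommRing R] {n : ℕ} (f0 g a b : R)
    (B : Matrix (Fin (n + 1)) (Fin (n + 1)) R) :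
    (stepMatrix f0 g a b B) 0 = Fin.cons f0 (g • B 0) := rfl

/-- Let R be a Bézout domain, n ≥ 1, and f_1, ..., f_n elements generating the unit ideal. Then some
invertible n × n matrix over R has (f_1, ..., f_n) as its first row. -/
theorem result (R : Type u) [CommRing R] [IsDomain R] [IsBezout R]
    (n : ℕ) (f : Fin (n + 1) → R) (hf : Ideal.span (Set.range f) = ⊤) :
    ∃ A : Matrix (Fin (n + 1)) (Fin (n + 1)) R, IsUnit A.det ∧ A 0 = f := by
  induction n with
  | zero =>
    refine ⟨Matrix.of fun _ _ => f 0, ?_, ?_⟩
    · rw [Matrix.det_fin_one]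
      have : Set.range f = {f 0} := by
        ext x
        constructor
        · rintro ⟨i, rfl⟩
          have : i = 0 := Fin.fin_one_eq_zero i
          simp [this]
        · rintro rfl; exact ⟨0, rfl⟩
      rw [this, Ideal.span_singleton_eq_top] at hf
      simpa using hf
    · funext j
      have : j = 0 := Fin.fin_one_eq_zero j
      simp [this]
  | succ n ih =>
    -- the tail and its gcd
    set t : Fin (n + 1) → R := Fin.tail f with ht
    have hfg : (Ideal.span (Set.range t)).FG := Submodule.fg_span (Set.finite_range t)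
    obtain ⟨g, hg⟩ := (IsBezout.isPrincipal_of_FG _ hfg).principal
    have hg' : Ideal.span (Set.range t) = Ideal.span {g} := hg
    have hc : ∀ i, ∃ c : R, c * g = t i := by
      intro i
      have : t i ∈ Ideal.span {g} := by
        rw [← hg']; exact Ideal.subset_span ⟨i, rfl⟩
      exact Ideal.mem_span_singleton'.mp this
    choose c hc using hc
    -- a linear combination giving 1
    have h1 : (1 : R) ∈ Ideal.span (Set.range f) := by rw [hf]; trivial
    obtain ⟨l, hl⟩ := Ideal.mem_span_range_iff_exists_fun.mp h1
    rw [Fin.sum_univ_succ] at hl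
    have hl' : l 0 * f 0 + (∑ i : Fin (n + 1), l i.succ * c i) * g = 1 := by
      rw [← hl, Finset.sum_mul]
      congr 1
      refine Finset.sum_congr rfl fun i _ => ?_
      have : f i.succ = t i := rfl
      rw [this, ← hc i]; ring
    by_cases hg0 : g = 0
    · -- the tail vanishes and `f 0` is a unit
      have ht0 : ∀ i, t i = 0 := fun i => by rw [← hc i, hg0, mul_zero]
      have hu : IsUnit (f 0) := by
        rw [hg0, mul_zero, add_zero] at hl'
        exact IsUnit.of_mul_eq_one _ (by rw [mul_comm]; exact hl')
      refine ⟨Matrix.diagonal (Fin.cons (f 0) 1), ?_, ?_⟩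
      · rw [Matrix.det_diagonal, Fin.prod_univ_succ]
        simpa using hu
      · funext j
        refine Fin.cases ?_ (fun j' => ?_) j
        · simp
        · have : f j'.succ = 0 := ht0 j'
          simp [this, Matrix.diagonal_apply, (Fin.succ_ne_zero j').symm]
    · -- `c` generates the unit ideal
      have hcspan : Ideal.span (Set.range c) = ⊤ := by
        have hgmem : g ∈ Ideal.span (Set.range t) := by
          rw [hg']; exact Ideal.mem_span_singleton_self g
        obtain ⟨m, hm⟩ := Ideal.mem_span_range_iff_exists_fun.mp hgmem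
        rw [Ideal.eq_top_iff_one]
        rw [Ideal.mem_span_range_iff_exists_fun]
        refine ⟨m, ?_⟩
        have : (∑ i, m i * c i) * g = 1 * g := by
          calc (∑ i, m i * c i) * g = ∑ i, m i * t i := by
                rw [Finset.sum_mul]
                refine Finset.sum_congr rfl fun i _ => ?_
                rw [← hc i]; ring
            _ = 1 * g := by rw [hm, one_mul]
        exact mul_right_cancel₀ hg0 this
      obtain ⟨B, hBdet, hB0⟩ := ih c hcspan
      refine ⟨stepMatrix (f 0) g (l 0) (∑ i : Fin (n + 1), l i.succ * c i) B, ?_, ?_⟩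
      · rw [stepMatrix_det, hl', one_mul]; exact hBdet
      · rw [stepMatrix_row_zero, hB0]
        funext j
        refine Fin.cases ?_ (fun j' => ?_) j
        · simp
        · have : f j'.succ = t j' := rfl
          simp [this, ← hc j', mul_comm]

end Groth.Agent.S7122
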