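import Groth.Statements.S7123
import Mathlib

set_option autoImplicit false
universe u
open CAlg

namespace Groth.Agent.S7123

open DirectSum in
/-- For a module P over a ring R these two conditions are equivalent: (1) P is a retract (direct
summand) of a direct sum of cyclic modules R/fR, f ranging over R; (2) for every surjection of
R-modules π : B → C whose kernel A satisfies fA = A ∩ fB for every f in R, each linear map P → C
lifts through π. -/
theorem result (R : Type u) [CommRing R] (P : Type u)
    [AddCommGroup P] [Module R P] :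
    (∃ (ι : Type u) (f : ι → R) (i : P →ₗ[R] (⨁ j, R ⧸ Ideal.span {f j}))
        (p : (⨁ j, R ⧸ Ideal.span {f j}) →ₗ[R] P), p ∘ₗ i = LinearMap.id) ↔
      ∀ (B C : Type u) [AddCommGroup B] [Module R B] [AddCommGroup C] [Module R C] (π : B →ₗ[R] C),
        Function.Surjective π →
        (∀ (f : R) (b : B), π (f • b) = 0 → ∃ a : B, π a = 0 ∧ f • a = f • b) →
        ∀ ψ : P →ₗ[R] C, ∃ φ : P →ₗ[R] B, π ∘ₗ φ = ψ := by
  classical
  constructor
  · rintro ⟨ι, f, i, p, hpi⟩ B C _ _ _ _ π hπ hpure ψ
    -- for each j choose a lift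
    have h1 : ∀ j : ι, ∃ b : B, π b = ψ (p (DirectSum.lof R ι (fun j => R ⧸ Ideal.span {f j}) j
        (Submodule.Quotient.mk 1))) ∧ f j • b = 0 := by
      intro j
      set c := ψ (p (DirectSum.lof R ι (fun j => R ⧸ Ideal.span {f j}) j
        (Submodule.Quotient.mk 1))) with hc
      have hfc : f j • c = 0 := by
        rw [hc, ← map_smul, ← map_smul, ← map_smul, ← Submodule.Quotient.mk_smul]
        have : (Submodule.Quotient.mk (f j • (1 : R)) : R ⧸ Ideal.span {f j}) = 0 := by
          rw [Submodule.Quotient.mk_eq_zero, smul_eq_mul, mul_one]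
          exact Ideal.subset_span rfl
        rw [this, map_zero, map_zero, map_zero]
      obtain ⟨b, hb⟩ := hπ c
      obtain ⟨a, ha, hab⟩ := hpure (f j) b (by rw [map_smul, hb, hfc])
      refine ⟨b - a, by rw [map_sub, ha, sub_zero, hb], by rw [smul_sub, hab, sub_self]⟩
    choose b hb hfb using h1
    let φj : ∀ j : ι, (R ⧸ Ideal.span {f j}) →ₗ[R] B := fun j =>
      Submodule.liftQ (Ideal.span {f j}) (LinearMap.toSpanSingleton R B (b j)) (by
        rw [Ideal.span_le]
        intro r hr
        rw [Set.mem_singleton_iff] at hr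
        subst hr
        simp [hfb j])
    let φ' : (⨁ j, R ⧸ Ideal.span {f j}) →ₗ[R] B := DirectSum.toModule R ι B φj
    refine ⟨φ' ∘ₗ i, ?_⟩
    have : π ∘ₗ φ' = ψ ∘ₗ p := by
      apply DirectSum.linearMap_ext
      intro j
      apply Submodule.linearMap_qext
      apply LinearMap.ext_ring
      simp only [LinearMap.comp_apply, Submodule.mkQ_apply, φ', DirectSum.toModule_lof, φj,
        Submodule.liftQ_apply, LinearMap.toSpanSingleton_apply, one_smul]
      exact hb j
    rw [← LinearMap.comp_assoc, this, LinearMap.comp_assoc, hpi, LinearMap.comp_id]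
  · intro h
    let ι : Type u := {q : R × P // q.1 • q.2 = 0}
    let f : ι → R := fun q => q.1.1
    let πj : ∀ j : ι, (R ⧸ Ideal.span {f j}) →ₗ[R] P := fun j =>
      Submodule.liftQ (Ideal.span {f j}) (LinearMap.toSpanSingleton R P j.1.2) (by
        rw [Ideal.span_le]
        intro r hr
        rw [Set.mem_singleton_iff] at hr
        subst hr
        simp [f, j.2])
    let π : (⨁ j, R ⧸ Ideal.span {f j}) →ₗ[R] P := DirectSum.toModule R ι P πj
    have hπe : ∀ j : ι, π (DirectSum.lof R ι (fun j => R ⧸ Ideal.span {f j}) j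
        (Submodule.Quotient.mk 1)) = j.1.2 := by
      intro j
      simp only [π, DirectSum.toModule_lof, πj, Submodule.liftQ_apply,
        LinearMap.toSpanSingleton_apply, one_smul]
    have hsurj : Function.Surjective π := by
      intro x
      exact ⟨_, hπe ⟨(0, x), by simp⟩⟩
    have hpure : ∀ (g : R) (b : ⨁ j, R ⧸ Ideal.span {f j}), π (g • b) = 0 →
        ∃ a, π a = 0 ∧ g • a = g • b := by
      intro g b hgb
      rw [map_smul] at hgb
      let j : ι := ⟨(g, π b), hgb⟩
      let e := DirectSum.lof R ι (fun j => R ⧸ Ideal.span {f j}) j (Submodule.Quotient.mk 1)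
      have hge : g • e = 0 := by
        simp only [e]
        rw [← map_smul, ← Submodule.Quotient.mk_smul]
        have : (Submodule.Quotient.mk (g • (1 : R)) : R ⧸ Ideal.span {f j}) = 0 := by
          rw [Submodule.Quotient.mk_eq_zero, smul_eq_mul, mul_one]
          exact Ideal.subset_span rfl
        rw [this, map_zero]
      refine ⟨b - e, ?_, ?_⟩
      · rw [map_sub, hπe j, sub_self]
      · rw [smul_sub, hge, sub_zero]
    obtain ⟨φ, hφ⟩ := h _ _ π hsurj hpure LinearMap.id
    exact ⟨ι, f, φ, π, hφ⟩

end Groth.Agent.S7123
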