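import Groth.Statements.S7124
import Mathlib.Tactic
import Mathlib.LinearAlgebra.Dimension.Finite
import Mathlib.LinearAlgebra.Dimension.Free
import Mathlib.LinearAlgebra.Dimension.Constructions
import Mathlib.LinearAlgebra.FreeModule.Finite.Basic
import Mathlib.Data.Fintype.EquivFin

set_option autoImplicit false
universe u
open CAlg

namespace Groth.Agent.S7124


theorem total_rel (R F : Type*) [CommRing R] [IsDomain R] [ValuationRing R] [Field F] [Algebra R F]
    [IsFractionRing R F] (x y : F) :
    (∃ r : R, y = algebraMap R F r * x) ∨ (∃ r : R, x = algebraMap R F r * y) := by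
  by_cases hx : x = 0
  · right; exact ⟨0, by simp [hx]⟩
  by_cases hy : y = 0
  · left; exact ⟨0, by simp [hy]⟩
  rcases ValuationRing.isInteger_or_isInteger R (y / x) with ⟨r, hr⟩ | ⟨r, hr⟩
  · left; refine ⟨r, ?_⟩; rw [hr]; field_simp
  · right; refine ⟨r, ?_⟩; rw [hr]; field_simp

theorem exists_min_rel (R F : Type*) [CommRing R] [IsDomain R] [ValuationRing R] [Field F]
    [Algebra R F] [IsFractionRing R F] {κ : Type*} (z : κ → F) (s : Finset κ) (hs : s.Nonempty) :
    ∃ m ∈ s, ∀ i ∈ s, ∃ r : R, z i = algebraMap R F r * z m := by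
  induction hs using Finset.Nonempty.cons_induction with
  | singleton a =>
    exact ⟨a, Finset.mem_singleton_self a, fun i hi =>
      ⟨1, by rw [Finset.mem_singleton.mp hi, map_one, one_mul]⟩⟩
  | cons a s ha hs ih =>
    obtain ⟨m, hm, hdiv⟩ := ih
    rcases total_rel R F (z a) (z m) with ⟨r, hr⟩ | ⟨r, hr⟩
    · refine ⟨a, Finset.mem_cons_self a s, fun i hi => ?_⟩
      rcases Finset.mem_cons.mp hi with hia | hi
      · exact ⟨1, by rw [hia, map_one, one_mul]⟩
      · obtain ⟨r', hr'⟩ := hdiv i hi
        exact ⟨r' * r, by rw [hr', hr, map_mul, mul_assoc]⟩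
    · refine ⟨m, Finset.mem_cons.mpr (Or.inr hm), fun i hi => ?_⟩
      rcases Finset.mem_cons.mp hi with hia | hi
      · exact ⟨r, by rw [hia]; exact hr⟩
      · exact hdiv i hi

section
variable {A B K L : Type u} [CommRing A] [IsDomain A] [ValuationRing A] [CommRing B] [IsDomain B]
  [ValuationRing B] [Field K] [Field L] [Algebra A K] [IsFractionRing A K] [Algebra B L]
  [IsFractionRing B L] [Algebra A B] [Algebra K L] [Algebra A L] [IsScalarTower A K L]
  [IsScalarTower A B L] [IsLocalHom (algebraMap A B)]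

theorem unit_combo {f : ℕ} (ω : Fin f → B)
    (hω : LinearIndependent (IsLocalRing.ResidueField A) (fun j => IsLocalRing.residue B (ω j)))
    (a : Fin f → K) (ha : ∃ j, a j ≠ 0) :
    ∃ (c : K) (u : B), c ≠ 0 ∧ IsUnit u ∧
      ∑ j, algebraMap K L (a j) * algebraMap B L (ω j) = algebraMap K L c * algebraMap B L u := by
  obtain ⟨j₁, hj₁⟩ := ha
  obtain ⟨j₀, -, hmin⟩ := exists_min_rel A K a Finset.univ ⟨j₁, Finset.mem_univ _⟩
  have hmin' : ∀ j, ∃ r : A, a j = algebraMap A K r * a j₀ := fun j => hmin j (Finset.mem_univ j)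
  choose r hr using hmin'
  have hj₀ : a j₀ ≠ 0 := by
    intro h0
    apply hj₁
    rw [hr j₁, h0, mul_zero]
  have hr₀ : r j₀ = 1 := by
    have h1 : algebraMap A K (r j₀) * a j₀ = 1 * a j₀ := by rw [← hr j₀, one_mul]
    have h2 := mul_right_cancel₀ hj₀ h1
    exact IsFractionRing.injective A K (h2.trans (map_one _).symm)
  let u₀ : B := ∑ j, algebraMap A B (r j) * ω j
  refine ⟨a j₀, u₀, hj₀, ?_, ?_⟩
  · rw [← IsLocalRing.residue_ne_zero_iff_isUnit]
    intro h0
    have h1 : IsLocalRing.residue B u₀ =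
        ∑ j, IsLocalRing.residue A (r j) • IsLocalRing.residue B (ω j) := by
      simp only [u₀, map_sum, map_mul, Algebra.smul_def,
        IsLocalRing.ResidueField.algebraMap_residue]
    have h2 := Fintype.linearIndependent_iff.mp hω (fun j => IsLocalRing.residue A (r j))
      (h1.symm.trans h0) j₀
    simp only [hr₀, map_one] at h2
    exact one_ne_zero h2
  · simp only [u₀, map_sum, map_mul, Finset.mul_sum]
    apply Finset.sum_congr rfl
    intro j _
    rw [hr j, map_mul, ← IsScalarTower.algebraMap_apply A K L, IsScalarTower.algebraMap_apply A B L]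
    ring

theorem sum_ne_zero_of_distinct {ι : Type*} [Fintype ι] (z : ι → L)
    (hz : ∀ i i', i ≠ i' → z i ≠ 0 → z i' ≠ 0 →
      ¬ ∃ u : B, IsUnit u ∧ z i = algebraMap B L u * z i')
    (hsum : ∑ i, z i = 0) : ∀ i, z i = 0 := by
  classical
  by_contra hne
  push Not at hne
  obtain ⟨i₁, hi₁⟩ := hne
  let S : Finset ι := Finset.univ.filter fun i => z i ≠ 0
  have hS : S.Nonempty := ⟨i₁, by simp [S, hi₁]⟩
  obtain ⟨i₀, hi₀S, hmin⟩ := exists_min_rel B L z S hS
  have hi₀ : z i₀ ≠ 0 := by simpa [S] using hi₀S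
  have hb : ∀ i, ∃ b : B, z i = algebraMap B L b * z i₀ ∧
      (i ≠ i₀ → b ∈ IsLocalRing.maximalIdeal B) := by
    intro i
    by_cases hzi : z i = 0
    · exact ⟨0, by rw [hzi, map_zero, zero_mul], fun _ => zero_mem _⟩
    · obtain ⟨b, hb⟩ := hmin i (by simp [S, hzi])
      refine ⟨b, hb, fun hne => ?_⟩
      rw [IsLocalRing.mem_maximalIdeal, mem_nonunits_iff]
      intro hu
      exact hz i i₀ hne hzi hi₀ ⟨b, hu, hb⟩
  choose b hb1 hb2 using hb
  have hbi₀ : b i₀ = 1 := by
    have h1 : algebraMap B L (b i₀) * z i₀ = 1 * z i₀ := by rw [← hb1 i₀, one_mul]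
    have h2 := mul_right_cancel₀ hi₀ h1
    exact IsFractionRing.injective B L (h2.trans (map_one _).symm)
  have hsum' : algebraMap B L (∑ i, b i) * z i₀ = 0 := by
    rw [map_sum, Finset.sum_mul, ← hsum]
    exact Finset.sum_congr rfl fun i _ => (hb1 i).symm
  have hsumb : ∑ i, b i = 0 := by
    have := (mul_eq_zero.mp hsum').resolve_right hi₀
    exact IsFractionRing.injective B L (this.trans (map_zero _).symm)
  have hmem : ∑ i ∈ Finset.univ.erase i₀, b i ∈ IsLocalRing.maximalIdeal B :=
    Ideal.sum_mem _ fun i hi => hb2 i (Finset.ne_of_mem_erase hi)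
  have h1 : (1 : B) + ∑ i ∈ Finset.univ.erase i₀, b i = 0 := by
    rw [← hbi₀, Finset.add_sum_erase _ _ (Finset.mem_univ i₀), hsumb]
  have h2 : (1 : B) ∈ IsLocalRing.maximalIdeal B := by
    have : (1 : B) = -∑ i ∈ Finset.univ.erase i₀, b i := eq_neg_of_add_eq_zero_left h1
    rw [this]; exact neg_mem hmem
  exact (IsLocalRing.maximalIdeal.isMaximal B).ne_top ((Ideal.eq_top_iff_one _).mpr h2)

theorem linIndep_of {ι : Type*} [Fintype ι] (x : ι → Lˣ)
    (hx : ∀ i i', i ≠ i' → ¬ ∃ (c : K) (u : B), c ≠ 0 ∧ IsUnit u ∧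
      (x i : L) = algebraMap K L c * algebraMap B L u * (x i' : L))
    {f : ℕ} (ω : Fin f → B)
    (hω : LinearIndependent (IsLocalRing.ResidueField A) (fun j => IsLocalRing.residue B (ω j))) :
    LinearIndependent K (fun p : ι × Fin f => algebraMap B L (ω p.2) * (x p.1 : L)) := by
  classical
  rw [Fintype.linearIndependent_iff]
  intro a ha
  let y : ι → L := fun i => ∑ j, algebraMap K L (a (i, j)) * algebraMap B L (ω j)
  have hsum : ∑ i, y i * (x i : L) = 0 := by
    rw [← ha, Fintype.sum_prod_type]
    apply Finset.sum_congr rfl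
    intro i _
    simp only [y, Finset.sum_mul, Algebra.smul_def]
    apply Finset.sum_congr rfl
    intro j _
    ring
  have hy : ∀ i, (∃ j, a (i, j) ≠ 0) → ∃ (c : K) (u : B), c ≠ 0 ∧ IsUnit u ∧
      y i = algebraMap K L c * algebraMap B L u :=
    fun i hi => unit_combo ω hω (fun j => a (i, j)) hi
  have hz := sum_ne_zero_of_distinct (B := B) (fun i => y i * (x i : L)) ?_ hsum
  · rintro ⟨i, j⟩
    by_contra hne
    obtain ⟨c, u, hc, hu, hyi⟩ := hy i ⟨j, hne⟩
    have h0 : y i * (x i : L) = 0 := hz i
    have hxi : (x i : L) ≠ 0 := (x i).ne_zero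
    have hyi0 : y i = 0 := (mul_eq_zero.mp h0).resolve_right hxi
    rw [hyi] at hyi0
    rcases mul_eq_zero.mp hyi0 with h | h
    · exact hc ((map_eq_zero _).mp h)
    · exact hu.ne_zero ((map_eq_zero_iff _ (IsFractionRing.injective B L)).mp h)
  · intro i i' hne hzi hzi'
    rintro ⟨v, hv, hvv⟩
    have hyi : y i ≠ 0 := left_ne_zero_of_mul hzi
    have hyi' : y i' ≠ 0 := left_ne_zero_of_mul hzi'
    have hai : ∃ j, a (i, j) ≠ 0 := by
      by_contra h; push Not at h
      exact hyi (by simp [y, h])
    have hai' : ∃ j, a (i', j) ≠ 0 := by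
      by_contra h; push Not at h
      exact hyi' (by simp [y, h])
    obtain ⟨c, u, hc, hu, hyc⟩ := hy i hai
    obtain ⟨c', u', hc', hu', hyc'⟩ := hy i' hai'
    obtain ⟨uu, rfl⟩ := hu
    apply hx i i' hne
    refine ⟨c' / c, v * u' * ((uu⁻¹ : Bˣ) : B), div_ne_zero hc' hc,
      (hv.mul hu').mul (uu⁻¹).isUnit, ?_⟩
    rw [hyc, hyc'] at hvv
    have hP0 : algebraMap K L c ≠ 0 := by
      intro h; exact hc ((map_eq_zero _).mp h)
    have hQ0 : algebraMap B L (uu : B) ≠ 0 := by
      intro h
      exact uu.ne_zero ((map_eq_zero_iff _ (IsFractionRing.injective B L)).mp h)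
    have hQ : algebraMap B L (uu : B) * algebraMap B L ((uu⁻¹ : Bˣ) : B) = 1 := by
      rw [← map_mul, Units.mul_inv, map_one]
    have hP : algebraMap K L c * (algebraMap K L c' / algebraMap K L c) = algebraMap K L c' := by
      field_simp
    apply mul_left_cancel₀ (mul_ne_zero hP0 hQ0)
    rw [map_div₀, map_mul, map_mul]
    calc algebraMap K L c * algebraMap B L (uu : B) * (x i : L)
        = algebraMap B L v * (algebraMap K L c' * algebraMap B L u' * (x i' : L)) := hvv
      _ = (algebraMap K L c * (algebraMap K L c' / algebraMap K L c)) *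
            (algebraMap B L (uu : B) * algebraMap B L ((uu⁻¹ : Bˣ) : B)) *
            (algebraMap B L v * (algebraMap B L u' * (x i' : L))) := by
          rw [hP, hQ]; ring
      _ = _ := by ring

end



/-- Let A ⊆ B be an extension of valuation rings (both valuation domains, the inclusion injective and
local) with fraction fields K ⊆ L such that L/K is finite. Then the residue field of B is finite
over that of A, the value group of A has finite index in the value group of B, and (index of value
groups) · (residue degree) ≤ [L : K]. Here the value group of B is written as Lˣ modulo the units of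
B, and that of A as the image of Kˣ in it. -/
theorem result (A B K L : Type u) [CommRing A] [IsDomain A]
    [ValuationRing A] [CommRing B] [IsDomain B] [ValuationRing B] [Field K] [Field L]
    [Algebra A K] [IsFractionRing A K] [Algebra B L] [IsFractionRing B L] [Algebra A B] [Algebra K L]
    [Algebra A L] [IsScalarTower A K L] [IsScalarTower A B L] (hinj : Function.Injective (algebraMap A B))
    [IsLocalHom (algebraMap A B)] [FiniteDimensional K L] :
    let UB : Subgroup Lˣ := (Units.map (algebraMap B L).toMonoidHom).range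
    let ΓA : Subgroup (Lˣ ⧸ UB) := ((QuotientGroup.mk' UB).comp (Units.map (algebraMap K L).toMonoidHom)).range
    Module.Finite (IsLocalRing.ResidueField A) (IsLocalRing.ResidueField B) ∧ ΓA.index ≠ 0 ∧
      ΓA.index * Module.finrank (IsLocalRing.ResidueField A) (IsLocalRing.ResidueField B) ≤
        Module.finrank K L := by
  intro UB ΓA
  classical
  haveI : ΓA.Normal := ⟨fun n hn g => by
    obtain ⟨a, rfl⟩ := QuotientGroup.mk_surjective g
    obtain ⟨b, rfl⟩ := QuotientGroup.mk_surjective n
    have : (a : Lˣ ⧸ UB) * b * (a : Lˣ ⧸ UB)⁻¹ = b := by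
      rw [← QuotientGroup.mk_mul, ← QuotientGroup.mk_inv, ← QuotientGroup.mk_mul, mul_comm a b,
        mul_inv_cancel_right]
    rw [this]; exact hn⟩
  let π : Lˣ →* (Lˣ ⧸ UB) ⧸ ΓA := (QuotientGroup.mk' ΓA).comp (QuotientGroup.mk' UB)
  have hπ : Function.Surjective π :=
    (QuotientGroup.mk'_surjective ΓA).comp (QuotientGroup.mk'_surjective UB)
  let sec : (Lˣ ⧸ UB) ⧸ ΓA → Lˣ := Function.surjInv hπ
  have hsec : ∀ q, π (sec q) = q := Function.surjInv_eq hπ
  have hkey : ∀ x x' : Lˣ, (∃ (c : K) (u : B), c ≠ 0 ∧ IsUnit u ∧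
      (x : L) = algebraMap K L c * algebraMap B L u * (x' : L)) → π x = π x' := by
    rintro x x' ⟨c, u, hc, hu, hxx⟩
    obtain ⟨uu, rfl⟩ := hu
    have hx : x = Units.map (algebraMap K L).toMonoidHom (Units.mk0 c hc) *
        Units.map (algebraMap B L).toMonoidHom uu * x' := by
      ext; simpa using hxx
    rw [hx, map_mul, map_mul]
    have h1 : π (Units.map (algebraMap B L).toMonoidHom uu) = 1 := by
      show (QuotientGroup.mk' ΓA) ((QuotientGroup.mk' UB) _) = 1
      have : (QuotientGroup.mk' UB) (Units.map (algebraMap B L).toMonoidHom uu) = 1 := by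
        rw [QuotientGroup.mk'_apply, QuotientGroup.eq_one_iff]
        exact ⟨uu, rfl⟩
      rw [this, map_one]
    have h2 : π (Units.map (algebraMap K L).toMonoidHom (Units.mk0 c hc)) = 1 := by
      show (QuotientGroup.mk' ΓA) ((QuotientGroup.mk' UB) _) = 1
      rw [QuotientGroup.mk'_apply, QuotientGroup.eq_one_iff]
      exact ⟨Units.mk0 c hc, rfl⟩
    rw [h1, h2, one_mul, one_mul]
  have bound : ∀ (Q : Finset ((Lˣ ⧸ UB) ⧸ ΓA)) (f : ℕ) (ω : Fin f → B),
      LinearIndependent (IsLocalRing.ResidueField A) (fun j => IsLocalRing.residue B (ω j)) →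
      Q.card * f ≤ Module.finrank K L := by
    intro Q f ω hω
    have hli := linIndep_of (A := A) (K := K) (fun q : Q => sec q.1) ?_ ω hω
    · have := hli.fintype_card_le_finrank
      simpa [Fintype.card_prod, Fintype.card_coe] using this
    · intro q q' hne hex
      apply hne
      have := hkey _ _ hex
      rw [hsec, hsec] at this
      exact Subtype.ext this
  have hfin : Finite ((Lˣ ⧸ UB) ⧸ ΓA) := by
    by_contra hinf
    rw [not_finite_iff_infinite] at hinf
    obtain ⟨Q, hQ⟩ := Infinite.exists_subset_card_eq ((Lˣ ⧸ UB) ⧸ ΓA) (Module.finrank K L + 1)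
    have h1 := bound Q 1 (fun _ => 1) ?_
    · rw [hQ] at h1; omega
    · rw [Fintype.linearIndependent_iff]
      intro g hg i
      have hi : i = 0 := Subsingleton.elim _ _
      rw [hi]
      have h0 : algebraMap _ (IsLocalRing.ResidueField B) (g 0) = 0 := by
        simpa [Algebra.smul_def] using hg
      exact (map_eq_zero _).mp h0
  choose lift hlift using IsLocalRing.residue_surjective (R := B)
  have hres : Module.Finite (IsLocalRing.ResidueField A) (IsLocalRing.ResidueField B) := by
    rw [← Module.rank_lt_aleph0_iff]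
    refine lt_of_le_of_lt (rank_le (n := Module.finrank K L) ?_) (Cardinal.nat_lt_aleph0 _)
    intro s hs
    have hω : LinearIndependent (IsLocalRing.ResidueField A)
        (fun j : Fin s.card => IsLocalRing.residue B (lift ((s.equivFin.symm j : s) : _))) := by
      have := hs.comp s.equivFin.symm s.equivFin.symm.injective
      simpa [hlift, Function.comp_def] using this
    have := bound {1} s.card _ hω
    simpa using this
  refine ⟨hres, Subgroup.index_ne_zero_of_finite, ?_⟩
  haveI := Fintype.ofFinite ((Lˣ ⧸ UB) ⧸ ΓA)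
  let bs := Module.finBasis (IsLocalRing.ResidueField A) (IsLocalRing.ResidueField B)
  have hω : LinearIndependent (IsLocalRing.ResidueField A)
      (fun j => IsLocalRing.residue B (lift (bs j))) := by
    simpa [hlift] using bs.linearIndependent
  have := bound Finset.univ _ _ hω
  rw [Subgroup.index_eq_card, Nat.card_eq_fintype_card, ← Finset.card_univ]
  exact this

end Groth.Agent.S7124
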