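import Groth.Statements.S7127
import Groth.Agent.H27.WEt

set_option autoImplicit false
universe u
open EtAlg

namespace Groth.Agent.S7127

/-- Let A be a ring and B → C an A-algebra homomorphism between weakly étale A-algebras. Then C is
weakly étale over B. -/
theorem result (A B C : Type u) [CommRing A] [CommRing B] [CommRing C]
    [Algebra A B] [Algebra A C] [Algebra B C] [IsScalarTower A B C] [Algebra.WeaklyEtale A B]
    [Algebra.WeaklyEtale A C] : Algebra.WeaklyEtale B C := by
  haveI hflat : Module.Flat B C :=
    Groth.Agent.H27.WEt.flat_of_flat_lmul A B (Algebra.WeaklyEtale.flat_lmul' A B) C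
  refine ⟨hflat, ?_⟩
  have hA : (Algebra.TensorProduct.lmul' A (S := C)).Flat := Algebra.WeaklyEtale.flat_lmul' A C
  let φ : TensorProduct A C C →ₐ[A] TensorProduct B C C :=
    Algebra.TensorProduct.mapOfCompatibleSMul B A A C C
  have hφ : Function.Surjective φ :=
    Algebra.TensorProduct.mapOfCompatibleSMul_surjective B A A C C
  have heq : Algebra.TensorProduct.lmul' (S := C) A =
      AlgHom.comp ((Algebra.TensorProduct.lmul' (S := C) B).restrictScalars A) φ := by
    ext <;> simp [φ]
  have hcomp : ((Algebra.TensorProduct.lmul' B (S := C)).toRingHom.comp φ.toRingHom) =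
      (Algebra.TensorProduct.lmul' A (S := C)).toRingHom :=
    RingHom.ext fun x => (DFunLike.congr_fun heq x).symm
  apply Groth.Agent.H27.WEt.flat_of_surjective_comp φ.toRingHom hφ
  rw [hcomp]
  exact hA

end Groth.Agent.S7127
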