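import Groth.Statements.S7130
import Groth.Agent.H27.AbsFlat
import Mathlib.RingTheory.Ideal.Pure
import Mathlib.RingTheory.KrullDimension.Zero
import Mathlib.RingTheory.LocalProperties.Reduced
import Mathlib.RingTheory.Flat.Localization
import Mathlib.LinearAlgebra.FreeModule.Basic
import Mathlib.LinearAlgebra.Basis.VectorSpace

set_option autoImplicit false
universe u
open EtAlg

namespace Groth.Agent.S7130

/-- (2) ⇔ (3) ⇔ (4): for a ring A the following are equivalent: every A-module is flat; A is reduced of
Krull dimension zero, in the sense that every prime ideal of A is maximal; the local ring A_p is a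
field for every prime p. (The further equivalent condition 'A has weak dimension at most zero'
coincides with the first condition by definition and is not listed separately.) -/
theorem result (A : Type u) [CommRing A] :
    List.TFAE [∀ (M : Type u) [AddCommGroup M] [Module A M], Module.Flat A M,
      IsReduced A ∧ ∀ p : Ideal A, p.IsPrime → p.IsMaximal,
      ∀ (p : Ideal A) [p.IsPrime], IsField (Localization.AtPrime p)] := by
  tfae_have 1 → 2 := by
    intro h
    have hvn : ∀ a : A, ∃ b : A, a = a * a * b := by
      intro a
      haveI : (Ideal.span {a}).Pure := h (A ⧸ Ideal.span {a})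
      obtain ⟨y, hy, hay⟩ := Ideal.exists_eq_mul_of_pure (I := Ideal.span {a})
        (Ideal.mem_span_singleton_self a)
      obtain ⟨c, rfl⟩ := Ideal.mem_span_singleton'.mp hy
      exact ⟨c, by calc a = a * (c * a) := hay
        _ = a * a * c := by ring⟩
    constructor
    · rw [isReduced_iff_pow_one_lt 2 (by norm_num)]
      intro x hx
      obtain ⟨b, hb⟩ := hvn x
      rw [hb, ← pow_two, hx, zero_mul]
    · intro p hp
      rw [Ideal.isMaximal_iff]
      refine ⟨fun h1 => hp.ne_top ((Ideal.eq_top_iff_one _).mpr h1), ?_⟩
      intro J x hpJ hxp hxJ
      obtain ⟨b, hb⟩ := hvn x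
      have hmem : x * (1 - x * b) ∈ p := by
        have : x * (1 - x * b) = 0 := by
          have : x * (1 - x * b) = x - x * x * b := by ring
          rw [this, ← hb, sub_self]
        rw [this]; exact p.zero_mem
      have h1 : 1 - x * b ∈ p := (hp.mem_or_mem hmem).resolve_left hxp
      have : (1 : A) = (1 - x * b) + x * b := by ring
      rw [this]
      exact J.add_mem (hpJ h1) (J.mul_mem_right _ hxJ)
  tfae_have 2 → 3 := by
    rintro ⟨hred, hmax⟩ p hp
    haveI : Ring.KrullDimLE 0 A := Ring.KrullDimLE.mk₀ hmax
    have hpmin : p ∈ minimalPrimes A := by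
      rw [Ring.KrullDimLE.minimalPrimes_eq_setOfPred_isPrime]
      exact hp
    haveI : Ring.KrullDimLE 0 (Localization.AtPrime p) :=
      Ring.KrullDimLE.of_isLocalization p hpmin _
    exact Ring.KrullDimLE.isField_of_isReduced
  tfae_have 3 → 1 := by
    intro h M _ _
    apply Module.flat_of_localized_maximal
    intro P hP
    letI : Field (Localization.AtPrime P) := (h P).toField
    haveI : Module.Flat (Localization.AtPrime P) (LocalizedModule P.primeCompl M) :=
      Module.Flat.of_free
    haveI : Module.Flat A (Localization.AtPrime P) := IsLocalization.flat _ P.primeCompl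
    exact Module.Flat.trans A (Localization.AtPrime P) _
  tfae_finish

end Groth.Agent.S7130
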