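import Groth.Statements.S7128
import Groth.Agent.H27.WEt
import Groth.Agent.S7129
import Groth.Agent.S7130

set_option autoImplicit false
universe u
open EtAlg

namespace Groth.Agent.S7128

/-- A weakly étale algebra over a reduced ring is itself reduced. -/
theorem result (A B : Type u) [CommRing A] [CommRing B] [Algebra A B] [IsReduced A]
    [Algebra.WeaklyEtale A B] : IsReduced B := by
  classical
  let K : Type u := ∀ p : PrimeSpectrum A, p.asIdeal.ResidueField
  have hinj : Function.Injective (algebraMap A K) := by
    rw [injective_iff_map_eq_zero]
    intro a ha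
    have hmem : ∀ p : PrimeSpectrum A, a ∈ p.asIdeal := by
      intro p
      have h1 : algebraMap A p.asIdeal.ResidueField a = 0 := congrFun ha p
      exact Ideal.algebraMap_residueField_eq_zero.mp h1
    have hnil : IsNilpotent a := by
      rw [← mem_nilradical, nilradical_eq_sInf, Ideal.mem_sInf]
      intro J hJ
      exact hmem ⟨J, hJ⟩
    exact hnil.eq_zero
  have hflat : ∀ (M : Type u) [AddCommGroup M] [Module (TensorProduct A K B) M],
      Module.Flat (TensorProduct A K B) M := by
    intro M _ _
    letI : Module K M := Module.compHom M (algebraMap K (TensorProduct A K B))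
    haveI : IsScalarTower K (TensorProduct A K B) M := ⟨fun a b m => by
      show (a • b) • m = algebraMap K (TensorProduct A K B) a • (b • m)
      rw [← mul_smul]
      congr 1
      exact Algebra.smul_def a b⟩
    haveI : Module.Flat K M :=
      Groth.Agent.S7129.result (PrimeSpectrum A) (fun p => p.asIdeal.ResidueField) M
    exact Groth.Agent.H27.WEt.flat_of_flat_lmul K (TensorProduct A K B)
      (Algebra.WeaklyEtale.flat_lmul' K (TensorProduct A K B)) M
  have h01 : (∀ (M : Type u) [AddCommGroup M] [Module (TensorProduct A K B) M],
      Module.Flat (TensorProduct A K B) M) →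
      (IsReduced (TensorProduct A K B) ∧
        ∀ p : Ideal (TensorProduct A K B), p.IsPrime → p.IsMaximal) :=
    ((Groth.Agent.S7130.result (TensorProduct A K B)).out 0 1).1
  haveI hred : IsReduced (TensorProduct A K B) := (h01 hflat).1
  have hBinj : Function.Injective
      (Algebra.TensorProduct.includeRight : B →ₐ[A] TensorProduct A K B) :=
    Algebra.TensorProduct.includeRight_injective hinj
  exact isReduced_of_injective _ hBinj

end Groth.Agent.S7128
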