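import Groth.Statements.S7132
import Mathlib

set_option autoImplicit false
universe u
open EtAlg

namespace Groth.Agent.S7132

/-- For an injective local homomorphism A → B of discrete valuation rings whose fraction fields K ⊆ L
form a finite extension, the residue field of B is finite over that of A, and the ramification index
e times the residue degree f is at most [L : K]. -/
theorem result (A B K L : Type u) [CommRing A] [IsDomain A]
    [IsDiscreteValuationRing A] [CommRing B] [IsDomain B] [IsDiscreteValuationRing B] [Algebra A B]
    (hinj : Function.Injective (algebraMap A B)) [IsLocalHom (algebraMap A B)]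
    [Field K] [Field L] [Algebra A K] [IsFractionRing A K] [Algebra B L] [IsFractionRing B L]
    [Algebra K L] [Algebra A L] [IsScalarTower A K L] [IsScalarTower A B L] [FiniteDimensional K L] :
    Module.Finite (IsLocalRing.ResidueField A) (IsLocalRing.ResidueField B) ∧
      Ideal.ramificationIdx' (IsLocalRing.maximalIdeal A) (IsLocalRing.maximalIdeal B) *
          Module.finrank (IsLocalRing.ResidueField A) (IsLocalRing.ResidueField B) ≤
        Module.finrank K L := by
  classical
  obtain ⟨ϖ, hϖ⟩ := IsDiscreteValuationRing.exists_irreducible B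
  obtain ⟨π, hπ⟩ := IsDiscreteValuationRing.exists_irreducible A
  have hfπ : algebraMap A B π ≠ 0 := fun h => hπ.ne_zero (hinj (by rw [h, map_zero]))
  obtain ⟨e, he⟩ := IsDiscreteValuationRing.associated_pow_irreducible hfπ hϖ
  have hmap : (IsLocalRing.maximalIdeal A).map (algebraMap A B) =
      IsLocalRing.maximalIdeal B ^ e := by
    rw [hπ.maximalIdeal_eq, hϖ.maximalIdeal_eq, Ideal.map_span, Set.image_singleton,
      Ideal.span_singleton_pow]
    exact Ideal.span_singleton_eq_span_singleton.2 he
  have hram : Ideal.ramificationIdx' (IsLocalRing.maximalIdeal A)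
      (IsLocalRing.maximalIdeal B) = e := by
    apply Ideal.ramificationIdx'_spec
    · rw [hmap]
    · rw [hmap, hϖ.maximalIdeal_eq, Ideal.span_singleton_pow, Ideal.span_singleton_pow,
        Ideal.span_singleton_le_span_singleton]
      intro h2
      rw [pow_dvd_pow_iff hϖ.ne_zero hϖ.not_isUnit] at h2
      omega
  have he1 : e ≠ 0 := by
    rintro rfl
    rw [pow_zero] at he
    have hu : IsUnit (algebraMap A B π) := he.symm.isUnit isUnit_one
    exact hπ.not_isUnit (isUnit_of_map_unit (algebraMap A B) π hu)
  rw [hram]
  have hlenB : Module.length B (B ⧸ (IsLocalRing.maximalIdeal A).map (algebraMap A B)) = e := by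
    rw [hmap]
    exact IsDiscreteValuationRing.length_quotient_pow_maximalIdeal B e
  have hlenA := IsLocalRing.length_restrictScalars A B
    (B ⧸ (IsLocalRing.maximalIdeal A).map (algebraMap A B))
  rw [hlenB] at hlenA
  have hsurj : Module.length A (B ⧸ (IsLocalRing.maximalIdeal A).map (algebraMap A B)) =
      Module.length (A ⧸ IsLocalRing.maximalIdeal A)
        (B ⧸ (IsLocalRing.maximalIdeal A).map (algebraMap A B)) :=
    Module.length_eq_of_surjective Ideal.Quotient.mk_surjective
  letI : Field (A ⧸ IsLocalRing.maximalIdeal A) := Ideal.Quotient.field _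
  have hrank : Module.rank (A ⧸ IsLocalRing.maximalIdeal A)
      (B ⧸ (IsLocalRing.maximalIdeal A).map (algebraMap A B)) ≤ (Module.finrank K L : ℕ) := by
    apply rank_le
    intro s hs
    have hex : ∀ i : s, ∃ b : B, Ideal.Quotient.mk
        ((IsLocalRing.maximalIdeal A).map (algebraMap A B)) b = (i : _) :=
      fun i => Ideal.Quotient.mk_surjective _
    choose b' hb' using hex
    have hli : LinearIndependent (A ⧸ IsLocalRing.maximalIdeal A)
        (((Submodule.mkQ ((IsLocalRing.maximalIdeal A).map (algebraMap A B))).restrictScalars A :
          B →ₗ[A] (B ⧸ (IsLocalRing.maximalIdeal A).map (algebraMap A B))) ∘ b') := by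
      have hfun : (((Submodule.mkQ ((IsLocalRing.maximalIdeal A).map
          (algebraMap A B))).restrictScalars A :
          B →ₗ[A] (B ⧸ (IsLocalRing.maximalIdeal A).map (algebraMap A B))) ∘ b') =
          fun i : s => (i : B ⧸ (IsLocalRing.maximalIdeal A).map (algebraMap A B)) :=
        funext hb'
      rw [hfun]
      exact hs
    have hK := Ideal.FinrankQuotientMap.linearIndependent_of_nontrivial K (R := A)
      (S := A ⧸ IsLocalRing.maximalIdeal A)
      (by rw [Ideal.Quotient.algebraMap_eq, Ideal.mk_ker]
          exact (IsLocalRing.maximalIdeal.isMaximal A).ne_top)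
      ((Algebra.linearMap B L).restrictScalars A) (IsFractionRing.injective B L) _ hli
    have := hK.fintype_card_le_finrank
    simpa using this
  have hle : (e : ℕ∞) * Module.length (IsLocalRing.ResidueField A) (IsLocalRing.ResidueField B) ≤
      (Module.finrank K L : ℕ∞) := by
    rw [← hlenA, hsurj, Module.length_eq_rank]
    refine (OrderHomClass.mono Cardinal.toENat hrank).trans ?_
    rw [Cardinal.toENat_nat]
  have hfin : Module.length (IsLocalRing.ResidueField A) (IsLocalRing.ResidueField B) ≠ ⊤ := by
    intro h
    rw [h, ENat.mul_top (by exact_mod_cast he1)] at hle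
    exact ENat.coe_ne_top _ (top_le_iff.1 hle)
  haveI : Module.Finite (IsLocalRing.ResidueField A) (IsLocalRing.ResidueField B) := by
    rw [Module.length_ne_top_iff, isFiniteLength_iff_isNoetherian_isArtinian] at hfin
    haveI := hfin.1
    infer_instance
  refine ⟨inferInstance, ?_⟩
  rw [Module.length_eq_finrank] at hle
  exact_mod_cast hle

end Groth.Agent.S7132
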