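import Groth.Statements.S7133
import Mathlib

set_option autoImplicit false
universe u
open EtAlg

namespace Groth.Agent.S7133

/-- For an injective local homomorphism A → B of discrete valuation rings whose fields of fractions are
K ⊆ L: if K has characteristic p > 0 and L/K is purely inseparable, then the ramification index of B
over A is a power of p. -/
theorem result (A B K L : Type u) [CommRing A] [IsDomain A]
    [IsDiscreteValuationRing A] [CommRing B] [IsDomain B] [IsDiscreteValuationRing B] [Algebra A B]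
    (hinj : Function.Injective (algebraMap A B)) [IsLocalHom (algebraMap A B)]
    [Field K] [Field L] [Algebra A K] [IsFractionRing A K] [Algebra B L] [IsFractionRing B L]
    [Algebra K L] [Algebra A L] [IsScalarTower A K L] [IsScalarTower A B L]
    (p : ℕ) (hp : p.Prime) [CharP K p] [IsPurelyInseparable K L] :
    ∃ k : ℕ, Ideal.ramificationIdx' (IsLocalRing.maximalIdeal A) (IsLocalRing.maximalIdeal B) =
      p ^ k := by
  classical
  obtain ⟨ϖ, hϖ⟩ := IsDiscreteValuationRing.exists_irreducible B
  obtain ⟨π, hπ⟩ := IsDiscreteValuationRing.exists_irreducible A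
  have hfπ : algebraMap A B π ≠ 0 := fun h => hπ.ne_zero (hinj (by rw [h, map_zero]))
  obtain ⟨e, he⟩ := IsDiscreteValuationRing.associated_pow_irreducible hfπ hϖ
  have hram : Ideal.ramificationIdx' (IsLocalRing.maximalIdeal A)
      (IsLocalRing.maximalIdeal B) = e := by
    apply Ideal.ramificationIdx'_spec
    · rw [hπ.maximalIdeal_eq, hϖ.maximalIdeal_eq, Ideal.map_span, Set.image_singleton,
        Ideal.span_singleton_pow, Ideal.span_singleton_le_span_singleton]
      exact he.symm.dvd
    · rw [hπ.maximalIdeal_eq, hϖ.maximalIdeal_eq, Ideal.map_span, Set.image_singleton,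
        Ideal.span_singleton_pow, Ideal.span_singleton_le_span_singleton]
      intro h
      have h2 : ϖ ^ (e + 1) ∣ ϖ ^ e := h.trans he.dvd
      rw [pow_dvd_pow_iff hϖ.ne_zero hϖ.not_isUnit] at h2
      omega
  rw [hram]
  have key : ∀ a : A, a ≠ 0 → ∃ i, Associated (algebraMap A B a) (ϖ ^ (e * i)) := by
    intro a ha
    obtain ⟨i, hi⟩ := IsDiscreteValuationRing.associated_pow_irreducible ha hπ
    refine ⟨i, ?_⟩
    have h1 : Associated (algebraMap A B a) (algebraMap A B π ^ i) := by
      have := hi.map (algebraMap A B)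
      rwa [map_pow] at this
    rw [pow_mul]
    exact h1.trans (he.pow_pow)
  haveI : ExpChar K p := ExpChar.prime hp
  obtain ⟨n, hn⟩ := IsPurelyInseparable.pow_mem K p (algebraMap B L ϖ)
  obtain ⟨y, hy⟩ := RingHom.mem_range.1 hn
  obtain ⟨a, b, hb, hab⟩ := IsFractionRing.div_surjective (A := A) y
  have hb0 : b ≠ 0 := nonZeroDivisors.ne_zero hb
  have hBL : Function.Injective (algebraMap B L) := IsFractionRing.injective B L
  have hAL : ∀ x : A, algebraMap A L x = algebraMap B L (algebraMap A B x) :=
    fun x => IsScalarTower.algebraMap_apply A B L x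
  have hAKL : ∀ x : A, algebraMap K L (algebraMap A K x) = algebraMap A L x :=
    fun x => (IsScalarTower.algebraMap_apply A K L x).symm
  have hfb : algebraMap A B b ≠ 0 := fun h => hb0 (hinj (by rw [h, map_zero]))
  have heq : algebraMap A B a = ϖ ^ (p ^ n) * algebraMap A B b := by
    apply hBL
    rw [map_mul, map_pow, ← hy, ← hab, map_div₀, hAKL, hAKL, hAL, hAL]
    rw [div_mul_cancel₀]
    exact fun h => hfb (hBL (by rw [h, map_zero]))
  have ha0 : a ≠ 0 := by
    intro h
    rw [h, map_zero] at heq
    exact mul_ne_zero (pow_ne_zero _ hϖ.ne_zero) hfb heq.symm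
  obtain ⟨i, hi⟩ := key a ha0
  obtain ⟨j, hj⟩ := key b hb0
  have h3 : Associated (ϖ ^ (e * i)) (ϖ ^ (p ^ n + e * j)) := by
    rw [pow_add]
    refine hi.symm.trans ?_
    rw [heq]
    exact Associated.mul_left _ hj
  obtain ⟨u, hu⟩ := h3
  have h4 : e * i = p ^ n + e * j :=
    IsDiscreteValuationRing.unit_mul_pow_congr_pow hϖ hϖ u 1 _ _
      (by rw [Units.val_one, one_mul, mul_comm]; exact hu)
  have h5 : e ∣ p ^ n := by
    have h6 : e ∣ p ^ n + e * j := h4 ▸ dvd_mul_right e i
    exact (Nat.dvd_add_iff_left (dvd_mul_right e j)).2 h6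
  obtain ⟨k, -, hk⟩ := (Nat.dvd_prime_pow hp).1 h5
  exact ⟨k, hk⟩

end Groth.Agent.S7133
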