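import Groth.Statements.S7134
import Mathlib
import Groth.Agent.H27.AdicSmooth

set_option autoImplicit false
universe u
open EtAlg

namespace Groth.Agent.S7134

theorem fsq {A B : Type u} [CommRing A] [CommRing B] [Algebra A B] (𝔫 : Ideal B)
    (h : CAlgX.IsAdicFormallySmooth A B 𝔫) (k' : Type u) [CommRing k'] [Algebra A k']
    (hk' : Function.Surjective (algebraMap A k'))
    (C : Type u) [CommRing C] [Algebra k' C] [Algebra B C] [Algebra A C] [IsScalarTower A k' C]
    [IsScalarTower A B C] (hsurj : Function.Surjective (algebraMap B C))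
    (hker : RingHom.ker (algebraMap B C) = (RingHom.ker (algebraMap A k')).map (algebraMap A B))
    (hk : ∃ n : ℕ, 𝔫 ^ n ≤ RingHom.ker (algebraMap B C)) : Algebra.FormallySmooth k' C := by
  apply Algebra.FormallySmooth.of_comp_surjective
  intro E _ _ J hJ g
  letI : Algebra A E := ((algebraMap k' E).comp (algebraMap A k')).toAlgebra
  haveI : IsScalarTower A k' E := IsScalarTower.of_algebraMap_eq' rfl
  let ψ : B →ₐ[A] E ⧸ J :=
    { toRingHom := g.toRingHom.comp (algebraMap B C)
      commutes' := by
        intro a
        show g (algebraMap B C (algebraMap A B a)) = algebraMap A (E ⧸ J) a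
        rw [← IsScalarTower.algebraMap_apply A B C, IsScalarTower.algebraMap_apply A k' C,
          g.commutes]
        rfl }
  obtain ⟨n, hn⟩ := hk
  obtain ⟨χ, hχ⟩ := h E J hJ ψ ⟨n, fun x hx => by
    have h0 : algebraMap B C x = 0 := hn hx
    show g (algebraMap B C x) = 0
    rw [h0, map_zero]⟩
  have hkill : RingHom.ker (algebraMap B C) ≤ RingHom.ker χ.toRingHom := by
    rw [hker, Ideal.map_le_iff_le_comap]
    intro a ha
    rw [Ideal.mem_comap, RingHom.mem_ker]
    show χ (algebraMap A B a) = 0
    rw [χ.commutes]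
    show algebraMap k' E (algebraMap A k' a) = 0
    rw [(RingHom.mem_ker).mp ha, map_zero]
  let χ' : C →+* E := RingHom.liftOfSurjective (algebraMap B C) hsurj ⟨χ.toRingHom, hkill⟩
  have hχ' : ∀ b : B, χ' (algebraMap B C b) = χ b := fun b =>
    RingHom.congr_fun
      (RingHom.liftOfSurjective_comp (algebraMap B C) hsurj ⟨χ.toRingHom, hkill⟩) b
  refine ⟨{ toRingHom := χ', commutes' := ?_ }, ?_⟩
  · intro x
    obtain ⟨a, rfl⟩ := hk' x
    show χ' (algebraMap k' C (algebraMap A k' a)) = algebraMap k' E (algebraMap A k' a)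
    rw [← IsScalarTower.algebraMap_apply A k' C, IsScalarTower.algebraMap_apply A B C, hχ',
      χ.commutes]
    rfl
  · apply AlgHom.ext
    intro c
    obtain ⟨b, rfl⟩ := hsurj c
    show Ideal.Quotient.mk J (χ' (algebraMap B C b)) = g (algebraMap B C b)
    rw [hχ']
    exact AlgHom.congr_fun hχ b



/-- For an injective local homomorphism A → B of discrete valuation rings, A → B is formally smooth for
the adic topology of the maximal ideal of B if and only if A → B is weakly unramified and the
residue field of B is a separable (possibly transcendental, i.e. geometrically reduced) extension of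
the residue field of A. -/
theorem result (A B : Type u) [CommRing A]
    [IsDomain A] [IsDiscreteValuationRing A] [CommRing B] [IsDomain B] [IsDiscreteValuationRing B] [Algebra A B]
    (hinj : Function.Injective (algebraMap A B)) [IsLocalHom (algebraMap A B)] :
    CAlgX.IsAdicFormallySmooth A B (IsLocalRing.maximalIdeal B) ↔
      EtRam.IsWeaklyUnramified A B ∧
        Algebra.IsGeometricallyReduced (IsLocalRing.ResidueField A) (IsLocalRing.ResidueField B) := by
  classical
  obtain ⟨π, hπ⟩ := IsDiscreteValuationRing.exists_irreducible A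
  have hmA : IsLocalRing.maximalIdeal A = Ideal.span {π} := hπ.maximalIdeal_eq
  have hπ'0 : algebraMap A B π ≠ 0 := fun h0 => hπ.ne_zero (hinj (by rw [h0, map_zero]))
  have hkerA : RingHom.ker (algebraMap A (IsLocalRing.ResidueField A)) =
      IsLocalRing.maximalIdeal A := IsLocalRing.ker_residue
  constructor
  · intro h
    obtain ⟨ϖ, hϖ⟩ := IsDiscreteValuationRing.exists_irreducible B
    have hmB : IsLocalRing.maximalIdeal B = Ideal.span {ϖ} := hϖ.maximalIdeal_eq
    obtain ⟨e, he⟩ := IsDiscreteValuationRing.associated_pow_irreducible hπ'0 hϖ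
    have h𝔞 : (IsLocalRing.maximalIdeal A).map (algebraMap A B) =
        IsLocalRing.maximalIdeal B ^ e := by
      rw [hmA, Ideal.map_span, Set.image_singleton, hmB, Ideal.span_singleton_pow]
      exact Ideal.span_singleton_eq_span_singleton.mpr he
    have hne : (IsLocalRing.maximalIdeal A).map (algebraMap A B) ≠ ⊤ :=
      (IsLocalRing.map_maximalIdeal_lt_top (algebraMap A B)).ne
    have hi : (IsLocalRing.maximalIdeal A).map (algebraMap A B) = IsLocalRing.maximalIdeal B := by
      haveI : Nontrivial (B ⧸ (IsLocalRing.maximalIdeal A).map (algebraMap A B)) :=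
        Ideal.Quotient.nontrivial_iff.mpr hne
      haveI : IsLocalRing (B ⧸ (IsLocalRing.maximalIdeal A).map (algebraMap A B)) :=
        IsLocalRing.of_surjective' (Ideal.Quotient.mk _) Ideal.Quotient.mk_surjective
      letI : Algebra (IsLocalRing.ResidueField A)
          (B ⧸ (IsLocalRing.maximalIdeal A).map (algebraMap A B)) :=
        (Ideal.quotientMap ((IsLocalRing.maximalIdeal A).map (algebraMap A B)) (algebraMap A B)
          Ideal.le_comap_map).toAlgebra
      haveI : IsScalarTower A (IsLocalRing.ResidueField A)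
          (B ⧸ (IsLocalRing.maximalIdeal A).map (algebraMap A B)) :=
        IsScalarTower.of_algebraMap_eq' (RingHom.ext fun a => rfl)
      haveI : Algebra.FormallySmooth (IsLocalRing.ResidueField A)
          (B ⧸ (IsLocalRing.maximalIdeal A).map (algebraMap A B)) := by
        refine fsq (IsLocalRing.maximalIdeal B) h (IsLocalRing.ResidueField A)
          IsLocalRing.residue_surjective _ Ideal.Quotient.mk_surjective ?_ ⟨e, ?_⟩
        · rw [Ideal.Quotient.algebraMap_eq, Ideal.mk_ker, hkerA]
        · rw [Ideal.Quotient.algebraMap_eq, Ideal.mk_ker, h𝔞]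
      have hnilC : IsNilpotent (IsLocalRing.maximalIdeal
          (B ⧸ (IsLocalRing.maximalIdeal A).map (algebraMap A B))) := by
        refine ⟨e, ?_⟩
        rw [Ideal.zero_eq_bot, eq_bot_iff]
        have hle : IsLocalRing.maximalIdeal
            (B ⧸ (IsLocalRing.maximalIdeal A).map (algebraMap A B)) ≤
            (IsLocalRing.maximalIdeal B).map (Ideal.Quotient.mk _) := by
          intro x hx
          obtain ⟨b, rfl⟩ := Ideal.Quotient.mk_surjective x
          apply Ideal.mem_map_of_mem
          rw [IsLocalRing.mem_maximalIdeal] at hx ⊢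
          intro hu
          exact hx (hu.map _)
        calc _ ≤ ((IsLocalRing.maximalIdeal B).map (Ideal.Quotient.mk _)) ^ e :=
              Ideal.pow_right_mono hle e
          _ = ⊥ := by rw [← Ideal.map_pow, ← h𝔞, Ideal.map_quotient_self]
      have hbot := Groth.Agent.H27.FieldSmooth.maximalIdeal_eq_bot_of_field
        (k := IsLocalRing.ResidueField A)
        (S := B ⧸ (IsLocalRing.maximalIdeal A).map (algebraMap A B)) hnilC
      have hF : IsField (B ⧸ (IsLocalRing.maximalIdeal A).map (algebraMap A B)) :=
        IsLocalRing.isField_iff_maximalIdeal_eq.mpr hbot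
      exact IsLocalRing.eq_maximalIdeal (Ideal.Quotient.maximal_of_isField _ hF)
    refine ⟨hi, ?_⟩
    haveI : Algebra.FormallySmooth (IsLocalRing.ResidueField A) (IsLocalRing.ResidueField B) := by
      refine fsq (IsLocalRing.maximalIdeal B) h (IsLocalRing.ResidueField A)
        IsLocalRing.residue_surjective _ IsLocalRing.residue_surjective ?_ ⟨1, ?_⟩
      · rw [hkerA, hi]; exact IsLocalRing.ker_residue
      · rw [pow_one]; exact le_of_eq IsLocalRing.ker_residue.symm
    exact Groth.Agent.H27.AdicSmooth.geomReduced_of_formallySmooth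
  · rintro ⟨hwu, hgr⟩
    have hwu' : (IsLocalRing.maximalIdeal A).map (algebraMap A B) = IsLocalRing.maximalIdeal B :=
      hwu
    have hmB : IsLocalRing.maximalIdeal B = Ideal.span {algebraMap A B π} := by
      rw [← hwu', hmA, Ideal.map_span, Set.image_singleton]
    haveI : Module.IsTorsionFree A B := ⟨fun r hr b b' hbb' => by
      have hr0 : algebraMap A B r ≠ 0 := fun h0 => hr.ne_zero (hinj (by rw [h0, map_zero]))
      simp only [Algebra.smul_def] at hbb'
      exact mul_left_cancel₀ hr0 hbb'⟩
    haveI : Module.Flat A B := inferInstance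
    haveI : Algebra.FormallySmooth (IsLocalRing.ResidueField A) (IsLocalRing.ResidueField B) :=
      Groth.Agent.H27.FieldSmooth.formallySmooth_of_geomReduced
    have h1 : ∀ f : A ⧸ Ideal.span {π ^ 1} →+* B ⧸ Ideal.span {algebraMap A B π ^ 1},
        (∀ a, f (Ideal.Quotient.mk _ a) = Ideal.Quotient.mk _ (algebraMap A B a)) →
          f.FormallySmooth := by
      intro f hf
      have eA : Ideal.span {π ^ 1} = IsLocalRing.maximalIdeal A := by rw [pow_one, hmA]
      have eB : Ideal.span {algebraMap A B π ^ 1} = IsLocalRing.maximalIdeal B := by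
        rw [pow_one, hmB]
      let iA : A ⧸ Ideal.span {π ^ 1} ≃+* IsLocalRing.ResidueField A := Ideal.quotEquivOfEq eA
      let iB : B ⧸ Ideal.span {algebraMap A B π ^ 1} ≃+* IsLocalRing.ResidueField B :=
        Ideal.quotEquivOfEq eB
      have hfeq : f = (iB.symm.toRingHom.comp
          (algebraMap (IsLocalRing.ResidueField A) (IsLocalRing.ResidueField B))).comp
            iA.toRingHom := by
        apply Ideal.Quotient.ringHom_ext
        ext a
        show f (Ideal.Quotient.mk _ a) = iB.symm (algebraMap (IsLocalRing.ResidueField A)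
          (IsLocalRing.ResidueField B) (iA (Ideal.Quotient.mk _ a)))
        rw [hf, RingEquiv.eq_symm_apply]
        rfl
      rw [hfeq]
      exact RingHom.FormallySmooth.comp (RingHom.FormallySmooth.of_bijective iA.bijective)
        (RingHom.FormallySmooth.comp (RingHom.formallySmooth_algebraMap.mpr inferInstance)
          (RingHom.FormallySmooth.of_bijective iB.symm.bijective))
    have hall := Groth.Agent.H27.AdicSmooth.formallySmooth_quot_pow π h1
    intro E _ _ J hJ ψ hψ
    obtain ⟨k, hk⟩ := hψ
    have hkill1 : ψ (algebraMap A B π ^ (k + 1)) = 0 := by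
      apply hk
      apply Ideal.pow_le_pow_right (Nat.le_succ k)
      apply Ideal.pow_mem_pow
      rw [hmB]; exact Ideal.mem_span_singleton_self _
    have hE1 : algebraMap A E (π ^ (k + 1)) ∈ J := by
      rw [← Ideal.Quotient.eq_zero_iff_mem]
      have h2 : Ideal.Quotient.mk J (algebraMap A E (π ^ (k + 1))) =
          ψ (algebraMap A B (π ^ (k + 1))) := (ψ.commutes (π ^ (k + 1))).symm
      rw [h2, map_pow, hkill1]
    obtain ⟨c, hc⟩ : ∃ c : ℕ, c = (k + 1) + (k + 1) := ⟨_, rfl⟩
    have hc1 : 1 ≤ c := by omega
    have hE2 : algebraMap A E (π ^ c) = 0 := by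
      have h2 : algebraMap A E (π ^ c) =
          algebraMap A E (π ^ (k + 1)) * algebraMap A E (π ^ (k + 1)) := by
        rw [← map_mul, ← pow_add, hc]
      have hmem : algebraMap A E (π ^ c) ∈ J ^ 2 := by
        rw [h2, pow_two]; exact Ideal.mul_mem_mul hE1 hE1
      rw [hJ] at hmem; simpa using hmem
    have hψc : ψ (algebraMap A B π ^ c) = 0 := by
      have h2 : algebraMap A B π ^ c = algebraMap A B π ^ (k + 1) * algebraMap A B π ^ (k + 1) := by
        rw [← pow_add, hc]
      rw [h2, map_mul, hkill1, zero_mul]
    have hcomap : Ideal.span {π ^ c} ≤ Ideal.comap (algebraMap A B)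
        (Ideal.span {algebraMap A B π ^ c}) := by
      rw [Ideal.span_singleton_le_iff_mem, Ideal.mem_comap, map_pow]
      exact Ideal.mem_span_singleton_self _
    let f : A ⧸ Ideal.span {π ^ c} →+* B ⧸ Ideal.span {algebraMap A B π ^ c} :=
      Ideal.quotientMap _ (algebraMap A B) hcomap
    have hf : ∀ a, f (Ideal.Quotient.mk _ a) = Ideal.Quotient.mk _ (algebraMap A B a) :=
      fun a => Ideal.quotientMap_mk
    have hfs : f.FormallySmooth := hall c hc1 f hf
    let u : A ⧸ Ideal.span {π ^ c} →+* E := Ideal.Quotient.lift _ (algebraMap A E) (by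
      intro a ha
      obtain ⟨b, rfl⟩ := Ideal.mem_span_singleton.mp ha
      rw [map_mul, hE2, zero_mul])
    let v : B ⧸ Ideal.span {algebraMap A B π ^ c} →+* E ⧸ J :=
      Ideal.Quotient.lift _ ψ.toRingHom (by
        intro b hb
        obtain ⟨b', rfl⟩ := Ideal.mem_span_singleton.mp hb
        show ψ (algebraMap A B π ^ c * b') = 0
        rw [map_mul, hψc, zero_mul])
    have huv : v.comp f = (Ideal.Quotient.mk J).comp u := by
      apply Ideal.Quotient.ringHom_ext
      ext a
      show v (f (Ideal.Quotient.mk _ a)) = Ideal.Quotient.mk J (u (Ideal.Quotient.mk _ a))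
      rw [hf]
      show ψ (algebraMap A B a) = Ideal.Quotient.mk J (algebraMap A E a)
      rw [ψ.commutes]; rfl
    obtain ⟨w, hw1, hw2⟩ :=
      Groth.Agent.H27.AdicSmooth.exists_lift_ringHom f hfs J hJ u v huv
    refine ⟨{ toRingHom := w.comp (Ideal.Quotient.mk _), commutes' := ?_ }, ?_⟩
    · intro a
      show w (Ideal.Quotient.mk _ (algebraMap A B a)) = algebraMap A E a
      rw [← hf]
      exact RingHom.congr_fun hw1 (Ideal.Quotient.mk _ a)
    · apply AlgHom.ext
      intro b
      show Ideal.Quotient.mk J (w (Ideal.Quotient.mk _ b)) = ψ b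
      exact RingHom.congr_fun hw2 (Ideal.Quotient.mk _ b)

end Groth.Agent.S7134
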