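import Groth.Statements.S7136
import Mathlib.RingTheory.Filtration
import Mathlib.LinearAlgebra.Isomorphisms
import Mathlib.LinearAlgebra.Finsupp.LinearCombination
import Mathlib.LinearAlgebra.Pi
import Mathlib.RingTheory.Noetherian.Basic
import Mathlib.RingTheory.Finiteness.Prod
import Mathlib.Tactic

set_option autoImplicit false
universe u
open CAlg

namespace Groth.Agent.S7136

section helpers

variable {A : Type u} [CommRing A]

/-- membership in `J • ⊤` of a finite power of a module is componentwise -/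
theorem mem_smul_top_pi {ι : Type} [Fintype ι] [DecidableEq ι] {N : Type u} [AddCommGroup N]
    [Module A N] (J : Ideal A) (y : ι → N) :
    y ∈ J • (⊤ : Submodule A (ι → N)) ↔ ∀ i, y i ∈ J • (⊤ : Submodule A N) := by
  constructor
  · intro hy i
    have h : (LinearMap.proj i : (ι → N) →ₗ[A] N) y ∈
        Submodule.map (LinearMap.proj i) (J • (⊤ : Submodule A (ι → N))) :=
      Submodule.mem_map_of_mem hy
    rw [Submodule.map_smul''] at h
    exact Submodule.smul_mono le_rfl le_top h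
  · intro hy
    have h0 : y = ∑ i, (LinearMap.single A (fun _ => N) i) (y i) := by
      have := (Finset.univ_sum_single y).symm
      simpa using this
    rw [h0]
    refine Submodule.sum_mem _ fun i _ => ?_
    have h : (LinearMap.single A (fun _ => N) i) (y i) ∈
        Submodule.map (LinearMap.single A (fun _ => N) i) (J • (⊤ : Submodule A N)) :=
      Submodule.mem_map_of_mem (hy i)
    rw [Submodule.map_smul''] at h
    exact Submodule.smul_mono le_rfl le_top h

/-- the "relations matrix" acting on `X^r`. -/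
def Tmap {r s : ℕ} (kk : Fin s → Fin r → A) (X : Type u) [AddCommGroup X] [Module A X] :
    (Fin r → X) →ₗ[A] (Fin s → X) :=
  LinearMap.pi fun j => ∑ i, kk j i • LinearMap.proj i

theorem Tmap_apply {r s : ℕ} (kk : Fin s → Fin r → A) (X : Type u) [AddCommGroup X] [Module A X]
    (x : Fin r → X) (j : Fin s) : Tmap kk X x j = ∑ i, kk j i • x i := by
  simp [Tmap, LinearMap.pi_apply, LinearMap.sum_apply]

theorem exists_hom_of_Tmap_eq_zero {M : Type u} [AddCommGroup M] [Module A M] {r s : ℕ}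
    (m : Fin r → M) (hm : Submodule.span A (Set.range m) = ⊤) (kk : Fin s → Fin r → A)
    (hk : Submodule.span A (Set.range kk) = LinearMap.ker (Fintype.linearCombination A m))
    (X : Type u) [AddCommGroup X] [Module A X] (x : Fin r → X) (hx : Tmap kk X x = 0) :
    ∃ ψ : M →ₗ[A] X, ∀ i, ψ (m i) = x i := by
  classical
  have hπ : Function.Surjective (Fintype.linearCombination A m) := by
    rw [← LinearMap.range_eq_top, Fintype.range_linearCombination]; exact hm
  have hle : LinearMap.ker (Fintype.linearCombination A m) ≤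
      LinearMap.ker (Fintype.linearCombination A x) := by
    rw [← hk, Submodule.span_le]
    rintro _ ⟨j, rfl⟩
    rw [SetLike.mem_coe, LinearMap.mem_ker, Fintype.linearCombination_apply]
    have := congrFun hx j
    rw [Tmap_apply] at this
    simpa using this
  refine ⟨(Submodule.liftQ _ (Fintype.linearCombination A x) hle) ∘ₗ
    (LinearMap.quotKerEquivOfSurjective (Fintype.linearCombination A m) hπ).symm.toLinearMap,
    fun i => ?_⟩
  have h1 : m i = Fintype.linearCombination A m (Pi.single i 1) := by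
    rw [Fintype.linearCombination_apply_single, one_smul]
  have h2 : (LinearMap.quotKerEquivOfSurjective (Fintype.linearCombination A m) hπ).symm
      (Fintype.linearCombination A m (Pi.single i 1)) = Submodule.Quotient.mk (Pi.single i 1) := by
    rw [LinearEquiv.symm_apply_eq]; rfl
  rw [LinearMap.comp_apply, LinearEquiv.coe_coe, h1, h2, Submodule.liftQ_apply,
    Fintype.linearCombination_apply_single, one_smul]

theorem Tmap_of_hom {M : Type u} [AddCommGroup M] [Module A M] {r s : ℕ}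
    (m : Fin r → M) (kk : Fin s → Fin r → A)
    (hk : Submodule.span A (Set.range kk) = LinearMap.ker (Fintype.linearCombination A m))
    (X : Type u) [AddCommGroup X] [Module A X] (ψ : M →ₗ[A] X) :
    Tmap kk X (fun i => ψ (m i)) = 0 := by
  ext j
  rw [Tmap_apply]
  have h : kk j ∈ LinearMap.ker (Fintype.linearCombination A m) := by
    rw [← hk]; exact Submodule.subset_span ⟨j, rfl⟩
  rw [LinearMap.mem_ker, Fintype.linearCombination_apply] at h
  calc ∑ i, kk j i • ψ (m i) = ψ (∑ i, kk j i • m i) := by simp [map_sum]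
    _ = 0 := by rw [h, map_zero]

theorem exists_AR_image [IsNoetherianRing A] (I : Ideal A) {P Q : Type u} [AddCommGroup P]
    [Module A P] [AddCommGroup Q] [Module A Q] [Module.Finite A Q] (T : P →ₗ[A] Q) :
    ∃ c : ℕ, ∀ n : ℕ, ∀ x : P, T x ∈ I ^ n • (⊤ : Submodule A Q) →
      ∃ w ∈ I ^ (n - c) • (⊤ : Submodule A P), T (x - w) = 0 := by
  obtain ⟨c, hc⟩ := Ideal.exists_pow_inf_eq_pow_smul I (LinearMap.range T)
  refine ⟨c, fun n x hx => ?_⟩
  by_cases hn : c ≤ n
  · have h1 : T x ∈ I ^ n • (⊤ : Submodule A Q) ⊓ LinearMap.range T :=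
      ⟨hx, LinearMap.mem_range_self T x⟩
    rw [hc n hn] at h1
    have h2 : T x ∈ I ^ (n - c) • LinearMap.range T := Submodule.smul_mono le_rfl inf_le_right h1
    rw [LinearMap.range_eq_map, ← Submodule.map_smul''] at h2
    obtain ⟨w, hw, hwx⟩ := h2
    exact ⟨w, hw, by rw [map_sub, hwx, sub_self]⟩
  · have h0 : n - c = 0 := by omega
    refine ⟨x, ?_, by simp⟩
    rw [h0, pow_zero, Ideal.one_eq_top, Submodule.top_smul]; trivial

theorem exists_AR_range [IsNoetherianRing A] (I : Ideal A) {H P : Type u} [AddCommGroup H]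
    [Module A H] [AddCommGroup P] [Module A P] [Module.Finite A P] (Ψ : H →ₗ[A] P)
    (hΨ : Function.Injective Ψ) :
    ∃ c : ℕ, ∀ n : ℕ, ∀ φ : H, Ψ φ ∈ I ^ n • (⊤ : Submodule A P) →
      φ ∈ I ^ (n - c) • (⊤ : Submodule A H) := by
  obtain ⟨c, hc⟩ := Ideal.exists_pow_inf_eq_pow_smul I (LinearMap.range Ψ)
  refine ⟨c, fun n φ hφ => ?_⟩
  by_cases hn : c ≤ n
  · have h1 : Ψ φ ∈ I ^ n • (⊤ : Submodule A P) ⊓ LinearMap.range Ψ :=
      ⟨hφ, LinearMap.mem_range_self Ψ φ⟩
    rw [hc n hn] at h1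
    have h2 : Ψ φ ∈ I ^ (n - c) • LinearMap.range Ψ := Submodule.smul_mono le_rfl inf_le_right h1
    rw [LinearMap.range_eq_map, ← Submodule.map_smul''] at h2
    obtain ⟨w, hw, hwx⟩ := h2
    rwa [← hΨ hwx]
  · have h0 : n - c = 0 := by omega
    rw [h0, pow_zero, Ideal.one_eq_top, Submodule.top_smul]; trivial

end helpers


/-- Let A be a Noetherian ring, I an ideal, and M, N finite A-modules; write N_n = N/IⁿN, so that
Hom_A(M/IⁿM, N_n) = Hom_A(M, N_n). Then (1) the inverse system (Hom_A(M, N_n))_n, with transition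
maps induced by the projections N_k → N_n, is Mittag-Leffler; (2) there is c ≥ 0 such that for all n
the kernel and the cokernel of Hom_A(M, N)/IⁿHom_A(M, N) → Hom_A(M, N_n) are annihilated by I^c. -/
theorem result (A : Type u) [CommRing A] [IsNoetherianRing A]
    (I : Ideal A) (M N : Type u) [AddCommGroup M] [Module A M] [Module.Finite A M] [AddCommGroup N] [Module A N]
    [Module.Finite A N] :
    let Nq : ℕ → Submodule A N := fun n => I ^ n • ⊤
    let pr : ∀ n k : ℕ, n ≤ k → (N ⧸ Nq k) →ₗ[A] (N ⧸ Nq n) :=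
      fun n k hnk => Submodule.mapQ (Nq k) (Nq n) (LinearMap.id : N →ₗ[A] N) (Submodule.smul_mono_left (Ideal.pow_le_pow_right hnk))
    let red : ∀ n : ℕ, (M →ₗ[A] N) → (M →ₗ[A] N ⧸ Nq n) := fun n φ => (Nq n).mkQ ∘ₗ φ
    (∀ n : ℕ, ∃ m : ℕ, n ≤ m ∧ ∀ (k : ℕ) (hmk : m ≤ k) (hnm : n ≤ m) (ψ : M →ₗ[A] N ⧸ Nq m),
        ∃ ψ' : M →ₗ[A] N ⧸ Nq k, pr n k (hnm.trans hmk) ∘ₗ ψ' = pr n m hnm ∘ₗ ψ) ∧
    ∃ c : ℕ, ∀ n : ℕ,
      (∀ φ : M →ₗ[A] N, red n φ = 0 → ∀ a ∈ I ^ c, a • φ ∈ (I ^ n • ⊤ : Submodule A (M →ₗ[A] N))) ∧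
      (∀ (ψ : M →ₗ[A] N ⧸ Nq n), ∀ a ∈ I ^ c, ∃ φ : M →ₗ[A] N, red n φ = a • ψ) := by
  intro Nq pr red
  classical
  obtain ⟨r, m, hm⟩ := Module.Finite.exists_fin (R := A) (M := M)
  have hKfg : (LinearMap.ker (Fintype.linearCombination A m)).FG := IsNoetherian.noetherian _
  obtain ⟨s, kk, hk⟩ := Submodule.fg_iff_exists_fin_generating_family.mp hKfg
  -- basic facts about the let-bound data
  have hpr : ∀ (n k : ℕ) (h : n ≤ k) (y : N), pr n k h ((Nq k).mkQ y) = (Nq n).mkQ y :=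
    fun n k h y => rfl
  have hNq : ∀ (n : ℕ) (y : N), (Nq n).mkQ y = 0 ↔ y ∈ I ^ n • (⊤ : Submodule A N) :=
    fun n y => Submodule.Quotient.mk_eq_zero (Nq n)
  -- the evaluation map
  let Ψ : (M →ₗ[A] N) →ₗ[A] (Fin r → N) := LinearMap.pi fun i => LinearMap.applyₗ (m i)
  have hΨa : ∀ φ i, Ψ φ i = φ (m i) := fun φ i => rfl
  have hΨ : Function.Injective Ψ := by
    intro φ φ' h
    exact LinearMap.ext_on_range hm fun i => by rw [← hΨa, h, hΨa]
  obtain ⟨c1, hc1⟩ := exists_AR_image I (Tmap kk N)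
  obtain ⟨c2, hc2⟩ := exists_AR_range I Ψ hΨ
  -- K1 : lifting
  have K1 : ∀ (n : ℕ) (ψ : M →ₗ[A] N ⧸ Nq n), ∃ x : Fin r → N,
      (∀ i, (Nq n).mkQ (x i) = ψ (m i)) ∧ Tmap kk N x ∈ I ^ n • (⊤ : Submodule A (Fin s → N)) := by
    intro n ψ
    choose x hx using fun i => Submodule.mkQ_surjective (Nq n) (ψ (m i))
    refine ⟨x, hx, ?_⟩
    rw [mem_smul_top_pi]
    intro j
    rw [← hNq, Tmap_apply, map_sum]
    have h0 := congrFun (Tmap_of_hom m kk hk (N ⧸ Nq n) ψ) j
    rw [Tmap_apply] at h0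
    rw [← h0.trans (Pi.zero_apply j)]
    refine Finset.sum_congr rfl fun i _ => ?_
    rw [map_smul, hx]
  have K2 : ∀ z : Fin r → N, Tmap kk N z = 0 → ∃ φ : M →ₗ[A] N, ∀ i, φ (m i) = z i :=
    fun z hz => exists_hom_of_Tmap_eq_zero m hm kk hk N z hz
  refine ⟨fun n => ⟨n + c1, Nat.le_add_right _ _, fun k hmk hnm ψ => ?_⟩, c1 + c2, fun n => ⟨?_, ?_⟩⟩
  · obtain ⟨x, hx, hTx⟩ := K1 (n + c1) ψ
    obtain ⟨w, hw, hxw⟩ := hc1 (n + c1) x hTx
    rw [Nat.add_sub_cancel, mem_smul_top_pi] at hw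
    obtain ⟨φ, hφ⟩ := K2 (x - w) hxw
    refine ⟨(Nq k).mkQ ∘ₗ φ, ?_⟩
    refine LinearMap.ext_on_range hm fun i => ?_
    rw [LinearMap.comp_apply, LinearMap.comp_apply, LinearMap.comp_apply, hφ i, ← hx i, hpr _ _ (hnm.trans hmk), hpr _ _ hnm,
      Pi.sub_apply, map_sub, (hNq n (w i)).mpr (hw i), sub_zero]
  · intro φ hφ a ha
    have h1 : Ψ φ ∈ I ^ n • (⊤ : Submodule A (Fin r → N)) := by
      rw [mem_smul_top_pi]
      intro i
      rw [hΨa, ← hNq]
      exact LinearMap.congr_fun hφ (m i)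
    have h2 := hc2 n φ h1
    have ha2 : a ∈ I ^ c2 := Ideal.pow_le_pow_right (Nat.le_add_left _ _) ha
    have h3 : a • φ ∈ I ^ c2 • (I ^ (n - c2) • (⊤ : Submodule A (M →ₗ[A] N))) :=
      Submodule.smul_mem_smul ha2 h2
    rw [← Submodule.mul_smul, ← pow_add] at h3
    exact Submodule.smul_mono_left (Ideal.pow_le_pow_right (by omega)) h3
  · intro ψ a ha
    obtain ⟨x, hx, hTx⟩ := K1 n ψ
    obtain ⟨w, hw, hxw⟩ := hc1 n x hTx
    rw [mem_smul_top_pi] at hw
    obtain ⟨φ, hφ⟩ := K2 (x - w) hxw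
    have ha1 : a ∈ I ^ c1 := Ideal.pow_le_pow_right (Nat.le_add_right _ _) ha
    refine ⟨a • φ, ?_⟩
    refine LinearMap.ext_on_range hm fun i => ?_
    have h3 : a • w i ∈ I ^ n • (⊤ : Submodule A N) := by
      have h4 : a • w i ∈ I ^ c1 • (I ^ (n - c1) • (⊤ : Submodule A N)) :=
        Submodule.smul_mem_smul ha1 (hw i)
      rw [← Submodule.mul_smul, ← pow_add] at h4
      exact Submodule.smul_mono_left (Ideal.pow_le_pow_right (by omega)) h4
    show (Nq n).mkQ ((a • φ) (m i)) = (a • ψ) (m i)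
    rw [LinearMap.smul_apply, LinearMap.smul_apply, hφ i, ← hx i, Pi.sub_apply, smul_sub, map_sub,
      (hNq n (a • w i)).mpr h3, sub_zero, map_smul]

end Groth.Agent.S7136
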