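import Groth.Statements.S7137
import Groth.Agent.H29.ABFormula
import Groth.Agent.H29.DepthFinite

set_option autoImplicit false
set_option linter.style.haveILetI false
universe u
open CategoryTheory
open CAlg

namespace Groth.Agent.S7137

open Groth.Agent.H29 in
theorem exists_nat (x : WithBot ℕ∞) (h1 : x ≠ ⊥) (h2 : x ≠ ⊤) : ∃ e : ℕ, x = e := by
  induction x with
  | bot => exact absurd rfl h1
  | coe y =>
    induction y with
    | top => exact absurd rfl h2
    | coe n => exact ⟨n, rfl⟩

theorem pd_pi (R : Type u) [CommRing R] (I : Ideal R) (c : ℕ)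
    (hS : HasProjectiveDimensionLT (ModuleCat.of R (R ⧸ I)) c) (k : ℕ) :
    HasProjectiveDimensionLT (ModuleCat.of R (Fin k → R ⧸ I)) c := by
  induction k with
  | zero =>
    have hz : Limits.IsZero (ModuleCat.of R (Fin 0 → R ⧸ I)) := ModuleCat.isZero_of_subsingleton _
    haveI := hz.hasProjectiveDimensionLT_zero
    exact hasProjectiveDimensionLT_of_ge _ 0 _ (Nat.zero_le _)
  | succ k ih =>
    haveI := hS
    haveI := ih
    let e : (ModuleCat.of R (R ⧸ I) ⊞ ModuleCat.of R (Fin k → R ⧸ I)) ≅
        ModuleCat.of R (Fin (k + 1) → R ⧸ I) :=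
      (ModuleCat.biprodIsoProd _ _) ≪≫
        (Fin.consLinearEquiv R (fun _ : Fin (k + 1) => R ⧸ I)).toModuleIso
    exact hasProjectiveDimensionLT_of_iso e c

theorem pd_free (R : Type u) [CommRing R] (I : Ideal R) [Nontrivial (R ⧸ I)] (c : ℕ)
    (hS : HasProjectiveDimensionLT (ModuleCat.of R (R ⧸ I)) c)
    (F : Type u) [AddCommGroup F] [Module (R ⧸ I) F] [Module R F] [IsScalarTower R (R ⧸ I) F]
    [Module.Free (R ⧸ I) F] [Module.Finite (R ⧸ I) F] :
    HasProjectiveDimensionLT (ModuleCat.of R F) c := by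
  haveI := pd_pi R I c hS (Module.finrank (R ⧸ I) F)
  let e : F ≃ₗ[R] (Fin (Module.finrank (R ⧸ I) F) → R ⧸ I) :=
    (Module.finBasis (R ⧸ I) F).equivFun.restrictScalars R
  exact hasProjectiveDimensionLT_of_iso e.symm.toModuleIso c

open Groth.Agent.H29 in
theorem fin_pd (R : Type u) [CommRing R] [IsNoetherianRing R] (I : Ideal R) [Nontrivial (R ⧸ I)]
    (a : ℕ) (hS : HasProjectiveDimensionLT (ModuleCat.of R (R ⧸ I)) (a + 1)) (n : ℕ) :
    ∀ (E : Type u) [AddCommGroup E] [Module (R ⧸ I) E] [Module R E] [IsScalarTower R (R ⧸ I) E]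
      [Module.Finite (R ⧸ I) E],
      HasProjectiveDimensionLT (ModuleCat.of (R ⧸ I) E) (n + 1) →
      HasProjectiveDimensionLT (ModuleCat.of R E) (a + n + 1) := by
  induction n with
  | zero =>
    intro E _ _ _ _ _ h
    obtain ⟨F, _, _, _, _, f, hf⟩ := Module.exists_finite_presentation (R ⧸ I) E
    letI : Module R F := Module.compHom F (algebraMap R (R ⧸ I))
    haveI : IsScalarTower R (R ⧸ I) F := IsScalarTower.of_algebraMap_smul (fun _ _ => rfl)
    haveI : Module.Projective (R ⧸ I) E := by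
      rw [zero_add, ← projective_iff_hasProjectiveDimensionLT_one,
        ← IsProjective.iff_projective] at h
      exact h
    obtain ⟨g, hg⟩ := Module.projective_lifting_property f LinearMap.id hf
    haveI := pd_free R I (a + 1) hS F
    have hr : Retract (ModuleCat.of R E) (ModuleCat.of R F) :=
      { i := ModuleCat.ofHom (g.restrictScalars R)
        r := ModuleCat.ofHom (f.restrictScalars R)
        retract := by
          ext x
          exact LinearMap.congr_fun hg x }
    exact hr.hasProjectiveDimensionLT (a + 1)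
  | succ n ih =>
    intro E _ _ _ _ _ h
    obtain ⟨F, _, _, _, _, f, hf⟩ := Module.exists_finite_presentation (R ⧸ I) E
    letI : Module R F := Module.compHom F (algebraMap R (R ⧸ I))
    haveI : IsScalarTower R (R ⧸ I) F := IsScalarTower.of_algebraMap_smul (fun _ _ => rfl)
    have hK : HasProjectiveDimensionLT (ModuleCat.of (R ⧸ I) (LinearMap.ker f)) (n + 1) :=
      (hasProjectiveDimensionLT_iff_ker (R ⧸ I) F E f hf n).mp h
    haveI : IsNoetherian (R ⧸ I) F := isNoetherian_of_isNoetherianRing_of_finite (R ⧸ I) F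
    haveI : Module.Finite (R ⧸ I) (LinearMap.ker f) := Module.IsNoetherian.finite (R ⧸ I) _
    have hK' := ih (LinearMap.ker f) hK
    have hF : HasProjectiveDimensionLT (ModuleCat.of R F) (a + n + 1 + 1) := by
      haveI := pd_free R I (a + 1) hS F
      exact hasProjectiveDimensionLT_of_ge _ (a + 1) _ (by omega)
    have hfg : Function.Exact ((LinearMap.ker f).subtype.restrictScalars R)
        (f.restrictScalars R) := LinearMap.exact_subtype_ker_map f
    have hse : (ModuleCat.shortComplexOfCompEqZero _ _ hfg.linearMap_comp_eq_zero).ShortExact :=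
      ModuleCat.shortComplex_shortExact _ hfg (LinearMap.ker f).injective_subtype hf
    exact hse.hasProjectiveDimensionLT_X₃ (a + n + 1) hK' hF

/-- Take a Noetherian local ring R, an ideal I and a finite module E ≠ 0 over R/I. Suppose that R/I, as
an R-module, and E, as an R/I-module, both have finite projective dimension. Then E, as an R-module,
has finite projective dimension too, and it equals pd_R(R/I) + pd_{R/I}(E). -/
theorem result (R : Type u) [CommRing R] [IsNoetherianRing R] [IsLocalRing R]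
    (I : Ideal R) (E : Type u) [AddCommGroup E] [Module (R ⧸ I) E] [Module R E] [IsScalarTower R (R ⧸ I) E]
    [Module.Finite (R ⧸ I) E] [Nontrivial E]
    (h1 : projectiveDimension (ModuleCat.of R (R ⧸ I)) ≠ ⊤)
    (h2 : projectiveDimension (ModuleCat.of (R ⧸ I) E) ≠ ⊤) :
    projectiveDimension (ModuleCat.of R E) ≠ ⊤ ∧
      projectiveDimension (ModuleCat.of R E) =
        projectiveDimension (ModuleCat.of R (R ⧸ I)) + projectiveDimension (ModuleCat.of (R ⧸ I) E) := by
  classical
  open Groth.Agent.H29 in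
  haveI hnt : Nontrivial (R ⧸ I) := by
    by_contra hcon
    rw [not_nontrivial_iff_subsingleton] at hcon
    haveI := hcon
    exact not_subsingleton E (Module.subsingleton (R ⧸ I) E)
  haveI hloc : IsLocalRing (R ⧸ I) :=
    IsLocalRing.of_surjective' (Ideal.Quotient.mk I) Ideal.Quotient.mk_surjective
  haveI hlh : IsLocalHom (algebraMap R (R ⧸ I)) :=
    IsLocalHom.of_surjective (Ideal.Quotient.mk I) Ideal.Quotient.mk_surjective
  haveI hfinE : Module.Finite R E := Module.Finite.trans (R ⧸ I) E
  obtain ⟨a, ha⟩ := (projectiveDimension_ne_top_iff _).mp h1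
  obtain ⟨n, hn⟩ := (projectiveDimension_ne_top_iff _).mp h2
  have hE := fin_pd R I a ha n E hn
  have hEtop : projectiveDimension (ModuleCat.of R E) ≠ ⊤ :=
    (projectiveDimension_ne_top_iff _).mpr ⟨a + n, hE⟩
  refine ⟨hEtop, ?_⟩
  have hbot : ∀ (A : Type u) [CommRing A] (X : Type u) [AddCommGroup X] [Module A X]
      [Nontrivial X], projectiveDimension (ModuleCat.of A X) ≠ ⊥ := by
    intro A _ X _ _ _ h
    rw [projectiveDimension_eq_bot_iff] at h
    exact not_subsingleton X (ModuleCat.subsingleton_of_isZero h)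
  obtain ⟨e, he⟩ := exists_nat _ (hbot R E) hEtop
  obtain ⟨a', ha'⟩ := exists_nat _ (hbot R (R ⧸ I)) h1
  obtain ⟨n', hn'⟩ := exists_nat _ (hbot (R ⧸ I) E) h2
  have e1 := depth_self_eq_pd_add_depth R E e he
  have e2 := depth_self_eq_pd_add_depth R (R ⧸ I) a' ha'
  have e3 := depth_self_eq_pd_add_depth (R ⧸ I) E n' hn'
  have e4 : LocCoh.depth R E = LocCoh.depth (R ⧸ I) E := depth_eq_depth_of_isLocalHom R (R ⧸ I) E
  have e5 : LocCoh.depth R (R ⧸ I) = LocCoh.depth (R ⧸ I) (R ⧸ I) :=
    depth_eq_depth_of_isLocalHom R (R ⧸ I) (R ⧸ I)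
  obtain ⟨dR, hdR⟩ := exists_natCast_eq_depth R R
  obtain ⟨dE, hdE⟩ := exists_natCast_eq_depth R E
  obtain ⟨dS, hdS⟩ := exists_natCast_eq_depth R (R ⧸ I)
  rw [he, ha', hn']
  rw [← e5, hdS, ← e4, hdE] at e3
  rw [hdR, hdE] at e1
  rw [hdR, hdS] at e2
  norm_cast at e1 e2 e3 ⊢
  omega

end Groth.Agent.S7137
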