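import Groth.Statements.S7140
import Groth.Agent.H27.CycloP
import Mathlib.Tactic

set_option autoImplicit false
universe u
open EtAlg

namespace Groth.Agent.S7140

open Polynomial in
/-- Let p be a prime and A a ring with an element ζ satisfying 1 + ζ + ... + ζ^(p-1) = 0 (so that A is
an algebra over the ring of integers of the p-th cyclotomic field); set w = 1 - ζ. Then the
polynomial ((1 + wz)^p - 1)/w^p makes sense in A[z]: there is P in A[z] with w^p·P = (1 + wz)^p - 1,
of the form z^p - z + Σ_{0<i<p} a_i z^i with all a_i in the ideal (w), and P(z₁ + z₂ + w z₁ z₂) =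
P(z₁) + P(z₂) + w^p P(z₁)P(z₂) for all z₁, z₂ in any A-algebra. (The published statement asks only
for a primitive p-th root of unity; this row asks that ζ be a root of the p-th cyclotomic
polynomial, the case its proof treats. With ζ only of multiplicative order p the published statement
fails, for example for ζ = (1, e^{2πi/p}) in ℂ × ℂ.) -/
theorem result (p : ℕ) (hp : p.Prime) (A : Type u) [CommRing A] (ζ : A)
    (hζ : aeval ζ (cyclotomic p ℤ) = 0) :
    ∃ P : A[X], C ((1 - ζ) ^ p) * P = (1 + C (1 - ζ) * X) ^ p - 1 ∧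
      (∃ a : ℕ → A, (∀ i, a i ∈ Ideal.span {1 - ζ}) ∧
        P = X ^ p - X + (Finset.Ioo 0 p).sum (fun i => C (a i) * X ^ i)) ∧
      ∀ (S : Type u) [CommRing S] [Algebra A S] (z₁ z₂ : S),
        aeval (z₁ + z₂ + algebraMap A S (1 - ζ) * z₁ * z₂) P =
          aeval z₁ P + aeval z₂ P + algebraMap A S ((1 - ζ) ^ p) * aeval z₁ P * aeval z₂ P := by
  classical
  obtain ⟨R₀, _, _, ζ₀, φ, hφζ, hw₀, hE1₀⟩ := Groth.Agent.H27.CycloP.exists_universal hp ζ hζ
  have hE1 : (1 - ζ) ^ (p-1) * Groth.Agent.H27.CycloP.eps p ζ = (p : A) := by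
    have h1 := congrArg φ hE1₀
    rw [map_mul, map_pow, map_sub, map_one, hφζ, Groth.Agent.H27.CycloP.eps_map, hφζ,
      map_natCast] at h1
    exact h1
  refine ⟨Groth.Agent.H27.CycloP.Pgen p (1 - ζ) (Groth.Agent.H27.CycloP.eps p ζ),
    Groth.Agent.H27.CycloP.key1gen hp hE1,
    Groth.Agent.H27.CycloP.key2gen hp (Groth.Agent.H27.CycloP.key_eps hp hE1), ?_⟩
  intro S _ _ z₁ z₂
  have hU1 := Groth.Agent.H27.CycloP.key1gen hp hE1₀
  have hU1' : C ((MvPolynomial.C (σ := Fin 2) (1 - ζ₀)) ^ p) *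
      (Groth.Agent.H27.CycloP.Pgen p (1 - ζ₀) (Groth.Agent.H27.CycloP.eps p ζ₀)).map
        (MvPolynomial.C (σ := Fin 2)) =
      (1 + C (MvPolynomial.C (σ := Fin 2) (1 - ζ₀)) * X) ^ p - 1 := by
    have h2 := congrArg (Polynomial.map (MvPolynomial.C (σ := Fin 2))) hU1
    simpa only [Polynomial.map_mul, Polynomial.map_pow, Polynomial.map_sub, Polynomial.map_add,
      Polynomial.map_one, Polynomial.map_C, Polynomial.map_X, map_pow] using h2
  have hw' : (MvPolynomial.C (σ := Fin 2) (1 - ζ₀)) ≠ 0 := by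
    intro h
    exact hw₀ (MvPolynomial.C_injective (Fin 2) R₀ (h.trans (map_zero _).symm))
  have hI₀ := Groth.Agent.H27.CycloP.key3 _ _ hw' hU1' (MvPolynomial.X 0) (MvPolynomial.X 1)
  have hP : Groth.Agent.H27.CycloP.Pgen p (1 - ζ) (Groth.Agent.H27.CycloP.eps p ζ) =
      (Groth.Agent.H27.CycloP.Pgen p (1 - ζ₀) (Groth.Agent.H27.CycloP.eps p ζ₀)).map φ := by
    rw [Groth.Agent.H27.CycloP.Pgen_map, map_sub, map_one, hφζ, Groth.Agent.H27.CycloP.eps_map, hφζ]
  have hΨ : ∀ t : MvPolynomial (Fin 2) R₀,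
      (MvPolynomial.eval₂Hom ((algebraMap A S).comp φ) ![z₁, z₂])
        (eval t ((Groth.Agent.H27.CycloP.Pgen p (1 - ζ₀) (Groth.Agent.H27.CycloP.eps p ζ₀)).map
          (MvPolynomial.C (σ := Fin 2)))) =
      aeval ((MvPolynomial.eval₂Hom ((algebraMap A S).comp φ) ![z₁, z₂]) t)
        (Groth.Agent.H27.CycloP.Pgen p (1 - ζ) (Groth.Agent.H27.CycloP.eps p ζ)) := by
    intro t
    rw [hP, Polynomial.eval_map, Polynomial.hom_eval₂, Polynomial.aeval_def, Polynomial.eval₂_map]
    congr 1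
    ext r
    simp
  have h3 := congrArg (MvPolynomial.eval₂Hom ((algebraMap A S).comp φ) ![z₁, z₂]) hI₀
  simp only [map_add, map_mul, map_pow, hΨ] at h3
  simpa [hφζ] using h3

end Groth.Agent.S7140
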