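import Groth.Statements.S7143
import Mathlib.RingTheory.Valuation.LocalSubring
import Mathlib.RingTheory.Flat.EquationalCriterion
import Mathlib.RingTheory.Flat.Localization
import Mathlib.Algebra.Category.Ring.Instances
import Mathlib.Tactic
import Mathlib.Algebra.Group.Pi.Units

set_option autoImplicit false
universe u
open CategoryTheory
open EtAlg

namespace Groth.Agent.S7143


theorem exists_dvd_all_finset {R κ : Type*} [CommRing R] [IsDomain R] [ValuationRing R] (z : κ → R)
    (s : Finset κ) (hs : s.Nonempty) : ∃ m ∈ s, ∀ i ∈ s, z m ∣ z i := by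
  induction hs using Finset.Nonempty.cons_induction with
  | singleton a =>
    exact ⟨a, Finset.mem_singleton_self a, fun i hi => by rw [Finset.mem_singleton.mp hi]⟩
  | cons a s ha hs ih =>
    obtain ⟨m, hm, hdiv⟩ := ih
    rcases ValuationRing.dvd_total (z a) (z m) with h | h
    · refine ⟨a, Finset.mem_cons_self a s, fun i hi => ?_⟩
      rcases Finset.mem_cons.mp hi with rfl | hi
      · exact dvd_rfl
      · exact h.trans (hdiv i hi)
    · refine ⟨m, Finset.mem_cons.mpr (Or.inr hm), fun i hi => ?_⟩
      rcases Finset.mem_cons.mp hi with rfl | hi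
      · exact h
      · exact hdiv i hi

theorem flat_ideal_pi {ι : Type*} (R : ι → Type*) [∀ i, CommRing (R i)] [∀ i, IsDomain (R i)]
    [∀ i, ValuationRing (R i)] (I : Ideal (∀ i, R i)) : Module.Flat (∀ i, R i) I := by
  classical
  apply Module.Flat.of_forall_isTrivialRelation
  intro l f x hfx
  rcases Nat.eq_zero_or_pos l with rfl | hl
  · exact ⟨0, fun i => i.elim0, fun j => j.elim0, fun i => i.elim0, fun j => j.elim0⟩
  have hne : (Finset.univ : Finset (Fin l)).Nonempty := ⟨⟨0, hl⟩, Finset.mem_univ _⟩
  have hmin : ∀ c : ι, ∃ m : Fin l, ∀ i : Fin l, (x m).1 c ∣ (x i).1 c := by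
    intro c
    obtain ⟨m, -, hm⟩ := exists_dvd_all_finset (fun i => (x i).1 c) Finset.univ hne
    exact ⟨m, fun i => hm i (Finset.mem_univ i)⟩
  choose m hm using hmin
  have hm' : ∀ c i, ∃ q, (x i).1 c = (x (m c)).1 c * q := fun c i => hm c i
  choose q hq using hm'
  let bcoef : Fin l → (∀ i, R i) := fun i c => if m c = i then 1 else 0
  let y : I := ∑ i, bcoef i • x i
  have hy : ∀ c, y.1 c = (x (m c)).1 c := by
    intro c
    have h1 : y.1 = ∑ i, bcoef i * (x i).1 := by
      simp only [y, Submodule.coe_sum, Submodule.coe_smul, smul_eq_mul]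
    rw [h1, Finset.sum_apply]
    simp only [Pi.mul_apply, bcoef]
    rw [Finset.sum_eq_single (m c)]
    · simp
    · intro i _ hi; rw [if_neg (Ne.symm hi), zero_mul]
    · intro h; exact absurd (Finset.mem_univ _) h
  let e : ∀ i, R i := fun c => if y.1 c = 0 then 0 else 1
  let a : Fin l → (∀ i, R i) := fun i c => e c * q c i
  refine ⟨1, fun i _ => a i, fun _ => y, ?_, ?_⟩
  · intro i
    rw [Fin.sum_univ_one]
    apply Subtype.ext
    funext c
    show (x i).1 c = a i c * y.1 c
    rw [hq c i, hy c]
    simp only [a, e]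
    split_ifs with h0
    · rw [hy c] at h0; rw [h0]; ring
    · ring
  · intro j
    funext c
    simp only [Finset.sum_apply, Pi.mul_apply, Pi.zero_apply, a]
    have h1 : ∑ i, f i c * (x i).1 c = 0 := by
      have h := congrArg (fun z : I => z.1 c) hfx
      simpa [Submodule.coe_sum, Finset.sum_apply] using h
    have h2 : (∑ i, f i c * q c i) * (x (m c)).1 c = 0 := by
      rw [Finset.sum_mul, ← h1]
      apply Finset.sum_congr rfl
      intro i _
      rw [hq c i]; ring
    by_cases h0 : y.1 c = 0
    · simp [e, h0]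
    · have hne0 : (x (m c)).1 c ≠ 0 := by rwa [← hy c]
      have h3 := (mul_eq_zero.mp h2).resolve_right hne0
      simp only [e, if_neg h0, one_mul]
      exact h3

theorem isIntegral_of_range {A K : Type*} [CommRing A] [Field K] [Algebra A K] {x : K}
    (hx : IsIntegral (algebraMap A K).range x) : IsIntegral A x := by
  obtain ⟨p, hp, hpx⟩ := hx
  have hsurj : Function.Surjective (algebraMap A K).rangeRestrict :=
    (algebraMap A K).rangeRestrict_surjective
  obtain ⟨q, hq, -, hqm⟩ := Polynomial.lifts_and_degree_eq_and_monic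
    ((Polynomial.mem_lifts p).mpr (Polynomial.map_surjective _ hsurj p)) hp
  refine ⟨q, hqm, ?_⟩
  have hcomp : (algebraMap (algebraMap A K).range K).comp (algebraMap A K).rangeRestrict =
      algebraMap A K := by
    ext a; rfl
  rw [← hq, Polynomial.eval₂_map, hcomp] at hpx
  exact hpx

section
variable (A K : Type u) [CommRing A] [IsDomain A] [Field K] [Algebra A K]

abbrev Idx := {W : ValuationSubring K // (algebraMap A K).range ≤ W.toSubring}
abbrev VV := ∀ i : Idx A K, i.1
abbrev LL := Idx A K → K

def gHom : VV A K →+* LL A K where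
  toFun v i := (v i : K)
  map_one' := rfl
  map_mul' _ _ := rfl
  map_zero' := rfl
  map_add' _ _ := rfl

def fHom : A →+* VV A K where
  toFun a i := ⟨algebraMap A K a, i.2 (RingHom.mem_range_self _ a)⟩
  map_one' := funext fun i => Subtype.ext (map_one _)
  map_mul' x y := funext fun i => Subtype.ext (map_mul _ x y)
  map_zero' := funext fun i => Subtype.ext (map_zero _)
  map_add' x y := funext fun i => Subtype.ext (map_add _ x y)

def hHom : K →+* LL A K where
  toFun k _ := k
  map_one' := rfl
  map_mul' _ _ := rfl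
  map_zero' := rfl
  map_add' _ _ := rfl

def Mon : Submonoid (VV A K) where
  carrier := {s | ∀ i, s i ≠ 0}
  mul_mem' ha hb i := mul_ne_zero (ha i) (hb i)
  one_mem' i := one_ne_zero

theorem gHom_injective : Function.Injective (gHom A K) :=
  fun x y h => funext fun i => Subtype.ext (congrFun h i)

theorem isLoc : @IsLocalization (VV A K) _ (Mon A K) (LL A K) _ (gHom A K).toAlgebra := by
  letI : Algebra (VV A K) (LL A K) := (gHom A K).toAlgebra
  refine (isLocalization_iff (Mon A K) (LL A K)).mpr ⟨?_, ?_, ?_⟩
  · intro y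
    show IsUnit (gHom A K y.1)
    rw [Pi.isUnit_iff]
    intro i
    refine isUnit_iff_ne_zero.mpr ?_
    intro h
    exact y.2 i (Subtype.ext h)
  · intro z
    have hz : ∀ i : Idx A K, ∃ (v : i.1) (s : i.1), s ≠ 0 ∧ z i * (s : K) = (v : K) := by
      intro i
      obtain ⟨⟨v, s⟩, hvs⟩ := IsLocalization.surj (nonZeroDivisors i.1) (z i)
      exact ⟨v, s.1, nonZeroDivisors.ne_zero s.2, hvs⟩
    choose v s hs hvs using hz
    exact ⟨(v, ⟨s, hs⟩), funext fun i => hvs i⟩
  · intro x y hxy
    exact ⟨1, by rw [gHom_injective A K hxy]⟩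

end



/-- Every normal domain A with fraction field K is the fibre product V ×_L K for suitable rings V and L
with maps A → V, V → L, K → L (together with the given A → K), where every ideal of V is flat (weak
dimension at most one) and V → L is flat, injective and an epimorphism of rings. -/
theorem result (A K : Type u) [CommRing A] [IsDomain A] [Field K] [Algebra A K]
    [IsFractionRing A K] [IsIntegrallyClosed A] :
    ∃ (V L : Type u) (_ : CommRing V) (_ : CommRing L) (f : A →+* V) (g : V →+* L) (h : K →+* L),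
      g.comp f = h.comp (algebraMap A K) ∧
      (∀ I : Ideal V, Module.Flat V I) ∧ g.Flat ∧ Function.Injective g ∧ Epi (CommRingCat.ofHom g) ∧
      ∀ (v : V) (k : K), g v = h k → ∃! a : A, f a = v ∧ algebraMap A K a = k := by
  refine ⟨VV A K, LL A K, inferInstance, inferInstance, fHom A K, gHom A K, hHom A K, ?_, ?_, ?_,
    gHom_injective A K, ?_, ?_⟩
  · exact RingHom.ext fun a => funext fun i => rfl
  · intro I
    exact flat_ideal_pi (fun i : Idx A K => i.1) I
  · letI : Algebra (VV A K) (LL A K) := (gHom A K).toAlgebra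
    haveI : IsLocalization (Mon A K) (LL A K) := isLoc A K
    exact IsLocalization.flat (LL A K) (Mon A K)
  · letI : Algebra (VV A K) (LL A K) := (gHom A K).toAlgebra
    haveI : IsLocalization (Mon A K) (LL A K) := isLoc A K
    exact IsLocalization.epi (Mon A K) (LL A K)
  · intro v k hv
    haveI : IsIntegrallyClosedIn (algebraMap A K).range K :=
      Subring.isIntegrallyClosedIn_iff.mpr fun x hx => by
        obtain ⟨y, hy⟩ := IsIntegrallyClosed.algebraMap_eq_of_integral (isIntegral_of_range hx)
        exact RingHom.mem_range.mpr ⟨y, hy⟩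
    have hk : k ∈ (algebraMap A K).range := by
      by_contra hk
      obtain ⟨W, hW, hkW⟩ := Subring.exists_le_valuationSubring_of_isIntegrallyClosedIn hk
      have h1 : ((v ⟨W, hW⟩ : W) : K) = k := congrFun hv ⟨W, hW⟩
      exact hkW (h1 ▸ (v ⟨W, hW⟩).2)
    obtain ⟨a, ha⟩ := RingHom.mem_range.mp hk
    refine ⟨a, ⟨?_, ha⟩, ?_⟩
    · exact funext fun i => Subtype.ext (ha.trans (congrFun hv i).symm)
    · rintro a' ⟨-, ha'⟩
      exact IsFractionRing.injective A K (ha'.trans ha.symm)

end Groth.Agent.S7143
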