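import Groth.Statements.S7145
import Mathlib

set_option autoImplicit false
universe u
open CategoryTheory CategoryTheory.Limits
open CAlg

namespace Groth.Agent.S7145

section helpers
open CategoryTheory CategoryTheory.Limits

theorem exists_closed_family {ι : ℤ → Type u} (supp : ∀ n, Finset (ι n))
    [∀ n, DecidableEq (ι n)]
    (D : ∀ i j, ι i → Finset (ι j)) (a : ℤ) (ha : ∀ n, n < a → supp n = ∅) (m : ℤ) :
    ∃ S : ∀ n, Finset (ι n), (∀ n, n < a → S n = ∅) ∧ (∀ n, supp n ⊆ S n) ∧
      (∀ n, n < m → ∀ t ∈ S n, D n (n + 1) t ⊆ S (n + 1)) := by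
  classical
  have base : ∀ m, m ≤ a → ∃ S : ∀ n, Finset (ι n), (∀ n, n < a → S n = ∅) ∧
      (∀ n, supp n ⊆ S n) ∧ (∀ n, n < m → ∀ t ∈ S n, D n (n + 1) t ⊆ S (n + 1)) := by
    intro m hm
    refine ⟨supp, ha, fun n => Finset.Subset.refl _, fun n hn t ht => ?_⟩
    rw [ha n (lt_of_lt_of_le hn hm)] at ht
    exact absurd ht (Finset.notMem_empty t)
  rcases le_total m a with hm | hm
  · exact base m hm
  · induction m, hm using Int.leInduction with
    | base => exact base a le_rfl
    | succ m hmn ih =>
      obtain ⟨S, h1, h2, h3⟩ := ih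
      refine ⟨Function.update S (m + 1) (S (m + 1) ∪ (S m).biUnion (D m (m + 1))), ?_, ?_, ?_⟩
      · intro n hn
        have hne : n ≠ m + 1 := by omega
        rw [Function.update_of_ne hne]
        exact h1 n hn
      · intro n
        rcases eq_or_ne n (m + 1) with rfl | hne
        · rw [Function.update_self]
          exact (h2 _).trans Finset.subset_union_left
        · rw [Function.update_of_ne hne]
          exact h2 n
      · intro n hn t ht
        have hne : n ≠ m + 1 := by omega
        rw [Function.update_of_ne hne] at ht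
        rcases eq_or_ne n m with rfl | hnm
        · rw [Function.update_self]
          exact (Finset.subset_biUnion_of_mem (D n (n + 1)) ht).trans Finset.subset_union_right
        · have hne2 : n + 1 ≠ m + 1 := by omega
          rw [Function.update_of_ne hne2]
          exact h3 n (by omega) t ht

theorem exists_submodules (R : Type u) [CommRing R]
    (F : CochainComplex (ModuleCat.{u} R) ℤ) {ι : ℤ → Type u}
    (e : ∀ n, Module.Basis (ι n) R (F.X n))
    (b : ℤ) (hb : ∀ n : ℤ, b < n → IsZero (F.X n))
    (N : ℕ) (deg : Fin N → ℤ) (f : ∀ i : Fin N, F.X (deg i)) :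
    ∃ (a : ℤ) (Gs : ∀ n, Submodule R (F.X n)),
      (∀ i j x, x ∈ Gs i → (F.d i j).hom x ∈ Gs j) ∧ (∀ n, n < a → Gs n = ⊥) ∧
      (∀ n, Module.Finite R (Gs n) ∧ Module.Free R (Gs n)) ∧ ∀ i, f i ∈ Gs (deg i) := by
  classical
  obtain ⟨a, ha⟩ : ∃ a : ℤ, ∀ i, a ≤ deg i := by
    obtain ⟨a, ha⟩ := Finset.exists_le (Finset.univ.image (fun i => -deg i))
    refine ⟨-a, fun i => ?_⟩
    have := ha _ (Finset.mem_image_of_mem (fun i => -deg i) (Finset.mem_univ i))
    omega
  obtain ⟨supp, hsupp0, hsuppf⟩ : ∃ supp : ∀ n, Finset (ι n), (∀ n, n < a → supp n = ∅) ∧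
      ∀ i, ((e (deg i)).repr (f i)).support ⊆ supp (deg i) := by
    refine ⟨fun n => (Finset.univ.biUnion (fun i : Fin N =>
      (((e (deg i)).repr (f i)).support).image (Sigma.mk (deg i)))).preimage (Sigma.mk n)
        (sigma_mk_injective.injOn), ?_, ?_⟩
    · intro n hn
      rw [Finset.eq_empty_iff_forall_notMem]
      intro t ht
      rw [Finset.mem_preimage, Finset.mem_biUnion] at ht
      obtain ⟨i, -, hi⟩ := ht
      rw [Finset.mem_image] at hi
      obtain ⟨t', -, ht'⟩ := hi
      have h1 : deg i = n := congrArg Sigma.fst ht'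
      have h2 := ha i
      omega
    · intro i t ht
      rw [Finset.mem_preimage, Finset.mem_biUnion]
      exact ⟨i, Finset.mem_univ _, Finset.mem_image.2 ⟨t, ht, rfl⟩⟩
  obtain ⟨S, h1, h2, h3⟩ := exists_closed_family supp
    (fun i j t => ((e j).repr ((F.d i j).hom (e i t))).support) a hsupp0 (b + 1)
  refine ⟨a, fun n => Submodule.span R (e n '' (S n : Set (ι n))), ?_, ?_, ?_, ?_⟩
  · intro i j x hx
    by_cases hij : i + 1 = j
    · subst hij
      have hle : Submodule.span R (e i '' (S i : Set (ι i))) ≤
          (Submodule.span R (e (i + 1) '' (S (i + 1) : Set (ι (i + 1))))).comap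
            (F.d i (i + 1)).hom := by
        apply Submodule.span_le.2
        rintro _ ⟨t, ht, rfl⟩
        show (F.d i (i + 1)).hom (e i t) ∈
          Submodule.span R (e (i + 1) '' (S (i + 1) : Set (ι (i + 1))))
        by_cases hi : i < b + 1
        · rw [Module.Basis.mem_span_image]
          exact Finset.coe_subset.2 (h3 i hi t ht)
        · haveI : Subsingleton (F.X (i + 1)) :=
            ModuleCat.subsingleton_of_isZero (hb _ (by omega))
          rw [Subsingleton.elim ((F.d i (i + 1)).hom (e i t)) 0]
          exact zero_mem _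
      exact hle hx
    · rw [F.shape i j hij]
      simp
  · intro n hn
    show Submodule.span R (e n '' (S n : Set (ι n))) = ⊥
    rw [h1 n hn]
    simp
  · intro n
    constructor
    · exact Module.Finite.span_of_finite R ((S n).finite_toSet.image _)
    · have hli : LinearIndependent R (fun t : S n => e n t) :=
        (e n).linearIndependent.comp _ Subtype.val_injective
      have hr : Set.range (fun t : S n => e n t) = e n '' (S n : Set (ι n)) :=
        Set.ext fun y => ⟨fun ⟨t, ht⟩ => ⟨t.1, t.2, ht⟩, fun ⟨t, ht, hy⟩ => ⟨⟨t, ht⟩, hy⟩⟩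
      have := Module.Free.of_basis (Module.Basis.span hli)
      rw [hr] at this
      exact this
  · intro i
    rw [Module.Basis.mem_span_image]
    exact Finset.coe_subset.2 ((hsuppf i).trans (h2 (deg i)))

end helpers


/-- Let R be a ring and F a cochain complex of free R-modules that is zero in all sufficiently large
degrees. Given finitely many elements f_i of F, f_i lying in degree n_i, there is a subcomplex G of
F (a map of complexes G → F injective in every degree) through which every f_i passes, such that G
is zero outside a finite range of degrees and each term of G is a finitely generated free R-module. -/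
theorem result (R : Type u) [CommRing R]
    (F : CochainComplex (ModuleCat.{u} R) ℤ) (hfree : ∀ n : ℤ, Module.Free R (F.X n))
    (b : ℤ) (hb : ∀ n : ℤ, b < n → IsZero (F.X n))
    (N : ℕ) (deg : Fin N → ℤ) (f : ∀ i : Fin N, F.X (deg i)) :
    ∃ (G : CochainComplex (ModuleCat.{u} R) ℤ) (ι : G ⟶ F),
      (∀ n : ℤ, Function.Injective (ι.f n)) ∧
      (∃ a c : ℤ, ∀ n : ℤ, (n < a ∨ c < n) → IsZero (G.X n)) ∧
      (∀ n : ℤ, Module.Finite R (G.X n) ∧ Module.Free R (G.X n)) ∧
      ∀ i : Fin N, f i ∈ Set.range (ι.f (deg i)) := by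
  classical
  haveI := hfree
  obtain ⟨a, Gs, hmaps, hbot, hff, hmem⟩ := exists_submodules R F
    (fun n => Module.Free.chooseBasis R (F.X n)) b hb N deg f
  let G : CochainComplex (ModuleCat.{u} R) ℤ :=
    { X := fun n => ModuleCat.of R (Gs n)
      d := fun i j => ModuleCat.ofHom ((F.d i j).hom.restrict (hmaps i j))
      shape := fun i j hij => by
        ext x
        show (F.d i j).hom x.1 = 0
        rw [F.shape i j hij]
        rfl
      d_comp_d' := fun i j k _ _ => by
        ext x
        have := congrArg (fun φ => φ.hom x.1) (F.d_comp_d i j k)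
        exact this }
  refine ⟨G, ⟨fun n => ModuleCat.ofHom (Gs n).subtype, fun i j _ => ?_⟩, ?_, ⟨a, b, ?_⟩, ?_, ?_⟩
  · ext x
    rfl
  · intro n x y h
    exact Subtype.ext h
  · rintro n (hn | hn)
    · haveI : Subsingleton (Gs n) := by
        rw [hbot n hn]
        infer_instance
      exact ModuleCat.isZero_of_subsingleton (ModuleCat.of R (Gs n))
    · haveI : Subsingleton (F.X n) := ModuleCat.subsingleton_of_isZero (hb n hn)
      haveI : Subsingleton (Gs n) := ⟨fun x y => Subtype.ext (Subsingleton.elim _ _)⟩
      exact ModuleCat.isZero_of_subsingleton (ModuleCat.of R (Gs n))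
  · intro n
    exact hff n
  · intro i
    exact ⟨⟨f i, hmem i⟩, rfl⟩

end Groth.Agent.S7145
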