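import Groth.Statements.S7146
import Mathlib

set_option autoImplicit false
universe u
open Filter
open CAlg

namespace Groth.Agent.S7146


section Aux7146
variable {R : Type u} [CommRing R]

theorem multiset_prod_mem_pow {d : ℕ} (g : Fin d → R) (t : Multiset (Fin d)) :
    (t.map g).prod ∈ Ideal.span (Set.range g) ^ (Multiset.card t) := by
  induction t using Multiset.induction with
  | empty => simp
  | cons i t ih =>
    rw [Multiset.map_cons, Multiset.prod_cons, Multiset.card_cons, pow_succ']
    exact Ideal.mul_mem_mul (Ideal.subset_span ⟨i, rfl⟩) ih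

theorem pow_le_span_sym {d : ℕ} (g : Fin d → R) (n : ℕ) :
    Ideal.span (Set.range g) ^ n ≤
      Ideal.span (Set.range fun s : Sym (Fin d) n => (s.1.map g).prod) := by
  induction n with
  | zero =>
    rw [pow_zero, Ideal.one_eq_top]
    refine le_of_eq (Eq.symm ?_)
    rw [Ideal.eq_top_iff_one]
    apply Ideal.subset_span
    refine ⟨Sym.nil, ?_⟩
    simp
  | succ n ih =>
    rw [pow_succ']
    refine (Ideal.mul_mono_right ih).trans ?_
    rw [Ideal.span_mul_span', Ideal.span_le]
    rintro _ ⟨_, ⟨i, rfl⟩, _, ⟨s, rfl⟩, rfl⟩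
    apply Ideal.subset_span
    refine ⟨i ::ₛ s, ?_⟩
    simp only [Sym.val_eq_coe, Sym.coe_cons, Multiset.map_cons, Multiset.prod_cons]

theorem length_step {d : ℕ} (g : Fin d → R) (n : ℕ) :
    Module.length R (R ⧸ Ideal.span (Set.range g) ^ (n + 1)) ≤
      (Fintype.card (Sym (Fin d) n) : ℕ∞) * Module.length R (R ⧸ Ideal.span (Set.range g)) +
        Module.length R (R ⧸ Ideal.span (Set.range g) ^ n) := by
  have hle : Ideal.span (Set.range g) ^ (n + 1) ≤ Ideal.span (Set.range g) ^ n :=
    Ideal.pow_le_pow_right (Nat.le_succ n)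
  let fac : (R ⧸ Ideal.span (Set.range g) ^ (n + 1)) →ₗ[R] (R ⧸ Ideal.span (Set.range g) ^ n) :=
    Submodule.factor hle
  have hadd := Module.length_eq_add_of_exact (LinearMap.ker fac).subtype fac
    (Submodule.subtype_injective _) (Submodule.factor_surjective hle)
    (LinearMap.exact_subtype_ker_map fac)
  rw [hadd]
  refine add_le_add ?_ le_rfl
  let mon : Sym (Fin d) n → R := fun s => (s.1.map g).prod
  have hmon : ∀ s, mon s ∈ Ideal.span (Set.range g) ^ n := fun s => by
    have h := multiset_prod_mem_pow g s.1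
    rwa [s.2] at h
  let φ : Sym (Fin d) n → (R ⧸ Ideal.span (Set.range g)) →ₗ[R]
      (R ⧸ Ideal.span (Set.range g) ^ (n + 1)) := fun s =>
    Submodule.liftQ (Ideal.span (Set.range g))
      (LinearMap.toSpanSingleton R (R ⧸ Ideal.span (Set.range g) ^ (n + 1))
        (Submodule.Quotient.mk (mon s))) (by
      intro r hr
      rw [LinearMap.mem_ker, LinearMap.toSpanSingleton_apply, ← Submodule.Quotient.mk_smul,
        Submodule.Quotient.mk_eq_zero, smul_eq_mul, pow_succ']
      exact Ideal.mul_mem_mul hr (hmon s))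
  let ψ : (Sym (Fin d) n →₀ (R ⧸ Ideal.span (Set.range g))) →ₗ[R]
      (R ⧸ Ideal.span (Set.range g) ^ (n + 1)) := Finsupp.lsum R φ
  have hker : LinearMap.ker fac ≤ LinearMap.range ψ := by
    intro x hx
    obtain ⟨r, rfl⟩ := Submodule.Quotient.mk_surjective _ x
    rw [LinearMap.mem_ker] at hx
    have hr : r ∈ Ideal.span (Set.range g) ^ n := by
      have h0 : fac (Submodule.Quotient.mk r) = Submodule.Quotient.mk r := rfl
      rw [h0, Submodule.Quotient.mk_eq_zero] at hx
      exact hx
    have hr' := pow_le_span_sym g n hr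
    have hsub : Submodule.span R (Set.range mon) ≤
        (LinearMap.range ψ).comap (Submodule.mkQ (Ideal.span (Set.range g) ^ (n + 1))) := by
      rw [Submodule.span_le]
      rintro _ ⟨s, rfl⟩
      refine ⟨Finsupp.single s (Submodule.Quotient.mk 1), ?_⟩
      rw [show ψ = Finsupp.lsum R φ from rfl, Finsupp.lsum_single]
      show Submodule.liftQ _ _ _ (Submodule.Quotient.mk 1) = _
      rw [Submodule.liftQ_apply, LinearMap.toSpanSingleton_apply, one_smul]
      rfl
    exact hsub hr'
  calc Module.length R (LinearMap.ker fac)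
      ≤ Module.length R (LinearMap.range ψ) :=
        Module.length_le_of_injective (Submodule.inclusion hker)
          (Submodule.inclusion_injective hker)
    _ ≤ Module.length R (Sym (Fin d) n →₀ (R ⧸ Ideal.span (Set.range g))) :=
        Module.length_le_of_surjective ψ.rangeRestrict ψ.surjective_rangeRestrict
    _ = _ := by rw [Module.length_finsupp, ENat.card_eq_coe_fintype_card]

theorem length_bound {d' : ℕ} (g : Fin (d' + 1) → R) (L₀ : ℕ)
    (hL : Module.length R (R ⧸ Ideal.span (Set.range g)) = L₀) :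
    ∀ n : ℕ, Module.length R (R ⧸ Ideal.span (Set.range g) ^ n) ≤
      ((L₀ * (n + d').choose (d' + 1) : ℕ) : ℕ∞) := by
  intro n
  induction n with
  | zero =>
    rw [pow_zero, Ideal.one_eq_top]
    haveI : Subsingleton (R ⧸ (⊤ : Ideal R)) := Ideal.Quotient.subsingleton_iff.mpr rfl
    rw [Module.length_eq_zero]
    exact zero_le
  | succ n ih =>
    refine (length_step g n).trans ?_
    rw [hL]
    have hcard : Fintype.card (Sym (Fin (d' + 1)) n) = (n + d').choose d' := by
      rw [Sym.card_sym_eq_choose, Fintype.card_fin]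
      have h1 : d' + 1 + n - 1 = n + d' := by omega
      rw [h1]
      exact Nat.choose_symm_add
    rw [hcard]
    refine (add_le_add le_rfl ih).trans ?_
    have e2 : (n + 1 + d').choose (d' + 1) = (n + d').choose d' + (n + d').choose (d' + 1) := by
      have h1 : n + 1 + d' = (n + d') + 1 := by omega
      rw [h1, Nat.choose_succ_succ]
    have key : (n + d').choose d' * L₀ + L₀ * (n + d').choose (d' + 1) =
        L₀ * (n + 1 + d').choose (d' + 1) := by
      rw [e2]; ring
    exact_mod_cast le_of_eq key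

theorem nat_bound {d : ℕ} (g : Fin d → R) (L₀ : ℕ)
    (hL : Module.length R (R ⧸ Ideal.span (Set.range g)) = L₀) (n : ℕ) (hn : 1 ≤ n) :
    d.factorial * (Module.length R (R ⧸ Ideal.span (Set.range g) ^ n)).toNat ≤
      L₀ * (n + d) ^ d := by
  cases d with
  | zero =>
    have hI : Ideal.span (Set.range g) = ⊥ := by
      rw [Set.range_eq_empty, Ideal.span_empty]
    have hIn : Ideal.span (Set.range g) ^ n = Ideal.span (Set.range g) := by
      rw [hI, ← Ideal.zero_eq_bot, zero_pow (by omega)]
    rw [hIn, hL]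
    simp
  | succ d' =>
    have h1 := length_bound g L₀ hL n
    have h2 : (Module.length R (R ⧸ Ideal.span (Set.range g) ^ n)).toNat ≤
        L₀ * (n + d').choose (d' + 1) := ENat.toNat_le_of_le_natCast h1
    obtain ⟨m, rfl⟩ : ∃ m, n = m + 1 := ⟨n - 1, by omega⟩
    have h3 : (m + 1).ascFactorial (d' + 1) =
        (d' + 1).factorial * (m + 1 + d').choose (d' + 1) := by
      rw [Nat.ascFactorial_eq_factorial_mul_choose]
      have : m + (d' + 1) = m + 1 + d' := by omega
      rw [this]
    have h4 : (m + 1).ascFactorial (d' + 1) ≤ (m + (d' + 1)) ^ (d' + 1) :=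
      Nat.ascFactorial_le_pow_add m (d' + 1)
    calc (d' + 1).factorial * (Module.length R (R ⧸ Ideal.span (Set.range g) ^ (m + 1))).toNat
        ≤ (d' + 1).factorial * (L₀ * (m + 1 + d').choose (d' + 1)) :=
          Nat.mul_le_mul_left _ h2
      _ = L₀ * (m + 1).ascFactorial (d' + 1) := by rw [h3]; ring
      _ ≤ L₀ * (m + (d' + 1)) ^ (d' + 1) := Nat.mul_le_mul_left _ h4
      _ ≤ L₀ * (m + 1 + (d' + 1)) ^ (d' + 1) :=
          Nat.mul_le_mul_left _ (Nat.pow_le_pow_left (by omega) _)

end Aux7146


/-- Let R be a Noetherian local ring of Krull dimension d and I the ideal generated by a system of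
parameters g_1, ..., g_d (d elements of the maximal ideal generating an ideal with radical the
maximal ideal); let e_I be the multiplicity of I, i.e. d! times the top coefficient of the numerical
polynomial n ↦ length(R/I^(n+1)), equivalently the limit of d!·length(R/Iⁿ)/n^d. Then e_I ≤
length(R/I). (Stated for a natural number e equal to that limit.) -/
theorem result (R : Type u) [CommRing R] [IsNoetherianRing R] [IsLocalRing R]
    (d : ℕ) (hd : ringKrullDim R = d) (g : Fin d → R) (hg : ∀ i, g i ∈ IsLocalRing.maximalIdeal R)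
    (hsop : IsLocalRing.maximalIdeal R ≤ (Ideal.span (Set.range g)).radical) (e : ℕ)
    (he : Tendsto (fun n : ℕ => (d.factorial : ℝ) * ((Module.length R (R ⧸ Ideal.span (Set.range g) ^ n)).toNat : ℝ) / (n : ℝ) ^ d)
      atTop (nhds (e : ℝ))) :
    (e : ℕ∞) ≤ Module.length R (R ⧸ Ideal.span (Set.range g)) := by
  by_cases hLtop : Module.length R (R ⧸ Ideal.span (Set.range g)) = ⊤
  · rw [hLtop]; exact le_top
  obtain ⟨L₀, hL₀⟩ := ENat.ne_top_iff_exists.mp hLtop
  suffices h : (e : ℝ) ≤ (L₀ : ℝ) by
    rw [← hL₀]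
    exact_mod_cast h
  have hbound : ∀ n : ℕ, 1 ≤ n →
      (d.factorial : ℝ) * ((Module.length R (R ⧸ Ideal.span (Set.range g) ^ n)).toNat : ℝ) /
        (n : ℝ) ^ d ≤ (L₀ : ℝ) * (1 + (d : ℝ) / n) ^ d := by
    intro n hn
    have hnat := nat_bound g L₀ hL₀.symm n hn
    have hn0 : (0 : ℝ) < (n : ℝ) := by exact_mod_cast hn
    rw [div_le_iff₀ (pow_pos hn0 d), mul_assoc, ← mul_pow]
    have h1 : (1 + (d : ℝ) / n) * n = (n : ℝ) + d := by
      field_simp
    rw [h1]
    exact_mod_cast hnat
  have h1 : Filter.Tendsto (fun n : ℕ => (d : ℝ) / (n : ℝ)) Filter.atTop (nhds 0) :=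
    tendsto_const_div_atTop_nhds_zero_nat (d : ℝ)
  have h2 : Filter.Tendsto (fun n : ℕ => (L₀ : ℝ) * (1 + (d : ℝ) / n) ^ d) Filter.atTop
      (nhds ((L₀ : ℝ) * (1 + 0) ^ d)) := ((h1.const_add 1).pow d).const_mul _
  rw [add_zero, one_pow, mul_one] at h2
  exact le_of_tendsto_of_tendsto he h2 (Filter.eventually_atTop.mpr ⟨1, hbound⟩)

end Groth.Agent.S7146
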