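import Groth.Statements.S7147
import Mathlib.Tactic
import Mathlib.Algebra.Module.FinitePresentation
import Mathlib.LinearAlgebra.Basis.VectorSpace
import Mathlib.RingTheory.Localization.Module
import Mathlib.LinearAlgebra.Matrix.NonsingularInverse
import Mathlib.LinearAlgebra.Matrix.ToLin
import Mathlib.LinearAlgebra.Matrix.Determinant.Basic

set_option autoImplicit false
universe u
open CAlg

namespace Groth.Agent.S7147

/-- Let R be a ring, M a finitely presented R-module and x a maximal ideal of R with residue field κ(x);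
write M(x) = M/xM and let B(x) ⊆ M(x) be the orthogonal of the image of Hom_R(M, R) in the dual of
M(x), i.e. the classes of those m in M with φ(m) in x for every linear form φ on M, and V(x) =
M(x)/B(x). For s_1, ..., s_r in M the following are equivalent: (1) there is f in R, f not in x,
such that the map R_f^r → M_f given by the s_i is the inclusion of a direct summand; (2) the images
of s_1, ..., s_r in V(x) are linearly independent over κ(x). -/
theorem result (R : Type u) [CommRing R] (M : Type u)
    [AddCommGroup M] [Module R M] [Module.FinitePresentation R M] (x : Ideal R) [x.IsMaximal]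
    (r : ℕ) (s : Fin r → M) :
    let Mx := M ⧸ (x • ⊤ : Submodule R M)
    let Bx : Submodule (R ⧸ x) Mx :=
      Submodule.span (R ⧸ x) ((x • ⊤ : Submodule R M).mkQ '' {m : M | ∀ φ : M →ₗ[R] R, φ m ∈ x})
    (∃ f : R, f ∉ x ∧
      ∃ g : LocalizedModule (Submonoid.powers f) M →ₗ[Localization.Away f] (Fin r → Localization.Away f),
        g ∘ₗ Fintype.linearCombination (Localization.Away f)
            (fun i => LocalizedModule.mkLinearMap (Submonoid.powers f) M (s i)) = LinearMap.id) ↔
    LinearIndependent (R ⧸ x) (fun i => Bx.mkQ ((x • ⊤ : Submodule R M).mkQ (s i))) := by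
  intro Mx Bx
  have hxp : x.IsPrime := inferInstance
  have hsurj : Function.Surjective (algebraMap R (R ⧸ x)) := Ideal.Quotient.mk_surjective
  have hφx : ∀ (φ : M →ₗ[R] R) (m : M), m ∈ (x • ⊤ : Submodule R M) → φ m ∈ x := by
    intro φ m hm
    refine Submodule.smul_induction_on hm ?_ ?_
    · intro a ha n _
      rw [map_smul, smul_eq_mul]
      exact x.mul_mem_right _ ha
    · intro a b ha hb
      rw [map_add]; exact x.add_mem ha hb
  have hB : ∀ (φ : M →ₗ[R] R) (m : M), (x • ⊤ : Submodule R M).mkQ m ∈ Bx → φ m ∈ x := by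
    intro φ m hm
    let φ' : Mx →ₗ[R] (R ⧸ x) := (x • ⊤ : Submodule R M).liftQ
      ((Ideal.Quotient.mkₐ R x).toLinearMap ∘ₗ φ) (by
        intro m hm
        rw [LinearMap.mem_ker, LinearMap.comp_apply, AlgHom.toLinearMap_apply,
          Ideal.Quotient.mkₐ_eq_mk]
        exact Ideal.Quotient.eq_zero_iff_mem.2 (hφx φ m hm))
    let φ'' : Mx →ₗ[R ⧸ x] (R ⧸ x) := LinearMap.extendScalarsOfSurjective hsurj φ'
    have hle : Bx ≤ LinearMap.ker φ'' := by
      refine Submodule.span_le.2 ?_
      rintro _ ⟨m', hm', rfl⟩
      change φ' ((x • ⊤ : Submodule R M).mkQ m') = 0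
      rw [Submodule.mkQ_apply, Submodule.liftQ_apply]
      exact Ideal.Quotient.eq_zero_iff_mem.2 (hm' φ)
    have h0 := hle hm
    change φ' ((x • ⊤ : Submodule R M).mkQ m) = 0 at h0
    rw [Submodule.mkQ_apply, Submodule.liftQ_apply] at h0
    exact Ideal.Quotient.eq_zero_iff_mem.1 h0
  have hcomb : ∀ a : Fin r → R, Bx.mkQ ((x • ⊤ : Submodule R M).mkQ (∑ i, a i • s i)) =
      ∑ i, (algebraMap R (R ⧸ x) (a i)) • Bx.mkQ ((x • ⊤ : Submodule R M).mkQ (s i)) := by
    intro a
    rw [map_sum, map_sum]
    refine Finset.sum_congr rfl fun i _ => ?_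
    have e1 : (x • ⊤ : Submodule R M).mkQ (a i • s i)
        = (algebraMap R (R ⧸ x) (a i)) • (x • ⊤ : Submodule R M).mkQ (s i) := by
      rw [map_smul]; exact (algebraMap_smul (R ⧸ x) (a i) _).symm
    rw [e1, map_smul]
  constructor
  · rintro ⟨f, hfx, g, hg⟩
    rw [Fintype.linearIndependent_iff]
    intro c hc j
    choose a ha using fun i => hsurj (c i)
    have hsum : (x • ⊤ : Submodule R M).mkQ (∑ i, a i • s i) ∈ Bx := by
      rw [← Submodule.Quotient.mk_eq_zero Bx, ← Submodule.mkQ_apply, hcomb, ← hc]
      exact Finset.sum_congr rfl fun i _ => by rw [ha i]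
    have hall : ∀ φ : M →ₗ[R] R, φ (∑ i, a i • s i) ∈ x := fun φ => hB φ _ hsum
    let γ : M →ₗ[R] Localization.Away f :=
      ((LinearMap.proj j : (Fin r → Localization.Away f) →ₗ[Localization.Away f]
        Localization.Away f) ∘ₗ g).restrictScalars R ∘ₗ
      LocalizedModule.mkLinearMap (Submonoid.powers f) M
    obtain ⟨h, t, ht⟩ := Module.FinitePresentation.exists_lift_of_isLocalizedModule
      (Submonoid.powers f) (Algebra.linearMap R (Localization.Away f)) γ
    have hγ : ∀ i, γ (s i) = if i = j then 1 else 0 := by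
      intro i
      have h1 := congrArg (fun L => L (Pi.single i 1) j) hg
      simp only [LinearMap.comp_apply, Fintype.linearCombination_apply_single, one_smul,
        LinearMap.id_apply] at h1
      change g (LocalizedModule.mkLinearMap (Submonoid.powers f) M (s i)) j = _
      rw [h1, Pi.single_apply]
      by_cases hij : i = j
      · rw [if_pos hij.symm, if_pos hij]
      · rw [if_neg (Ne.symm hij), if_neg hij]
    have h1 : ∀ m, algebraMap R (Localization.Away f) (h m) = (t : R) • γ m := by
      intro m
      have := LinearMap.congr_fun ht m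
      exact this
    have key : algebraMap R (Localization.Away f) (h (∑ i, a i • s i))
        = algebraMap R (Localization.Away f) (t * a j) := by
      rw [h1, map_sum, Finset.sum_eq_single j]
      · rw [map_smul, hγ, if_pos rfl, Algebra.smul_def, Algebra.smul_def, mul_one, map_mul]
      · intro i _ hij
        rw [map_smul, hγ, if_neg hij, smul_zero]
      · intro hj; exact absurd (Finset.mem_univ j) hj
    obtain ⟨u, hu⟩ := (IsLocalization.eq_iff_exists (Submonoid.powers f)
      (Localization.Away f)).1 key
    have hpow : ∀ w : Submonoid.powers f, (w : R) ∉ x := by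
      rintro ⟨_, n, rfl⟩ hw
      exact hfx (hxp.mem_of_pow_mem n hw)
    have hmem : (u : R) * ((t : R) * a j) ∈ x := by
      rw [← hu]; exact x.mul_mem_left _ (hall h)
    have h2 := (hxp.mem_or_mem hmem).resolve_left (hpow u)
    have h3 := (hxp.mem_or_mem h2).resolve_left (hpow t)
    rw [← ha j]
    exact Ideal.Quotient.eq_zero_iff_mem.2 h3
  · intro hli
    let Ψ : (M →ₗ[R] R) →ₗ[R] (Fin r → R ⧸ x) :=
      LinearMap.pi (fun i => (Ideal.Quotient.mkₐ R x).toLinearMap ∘ₗ LinearMap.applyₗ (s i))
    have hΨ : ∀ φ i, Ψ φ i = Ideal.Quotient.mk x (φ (s i)) := fun φ i => rfl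
    have hΨsurj : Function.Surjective Ψ := by
      by_contra hns
      let C : Submodule (R ⧸ x) (Fin r → R ⧸ x) :=
        { carrier := Set.range Ψ
          add_mem' := by rintro _ _ ⟨φ, rfl⟩ ⟨ψ, rfl⟩; exact ⟨φ + ψ, map_add _ _ _⟩
          zero_mem' := ⟨0, map_zero _⟩
          smul_mem' := by
            rintro c _ ⟨φ, rfl⟩
            obtain ⟨a, rfl⟩ := hsurj c
            exact ⟨a • φ, by rw [map_smul]; exact (algebraMap_smul (R ⧸ x) a _).symm⟩ }
      have hC : C < ⊤ := by
        rw [lt_top_iff_ne_top]
        intro hCtop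
        apply hns
        intro v
        have : v ∈ C := hCtop ▸ Submodule.mem_top
        exact this
      letI : Field (R ⧸ x) := Ideal.Quotient.field x
      obtain ⟨c, hc0, hcle⟩ := Submodule.exists_le_ker_of_lt_top C hC
      apply hc0
      choose a ha using fun i => hsurj (c (Pi.single i 1))
      have hcform : ∀ v : Fin r → R ⧸ x, c v = ∑ i, v i * c (Pi.single i 1) := by
        intro v
        conv_lhs => rw [← Finset.univ_sum_single v]
        rw [map_sum]
        refine Finset.sum_congr rfl fun i _ => ?_
        rw [show (Pi.single i (v i) : Fin r → R ⧸ x) = v i • Pi.single i 1 by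
          rw [← Pi.single_smul, smul_eq_mul, mul_one], map_smul, smul_eq_mul]
      have hmem : ∀ φ : M →ₗ[R] R, φ (∑ i, a i • s i) ∈ x := by
        intro φ
        have h0 : c (Ψ φ) = 0 := hcle ⟨φ, rfl⟩
        rw [hcform] at h0
        rw [← Ideal.Quotient.eq_zero_iff_mem, ← h0, map_sum, map_sum]
        refine Finset.sum_congr rfl fun i _ => ?_
        rw [map_smul, smul_eq_mul, map_mul, hΨ, ← ha i, mul_comm]
        rfl
      have hBx : (x • ⊤ : Submodule R M).mkQ (∑ i, a i • s i) ∈ Bx :=
        Submodule.subset_span ⟨_, hmem, rfl⟩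
      rw [← Submodule.Quotient.mk_eq_zero Bx, ← Submodule.mkQ_apply, hcomb] at hBx
      have hz := Fintype.linearIndependent_iff.1 hli _ hBx
      refine LinearMap.ext fun v => ?_
      rw [hcform, LinearMap.zero_apply]
      refine Finset.sum_eq_zero fun i _ => ?_
      rw [← ha i, hz i, mul_zero]
    choose φ hφ using fun j : Fin r => hΨsurj (Pi.single j 1)
    let P : Matrix (Fin r) (Fin r) R := Matrix.of fun j i => φ j (s i)
    have hPmod : (Ideal.Quotient.mk x).mapMatrix P = 1 := by
      ext j i
      have h0 := congrFun (hφ j) i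
      rw [hΨ] at h0
      change Ideal.Quotient.mk x (φ j (s i)) = _
      rw [h0, Matrix.one_apply, Pi.single_apply]
      by_cases hij : i = j
      · rw [if_pos hij, if_pos hij.symm]
      · rw [if_neg hij, if_neg (Ne.symm hij)]
    have hdet : Ideal.Quotient.mk x P.det = 1 := by
      rw [RingHom.map_det, hPmod, Matrix.det_one]
    have hfx : P.det ∉ x := by
      intro hmem
      rw [Ideal.Quotient.eq_zero_iff_mem.2 hmem] at hdet
      exact zero_ne_one hdet
    refine ⟨P.det, hfx, ?_⟩
    let Pf : Matrix (Fin r) (Fin r) (Localization.Away P.det) :=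
      (algebraMap R (Localization.Away P.det)).mapMatrix P
    have hPfdet : IsUnit Pf.det := by
      have : Pf.det = algebraMap R (Localization.Away P.det) P.det := by
        rw [← RingHom.map_det]
      rw [this]
      exact IsLocalization.Away.algebraMap_isUnit P.det
    let φf : Fin r → (LocalizedModule (Submonoid.powers P.det) M →ₗ[Localization.Away P.det]
        Localization.Away P.det) := fun j =>
      IsLocalizedModule.mapExtendScalars (Submonoid.powers P.det)
        (LocalizedModule.mkLinearMap (Submonoid.powers P.det) M)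
        (Algebra.linearMap R (Localization.Away P.det)) (Localization.Away P.det) (φ j)
    refine ⟨(Matrix.mulVecLin Pf⁻¹) ∘ₗ LinearMap.pi φf, ?_⟩
    refine LinearMap.pi_ext fun i y => ?_
    rw [LinearMap.comp_apply, Fintype.linearCombination_apply_single, LinearMap.id_apply,
      LinearMap.comp_apply, map_smul, map_smul]
    have e2 : LinearMap.pi φf (LocalizedModule.mkLinearMap (Submonoid.powers P.det) M (s i))
        = Pf.mulVec (Pi.single i 1) := by
      ext j
      rw [LinearMap.pi_apply, Matrix.mulVec_single_one]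
      change IsLocalizedModule.map _ _ _ (φ j) _ = _
      rw [IsLocalizedModule.map_apply]
      rfl
    rw [e2, Matrix.mulVecLin_apply, Matrix.mulVec_mulVec, Matrix.nonsing_inv_mul _ hPfdet,
      Matrix.one_mulVec, ← Pi.single_smul, smul_eq_mul, mul_one]

end Groth.Agent.S7147
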