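import Groth.Statements.S7150
import Mathlib
import Groth.Agent.H27.CoeffFieldSep

set_option autoImplicit false
universe u
open EtAlg

namespace Groth.Agent.S7150

/-- Suppose p is a prime with p·1 = 0 in the local ring A and some power of the maximal ideal of A is
zero. Then the residue map A → κ_A has a section σ : κ_A → A that is a ring map. If moreover A → A'
is a local homomorphism to another local ring whose maximal ideal has a vanishing power, and the
residue field extension κ_{A'}/κ_A is separable (possibly transcendental, i.e. geometrically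
reduced), then for any such σ there is a section σ' : κ_{A'} → A' compatible with σ. -/
theorem result (p : ℕ) (hp : p.Prime) (A : Type u) [CommRing A]
    [IsLocalRing A] [CharP A p] (hnil : ∃ n : ℕ, IsLocalRing.maximalIdeal A ^ n = ⊥) :
    (∃ σ : IsLocalRing.ResidueField A →+* A, (IsLocalRing.residue A).comp σ = RingHom.id _) ∧
    ∀ (A' : Type u) [CommRing A'] [IsLocalRing A'] [Algebra A A'] [IsLocalHom (algebraMap A A')],
      (∃ n : ℕ, IsLocalRing.maximalIdeal A' ^ n = ⊥) →
      Algebra.IsGeometricallyReduced (IsLocalRing.ResidueField A) (IsLocalRing.ResidueField A') →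
      ∀ σ : IsLocalRing.ResidueField A →+* A, (IsLocalRing.residue A).comp σ = RingHom.id _ →
        ∃ σ' : IsLocalRing.ResidueField A' →+* A', (IsLocalRing.residue A').comp σ' = RingHom.id _ ∧
          σ'.comp (IsLocalRing.ResidueField.map (algebraMap A A')) = (algebraMap A A').comp σ := by
  haveI : Fact p.Prime := ⟨hp⟩
  have hpA : (p : A) = 0 := CharP.cast_eq_zero A p
  constructor
  · obtain ⟨n, hn⟩ := hnil
    obtain ⟨s, hs1, -⟩ := Groth.Agent.H27.CoeffField.section_of_nilpotent hp
      ((IsLocalRing.residue A).comp (ZMod.castHom (dvd_refl p) A))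
      (fun E _ π t hπ hpE hsq _ => Groth.Agent.H27.CoeffField.hsep_zmod hp E π t hpE hsq)
      n A (IsLocalRing.residue A) (ZMod.castHom (dvd_refl p) A) IsLocalRing.residue_surjective hpA
      (by rw [IsLocalRing.ker_residue]; exact hn) rfl
    exact ⟨s, hs1⟩
  · intro A' _ _ _ _ hnil' hgr σ hσ
    obtain ⟨n, hn⟩ := hnil'
    have hpA' : (p : A') = 0 := by
      rw [← map_natCast (algebraMap A A') p, hpA, map_zero]
    obtain ⟨s, hs1, hs2⟩ := Groth.Agent.H27.CoeffField.section_of_nilpotent hp
      (algebraMap (IsLocalRing.ResidueField A) (IsLocalRing.ResidueField A'))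
      (fun E _ π t hπ hpE hsq ht =>
        Groth.Agent.H27.CoeffField.hsep_geomReduced hp E π t hπ hpE hsq ht)
      n A' (IsLocalRing.residue A') ((algebraMap A A').comp σ) IsLocalRing.residue_surjective hpA'
      (by rw [IsLocalRing.ker_residue]; exact hn)
      (by
        ext x
        show IsLocalRing.residue A' (algebraMap A A' (σ x)) = _
        rw [← IsLocalRing.ResidueField.map_residue]
        have := RingHom.congr_fun hσ x
        simp only [RingHom.comp_apply, RingHom.id_apply] at this
        rw [this]; rfl)
    exact ⟨s, hs1, hs2⟩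

end Groth.Agent.S7150
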