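import Groth.Statements.S7157
import Mathlib
-- import your own Groth.Agent.* helpers here

set_option autoImplicit false
universe u
open EtAlg

namespace Groth.Agent.S7157


open Polynomial in
theorem aux (p : ℕ) (hp : p.Prime) (A K : Type u)
    [CommRing A] [IsDomain A] [IsDiscreteValuationRing A] [Field K] [Algebra A K] [IsFractionRing A K]
    [CharP (IsLocalRing.ResidueField A) p] (π : A) (hπm : IsLocalRing.maximalIdeal A = Ideal.span {π})
    (n : ℕ) (hn : 1 < n) (q : ℕ) (hqk : ∃ k : ℕ, q = p ^ k) :
    ∃ (L : Type u) (_ : Field L) (_ : Algebra K L) (_ : Algebra A L) (_ : IsScalarTower A K L),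
      Module.finrank K L = q ∧ Algebra.IsSeparable K L ∧ EtRam.IsTotallyRamified A (algebraMap A L) ∧
      ∃ πB b b' : L, πB ∈ integralClosure A L ∧ b ∈ integralClosure A L ∧ b' ∈ integralClosure A L ∧
        πB ^ q = algebraMap A L π + algebraMap A L π ^ n * b ∧
        πB ^ q = algebraMap A L π + πB ^ (n * q) * b' := by
  classical
  obtain ⟨k, hqdef⟩ := hqk
  have hq : 1 ≤ q := by rw [hqdef]; exact Nat.one_le_pow _ _ hp.pos
  have hn0 : n ≠ 0 := by omega
  have hq0 : q ≠ 0 := by omega
  have hπ : Irreducible π := (IsDiscreteValuationRing.irreducible_iff_uniformizer π).mpr hπm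
  have hmA : IsLocalRing.maximalIdeal A = Ideal.span {π} := hπm
  have hπ0 : π ≠ 0 := hπ.ne_zero
  have hπn : π ^ n = π * π ^ (n - 1) := by
    rw [← pow_succ', Nat.sub_add_cancel (show 1 ≤ n by omega)]
  obtain ⟨e, he1, he2⟩ : ∃ e : ℕ, (q = 1 → e = 0) ∧ (q ≠ 1 → e = 1) := by
    by_cases h : q = 1
    · exact ⟨0, fun _ => rfl, fun h' => absurd h h'⟩
    · exact ⟨1, fun h' => absurd h' h, fun _ => rfl⟩
  have heq : e < q := by
    by_cases h : q = 1
    · rw [he1 h]; omega
    · rw [he2 h]; omega
  obtain ⟨r, hr⟩ : ∃ r : A[X], r = C (π ^ n) * X ^ e - C π := ⟨_, rfl⟩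
  obtain ⟨f, hf⟩ : ∃ f : A[X], f = X ^ q + r := ⟨_, rfl⟩
  have hrdeg : r.degree < (q : WithBot ℕ) := by
    rw [hr]
    refine (degree_sub_le _ _).trans_lt (max_lt ?_ ?_)
    · refine (degree_C_mul_X_pow_le e (π ^ n)).trans_lt ?_
      exact_mod_cast heq
    · refine degree_C_le.trans_lt ?_
      exact_mod_cast (show 0 < q by omega)
  have hmonic : f.Monic := by rw [hf]; exact monic_X_pow_add hrdeg
  have hdeg : f.degree = q := by
    rw [hf, degree_add_eq_left_of_degree_lt (by rw [degree_X_pow]; exact hrdeg), degree_X_pow]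
  have hnatdeg : f.natDegree = q := natDegree_eq_of_degree_eq_some hdeg
  have hcoeff : ∀ j : ℕ, j < q → f.coeff j =
      (if j = e then π ^ n else 0) - (if j = 0 then π else 0) := by
    intro j hj
    rw [hf, hr, coeff_add, coeff_X_pow, if_neg (show ¬ (j = q) by omega), zero_add, coeff_sub,
      coeff_C_mul_X_pow, coeff_C]
  have hπnmem : ∀ I : Ideal A, π ∈ I → π ^ n ∈ I := fun I h => by
    rw [hπn]; exact I.mul_mem_right _ h
  have hirr : Irreducible f := by
    apply Polynomial.irreducible_of_eisenstein_criterion (P := IsLocalRing.maximalIdeal A)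
      (IsLocalRing.maximalIdeal.isMaximal A).isPrime
    · rw [hmonic.leadingCoeff]
      exact fun h => (IsLocalRing.maximalIdeal.isMaximal A).ne_top ((Ideal.eq_top_iff_one _).mpr h)
    · intro j hj
      rw [hdeg] at hj
      have hj' : j < q := by exact_mod_cast hj
      rw [hcoeff j hj', hmA]
      refine Ideal.sub_mem _ ?_ ?_
      · split_ifs
        · exact hπnmem _ (Ideal.mem_span_singleton_self π)
        · exact Ideal.zero_mem _
      · split_ifs
        · exact Ideal.mem_span_singleton_self π
        · exact Ideal.zero_mem _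
    · rw [hdeg]; exact_mod_cast (show 0 < q by omega)
    · rw [hcoeff 0 (by omega), if_pos rfl, hmA, Ideal.span_singleton_pow]
      intro h
      have h1 : (if 0 = e then π ^ n else 0) ∈ Ideal.span {π ^ 2} := by
        split_ifs
        · rw [Ideal.mem_span_singleton]
          exact pow_dvd_pow π (show 2 ≤ n by omega)
        · exact Ideal.zero_mem _
      have h2 : π ∈ Ideal.span {π ^ 2} := by
        have h3 := Ideal.sub_mem _ h1 h
        rwa [sub_sub_cancel] at h3
      rw [Ideal.mem_span_singleton] at h2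
      obtain ⟨c, hc⟩ := h2
      have h4 : π * (π * c) = π * 1 := by rw [mul_one, ← mul_assoc, ← sq, ← hc]
      have h5 := mul_left_cancel₀ hπ0 h4
      exact hπ.not_isUnit (isUnit_iff_exists_inv.mpr ⟨c, h5⟩)
    · exact hmonic.isPrimitive
  have hprime : Prime f := hirr.prime
  haveI hdom : IsDomain (AdjoinRoot f) := AdjoinRoot.isDomain_of_prime hprime
  obtain ⟨x, hx⟩ : ∃ x : AdjoinRoot f, x = AdjoinRoot.root f := ⟨_, rfl⟩
  have hmkX : AdjoinRoot.mk f X = x := by rw [hx]; exact AdjoinRoot.mk_X
  have hmkC : ∀ a : A, AdjoinRoot.mk f (C a) = algebraMap A (AdjoinRoot f) a := fun a => by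
    rw [AdjoinRoot.algebraMap_eq]; exact AdjoinRoot.mk_C a
  obtain ⟨ϖ, hϖ⟩ : ∃ ϖ : AdjoinRoot f, ϖ = algebraMap A (AdjoinRoot f) π := ⟨_, rfl⟩
  obtain ⟨u, hu⟩ : ∃ u : AdjoinRoot f, u = 1 - ϖ ^ (n - 1) * x ^ e := ⟨_, rfl⟩
  have hϖn : ϖ ^ n = ϖ * ϖ ^ (n - 1) := by
    rw [← pow_succ', Nat.sub_add_cancel (show 1 ≤ n by omega)]
  have hrel0 : x ^ q + (ϖ ^ n * x ^ e - ϖ) = 0 := by
    have h1 : AdjoinRoot.mk f f = 0 := AdjoinRoot.mk_self
    have h2 : AdjoinRoot.mk f (X ^ q + (C (π ^ n) * X ^ e - C π)) = 0 := by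
      rw [← hr, ← hf]; exact h1
    simp only [map_add, map_sub, map_mul, map_pow, hmkX, hmkC] at h2
    rw [← hϖ] at h2
    exact h2
  have hrel : x ^ q = ϖ * u := by
    rw [hu]
    linear_combination hrel0 - x ^ e * hϖn
  have hdecomp : ∀ b : AdjoinRoot f, ∃ (a : A) (b' : AdjoinRoot f),
      b = algebraMap A (AdjoinRoot f) a + x * b' := by
    intro b
    obtain ⟨g, rfl⟩ := AdjoinRoot.mk_surjective (g := f) b
    refine ⟨g.coeff 0, AdjoinRoot.mk f g.divX, ?_⟩
    conv_lhs => rw [← Polynomial.divX_mul_X_add g]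
    rw [map_add, map_mul, hmkX, hmkC, add_comm, mul_comm]
  haveI hfin : Module.Finite A (AdjoinRoot f) := hmonic.finite_adjoinRoot
  haveI hfree : Module.Free A (AdjoinRoot f) := hmonic.free_adjoinRoot
  haveI hint : Algebra.IsIntegral A (AdjoinRoot f) := Algebra.IsIntegral.of_finite A _
  have hinj : Function.Injective (algebraMap A (AdjoinRoot f)) := by
    rw [AdjoinRoot.algebraMap_eq]
    apply AdjoinRoot.of.injective_of_degree_ne_zero
    rw [hdeg]
    exact_mod_cast hq0
  have hxpow : x ^ q = x * x ^ (q - 1) := by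
    rw [← pow_succ', Nat.sub_add_cancel hq]
  -- every maximal ideal contains ϖ
  have hϖM : ∀ M : Ideal (AdjoinRoot f), M.IsMaximal → ϖ ∈ M := by
    intro M hM
    haveI := hM
    have hMc : (M.comap (algebraMap A (AdjoinRoot f))).IsMaximal :=
      Ideal.isMaximal_comap_of_isIntegral_of_isMaximal (R := A) M
    have hMc' : M.comap (algebraMap A (AdjoinRoot f)) = IsLocalRing.maximalIdeal A :=
      IsLocalRing.eq_maximalIdeal hMc
    have h1 : π ∈ M.comap (algebraMap A (AdjoinRoot f)) := by
      rw [hMc', hmA]; exact Ideal.mem_span_singleton_self π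
    rw [hϖ]; exact h1
  have huu : IsUnit u := by
    by_contra hcon
    obtain ⟨M, hM, huM⟩ := exists_max_ideal_of_mem_nonunits (mem_nonunits_iff.mpr hcon)
    have h1 : ϖ ^ (n - 1) * x ^ e ∈ M := by
      obtain ⟨m, hm⟩ : ∃ m, n - 1 = m + 1 := ⟨n - 2, by omega⟩
      rw [hm, pow_succ', mul_assoc]
      exact M.mul_mem_right _ (hϖM M hM)
    have h2 : (1 : AdjoinRoot f) ∈ M := by
      have h3 := M.add_mem huM h1
      rwa [hu, sub_add_cancel] at h3
    exact hM.ne_top ((Ideal.eq_top_iff_one _).mpr h2)
  obtain ⟨w, hw⟩ := isUnit_iff_exists_inv.mp huu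
  have hϖx : ϖ = x ^ q * w := by rw [hrel, mul_assoc, hw, mul_one]
  have hxM : ∀ M : Ideal (AdjoinRoot f), M.IsMaximal → x ∈ M := by
    intro M hM
    exact hM.isPrime.mem_of_pow_mem q (by rw [hrel]; exact M.mul_mem_right _ (hϖM M hM))
  obtain ⟨Q, hQmax⟩ := Ideal.exists_maximal (AdjoinRoot f)
  have hQ : Q.comap (algebraMap A (AdjoinRoot f)) = IsLocalRing.maximalIdeal A := by
    haveI := hQmax
    exact IsLocalRing.eq_maximalIdeal
      (Ideal.isMaximal_comap_of_isIntegral_of_isMaximal (R := A) Q)
  have hxQ : x ∈ Q := hxM Q hQmax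
  have hQeq : Q = Ideal.span {x} := by
    apply le_antisymm
    · intro b hb
      obtain ⟨a, b', rfl⟩ := hdecomp b
      have ha : algebraMap A (AdjoinRoot f) a ∈ Q := by
        have h1 := Q.sub_mem hb (Q.mul_mem_right b' hxQ)
        rwa [add_sub_cancel_right] at h1
      have ha' : a ∈ IsLocalRing.maximalIdeal A := by rw [← hQ]; exact ha
      rw [hmA, Ideal.mem_span_singleton] at ha'
      obtain ⟨c, rfl⟩ := ha'
      rw [map_mul, ← hϖ, hϖx, hxpow, mul_assoc, mul_assoc]
      exact Ideal.add_mem _ (Ideal.mul_mem_right _ _ (Ideal.mem_span_singleton_self x))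
        (Ideal.mul_mem_right _ _ (Ideal.mem_span_singleton_self x))
    · rw [Ideal.span_singleton_le_iff_mem]; exact hxQ
  have hxmax : (Ideal.span {x} : Ideal (AdjoinRoot f)).IsMaximal := hQeq ▸ hQmax
  haveI hloc : IsLocalRing (AdjoinRoot f) := by
    apply IsLocalRing.of_unique_max_ideal
    refine ⟨Ideal.span {x}, hxmax, ?_⟩
    intro M hM
    have hle : Ideal.span {x} ≤ M := by rw [Ideal.span_singleton_le_iff_mem]; exact hxM M hM
    exact (hxmax.eq_of_le hM.ne_top hle).symm
  have hmB : IsLocalRing.maximalIdeal (AdjoinRoot f) = Ideal.span {x} :=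
    (IsLocalRing.eq_maximalIdeal hxmax).symm
  haveI hnoeth : IsNoetherianRing (AdjoinRoot f) :=
    isNoetherianRing_of_surjective A[X] (AdjoinRoot f) (AdjoinRoot.mk f) AdjoinRoot.mk_surjective
  have hϖ0 : ϖ ≠ 0 := by
    rw [hϖ]
    intro h
    exact hπ0 (hinj (by rw [map_zero]; exact h))
  have hx0 : x ≠ 0 := by
    intro h
    rw [h, zero_pow hq0] at hrel
    exact (mul_ne_zero hϖ0 huu.ne_zero) hrel.symm
  have hxnu : ¬ IsUnit x := by
    intro h
    exact hxmax.ne_top (Ideal.span_singleton_eq_top.mpr h)
  have hnf : ¬ IsField (AdjoinRoot f) := by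
    intro h
    obtain ⟨y, hy⟩ := h.mul_inv_cancel hx0
    exact hxnu (isUnit_iff_exists_inv.mpr ⟨y, hy⟩)
  haveI hdvr : IsDiscreteValuationRing (AdjoinRoot f) := by
    refine ((IsDiscreteValuationRing.TFAE (AdjoinRoot f) hnf).out 4 0).mp ?_
    rw [hmB]
    exact ⟨⟨x, rfl⟩⟩
  -- the field L
  haveI hfaith : FaithfulSMul A (AdjoinRoot f) := (faithfulSMul_iff_algebraMap_injective A _).mpr hinj
  have hιinj : Function.Injective (algebraMap (AdjoinRoot f) (FractionRing (AdjoinRoot f))) :=
    IsFractionRing.injective (AdjoinRoot f) _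
  have hAL : ∀ a : A, algebraMap A (FractionRing (AdjoinRoot f)) a =
      algebraMap (AdjoinRoot f) (FractionRing (AdjoinRoot f)) (algebraMap A (AdjoinRoot f) a) :=
    fun a => IsScalarTower.algebraMap_apply A (AdjoinRoot f) (FractionRing (AdjoinRoot f)) a
  have hinjAL : Function.Injective (algebraMap A (FractionRing (AdjoinRoot f))) := by
    intro a a' h
    rw [hAL, hAL] at h
    exact hinj (hιinj h)
  letI algKL : Algebra K (FractionRing (AdjoinRoot f)) := (IsFractionRing.lift hinjAL).toAlgebra
  haveI tower : IsScalarTower A K (FractionRing (AdjoinRoot f)) :=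
    IsScalarTower.of_algebraMap_eq (fun a => (IsFractionRing.lift_algebraMap hinjAL a).symm)
  have hfinrank : Module.finrank K (FractionRing (AdjoinRoot f)) = q := by
    have h1 := Module.finrank_of_isLocalizedModule_of_free K (nonZeroDivisors A)
      (IsScalarTower.toAlgHom A (AdjoinRoot f) (FractionRing (AdjoinRoot f))).toLinearMap
    rw [h1, (AdjoinRoot.powerBasis' hmonic).finrank, AdjoinRoot.powerBasis'_dim, hnatdeg]
  haveI hfd : FiniteDimensional K (FractionRing (AdjoinRoot f)) := by
    apply Module.finite_of_finrank_pos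
    rw [hfinrank]; omega
  obtain ⟨ι, hι⟩ : ∃ ι : AdjoinRoot f →+* FractionRing (AdjoinRoot f),
      ι = algebraMap (AdjoinRoot f) (FractionRing (AdjoinRoot f)) := ⟨_, rfl⟩
  rw [← hι] at hιinj
  obtain ⟨g, hg⟩ : ∃ g : A →+* FractionRing (AdjoinRoot f),
      g = algebraMap A (FractionRing (AdjoinRoot f)) := ⟨_, rfl⟩
  have hga : ∀ a : A, g a = ι (algebraMap A (AdjoinRoot f) a) := fun a => by
    rw [hg, hι]; exact hAL a
  have hιB : ∀ (S : Subring (FractionRing (AdjoinRoot f))), (∀ a : A, g a ∈ S) → ι x ∈ S →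
      ∀ b : AdjoinRoot f, ι b ∈ S := by
    intro S hS hxS b
    obtain ⟨P, rfl⟩ := AdjoinRoot.mk_surjective (g := f) b
    induction P using Polynomial.induction_on with
    | C a => rw [hmkC, ← hga]; exact hS a
    | add P P' hP hP' => rw [map_add, map_add]; exact S.add_mem hP hP'
    | monomial j a ih =>
      rw [pow_succ, ← mul_assoc, map_mul, map_mul, hmkX]
      exact S.mul_mem ih hxS
  refine ⟨FractionRing (AdjoinRoot f), inferInstance, algKL, inferInstance, tower, hfinrank,
    ?_, ?_, ?_⟩
  · -- separable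
    obtain ⟨c, hc⟩ := CharP.exists K
    by_cases hc0 : c = 0
    · subst hc0
      haveI : CharZero K := CharP.charP_to_charZero K
      infer_instance
    · have hcp : c.Prime := (CharP.char_is_prime_or_zero K c).resolve_right hc0
      have hcA : ((c : ℕ) : A) = 0 := by
        apply IsFractionRing.injective A K
        rw [map_natCast, map_zero]
        exact CharP.cast_eq_zero K c
      have hcκ : ((c : ℕ) : IsLocalRing.ResidueField A) = 0 := by
        rw [← map_natCast (IsLocalRing.residue A), hcA, map_zero]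
      have hpc : p = c :=
        (Nat.prime_dvd_prime_iff_eq hp hcp).mp
          ((CharP.cast_eq_zero_iff (IsLocalRing.ResidueField A) p c).mp hcκ)
      subst hpc
      -- now CharP K p
      obtain ⟨π', hπ'⟩ : ∃ π' : K, π' = algebraMap A K π := ⟨_, rfl⟩
      have hπ'0 : π' ≠ 0 := by
        rw [hπ']
        intro h
        exact hπ0 (IsFractionRing.injective A K (by rw [map_zero]; exact h))
      obtain ⟨a', ha'⟩ : ∃ a' : K, a' = π' ^ n := ⟨_, rfl⟩
      have ha'0 : a' ≠ 0 := by rw [ha']; exact pow_ne_zero _ hπ'0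
      have hfK : f.map (algebraMap A K) = X ^ q + (C a' * X ^ e - C π') := by
        rw [hf, hr, ha', hπ']
        simp only [Polynomial.map_add, Polynomial.map_sub, Polynomial.map_mul, Polynomial.map_pow,
          Polynomial.map_X, Polynomial.map_C, map_pow]
      have hder : ∃ d : K, d ≠ 0 ∧ derivative (f.map (algebraMap A K)) = C d := by
        by_cases hq1 : q = 1
        · refine ⟨1, one_ne_zero, ?_⟩
          rw [hfK, hq1, he1 hq1]
          simp
        · refine ⟨a', ha'0, ?_⟩
          have hk0 : k ≠ 0 := by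
            intro h
            rw [h, pow_zero] at hqdef
            exact hq1 hqdef
          have hqK : ((q : ℕ) : K) = 0 := by
            rw [hqdef, Nat.cast_pow, CharP.cast_eq_zero K p, zero_pow hk0]
          rw [hfK, he2 hq1]
          simp [derivative_X_pow, hqK]
      obtain ⟨d, hd0, hd⟩ := hder
      have hfKsep : (f.map (algebraMap A K)).Separable := by
        rw [Polynomial.separable_def, hd]
        exact ⟨0, C d⁻¹, by rw [zero_mul, zero_add, ← C_mul, inv_mul_cancel₀ hd0, C_1]⟩
      have hroot : aeval (ι x) (f.map (algebraMap A K)) = 0 := by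
        rw [Polynomial.aeval_map_algebraMap, hι, Polynomial.aeval_algebraMap_apply, hx,
          AdjoinRoot.aeval_eq, AdjoinRoot.mk_self, map_zero]
      have hsepx : IsSeparable K (ι x) := hfKsep.of_dvd (minpoly.dvd K (ι x) hroot)
      have hall : ∀ b : AdjoinRoot f, ι b ∈ separableClosure K (FractionRing (AdjoinRoot f)) := by
        intro b
        have := hιB (separableClosure K (FractionRing (AdjoinRoot f))).toSubfield.toSubring
          (fun a => by
            rw [hg, IsScalarTower.algebraMap_apply A K (FractionRing (AdjoinRoot f))]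
            exact (separableClosure K (FractionRing (AdjoinRoot f))).algebraMap_mem _)
          hsepx b
        exact this
      rw [← separableClosure.eq_top_iff]
      rw [eq_top_iff]
      intro y _
      obtain ⟨b1, b2, -, rfl⟩ := IsFractionRing.div_surjective (A := AdjoinRoot f) y
      rw [← hι]
      exact (separableClosure K (FractionRing (AdjoinRoot f))).div_mem (hall b1) (hall b2)
  · -- totally ramified
    rw [← hg]
    let V₀ : ValuationSubring (FractionRing (AdjoinRoot f)) :=
      { ι.range with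
        mem_or_inv_mem' := by
          intro y
          rcases ValuationRing.isInteger_or_isInteger (AdjoinRoot f) y with ⟨b, hb⟩ | ⟨b, hb⟩
          · exact Or.inl ⟨b, by rw [hι]; exact hb⟩
          · exact Or.inr ⟨b, by rw [hι]; exact hb⟩ }
    have hV₀mem : ∀ y : FractionRing (AdjoinRoot f), y ∈ V₀ ↔ ∃ b, ι b = y := fun y => Iff.rfl
    have hxV : ∀ V : ValuationSubring (FractionRing (AdjoinRoot f)), EtRam.Dominates A g V →
        ι x ∈ V := by
      intro V hV
      have hint : IsIntegral V (ι x) := by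
        refine ⟨f.map (g.codRestrict V hV.1), hmonic.map _, ?_⟩
        rw [Polynomial.eval₂_map]
        have h1 : (algebraMap V (FractionRing (AdjoinRoot f))).comp (g.codRestrict V hV.1) =
            ι.comp (algebraMap A (AdjoinRoot f)) := by
          ext a; exact hga a
        rw [h1, ← Polynomial.hom_eval₂, hx, AdjoinRoot.algebraMap_eq, AdjoinRoot.eval₂_root,
          map_zero]
      obtain ⟨y, hy⟩ := (IsIntegrallyClosed.isIntegral_iff
        (K := FractionRing (AdjoinRoot f))).mp hint
      rw [← hy]
      exact y.2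
    have hc : ∀ V : ValuationSubring (FractionRing (AdjoinRoot f)), EtRam.Dominates A g V →
        ∀ b : AdjoinRoot f, ι b ∈ V := by
      intro V hV b
      exact hιB V.toSubring (fun a => hV.1 a) (hxV V hV) b
    have hb : ∀ V : ValuationSubring (FractionRing (AdjoinRoot f)), EtRam.Dominates A g V →
        V.valuation (ι x) < 1 := by
      intro V hV
      have h1 : V.valuation (g π) < 1 :=
        hV.2 π (by rw [hmA]; exact Ideal.mem_span_singleton_self π)
      have h2 : (ι x) ^ q = g π * ι u := by rw [hga, ← hϖ, ← map_mul, ← hrel, map_pow]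
      have h3 : V.valuation (ι u) ≤ 1 := (V.valuation_le_one_iff _).mpr (hc V hV u)
      have h4 : V.valuation (ι x) ^ q < 1 := by
        rw [← map_pow, h2, map_mul]
        calc V.valuation (g π) * V.valuation (ι u) ≤ V.valuation (g π) * 1 :=
              mul_le_mul_right h3 _
          _ = V.valuation (g π) := mul_one _
          _ < 1 := h1
      by_contra hcon
      rw [not_lt] at hcon
      exact absurd h4 (not_lt.mpr (one_le_pow₀ hcon))
    have hdomV₀ : EtRam.Dominates A g V₀ := by
      refine ⟨fun a => (hV₀mem _).mpr ⟨algebraMap A _ a, (hga a).symm⟩, ?_⟩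
      intro a ha
      have hmem : g a ∈ V₀ := (hV₀mem _).mpr ⟨algebraMap A _ a, (hga a).symm⟩
      refine (V₀.valuation_lt_one_iff ⟨g a, hmem⟩).mp ?_
      rw [IsLocalRing.mem_maximalIdeal, mem_nonunits_iff]
      intro hu'
      obtain ⟨z, hz⟩ := isUnit_iff_exists_inv.mp hu'
      obtain ⟨d, hd⟩ := (hV₀mem _).mp z.2
      have h1 : g a * (z : FractionRing (AdjoinRoot f)) = 1 := by
        have := congrArg (fun w : V₀ => (w : FractionRing (AdjoinRoot f))) hz
        simpa using this
      rw [hga, ← hd, ← map_mul, ← map_one ι] at h1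
      have h2 := hιinj h1
      have h3 : algebraMap A (AdjoinRoot f) a ∈ Q := by
        have h4 : a ∈ Q.comap (algebraMap A (AdjoinRoot f)) := by rw [hQ]; exact ha
        exact h4
      rw [hQeq, ← hmB, IsLocalRing.mem_maximalIdeal, mem_nonunits_iff] at h3
      exact h3 (isUnit_iff_exists_inv.mpr ⟨d, h2⟩)
    have huniq : ∀ V : ValuationSubring (FractionRing (AdjoinRoot f)), EtRam.Dominates A g V →
        V = V₀ := by
      intro V hV
      apply ValuationSubring.ext
      intro y
      constructor
      · intro hyV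
        by_cases hy0 : y = 0
        · rw [hy0]; exact V₀.zero_mem
        rcases V₀.mem_or_inv_mem y with h | h
        · exact h
        · obtain ⟨b, hb'⟩ := (hV₀mem _).mp h
          by_cases hbu : IsUnit b
          · obtain ⟨b2, hb2⟩ := isUnit_iff_exists_inv.mp hbu
            refine (hV₀mem _).mpr ⟨b2, ?_⟩
            have h1 : ι b * ι b2 = 1 := by rw [← map_mul, hb2, map_one]
            rw [hb'] at h1
            field_simp at h1
            exact h1
          · exfalso
            have hbm : b ∈ IsLocalRing.maximalIdeal (AdjoinRoot f) := by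
              rw [IsLocalRing.mem_maximalIdeal, mem_nonunits_iff]; exact hbu
            rw [hmB, Ideal.mem_span_singleton] at hbm
            obtain ⟨c, rfl⟩ := hbm
            have h1 : V.valuation (y⁻¹) < 1 := by
              rw [← hb', map_mul, map_mul]
              calc V.valuation (ι x) * V.valuation (ι c) ≤ V.valuation (ι x) * 1 :=
                    mul_le_mul_right ((V.valuation_le_one_iff _).mpr (hc V hV c)) _
                _ = V.valuation (ι x) := mul_one _
                _ < 1 := hb V hV
            have h2 : V.valuation y ≤ 1 := (V.valuation_le_one_iff _).mpr hyV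
            have h3 : V.valuation y * V.valuation y⁻¹ = 1 := by
              rw [← map_mul, mul_inv_cancel₀ hy0, map_one]
            have h4 : V.valuation y * V.valuation y⁻¹ < 1 :=
              calc V.valuation y * V.valuation y⁻¹ ≤ 1 * V.valuation y⁻¹ :=
                    mul_le_mul_left h2 _
                _ = V.valuation y⁻¹ := one_mul _
                _ < 1 := h1
            rw [h3] at h4
            exact lt_irrefl _ h4
      · intro hyV₀
        obtain ⟨b, rfl⟩ := (hV₀mem _).mp hyV₀
        exact hc V hV b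
    unfold EtRam.IsTotallyRamified
    refine ⟨⟨V₀, hdomV₀⟩, ?_, ?_⟩
    · intro V V' hV hV'
      rw [huniq V hV, huniq V' hV']
    · intro V hV
      have hVeq := huniq V hV
      subst hVeq
      intro r'
      obtain ⟨y, rfl⟩ := IsLocalRing.residue_surjective r'
      obtain ⟨b, hb'⟩ := (hV₀mem _).mp y.2
      obtain ⟨a, b', rfl⟩ := hdecomp b
      refine ⟨a, ?_⟩
      show IsLocalRing.residue V₀ (RingHom.codRestrict g V₀ hV.1 a) = IsLocalRing.residue V₀ y
      rw [← sub_eq_zero, ← map_sub, IsLocalRing.residue_eq_zero_iff, V₀.valuation_lt_one_iff]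
      have h1 : ((RingHom.codRestrict g V₀ hV.1 a - y : V₀) : FractionRing (AdjoinRoot f)) =
          - (ι x * ι b') := by
        have h2 : ((RingHom.codRestrict g V₀ hV.1 a - y : V₀) : FractionRing (AdjoinRoot f)) =
          g a - (y : FractionRing (AdjoinRoot f)) := rfl
        rw [h2, ← hb', map_add, map_mul, hga]
        ring
      rw [h1, Valuation.map_neg, map_mul]
      calc V₀.valuation (ι x) * V₀.valuation (ι b') ≤ V₀.valuation (ι x) * 1 :=
            mul_le_mul_right ((V₀.valuation_le_one_iff _).mpr (hc V₀ hV b')) _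
        _ = V₀.valuation (ι x) := mul_one _
        _ < 1 := hb V₀ hV
  · -- the elements
    have hintB : ∀ b : AdjoinRoot f, ι b ∈ integralClosure A (FractionRing (AdjoinRoot f)) := by
      intro b
      rw [mem_integralClosure_iff, hι]
      exact (Algebra.IsIntegral.isIntegral (R := A) b).map
        (IsScalarTower.toAlgHom A (AdjoinRoot f) (FractionRing (AdjoinRoot f)))
    have hid : x ^ (n * q) * w ^ n = ϖ ^ n := by
      rw [pow_mul', ← mul_pow, ← hϖx]
    have heq1 : x ^ q = ϖ + ϖ ^ n * (-(x ^ e)) := by linear_combination hrel0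
    have heq2 : x ^ q = ϖ + x ^ (n * q) * (-(x ^ e) * w ^ n) := by
      linear_combination hrel0 + x ^ e * hid
    have hπL : algebraMap A (FractionRing (AdjoinRoot f)) π = ι ϖ := by
      rw [hϖ, ← hga, hg]
    refine ⟨ι x, ι (-(x ^ e)), ι (-(x ^ e) * w ^ n), hintB _, hintB _, hintB _, ?_, ?_⟩
    · rw [hπL, ← map_pow, ← map_pow, ← map_mul, ← map_add, ← heq1]
    · rw [hπL, ← map_pow, ← map_pow, ← map_mul, ← map_add, ← heq2]

/-- Let A be a discrete valuation ring, π a uniformizer, K its field of fractions, and suppose the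
residue field of A has characteristic p > 0. For every n > 1 and every power q of p there is a
separable degree-q extension L/K that is totally ramified with respect to A and whose ring of
integers B (the integral closure of A in L) contains elements π_B, b, b' with π_B^q = π + πⁿ·b and
π_B^q = π + π_B^(nq)·b' (π_B is then a uniformizer of B and the ramification index is q). -/
theorem result (p : ℕ) (hp : p.Prime) (A K : Type u)
    [CommRing A] [IsDomain A] [IsDiscreteValuationRing A] [Field K] [Algebra A K] [IsFractionRing A K]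
    [CharP (IsLocalRing.ResidueField A) p] (π : A) (hπ : IsLocalRing.maximalIdeal A = Ideal.span {π})
    (n : ℕ) (hn : 1 < n) (k : ℕ) :
    ∃ (L : Type u) (_ : Field L) (_ : Algebra K L) (_ : Algebra A L) (_ : IsScalarTower A K L),
      Module.finrank K L = p ^ k ∧ Algebra.IsSeparable K L ∧ EtRam.IsTotallyRamified A (algebraMap A L) ∧
      ∃ πB b b' : L, πB ∈ integralClosure A L ∧ b ∈ integralClosure A L ∧ b' ∈ integralClosure A L ∧
        πB ^ (p ^ k) = algebraMap A L π + algebraMap A L π ^ n * b ∧
        πB ^ (p ^ k) = algebraMap A L π + πB ^ (n * p ^ k) * b' := by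
  exact aux p hp A K π hπ n hn (p ^ k) ⟨k, rfl⟩

end Groth.Agent.S7157
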