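import Groth.Statements.S7160
import Groth.Agent.H28.DLinear

set_option autoImplicit false
universe u
open CategoryTheory CategoryTheory.Pretriangulated
attribute [local instance] HasDerivedCategory.standard
open CAlg

namespace Groth.Agent.S7160

open Groth.Agent.H28.DLinear

theorem result (R : Type u) [CommRing R] (f : R) (M C : Dual.D R)
    (g : M ⟶ C) (h : C ⟶ M⟦(1 : ℤ)⟧) (hT : Triangle.mk (f • 𝟙 M) g h ∈ distinguishedTriangles)
    (hloc : ∀ i : ℤ, i < 0 → ∀ x : Dual.HD R M i, ∃ n : ℕ, f ^ n • x = 0)
    (hC : ∀ i : ℤ, i < -1 → Subsingleton (Dual.HD R C i)) :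
    ∀ i : ℤ, i < 0 → Subsingleton (Dual.HD R M i) := by
  intro i hi
  let T := Triangle.mk (f • 𝟙 M) g h
  have hδ : DerivedCategory.HomologySequence.δ T (i - 1) i (by omega) = 0 := by
    have : Subsingleton (Dual.HD R C (i - 1)) := hC (i - 1) (by omega)
    have hz : Limits.IsZero ((DerivedCategory.homologyFunctor (ModuleCat.{u} R) (i - 1)).obj C) :=
      ModuleCat.isZero_of_subsingleton _
    exact hz.eq_of_src _ _
  have hmono : Mono ((DerivedCategory.homologyFunctor (ModuleCat.{u} R) i).map T.mor₁) :=
    (DerivedCategory.HomologySequence.mono_homologyMap_mor₁_iff T hT (i - 1) i (by omega)).2 hδ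
  have hmap : (DerivedCategory.homologyFunctor (ModuleCat.{u} R) i).map T.mor₁ =
      f • 𝟙 ((DerivedCategory.homologyFunctor (ModuleCat.{u} R) i).obj M) := by
    change (DerivedCategory.homologyFunctor (ModuleCat.{u} R) i).map (f • 𝟙 M) = _
    rw [Functor.map_smul, CategoryTheory.Functor.map_id]
  have hmono2 : Mono (f • 𝟙 ((DerivedCategory.homologyFunctor (ModuleCat.{u} R) i).obj M)) := by
    rw [← hmap]; exact hmono
  have hinj0 := (ModuleCat.mono_iff_injective _).1 hmono2
  have hinj : ∀ x : Dual.HD R M i, f • x = 0 → x = 0 := by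
    intro x hx
    apply hinj0
    change f • x = f • (0 : Dual.HD R M i)
    rw [hx, smul_zero]
  refine ⟨fun x y => ?_⟩
  have hzero : ∀ z : Dual.HD R M i, z = 0 := by
    intro z
    obtain ⟨n, hn⟩ := hloc i hi z
    induction n with
    | zero => simpa using hn
    | succ n ih =>
      apply ih
      apply hinj
      rw [← mul_smul, ← pow_succ']
      exact hn
  rw [hzero x, hzero y]

end Groth.Agent.S7160
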