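import Groth.Statements.S7164
import Groth.Agent.Lib.Helper6.ExtAR

set_option autoImplicit false
universe u
open CategoryTheory
attribute [local instance] HasDerivedCategory.standard
open CAlg

namespace Groth.Agent.S7164

/-- Let A be a Noetherian ring, I an ideal, K a pseudo-coherent object of D(A) and a an integer. Assume
that for every finite A-module M and every i ≥ a the module Ext^i_A(K, M) is I-power torsion. Then
for i ≥ a and M finite the inverse system (Ext^i_A(K, M/IⁿM))_n is essentially constant with value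
Ext^i_A(K, M) (so that Ext^i_A(K, M) = lim Ext^i_A(K, M/IⁿM)): concretely, some comparison map
Ext^i(K, M) → Ext^i(K, M/I^mM) is injective and for every n there is m' ≥ n such that the image of
the transition map Ext^i(K, M/I^(m')M) → Ext^i(K, M/IⁿM) is contained in the image of Ext^i(K, M).
Here Ext^i(K, X) = Hom_{D(A)}(K, X[i]). -/
theorem result (A : Type u) [CommRing A] [IsNoetherianRing A]
    (I : Ideal A) (K : Dual.D A) (hK : DRing.IsPseudoCoherent' A K) (a : ℤ)
    (htors : ∀ (M : Type u) [AddCommGroup M] [Module A M], Module.Finite A M → ∀ i : ℤ, a ≤ i →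
      ∀ e : K ⟶ (Dual.inD A M)⟦i⟧, ∃ n : ℕ, ∀ x ∈ I ^ n, x • e = 0)
    (M : Type u) [AddCommGroup M] [Module A M] [Module.Finite A M] (i : ℤ) (hi : a ≤ i) :
    let Mq : ℕ → Submodule A M := fun n => I ^ n • ⊤
    let c : ∀ n : ℕ, (K ⟶ (Dual.inD A M)⟦i⟧) → (K ⟶ (Dual.inD A (M ⧸ Mq n))⟦i⟧) :=
      fun n e => e ≫ ((DerivedCategory.singleFunctor (ModuleCat.{u} A) 0).map (ModuleCat.ofHom (Mq n).mkQ))⟦i⟧'
    let t : ∀ n m : ℕ, n ≤ m → (K ⟶ (Dual.inD A (M ⧸ Mq m))⟦i⟧) → (K ⟶ (Dual.inD A (M ⧸ Mq n))⟦i⟧) :=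
      fun n m hnm e => e ≫ ((DerivedCategory.singleFunctor (ModuleCat.{u} A) 0).map (ModuleCat.ofHom
        (Submodule.mapQ (Mq m) (Mq n) (LinearMap.id : M →ₗ[A] M) (Submodule.smul_mono_left (Ideal.pow_le_pow_right hnm)))))⟦i⟧'
    (∃ m : ℕ, Function.Injective (c m)) ∧
      ∀ n : ℕ, ∃ (m' : ℕ) (hnm : n ≤ m'), Set.range (t n m' hnm) ⊆ Set.range (c n) := by
  intro Mq c t
  obtain ⟨E, b, hb, hE, ⟨iso⟩⟩ := hK
  haveI : E.IsKProjective := Groth.Agent.Helper6.PerfTri.kproj_of_bdd E b hb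
    (fun i => by haveI := (hE i).2; infer_instance)
  constructor
  · obtain ⟨m, hm⟩ := Groth.Agent.Helper6.ExtAR.exists_injective E i (-i) (by omega) K iso I hE M
      (fun e => htors M inferInstance i hi e)
    refine ⟨m, fun e₁ e₂ h => ?_⟩
    have h0 : (e₁ - e₂) ≫ Groth.Agent.Helper6.ExtAR.Tmap i (I ^ m • ⊤ : Submodule A M).mkQ = 0 := by
      rw [Preadditive.sub_comp]
      exact sub_eq_zero.2 h
    exact sub_eq_zero.1 (hm _ h0)
  · obtain ⟨c₀, hc₀, hS⟩ := Groth.Agent.Helper6.ExtAR.range_subset E i (-i) (by omega) K iso I hE M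
    intro n
    refine ⟨n + c₀, Nat.le_add_right n c₀, ?_⟩
    rintro _ ⟨e, rfl⟩
    obtain ⟨e₀, he₀⟩ := hS n
      (Submodule.smul_mono_left (Ideal.pow_le_pow_right (Nat.le_add_right n c₀))) e
    exact ⟨e₀, he₀.symm⟩

end Groth.Agent.S7164
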