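import Groth.Statements.S7178
import Mathlib

set_option autoImplicit false
universe u
open FlatMor

namespace Groth.Agent.S7178

open AlgebraicGeometry CategoryTheory Limits TensorProduct in
theorem affine_iff {A B : CommRingCat.{u}} (φ : A ⟶ B) :
    WeaklyEtale (Spec.map φ) ↔ (letI := φ.hom.toAlgebra; Algebra.WeaklyEtale A B) := by
  let _ := φ.hom.toAlgebra
  have hφ : φ = CommRingCat.ofHom (algebraMap A B) := rfl
  rw [weaklyEtale_iff, Algebra.weaklyEtale_iff]
  refine and_congr ?_ ?_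
  · rw [Flat.SpecMap_iff]
    rfl
  · rw [hφ, diagonal_SpecMap A B, MorphismProperty.cancel_right_of_respectsIso @Flat,
      Flat.SpecMap_iff]
    rfl

open AlgebraicGeometry CategoryTheory Limits in
theorem resLE_iff {X S : Scheme.{u}} (f : X ⟶ S) (U : X.Opens) (V : S.Opens) (hU : IsAffineOpen U)
    (hV : IsAffineOpen V) (hUV : U ≤ f ⁻¹ᵁ V) :
    WeaklyEtale (f.resLE V U hUV) ↔ WeaklyEtale (Spec.map (f.appLE V U hUV)) := by
  have h := Scheme.Opens.toSpecΓ_SpecMap_appLE f V U hUV
  have h1 : IsIso U.toSpecΓ := by rw [← hU.isoSpec_hom]; infer_instance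
  have h2 : IsIso V.toSpecΓ := by rw [← hV.isoSpec_hom]; infer_instance
  rw [← MorphismProperty.cancel_right_of_respectsIso @WeaklyEtale (f.resLE V U hUV) V.toSpecΓ,
    ← h, MorphismProperty.cancel_left_of_respectsIso @WeaklyEtale]

open AlgebraicGeometry CategoryTheory Limits in
/-- (1) ⇔ (2): f : X → S is weakly étale if and only if, whenever U ⊆ X and V ⊆ S are affine opens and f
maps U into V, the ring O_X(U) is a weakly étale O_S(V)-algebra (flat, with flat multiplication map
O_X(U) ⊗ O_X(U) → O_X(U) over O_S(V)). -/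
theorem result {X S : Scheme.{u}} (f : X ⟶ S) :
    WeaklyEtale f ↔ ∀ (U : X.Opens) (V : S.Opens) (_ : IsAffineOpen U) (_ : IsAffineOpen V) (hUV : U ≤ f ⁻¹ᵁ V),
      (letI := (f.appLE V U hUV).hom.toAlgebra
       Algebra.WeaklyEtale Γ(S, V) Γ(X, U)) := by
  constructor
  · intro hf U V hU hV hUV
    have : WeaklyEtale (f.resLE V U hUV) := inferInstance
    rw [resLE_iff f U V hU hV hUV, affine_iff] at this
    exact this
  · intro h
    have : MorphismProperty.RespectsRight @WeaklyEtale @IsOpenImmersion := by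
      refine ⟨fun {X Y Z} i hi f hf => ?_⟩
      have : IsOpenImmersion i := hi
      have : WeaklyEtale f := hf
      infer_instance
    rw [IsZariskiLocalAtSource.iff_exists_resLE (P := @WeaklyEtale)]
    intro x
    obtain ⟨V, hV, hxV⟩ : ∃ V : S.Opens, IsAffineOpen V ∧ f x ∈ V := by
      obtain ⟨V, hV, hx, -⟩ := exists_isAffineOpen_mem_and_subset (U := ⊤) (x := f x) (by simp)
      exact ⟨V, hV, hx⟩
    obtain ⟨U, hU, hxU, hUV⟩ : ∃ U : X.Opens, IsAffineOpen U ∧ x ∈ U ∧ U ≤ f ⁻¹ᵁ V := by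
      obtain ⟨U, hU, hx, hUV⟩ := exists_isAffineOpen_mem_and_subset (U := f ⁻¹ᵁ V) (x := x) hxV
      exact ⟨U, hU, hx, hUV⟩
    refine ⟨V, U, hxU, hUV, ?_⟩
    rw [resLE_iff f U V hU hV hUV, affine_iff]
    exact h U V hU hV hUV

end Groth.Agent.S7178
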