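import Groth.Statements.S7237
import Mathlib
-- import your own Groth.Agent.* helpers here

set_option autoImplicit false
universe u
open TensorProduct
open FlatMor

namespace Groth.Agent.S7237

/-- Let A be a ring and M a finitely generated A-module, and let C = Sym_A(M) be the symmetric algebra
of M with its canonical A-linear map ι : M → C. Then Ω_{C/A} = M ⊗_A C: the C-linear map C ⊗_A M →
Ω_{C/A} obtained by extending scalars in the A-linear map m ↦ d(ι m), d being the universal
A-derivation of C, is bijective. (The published lemma also computes the whole naive cotangent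
complex of the presentation of C attached to a surjection A^m → M with kernel K, namely as K ⊗_A C →
⊕_j C dy_j; only its consequence for Ω is asserted here.) -/
theorem result (A : Type u) [CommRing A] (M : Type u)
    [AddCommGroup M] [Module A M] [Module.Finite A M] :
    Function.Bijective (LinearMap.liftBaseChange (SymmetricAlgebra A M)
      ((KaehlerDifferential.D A (SymmetricAlgebra A M)).toLinearMap.restrictScalars A ∘ₗ SymmetricAlgebra.ι A M)) := by
  classical
  -- the linear map into the trivial square zero extension
  let g : M →ₗ[A] TrivSqZeroExt (SymmetricAlgebra A M) (SymmetricAlgebra A M ⊗[A] M) :=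
    { toFun := fun m => TrivSqZeroExt.inl (SymmetricAlgebra.ι A M m) +
        TrivSqZeroExt.inr ((1 : SymmetricAlgebra A M) ⊗ₜ[A] m)
      map_add' := fun m₁ m₂ => by
        apply TrivSqZeroExt.ext
        · simp
        · simp [TensorProduct.tmul_add]
      map_smul' := fun a m => by
        apply TrivSqZeroExt.ext
        · simp
        · simp }
  let F : SymmetricAlgebra A M →ₐ[A] TrivSqZeroExt (SymmetricAlgebra A M) (SymmetricAlgebra A M ⊗[A] M) :=
    SymmetricAlgebra.lift g
  have hFι : ∀ m, F (SymmetricAlgebra.ι A M m) = g m := fun m => SymmetricAlgebra.lift_ι_apply g m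
  have hfst : ∀ x, (F x).fst = x := by
    intro x
    have h : (TrivSqZeroExt.fstHom A (SymmetricAlgebra A M) (SymmetricAlgebra A M ⊗[A] M)).comp F =
        AlgHom.id A (SymmetricAlgebra A M) := by
      apply SymmetricAlgebra.algHom_ext
      ext m
      show (F (SymmetricAlgebra.ι A M m)).fst = SymmetricAlgebra.ι A M m
      rw [hFι]
      simp [g]
    exact congrArg (fun φ => φ x) h
  let δ₀ : SymmetricAlgebra A M →ₗ[A] (SymmetricAlgebra A M ⊗[A] M) :=
    { toFun := fun x => (F x).snd
      map_add' := fun x y => by rw [map_add, TrivSqZeroExt.snd_add]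
      map_smul' := fun a x => by rw [map_smul, TrivSqZeroExt.snd_smul]; rfl }
  have hleib : ∀ x y, δ₀ (x * y) = x • δ₀ y + y • δ₀ x := by
    intro x y
    show (F (x * y)).snd = x • (F y).snd + y • (F x).snd
    rw [map_mul, TrivSqZeroExt.snd_mul, hfst, hfst, op_smul_eq_smul]
  let δ : Derivation A (SymmetricAlgebra A M) (SymmetricAlgebra A M ⊗[A] M) :=
    Derivation.mk' δ₀ hleib
  have hδι : ∀ m, δ (SymmetricAlgebra.ι A M m) = (1 : SymmetricAlgebra A M) ⊗ₜ[A] m := by
    intro m
    show (F (SymmetricAlgebra.ι A M m)).snd = _
    rw [hFι]
    simp [g]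
  constructor
  · -- injectivity through the retraction
    have hret : ∀ z : SymmetricAlgebra A M ⊗[A] M, δ.liftKaehlerDifferential
        (LinearMap.liftBaseChange (SymmetricAlgebra A M)
          ((KaehlerDifferential.D A (SymmetricAlgebra A M)).toLinearMap.restrictScalars A ∘ₗ
            SymmetricAlgebra.ι A M) z) = z := by
      intro z
      induction z using TensorProduct.induction_on with
      | zero => simp
      | add z₁ z₂ h₁ h₂ => rw [map_add, map_add, h₁, h₂]
      | tmul s m =>
        rw [LinearMap.liftBaseChange_tmul, map_smul]
        show s • δ.liftKaehlerDifferential (KaehlerDifferential.D A _ (SymmetricAlgebra.ι A M m)) = _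
        rw [Derivation.liftKaehlerDifferential_comp_D, hδι, TensorProduct.smul_tmul', smul_eq_mul,
          mul_one]
    intro z₁ z₂ h
    rw [← hret z₁, ← hret z₂, h]
  · -- surjectivity: the range contains all `d x`
    rw [← LinearMap.range_eq_top, eq_top_iff, ← KaehlerDifferential.span_range_derivation,
      Submodule.span_le]
    rintro _ ⟨x, rfl⟩
    induction x using SymmetricAlgebra.induction with
    | algebraMap r =>
      rw [Derivation.map_algebraMap]
      exact Submodule.zero_mem _
    | ι m =>
      exact ⟨(1 : SymmetricAlgebra A M) ⊗ₜ[A] m, by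
        rw [LinearMap.liftBaseChange_tmul, one_smul]; rfl⟩
    | mul a b ha hb =>
      rw [Derivation.leibniz]
      exact Submodule.add_mem _ (Submodule.smul_mem _ _ hb) (Submodule.smul_mem _ _ ha)
    | add a b ha hb =>
      rw [map_add]
      exact Submodule.add_mem _ ha hb

end Groth.Agent.S7237
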