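import Groth.Statements.S7290
import Mathlib
-- import your own Groth.Agent.* helpers here

set_option autoImplicit false
open CategoryTheory CategoryTheory.Limits AlgebraicGeometry Opposite
universe u
open ProEtW

namespace Groth.Agent.S7290


theorem determined (A : Type u) [CommRing A] (T : Set (PrimeSpectrum A))
    (hT : Topology.IsConstructible T) :
    ∃ E : Finset A, ∀ x y : PrimeSpectrum A,
      (∀ f ∈ E, f ∈ x.asIdeal ↔ f ∈ y.asIdeal) → (x ∈ T ↔ y ∈ T) := by
  classical
  induction hT using Topology.IsConstructible.empty_union_induction with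
  | open_retrocompact U hUo hUc =>
    obtain ⟨t, rfl⟩ := PrimeSpectrum.isCompact_isOpen_iff.mp ⟨hUc.isCompact, hUo⟩
    refine ⟨t, fun x y h => ?_⟩
    simp only [Set.mem_compl_iff, PrimeSpectrum.mem_zeroLocus, Set.not_subset, Finset.mem_coe,
      SetLike.mem_coe]
    constructor
    · rintro ⟨f, hf, hfx⟩
      exact ⟨f, hf, fun hfy => hfx ((h f hf).mpr hfy)⟩
    · rintro ⟨f, hf, hfy⟩
      exact ⟨f, hf, fun hfx => hfy ((h f hf).mp hfx)⟩
  | union s hs t ht ihs iht =>
    obtain ⟨E₁, h₁⟩ := ihs
    obtain ⟨E₂, h₂⟩ := iht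
    refine ⟨E₁ ∪ E₂, fun x y h => ?_⟩
    have e1 := h₁ x y (fun f hf => h f (Finset.mem_union_left _ hf))
    have e2 := h₂ x y (fun f hf => h f (Finset.mem_union_right _ hf))
    simp only [Set.mem_union, e1, e2]
  | compl s hs ih =>
    obtain ⟨E, h⟩ := ih
    exact ⟨E, fun x y hxy => by simp only [Set.mem_compl_iff, h x y hxy]⟩

/-- Let A be a ring and let Spec A be the disjoint union of finitely many constructible subsets T_i.
Then there is a finite subset E of A such that the stratification of Spec A according to which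
elements of E vanish at a point refines the given one: each nonempty stratum, consisting of the
primes whose intersection with E is a prescribed subset, is contained in one of the T_i. -/
theorem result (A : Type u) [CommRing A] {ι : Type u} [Finite ι]
    (T : ι → Set (PrimeSpectrum A)) (hT : ∀ i, Topology.IsConstructible (T i))
    (hcov : ⋃ i, T i = Set.univ) (hdisj : Pairwise fun i j => Disjoint (T i) (T j)) :
    ∃ E : Finset A, ∀ E'' : Finset A, E'' ⊆ E →
      ∀ x : PrimeSpectrum A, (∀ f ∈ E, f ∈ x.asIdeal ↔ f ∈ E'') →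
        ∃ i, {y : PrimeSpectrum A | ∀ f ∈ E, f ∈ y.asIdeal ↔ f ∈ E''} ⊆ T i := by
  classical
  haveI := Fintype.ofFinite ι
  choose E hE using fun i => determined A (T i) (hT i)
  refine ⟨Finset.univ.biUnion E, fun E'' _ x hx => ?_⟩
  have hxi : ∃ i, x ∈ T i := by
    have : x ∈ ⋃ i, T i := by rw [hcov]; trivial
    exact Set.mem_iUnion.mp this
  obtain ⟨i, hi⟩ := hxi
  refine ⟨i, fun y hy => ?_⟩
  have : ∀ f ∈ E i, f ∈ y.asIdeal ↔ f ∈ x.asIdeal := fun f hf => by
    have hfE : f ∈ Finset.univ.biUnion E := Finset.mem_biUnion.mpr ⟨i, Finset.mem_univ i, hf⟩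
    rw [hy f hfE, hx f hfE]
  exact (hE i y x this).mpr hi

end Groth.Agent.S7290
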