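import Groth.Statements.S7318
import Mathlib

set_option autoImplicit false
open Finset
open Models Models.NumericalType

namespace Groth.Agent.S7318

/-- For a numerical type T on n indices with e pairs i < j such that a_ij > 0, the topological genus 1 -
n + e is ≥ 0. -/
theorem result {n : ℕ} (T : Models.NumericalType n) : 0 ≤ T.topGenus := by
  classical
  have hsymm : ∀ i j, T.a i j = T.a j i := fun i j => (T.symm.apply _ _).symm
  let G : SimpleGraph (Fin n) :=
    { Adj := fun i j => i ≠ j ∧ T.a i j ≠ 0
      symm := ⟨fun i j h => ⟨h.1.symm, by rw [hsymm j i]; exact h.2⟩⟩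
      loopless := ⟨fun i h => h.1 rfl⟩ }
  have : Nonempty (Fin n) := ⟨⟨0, T.pos⟩⟩
  have hpre : G.Preconnected := by
    intro u w
    let I : Finset (Fin n) := Finset.univ.filter fun i => G.Reachable u i
    have hI : I.Nonempty := ⟨u, by simp [I]⟩
    have hIu : I = Finset.univ := by
      by_contra hne
      obtain ⟨i, hi, j, hj, hij⟩ := T.connected I hI hne
      have hi' : G.Reachable u i := by simpa [I] using hi
      have hne' : i ≠ j := by
        rintro rfl
        exact hj hi
      have hadj : G.Adj i j := ⟨hne', hij⟩
      exact hj (by simpa [I] using hi'.trans hadj.reachable)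
    have : w ∈ I := by rw [hIu]; exact Finset.mem_univ w
    simpa [I] using this
  have hconn : G.Connected := ⟨hpre⟩
  have h1 := hconn.card_vert_le_card_edgeSet_add_one
  rw [Nat.card_eq_fintype_card, Fintype.card_fin] at h1
  -- compare the edge set with the edge count
  let F : Finset (Fin n × Fin n) :=
    Finset.univ.filter fun p : Fin n × Fin n => p.1 < p.2 ∧ 0 < T.a p.1 p.2
  have h2 : Nat.card G.edgeSet ≤ F.card := by
    let f : {p // p ∈ F} → G.edgeSet := fun p =>
      ⟨s(p.1.1, p.1.2), by
        have hp := p.2
        simp only [F, Finset.mem_filter, Finset.mem_univ, true_and] at hp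
        rw [SimpleGraph.mem_edgeSet]
        exact ⟨hp.1.ne, hp.2.ne'⟩⟩
    have hf : Function.Surjective f := by
      rintro ⟨e, he⟩
      induction e using Sym2.inductionOn with
      | hf i j =>
        rw [SimpleGraph.mem_edgeSet] at he
        have hpos : 0 < T.a i j := lt_of_le_of_ne (T.offDiag_nonneg i j he.1) (Ne.symm he.2)
        rcases lt_or_gt_of_ne he.1 with hlt | hgt
        · refine ⟨⟨(i, j), ?_⟩, ?_⟩
          · simp only [F, Finset.mem_filter, Finset.mem_univ, true_and]
            exact ⟨hlt, hpos⟩
          · rfl
        · refine ⟨⟨(j, i), ?_⟩, ?_⟩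
          · simp only [F, Finset.mem_filter, Finset.mem_univ, true_and]
            exact ⟨hgt, by rw [hsymm j i]; exact hpos⟩
          · apply Subtype.ext
            exact Sym2.eq_swap
    have := Nat.card_le_card_of_surjective f hf
    rwa [Nat.card_eq_finsetCard] at this
  have h3 : T.edgeCount = F.card := rfl
  unfold Models.NumericalType.topGenus
  rw [h3]
  have : (n : ℤ) ≤ (F.card : ℤ) + 1 := by exact_mod_cast h1.trans (by omega)
  linarith

end Groth.Agent.S7318
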