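import Groth.Statements.S7341
import Groth.Agent.H2.NumType
open Groth.Agent.H2

set_option autoImplicit false
open Finset
open Models Models.NumericalType

namespace Groth.Agent.S7341

/-- Classification of proper subgraphs which are chains of three vertices: let T be a numerical type on
n > 3 indices and i, j, k distinct (-2)-indices with a_ij > 0 and a_jk > 0. Then a_ik = 0 and, up to
reversing the order of i, j, k, one of the following holds for some integer w: (A3) w_i = w_j = w_k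
= w, a_ij = a_jk = w, with 2 m_i ≥ m_j, 2 m_j ≥ m_i + m_k, 2 m_k ≥ m_j; (C3) w_i = w_j = w, w_k =
2w, a_ij = w, a_jk = 2w, with 2 m_i ≥ m_j, 2 m_j ≥ m_i + 2 m_k, 2 m_k ≥ m_j; (B3) w_i = w_j = 2w,
w_k = w, a_ij = a_jk = 2w, with 2 m_i ≥ m_j, 2 m_j ≥ m_i + m_k, m_k ≥ m_j. -/
theorem result {n : ℕ} (T : Models.NumericalType n) (hn : 3 < n) (i j k : Fin n)
    (hij : i ≠ j) (hjk : j ≠ k) (hik : i ≠ k) (hi : T.IsMinusTwo i) (hj : T.IsMinusTwo j) (hk : T.IsMinusTwo k)
    (h1 : 0 < T.a i j) (h2 : 0 < T.a j k) :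
    T.a i k = 0 ∧ ∃ (i' k' : Fin n) (w : ℤ), ((i' = i ∧ k' = k) ∨ (i' = k ∧ k' = i)) ∧
      ((T.w i' = w ∧ T.w j = w ∧ T.w k' = w ∧ T.a i' j = w ∧ T.a j k' = w ∧
          T.m j ≤ 2 * T.m i' ∧ T.m i' + T.m k' ≤ 2 * T.m j ∧ T.m j ≤ 2 * T.m k') ∨
        (T.w i' = w ∧ T.w j = w ∧ T.w k' = 2 * w ∧ T.a i' j = w ∧ T.a j k' = 2 * w ∧
          T.m j ≤ 2 * T.m i' ∧ T.m i' + 2 * T.m k' ≤ 2 * T.m j ∧ T.m j ≤ 2 * T.m k') ∨
        (T.w i' = 2 * w ∧ T.w j = 2 * w ∧ T.w k' = w ∧ T.a i' j = 2 * w ∧ T.a j k' = 2 * w ∧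
          T.m j ≤ 2 * T.m i' ∧ T.m i' + T.m k' ≤ 2 * T.m j ∧ T.m j ≤ T.m k')) := by
  classical
  let f : Fin 3 → Fin n := ![i, j, k]
  have hf : Function.Injective f := by
    intro a b hab
    fin_cases a <;> fin_cases b <;> simp_all [f]
  let v : Fin 3 ↪ Fin n := ⟨f, hf⟩
  have hv0 : v 0 = i := rfl
  have hv1 : v 1 = j := rfl
  have hv2 : v 2 = k := rfl
  have hs : ∀ p q, T.a p q = T.a q p := fun p q => (T.symm.apply _ _).symm
  have hwi := T.w_pos i
  have hwj := T.w_pos j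
  have hwk := T.w_pos k
  have hC : 0 ≤ T.a i k := T.offDiag_nonneg i k hik
  obtain ⟨p1, hp1⟩ := T.w_dvd i j
  obtain ⟨q1, hq1⟩ := T.w_dvd j i
  obtain ⟨p2, hp2⟩ := T.w_dvd j k
  obtain ⟨q2, hq2⟩ := T.w_dvd k j
  obtain ⟨ci, hci⟩ := T.w_dvd i k
  obtain ⟨ck, hck⟩ := T.w_dvd k i
  rw [hs j i] at hq1
  rw [hs k j] at hq2
  rw [hs k i] at hck
  have pos_of : ∀ a b : ℤ, 0 < a → 0 < a * b → 1 ≤ b := by
    intro a b ha hab
    by_contra hb
    push Not at hb
    have : b ≤ 0 := by omega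
    nlinarith
  have hp1' : 1 ≤ p1 := pos_of _ _ hwi (hp1 ▸ h1)
  have hq1' : 1 ≤ q1 := pos_of _ _ hwj (hq1 ▸ h1)
  have hp2' : 1 ≤ p2 := pos_of _ _ hwj (hp2 ▸ h2)
  have hq2' : 1 ≤ q2 := pos_of _ _ hwk (hq2 ▸ h2)
  have key := quad_neg_emb T v (by omega) ![p1, 2, q2] (by intro h; have := congrFun h 1; simp at this)
  simp [Fin.sum_univ_succ] at key
  rw [hv0, hv1, hv2, hs j i, hs k i, hs k j, hi.2, hj.2, hk.2] at key
  have key1 := quad_neg_emb T v (by omega) ![1, 1, 1] (by intro h; have := congrFun h 1; simp at this)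
  simp [Fin.sum_univ_succ] at key1
  rw [hv0, hv1, hv2, hs j i, hs k i, hs k j, hi.2, hj.2, hk.2] at key1
  have ri := row_le T i {j} (by simp only [Finset.mem_singleton]; exact hij)
  have rj := row_le T j {i, k} (by
    simp only [Finset.mem_insert, Finset.mem_singleton, not_or]; exact ⟨hij.symm, hjk⟩)
  have rk := row_le T k {j} (by simp only [Finset.mem_singleton]; exact hjk.symm)
  rw [Finset.sum_singleton, hi.2] at ri
  rw [Finset.sum_insert (by simp only [Finset.mem_singleton]; exact hik), Finset.sum_singleton,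
    hj.2, hs j i] at rj
  rw [Finset.sum_singleton, hk.2, hs k j] at rk
  set A := T.a i j with hA
  set B := T.a j k with hB
  set C := T.a i k with hCdef
  set wi := T.w i with hwidef
  set wj := T.w j with hwjdef
  set wk := T.w k with hwkdef
  have e1 : wi * p1 * p1 = A * p1 := by rw [hp1]
  have e2 : wk * q2 * q2 = B * q2 := by rw [hq2]
  have f1 : A * p1 = wj * (p1 * q1) := by rw [hq1]; ring
  have f2 : B * q2 = wj * (p2 * q2) := by rw [hp2]; ring
  have g : 0 ≤ C * p1 * q2 := by positivity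
  have hS0 : wj * (p1 * q1 + p2 * q2 - 4) + C * p1 * q2 < 0 := by nlinarith
  have hS : p1 * q1 + p2 * q2 < 4 := by
    by_contra hcon
    push Not at hcon
    nlinarith
  have k1 : 1 ≤ p1 * q1 := by nlinarith
  have k2 : 1 ≤ p2 * q2 := by nlinarith
  have b1 : p1 ≤ 2 := by nlinarith
  have b2 : q1 ≤ 2 := by nlinarith
  have b3 : p2 ≤ 2 := by nlinarith
  have b4 : q2 ≤ 2 := by nlinarith
  have zero_of : ∀ w c : ℤ, 0 < w → 0 ≤ w * c → w * c < w → w * c = 0 := by
    intro w c hw h1 h2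
    have hc0 : 0 ≤ c := by
      by_contra hc
      push Not at hc
      nlinarith
    have hc1 : c < 1 := by
      by_contra hc
      push Not at hc
      nlinarith
    have : c = 0 := by omega
    rw [this, mul_zero]
  have hcases : (p1 = 1 ∧ q1 = 1 ∧ p2 = 1 ∧ q2 = 1) ∨ (p1 = 1 ∧ q1 = 1 ∧ p2 = 2 ∧ q2 = 1) ∨
      (p1 = 1 ∧ q1 = 1 ∧ p2 = 1 ∧ q2 = 2) ∨ (p1 = 1 ∧ q1 = 2 ∧ p2 = 1 ∧ q2 = 1) ∨
      (p1 = 2 ∧ q1 = 1 ∧ p2 = 1 ∧ q2 = 1) := by
    interval_cases p1 <;> interval_cases q1 <;> interval_cases p2 <;> interval_cases q2 <;>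
      simp_all
  rcases hcases with ⟨rfl, rfl, rfl, rfl⟩ | ⟨rfl, rfl, rfl, rfl⟩ | ⟨rfl, rfl, rfl, rfl⟩ |
    ⟨rfl, rfl, rfl, rfl⟩ | ⟨rfl, rfl, rfl, rfl⟩
  · -- A3
    simp only [mul_one] at *
    have hwij : wi = wj := by rw [← hp1, hq1]
    have hwkj : wk = wj := by rw [← hq2, hp2]
    have hC0 : C = 0 := by
      rw [hci]
      apply zero_of wi ci hwi (hci ▸ hC)
      rw [← hci]; linarith
    rw [hq1, hwij] at ri
    rw [hq1, hp2] at rj
    rw [hp2, hwkj] at rk
    refine ⟨hC0, i, k, wj, Or.inl ⟨rfl, rfl⟩, Or.inl ⟨hwij, rfl, hwkj, hq1, hp2, ?_, ?_, ?_⟩⟩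
    · have : wj * T.m j ≤ wj * (2 * T.m i) := by linarith
      exact le_of_mul_le_mul_left this hwj
    · have : wj * (T.m i + T.m k) ≤ wj * (2 * T.m j) := by linarith
      exact le_of_mul_le_mul_left this hwj
    · have : wj * T.m j ≤ wj * (2 * T.m k) := by linarith
      exact le_of_mul_le_mul_left this hwj
  · -- C3 : B = 2 wj = wk
    simp only [mul_one] at *
    have hwij : wi = wj := by rw [← hp1, hq1]
    have hwkj : wk = 2 * wj := by rw [← hq2, hp2]; ring
    have hC0 : C = 0 := by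
      rw [hci]
      apply zero_of wi ci hwi (hci ▸ hC)
      rw [← hci]; linarith
    rw [hq1, hwij] at ri
    rw [hq1, hp2] at rj
    rw [hp2, hwkj] at rk
    refine ⟨hC0, i, k, wj, Or.inl ⟨rfl, rfl⟩, Or.inr (Or.inl ⟨hwij, rfl, hwkj, hq1, by show B = _; rw [hp2]; ring, ?_, ?_, ?_⟩)⟩
    · have : wj * T.m j ≤ wj * (2 * T.m i) := by linarith
      exact le_of_mul_le_mul_left this hwj
    · have : wj * (T.m i + 2 * T.m k) ≤ wj * (2 * T.m j) := by linarith
      exact le_of_mul_le_mul_left this hwj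
    · have : wj * T.m j ≤ wj * (2 * T.m k) := by linarith
      exact le_of_mul_le_mul_left this hwj
  · -- B3 : B = wj = 2 wk
    simp only [mul_one] at *
    have hwij : wi = wj := by rw [← hp1, hq1]
    have hwjk : wj = 2 * wk := by rw [← hp2, hq2]; ring
    have hC0 : C = 0 := by
      rw [hck]
      apply zero_of wk ck hwk (hck ▸ hC)
      rw [← hck]; linarith
    refine ⟨hC0, i, k, wk, Or.inl ⟨rfl, rfl⟩, Or.inr (Or.inr ⟨by show wi = _; rw [hwij, hwjk], hwjk, rfl, by show A = _; rw [hq1, hwjk], by show B = _; rw [hp2, hwjk], ?_, ?_, ?_⟩)⟩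
    · rw [hq1, hwij, hwjk] at ri
      have : wk * T.m j ≤ wk * (2 * T.m i) := by linarith
      exact le_of_mul_le_mul_left this hwk
    · rw [hq1, hp2, hwjk] at rj
      have : wk * (T.m i + T.m k) ≤ wk * (2 * T.m j) := by linarith
      exact le_of_mul_le_mul_left this hwk
    · rw [hp2, hwjk] at rk
      have : wk * T.m j ≤ wk * (T.m k) := by linarith
      exact le_of_mul_le_mul_left this hwk
  · -- reversed C3 : A = wi = 2 wj
    simp only [mul_one] at *
    have hwij : wi = 2 * wj := by rw [← hp1, hq1]; ring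
    have hwkj : wk = wj := by rw [← hq2, hp2]
    have hC0 : C = 0 := by
      rw [hck]
      apply zero_of wk ck hwk (hck ▸ hC)
      rw [← hck]; linarith
    refine ⟨hC0, k, i, wj, Or.inr ⟨rfl, rfl⟩, Or.inr (Or.inl ⟨hwkj, rfl, hwij, by rw [hs k j]; show B = _; rw [hp2], by rw [hs j i]; show A = _; rw [hq1]; ring, ?_, ?_, ?_⟩)⟩
    · rw [hp2, hwkj] at rk
      have : wj * T.m j ≤ wj * (2 * T.m k) := by linarith
      exact le_of_mul_le_mul_left this hwj
    · rw [hq1, hp2] at rj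
      have : wj * (T.m k + 2 * T.m i) ≤ wj * (2 * T.m j) := by linarith
      exact le_of_mul_le_mul_left this hwj
    · rw [hq1, hwij] at ri
      have : wj * T.m j ≤ wj * (2 * T.m i) := by linarith
      exact le_of_mul_le_mul_left this hwj
  · -- reversed B3 : A = 2 wi = wj
    simp only [mul_one] at *
    have hwji : wj = 2 * wi := by rw [← hq1, hp1]; ring
    have hwkj : wk = wj := by rw [← hq2, hp2]
    have hC0 : C = 0 := by
      rw [hci]
      apply zero_of wi ci hwi (hci ▸ hC)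
      rw [← hci]; linarith
    refine ⟨hC0, k, i, wi, Or.inr ⟨rfl, rfl⟩, Or.inr (Or.inr ⟨by show wk = _; rw [hwkj, hwji], hwji, rfl, by rw [hs k j]; show B = _; rw [hp2, hwji], by rw [hs j i]; show A = _; rw [hq1, hwji], ?_, ?_, ?_⟩)⟩
    · rw [hp2, hwkj, hwji] at rk
      have : wi * T.m j ≤ wi * (2 * T.m k) := by linarith
      exact le_of_mul_le_mul_left this hwi
    · rw [hq1, hp2, hwji] at rj
      have : wi * (T.m k + T.m i) ≤ wi * (2 * T.m j) := by linarith
      exact le_of_mul_le_mul_left this hwi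
    · rw [hq1, hwji] at ri
      have : wi * T.m j ≤ wi * (T.m i) := by linarith
      exact le_of_mul_le_mul_left this hwi

end Groth.Agent.S7341
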