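import Groth.Statements.S7342
import Groth.Agent.H2.NumType3
open Groth.Agent.H2

set_option autoImplicit false
open Finset
open Models Models.NumericalType

namespace Groth.Agent.S7342

/-- Let T be a numerical type on n indices, t ≥ 4 and n > t + 2. Then no t + 2 (-2)-indices of T,
pairwise distinct and numbered i_0, …, i_{t+1}, satisfy: a_{i_j i_{j+1}} > 0 for 1 ≤ j ≤ t - 1,
a_{i_0 i_2} > 0 and a_{i_{t-1} i_{t+1}} > 0. -/
theorem result {n : ℕ} (T : Models.NumericalType n) (t : ℕ) (ht : 4 ≤ t) (hn : t + 2 < n)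
    (v : Fin (t + 2) ↪ Fin n) (hv : ∀ j, T.IsMinusTwo (v j))
    (hchain : ∀ j j' : Fin (t + 2), 1 ≤ j.val → j.val + 1 ≤ t → j'.val = j.val + 1 → 0 < T.a (v j) (v j'))
    (h02 : ∀ j j' : Fin (t + 2), j.val = 0 → j'.val = 2 → 0 < T.a (v j) (v j'))
    (hlast : ∀ j j' : Fin (t + 2), j.val = t - 1 → j'.val = t + 1 → 0 < T.a (v j) (v j')) : False := by
  classical
  have hs : ∀ p q, T.a (v p) (v q) = T.a (v q) (v p) := fun p q => (T.symm.apply _ _).symm
  let δ : Fin (t + 2) → ℤ := fun j =>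
    if j.val = 0 ∨ j.val = 1 ∨ j.val = t ∨ j.val = t + 1 then 1 else 2
  have hδv : ∀ (a : ℕ) (ha : a < t + 2),
      δ ⟨a, ha⟩ = if a = 0 ∨ a = 1 ∨ a = t ∨ a = t + 1 then 1 else 2 := fun a ha => rfl
  have hδpos : ∀ j, 0 < δ j := by
    rintro ⟨a, ha⟩
    rw [hδv]
    split_ifs <;> norm_num
  have hδone : ∀ (a : ℕ) (ha : a < t + 2), (a = 0 ∨ a = 1 ∨ a = t ∨ a = t + 1) → δ ⟨a, ha⟩ = 1 := by
    intro a ha h
    rw [hδv, if_pos h]
  have hδtwo : ∀ (a : ℕ) (ha : a < t + 2), ¬ (a = 0 ∨ a = 1 ∨ a = t ∨ a = t + 1) → δ ⟨a, ha⟩ = 2 := by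
    intro a ha h
    rw [hδv, if_neg h]
  -- adjacency facts
  have adj_chain : ∀ (a b : ℕ) (ha : a < t + 2) (hb : b < t + 2), 1 ≤ a → a + 1 ≤ t → b = a + 1 →
      T.a (v ⟨a, ha⟩) (v ⟨b, hb⟩) ≠ 0 ∧ T.a (v ⟨b, hb⟩) (v ⟨a, ha⟩) ≠ 0 := by
    intro a b ha hb h1 h2 h3
    have := hchain ⟨a, ha⟩ ⟨b, hb⟩ h1 h2 h3
    exact ⟨this.ne', by rw [hs]; exact this.ne'⟩
  have adj02 : T.a (v ⟨0, by omega⟩) (v ⟨2, by omega⟩) ≠ 0 ∧
      T.a (v ⟨2, by omega⟩) (v ⟨0, by omega⟩) ≠ 0 := by
    have := h02 ⟨0, by omega⟩ ⟨2, by omega⟩ rfl rfl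
    exact ⟨this.ne', by rw [hs]; exact this.ne'⟩
  have adjlast : ∀ (a : ℕ) (ha : a < t + 2), a = t - 1 →
      T.a (v ⟨a, ha⟩) (v ⟨t + 1, by omega⟩) ≠ 0 ∧
      T.a (v ⟨t + 1, by omega⟩) (v ⟨a, ha⟩) ≠ 0 := by
    intro a ha hat
    have := hlast ⟨a, ha⟩ ⟨t + 1, by omega⟩ hat rfl
    exact ⟨this.ne', by rw [hs]; exact this.ne'⟩
  apply affine_excl T v hn (by omega) δ hδpos
  intro i
  obtain ⟨iv, hiv⟩ := i
  have hδnn : ∀ j, 0 ≤ δ j := fun j => (hδpos j).le
  by_cases c0 : iv = 0
  · subst c0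
    apply row_nonneg T v δ hδnn _ (hv _) {⟨2, by omega⟩}
    · simp only [Finset.mem_singleton, Fin.mk.injEq]; omega
    · intro j hj
      rw [Finset.mem_singleton] at hj
      subst hj
      exact adj02.1
    · rw [Finset.sum_singleton]
      rw [hδone 0 _ (by omega), hδtwo 2 _ (by omega)]
      norm_num
  by_cases c1 : iv = 1
  · subst c1
    apply row_nonneg T v δ hδnn _ (hv _) {⟨2, by omega⟩}
    · simp only [Finset.mem_singleton, Fin.mk.injEq]; omega
    · intro j hj
      rw [Finset.mem_singleton] at hj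
      subst hj
      exact (adj_chain 1 2 (by omega) (by omega) (by omega) (by omega) rfl).1
    · rw [Finset.sum_singleton]
      rw [hδone 1 _ (by omega), hδtwo 2 _ (by omega)]
      norm_num
  by_cases c2 : iv = 2
  · subst c2
    apply row_nonneg T v δ hδnn _ (hv _) {⟨0, by omega⟩, ⟨1, by omega⟩, ⟨3, by omega⟩}
    · simp only [Finset.mem_insert, Finset.mem_singleton, Fin.mk.injEq]; omega
    · intro j hj
      simp only [Finset.mem_insert, Finset.mem_singleton] at hj
      rcases hj with rfl | rfl | rfl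
      · exact adj02.2
      · exact (adj_chain 1 2 (by omega) (by omega) (by omega) (by omega) rfl).2
      · exact (adj_chain 2 3 (by omega) (by omega) (by omega) (by omega) rfl).1
    · rw [Finset.sum_insert (by simp only [Finset.mem_insert, Finset.mem_singleton, Fin.mk.injEq]; omega),
        Finset.sum_insert (by simp only [Finset.mem_singleton, Fin.mk.injEq]; omega),
        Finset.sum_singleton]
      rw [hδtwo 2 _ (by omega), hδone 0 _ (by omega), hδone 1 _ (by omega), hδtwo 3 _ (by omega)]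
      norm_num
  by_cases ct1 : iv = t + 1
  · subst ct1
    apply row_nonneg T v δ hδnn _ (hv _) {⟨t - 1, by omega⟩}
    · simp only [Finset.mem_singleton, Fin.mk.injEq]; omega
    · intro j hj
      rw [Finset.mem_singleton] at hj
      subst hj
      exact (adjlast (t - 1) (by omega) rfl).2
    · rw [Finset.sum_singleton]
      rw [hδone (t + 1) _ (by omega), hδtwo (t - 1) _ (by omega)]
      norm_num
  by_cases ct : iv = t
  · subst ct
    apply row_nonneg T v δ hδnn _ (hv _) {⟨iv - 1, by omega⟩}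
    · simp only [Finset.mem_singleton, Fin.mk.injEq]; omega
    · intro j hj
      rw [Finset.mem_singleton] at hj
      subst hj
      exact (adj_chain (iv - 1) iv (by omega) (by omega) (by omega) (by omega) (by omega)).2
    · rw [Finset.sum_singleton]
      rw [hδone iv _ (by omega), hδtwo (iv - 1) _ (by omega)]
      norm_num
  by_cases ctm : iv = t - 1
  · apply row_nonneg T v δ hδnn _ (hv _) {⟨t - 2, by omega⟩, ⟨t, by omega⟩, ⟨t + 1, by omega⟩}
    · simp only [Finset.mem_insert, Finset.mem_singleton, Fin.mk.injEq]; omega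
    · intro j hj
      simp only [Finset.mem_insert, Finset.mem_singleton] at hj
      rcases hj with rfl | rfl | rfl
      · exact (adj_chain (t - 2) iv (by omega) hiv (by omega) (by omega) (by omega)).2
      · exact (adj_chain iv t hiv (by omega) (by omega) (by omega) (by omega)).1
      · exact (adjlast iv hiv ctm).1
    · rw [Finset.sum_insert (by simp only [Finset.mem_insert, Finset.mem_singleton, Fin.mk.injEq]; omega),
        Finset.sum_insert (by simp only [Finset.mem_singleton, Fin.mk.injEq]; omega),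
        Finset.sum_singleton]
      rw [hδtwo iv _ (by omega), hδtwo (t - 2) _ (by omega), hδone t _ (by omega), hδone (t + 1) _ (by omega)]
      norm_num
  -- middle vertices
  have hlo : 3 ≤ iv := by omega
  have hhi : iv ≤ t - 2 := by omega
  apply row_nonneg T v δ hδnn _ (hv _) {⟨iv - 1, by omega⟩, ⟨iv + 1, by omega⟩}
  · simp only [Finset.mem_insert, Finset.mem_singleton, Fin.mk.injEq]; omega
  · intro j hj
    simp only [Finset.mem_insert, Finset.mem_singleton] at hj
    rcases hj with rfl | rfl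
    · exact (adj_chain (iv - 1) iv (by omega) hiv (by omega) (by omega) (by omega)).2
    · exact (adj_chain iv (iv + 1) hiv (by omega) (by omega) (by omega) rfl).1
  · rw [Finset.sum_insert (by simp only [Finset.mem_singleton, Fin.mk.injEq]; omega),
      Finset.sum_singleton]
    rw [hδtwo iv _ (by omega), hδtwo (iv - 1) _ (by omega), hδtwo (iv + 1) _ (by omega)]
    norm_num

end Groth.Agent.S7342
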