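import Groth.Statements.S7347
import Groth.Agent.H2.NumType2
import Groth.Agent.S7346
open Groth.Agent.H2

set_option autoImplicit false
open Finset
open Models Models.NumericalType

namespace Groth.Agent.S7347

/-- Classification of proper subgraphs of type D5 (a chain i_1 i_2 i_3 with i_4 and i_5 both joined to
i_3): let T be a numerical type on n > 5 indices and i_1, …, i_5 distinct (-2)-indices with a_{12},
a_{23}, a_{34}, a_{35} nonzero. Then for some integer w all w_{i_j} equal w, these intersection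
numbers equal w, all other a_{i_j i_k} (j ≠ k) vanish, and 2 m_1 ≥ m_2, 2 m_2 ≥ m_1 + m_3, 2 m_3 ≥
m_2 + m_4 + m_5, 2 m_4 ≥ m_3, 2 m_5 ≥ m_3. -/
theorem result {n : ℕ} (T : Models.NumericalType n) (hn : 5 < n)
    (v : Fin 5 ↪ Fin n) (hv : ∀ j, T.IsMinusTwo (v j)) (h01 : T.a (v 0) (v 1) ≠ 0) (h12 : T.a (v 1) (v 2) ≠ 0) (h23 : T.a (v 2) (v 3) ≠ 0) (h24 : T.a (v 2) (v 4) ≠ 0) :
    ∃ w : ℤ, (∀ j : Fin 5, T.w (v j) = w) ∧
      T.a (v 0) (v 1) = w ∧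
      T.a (v 1) (v 2) = w ∧
      T.a (v 2) (v 3) = w ∧
      T.a (v 2) (v 4) = w ∧
      T.a (v 0) (v 2) = 0 ∧
      T.a (v 0) (v 3) = 0 ∧
      T.a (v 0) (v 4) = 0 ∧
      T.a (v 1) (v 3) = 0 ∧
      T.a (v 1) (v 4) = 0 ∧
      T.a (v 3) (v 4) = 0 ∧
      T.m (v 1) ≤ 2 * T.m (v 0) ∧
      T.m (v 0) + T.m (v 2) ≤ 2 * T.m (v 1) ∧
      T.m (v 1) + T.m (v 3) + T.m (v 4) ≤ 2 * T.m (v 2) ∧
      T.m (v 2) ≤ 2 * T.m (v 3) ∧
      T.m (v 2) ≤ 2 * T.m (v 4) := by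
  classical
  have hne : ∀ p q : Fin 5, p ≠ q → v p ≠ v q := fun p q h => v.injective.ne h
  have hs : ∀ p q, T.a (v p) (v q) = T.a (v q) (v p) := fun p q => (T.symm.apply _ _).symm
  have hd : ∀ p, T.a (v p) (v p) = -2 * T.w (v p) := fun p => (hv p).2
  have hnn : ∀ p q, p ≠ q → 0 ≤ T.a (v p) (v q) := fun p q h => T.offDiag_nonneg _ _ (hne p q h)
  let f : Fin 4 → Fin n := ![v 2, v 1, v 3, v 4]
  have hf : Function.Injective f := by
    intro a b hab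
    fin_cases a <;> fin_cases b <;> first | rfl | (exfalso; revert hab; simp [f])
  let u : Fin 4 ↪ Fin n := ⟨f, hf⟩
  obtain ⟨w, hwall, pe0_1, pe0_2, pe0_3, pz1_2, pz1_3, pz2_3, pm0, pm1, pm2, pm3⟩ := Groth.Agent.S7346.result T (by omega) u
    (by intro j; fin_cases j <;> [exact hv 2; exact hv 1; exact hv 3; exact hv 4])
    (show T.a (v 2) (v 1) ≠ 0 from (by rw [hs 2 1]; exact h12)) (show T.a (v 2) (v 3) ≠ 0 from h23) (show T.a (v 2) (v 4) ≠ 0 from h24)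
  have hw2 : T.w (v 2) = w := hwall 0
  have hw1 : T.w (v 1) = w := hwall 1
  have hw3 : T.w (v 3) = w := hwall 2
  have hw4 : T.w (v 4) = w := hwall 3
  have e2_1 : T.a (v 2) (v 1) = w := pe0_1
  have e1_2 : T.a (v 1) (v 2) = w := by rw [hs 1 2]; exact e2_1
  have e2_3 : T.a (v 2) (v 3) = w := pe0_2
  have e3_2 : T.a (v 3) (v 2) = w := by rw [hs 3 2]; exact e2_3
  have e2_4 : T.a (v 2) (v 4) = w := pe0_3
  have e4_2 : T.a (v 4) (v 2) = w := by rw [hs 4 2]; exact e2_4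
  have z1_3 : T.a (v 1) (v 3) = 0 := pz1_2
  have z3_1 : T.a (v 3) (v 1) = 0 := by rw [hs 3 1]; exact z1_3
  have z1_4 : T.a (v 1) (v 4) = 0 := pz1_3
  have z4_1 : T.a (v 4) (v 1) = 0 := by rw [hs 4 1]; exact z1_4
  have z3_4 : T.a (v 3) (v 4) = 0 := pz2_3
  have z4_3 : T.a (v 4) (v 3) = 0 := by rw [hs 4 3]; exact z3_4
  have hwpos : 0 < w := by rw [← hw1]; exact T.w_pos _
  have d2 : T.a (v 2) (v 2) = -2 * w := by rw [hd 2, hw2]
  have d1 : T.a (v 1) (v 1) = -2 * w := by rw [hd 1, hw1]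
  have d3 : T.a (v 3) (v 3) = -2 * w := by rw [hd 3, hw3]
  have d4 : T.a (v 4) (v 4) = -2 * w := by rw [hd 4, hw4]
  have dz : T.a (v 0) (v 0) = -2 * T.w (v 0) := hd 0
  have s1 : T.a (v 1) (v 0) = T.a (v 0) (v 1) := hs 1 0
  have s2 : T.a (v 2) (v 0) = T.a (v 0) (v 2) := hs 2 0
  have s3 : T.a (v 3) (v 0) = T.a (v 0) (v 3) := hs 3 0
  have s4 : T.a (v 4) (v 0) = T.a (v 0) (v 4) := hs 4 0
  obtain ⟨p, q, hp1, hq1, hp, hq⟩ := edge_pq T (v 0) (v 1) (hne 0 1 (by decide)) h01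
  rw [hw1] at hq
  have key := quad_neg_emb T v (by omega) ![p, 2, 2, 1, 1] (by intro h; have := congrFun h 1; simp at this)
  simp [Fin.sum_univ_succ] at key
  simp only [s1, s2, s3, s4] at key
  simp only [e2_1, e1_2, e2_3, e3_2, e2_4, e4_2, z1_3, z3_1, z1_4, z4_1, z3_4, z4_3, d2, d1, d3, d4, dz] at key
  have n2 : 0 ≤ T.a (v 0) (v 2) := hnn 0 2 (by decide)
  have n3 : 0 ≤ T.a (v 0) (v 3) := hnn 0 3 (by decide)
  have n4 : 0 ≤ T.a (v 0) (v 4) := hnn 0 4 (by decide)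
  set Azy := T.a (v 0) (v 1) with hAzy
  set wz := T.w (v 0) with hwz
  set N2 := T.a (v 0) (v 2) with hN2
  set N3 := T.a (v 0) (v 3) with hN3
  set N4 := T.a (v 0) (v 4) with hN4
  have e1 : wz * p * p = Azy * p := by rw [hp]
  have f1 : Azy * p = w * (p * q) := by rw [hq]; ring
  have g2 : 0 ≤ N2 * p := mul_nonneg_int _ _ n2 hp1
  have g3 : 0 ≤ N3 * p := mul_nonneg_int _ _ n3 hp1
  have g4 : 0 ≤ N4 * p := mul_nonneg_int _ _ n4 hp1
  have hS0 : w * (p * q - 2) + (2 * (N2 * p) + 1 * (N3 * p) + 1 * (N4 * p)) < 0 := by linarith [e1, f1]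
  have hS : p * q < 2 := lt_two_of w p q (2 * (N2 * p) + 1 * (N3 * p) + 1 * (N4 * p)) hwpos (by linarith [g2, g3, g4]) hS0
  obtain ⟨rfl, rfl⟩ := one_of_mul p q hp1 hq1 (by omega)
  simp only [mul_one] at hp hq e1 f1 hS0
  have hwzw : wz = w := by rw [← hp, hq]
  have hw0 : T.w (v 0) = w := hwzw
  have e0_1 : T.a (v 0) (v 1) = w := hq
  have e1_0 : T.a (v 1) (v 0) = w := by rw [hs 1 0]; exact hq
  have d0 : T.a (v 0) (v 0) = -2 * w := by rw [hd 0, hw0]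
  have z0_2 : T.a (v 0) (v 2) = 0 := entry_zero T _ _ (hne 0 2 (by decide)) w hw0 (by show N2 < w; linarith)
  have z2_0 : T.a (v 2) (v 0) = 0 := by rw [hs 2 0]; exact z0_2
  have z0_3 : T.a (v 0) (v 3) = 0 := entry_zero T _ _ (hne 0 3 (by decide)) w hw0 (by show N3 < w; linarith)
  have z3_0 : T.a (v 3) (v 0) = 0 := by rw [hs 3 0]; exact z0_3
  have z0_4 : T.a (v 0) (v 4) = 0 := entry_zero T _ _ (hne 0 4 (by decide)) w hw0 (by show N4 < w; linarith)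
  have z4_0 : T.a (v 4) (v 0) = 0 := by rw [hs 4 0]; exact z0_4
  refine ⟨w, ?_, e0_1, e1_2, e2_3, e2_4, z0_2, z0_3, z0_4, z1_3, z1_4, z3_4, ?_, ?_, ?_, ?_, ?_⟩
  · intro j
    fin_cases j <;> [exact hw0; exact hw1; exact hw2; exact hw3; exact hw4]
  · exact mult1 T w (v 0) (v 1) hwpos d0 (hne 0 1 (by decide)) e0_1
  · exact mult2 T w (v 1) (v 0) (v 2) hwpos d1 (hne 1 0 (by decide)) (hne 1 2 (by decide)) (hne 0 2 (by decide)) e1_0 e1_2
  · exact mult3 T w (v 2) (v 1) (v 3) (v 4) hwpos d2 (hne 2 1 (by decide)) (hne 2 3 (by decide)) (hne 2 4 (by decide)) (hne 1 3 (by decide)) (hne 1 4 (by decide)) (hne 3 4 (by decide)) e2_1 e2_3 e2_4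
  · exact mult1 T w (v 3) (v 2) hwpos d3 (hne 3 2 (by decide)) e3_2
  · exact mult1 T w (v 4) (v 2) hwpos d4 (hne 4 2 (by decide)) e4_2

end Groth.Agent.S7347
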