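import Groth.Statements.S7348
import Groth.Agent.H2.NumType2
import Groth.Agent.S7347
open Groth.Agent.H2

set_option autoImplicit false
open Finset
open Models Models.NumericalType

namespace Groth.Agent.S7348

/-- Classification of proper subgraphs of type E6 (a chain i_1 … i_5 with i_6 joined to i_3): let T be a
numerical type on n > 6 indices and i_1, …, i_6 distinct (-2)-indices with a_{12}, a_{23}, a_{34},
a_{45}, a_{36} nonzero. Then for some integer w all w_{i_j} equal w, these intersection numbers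
equal w, all other a_{i_j i_k} (j ≠ k) vanish, and 2 m_1 ≥ m_2, 2 m_2 ≥ m_1 + m_3, 2 m_3 ≥ m_2 + m_4
+ m_6, 2 m_4 ≥ m_3 + m_5, 2 m_5 ≥ m_4, 2 m_6 ≥ m_3. (The published list of inequalities has 2 m_5 ≥
m_3 where the intersection matrix gives 2 m_5 ≥ m_4; the former fails for the extended E8
configuration of multiplicities 4, 5, 6, 4, 2 with 3 attached to the third vertex, so 2 m_5 ≥ m_4 is
stated.) -/
theorem result {n : ℕ} (T : Models.NumericalType n) (hn : 6 < n)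
    (v : Fin 6 ↪ Fin n) (hv : ∀ j, T.IsMinusTwo (v j)) (h01 : T.a (v 0) (v 1) ≠ 0) (h12 : T.a (v 1) (v 2) ≠ 0) (h23 : T.a (v 2) (v 3) ≠ 0) (h34 : T.a (v 3) (v 4) ≠ 0) (h25 : T.a (v 2) (v 5) ≠ 0) :
    ∃ w : ℤ, (∀ j : Fin 6, T.w (v j) = w) ∧
      T.a (v 0) (v 1) = w ∧
      T.a (v 1) (v 2) = w ∧
      T.a (v 2) (v 3) = w ∧
      T.a (v 3) (v 4) = w ∧
      T.a (v 2) (v 5) = w ∧
      T.a (v 0) (v 2) = 0 ∧
      T.a (v 0) (v 3) = 0 ∧
      T.a (v 0) (v 4) = 0 ∧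
      T.a (v 0) (v 5) = 0 ∧
      T.a (v 1) (v 3) = 0 ∧
      T.a (v 1) (v 4) = 0 ∧
      T.a (v 1) (v 5) = 0 ∧
      T.a (v 2) (v 4) = 0 ∧
      T.a (v 3) (v 5) = 0 ∧
      T.a (v 4) (v 5) = 0 ∧
      T.m (v 1) ≤ 2 * T.m (v 0) ∧
      T.m (v 0) + T.m (v 2) ≤ 2 * T.m (v 1) ∧
      T.m (v 1) + T.m (v 3) + T.m (v 5) ≤ 2 * T.m (v 2) ∧
      T.m (v 2) + T.m (v 4) ≤ 2 * T.m (v 3) ∧
      T.m (v 3) ≤ 2 * T.m (v 4) ∧
      T.m (v 2) ≤ 2 * T.m (v 5) := by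
  classical
  have hne : ∀ p q : Fin 6, p ≠ q → v p ≠ v q := fun p q h => v.injective.ne h
  have hs : ∀ p q, T.a (v p) (v q) = T.a (v q) (v p) := fun p q => (T.symm.apply _ _).symm
  have hd : ∀ p, T.a (v p) (v p) = -2 * T.w (v p) := fun p => (hv p).2
  have hnn : ∀ p q, p ≠ q → 0 ≤ T.a (v p) (v q) := fun p q h => T.offDiag_nonneg _ _ (hne p q h)
  let f : Fin 5 → Fin n := ![v 0, v 1, v 2, v 3, v 5]
  have hf : Function.Injective f := by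
    intro a b hab
    fin_cases a <;> fin_cases b <;> first | rfl | (exfalso; revert hab; simp [f])
  let u : Fin 5 ↪ Fin n := ⟨f, hf⟩
  obtain ⟨w, hwall, pe0_1, pe1_2, pe2_3, pe2_4, pz0_2, pz0_3, pz0_4, pz1_3, pz1_4, pz3_4, pm0, pm1, pm2, pm3, pm4⟩ := Groth.Agent.S7347.result T (by omega) u
    (by intro j; fin_cases j <;> [exact hv 0; exact hv 1; exact hv 2; exact hv 3; exact hv 5])
    (show T.a (v 0) (v 1) ≠ 0 from h01) (show T.a (v 1) (v 2) ≠ 0 from h12) (show T.a (v 2) (v 3) ≠ 0 from h23) (show T.a (v 2) (v 5) ≠ 0 from h25)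
  have hw0 : T.w (v 0) = w := hwall 0
  have hw1 : T.w (v 1) = w := hwall 1
  have hw2 : T.w (v 2) = w := hwall 2
  have hw3 : T.w (v 3) = w := hwall 3
  have hw5 : T.w (v 5) = w := hwall 4
  have e0_1 : T.a (v 0) (v 1) = w := pe0_1
  have e1_0 : T.a (v 1) (v 0) = w := by rw [hs 1 0]; exact e0_1
  have e1_2 : T.a (v 1) (v 2) = w := pe1_2
  have e2_1 : T.a (v 2) (v 1) = w := by rw [hs 2 1]; exact e1_2
  have e2_3 : T.a (v 2) (v 3) = w := pe2_3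
  have e3_2 : T.a (v 3) (v 2) = w := by rw [hs 3 2]; exact e2_3
  have e2_5 : T.a (v 2) (v 5) = w := pe2_4
  have e5_2 : T.a (v 5) (v 2) = w := by rw [hs 5 2]; exact e2_5
  have z0_2 : T.a (v 0) (v 2) = 0 := pz0_2
  have z2_0 : T.a (v 2) (v 0) = 0 := by rw [hs 2 0]; exact z0_2
  have z0_3 : T.a (v 0) (v 3) = 0 := pz0_3
  have z3_0 : T.a (v 3) (v 0) = 0 := by rw [hs 3 0]; exact z0_3
  have z0_5 : T.a (v 0) (v 5) = 0 := pz0_4
  have z5_0 : T.a (v 5) (v 0) = 0 := by rw [hs 5 0]; exact z0_5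
  have z1_3 : T.a (v 1) (v 3) = 0 := pz1_3
  have z3_1 : T.a (v 3) (v 1) = 0 := by rw [hs 3 1]; exact z1_3
  have z1_5 : T.a (v 1) (v 5) = 0 := pz1_4
  have z5_1 : T.a (v 5) (v 1) = 0 := by rw [hs 5 1]; exact z1_5
  have z3_5 : T.a (v 3) (v 5) = 0 := pz3_4
  have z5_3 : T.a (v 5) (v 3) = 0 := by rw [hs 5 3]; exact z3_5
  have hwpos : 0 < w := by rw [← hw3]; exact T.w_pos _
  have d0 : T.a (v 0) (v 0) = -2 * w := by rw [hd 0, hw0]
  have d1 : T.a (v 1) (v 1) = -2 * w := by rw [hd 1, hw1]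
  have d2 : T.a (v 2) (v 2) = -2 * w := by rw [hd 2, hw2]
  have d3 : T.a (v 3) (v 3) = -2 * w := by rw [hd 3, hw3]
  have d5 : T.a (v 5) (v 5) = -2 * w := by rw [hd 5, hw5]
  have dz : T.a (v 4) (v 4) = -2 * T.w (v 4) := hd 4
  have s0 : T.a (v 0) (v 4) = T.a (v 4) (v 0) := hs 0 4
  have s1 : T.a (v 1) (v 4) = T.a (v 4) (v 1) := hs 1 4
  have s2 : T.a (v 2) (v 4) = T.a (v 4) (v 2) := hs 2 4
  have s3 : T.a (v 3) (v 4) = T.a (v 4) (v 3) := hs 3 4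
  have s5 : T.a (v 5) (v 4) = T.a (v 4) (v 5) := hs 5 4
  obtain ⟨p, q, hp1, hq1, hp, hq⟩ := edge_pq T (v 4) (v 3) (hne 4 3 (by decide)) (by rw [hs 4 3]; exact h34)
  rw [hw3] at hq
  have key := quad_neg_emb T v (by omega) ![0, 1, 2, 2, p, 1] (by intro h; have := congrFun h 1; simp at this)
  simp [Fin.sum_univ_succ] at key
  simp only [s0, s1, s2, s3, s5] at key
  simp only [e0_1, e1_0, e1_2, e2_1, e2_3, e3_2, e2_5, e5_2, z0_2, z2_0, z0_3, z3_0, z0_5, z5_0, z1_3, z3_1, z1_5, z5_1, z3_5, z5_3, d0, d1, d2, d3, d5, dz] at key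
  have n0 : 0 ≤ T.a (v 4) (v 0) := hnn 4 0 (by decide)
  have n1 : 0 ≤ T.a (v 4) (v 1) := hnn 4 1 (by decide)
  have n2 : 0 ≤ T.a (v 4) (v 2) := hnn 4 2 (by decide)
  have n5 : 0 ≤ T.a (v 4) (v 5) := hnn 4 5 (by decide)
  set Azy := T.a (v 4) (v 3) with hAzy
  set wz := T.w (v 4) with hwz
  set N0 := T.a (v 4) (v 0) with hN0
  set N1 := T.a (v 4) (v 1) with hN1
  set N2 := T.a (v 4) (v 2) with hN2
  set N5 := T.a (v 4) (v 5) with hN5
  have e1 : wz * p * p = Azy * p := by rw [hp]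
  have f1 : Azy * p = w * (p * q) := by rw [hq]; ring
  have g0 : 0 ≤ N0 * p := mul_nonneg_int _ _ n0 hp1
  have g1 : 0 ≤ N1 * p := mul_nonneg_int _ _ n1 hp1
  have g2 : 0 ≤ N2 * p := mul_nonneg_int _ _ n2 hp1
  have g5 : 0 ≤ N5 * p := mul_nonneg_int _ _ n5 hp1
  have hS0 : w * (p * q - 2) + (1 * (N1 * p) + 2 * (N2 * p) + 1 * (N5 * p)) < 0 := by linarith [e1, f1]
  have hS : p * q < 2 := lt_two_of w p q (1 * (N1 * p) + 2 * (N2 * p) + 1 * (N5 * p)) hwpos (by linarith [g1, g2, g5]) hS0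
  obtain ⟨rfl, rfl⟩ := one_of_mul p q hp1 hq1 (by omega)
  simp only [mul_one] at hp hq e1 f1 hS0
  have hwzw : wz = w := by rw [← hp, hq]
  have hw4 : T.w (v 4) = w := hwzw
  have e4_3 : T.a (v 4) (v 3) = w := hq
  have e3_4 : T.a (v 3) (v 4) = w := by rw [hs 3 4]; exact hq
  have d4 : T.a (v 4) (v 4) = -2 * w := by rw [hd 4, hw4]
  have z4_1 : T.a (v 4) (v 1) = 0 := entry_zero T _ _ (hne 4 1 (by decide)) w hw4 (by show N1 < w; linarith)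
  have z1_4 : T.a (v 1) (v 4) = 0 := by rw [hs 1 4]; exact z4_1
  have z4_2 : T.a (v 4) (v 2) = 0 := entry_zero T _ _ (hne 4 2 (by decide)) w hw4 (by show N2 < w; linarith)
  have z2_4 : T.a (v 2) (v 4) = 0 := by rw [hs 2 4]; exact z4_2
  have z4_5 : T.a (v 4) (v 5) = 0 := entry_zero T _ _ (hne 4 5 (by decide)) w hw4 (by show N5 < w; linarith)
  have z5_4 : T.a (v 5) (v 4) = 0 := by rw [hs 5 4]; exact z4_5
  have key0 := quad_neg_emb T v (by omega) ![1, 1, 1, 1, 1, 0] (by intro h; have := congrFun h 4; simp at this)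
  simp [Fin.sum_univ_succ] at key0
  simp only [s0, s1, s2, s3, s5] at key0
  simp only [e0_1, e1_0, e1_2, e2_1, e2_3, e3_2, e2_5, e5_2, z0_2, z2_0, z0_3, z3_0, z0_5, z5_0, z1_3, z3_1, z1_5, z5_1, z3_5, z5_3, d0, d1, d2, d3, d5, e4_3, e3_4, d4, z4_1, z1_4, z4_2, z2_4, z4_5, z5_4] at key0
  have z4_0 : T.a (v 4) (v 0) = 0 := entry_zero T _ _ (hne 4 0 (by decide)) w hw4 (by show N0 < w; linarith)
  have z0_4 : T.a (v 0) (v 4) = 0 := by rw [hs 0 4]; exact z4_0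
  refine ⟨w, ?_, e0_1, e1_2, e2_3, e3_4, e2_5, z0_2, z0_3, z0_4, z0_5, z1_3, z1_4, z1_5, z2_4, z3_5, z4_5, ?_, ?_, ?_, ?_, ?_, ?_⟩
  · intro j
    fin_cases j <;> [exact hw0; exact hw1; exact hw2; exact hw3; exact hw4; exact hw5]
  · exact mult1 T w (v 0) (v 1) hwpos d0 (hne 0 1 (by decide)) e0_1
  · exact mult2 T w (v 1) (v 0) (v 2) hwpos d1 (hne 1 0 (by decide)) (hne 1 2 (by decide)) (hne 0 2 (by decide)) e1_0 e1_2
  · exact mult3 T w (v 2) (v 1) (v 3) (v 5) hwpos d2 (hne 2 1 (by decide)) (hne 2 3 (by decide)) (hne 2 5 (by decide)) (hne 1 3 (by decide)) (hne 1 5 (by decide)) (hne 3 5 (by decide)) e2_1 e2_3 e2_5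
  · exact mult2 T w (v 3) (v 2) (v 4) hwpos d3 (hne 3 2 (by decide)) (hne 3 4 (by decide)) (hne 2 4 (by decide)) e3_2 e3_4
  · exact mult1 T w (v 4) (v 3) hwpos d4 (hne 4 3 (by decide)) e4_3
  · exact mult1 T w (v 5) (v 2) hwpos d5 (hne 5 2 (by decide)) e5_2

end Groth.Agent.S7348
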