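import Groth.Statements.S7343
import Groth.Agent.H2.NumType2
import Groth.Agent.S7348
open Groth.Agent.H2

set_option autoImplicit false
open Finset
open Models Models.NumericalType

namespace Groth.Agent.S7343

/-- Let T be a numerical type on n > 7 indices. Then no seven (-2)-indices of T, pairwise distinct and
named f, g, h, i, j, k, l, have a_fg, a_gh, a_ij, a_jh, a_kl and a_lh all nonzero (three chains of
length two attached to h). -/
theorem result {n : ℕ} (T : Models.NumericalType n) (hn : 7 < n)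
    (v : Fin 7 ↪ Fin n) (hv : ∀ j, T.IsMinusTwo (v j))
    (h01 : T.a (v 0) (v 1) ≠ 0) (h12 : T.a (v 1) (v 2) ≠ 0) (h34 : T.a (v 3) (v 4) ≠ 0)
    (h42 : T.a (v 4) (v 2) ≠ 0) (h56 : T.a (v 5) (v 6) ≠ 0) (h62 : T.a (v 6) (v 2) ≠ 0) : False := by
  classical
  have hne : ∀ p q : Fin 7, p ≠ q → v p ≠ v q := fun p q h => v.injective.ne h
  have hs : ∀ p q, T.a (v p) (v q) = T.a (v q) (v p) := fun p q => (T.symm.apply _ _).symm
  have hd : ∀ p, T.a (v p) (v p) = -2 * T.w (v p) := fun p => (hv p).2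
  have hnn : ∀ p q, p ≠ q → 0 ≤ T.a (v p) (v q) := fun p q h => T.offDiag_nonneg _ _ (hne p q h)
  let f : Fin 6 → Fin n := ![v 0, v 1, v 2, v 4, v 3, v 6]
  have hf : Function.Injective f := by
    intro a b hab
    fin_cases a <;> fin_cases b <;> first | rfl | (exfalso; revert hab; simp [f])
  let u : Fin 6 ↪ Fin n := ⟨f, hf⟩
  obtain ⟨w, hwall, pe0_1, pe1_2, pe2_3, pe3_4, pe2_5, pz0_2, pz0_3, pz0_4, pz0_5, pz1_3, pz1_4, pz1_5, pz2_4, pz3_5, pz4_5, pm0, pm1, pm2, pm3, pm4, pm5⟩ := Groth.Agent.S7348.result T (by omega) u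
    (by intro j; fin_cases j <;> [exact hv 0; exact hv 1; exact hv 2; exact hv 4; exact hv 3; exact hv 6])
    (show T.a (v 0) (v 1) ≠ 0 from h01) (show T.a (v 1) (v 2) ≠ 0 from h12) (show T.a (v 2) (v 4) ≠ 0 from (by rw [hs 2 4]; exact h42)) (show T.a (v 4) (v 3) ≠ 0 from (by rw [hs 4 3]; exact h34)) (show T.a (v 2) (v 6) ≠ 0 from (by rw [hs 2 6]; exact h62))
  have hw0 : T.w (v 0) = w := hwall 0
  have hw1 : T.w (v 1) = w := hwall 1
  have hw2 : T.w (v 2) = w := hwall 2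
  have hw4 : T.w (v 4) = w := hwall 3
  have hw3 : T.w (v 3) = w := hwall 4
  have hw6 : T.w (v 6) = w := hwall 5
  have e0_1 : T.a (v 0) (v 1) = w := pe0_1
  have e1_0 : T.a (v 1) (v 0) = w := by rw [hs 1 0]; exact e0_1
  have e1_2 : T.a (v 1) (v 2) = w := pe1_2
  have e2_1 : T.a (v 2) (v 1) = w := by rw [hs 2 1]; exact e1_2
  have e2_4 : T.a (v 2) (v 4) = w := pe2_3
  have e4_2 : T.a (v 4) (v 2) = w := by rw [hs 4 2]; exact e2_4
  have e4_3 : T.a (v 4) (v 3) = w := pe3_4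
  have e3_4 : T.a (v 3) (v 4) = w := by rw [hs 3 4]; exact e4_3
  have e2_6 : T.a (v 2) (v 6) = w := pe2_5
  have e6_2 : T.a (v 6) (v 2) = w := by rw [hs 6 2]; exact e2_6
  have z0_2 : T.a (v 0) (v 2) = 0 := pz0_2
  have z2_0 : T.a (v 2) (v 0) = 0 := by rw [hs 2 0]; exact z0_2
  have z0_4 : T.a (v 0) (v 4) = 0 := pz0_3
  have z4_0 : T.a (v 4) (v 0) = 0 := by rw [hs 4 0]; exact z0_4
  have z0_3 : T.a (v 0) (v 3) = 0 := pz0_4
  have z3_0 : T.a (v 3) (v 0) = 0 := by rw [hs 3 0]; exact z0_3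
  have z0_6 : T.a (v 0) (v 6) = 0 := pz0_5
  have z6_0 : T.a (v 6) (v 0) = 0 := by rw [hs 6 0]; exact z0_6
  have z1_4 : T.a (v 1) (v 4) = 0 := pz1_3
  have z4_1 : T.a (v 4) (v 1) = 0 := by rw [hs 4 1]; exact z1_4
  have z1_3 : T.a (v 1) (v 3) = 0 := pz1_4
  have z3_1 : T.a (v 3) (v 1) = 0 := by rw [hs 3 1]; exact z1_3
  have z1_6 : T.a (v 1) (v 6) = 0 := pz1_5
  have z6_1 : T.a (v 6) (v 1) = 0 := by rw [hs 6 1]; exact z1_6
  have z2_3 : T.a (v 2) (v 3) = 0 := pz2_4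
  have z3_2 : T.a (v 3) (v 2) = 0 := by rw [hs 3 2]; exact z2_3
  have z4_6 : T.a (v 4) (v 6) = 0 := pz3_5
  have z6_4 : T.a (v 6) (v 4) = 0 := by rw [hs 6 4]; exact z4_6
  have z3_6 : T.a (v 3) (v 6) = 0 := pz4_5
  have z6_3 : T.a (v 6) (v 3) = 0 := by rw [hs 6 3]; exact z3_6
  have hwpos : 0 < w := by rw [← hw6]; exact T.w_pos _
  have d0 : T.a (v 0) (v 0) = -2 * w := by rw [hd 0, hw0]
  have d1 : T.a (v 1) (v 1) = -2 * w := by rw [hd 1, hw1]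
  have d2 : T.a (v 2) (v 2) = -2 * w := by rw [hd 2, hw2]
  have d4 : T.a (v 4) (v 4) = -2 * w := by rw [hd 4, hw4]
  have d3 : T.a (v 3) (v 3) = -2 * w := by rw [hd 3, hw3]
  have d6 : T.a (v 6) (v 6) = -2 * w := by rw [hd 6, hw6]
  have dz : T.a (v 5) (v 5) = -2 * T.w (v 5) := hd 5
  have s0 : T.a (v 0) (v 5) = T.a (v 5) (v 0) := hs 0 5
  have s1 : T.a (v 1) (v 5) = T.a (v 5) (v 1) := hs 1 5
  have s2 : T.a (v 2) (v 5) = T.a (v 5) (v 2) := hs 2 5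
  have s3 : T.a (v 3) (v 5) = T.a (v 5) (v 3) := hs 3 5
  have s4 : T.a (v 4) (v 5) = T.a (v 5) (v 4) := hs 4 5
  have s6 : T.a (v 6) (v 5) = T.a (v 5) (v 6) := hs 6 5
  obtain ⟨p, q, hp1, hq1, hp, hq⟩ := edge_pq T (v 5) (v 6) (hne 5 6 (by decide)) h56
  rw [hw6] at hq
  have key := quad_neg_emb T v (by omega) ![1, 2, 3, 1, 2, p, 2] (by intro h; have := congrFun h 0; simp at this)
  simp [Fin.sum_univ_succ] at key
  simp only [s0, s1, s2, s3, s4, s6] at key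
  simp only [e0_1, e1_0, e1_2, e2_1, e2_4, e4_2, e4_3, e3_4, e2_6, e6_2, z0_2, z2_0, z0_4, z4_0, z0_3, z3_0, z0_6, z6_0, z1_4, z4_1, z1_3, z3_1, z1_6, z6_1, z2_3, z3_2, z4_6, z6_4, z3_6, z6_3, d0, d1, d2, d4, d3, d6, dz] at key
  have n0 : 0 ≤ T.a (v 5) (v 0) := hnn 5 0 (by decide)
  have n1 : 0 ≤ T.a (v 5) (v 1) := hnn 5 1 (by decide)
  have n2 : 0 ≤ T.a (v 5) (v 2) := hnn 5 2 (by decide)
  have n3 : 0 ≤ T.a (v 5) (v 3) := hnn 5 3 (by decide)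
  have n4 : 0 ≤ T.a (v 5) (v 4) := hnn 5 4 (by decide)
  set Azy := T.a (v 5) (v 6) with hAzy
  set wz := T.w (v 5) with hwz
  set N0 := T.a (v 5) (v 0) with hN0
  set N1 := T.a (v 5) (v 1) with hN1
  set N2 := T.a (v 5) (v 2) with hN2
  set N3 := T.a (v 5) (v 3) with hN3
  set N4 := T.a (v 5) (v 4) with hN4
  have e1 : wz * p * p = Azy * p := by rw [hp]
  have f1 : Azy * p = w * (p * q) := by rw [hq]; ring
  have g0 : 0 ≤ N0 * p := mul_nonneg_int _ _ n0 hp1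
  have g1 : 0 ≤ N1 * p := mul_nonneg_int _ _ n1 hp1
  have g2 : 0 ≤ N2 * p := mul_nonneg_int _ _ n2 hp1
  have g3 : 0 ≤ N3 * p := mul_nonneg_int _ _ n3 hp1
  have g4 : 0 ≤ N4 * p := mul_nonneg_int _ _ n4 hp1
  have hwpq : 0 ≤ w * (p * q - 1) := nonneg_w_mul w p q hwpos hp1 hq1
  linarith [e1, f1, hwpq, g0, g1, g2, g3, g4]

end Groth.Agent.S7343
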