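import Groth.Statements.S7349
import Groth.Agent.H2.NumType2
import Groth.Agent.S7348
open Groth.Agent.H2

set_option autoImplicit false
open Finset
open Models Models.NumericalType

namespace Groth.Agent.S7349

/-- Classification of proper subgraphs of type E7 (a chain i_1 … i_6 with i_7 joined to i_4): let T be a
numerical type on n > 7 indices and i_1, …, i_7 distinct (-2)-indices with a_{12}, a_{23}, a_{34},
a_{45}, a_{56}, a_{47} nonzero. Then for some integer w all w_{i_j} equal w, these intersection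
numbers equal w, all other a_{i_j i_k} (j ≠ k) vanish, and 2 m_1 ≥ m_2, 2 m_2 ≥ m_1 + m_3, 2 m_3 ≥
m_2 + m_4, 2 m_4 ≥ m_3 + m_5 + m_7, 2 m_5 ≥ m_4 + m_6, 2 m_6 ≥ m_5, 2 m_7 ≥ m_4. -/
theorem result {n : ℕ} (T : Models.NumericalType n) (hn : 7 < n)
    (v : Fin 7 ↪ Fin n) (hv : ∀ j, T.IsMinusTwo (v j)) (h01 : T.a (v 0) (v 1) ≠ 0) (h12 : T.a (v 1) (v 2) ≠ 0) (h23 : T.a (v 2) (v 3) ≠ 0) (h34 : T.a (v 3) (v 4) ≠ 0) (h45 : T.a (v 4) (v 5) ≠ 0) (h36 : T.a (v 3) (v 6) ≠ 0) :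
    ∃ w : ℤ, (∀ j : Fin 7, T.w (v j) = w) ∧
      T.a (v 0) (v 1) = w ∧
      T.a (v 1) (v 2) = w ∧
      T.a (v 2) (v 3) = w ∧
      T.a (v 3) (v 4) = w ∧
      T.a (v 4) (v 5) = w ∧
      T.a (v 3) (v 6) = w ∧
      T.a (v 0) (v 2) = 0 ∧
      T.a (v 0) (v 3) = 0 ∧
      T.a (v 0) (v 4) = 0 ∧
      T.a (v 0) (v 5) = 0 ∧
      T.a (v 0) (v 6) = 0 ∧
      T.a (v 1) (v 3) = 0 ∧
      T.a (v 1) (v 4) = 0 ∧
      T.a (v 1) (v 5) = 0 ∧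
      T.a (v 1) (v 6) = 0 ∧
      T.a (v 2) (v 4) = 0 ∧
      T.a (v 2) (v 5) = 0 ∧
      T.a (v 2) (v 6) = 0 ∧
      T.a (v 3) (v 5) = 0 ∧
      T.a (v 4) (v 6) = 0 ∧
      T.a (v 5) (v 6) = 0 ∧
      T.m (v 1) ≤ 2 * T.m (v 0) ∧
      T.m (v 0) + T.m (v 2) ≤ 2 * T.m (v 1) ∧
      T.m (v 1) + T.m (v 3) ≤ 2 * T.m (v 2) ∧
      T.m (v 2) + T.m (v 4) + T.m (v 6) ≤ 2 * T.m (v 3) ∧
      T.m (v 3) + T.m (v 5) ≤ 2 * T.m (v 4) ∧
      T.m (v 4) ≤ 2 * T.m (v 5) ∧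
      T.m (v 3) ≤ 2 * T.m (v 6) := by
  classical
  have hne : ∀ p q : Fin 7, p ≠ q → v p ≠ v q := fun p q h => v.injective.ne h
  have hs : ∀ p q, T.a (v p) (v q) = T.a (v q) (v p) := fun p q => (T.symm.apply _ _).symm
  have hd : ∀ p, T.a (v p) (v p) = -2 * T.w (v p) := fun p => (hv p).2
  have hnn : ∀ p q, p ≠ q → 0 ≤ T.a (v p) (v q) := fun p q h => T.offDiag_nonneg _ _ (hne p q h)
  let f : Fin 6 → Fin n := ![v 1, v 2, v 3, v 4, v 5, v 6]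
  have hf : Function.Injective f := by
    intro a b hab
    fin_cases a <;> fin_cases b <;> first | rfl | (exfalso; revert hab; simp [f])
  let u : Fin 6 ↪ Fin n := ⟨f, hf⟩
  obtain ⟨w, hwall, pe0_1, pe1_2, pe2_3, pe3_4, pe2_5, pz0_2, pz0_3, pz0_4, pz0_5, pz1_3, pz1_4, pz1_5, pz2_4, pz3_5, pz4_5, pm0, pm1, pm2, pm3, pm4, pm5⟩ := Groth.Agent.S7348.result T (by omega) u
    (by intro j; fin_cases j <;> [exact hv 1; exact hv 2; exact hv 3; exact hv 4; exact hv 5; exact hv 6])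
    (show T.a (v 1) (v 2) ≠ 0 from h12) (show T.a (v 2) (v 3) ≠ 0 from h23) (show T.a (v 3) (v 4) ≠ 0 from h34) (show T.a (v 4) (v 5) ≠ 0 from h45) (show T.a (v 3) (v 6) ≠ 0 from h36)
  have hw1 : T.w (v 1) = w := hwall 0
  have hw2 : T.w (v 2) = w := hwall 1
  have hw3 : T.w (v 3) = w := hwall 2
  have hw4 : T.w (v 4) = w := hwall 3
  have hw5 : T.w (v 5) = w := hwall 4
  have hw6 : T.w (v 6) = w := hwall 5
  have e1_2 : T.a (v 1) (v 2) = w := pe0_1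
  have e2_1 : T.a (v 2) (v 1) = w := by rw [hs 2 1]; exact e1_2
  have e2_3 : T.a (v 2) (v 3) = w := pe1_2
  have e3_2 : T.a (v 3) (v 2) = w := by rw [hs 3 2]; exact e2_3
  have e3_4 : T.a (v 3) (v 4) = w := pe2_3
  have e4_3 : T.a (v 4) (v 3) = w := by rw [hs 4 3]; exact e3_4
  have e4_5 : T.a (v 4) (v 5) = w := pe3_4
  have e5_4 : T.a (v 5) (v 4) = w := by rw [hs 5 4]; exact e4_5
  have e3_6 : T.a (v 3) (v 6) = w := pe2_5
  have e6_3 : T.a (v 6) (v 3) = w := by rw [hs 6 3]; exact e3_6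
  have z1_3 : T.a (v 1) (v 3) = 0 := pz0_2
  have z3_1 : T.a (v 3) (v 1) = 0 := by rw [hs 3 1]; exact z1_3
  have z1_4 : T.a (v 1) (v 4) = 0 := pz0_3
  have z4_1 : T.a (v 4) (v 1) = 0 := by rw [hs 4 1]; exact z1_4
  have z1_5 : T.a (v 1) (v 5) = 0 := pz0_4
  have z5_1 : T.a (v 5) (v 1) = 0 := by rw [hs 5 1]; exact z1_5
  have z1_6 : T.a (v 1) (v 6) = 0 := pz0_5
  have z6_1 : T.a (v 6) (v 1) = 0 := by rw [hs 6 1]; exact z1_6
  have z2_4 : T.a (v 2) (v 4) = 0 := pz1_3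
  have z4_2 : T.a (v 4) (v 2) = 0 := by rw [hs 4 2]; exact z2_4
  have z2_5 : T.a (v 2) (v 5) = 0 := pz1_4
  have z5_2 : T.a (v 5) (v 2) = 0 := by rw [hs 5 2]; exact z2_5
  have z2_6 : T.a (v 2) (v 6) = 0 := pz1_5
  have z6_2 : T.a (v 6) (v 2) = 0 := by rw [hs 6 2]; exact z2_6
  have z3_5 : T.a (v 3) (v 5) = 0 := pz2_4
  have z5_3 : T.a (v 5) (v 3) = 0 := by rw [hs 5 3]; exact z3_5
  have z4_6 : T.a (v 4) (v 6) = 0 := pz3_5
  have z6_4 : T.a (v 6) (v 4) = 0 := by rw [hs 6 4]; exact z4_6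
  have z5_6 : T.a (v 5) (v 6) = 0 := pz4_5
  have z6_5 : T.a (v 6) (v 5) = 0 := by rw [hs 6 5]; exact z5_6
  have hwpos : 0 < w := by rw [← hw1]; exact T.w_pos _
  have d1 : T.a (v 1) (v 1) = -2 * w := by rw [hd 1, hw1]
  have d2 : T.a (v 2) (v 2) = -2 * w := by rw [hd 2, hw2]
  have d3 : T.a (v 3) (v 3) = -2 * w := by rw [hd 3, hw3]
  have d4 : T.a (v 4) (v 4) = -2 * w := by rw [hd 4, hw4]
  have d5 : T.a (v 5) (v 5) = -2 * w := by rw [hd 5, hw5]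
  have d6 : T.a (v 6) (v 6) = -2 * w := by rw [hd 6, hw6]
  have dz : T.a (v 0) (v 0) = -2 * T.w (v 0) := hd 0
  have s1 : T.a (v 1) (v 0) = T.a (v 0) (v 1) := hs 1 0
  have s2 : T.a (v 2) (v 0) = T.a (v 0) (v 2) := hs 2 0
  have s3 : T.a (v 3) (v 0) = T.a (v 0) (v 3) := hs 3 0
  have s4 : T.a (v 4) (v 0) = T.a (v 0) (v 4) := hs 4 0
  have s5 : T.a (v 5) (v 0) = T.a (v 0) (v 5) := hs 5 0
  have s6 : T.a (v 6) (v 0) = T.a (v 0) (v 6) := hs 6 0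
  obtain ⟨p, q, hp1, hq1, hp, hq⟩ := edge_pq T (v 0) (v 1) (hne 0 1 (by decide)) h01
  rw [hw1] at hq
  have key := quad_neg_emb T v (by omega) ![p, 2, 2, 2, 1, 0, 1] (by intro h; have := congrFun h 1; simp at this)
  simp [Fin.sum_univ_succ] at key
  simp only [s1, s2, s3, s4, s5, s6] at key
  simp only [e1_2, e2_1, e2_3, e3_2, e3_4, e4_3, e4_5, e5_4, e3_6, e6_3, z1_3, z3_1, z1_4, z4_1, z1_5, z5_1, z1_6, z6_1, z2_4, z4_2, z2_5, z5_2, z2_6, z6_2, z3_5, z5_3, z4_6, z6_4, z5_6, z6_5, d1, d2, d3, d4, d5, d6, dz] at key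
  have n2 : 0 ≤ T.a (v 0) (v 2) := hnn 0 2 (by decide)
  have n3 : 0 ≤ T.a (v 0) (v 3) := hnn 0 3 (by decide)
  have n4 : 0 ≤ T.a (v 0) (v 4) := hnn 0 4 (by decide)
  have n5 : 0 ≤ T.a (v 0) (v 5) := hnn 0 5 (by decide)
  have n6 : 0 ≤ T.a (v 0) (v 6) := hnn 0 6 (by decide)
  set Azy := T.a (v 0) (v 1) with hAzy
  set wz := T.w (v 0) with hwz
  set N2 := T.a (v 0) (v 2) with hN2
  set N3 := T.a (v 0) (v 3) with hN3
  set N4 := T.a (v 0) (v 4) with hN4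
  set N5 := T.a (v 0) (v 5) with hN5
  set N6 := T.a (v 0) (v 6) with hN6
  have e1 : wz * p * p = Azy * p := by rw [hp]
  have f1 : Azy * p = w * (p * q) := by rw [hq]; ring
  have g2 : 0 ≤ N2 * p := mul_nonneg_int _ _ n2 hp1
  have g3 : 0 ≤ N3 * p := mul_nonneg_int _ _ n3 hp1
  have g4 : 0 ≤ N4 * p := mul_nonneg_int _ _ n4 hp1
  have g5 : 0 ≤ N5 * p := mul_nonneg_int _ _ n5 hp1
  have g6 : 0 ≤ N6 * p := mul_nonneg_int _ _ n6 hp1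
  have hS0 : w * (p * q - 2) + (2 * (N2 * p) + 2 * (N3 * p) + 1 * (N4 * p) + 1 * (N6 * p)) < 0 := by linarith [e1, f1]
  have hS : p * q < 2 := lt_two_of w p q (2 * (N2 * p) + 2 * (N3 * p) + 1 * (N4 * p) + 1 * (N6 * p)) hwpos (by linarith [g2, g3, g4, g6]) hS0
  obtain ⟨rfl, rfl⟩ := one_of_mul p q hp1 hq1 (by omega)
  simp only [mul_one] at hp hq e1 f1 hS0
  have hwzw : wz = w := by rw [← hp, hq]
  have hw0 : T.w (v 0) = w := hwzw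
  have e0_1 : T.a (v 0) (v 1) = w := hq
  have e1_0 : T.a (v 1) (v 0) = w := by rw [hs 1 0]; exact hq
  have d0 : T.a (v 0) (v 0) = -2 * w := by rw [hd 0, hw0]
  have z0_2 : T.a (v 0) (v 2) = 0 := entry_zero T _ _ (hne 0 2 (by decide)) w hw0 (by show N2 < w; linarith)
  have z2_0 : T.a (v 2) (v 0) = 0 := by rw [hs 2 0]; exact z0_2
  have z0_3 : T.a (v 0) (v 3) = 0 := entry_zero T _ _ (hne 0 3 (by decide)) w hw0 (by show N3 < w; linarith)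
  have z3_0 : T.a (v 3) (v 0) = 0 := by rw [hs 3 0]; exact z0_3
  have z0_4 : T.a (v 0) (v 4) = 0 := entry_zero T _ _ (hne 0 4 (by decide)) w hw0 (by show N4 < w; linarith)
  have z4_0 : T.a (v 4) (v 0) = 0 := by rw [hs 4 0]; exact z0_4
  have z0_6 : T.a (v 0) (v 6) = 0 := entry_zero T _ _ (hne 0 6 (by decide)) w hw0 (by show N6 < w; linarith)
  have z6_0 : T.a (v 6) (v 0) = 0 := by rw [hs 6 0]; exact z0_6
  have key5 := quad_neg_emb T v (by omega) ![1, 1, 1, 1, 1, 1, 0] (by intro h; have := congrFun h 0; simp at this)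
  simp [Fin.sum_univ_succ] at key5
  simp only [s1, s2, s3, s4, s5, s6] at key5
  simp only [e1_2, e2_1, e2_3, e3_2, e3_4, e4_3, e4_5, e5_4, e3_6, e6_3, z1_3, z3_1, z1_4, z4_1, z1_5, z5_1, z1_6, z6_1, z2_4, z4_2, z2_5, z5_2, z2_6, z6_2, z3_5, z5_3, z4_6, z6_4, z5_6, z6_5, d1, d2, d3, d4, d5, d6, e0_1, e1_0, d0, z0_2, z2_0, z0_3, z3_0, z0_4, z4_0, z0_6, z6_0] at key5
  have z0_5 : T.a (v 0) (v 5) = 0 := entry_zero T _ _ (hne 0 5 (by decide)) w hw0 (by show N5 < w; linarith)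
  have z5_0 : T.a (v 5) (v 0) = 0 := by rw [hs 5 0]; exact z0_5
  refine ⟨w, ?_, e0_1, e1_2, e2_3, e3_4, e4_5, e3_6, z0_2, z0_3, z0_4, z0_5, z0_6, z1_3, z1_4, z1_5, z1_6, z2_4, z2_5, z2_6, z3_5, z4_6, z5_6, ?_, ?_, ?_, ?_, ?_, ?_, ?_⟩
  · intro j
    fin_cases j <;> [exact hw0; exact hw1; exact hw2; exact hw3; exact hw4; exact hw5; exact hw6]
  · exact mult1 T w (v 0) (v 1) hwpos d0 (hne 0 1 (by decide)) e0_1
  · exact mult2 T w (v 1) (v 0) (v 2) hwpos d1 (hne 1 0 (by decide)) (hne 1 2 (by decide)) (hne 0 2 (by decide)) e1_0 e1_2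
  · exact mult2 T w (v 2) (v 1) (v 3) hwpos d2 (hne 2 1 (by decide)) (hne 2 3 (by decide)) (hne 1 3 (by decide)) e2_1 e2_3
  · exact mult3 T w (v 3) (v 2) (v 4) (v 6) hwpos d3 (hne 3 2 (by decide)) (hne 3 4 (by decide)) (hne 3 6 (by decide)) (hne 2 4 (by decide)) (hne 2 6 (by decide)) (hne 4 6 (by decide)) e3_2 e3_4 e3_6
  · exact mult2 T w (v 4) (v 3) (v 5) hwpos d4 (hne 4 3 (by decide)) (hne 4 5 (by decide)) (hne 3 5 (by decide)) e4_3 e4_5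
  · exact mult1 T w (v 5) (v 4) hwpos d5 (hne 5 4 (by decide)) e5_4
  · exact mult1 T w (v 6) (v 3) hwpos d6 (hne 6 3 (by decide)) e6_3

end Groth.Agent.S7349
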