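import Groth.Statements.S7345
import Groth.Agent.H2.NumType2
import Groth.Agent.S7350
open Groth.Agent.H2

set_option autoImplicit false
open Finset
open Models Models.NumericalType

namespace Groth.Agent.S7345

/-- Let T be a numerical type on n > 9 indices. Then no nine (-2)-indices of T, pairwise distinct and
named d, e, f, g, h, i, j, k, l, have a_de, a_ef, a_fg, a_gh, a_hi, a_ij, a_jk and a_li all nonzero
(a chain of eight, d to k, with l joined to its sixth vertex i). (The published list of nonzero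
entries ends with a_lh, joining l to the fifth vertex h; that configuration already contains the
completed E7 configuration on eight of the indices and is impossible for that reason alone. The
pictured graph and the argument for it join l to the sixth vertex i, and this row states that case.) -/
theorem result {n : ℕ} (T : Models.NumericalType n) (hn : 9 < n)
    (v : Fin 9 ↪ Fin n) (hv : ∀ j, T.IsMinusTwo (v j))
    (h01 : T.a (v 0) (v 1) ≠ 0) (h12 : T.a (v 1) (v 2) ≠ 0) (h23 : T.a (v 2) (v 3) ≠ 0)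
    (h34 : T.a (v 3) (v 4) ≠ 0) (h45 : T.a (v 4) (v 5) ≠ 0) (h56 : T.a (v 5) (v 6) ≠ 0)
    (h67 : T.a (v 6) (v 7) ≠ 0) (h85 : T.a (v 8) (v 5) ≠ 0) : False := by
  classical
  have hne : ∀ p q : Fin 9, p ≠ q → v p ≠ v q := fun p q h => v.injective.ne h
  have hs : ∀ p q, T.a (v p) (v q) = T.a (v q) (v p) := fun p q => (T.symm.apply _ _).symm
  have hd : ∀ p, T.a (v p) (v p) = -2 * T.w (v p) := fun p => (hv p).2
  have hnn : ∀ p q, p ≠ q → 0 ≤ T.a (v p) (v q) := fun p q h => T.offDiag_nonneg _ _ (hne p q h)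
  let f : Fin 8 → Fin n := ![v 1, v 2, v 3, v 4, v 5, v 6, v 7, v 8]
  have hf : Function.Injective f := by
    intro a b hab
    fin_cases a <;> fin_cases b <;> first | rfl | (exfalso; revert hab; simp [f])
  let u : Fin 8 ↪ Fin n := ⟨f, hf⟩
  obtain ⟨w, hwall, pe0_1, pe1_2, pe2_3, pe3_4, pe4_5, pe5_6, pe4_7, pz0_2, pz0_3, pz0_4, pz0_5, pz0_6, pz0_7, pz1_3, pz1_4, pz1_5, pz1_6, pz1_7, pz2_4, pz2_5, pz2_6, pz2_7, pz3_5, pz3_6, pz3_7, pz4_6, pz5_7, pz6_7, pm0, pm1, pm2, pm3, pm4, pm5, pm6, pm7⟩ := Groth.Agent.S7350.result T (by omega) u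
    (by intro j; fin_cases j <;> [exact hv 1; exact hv 2; exact hv 3; exact hv 4; exact hv 5; exact hv 6; exact hv 7; exact hv 8])
    (show T.a (v 1) (v 2) ≠ 0 from h12) (show T.a (v 2) (v 3) ≠ 0 from h23) (show T.a (v 3) (v 4) ≠ 0 from h34) (show T.a (v 4) (v 5) ≠ 0 from h45) (show T.a (v 5) (v 6) ≠ 0 from h56) (show T.a (v 6) (v 7) ≠ 0 from h67) (show T.a (v 5) (v 8) ≠ 0 from (by rw [hs 5 8]; exact h85))
  have hw1 : T.w (v 1) = w := hwall 0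
  have hw2 : T.w (v 2) = w := hwall 1
  have hw3 : T.w (v 3) = w := hwall 2
  have hw4 : T.w (v 4) = w := hwall 3
  have hw5 : T.w (v 5) = w := hwall 4
  have hw6 : T.w (v 6) = w := hwall 5
  have hw7 : T.w (v 7) = w := hwall 6
  have hw8 : T.w (v 8) = w := hwall 7
  have e1_2 : T.a (v 1) (v 2) = w := pe0_1
  have e2_1 : T.a (v 2) (v 1) = w := by rw [hs 2 1]; exact e1_2
  have e2_3 : T.a (v 2) (v 3) = w := pe1_2
  have e3_2 : T.a (v 3) (v 2) = w := by rw [hs 3 2]; exact e2_3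
  have e3_4 : T.a (v 3) (v 4) = w := pe2_3
  have e4_3 : T.a (v 4) (v 3) = w := by rw [hs 4 3]; exact e3_4
  have e4_5 : T.a (v 4) (v 5) = w := pe3_4
  have e5_4 : T.a (v 5) (v 4) = w := by rw [hs 5 4]; exact e4_5
  have e5_6 : T.a (v 5) (v 6) = w := pe4_5
  have e6_5 : T.a (v 6) (v 5) = w := by rw [hs 6 5]; exact e5_6
  have e6_7 : T.a (v 6) (v 7) = w := pe5_6
  have e7_6 : T.a (v 7) (v 6) = w := by rw [hs 7 6]; exact e6_7
  have e5_8 : T.a (v 5) (v 8) = w := pe4_7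
  have e8_5 : T.a (v 8) (v 5) = w := by rw [hs 8 5]; exact e5_8
  have z1_3 : T.a (v 1) (v 3) = 0 := pz0_2
  have z3_1 : T.a (v 3) (v 1) = 0 := by rw [hs 3 1]; exact z1_3
  have z1_4 : T.a (v 1) (v 4) = 0 := pz0_3
  have z4_1 : T.a (v 4) (v 1) = 0 := by rw [hs 4 1]; exact z1_4
  have z1_5 : T.a (v 1) (v 5) = 0 := pz0_4
  have z5_1 : T.a (v 5) (v 1) = 0 := by rw [hs 5 1]; exact z1_5
  have z1_6 : T.a (v 1) (v 6) = 0 := pz0_5
  have z6_1 : T.a (v 6) (v 1) = 0 := by rw [hs 6 1]; exact z1_6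
  have z1_7 : T.a (v 1) (v 7) = 0 := pz0_6
  have z7_1 : T.a (v 7) (v 1) = 0 := by rw [hs 7 1]; exact z1_7
  have z1_8 : T.a (v 1) (v 8) = 0 := pz0_7
  have z8_1 : T.a (v 8) (v 1) = 0 := by rw [hs 8 1]; exact z1_8
  have z2_4 : T.a (v 2) (v 4) = 0 := pz1_3
  have z4_2 : T.a (v 4) (v 2) = 0 := by rw [hs 4 2]; exact z2_4
  have z2_5 : T.a (v 2) (v 5) = 0 := pz1_4
  have z5_2 : T.a (v 5) (v 2) = 0 := by rw [hs 5 2]; exact z2_5
  have z2_6 : T.a (v 2) (v 6) = 0 := pz1_5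
  have z6_2 : T.a (v 6) (v 2) = 0 := by rw [hs 6 2]; exact z2_6
  have z2_7 : T.a (v 2) (v 7) = 0 := pz1_6
  have z7_2 : T.a (v 7) (v 2) = 0 := by rw [hs 7 2]; exact z2_7
  have z2_8 : T.a (v 2) (v 8) = 0 := pz1_7
  have z8_2 : T.a (v 8) (v 2) = 0 := by rw [hs 8 2]; exact z2_8
  have z3_5 : T.a (v 3) (v 5) = 0 := pz2_4
  have z5_3 : T.a (v 5) (v 3) = 0 := by rw [hs 5 3]; exact z3_5
  have z3_6 : T.a (v 3) (v 6) = 0 := pz2_5
  have z6_3 : T.a (v 6) (v 3) = 0 := by rw [hs 6 3]; exact z3_6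
  have z3_7 : T.a (v 3) (v 7) = 0 := pz2_6
  have z7_3 : T.a (v 7) (v 3) = 0 := by rw [hs 7 3]; exact z3_7
  have z3_8 : T.a (v 3) (v 8) = 0 := pz2_7
  have z8_3 : T.a (v 8) (v 3) = 0 := by rw [hs 8 3]; exact z3_8
  have z4_6 : T.a (v 4) (v 6) = 0 := pz3_5
  have z6_4 : T.a (v 6) (v 4) = 0 := by rw [hs 6 4]; exact z4_6
  have z4_7 : T.a (v 4) (v 7) = 0 := pz3_6
  have z7_4 : T.a (v 7) (v 4) = 0 := by rw [hs 7 4]; exact z4_7
  have z4_8 : T.a (v 4) (v 8) = 0 := pz3_7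
  have z8_4 : T.a (v 8) (v 4) = 0 := by rw [hs 8 4]; exact z4_8
  have z5_7 : T.a (v 5) (v 7) = 0 := pz4_6
  have z7_5 : T.a (v 7) (v 5) = 0 := by rw [hs 7 5]; exact z5_7
  have z6_8 : T.a (v 6) (v 8) = 0 := pz5_7
  have z8_6 : T.a (v 8) (v 6) = 0 := by rw [hs 8 6]; exact z6_8
  have z7_8 : T.a (v 7) (v 8) = 0 := pz6_7
  have z8_7 : T.a (v 8) (v 7) = 0 := by rw [hs 8 7]; exact z7_8
  have hwpos : 0 < w := by rw [← hw1]; exact T.w_pos _
  have d1 : T.a (v 1) (v 1) = -2 * w := by rw [hd 1, hw1]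
  have d2 : T.a (v 2) (v 2) = -2 * w := by rw [hd 2, hw2]
  have d3 : T.a (v 3) (v 3) = -2 * w := by rw [hd 3, hw3]
  have d4 : T.a (v 4) (v 4) = -2 * w := by rw [hd 4, hw4]
  have d5 : T.a (v 5) (v 5) = -2 * w := by rw [hd 5, hw5]
  have d6 : T.a (v 6) (v 6) = -2 * w := by rw [hd 6, hw6]
  have d7 : T.a (v 7) (v 7) = -2 * w := by rw [hd 7, hw7]
  have d8 : T.a (v 8) (v 8) = -2 * w := by rw [hd 8, hw8]
  have dz : T.a (v 0) (v 0) = -2 * T.w (v 0) := hd 0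
  have s1 : T.a (v 1) (v 0) = T.a (v 0) (v 1) := hs 1 0
  have s2 : T.a (v 2) (v 0) = T.a (v 0) (v 2) := hs 2 0
  have s3 : T.a (v 3) (v 0) = T.a (v 0) (v 3) := hs 3 0
  have s4 : T.a (v 4) (v 0) = T.a (v 0) (v 4) := hs 4 0
  have s5 : T.a (v 5) (v 0) = T.a (v 0) (v 5) := hs 5 0
  have s6 : T.a (v 6) (v 0) = T.a (v 0) (v 6) := hs 6 0
  have s7 : T.a (v 7) (v 0) = T.a (v 0) (v 7) := hs 7 0
  have s8 : T.a (v 8) (v 0) = T.a (v 0) (v 8) := hs 8 0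
  obtain ⟨p, q, hp1, hq1, hp, hq⟩ := edge_pq T (v 0) (v 1) (hne 0 1 (by decide)) h01
  rw [hw1] at hq
  have key := quad_neg_emb T v (by omega) ![p, 2, 3, 4, 5, 6, 4, 2, 3] (by intro h; have := congrFun h 1; simp at this)
  simp [Fin.sum_univ_succ] at key
  simp only [s1, s2, s3, s4, s5, s6, s7, s8] at key
  simp only [e1_2, e2_1, e2_3, e3_2, e3_4, e4_3, e4_5, e5_4, e5_6, e6_5, e6_7, e7_6, e5_8, e8_5, z1_3, z3_1, z1_4, z4_1, z1_5, z5_1, z1_6, z6_1, z1_7, z7_1, z1_8, z8_1, z2_4, z4_2, z2_5, z5_2, z2_6, z6_2, z2_7, z7_2, z2_8, z8_2, z3_5, z5_3, z3_6, z6_3, z3_7, z7_3, z3_8, z8_3, z4_6, z6_4, z4_7, z7_4, z4_8, z8_4, z5_7, z7_5, z6_8, z8_6, z7_8, z8_7, d1, d2, d3, d4, d5, d6, d7, d8, dz] at key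
  have n2 : 0 ≤ T.a (v 0) (v 2) := hnn 0 2 (by decide)
  have n3 : 0 ≤ T.a (v 0) (v 3) := hnn 0 3 (by decide)
  have n4 : 0 ≤ T.a (v 0) (v 4) := hnn 0 4 (by decide)
  have n5 : 0 ≤ T.a (v 0) (v 5) := hnn 0 5 (by decide)
  have n6 : 0 ≤ T.a (v 0) (v 6) := hnn 0 6 (by decide)
  have n7 : 0 ≤ T.a (v 0) (v 7) := hnn 0 7 (by decide)
  have n8 : 0 ≤ T.a (v 0) (v 8) := hnn 0 8 (by decide)
  set Azy := T.a (v 0) (v 1) with hAzy
  set wz := T.w (v 0) with hwz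
  set N2 := T.a (v 0) (v 2) with hN2
  set N3 := T.a (v 0) (v 3) with hN3
  set N4 := T.a (v 0) (v 4) with hN4
  set N5 := T.a (v 0) (v 5) with hN5
  set N6 := T.a (v 0) (v 6) with hN6
  set N7 := T.a (v 0) (v 7) with hN7
  set N8 := T.a (v 0) (v 8) with hN8
  have e1 : wz * p * p = Azy * p := by rw [hp]
  have f1 : Azy * p = w * (p * q) := by rw [hq]; ring
  have g2 : 0 ≤ N2 * p := mul_nonneg_int _ _ n2 hp1
  have g3 : 0 ≤ N3 * p := mul_nonneg_int _ _ n3 hp1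
  have g4 : 0 ≤ N4 * p := mul_nonneg_int _ _ n4 hp1
  have g5 : 0 ≤ N5 * p := mul_nonneg_int _ _ n5 hp1
  have g6 : 0 ≤ N6 * p := mul_nonneg_int _ _ n6 hp1
  have g7 : 0 ≤ N7 * p := mul_nonneg_int _ _ n7 hp1
  have g8 : 0 ≤ N8 * p := mul_nonneg_int _ _ n8 hp1
  have hwpq : 0 ≤ w * (p * q - 1) := nonneg_w_mul w p q hwpos hp1 hq1
  linarith [e1, f1, hwpq, g2, g3, g4, g5, g6, g7, g8]

end Groth.Agent.S7345
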