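import Groth.Statements.S7351
import Groth.Agent.H2.NumType3
open Groth.Agent.H2

set_option autoImplicit false
open Finset
open Models Models.NumericalType

namespace Groth.Agent.S7351

/-- Let T be a numerical type on n > 5 indices. There do not exist five distinct (-2)-indices h, i, j,
k, l with a_hi > 0, a_hj > 0, a_hk > 0 and a_hl > 0. -/
theorem result {n : ℕ} (T : Models.NumericalType n) (hn : 5 < n)
    (v : Fin 5 ↪ Fin n) (hv : ∀ j, T.IsMinusTwo (v j))
    (h01 : 0 < T.a (v 0) (v 1)) (h02 : 0 < T.a (v 0) (v 2)) (h03 : 0 < T.a (v 0) (v 3)) (h04 : 0 < T.a (v 0) (v 4)) : False := by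
  classical
  have hs : ∀ p q, T.a (v p) (v q) = T.a (v q) (v p) := fun p q => (T.symm.apply _ _).symm
  let δ : Fin 5 → ℤ := ![2, 1, 1, 1, 1]
  have hδpos : ∀ j, 0 < δ j := by
    intro j; fin_cases j <;> simp [δ]
  have hδnn : ∀ j, 0 ≤ δ j := fun j => (hδpos j).le
  apply affine_excl T v hn (by norm_num) δ hδpos
  intro i
  fin_cases i
  · apply row_nonneg T v δ hδnn _ (hv _) {1, 2, 3, 4}
    · decide
    · intro j hj
      simp only [Finset.mem_insert, Finset.mem_singleton] at hj
      rcases hj with rfl | rfl | rfl | rfl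
      · exact h01.ne'
      · exact h02.ne'
      · exact h03.ne'
      · exact h04.ne'
    · simp [δ, Finset.sum_insert]
  · apply row_nonneg T v δ hδnn _ (hv _) {0}
    · decide
    · intro j hj
      rw [Finset.mem_singleton] at hj
      subst hj
      show T.a (v 1) (v 0) ≠ 0
      rw [hs]; exact h01.ne'
    · simp [δ]
  · apply row_nonneg T v δ hδnn _ (hv _) {0}
    · decide
    · intro j hj
      rw [Finset.mem_singleton] at hj
      subst hj
      show T.a (v 2) (v 0) ≠ 0
      rw [hs]; exact h02.ne'
    · simp [δ]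
  · apply row_nonneg T v δ hδnn _ (hv _) {0}
    · decide
    · intro j hj
      rw [Finset.mem_singleton] at hj
      subst hj
      show T.a (v 3) (v 0) ≠ 0
      rw [hs]; exact h03.ne'
    · simp [δ]
  · apply row_nonneg T v δ hδnn _ (hv _) {0}
    · decide
    · intro j hj
      rw [Finset.mem_singleton] at hj
      subst hj
      show T.a (v 4) (v 0) ≠ 0
      rw [hs]; exact h04.ne'
    · simp [δ]

end Groth.Agent.S7351
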