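import Groth.Statements.S7352
import Groth.Agent.H3.NumChain
open Groth.Agent.H3

set_option autoImplicit false
open Finset
open Models Models.NumericalType

namespace Groth.Agent.S7352

/-- Classification of proper subgraphs which are chains of four vertices: let T be a numerical type on n
> 4 indices and i_1, …, i_4 distinct (-2)-indices with a_{i_j i_{j+1}} nonzero for j < 4. Then
a_{i_j i_l} = 0 for |j - l| ≥ 2 and, after possibly reversing the order of the indices, for some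
integer w one of the following holds: (A4) w = (w, w, w, w), consecutive a = (w, w, w), with 2m_1 ≥
m_2, 2m_2 ≥ m_1 + m_3, 2m_3 ≥ m_2 + m_4, 2m_4 ≥ m_3; (C4) w = (w, w, w, 2w), consecutive a = (w, w,
2w), with 2m_1 ≥ m_2, 2m_2 ≥ m_1 + m_3, 2m_3 ≥ m_2 + 2m_4, 2m_4 ≥ m_3; (B4) w = (2w, 2w, 2w, w),
consecutive a = (2w, 2w, 2w), with 2m_1 ≥ m_2, 2m_2 ≥ m_1 + m_3, 2m_3 ≥ m_2 + m_4, m_4 ≥ m_3; (F4) w
= (w, w, 2w, 2w), consecutive a = (w, 2w, 2w), with 2m_1 ≥ m_2, 2m_2 ≥ m_1 + 2m_3, 2m_3 ≥ m_2 + m_4,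
2m_4 ≥ m_3. -/
theorem result {n : ℕ} (T : Models.NumericalType n) (hn : 4 < n)
    (v : Fin 4 ↪ Fin n) (hv : ∀ j, T.IsMinusTwo (v j)) (h01 : T.a (v 0) (v 1) ≠ 0) (h12 : T.a (v 1) (v 2) ≠ 0) (h23 : T.a (v 2) (v 3) ≠ 0) :
    (T.a (v 0) (v 2) = 0 ∧ T.a (v 0) (v 3) = 0 ∧ T.a (v 1) (v 3) = 0) ∧
    ∃ (u : Fin 4 → Fin n) (w : ℤ), ((∀ j, u j = v j) ∨ (∀ j, u j = v (Fin.rev j))) ∧
      ((T.w (u 0) = w ∧ T.w (u 1) = w ∧ T.w (u 2) = w ∧ T.w (u 3) = w ∧ T.a (u 0) (u 1) = w ∧ T.a (u 1) (u 2) = w ∧ T.a (u 2) (u 3) = w ∧ T.m (u 1) ≤ 2 * T.m (u 0) ∧ T.m (u 0) + T.m (u 2) ≤ 2 * T.m (u 1) ∧ T.m (u 1) + T.m (u 3) ≤ 2 * T.m (u 2) ∧ T.m (u 2) ≤ 2 * T.m (u 3)) ∨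
      (T.w (u 0) = w ∧ T.w (u 1) = w ∧ T.w (u 2) = w ∧ T.w (u 3) = 2 * w ∧ T.a (u 0) (u 1) = w ∧ T.a (u 1) (u 2) = w ∧ T.a (u 2) (u 3) = 2 * w ∧ T.m (u 1) ≤ 2 * T.m (u 0) ∧ T.m (u 0) + T.m (u 2) ≤ 2 * T.m (u 1) ∧ T.m (u 1) + 2 * T.m (u 3) ≤ 2 * T.m (u 2) ∧ T.m (u 2) ≤ 2 * T.m (u 3)) ∨
      (T.w (u 0) = 2 * w ∧ T.w (u 1) = 2 * w ∧ T.w (u 2) = 2 * w ∧ T.w (u 3) = w ∧ T.a (u 0) (u 1) = 2 * w ∧ T.a (u 1) (u 2) = 2 * w ∧ T.a (u 2) (u 3) = 2 * w ∧ T.m (u 1) ≤ 2 * T.m (u 0) ∧ T.m (u 0) + T.m (u 2) ≤ 2 * T.m (u 1) ∧ T.m (u 1) + T.m (u 3) ≤ 2 * T.m (u 2) ∧ T.m (u 2) ≤ T.m (u 3)) ∨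
      (T.w (u 0) = w ∧ T.w (u 1) = w ∧ T.w (u 2) = 2 * w ∧ T.w (u 3) = 2 * w ∧ T.a (u 0) (u 1) = w ∧ T.a (u 1) (u 2) = 2 * w ∧ T.a (u 2) (u 3) = 2 * w ∧ T.m (u 1) ≤ 2 * T.m (u 0) ∧ T.m (u 0) + 2 * T.m (u 2) ≤ 2 * T.m (u 1) ∧ T.m (u 1) + T.m (u 3) ≤ 2 * T.m (u 2) ∧ T.m (u 2) ≤ 2 * T.m (u 3))) := by
  classical
  let C : Chain T 4 :=
    { v := v
      lt := hn
      m2 := hv
      adj := by
        intro j j' h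
        have key : ∀ (a b : ℕ) (ha : a < 4) (hb : b < 4), b = a + 1 →
            T.a (v ⟨a, ha⟩) (v ⟨b, hb⟩) ≠ 0 := by
          intro a b ha hb hab
          subst hab
          have : a = 0 ∨ a = 1 ∨ a = 2 := by omega
          rcases this with rfl | rfl | rfl
          · exact h01
          · exact h12
          · exact h23
        exact key j.val j'.val j.isLt j'.isLt h }
  have chords : T.a (v 0) (v 2) = 0 ∧ T.a (v 0) (v 3) = 0 ∧ T.a (v 1) (v 3) = 0 := by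
    refine ⟨?_, ?_, ?_⟩
    · have := C.no_chord (j := 0) (k := 2) (by norm_num) (by norm_num)
      rw [C.V_of_lt (by norm_num), C.V_of_lt (by norm_num)] at this
      exact this
    · have := C.no_chord (j := 0) (k := 3) (by norm_num) (by norm_num)
      rw [C.V_of_lt (by norm_num), C.V_of_lt (by norm_num)] at this
      exact this
    · have := C.no_chord (j := 1) (k := 3) (by norm_num) (by norm_num)
      rw [C.V_of_lt (by norm_num), C.V_of_lt (by norm_num)] at this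
      exact this
  refine ⟨chords, ?_⟩
  have key : ∀ D : Chain T 4, D.P 0 = 1 → (D.P 1 = 2 → D.p 1 = 2) → ∃ w : ℤ,
      ((T.w (D.v 0) = w ∧ T.w (D.v 1) = w ∧ T.w (D.v 2) = w ∧ T.w (D.v 3) = w ∧ T.a (D.v 0) (D.v 1) = w ∧ T.a (D.v 1) (D.v 2) = w ∧ T.a (D.v 2) (D.v 3) = w ∧ T.m (D.v 1) ≤ 2 * T.m (D.v 0) ∧ T.m (D.v 0) + T.m (D.v 2) ≤ 2 * T.m (D.v 1) ∧ T.m (D.v 1) + T.m (D.v 3) ≤ 2 * T.m (D.v 2) ∧ T.m (D.v 2) ≤ 2 * T.m (D.v 3)) ∨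
      (T.w (D.v 0) = w ∧ T.w (D.v 1) = w ∧ T.w (D.v 2) = w ∧ T.w (D.v 3) = 2 * w ∧ T.a (D.v 0) (D.v 1) = w ∧ T.a (D.v 1) (D.v 2) = w ∧ T.a (D.v 2) (D.v 3) = 2 * w ∧ T.m (D.v 1) ≤ 2 * T.m (D.v 0) ∧ T.m (D.v 0) + T.m (D.v 2) ≤ 2 * T.m (D.v 1) ∧ T.m (D.v 1) + 2 * T.m (D.v 3) ≤ 2 * T.m (D.v 2) ∧ T.m (D.v 2) ≤ 2 * T.m (D.v 3)) ∨
      (T.w (D.v 0) = 2 * w ∧ T.w (D.v 1) = 2 * w ∧ T.w (D.v 2) = 2 * w ∧ T.w (D.v 3) = w ∧ T.a (D.v 0) (D.v 1) = 2 * w ∧ T.a (D.v 1) (D.v 2) = 2 * w ∧ T.a (D.v 2) (D.v 3) = 2 * w ∧ T.m (D.v 1) ≤ 2 * T.m (D.v 0) ∧ T.m (D.v 0) + T.m (D.v 2) ≤ 2 * T.m (D.v 1) ∧ T.m (D.v 1) + T.m (D.v 3) ≤ 2 * T.m (D.v 2) ∧ T.m (D.v 2) ≤ T.m (D.v 3)) ∨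
      (T.w (D.v 0) = w ∧ T.w (D.v 1) = w ∧ T.w (D.v 2) = 2 * w ∧ T.w (D.v 3) = 2 * w ∧ T.a (D.v 0) (D.v 1) = w ∧ T.a (D.v 1) (D.v 2) = 2 * w ∧ T.a (D.v 2) (D.v 3) = 2 * w ∧ T.m (D.v 1) ≤ 2 * T.m (D.v 0) ∧ T.m (D.v 0) + 2 * T.m (D.v 2) ≤ 2 * T.m (D.v 1) ∧ T.m (D.v 1) + T.m (D.v 3) ≤ 2 * T.m (D.v 2) ∧ T.m (D.v 2) ≤ 2 * T.m (D.v 3))) := by
    intro D h0 h1
    obtain ⟨w, h⟩ := D.final4 h0 h1
    rw [D.W_eq (show 0 < 4 by norm_num), D.W_eq (show 1 < 4 by norm_num),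
      D.W_eq (show 2 < 4 by norm_num), D.W_eq (show 3 < 4 by norm_num),
      D.M_eq (show 0 < 4 by norm_num), D.M_eq (show 1 < 4 by norm_num),
      D.M_eq (show 2 < 4 by norm_num), D.M_eq (show 3 < 4 by norm_num),
      D.A_eq (show 0 + 1 < 4 by norm_num), D.A_eq (show 1 + 1 < 4 by norm_num),
      D.A_eq (show 2 + 1 < 4 by norm_num)] at h
    exact ⟨w, h⟩
  have hP0 := C.P_le_two (by norm_num) (show 0 + 1 < 4 by norm_num)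
  have hP1 := C.P_le_two (by norm_num) (show 1 + 1 < 4 by norm_num)
  have hP2 := C.P_le_two (by norm_num) (show 2 + 1 < 4 by norm_num)
  have s01 := C.P_add_le (i := 0) (by norm_num)
  have s12 := C.P_add_le (i := 1) (by norm_num)
  norm_num at s01 s12
  by_cases hC : C.P 0 = 1 ∧ (C.P 1 = 2 → C.p 1 = 2)
  · obtain ⟨w, hw⟩ := key C hC.1 hC.2
    exact ⟨C.v, w, Or.inl (fun j => rfl), hw⟩
  · have hR : C.rev.P 0 = 1 ∧ (C.rev.P 1 = 2 → C.rev.p 1 = 2) := by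
      rw [C.rev_P (show 0 + 1 < 4 by norm_num), C.rev_P (show 1 + 1 < 4 by norm_num),
        C.rev_p (show 1 + 1 < 4 by norm_num)]
      norm_num
      rcases hP0 with h0 | h0
      · have h1 : C.P 1 = 2 ∧ C.p 1 ≠ 2 := by
          by_contra hc
          apply hC
          refine ⟨h0, fun h => ?_⟩
          by_contra h'
          exact hc ⟨h, h'⟩
        refine ⟨by omega, fun _ => ?_⟩
        rcases C.pq_of_P_two (by norm_num) h1.1 with ⟨p1, _⟩ | ⟨_, q1⟩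
        · exact absurd p1 h1.2
        · exact q1
      · refine ⟨?_, fun h => by omega⟩
        rcases hP2 with h2 | h2
        · exact h2
        · exact absurd (C.double_unique (by norm_num) (show 0 < 2 by norm_num) (by norm_num) h0 h2) id
    obtain ⟨w, hw⟩ := key C.rev hR.1 hR.2
    exact ⟨C.rev.v, w, Or.inr (fun j => rfl), hw⟩

end Groth.Agent.S7352
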