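import Groth.Statements.S7353
import Groth.Agent.H3.NumChain
open Groth.Agent.H3

set_option autoImplicit false
open Finset
open Models Models.NumericalType

namespace Groth.Agent.S7353

/-- Classification of proper subgraphs which are chains of five vertices: let T be a numerical type on n
> 5 indices and i_1, …, i_5 distinct (-2)-indices with a_{i_j i_{j+1}} nonzero for j < 5. Then
a_{i_j i_l} = 0 for |j - l| ≥ 2 and, after possibly reversing the order of the indices, for some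
integer w one of the following holds: (A5) w = (w, w, w, w, w), consecutive a = (w, w, w, w), with
2m_1 ≥ m_2, 2m_2 ≥ m_1 + m_3, 2m_3 ≥ m_2 + m_4, 2m_4 ≥ m_3 + m_5, 2m_5 ≥ m_4; (C5) w = (w, w, w, w,
2w), consecutive a = (w, w, w, 2w), with 2m_1 ≥ m_2, 2m_2 ≥ m_1 + m_3, 2m_3 ≥ m_2 + m_4, 2m_4 ≥ m_3
+ 2m_5, 2m_5 ≥ m_4; (B5) w = (2w, 2w, 2w, 2w, w), consecutive a = (2w, 2w, 2w, 2w), with 2m_1 ≥ m_2,
2m_2 ≥ m_1 + m_3, 2m_3 ≥ m_2 + m_4, 2m_4 ≥ m_3 + m_5, m_5 ≥ m_4. (The inequalities are those given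
by the rows Σ_l a_{kl} m_l = 0 of the displayed matrices; the published text has 2m_3 ≥ m_2 + 2m_4
and 2m_4 ≥ m_3 + m_5 in case C5 and m_4 ≥ m_3 in case B5, of which the first does not follow — for
the numerical type with six indices, weights (1,1,1,1,2,1), chain intersection numbers (1,1,1,2)
plus a_{16} = 1, a_{66} = -1 and multiplicities (2,2,2,2,1,2) one has 2m_3 = 4 < m_2 + 2m_4 = 6 — so
the matrix inequalities are stated.) -/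
theorem result {n : ℕ} (T : Models.NumericalType n) (hn : 5 < n)
    (v : Fin 5 ↪ Fin n) (hv : ∀ j, T.IsMinusTwo (v j)) (h01 : T.a (v 0) (v 1) ≠ 0) (h12 : T.a (v 1) (v 2) ≠ 0) (h23 : T.a (v 2) (v 3) ≠ 0) (h34 : T.a (v 3) (v 4) ≠ 0) :
    (T.a (v 0) (v 2) = 0 ∧ T.a (v 0) (v 3) = 0 ∧ T.a (v 0) (v 4) = 0 ∧ T.a (v 1) (v 3) = 0 ∧ T.a (v 1) (v 4) = 0 ∧ T.a (v 2) (v 4) = 0) ∧
    ∃ (u : Fin 5 → Fin n) (w : ℤ), ((∀ j, u j = v j) ∨ (∀ j, u j = v (Fin.rev j))) ∧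
      ((T.w (u 0) = w ∧ T.w (u 1) = w ∧ T.w (u 2) = w ∧ T.w (u 3) = w ∧ T.w (u 4) = w ∧ T.a (u 0) (u 1) = w ∧ T.a (u 1) (u 2) = w ∧ T.a (u 2) (u 3) = w ∧ T.a (u 3) (u 4) = w ∧ T.m (u 1) ≤ 2 * T.m (u 0) ∧ T.m (u 0) + T.m (u 2) ≤ 2 * T.m (u 1) ∧ T.m (u 1) + T.m (u 3) ≤ 2 * T.m (u 2) ∧ T.m (u 2) + T.m (u 4) ≤ 2 * T.m (u 3) ∧ T.m (u 3) ≤ 2 * T.m (u 4)) ∨
      (T.w (u 0) = w ∧ T.w (u 1) = w ∧ T.w (u 2) = w ∧ T.w (u 3) = w ∧ T.w (u 4) = 2 * w ∧ T.a (u 0) (u 1) = w ∧ T.a (u 1) (u 2) = w ∧ T.a (u 2) (u 3) = w ∧ T.a (u 3) (u 4) = 2 * w ∧ T.m (u 1) ≤ 2 * T.m (u 0) ∧ T.m (u 0) + T.m (u 2) ≤ 2 * T.m (u 1) ∧ T.m (u 1) + T.m (u 3) ≤ 2 * T.m (u 2) ∧ T.m (u 2) + 2 * T.m (u 4) ≤ 2 * T.m (u 3) ∧ T.m (u 3) ≤ 2 * T.m (u 4)) ∨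
      (T.w (u 0) = 2 * w ∧ T.w (u 1) = 2 * w ∧ T.w (u 2) = 2 * w ∧ T.w (u 3) = 2 * w ∧ T.w (u 4) = w ∧ T.a (u 0) (u 1) = 2 * w ∧ T.a (u 1) (u 2) = 2 * w ∧ T.a (u 2) (u 3) = 2 * w ∧ T.a (u 3) (u 4) = 2 * w ∧ T.m (u 1) ≤ 2 * T.m (u 0) ∧ T.m (u 0) + T.m (u 2) ≤ 2 * T.m (u 1) ∧ T.m (u 1) + T.m (u 3) ≤ 2 * T.m (u 2) ∧ T.m (u 2) + T.m (u 4) ≤ 2 * T.m (u 3) ∧ T.m (u 3) ≤ T.m (u 4))) := by
  classical
  let C : Chain T 5 :=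
    { v := v
      lt := hn
      m2 := hv
      adj := by
        intro j j' h
        have key : ∀ (a b : ℕ) (ha : a < 5) (hb : b < 5), b = a + 1 →
            T.a (v ⟨a, ha⟩) (v ⟨b, hb⟩) ≠ 0 := by
          intro a b ha hb hab
          subst hab
          have : a = 0 ∨ a = 1 ∨ a = 2 ∨ a = 3 := by omega
          rcases this with rfl | rfl | rfl | rfl
          · exact h01
          · exact h12
          · exact h23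
          · exact h34
        exact key j.val j'.val j.isLt j'.isLt h }
  have chord : ∀ (j k : ℕ) (hjk : j + 1 < k) (hk : k < 5),
      T.a (v ⟨j, by omega⟩) (v ⟨k, hk⟩) = 0 := by
    intro j k hjk hk
    have := C.no_chord hjk hk
    rw [C.V_of_lt (by omega), C.V_of_lt hk] at this
    exact this
  refine ⟨⟨chord 0 2 (by norm_num) (by norm_num), chord 0 3 (by norm_num) (by norm_num),
    chord 0 4 (by norm_num) (by norm_num), chord 1 3 (by norm_num) (by norm_num),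
    chord 1 4 (by norm_num) (by norm_num), chord 2 4 (by norm_num) (by norm_num)⟩, ?_⟩
  have key : ∀ D : Chain T 5, D.P 0 = 1 → ∃ w : ℤ,
      ((T.w (D.v 0) = w ∧ T.w (D.v 1) = w ∧ T.w (D.v 2) = w ∧ T.w (D.v 3) = w ∧ T.w (D.v 4) = w ∧ T.a (D.v 0) (D.v 1) = w ∧ T.a (D.v 1) (D.v 2) = w ∧ T.a (D.v 2) (D.v 3) = w ∧ T.a (D.v 3) (D.v 4) = w ∧ T.m (D.v 1) ≤ 2 * T.m (D.v 0) ∧ T.m (D.v 0) + T.m (D.v 2) ≤ 2 * T.m (D.v 1) ∧ T.m (D.v 1) + T.m (D.v 3) ≤ 2 * T.m (D.v 2) ∧ T.m (D.v 2) + T.m (D.v 4) ≤ 2 * T.m (D.v 3) ∧ T.m (D.v 3) ≤ 2 * T.m (D.v 4)) ∨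
      (T.w (D.v 0) = w ∧ T.w (D.v 1) = w ∧ T.w (D.v 2) = w ∧ T.w (D.v 3) = w ∧ T.w (D.v 4) = 2 * w ∧ T.a (D.v 0) (D.v 1) = w ∧ T.a (D.v 1) (D.v 2) = w ∧ T.a (D.v 2) (D.v 3) = w ∧ T.a (D.v 3) (D.v 4) = 2 * w ∧ T.m (D.v 1) ≤ 2 * T.m (D.v 0) ∧ T.m (D.v 0) + T.m (D.v 2) ≤ 2 * T.m (D.v 1) ∧ T.m (D.v 1) + T.m (D.v 3) ≤ 2 * T.m (D.v 2) ∧ T.m (D.v 2) + 2 * T.m (D.v 4) ≤ 2 * T.m (D.v 3) ∧ T.m (D.v 3) ≤ 2 * T.m (D.v 4)) ∨
      (T.w (D.v 0) = 2 * w ∧ T.w (D.v 1) = 2 * w ∧ T.w (D.v 2) = 2 * w ∧ T.w (D.v 3) = 2 * w ∧ T.w (D.v 4) = w ∧ T.a (D.v 0) (D.v 1) = 2 * w ∧ T.a (D.v 1) (D.v 2) = 2 * w ∧ T.a (D.v 2) (D.v 3) = 2 * w ∧ T.a (D.v 3) (D.v 4) = 2 * w ∧ T.m (D.v 1) ≤ 2 * T.m (D.v 0) ∧ T.m (D.v 0) + T.m (D.v 2) ≤ 2 * T.m (D.v 1) ∧ T.m (D.v 1) + T.m (D.v 3) ≤ 2 * T.m (D.v 2) ∧ T.m (D.v 2) + T.m (D.v 4) ≤ 2 * T.m (D.v 3) ∧ T.m (D.v 3) ≤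 T.m (D.v 4))) := by
    intro D h0
    obtain ⟨w, h⟩ := D.final5 h0
    rw [D.W_eq (show 0 < 5 by norm_num), D.W_eq (show 1 < 5 by norm_num),
      D.W_eq (show 2 < 5 by norm_num), D.W_eq (show 3 < 5 by norm_num),
      D.W_eq (show 4 < 5 by norm_num),
      D.M_eq (show 0 < 5 by norm_num), D.M_eq (show 1 < 5 by norm_num),
      D.M_eq (show 2 < 5 by norm_num), D.M_eq (show 3 < 5 by norm_num),
      D.M_eq (show 4 < 5 by norm_num),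
      D.A_eq (show 0 + 1 < 5 by norm_num), D.A_eq (show 1 + 1 < 5 by norm_num),
      D.A_eq (show 2 + 1 < 5 by norm_num), D.A_eq (show 3 + 1 < 5 by norm_num)] at h
    exact ⟨w, h⟩
  by_cases hC : C.P 0 = 1
  · obtain ⟨w, hw⟩ := key C hC
    exact ⟨C.v, w, Or.inl (fun j => rfl), hw⟩
  · have hR : C.rev.P 0 = 1 := by
      rw [C.rev_P (show 0 + 1 < 5 by norm_num)]
      norm_num
      have h0 : C.P 0 = 2 := by
        rcases C.P_le_two (by norm_num) (show 0 + 1 < 5 by norm_num) with h | h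
        · exact absurd h hC
        · exact h
      rcases C.P_le_two (by norm_num) (show 3 + 1 < 5 by norm_num) with h | h
      · exact h
      · exact absurd (C.double_unique (by norm_num) (show 0 < 3 by norm_num) (by norm_num) h0 h) id
    obtain ⟨w, hw⟩ := key C.rev hR
    exact ⟨C.rev.v, w, Or.inr (fun j => rfl), hw⟩

end Groth.Agent.S7353
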