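import Groth.Statements.S7354
import Groth.Agent.H3.NumChain
open Groth.Agent.H3

set_option autoImplicit false
open Finset
open Models Models.NumericalType

namespace Groth.Agent.S7354

/-- Let T be a numerical type on n indices, t > 5 with n > t, and i_1, …, i_t distinct (-2)-indices with
a_{i_j i_{j+1}} nonzero for j = 1, …, t - 1. Then, after possibly reversing the order of the
indices, for some integer w either (A) w_{i_1} = … = w_{i_t} = w and a_{i_j i_{j+1}} = w for all j;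
or (C) w_{i_1} = … = w_{i_{t-1}} = w, w_{i_t} = 2w, a_{i_j i_{j+1}} = w for j < t - 1 and a_{i_{t-1}
i_t} = 2w; or (B) w_{i_1} = … = w_{i_{t-1}} = 2w, w_{i_t} = w and a_{i_j i_{j+1}} = 2w for all j;
and in every case a_{i_j i_k} = 0 whenever k > j + 1. -/
theorem result {n : ℕ} (T : Models.NumericalType n) (t : ℕ) (ht : 5 < t) (hn : t < n)
    (v : Fin t ↪ Fin n) (hv : ∀ j, T.IsMinusTwo (v j))
    (hchain : ∀ j j' : Fin t, j'.val = j.val + 1 → T.a (v j) (v j') ≠ 0) :
    ∃ (u : Fin t → Fin n) (w : ℤ), ((∀ j, u j = v j) ∨ (∀ j, u j = v (Fin.rev j))) ∧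
      (∀ j k : Fin t, j.val + 1 < k.val → T.a (u j) (u k) = 0) ∧
      ((∀ j : Fin t, T.w (u j) = w) ∧ (∀ j j' : Fin t, j'.val = j.val + 1 → T.a (u j) (u j') = w) ∨
        ((∀ j : Fin t, j.val + 1 < t → T.w (u j) = w) ∧ (∀ j : Fin t, j.val + 1 = t → T.w (u j) = 2 * w) ∧
          (∀ j j' : Fin t, j'.val = j.val + 1 → j'.val + 1 < t → T.a (u j) (u j') = w) ∧
          (∀ j j' : Fin t, j'.val = j.val + 1 → j'.val + 1 = t → T.a (u j) (u j') = 2 * w)) ∨
        ((∀ j : Fin t, j.val + 1 < t → T.w (u j) = 2 * w) ∧ (∀ j : Fin t, j.val + 1 = t → T.w (u j) = w) ∧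
          (∀ j j' : Fin t, j'.val = j.val + 1 → T.a (u j) (u j') = 2 * w))) := by
  classical
  let C : Chain T t := { v := v, lt := hn, m2 := hv, adj := hchain }
  have key : ∀ D : Chain T t, D.P 0 = 1 → ∃ w : ℤ,
      (∀ j k : Fin t, j.val + 1 < k.val → T.a (D.v j) (D.v k) = 0) ∧
      ((∀ j : Fin t, T.w (D.v j) = w) ∧ (∀ j j' : Fin t, j'.val = j.val + 1 → T.a (D.v j) (D.v j') = w) ∨
        ((∀ j : Fin t, j.val + 1 < t → T.w (D.v j) = w) ∧ (∀ j : Fin t, j.val + 1 = t → T.w (D.v j) = 2 * w) ∧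
          (∀ j j' : Fin t, j'.val = j.val + 1 → j'.val + 1 < t → T.a (D.v j) (D.v j') = w) ∧
          (∀ j j' : Fin t, j'.val = j.val + 1 → j'.val + 1 = t → T.a (D.v j) (D.v j') = 2 * w)) ∨
        ((∀ j : Fin t, j.val + 1 < t → T.w (D.v j) = 2 * w) ∧ (∀ j : Fin t, j.val + 1 = t → T.w (D.v j) = w) ∧
          (∀ j j' : Fin t, j'.val = j.val + 1 → T.a (D.v j) (D.v j') = 2 * w))) := by
    intro D h0
    have hWe : ∀ j : Fin t, T.w (D.v j) = D.W j.val := fun j => (D.W_eq j.isLt).symm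
    obtain ⟨w, h⟩ := D.finalLong (by omega) h0
    refine ⟨w, ?_, ?_⟩
    · intro j k hjk
      have := D.no_chord hjk k.isLt
      rw [D.V_of_lt j.isLt, D.V_of_lt k.isLt] at this
      exact this
    · rcases h with ⟨h1, h2⟩ | ⟨h1, h2, h3, h4⟩ | ⟨h1, h2, h3⟩
      · refine Or.inl ⟨fun j => ?_, fun j j' hj => ?_⟩
        · rw [hWe]; exact h1 _ j.isLt
        · rw [D.A_eq' j j' hj]; exact h2 _ (by omega)
      · refine Or.inr (Or.inl ⟨fun j hj => ?_, fun j hj => ?_, fun j j' hj hj' => ?_,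
          fun j j' hj hj' => ?_⟩)
        · rw [hWe]; exact h1 _ hj
        · rw [hWe, show j.val = t - 1 by omega]; exact h2
        · rw [D.A_eq' j j' hj]; exact h3 _ (by omega)
        · rw [D.A_eq' j j' hj, show j.val = t - 2 by omega]; exact h4
      · refine Or.inr (Or.inr ⟨fun j hj => ?_, fun j hj => ?_, fun j j' hj => ?_⟩)
        · rw [hWe]; exact h1 _ hj
        · rw [hWe, show j.val = t - 1 by omega]; exact h2
        · rw [D.A_eq' j j' hj]; exact h3 _ (by omega)
  by_cases hC : C.P 0 = 1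
  · obtain ⟨w, hw1, hw2⟩ := key C hC
    exact ⟨C.v, w, Or.inl (fun j => rfl), hw1, hw2⟩
  · have hR : C.rev.P 0 = 1 := by
      rw [C.rev_P (show 0 + 1 < t by omega)]
      have h0 : C.P 0 = 2 := by
        rcases C.P_le_two (by omega) (show 0 + 1 < t by omega) with h | h
        · exact absurd h hC
        · exact h
      rcases C.P_le_two (by omega) (show t - 2 - 0 + 1 < t by omega) with h | h
      · exact h
      · exact absurd (C.double_unique (by omega) (show 0 < t - 2 - 0 by omega) (by omega) h0 h) id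
    obtain ⟨w, hw1, hw2⟩ := key C.rev hR
    exact ⟨C.rev.v, w, Or.inr (fun j => rfl), hw1, hw2⟩

end Groth.Agent.S7354
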