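import Groth.Statements.S7355
import Groth.Agent.H3.NumChain
import Groth.Agent.S7346
open Groth.Agent.H3

set_option autoImplicit false
open Finset
open Models Models.NumericalType

namespace Groth.Agent.S7355

/-- Classification of proper subgraphs of type D: let T be a numerical type on n indices, t > 4 with n >
t + 1, and i_1, …, i_{t+1} distinct (-2)-indices such that a_{i_j i_{j+1}} is nonzero for j = 1, …,
t - 1 and a_{i_{t-1} i_{t+1}} is nonzero. Then for some integer w one has w_{i_1} = … = w_{i_{t+1}}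
= w, a_{i_j i_{j+1}} = w for j < t, a_{i_{t-1} i_{t+1}} = w, and a_{i_j i_k} = 0 for all other pairs
j ≠ k. -/
theorem result {n : ℕ} (T : Models.NumericalType n) (t : ℕ) (ht : 4 < t) (hn : t + 1 < n)
    (v : Fin (t + 1) ↪ Fin n) (hv : ∀ j, T.IsMinusTwo (v j))
    (hchain : ∀ j j' : Fin (t + 1), j'.val = j.val + 1 → j'.val < t → T.a (v j) (v j') ≠ 0)
    (hbranch : ∀ j j' : Fin (t + 1), j.val + 2 = t → j'.val = t → T.a (v j) (v j') ≠ 0) :
    ∃ w : ℤ, (∀ j : Fin (t + 1), T.w (v j) = w) ∧
      (∀ j j' : Fin (t + 1), j'.val = j.val + 1 → j'.val < t → T.a (v j) (v j') = w) ∧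
      (∀ j j' : Fin (t + 1), j.val + 2 = t → j'.val = t → T.a (v j) (v j') = w) ∧
      (∀ j k : Fin (t + 1), j.val < k.val → ¬ (k.val = j.val + 1 ∧ k.val < t) → ¬ (j.val + 2 = t ∧ k.val = t) →
        T.a (v j) (v k) = 0) := by
  classical
  have hs : ∀ a b, T.a (v a) (v b) = T.a (v b) (v a) := fun a b => (T.symm.apply _ _).symm
  -- the chain 0, …, t-1
  let C0 : Chain T t :=
    { v := Fin.castSuccEmb.trans v
      lt := by omega
      m2 := fun j => hv _
      adj := fun j j' h => hchain (Fin.castSucc j) (Fin.castSucc j') h j'.isLt }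
  have C0v : ∀ (i : ℕ) (hi : i < t), C0.v ⟨i, hi⟩ = v ⟨i, by omega⟩ := fun i hi => rfl
  -- the chain 0, …, t-2, t
  let g1 : Fin t → Fin (t + 1) := fun j => if j.val + 1 < t then ⟨j.val, by omega⟩ else ⟨t, by omega⟩
  have g1inj : Function.Injective g1 := by
    intro a b hab
    simp only [g1] at hab
    apply Fin.ext
    split_ifs at hab with h1 h2 h2 <;> simp only [Fin.mk.injEq] at hab <;> omega
  have g1lo : ∀ (i : ℕ) (hi : i < t), i + 1 < t → g1 ⟨i, hi⟩ = ⟨i, by omega⟩ := by
    intro i hi h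
    simp only [g1]
    rw [if_pos h]
  have g1hi : ∀ (i : ℕ) (hi : i < t), ¬ (i + 1 < t) → g1 ⟨i, hi⟩ = ⟨t, by omega⟩ := by
    intro i hi h
    simp only [g1]
    rw [if_neg h]
  let C1 : Chain T t :=
    { v := (⟨g1, g1inj⟩ : Fin t ↪ Fin (t + 1)).trans v
      lt := by omega
      m2 := fun j => hv _
      adj := by
        rintro ⟨j, hj⟩ ⟨j', hj'⟩ h
        simp only at h
        show T.a (v (g1 ⟨j, hj⟩)) (v (g1 ⟨j', hj'⟩)) ≠ 0
        by_cases c : j' + 1 < t
        · rw [g1lo j hj (by omega), g1lo j' hj' c]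
          exact hchain _ _ h (by simp only; omega)
        · rw [g1lo j hj (by omega), g1hi j' hj' c]
          exact hbranch _ _ (by simp only; omega) rfl }
  have C1v : ∀ (i : ℕ) (hi : i < t), C1.v ⟨i, hi⟩ = v (g1 ⟨i, hi⟩) := fun i hi => rfl
  -- the D4 configuration around t-2
  let g4 : Fin 4 → Fin (t + 1) :=
    ![⟨t - 2, by omega⟩, ⟨t - 3, by omega⟩, ⟨t - 1, by omega⟩, ⟨t, by omega⟩]
  have g4inj : Function.Injective g4 := by
    intro a b hab
    fin_cases a <;> fin_cases b <;> simp [g4, Fin.ext_iff] at hab ⊢ <;> omega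
  let u : Fin 4 ↪ Fin n := (⟨g4, g4inj⟩ : Fin 4 ↪ Fin (t + 1)).trans v
  have u0 : u 0 = v ⟨t - 2, by omega⟩ := rfl
  have u1 : u 1 = v ⟨t - 3, by omega⟩ := rfl
  have u2 : u 2 = v ⟨t - 1, by omega⟩ := rfl
  have u3 : u 3 = v ⟨t, by omega⟩ := rfl
  have h4 := Groth.Agent.S7346.result T (by omega) u (fun j => hv _)
    (by rw [u0, u1, hs]; exact hchain _ _ (by simp only; omega) (by simp only; omega))
    (by rw [u0, u2]; exact hchain _ _ (by simp only; omega) (by simp only; omega))
    (by rw [u0, u3]; exact hbranch _ _ (by simp only; omega) rfl)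
  obtain ⟨w, hw, e01, e02, e03, z12, z13, z23, -⟩ := h4
  rw [u0, u1] at e01
  rw [u0, u2] at e02
  rw [u0, u3] at e03
  rw [u1, u2] at z12
  rw [u1, u3] at z13
  rw [u2, u3] at z23
  have w0 := hw 0
  have w1 := hw 1
  have w2 := hw 2
  have w3 := hw 3
  rw [u0] at w0
  rw [u1] at w1
  rw [u2] at w2
  rw [u3] at w3
  have hwpos : 0 < w := by rw [← w0]; exact T.w_pos _
  have aC0 : ∀ (i j : ℕ) (hi : i < t) (hj : j < t), j = i + 1 →
      T.a (v ⟨i, by omega⟩) (v ⟨j, by omega⟩) = C0.A i := by
    intro i j hi hj h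
    subst h
    rw [C0.A_eq hj]
    rfl
  have wC0 : ∀ (i : ℕ) (hi : i < t), T.w (v ⟨i, by omega⟩) = C0.W i := by
    intro i hi
    rw [C0.W_eq hi]
    rfl
  have W_tm2 : C0.W (t - 2) = w := by rw [← wC0 _ (by omega)]; exact w0
  have W_tm1 : C0.W (t - 1) = w := by rw [← wC0 _ (by omega)]; exact w2
  have A_last : C0.A (t - 2) = w := by
    rw [← aC0 (t - 2) (t - 1) (by omega) (by omega) (by omega)]; exact e02
  have P_last : C0.P (t - 2) = 1 := by
    have e1 := C0.A_eq_p (t - 2)
    have e2 := C0.A_eq_q (t - 2)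
    rw [show t - 2 + 1 = t - 1 by omega, W_tm1, A_last] at e2
    rw [W_tm2, A_last] at e1
    have hp : C0.p (t - 2) = 1 := by
      have : w * C0.p (t - 2) = w * 1 := by linarith
      exact mul_left_cancel₀ hwpos.ne' this
    have hq : C0.q (t - 2) = 1 := by
      have : w * C0.q (t - 2) = w * 1 := by linarith
      exact mul_left_cancel₀ hwpos.ne' this
    unfold Chain.P
    rw [hp, hq]; norm_num
  have P_first : C0.P 0 = 1 := by
    rcases C0.P_le_two (by omega) (show 0 + 1 < t by omega) with h | h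
    · exact h
    exfalso
    have hone : ∀ j, 1 ≤ j → j + 1 < t → C0.P j = 1 := by
      intro j hj hjt
      rcases C0.P_le_two (by omega) hjt with h' | h'
      · exact h'
      · exact absurd (C0.double_unique (by omega) (show 0 < j by omega) hjt h h') id
    have hWA := C0.W_A_const hone
    have hW1 : C0.W 1 = w := by rw [← (hWA (t - 2) (by omega) (by omega)).1]; exact W_tm2
    have hp0 := C0.p_pos (show 0 + 1 < t by omega)
    have hq0 := C0.q_pos (show 0 + 1 < t by omega)
    have hpq : C0.p 0 * C0.q 0 = 2 := h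
    have wv : ∀ (i : ℕ) (hi : i < t + 1), 1 ≤ i → T.w (v ⟨i, hi⟩) = w := by
      intro i hi h1
      by_cases c : i < t
      · rw [wC0 i c, (hWA i h1 c).1, hW1]
      · have : i = t := by omega
        subst this
        exact w3
    have dg : ∀ (i : ℕ) (hi : i < t + 1), T.a (v ⟨i, hi⟩) (v ⟨i, hi⟩) = -2 * T.w (v ⟨i, hi⟩) :=
      fun i hi => (hv _).2
    have e_chain : ∀ (i j : ℕ) (hi : i < t + 1) (hj : j < t + 1), 1 ≤ i → j = i + 1 → j < t →
        T.a (v ⟨i, hi⟩) (v ⟨j, hj⟩) = w := by
      intro i j hi hj h1 hij hjt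
      rw [aC0 i j (by omega) hjt hij, (hWA i h1 (by omega)).2 (by omega), hW1]
    have e_first1 : T.a (v ⟨0, by omega⟩) (v ⟨1, by omega⟩) = C0.W 0 * C0.p 0 := by
      rw [aC0 0 1 (by omega) (by omega) rfl]; exact C0.A_eq_p 0
    have e_first2 : T.a (v ⟨0, by omega⟩) (v ⟨1, by omega⟩) = w * C0.q 0 := by
      rw [aC0 0 1 (by omega) (by omega) rfl, C0.A_eq_q 0, hW1]
    let X : ℕ → ℤ := fun j => if j = 0 then C0.p 0 else if j + 2 ≤ t then 2 else 1
    have X0 : X 0 = C0.p 0 := by simp [X]
    have X2 : ∀ j, 1 ≤ j → j + 2 ≤ t → X j = 2 := by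
      intro j h1 h2
      simp only [X]
      rw [if_neg (by omega), if_pos h2]
    have X1 : ∀ j, t < j + 2 → X j = 1 := by
      intro j h1
      simp only [X]
      rw [if_neg (by omega), if_neg (by omega)]
    let x : Fin (t + 1) → ℤ := fun j => X j.val
    have xv : ∀ (i : ℕ) (hi : i < t + 1), x ⟨i, hi⟩ = X i := fun _ _ => rfl
    have hx0 : ∀ j, 0 ≤ x j := by
      intro j
      simp only [x, X]
      split_ifs <;> linarith
    apply quad_excl T v hn x hx0
    · intro hz
      have := congrFun hz ⟨1, by omega⟩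
      rw [xv, X2 1 (by omega) (by omega)] at this
      simp at this
    · rintro ⟨i, hi⟩ hxi
      by_cases c0 : i = 0
      · subst c0
        have hge := row_ge T v x hx0 ⟨0, hi⟩ {⟨1, by omega⟩}
          (by simp only [Finset.mem_singleton, Fin.ext_iff]; omega)
        rw [Finset.sum_singleton, dg, wC0 0 (by omega), e_first1, xv, xv, X0,
          X2 1 (by omega) (by omega)] at hge
        have : -2 * C0.W 0 * C0.p 0 + C0.W 0 * C0.p 0 * 2 = 0 := by ring
        linarith
      by_cases c1 : i = 1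
      · subst c1
        have hge := row_ge T v x hx0 ⟨1, hi⟩ {⟨0, by omega⟩, ⟨2, by omega⟩}
          (by simp only [Finset.mem_insert, Finset.mem_singleton, Fin.ext_iff]; omega)
        rw [Finset.sum_pair (by simp only [ne_eq, Fin.ext_iff]; omega), dg, wv 1 hi (by omega),
          hs ⟨1, hi⟩ ⟨0, by omega⟩, e_first2,
          e_chain 1 2 hi (by omega) (by omega) rfl (by omega), xv, xv, xv, X0,
          X2 1 (by omega) (by omega), X2 2 (by omega) (by omega)] at hge
        have : -2 * w * 2 + (w * C0.q 0 * C0.p 0 + w * 2) = w * (C0.p 0 * C0.q 0 - 2) := by ring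
        rw [this, hpq] at hge
        linarith
      by_cases c2 : i + 3 ≤ t
      · have hge := row_ge T v x hx0 ⟨i, hi⟩ {⟨i - 1, by omega⟩, ⟨i + 1, by omega⟩}
          (by simp only [Finset.mem_insert, Finset.mem_singleton, Fin.ext_iff]; omega)
        rw [Finset.sum_pair (by simp only [ne_eq, Fin.ext_iff]; omega), dg, wv i hi (by omega),
          hs ⟨i, hi⟩ ⟨i - 1, by omega⟩,
          e_chain (i - 1) i (by omega) hi (by omega) (by omega) (by omega),
          e_chain i (i + 1) hi (by omega) (by omega) rfl (by omega), xv, xv, xv,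
          X2 i (by omega) (by omega), X2 (i - 1) (by omega) (by omega),
          X2 (i + 1) (by omega) (by omega)] at hge
        linarith
      by_cases c3 : i + 2 = t
      · have hge := row_ge T v x hx0 ⟨i, hi⟩
          {⟨i - 1, by omega⟩, ⟨i + 1, by omega⟩, ⟨t, by omega⟩}
          (by simp only [Finset.mem_insert, Finset.mem_singleton, Fin.ext_iff]; omega)
        have eb : T.a (v ⟨i, hi⟩) (v ⟨t, by omega⟩) = w := by
          have : (⟨i, hi⟩ : Fin (t + 1)) = ⟨t - 2, by omega⟩ := Fin.ext (by simp only; omega)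
          rw [this]; exact e03
        rw [Finset.sum_insert (by
            simp only [Finset.mem_insert, Finset.mem_singleton, Fin.ext_iff]; omega),
          Finset.sum_pair (by simp only [ne_eq, Fin.ext_iff]; omega), dg, wv i hi (by omega),
          hs ⟨i, hi⟩ ⟨i - 1, by omega⟩,
          e_chain (i - 1) i (by omega) hi (by omega) (by omega) (by omega),
          e_chain i (i + 1) hi (by omega) (by omega) rfl (by omega), eb, xv, xv, xv, xv,
          X2 i (by omega) (by omega), X2 (i - 1) (by omega) (by omega),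
          X1 (i + 1) (by omega), X1 t (by omega)] at hge
        linarith
      by_cases c4 : i + 1 = t
      · have hge := row_ge T v x hx0 ⟨i, hi⟩ {⟨i - 1, by omega⟩}
          (by simp only [Finset.mem_singleton, Fin.ext_iff]; omega)
        rw [Finset.sum_singleton, dg, wv i hi (by omega), hs ⟨i, hi⟩ ⟨i - 1, by omega⟩,
          e_chain (i - 1) i (by omega) hi (by omega) (by omega) (by omega), xv, xv,
          X1 i (by omega), X2 (i - 1) (by omega) (by omega)] at hge
        linarith
      · have hit : i = t := by omega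
        subst hit
        have hge := row_ge T v x hx0 ⟨i, hi⟩ {⟨i - 2, by omega⟩}
          (by simp only [Finset.mem_singleton, Fin.ext_iff]; omega)
        rw [Finset.sum_singleton, dg, wv i hi (by omega), hs ⟨i, hi⟩ ⟨i - 2, by omega⟩, e03, xv, xv,
          X1 i (by omega), X2 (i - 2) (by omega) (by omega)] at hge
        linarith
  have hone : ∀ j, j + 1 < t → C0.P j = 1 := by
    intro j hjt
    rcases C0.P_le_two (by omega) hjt with h' | h'
    · exact h'
    · rcases C0.double_at_end (by omega) hjt h' with rfl | h''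
      · rw [P_first] at h'; norm_num at h'
      · rw [show j = t - 2 by omega, P_last] at h'; norm_num at h'
  have hWA := C0.W_A_const (s := 0) (fun j _ hj => hone j hj)
  have hW0 : C0.W 0 = w := by rw [← (hWA (t - 2) (by omega) (by omega)).1]; exact W_tm2
  refine ⟨w, ?_, ?_, ?_, ?_⟩
  · rintro ⟨j, hj⟩
    by_cases c : j < t
    · rw [wC0 j c, (hWA j (by omega) c).1, hW0]
    · have : j = t := by omega
      subst this
      exact w3
  · rintro ⟨j, hj⟩ ⟨j', hj'⟩ h1 h2
    simp only at h1 h2
    rw [aC0 j j' (by omega) h2 h1, (hWA j (by omega) (by omega)).2 (by omega), hW0]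
  · rintro ⟨j, hj⟩ ⟨j', hj'⟩ h1 h2
    simp only at h1 h2
    have e1 : (⟨j, hj⟩ : Fin (t + 1)) = ⟨t - 2, by omega⟩ := Fin.ext (by simp only; omega)
    have e2 : (⟨j', hj'⟩ : Fin (t + 1)) = ⟨t, by omega⟩ := Fin.ext (by simp only; omega)
    rw [e1, e2]; exact e03
  · rintro ⟨j, hj⟩ ⟨k, hk⟩ hjk h1 h2
    simp only at hjk h1 h2
    by_cases c : k < t
    · have := C0.no_chord (j := j) (k := k) (by omega) c
      rw [C0.V_of_lt (by omega), C0.V_of_lt c] at this
      exact this
    · have hkt : k = t := by omega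
      subst hkt
      by_cases c1 : j + 1 = k
      · have e1 : (⟨j, hj⟩ : Fin (k + 1)) = ⟨k - 1, by omega⟩ := Fin.ext (by simp only; omega)
        rw [e1]; exact z23
      by_cases c3 : j + 3 = k
      · have e1 : (⟨j, hj⟩ : Fin (k + 1)) = ⟨k - 3, by omega⟩ := Fin.ext (by simp only; omega)
        rw [e1]; exact z13
      · have := C1.no_chord (j := j) (k := k - 1) (by omega) (by omega)
        rw [C1.V_of_lt (by omega), C1.V_of_lt (by omega), C1v, C1v, g1lo j (by omega) (by omega),
          g1hi (k - 1) (by omega) (by omega)] at this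
        exact this

end Groth.Agent.S7355
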