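import Groth.Statements.S7362
import Groth.Agent.H3.NumGenusOne
open Groth.Agent.H3

set_option autoImplicit false
open Finset
open Models Models.NumericalType

namespace Groth.Agent.S7362

/-- Genus one classification: case n = 2: let T be a minimal numerical type of genus 1 on two indices.
Then for some ordering i, j of the indices and some integers m, w, either m_i = m_j = m, a_ii = a_jj
= -2w, a_ij = 2w, w_i = w_j = w, g_i = g_j = 0; or m_i = 2m, m_j = m, a_ii = -2w, a_ij = 4w, a_jj =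
-8w, w_i = w, w_j = 4w, g_i = g_j = 0. Only the classification direction is stated. -/
theorem result (T : Models.NumericalType 2) (hmin : T.IsMinimal) (hg : T.genus = 1) :
    ∃ (i j : Fin 2) (m w : ℤ), i ≠ j ∧ T.g i = 0 ∧ T.g j = 0 ∧
      ((T.m i = m ∧ T.m j = m ∧ T.a i i = -2 * w ∧ T.a i j = 2 * w ∧ T.a j j = -2 * w ∧ T.w i = w ∧ T.w j = w) ∨
        (T.m i = 2 * m ∧ T.m j = m ∧ T.a i i = -2 * w ∧ T.a i j = 4 * w ∧ T.a j j = -8 * w ∧ T.w i = w ∧ T.w j = 4 * w)) := by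
  have h2 := all_minusTwo T hmin (by norm_num) hg
  have hs : T.a 1 0 = T.a 0 1 := T.symm.apply 0 1
  have row : ∀ i, T.a i 0 * T.m 0 + T.a i 1 * T.m 1 = 0 := by
    intro i
    have := congrFun T.mulVec_m i
    simpa [Matrix.mulVec, dotProduct, Fin.sum_univ_two] using this
  obtain ⟨p, hp⟩ := T.w_dvd 0 1
  obtain ⟨q, hq⟩ := T.w_dvd 1 0
  rw [hs] at hq
  have hw0 := T.w_pos 0
  have hw1 := T.w_pos 1
  have hm0 := T.m_pos 0
  have hm1 := T.m_pos 1
  have r0 := row 0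
  have r1 := row 1
  rw [(h2 0).2, hp] at r0
  rw [hs, (h2 1).2, hq] at r1
  have e0 : p * T.m 1 = 2 * T.m 0 := by
    have : T.w 0 * (p * T.m 1 - 2 * T.m 0) = 0 := by linarith
    rcases mul_eq_zero.mp this with h | h
    · exact absurd h hw0.ne'
    · linarith
  have e1 : q * T.m 0 = 2 * T.m 1 := by
    have : T.w 1 * (q * T.m 0 - 2 * T.m 1) = 0 := by linarith
    rcases mul_eq_zero.mp this with h | h
    · exact absurd h hw1.ne'
    · linarith
  have hp1 : 1 ≤ p := pos_of_mul_pos' _ _ hm1 (by rw [e0]; linarith)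
  have hq1 : 1 ≤ q := pos_of_mul_pos' _ _ hm0 (by rw [e1]; linarith)
  have hpq : p * q = 4 := by
    have h : (p * q - 4) * (T.m 0 * T.m 1) = 0 := by
      linear_combination (q * T.m 0) * e0 + (2 * T.m 0) * e1
    rcases mul_eq_zero.mp h with h | h
    · linarith
    · exact absurd h (mul_pos hm0 hm1).ne'
  have hp4 : p ≤ 4 := by nlinarith
  have hq4 : q ≤ 4 := by nlinarith
  have hcases : (p = 2 ∧ q = 2) ∨ (p = 4 ∧ q = 1) ∨ (p = 1 ∧ q = 4) := by
    interval_cases p <;> interval_cases q <;> omega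
  have d0 := (h2 0).2
  have d1 := (h2 1).2
  rcases hcases with ⟨rfl, rfl⟩ | ⟨rfl, rfl⟩ | ⟨rfl, rfl⟩
  · refine ⟨0, 1, T.m 0, T.w 0, by decide, (h2 0).1, (h2 1).1, Or.inl ⟨?_, ?_, ?_, ?_, ?_, ?_, ?_⟩⟩ <;>
      linarith
  · refine ⟨0, 1, T.m 1, T.w 0, by decide, (h2 0).1, (h2 1).1, Or.inr ⟨?_, ?_, ?_, ?_, ?_, ?_, ?_⟩⟩ <;>
      linarith
  · refine ⟨1, 0, T.m 0, T.w 1, by decide, (h2 1).1, (h2 0).1, Or.inr ⟨?_, ?_, ?_, ?_, ?_, ?_, ?_⟩⟩ <;>
      linarith

end Groth.Agent.S7362
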