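import Groth.Statements.S7363
import Groth.Agent.H3.NumGenusOne
open Groth.Agent.H3

set_option autoImplicit false
open Finset
open Models Models.NumericalType

namespace Groth.Agent.S7363

/-- Genus one classification: case n = 3: let T be a minimal numerical type of genus 1 on three indices.
Then all g = 0 and, for some ordering i, j, k of the indices and some integers m, w, the data (m; a;
w) is one of: (m,m,m; a_ii = a_jj = a_kk = -2w, a_ij = a_ik = a_jk = w; w,w,w); (m,2m,m; a_ii = -2w,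
a_ij = w, a_ik = 0, a_jj = -2w, a_jk = 3w, a_kk = -6w; w,w,3w); (m,2m,3m; a_ii = -6w, a_ij = 3w,
a_ik = 0, a_jj = -6w, a_jk = 3w, a_kk = -2w; 3w,3w,w); (2m,2m,m; a_ii = -2w, a_ij = 2w, a_ik = 0,
a_jj = -4w, a_jk = 4w, a_kk = -8w; w,2w,4w); (m,m,m; a_ii = -2w, a_ij = 2w, a_ik = 0, a_jj = -4w,
a_jk = 2w, a_kk = -2w; w,2w,w); (m,2m,m; a_ii = -4w, a_ij = 2w, a_ik = 0, a_jj = -2w, a_jk = 2w,
a_kk = -4w; 2w,w,2w). Only the classification direction is stated. -/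
theorem result (T : Models.NumericalType 3) (hmin : T.IsMinimal) (hg : T.genus = 1) :
    ∃ (i j k : Fin 3) (m w : ℤ), i ≠ j ∧ j ≠ k ∧ i ≠ k ∧ T.g i = 0 ∧ T.g j = 0 ∧ T.g k = 0 ∧
      ((T.m i = m ∧ T.m j = m ∧ T.m k = m ∧ T.a i i = -2 * w ∧ T.a j j = -2 * w ∧ T.a k k = -2 * w ∧
          T.a i j = w ∧ T.a i k = w ∧ T.a j k = w ∧ T.w i = w ∧ T.w j = w ∧ T.w k = w) ∨
        (T.m i = m ∧ T.m j = 2 * m ∧ T.m k = m ∧ T.a i i = -2 * w ∧ T.a i j = w ∧ T.a i k = 0 ∧ T.a j j = -2 * w ∧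
          T.a j k = 3 * w ∧ T.a k k = -6 * w ∧ T.w i = w ∧ T.w j = w ∧ T.w k = 3 * w) ∨
        (T.m i = m ∧ T.m j = 2 * m ∧ T.m k = 3 * m ∧ T.a i i = -6 * w ∧ T.a i j = 3 * w ∧ T.a i k = 0 ∧ T.a j j = -6 * w ∧
          T.a j k = 3 * w ∧ T.a k k = -2 * w ∧ T.w i = 3 * w ∧ T.w j = 3 * w ∧ T.w k = w) ∨
        (T.m i = 2 * m ∧ T.m j = 2 * m ∧ T.m k = m ∧ T.a i i = -2 * w ∧ T.a i j = 2 * w ∧ T.a i k = 0 ∧ T.a j j = -4 * w ∧
          T.a j k = 4 * w ∧ T.a k k = -8 * w ∧ T.w i = w ∧ T.w j = 2 * w ∧ T.w k = 4 * w) ∨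
        (T.m i = m ∧ T.m j = m ∧ T.m k = m ∧ T.a i i = -2 * w ∧ T.a i j = 2 * w ∧ T.a i k = 0 ∧ T.a j j = -4 * w ∧
          T.a j k = 2 * w ∧ T.a k k = -2 * w ∧ T.w i = w ∧ T.w j = 2 * w ∧ T.w k = w) ∨
        (T.m i = m ∧ T.m j = 2 * m ∧ T.m k = m ∧ T.a i i = -4 * w ∧ T.a i j = 2 * w ∧ T.a i k = 0 ∧ T.a j j = -2 * w ∧
          T.a j k = 2 * w ∧ T.a k k = -4 * w ∧ T.w i = 2 * w ∧ T.w j = w ∧ T.w k = 2 * w)) := by
  classical
  have h2 := all_minusTwo T hmin (by norm_num) hg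
  have hs : ∀ i j, T.a i j = T.a j i := fun i j => (T.symm.apply i j).symm
  have rowijk : ∀ (i j k : Fin 3), i ≠ j → j ≠ k → i ≠ k → ∀ l,
      T.a l i * T.m i + T.a l j * T.m j + T.a l k * T.m k = 0 := by
    intro i j k hij hjk hik l
    have huniv : (Finset.univ : Finset (Fin 3)) = {i, j, k} := by
      ext x
      simp only [Finset.mem_univ, Finset.mem_insert, Finset.mem_singleton, true_iff,
        Fin.ext_iff, ne_eq] at *
      omega
    have := congrFun T.mulVec_m l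
    simp only [Matrix.mulVec, dotProduct, Pi.zero_apply] at this
    rw [huniv, Finset.sum_insert (by
      simp only [Finset.mem_insert, Finset.mem_singleton, not_or]; exact ⟨hij, hik⟩),
      Finset.sum_pair hjk] at this
    linarith
  have hcases : ∀ p q r s : ℤ, 1 ≤ p → 1 ≤ q → 1 ≤ r → 1 ≤ s → p * q + r * s = 4 →
      (p = 1 ∧ q = 1 ∧ r = 3 ∧ s = 1) ∨ (p = 1 ∧ q = 1 ∧ r = 1 ∧ s = 3) ∨
      (p = 3 ∧ q = 1 ∧ r = 1 ∧ s = 1) ∨ (p = 1 ∧ q = 3 ∧ r = 1 ∧ s = 1) ∨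
      (p = 2 ∧ q = 1 ∧ r = 1 ∧ s = 2) ∨ (p = 2 ∧ q = 1 ∧ r = 2 ∧ s = 1) ∨
      (p = 1 ∧ q = 2 ∧ r = 1 ∧ s = 2) ∨ (p = 1 ∧ q = 2 ∧ r = 2 ∧ s = 1) := by
    intro p q r s hp hq hr hs' h
    have h1 : p ≤ 3 := by nlinarith
    have h2 : q ≤ 3 := by nlinarith
    have h3 : r ≤ 3 := by nlinarith
    have h4 : s ≤ 3 := by nlinarith
    interval_cases p <;> interval_cases q <;> interval_cases r <;> interval_cases s <;> omega
  -- the path case
  have path : ∀ (i j k : Fin 3), i ≠ j → j ≠ k → i ≠ k → T.a i k = 0 →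
      ∃ (i j k : Fin 3) (m w : ℤ), i ≠ j ∧ j ≠ k ∧ i ≠ k ∧ T.g i = 0 ∧ T.g j = 0 ∧ T.g k = 0 ∧
      ((T.m i = m ∧ T.m j = m ∧ T.m k = m ∧ T.a i i = -2 * w ∧ T.a j j = -2 * w ∧ T.a k k = -2 * w ∧
          T.a i j = w ∧ T.a i k = w ∧ T.a j k = w ∧ T.w i = w ∧ T.w j = w ∧ T.w k = w) ∨
        (T.m i = m ∧ T.m j = 2 * m ∧ T.m k = m ∧ T.a i i = -2 * w ∧ T.a i j = w ∧ T.a i k = 0 ∧ T.a j j = -2 * w ∧
          T.a j k = 3 * w ∧ T.a k k = -6 * w ∧ T.w i = w ∧ T.w j = w ∧ T.w k = 3 * w) ∨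
        (T.m i = m ∧ T.m j = 2 * m ∧ T.m k = 3 * m ∧ T.a i i = -6 * w ∧ T.a i j = 3 * w ∧ T.a i k = 0 ∧ T.a j j = -6 * w ∧
          T.a j k = 3 * w ∧ T.a k k = -2 * w ∧ T.w i = 3 * w ∧ T.w j = 3 * w ∧ T.w k = w) ∨
        (T.m i = 2 * m ∧ T.m j = 2 * m ∧ T.m k = m ∧ T.a i i = -2 * w ∧ T.a i j = 2 * w ∧ T.a i k = 0 ∧ T.a j j = -4 * w ∧
          T.a j k = 4 * w ∧ T.a k k = -8 * w ∧ T.w i = w ∧ T.w j = 2 * w ∧ T.w k = 4 * w) ∨
        (T.m i = m ∧ T.m j = m ∧ T.m k = m ∧ T.a i i = -2 * w ∧ T.a i j = 2 * w ∧ T.a i k = 0 ∧ T.a j j = -4 * w ∧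
          T.a j k = 2 * w ∧ T.a k k = -2 * w ∧ T.w i = w ∧ T.w j = 2 * w ∧ T.w k = w) ∨
        (T.m i = m ∧ T.m j = 2 * m ∧ T.m k = m ∧ T.a i i = -4 * w ∧ T.a i j = 2 * w ∧ T.a i k = 0 ∧ T.a j j = -2 * w ∧
          T.a j k = 2 * w ∧ T.a k k = -4 * w ∧ T.w i = 2 * w ∧ T.w j = w ∧ T.w k = 2 * w)) := by
    intro i j k hij hjk hik hz
    have hwi := T.w_pos i
    have hwj := T.w_pos j
    have hwk := T.w_pos k
    have hmi := T.m_pos i
    have hmj := T.m_pos j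
    have hmk := T.m_pos k
    obtain ⟨p, hp⟩ := T.w_dvd i j
    obtain ⟨q, hq⟩ := T.w_dvd j i
    obtain ⟨r, hr⟩ := T.w_dvd j k
    obtain ⟨s, hs'⟩ := T.w_dvd k j
    have hji : T.a j i = T.a i j := hs j i
    have hkj : T.a k j = T.a j k := hs k j
    have hki : T.a k i = 0 := by rw [hs k i]; exact hz
    rw [hji] at hq
    rw [hkj] at hs'
    have di := (h2 i).2
    have dj := (h2 j).2
    have dk := (h2 k).2
    have ri := rowijk i j k hij hjk hik i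
    have rj := rowijk i j k hij hjk hik j
    have rk := rowijk i j k hij hjk hik k
    rw [di, hz, hp] at ri
    rw [hji, dj, hq, hr] at rj
    rw [hki, hkj, dk, hs'] at rk
    have e0 : p * T.m j = 2 * T.m i := by
      have : T.w i * (p * T.m j - 2 * T.m i) = 0 := by linarith
      rcases mul_eq_zero.mp this with h | h
      · exact absurd h hwi.ne'
      · linarith
    have e2 : s * T.m j = 2 * T.m k := by
      have : T.w k * (s * T.m j - 2 * T.m k) = 0 := by linarith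
      rcases mul_eq_zero.mp this with h | h
      · exact absurd h hwk.ne'
      · linarith
    have hp1 : 1 ≤ p := pos_of_mul_pos' _ _ hmj (by rw [e0]; linarith)
    have hs1 : 1 ≤ s := pos_of_mul_pos' _ _ hmj (by rw [e2]; linarith)
    have hq1 : 1 ≤ q := by
      have : 0 < T.w j * q := by rw [← hq, hp]; positivity
      by_contra hc
      push Not at hc
      have : q ≤ 0 := by omega
      nlinarith
    have hr1 : 1 ≤ r := by
      have : 0 < T.w j * r := by rw [← hr, hs']; positivity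
      by_contra hc
      push Not at hc
      have : r ≤ 0 := by omega
      nlinarith
    have e1 : q * T.m i + r * T.m k = 2 * T.m j := by
      have h1 : T.w j * q * T.m i = T.w j * (q * T.m i) := by ring
      have : T.w j * (q * T.m i + r * T.m k - 2 * T.m j) = 0 := by
        have h2' : T.w j * (q * T.m i + r * T.m k - 2 * T.m j) =
          T.w j * q * T.m i + -2 * T.w j * T.m j + T.w j * r * T.m k := by ring
        rw [h2']; linarith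
      rcases mul_eq_zero.mp this with h | h
      · exact absurd h hwj.ne'
      · linarith
    have hsum : p * q + r * s = 4 := by
      have h : (p * q + r * s - 4) * T.m j = 0 := by
        linear_combination q * e0 + r * e2 + 2 * e1
      rcases mul_eq_zero.mp h with h | h
      · linarith
      · exact absurd h hmj.ne'
    have gi := (h2 i).1
    have gj := (h2 j).1
    have gk := (h2 k).1
    rcases hcases p q r s hp1 hq1 hr1 hs1 hsum with ⟨rfl, rfl, rfl, rfl⟩ | ⟨rfl, rfl, rfl, rfl⟩ |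
      ⟨rfl, rfl, rfl, rfl⟩ | ⟨rfl, rfl, rfl, rfl⟩ | ⟨rfl, rfl, rfl, rfl⟩ | ⟨rfl, rfl, rfl, rfl⟩ |
      ⟨rfl, rfl, rfl, rfl⟩ | ⟨rfl, rfl, rfl, rfl⟩
    · refine ⟨i, j, k, T.m i, T.w i, hij, hjk, hik, gi, gj, gk,
        Or.inr (Or.inl ⟨?_, ?_, ?_, ?_, ?_, ?_, ?_, ?_, ?_, ?_, ?_, ?_⟩)⟩ <;> linarith
    · refine ⟨i, j, k, T.m i, T.w k, hij, hjk, hik, gi, gj, gk,
        Or.inr (Or.inr (Or.inl ⟨?_, ?_, ?_, ?_, ?_, ?_, ?_, ?_, ?_, ?_, ?_, ?_⟩))⟩ <;> linarith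
    · refine ⟨k, j, i, T.m k, T.w i, hjk.symm, hij.symm, hik.symm, gk, gj, gi,
        Or.inr (Or.inr (Or.inl ⟨?_, ?_, ?_, ?_, ?_, ?_, ?_, ?_, ?_, ?_, ?_, ?_⟩))⟩ <;> linarith
    · refine ⟨k, j, i, T.m k, T.w k, hjk.symm, hij.symm, hik.symm, gk, gj, gi,
        Or.inr (Or.inl ⟨?_, ?_, ?_, ?_, ?_, ?_, ?_, ?_, ?_, ?_, ?_, ?_⟩)⟩ <;> linarith
    · refine ⟨i, j, k, T.m i, T.w i, hij, hjk, hik, gi, gj, gk,
        Or.inr (Or.inr (Or.inr (Or.inr (Or.inl ⟨?_, ?_, ?_, ?_, ?_, ?_, ?_, ?_, ?_, ?_, ?_, ?_⟩))))⟩ <;>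
        linarith
    · refine ⟨i, j, k, T.m k, T.w i, hij, hjk, hik, gi, gj, gk,
        Or.inr (Or.inr (Or.inr (Or.inl ⟨?_, ?_, ?_, ?_, ?_, ?_, ?_, ?_, ?_, ?_, ?_, ?_⟩)))⟩ <;>
        linarith
    · refine ⟨k, j, i, T.m i, T.w k, hjk.symm, hij.symm, hik.symm, gk, gj, gi,
        Or.inr (Or.inr (Or.inr (Or.inl ⟨?_, ?_, ?_, ?_, ?_, ?_, ?_, ?_, ?_, ?_, ?_, ?_⟩)))⟩ <;>
        linarith
    · refine ⟨i, j, k, T.m i, T.w j, hij, hjk, hik, gi, gj, gk,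
        Or.inr (Or.inr (Or.inr (Or.inr (Or.inr ⟨?_, ?_, ?_, ?_, ?_, ?_, ?_, ?_, ?_, ?_, ?_, ?_⟩))))⟩ <;>
        linarith
  by_cases h02 : T.a 0 2 = 0
  · exact path 0 1 2 (by decide) (by decide) (by decide) h02
  by_cases h01 : T.a 0 1 = 0
  · exact path 0 2 1 (by decide) (by decide) (by decide) h01
  by_cases h12 : T.a 1 2 = 0
  · exact path 1 0 2 (by decide) (by decide) (by decide) h12
  -- the triangle
  have n01 := T.offDiag_nonneg 0 1 (by decide)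
  have n02 := T.offDiag_nonneg 0 2 (by decide)
  have n12 := T.offDiag_nonneg 1 2 (by decide)
  have p01 : 0 < T.a 0 1 := lt_of_le_of_ne n01 (Ne.symm h01)
  have p02 : 0 < T.a 0 2 := lt_of_le_of_ne n02 (Ne.symm h02)
  have p12 : 0 < T.a 1 2 := lt_of_le_of_ne n12 (Ne.symm h12)
  obtain ⟨c01, e01⟩ := T.w_dvd 0 1
  obtain ⟨c10, e10⟩ := T.w_dvd 1 0
  obtain ⟨c02, e02⟩ := T.w_dvd 0 2
  obtain ⟨c20, e20⟩ := T.w_dvd 2 0
  obtain ⟨c12, e12⟩ := T.w_dvd 1 2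
  obtain ⟨c21, e21⟩ := T.w_dvd 2 1
  rw [hs 1 0] at e10
  rw [hs 2 0] at e20
  rw [hs 2 1] at e21
  have hw0 := T.w_pos 0
  have hw1 := T.w_pos 1
  have hw2 := T.w_pos 2
  have hm0 := T.m_pos 0
  have hm1 := T.m_pos 1
  have hm2 := T.m_pos 2
  have pos : ∀ w c : ℤ, 0 < w → 0 < w * c → 1 ≤ c := by
    intro w c hw hwc
    by_contra hc
    push Not at hc
    have : c ≤ 0 := by omega
    nlinarith
  have k01 := pos _ _ hw0 (e01 ▸ p01)
  have k10 := pos _ _ hw1 (e10 ▸ p01)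
  have k02 := pos _ _ hw0 (e02 ▸ p02)
  have k20 := pos _ _ hw2 (e20 ▸ p02)
  have k12 := pos _ _ hw1 (e12 ▸ p12)
  have k21 := pos _ _ hw2 (e21 ▸ p12)
  have r0 := rowijk 0 1 2 (by decide) (by decide) (by decide) 0
  have r1 := rowijk 0 1 2 (by decide) (by decide) (by decide) 1
  have r2 := rowijk 0 1 2 (by decide) (by decide) (by decide) 2
  rw [(h2 0).2, e01, e02] at r0
  rw [hs 1 0, (h2 1).2, e10, e12] at r1
  rw [hs 2 0, hs 2 1, (h2 2).2, e20, e21] at r2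
  have f0 : c01 * T.m 1 + c02 * T.m 2 = 2 * T.m 0 := by
    have : T.w 0 * (c01 * T.m 1 + c02 * T.m 2 - 2 * T.m 0) = 0 := by linarith
    rcases mul_eq_zero.mp this with h | h
    · exact absurd h hw0.ne'
    · linarith
  have f1 : c10 * T.m 0 + c12 * T.m 2 = 2 * T.m 1 := by
    have : T.w 1 * (c10 * T.m 0 + c12 * T.m 2 - 2 * T.m 1) = 0 := by linarith
    rcases mul_eq_zero.mp this with h | h
    · exact absurd h hw1.ne'
    · linarith
  have f2 : c20 * T.m 0 + c21 * T.m 1 = 2 * T.m 2 := by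
    have : T.w 2 * (c20 * T.m 0 + c21 * T.m 1 - 2 * T.m 2) = 0 := by linarith
    rcases mul_eq_zero.mp this with h | h
    · exact absurd h hw2.ne'
    · linarith
  have hsum : (c10 + c20 - 2) * T.m 0 + (c01 + c21 - 2) * T.m 1 + (c02 + c12 - 2) * T.m 2 = 0 := by
    linear_combination f0 + f1 + f2
  have t0 : 0 ≤ (c10 + c20 - 2) * T.m 0 := mul_nonneg (by linarith) hm0.le
  have t1 : 0 ≤ (c01 + c21 - 2) * T.m 1 := mul_nonneg (by linarith) hm1.le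
  have t2 : 0 ≤ (c02 + c12 - 2) * T.m 2 := mul_nonneg (by linarith) hm2.le
  have z0 : c10 + c20 - 2 = 0 := by
    have : (c10 + c20 - 2) * T.m 0 = 0 := by linarith
    rcases mul_eq_zero.mp this with h | h
    · exact h
    · exact absurd h hm0.ne'
  have z1 : c01 + c21 - 2 = 0 := by
    have : (c01 + c21 - 2) * T.m 1 = 0 := by linarith
    rcases mul_eq_zero.mp this with h | h
    · exact h
    · exact absurd h hm1.ne'
  have z2 : c02 + c12 - 2 = 0 := by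
    have : (c02 + c12 - 2) * T.m 2 = 0 := by linarith
    rcases mul_eq_zero.mp this with h | h
    · exact h
    · exact absurd h hm2.ne'
  have v01 : c01 = 1 := by omega
  have v10 : c10 = 1 := by omega
  have v02 : c02 = 1 := by omega
  have v20 : c20 = 1 := by omega
  have v12 : c12 = 1 := by omega
  have v21 : c21 = 1 := by omega
  subst v01 v10 v02 v20 v12 v21
  refine ⟨0, 1, 2, T.m 0, T.w 0, by decide, by decide, by decide, (h2 0).1, (h2 1).1, (h2 2).1,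
    Or.inl ⟨?_, ?_, ?_, ?_, ?_, ?_, ?_, ?_, ?_, ?_, ?_, ?_⟩⟩ <;>
    first | linarith [(h2 0).2, (h2 1).2, (h2 2).2]

end Groth.Agent.S7363
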