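import Groth.Statements.S7364
import Groth.Agent.H3.NumG4
open Groth.Agent.H3 Groth.Agent.H3.G4

set_option autoImplicit false
open Finset
open Models Models.NumericalType

namespace Groth.Agent.S7364

/-- Genus one classification: case n = 4: let T be a minimal numerical type of genus 1 on 4 indices.
Then all g_i = 0 and, for some permutation σ of the indices and some integers m, w, the
multiplicities, weights and intersection matrix (m_{σ(i)}, w_{σ(i)}, a_{σ(i)σ(j)}) are those of one
of the following 6 types: [four cycle] m = (m, m, m, m), w = (w, w, w, w), a = (-2 * w w 0 w / w -2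
* w w 0 / 0 w -2 * w w / w 0 w -2 * w); [up equal up] m = (2 * m, 2 * m, 2 * m, m), w = (w, 2 * w, 2
* w, 4 * w), a = (-2 * w 2 * w 0 0 / 2 * w -4 * w 2 * w 0 / 0 2 * w -4 * w 4 * w / 0 0 4 * w -8 *
w); [up equal down] m = (m, m, m, m), w = (w, 2 * w, 2 * w, w), a = (-2 * w 2 * w 0 0 / 2 * w -4 * w
2 * w 0 / 0 2 * w -4 * w 2 * w / 0 0 2 * w -2 * w); [down equal up] m = (m, 2 * m, 2 * m, m), w = (2
* w, w, w, 2 * w), a = (-4 * w 2 * w 0 0 / 2 * w -2 * w w 0 / 0 w -2 * w 2 * w / 0 0 2 * w -4 * w);
[triple with up] m = (2 * m, m, m, m), w = (w, w, w, 2 * w), a = (-2 * w w w 2 * w / w -2 * w 0 0 /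
w 0 -2 * w 0 / 2 * w 0 0 -4 * w); [triple with down] m = (2 * m, m, m, 2 * m), w = (2 * w, 2 * w, 2
* w, w), a = (-4 * w 2 * w 2 * w 2 * w / 2 * w -4 * w 0 0 / 2 * w 0 -4 * w 0 / 2 * w 0 0 -2 * w).
Only the classification direction is stated. -/
theorem result (T : Models.NumericalType 4) (hmin : T.IsMinimal) (hg : T.genus = 1) :
    (∀ i, T.g i = 0) ∧ ∃ (σ : Equiv.Perm (Fin 4)) (m w : ℤ),
      ((T.m (σ 0) = m ∧ T.m (σ 1) = m ∧ T.m (σ 2) = m ∧ T.m (σ 3) = m ∧ T.w (σ 0) = w ∧ T.w (σ 1) = w ∧ T.w (σ 2) = w ∧ T.w (σ 3) = w ∧ T.a (σ 0) (σ 0) = -2 * w ∧ T.a (σ 0) (σ 1) = w ∧ T.a (σ 0) (σ 2) = 0 ∧ T.a (σ 0) (σ 3) = w ∧ T.a (σ 1) (σ 1) = -2 * w ∧ T.a (σ 1) (σ 2) = w ∧ T.a (σ 1) (σ 3) = 0 ∧ T.a (σ 2) (σ 2) = -2 * w ∧ T.a (σ 2) (σ 3) = w ∧ T.a (σ 3) (σ 3) = -2 * w) ∨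
      (T.m (σ 0) = 2 * m ∧ T.m (σ 1) = 2 * m ∧ T.m (σ 2) = 2 * m ∧ T.m (σ 3) = m ∧ T.w (σ 0) = w ∧ T.w (σ 1) = 2 * w ∧ T.w (σ 2) = 2 * w ∧ T.w (σ 3) = 4 * w ∧ T.a (σ 0) (σ 0) = -2 * w ∧ T.a (σ 0) (σ 1) = 2 * w ∧ T.a (σ 0) (σ 2) = 0 ∧ T.a (σ 0) (σ 3) = 0 ∧ T.a (σ 1) (σ 1) = -4 * w ∧ T.a (σ 1) (σ 2) = 2 * w ∧ T.a (σ 1) (σ 3) = 0 ∧ T.a (σ 2) (σ 2) = -4 * w ∧ T.a (σ 2) (σ 3) = 4 * w ∧ T.a (σ 3) (σ 3) = -8 * w) ∨
      (T.m (σ 0) = m ∧ T.m (σ 1) = m ∧ T.m (σ 2) = m ∧ T.m (σ 3) = m ∧ T.w (σ 0) = w ∧ T.w (σ 1) = 2 * w ∧ T.w (σ 2) = 2 * w ∧ T.w (σ 3) = w ∧ T.a (σ 0) (σ 0) = -2 * w ∧ T.a (σ 0) (σ 1) = 2 * w ∧ T.a (σ 0) (σ 2) = 0 ∧ T.a (σ 0) (σ 3) = 0 ∧ T.a (σ 1) (σ 1) = -4 * w ∧ T.a (σ 1) (σ 2) = 2 * w ∧ T.a (σ 1) (σ 3) = 0 ∧ T.a (σ 2) (σ 2) = -4 * w ∧ T.a (σ 2) (σ 3) = 2 * w ∧ T.a (σ 3) (σ 3) = -2 * w) ∨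
      (T.m (σ 0) = m ∧ T.m (σ 1) = 2 * m ∧ T.m (σ 2) = 2 * m ∧ T.m (σ 3) = m ∧ T.w (σ 0) = 2 * w ∧ T.w (σ 1) = w ∧ T.w (σ 2) = w ∧ T.w (σ 3) = 2 * w ∧ T.a (σ 0) (σ 0) = -4 * w ∧ T.a (σ 0) (σ 1) = 2 * w ∧ T.a (σ 0) (σ 2) = 0 ∧ T.a (σ 0) (σ 3) = 0 ∧ T.a (σ 1) (σ 1) = -2 * w ∧ T.a (σ 1) (σ 2) = w ∧ T.a (σ 1) (σ 3) = 0 ∧ T.a (σ 2) (σ 2) = -2 * w ∧ T.a (σ 2) (σ 3) = 2 * w ∧ T.a (σ 3) (σ 3) = -4 * w) ∨
      (T.m (σ 0) = 2 * m ∧ T.m (σ 1) = m ∧ T.m (σ 2) = m ∧ T.m (σ 3) = m ∧ T.w (σ 0) = w ∧ T.w (σ 1) = w ∧ T.w (σ 2) = w ∧ T.w (σ 3) = 2 * w ∧ T.a (σ 0) (σ 0) = -2 * w ∧ T.a (σ 0) (σ 1) = w ∧ T.a (σ 0) (σ 2) = w ∧ T.a (σ 0) (σ 3) = 2 * w ∧ T.a (σ 1) (σ 1) = -2 * w ∧ T.a (σ 1) (σ 2) = 0 ∧ T.a (σ 1) (σ 3) = 0 ∧ T.a (σ 2) (σ 2) = -2 * w ∧ T.a (σ 2) (σ 3) = 0 ∧ T.a (σ 3) (σ 3) = -4 * w) ∨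
      (T.m (σ 0) = 2 * m ∧ T.m (σ 1) = m ∧ T.m (σ 2) = m ∧ T.m (σ 3) = 2 * m ∧ T.w (σ 0) = 2 * w ∧ T.w (σ 1) = 2 * w ∧ T.w (σ 2) = 2 * w ∧ T.w (σ 3) = w ∧ T.a (σ 0) (σ 0) = -4 * w ∧ T.a (σ 0) (σ 1) = 2 * w ∧ T.a (σ 0) (σ 2) = 2 * w ∧ T.a (σ 0) (σ 3) = 2 * w ∧ T.a (σ 1) (σ 1) = -4 * w ∧ T.a (σ 1) (σ 2) = 0 ∧ T.a (σ 1) (σ 3) = 0 ∧ T.a (σ 2) (σ 2) = -4 * w ∧ T.a (σ 2) (σ 3) = 0 ∧ T.a (σ 3) (σ 3) = -2 * w)) := by
  classical
  have h2 := all_minusTwo T hmin (by norm_num) hg
  refine ⟨fun i => (h2 i).1, ?_⟩
  -- dispatch over the possible graphs
  by_cases h01 : T.a 0 1 = 0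
  ·
    by_cases h02 : T.a 0 2 = 0
    ·
      by_cases h03 : T.a 0 3 = 0
      ·
        by_cases h12 : T.a 1 2 = 0
        ·
          by_cases h13 : T.a 1 3 = 0
          ·
            by_cases h23 : T.a 2 3 = 0
            ·
              obtain ⟨i, hi, j, hj, hij⟩ := T.connected {0} ⟨0, by decide⟩ (by decide)
              have hi' : i = 0 := by
                have : ∀ i : Fin 4, i ∈ ({0} : Finset (Fin 4)) → i = 0 := by decide
                exact this i hi
              have hj' : j = 1 ∨ j = 2 ∨ j = 3 := by
                have : ∀ j : Fin 4, j ∉ ({0} : Finset (Fin 4)) → j = 1 ∨ j = 2 ∨ j = 3 := by decide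
                exact this j hj
              subst hi'
              rcases hj' with rfl | rfl | rfl
              · exact (hij h01).elim
              · exact (hij h02).elim
              · exact (hij h03).elim
            ·
              obtain ⟨i, hi, j, hj, hij⟩ := T.connected {0} ⟨0, by decide⟩ (by decide)
              have hi' : i = 0 := by
                have : ∀ i : Fin 4, i ∈ ({0} : Finset (Fin 4)) → i = 0 := by decide
                exact this i hi
              have hj' : j = 1 ∨ j = 2 ∨ j = 3 := by
                have : ∀ j : Fin 4, j ∉ ({0} : Finset (Fin 4)) → j = 1 ∨ j = 2 ∨ j = 3 := by decide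
                exact this j hj
              subst hi'
              rcases hj' with rfl | rfl | rfl
              · exact (hij h01).elim
              · exact (hij h02).elim
              · exact (hij h03).elim
          ·
            by_cases h23 : T.a 2 3 = 0
            ·
              obtain ⟨i, hi, j, hj, hij⟩ := T.connected {0} ⟨0, by decide⟩ (by decide)
              have hi' : i = 0 := by
                have : ∀ i : Fin 4, i ∈ ({0} : Finset (Fin 4)) → i = 0 := by decide
                exact this i hi
              have hj' : j = 1 ∨ j = 2 ∨ j = 3 := by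
                have : ∀ j : Fin 4, j ∉ ({0} : Finset (Fin 4)) → j = 1 ∨ j = 2 ∨ j = 3 := by decide
                exact this j hj
              subst hi'
              rcases hj' with rfl | rfl | rfl
              · exact (hij h01).elim
              · exact (hij h02).elim
              · exact (hij h03).elim
            ·
              obtain ⟨i, hi, j, hj, hij⟩ := T.connected {0} ⟨0, by decide⟩ (by decide)
              have hi' : i = 0 := by
                have : ∀ i : Fin 4, i ∈ ({0} : Finset (Fin 4)) → i = 0 := by decide
                exact this i hi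
              have hj' : j = 1 ∨ j = 2 ∨ j = 3 := by
                have : ∀ j : Fin 4, j ∉ ({0} : Finset (Fin 4)) → j = 1 ∨ j = 2 ∨ j = 3 := by decide
                exact this j hj
              subst hi'
              rcases hj' with rfl | rfl | rfl
              · exact (hij h01).elim
              · exact (hij h02).elim
              · exact (hij h03).elim
        ·
          by_cases h13 : T.a 1 3 = 0
          ·
            by_cases h23 : T.a 2 3 = 0
            ·
              obtain ⟨i, hi, j, hj, hij⟩ := T.connected {0} ⟨0, by decide⟩ (by decide)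
              have hi' : i = 0 := by
                have : ∀ i : Fin 4, i ∈ ({0} : Finset (Fin 4)) → i = 0 := by decide
                exact this i hi
              have hj' : j = 1 ∨ j = 2 ∨ j = 3 := by
                have : ∀ j : Fin 4, j ∉ ({0} : Finset (Fin 4)) → j = 1 ∨ j = 2 ∨ j = 3 := by decide
                exact this j hj
              subst hi'
              rcases hj' with rfl | rfl | rfl
              · exact (hij h01).elim
              · exact (hij h02).elim
              · exact (hij h03).elim
            ·
              obtain ⟨i, hi, j, hj, hij⟩ := T.connected {0} ⟨0, by decide⟩ (by decide)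
              have hi' : i = 0 := by
                have : ∀ i : Fin 4, i ∈ ({0} : Finset (Fin 4)) → i = 0 := by decide
                exact this i hi
              have hj' : j = 1 ∨ j = 2 ∨ j = 3 := by
                have : ∀ j : Fin 4, j ∉ ({0} : Finset (Fin 4)) → j = 1 ∨ j = 2 ∨ j = 3 := by decide
                exact this j hj
              subst hi'
              rcases hj' with rfl | rfl | rfl
              · exact (hij h01).elim
              · exact (hij h02).elim
              · exact (hij h03).elim
          ·
            by_cases h23 : T.a 2 3 = 0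
            ·
              obtain ⟨i, hi, j, hj, hij⟩ := T.connected {0} ⟨0, by decide⟩ (by decide)
              have hi' : i = 0 := by
                have : ∀ i : Fin 4, i ∈ ({0} : Finset (Fin 4)) → i = 0 := by decide
                exact this i hi
              have hj' : j = 1 ∨ j = 2 ∨ j = 3 := by
                have : ∀ j : Fin 4, j ∉ ({0} : Finset (Fin 4)) → j = 1 ∨ j = 2 ∨ j = 3 := by decide
                exact this j hj
              subst hi'
              rcases hj' with rfl | rfl | rfl
              · exact (hij h01).elim
              · exact (hij h02).elim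
              · exact (hij h03).elim
            ·
              exact (notri T h2 1 2 3 (by decide) (by decide) (by decide) (P T _ _ (by decide) h12) (P T _ _ (by decide) h23) (P T _ _ (by decide) h13)).elim
      ·
        by_cases h12 : T.a 1 2 = 0
        ·
          by_cases h13 : T.a 1 3 = 0
          ·
            by_cases h23 : T.a 2 3 = 0
            ·
              obtain ⟨i, hi, j, hj, hij⟩ := T.connected {0, 3} ⟨0, by decide⟩ (by decide)
              have hi' : i = 0 ∨ i = 3 := by
                have : ∀ i : Fin 4, i ∈ ({0, 3} : Finset (Fin 4)) → i = 0 ∨ i = 3 := by decide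
                exact this i hi
              have hj' : j = 1 ∨ j = 2 := by
                have : ∀ j : Fin 4, j ∉ ({0, 3} : Finset (Fin 4)) → j = 1 ∨ j = 2 := by decide
                exact this j hj
              rcases hi' with rfl | rfl <;> rcases hj' with rfl | rfl
              · exact (hij h01).elim
              · exact (hij h02).elim
              · exact (hij (Z T _ _ h13)).elim
              · exact (hij (Z T _ _ h23)).elim
            ·
              obtain ⟨i, hi, j, hj, hij⟩ := T.connected {0, 2, 3} ⟨0, by decide⟩ (by decide)
              have hi' : i = 0 ∨ i = 2 ∨ i = 3 := by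
                have : ∀ i : Fin 4, i ∈ ({0, 2, 3} : Finset (Fin 4)) → i = 0 ∨ i = 2 ∨ i = 3 := by decide
                exact this i hi
              have hj' : j = 1 := by
                have : ∀ j : Fin 4, j ∉ ({0, 2, 3} : Finset (Fin 4)) → j = 1 := by decide
                exact this j hj
              subst hj'
              rcases hi' with rfl | rfl | rfl
              · exact (hij h01).elim
              · exact (hij (Z T _ _ h12)).elim
              · exact (hij (Z T _ _ h13)).elim
          ·
            by_cases h23 : T.a 2 3 = 0
            ·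
              obtain ⟨i, hi, j, hj, hij⟩ := T.connected {0, 1, 3} ⟨0, by decide⟩ (by decide)
              have hi' : i = 0 ∨ i = 1 ∨ i = 3 := by
                have : ∀ i : Fin 4, i ∈ ({0, 1, 3} : Finset (Fin 4)) → i = 0 ∨ i = 1 ∨ i = 3 := by decide
                exact this i hi
              have hj' : j = 2 := by
                have : ∀ j : Fin 4, j ∉ ({0, 1, 3} : Finset (Fin 4)) → j = 2 := by decide
                exact this j hj
              subst hj'
              rcases hi' with rfl | rfl | rfl
              · exact (hij h02).elim
              · exact (hij h12).elim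
              · exact (hij (Z T _ _ h23)).elim
            ·
              exact starL T h2 3 0 1 2 (by decide) (by decide) (by decide) (by decide) (by decide) (by decide) (P' T _ _ (by decide) h03) (P' T _ _ (by decide) h13) (P' T _ _ (by decide) h23) h01 h02 h12
        ·
          by_cases h13 : T.a 1 3 = 0
          ·
            by_cases h23 : T.a 2 3 = 0
            ·
              obtain ⟨i, hi, j, hj, hij⟩ := T.connected {0, 3} ⟨0, by decide⟩ (by decide)
              have hi' : i = 0 ∨ i = 3 := by
                have : ∀ i : Fin 4, i ∈ ({0, 3} : Finset (Fin 4)) → i = 0 ∨ i = 3 := by decide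
                exact this i hi
              have hj' : j = 1 ∨ j = 2 := by
                have : ∀ j : Fin 4, j ∉ ({0, 3} : Finset (Fin 4)) → j = 1 ∨ j = 2 := by decide
                exact this j hj
              rcases hi' with rfl | rfl <;> rcases hj' with rfl | rfl
              · exact (hij h01).elim
              · exact (hij h02).elim
              · exact (hij (Z T _ _ h13)).elim
              · exact (hij (Z T _ _ h23)).elim
            ·
              exact pathL T h2 0 3 2 1 (by decide) (by decide) (by decide) (by decide) (by decide) (by decide) (P T _ _ (by decide) h03) (P' T _ _ (by decide) h23) (P' T _ _ (by decide) h12) h02 h01 (Z T _ _ h13)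
          ·
            by_cases h23 : T.a 2 3 = 0
            ·
              exact pathL T h2 0 3 1 2 (by decide) (by decide) (by decide) (by decide) (by decide) (by decide) (P T _ _ (by decide) h03) (P' T _ _ (by decide) h13) (P T _ _ (by decide) h12) h01 h02 (Z T _ _ h23)
            ·
              exact (notri T h2 1 2 3 (by decide) (by decide) (by decide) (P T _ _ (by decide) h12) (P T _ _ (by decide) h23) (P T _ _ (by decide) h13)).elim
    ·
      by_cases h03 : T.a 0 3 = 0
      ·
        by_cases h12 : T.a 1 2 = 0
        ·
          by_cases h13 : T.a 1 3 = 0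
          ·
            by_cases h23 : T.a 2 3 = 0
            ·
              obtain ⟨i, hi, j, hj, hij⟩ := T.connected {0, 2} ⟨0, by decide⟩ (by decide)
              have hi' : i = 0 ∨ i = 2 := by
                have : ∀ i : Fin 4, i ∈ ({0, 2} : Finset (Fin 4)) → i = 0 ∨ i = 2 := by decide
                exact this i hi
              have hj' : j = 1 ∨ j = 3 := by
                have : ∀ j : Fin 4, j ∉ ({0, 2} : Finset (Fin 4)) → j = 1 ∨ j = 3 := by decide
                exact this j hj
              rcases hi' with rfl | rfl <;> rcases hj' with rfl | rfl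
              · exact (hij h01).elim
              · exact (hij h03).elim
              · exact (hij (Z T _ _ h12)).elim
              · exact (hij h23).elim
            ·
              obtain ⟨i, hi, j, hj, hij⟩ := T.connected {0, 2, 3} ⟨0, by decide⟩ (by decide)
              have hi' : i = 0 ∨ i = 2 ∨ i = 3 := by
                have : ∀ i : Fin 4, i ∈ ({0, 2, 3} : Finset (Fin 4)) → i = 0 ∨ i = 2 ∨ i = 3 := by decide
                exact this i hi
              have hj' : j = 1 := by
                have : ∀ j : Fin 4, j ∉ ({0, 2, 3} : Finset (Fin 4)) → j = 1 := by decide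
                exact this j hj
              subst hj'
              rcases hi' with rfl | rfl | rfl
              · exact (hij h01).elim
              · exact (hij (Z T _ _ h12)).elim
              · exact (hij (Z T _ _ h13)).elim
          ·
            by_cases h23 : T.a 2 3 = 0
            ·
              obtain ⟨i, hi, j, hj, hij⟩ := T.connected {0, 2} ⟨0, by decide⟩ (by decide)
              have hi' : i = 0 ∨ i = 2 := by
                have : ∀ i : Fin 4, i ∈ ({0, 2} : Finset (Fin 4)) → i = 0 ∨ i = 2 := by decide
                exact this i hi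
              have hj' : j = 1 ∨ j = 3 := by
                have : ∀ j : Fin 4, j ∉ ({0, 2} : Finset (Fin 4)) → j = 1 ∨ j = 3 := by decide
                exact this j hj
              rcases hi' with rfl | rfl <;> rcases hj' with rfl | rfl
              · exact (hij h01).elim
              · exact (hij h03).elim
              · exact (hij (Z T _ _ h12)).elim
              · exact (hij h23).elim
            ·
              exact pathL T h2 0 2 3 1 (by decide) (by decide) (by decide) (by decide) (by decide) (by decide) (P T _ _ (by decide) h02) (P T _ _ (by decide) h23) (P' T _ _ (by decide) h13) h03 h01 (Z T _ _ h12)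
        ·
          by_cases h13 : T.a 1 3 = 0
          ·
            by_cases h23 : T.a 2 3 = 0
            ·
              obtain ⟨i, hi, j, hj, hij⟩ := T.connected {0, 1, 2} ⟨0, by decide⟩ (by decide)
              have hi' : i = 0 ∨ i = 1 ∨ i = 2 := by
                have : ∀ i : Fin 4, i ∈ ({0, 1, 2} : Finset (Fin 4)) → i = 0 ∨ i = 1 ∨ i = 2 := by decide
                exact this i hi
              have hj' : j = 3 := by
                have : ∀ j : Fin 4, j ∉ ({0, 1, 2} : Finset (Fin 4)) → j = 3 := by decide
                exact this j hj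
              subst hj'
              rcases hi' with rfl | rfl | rfl
              · exact (hij h03).elim
              · exact (hij h13).elim
              · exact (hij h23).elim
            ·
              exact starL T h2 2 0 1 3 (by decide) (by decide) (by decide) (by decide) (by decide) (by decide) (P' T _ _ (by decide) h02) (P' T _ _ (by decide) h12) (P T _ _ (by decide) h23) h01 h03 h13
          ·
            by_cases h23 : T.a 2 3 = 0
            ·
              exact pathL T h2 0 2 1 3 (by decide) (by decide) (by decide) (by decide) (by decide) (by decide) (P T _ _ (by decide) h02) (P' T _ _ (by decide) h12) (P T _ _ (by decide) h13) h01 h03 h23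
            ·
              exact (notri T h2 1 2 3 (by decide) (by decide) (by decide) (P T _ _ (by decide) h12) (P T _ _ (by decide) h23) (P T _ _ (by decide) h13)).elim
      ·
        by_cases h12 : T.a 1 2 = 0
        ·
          by_cases h13 : T.a 1 3 = 0
          ·
            by_cases h23 : T.a 2 3 = 0
            ·
              obtain ⟨i, hi, j, hj, hij⟩ := T.connected {0, 2, 3} ⟨0, by decide⟩ (by decide)
              have hi' : i = 0 ∨ i = 2 ∨ i = 3 := by
                have : ∀ i : Fin 4, i ∈ ({0, 2, 3} : Finset (Fin 4)) → i = 0 ∨ i = 2 ∨ i = 3 := by decide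
                exact this i hi
              have hj' : j = 1 := by
                have : ∀ j : Fin 4, j ∉ ({0, 2, 3} : Finset (Fin 4)) → j = 1 := by decide
                exact this j hj
              subst hj'
              rcases hi' with rfl | rfl | rfl
              · exact (hij h01).elim
              · exact (hij (Z T _ _ h12)).elim
              · exact (hij (Z T _ _ h13)).elim
            ·
              exact (notri T h2 0 2 3 (by decide) (by decide) (by decide) (P T _ _ (by decide) h02) (P T _ _ (by decide) h23) (P T _ _ (by decide) h03)).elim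
          ·
            by_cases h23 : T.a 2 3 = 0
            ·
              exact pathL T h2 1 3 0 2 (by decide) (by decide) (by decide) (by decide) (by decide) (by decide) (P T _ _ (by decide) h13) (P' T _ _ (by decide) h03) (P T _ _ (by decide) h02) (Z T _ _ h01) h12 (Z T _ _ h23)
            ·
              exact (notri T h2 0 2 3 (by decide) (by decide) (by decide) (P T _ _ (by decide) h02) (P T _ _ (by decide) h23) (P T _ _ (by decide) h03)).elim
        ·
          by_cases h13 : T.a 1 3 = 0
          ·
            by_cases h23 : T.a 2 3 = 0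
            ·
              exact pathL T h2 1 2 0 3 (by decide) (by decide) (by decide) (by decide) (by decide) (by decide) (P T _ _ (by decide) h12) (P' T _ _ (by decide) h02) (P T _ _ (by decide) h03) (Z T _ _ h01) h13 h23
            ·
              exact (notri T h2 0 2 3 (by decide) (by decide) (by decide) (P T _ _ (by decide) h02) (P T _ _ (by decide) h23) (P T _ _ (by decide) h03)).elim
          ·
            by_cases h23 : T.a 2 3 = 0
            ·
              exact cycleL T h2 0 2 1 3 (by decide) (by decide) (by decide) (by decide) (by decide) (by decide) (P T _ _ (by decide) h02) (P' T _ _ (by decide) h12) (P T _ _ (by decide) h13) (P' T _ _ (by decide) h03) h01 h23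
            ·
              exact (notri T h2 0 2 3 (by decide) (by decide) (by decide) (P T _ _ (by decide) h02) (P T _ _ (by decide) h23) (P T _ _ (by decide) h03)).elim
  ·
    by_cases h02 : T.a 0 2 = 0
    ·
      by_cases h03 : T.a 0 3 = 0
      ·
        by_cases h12 : T.a 1 2 = 0
        ·
          by_cases h13 : T.a 1 3 = 0
          ·
            by_cases h23 : T.a 2 3 = 0
            ·
              obtain ⟨i, hi, j, hj, hij⟩ := T.connected {0, 1} ⟨0, by decide⟩ (by decide)
              have hi' : i = 0 ∨ i = 1 := by
                have : ∀ i : Fin 4, i ∈ ({0, 1} : Finset (Fin 4)) → i = 0 ∨ i = 1 := by decide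
                exact this i hi
              have hj' : j = 2 ∨ j = 3 := by
                have : ∀ j : Fin 4, j ∉ ({0, 1} : Finset (Fin 4)) → j = 2 ∨ j = 3 := by decide
                exact this j hj
              rcases hi' with rfl | rfl <;> rcases hj' with rfl | rfl
              · exact (hij h02).elim
              · exact (hij h03).elim
              · exact (hij h12).elim
              · exact (hij h13).elim
            ·
              obtain ⟨i, hi, j, hj, hij⟩ := T.connected {0, 1} ⟨0, by decide⟩ (by decide)
              have hi' : i = 0 ∨ i = 1 := by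
                have : ∀ i : Fin 4, i ∈ ({0, 1} : Finset (Fin 4)) → i = 0 ∨ i = 1 := by decide
                exact this i hi
              have hj' : j = 2 ∨ j = 3 := by
                have : ∀ j : Fin 4, j ∉ ({0, 1} : Finset (Fin 4)) → j = 2 ∨ j = 3 := by decide
                exact this j hj
              rcases hi' with rfl | rfl <;> rcases hj' with rfl | rfl
              · exact (hij h02).elim
              · exact (hij h03).elim
              · exact (hij h12).elim
              · exact (hij h13).elim
          ·
            by_cases h23 : T.a 2 3 = 0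
            ·
              obtain ⟨i, hi, j, hj, hij⟩ := T.connected {0, 1, 3} ⟨0, by decide⟩ (by decide)
              have hi' : i = 0 ∨ i = 1 ∨ i = 3 := by
                have : ∀ i : Fin 4, i ∈ ({0, 1, 3} : Finset (Fin 4)) → i = 0 ∨ i = 1 ∨ i = 3 := by decide
                exact this i hi
              have hj' : j = 2 := by
                have : ∀ j : Fin 4, j ∉ ({0, 1, 3} : Finset (Fin 4)) → j = 2 := by decide
                exact this j hj
              subst hj'
              rcases hi' with rfl | rfl | rfl
              · exact (hij h02).elim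
              · exact (hij h12).elim
              · exact (hij (Z T _ _ h23)).elim
            ·
              exact pathL T h2 0 1 3 2 (by decide) (by decide) (by decide) (by decide) (by decide) (by decide) (P T _ _ (by decide) h01) (P T _ _ (by decide) h13) (P' T _ _ (by decide) h23) h03 h02 h12
        ·
          by_cases h13 : T.a 1 3 = 0
          ·
            by_cases h23 : T.a 2 3 = 0
            ·
              obtain ⟨i, hi, j, hj, hij⟩ := T.connected {0, 1, 2} ⟨0, by decide⟩ (by decide)
              have hi' : i = 0 ∨ i = 1 ∨ i = 2 := by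
                have : ∀ i : Fin 4, i ∈ ({0, 1, 2} : Finset (Fin 4)) → i = 0 ∨ i = 1 ∨ i = 2 := by decide
                exact this i hi
              have hj' : j = 3 := by
                have : ∀ j : Fin 4, j ∉ ({0, 1, 2} : Finset (Fin 4)) → j = 3 := by decide
                exact this j hj
              subst hj'
              rcases hi' with rfl | rfl | rfl
              · exact (hij h03).elim
              · exact (hij h13).elim
              · exact (hij h23).elim
            ·
              exact pathL T h2 0 1 2 3 (by decide) (by decide) (by decide) (by decide) (by decide) (by decide) (P T _ _ (by decide) h01) (P T _ _ (by decide) h12) (P T _ _ (by decide) h23) h02 h03 h13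
          ·
            by_cases h23 : T.a 2 3 = 0
            ·
              exact starL T h2 1 0 2 3 (by decide) (by decide) (by decide) (by decide) (by decide) (by decide) (P' T _ _ (by decide) h01) (P T _ _ (by decide) h12) (P T _ _ (by decide) h13) h02 h03 h23
            ·
              exact (notri T h2 1 2 3 (by decide) (by decide) (by decide) (P T _ _ (by decide) h12) (P T _ _ (by decide) h23) (P T _ _ (by decide) h13)).elim
      ·
        by_cases h12 : T.a 1 2 = 0
        ·
          by_cases h13 : T.a 1 3 = 0
          ·
            by_cases h23 : T.a 2 3 = 0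
            ·
              obtain ⟨i, hi, j, hj, hij⟩ := T.connected {0, 1, 3} ⟨0, by decide⟩ (by decide)
              have hi' : i = 0 ∨ i = 1 ∨ i = 3 := by
                have : ∀ i : Fin 4, i ∈ ({0, 1, 3} : Finset (Fin 4)) → i = 0 ∨ i = 1 ∨ i = 3 := by decide
                exact this i hi
              have hj' : j = 2 := by
                have : ∀ j : Fin 4, j ∉ ({0, 1, 3} : Finset (Fin 4)) → j = 2 := by decide
                exact this j hj
              subst hj'
              rcases hi' with rfl | rfl | rfl
              · exact (hij h02).elim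
              · exact (hij h12).elim
              · exact (hij (Z T _ _ h23)).elim
            ·
              exact pathL T h2 1 0 3 2 (by decide) (by decide) (by decide) (by decide) (by decide) (by decide) (P' T _ _ (by decide) h01) (P T _ _ (by decide) h03) (P' T _ _ (by decide) h23) h13 h12 h02
          ·
            exact (notri T h2 0 1 3 (by decide) (by decide) (by decide) (P T _ _ (by decide) h01) (P T _ _ (by decide) h13) (P T _ _ (by decide) h03)).elim
        ·
          by_cases h13 : T.a 1 3 = 0
          ·
            by_cases h23 : T.a 2 3 = 0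
            ·
              exact pathL T h2 2 1 0 3 (by decide) (by decide) (by decide) (by decide) (by decide) (by decide) (P' T _ _ (by decide) h12) (P' T _ _ (by decide) h01) (P T _ _ (by decide) h03) (Z T _ _ h02) h23 h13
            ·
              exact cycleL T h2 0 1 2 3 (by decide) (by decide) (by decide) (by decide) (by decide) (by decide) (P T _ _ (by decide) h01) (P T _ _ (by decide) h12) (P T _ _ (by decide) h23) (P' T _ _ (by decide) h03) h02 h13
          ·
            exact (notri T h2 0 1 3 (by decide) (by decide) (by decide) (P T _ _ (by decide) h01) (P T _ _ (by decide) h13) (P T _ _ (by decide) h03)).elim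
    ·
      by_cases h03 : T.a 0 3 = 0
      ·
        by_cases h12 : T.a 1 2 = 0
        ·
          by_cases h13 : T.a 1 3 = 0
          ·
            by_cases h23 : T.a 2 3 = 0
            ·
              obtain ⟨i, hi, j, hj, hij⟩ := T.connected {0, 1, 2} ⟨0, by decide⟩ (by decide)
              have hi' : i = 0 ∨ i = 1 ∨ i = 2 := by
                have : ∀ i : Fin 4, i ∈ ({0, 1, 2} : Finset (Fin 4)) → i = 0 ∨ i = 1 ∨ i = 2 := by decide
                exact this i hi
              have hj' : j = 3 := by
                have : ∀ j : Fin 4, j ∉ ({0, 1, 2} : Finset (Fin 4)) → j = 3 := by decide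
                exact this j hj
              subst hj'
              rcases hi' with rfl | rfl | rfl
              · exact (hij h03).elim
              · exact (hij h13).elim
              · exact (hij h23).elim
            ·
              exact pathL T h2 1 0 2 3 (by decide) (by decide) (by decide) (by decide) (by decide) (by decide) (P' T _ _ (by decide) h01) (P T _ _ (by decide) h02) (P T _ _ (by decide) h23) h12 h13 h03
          ·
            by_cases h23 : T.a 2 3 = 0
            ·
              exact pathL T h2 2 0 1 3 (by decide) (by decide) (by decide) (by decide) (by decide) (by decide) (P' T _ _ (by decide) h02) (P T _ _ (by decide) h01) (P T _ _ (by decide) h13) (Z T _ _ h12) h23 h03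
            ·
              exact cycleL T h2 0 1 3 2 (by decide) (by decide) (by decide) (by decide) (by decide) (by decide) (P T _ _ (by decide) h01) (P T _ _ (by decide) h13) (P' T _ _ (by decide) h23) (P' T _ _ (by decide) h02) h03 h12
        ·
          exact (notri T h2 0 1 2 (by decide) (by decide) (by decide) (P T _ _ (by decide) h01) (P T _ _ (by decide) h12) (P T _ _ (by decide) h02)).elim
      ·
        by_cases h12 : T.a 1 2 = 0
        ·
          by_cases h13 : T.a 1 3 = 0
          ·
            by_cases h23 : T.a 2 3 = 0
            ·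
              exact starL T h2 0 1 2 3 (by decide) (by decide) (by decide) (by decide) (by decide) (by decide) (P T _ _ (by decide) h01) (P T _ _ (by decide) h02) (P T _ _ (by decide) h03) h12 h13 h23
            ·
              exact (notri T h2 0 2 3 (by decide) (by decide) (by decide) (P T _ _ (by decide) h02) (P T _ _ (by decide) h23) (P T _ _ (by decide) h03)).elim
          ·
            exact (notri T h2 0 1 3 (by decide) (by decide) (by decide) (P T _ _ (by decide) h01) (P T _ _ (by decide) h13) (P T _ _ (by decide) h03)).elim
        ·
          exact (notri T h2 0 1 2 (by decide) (by decide) (by decide) (P T _ _ (by decide) h01) (P T _ _ (by decide) h12) (P T _ _ (by decide) h02)).elim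

end Groth.Agent.S7364
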