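import Groth.Statements.S7365
import Groth.Agent.H3.NumG5
open Groth.Agent.H3 Groth.Agent.H3.G5

set_option autoImplicit false
open Finset
open Models Models.NumericalType

namespace Groth.Agent.S7365

/-- Genus one classification: case n = 5: let T be a minimal numerical type of genus 1 on 5 indices.
Then all g_i = 0 and, for some permutation σ of the indices and some integers m, w, the
multiplicities, weights and intersection matrix (m_{σ(i)}, w_{σ(i)}, a_{σ(i)σ(j)}) are those of one
of the following 9 types: [five cycle] m = (m, m, m, m, m), w = (w, w, w, w, w), a = (-2 * w w 0 0 w
/ w -2 * w w 0 0 / 0 w -2 * w w 0 / 0 0 w -2 * w w / w 0 0 w -2 * w); [equal equal up equal] m = (m,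
2 * m, 3 * m, 2 * m, m), w = (w, w, w, 2 * w, 2 * w), a = (-2 * w w 0 0 0 / w -2 * w w 0 0 / 0 w -2
* w 2 * w 0 / 0 0 2 * w -4 * w 2 * w / 0 0 0 2 * w -4 * w); [equal equal down equal] m = (m, 2 * m,
3 * m, 4 * m, 2 * m), w = (2 * w, 2 * w, 2 * w, w, w), a = (-4 * w 2 * w 0 0 0 / 2 * w -4 * w 2 * w
0 0 / 0 2 * w -4 * w 2 * w 0 / 0 0 2 * w -2 * w w / 0 0 0 w -2 * w); [up equal equal up] m = (2 * m,
2 * m, 2 * m, 2 * m, m), w = (w, 2 * w, 2 * w, 2 * w, 4 * w), a = (-2 * w 2 * w 0 0 0 / 2 * w -4 * w
2 * w 0 0 / 0 2 * w -4 * w 2 * w 0 / 0 0 2 * w -4 * w 4 * w / 0 0 0 4 * w -8 * w); [up equal equal
down] m = (m, m, m, m, m), w = (w, 2 * w, 2 * w, 2 * w, w), a = (-2 * w 2 * w 0 0 0 / 2 * w -4 * w 2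
* w 0 0 / 0 2 * w -4 * w 2 * w 0 / 0 0 2 * w -4 * w 2 * w / 0 0 0 2 * w -2 * w); [down equal equal
up] m = (m, 2 * m, 2 * m, 2 * m, m), w = (2 * w, w, w, w, 2 * w), a = (-4 * w 2 * w 0 0 0 / 2 * w -2
* w w 0 0 / 0 w -2 * w w 0 / 0 0 w -2 * w 2 * w / 0 0 0 2 * w -4 * w); [quadruple] m = (2 * m, m, m,
m, m), w = (w, w, w, w, w), a = (-2 * w w w w w / w -2 * w 0 0 0 / w 0 -2 * w 0 0 / w 0 0 -2 * w 0 /
w 0 0 0 -2 * w); [triple extended up] m = (m, 2 * m, 2 * m, m, m), w = (2 * w, w, w, w, w), a = (-4
* w 2 * w 0 0 0 / 2 * w -2 * w w 0 0 / 0 w -2 * w w w / 0 0 w -2 * w 0 / 0 0 w 0 -2 * w); [triple
extended down] m = (2 * m, 2 * m, 2 * m, m, m), w = (w, 2 * w, 2 * w, 2 * w, 2 * w), a = (-2 * w 2 *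
w 0 0 0 / 2 * w -4 * w 2 * w 0 0 / 0 2 * w -4 * w 2 * w 2 * w / 0 0 2 * w -4 * w 0 / 0 0 2 * w 0 -4
* w). Only the classification direction is stated. -/
theorem result (T : Models.NumericalType 5) (hmin : T.IsMinimal) (hg : T.genus = 1) :
    (∀ i, T.g i = 0) ∧ ∃ (σ : Equiv.Perm (Fin 5)) (m w : ℤ),
      ((T.m (σ 0) = m ∧ T.m (σ 1) = m ∧ T.m (σ 2) = m ∧ T.m (σ 3) = m ∧ T.m (σ 4) = m ∧ T.w (σ 0) = w ∧ T.w (σ 1) = w ∧ T.w (σ 2) = w ∧ T.w (σ 3) = w ∧ T.w (σ 4) = w ∧ T.a (σ 0) (σ 0) = -2 * w ∧ T.a (σ 0) (σ 1) = w ∧ T.a (σ 0) (σ 2) = 0 ∧ T.a (σ 0) (σ 3) = 0 ∧ T.a (σ 0) (σ 4) = w ∧ T.a (σ 1) (σ 1) = -2 * w ∧ T.a (σ 1) (σ 2) = w ∧ T.a (σ 1) (σ 3) = 0 ∧ T.a (σ 1) (σ 4) = 0 ∧ T.a (σ 2) (σ 2) = -2 * w ∧ T.a (σ 2) (σ 3) = w ∧ T.a (σ 2) (σ 4) = 0 ∧ T.a (σ 3) (σ 3) = -2 * w ∧ T.a (σ 3) (σ 4) = w ∧ T.a (σ 4) (σ 4) = -2 * w) ∨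
      (T.m (σ 0) = m ∧ T.m (σ 1) = 2 * m ∧ T.m (σ 2) = 3 * m ∧ T.m (σ 3) = 2 * m ∧ T.m (σ 4) = m ∧ T.w (σ 0) = w ∧ T.w (σ 1) = w ∧ T.w (σ 2) = w ∧ T.w (σ 3) = 2 * w ∧ T.w (σ 4) = 2 * w ∧ T.a (σ 0) (σ 0) = -2 * w ∧ T.a (σ 0) (σ 1) = w ∧ T.a (σ 0) (σ 2) = 0 ∧ T.a (σ 0) (σ 3) = 0 ∧ T.a (σ 0) (σ 4) = 0 ∧ T.a (σ 1) (σ 1) = -2 * w ∧ T.a (σ 1) (σ 2) = w ∧ T.a (σ 1) (σ 3) = 0 ∧ T.a (σ 1) (σ 4) = 0 ∧ T.a (σ 2) (σ 2) = -2 * w ∧ T.a (σ 2) (σ 3) = 2 * w ∧ T.a (σ 2) (σ 4) = 0 ∧ T.a (σ 3) (σ 3) = -4 * w ∧ T.a (σ 3) (σ 4) = 2 * w ∧ T.a (σ 4) (σ 4) = -4 * w) ∨
      (T.m (σ 0) = m ∧ T.m (σ 1) = 2 * m ∧ T.m (σ 2) = 3 * m ∧ T.m (σ 3) = 4 * m ∧ T.m (σ 4) = 2 * m ∧ T.w (σ 0) = 2 * w ∧ T.w (σ 1) = 2 * w ∧ T.w (σ 2) = 2 * w ∧ T.w (σ 3) = w ∧ T.w (σ 4) = w ∧ T.a (σ 0) (σ 0) = -4 * w ∧ T.a (σ 0) (σ 1) = 2 * w ∧ T.a (σ 0) (σ 2) = 0 ∧ T.a (σ 0) (σ 3) = 0 ∧ T.a (σ 0) (σ 4) = 0 ∧ T.a (σ 1) (σ 1) = -4 * w ∧ T.a (σ 1) (σ 2) = 2 * w ∧ T.a (σ 1) (σ 3) = 0 ∧ T.a (σ 1) (σ 4) = 0 ∧ T.a (σ 2) (σ 2) = -4 * w ∧ T.a (σ 2) (σ 3) = 2 * w ∧ T.a (σ 2) (σ 4) = 0 ∧ T.a (σ 3) (σ 3) = -2 * w ∧ T.a (σ 3) (σ 4) = w ∧ T.a (σ 4) (σ 4) = -2 * w) ∨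
      (T.m (σ 0) = 2 * m ∧ T.m (σ 1) = 2 * m ∧ T.m (σ 2) = 2 * m ∧ T.m (σ 3) = 2 * m ∧ T.m (σ 4) = m ∧ T.w (σ 0) = w ∧ T.w (σ 1) = 2 * w ∧ T.w (σ 2) = 2 * w ∧ T.w (σ 3) = 2 * w ∧ T.w (σ 4) = 4 * w ∧ T.a (σ 0) (σ 0) = -2 * w ∧ T.a (σ 0) (σ 1) = 2 * w ∧ T.a (σ 0) (σ 2) = 0 ∧ T.a (σ 0) (σ 3) = 0 ∧ T.a (σ 0) (σ 4) = 0 ∧ T.a (σ 1) (σ 1) = -4 * w ∧ T.a (σ 1) (σ 2) = 2 * w ∧ T.a (σ 1) (σ 3) = 0 ∧ T.a (σ 1) (σ 4) = 0 ∧ T.a (σ 2) (σ 2) = -4 * w ∧ T.a (σ 2) (σ 3) = 2 * w ∧ T.a (σ 2) (σ 4) = 0 ∧ T.a (σ 3) (σ 3) = -4 * w ∧ T.a (σ 3) (σ 4) = 4 * w ∧ T.a (σ 4) (σ 4) = -8 * w) ∨
      (T.m (σ 0) = m ∧ T.m (σ 1) = m ∧ T.m (σ 2) = m ∧ T.m (σ 3) = m ∧ T.m (σ 4) = m ∧ T.w (σ 0) = w ∧ T.w (σ 1) = 2 * w ∧ T.w (σ 2) = 2 * w ∧ T.w (σ 3) = 2 * w ∧ T.w (σ 4) = w ∧ T.a (σ 0) (σ 0) = -2 * w ∧ T.a (σ 0) (σ 1) = 2 * w ∧ T.a (σ 0) (σ 2) = 0 ∧ T.a (σ 0) (σ 3) = 0 ∧ T.a (σ 0) (σ 4) = 0 ∧ T.a (σ 1) (σ 1) = -4 * w ∧ T.a (σ 1) (σ 2) = 2 * w ∧ T.a (σ 1) (σ 3) = 0 ∧ T.a (σ 1) (σ 4) = 0 ∧ T.a (σ 2) (σ 2) = -4 * w ∧ T.a (σ 2) (σ 3) = 2 * w ∧ T.a (σ 2) (σ 4) = 0 ∧ T.a (σ 3) (σ 3) = -4 * w ∧ T.a (σ 3) (σ 4) = 2 * w ∧ T.a (σ 4) (σ 4) = -2 * w) ∨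
      (T.m (σ 0) = m ∧ T.m (σ 1) = 2 * m ∧ T.m (σ 2) = 2 * m ∧ T.m (σ 3) = 2 * m ∧ T.m (σ 4) = m ∧ T.w (σ 0) = 2 * w ∧ T.w (σ 1) = w ∧ T.w (σ 2) = w ∧ T.w (σ 3) = w ∧ T.w (σ 4) = 2 * w ∧ T.a (σ 0) (σ 0) = -4 * w ∧ T.a (σ 0) (σ 1) = 2 * w ∧ T.a (σ 0) (σ 2) = 0 ∧ T.a (σ 0) (σ 3) = 0 ∧ T.a (σ 0) (σ 4) = 0 ∧ T.a (σ 1) (σ 1) = -2 * w ∧ T.a (σ 1) (σ 2) = w ∧ T.a (σ 1) (σ 3) = 0 ∧ T.a (σ 1) (σ 4) = 0 ∧ T.a (σ 2) (σ 2) = -2 * w ∧ T.a (σ 2) (σ 3) = w ∧ T.a (σ 2) (σ 4) = 0 ∧ T.a (σ 3) (σ 3) = -2 * w ∧ T.a (σ 3) (σ 4) = 2 * w ∧ T.a (σ 4) (σ 4) = -4 * w) ∨
      (T.m (σ 0) = 2 * m ∧ T.m (σ 1) = m ∧ T.m (σ 2) = m ∧ T.m (σ 3) = m ∧ T.m (σ 4) = m ∧ T.w (σ 0) = w ∧ T.w (σ 1) = w ∧ T.w (σ 2) = w ∧ T.w (σ 3) = w ∧ T.w (σ 4) = w ∧ T.a (σ 0) (σ 0) = -2 * w ∧ T.a (σ 0) (σ 1) = w ∧ T.a (σ 0) (σ 2) = w ∧ T.a (σ 0) (σ 3) = w ∧ T.a (σ 0) (σ 4) = w ∧ T.a (σ 1) (σ 1) = -2 * w ∧ T.a (σ 1) (σ 2) = 0 ∧ T.a (σ 1) (σ 3) = 0 ∧ T.a (σ 1) (σ 4) = 0 ∧ T.a (σ 2) (σ 2) = -2 * w ∧ T.a (σ 2) (σ 3) = 0 ∧ T.a (σ 2) (σ 4) = 0 ∧ T.a (σ 3) (σ 3) = -2 * w ∧ T.a (σ 3) (σ 4) = 0 ∧ T.a (σ 4) (σ 4) = -2 * w) ∨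
      (T.m (σ 0) = m ∧ T.m (σ 1) = 2 * m ∧ T.m (σ 2) = 2 * m ∧ T.m (σ 3) = m ∧ T.m (σ 4) = m ∧ T.w (σ 0) = 2 * w ∧ T.w (σ 1) = w ∧ T.w (σ 2) = w ∧ T.w (σ 3) = w ∧ T.w (σ 4) = w ∧ T.a (σ 0) (σ 0) = -4 * w ∧ T.a (σ 0) (σ 1) = 2 * w ∧ T.a (σ 0) (σ 2) = 0 ∧ T.a (σ 0) (σ 3) = 0 ∧ T.a (σ 0) (σ 4) = 0 ∧ T.a (σ 1) (σ 1) = -2 * w ∧ T.a (σ 1) (σ 2) = w ∧ T.a (σ 1) (σ 3) = 0 ∧ T.a (σ 1) (σ 4) = 0 ∧ T.a (σ 2) (σ 2) = -2 * w ∧ T.a (σ 2) (σ 3) = w ∧ T.a (σ 2) (σ 4) = w ∧ T.a (σ 3) (σ 3) = -2 * w ∧ T.a (σ 3) (σ 4) = 0 ∧ T.a (σ 4) (σ 4) = -2 * w) ∨
      (T.m (σ 0) = 2 * m ∧ T.m (σ 1) = 2 * m ∧ T.m (σ 2) = 2 * m ∧ T.m (σ 3) = m ∧ T.m (σ 4) = m ∧ T.w (σ 0) = w ∧ T.w (σ 1) = 2 * w ∧ T.w (σ 2) = 2 * w ∧ T.w (σ 3) = 2 * w ∧ T.w (σ 4) = 2 * w ∧ T.a (σ 0) (σ 0) = -2 * w ∧ T.a (σ 0) (σ 1) = 2 * w ∧ T.a (σ 0) (σ 2) = 0 ∧ T.a (σ 0) (σ 3) = 0 ∧ T.a (σ 0) (σ 4) = 0 ∧ T.a (σ 1) (σ 1) = -4 * w ∧ T.a (σ 1) (σ 2) = 2 * w ∧ T.a (σ 1) (σ 3) = 0 ∧ T.a (σ 1) (σ 4) = 0 ∧ T.a (σ 2) (σ 2) = -4 * w ∧ T.a (σ 2) (σ 3) = 2 * w ∧ T.a (σ 2) (σ 4) = 2 * w ∧ T.a (σ 3) (σ 3) = -4 * w ∧ T.a (σ 3) (σ 4) = 0 ∧ T.a (σ 4) (σ 4) = -4 * w)) := by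
  classical
  have h2 := all_minusTwo T hmin (by norm_num) hg
  refine ⟨fun i => (h2 i).1, ?_⟩
  by_cases h01 : T.a 0 1 = 0
  ·
    by_cases h02 : T.a 0 2 = 0
    ·
      by_cases h03 : T.a 0 3 = 0
      ·
        by_cases h04 : T.a 0 4 = 0
        ·
          by_cases h12 : T.a 1 2 = 0
          ·
            by_cases h13 : T.a 1 3 = 0
            ·
              by_cases h14 : T.a 1 4 = 0
              ·
                by_cases h23 : T.a 2 3 = 0
                ·
                  by_cases h24 : T.a 2 4 = 0
                  ·
                    by_cases h34 : T.a 3 4 = 0
                    ·
                      obtain ⟨i, hi, j, hj, hij⟩ := T.connected {0} ⟨0, by decide⟩ (by decide)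
                      have hi' : i = 0 := by
                        have : ∀ i : Fin 5, i ∈ ({0} : Finset (Fin 5)) → i = 0 := by decide
                        exact this i hi
                      have hj' : j = 1 ∨ j = 2 ∨ j = 3 ∨ j = 4 := by
                        have : ∀ j : Fin 5, j ∉ ({0} : Finset (Fin 5)) → j = 1 ∨ j = 2 ∨ j = 3 ∨ j = 4 := by decide
                        exact this j hj
                      subst hi'
                      rcases hj' with rfl | rfl | rfl | rfl
                      · exact (hij h01).elim
                      · exact (hij h02).elim
                      · exact (hij h03).elim
                      · exact (hij h04).elim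
                    ·
                      obtain ⟨i, hi, j, hj, hij⟩ := T.connected {0} ⟨0, by decide⟩ (by decide)
                      have hi' : i = 0 := by
                        have : ∀ i : Fin 5, i ∈ ({0} : Finset (Fin 5)) → i = 0 := by decide
                        exact this i hi
                      have hj' : j = 1 ∨ j = 2 ∨ j = 3 ∨ j = 4 := by
                        have : ∀ j : Fin 5, j ∉ ({0} : Finset (Fin 5)) → j = 1 ∨ j = 2 ∨ j = 3 ∨ j = 4 := by decide
                        exact this j hj
                      subst hi'
                      rcases hj' with rfl | rfl | rfl | rfl
                      · exact (hij h01).elim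
                      · exact (hij h02).elim
                      · exact (hij h03).elim
                      · exact (hij h04).elim
                  ·
                    by_cases h34 : T.a 3 4 = 0
                    ·
                      obtain ⟨i, hi, j, hj, hij⟩ := T.connected {0} ⟨0, by decide⟩ (by decide)
                      have hi' : i = 0 := by
                        have : ∀ i : Fin 5, i ∈ ({0} : Finset (Fin 5)) → i = 0 := by decide
                        exact this i hi
                      have hj' : j = 1 ∨ j = 2 ∨ j = 3 ∨ j = 4 := by
                        have : ∀ j : Fin 5, j ∉ ({0} : Finset (Fin 5)) → j = 1 ∨ j = 2 ∨ j = 3 ∨ j = 4 := by decide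
                        exact this j hj
                      subst hi'
                      rcases hj' with rfl | rfl | rfl | rfl
                      · exact (hij h01).elim
                      · exact (hij h02).elim
                      · exact (hij h03).elim
                      · exact (hij h04).elim
                    ·
                      obtain ⟨i, hi, j, hj, hij⟩ := T.connected {0} ⟨0, by decide⟩ (by decide)
                      have hi' : i = 0 := by
                        have : ∀ i : Fin 5, i ∈ ({0} : Finset (Fin 5)) → i = 0 := by decide
                        exact this i hi
                      have hj' : j = 1 ∨ j = 2 ∨ j = 3 ∨ j = 4 := by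
                        have : ∀ j : Fin 5, j ∉ ({0} : Finset (Fin 5)) → j = 1 ∨ j = 2 ∨ j = 3 ∨ j = 4 := by decide
                        exact this j hj
                      subst hi'
                      rcases hj' with rfl | rfl | rfl | rfl
                      · exact (hij h01).elim
                      · exact (hij h02).elim
                      · exact (hij h03).elim
                      · exact (hij h04).elim
                ·
                  by_cases h24 : T.a 2 4 = 0
                  ·
                    by_cases h34 : T.a 3 4 = 0
                    ·
                      obtain ⟨i, hi, j, hj, hij⟩ := T.connected {0} ⟨0, by decide⟩ (by decide)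
                      have hi' : i = 0 := by
                        have : ∀ i : Fin 5, i ∈ ({0} : Finset (Fin 5)) → i = 0 := by decide
                        exact this i hi
                      have hj' : j = 1 ∨ j = 2 ∨ j = 3 ∨ j = 4 := by
                        have : ∀ j : Fin 5, j ∉ ({0} : Finset (Fin 5)) → j = 1 ∨ j = 2 ∨ j = 3 ∨ j = 4 := by decide
                        exact this j hj
                      subst hi'
                      rcases hj' with rfl | rfl | rfl | rfl
                      · exact (hij h01).elim
                      · exact (hij h02).elim
                      · exact (hij h03).elim
                      · exact (hij h04).elim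
                    ·
                      obtain ⟨i, hi, j, hj, hij⟩ := T.connected {0} ⟨0, by decide⟩ (by decide)
                      have hi' : i = 0 := by
                        have : ∀ i : Fin 5, i ∈ ({0} : Finset (Fin 5)) → i = 0 := by decide
                        exact this i hi
                      have hj' : j = 1 ∨ j = 2 ∨ j = 3 ∨ j = 4 := by
                        have : ∀ j : Fin 5, j ∉ ({0} : Finset (Fin 5)) → j = 1 ∨ j = 2 ∨ j = 3 ∨ j = 4 := by decide
                        exact this j hj
                      subst hi'
                      rcases hj' with rfl | rfl | rfl | rfl
                      · exact (hij h01).elim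
                      · exact (hij h02).elim
                      · exact (hij h03).elim
                      · exact (hij h04).elim
                  ·
                    by_cases h34 : T.a 3 4 = 0
                    ·
                      obtain ⟨i, hi, j, hj, hij⟩ := T.connected {0} ⟨0, by decide⟩ (by decide)
                      have hi' : i = 0 := by
                        have : ∀ i : Fin 5, i ∈ ({0} : Finset (Fin 5)) → i = 0 := by decide
                        exact this i hi
                      have hj' : j = 1 ∨ j = 2 ∨ j = 3 ∨ j = 4 := by
                        have : ∀ j : Fin 5, j ∉ ({0} : Finset (Fin 5)) → j = 1 ∨ j = 2 ∨ j = 3 ∨ j = 4 := by decide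
                        exact this j hj
                      subst hi'
                      rcases hj' with rfl | rfl | rfl | rfl
                      · exact (hij h01).elim
                      · exact (hij h02).elim
                      · exact (hij h03).elim
                      · exact (hij h04).elim
                    ·
                      exact (notri T h2 2 3 4 (by decide) (by decide) (by decide) (P T _ _ (by decide) h23) (P T _ _ (by decide) h34) (P T _ _ (by decide) h24)).elim
              ·
                by_cases h23 : T.a 2 3 = 0
                ·
                  by_cases h24 : T.a 2 4 = 0
                  ·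
                    by_cases h34 : T.a 3 4 = 0
                    ·
                      obtain ⟨i, hi, j, hj, hij⟩ := T.connected {0} ⟨0, by decide⟩ (by decide)
                      have hi' : i = 0 := by
                        have : ∀ i : Fin 5, i ∈ ({0} : Finset (Fin 5)) → i = 0 := by decide
                        exact this i hi
                      have hj' : j = 1 ∨ j = 2 ∨ j = 3 ∨ j = 4 := by
                        have : ∀ j : Fin 5, j ∉ ({0} : Finset (Fin 5)) → j = 1 ∨ j = 2 ∨ j = 3 ∨ j = 4 := by decide
                        exact this j hj
                      subst hi'
                      rcases hj' with rfl | rfl | rfl | rfl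
                      · exact (hij h01).elim
                      · exact (hij h02).elim
                      · exact (hij h03).elim
                      · exact (hij h04).elim
                    ·
                      obtain ⟨i, hi, j, hj, hij⟩ := T.connected {0} ⟨0, by decide⟩ (by decide)
                      have hi' : i = 0 := by
                        have : ∀ i : Fin 5, i ∈ ({0} : Finset (Fin 5)) → i = 0 := by decide
                        exact this i hi
                      have hj' : j = 1 ∨ j = 2 ∨ j = 3 ∨ j = 4 := by
                        have : ∀ j : Fin 5, j ∉ ({0} : Finset (Fin 5)) → j = 1 ∨ j = 2 ∨ j = 3 ∨ j = 4 := by decide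
                        exact this j hj
                      subst hi'
                      rcases hj' with rfl | rfl | rfl | rfl
                      · exact (hij h01).elim
                      · exact (hij h02).elim
                      · exact (hij h03).elim
                      · exact (hij h04).elim
                  ·
                    by_cases h34 : T.a 3 4 = 0
                    ·
                      obtain ⟨i, hi, j, hj, hij⟩ := T.connected {0} ⟨0, by decide⟩ (by decide)
                      have hi' : i = 0 := by
                        have : ∀ i : Fin 5, i ∈ ({0} : Finset (Fin 5)) → i = 0 := by decide
                        exact this i hi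
                      have hj' : j = 1 ∨ j = 2 ∨ j = 3 ∨ j = 4 := by
                        have : ∀ j : Fin 5, j ∉ ({0} : Finset (Fin 5)) → j = 1 ∨ j = 2 ∨ j = 3 ∨ j = 4 := by decide
                        exact this j hj
                      subst hi'
                      rcases hj' with rfl | rfl | rfl | rfl
                      · exact (hij h01).elim
                      · exact (hij h02).elim
                      · exact (hij h03).elim
                      · exact (hij h04).elim
                    ·
                      obtain ⟨i, hi, j, hj, hij⟩ := T.connected {0} ⟨0, by decide⟩ (by decide)
                      have hi' : i = 0 := by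
                        have : ∀ i : Fin 5, i ∈ ({0} : Finset (Fin 5)) → i = 0 := by decide
                        exact this i hi
                      have hj' : j = 1 ∨ j = 2 ∨ j = 3 ∨ j = 4 := by
                        have : ∀ j : Fin 5, j ∉ ({0} : Finset (Fin 5)) → j = 1 ∨ j = 2 ∨ j = 3 ∨ j = 4 := by decide
                        exact this j hj
                      subst hi'
                      rcases hj' with rfl | rfl | rfl | rfl
                      · exact (hij h01).elim
                      · exact (hij h02).elim
                      · exact (hij h03).elim
                      · exact (hij h04).elim
                ·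
                  by_cases h24 : T.a 2 4 = 0
                  ·
                    by_cases h34 : T.a 3 4 = 0
                    ·
                      obtain ⟨i, hi, j, hj, hij⟩ := T.connected {0} ⟨0, by decide⟩ (by decide)
                      have hi' : i = 0 := by
                        have : ∀ i : Fin 5, i ∈ ({0} : Finset (Fin 5)) → i = 0 := by decide
                        exact this i hi
                      have hj' : j = 1 ∨ j = 2 ∨ j = 3 ∨ j = 4 := by
                        have : ∀ j : Fin 5, j ∉ ({0} : Finset (Fin 5)) → j = 1 ∨ j = 2 ∨ j = 3 ∨ j = 4 := by decide
                        exact this j hj
                      subst hi'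
                      rcases hj' with rfl | rfl | rfl | rfl
                      · exact (hij h01).elim
                      · exact (hij h02).elim
                      · exact (hij h03).elim
                      · exact (hij h04).elim
                    ·
                      obtain ⟨i, hi, j, hj, hij⟩ := T.connected {0} ⟨0, by decide⟩ (by decide)
                      have hi' : i = 0 := by
                        have : ∀ i : Fin 5, i ∈ ({0} : Finset (Fin 5)) → i = 0 := by decide
                        exact this i hi
                      have hj' : j = 1 ∨ j = 2 ∨ j = 3 ∨ j = 4 := by
                        have : ∀ j : Fin 5, j ∉ ({0} : Finset (Fin 5)) → j = 1 ∨ j = 2 ∨ j = 3 ∨ j = 4 := by decide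
                        exact this j hj
                      subst hi'
                      rcases hj' with rfl | rfl | rfl | rfl
                      · exact (hij h01).elim
                      · exact (hij h02).elim
                      · exact (hij h03).elim
                      · exact (hij h04).elim
                  ·
                    by_cases h34 : T.a 3 4 = 0
                    ·
                      obtain ⟨i, hi, j, hj, hij⟩ := T.connected {0} ⟨0, by decide⟩ (by decide)
                      have hi' : i = 0 := by
                        have : ∀ i : Fin 5, i ∈ ({0} : Finset (Fin 5)) → i = 0 := by decide
                        exact this i hi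
                      have hj' : j = 1 ∨ j = 2 ∨ j = 3 ∨ j = 4 := by
                        have : ∀ j : Fin 5, j ∉ ({0} : Finset (Fin 5)) → j = 1 ∨ j = 2 ∨ j = 3 ∨ j = 4 := by decide
                        exact this j hj
                      subst hi'
                      rcases hj' with rfl | rfl | rfl | rfl
                      · exact (hij h01).elim
                      · exact (hij h02).elim
                      · exact (hij h03).elim
                      · exact (hij h04).elim
                    ·
                      exact (notri T h2 2 3 4 (by decide) (by decide) (by decide) (P T _ _ (by decide) h23) (P T _ _ (by decide) h34) (P T _ _ (by decide) h24)).elim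
            ·
              by_cases h14 : T.a 1 4 = 0
              ·
                by_cases h23 : T.a 2 3 = 0
                ·
                  by_cases h24 : T.a 2 4 = 0
                  ·
                    by_cases h34 : T.a 3 4 = 0
                    ·
                      obtain ⟨i, hi, j, hj, hij⟩ := T.connected {0} ⟨0, by decide⟩ (by decide)
                      have hi' : i = 0 := by
                        have : ∀ i : Fin 5, i ∈ ({0} : Finset (Fin 5)) → i = 0 := by decide
                        exact this i hi
                      have hj' : j = 1 ∨ j = 2 ∨ j = 3 ∨ j = 4 := by
                        have : ∀ j : Fin 5, j ∉ ({0} : Finset (Fin 5)) → j = 1 ∨ j = 2 ∨ j = 3 ∨ j = 4 := by decide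
                        exact this j hj
                      subst hi'
                      rcases hj' with rfl | rfl | rfl | rfl
                      · exact (hij h01).elim
                      · exact (hij h02).elim
                      · exact (hij h03).elim
                      · exact (hij h04).elim
                    ·
                      obtain ⟨i, hi, j, hj, hij⟩ := T.connected {0} ⟨0, by decide⟩ (by decide)
                      have hi' : i = 0 := by
                        have : ∀ i : Fin 5, i ∈ ({0} : Finset (Fin 5)) → i = 0 := by decide
                        exact this i hi
                      have hj' : j = 1 ∨ j = 2 ∨ j = 3 ∨ j = 4 := by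
                        have : ∀ j : Fin 5, j ∉ ({0} : Finset (Fin 5)) → j = 1 ∨ j = 2 ∨ j = 3 ∨ j = 4 := by decide
                        exact this j hj
                      subst hi'
                      rcases hj' with rfl | rfl | rfl | rfl
                      · exact (hij h01).elim
                      · exact (hij h02).elim
                      · exact (hij h03).elim
                      · exact (hij h04).elim
                  ·
                    by_cases h34 : T.a 3 4 = 0
                    ·
                      obtain ⟨i, hi, j, hj, hij⟩ := T.connected {0} ⟨0, by decide⟩ (by decide)
                      have hi' : i = 0 := by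
                        have : ∀ i : Fin 5, i ∈ ({0} : Finset (Fin 5)) → i = 0 := by decide
                        exact this i hi
                      have hj' : j = 1 ∨ j = 2 ∨ j = 3 ∨ j = 4 := by
                        have : ∀ j : Fin 5, j ∉ ({0} : Finset (Fin 5)) → j = 1 ∨ j = 2 ∨ j = 3 ∨ j = 4 := by decide
                        exact this j hj
                      subst hi'
                      rcases hj' with rfl | rfl | rfl | rfl
                      · exact (hij h01).elim
                      · exact (hij h02).elim
                      · exact (hij h03).elim
                      · exact (hij h04).elim
                    ·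
                      obtain ⟨i, hi, j, hj, hij⟩ := T.connected {0} ⟨0, by decide⟩ (by decide)
                      have hi' : i = 0 := by
                        have : ∀ i : Fin 5, i ∈ ({0} : Finset (Fin 5)) → i = 0 := by decide
                        exact this i hi
                      have hj' : j = 1 ∨ j = 2 ∨ j = 3 ∨ j = 4 := by
                        have : ∀ j : Fin 5, j ∉ ({0} : Finset (Fin 5)) → j = 1 ∨ j = 2 ∨ j = 3 ∨ j = 4 := by decide
                        exact this j hj
                      subst hi'
                      rcases hj' with rfl | rfl | rfl | rfl
                      · exact (hij h01).elim
                      · exact (hij h02).elim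
                      · exact (hij h03).elim
                      · exact (hij h04).elim
                ·
                  by_cases h24 : T.a 2 4 = 0
                  ·
                    by_cases h34 : T.a 3 4 = 0
                    ·
                      obtain ⟨i, hi, j, hj, hij⟩ := T.connected {0} ⟨0, by decide⟩ (by decide)
                      have hi' : i = 0 := by
                        have : ∀ i : Fin 5, i ∈ ({0} : Finset (Fin 5)) → i = 0 := by decide
                        exact this i hi
                      have hj' : j = 1 ∨ j = 2 ∨ j = 3 ∨ j = 4 := by
                        have : ∀ j : Fin 5, j ∉ ({0} : Finset (Fin 5)) → j = 1 ∨ j = 2 ∨ j = 3 ∨ j = 4 := by decide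
                        exact this j hj
                      subst hi'
                      rcases hj' with rfl | rfl | rfl | rfl
                      · exact (hij h01).elim
                      · exact (hij h02).elim
                      · exact (hij h03).elim
                      · exact (hij h04).elim
                    ·
                      obtain ⟨i, hi, j, hj, hij⟩ := T.connected {0} ⟨0, by decide⟩ (by decide)
                      have hi' : i = 0 := by
                        have : ∀ i : Fin 5, i ∈ ({0} : Finset (Fin 5)) → i = 0 := by decide
                        exact this i hi
                      have hj' : j = 1 ∨ j = 2 ∨ j = 3 ∨ j = 4 := by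
                        have : ∀ j : Fin 5, j ∉ ({0} : Finset (Fin 5)) → j = 1 ∨ j = 2 ∨ j = 3 ∨ j = 4 := by decide
                        exact this j hj
                      subst hi'
                      rcases hj' with rfl | rfl | rfl | rfl
                      · exact (hij h01).elim
                      · exact (hij h02).elim
                      · exact (hij h03).elim
                      · exact (hij h04).elim
                  ·
                    by_cases h34 : T.a 3 4 = 0
                    ·
                      obtain ⟨i, hi, j, hj, hij⟩ := T.connected {0} ⟨0, by decide⟩ (by decide)
                      have hi' : i = 0 := by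
                        have : ∀ i : Fin 5, i ∈ ({0} : Finset (Fin 5)) → i = 0 := by decide
                        exact this i hi
                      have hj' : j = 1 ∨ j = 2 ∨ j = 3 ∨ j = 4 := by
                        have : ∀ j : Fin 5, j ∉ ({0} : Finset (Fin 5)) → j = 1 ∨ j = 2 ∨ j = 3 ∨ j = 4 := by decide
                        exact this j hj
                      subst hi'
                      rcases hj' with rfl | rfl | rfl | rfl
                      · exact (hij h01).elim
                      · exact (hij h02).elim
                      · exact (hij h03).elim
                      · exact (hij h04).elim
                    ·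
                      exact (notri T h2 2 3 4 (by decide) (by decide) (by decide) (P T _ _ (by decide) h23) (P T _ _ (by decide) h34) (P T _ _ (by decide) h24)).elim
              ·
                by_cases h23 : T.a 2 3 = 0
                ·
                  by_cases h24 : T.a 2 4 = 0
                  ·
                    by_cases h34 : T.a 3 4 = 0
                    ·
                      obtain ⟨i, hi, j, hj, hij⟩ := T.connected {0} ⟨0, by decide⟩ (by decide)
                      have hi' : i = 0 := by
                        have : ∀ i : Fin 5, i ∈ ({0} : Finset (Fin 5)) → i = 0 := by decide
                        exact this i hi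
                      have hj' : j = 1 ∨ j = 2 ∨ j = 3 ∨ j = 4 := by
                        have : ∀ j : Fin 5, j ∉ ({0} : Finset (Fin 5)) → j = 1 ∨ j = 2 ∨ j = 3 ∨ j = 4 := by decide
                        exact this j hj
                      subst hi'
                      rcases hj' with rfl | rfl | rfl | rfl
                      · exact (hij h01).elim
                      · exact (hij h02).elim
                      · exact (hij h03).elim
                      · exact (hij h04).elim
                    ·
                      exact (notri T h2 1 3 4 (by decide) (by decide) (by decide) (P T _ _ (by decide) h13) (P T _ _ (by decide) h34) (P T _ _ (by decide) h14)).elim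
                  ·
                    by_cases h34 : T.a 3 4 = 0
                    ·
                      obtain ⟨i, hi, j, hj, hij⟩ := T.connected {0} ⟨0, by decide⟩ (by decide)
                      have hi' : i = 0 := by
                        have : ∀ i : Fin 5, i ∈ ({0} : Finset (Fin 5)) → i = 0 := by decide
                        exact this i hi
                      have hj' : j = 1 ∨ j = 2 ∨ j = 3 ∨ j = 4 := by
                        have : ∀ j : Fin 5, j ∉ ({0} : Finset (Fin 5)) → j = 1 ∨ j = 2 ∨ j = 3 ∨ j = 4 := by decide
                        exact this j hj
                      subst hi'
                      rcases hj' with rfl | rfl | rfl | rfl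
                      · exact (hij h01).elim
                      · exact (hij h02).elim
                      · exact (hij h03).elim
                      · exact (hij h04).elim
                    ·
                      exact (notri T h2 1 3 4 (by decide) (by decide) (by decide) (P T _ _ (by decide) h13) (P T _ _ (by decide) h34) (P T _ _ (by decide) h14)).elim
                ·
                  by_cases h24 : T.a 2 4 = 0
                  ·
                    by_cases h34 : T.a 3 4 = 0
                    ·
                      obtain ⟨i, hi, j, hj, hij⟩ := T.connected {0} ⟨0, by decide⟩ (by decide)
                      have hi' : i = 0 := by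
                        have : ∀ i : Fin 5, i ∈ ({0} : Finset (Fin 5)) → i = 0 := by decide
                        exact this i hi
                      have hj' : j = 1 ∨ j = 2 ∨ j = 3 ∨ j = 4 := by
                        have : ∀ j : Fin 5, j ∉ ({0} : Finset (Fin 5)) → j = 1 ∨ j = 2 ∨ j = 3 ∨ j = 4 := by decide
                        exact this j hj
                      subst hi'
                      rcases hj' with rfl | rfl | rfl | rfl
                      · exact (hij h01).elim
                      · exact (hij h02).elim
                      · exact (hij h03).elim
                      · exact (hij h04).elim
                    ·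
                      exact (notri T h2 1 3 4 (by decide) (by decide) (by decide) (P T _ _ (by decide) h13) (P T _ _ (by decide) h34) (P T _ _ (by decide) h14)).elim
                  ·
                    exact (nocyc4 T h2 1 3 2 4 (by decide) (by decide) (by decide) (by decide) (by decide) (by decide) (P T _ _ (by decide) h13) (P' T _ _ (by decide) h23) (P T _ _ (by decide) h24) (P' T _ _ (by decide) h14)).elim
          ·
            by_cases h13 : T.a 1 3 = 0
            ·
              by_cases h14 : T.a 1 4 = 0
              ·
                by_cases h23 : T.a 2 3 = 0
                ·
                  by_cases h24 : T.a 2 4 = 0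
                  ·
                    by_cases h34 : T.a 3 4 = 0
                    ·
                      obtain ⟨i, hi, j, hj, hij⟩ := T.connected {0} ⟨0, by decide⟩ (by decide)
                      have hi' : i = 0 := by
                        have : ∀ i : Fin 5, i ∈ ({0} : Finset (Fin 5)) → i = 0 := by decide
                        exact this i hi
                      have hj' : j = 1 ∨ j = 2 ∨ j = 3 ∨ j = 4 := by
                        have : ∀ j : Fin 5, j ∉ ({0} : Finset (Fin 5)) → j = 1 ∨ j = 2 ∨ j = 3 ∨ j = 4 := by decide
                        exact this j hj
                      subst hi'
                      rcases hj' with rfl | rfl | rfl | rfl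
                      · exact (hij h01).elim
                      · exact (hij h02).elim
                      · exact (hij h03).elim
                      · exact (hij h04).elim
                    ·
                      obtain ⟨i, hi, j, hj, hij⟩ := T.connected {0} ⟨0, by decide⟩ (by decide)
                      have hi' : i = 0 := by
                        have : ∀ i : Fin 5, i ∈ ({0} : Finset (Fin 5)) → i = 0 := by decide
                        exact this i hi
                      have hj' : j = 1 ∨ j = 2 ∨ j = 3 ∨ j = 4 := by
                        have : ∀ j : Fin 5, j ∉ ({0} : Finset (Fin 5)) → j = 1 ∨ j = 2 ∨ j = 3 ∨ j = 4 := by decide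
                        exact this j hj
                      subst hi'
                      rcases hj' with rfl | rfl | rfl | rfl
                      · exact (hij h01).elim
                      · exact (hij h02).elim
                      · exact (hij h03).elim
                      · exact (hij h04).elim
                  ·
                    by_cases h34 : T.a 3 4 = 0
                    ·
                      obtain ⟨i, hi, j, hj, hij⟩ := T.connected {0} ⟨0, by decide⟩ (by decide)
                      have hi' : i = 0 := by
                        have : ∀ i : Fin 5, i ∈ ({0} : Finset (Fin 5)) → i = 0 := by decide
                        exact this i hi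
                      have hj' : j = 1 ∨ j = 2 ∨ j = 3 ∨ j = 4 := by
                        have : ∀ j : Fin 5, j ∉ ({0} : Finset (Fin 5)) → j = 1 ∨ j = 2 ∨ j = 3 ∨ j = 4 := by decide
                        exact this j hj
                      subst hi'
                      rcases hj' with rfl | rfl | rfl | rfl
                      · exact (hij h01).elim
                      · exact (hij h02).elim
                      · exact (hij h03).elim
                      · exact (hij h04).elim
                    ·
                      obtain ⟨i, hi, j, hj, hij⟩ := T.connected {0} ⟨0, by decide⟩ (by decide)
                      have hi' : i = 0 := by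
                        have : ∀ i : Fin 5, i ∈ ({0} : Finset (Fin 5)) → i = 0 := by decide
                        exact this i hi
                      have hj' : j = 1 ∨ j = 2 ∨ j = 3 ∨ j = 4 := by
                        have : ∀ j : Fin 5, j ∉ ({0} : Finset (Fin 5)) → j = 1 ∨ j = 2 ∨ j = 3 ∨ j = 4 := by decide
                        exact this j hj
                      subst hi'
                      rcases hj' with rfl | rfl | rfl | rfl
                      · exact (hij h01).elim
                      · exact (hij h02).elim
                      · exact (hij h03).elim
                      · exact (hij h04).elim
                ·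
                  by_cases h24 : T.a 2 4 = 0
                  ·
                    by_cases h34 : T.a 3 4 = 0
                    ·
                      obtain ⟨i, hi, j, hj, hij⟩ := T.connected {0} ⟨0, by decide⟩ (by decide)
                      have hi' : i = 0 := by
                        have : ∀ i : Fin 5, i ∈ ({0} : Finset (Fin 5)) → i = 0 := by decide
                        exact this i hi
                      have hj' : j = 1 ∨ j = 2 ∨ j = 3 ∨ j = 4 := by
                        have : ∀ j : Fin 5, j ∉ ({0} : Finset (Fin 5)) → j = 1 ∨ j = 2 ∨ j = 3 ∨ j = 4 := by decide
                        exact this j hj
                      subst hi'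
                      rcases hj' with rfl | rfl | rfl | rfl
                      · exact (hij h01).elim
                      · exact (hij h02).elim
                      · exact (hij h03).elim
                      · exact (hij h04).elim
                    ·
                      obtain ⟨i, hi, j, hj, hij⟩ := T.connected {0} ⟨0, by decide⟩ (by decide)
                      have hi' : i = 0 := by
                        have : ∀ i : Fin 5, i ∈ ({0} : Finset (Fin 5)) → i = 0 := by decide
                        exact this i hi
                      have hj' : j = 1 ∨ j = 2 ∨ j = 3 ∨ j = 4 := by
                        have : ∀ j : Fin 5, j ∉ ({0} : Finset (Fin 5)) → j = 1 ∨ j = 2 ∨ j = 3 ∨ j = 4 := by decide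
                        exact this j hj
                      subst hi'
                      rcases hj' with rfl | rfl | rfl | rfl
                      · exact (hij h01).elim
                      · exact (hij h02).elim
                      · exact (hij h03).elim
                      · exact (hij h04).elim
                  ·
                    by_cases h34 : T.a 3 4 = 0
                    ·
                      obtain ⟨i, hi, j, hj, hij⟩ := T.connected {0} ⟨0, by decide⟩ (by decide)
                      have hi' : i = 0 := by
                        have : ∀ i : Fin 5, i ∈ ({0} : Finset (Fin 5)) → i = 0 := by decide
                        exact this i hi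
                      have hj' : j = 1 ∨ j = 2 ∨ j = 3 ∨ j = 4 := by
                        have : ∀ j : Fin 5, j ∉ ({0} : Finset (Fin 5)) → j = 1 ∨ j = 2 ∨ j = 3 ∨ j = 4 := by decide
                        exact this j hj
                      subst hi'
                      rcases hj' with rfl | rfl | rfl | rfl
                      · exact (hij h01).elim
                      · exact (hij h02).elim
                      · exact (hij h03).elim
                      · exact (hij h04).elim
                    ·
                      exact (notri T h2 2 3 4 (by decide) (by decide) (by decide) (P T _ _ (by decide) h23) (P T _ _ (by decide) h34) (P T _ _ (by decide) h24)).elim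
              ·
                by_cases h23 : T.a 2 3 = 0
                ·
                  by_cases h24 : T.a 2 4 = 0
                  ·
                    by_cases h34 : T.a 3 4 = 0
                    ·
                      obtain ⟨i, hi, j, hj, hij⟩ := T.connected {0} ⟨0, by decide⟩ (by decide)
                      have hi' : i = 0 := by
                        have : ∀ i : Fin 5, i ∈ ({0} : Finset (Fin 5)) → i = 0 := by decide
                        exact this i hi
                      have hj' : j = 1 ∨ j = 2 ∨ j = 3 ∨ j = 4 := by
                        have : ∀ j : Fin 5, j ∉ ({0} : Finset (Fin 5)) → j = 1 ∨ j = 2 ∨ j = 3 ∨ j = 4 := by decide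
                        exact this j hj
                      subst hi'
                      rcases hj' with rfl | rfl | rfl | rfl
                      · exact (hij h01).elim
                      · exact (hij h02).elim
                      · exact (hij h03).elim
                      · exact (hij h04).elim
                    ·
                      obtain ⟨i, hi, j, hj, hij⟩ := T.connected {0} ⟨0, by decide⟩ (by decide)
                      have hi' : i = 0 := by
                        have : ∀ i : Fin 5, i ∈ ({0} : Finset (Fin 5)) → i = 0 := by decide
                        exact this i hi
                      have hj' : j = 1 ∨ j = 2 ∨ j = 3 ∨ j = 4 := by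
                        have : ∀ j : Fin 5, j ∉ ({0} : Finset (Fin 5)) → j = 1 ∨ j = 2 ∨ j = 3 ∨ j = 4 := by decide
                        exact this j hj
                      subst hi'
                      rcases hj' with rfl | rfl | rfl | rfl
                      · exact (hij h01).elim
                      · exact (hij h02).elim
                      · exact (hij h03).elim
                      · exact (hij h04).elim
                  ·
                    exact (notri T h2 1 2 4 (by decide) (by decide) (by decide) (P T _ _ (by decide) h12) (P T _ _ (by decide) h24) (P T _ _ (by decide) h14)).elim
                ·
                  by_cases h24 : T.a 2 4 = 0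
                  ·
                    by_cases h34 : T.a 3 4 = 0
                    ·
                      obtain ⟨i, hi, j, hj, hij⟩ := T.connected {0} ⟨0, by decide⟩ (by decide)
                      have hi' : i = 0 := by
                        have : ∀ i : Fin 5, i ∈ ({0} : Finset (Fin 5)) → i = 0 := by decide
                        exact this i hi
                      have hj' : j = 1 ∨ j = 2 ∨ j = 3 ∨ j = 4 := by
                        have : ∀ j : Fin 5, j ∉ ({0} : Finset (Fin 5)) → j = 1 ∨ j = 2 ∨ j = 3 ∨ j = 4 := by decide
                        exact this j hj
                      subst hi'
                      rcases hj' with rfl | rfl | rfl | rfl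
                      · exact (hij h01).elim
                      · exact (hij h02).elim
                      · exact (hij h03).elim
                      · exact (hij h04).elim
                    ·
                      exact (nocyc4 T h2 1 2 3 4 (by decide) (by decide) (by decide) (by decide) (by decide) (by decide) (P T _ _ (by decide) h12) (P T _ _ (by decide) h23) (P T _ _ (by decide) h34) (P' T _ _ (by decide) h14)).elim
                  ·
                    exact (notri T h2 1 2 4 (by decide) (by decide) (by decide) (P T _ _ (by decide) h12) (P T _ _ (by decide) h24) (P T _ _ (by decide) h14)).elim
            ·
              by_cases h14 : T.a 1 4 = 0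
              ·
                by_cases h23 : T.a 2 3 = 0
                ·
                  by_cases h24 : T.a 2 4 = 0
                  ·
                    by_cases h34 : T.a 3 4 = 0
                    ·
                      obtain ⟨i, hi, j, hj, hij⟩ := T.connected {0} ⟨0, by decide⟩ (by decide)
                      have hi' : i = 0 := by
                        have : ∀ i : Fin 5, i ∈ ({0} : Finset (Fin 5)) → i = 0 := by decide
                        exact this i hi
                      have hj' : j = 1 ∨ j = 2 ∨ j = 3 ∨ j = 4 := by
                        have : ∀ j : Fin 5, j ∉ ({0} : Finset (Fin 5)) → j = 1 ∨ j = 2 ∨ j = 3 ∨ j = 4 := by decide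
                        exact this j hj
                      subst hi'
                      rcases hj' with rfl | rfl | rfl | rfl
                      · exact (hij h01).elim
                      · exact (hij h02).elim
                      · exact (hij h03).elim
                      · exact (hij h04).elim
                    ·
                      obtain ⟨i, hi, j, hj, hij⟩ := T.connected {0} ⟨0, by decide⟩ (by decide)
                      have hi' : i = 0 := by
                        have : ∀ i : Fin 5, i ∈ ({0} : Finset (Fin 5)) → i = 0 := by decide
                        exact this i hi
                      have hj' : j = 1 ∨ j = 2 ∨ j = 3 ∨ j = 4 := by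
                        have : ∀ j : Fin 5, j ∉ ({0} : Finset (Fin 5)) → j = 1 ∨ j = 2 ∨ j = 3 ∨ j = 4 := by decide
                        exact this j hj
                      subst hi'
                      rcases hj' with rfl | rfl | rfl | rfl
                      · exact (hij h01).elim
                      · exact (hij h02).elim
                      · exact (hij h03).elim
                      · exact (hij h04).elim
                  ·
                    by_cases h34 : T.a 3 4 = 0
                    ·
                      obtain ⟨i, hi, j, hj, hij⟩ := T.connected {0} ⟨0, by decide⟩ (by decide)
                      have hi' : i = 0 := by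
                        have : ∀ i : Fin 5, i ∈ ({0} : Finset (Fin 5)) → i = 0 := by decide
                        exact this i hi
                      have hj' : j = 1 ∨ j = 2 ∨ j = 3 ∨ j = 4 := by
                        have : ∀ j : Fin 5, j ∉ ({0} : Finset (Fin 5)) → j = 1 ∨ j = 2 ∨ j = 3 ∨ j = 4 := by decide
                        exact this j hj
                      subst hi'
                      rcases hj' with rfl | rfl | rfl | rfl
                      · exact (hij h01).elim
                      · exact (hij h02).elim
                      · exact (hij h03).elim
                      · exact (hij h04).elim
                    ·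
                      exact (nocyc4 T h2 1 2 4 3 (by decide) (by decide) (by decide) (by decide) (by decide) (by decide) (P T _ _ (by decide) h12) (P T _ _ (by decide) h24) (P' T _ _ (by decide) h34) (P' T _ _ (by decide) h13)).elim
                ·
                  exact (notri T h2 1 2 3 (by decide) (by decide) (by decide) (P T _ _ (by decide) h12) (P T _ _ (by decide) h23) (P T _ _ (by decide) h13)).elim
              ·
                by_cases h23 : T.a 2 3 = 0
                ·
                  by_cases h24 : T.a 2 4 = 0
                  ·
                    by_cases h34 : T.a 3 4 = 0
                    ·
                      obtain ⟨i, hi, j, hj, hij⟩ := T.connected {0} ⟨0, by decide⟩ (by decide)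
                      have hi' : i = 0 := by
                        have : ∀ i : Fin 5, i ∈ ({0} : Finset (Fin 5)) → i = 0 := by decide
                        exact this i hi
                      have hj' : j = 1 ∨ j = 2 ∨ j = 3 ∨ j = 4 := by
                        have : ∀ j : Fin 5, j ∉ ({0} : Finset (Fin 5)) → j = 1 ∨ j = 2 ∨ j = 3 ∨ j = 4 := by decide
                        exact this j hj
                      subst hi'
                      rcases hj' with rfl | rfl | rfl | rfl
                      · exact (hij h01).elim
                      · exact (hij h02).elim
                      · exact (hij h03).elim
                      · exact (hij h04).elim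
                    ·
                      exact (notri T h2 1 3 4 (by decide) (by decide) (by decide) (P T _ _ (by decide) h13) (P T _ _ (by decide) h34) (P T _ _ (by decide) h14)).elim
                  ·
                    exact (notri T h2 1 2 4 (by decide) (by decide) (by decide) (P T _ _ (by decide) h12) (P T _ _ (by decide) h24) (P T _ _ (by decide) h14)).elim
                ·
                  exact (notri T h2 1 2 3 (by decide) (by decide) (by decide) (P T _ _ (by decide) h12) (P T _ _ (by decide) h23) (P T _ _ (by decide) h13)).elim
        ·
          by_cases h12 : T.a 1 2 = 0
          ·
            by_cases h13 : T.a 1 3 = 0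
            ·
              by_cases h14 : T.a 1 4 = 0
              ·
                by_cases h23 : T.a 2 3 = 0
                ·
                  by_cases h24 : T.a 2 4 = 0
                  ·
                    by_cases h34 : T.a 3 4 = 0
                    ·
                      obtain ⟨i, hi, j, hj, hij⟩ := T.connected {0, 4} ⟨0, by decide⟩ (by decide)
                      have hi' : i = 0 ∨ i = 4 := by
                        have : ∀ i : Fin 5, i ∈ ({0, 4} : Finset (Fin 5)) → i = 0 ∨ i = 4 := by decide
                        exact this i hi
                      have hj' : j = 1 ∨ j = 2 ∨ j = 3 := by
                        have : ∀ j : Fin 5, j ∉ ({0, 4} : Finset (Fin 5)) → j = 1 ∨ j = 2 ∨ j = 3 := by decide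
                        exact this j hj
                      rcases hi' with rfl | rfl <;> rcases hj' with rfl | rfl | rfl
                      · exact (hij h01).elim
                      · exact (hij h02).elim
                      · exact (hij h03).elim
                      · exact (hij (Z T _ _ h14)).elim
                      · exact (hij (Z T _ _ h24)).elim
                      · exact (hij (Z T _ _ h34)).elim
                    ·
                      obtain ⟨i, hi, j, hj, hij⟩ := T.connected {0, 3, 4} ⟨0, by decide⟩ (by decide)
                      have hi' : i = 0 ∨ i = 3 ∨ i = 4 := by
                        have : ∀ i : Fin 5, i ∈ ({0, 3, 4} : Finset (Fin 5)) → i = 0 ∨ i = 3 ∨ i = 4 := by decide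
                        exact this i hi
                      have hj' : j = 1 ∨ j = 2 := by
                        have : ∀ j : Fin 5, j ∉ ({0, 3, 4} : Finset (Fin 5)) → j = 1 ∨ j = 2 := by decide
                        exact this j hj
                      rcases hi' with rfl | rfl | rfl <;> rcases hj' with rfl | rfl
                      · exact (hij h01).elim
                      · exact (hij h02).elim
                      · exact (hij (Z T _ _ h13)).elim
                      · exact (hij (Z T _ _ h23)).elim
                      · exact (hij (Z T _ _ h14)).elim
                      · exact (hij (Z T _ _ h24)).elim
                  ·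
                    by_cases h34 : T.a 3 4 = 0
                    ·
                      obtain ⟨i, hi, j, hj, hij⟩ := T.connected {0, 2, 4} ⟨0, by decide⟩ (by decide)
                      have hi' : i = 0 ∨ i = 2 ∨ i = 4 := by
                        have : ∀ i : Fin 5, i ∈ ({0, 2, 4} : Finset (Fin 5)) → i = 0 ∨ i = 2 ∨ i = 4 := by decide
                        exact this i hi
                      have hj' : j = 1 ∨ j = 3 := by
                        have : ∀ j : Fin 5, j ∉ ({0, 2, 4} : Finset (Fin 5)) → j = 1 ∨ j = 3 := by decide
                        exact this j hj
                      rcases hi' with rfl | rfl | rfl <;> rcases hj' with rfl | rfl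
                      · exact (hij h01).elim
                      · exact (hij h03).elim
                      · exact (hij (Z T _ _ h12)).elim
                      · exact (hij h23).elim
                      · exact (hij (Z T _ _ h14)).elim
                      · exact (hij (Z T _ _ h34)).elim
                    ·
                      obtain ⟨i, hi, j, hj, hij⟩ := T.connected {0, 2, 3, 4} ⟨0, by decide⟩ (by decide)
                      have hi' : i = 0 ∨ i = 2 ∨ i = 3 ∨ i = 4 := by
                        have : ∀ i : Fin 5, i ∈ ({0, 2, 3, 4} : Finset (Fin 5)) → i = 0 ∨ i = 2 ∨ i = 3 ∨ i = 4 := by decide
                        exact this i hi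
                      have hj' : j = 1 := by
                        have : ∀ j : Fin 5, j ∉ ({0, 2, 3, 4} : Finset (Fin 5)) → j = 1 := by decide
                        exact this j hj
                      subst hj'
                      rcases hi' with rfl | rfl | rfl | rfl
                      · exact (hij h01).elim
                      · exact (hij (Z T _ _ h12)).elim
                      · exact (hij (Z T _ _ h13)).elim
                      · exact (hij (Z T _ _ h14)).elim
                ·
                  by_cases h24 : T.a 2 4 = 0
                  ·
                    by_cases h34 : T.a 3 4 = 0
                    ·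
                      obtain ⟨i, hi, j, hj, hij⟩ := T.connected {0, 4} ⟨0, by decide⟩ (by decide)
                      have hi' : i = 0 ∨ i = 4 := by
                        have : ∀ i : Fin 5, i ∈ ({0, 4} : Finset (Fin 5)) → i = 0 ∨ i = 4 := by decide
                        exact this i hi
                      have hj' : j = 1 ∨ j = 2 ∨ j = 3 := by
                        have : ∀ j : Fin 5, j ∉ ({0, 4} : Finset (Fin 5)) → j = 1 ∨ j = 2 ∨ j = 3 := by decide
                        exact this j hj
                      rcases hi' with rfl | rfl <;> rcases hj' with rfl | rfl | rfl
                      · exact (hij h01).elim
                      · exact (hij h02).elim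
                      · exact (hij h03).elim
                      · exact (hij (Z T _ _ h14)).elim
                      · exact (hij (Z T _ _ h24)).elim
                      · exact (hij (Z T _ _ h34)).elim
                    ·
                      obtain ⟨i, hi, j, hj, hij⟩ := T.connected {0, 2, 3, 4} ⟨0, by decide⟩ (by decide)
                      have hi' : i = 0 ∨ i = 2 ∨ i = 3 ∨ i = 4 := by
                        have : ∀ i : Fin 5, i ∈ ({0, 2, 3, 4} : Finset (Fin 5)) → i = 0 ∨ i = 2 ∨ i = 3 ∨ i = 4 := by decide
                        exact this i hi
                      have hj' : j = 1 := by
                        have : ∀ j : Fin 5, j ∉ ({0, 2, 3, 4} : Finset (Fin 5)) → j = 1 := by decide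
                        exact this j hj
                      subst hj'
                      rcases hi' with rfl | rfl | rfl | rfl
                      · exact (hij h01).elim
                      · exact (hij (Z T _ _ h12)).elim
                      · exact (hij (Z T _ _ h13)).elim
                      · exact (hij (Z T _ _ h14)).elim
                  ·
                    by_cases h34 : T.a 3 4 = 0
                    ·
                      obtain ⟨i, hi, j, hj, hij⟩ := T.connected {0, 2, 3, 4} ⟨0, by decide⟩ (by decide)
                      have hi' : i = 0 ∨ i = 2 ∨ i = 3 ∨ i = 4 := by
                        have : ∀ i : Fin 5, i ∈ ({0, 2, 3, 4} : Finset (Fin 5)) → i = 0 ∨ i = 2 ∨ i = 3 ∨ i = 4 := by decide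
                        exact this i hi
                      have hj' : j = 1 := by
                        have : ∀ j : Fin 5, j ∉ ({0, 2, 3, 4} : Finset (Fin 5)) → j = 1 := by decide
                        exact this j hj
                      subst hj'
                      rcases hi' with rfl | rfl | rfl | rfl
                      · exact (hij h01).elim
                      · exact (hij (Z T _ _ h12)).elim
                      · exact (hij (Z T _ _ h13)).elim
                      · exact (hij (Z T _ _ h14)).elim
                    ·
                      exact (notri T h2 2 3 4 (by decide) (by decide) (by decide) (P T _ _ (by decide) h23) (P T _ _ (by decide) h34) (P T _ _ (by decide) h24)).elim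
              ·
                by_cases h23 : T.a 2 3 = 0
                ·
                  by_cases h24 : T.a 2 4 = 0
                  ·
                    by_cases h34 : T.a 3 4 = 0
                    ·
                      obtain ⟨i, hi, j, hj, hij⟩ := T.connected {0, 1, 4} ⟨0, by decide⟩ (by decide)
                      have hi' : i = 0 ∨ i = 1 ∨ i = 4 := by
                        have : ∀ i : Fin 5, i ∈ ({0, 1, 4} : Finset (Fin 5)) → i = 0 ∨ i = 1 ∨ i = 4 := by decide
                        exact this i hi
                      have hj' : j = 2 ∨ j = 3 := by
                        have : ∀ j : Fin 5, j ∉ ({0, 1, 4} : Finset (Fin 5)) → j = 2 ∨ j = 3 := by decide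
                        exact this j hj
                      rcases hi' with rfl | rfl | rfl <;> rcases hj' with rfl | rfl
                      · exact (hij h02).elim
                      · exact (hij h03).elim
                      · exact (hij h12).elim
                      · exact (hij h13).elim
                      · exact (hij (Z T _ _ h24)).elim
                      · exact (hij (Z T _ _ h34)).elim
                    ·
                      obtain ⟨i, hi, j, hj, hij⟩ := T.connected {0, 1, 3, 4} ⟨0, by decide⟩ (by decide)
                      have hi' : i = 0 ∨ i = 1 ∨ i = 3 ∨ i = 4 := by
                        have : ∀ i : Fin 5, i ∈ ({0, 1, 3, 4} : Finset (Fin 5)) → i = 0 ∨ i = 1 ∨ i = 3 ∨ i = 4 := by decide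
                        exact this i hi
                      have hj' : j = 2 := by
                        have : ∀ j : Fin 5, j ∉ ({0, 1, 3, 4} : Finset (Fin 5)) → j = 2 := by decide
                        exact this j hj
                      subst hj'
                      rcases hi' with rfl | rfl | rfl | rfl
                      · exact (hij h02).elim
                      · exact (hij h12).elim
                      · exact (hij (Z T _ _ h23)).elim
                      · exact (hij (Z T _ _ h24)).elim
                  ·
                    by_cases h34 : T.a 3 4 = 0
                    ·
                      obtain ⟨i, hi, j, hj, hij⟩ := T.connected {0, 1, 2, 4} ⟨0, by decide⟩ (by decide)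
                      have hi' : i = 0 ∨ i = 1 ∨ i = 2 ∨ i = 4 := by
                        have : ∀ i : Fin 5, i ∈ ({0, 1, 2, 4} : Finset (Fin 5)) → i = 0 ∨ i = 1 ∨ i = 2 ∨ i = 4 := by decide
                        exact this i hi
                      have hj' : j = 3 := by
                        have : ∀ j : Fin 5, j ∉ ({0, 1, 2, 4} : Finset (Fin 5)) → j = 3 := by decide
                        exact this j hj
                      subst hj'
                      rcases hi' with rfl | rfl | rfl | rfl
                      · exact (hij h03).elim
                      · exact (hij h13).elim
                      · exact (hij h23).elim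
                      · exact (hij (Z T _ _ h34)).elim
                    ·
                      exact starL T h2 4 0 1 2 3 (by decide) (by decide) (by decide) (by decide) (by decide) (by decide) (by decide) (by decide) (by decide) (by decide) (P' T _ _ (by decide) h04) (P' T _ _ (by decide) h14) (P' T _ _ (by decide) h24) (P' T _ _ (by decide) h34) h01 h02 h03 h12 h13 h23
                ·
                  by_cases h24 : T.a 2 4 = 0
                  ·
                    by_cases h34 : T.a 3 4 = 0
                    ·
                      obtain ⟨i, hi, j, hj, hij⟩ := T.connected {0, 1, 4} ⟨0, by decide⟩ (by decide)
                      have hi' : i = 0 ∨ i = 1 ∨ i = 4 := by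
                        have : ∀ i : Fin 5, i ∈ ({0, 1, 4} : Finset (Fin 5)) → i = 0 ∨ i = 1 ∨ i = 4 := by decide
                        exact this i hi
                      have hj' : j = 2 ∨ j = 3 := by
                        have : ∀ j : Fin 5, j ∉ ({0, 1, 4} : Finset (Fin 5)) → j = 2 ∨ j = 3 := by decide
                        exact this j hj
                      rcases hi' with rfl | rfl | rfl <;> rcases hj' with rfl | rfl
                      · exact (hij h02).elim
                      · exact (hij h03).elim
                      · exact (hij h12).elim
                      · exact (hij h13).elim
                      · exact (hij (Z T _ _ h24)).elim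
                      · exact (hij (Z T _ _ h34)).elim
                    ·
                      exact forkL T h2 4 0 1 3 2 (by decide) (by decide) (by decide) (by decide) (by decide) (by decide) (by decide) (by decide) (by decide) (by decide) (P' T _ _ (by decide) h04) (P' T _ _ (by decide) h14) (P' T _ _ (by decide) h34) (P' T _ _ (by decide) h23) (Z T _ _ h24) h01 h03 h02 h13 h12
                  ·
                    by_cases h34 : T.a 3 4 = 0
                    ·
                      exact forkL T h2 4 0 1 2 3 (by decide) (by decide) (by decide) (by decide) (by decide) (by decide) (by decide) (by decide) (by decide) (by decide) (P' T _ _ (by decide) h04) (P' T _ _ (by decide) h14) (P' T _ _ (by decide) h24) (P T _ _ (by decide) h23) (Z T _ _ h34) h01 h02 h03 h12 h13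
                    ·
                      exact (notri T h2 2 3 4 (by decide) (by decide) (by decide) (P T _ _ (by decide) h23) (P T _ _ (by decide) h34) (P T _ _ (by decide) h24)).elim
            ·
              by_cases h14 : T.a 1 4 = 0
              ·
                by_cases h23 : T.a 2 3 = 0
                ·
                  by_cases h24 : T.a 2 4 = 0
                  ·
                    by_cases h34 : T.a 3 4 = 0
                    ·
                      obtain ⟨i, hi, j, hj, hij⟩ := T.connected {0, 4} ⟨0, by decide⟩ (by decide)
                      have hi' : i = 0 ∨ i = 4 := by
                        have : ∀ i : Fin 5, i ∈ ({0, 4} : Finset (Fin 5)) → i = 0 ∨ i = 4 := by decide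
                        exact this i hi
                      have hj' : j = 1 ∨ j = 2 ∨ j = 3 := by
                        have : ∀ j : Fin 5, j ∉ ({0, 4} : Finset (Fin 5)) → j = 1 ∨ j = 2 ∨ j = 3 := by decide
                        exact this j hj
                      rcases hi' with rfl | rfl <;> rcases hj' with rfl | rfl | rfl
                      · exact (hij h01).elim
                      · exact (hij h02).elim
                      · exact (hij h03).elim
                      · exact (hij (Z T _ _ h14)).elim
                      · exact (hij (Z T _ _ h24)).elim
                      · exact (hij (Z T _ _ h34)).elim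
                    ·
                      obtain ⟨i, hi, j, hj, hij⟩ := T.connected {0, 1, 3, 4} ⟨0, by decide⟩ (by decide)
                      have hi' : i = 0 ∨ i = 1 ∨ i = 3 ∨ i = 4 := by
                        have : ∀ i : Fin 5, i ∈ ({0, 1, 3, 4} : Finset (Fin 5)) → i = 0 ∨ i = 1 ∨ i = 3 ∨ i = 4 := by decide
                        exact this i hi
                      have hj' : j = 2 := by
                        have : ∀ j : Fin 5, j ∉ ({0, 1, 3, 4} : Finset (Fin 5)) → j = 2 := by decide
                        exact this j hj
                      subst hj'
                      rcases hi' with rfl | rfl | rfl | rfl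
                      · exact (hij h02).elim
                      · exact (hij h12).elim
                      · exact (hij (Z T _ _ h23)).elim
                      · exact (hij (Z T _ _ h24)).elim
                  ·
                    by_cases h34 : T.a 3 4 = 0
                    ·
                      obtain ⟨i, hi, j, hj, hij⟩ := T.connected {0, 2, 4} ⟨0, by decide⟩ (by decide)
                      have hi' : i = 0 ∨ i = 2 ∨ i = 4 := by
                        have : ∀ i : Fin 5, i ∈ ({0, 2, 4} : Finset (Fin 5)) → i = 0 ∨ i = 2 ∨ i = 4 := by decide
                        exact this i hi
                      have hj' : j = 1 ∨ j = 3 := by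
                        have : ∀ j : Fin 5, j ∉ ({0, 2, 4} : Finset (Fin 5)) → j = 1 ∨ j = 3 := by decide
                        exact this j hj
                      rcases hi' with rfl | rfl | rfl <;> rcases hj' with rfl | rfl
                      · exact (hij h01).elim
                      · exact (hij h03).elim
                      · exact (hij (Z T _ _ h12)).elim
                      · exact (hij h23).elim
                      · exact (hij (Z T _ _ h14)).elim
                      · exact (hij (Z T _ _ h34)).elim
                    ·
                      exact forkL T h2 4 0 2 3 1 (by decide) (by decide) (by decide) (by decide) (by decide) (by decide) (by decide) (by decide) (by decide) (by decide) (P' T _ _ (by decide) h04) (P' T _ _ (by decide) h24) (P' T _ _ (by decide) h34) (P' T _ _ (by decide) h13) (Z T _ _ h14) h02 h03 h01 h23 (Z T _ _ h12)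
                ·
                  by_cases h24 : T.a 2 4 = 0
                  ·
                    by_cases h34 : T.a 3 4 = 0
                    ·
                      obtain ⟨i, hi, j, hj, hij⟩ := T.connected {0, 4} ⟨0, by decide⟩ (by decide)
                      have hi' : i = 0 ∨ i = 4 := by
                        have : ∀ i : Fin 5, i ∈ ({0, 4} : Finset (Fin 5)) → i = 0 ∨ i = 4 := by decide
                        exact this i hi
                      have hj' : j = 1 ∨ j = 2 ∨ j = 3 := by
                        have : ∀ j : Fin 5, j ∉ ({0, 4} : Finset (Fin 5)) → j = 1 ∨ j = 2 ∨ j = 3 := by decide
                        exact this j hj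
                      rcases hi' with rfl | rfl <;> rcases hj' with rfl | rfl | rfl
                      · exact (hij h01).elim
                      · exact (hij h02).elim
                      · exact (hij h03).elim
                      · exact (hij (Z T _ _ h14)).elim
                      · exact (hij (Z T _ _ h24)).elim
                      · exact (hij (Z T _ _ h34)).elim
                    ·
                      exact forkL T h2 3 1 2 4 0 (by decide) (by decide) (by decide) (by decide) (by decide) (by decide) (by decide) (by decide) (by decide) (by decide) (P' T _ _ (by decide) h13) (P' T _ _ (by decide) h23) (P T _ _ (by decide) h34) (P' T _ _ (by decide) h04) (Z T _ _ h03) h12 h14 (Z T _ _ h01) h24 (Z T _ _ h02)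
                  ·
                    by_cases h34 : T.a 3 4 = 0
                    ·
                      exact pathL T h2 0 4 2 3 1 (by decide) (by decide) (by decide) (by decide) (by decide) (by decide) (by decide) (by decide) (by decide) (by decide) (P T _ _ (by decide) h04) (P' T _ _ (by decide) h24) (P T _ _ (by decide) h23) (P' T _ _ (by decide) h13) h02 h03 h01 (Z T _ _ h34) (Z T _ _ h14) (Z T _ _ h12)
                    ·
                      exact (notri T h2 2 3 4 (by decide) (by decide) (by decide) (P T _ _ (by decide) h23) (P T _ _ (by decide) h34) (P T _ _ (by decide) h24)).elim
              ·
                by_cases h23 : T.a 2 3 = 0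
                ·
                  by_cases h24 : T.a 2 4 = 0
                  ·
                    by_cases h34 : T.a 3 4 = 0
                    ·
                      obtain ⟨i, hi, j, hj, hij⟩ := T.connected {0, 1, 3, 4} ⟨0, by decide⟩ (by decide)
                      have hi' : i = 0 ∨ i = 1 ∨ i = 3 ∨ i = 4 := by
                        have : ∀ i : Fin 5, i ∈ ({0, 1, 3, 4} : Finset (Fin 5)) → i = 0 ∨ i = 1 ∨ i = 3 ∨ i = 4 := by decide
                        exact this i hi
                      have hj' : j = 2 := by
                        have : ∀ j : Fin 5, j ∉ ({0, 1, 3, 4} : Finset (Fin 5)) → j = 2 := by decide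
                        exact this j hj
                      subst hj'
                      rcases hi' with rfl | rfl | rfl | rfl
                      · exact (hij h02).elim
                      · exact (hij h12).elim
                      · exact (hij (Z T _ _ h23)).elim
                      · exact (hij (Z T _ _ h24)).elim
                    ·
                      exact (notri T h2 1 3 4 (by decide) (by decide) (by decide) (P T _ _ (by decide) h13) (P T _ _ (by decide) h34) (P T _ _ (by decide) h14)).elim
                  ·
                    by_cases h34 : T.a 3 4 = 0
                    ·
                      exact forkL T h2 4 0 2 1 3 (by decide) (by decide) (by decide) (by decide) (by decide) (by decide) (by decide) (by decide) (by decide) (by decide) (P' T _ _ (by decide) h04) (P' T _ _ (by decide) h24) (P' T _ _ (by decide) h14) (P T _ _ (by decide) h13) (Z T _ _ h34) h02 h01 h03 (Z T _ _ h12) h23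
                    ·
                      exact (notri T h2 1 3 4 (by decide) (by decide) (by decide) (P T _ _ (by decide) h13) (P T _ _ (by decide) h34) (P T _ _ (by decide) h14)).elim
                ·
                  by_cases h24 : T.a 2 4 = 0
                  ·
                    by_cases h34 : T.a 3 4 = 0
                    ·
                      exact pathL T h2 0 4 1 3 2 (by decide) (by decide) (by decide) (by decide) (by decide) (by decide) (by decide) (by decide) (by decide) (by decide) (P T _ _ (by decide) h04) (P' T _ _ (by decide) h14) (P T _ _ (by decide) h13) (P' T _ _ (by decide) h23) h01 h03 h02 (Z T _ _ h34) (Z T _ _ h24) h12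
                    ·
                      exact (notri T h2 1 3 4 (by decide) (by decide) (by decide) (P T _ _ (by decide) h13) (P T _ _ (by decide) h34) (P T _ _ (by decide) h14)).elim
                  ·
                    exact (nocyc4 T h2 1 3 2 4 (by decide) (by decide) (by decide) (by decide) (by decide) (by decide) (P T _ _ (by decide) h13) (P' T _ _ (by decide) h23) (P T _ _ (by decide) h24) (P' T _ _ (by decide) h14)).elim
          ·
            by_cases h13 : T.a 1 3 = 0
            ·
              by_cases h14 : T.a 1 4 = 0
              ·
                by_cases h23 : T.a 2 3 = 0
                ·
                  by_cases h24 : T.a 2 4 = 0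
                  ·
                    by_cases h34 : T.a 3 4 = 0
                    ·
                      obtain ⟨i, hi, j, hj, hij⟩ := T.connected {0, 4} ⟨0, by decide⟩ (by decide)
                      have hi' : i = 0 ∨ i = 4 := by
                        have : ∀ i : Fin 5, i ∈ ({0, 4} : Finset (Fin 5)) → i = 0 ∨ i = 4 := by decide
                        exact this i hi
                      have hj' : j = 1 ∨ j = 2 ∨ j = 3 := by
                        have : ∀ j : Fin 5, j ∉ ({0, 4} : Finset (Fin 5)) → j = 1 ∨ j = 2 ∨ j = 3 := by decide
                        exact this j hj
                      rcases hi' with rfl | rfl <;> rcases hj' with rfl | rfl | rfl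
                      · exact (hij h01).elim
                      · exact (hij h02).elim
                      · exact (hij h03).elim
                      · exact (hij (Z T _ _ h14)).elim
                      · exact (hij (Z T _ _ h24)).elim
                      · exact (hij (Z T _ _ h34)).elim
                    ·
                      obtain ⟨i, hi, j, hj, hij⟩ := T.connected {0, 3, 4} ⟨0, by decide⟩ (by decide)
                      have hi' : i = 0 ∨ i = 3 ∨ i = 4 := by
                        have : ∀ i : Fin 5, i ∈ ({0, 3, 4} : Finset (Fin 5)) → i = 0 ∨ i = 3 ∨ i = 4 := by decide
                        exact this i hi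
                      have hj' : j = 1 ∨ j = 2 := by
                        have : ∀ j : Fin 5, j ∉ ({0, 3, 4} : Finset (Fin 5)) → j = 1 ∨ j = 2 := by decide
                        exact this j hj
                      rcases hi' with rfl | rfl | rfl <;> rcases hj' with rfl | rfl
                      · exact (hij h01).elim
                      · exact (hij h02).elim
                      · exact (hij (Z T _ _ h13)).elim
                      · exact (hij (Z T _ _ h23)).elim
                      · exact (hij (Z T _ _ h14)).elim
                      · exact (hij (Z T _ _ h24)).elim
                  ·
                    by_cases h34 : T.a 3 4 = 0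
                    ·
                      obtain ⟨i, hi, j, hj, hij⟩ := T.connected {0, 1, 2, 4} ⟨0, by decide⟩ (by decide)
                      have hi' : i = 0 ∨ i = 1 ∨ i = 2 ∨ i = 4 := by
                        have : ∀ i : Fin 5, i ∈ ({0, 1, 2, 4} : Finset (Fin 5)) → i = 0 ∨ i = 1 ∨ i = 2 ∨ i = 4 := by decide
                        exact this i hi
                      have hj' : j = 3 := by
                        have : ∀ j : Fin 5, j ∉ ({0, 1, 2, 4} : Finset (Fin 5)) → j = 3 := by decide
                        exact this j hj
                      subst hj'
                      rcases hi' with rfl | rfl | rfl | rfl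
                      · exact (hij h03).elim
                      · exact (hij h13).elim
                      · exact (hij h23).elim
                      · exact (hij (Z T _ _ h34)).elim
                    ·
                      exact forkL T h2 4 0 3 2 1 (by decide) (by decide) (by decide) (by decide) (by decide) (by decide) (by decide) (by decide) (by decide) (by decide) (P' T _ _ (by decide) h04) (P' T _ _ (by decide) h34) (P' T _ _ (by decide) h24) (P' T _ _ (by decide) h12) (Z T _ _ h14) h03 h02 h01 (Z T _ _ h23) (Z T _ _ h13)
                ·
                  by_cases h24 : T.a 2 4 = 0
                  ·
                    by_cases h34 : T.a 3 4 = 0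
                    ·
                      obtain ⟨i, hi, j, hj, hij⟩ := T.connected {0, 4} ⟨0, by decide⟩ (by decide)
                      have hi' : i = 0 ∨ i = 4 := by
                        have : ∀ i : Fin 5, i ∈ ({0, 4} : Finset (Fin 5)) → i = 0 ∨ i = 4 := by decide
                        exact this i hi
                      have hj' : j = 1 ∨ j = 2 ∨ j = 3 := by
                        have : ∀ j : Fin 5, j ∉ ({0, 4} : Finset (Fin 5)) → j = 1 ∨ j = 2 ∨ j = 3 := by decide
                        exact this j hj
                      rcases hi' with rfl | rfl <;> rcases hj' with rfl | rfl | rfl
                      · exact (hij h01).elim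
                      · exact (hij h02).elim
                      · exact (hij h03).elim
                      · exact (hij (Z T _ _ h14)).elim
                      · exact (hij (Z T _ _ h24)).elim
                      · exact (hij (Z T _ _ h34)).elim
                    ·
                      exact pathL T h2 0 4 3 2 1 (by decide) (by decide) (by decide) (by decide) (by decide) (by decide) (by decide) (by decide) (by decide) (by decide) (P T _ _ (by decide) h04) (P' T _ _ (by decide) h34) (P' T _ _ (by decide) h23) (P' T _ _ (by decide) h12) h03 h02 h01 (Z T _ _ h24) (Z T _ _ h14) (Z T _ _ h13)
                  ·
                    by_cases h34 : T.a 3 4 = 0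
                    ·
                      exact forkL T h2 2 1 3 4 0 (by decide) (by decide) (by decide) (by decide) (by decide) (by decide) (by decide) (by decide) (by decide) (by decide) (P' T _ _ (by decide) h12) (P T _ _ (by decide) h23) (P T _ _ (by decide) h24) (P' T _ _ (by decide) h04) (Z T _ _ h02) h13 h14 (Z T _ _ h01) h34 (Z T _ _ h03)
                    ·
                      exact (notri T h2 2 3 4 (by decide) (by decide) (by decide) (P T _ _ (by decide) h23) (P T _ _ (by decide) h34) (P T _ _ (by decide) h24)).elim
              ·
                by_cases h23 : T.a 2 3 = 0
                ·
                  by_cases h24 : T.a 2 4 = 0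
                  ·
                    by_cases h34 : T.a 3 4 = 0
                    ·
                      obtain ⟨i, hi, j, hj, hij⟩ := T.connected {0, 1, 2, 4} ⟨0, by decide⟩ (by decide)
                      have hi' : i = 0 ∨ i = 1 ∨ i = 2 ∨ i = 4 := by
                        have : ∀ i : Fin 5, i ∈ ({0, 1, 2, 4} : Finset (Fin 5)) → i = 0 ∨ i = 1 ∨ i = 2 ∨ i = 4 := by decide
                        exact this i hi
                      have hj' : j = 3 := by
                        have : ∀ j : Fin 5, j ∉ ({0, 1, 2, 4} : Finset (Fin 5)) → j = 3 := by decide
                        exact this j hj
                      subst hj'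
                      rcases hi' with rfl | rfl | rfl | rfl
                      · exact (hij h03).elim
                      · exact (hij h13).elim
                      · exact (hij h23).elim
                      · exact (hij (Z T _ _ h34)).elim
                    ·
                      exact forkL T h2 4 0 3 1 2 (by decide) (by decide) (by decide) (by decide) (by decide) (by decide) (by decide) (by decide) (by decide) (by decide) (P' T _ _ (by decide) h04) (P' T _ _ (by decide) h34) (P' T _ _ (by decide) h14) (P T _ _ (by decide) h12) (Z T _ _ h24) h03 h01 h02 (Z T _ _ h13) (Z T _ _ h23)
                  ·
                    exact (notri T h2 1 2 4 (by decide) (by decide) (by decide) (P T _ _ (by decide) h12) (P T _ _ (by decide) h24) (P T _ _ (by decide) h14)).elim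
                ·
                  by_cases h24 : T.a 2 4 = 0
                  ·
                    by_cases h34 : T.a 3 4 = 0
                    ·
                      exact pathL T h2 0 4 1 2 3 (by decide) (by decide) (by decide) (by decide) (by decide) (by decide) (by decide) (by decide) (by decide) (by decide) (P T _ _ (by decide) h04) (P' T _ _ (by decide) h14) (P T _ _ (by decide) h12) (P T _ _ (by decide) h23) h01 h02 h03 (Z T _ _ h24) (Z T _ _ h34) h13
                    ·
                      exact (nocyc4 T h2 1 2 3 4 (by decide) (by decide) (by decide) (by decide) (by decide) (by decide) (P T _ _ (by decide) h12) (P T _ _ (by decide) h23) (P T _ _ (by decide) h34) (P' T _ _ (by decide) h14)).elim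
                  ·
                    exact (notri T h2 1 2 4 (by decide) (by decide) (by decide) (P T _ _ (by decide) h12) (P T _ _ (by decide) h24) (P T _ _ (by decide) h14)).elim
            ·
              by_cases h14 : T.a 1 4 = 0
              ·
                by_cases h23 : T.a 2 3 = 0
                ·
                  by_cases h24 : T.a 2 4 = 0
                  ·
                    by_cases h34 : T.a 3 4 = 0
                    ·
                      obtain ⟨i, hi, j, hj, hij⟩ := T.connected {0, 4} ⟨0, by decide⟩ (by decide)
                      have hi' : i = 0 ∨ i = 4 := by
                        have : ∀ i : Fin 5, i ∈ ({0, 4} : Finset (Fin 5)) → i = 0 ∨ i = 4 := by decide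
                        exact this i hi
                      have hj' : j = 1 ∨ j = 2 ∨ j = 3 := by
                        have : ∀ j : Fin 5, j ∉ ({0, 4} : Finset (Fin 5)) → j = 1 ∨ j = 2 ∨ j = 3 := by decide
                        exact this j hj
                      rcases hi' with rfl | rfl <;> rcases hj' with rfl | rfl | rfl
                      · exact (hij h01).elim
                      · exact (hij h02).elim
                      · exact (hij h03).elim
                      · exact (hij (Z T _ _ h14)).elim
                      · exact (hij (Z T _ _ h24)).elim
                      · exact (hij (Z T _ _ h34)).elim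
                    ·
                      exact pathL T h2 0 4 3 1 2 (by decide) (by decide) (by decide) (by decide) (by decide) (by decide) (by decide) (by decide) (by decide) (by decide) (P T _ _ (by decide) h04) (P' T _ _ (by decide) h34) (P' T _ _ (by decide) h13) (P T _ _ (by decide) h12) h03 h01 h02 (Z T _ _ h14) (Z T _ _ h24) (Z T _ _ h23)
                  ·
                    by_cases h34 : T.a 3 4 = 0
                    ·
                      exact pathL T h2 0 4 2 1 3 (by decide) (by decide) (by decide) (by decide) (by decide) (by decide) (by decide) (by decide) (by decide) (by decide) (P T _ _ (by decide) h04) (P' T _ _ (by decide) h24) (P' T _ _ (by decide) h12) (P T _ _ (by decide) h13) h02 h01 h03 (Z T _ _ h14) (Z T _ _ h34) h23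
                    ·
                      exact (nocyc4 T h2 1 2 4 3 (by decide) (by decide) (by decide) (by decide) (by decide) (by decide) (P T _ _ (by decide) h12) (P T _ _ (by decide) h24) (P' T _ _ (by decide) h34) (P' T _ _ (by decide) h13)).elim
                ·
                  exact (notri T h2 1 2 3 (by decide) (by decide) (by decide) (P T _ _ (by decide) h12) (P T _ _ (by decide) h23) (P T _ _ (by decide) h13)).elim
              ·
                by_cases h23 : T.a 2 3 = 0
                ·
                  by_cases h24 : T.a 2 4 = 0
                  ·
                    by_cases h34 : T.a 3 4 = 0
                    ·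
                      exact forkL T h2 1 2 3 4 0 (by decide) (by decide) (by decide) (by decide) (by decide) (by decide) (by decide) (by decide) (by decide) (by decide) (P T _ _ (by decide) h12) (P T _ _ (by decide) h13) (P T _ _ (by decide) h14) (P' T _ _ (by decide) h04) (Z T _ _ h01) h23 h24 (Z T _ _ h02) h34 (Z T _ _ h03)
                    ·
                      exact (notri T h2 1 3 4 (by decide) (by decide) (by decide) (P T _ _ (by decide) h13) (P T _ _ (by decide) h34) (P T _ _ (by decide) h14)).elim
                  ·
                    exact (notri T h2 1 2 4 (by decide) (by decide) (by decide) (P T _ _ (by decide) h12) (P T _ _ (by decide) h24) (P T _ _ (by decide) h14)).elim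
                ·
                  exact (notri T h2 1 2 3 (by decide) (by decide) (by decide) (P T _ _ (by decide) h12) (P T _ _ (by decide) h23) (P T _ _ (by decide) h13)).elim
      ·
        by_cases h04 : T.a 0 4 = 0
        ·
          by_cases h12 : T.a 1 2 = 0
          ·
            by_cases h13 : T.a 1 3 = 0
            ·
              by_cases h14 : T.a 1 4 = 0
              ·
                by_cases h23 : T.a 2 3 = 0
                ·
                  by_cases h24 : T.a 2 4 = 0
                  ·
                    by_cases h34 : T.a 3 4 = 0
                    ·
                      obtain ⟨i, hi, j, hj, hij⟩ := T.connected {0, 3} ⟨0, by decide⟩ (by decide)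
                      have hi' : i = 0 ∨ i = 3 := by
                        have : ∀ i : Fin 5, i ∈ ({0, 3} : Finset (Fin 5)) → i = 0 ∨ i = 3 := by decide
                        exact this i hi
                      have hj' : j = 1 ∨ j = 2 ∨ j = 4 := by
                        have : ∀ j : Fin 5, j ∉ ({0, 3} : Finset (Fin 5)) → j = 1 ∨ j = 2 ∨ j = 4 := by decide
                        exact this j hj
                      rcases hi' with rfl | rfl <;> rcases hj' with rfl | rfl | rfl
                      · exact (hij h01).elim
                      · exact (hij h02).elim
                      · exact (hij h04).elim
                      · exact (hij (Z T _ _ h13)).elim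
                      · exact (hij (Z T _ _ h23)).elim
                      · exact (hij h34).elim
                    ·
                      obtain ⟨i, hi, j, hj, hij⟩ := T.connected {0, 3, 4} ⟨0, by decide⟩ (by decide)
                      have hi' : i = 0 ∨ i = 3 ∨ i = 4 := by
                        have : ∀ i : Fin 5, i ∈ ({0, 3, 4} : Finset (Fin 5)) → i = 0 ∨ i = 3 ∨ i = 4 := by decide
                        exact this i hi
                      have hj' : j = 1 ∨ j = 2 := by
                        have : ∀ j : Fin 5, j ∉ ({0, 3, 4} : Finset (Fin 5)) → j = 1 ∨ j = 2 := by decide
                        exact this j hj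
                      rcases hi' with rfl | rfl | rfl <;> rcases hj' with rfl | rfl
                      · exact (hij h01).elim
                      · exact (hij h02).elim
                      · exact (hij (Z T _ _ h13)).elim
                      · exact (hij (Z T _ _ h23)).elim
                      · exact (hij (Z T _ _ h14)).elim
                      · exact (hij (Z T _ _ h24)).elim
                  ·
                    by_cases h34 : T.a 3 4 = 0
                    ·
                      obtain ⟨i, hi, j, hj, hij⟩ := T.connected {0, 3} ⟨0, by decide⟩ (by decide)
                      have hi' : i = 0 ∨ i = 3 := by
                        have : ∀ i : Fin 5, i ∈ ({0, 3} : Finset (Fin 5)) → i = 0 ∨ i = 3 := by decide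
                        exact this i hi
                      have hj' : j = 1 ∨ j = 2 ∨ j = 4 := by
                        have : ∀ j : Fin 5, j ∉ ({0, 3} : Finset (Fin 5)) → j = 1 ∨ j = 2 ∨ j = 4 := by decide
                        exact this j hj
                      rcases hi' with rfl | rfl <;> rcases hj' with rfl | rfl | rfl
                      · exact (hij h01).elim
                      · exact (hij h02).elim
                      · exact (hij h04).elim
                      · exact (hij (Z T _ _ h13)).elim
                      · exact (hij (Z T _ _ h23)).elim
                      · exact (hij h34).elim
                    ·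
                      obtain ⟨i, hi, j, hj, hij⟩ := T.connected {0, 2, 3, 4} ⟨0, by decide⟩ (by decide)
                      have hi' : i = 0 ∨ i = 2 ∨ i = 3 ∨ i = 4 := by
                        have : ∀ i : Fin 5, i ∈ ({0, 2, 3, 4} : Finset (Fin 5)) → i = 0 ∨ i = 2 ∨ i = 3 ∨ i = 4 := by decide
                        exact this i hi
                      have hj' : j = 1 := by
                        have : ∀ j : Fin 5, j ∉ ({0, 2, 3, 4} : Finset (Fin 5)) → j = 1 := by decide
                        exact this j hj
                      subst hj'
                      rcases hi' with rfl | rfl | rfl | rfl
                      · exact (hij h01).elim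
                      · exact (hij (Z T _ _ h12)).elim
                      · exact (hij (Z T _ _ h13)).elim
                      · exact (hij (Z T _ _ h14)).elim
                ·
                  by_cases h24 : T.a 2 4 = 0
                  ·
                    by_cases h34 : T.a 3 4 = 0
                    ·
                      obtain ⟨i, hi, j, hj, hij⟩ := T.connected {0, 2, 3} ⟨0, by decide⟩ (by decide)
                      have hi' : i = 0 ∨ i = 2 ∨ i = 3 := by
                        have : ∀ i : Fin 5, i ∈ ({0, 2, 3} : Finset (Fin 5)) → i = 0 ∨ i = 2 ∨ i = 3 := by decide
                        exact this i hi
                      have hj' : j = 1 ∨ j = 4 := by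
                        have : ∀ j : Fin 5, j ∉ ({0, 2, 3} : Finset (Fin 5)) → j = 1 ∨ j = 4 := by decide
                        exact this j hj
                      rcases hi' with rfl | rfl | rfl <;> rcases hj' with rfl | rfl
                      · exact (hij h01).elim
                      · exact (hij h04).elim
                      · exact (hij (Z T _ _ h12)).elim
                      · exact (hij h24).elim
                      · exact (hij (Z T _ _ h13)).elim
                      · exact (hij h34).elim
                    ·
                      obtain ⟨i, hi, j, hj, hij⟩ := T.connected {0, 2, 3, 4} ⟨0, by decide⟩ (by decide)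
                      have hi' : i = 0 ∨ i = 2 ∨ i = 3 ∨ i = 4 := by
                        have : ∀ i : Fin 5, i ∈ ({0, 2, 3, 4} : Finset (Fin 5)) → i = 0 ∨ i = 2 ∨ i = 3 ∨ i = 4 := by decide
                        exact this i hi
                      have hj' : j = 1 := by
                        have : ∀ j : Fin 5, j ∉ ({0, 2, 3, 4} : Finset (Fin 5)) → j = 1 := by decide
                        exact this j hj
                      subst hj'
                      rcases hi' with rfl | rfl | rfl | rfl
                      · exact (hij h01).elim
                      · exact (hij (Z T _ _ h12)).elim
                      · exact (hij (Z T _ _ h13)).elim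
                      · exact (hij (Z T _ _ h14)).elim
                  ·
                    by_cases h34 : T.a 3 4 = 0
                    ·
                      obtain ⟨i, hi, j, hj, hij⟩ := T.connected {0, 2, 3, 4} ⟨0, by decide⟩ (by decide)
                      have hi' : i = 0 ∨ i = 2 ∨ i = 3 ∨ i = 4 := by
                        have : ∀ i : Fin 5, i ∈ ({0, 2, 3, 4} : Finset (Fin 5)) → i = 0 ∨ i = 2 ∨ i = 3 ∨ i = 4 := by decide
                        exact this i hi
                      have hj' : j = 1 := by
                        have : ∀ j : Fin 5, j ∉ ({0, 2, 3, 4} : Finset (Fin 5)) → j = 1 := by decide
                        exact this j hj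
                      subst hj'
                      rcases hi' with rfl | rfl | rfl | rfl
                      · exact (hij h01).elim
                      · exact (hij (Z T _ _ h12)).elim
                      · exact (hij (Z T _ _ h13)).elim
                      · exact (hij (Z T _ _ h14)).elim
                    ·
                      exact (notri T h2 2 3 4 (by decide) (by decide) (by decide) (P T _ _ (by decide) h23) (P T _ _ (by decide) h34) (P T _ _ (by decide) h24)).elim
              ·
                by_cases h23 : T.a 2 3 = 0
                ·
                  by_cases h24 : T.a 2 4 = 0
                  ·
                    by_cases h34 : T.a 3 4 = 0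
                    ·
                      obtain ⟨i, hi, j, hj, hij⟩ := T.connected {0, 3} ⟨0, by decide⟩ (by decide)
                      have hi' : i = 0 ∨ i = 3 := by
                        have : ∀ i : Fin 5, i ∈ ({0, 3} : Finset (Fin 5)) → i = 0 ∨ i = 3 := by decide
                        exact this i hi
                      have hj' : j = 1 ∨ j = 2 ∨ j = 4 := by
                        have : ∀ j : Fin 5, j ∉ ({0, 3} : Finset (Fin 5)) → j = 1 ∨ j = 2 ∨ j = 4 := by decide
                        exact this j hj
                      rcases hi' with rfl | rfl <;> rcases hj' with rfl | rfl | rfl
                      · exact (hij h01).elim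
                      · exact (hij h02).elim
                      · exact (hij h04).elim
                      · exact (hij (Z T _ _ h13)).elim
                      · exact (hij (Z T _ _ h23)).elim
                      · exact (hij h34).elim
                    ·
                      obtain ⟨i, hi, j, hj, hij⟩ := T.connected {0, 1, 3, 4} ⟨0, by decide⟩ (by decide)
                      have hi' : i = 0 ∨ i = 1 ∨ i = 3 ∨ i = 4 := by
                        have : ∀ i : Fin 5, i ∈ ({0, 1, 3, 4} : Finset (Fin 5)) → i = 0 ∨ i = 1 ∨ i = 3 ∨ i = 4 := by decide
                        exact this i hi
                      have hj' : j = 2 := by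
                        have : ∀ j : Fin 5, j ∉ ({0, 1, 3, 4} : Finset (Fin 5)) → j = 2 := by decide
                        exact this j hj
                      subst hj'
                      rcases hi' with rfl | rfl | rfl | rfl
                      · exact (hij h02).elim
                      · exact (hij h12).elim
                      · exact (hij (Z T _ _ h23)).elim
                      · exact (hij (Z T _ _ h24)).elim
                  ·
                    by_cases h34 : T.a 3 4 = 0
                    ·
                      obtain ⟨i, hi, j, hj, hij⟩ := T.connected {0, 3} ⟨0, by decide⟩ (by decide)
                      have hi' : i = 0 ∨ i = 3 := by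
                        have : ∀ i : Fin 5, i ∈ ({0, 3} : Finset (Fin 5)) → i = 0 ∨ i = 3 := by decide
                        exact this i hi
                      have hj' : j = 1 ∨ j = 2 ∨ j = 4 := by
                        have : ∀ j : Fin 5, j ∉ ({0, 3} : Finset (Fin 5)) → j = 1 ∨ j = 2 ∨ j = 4 := by decide
                        exact this j hj
                      rcases hi' with rfl | rfl <;> rcases hj' with rfl | rfl | rfl
                      · exact (hij h01).elim
                      · exact (hij h02).elim
                      · exact (hij h04).elim
                      · exact (hij (Z T _ _ h13)).elim
                      · exact (hij (Z T _ _ h23)).elim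
                      · exact (hij h34).elim
                    ·
                      exact forkL T h2 4 1 2 3 0 (by decide) (by decide) (by decide) (by decide) (by decide) (by decide) (by decide) (by decide) (by decide) (by decide) (P' T _ _ (by decide) h14) (P' T _ _ (by decide) h24) (P' T _ _ (by decide) h34) (P' T _ _ (by decide) h03) (Z T _ _ h04) h12 h13 (Z T _ _ h01) h23 (Z T _ _ h02)
                ·
                  by_cases h24 : T.a 2 4 = 0
                  ·
                    by_cases h34 : T.a 3 4 = 0
                    ·
                      obtain ⟨i, hi, j, hj, hij⟩ := T.connected {0, 2, 3} ⟨0, by decide⟩ (by decide)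
                      have hi' : i = 0 ∨ i = 2 ∨ i = 3 := by
                        have : ∀ i : Fin 5, i ∈ ({0, 2, 3} : Finset (Fin 5)) → i = 0 ∨ i = 2 ∨ i = 3 := by decide
                        exact this i hi
                      have hj' : j = 1 ∨ j = 4 := by
                        have : ∀ j : Fin 5, j ∉ ({0, 2, 3} : Finset (Fin 5)) → j = 1 ∨ j = 4 := by decide
                        exact this j hj
                      rcases hi' with rfl | rfl | rfl <;> rcases hj' with rfl | rfl
                      · exact (hij h01).elim
                      · exact (hij h04).elim
                      · exact (hij (Z T _ _ h12)).elim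
                      · exact (hij h24).elim
                      · exact (hij (Z T _ _ h13)).elim
                      · exact (hij h34).elim
                    ·
                      exact forkL T h2 3 0 2 4 1 (by decide) (by decide) (by decide) (by decide) (by decide) (by decide) (by decide) (by decide) (by decide) (by decide) (P' T _ _ (by decide) h03) (P' T _ _ (by decide) h23) (P T _ _ (by decide) h34) (P' T _ _ (by decide) h14) (Z T _ _ h13) h02 h04 h01 h24 (Z T _ _ h12)
                  ·
                    by_cases h34 : T.a 3 4 = 0
                    ·
                      exact pathL T h2 0 3 2 4 1 (by decide) (by decide) (by decide) (by decide) (by decide) (by decide) (by decide) (by decide) (by decide) (by decide) (P T _ _ (by decide) h03) (P' T _ _ (by decide) h23) (P T _ _ (by decide) h24) (P' T _ _ (by decide) h14) h02 h04 h01 h34 (Z T _ _ h13) (Z T _ _ h12)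
                    ·
                      exact (notri T h2 2 3 4 (by decide) (by decide) (by decide) (P T _ _ (by decide) h23) (P T _ _ (by decide) h34) (P T _ _ (by decide) h24)).elim
            ·
              by_cases h14 : T.a 1 4 = 0
              ·
                by_cases h23 : T.a 2 3 = 0
                ·
                  by_cases h24 : T.a 2 4 = 0
                  ·
                    by_cases h34 : T.a 3 4 = 0
                    ·
                      obtain ⟨i, hi, j, hj, hij⟩ := T.connected {0, 1, 3} ⟨0, by decide⟩ (by decide)
                      have hi' : i = 0 ∨ i = 1 ∨ i = 3 := by
                        have : ∀ i : Fin 5, i ∈ ({0, 1, 3} : Finset (Fin 5)) → i = 0 ∨ i = 1 ∨ i = 3 := by decide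
                        exact this i hi
                      have hj' : j = 2 ∨ j = 4 := by
                        have : ∀ j : Fin 5, j ∉ ({0, 1, 3} : Finset (Fin 5)) → j = 2 ∨ j = 4 := by decide
                        exact this j hj
                      rcases hi' with rfl | rfl | rfl <;> rcases hj' with rfl | rfl
                      · exact (hij h02).elim
                      · exact (hij h04).elim
                      · exact (hij h12).elim
                      · exact (hij h14).elim
                      · exact (hij (Z T _ _ h23)).elim
                      · exact (hij h34).elim
                    ·
                      obtain ⟨i, hi, j, hj, hij⟩ := T.connected {0, 1, 3, 4} ⟨0, by decide⟩ (by decide)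
                      have hi' : i = 0 ∨ i = 1 ∨ i = 3 ∨ i = 4 := by
                        have : ∀ i : Fin 5, i ∈ ({0, 1, 3, 4} : Finset (Fin 5)) → i = 0 ∨ i = 1 ∨ i = 3 ∨ i = 4 := by decide
                        exact this i hi
                      have hj' : j = 2 := by
                        have : ∀ j : Fin 5, j ∉ ({0, 1, 3, 4} : Finset (Fin 5)) → j = 2 := by decide
                        exact this j hj
                      subst hj'
                      rcases hi' with rfl | rfl | rfl | rfl
                      · exact (hij h02).elim
                      · exact (hij h12).elim
                      · exact (hij (Z T _ _ h23)).elim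
                      · exact (hij (Z T _ _ h24)).elim
                  ·
                    by_cases h34 : T.a 3 4 = 0
                    ·
                      obtain ⟨i, hi, j, hj, hij⟩ := T.connected {0, 1, 3} ⟨0, by decide⟩ (by decide)
                      have hi' : i = 0 ∨ i = 1 ∨ i = 3 := by
                        have : ∀ i : Fin 5, i ∈ ({0, 1, 3} : Finset (Fin 5)) → i = 0 ∨ i = 1 ∨ i = 3 := by decide
                        exact this i hi
                      have hj' : j = 2 ∨ j = 4 := by
                        have : ∀ j : Fin 5, j ∉ ({0, 1, 3} : Finset (Fin 5)) → j = 2 ∨ j = 4 := by decide
                        exact this j hj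
                      rcases hi' with rfl | rfl | rfl <;> rcases hj' with rfl | rfl
                      · exact (hij h02).elim
                      · exact (hij h04).elim
                      · exact (hij h12).elim
                      · exact (hij h14).elim
                      · exact (hij (Z T _ _ h23)).elim
                      · exact (hij h34).elim
                    ·
                      exact forkL T h2 3 0 1 4 2 (by decide) (by decide) (by decide) (by decide) (by decide) (by decide) (by decide) (by decide) (by decide) (by decide) (P' T _ _ (by decide) h03) (P' T _ _ (by decide) h13) (P T _ _ (by decide) h34) (P' T _ _ (by decide) h24) (Z T _ _ h23) h01 h04 h02 h14 h12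
                ·
                  by_cases h24 : T.a 2 4 = 0
                  ·
                    by_cases h34 : T.a 3 4 = 0
                    ·
                      obtain ⟨i, hi, j, hj, hij⟩ := T.connected {0, 1, 2, 3} ⟨0, by decide⟩ (by decide)
                      have hi' : i = 0 ∨ i = 1 ∨ i = 2 ∨ i = 3 := by
                        have : ∀ i : Fin 5, i ∈ ({0, 1, 2, 3} : Finset (Fin 5)) → i = 0 ∨ i = 1 ∨ i = 2 ∨ i = 3 := by decide
                        exact this i hi
                      have hj' : j = 4 := by
                        have : ∀ j : Fin 5, j ∉ ({0, 1, 2, 3} : Finset (Fin 5)) → j = 4 := by decide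
                        exact this j hj
                      subst hj'
                      rcases hi' with rfl | rfl | rfl | rfl
                      · exact (hij h04).elim
                      · exact (hij h14).elim
                      · exact (hij h24).elim
                      · exact (hij h34).elim
                    ·
                      exact starL T h2 3 0 1 2 4 (by decide) (by decide) (by decide) (by decide) (by decide) (by decide) (by decide) (by decide) (by decide) (by decide) (P' T _ _ (by decide) h03) (P' T _ _ (by decide) h13) (P' T _ _ (by decide) h23) (P T _ _ (by decide) h34) h01 h02 h04 h12 h14 h24
                  ·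
                    by_cases h34 : T.a 3 4 = 0
                    ·
                      exact forkL T h2 3 0 1 2 4 (by decide) (by decide) (by decide) (by decide) (by decide) (by decide) (by decide) (by decide) (by decide) (by decide) (P' T _ _ (by decide) h03) (P' T _ _ (by decide) h13) (P' T _ _ (by decide) h23) (P T _ _ (by decide) h24) h34 h01 h02 h04 h12 h14
                    ·
                      exact (notri T h2 2 3 4 (by decide) (by decide) (by decide) (P T _ _ (by decide) h23) (P T _ _ (by decide) h34) (P T _ _ (by decide) h24)).elim
              ·
                by_cases h23 : T.a 2 3 = 0
                ·
                  by_cases h24 : T.a 2 4 = 0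
                  ·
                    by_cases h34 : T.a 3 4 = 0
                    ·
                      obtain ⟨i, hi, j, hj, hij⟩ := T.connected {0, 1, 3, 4} ⟨0, by decide⟩ (by decide)
                      have hi' : i = 0 ∨ i = 1 ∨ i = 3 ∨ i = 4 := by
                        have : ∀ i : Fin 5, i ∈ ({0, 1, 3, 4} : Finset (Fin 5)) → i = 0 ∨ i = 1 ∨ i = 3 ∨ i = 4 := by decide
                        exact this i hi
                      have hj' : j = 2 := by
                        have : ∀ j : Fin 5, j ∉ ({0, 1, 3, 4} : Finset (Fin 5)) → j = 2 := by decide
                        exact this j hj
                      subst hj'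
                      rcases hi' with rfl | rfl | rfl | rfl
                      · exact (hij h02).elim
                      · exact (hij h12).elim
                      · exact (hij (Z T _ _ h23)).elim
                      · exact (hij (Z T _ _ h24)).elim
                    ·
                      exact (notri T h2 1 3 4 (by decide) (by decide) (by decide) (P T _ _ (by decide) h13) (P T _ _ (by decide) h34) (P T _ _ (by decide) h14)).elim
                  ·
                    by_cases h34 : T.a 3 4 = 0
                    ·
                      exact pathL T h2 0 3 1 4 2 (by decide) (by decide) (by decide) (by decide) (by decide) (by decide) (by decide) (by decide) (by decide) (by decide) (P T _ _ (by decide) h03) (P' T _ _ (by decide) h13) (P T _ _ (by decide) h14) (P' T _ _ (by decide) h24) h01 h04 h02 h34 (Z T _ _ h23) h12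
                    ·
                      exact (notri T h2 1 3 4 (by decide) (by decide) (by decide) (P T _ _ (by decide) h13) (P T _ _ (by decide) h34) (P T _ _ (by decide) h14)).elim
                ·
                  by_cases h24 : T.a 2 4 = 0
                  ·
                    by_cases h34 : T.a 3 4 = 0
                    ·
                      exact forkL T h2 3 0 2 1 4 (by decide) (by decide) (by decide) (by decide) (by decide) (by decide) (by decide) (by decide) (by decide) (by decide) (P' T _ _ (by decide) h03) (P' T _ _ (by decide) h23) (P' T _ _ (by decide) h13) (P T _ _ (by decide) h14) h34 h02 h01 h04 (Z T _ _ h12) h24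
                    ·
                      exact (notri T h2 1 3 4 (by decide) (by decide) (by decide) (P T _ _ (by decide) h13) (P T _ _ (by decide) h34) (P T _ _ (by decide) h14)).elim
                  ·
                    exact (nocyc4 T h2 1 3 2 4 (by decide) (by decide) (by decide) (by decide) (by decide) (by decide) (P T _ _ (by decide) h13) (P' T _ _ (by decide) h23) (P T _ _ (by decide) h24) (P' T _ _ (by decide) h14)).elim
          ·
            by_cases h13 : T.a 1 3 = 0
            ·
              by_cases h14 : T.a 1 4 = 0
              ·
                by_cases h23 : T.a 2 3 = 0
                ·
                  by_cases h24 : T.a 2 4 = 0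
                  ·
                    by_cases h34 : T.a 3 4 = 0
                    ·
                      obtain ⟨i, hi, j, hj, hij⟩ := T.connected {0, 3} ⟨0, by decide⟩ (by decide)
                      have hi' : i = 0 ∨ i = 3 := by
                        have : ∀ i : Fin 5, i ∈ ({0, 3} : Finset (Fin 5)) → i = 0 ∨ i = 3 := by decide
                        exact this i hi
                      have hj' : j = 1 ∨ j = 2 ∨ j = 4 := by
                        have : ∀ j : Fin 5, j ∉ ({0, 3} : Finset (Fin 5)) → j = 1 ∨ j = 2 ∨ j = 4 := by decide
                        exact this j hj
                      rcases hi' with rfl | rfl <;> rcases hj' with rfl | rfl | rfl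
                      · exact (hij h01).elim
                      · exact (hij h02).elim
                      · exact (hij h04).elim
                      · exact (hij (Z T _ _ h13)).elim
                      · exact (hij (Z T _ _ h23)).elim
                      · exact (hij h34).elim
                    ·
                      obtain ⟨i, hi, j, hj, hij⟩ := T.connected {0, 3, 4} ⟨0, by decide⟩ (by decide)
                      have hi' : i = 0 ∨ i = 3 ∨ i = 4 := by
                        have : ∀ i : Fin 5, i ∈ ({0, 3, 4} : Finset (Fin 5)) → i = 0 ∨ i = 3 ∨ i = 4 := by decide
                        exact this i hi
                      have hj' : j = 1 ∨ j = 2 := by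
                        have : ∀ j : Fin 5, j ∉ ({0, 3, 4} : Finset (Fin 5)) → j = 1 ∨ j = 2 := by decide
                        exact this j hj
                      rcases hi' with rfl | rfl | rfl <;> rcases hj' with rfl | rfl
                      · exact (hij h01).elim
                      · exact (hij h02).elim
                      · exact (hij (Z T _ _ h13)).elim
                      · exact (hij (Z T _ _ h23)).elim
                      · exact (hij (Z T _ _ h14)).elim
                      · exact (hij (Z T _ _ h24)).elim
                  ·
                    by_cases h34 : T.a 3 4 = 0
                    ·
                      obtain ⟨i, hi, j, hj, hij⟩ := T.connected {0, 3} ⟨0, by decide⟩ (by decide)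
                      have hi' : i = 0 ∨ i = 3 := by
                        have : ∀ i : Fin 5, i ∈ ({0, 3} : Finset (Fin 5)) → i = 0 ∨ i = 3 := by decide
                        exact this i hi
                      have hj' : j = 1 ∨ j = 2 ∨ j = 4 := by
                        have : ∀ j : Fin 5, j ∉ ({0, 3} : Finset (Fin 5)) → j = 1 ∨ j = 2 ∨ j = 4 := by decide
                        exact this j hj
                      rcases hi' with rfl | rfl <;> rcases hj' with rfl | rfl | rfl
                      · exact (hij h01).elim
                      · exact (hij h02).elim
                      · exact (hij h04).elim
                      · exact (hij (Z T _ _ h13)).elim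
                      · exact (hij (Z T _ _ h23)).elim
                      · exact (hij h34).elim
                    ·
                      exact pathL T h2 0 3 4 2 1 (by decide) (by decide) (by decide) (by decide) (by decide) (by decide) (by decide) (by decide) (by decide) (by decide) (P T _ _ (by decide) h03) (P T _ _ (by decide) h34) (P' T _ _ (by decide) h24) (P' T _ _ (by decide) h12) h04 h02 h01 (Z T _ _ h23) (Z T _ _ h13) (Z T _ _ h14)
                ·
                  by_cases h24 : T.a 2 4 = 0
                  ·
                    by_cases h34 : T.a 3 4 = 0
                    ·
                      obtain ⟨i, hi, j, hj, hij⟩ := T.connected {0, 1, 2, 3} ⟨0, by decide⟩ (by decide)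
                      have hi' : i = 0 ∨ i = 1 ∨ i = 2 ∨ i = 3 := by
                        have : ∀ i : Fin 5, i ∈ ({0, 1, 2, 3} : Finset (Fin 5)) → i = 0 ∨ i = 1 ∨ i = 2 ∨ i = 3 := by decide
                        exact this i hi
                      have hj' : j = 4 := by
                        have : ∀ j : Fin 5, j ∉ ({0, 1, 2, 3} : Finset (Fin 5)) → j = 4 := by decide
                        exact this j hj
                      subst hj'
                      rcases hi' with rfl | rfl | rfl | rfl
                      · exact (hij h04).elim
                      · exact (hij h14).elim
                      · exact (hij h24).elim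
                      · exact (hij h34).elim
                    ·
                      exact forkL T h2 3 0 4 2 1 (by decide) (by decide) (by decide) (by decide) (by decide) (by decide) (by decide) (by decide) (by decide) (by decide) (P' T _ _ (by decide) h03) (P T _ _ (by decide) h34) (P' T _ _ (by decide) h23) (P' T _ _ (by decide) h12) (Z T _ _ h13) h04 h02 h01 (Z T _ _ h24) (Z T _ _ h14)
                  ·
                    by_cases h34 : T.a 3 4 = 0
                    ·
                      exact forkL T h2 2 1 4 3 0 (by decide) (by decide) (by decide) (by decide) (by decide) (by decide) (by decide) (by decide) (by decide) (by decide) (P' T _ _ (by decide) h12) (P T _ _ (by decide) h24) (P T _ _ (by decide) h23) (P' T _ _ (by decide) h03) (Z T _ _ h02) h14 h13 (Z T _ _ h01) (Z T _ _ h34) (Z T _ _ h04)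
                    ·
                      exact (notri T h2 2 3 4 (by decide) (by decide) (by decide) (P T _ _ (by decide) h23) (P T _ _ (by decide) h34) (P T _ _ (by decide) h24)).elim
              ·
                by_cases h23 : T.a 2 3 = 0
                ·
                  by_cases h24 : T.a 2 4 = 0
                  ·
                    by_cases h34 : T.a 3 4 = 0
                    ·
                      obtain ⟨i, hi, j, hj, hij⟩ := T.connected {0, 3} ⟨0, by decide⟩ (by decide)
                      have hi' : i = 0 ∨ i = 3 := by
                        have : ∀ i : Fin 5, i ∈ ({0, 3} : Finset (Fin 5)) → i = 0 ∨ i = 3 := by decide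
                        exact this i hi
                      have hj' : j = 1 ∨ j = 2 ∨ j = 4 := by
                        have : ∀ j : Fin 5, j ∉ ({0, 3} : Finset (Fin 5)) → j = 1 ∨ j = 2 ∨ j = 4 := by decide
                        exact this j hj
                      rcases hi' with rfl | rfl <;> rcases hj' with rfl | rfl | rfl
                      · exact (hij h01).elim
                      · exact (hij h02).elim
                      · exact (hij h04).elim
                      · exact (hij (Z T _ _ h13)).elim
                      · exact (hij (Z T _ _ h23)).elim
                      · exact (hij h34).elim
                    ·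
                      exact pathL T h2 0 3 4 1 2 (by decide) (by decide) (by decide) (by decide) (by decide) (by decide) (by decide) (by decide) (by decide) (by decide) (P T _ _ (by decide) h03) (P T _ _ (by decide) h34) (P' T _ _ (by decide) h14) (P T _ _ (by decide) h12) h04 h01 h02 (Z T _ _ h13) (Z T _ _ h23) (Z T _ _ h24)
                  ·
                    exact (notri T h2 1 2 4 (by decide) (by decide) (by decide) (P T _ _ (by decide) h12) (P T _ _ (by decide) h24) (P T _ _ (by decide) h14)).elim
                ·
                  by_cases h24 : T.a 2 4 = 0
                  ·
                    by_cases h34 : T.a 3 4 = 0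
                    ·
                      exact pathL T h2 0 3 2 1 4 (by decide) (by decide) (by decide) (by decide) (by decide) (by decide) (by decide) (by decide) (by decide) (by decide) (P T _ _ (by decide) h03) (P' T _ _ (by decide) h23) (P' T _ _ (by decide) h12) (P T _ _ (by decide) h14) h02 h01 h04 (Z T _ _ h13) h34 h24
                    ·
                      exact (nocyc4 T h2 1 2 3 4 (by decide) (by decide) (by decide) (by decide) (by decide) (by decide) (P T _ _ (by decide) h12) (P T _ _ (by decide) h23) (P T _ _ (by decide) h34) (P' T _ _ (by decide) h14)).elim
                  ·
                    exact (notri T h2 1 2 4 (by decide) (by decide) (by decide) (P T _ _ (by decide) h12) (P T _ _ (by decide) h24) (P T _ _ (by decide) h14)).elim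
            ·
              by_cases h14 : T.a 1 4 = 0
              ·
                by_cases h23 : T.a 2 3 = 0
                ·
                  by_cases h24 : T.a 2 4 = 0
                  ·
                    by_cases h34 : T.a 3 4 = 0
                    ·
                      obtain ⟨i, hi, j, hj, hij⟩ := T.connected {0, 1, 2, 3} ⟨0, by decide⟩ (by decide)
                      have hi' : i = 0 ∨ i = 1 ∨ i = 2 ∨ i = 3 := by
                        have : ∀ i : Fin 5, i ∈ ({0, 1, 2, 3} : Finset (Fin 5)) → i = 0 ∨ i = 1 ∨ i = 2 ∨ i = 3 := by decide
                        exact this i hi
                      have hj' : j = 4 := by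
                        have : ∀ j : Fin 5, j ∉ ({0, 1, 2, 3} : Finset (Fin 5)) → j = 4 := by decide
                        exact this j hj
                      subst hj'
                      rcases hi' with rfl | rfl | rfl | rfl
                      · exact (hij h04).elim
                      · exact (hij h14).elim
                      · exact (hij h24).elim
                      · exact (hij h34).elim
                    ·
                      exact forkL T h2 3 0 4 1 2 (by decide) (by decide) (by decide) (by decide) (by decide) (by decide) (by decide) (by decide) (by decide) (by decide) (P' T _ _ (by decide) h03) (P T _ _ (by decide) h34) (P' T _ _ (by decide) h13) (P T _ _ (by decide) h12) (Z T _ _ h23) h04 h01 h02 (Z T _ _ h14) (Z T _ _ h24)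
                  ·
                    by_cases h34 : T.a 3 4 = 0
                    ·
                      exact pathL T h2 0 3 1 2 4 (by decide) (by decide) (by decide) (by decide) (by decide) (by decide) (by decide) (by decide) (by decide) (by decide) (P T _ _ (by decide) h03) (P' T _ _ (by decide) h13) (P T _ _ (by decide) h12) (P T _ _ (by decide) h24) h01 h02 h04 (Z T _ _ h23) h34 h14
                    ·
                      exact (nocyc4 T h2 1 2 4 3 (by decide) (by decide) (by decide) (by decide) (by decide) (by decide) (P T _ _ (by decide) h12) (P T _ _ (by decide) h24) (P' T _ _ (by decide) h34) (P' T _ _ (by decide) h13)).elim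
                ·
                  exact (notri T h2 1 2 3 (by decide) (by decide) (by decide) (P T _ _ (by decide) h12) (P T _ _ (by decide) h23) (P T _ _ (by decide) h13)).elim
              ·
                by_cases h23 : T.a 2 3 = 0
                ·
                  by_cases h24 : T.a 2 4 = 0
                  ·
                    by_cases h34 : T.a 3 4 = 0
                    ·
                      exact forkL T h2 1 2 4 3 0 (by decide) (by decide) (by decide) (by decide) (by decide) (by decide) (by decide) (by decide) (by decide) (by decide) (P T _ _ (by decide) h12) (P T _ _ (by decide) h14) (P T _ _ (by decide) h13) (P' T _ _ (by decide) h03) (Z T _ _ h01) h24 h23 (Z T _ _ h02) (Z T _ _ h34) (Z T _ _ h04)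
                    ·
                      exact (notri T h2 1 3 4 (by decide) (by decide) (by decide) (P T _ _ (by decide) h13) (P T _ _ (by decide) h34) (P T _ _ (by decide) h14)).elim
                  ·
                    exact (notri T h2 1 2 4 (by decide) (by decide) (by decide) (P T _ _ (by decide) h12) (P T _ _ (by decide) h24) (P T _ _ (by decide) h14)).elim
                ·
                  exact (notri T h2 1 2 3 (by decide) (by decide) (by decide) (P T _ _ (by decide) h12) (P T _ _ (by decide) h23) (P T _ _ (by decide) h13)).elim
        ·
          by_cases h12 : T.a 1 2 = 0
          ·
            by_cases h13 : T.a 1 3 = 0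
            ·
              by_cases h14 : T.a 1 4 = 0
              ·
                by_cases h23 : T.a 2 3 = 0
                ·
                  by_cases h24 : T.a 2 4 = 0
                  ·
                    by_cases h34 : T.a 3 4 = 0
                    ·
                      obtain ⟨i, hi, j, hj, hij⟩ := T.connected {0, 3, 4} ⟨0, by decide⟩ (by decide)
                      have hi' : i = 0 ∨ i = 3 ∨ i = 4 := by
                        have : ∀ i : Fin 5, i ∈ ({0, 3, 4} : Finset (Fin 5)) → i = 0 ∨ i = 3 ∨ i = 4 := by decide
                        exact this i hi
                      have hj' : j = 1 ∨ j = 2 := by
                        have : ∀ j : Fin 5, j ∉ ({0, 3, 4} : Finset (Fin 5)) → j = 1 ∨ j = 2 := by decide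
                        exact this j hj
                      rcases hi' with rfl | rfl | rfl <;> rcases hj' with rfl | rfl
                      · exact (hij h01).elim
                      · exact (hij h02).elim
                      · exact (hij (Z T _ _ h13)).elim
                      · exact (hij (Z T _ _ h23)).elim
                      · exact (hij (Z T _ _ h14)).elim
                      · exact (hij (Z T _ _ h24)).elim
                    ·
                      exact (notri T h2 0 3 4 (by decide) (by decide) (by decide) (P T _ _ (by decide) h03) (P T _ _ (by decide) h34) (P T _ _ (by decide) h04)).elim
                  ·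
                    by_cases h34 : T.a 3 4 = 0
                    ·
                      obtain ⟨i, hi, j, hj, hij⟩ := T.connected {0, 2, 3, 4} ⟨0, by decide⟩ (by decide)
                      have hi' : i = 0 ∨ i = 2 ∨ i = 3 ∨ i = 4 := by
                        have : ∀ i : Fin 5, i ∈ ({0, 2, 3, 4} : Finset (Fin 5)) → i = 0 ∨ i = 2 ∨ i = 3 ∨ i = 4 := by decide
                        exact this i hi
                      have hj' : j = 1 := by
                        have : ∀ j : Fin 5, j ∉ ({0, 2, 3, 4} : Finset (Fin 5)) → j = 1 := by decide
                        exact this j hj
                      subst hj'
                      rcases hi' with rfl | rfl | rfl | rfl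
                      · exact (hij h01).elim
                      · exact (hij (Z T _ _ h12)).elim
                      · exact (hij (Z T _ _ h13)).elim
                      · exact (hij (Z T _ _ h14)).elim
                    ·
                      exact (notri T h2 0 3 4 (by decide) (by decide) (by decide) (P T _ _ (by decide) h03) (P T _ _ (by decide) h34) (P T _ _ (by decide) h04)).elim
                ·
                  by_cases h24 : T.a 2 4 = 0
                  ·
                    by_cases h34 : T.a 3 4 = 0
                    ·
                      obtain ⟨i, hi, j, hj, hij⟩ := T.connected {0, 2, 3, 4} ⟨0, by decide⟩ (by decide)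
                      have hi' : i = 0 ∨ i = 2 ∨ i = 3 ∨ i = 4 := by
                        have : ∀ i : Fin 5, i ∈ ({0, 2, 3, 4} : Finset (Fin 5)) → i = 0 ∨ i = 2 ∨ i = 3 ∨ i = 4 := by decide
                        exact this i hi
                      have hj' : j = 1 := by
                        have : ∀ j : Fin 5, j ∉ ({0, 2, 3, 4} : Finset (Fin 5)) → j = 1 := by decide
                        exact this j hj
                      subst hj'
                      rcases hi' with rfl | rfl | rfl | rfl
                      · exact (hij h01).elim
                      · exact (hij (Z T _ _ h12)).elim
                      · exact (hij (Z T _ _ h13)).elim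
                      · exact (hij (Z T _ _ h14)).elim
                    ·
                      exact (notri T h2 0 3 4 (by decide) (by decide) (by decide) (P T _ _ (by decide) h03) (P T _ _ (by decide) h34) (P T _ _ (by decide) h04)).elim
                  ·
                    exact (nocyc4 T h2 0 3 2 4 (by decide) (by decide) (by decide) (by decide) (by decide) (by decide) (P T _ _ (by decide) h03) (P' T _ _ (by decide) h23) (P T _ _ (by decide) h24) (P' T _ _ (by decide) h04)).elim
              ·
                by_cases h23 : T.a 2 3 = 0
                ·
                  by_cases h24 : T.a 2 4 = 0
                  ·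
                    by_cases h34 : T.a 3 4 = 0
                    ·
                      obtain ⟨i, hi, j, hj, hij⟩ := T.connected {0, 1, 3, 4} ⟨0, by decide⟩ (by decide)
                      have hi' : i = 0 ∨ i = 1 ∨ i = 3 ∨ i = 4 := by
                        have : ∀ i : Fin 5, i ∈ ({0, 1, 3, 4} : Finset (Fin 5)) → i = 0 ∨ i = 1 ∨ i = 3 ∨ i = 4 := by decide
                        exact this i hi
                      have hj' : j = 2 := by
                        have : ∀ j : Fin 5, j ∉ ({0, 1, 3, 4} : Finset (Fin 5)) → j = 2 := by decide
                        exact this j hj
                      subst hj'
                      rcases hi' with rfl | rfl | rfl | rfl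
                      · exact (hij h02).elim
                      · exact (hij h12).elim
                      · exact (hij (Z T _ _ h23)).elim
                      · exact (hij (Z T _ _ h24)).elim
                    ·
                      exact (notri T h2 0 3 4 (by decide) (by decide) (by decide) (P T _ _ (by decide) h03) (P T _ _ (by decide) h34) (P T _ _ (by decide) h04)).elim
                  ·
                    by_cases h34 : T.a 3 4 = 0
                    ·
                      exact forkL T h2 4 1 2 0 3 (by decide) (by decide) (by decide) (by decide) (by decide) (by decide) (by decide) (by decide) (by decide) (by decide) (P' T _ _ (by decide) h14) (P' T _ _ (by decide) h24) (P' T _ _ (by decide) h04) (P T _ _ (by decide) h03) (Z T _ _ h34) h12 (Z T _ _ h01) h13 (Z T _ _ h02) h23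
                    ·
                      exact (notri T h2 0 3 4 (by decide) (by decide) (by decide) (P T _ _ (by decide) h03) (P T _ _ (by decide) h34) (P T _ _ (by decide) h04)).elim
                ·
                  by_cases h24 : T.a 2 4 = 0
                  ·
                    by_cases h34 : T.a 3 4 = 0
                    ·
                      exact pathL T h2 1 4 0 3 2 (by decide) (by decide) (by decide) (by decide) (by decide) (by decide) (by decide) (by decide) (by decide) (by decide) (P T _ _ (by decide) h14) (P' T _ _ (by decide) h04) (P T _ _ (by decide) h03) (P' T _ _ (by decide) h23) (Z T _ _ h01) h13 h12 (Z T _ _ h34) (Z T _ _ h24) h02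
                    ·
                      exact (notri T h2 0 3 4 (by decide) (by decide) (by decide) (P T _ _ (by decide) h03) (P T _ _ (by decide) h34) (P T _ _ (by decide) h04)).elim
                  ·
                    exact (nocyc4 T h2 0 3 2 4 (by decide) (by decide) (by decide) (by decide) (by decide) (by decide) (P T _ _ (by decide) h03) (P' T _ _ (by decide) h23) (P T _ _ (by decide) h24) (P' T _ _ (by decide) h04)).elim
            ·
              by_cases h14 : T.a 1 4 = 0
              ·
                by_cases h23 : T.a 2 3 = 0
                ·
                  by_cases h24 : T.a 2 4 = 0
                  ·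
                    by_cases h34 : T.a 3 4 = 0
                    ·
                      obtain ⟨i, hi, j, hj, hij⟩ := T.connected {0, 1, 3, 4} ⟨0, by decide⟩ (by decide)
                      have hi' : i = 0 ∨ i = 1 ∨ i = 3 ∨ i = 4 := by
                        have : ∀ i : Fin 5, i ∈ ({0, 1, 3, 4} : Finset (Fin 5)) → i = 0 ∨ i = 1 ∨ i = 3 ∨ i = 4 := by decide
                        exact this i hi
                      have hj' : j = 2 := by
                        have : ∀ j : Fin 5, j ∉ ({0, 1, 3, 4} : Finset (Fin 5)) → j = 2 := by decide
                        exact this j hj
                      subst hj'
                      rcases hi' with rfl | rfl | rfl | rfl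
                      · exact (hij h02).elim
                      · exact (hij h12).elim
                      · exact (hij (Z T _ _ h23)).elim
                      · exact (hij (Z T _ _ h24)).elim
                    ·
                      exact (notri T h2 0 3 4 (by decide) (by decide) (by decide) (P T _ _ (by decide) h03) (P T _ _ (by decide) h34) (P T _ _ (by decide) h04)).elim
                  ·
                    by_cases h34 : T.a 3 4 = 0
                    ·
                      exact pathL T h2 1 3 0 4 2 (by decide) (by decide) (by decide) (by decide) (by decide) (by decide) (by decide) (by decide) (by decide) (by decide) (P T _ _ (by decide) h13) (P' T _ _ (by decide) h03) (P T _ _ (by decide) h04) (P' T _ _ (by decide) h24) (Z T _ _ h01) h14 h12 h34 (Z T _ _ h23) h02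
                    ·
                      exact (notri T h2 0 3 4 (by decide) (by decide) (by decide) (P T _ _ (by decide) h03) (P T _ _ (by decide) h34) (P T _ _ (by decide) h04)).elim
                ·
                  by_cases h24 : T.a 2 4 = 0
                  ·
                    by_cases h34 : T.a 3 4 = 0
                    ·
                      exact forkL T h2 3 1 2 0 4 (by decide) (by decide) (by decide) (by decide) (by decide) (by decide) (by decide) (by decide) (by decide) (by decide) (P' T _ _ (by decide) h13) (P' T _ _ (by decide) h23) (P' T _ _ (by decide) h03) (P T _ _ (by decide) h04) h34 h12 (Z T _ _ h01) h14 (Z T _ _ h02) h24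
                    ·
                      exact (notri T h2 0 3 4 (by decide) (by decide) (by decide) (P T _ _ (by decide) h03) (P T _ _ (by decide) h34) (P T _ _ (by decide) h04)).elim
                  ·
                    exact (nocyc4 T h2 0 3 2 4 (by decide) (by decide) (by decide) (by decide) (by decide) (by decide) (P T _ _ (by decide) h03) (P' T _ _ (by decide) h23) (P T _ _ (by decide) h24) (P' T _ _ (by decide) h04)).elim
              ·
                exact (nocyc4 T h2 0 3 1 4 (by decide) (by decide) (by decide) (by decide) (by decide) (by decide) (P T _ _ (by decide) h03) (P' T _ _ (by decide) h13) (P T _ _ (by decide) h14) (P' T _ _ (by decide) h04)).elim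
          ·
            by_cases h13 : T.a 1 3 = 0
            ·
              by_cases h14 : T.a 1 4 = 0
              ·
                by_cases h23 : T.a 2 3 = 0
                ·
                  by_cases h24 : T.a 2 4 = 0
                  ·
                    by_cases h34 : T.a 3 4 = 0
                    ·
                      obtain ⟨i, hi, j, hj, hij⟩ := T.connected {0, 3, 4} ⟨0, by decide⟩ (by decide)
                      have hi' : i = 0 ∨ i = 3 ∨ i = 4 := by
                        have : ∀ i : Fin 5, i ∈ ({0, 3, 4} : Finset (Fin 5)) → i = 0 ∨ i = 3 ∨ i = 4 := by decide
                        exact this i hi
                      have hj' : j = 1 ∨ j = 2 := by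
                        have : ∀ j : Fin 5, j ∉ ({0, 3, 4} : Finset (Fin 5)) → j = 1 ∨ j = 2 := by decide
                        exact this j hj
                      rcases hi' with rfl | rfl | rfl <;> rcases hj' with rfl | rfl
                      · exact (hij h01).elim
                      · exact (hij h02).elim
                      · exact (hij (Z T _ _ h13)).elim
                      · exact (hij (Z T _ _ h23)).elim
                      · exact (hij (Z T _ _ h14)).elim
                      · exact (hij (Z T _ _ h24)).elim
                    ·
                      exact (notri T h2 0 3 4 (by decide) (by decide) (by decide) (P T _ _ (by decide) h03) (P T _ _ (by decide) h34) (P T _ _ (by decide) h04)).elim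
                  ·
                    by_cases h34 : T.a 3 4 = 0
                    ·
                      exact pathL T h2 1 2 4 0 3 (by decide) (by decide) (by decide) (by decide) (by decide) (by decide) (by decide) (by decide) (by decide) (by decide) (P T _ _ (by decide) h12) (P T _ _ (by decide) h24) (P' T _ _ (by decide) h04) (P T _ _ (by decide) h03) h14 (Z T _ _ h01) h13 (Z T _ _ h02) h23 (Z T _ _ h34)
                    ·
                      exact (notri T h2 0 3 4 (by decide) (by decide) (by decide) (P T _ _ (by decide) h03) (P T _ _ (by decide) h34) (P T _ _ (by decide) h04)).elim
                ·
                  by_cases h24 : T.a 2 4 = 0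
                  ·
                    by_cases h34 : T.a 3 4 = 0
                    ·
                      exact pathL T h2 1 2 3 0 4 (by decide) (by decide) (by decide) (by decide) (by decide) (by decide) (by decide) (by decide) (by decide) (by decide) (P T _ _ (by decide) h12) (P T _ _ (by decide) h23) (P' T _ _ (by decide) h03) (P T _ _ (by decide) h04) h13 (Z T _ _ h01) h14 (Z T _ _ h02) h24 h34
                    ·
                      exact (notri T h2 0 3 4 (by decide) (by decide) (by decide) (P T _ _ (by decide) h03) (P T _ _ (by decide) h34) (P T _ _ (by decide) h04)).elim
                  ·
                    exact (nocyc4 T h2 0 3 2 4 (by decide) (by decide) (by decide) (by decide) (by decide) (by decide) (P T _ _ (by decide) h03) (P' T _ _ (by decide) h23) (P T _ _ (by decide) h24) (P' T _ _ (by decide) h04)).elim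
              ·
                by_cases h23 : T.a 2 3 = 0
                ·
                  by_cases h24 : T.a 2 4 = 0
                  ·
                    by_cases h34 : T.a 3 4 = 0
                    ·
                      exact pathL T h2 2 1 4 0 3 (by decide) (by decide) (by decide) (by decide) (by decide) (by decide) (by decide) (by decide) (by decide) (by decide) (P' T _ _ (by decide) h12) (P T _ _ (by decide) h14) (P' T _ _ (by decide) h04) (P T _ _ (by decide) h03) h24 (Z T _ _ h02) h23 (Z T _ _ h01) h13 (Z T _ _ h34)
                    ·
                      exact (notri T h2 0 3 4 (by decide) (by decide) (by decide) (P T _ _ (by decide) h03) (P T _ _ (by decide) h34) (P T _ _ (by decide) h04)).elim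
                  ·
                    exact (notri T h2 1 2 4 (by decide) (by decide) (by decide) (P T _ _ (by decide) h12) (P T _ _ (by decide) h24) (P T _ _ (by decide) h14)).elim
                ·
                  by_cases h24 : T.a 2 4 = 0
                  ·
                    by_cases h34 : T.a 3 4 = 0
                    ·
                      exact cycleL T h2 0 3 2 1 4 (by decide) (by decide) (by decide) (by decide) (by decide) (by decide) (by decide) (by decide) (by decide) (by decide) (P T _ _ (by decide) h03) (P' T _ _ (by decide) h23) (P' T _ _ (by decide) h12) (P T _ _ (by decide) h14) (P T _ _ (by decide) h04) h02 h01 (Z T _ _ h13) h34 h24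
                    ·
                      exact (notri T h2 0 3 4 (by decide) (by decide) (by decide) (P T _ _ (by decide) h03) (P T _ _ (by decide) h34) (P T _ _ (by decide) h04)).elim
                  ·
                    exact (notri T h2 1 2 4 (by decide) (by decide) (by decide) (P T _ _ (by decide) h12) (P T _ _ (by decide) h24) (P T _ _ (by decide) h14)).elim
            ·
              by_cases h14 : T.a 1 4 = 0
              ·
                by_cases h23 : T.a 2 3 = 0
                ·
                  by_cases h24 : T.a 2 4 = 0
                  ·
                    by_cases h34 : T.a 3 4 = 0
                    ·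
                      exact pathL T h2 2 1 3 0 4 (by decide) (by decide) (by decide) (by decide) (by decide) (by decide) (by decide) (by decide) (by decide) (by decide) (P' T _ _ (by decide) h12) (P T _ _ (by decide) h13) (P' T _ _ (by decide) h03) (P T _ _ (by decide) h04) h23 (Z T _ _ h02) h24 (Z T _ _ h01) h14 h34
                    ·
                      exact (notri T h2 0 3 4 (by decide) (by decide) (by decide) (P T _ _ (by decide) h03) (P T _ _ (by decide) h34) (P T _ _ (by decide) h04)).elim
                  ·
                    by_cases h34 : T.a 3 4 = 0
                    ·
                      exact cycleL T h2 0 3 1 2 4 (by decide) (by decide) (by decide) (by decide) (by decide) (by decide) (by decide) (by decide) (by decide) (by decide) (P T _ _ (by decide) h03) (P' T _ _ (by decide) h13) (P T _ _ (by decide) h12) (P T _ _ (by decide) h24) (P T _ _ (by decide) h04) h01 h02 (Z T _ _ h23) h34 h14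
                    ·
                      exact (notri T h2 0 3 4 (by decide) (by decide) (by decide) (P T _ _ (by decide) h03) (P T _ _ (by decide) h34) (P T _ _ (by decide) h04)).elim
                ·
                  exact (notri T h2 1 2 3 (by decide) (by decide) (by decide) (P T _ _ (by decide) h12) (P T _ _ (by decide) h23) (P T _ _ (by decide) h13)).elim
              ·
                exact (nocyc4 T h2 0 3 1 4 (by decide) (by decide) (by decide) (by decide) (by decide) (by decide) (P T _ _ (by decide) h03) (P' T _ _ (by decide) h13) (P T _ _ (by decide) h14) (P' T _ _ (by decide) h04)).elim
    ·
      by_cases h03 : T.a 0 3 = 0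
      ·
        by_cases h04 : T.a 0 4 = 0
        ·
          by_cases h12 : T.a 1 2 = 0
          ·
            by_cases h13 : T.a 1 3 = 0
            ·
              by_cases h14 : T.a 1 4 = 0
              ·
                by_cases h23 : T.a 2 3 = 0
                ·
                  by_cases h24 : T.a 2 4 = 0
                  ·
                    by_cases h34 : T.a 3 4 = 0
                    ·
                      obtain ⟨i, hi, j, hj, hij⟩ := T.connected {0, 2} ⟨0, by decide⟩ (by decide)
                      have hi' : i = 0 ∨ i = 2 := by
                        have : ∀ i : Fin 5, i ∈ ({0, 2} : Finset (Fin 5)) → i = 0 ∨ i = 2 := by decide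
                        exact this i hi
                      have hj' : j = 1 ∨ j = 3 ∨ j = 4 := by
                        have : ∀ j : Fin 5, j ∉ ({0, 2} : Finset (Fin 5)) → j = 1 ∨ j = 3 ∨ j = 4 := by decide
                        exact this j hj
                      rcases hi' with rfl | rfl <;> rcases hj' with rfl | rfl | rfl
                      · exact (hij h01).elim
                      · exact (hij h03).elim
                      · exact (hij h04).elim
                      · exact (hij (Z T _ _ h12)).elim
                      · exact (hij h23).elim
                      · exact (hij h24).elim
                    ·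
                      obtain ⟨i, hi, j, hj, hij⟩ := T.connected {0, 2} ⟨0, by decide⟩ (by decide)
                      have hi' : i = 0 ∨ i = 2 := by
                        have : ∀ i : Fin 5, i ∈ ({0, 2} : Finset (Fin 5)) → i = 0 ∨ i = 2 := by decide
                        exact this i hi
                      have hj' : j = 1 ∨ j = 3 ∨ j = 4 := by
                        have : ∀ j : Fin 5, j ∉ ({0, 2} : Finset (Fin 5)) → j = 1 ∨ j = 3 ∨ j = 4 := by decide
                        exact this j hj
                      rcases hi' with rfl | rfl <;> rcases hj' with rfl | rfl | rfl
                      · exact (hij h01).elim
                      · exact (hij h03).elim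
                      · exact (hij h04).elim
                      · exact (hij (Z T _ _ h12)).elim
                      · exact (hij h23).elim
                      · exact (hij h24).elim
                  ·
                    by_cases h34 : T.a 3 4 = 0
                    ·
                      obtain ⟨i, hi, j, hj, hij⟩ := T.connected {0, 2, 4} ⟨0, by decide⟩ (by decide)
                      have hi' : i = 0 ∨ i = 2 ∨ i = 4 := by
                        have : ∀ i : Fin 5, i ∈ ({0, 2, 4} : Finset (Fin 5)) → i = 0 ∨ i = 2 ∨ i = 4 := by decide
                        exact this i hi
                      have hj' : j = 1 ∨ j = 3 := by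
                        have : ∀ j : Fin 5, j ∉ ({0, 2, 4} : Finset (Fin 5)) → j = 1 ∨ j = 3 := by decide
                        exact this j hj
                      rcases hi' with rfl | rfl | rfl <;> rcases hj' with rfl | rfl
                      · exact (hij h01).elim
                      · exact (hij h03).elim
                      · exact (hij (Z T _ _ h12)).elim
                      · exact (hij h23).elim
                      · exact (hij (Z T _ _ h14)).elim
                      · exact (hij (Z T _ _ h34)).elim
                    ·
                      obtain ⟨i, hi, j, hj, hij⟩ := T.connected {0, 2, 3, 4} ⟨0, by decide⟩ (by decide)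
                      have hi' : i = 0 ∨ i = 2 ∨ i = 3 ∨ i = 4 := by
                        have : ∀ i : Fin 5, i ∈ ({0, 2, 3, 4} : Finset (Fin 5)) → i = 0 ∨ i = 2 ∨ i = 3 ∨ i = 4 := by decide
                        exact this i hi
                      have hj' : j = 1 := by
                        have : ∀ j : Fin 5, j ∉ ({0, 2, 3, 4} : Finset (Fin 5)) → j = 1 := by decide
                        exact this j hj
                      subst hj'
                      rcases hi' with rfl | rfl | rfl | rfl
                      · exact (hij h01).elim
                      · exact (hij (Z T _ _ h12)).elim
                      · exact (hij (Z T _ _ h13)).elim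
                      · exact (hij (Z T _ _ h14)).elim
                ·
                  by_cases h24 : T.a 2 4 = 0
                  ·
                    by_cases h34 : T.a 3 4 = 0
                    ·
                      obtain ⟨i, hi, j, hj, hij⟩ := T.connected {0, 2, 3} ⟨0, by decide⟩ (by decide)
                      have hi' : i = 0 ∨ i = 2 ∨ i = 3 := by
                        have : ∀ i : Fin 5, i ∈ ({0, 2, 3} : Finset (Fin 5)) → i = 0 ∨ i = 2 ∨ i = 3 := by decide
                        exact this i hi
                      have hj' : j = 1 ∨ j = 4 := by
                        have : ∀ j : Fin 5, j ∉ ({0, 2, 3} : Finset (Fin 5)) → j = 1 ∨ j = 4 := by decide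
                        exact this j hj
                      rcases hi' with rfl | rfl | rfl <;> rcases hj' with rfl | rfl
                      · exact (hij h01).elim
                      · exact (hij h04).elim
                      · exact (hij (Z T _ _ h12)).elim
                      · exact (hij h24).elim
                      · exact (hij (Z T _ _ h13)).elim
                      · exact (hij h34).elim
                    ·
                      obtain ⟨i, hi, j, hj, hij⟩ := T.connected {0, 2, 3, 4} ⟨0, by decide⟩ (by decide)
                      have hi' : i = 0 ∨ i = 2 ∨ i = 3 ∨ i = 4 := by
                        have : ∀ i : Fin 5, i ∈ ({0, 2, 3, 4} : Finset (Fin 5)) → i = 0 ∨ i = 2 ∨ i = 3 ∨ i = 4 := by decide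
                        exact this i hi
                      have hj' : j = 1 := by
                        have : ∀ j : Fin 5, j ∉ ({0, 2, 3, 4} : Finset (Fin 5)) → j = 1 := by decide
                        exact this j hj
                      subst hj'
                      rcases hi' with rfl | rfl | rfl | rfl
                      · exact (hij h01).elim
                      · exact (hij (Z T _ _ h12)).elim
                      · exact (hij (Z T _ _ h13)).elim
                      · exact (hij (Z T _ _ h14)).elim
                  ·
                    by_cases h34 : T.a 3 4 = 0
                    ·
                      obtain ⟨i, hi, j, hj, hij⟩ := T.connected {0, 2, 3, 4} ⟨0, by decide⟩ (by decide)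
                      have hi' : i = 0 ∨ i = 2 ∨ i = 3 ∨ i = 4 := by
                        have : ∀ i : Fin 5, i ∈ ({0, 2, 3, 4} : Finset (Fin 5)) → i = 0 ∨ i = 2 ∨ i = 3 ∨ i = 4 := by decide
                        exact this i hi
                      have hj' : j = 1 := by
                        have : ∀ j : Fin 5, j ∉ ({0, 2, 3, 4} : Finset (Fin 5)) → j = 1 := by decide
                        exact this j hj
                      subst hj'
                      rcases hi' with rfl | rfl | rfl | rfl
                      · exact (hij h01).elim
                      · exact (hij (Z T _ _ h12)).elim
                      · exact (hij (Z T _ _ h13)).elim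
                      · exact (hij (Z T _ _ h14)).elim
                    ·
                      exact (notri T h2 2 3 4 (by decide) (by decide) (by decide) (P T _ _ (by decide) h23) (P T _ _ (by decide) h34) (P T _ _ (by decide) h24)).elim
              ·
                by_cases h23 : T.a 2 3 = 0
                ·
                  by_cases h24 : T.a 2 4 = 0
                  ·
                    by_cases h34 : T.a 3 4 = 0
                    ·
                      obtain ⟨i, hi, j, hj, hij⟩ := T.connected {0, 2} ⟨0, by decide⟩ (by decide)
                      have hi' : i = 0 ∨ i = 2 := by
                        have : ∀ i : Fin 5, i ∈ ({0, 2} : Finset (Fin 5)) → i = 0 ∨ i = 2 := by decide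
                        exact this i hi
                      have hj' : j = 1 ∨ j = 3 ∨ j = 4 := by
                        have : ∀ j : Fin 5, j ∉ ({0, 2} : Finset (Fin 5)) → j = 1 ∨ j = 3 ∨ j = 4 := by decide
                        exact this j hj
                      rcases hi' with rfl | rfl <;> rcases hj' with rfl | rfl | rfl
                      · exact (hij h01).elim
                      · exact (hij h03).elim
                      · exact (hij h04).elim
                      · exact (hij (Z T _ _ h12)).elim
                      · exact (hij h23).elim
                      · exact (hij h24).elim
                    ·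
                      obtain ⟨i, hi, j, hj, hij⟩ := T.connected {0, 2} ⟨0, by decide⟩ (by decide)
                      have hi' : i = 0 ∨ i = 2 := by
                        have : ∀ i : Fin 5, i ∈ ({0, 2} : Finset (Fin 5)) → i = 0 ∨ i = 2 := by decide
                        exact this i hi
                      have hj' : j = 1 ∨ j = 3 ∨ j = 4 := by
                        have : ∀ j : Fin 5, j ∉ ({0, 2} : Finset (Fin 5)) → j = 1 ∨ j = 3 ∨ j = 4 := by decide
                        exact this j hj
                      rcases hi' with rfl | rfl <;> rcases hj' with rfl | rfl | rfl
                      · exact (hij h01).elim
                      · exact (hij h03).elim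
                      · exact (hij h04).elim
                      · exact (hij (Z T _ _ h12)).elim
                      · exact (hij h23).elim
                      · exact (hij h24).elim
                  ·
                    by_cases h34 : T.a 3 4 = 0
                    ·
                      obtain ⟨i, hi, j, hj, hij⟩ := T.connected {0, 1, 2, 4} ⟨0, by decide⟩ (by decide)
                      have hi' : i = 0 ∨ i = 1 ∨ i = 2 ∨ i = 4 := by
                        have : ∀ i : Fin 5, i ∈ ({0, 1, 2, 4} : Finset (Fin 5)) → i = 0 ∨ i = 1 ∨ i = 2 ∨ i = 4 := by decide
                        exact this i hi
                      have hj' : j = 3 := by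
                        have : ∀ j : Fin 5, j ∉ ({0, 1, 2, 4} : Finset (Fin 5)) → j = 3 := by decide
                        exact this j hj
                      subst hj'
                      rcases hi' with rfl | rfl | rfl | rfl
                      · exact (hij h03).elim
                      · exact (hij h13).elim
                      · exact (hij h23).elim
                      · exact (hij (Z T _ _ h34)).elim
                    ·
                      exact forkL T h2 4 1 3 2 0 (by decide) (by decide) (by decide) (by decide) (by decide) (by decide) (by decide) (by decide) (by decide) (by decide) (P' T _ _ (by decide) h14) (P' T _ _ (by decide) h34) (P' T _ _ (by decide) h24) (P' T _ _ (by decide) h02) (Z T _ _ h04) h13 h12 (Z T _ _ h01) (Z T _ _ h23) (Z T _ _ h03)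
                ·
                  by_cases h24 : T.a 2 4 = 0
                  ·
                    by_cases h34 : T.a 3 4 = 0
                    ·
                      obtain ⟨i, hi, j, hj, hij⟩ := T.connected {0, 2, 3} ⟨0, by decide⟩ (by decide)
                      have hi' : i = 0 ∨ i = 2 ∨ i = 3 := by
                        have : ∀ i : Fin 5, i ∈ ({0, 2, 3} : Finset (Fin 5)) → i = 0 ∨ i = 2 ∨ i = 3 := by decide
                        exact this i hi
                      have hj' : j = 1 ∨ j = 4 := by
                        have : ∀ j : Fin 5, j ∉ ({0, 2, 3} : Finset (Fin 5)) → j = 1 ∨ j = 4 := by decide
                        exact this j hj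
                      rcases hi' with rfl | rfl | rfl <;> rcases hj' with rfl | rfl
                      · exact (hij h01).elim
                      · exact (hij h04).elim
                      · exact (hij (Z T _ _ h12)).elim
                      · exact (hij h24).elim
                      · exact (hij (Z T _ _ h13)).elim
                      · exact (hij h34).elim
                    ·
                      exact pathL T h2 0 2 3 4 1 (by decide) (by decide) (by decide) (by decide) (by decide) (by decide) (by decide) (by decide) (by decide) (by decide) (P T _ _ (by decide) h02) (P T _ _ (by decide) h23) (P T _ _ (by decide) h34) (P' T _ _ (by decide) h14) h03 h04 h01 h24 (Z T _ _ h12) (Z T _ _ h13)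
                  ·
                    by_cases h34 : T.a 3 4 = 0
                    ·
                      exact forkL T h2 2 0 3 4 1 (by decide) (by decide) (by decide) (by decide) (by decide) (by decide) (by decide) (by decide) (by decide) (by decide) (P' T _ _ (by decide) h02) (P T _ _ (by decide) h23) (P T _ _ (by decide) h24) (P' T _ _ (by decide) h14) (Z T _ _ h12) h03 h04 h01 h34 (Z T _ _ h13)
                    ·
                      exact (notri T h2 2 3 4 (by decide) (by decide) (by decide) (P T _ _ (by decide) h23) (P T _ _ (by decide) h34) (P T _ _ (by decide) h24)).elim
            ·
              by_cases h14 : T.a 1 4 = 0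
              ·
                by_cases h23 : T.a 2 3 = 0
                ·
                  by_cases h24 : T.a 2 4 = 0
                  ·
                    by_cases h34 : T.a 3 4 = 0
                    ·
                      obtain ⟨i, hi, j, hj, hij⟩ := T.connected {0, 2} ⟨0, by decide⟩ (by decide)
                      have hi' : i = 0 ∨ i = 2 := by
                        have : ∀ i : Fin 5, i ∈ ({0, 2} : Finset (Fin 5)) → i = 0 ∨ i = 2 := by decide
                        exact this i hi
                      have hj' : j = 1 ∨ j = 3 ∨ j = 4 := by
                        have : ∀ j : Fin 5, j ∉ ({0, 2} : Finset (Fin 5)) → j = 1 ∨ j = 3 ∨ j = 4 := by decide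
                        exact this j hj
                      rcases hi' with rfl | rfl <;> rcases hj' with rfl | rfl | rfl
                      · exact (hij h01).elim
                      · exact (hij h03).elim
                      · exact (hij h04).elim
                      · exact (hij (Z T _ _ h12)).elim
                      · exact (hij h23).elim
                      · exact (hij h24).elim
                    ·
                      obtain ⟨i, hi, j, hj, hij⟩ := T.connected {0, 2} ⟨0, by decide⟩ (by decide)
                      have hi' : i = 0 ∨ i = 2 := by
                        have : ∀ i : Fin 5, i ∈ ({0, 2} : Finset (Fin 5)) → i = 0 ∨ i = 2 := by decide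
                        exact this i hi
                      have hj' : j = 1 ∨ j = 3 ∨ j = 4 := by
                        have : ∀ j : Fin 5, j ∉ ({0, 2} : Finset (Fin 5)) → j = 1 ∨ j = 3 ∨ j = 4 := by decide
                        exact this j hj
                      rcases hi' with rfl | rfl <;> rcases hj' with rfl | rfl | rfl
                      · exact (hij h01).elim
                      · exact (hij h03).elim
                      · exact (hij h04).elim
                      · exact (hij (Z T _ _ h12)).elim
                      · exact (hij h23).elim
                      · exact (hij h24).elim
                  ·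
                    by_cases h34 : T.a 3 4 = 0
                    ·
                      obtain ⟨i, hi, j, hj, hij⟩ := T.connected {0, 2, 4} ⟨0, by decide⟩ (by decide)
                      have hi' : i = 0 ∨ i = 2 ∨ i = 4 := by
                        have : ∀ i : Fin 5, i ∈ ({0, 2, 4} : Finset (Fin 5)) → i = 0 ∨ i = 2 ∨ i = 4 := by decide
                        exact this i hi
                      have hj' : j = 1 ∨ j = 3 := by
                        have : ∀ j : Fin 5, j ∉ ({0, 2, 4} : Finset (Fin 5)) → j = 1 ∨ j = 3 := by decide
                        exact this j hj
                      rcases hi' with rfl | rfl | rfl <;> rcases hj' with rfl | rfl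
                      · exact (hij h01).elim
                      · exact (hij h03).elim
                      · exact (hij (Z T _ _ h12)).elim
                      · exact (hij h23).elim
                      · exact (hij (Z T _ _ h14)).elim
                      · exact (hij (Z T _ _ h34)).elim
                    ·
                      exact pathL T h2 0 2 4 3 1 (by decide) (by decide) (by decide) (by decide) (by decide) (by decide) (by decide) (by decide) (by decide) (by decide) (P T _ _ (by decide) h02) (P T _ _ (by decide) h24) (P' T _ _ (by decide) h34) (P' T _ _ (by decide) h13) h04 h03 h01 h23 (Z T _ _ h12) (Z T _ _ h14)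
                ·
                  by_cases h24 : T.a 2 4 = 0
                  ·
                    by_cases h34 : T.a 3 4 = 0
                    ·
                      obtain ⟨i, hi, j, hj, hij⟩ := T.connected {0, 1, 2, 3} ⟨0, by decide⟩ (by decide)
                      have hi' : i = 0 ∨ i = 1 ∨ i = 2 ∨ i = 3 := by
                        have : ∀ i : Fin 5, i ∈ ({0, 1, 2, 3} : Finset (Fin 5)) → i = 0 ∨ i = 1 ∨ i = 2 ∨ i = 3 := by decide
                        exact this i hi
                      have hj' : j = 4 := by
                        have : ∀ j : Fin 5, j ∉ ({0, 1, 2, 3} : Finset (Fin 5)) → j = 4 := by decide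
                        exact this j hj
                      subst hj'
                      rcases hi' with rfl | rfl | rfl | rfl
                      · exact (hij h04).elim
                      · exact (hij h14).elim
                      · exact (hij h24).elim
                      · exact (hij h34).elim
                    ·
                      exact forkL T h2 3 1 4 2 0 (by decide) (by decide) (by decide) (by decide) (by decide) (by decide) (by decide) (by decide) (by decide) (by decide) (P' T _ _ (by decide) h13) (P T _ _ (by decide) h34) (P' T _ _ (by decide) h23) (P' T _ _ (by decide) h02) (Z T _ _ h03) h14 h12 (Z T _ _ h01) (Z T _ _ h24) (Z T _ _ h04)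
                  ·
                    by_cases h34 : T.a 3 4 = 0
                    ·
                      exact forkL T h2 2 0 4 3 1 (by decide) (by decide) (by decide) (by decide) (by decide) (by decide) (by decide) (by decide) (by decide) (by decide) (P' T _ _ (by decide) h02) (P T _ _ (by decide) h24) (P T _ _ (by decide) h23) (P' T _ _ (by decide) h13) (Z T _ _ h12) h04 h03 h01 (Z T _ _ h34) (Z T _ _ h14)
                    ·
                      exact (notri T h2 2 3 4 (by decide) (by decide) (by decide) (P T _ _ (by decide) h23) (P T _ _ (by decide) h34) (P T _ _ (by decide) h24)).elim
              ·
                by_cases h23 : T.a 2 3 = 0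
                ·
                  by_cases h24 : T.a 2 4 = 0
                  ·
                    by_cases h34 : T.a 3 4 = 0
                    ·
                      obtain ⟨i, hi, j, hj, hij⟩ := T.connected {0, 2} ⟨0, by decide⟩ (by decide)
                      have hi' : i = 0 ∨ i = 2 := by
                        have : ∀ i : Fin 5, i ∈ ({0, 2} : Finset (Fin 5)) → i = 0 ∨ i = 2 := by decide
                        exact this i hi
                      have hj' : j = 1 ∨ j = 3 ∨ j = 4 := by
                        have : ∀ j : Fin 5, j ∉ ({0, 2} : Finset (Fin 5)) → j = 1 ∨ j = 3 ∨ j = 4 := by decide
                        exact this j hj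
                      rcases hi' with rfl | rfl <;> rcases hj' with rfl | rfl | rfl
                      · exact (hij h01).elim
                      · exact (hij h03).elim
                      · exact (hij h04).elim
                      · exact (hij (Z T _ _ h12)).elim
                      · exact (hij h23).elim
                      · exact (hij h24).elim
                    ·
                      exact (notri T h2 1 3 4 (by decide) (by decide) (by decide) (P T _ _ (by decide) h13) (P T _ _ (by decide) h34) (P T _ _ (by decide) h14)).elim
                  ·
                    by_cases h34 : T.a 3 4 = 0
                    ·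
                      exact pathL T h2 0 2 4 1 3 (by decide) (by decide) (by decide) (by decide) (by decide) (by decide) (by decide) (by decide) (by decide) (by decide) (P T _ _ (by decide) h02) (P T _ _ (by decide) h24) (P' T _ _ (by decide) h14) (P T _ _ (by decide) h13) h04 h01 h03 (Z T _ _ h12) h23 (Z T _ _ h34)
                    ·
                      exact (notri T h2 1 3 4 (by decide) (by decide) (by decide) (P T _ _ (by decide) h13) (P T _ _ (by decide) h34) (P T _ _ (by decide) h14)).elim
                ·
                  by_cases h24 : T.a 2 4 = 0
                  ·
                    by_cases h34 : T.a 3 4 = 0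
                    ·
                      exact pathL T h2 0 2 3 1 4 (by decide) (by decide) (by decide) (by decide) (by decide) (by decide) (by decide) (by decide) (by decide) (by decide) (P T _ _ (by decide) h02) (P T _ _ (by decide) h23) (P' T _ _ (by decide) h13) (P T _ _ (by decide) h14) h03 h01 h04 (Z T _ _ h12) h24 h34
                    ·
                      exact (notri T h2 1 3 4 (by decide) (by decide) (by decide) (P T _ _ (by decide) h13) (P T _ _ (by decide) h34) (P T _ _ (by decide) h14)).elim
                  ·
                    exact (nocyc4 T h2 1 3 2 4 (by decide) (by decide) (by decide) (by decide) (by decide) (by decide) (P T _ _ (by decide) h13) (P' T _ _ (by decide) h23) (P T _ _ (by decide) h24) (P' T _ _ (by decide) h14)).elim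
          ·
            by_cases h13 : T.a 1 3 = 0
            ·
              by_cases h14 : T.a 1 4 = 0
              ·
                by_cases h23 : T.a 2 3 = 0
                ·
                  by_cases h24 : T.a 2 4 = 0
                  ·
                    by_cases h34 : T.a 3 4 = 0
                    ·
                      obtain ⟨i, hi, j, hj, hij⟩ := T.connected {0, 1, 2} ⟨0, by decide⟩ (by decide)
                      have hi' : i = 0 ∨ i = 1 ∨ i = 2 := by
                        have : ∀ i : Fin 5, i ∈ ({0, 1, 2} : Finset (Fin 5)) → i = 0 ∨ i = 1 ∨ i = 2 := by decide
                        exact this i hi
                      have hj' : j = 3 ∨ j = 4 := by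
                        have : ∀ j : Fin 5, j ∉ ({0, 1, 2} : Finset (Fin 5)) → j = 3 ∨ j = 4 := by decide
                        exact this j hj
                      rcases hi' with rfl | rfl | rfl <;> rcases hj' with rfl | rfl
                      · exact (hij h03).elim
                      · exact (hij h04).elim
                      · exact (hij h13).elim
                      · exact (hij h14).elim
                      · exact (hij h23).elim
                      · exact (hij h24).elim
                    ·
                      obtain ⟨i, hi, j, hj, hij⟩ := T.connected {0, 1, 2} ⟨0, by decide⟩ (by decide)
                      have hi' : i = 0 ∨ i = 1 ∨ i = 2 := by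
                        have : ∀ i : Fin 5, i ∈ ({0, 1, 2} : Finset (Fin 5)) → i = 0 ∨ i = 1 ∨ i = 2 := by decide
                        exact this i hi
                      have hj' : j = 3 ∨ j = 4 := by
                        have : ∀ j : Fin 5, j ∉ ({0, 1, 2} : Finset (Fin 5)) → j = 3 ∨ j = 4 := by decide
                        exact this j hj
                      rcases hi' with rfl | rfl | rfl <;> rcases hj' with rfl | rfl
                      · exact (hij h03).elim
                      · exact (hij h04).elim
                      · exact (hij h13).elim
                      · exact (hij h14).elim
                      · exact (hij h23).elim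
                      · exact (hij h24).elim
                  ·
                    by_cases h34 : T.a 3 4 = 0
                    ·
                      obtain ⟨i, hi, j, hj, hij⟩ := T.connected {0, 1, 2, 4} ⟨0, by decide⟩ (by decide)
                      have hi' : i = 0 ∨ i = 1 ∨ i = 2 ∨ i = 4 := by
                        have : ∀ i : Fin 5, i ∈ ({0, 1, 2, 4} : Finset (Fin 5)) → i = 0 ∨ i = 1 ∨ i = 2 ∨ i = 4 := by decide
                        exact this i hi
                      have hj' : j = 3 := by
                        have : ∀ j : Fin 5, j ∉ ({0, 1, 2, 4} : Finset (Fin 5)) → j = 3 := by decide
                        exact this j hj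
                      subst hj'
                      rcases hi' with rfl | rfl | rfl | rfl
                      · exact (hij h03).elim
                      · exact (hij h13).elim
                      · exact (hij h23).elim
                      · exact (hij (Z T _ _ h34)).elim
                    ·
                      exact forkL T h2 2 0 1 4 3 (by decide) (by decide) (by decide) (by decide) (by decide) (by decide) (by decide) (by decide) (by decide) (by decide) (P' T _ _ (by decide) h02) (P' T _ _ (by decide) h12) (P T _ _ (by decide) h24) (P' T _ _ (by decide) h34) h23 h01 h04 h03 h14 h13
                ·
                  by_cases h24 : T.a 2 4 = 0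
                  ·
                    by_cases h34 : T.a 3 4 = 0
                    ·
                      obtain ⟨i, hi, j, hj, hij⟩ := T.connected {0, 1, 2, 3} ⟨0, by decide⟩ (by decide)
                      have hi' : i = 0 ∨ i = 1 ∨ i = 2 ∨ i = 3 := by
                        have : ∀ i : Fin 5, i ∈ ({0, 1, 2, 3} : Finset (Fin 5)) → i = 0 ∨ i = 1 ∨ i = 2 ∨ i = 3 := by decide
                        exact this i hi
                      have hj' : j = 4 := by
                        have : ∀ j : Fin 5, j ∉ ({0, 1, 2, 3} : Finset (Fin 5)) → j = 4 := by decide
                        exact this j hj
                      subst hj'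
                      rcases hi' with rfl | rfl | rfl | rfl
                      · exact (hij h04).elim
                      · exact (hij h14).elim
                      · exact (hij h24).elim
                      · exact (hij h34).elim
                    ·
                      exact forkL T h2 2 0 1 3 4 (by decide) (by decide) (by decide) (by decide) (by decide) (by decide) (by decide) (by decide) (by decide) (by decide) (P' T _ _ (by decide) h02) (P' T _ _ (by decide) h12) (P T _ _ (by decide) h23) (P T _ _ (by decide) h34) h24 h01 h03 h04 h13 h14
                  ·
                    by_cases h34 : T.a 3 4 = 0
                    ·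
                      exact starL T h2 2 0 1 3 4 (by decide) (by decide) (by decide) (by decide) (by decide) (by decide) (by decide) (by decide) (by decide) (by decide) (P' T _ _ (by decide) h02) (P' T _ _ (by decide) h12) (P T _ _ (by decide) h23) (P T _ _ (by decide) h24) h01 h03 h04 h13 h14 h34
                    ·
                      exact (notri T h2 2 3 4 (by decide) (by decide) (by decide) (P T _ _ (by decide) h23) (P T _ _ (by decide) h34) (P T _ _ (by decide) h24)).elim
              ·
                by_cases h23 : T.a 2 3 = 0
                ·
                  by_cases h24 : T.a 2 4 = 0
                  ·
                    by_cases h34 : T.a 3 4 = 0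
                    ·
                      obtain ⟨i, hi, j, hj, hij⟩ := T.connected {0, 1, 2, 4} ⟨0, by decide⟩ (by decide)
                      have hi' : i = 0 ∨ i = 1 ∨ i = 2 ∨ i = 4 := by
                        have : ∀ i : Fin 5, i ∈ ({0, 1, 2, 4} : Finset (Fin 5)) → i = 0 ∨ i = 1 ∨ i = 2 ∨ i = 4 := by decide
                        exact this i hi
                      have hj' : j = 3 := by
                        have : ∀ j : Fin 5, j ∉ ({0, 1, 2, 4} : Finset (Fin 5)) → j = 3 := by decide
                        exact this j hj
                      subst hj'
                      rcases hi' with rfl | rfl | rfl | rfl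
                      · exact (hij h03).elim
                      · exact (hij h13).elim
                      · exact (hij h23).elim
                      · exact (hij (Z T _ _ h34)).elim
                    ·
                      exact pathL T h2 0 2 1 4 3 (by decide) (by decide) (by decide) (by decide) (by decide) (by decide) (by decide) (by decide) (by decide) (by decide) (P T _ _ (by decide) h02) (P' T _ _ (by decide) h12) (P T _ _ (by decide) h14) (P' T _ _ (by decide) h34) h01 h04 h03 h24 h23 h13
                  ·
                    exact (notri T h2 1 2 4 (by decide) (by decide) (by decide) (P T _ _ (by decide) h12) (P T _ _ (by decide) h24) (P T _ _ (by decide) h14)).elim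
                ·
                  by_cases h24 : T.a 2 4 = 0
                  ·
                    by_cases h34 : T.a 3 4 = 0
                    ·
                      exact forkL T h2 2 0 3 1 4 (by decide) (by decide) (by decide) (by decide) (by decide) (by decide) (by decide) (by decide) (by decide) (by decide) (P' T _ _ (by decide) h02) (P T _ _ (by decide) h23) (P' T _ _ (by decide) h12) (P T _ _ (by decide) h14) h24 h03 h01 h04 (Z T _ _ h13) h34
                    ·
                      exact (nocyc4 T h2 1 2 3 4 (by decide) (by decide) (by decide) (by decide) (by decide) (by decide) (P T _ _ (by decide) h12) (P T _ _ (by decide) h23) (P T _ _ (by decide) h34) (P' T _ _ (by decide) h14)).elim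
                  ·
                    exact (notri T h2 1 2 4 (by decide) (by decide) (by decide) (P T _ _ (by decide) h12) (P T _ _ (by decide) h24) (P T _ _ (by decide) h14)).elim
            ·
              by_cases h14 : T.a 1 4 = 0
              ·
                by_cases h23 : T.a 2 3 = 0
                ·
                  by_cases h24 : T.a 2 4 = 0
                  ·
                    by_cases h34 : T.a 3 4 = 0
                    ·
                      obtain ⟨i, hi, j, hj, hij⟩ := T.connected {0, 1, 2, 3} ⟨0, by decide⟩ (by decide)
                      have hi' : i = 0 ∨ i = 1 ∨ i = 2 ∨ i = 3 := by
                        have : ∀ i : Fin 5, i ∈ ({0, 1, 2, 3} : Finset (Fin 5)) → i = 0 ∨ i = 1 ∨ i = 2 ∨ i = 3 := by decide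
                        exact this i hi
                      have hj' : j = 4 := by
                        have : ∀ j : Fin 5, j ∉ ({0, 1, 2, 3} : Finset (Fin 5)) → j = 4 := by decide
                        exact this j hj
                      subst hj'
                      rcases hi' with rfl | rfl | rfl | rfl
                      · exact (hij h04).elim
                      · exact (hij h14).elim
                      · exact (hij h24).elim
                      · exact (hij h34).elim
                    ·
                      exact pathL T h2 0 2 1 3 4 (by decide) (by decide) (by decide) (by decide) (by decide) (by decide) (by decide) (by decide) (by decide) (by decide) (P T _ _ (by decide) h02) (P' T _ _ (by decide) h12) (P T _ _ (by decide) h13) (P T _ _ (by decide) h34) h01 h03 h04 h23 h24 h14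
                  ·
                    by_cases h34 : T.a 3 4 = 0
                    ·
                      exact forkL T h2 2 0 4 1 3 (by decide) (by decide) (by decide) (by decide) (by decide) (by decide) (by decide) (by decide) (by decide) (by decide) (P' T _ _ (by decide) h02) (P T _ _ (by decide) h24) (P' T _ _ (by decide) h12) (P T _ _ (by decide) h13) h23 h04 h01 h03 (Z T _ _ h14) (Z T _ _ h34)
                    ·
                      exact (nocyc4 T h2 1 2 4 3 (by decide) (by decide) (by decide) (by decide) (by decide) (by decide) (P T _ _ (by decide) h12) (P T _ _ (by decide) h24) (P' T _ _ (by decide) h34) (P' T _ _ (by decide) h13)).elim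
                ·
                  exact (notri T h2 1 2 3 (by decide) (by decide) (by decide) (P T _ _ (by decide) h12) (P T _ _ (by decide) h23) (P T _ _ (by decide) h13)).elim
              ·
                by_cases h23 : T.a 2 3 = 0
                ·
                  by_cases h24 : T.a 2 4 = 0
                  ·
                    by_cases h34 : T.a 3 4 = 0
                    ·
                      exact forkL T h2 1 3 4 2 0 (by decide) (by decide) (by decide) (by decide) (by decide) (by decide) (by decide) (by decide) (by decide) (by decide) (P T _ _ (by decide) h13) (P T _ _ (by decide) h14) (P T _ _ (by decide) h12) (P' T _ _ (by decide) h02) (Z T _ _ h01) h34 (Z T _ _ h23) (Z T _ _ h03) (Z T _ _ h24) (Z T _ _ h04)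
                    ·
                      exact (notri T h2 1 3 4 (by decide) (by decide) (by decide) (P T _ _ (by decide) h13) (P T _ _ (by decide) h34) (P T _ _ (by decide) h14)).elim
                  ·
                    exact (notri T h2 1 2 4 (by decide) (by decide) (by decide) (P T _ _ (by decide) h12) (P T _ _ (by decide) h24) (P T _ _ (by decide) h14)).elim
                ·
                  exact (notri T h2 1 2 3 (by decide) (by decide) (by decide) (P T _ _ (by decide) h12) (P T _ _ (by decide) h23) (P T _ _ (by decide) h13)).elim
        ·
          by_cases h12 : T.a 1 2 = 0
          ·
            by_cases h13 : T.a 1 3 = 0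
            ·
              by_cases h14 : T.a 1 4 = 0
              ·
                by_cases h23 : T.a 2 3 = 0
                ·
                  by_cases h24 : T.a 2 4 = 0
                  ·
                    by_cases h34 : T.a 3 4 = 0
                    ·
                      obtain ⟨i, hi, j, hj, hij⟩ := T.connected {0, 2, 4} ⟨0, by decide⟩ (by decide)
                      have hi' : i = 0 ∨ i = 2 ∨ i = 4 := by
                        have : ∀ i : Fin 5, i ∈ ({0, 2, 4} : Finset (Fin 5)) → i = 0 ∨ i = 2 ∨ i = 4 := by decide
                        exact this i hi
                      have hj' : j = 1 ∨ j = 3 := by
                        have : ∀ j : Fin 5, j ∉ ({0, 2, 4} : Finset (Fin 5)) → j = 1 ∨ j = 3 := by decide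
                        exact this j hj
                      rcases hi' with rfl | rfl | rfl <;> rcases hj' with rfl | rfl
                      · exact (hij h01).elim
                      · exact (hij h03).elim
                      · exact (hij (Z T _ _ h12)).elim
                      · exact (hij h23).elim
                      · exact (hij (Z T _ _ h14)).elim
                      · exact (hij (Z T _ _ h34)).elim
                    ·
                      obtain ⟨i, hi, j, hj, hij⟩ := T.connected {0, 2, 3, 4} ⟨0, by decide⟩ (by decide)
                      have hi' : i = 0 ∨ i = 2 ∨ i = 3 ∨ i = 4 := by
                        have : ∀ i : Fin 5, i ∈ ({0, 2, 3, 4} : Finset (Fin 5)) → i = 0 ∨ i = 2 ∨ i = 3 ∨ i = 4 := by decide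
                        exact this i hi
                      have hj' : j = 1 := by
                        have : ∀ j : Fin 5, j ∉ ({0, 2, 3, 4} : Finset (Fin 5)) → j = 1 := by decide
                        exact this j hj
                      subst hj'
                      rcases hi' with rfl | rfl | rfl | rfl
                      · exact (hij h01).elim
                      · exact (hij (Z T _ _ h12)).elim
                      · exact (hij (Z T _ _ h13)).elim
                      · exact (hij (Z T _ _ h14)).elim
                  ·
                    exact (notri T h2 0 2 4 (by decide) (by decide) (by decide) (P T _ _ (by decide) h02) (P T _ _ (by decide) h24) (P T _ _ (by decide) h04)).elim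
                ·
                  by_cases h24 : T.a 2 4 = 0
                  ·
                    by_cases h34 : T.a 3 4 = 0
                    ·
                      obtain ⟨i, hi, j, hj, hij⟩ := T.connected {0, 2, 3, 4} ⟨0, by decide⟩ (by decide)
                      have hi' : i = 0 ∨ i = 2 ∨ i = 3 ∨ i = 4 := by
                        have : ∀ i : Fin 5, i ∈ ({0, 2, 3, 4} : Finset (Fin 5)) → i = 0 ∨ i = 2 ∨ i = 3 ∨ i = 4 := by decide
                        exact this i hi
                      have hj' : j = 1 := by
                        have : ∀ j : Fin 5, j ∉ ({0, 2, 3, 4} : Finset (Fin 5)) → j = 1 := by decide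
                        exact this j hj
                      subst hj'
                      rcases hi' with rfl | rfl | rfl | rfl
                      · exact (hij h01).elim
                      · exact (hij (Z T _ _ h12)).elim
                      · exact (hij (Z T _ _ h13)).elim
                      · exact (hij (Z T _ _ h14)).elim
                    ·
                      exact (nocyc4 T h2 0 2 3 4 (by decide) (by decide) (by decide) (by decide) (by decide) (by decide) (P T _ _ (by decide) h02) (P T _ _ (by decide) h23) (P T _ _ (by decide) h34) (P' T _ _ (by decide) h04)).elim
                  ·
                    exact (notri T h2 0 2 4 (by decide) (by decide) (by decide) (P T _ _ (by decide) h02) (P T _ _ (by decide) h24) (P T _ _ (by decide) h04)).elim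
              ·
                by_cases h23 : T.a 2 3 = 0
                ·
                  by_cases h24 : T.a 2 4 = 0
                  ·
                    by_cases h34 : T.a 3 4 = 0
                    ·
                      obtain ⟨i, hi, j, hj, hij⟩ := T.connected {0, 1, 2, 4} ⟨0, by decide⟩ (by decide)
                      have hi' : i = 0 ∨ i = 1 ∨ i = 2 ∨ i = 4 := by
                        have : ∀ i : Fin 5, i ∈ ({0, 1, 2, 4} : Finset (Fin 5)) → i = 0 ∨ i = 1 ∨ i = 2 ∨ i = 4 := by decide
                        exact this i hi
                      have hj' : j = 3 := by
                        have : ∀ j : Fin 5, j ∉ ({0, 1, 2, 4} : Finset (Fin 5)) → j = 3 := by decide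
                        exact this j hj
                      subst hj'
                      rcases hi' with rfl | rfl | rfl | rfl
                      · exact (hij h03).elim
                      · exact (hij h13).elim
                      · exact (hij h23).elim
                      · exact (hij (Z T _ _ h34)).elim
                    ·
                      exact forkL T h2 4 1 3 0 2 (by decide) (by decide) (by decide) (by decide) (by decide) (by decide) (by decide) (by decide) (by decide) (by decide) (P' T _ _ (by decide) h14) (P' T _ _ (by decide) h34) (P' T _ _ (by decide) h04) (P T _ _ (by decide) h02) (Z T _ _ h24) h13 (Z T _ _ h01) h12 (Z T _ _ h03) (Z T _ _ h23)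
                  ·
                    exact (notri T h2 0 2 4 (by decide) (by decide) (by decide) (P T _ _ (by decide) h02) (P T _ _ (by decide) h24) (P T _ _ (by decide) h04)).elim
                ·
                  by_cases h24 : T.a 2 4 = 0
                  ·
                    by_cases h34 : T.a 3 4 = 0
                    ·
                      exact pathL T h2 1 4 0 2 3 (by decide) (by decide) (by decide) (by decide) (by decide) (by decide) (by decide) (by decide) (by decide) (by decide) (P T _ _ (by decide) h14) (P' T _ _ (by decide) h04) (P T _ _ (by decide) h02) (P T _ _ (by decide) h23) (Z T _ _ h01) h12 h13 (Z T _ _ h24) (Z T _ _ h34) h03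
                    ·
                      exact (nocyc4 T h2 0 2 3 4 (by decide) (by decide) (by decide) (by decide) (by decide) (by decide) (P T _ _ (by decide) h02) (P T _ _ (by decide) h23) (P T _ _ (by decide) h34) (P' T _ _ (by decide) h04)).elim
                  ·
                    exact (notri T h2 0 2 4 (by decide) (by decide) (by decide) (P T _ _ (by decide) h02) (P T _ _ (by decide) h24) (P T _ _ (by decide) h04)).elim
            ·
              by_cases h14 : T.a 1 4 = 0
              ·
                by_cases h23 : T.a 2 3 = 0
                ·
                  by_cases h24 : T.a 2 4 = 0
                  ·
                    by_cases h34 : T.a 3 4 = 0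
                    ·
                      obtain ⟨i, hi, j, hj, hij⟩ := T.connected {0, 2, 4} ⟨0, by decide⟩ (by decide)
                      have hi' : i = 0 ∨ i = 2 ∨ i = 4 := by
                        have : ∀ i : Fin 5, i ∈ ({0, 2, 4} : Finset (Fin 5)) → i = 0 ∨ i = 2 ∨ i = 4 := by decide
                        exact this i hi
                      have hj' : j = 1 ∨ j = 3 := by
                        have : ∀ j : Fin 5, j ∉ ({0, 2, 4} : Finset (Fin 5)) → j = 1 ∨ j = 3 := by decide
                        exact this j hj
                      rcases hi' with rfl | rfl | rfl <;> rcases hj' with rfl | rfl
                      · exact (hij h01).elim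
                      · exact (hij h03).elim
                      · exact (hij (Z T _ _ h12)).elim
                      · exact (hij h23).elim
                      · exact (hij (Z T _ _ h14)).elim
                      · exact (hij (Z T _ _ h34)).elim
                    ·
                      exact pathL T h2 1 3 4 0 2 (by decide) (by decide) (by decide) (by decide) (by decide) (by decide) (by decide) (by decide) (by decide) (by decide) (P T _ _ (by decide) h13) (P T _ _ (by decide) h34) (P' T _ _ (by decide) h04) (P T _ _ (by decide) h02) h14 (Z T _ _ h01) h12 (Z T _ _ h03) (Z T _ _ h23) (Z T _ _ h24)
                  ·
                    exact (notri T h2 0 2 4 (by decide) (by decide) (by decide) (P T _ _ (by decide) h02) (P T _ _ (by decide) h24) (P T _ _ (by decide) h04)).elim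
                ·
                  by_cases h24 : T.a 2 4 = 0
                  ·
                    by_cases h34 : T.a 3 4 = 0
                    ·
                      exact pathL T h2 1 3 2 0 4 (by decide) (by decide) (by decide) (by decide) (by decide) (by decide) (by decide) (by decide) (by decide) (by decide) (P T _ _ (by decide) h13) (P' T _ _ (by decide) h23) (P' T _ _ (by decide) h02) (P T _ _ (by decide) h04) h12 (Z T _ _ h01) h14 (Z T _ _ h03) h34 h24
                    ·
                      exact (nocyc4 T h2 0 2 3 4 (by decide) (by decide) (by decide) (by decide) (by decide) (by decide) (P T _ _ (by decide) h02) (P T _ _ (by decide) h23) (P T _ _ (by decide) h34) (P' T _ _ (by decide) h04)).elim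
                  ·
                    exact (notri T h2 0 2 4 (by decide) (by decide) (by decide) (P T _ _ (by decide) h02) (P T _ _ (by decide) h24) (P T _ _ (by decide) h04)).elim
              ·
                by_cases h23 : T.a 2 3 = 0
                ·
                  by_cases h24 : T.a 2 4 = 0
                  ·
                    by_cases h34 : T.a 3 4 = 0
                    ·
                      exact pathL T h2 2 0 4 1 3 (by decide) (by decide) (by decide) (by decide) (by decide) (by decide) (by decide) (by decide) (by decide) (by decide) (P' T _ _ (by decide) h02) (P T _ _ (by decide) h04) (P' T _ _ (by decide) h14) (P T _ _ (by decide) h13) h24 (Z T _ _ h12) h23 h01 h03 (Z T _ _ h34)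
                    ·
                      exact (notri T h2 1 3 4 (by decide) (by decide) (by decide) (P T _ _ (by decide) h13) (P T _ _ (by decide) h34) (P T _ _ (by decide) h14)).elim
                  ·
                    exact (notri T h2 0 2 4 (by decide) (by decide) (by decide) (P T _ _ (by decide) h02) (P T _ _ (by decide) h24) (P T _ _ (by decide) h04)).elim
                ·
                  by_cases h24 : T.a 2 4 = 0
                  ·
                    by_cases h34 : T.a 3 4 = 0
                    ·
                      exact cycleL T h2 0 2 3 1 4 (by decide) (by decide) (by decide) (by decide) (by decide) (by decide) (by decide) (by decide) (by decide) (by decide) (P T _ _ (by decide) h02) (P T _ _ (by decide) h23) (P' T _ _ (by decide) h13) (P T _ _ (by decide) h14) (P T _ _ (by decide) h04) h03 h01 (Z T _ _ h12) h24 h34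
                    ·
                      exact (notri T h2 1 3 4 (by decide) (by decide) (by decide) (P T _ _ (by decide) h13) (P T _ _ (by decide) h34) (P T _ _ (by decide) h14)).elim
                  ·
                    exact (notri T h2 0 2 4 (by decide) (by decide) (by decide) (P T _ _ (by decide) h02) (P T _ _ (by decide) h24) (P T _ _ (by decide) h04)).elim
          ·
            by_cases h13 : T.a 1 3 = 0
            ·
              by_cases h14 : T.a 1 4 = 0
              ·
                by_cases h23 : T.a 2 3 = 0
                ·
                  by_cases h24 : T.a 2 4 = 0
                  ·
                    by_cases h34 : T.a 3 4 = 0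
                    ·
                      obtain ⟨i, hi, j, hj, hij⟩ := T.connected {0, 1, 2, 4} ⟨0, by decide⟩ (by decide)
                      have hi' : i = 0 ∨ i = 1 ∨ i = 2 ∨ i = 4 := by
                        have : ∀ i : Fin 5, i ∈ ({0, 1, 2, 4} : Finset (Fin 5)) → i = 0 ∨ i = 1 ∨ i = 2 ∨ i = 4 := by decide
                        exact this i hi
                      have hj' : j = 3 := by
                        have : ∀ j : Fin 5, j ∉ ({0, 1, 2, 4} : Finset (Fin 5)) → j = 3 := by decide
                        exact this j hj
                      subst hj'
                      rcases hi' with rfl | rfl | rfl | rfl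
                      · exact (hij h03).elim
                      · exact (hij h13).elim
                      · exact (hij h23).elim
                      · exact (hij (Z T _ _ h34)).elim
                    ·
                      exact pathL T h2 1 2 0 4 3 (by decide) (by decide) (by decide) (by decide) (by decide) (by decide) (by decide) (by decide) (by decide) (by decide) (P T _ _ (by decide) h12) (P' T _ _ (by decide) h02) (P T _ _ (by decide) h04) (P' T _ _ (by decide) h34) (Z T _ _ h01) h14 h13 h24 h23 h03
                  ·
                    exact (notri T h2 0 2 4 (by decide) (by decide) (by decide) (P T _ _ (by decide) h02) (P T _ _ (by decide) h24) (P T _ _ (by decide) h04)).elim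
                ·
                  by_cases h24 : T.a 2 4 = 0
                  ·
                    by_cases h34 : T.a 3 4 = 0
                    ·
                      exact forkL T h2 2 1 3 0 4 (by decide) (by decide) (by decide) (by decide) (by decide) (by decide) (by decide) (by decide) (by decide) (by decide) (P' T _ _ (by decide) h12) (P T _ _ (by decide) h23) (P' T _ _ (by decide) h02) (P T _ _ (by decide) h04) h24 h13 (Z T _ _ h01) h14 (Z T _ _ h03) h34
                    ·
                      exact (nocyc4 T h2 0 2 3 4 (by decide) (by decide) (by decide) (by decide) (by decide) (by decide) (P T _ _ (by decide) h02) (P T _ _ (by decide) h23) (P T _ _ (by decide) h34) (P' T _ _ (by decide) h04)).elim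
                  ·
                    exact (notri T h2 0 2 4 (by decide) (by decide) (by decide) (P T _ _ (by decide) h02) (P T _ _ (by decide) h24) (P T _ _ (by decide) h04)).elim
              ·
                exact (nocyc4 T h2 0 2 1 4 (by decide) (by decide) (by decide) (by decide) (by decide) (by decide) (P T _ _ (by decide) h02) (P' T _ _ (by decide) h12) (P T _ _ (by decide) h14) (P' T _ _ (by decide) h04)).elim
            ·
              by_cases h14 : T.a 1 4 = 0
              ·
                by_cases h23 : T.a 2 3 = 0
                ·
                  by_cases h24 : T.a 2 4 = 0
                  ·
                    by_cases h34 : T.a 3 4 = 0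
                    ·
                      exact pathL T h2 3 1 2 0 4 (by decide) (by decide) (by decide) (by decide) (by decide) (by decide) (by decide) (by decide) (by decide) (by decide) (P' T _ _ (by decide) h13) (P T _ _ (by decide) h12) (P' T _ _ (by decide) h02) (P T _ _ (by decide) h04) (Z T _ _ h23) (Z T _ _ h03) h34 (Z T _ _ h01) h14 h24
                    ·
                      exact cycleL T h2 0 2 1 3 4 (by decide) (by decide) (by decide) (by decide) (by decide) (by decide) (by decide) (by decide) (by decide) (by decide) (P T _ _ (by decide) h02) (P' T _ _ (by decide) h12) (P T _ _ (by decide) h13) (P T _ _ (by decide) h34) (P T _ _ (by decide) h04) h01 h03 h23 h24 h14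
                  ·
                    exact (notri T h2 0 2 4 (by decide) (by decide) (by decide) (P T _ _ (by decide) h02) (P T _ _ (by decide) h24) (P T _ _ (by decide) h04)).elim
                ·
                  exact (notri T h2 1 2 3 (by decide) (by decide) (by decide) (P T _ _ (by decide) h12) (P T _ _ (by decide) h23) (P T _ _ (by decide) h13)).elim
              ·
                exact (nocyc4 T h2 0 2 1 4 (by decide) (by decide) (by decide) (by decide) (by decide) (by decide) (P T _ _ (by decide) h02) (P' T _ _ (by decide) h12) (P T _ _ (by decide) h14) (P' T _ _ (by decide) h04)).elim
      ·
        by_cases h04 : T.a 0 4 = 0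
        ·
          by_cases h12 : T.a 1 2 = 0
          ·
            by_cases h13 : T.a 1 3 = 0
            ·
              by_cases h14 : T.a 1 4 = 0
              ·
                by_cases h23 : T.a 2 3 = 0
                ·
                  by_cases h24 : T.a 2 4 = 0
                  ·
                    by_cases h34 : T.a 3 4 = 0
                    ·
                      obtain ⟨i, hi, j, hj, hij⟩ := T.connected {0, 2, 3} ⟨0, by decide⟩ (by decide)
                      have hi' : i = 0 ∨ i = 2 ∨ i = 3 := by
                        have : ∀ i : Fin 5, i ∈ ({0, 2, 3} : Finset (Fin 5)) → i = 0 ∨ i = 2 ∨ i = 3 := by decide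
                        exact this i hi
                      have hj' : j = 1 ∨ j = 4 := by
                        have : ∀ j : Fin 5, j ∉ ({0, 2, 3} : Finset (Fin 5)) → j = 1 ∨ j = 4 := by decide
                        exact this j hj
                      rcases hi' with rfl | rfl | rfl <;> rcases hj' with rfl | rfl
                      · exact (hij h01).elim
                      · exact (hij h04).elim
                      · exact (hij (Z T _ _ h12)).elim
                      · exact (hij h24).elim
                      · exact (hij (Z T _ _ h13)).elim
                      · exact (hij h34).elim
                    ·
                      obtain ⟨i, hi, j, hj, hij⟩ := T.connected {0, 2, 3, 4} ⟨0, by decide⟩ (by decide)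
                      have hi' : i = 0 ∨ i = 2 ∨ i = 3 ∨ i = 4 := by
                        have : ∀ i : Fin 5, i ∈ ({0, 2, 3, 4} : Finset (Fin 5)) → i = 0 ∨ i = 2 ∨ i = 3 ∨ i = 4 := by decide
                        exact this i hi
                      have hj' : j = 1 := by
                        have : ∀ j : Fin 5, j ∉ ({0, 2, 3, 4} : Finset (Fin 5)) → j = 1 := by decide
                        exact this j hj
                      subst hj'
                      rcases hi' with rfl | rfl | rfl | rfl
                      · exact (hij h01).elim
                      · exact (hij (Z T _ _ h12)).elim
                      · exact (hij (Z T _ _ h13)).elim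
                      · exact (hij (Z T _ _ h14)).elim
                  ·
                    by_cases h34 : T.a 3 4 = 0
                    ·
                      obtain ⟨i, hi, j, hj, hij⟩ := T.connected {0, 2, 3, 4} ⟨0, by decide⟩ (by decide)
                      have hi' : i = 0 ∨ i = 2 ∨ i = 3 ∨ i = 4 := by
                        have : ∀ i : Fin 5, i ∈ ({0, 2, 3, 4} : Finset (Fin 5)) → i = 0 ∨ i = 2 ∨ i = 3 ∨ i = 4 := by decide
                        exact this i hi
                      have hj' : j = 1 := by
                        have : ∀ j : Fin 5, j ∉ ({0, 2, 3, 4} : Finset (Fin 5)) → j = 1 := by decide
                        exact this j hj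
                      subst hj'
                      rcases hi' with rfl | rfl | rfl | rfl
                      · exact (hij h01).elim
                      · exact (hij (Z T _ _ h12)).elim
                      · exact (hij (Z T _ _ h13)).elim
                      · exact (hij (Z T _ _ h14)).elim
                    ·
                      exact (nocyc4 T h2 0 2 4 3 (by decide) (by decide) (by decide) (by decide) (by decide) (by decide) (P T _ _ (by decide) h02) (P T _ _ (by decide) h24) (P' T _ _ (by decide) h34) (P' T _ _ (by decide) h03)).elim
                ·
                  exact (notri T h2 0 2 3 (by decide) (by decide) (by decide) (P T _ _ (by decide) h02) (P T _ _ (by decide) h23) (P T _ _ (by decide) h03)).elim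
              ·
                by_cases h23 : T.a 2 3 = 0
                ·
                  by_cases h24 : T.a 2 4 = 0
                  ·
                    by_cases h34 : T.a 3 4 = 0
                    ·
                      obtain ⟨i, hi, j, hj, hij⟩ := T.connected {0, 2, 3} ⟨0, by decide⟩ (by decide)
                      have hi' : i = 0 ∨ i = 2 ∨ i = 3 := by
                        have : ∀ i : Fin 5, i ∈ ({0, 2, 3} : Finset (Fin 5)) → i = 0 ∨ i = 2 ∨ i = 3 := by decide
                        exact this i hi
                      have hj' : j = 1 ∨ j = 4 := by
                        have : ∀ j : Fin 5, j ∉ ({0, 2, 3} : Finset (Fin 5)) → j = 1 ∨ j = 4 := by decide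
                        exact this j hj
                      rcases hi' with rfl | rfl | rfl <;> rcases hj' with rfl | rfl
                      · exact (hij h01).elim
                      · exact (hij h04).elim
                      · exact (hij (Z T _ _ h12)).elim
                      · exact (hij h24).elim
                      · exact (hij (Z T _ _ h13)).elim
                      · exact (hij h34).elim
                    ·
                      exact pathL T h2 1 4 3 0 2 (by decide) (by decide) (by decide) (by decide) (by decide) (by decide) (by decide) (by decide) (by decide) (by decide) (P T _ _ (by decide) h14) (P' T _ _ (by decide) h34) (P' T _ _ (by decide) h03) (P T _ _ (by decide) h02) h13 (Z T _ _ h01) h12 (Z T _ _ h04) (Z T _ _ h24) (Z T _ _ h23)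
                  ·
                    by_cases h34 : T.a 3 4 = 0
                    ·
                      exact pathL T h2 1 4 2 0 3 (by decide) (by decide) (by decide) (by decide) (by decide) (by decide) (by decide) (by decide) (by decide) (by decide) (P T _ _ (by decide) h14) (P' T _ _ (by decide) h24) (P' T _ _ (by decide) h02) (P T _ _ (by decide) h03) h12 (Z T _ _ h01) h13 (Z T _ _ h04) (Z T _ _ h34) h23
                    ·
                      exact (nocyc4 T h2 0 2 4 3 (by decide) (by decide) (by decide) (by decide) (by decide) (by decide) (P T _ _ (by decide) h02) (P T _ _ (by decide) h24) (P' T _ _ (by decide) h34) (P' T _ _ (by decide) h03)).elim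
                ·
                  exact (notri T h2 0 2 3 (by decide) (by decide) (by decide) (P T _ _ (by decide) h02) (P T _ _ (by decide) h23) (P T _ _ (by decide) h03)).elim
            ·
              by_cases h14 : T.a 1 4 = 0
              ·
                by_cases h23 : T.a 2 3 = 0
                ·
                  by_cases h24 : T.a 2 4 = 0
                  ·
                    by_cases h34 : T.a 3 4 = 0
                    ·
                      obtain ⟨i, hi, j, hj, hij⟩ := T.connected {0, 1, 2, 3} ⟨0, by decide⟩ (by decide)
                      have hi' : i = 0 ∨ i = 1 ∨ i = 2 ∨ i = 3 := by
                        have : ∀ i : Fin 5, i ∈ ({0, 1, 2, 3} : Finset (Fin 5)) → i = 0 ∨ i = 1 ∨ i = 2 ∨ i = 3 := by decide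
                        exact this i hi
                      have hj' : j = 4 := by
                        have : ∀ j : Fin 5, j ∉ ({0, 1, 2, 3} : Finset (Fin 5)) → j = 4 := by decide
                        exact this j hj
                      subst hj'
                      rcases hi' with rfl | rfl | rfl | rfl
                      · exact (hij h04).elim
                      · exact (hij h14).elim
                      · exact (hij h24).elim
                      · exact (hij h34).elim
                    ·
                      exact forkL T h2 3 1 4 0 2 (by decide) (by decide) (by decide) (by decide) (by decide) (by decide) (by decide) (by decide) (by decide) (by decide) (P' T _ _ (by decide) h13) (P T _ _ (by decide) h34) (P' T _ _ (by decide) h03) (P T _ _ (by decide) h02) (Z T _ _ h23) h14 (Z T _ _ h01) h12 (Z T _ _ h04) (Z T _ _ h24)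
                  ·
                    by_cases h34 : T.a 3 4 = 0
                    ·
                      exact pathL T h2 1 3 0 2 4 (by decide) (by decide) (by decide) (by decide) (by decide) (by decide) (by decide) (by decide) (by decide) (by decide) (P T _ _ (by decide) h13) (P' T _ _ (by decide) h03) (P T _ _ (by decide) h02) (P T _ _ (by decide) h24) (Z T _ _ h01) h12 h14 (Z T _ _ h23) h34 h04
                    ·
                      exact (nocyc4 T h2 0 2 4 3 (by decide) (by decide) (by decide) (by decide) (by decide) (by decide) (P T _ _ (by decide) h02) (P T _ _ (by decide) h24) (P' T _ _ (by decide) h34) (P' T _ _ (by decide) h03)).elim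
                ·
                  exact (notri T h2 0 2 3 (by decide) (by decide) (by decide) (P T _ _ (by decide) h02) (P T _ _ (by decide) h23) (P T _ _ (by decide) h03)).elim
              ·
                by_cases h23 : T.a 2 3 = 0
                ·
                  by_cases h24 : T.a 2 4 = 0
                  ·
                    by_cases h34 : T.a 3 4 = 0
                    ·
                      exact pathL T h2 2 0 3 1 4 (by decide) (by decide) (by decide) (by decide) (by decide) (by decide) (by decide) (by decide) (by decide) (by decide) (P' T _ _ (by decide) h02) (P T _ _ (by decide) h03) (P' T _ _ (by decide) h13) (P T _ _ (by decide) h14) h23 (Z T _ _ h12) h24 h01 h04 h34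
                    ·
                      exact (notri T h2 1 3 4 (by decide) (by decide) (by decide) (P T _ _ (by decide) h13) (P T _ _ (by decide) h34) (P T _ _ (by decide) h14)).elim
                  ·
                    by_cases h34 : T.a 3 4 = 0
                    ·
                      exact cycleL T h2 0 2 4 1 3 (by decide) (by decide) (by decide) (by decide) (by decide) (by decide) (by decide) (by decide) (by decide) (by decide) (P T _ _ (by decide) h02) (P T _ _ (by decide) h24) (P' T _ _ (by decide) h14) (P T _ _ (by decide) h13) (P T _ _ (by decide) h03) h04 h01 (Z T _ _ h12) h23 (Z T _ _ h34)
                    ·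
                      exact (notri T h2 1 3 4 (by decide) (by decide) (by decide) (P T _ _ (by decide) h13) (P T _ _ (by decide) h34) (P T _ _ (by decide) h14)).elim
                ·
                  exact (notri T h2 0 2 3 (by decide) (by decide) (by decide) (P T _ _ (by decide) h02) (P T _ _ (by decide) h23) (P T _ _ (by decide) h03)).elim
          ·
            by_cases h13 : T.a 1 3 = 0
            ·
              by_cases h14 : T.a 1 4 = 0
              ·
                by_cases h23 : T.a 2 3 = 0
                ·
                  by_cases h24 : T.a 2 4 = 0
                  ·
                    by_cases h34 : T.a 3 4 = 0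
                    ·
                      obtain ⟨i, hi, j, hj, hij⟩ := T.connected {0, 1, 2, 3} ⟨0, by decide⟩ (by decide)
                      have hi' : i = 0 ∨ i = 1 ∨ i = 2 ∨ i = 3 := by
                        have : ∀ i : Fin 5, i ∈ ({0, 1, 2, 3} : Finset (Fin 5)) → i = 0 ∨ i = 1 ∨ i = 2 ∨ i = 3 := by decide
                        exact this i hi
                      have hj' : j = 4 := by
                        have : ∀ j : Fin 5, j ∉ ({0, 1, 2, 3} : Finset (Fin 5)) → j = 4 := by decide
                        exact this j hj
                      subst hj'
                      rcases hi' with rfl | rfl | rfl | rfl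
                      · exact (hij h04).elim
                      · exact (hij h14).elim
                      · exact (hij h24).elim
                      · exact (hij h34).elim
                    ·
                      exact pathL T h2 1 2 0 3 4 (by decide) (by decide) (by decide) (by decide) (by decide) (by decide) (by decide) (by decide) (by decide) (by decide) (P T _ _ (by decide) h12) (P' T _ _ (by decide) h02) (P T _ _ (by decide) h03) (P T _ _ (by decide) h34) (Z T _ _ h01) h13 h14 h23 h24 h04
                  ·
                    by_cases h34 : T.a 3 4 = 0
                    ·
                      exact forkL T h2 2 1 4 0 3 (by decide) (by decide) (by decide) (by decide) (by decide) (by decide) (by decide) (by decide) (by decide) (by decide) (P' T _ _ (by decide) h12) (P T _ _ (by decide) h24) (P' T _ _ (by decide) h02) (P T _ _ (by decide) h03) h23 h14 (Z T _ _ h01) h13 (Z T _ _ h04) (Z T _ _ h34)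
                    ·
                      exact (nocyc4 T h2 0 2 4 3 (by decide) (by decide) (by decide) (by decide) (by decide) (by decide) (P T _ _ (by decide) h02) (P T _ _ (by decide) h24) (P' T _ _ (by decide) h34) (P' T _ _ (by decide) h03)).elim
                ·
                  exact (notri T h2 0 2 3 (by decide) (by decide) (by decide) (P T _ _ (by decide) h02) (P T _ _ (by decide) h23) (P T _ _ (by decide) h03)).elim
              ·
                by_cases h23 : T.a 2 3 = 0
                ·
                  by_cases h24 : T.a 2 4 = 0
                  ·
                    by_cases h34 : T.a 3 4 = 0
                    ·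
                      exact pathL T h2 3 0 2 1 4 (by decide) (by decide) (by decide) (by decide) (by decide) (by decide) (by decide) (by decide) (by decide) (by decide) (P' T _ _ (by decide) h03) (P T _ _ (by decide) h02) (P' T _ _ (by decide) h12) (P T _ _ (by decide) h14) (Z T _ _ h23) (Z T _ _ h13) h34 h01 h04 h24
                    ·
                      exact cycleL T h2 0 2 1 4 3 (by decide) (by decide) (by decide) (by decide) (by decide) (by decide) (by decide) (by decide) (by decide) (by decide) (P T _ _ (by decide) h02) (P' T _ _ (by decide) h12) (P T _ _ (by decide) h14) (P' T _ _ (by decide) h34) (P T _ _ (by decide) h03) h01 h04 h24 h23 h13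
                  ·
                    exact (notri T h2 1 2 4 (by decide) (by decide) (by decide) (P T _ _ (by decide) h12) (P T _ _ (by decide) h24) (P T _ _ (by decide) h14)).elim
                ·
                  exact (notri T h2 0 2 3 (by decide) (by decide) (by decide) (P T _ _ (by decide) h02) (P T _ _ (by decide) h23) (P T _ _ (by decide) h03)).elim
            ·
              exact (nocyc4 T h2 0 2 1 3 (by decide) (by decide) (by decide) (by decide) (by decide) (by decide) (P T _ _ (by decide) h02) (P' T _ _ (by decide) h12) (P T _ _ (by decide) h13) (P' T _ _ (by decide) h03)).elim
        ·
          by_cases h12 : T.a 1 2 = 0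
          ·
            by_cases h13 : T.a 1 3 = 0
            ·
              by_cases h14 : T.a 1 4 = 0
              ·
                by_cases h23 : T.a 2 3 = 0
                ·
                  by_cases h24 : T.a 2 4 = 0
                  ·
                    by_cases h34 : T.a 3 4 = 0
                    ·
                      obtain ⟨i, hi, j, hj, hij⟩ := T.connected {0, 2, 3, 4} ⟨0, by decide⟩ (by decide)
                      have hi' : i = 0 ∨ i = 2 ∨ i = 3 ∨ i = 4 := by
                        have : ∀ i : Fin 5, i ∈ ({0, 2, 3, 4} : Finset (Fin 5)) → i = 0 ∨ i = 2 ∨ i = 3 ∨ i = 4 := by decide
                        exact this i hi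
                      have hj' : j = 1 := by
                        have : ∀ j : Fin 5, j ∉ ({0, 2, 3, 4} : Finset (Fin 5)) → j = 1 := by decide
                        exact this j hj
                      subst hj'
                      rcases hi' with rfl | rfl | rfl | rfl
                      · exact (hij h01).elim
                      · exact (hij (Z T _ _ h12)).elim
                      · exact (hij (Z T _ _ h13)).elim
                      · exact (hij (Z T _ _ h14)).elim
                    ·
                      exact (notri T h2 0 3 4 (by decide) (by decide) (by decide) (P T _ _ (by decide) h03) (P T _ _ (by decide) h34) (P T _ _ (by decide) h04)).elim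
                  ·
                    exact (notri T h2 0 2 4 (by decide) (by decide) (by decide) (P T _ _ (by decide) h02) (P T _ _ (by decide) h24) (P T _ _ (by decide) h04)).elim
                ·
                  exact (notri T h2 0 2 3 (by decide) (by decide) (by decide) (P T _ _ (by decide) h02) (P T _ _ (by decide) h23) (P T _ _ (by decide) h03)).elim
              ·
                by_cases h23 : T.a 2 3 = 0
                ·
                  by_cases h24 : T.a 2 4 = 0
                  ·
                    by_cases h34 : T.a 3 4 = 0
                    ·
                      exact forkL T h2 0 2 3 4 1 (by decide) (by decide) (by decide) (by decide) (by decide) (by decide) (by decide) (by decide) (by decide) (by decide) (P T _ _ (by decide) h02) (P T _ _ (by decide) h03) (P T _ _ (by decide) h04) (P' T _ _ (by decide) h14) h01 h23 h24 (Z T _ _ h12) h34 (Z T _ _ h13)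
                    ·
                      exact (notri T h2 0 3 4 (by decide) (by decide) (by decide) (P T _ _ (by decide) h03) (P T _ _ (by decide) h34) (P T _ _ (by decide) h04)).elim
                  ·
                    exact (notri T h2 0 2 4 (by decide) (by decide) (by decide) (P T _ _ (by decide) h02) (P T _ _ (by decide) h24) (P T _ _ (by decide) h04)).elim
                ·
                  exact (notri T h2 0 2 3 (by decide) (by decide) (by decide) (P T _ _ (by decide) h02) (P T _ _ (by decide) h23) (P T _ _ (by decide) h03)).elim
            ·
              by_cases h14 : T.a 1 4 = 0
              ·
                by_cases h23 : T.a 2 3 = 0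
                ·
                  by_cases h24 : T.a 2 4 = 0
                  ·
                    by_cases h34 : T.a 3 4 = 0
                    ·
                      exact forkL T h2 0 2 4 3 1 (by decide) (by decide) (by decide) (by decide) (by decide) (by decide) (by decide) (by decide) (by decide) (by decide) (P T _ _ (by decide) h02) (P T _ _ (by decide) h04) (P T _ _ (by decide) h03) (P' T _ _ (by decide) h13) h01 h24 h23 (Z T _ _ h12) (Z T _ _ h34) (Z T _ _ h14)
                    ·
                      exact (notri T h2 0 3 4 (by decide) (by decide) (by decide) (P T _ _ (by decide) h03) (P T _ _ (by decide) h34) (P T _ _ (by decide) h04)).elim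
                  ·
                    exact (notri T h2 0 2 4 (by decide) (by decide) (by decide) (P T _ _ (by decide) h02) (P T _ _ (by decide) h24) (P T _ _ (by decide) h04)).elim
                ·
                  exact (notri T h2 0 2 3 (by decide) (by decide) (by decide) (P T _ _ (by decide) h02) (P T _ _ (by decide) h23) (P T _ _ (by decide) h03)).elim
              ·
                exact (nocyc4 T h2 0 3 1 4 (by decide) (by decide) (by decide) (by decide) (by decide) (by decide) (P T _ _ (by decide) h03) (P' T _ _ (by decide) h13) (P T _ _ (by decide) h14) (P' T _ _ (by decide) h04)).elim
          ·
            by_cases h13 : T.a 1 3 = 0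
            ·
              by_cases h14 : T.a 1 4 = 0
              ·
                by_cases h23 : T.a 2 3 = 0
                ·
                  by_cases h24 : T.a 2 4 = 0
                  ·
                    by_cases h34 : T.a 3 4 = 0
                    ·
                      exact forkL T h2 0 3 4 2 1 (by decide) (by decide) (by decide) (by decide) (by decide) (by decide) (by decide) (by decide) (by decide) (by decide) (P T _ _ (by decide) h03) (P T _ _ (by decide) h04) (P T _ _ (by decide) h02) (P' T _ _ (by decide) h12) h01 h34 (Z T _ _ h23) (Z T _ _ h13) (Z T _ _ h24) (Z T _ _ h14)
                    ·
                      exact (notri T h2 0 3 4 (by decide) (by decide) (by decide) (P T _ _ (by decide) h03) (P T _ _ (by decide) h34) (P T _ _ (by decide) h04)).elim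
                  ·
                    exact (notri T h2 0 2 4 (by decide) (by decide) (by decide) (P T _ _ (by decide) h02) (P T _ _ (by decide) h24) (P T _ _ (by decide) h04)).elim
                ·
                  exact (notri T h2 0 2 3 (by decide) (by decide) (by decide) (P T _ _ (by decide) h02) (P T _ _ (by decide) h23) (P T _ _ (by decide) h03)).elim
              ·
                exact (nocyc4 T h2 0 2 1 4 (by decide) (by decide) (by decide) (by decide) (by decide) (by decide) (P T _ _ (by decide) h02) (P' T _ _ (by decide) h12) (P T _ _ (by decide) h14) (P' T _ _ (by decide) h04)).elim
            ·
              exact (nocyc4 T h2 0 2 1 3 (by decide) (by decide) (by decide) (by decide) (by decide) (by decide) (P T _ _ (by decide) h02) (P' T _ _ (by decide) h12) (P T _ _ (by decide) h13) (P' T _ _ (by decide) h03)).elim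
  ·
    by_cases h02 : T.a 0 2 = 0
    ·
      by_cases h03 : T.a 0 3 = 0
      ·
        by_cases h04 : T.a 0 4 = 0
        ·
          by_cases h12 : T.a 1 2 = 0
          ·
            by_cases h13 : T.a 1 3 = 0
            ·
              by_cases h14 : T.a 1 4 = 0
              ·
                by_cases h23 : T.a 2 3 = 0
                ·
                  by_cases h24 : T.a 2 4 = 0
                  ·
                    by_cases h34 : T.a 3 4 = 0
                    ·
                      obtain ⟨i, hi, j, hj, hij⟩ := T.connected {0, 1} ⟨0, by decide⟩ (by decide)
                      have hi' : i = 0 ∨ i = 1 := by
                        have : ∀ i : Fin 5, i ∈ ({0, 1} : Finset (Fin 5)) → i = 0 ∨ i = 1 := by decide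
                        exact this i hi
                      have hj' : j = 2 ∨ j = 3 ∨ j = 4 := by
                        have : ∀ j : Fin 5, j ∉ ({0, 1} : Finset (Fin 5)) → j = 2 ∨ j = 3 ∨ j = 4 := by decide
                        exact this j hj
                      rcases hi' with rfl | rfl <;> rcases hj' with rfl | rfl | rfl
                      · exact (hij h02).elim
                      · exact (hij h03).elim
                      · exact (hij h04).elim
                      · exact (hij h12).elim
                      · exact (hij h13).elim
                      · exact (hij h14).elim
                    ·
                      obtain ⟨i, hi, j, hj, hij⟩ := T.connected {0, 1} ⟨0, by decide⟩ (by decide)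
                      have hi' : i = 0 ∨ i = 1 := by
                        have : ∀ i : Fin 5, i ∈ ({0, 1} : Finset (Fin 5)) → i = 0 ∨ i = 1 := by decide
                        exact this i hi
                      have hj' : j = 2 ∨ j = 3 ∨ j = 4 := by
                        have : ∀ j : Fin 5, j ∉ ({0, 1} : Finset (Fin 5)) → j = 2 ∨ j = 3 ∨ j = 4 := by decide
                        exact this j hj
                      rcases hi' with rfl | rfl <;> rcases hj' with rfl | rfl | rfl
                      · exact (hij h02).elim
                      · exact (hij h03).elim
                      · exact (hij h04).elim
                      · exact (hij h12).elim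
                      · exact (hij h13).elim
                      · exact (hij h14).elim
                  ·
                    by_cases h34 : T.a 3 4 = 0
                    ·
                      obtain ⟨i, hi, j, hj, hij⟩ := T.connected {0, 1} ⟨0, by decide⟩ (by decide)
                      have hi' : i = 0 ∨ i = 1 := by
                        have : ∀ i : Fin 5, i ∈ ({0, 1} : Finset (Fin 5)) → i = 0 ∨ i = 1 := by decide
                        exact this i hi
                      have hj' : j = 2 ∨ j = 3 ∨ j = 4 := by
                        have : ∀ j : Fin 5, j ∉ ({0, 1} : Finset (Fin 5)) → j = 2 ∨ j = 3 ∨ j = 4 := by decide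
                        exact this j hj
                      rcases hi' with rfl | rfl <;> rcases hj' with rfl | rfl | rfl
                      · exact (hij h02).elim
                      · exact (hij h03).elim
                      · exact (hij h04).elim
                      · exact (hij h12).elim
                      · exact (hij h13).elim
                      · exact (hij h14).elim
                    ·
                      obtain ⟨i, hi, j, hj, hij⟩ := T.connected {0, 1} ⟨0, by decide⟩ (by decide)
                      have hi' : i = 0 ∨ i = 1 := by
                        have : ∀ i : Fin 5, i ∈ ({0, 1} : Finset (Fin 5)) → i = 0 ∨ i = 1 := by decide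
                        exact this i hi
                      have hj' : j = 2 ∨ j = 3 ∨ j = 4 := by
                        have : ∀ j : Fin 5, j ∉ ({0, 1} : Finset (Fin 5)) → j = 2 ∨ j = 3 ∨ j = 4 := by decide
                        exact this j hj
                      rcases hi' with rfl | rfl <;> rcases hj' with rfl | rfl | rfl
                      · exact (hij h02).elim
                      · exact (hij h03).elim
                      · exact (hij h04).elim
                      · exact (hij h12).elim
                      · exact (hij h13).elim
                      · exact (hij h14).elim
                ·
                  by_cases h24 : T.a 2 4 = 0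
                  ·
                    by_cases h34 : T.a 3 4 = 0
                    ·
                      obtain ⟨i, hi, j, hj, hij⟩ := T.connected {0, 1} ⟨0, by decide⟩ (by decide)
                      have hi' : i = 0 ∨ i = 1 := by
                        have : ∀ i : Fin 5, i ∈ ({0, 1} : Finset (Fin 5)) → i = 0 ∨ i = 1 := by decide
                        exact this i hi
                      have hj' : j = 2 ∨ j = 3 ∨ j = 4 := by
                        have : ∀ j : Fin 5, j ∉ ({0, 1} : Finset (Fin 5)) → j = 2 ∨ j = 3 ∨ j = 4 := by decide
                        exact this j hj
                      rcases hi' with rfl | rfl <;> rcases hj' with rfl | rfl | rfl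
                      · exact (hij h02).elim
                      · exact (hij h03).elim
                      · exact (hij h04).elim
                      · exact (hij h12).elim
                      · exact (hij h13).elim
                      · exact (hij h14).elim
                    ·
                      obtain ⟨i, hi, j, hj, hij⟩ := T.connected {0, 1} ⟨0, by decide⟩ (by decide)
                      have hi' : i = 0 ∨ i = 1 := by
                        have : ∀ i : Fin 5, i ∈ ({0, 1} : Finset (Fin 5)) → i = 0 ∨ i = 1 := by decide
                        exact this i hi
                      have hj' : j = 2 ∨ j = 3 ∨ j = 4 := by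
                        have : ∀ j : Fin 5, j ∉ ({0, 1} : Finset (Fin 5)) → j = 2 ∨ j = 3 ∨ j = 4 := by decide
                        exact this j hj
                      rcases hi' with rfl | rfl <;> rcases hj' with rfl | rfl | rfl
                      · exact (hij h02).elim
                      · exact (hij h03).elim
                      · exact (hij h04).elim
                      · exact (hij h12).elim
                      · exact (hij h13).elim
                      · exact (hij h14).elim
                  ·
                    by_cases h34 : T.a 3 4 = 0
                    ·
                      obtain ⟨i, hi, j, hj, hij⟩ := T.connected {0, 1} ⟨0, by decide⟩ (by decide)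
                      have hi' : i = 0 ∨ i = 1 := by
                        have : ∀ i : Fin 5, i ∈ ({0, 1} : Finset (Fin 5)) → i = 0 ∨ i = 1 := by decide
                        exact this i hi
                      have hj' : j = 2 ∨ j = 3 ∨ j = 4 := by
                        have : ∀ j : Fin 5, j ∉ ({0, 1} : Finset (Fin 5)) → j = 2 ∨ j = 3 ∨ j = 4 := by decide
                        exact this j hj
                      rcases hi' with rfl | rfl <;> rcases hj' with rfl | rfl | rfl
                      · exact (hij h02).elim
                      · exact (hij h03).elim
                      · exact (hij h04).elim
                      · exact (hij h12).elim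
                      · exact (hij h13).elim
                      · exact (hij h14).elim
                    ·
                      exact (notri T h2 2 3 4 (by decide) (by decide) (by decide) (P T _ _ (by decide) h23) (P T _ _ (by decide) h34) (P T _ _ (by decide) h24)).elim
              ·
                by_cases h23 : T.a 2 3 = 0
                ·
                  by_cases h24 : T.a 2 4 = 0
                  ·
                    by_cases h34 : T.a 3 4 = 0
                    ·
                      obtain ⟨i, hi, j, hj, hij⟩ := T.connected {0, 1, 4} ⟨0, by decide⟩ (by decide)
                      have hi' : i = 0 ∨ i = 1 ∨ i = 4 := by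
                        have : ∀ i : Fin 5, i ∈ ({0, 1, 4} : Finset (Fin 5)) → i = 0 ∨ i = 1 ∨ i = 4 := by decide
                        exact this i hi
                      have hj' : j = 2 ∨ j = 3 := by
                        have : ∀ j : Fin 5, j ∉ ({0, 1, 4} : Finset (Fin 5)) → j = 2 ∨ j = 3 := by decide
                        exact this j hj
                      rcases hi' with rfl | rfl | rfl <;> rcases hj' with rfl | rfl
                      · exact (hij h02).elim
                      · exact (hij h03).elim
                      · exact (hij h12).elim
                      · exact (hij h13).elim
                      · exact (hij (Z T _ _ h24)).elim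
                      · exact (hij (Z T _ _ h34)).elim
                    ·
                      obtain ⟨i, hi, j, hj, hij⟩ := T.connected {0, 1, 3, 4} ⟨0, by decide⟩ (by decide)
                      have hi' : i = 0 ∨ i = 1 ∨ i = 3 ∨ i = 4 := by
                        have : ∀ i : Fin 5, i ∈ ({0, 1, 3, 4} : Finset (Fin 5)) → i = 0 ∨ i = 1 ∨ i = 3 ∨ i = 4 := by decide
                        exact this i hi
                      have hj' : j = 2 := by
                        have : ∀ j : Fin 5, j ∉ ({0, 1, 3, 4} : Finset (Fin 5)) → j = 2 := by decide
                        exact this j hj
                      subst hj'
                      rcases hi' with rfl | rfl | rfl | rfl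
                      · exact (hij h02).elim
                      · exact (hij h12).elim
                      · exact (hij (Z T _ _ h23)).elim
                      · exact (hij (Z T _ _ h24)).elim
                  ·
                    by_cases h34 : T.a 3 4 = 0
                    ·
                      obtain ⟨i, hi, j, hj, hij⟩ := T.connected {0, 1, 2, 4} ⟨0, by decide⟩ (by decide)
                      have hi' : i = 0 ∨ i = 1 ∨ i = 2 ∨ i = 4 := by
                        have : ∀ i : Fin 5, i ∈ ({0, 1, 2, 4} : Finset (Fin 5)) → i = 0 ∨ i = 1 ∨ i = 2 ∨ i = 4 := by decide
                        exact this i hi
                      have hj' : j = 3 := by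
                        have : ∀ j : Fin 5, j ∉ ({0, 1, 2, 4} : Finset (Fin 5)) → j = 3 := by decide
                        exact this j hj
                      subst hj'
                      rcases hi' with rfl | rfl | rfl | rfl
                      · exact (hij h03).elim
                      · exact (hij h13).elim
                      · exact (hij h23).elim
                      · exact (hij (Z T _ _ h34)).elim
                    ·
                      exact forkL T h2 4 2 3 1 0 (by decide) (by decide) (by decide) (by decide) (by decide) (by decide) (by decide) (by decide) (by decide) (by decide) (P' T _ _ (by decide) h24) (P' T _ _ (by decide) h34) (P' T _ _ (by decide) h14) (P' T _ _ (by decide) h01) (Z T _ _ h04) h23 (Z T _ _ h12) (Z T _ _ h02) (Z T _ _ h13) (Z T _ _ h03)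
                ·
                  by_cases h24 : T.a 2 4 = 0
                  ·
                    by_cases h34 : T.a 3 4 = 0
                    ·
                      obtain ⟨i, hi, j, hj, hij⟩ := T.connected {0, 1, 4} ⟨0, by decide⟩ (by decide)
                      have hi' : i = 0 ∨ i = 1 ∨ i = 4 := by
                        have : ∀ i : Fin 5, i ∈ ({0, 1, 4} : Finset (Fin 5)) → i = 0 ∨ i = 1 ∨ i = 4 := by decide
                        exact this i hi
                      have hj' : j = 2 ∨ j = 3 := by
                        have : ∀ j : Fin 5, j ∉ ({0, 1, 4} : Finset (Fin 5)) → j = 2 ∨ j = 3 := by decide
                        exact this j hj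
                      rcases hi' with rfl | rfl | rfl <;> rcases hj' with rfl | rfl
                      · exact (hij h02).elim
                      · exact (hij h03).elim
                      · exact (hij h12).elim
                      · exact (hij h13).elim
                      · exact (hij (Z T _ _ h24)).elim
                      · exact (hij (Z T _ _ h34)).elim
                    ·
                      exact pathL T h2 0 1 4 3 2 (by decide) (by decide) (by decide) (by decide) (by decide) (by decide) (by decide) (by decide) (by decide) (by decide) (P T _ _ (by decide) h01) (P T _ _ (by decide) h14) (P' T _ _ (by decide) h34) (P' T _ _ (by decide) h23) h04 h03 h02 h13 h12 (Z T _ _ h24)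
                  ·
                    by_cases h34 : T.a 3 4 = 0
                    ·
                      exact pathL T h2 0 1 4 2 3 (by decide) (by decide) (by decide) (by decide) (by decide) (by decide) (by decide) (by decide) (by decide) (by decide) (P T _ _ (by decide) h01) (P T _ _ (by decide) h14) (P' T _ _ (by decide) h24) (P T _ _ (by decide) h23) h04 h02 h03 h12 h13 (Z T _ _ h34)
                    ·
                      exact (notri T h2 2 3 4 (by decide) (by decide) (by decide) (P T _ _ (by decide) h23) (P T _ _ (by decide) h34) (P T _ _ (by decide) h24)).elim
            ·
              by_cases h14 : T.a 1 4 = 0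
              ·
                by_cases h23 : T.a 2 3 = 0
                ·
                  by_cases h24 : T.a 2 4 = 0
                  ·
                    by_cases h34 : T.a 3 4 = 0
                    ·
                      obtain ⟨i, hi, j, hj, hij⟩ := T.connected {0, 1, 3} ⟨0, by decide⟩ (by decide)
                      have hi' : i = 0 ∨ i = 1 ∨ i = 3 := by
                        have : ∀ i : Fin 5, i ∈ ({0, 1, 3} : Finset (Fin 5)) → i = 0 ∨ i = 1 ∨ i = 3 := by decide
                        exact this i hi
                      have hj' : j = 2 ∨ j = 4 := by
                        have : ∀ j : Fin 5, j ∉ ({0, 1, 3} : Finset (Fin 5)) → j = 2 ∨ j = 4 := by decide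
                        exact this j hj
                      rcases hi' with rfl | rfl | rfl <;> rcases hj' with rfl | rfl
                      · exact (hij h02).elim
                      · exact (hij h04).elim
                      · exact (hij h12).elim
                      · exact (hij h14).elim
                      · exact (hij (Z T _ _ h23)).elim
                      · exact (hij h34).elim
                    ·
                      obtain ⟨i, hi, j, hj, hij⟩ := T.connected {0, 1, 3, 4} ⟨0, by decide⟩ (by decide)
                      have hi' : i = 0 ∨ i = 1 ∨ i = 3 ∨ i = 4 := by
                        have : ∀ i : Fin 5, i ∈ ({0, 1, 3, 4} : Finset (Fin 5)) → i = 0 ∨ i = 1 ∨ i = 3 ∨ i = 4 := by decide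
                        exact this i hi
                      have hj' : j = 2 := by
                        have : ∀ j : Fin 5, j ∉ ({0, 1, 3, 4} : Finset (Fin 5)) → j = 2 := by decide
                        exact this j hj
                      subst hj'
                      rcases hi' with rfl | rfl | rfl | rfl
                      · exact (hij h02).elim
                      · exact (hij h12).elim
                      · exact (hij (Z T _ _ h23)).elim
                      · exact (hij (Z T _ _ h24)).elim
                  ·
                    by_cases h34 : T.a 3 4 = 0
                    ·
                      obtain ⟨i, hi, j, hj, hij⟩ := T.connected {0, 1, 3} ⟨0, by decide⟩ (by decide)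
                      have hi' : i = 0 ∨ i = 1 ∨ i = 3 := by
                        have : ∀ i : Fin 5, i ∈ ({0, 1, 3} : Finset (Fin 5)) → i = 0 ∨ i = 1 ∨ i = 3 := by decide
                        exact this i hi
                      have hj' : j = 2 ∨ j = 4 := by
                        have : ∀ j : Fin 5, j ∉ ({0, 1, 3} : Finset (Fin 5)) → j = 2 ∨ j = 4 := by decide
                        exact this j hj
                      rcases hi' with rfl | rfl | rfl <;> rcases hj' with rfl | rfl
                      · exact (hij h02).elim
                      · exact (hij h04).elim
                      · exact (hij h12).elim
                      · exact (hij h14).elim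
                      · exact (hij (Z T _ _ h23)).elim
                      · exact (hij h34).elim
                    ·
                      exact pathL T h2 0 1 3 4 2 (by decide) (by decide) (by decide) (by decide) (by decide) (by decide) (by decide) (by decide) (by decide) (by decide) (P T _ _ (by decide) h01) (P T _ _ (by decide) h13) (P T _ _ (by decide) h34) (P' T _ _ (by decide) h24) h03 h04 h02 h14 h12 (Z T _ _ h23)
                ·
                  by_cases h24 : T.a 2 4 = 0
                  ·
                    by_cases h34 : T.a 3 4 = 0
                    ·
                      obtain ⟨i, hi, j, hj, hij⟩ := T.connected {0, 1, 2, 3} ⟨0, by decide⟩ (by decide)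
                      have hi' : i = 0 ∨ i = 1 ∨ i = 2 ∨ i = 3 := by
                        have : ∀ i : Fin 5, i ∈ ({0, 1, 2, 3} : Finset (Fin 5)) → i = 0 ∨ i = 1 ∨ i = 2 ∨ i = 3 := by decide
                        exact this i hi
                      have hj' : j = 4 := by
                        have : ∀ j : Fin 5, j ∉ ({0, 1, 2, 3} : Finset (Fin 5)) → j = 4 := by decide
                        exact this j hj
                      subst hj'
                      rcases hi' with rfl | rfl | rfl | rfl
                      · exact (hij h04).elim
                      · exact (hij h14).elim
                      · exact (hij h24).elim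
                      · exact (hij h34).elim
                    ·
                      exact forkL T h2 3 2 4 1 0 (by decide) (by decide) (by decide) (by decide) (by decide) (by decide) (by decide) (by decide) (by decide) (by decide) (P' T _ _ (by decide) h23) (P T _ _ (by decide) h34) (P' T _ _ (by decide) h13) (P' T _ _ (by decide) h01) (Z T _ _ h03) h24 (Z T _ _ h12) (Z T _ _ h02) (Z T _ _ h14) (Z T _ _ h04)
                  ·
                    by_cases h34 : T.a 3 4 = 0
                    ·
                      exact pathL T h2 0 1 3 2 4 (by decide) (by decide) (by decide) (by decide) (by decide) (by decide) (by decide) (by decide) (by decide) (by decide) (P T _ _ (by decide) h01) (P T _ _ (by decide) h13) (P' T _ _ (by decide) h23) (P T _ _ (by decide) h24) h03 h02 h04 h12 h14 h34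
                    ·
                      exact (notri T h2 2 3 4 (by decide) (by decide) (by decide) (P T _ _ (by decide) h23) (P T _ _ (by decide) h34) (P T _ _ (by decide) h24)).elim
              ·
                by_cases h23 : T.a 2 3 = 0
                ·
                  by_cases h24 : T.a 2 4 = 0
                  ·
                    by_cases h34 : T.a 3 4 = 0
                    ·
                      obtain ⟨i, hi, j, hj, hij⟩ := T.connected {0, 1, 3, 4} ⟨0, by decide⟩ (by decide)
                      have hi' : i = 0 ∨ i = 1 ∨ i = 3 ∨ i = 4 := by
                        have : ∀ i : Fin 5, i ∈ ({0, 1, 3, 4} : Finset (Fin 5)) → i = 0 ∨ i = 1 ∨ i = 3 ∨ i = 4 := by decide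
                        exact this i hi
                      have hj' : j = 2 := by
                        have : ∀ j : Fin 5, j ∉ ({0, 1, 3, 4} : Finset (Fin 5)) → j = 2 := by decide
                        exact this j hj
                      subst hj'
                      rcases hi' with rfl | rfl | rfl | rfl
                      · exact (hij h02).elim
                      · exact (hij h12).elim
                      · exact (hij (Z T _ _ h23)).elim
                      · exact (hij (Z T _ _ h24)).elim
                    ·
                      exact (notri T h2 1 3 4 (by decide) (by decide) (by decide) (P T _ _ (by decide) h13) (P T _ _ (by decide) h34) (P T _ _ (by decide) h14)).elim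
                  ·
                    by_cases h34 : T.a 3 4 = 0
                    ·
                      exact forkL T h2 1 0 3 4 2 (by decide) (by decide) (by decide) (by decide) (by decide) (by decide) (by decide) (by decide) (by decide) (by decide) (P' T _ _ (by decide) h01) (P T _ _ (by decide) h13) (P T _ _ (by decide) h14) (P' T _ _ (by decide) h24) h12 h03 h04 h02 h34 (Z T _ _ h23)
                    ·
                      exact (notri T h2 1 3 4 (by decide) (by decide) (by decide) (P T _ _ (by decide) h13) (P T _ _ (by decide) h34) (P T _ _ (by decide) h14)).elim
                ·
                  by_cases h24 : T.a 2 4 = 0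
                  ·
                    by_cases h34 : T.a 3 4 = 0
                    ·
                      exact forkL T h2 1 0 4 3 2 (by decide) (by decide) (by decide) (by decide) (by decide) (by decide) (by decide) (by decide) (by decide) (by decide) (P' T _ _ (by decide) h01) (P T _ _ (by decide) h14) (P T _ _ (by decide) h13) (P' T _ _ (by decide) h23) h12 h04 h03 h02 (Z T _ _ h34) (Z T _ _ h24)
                    ·
                      exact (notri T h2 1 3 4 (by decide) (by decide) (by decide) (P T _ _ (by decide) h13) (P T _ _ (by decide) h34) (P T _ _ (by decide) h14)).elim
                  ·
                    exact (nocyc4 T h2 1 3 2 4 (by decide) (by decide) (by decide) (by decide) (by decide) (by decide) (P T _ _ (by decide) h13) (P' T _ _ (by decide) h23) (P T _ _ (by decide) h24) (P' T _ _ (by decide) h14)).elim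
          ·
            by_cases h13 : T.a 1 3 = 0
            ·
              by_cases h14 : T.a 1 4 = 0
              ·
                by_cases h23 : T.a 2 3 = 0
                ·
                  by_cases h24 : T.a 2 4 = 0
                  ·
                    by_cases h34 : T.a 3 4 = 0
                    ·
                      obtain ⟨i, hi, j, hj, hij⟩ := T.connected {0, 1, 2} ⟨0, by decide⟩ (by decide)
                      have hi' : i = 0 ∨ i = 1 ∨ i = 2 := by
                        have : ∀ i : Fin 5, i ∈ ({0, 1, 2} : Finset (Fin 5)) → i = 0 ∨ i = 1 ∨ i = 2 := by decide
                        exact this i hi
                      have hj' : j = 3 ∨ j = 4 := by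
                        have : ∀ j : Fin 5, j ∉ ({0, 1, 2} : Finset (Fin 5)) → j = 3 ∨ j = 4 := by decide
                        exact this j hj
                      rcases hi' with rfl | rfl | rfl <;> rcases hj' with rfl | rfl
                      · exact (hij h03).elim
                      · exact (hij h04).elim
                      · exact (hij h13).elim
                      · exact (hij h14).elim
                      · exact (hij h23).elim
                      · exact (hij h24).elim
                    ·
                      obtain ⟨i, hi, j, hj, hij⟩ := T.connected {0, 1, 2} ⟨0, by decide⟩ (by decide)
                      have hi' : i = 0 ∨ i = 1 ∨ i = 2 := by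
                        have : ∀ i : Fin 5, i ∈ ({0, 1, 2} : Finset (Fin 5)) → i = 0 ∨ i = 1 ∨ i = 2 := by decide
                        exact this i hi
                      have hj' : j = 3 ∨ j = 4 := by
                        have : ∀ j : Fin 5, j ∉ ({0, 1, 2} : Finset (Fin 5)) → j = 3 ∨ j = 4 := by decide
                        exact this j hj
                      rcases hi' with rfl | rfl | rfl <;> rcases hj' with rfl | rfl
                      · exact (hij h03).elim
                      · exact (hij h04).elim
                      · exact (hij h13).elim
                      · exact (hij h14).elim
                      · exact (hij h23).elim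
                      · exact (hij h24).elim
                  ·
                    by_cases h34 : T.a 3 4 = 0
                    ·
                      obtain ⟨i, hi, j, hj, hij⟩ := T.connected {0, 1, 2, 4} ⟨0, by decide⟩ (by decide)
                      have hi' : i = 0 ∨ i = 1 ∨ i = 2 ∨ i = 4 := by
                        have : ∀ i : Fin 5, i ∈ ({0, 1, 2, 4} : Finset (Fin 5)) → i = 0 ∨ i = 1 ∨ i = 2 ∨ i = 4 := by decide
                        exact this i hi
                      have hj' : j = 3 := by
                        have : ∀ j : Fin 5, j ∉ ({0, 1, 2, 4} : Finset (Fin 5)) → j = 3 := by decide
                        exact this j hj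
                      subst hj'
                      rcases hi' with rfl | rfl | rfl | rfl
                      · exact (hij h03).elim
                      · exact (hij h13).elim
                      · exact (hij h23).elim
                      · exact (hij (Z T _ _ h34)).elim
                    ·
                      exact pathL T h2 0 1 2 4 3 (by decide) (by decide) (by decide) (by decide) (by decide) (by decide) (by decide) (by decide) (by decide) (by decide) (P T _ _ (by decide) h01) (P T _ _ (by decide) h12) (P T _ _ (by decide) h24) (P' T _ _ (by decide) h34) h02 h04 h03 h14 h13 h23
                ·
                  by_cases h24 : T.a 2 4 = 0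
                  ·
                    by_cases h34 : T.a 3 4 = 0
                    ·
                      obtain ⟨i, hi, j, hj, hij⟩ := T.connected {0, 1, 2, 3} ⟨0, by decide⟩ (by decide)
                      have hi' : i = 0 ∨ i = 1 ∨ i = 2 ∨ i = 3 := by
                        have : ∀ i : Fin 5, i ∈ ({0, 1, 2, 3} : Finset (Fin 5)) → i = 0 ∨ i = 1 ∨ i = 2 ∨ i = 3 := by decide
                        exact this i hi
                      have hj' : j = 4 := by
                        have : ∀ j : Fin 5, j ∉ ({0, 1, 2, 3} : Finset (Fin 5)) → j = 4 := by decide
                        exact this j hj
                      subst hj'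
                      rcases hi' with rfl | rfl | rfl | rfl
                      · exact (hij h04).elim
                      · exact (hij h14).elim
                      · exact (hij h24).elim
                      · exact (hij h34).elim
                    ·
                      exact pathL T h2 0 1 2 3 4 (by decide) (by decide) (by decide) (by decide) (by decide) (by decide) (by decide) (by decide) (by decide) (by decide) (P T _ _ (by decide) h01) (P T _ _ (by decide) h12) (P T _ _ (by decide) h23) (P T _ _ (by decide) h34) h02 h03 h04 h13 h14 h24
                  ·
                    by_cases h34 : T.a 3 4 = 0
                    ·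
                      exact forkL T h2 2 3 4 1 0 (by decide) (by decide) (by decide) (by decide) (by decide) (by decide) (by decide) (by decide) (by decide) (by decide) (P T _ _ (by decide) h23) (P T _ _ (by decide) h24) (P' T _ _ (by decide) h12) (P' T _ _ (by decide) h01) (Z T _ _ h02) h34 (Z T _ _ h13) (Z T _ _ h03) (Z T _ _ h14) (Z T _ _ h04)
                    ·
                      exact (notri T h2 2 3 4 (by decide) (by decide) (by decide) (P T _ _ (by decide) h23) (P T _ _ (by decide) h34) (P T _ _ (by decide) h24)).elim
              ·
                by_cases h23 : T.a 2 3 = 0
                ·
                  by_cases h24 : T.a 2 4 = 0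
                  ·
                    by_cases h34 : T.a 3 4 = 0
                    ·
                      obtain ⟨i, hi, j, hj, hij⟩ := T.connected {0, 1, 2, 4} ⟨0, by decide⟩ (by decide)
                      have hi' : i = 0 ∨ i = 1 ∨ i = 2 ∨ i = 4 := by
                        have : ∀ i : Fin 5, i ∈ ({0, 1, 2, 4} : Finset (Fin 5)) → i = 0 ∨ i = 1 ∨ i = 2 ∨ i = 4 := by decide
                        exact this i hi
                      have hj' : j = 3 := by
                        have : ∀ j : Fin 5, j ∉ ({0, 1, 2, 4} : Finset (Fin 5)) → j = 3 := by decide
                        exact this j hj
                      subst hj'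
                      rcases hi' with rfl | rfl | rfl | rfl
                      · exact (hij h03).elim
                      · exact (hij h13).elim
                      · exact (hij h23).elim
                      · exact (hij (Z T _ _ h34)).elim
                    ·
                      exact forkL T h2 1 0 2 4 3 (by decide) (by decide) (by decide) (by decide) (by decide) (by decide) (by decide) (by decide) (by decide) (by decide) (P' T _ _ (by decide) h01) (P T _ _ (by decide) h12) (P T _ _ (by decide) h14) (P' T _ _ (by decide) h34) h13 h02 h04 h03 h24 h23
                  ·
                    exact (notri T h2 1 2 4 (by decide) (by decide) (by decide) (P T _ _ (by decide) h12) (P T _ _ (by decide) h24) (P T _ _ (by decide) h14)).elim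
                ·
                  by_cases h24 : T.a 2 4 = 0
                  ·
                    by_cases h34 : T.a 3 4 = 0
                    ·
                      exact forkL T h2 1 0 4 2 3 (by decide) (by decide) (by decide) (by decide) (by decide) (by decide) (by decide) (by decide) (by decide) (by decide) (P' T _ _ (by decide) h01) (P T _ _ (by decide) h14) (P T _ _ (by decide) h12) (P T _ _ (by decide) h23) h13 h04 h02 h03 (Z T _ _ h24) (Z T _ _ h34)
                    ·
                      exact (nocyc4 T h2 1 2 3 4 (by decide) (by decide) (by decide) (by decide) (by decide) (by decide) (P T _ _ (by decide) h12) (P T _ _ (by decide) h23) (P T _ _ (by decide) h34) (P' T _ _ (by decide) h14)).elim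
                  ·
                    exact (notri T h2 1 2 4 (by decide) (by decide) (by decide) (P T _ _ (by decide) h12) (P T _ _ (by decide) h24) (P T _ _ (by decide) h14)).elim
            ·
              by_cases h14 : T.a 1 4 = 0
              ·
                by_cases h23 : T.a 2 3 = 0
                ·
                  by_cases h24 : T.a 2 4 = 0
                  ·
                    by_cases h34 : T.a 3 4 = 0
                    ·
                      obtain ⟨i, hi, j, hj, hij⟩ := T.connected {0, 1, 2, 3} ⟨0, by decide⟩ (by decide)
                      have hi' : i = 0 ∨ i = 1 ∨ i = 2 ∨ i = 3 := by
                        have : ∀ i : Fin 5, i ∈ ({0, 1, 2, 3} : Finset (Fin 5)) → i = 0 ∨ i = 1 ∨ i = 2 ∨ i = 3 := by decide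
                        exact this i hi
                      have hj' : j = 4 := by
                        have : ∀ j : Fin 5, j ∉ ({0, 1, 2, 3} : Finset (Fin 5)) → j = 4 := by decide
                        exact this j hj
                      subst hj'
                      rcases hi' with rfl | rfl | rfl | rfl
                      · exact (hij h04).elim
                      · exact (hij h14).elim
                      · exact (hij h24).elim
                      · exact (hij h34).elim
                    ·
                      exact forkL T h2 1 0 2 3 4 (by decide) (by decide) (by decide) (by decide) (by decide) (by decide) (by decide) (by decide) (by decide) (by decide) (P' T _ _ (by decide) h01) (P T _ _ (by decide) h12) (P T _ _ (by decide) h13) (P T _ _ (by decide) h34) h14 h02 h03 h04 h23 h24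
                  ·
                    by_cases h34 : T.a 3 4 = 0
                    ·
                      exact forkL T h2 1 0 3 2 4 (by decide) (by decide) (by decide) (by decide) (by decide) (by decide) (by decide) (by decide) (by decide) (by decide) (P' T _ _ (by decide) h01) (P T _ _ (by decide) h13) (P T _ _ (by decide) h12) (P T _ _ (by decide) h24) h14 h03 h02 h04 (Z T _ _ h23) h34
                    ·
                      exact (nocyc4 T h2 1 2 4 3 (by decide) (by decide) (by decide) (by decide) (by decide) (by decide) (P T _ _ (by decide) h12) (P T _ _ (by decide) h24) (P' T _ _ (by decide) h34) (P' T _ _ (by decide) h13)).elim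
                ·
                  exact (notri T h2 1 2 3 (by decide) (by decide) (by decide) (P T _ _ (by decide) h12) (P T _ _ (by decide) h23) (P T _ _ (by decide) h13)).elim
              ·
                by_cases h23 : T.a 2 3 = 0
                ·
                  by_cases h24 : T.a 2 4 = 0
                  ·
                    by_cases h34 : T.a 3 4 = 0
                    ·
                      exact starL T h2 1 0 2 3 4 (by decide) (by decide) (by decide) (by decide) (by decide) (by decide) (by decide) (by decide) (by decide) (by decide) (P' T _ _ (by decide) h01) (P T _ _ (by decide) h12) (P T _ _ (by decide) h13) (P T _ _ (by decide) h14) h02 h03 h04 h23 h24 h34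
                    ·
                      exact (notri T h2 1 3 4 (by decide) (by decide) (by decide) (P T _ _ (by decide) h13) (P T _ _ (by decide) h34) (P T _ _ (by decide) h14)).elim
                  ·
                    exact (notri T h2 1 2 4 (by decide) (by decide) (by decide) (P T _ _ (by decide) h12) (P T _ _ (by decide) h24) (P T _ _ (by decide) h14)).elim
                ·
                  exact (notri T h2 1 2 3 (by decide) (by decide) (by decide) (P T _ _ (by decide) h12) (P T _ _ (by decide) h23) (P T _ _ (by decide) h13)).elim
        ·
          by_cases h12 : T.a 1 2 = 0
          ·
            by_cases h13 : T.a 1 3 = 0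
            ·
              by_cases h14 : T.a 1 4 = 0
              ·
                by_cases h23 : T.a 2 3 = 0
                ·
                  by_cases h24 : T.a 2 4 = 0
                  ·
                    by_cases h34 : T.a 3 4 = 0
                    ·
                      obtain ⟨i, hi, j, hj, hij⟩ := T.connected {0, 1, 4} ⟨0, by decide⟩ (by decide)
                      have hi' : i = 0 ∨ i = 1 ∨ i = 4 := by
                        have : ∀ i : Fin 5, i ∈ ({0, 1, 4} : Finset (Fin 5)) → i = 0 ∨ i = 1 ∨ i = 4 := by decide
                        exact this i hi
                      have hj' : j = 2 ∨ j = 3 := by
                        have : ∀ j : Fin 5, j ∉ ({0, 1, 4} : Finset (Fin 5)) → j = 2 ∨ j = 3 := by decide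
                        exact this j hj
                      rcases hi' with rfl | rfl | rfl <;> rcases hj' with rfl | rfl
                      · exact (hij h02).elim
                      · exact (hij h03).elim
                      · exact (hij h12).elim
                      · exact (hij h13).elim
                      · exact (hij (Z T _ _ h24)).elim
                      · exact (hij (Z T _ _ h34)).elim
                    ·
                      obtain ⟨i, hi, j, hj, hij⟩ := T.connected {0, 1, 3, 4} ⟨0, by decide⟩ (by decide)
                      have hi' : i = 0 ∨ i = 1 ∨ i = 3 ∨ i = 4 := by
                        have : ∀ i : Fin 5, i ∈ ({0, 1, 3, 4} : Finset (Fin 5)) → i = 0 ∨ i = 1 ∨ i = 3 ∨ i = 4 := by decide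
                        exact this i hi
                      have hj' : j = 2 := by
                        have : ∀ j : Fin 5, j ∉ ({0, 1, 3, 4} : Finset (Fin 5)) → j = 2 := by decide
                        exact this j hj
                      subst hj'
                      rcases hi' with rfl | rfl | rfl | rfl
                      · exact (hij h02).elim
                      · exact (hij h12).elim
                      · exact (hij (Z T _ _ h23)).elim
                      · exact (hij (Z T _ _ h24)).elim
                  ·
                    by_cases h34 : T.a 3 4 = 0
                    ·
                      obtain ⟨i, hi, j, hj, hij⟩ := T.connected {0, 1, 2, 4} ⟨0, by decide⟩ (by decide)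
                      have hi' : i = 0 ∨ i = 1 ∨ i = 2 ∨ i = 4 := by
                        have : ∀ i : Fin 5, i ∈ ({0, 1, 2, 4} : Finset (Fin 5)) → i = 0 ∨ i = 1 ∨ i = 2 ∨ i = 4 := by decide
                        exact this i hi
                      have hj' : j = 3 := by
                        have : ∀ j : Fin 5, j ∉ ({0, 1, 2, 4} : Finset (Fin 5)) → j = 3 := by decide
                        exact this j hj
                      subst hj'
                      rcases hi' with rfl | rfl | rfl | rfl
                      · exact (hij h03).elim
                      · exact (hij h13).elim
                      · exact (hij h23).elim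
                      · exact (hij (Z T _ _ h34)).elim
                    ·
                      exact forkL T h2 4 2 3 0 1 (by decide) (by decide) (by decide) (by decide) (by decide) (by decide) (by decide) (by decide) (by decide) (by decide) (P' T _ _ (by decide) h24) (P' T _ _ (by decide) h34) (P' T _ _ (by decide) h04) (P T _ _ (by decide) h01) (Z T _ _ h14) h23 (Z T _ _ h02) (Z T _ _ h12) (Z T _ _ h03) (Z T _ _ h13)
                ·
                  by_cases h24 : T.a 2 4 = 0
                  ·
                    by_cases h34 : T.a 3 4 = 0
                    ·
                      obtain ⟨i, hi, j, hj, hij⟩ := T.connected {0, 1, 4} ⟨0, by decide⟩ (by decide)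
                      have hi' : i = 0 ∨ i = 1 ∨ i = 4 := by
                        have : ∀ i : Fin 5, i ∈ ({0, 1, 4} : Finset (Fin 5)) → i = 0 ∨ i = 1 ∨ i = 4 := by decide
                        exact this i hi
                      have hj' : j = 2 ∨ j = 3 := by
                        have : ∀ j : Fin 5, j ∉ ({0, 1, 4} : Finset (Fin 5)) → j = 2 ∨ j = 3 := by decide
                        exact this j hj
                      rcases hi' with rfl | rfl | rfl <;> rcases hj' with rfl | rfl
                      · exact (hij h02).elim
                      · exact (hij h03).elim
                      · exact (hij h12).elim
                      · exact (hij h13).elim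
                      · exact (hij (Z T _ _ h24)).elim
                      · exact (hij (Z T _ _ h34)).elim
                    ·
                      exact pathL T h2 1 0 4 3 2 (by decide) (by decide) (by decide) (by decide) (by decide) (by decide) (by decide) (by decide) (by decide) (by decide) (P' T _ _ (by decide) h01) (P T _ _ (by decide) h04) (P' T _ _ (by decide) h34) (P' T _ _ (by decide) h23) h14 h13 h12 h03 h02 (Z T _ _ h24)
                  ·
                    by_cases h34 : T.a 3 4 = 0
                    ·
                      exact pathL T h2 1 0 4 2 3 (by decide) (by decide) (by decide) (by decide) (by decide) (by decide) (by decide) (by decide) (by decide) (by decide) (P' T _ _ (by decide) h01) (P T _ _ (by decide) h04) (P' T _ _ (by decide) h24) (P T _ _ (by decide) h23) h14 h12 h13 h02 h03 (Z T _ _ h34)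
                    ·
                      exact (notri T h2 2 3 4 (by decide) (by decide) (by decide) (P T _ _ (by decide) h23) (P T _ _ (by decide) h34) (P T _ _ (by decide) h24)).elim
              ·
                exact (notri T h2 0 1 4 (by decide) (by decide) (by decide) (P T _ _ (by decide) h01) (P T _ _ (by decide) h14) (P T _ _ (by decide) h04)).elim
            ·
              by_cases h14 : T.a 1 4 = 0
              ·
                by_cases h23 : T.a 2 3 = 0
                ·
                  by_cases h24 : T.a 2 4 = 0
                  ·
                    by_cases h34 : T.a 3 4 = 0
                    ·
                      obtain ⟨i, hi, j, hj, hij⟩ := T.connected {0, 1, 3, 4} ⟨0, by decide⟩ (by decide)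
                      have hi' : i = 0 ∨ i = 1 ∨ i = 3 ∨ i = 4 := by
                        have : ∀ i : Fin 5, i ∈ ({0, 1, 3, 4} : Finset (Fin 5)) → i = 0 ∨ i = 1 ∨ i = 3 ∨ i = 4 := by decide
                        exact this i hi
                      have hj' : j = 2 := by
                        have : ∀ j : Fin 5, j ∉ ({0, 1, 3, 4} : Finset (Fin 5)) → j = 2 := by decide
                        exact this j hj
                      subst hj'
                      rcases hi' with rfl | rfl | rfl | rfl
                      · exact (hij h02).elim
                      · exact (hij h12).elim
                      · exact (hij (Z T _ _ h23)).elim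
                      · exact (hij (Z T _ _ h24)).elim
                    ·
                      exact (nocyc4 T h2 0 1 3 4 (by decide) (by decide) (by decide) (by decide) (by decide) (by decide) (P T _ _ (by decide) h01) (P T _ _ (by decide) h13) (P T _ _ (by decide) h34) (P' T _ _ (by decide) h04)).elim
                  ·
                    by_cases h34 : T.a 3 4 = 0
                    ·
                      exact pathL T h2 2 4 0 1 3 (by decide) (by decide) (by decide) (by decide) (by decide) (by decide) (by decide) (by decide) (by decide) (by decide) (P T _ _ (by decide) h24) (P' T _ _ (by decide) h04) (P T _ _ (by decide) h01) (P T _ _ (by decide) h13) (Z T _ _ h02) (Z T _ _ h12) h23 (Z T _ _ h14) (Z T _ _ h34) h03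
                    ·
                      exact (nocyc4 T h2 0 1 3 4 (by decide) (by decide) (by decide) (by decide) (by decide) (by decide) (P T _ _ (by decide) h01) (P T _ _ (by decide) h13) (P T _ _ (by decide) h34) (P' T _ _ (by decide) h04)).elim
                ·
                  by_cases h24 : T.a 2 4 = 0
                  ·
                    by_cases h34 : T.a 3 4 = 0
                    ·
                      exact pathL T h2 2 3 1 0 4 (by decide) (by decide) (by decide) (by decide) (by decide) (by decide) (by decide) (by decide) (by decide) (by decide) (P T _ _ (by decide) h23) (P' T _ _ (by decide) h13) (P' T _ _ (by decide) h01) (P T _ _ (by decide) h04) (Z T _ _ h12) (Z T _ _ h02) h24 (Z T _ _ h03) h34 h14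
                    ·
                      exact (nocyc4 T h2 0 1 3 4 (by decide) (by decide) (by decide) (by decide) (by decide) (by decide) (P T _ _ (by decide) h01) (P T _ _ (by decide) h13) (P T _ _ (by decide) h34) (P' T _ _ (by decide) h04)).elim
                  ·
                    by_cases h34 : T.a 3 4 = 0
                    ·
                      exact cycleL T h2 0 1 3 2 4 (by decide) (by decide) (by decide) (by decide) (by decide) (by decide) (by decide) (by decide) (by decide) (by decide) (P T _ _ (by decide) h01) (P T _ _ (by decide) h13) (P' T _ _ (by decide) h23) (P T _ _ (by decide) h24) (P T _ _ (by decide) h04) h03 h02 h12 h14 h34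
                    ·
                      exact (notri T h2 2 3 4 (by decide) (by decide) (by decide) (P T _ _ (by decide) h23) (P T _ _ (by decide) h34) (P T _ _ (by decide) h24)).elim
              ·
                exact (notri T h2 0 1 4 (by decide) (by decide) (by decide) (P T _ _ (by decide) h01) (P T _ _ (by decide) h14) (P T _ _ (by decide) h04)).elim
          ·
            by_cases h13 : T.a 1 3 = 0
            ·
              by_cases h14 : T.a 1 4 = 0
              ·
                by_cases h23 : T.a 2 3 = 0
                ·
                  by_cases h24 : T.a 2 4 = 0
                  ·
                    by_cases h34 : T.a 3 4 = 0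
                    ·
                      obtain ⟨i, hi, j, hj, hij⟩ := T.connected {0, 1, 2, 4} ⟨0, by decide⟩ (by decide)
                      have hi' : i = 0 ∨ i = 1 ∨ i = 2 ∨ i = 4 := by
                        have : ∀ i : Fin 5, i ∈ ({0, 1, 2, 4} : Finset (Fin 5)) → i = 0 ∨ i = 1 ∨ i = 2 ∨ i = 4 := by decide
                        exact this i hi
                      have hj' : j = 3 := by
                        have : ∀ j : Fin 5, j ∉ ({0, 1, 2, 4} : Finset (Fin 5)) → j = 3 := by decide
                        exact this j hj
                      subst hj'
                      rcases hi' with rfl | rfl | rfl | rfl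
                      · exact (hij h03).elim
                      · exact (hij h13).elim
                      · exact (hij h23).elim
                      · exact (hij (Z T _ _ h34)).elim
                    ·
                      exact pathL T h2 2 1 0 4 3 (by decide) (by decide) (by decide) (by decide) (by decide) (by decide) (by decide) (by decide) (by decide) (by decide) (P' T _ _ (by decide) h12) (P' T _ _ (by decide) h01) (P T _ _ (by decide) h04) (P' T _ _ (by decide) h34) (Z T _ _ h02) h24 h23 h14 h13 h03
                  ·
                    exact (nocyc4 T h2 0 1 2 4 (by decide) (by decide) (by decide) (by decide) (by decide) (by decide) (P T _ _ (by decide) h01) (P T _ _ (by decide) h12) (P T _ _ (by decide) h24) (P' T _ _ (by decide) h04)).elim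
                ·
                  by_cases h24 : T.a 2 4 = 0
                  ·
                    by_cases h34 : T.a 3 4 = 0
                    ·
                      exact pathL T h2 3 2 1 0 4 (by decide) (by decide) (by decide) (by decide) (by decide) (by decide) (by decide) (by decide) (by decide) (by decide) (P' T _ _ (by decide) h23) (P' T _ _ (by decide) h12) (P' T _ _ (by decide) h01) (P T _ _ (by decide) h04) (Z T _ _ h13) (Z T _ _ h03) h34 (Z T _ _ h02) h24 h14
                    ·
                      exact cycleL T h2 0 1 2 3 4 (by decide) (by decide) (by decide) (by decide) (by decide) (by decide) (by decide) (by decide) (by decide) (by decide) (P T _ _ (by decide) h01) (P T _ _ (by decide) h12) (P T _ _ (by decide) h23) (P T _ _ (by decide) h34) (P T _ _ (by decide) h04) h02 h03 h13 h14 h24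
                  ·
                    exact (nocyc4 T h2 0 1 2 4 (by decide) (by decide) (by decide) (by decide) (by decide) (by decide) (P T _ _ (by decide) h01) (P T _ _ (by decide) h12) (P T _ _ (by decide) h24) (P' T _ _ (by decide) h04)).elim
              ·
                exact (notri T h2 0 1 4 (by decide) (by decide) (by decide) (P T _ _ (by decide) h01) (P T _ _ (by decide) h14) (P T _ _ (by decide) h04)).elim
            ·
              by_cases h14 : T.a 1 4 = 0
              ·
                by_cases h23 : T.a 2 3 = 0
                ·
                  by_cases h24 : T.a 2 4 = 0
                  ·
                    by_cases h34 : T.a 3 4 = 0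
                    ·
                      exact forkL T h2 1 2 3 0 4 (by decide) (by decide) (by decide) (by decide) (by decide) (by decide) (by decide) (by decide) (by decide) (by decide) (P T _ _ (by decide) h12) (P T _ _ (by decide) h13) (P' T _ _ (by decide) h01) (P T _ _ (by decide) h04) h14 h23 (Z T _ _ h02) h24 (Z T _ _ h03) h34
                    ·
                      exact (nocyc4 T h2 0 1 3 4 (by decide) (by decide) (by decide) (by decide) (by decide) (by decide) (P T _ _ (by decide) h01) (P T _ _ (by decide) h13) (P T _ _ (by decide) h34) (P' T _ _ (by decide) h04)).elim
                  ·
                    exact (nocyc4 T h2 0 1 2 4 (by decide) (by decide) (by decide) (by decide) (by decide) (by decide) (P T _ _ (by decide) h01) (P T _ _ (by decide) h12) (P T _ _ (by decide) h24) (P' T _ _ (by decide) h04)).elim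
                ·
                  exact (notri T h2 1 2 3 (by decide) (by decide) (by decide) (P T _ _ (by decide) h12) (P T _ _ (by decide) h23) (P T _ _ (by decide) h13)).elim
              ·
                exact (notri T h2 0 1 4 (by decide) (by decide) (by decide) (P T _ _ (by decide) h01) (P T _ _ (by decide) h14) (P T _ _ (by decide) h04)).elim
      ·
        by_cases h04 : T.a 0 4 = 0
        ·
          by_cases h12 : T.a 1 2 = 0
          ·
            by_cases h13 : T.a 1 3 = 0
            ·
              by_cases h14 : T.a 1 4 = 0
              ·
                by_cases h23 : T.a 2 3 = 0
                ·
                  by_cases h24 : T.a 2 4 = 0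
                  ·
                    by_cases h34 : T.a 3 4 = 0
                    ·
                      obtain ⟨i, hi, j, hj, hij⟩ := T.connected {0, 1, 3} ⟨0, by decide⟩ (by decide)
                      have hi' : i = 0 ∨ i = 1 ∨ i = 3 := by
                        have : ∀ i : Fin 5, i ∈ ({0, 1, 3} : Finset (Fin 5)) → i = 0 ∨ i = 1 ∨ i = 3 := by decide
                        exact this i hi
                      have hj' : j = 2 ∨ j = 4 := by
                        have : ∀ j : Fin 5, j ∉ ({0, 1, 3} : Finset (Fin 5)) → j = 2 ∨ j = 4 := by decide
                        exact this j hj
                      rcases hi' with rfl | rfl | rfl <;> rcases hj' with rfl | rfl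
                      · exact (hij h02).elim
                      · exact (hij h04).elim
                      · exact (hij h12).elim
                      · exact (hij h14).elim
                      · exact (hij (Z T _ _ h23)).elim
                      · exact (hij h34).elim
                    ·
                      obtain ⟨i, hi, j, hj, hij⟩ := T.connected {0, 1, 3, 4} ⟨0, by decide⟩ (by decide)
                      have hi' : i = 0 ∨ i = 1 ∨ i = 3 ∨ i = 4 := by
                        have : ∀ i : Fin 5, i ∈ ({0, 1, 3, 4} : Finset (Fin 5)) → i = 0 ∨ i = 1 ∨ i = 3 ∨ i = 4 := by decide
                        exact this i hi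
                      have hj' : j = 2 := by
                        have : ∀ j : Fin 5, j ∉ ({0, 1, 3, 4} : Finset (Fin 5)) → j = 2 := by decide
                        exact this j hj
                      subst hj'
                      rcases hi' with rfl | rfl | rfl | rfl
                      · exact (hij h02).elim
                      · exact (hij h12).elim
                      · exact (hij (Z T _ _ h23)).elim
                      · exact (hij (Z T _ _ h24)).elim
                  ·
                    by_cases h34 : T.a 3 4 = 0
                    ·
                      obtain ⟨i, hi, j, hj, hij⟩ := T.connected {0, 1, 3} ⟨0, by decide⟩ (by decide)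
                      have hi' : i = 0 ∨ i = 1 ∨ i = 3 := by
                        have : ∀ i : Fin 5, i ∈ ({0, 1, 3} : Finset (Fin 5)) → i = 0 ∨ i = 1 ∨ i = 3 := by decide
                        exact this i hi
                      have hj' : j = 2 ∨ j = 4 := by
                        have : ∀ j : Fin 5, j ∉ ({0, 1, 3} : Finset (Fin 5)) → j = 2 ∨ j = 4 := by decide
                        exact this j hj
                      rcases hi' with rfl | rfl | rfl <;> rcases hj' with rfl | rfl
                      · exact (hij h02).elim
                      · exact (hij h04).elim
                      · exact (hij h12).elim
                      · exact (hij h14).elim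
                      · exact (hij (Z T _ _ h23)).elim
                      · exact (hij h34).elim
                    ·
                      exact pathL T h2 1 0 3 4 2 (by decide) (by decide) (by decide) (by decide) (by decide) (by decide) (by decide) (by decide) (by decide) (by decide) (P' T _ _ (by decide) h01) (P T _ _ (by decide) h03) (P T _ _ (by decide) h34) (P' T _ _ (by decide) h24) h13 h14 h12 h04 h02 (Z T _ _ h23)
                ·
                  by_cases h24 : T.a 2 4 = 0
                  ·
                    by_cases h34 : T.a 3 4 = 0
                    ·
                      obtain ⟨i, hi, j, hj, hij⟩ := T.connected {0, 1, 2, 3} ⟨0, by decide⟩ (by decide)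
                      have hi' : i = 0 ∨ i = 1 ∨ i = 2 ∨ i = 3 := by
                        have : ∀ i : Fin 5, i ∈ ({0, 1, 2, 3} : Finset (Fin 5)) → i = 0 ∨ i = 1 ∨ i = 2 ∨ i = 3 := by decide
                        exact this i hi
                      have hj' : j = 4 := by
                        have : ∀ j : Fin 5, j ∉ ({0, 1, 2, 3} : Finset (Fin 5)) → j = 4 := by decide
                        exact this j hj
                      subst hj'
                      rcases hi' with rfl | rfl | rfl | rfl
                      · exact (hij h04).elim
                      · exact (hij h14).elim
                      · exact (hij h24).elim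
                      · exact (hij h34).elim
                    ·
                      exact forkL T h2 3 2 4 0 1 (by decide) (by decide) (by decide) (by decide) (by decide) (by decide) (by decide) (by decide) (by decide) (by decide) (P' T _ _ (by decide) h23) (P T _ _ (by decide) h34) (P' T _ _ (by decide) h03) (P T _ _ (by decide) h01) (Z T _ _ h13) h24 (Z T _ _ h02) (Z T _ _ h12) (Z T _ _ h04) (Z T _ _ h14)
                  ·
                    by_cases h34 : T.a 3 4 = 0
                    ·
                      exact pathL T h2 1 0 3 2 4 (by decide) (by decide) (by decide) (by decide) (by decide) (by decide) (by decide) (by decide) (by decide) (by decide) (P' T _ _ (by decide) h01) (P T _ _ (by decide) h03) (P' T _ _ (by decide) h23) (P T _ _ (by decide) h24) h13 h12 h14 h02 h04 h34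
                    ·
                      exact (notri T h2 2 3 4 (by decide) (by decide) (by decide) (P T _ _ (by decide) h23) (P T _ _ (by decide) h34) (P T _ _ (by decide) h24)).elim
              ·
                by_cases h23 : T.a 2 3 = 0
                ·
                  by_cases h24 : T.a 2 4 = 0
                  ·
                    by_cases h34 : T.a 3 4 = 0
                    ·
                      obtain ⟨i, hi, j, hj, hij⟩ := T.connected {0, 1, 3, 4} ⟨0, by decide⟩ (by decide)
                      have hi' : i = 0 ∨ i = 1 ∨ i = 3 ∨ i = 4 := by
                        have : ∀ i : Fin 5, i ∈ ({0, 1, 3, 4} : Finset (Fin 5)) → i = 0 ∨ i = 1 ∨ i = 3 ∨ i = 4 := by decide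
                        exact this i hi
                      have hj' : j = 2 := by
                        have : ∀ j : Fin 5, j ∉ ({0, 1, 3, 4} : Finset (Fin 5)) → j = 2 := by decide
                        exact this j hj
                      subst hj'
                      rcases hi' with rfl | rfl | rfl | rfl
                      · exact (hij h02).elim
                      · exact (hij h12).elim
                      · exact (hij (Z T _ _ h23)).elim
                      · exact (hij (Z T _ _ h24)).elim
                    ·
                      exact (nocyc4 T h2 0 1 4 3 (by decide) (by decide) (by decide) (by decide) (by decide) (by decide) (P T _ _ (by decide) h01) (P T _ _ (by decide) h14) (P' T _ _ (by decide) h34) (P' T _ _ (by decide) h03)).elim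
                  ·
                    by_cases h34 : T.a 3 4 = 0
                    ·
                      exact pathL T h2 2 4 1 0 3 (by decide) (by decide) (by decide) (by decide) (by decide) (by decide) (by decide) (by decide) (by decide) (by decide) (P T _ _ (by decide) h24) (P' T _ _ (by decide) h14) (P' T _ _ (by decide) h01) (P T _ _ (by decide) h03) (Z T _ _ h12) (Z T _ _ h02) h23 (Z T _ _ h04) (Z T _ _ h34) h13
                    ·
                      exact (nocyc4 T h2 0 1 4 3 (by decide) (by decide) (by decide) (by decide) (by decide) (by decide) (P T _ _ (by decide) h01) (P T _ _ (by decide) h14) (P' T _ _ (by decide) h34) (P' T _ _ (by decide) h03)).elim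
                ·
                  by_cases h24 : T.a 2 4 = 0
                  ·
                    by_cases h34 : T.a 3 4 = 0
                    ·
                      exact pathL T h2 2 3 0 1 4 (by decide) (by decide) (by decide) (by decide) (by decide) (by decide) (by decide) (by decide) (by decide) (by decide) (P T _ _ (by decide) h23) (P' T _ _ (by decide) h03) (P T _ _ (by decide) h01) (P T _ _ (by decide) h14) (Z T _ _ h02) (Z T _ _ h12) h24 (Z T _ _ h13) h34 h04
                    ·
                      exact (nocyc4 T h2 0 1 4 3 (by decide) (by decide) (by decide) (by decide) (by decide) (by decide) (P T _ _ (by decide) h01) (P T _ _ (by decide) h14) (P' T _ _ (by decide) h34) (P' T _ _ (by decide) h03)).elim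
                  ·
                    by_cases h34 : T.a 3 4 = 0
                    ·
                      exact cycleL T h2 0 1 4 2 3 (by decide) (by decide) (by decide) (by decide) (by decide) (by decide) (by decide) (by decide) (by decide) (by decide) (P T _ _ (by decide) h01) (P T _ _ (by decide) h14) (P' T _ _ (by decide) h24) (P T _ _ (by decide) h23) (P T _ _ (by decide) h03) h04 h02 h12 h13 (Z T _ _ h34)
                    ·
                      exact (notri T h2 2 3 4 (by decide) (by decide) (by decide) (P T _ _ (by decide) h23) (P T _ _ (by decide) h34) (P T _ _ (by decide) h24)).elim
            ·
              exact (notri T h2 0 1 3 (by decide) (by decide) (by decide) (P T _ _ (by decide) h01) (P T _ _ (by decide) h13) (P T _ _ (by decide) h03)).elim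
          ·
            by_cases h13 : T.a 1 3 = 0
            ·
              by_cases h14 : T.a 1 4 = 0
              ·
                by_cases h23 : T.a 2 3 = 0
                ·
                  by_cases h24 : T.a 2 4 = 0
                  ·
                    by_cases h34 : T.a 3 4 = 0
                    ·
                      obtain ⟨i, hi, j, hj, hij⟩ := T.connected {0, 1, 2, 3} ⟨0, by decide⟩ (by decide)
                      have hi' : i = 0 ∨ i = 1 ∨ i = 2 ∨ i = 3 := by
                        have : ∀ i : Fin 5, i ∈ ({0, 1, 2, 3} : Finset (Fin 5)) → i = 0 ∨ i = 1 ∨ i = 2 ∨ i = 3 := by decide
                        exact this i hi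
                      have hj' : j = 4 := by
                        have : ∀ j : Fin 5, j ∉ ({0, 1, 2, 3} : Finset (Fin 5)) → j = 4 := by decide
                        exact this j hj
                      subst hj'
                      rcases hi' with rfl | rfl | rfl | rfl
                      · exact (hij h04).elim
                      · exact (hij h14).elim
                      · exact (hij h24).elim
                      · exact (hij h34).elim
                    ·
                      exact pathL T h2 2 1 0 3 4 (by decide) (by decide) (by decide) (by decide) (by decide) (by decide) (by decide) (by decide) (by decide) (by decide) (P' T _ _ (by decide) h12) (P' T _ _ (by decide) h01) (P T _ _ (by decide) h03) (P T _ _ (by decide) h34) (Z T _ _ h02) h23 h24 h13 h14 h04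
                  ·
                    by_cases h34 : T.a 3 4 = 0
                    ·
                      exact pathL T h2 3 0 1 2 4 (by decide) (by decide) (by decide) (by decide) (by decide) (by decide) (by decide) (by decide) (by decide) (by decide) (P' T _ _ (by decide) h03) (P T _ _ (by decide) h01) (P T _ _ (by decide) h12) (P T _ _ (by decide) h24) (Z T _ _ h13) (Z T _ _ h23) h34 h02 h04 h14
                    ·
                      exact cycleL T h2 0 1 2 4 3 (by decide) (by decide) (by decide) (by decide) (by decide) (by decide) (by decide) (by decide) (by decide) (by decide) (P T _ _ (by decide) h01) (P T _ _ (by decide) h12) (P T _ _ (by decide) h24) (P' T _ _ (by decide) h34) (P T _ _ (by decide) h03) h02 h04 h14 h13 h23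
                ·
                  exact (nocyc4 T h2 0 1 2 3 (by decide) (by decide) (by decide) (by decide) (by decide) (by decide) (P T _ _ (by decide) h01) (P T _ _ (by decide) h12) (P T _ _ (by decide) h23) (P' T _ _ (by decide) h03)).elim
              ·
                by_cases h23 : T.a 2 3 = 0
                ·
                  by_cases h24 : T.a 2 4 = 0
                  ·
                    by_cases h34 : T.a 3 4 = 0
                    ·
                      exact forkL T h2 1 2 4 0 3 (by decide) (by decide) (by decide) (by decide) (by decide) (by decide) (by decide) (by decide) (by decide) (by decide) (P T _ _ (by decide) h12) (P T _ _ (by decide) h14) (P' T _ _ (by decide) h01) (P T _ _ (by decide) h03) h13 h24 (Z T _ _ h02) h23 (Z T _ _ h04) (Z T _ _ h34)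
                    ·
                      exact (nocyc4 T h2 0 1 4 3 (by decide) (by decide) (by decide) (by decide) (by decide) (by decide) (P T _ _ (by decide) h01) (P T _ _ (by decide) h14) (P' T _ _ (by decide) h34) (P' T _ _ (by decide) h03)).elim
                  ·
                    exact (notri T h2 1 2 4 (by decide) (by decide) (by decide) (P T _ _ (by decide) h12) (P T _ _ (by decide) h24) (P T _ _ (by decide) h14)).elim
                ·
                  exact (nocyc4 T h2 0 1 2 3 (by decide) (by decide) (by decide) (by decide) (by decide) (by decide) (P T _ _ (by decide) h01) (P T _ _ (by decide) h12) (P T _ _ (by decide) h23) (P' T _ _ (by decide) h03)).elim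
            ·
              exact (notri T h2 0 1 3 (by decide) (by decide) (by decide) (P T _ _ (by decide) h01) (P T _ _ (by decide) h13) (P T _ _ (by decide) h03)).elim
        ·
          by_cases h12 : T.a 1 2 = 0
          ·
            by_cases h13 : T.a 1 3 = 0
            ·
              by_cases h14 : T.a 1 4 = 0
              ·
                by_cases h23 : T.a 2 3 = 0
                ·
                  by_cases h24 : T.a 2 4 = 0
                  ·
                    by_cases h34 : T.a 3 4 = 0
                    ·
                      obtain ⟨i, hi, j, hj, hij⟩ := T.connected {0, 1, 3, 4} ⟨0, by decide⟩ (by decide)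
                      have hi' : i = 0 ∨ i = 1 ∨ i = 3 ∨ i = 4 := by
                        have : ∀ i : Fin 5, i ∈ ({0, 1, 3, 4} : Finset (Fin 5)) → i = 0 ∨ i = 1 ∨ i = 3 ∨ i = 4 := by decide
                        exact this i hi
                      have hj' : j = 2 := by
                        have : ∀ j : Fin 5, j ∉ ({0, 1, 3, 4} : Finset (Fin 5)) → j = 2 := by decide
                        exact this j hj
                      subst hj'
                      rcases hi' with rfl | rfl | rfl | rfl
                      · exact (hij h02).elim
                      · exact (hij h12).elim
                      · exact (hij (Z T _ _ h23)).elim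
                      · exact (hij (Z T _ _ h24)).elim
                    ·
                      exact (notri T h2 0 3 4 (by decide) (by decide) (by decide) (P T _ _ (by decide) h03) (P T _ _ (by decide) h34) (P T _ _ (by decide) h04)).elim
                  ·
                    by_cases h34 : T.a 3 4 = 0
                    ·
                      exact forkL T h2 0 1 3 4 2 (by decide) (by decide) (by decide) (by decide) (by decide) (by decide) (by decide) (by decide) (by decide) (by decide) (P T _ _ (by decide) h01) (P T _ _ (by decide) h03) (P T _ _ (by decide) h04) (P' T _ _ (by decide) h24) h02 h13 h14 h12 h34 (Z T _ _ h23)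
                    ·
                      exact (notri T h2 0 3 4 (by decide) (by decide) (by decide) (P T _ _ (by decide) h03) (P T _ _ (by decide) h34) (P T _ _ (by decide) h04)).elim
                ·
                  by_cases h24 : T.a 2 4 = 0
                  ·
                    by_cases h34 : T.a 3 4 = 0
                    ·
                      exact forkL T h2 0 1 4 3 2 (by decide) (by decide) (by decide) (by decide) (by decide) (by decide) (by decide) (by decide) (by decide) (by decide) (P T _ _ (by decide) h01) (P T _ _ (by decide) h04) (P T _ _ (by decide) h03) (P' T _ _ (by decide) h23) h02 h14 h13 h12 (Z T _ _ h34) (Z T _ _ h24)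
                    ·
                      exact (notri T h2 0 3 4 (by decide) (by decide) (by decide) (P T _ _ (by decide) h03) (P T _ _ (by decide) h34) (P T _ _ (by decide) h04)).elim
                  ·
                    exact (nocyc4 T h2 0 3 2 4 (by decide) (by decide) (by decide) (by decide) (by decide) (by decide) (P T _ _ (by decide) h03) (P' T _ _ (by decide) h23) (P T _ _ (by decide) h24) (P' T _ _ (by decide) h04)).elim
              ·
                exact (notri T h2 0 1 4 (by decide) (by decide) (by decide) (P T _ _ (by decide) h01) (P T _ _ (by decide) h14) (P T _ _ (by decide) h04)).elim
            ·
              exact (notri T h2 0 1 3 (by decide) (by decide) (by decide) (P T _ _ (by decide) h01) (P T _ _ (by decide) h13) (P T _ _ (by decide) h03)).elim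
          ·
            by_cases h13 : T.a 1 3 = 0
            ·
              by_cases h14 : T.a 1 4 = 0
              ·
                by_cases h23 : T.a 2 3 = 0
                ·
                  by_cases h24 : T.a 2 4 = 0
                  ·
                    by_cases h34 : T.a 3 4 = 0
                    ·
                      exact forkL T h2 0 3 4 1 2 (by decide) (by decide) (by decide) (by decide) (by decide) (by decide) (by decide) (by decide) (by decide) (by decide) (P T _ _ (by decide) h03) (P T _ _ (by decide) h04) (P T _ _ (by decide) h01) (P T _ _ (by decide) h12) h02 h34 (Z T _ _ h13) (Z T _ _ h23) (Z T _ _ h14) (Z T _ _ h24)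
                    ·
                      exact (notri T h2 0 3 4 (by decide) (by decide) (by decide) (P T _ _ (by decide) h03) (P T _ _ (by decide) h34) (P T _ _ (by decide) h04)).elim
                  ·
                    exact (nocyc4 T h2 0 1 2 4 (by decide) (by decide) (by decide) (by decide) (by decide) (by decide) (P T _ _ (by decide) h01) (P T _ _ (by decide) h12) (P T _ _ (by decide) h24) (P' T _ _ (by decide) h04)).elim
                ·
                  exact (nocyc4 T h2 0 1 2 3 (by decide) (by decide) (by decide) (by decide) (by decide) (by decide) (P T _ _ (by decide) h01) (P T _ _ (by decide) h12) (P T _ _ (by decide) h23) (P' T _ _ (by decide) h03)).elim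
              ·
                exact (notri T h2 0 1 4 (by decide) (by decide) (by decide) (P T _ _ (by decide) h01) (P T _ _ (by decide) h14) (P T _ _ (by decide) h04)).elim
            ·
              exact (notri T h2 0 1 3 (by decide) (by decide) (by decide) (P T _ _ (by decide) h01) (P T _ _ (by decide) h13) (P T _ _ (by decide) h03)).elim
    ·
      by_cases h03 : T.a 0 3 = 0
      ·
        by_cases h04 : T.a 0 4 = 0
        ·
          by_cases h12 : T.a 1 2 = 0
          ·
            by_cases h13 : T.a 1 3 = 0
            ·
              by_cases h14 : T.a 1 4 = 0
              ·
                by_cases h23 : T.a 2 3 = 0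
                ·
                  by_cases h24 : T.a 2 4 = 0
                  ·
                    by_cases h34 : T.a 3 4 = 0
                    ·
                      obtain ⟨i, hi, j, hj, hij⟩ := T.connected {0, 1, 2} ⟨0, by decide⟩ (by decide)
                      have hi' : i = 0 ∨ i = 1 ∨ i = 2 := by
                        have : ∀ i : Fin 5, i ∈ ({0, 1, 2} : Finset (Fin 5)) → i = 0 ∨ i = 1 ∨ i = 2 := by decide
                        exact this i hi
                      have hj' : j = 3 ∨ j = 4 := by
                        have : ∀ j : Fin 5, j ∉ ({0, 1, 2} : Finset (Fin 5)) → j = 3 ∨ j = 4 := by decide
                        exact this j hj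
                      rcases hi' with rfl | rfl | rfl <;> rcases hj' with rfl | rfl
                      · exact (hij h03).elim
                      · exact (hij h04).elim
                      · exact (hij h13).elim
                      · exact (hij h14).elim
                      · exact (hij h23).elim
                      · exact (hij h24).elim
                    ·
                      obtain ⟨i, hi, j, hj, hij⟩ := T.connected {0, 1, 2} ⟨0, by decide⟩ (by decide)
                      have hi' : i = 0 ∨ i = 1 ∨ i = 2 := by
                        have : ∀ i : Fin 5, i ∈ ({0, 1, 2} : Finset (Fin 5)) → i = 0 ∨ i = 1 ∨ i = 2 := by decide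
                        exact this i hi
                      have hj' : j = 3 ∨ j = 4 := by
                        have : ∀ j : Fin 5, j ∉ ({0, 1, 2} : Finset (Fin 5)) → j = 3 ∨ j = 4 := by decide
                        exact this j hj
                      rcases hi' with rfl | rfl | rfl <;> rcases hj' with rfl | rfl
                      · exact (hij h03).elim
                      · exact (hij h04).elim
                      · exact (hij h13).elim
                      · exact (hij h14).elim
                      · exact (hij h23).elim
                      · exact (hij h24).elim
                  ·
                    by_cases h34 : T.a 3 4 = 0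
                    ·
                      obtain ⟨i, hi, j, hj, hij⟩ := T.connected {0, 1, 2, 4} ⟨0, by decide⟩ (by decide)
                      have hi' : i = 0 ∨ i = 1 ∨ i = 2 ∨ i = 4 := by
                        have : ∀ i : Fin 5, i ∈ ({0, 1, 2, 4} : Finset (Fin 5)) → i = 0 ∨ i = 1 ∨ i = 2 ∨ i = 4 := by decide
                        exact this i hi
                      have hj' : j = 3 := by
                        have : ∀ j : Fin 5, j ∉ ({0, 1, 2, 4} : Finset (Fin 5)) → j = 3 := by decide
                        exact this j hj
                      subst hj'
                      rcases hi' with rfl | rfl | rfl | rfl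
                      · exact (hij h03).elim
                      · exact (hij h13).elim
                      · exact (hij h23).elim
                      · exact (hij (Z T _ _ h34)).elim
                    ·
                      exact pathL T h2 1 0 2 4 3 (by decide) (by decide) (by decide) (by decide) (by decide) (by decide) (by decide) (by decide) (by decide) (by decide) (P' T _ _ (by decide) h01) (P T _ _ (by decide) h02) (P T _ _ (by decide) h24) (P' T _ _ (by decide) h34) h12 h14 h13 h04 h03 h23
                ·
                  by_cases h24 : T.a 2 4 = 0
                  ·
                    by_cases h34 : T.a 3 4 = 0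
                    ·
                      obtain ⟨i, hi, j, hj, hij⟩ := T.connected {0, 1, 2, 3} ⟨0, by decide⟩ (by decide)
                      have hi' : i = 0 ∨ i = 1 ∨ i = 2 ∨ i = 3 := by
                        have : ∀ i : Fin 5, i ∈ ({0, 1, 2, 3} : Finset (Fin 5)) → i = 0 ∨ i = 1 ∨ i = 2 ∨ i = 3 := by decide
                        exact this i hi
                      have hj' : j = 4 := by
                        have : ∀ j : Fin 5, j ∉ ({0, 1, 2, 3} : Finset (Fin 5)) → j = 4 := by decide
                        exact this j hj
                      subst hj'
                      rcases hi' with rfl | rfl | rfl | rfl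
                      · exact (hij h04).elim
                      · exact (hij h14).elim
                      · exact (hij h24).elim
                      · exact (hij h34).elim
                    ·
                      exact pathL T h2 1 0 2 3 4 (by decide) (by decide) (by decide) (by decide) (by decide) (by decide) (by decide) (by decide) (by decide) (by decide) (P' T _ _ (by decide) h01) (P T _ _ (by decide) h02) (P T _ _ (by decide) h23) (P T _ _ (by decide) h34) h12 h13 h14 h03 h04 h24
                  ·
                    by_cases h34 : T.a 3 4 = 0
                    ·
                      exact forkL T h2 2 3 4 0 1 (by decide) (by decide) (by decide) (by decide) (by decide) (by decide) (by decide) (by decide) (by decide) (by decide) (P T _ _ (by decide) h23) (P T _ _ (by decide) h24) (P' T _ _ (by decide) h02) (P T _ _ (by decide) h01) (Z T _ _ h12) h34 (Z T _ _ h03) (Z T _ _ h13) (Z T _ _ h04) (Z T _ _ h14)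
                    ·
                      exact (notri T h2 2 3 4 (by decide) (by decide) (by decide) (P T _ _ (by decide) h23) (P T _ _ (by decide) h34) (P T _ _ (by decide) h24)).elim
              ·
                by_cases h23 : T.a 2 3 = 0
                ·
                  by_cases h24 : T.a 2 4 = 0
                  ·
                    by_cases h34 : T.a 3 4 = 0
                    ·
                      obtain ⟨i, hi, j, hj, hij⟩ := T.connected {0, 1, 2, 4} ⟨0, by decide⟩ (by decide)
                      have hi' : i = 0 ∨ i = 1 ∨ i = 2 ∨ i = 4 := by
                        have : ∀ i : Fin 5, i ∈ ({0, 1, 2, 4} : Finset (Fin 5)) → i = 0 ∨ i = 1 ∨ i = 2 ∨ i = 4 := by decide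
                        exact this i hi
                      have hj' : j = 3 := by
                        have : ∀ j : Fin 5, j ∉ ({0, 1, 2, 4} : Finset (Fin 5)) → j = 3 := by decide
                        exact this j hj
                      subst hj'
                      rcases hi' with rfl | rfl | rfl | rfl
                      · exact (hij h03).elim
                      · exact (hij h13).elim
                      · exact (hij h23).elim
                      · exact (hij (Z T _ _ h34)).elim
                    ·
                      exact pathL T h2 2 0 1 4 3 (by decide) (by decide) (by decide) (by decide) (by decide) (by decide) (by decide) (by decide) (by decide) (by decide) (P' T _ _ (by decide) h02) (P T _ _ (by decide) h01) (P T _ _ (by decide) h14) (P' T _ _ (by decide) h34) (Z T _ _ h12) h24 h23 h04 h03 h13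
                  ·
                    exact (nocyc4 T h2 0 1 4 2 (by decide) (by decide) (by decide) (by decide) (by decide) (by decide) (P T _ _ (by decide) h01) (P T _ _ (by decide) h14) (P' T _ _ (by decide) h24) (P' T _ _ (by decide) h02)).elim
                ·
                  by_cases h24 : T.a 2 4 = 0
                  ·
                    by_cases h34 : T.a 3 4 = 0
                    ·
                      exact pathL T h2 3 2 0 1 4 (by decide) (by decide) (by decide) (by decide) (by decide) (by decide) (by decide) (by decide) (by decide) (by decide) (P' T _ _ (by decide) h23) (P' T _ _ (by decide) h02) (P T _ _ (by decide) h01) (P T _ _ (by decide) h14) (Z T _ _ h03) (Z T _ _ h13) h34 (Z T _ _ h12) h24 h04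
                    ·
                      exact cycleL T h2 0 1 4 3 2 (by decide) (by decide) (by decide) (by decide) (by decide) (by decide) (by decide) (by decide) (by decide) (by decide) (P T _ _ (by decide) h01) (P T _ _ (by decide) h14) (P' T _ _ (by decide) h34) (P' T _ _ (by decide) h23) (P T _ _ (by decide) h02) h04 h03 h13 h12 (Z T _ _ h24)
                  ·
                    exact (nocyc4 T h2 0 1 4 2 (by decide) (by decide) (by decide) (by decide) (by decide) (by decide) (P T _ _ (by decide) h01) (P T _ _ (by decide) h14) (P' T _ _ (by decide) h24) (P' T _ _ (by decide) h02)).elim
            ·
              by_cases h14 : T.a 1 4 = 0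
              ·
                by_cases h23 : T.a 2 3 = 0
                ·
                  by_cases h24 : T.a 2 4 = 0
                  ·
                    by_cases h34 : T.a 3 4 = 0
                    ·
                      obtain ⟨i, hi, j, hj, hij⟩ := T.connected {0, 1, 2, 3} ⟨0, by decide⟩ (by decide)
                      have hi' : i = 0 ∨ i = 1 ∨ i = 2 ∨ i = 3 := by
                        have : ∀ i : Fin 5, i ∈ ({0, 1, 2, 3} : Finset (Fin 5)) → i = 0 ∨ i = 1 ∨ i = 2 ∨ i = 3 := by decide
                        exact this i hi
                      have hj' : j = 4 := by
                        have : ∀ j : Fin 5, j ∉ ({0, 1, 2, 3} : Finset (Fin 5)) → j = 4 := by decide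
                        exact this j hj
                      subst hj'
                      rcases hi' with rfl | rfl | rfl | rfl
                      · exact (hij h04).elim
                      · exact (hij h14).elim
                      · exact (hij h24).elim
                      · exact (hij h34).elim
                    ·
                      exact pathL T h2 2 0 1 3 4 (by decide) (by decide) (by decide) (by decide) (by decide) (by decide) (by decide) (by decide) (by decide) (by decide) (P' T _ _ (by decide) h02) (P T _ _ (by decide) h01) (P T _ _ (by decide) h13) (P T _ _ (by decide) h34) (Z T _ _ h12) h23 h24 h03 h04 h14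
                  ·
                    by_cases h34 : T.a 3 4 = 0
                    ·
                      exact pathL T h2 3 1 0 2 4 (by decide) (by decide) (by decide) (by decide) (by decide) (by decide) (by decide) (by decide) (by decide) (by decide) (P' T _ _ (by decide) h13) (P' T _ _ (by decide) h01) (P T _ _ (by decide) h02) (P T _ _ (by decide) h24) (Z T _ _ h03) (Z T _ _ h23) h34 h12 h14 h04
                    ·
                      exact cycleL T h2 0 1 3 4 2 (by decide) (by decide) (by decide) (by decide) (by decide) (by decide) (by decide) (by decide) (by decide) (by decide) (P T _ _ (by decide) h01) (P T _ _ (by decide) h13) (P T _ _ (by decide) h34) (P' T _ _ (by decide) h24) (P T _ _ (by decide) h02) h03 h04 h14 h12 (Z T _ _ h23)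
                ·
                  exact (nocyc4 T h2 0 1 3 2 (by decide) (by decide) (by decide) (by decide) (by decide) (by decide) (P T _ _ (by decide) h01) (P T _ _ (by decide) h13) (P' T _ _ (by decide) h23) (P' T _ _ (by decide) h02)).elim
              ·
                by_cases h23 : T.a 2 3 = 0
                ·
                  by_cases h24 : T.a 2 4 = 0
                  ·
                    by_cases h34 : T.a 3 4 = 0
                    ·
                      exact forkL T h2 1 3 4 0 2 (by decide) (by decide) (by decide) (by decide) (by decide) (by decide) (by decide) (by decide) (by decide) (by decide) (P T _ _ (by decide) h13) (P T _ _ (by decide) h14) (P' T _ _ (by decide) h01) (P T _ _ (by decide) h02) h12 h34 (Z T _ _ h03) (Z T _ _ h23) (Z T _ _ h04) (Z T _ _ h24)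
                    ·
                      exact (notri T h2 1 3 4 (by decide) (by decide) (by decide) (P T _ _ (by decide) h13) (P T _ _ (by decide) h34) (P T _ _ (by decide) h14)).elim
                  ·
                    exact (nocyc4 T h2 0 1 4 2 (by decide) (by decide) (by decide) (by decide) (by decide) (by decide) (P T _ _ (by decide) h01) (P T _ _ (by decide) h14) (P' T _ _ (by decide) h24) (P' T _ _ (by decide) h02)).elim
                ·
                  exact (nocyc4 T h2 0 1 3 2 (by decide) (by decide) (by decide) (by decide) (by decide) (by decide) (P T _ _ (by decide) h01) (P T _ _ (by decide) h13) (P' T _ _ (by decide) h23) (P' T _ _ (by decide) h02)).elim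
          ·
            exact (notri T h2 0 1 2 (by decide) (by decide) (by decide) (P T _ _ (by decide) h01) (P T _ _ (by decide) h12) (P T _ _ (by decide) h02)).elim
        ·
          by_cases h12 : T.a 1 2 = 0
          ·
            by_cases h13 : T.a 1 3 = 0
            ·
              by_cases h14 : T.a 1 4 = 0
              ·
                by_cases h23 : T.a 2 3 = 0
                ·
                  by_cases h24 : T.a 2 4 = 0
                  ·
                    by_cases h34 : T.a 3 4 = 0
                    ·
                      obtain ⟨i, hi, j, hj, hij⟩ := T.connected {0, 1, 2, 4} ⟨0, by decide⟩ (by decide)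
                      have hi' : i = 0 ∨ i = 1 ∨ i = 2 ∨ i = 4 := by
                        have : ∀ i : Fin 5, i ∈ ({0, 1, 2, 4} : Finset (Fin 5)) → i = 0 ∨ i = 1 ∨ i = 2 ∨ i = 4 := by decide
                        exact this i hi
                      have hj' : j = 3 := by
                        have : ∀ j : Fin 5, j ∉ ({0, 1, 2, 4} : Finset (Fin 5)) → j = 3 := by decide
                        exact this j hj
                      subst hj'
                      rcases hi' with rfl | rfl | rfl | rfl
                      · exact (hij h03).elim
                      · exact (hij h13).elim
                      · exact (hij h23).elim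
                      · exact (hij (Z T _ _ h34)).elim
                    ·
                      exact forkL T h2 0 1 2 4 3 (by decide) (by decide) (by decide) (by decide) (by decide) (by decide) (by decide) (by decide) (by decide) (by decide) (P T _ _ (by decide) h01) (P T _ _ (by decide) h02) (P T _ _ (by decide) h04) (P' T _ _ (by decide) h34) h03 h12 h14 h13 h24 h23
                  ·
                    exact (notri T h2 0 2 4 (by decide) (by decide) (by decide) (P T _ _ (by decide) h02) (P T _ _ (by decide) h24) (P T _ _ (by decide) h04)).elim
                ·
                  by_cases h24 : T.a 2 4 = 0
                  ·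
                    by_cases h34 : T.a 3 4 = 0
                    ·
                      exact forkL T h2 0 1 4 2 3 (by decide) (by decide) (by decide) (by decide) (by decide) (by decide) (by decide) (by decide) (by decide) (by decide) (P T _ _ (by decide) h01) (P T _ _ (by decide) h04) (P T _ _ (by decide) h02) (P T _ _ (by decide) h23) h03 h14 h12 h13 (Z T _ _ h24) (Z T _ _ h34)
                    ·
                      exact (nocyc4 T h2 0 2 3 4 (by decide) (by decide) (by decide) (by decide) (by decide) (by decide) (P T _ _ (by decide) h02) (P T _ _ (by decide) h23) (P T _ _ (by decide) h34) (P' T _ _ (by decide) h04)).elim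
                  ·
                    exact (notri T h2 0 2 4 (by decide) (by decide) (by decide) (P T _ _ (by decide) h02) (P T _ _ (by decide) h24) (P T _ _ (by decide) h04)).elim
              ·
                exact (notri T h2 0 1 4 (by decide) (by decide) (by decide) (P T _ _ (by decide) h01) (P T _ _ (by decide) h14) (P T _ _ (by decide) h04)).elim
            ·
              by_cases h14 : T.a 1 4 = 0
              ·
                by_cases h23 : T.a 2 3 = 0
                ·
                  by_cases h24 : T.a 2 4 = 0
                  ·
                    by_cases h34 : T.a 3 4 = 0
                    ·
                      exact forkL T h2 0 2 4 1 3 (by decide) (by decide) (by decide) (by decide) (by decide) (by decide) (by decide) (by decide) (by decide) (by decide) (P T _ _ (by decide) h02) (P T _ _ (by decide) h04) (P T _ _ (by decide) h01) (P T _ _ (by decide) h13) h03 h24 (Z T _ _ h12) h23 (Z T _ _ h14) (Z T _ _ h34)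
                    ·
                      exact (nocyc4 T h2 0 1 3 4 (by decide) (by decide) (by decide) (by decide) (by decide) (by decide) (P T _ _ (by decide) h01) (P T _ _ (by decide) h13) (P T _ _ (by decide) h34) (P' T _ _ (by decide) h04)).elim
                  ·
                    exact (notri T h2 0 2 4 (by decide) (by decide) (by decide) (P T _ _ (by decide) h02) (P T _ _ (by decide) h24) (P T _ _ (by decide) h04)).elim
                ·
                  exact (nocyc4 T h2 0 1 3 2 (by decide) (by decide) (by decide) (by decide) (by decide) (by decide) (P T _ _ (by decide) h01) (P T _ _ (by decide) h13) (P' T _ _ (by decide) h23) (P' T _ _ (by decide) h02)).elim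
              ·
                exact (notri T h2 0 1 4 (by decide) (by decide) (by decide) (P T _ _ (by decide) h01) (P T _ _ (by decide) h14) (P T _ _ (by decide) h04)).elim
          ·
            exact (notri T h2 0 1 2 (by decide) (by decide) (by decide) (P T _ _ (by decide) h01) (P T _ _ (by decide) h12) (P T _ _ (by decide) h02)).elim
      ·
        by_cases h04 : T.a 0 4 = 0
        ·
          by_cases h12 : T.a 1 2 = 0
          ·
            by_cases h13 : T.a 1 3 = 0
            ·
              by_cases h14 : T.a 1 4 = 0
              ·
                by_cases h23 : T.a 2 3 = 0
                ·
                  by_cases h24 : T.a 2 4 = 0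
                  ·
                    by_cases h34 : T.a 3 4 = 0
                    ·
                      obtain ⟨i, hi, j, hj, hij⟩ := T.connected {0, 1, 2, 3} ⟨0, by decide⟩ (by decide)
                      have hi' : i = 0 ∨ i = 1 ∨ i = 2 ∨ i = 3 := by
                        have : ∀ i : Fin 5, i ∈ ({0, 1, 2, 3} : Finset (Fin 5)) → i = 0 ∨ i = 1 ∨ i = 2 ∨ i = 3 := by decide
                        exact this i hi
                      have hj' : j = 4 := by
                        have : ∀ j : Fin 5, j ∉ ({0, 1, 2, 3} : Finset (Fin 5)) → j = 4 := by decide
                        exact this j hj
                      subst hj'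
                      rcases hi' with rfl | rfl | rfl | rfl
                      · exact (hij h04).elim
                      · exact (hij h14).elim
                      · exact (hij h24).elim
                      · exact (hij h34).elim
                    ·
                      exact forkL T h2 0 1 2 3 4 (by decide) (by decide) (by decide) (by decide) (by decide) (by decide) (by decide) (by decide) (by decide) (by decide) (P T _ _ (by decide) h01) (P T _ _ (by decide) h02) (P T _ _ (by decide) h03) (P T _ _ (by decide) h34) h04 h12 h13 h14 h23 h24
                  ·
                    by_cases h34 : T.a 3 4 = 0
                    ·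
                      exact forkL T h2 0 1 3 2 4 (by decide) (by decide) (by decide) (by decide) (by decide) (by decide) (by decide) (by decide) (by decide) (by decide) (P T _ _ (by decide) h01) (P T _ _ (by decide) h03) (P T _ _ (by decide) h02) (P T _ _ (by decide) h24) h04 h13 h12 h14 (Z T _ _ h23) h34
                    ·
                      exact (nocyc4 T h2 0 2 4 3 (by decide) (by decide) (by decide) (by decide) (by decide) (by decide) (P T _ _ (by decide) h02) (P T _ _ (by decide) h24) (P' T _ _ (by decide) h34) (P' T _ _ (by decide) h03)).elim
                ·
                  exact (notri T h2 0 2 3 (by decide) (by decide) (by decide) (P T _ _ (by decide) h02) (P T _ _ (by decide) h23) (P T _ _ (by decide) h03)).elim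
              ·
                by_cases h23 : T.a 2 3 = 0
                ·
                  by_cases h24 : T.a 2 4 = 0
                  ·
                    by_cases h34 : T.a 3 4 = 0
                    ·
                      exact forkL T h2 0 2 3 1 4 (by decide) (by decide) (by decide) (by decide) (by decide) (by decide) (by decide) (by decide) (by decide) (by decide) (P T _ _ (by decide) h02) (P T _ _ (by decide) h03) (P T _ _ (by decide) h01) (P T _ _ (by decide) h14) h04 h23 (Z T _ _ h12) h24 (Z T _ _ h13) h34
                    ·
                      exact (nocyc4 T h2 0 1 4 3 (by decide) (by decide) (by decide) (by decide) (by decide) (by decide) (P T _ _ (by decide) h01) (P T _ _ (by decide) h14) (P' T _ _ (by decide) h34) (P' T _ _ (by decide) h03)).elim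
                  ·
                    exact (nocyc4 T h2 0 1 4 2 (by decide) (by decide) (by decide) (by decide) (by decide) (by decide) (P T _ _ (by decide) h01) (P T _ _ (by decide) h14) (P' T _ _ (by decide) h24) (P' T _ _ (by decide) h02)).elim
                ·
                  exact (notri T h2 0 2 3 (by decide) (by decide) (by decide) (P T _ _ (by decide) h02) (P T _ _ (by decide) h23) (P T _ _ (by decide) h03)).elim
            ·
              exact (notri T h2 0 1 3 (by decide) (by decide) (by decide) (P T _ _ (by decide) h01) (P T _ _ (by decide) h13) (P T _ _ (by decide) h03)).elim
          ·
            exact (notri T h2 0 1 2 (by decide) (by decide) (by decide) (P T _ _ (by decide) h01) (P T _ _ (by decide) h12) (P T _ _ (by decide) h02)).elim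
        ·
          by_cases h12 : T.a 1 2 = 0
          ·
            by_cases h13 : T.a 1 3 = 0
            ·
              by_cases h14 : T.a 1 4 = 0
              ·
                by_cases h23 : T.a 2 3 = 0
                ·
                  by_cases h24 : T.a 2 4 = 0
                  ·
                    by_cases h34 : T.a 3 4 = 0
                    ·
                      exact starL T h2 0 1 2 3 4 (by decide) (by decide) (by decide) (by decide) (by decide) (by decide) (by decide) (by decide) (by decide) (by decide) (P T _ _ (by decide) h01) (P T _ _ (by decide) h02) (P T _ _ (by decide) h03) (P T _ _ (by decide) h04) h12 h13 h14 h23 h24 h34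
                    ·
                      exact (notri T h2 0 3 4 (by decide) (by decide) (by decide) (P T _ _ (by decide) h03) (P T _ _ (by decide) h34) (P T _ _ (by decide) h04)).elim
                  ·
                    exact (notri T h2 0 2 4 (by decide) (by decide) (by decide) (P T _ _ (by decide) h02) (P T _ _ (by decide) h24) (P T _ _ (by decide) h04)).elim
                ·
                  exact (notri T h2 0 2 3 (by decide) (by decide) (by decide) (P T _ _ (by decide) h02) (P T _ _ (by decide) h23) (P T _ _ (by decide) h03)).elim
              ·
                exact (notri T h2 0 1 4 (by decide) (by decide) (by decide) (P T _ _ (by decide) h01) (P T _ _ (by decide) h14) (P T _ _ (by decide) h04)).elim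
            ·
              exact (notri T h2 0 1 3 (by decide) (by decide) (by decide) (P T _ _ (by decide) h01) (P T _ _ (by decide) h13) (P T _ _ (by decide) h03)).elim
          ·
            exact (notri T h2 0 1 2 (by decide) (by decide) (by decide) (P T _ _ (by decide) h01) (P T _ _ (by decide) h12) (P T _ _ (by decide) h02)).elim

end Groth.Agent.S7365
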