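import Groth.Statements.S7386
import Groth.Agent.H3.GenericAvoid

set_option autoImplicit false
universe u
open CategoryTheory AlgebraicGeometry
open Mor

namespace Groth.Agent.S7386

theorem result (X : Scheme.{u}) [QuasiSeparatedSpace X] {n : ℕ}
    (η : Fin n → X) (hη : ∀ i, closure ({η i} : Set X) ∈ irreducibleComponents (X : Type u)) (x : X) :
    ∃ U : X.Opens, IsAffineOpen U ∧ x ∈ U ∧ ∀ i, η i ∈ U := by
  induction n with
  | zero =>
    obtain ⟨V, hV, hxV⟩ := Groth.Agent.H3.GenericAvoid.exists_affineOpen_mem X x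
    exact ⟨V, hV, hxV, fun i => i.elim0⟩
  | succ n ih =>
    obtain ⟨U, hU, hxU, hηU⟩ := ih (fun i => η i.castSucc) (fun i => hη i.castSucc)
    by_cases hlast : η (Fin.last n) ∈ U
    · refine ⟨U, hU, hxU, fun i => ?_⟩
      induction i using Fin.lastCases with
      | last => exact hlast
      | cast i => exact hηU i
    · obtain ⟨V, hV, hηV, hdisj⟩ :=
        Groth.Agent.H3.GenericAvoid.exists_affine_nhd_disjoint X (η (Fin.last n))
          (hη (Fin.last n)) U hU.isCompact hlast
      refine ⟨U ⊔ V, hU.sup_of_disjoint hV hdisj.symm, Or.inl hxU, fun i => ?_⟩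
      induction i using Fin.lastCases with
      | last => exact Or.inr hηV
      | cast i => exact Or.inl (hηU i)

end Groth.Agent.S7386
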