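import Groth.Statements.S7387
import Groth.Agent.H3.DenseSep

set_option autoImplicit false
universe u
open CategoryTheory AlgebraicGeometry
open Mor

namespace Groth.Agent.S7387

/-- A quasi-compact scheme has a dense open subscheme which is separated. -/
theorem result (X : Scheme.{u}) [CompactSpace X] :
    ∃ V : X.Opens, Dense (V : Set X) ∧ (V : Scheme.{u}).IsSeparated := by
  classical
  let 𝒰 := X.affineCover.finiteSubcover
  let e : 𝒰.I₀ ≃ Fin (Fintype.card 𝒰.I₀) := Fintype.equivFin _
  refine Groth.Agent.H3.exists_dense_isSeparated_of_fin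
    (fun k => (𝒰.f (e.symm k)).opensRange) (fun k => isAffineOpen_opensRange _) ?_
  intro x
  obtain ⟨i, y, rfl⟩ := 𝒰.exists_eq x
  exact ⟨e i, by rw [Equiv.symm_apply_apply]; exact ⟨y, rfl⟩⟩

end Groth.Agent.S7387
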