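import Groth.Statements.S7389
import Groth.Agent.H3.AffineAvoid

set_option autoImplicit false
universe u
open CategoryTheory AlgebraicGeometry
open Mor

namespace Groth.Agent.S7389

theorem result {X Y : Scheme.{u}} [IsAffine Y] (ι : X ⟶ Y)
    [IsImmersion ι] (E : Set X) (hE : E.Finite) :
    ∃ U : X.Opens, IsAffineOpen U ∧ E ⊆ U := by
  let W : Y.Opens := ι.coborderRange
  have hW : ∀ x : X, ι.base x ∈ W := fun x => subset_coborder ⟨x, rfl⟩
  obtain ⟨f, hf1, hf2⟩ := Groth.Agent.H3.AffineAvoid.exists_basicOpen_of_finite Y W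
    (ι.base '' E) (hE.image _) (by rintro _ ⟨x, _, rfl⟩; exact hW x)
  have haff : IsAffineOpen (Y.basicOpen f) := (isAffineOpen_top Y).basicOpen f
  have h1 : IsAffineOpen (W.ι ⁻¹ᵁ Y.basicOpen f) :=
    haff.preimage_of_isOpenImmersion W.ι (by rwa [Scheme.Opens.opensRange_ι])
  have h2 : IsAffineOpen (ι.liftCoborder ⁻¹ᵁ (W.ι ⁻¹ᵁ Y.basicOpen f)) :=
    h1.preimage ι.liftCoborder
  refine ⟨ι ⁻¹ᵁ Y.basicOpen f, ?_, ?_⟩
  · have : ι ⁻¹ᵁ Y.basicOpen f = ι.liftCoborder ⁻¹ᵁ (W.ι ⁻¹ᵁ Y.basicOpen f) := by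
      rw [← Scheme.Hom.comp_preimage, Scheme.Hom.liftCoborder_ι]
    rw [this]
    exact h2
  · intro x hx
    exact hf1 ⟨x, hx, rfl⟩

end Groth.Agent.S7389
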