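import Groth.Statements.S9616
import Mathlib

set_option autoImplicit false
universe u
open CAlg

namespace Groth.Agent.S9616

theorem exists_homogeneous_not_mem {R S : Type*} [CommRing R] [CommRing S] [Algebra R S]
    (𝒜 : ℕ → Submodule R S) [GradedAlgebra 𝒜] (J : HomogeneousIdeal 𝒜) (P : Ideal S)
    (h : ¬ J.toIdeal ≤ P) : ∃ (y : S) (e : ℕ), y ∈ 𝒜 e ∧ y ∈ J.toIdeal ∧ y ∉ P := by
  classical
  obtain ⟨w, hwJ, hwP⟩ := Set.not_subset.mp h
  by_contra hall
  push Not at hall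
  apply hwP
  rw [← DirectSum.sum_support_decompose 𝒜 w]
  refine Ideal.sum_mem _ fun e _ => ?_
  exact hall _ e (SetLike.coe_mem _) (J.isHomogeneous e hwJ)

theorem graded_prime_avoidance {R S ι : Type*} [CommRing R] [CommRing S] [Algebra R S]
    (𝒜 : ℕ → Submodule R S) [GradedAlgebra 𝒜] (p : ι → HomogeneousIdeal 𝒜)
    (I : HomogeneousIdeal 𝒜) (hI : I ≤ HomogeneousIdeal.irrelevant 𝒜) (T : Finset ι) :
    (∀ i ∈ T, (p i).toIdeal.IsPrime) → (∀ i ∈ T, ¬ I.toIdeal ≤ (p i).toIdeal) →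
    ∃ x : S, ∃ d : ℕ, 0 < d ∧ x ∈ 𝒜 d ∧ x ∈ I.toIdeal ∧ ∀ i ∈ T, x ∉ (p i).toIdeal := by
  classical
  induction T using Finset.strongInduction with
  | H T ih =>
  intro hprime hI'
  rcases T.eq_empty_or_nonempty with rfl | hne
  · exact ⟨0, 1, one_pos, zero_mem _, zero_mem _, by simp⟩
  obtain ⟨a, haT, hamin⟩ := T.exists_minimalFor (fun i => (p i).toIdeal) hne
  obtain ⟨x, d, hd, hxd, hxI, hxT⟩ := ih (T.erase a) (Finset.erase_ssubset haT)
    (fun i hi => hprime i (Finset.mem_of_mem_erase hi)) (fun i hi => hI' i (Finset.mem_of_mem_erase hi))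
  by_cases hxa : x ∈ (p a).toIdeal
  swap
  · refine ⟨x, d, hd, hxd, hxI, fun i hi => ?_⟩
    by_cases h : i = a
    · rw [h]; exact hxa
    · exact hxT i (Finset.mem_erase.mpr ⟨h, hi⟩)
  have hpa : (p a).toIdeal.IsPrime := hprime a haT
  have hnot : ∀ j ∈ T.erase a, ¬ (p j).toIdeal ≤ (p a).toIdeal := by
    intro j hj hle
    have : (p a).toIdeal ≤ (p j).toIdeal := hamin (Finset.mem_of_mem_erase hj) hle
    exact hxT j hj (this hxa)
  obtain ⟨y0, e0, hy0e, hy0I, hy0a⟩ := exists_homogeneous_not_mem 𝒜 I (p a).toIdeal (hI' a haT)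
  have hch : ∀ j, ∃ (y : S) (e : ℕ), j ∈ T.erase a → (y ∈ 𝒜 e ∧ y ∈ (p j).toIdeal ∧ y ∉ (p a).toIdeal) := by
    intro j
    by_cases hj : j ∈ T.erase a
    · obtain ⟨y, e, h1, h2, h3⟩ := exists_homogeneous_not_mem 𝒜 (p j) (p a).toIdeal (hnot j hj)
      exact ⟨y, e, fun _ => ⟨h1, h2, h3⟩⟩
    · exact ⟨0, 0, fun h => absurd h hj⟩
  choose y e hy using hch
  let Y := y0 * ∏ j ∈ T.erase a, y j
  let E := e0 + ∑ j ∈ T.erase a, e j
  have hYE : Y ∈ 𝒜 E :=
    SetLike.mul_mem_graded hy0e (SetLike.prod_mem_graded 𝒜 e y fun j hj => (hy j hj).1)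
  have hYI : Y ∈ I.toIdeal := Ideal.mul_mem_right _ _ hy0I
  have hYa : Y ∉ (p a).toIdeal := by
    intro h
    rcases hpa.mem_or_mem h with h | h
    · exact hy0a h
    · rw [Ideal.IsPrime.prod_mem_iff] at h
      obtain ⟨j, hj, hjm⟩ := h
      exact (hy j hj).2.2 hjm
  have hYj : ∀ j ∈ T.erase a, Y ∈ (p j).toIdeal := by
    intro j hj
    have := hprime j (Finset.mem_of_mem_erase hj)
    exact Ideal.mul_mem_left _ _ (Ideal.IsPrime.prod_mem_iff.mpr ⟨j, hj, (hy j hj).2.1⟩)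
  have hE : 0 < E := by
    rcases Nat.eq_zero_or_pos E with h0 | h0
    · exfalso
      have h1 : Y ∈ HomogeneousIdeal.irrelevant 𝒜 := hI hYI
      rw [HomogeneousIdeal.mem_irrelevant_iff, GradedRing.proj_apply] at h1
      rw [h0] at hYE
      rw [DirectSum.decompose_of_mem_same 𝒜 hYE] at h1
      exact hYa (h1 ▸ zero_mem _)
    · exact h0
  refine ⟨x ^ E + Y ^ d, d * E, Nat.mul_pos hd hE, ?_, ?_, ?_⟩
  · refine add_mem ?_ ?_
    · have := SetLike.pow_mem_graded E hxd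
      rwa [smul_eq_mul, mul_comm] at this
    · have := SetLike.pow_mem_graded d hYE
      rwa [smul_eq_mul] at this
  · exact add_mem (Ideal.pow_mem_of_mem _ hxI E hE) (Ideal.pow_mem_of_mem _ hYI d hd)
  · intro i hi hz
    by_cases h : i = a
    · rw [h] at hz
      have h2 : Y ^ d ∈ (p a).toIdeal := by
        have := Ideal.sub_mem _ hz (Ideal.pow_mem_of_mem _ hxa E hE)
        rwa [add_sub_cancel_left] at this
      exact hYa (hpa.mem_of_pow_mem d h2)
    · have hi' : i ∈ T.erase a := Finset.mem_erase.mpr ⟨h, hi⟩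
      have hpi := hprime i hi
      have h2 : x ^ E ∈ (p i).toIdeal := by
        have := Ideal.sub_mem _ hz (Ideal.pow_mem_of_mem _ (hYj i hi') d hd)
        rwa [add_sub_cancel_right] at this
      exact hxT i hi' (hpi.mem_of_pow_mem E h2)

/-- Let S be an ℕ-graded ring, p_1, …, p_r homogeneous prime ideals of S and I ⊆ S₊ a homogeneous ideal
not contained in any p_i. Then there is a homogeneous element x ∈ I of positive degree with x ∉ p_i
for all i. -/
theorem result {R S : Type u} [CommRing R] [CommRing S] [Algebra R S] (𝒜 : ℕ → Submodule R S) [GradedAlgebra 𝒜]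
    {r : ℕ} (p : Fin r → HomogeneousIdeal 𝒜) (hp : ∀ i, (p i).toIdeal.IsPrime) (I : HomogeneousIdeal 𝒜) (hI : I ≤ HomogeneousIdeal.irrelevant 𝒜) (h : ∀ i, ¬ I ≤ p i) :
    ∃ x : S, ∃ d : ℕ, 0 < d ∧ x ∈ 𝒜 d ∧ x ∈ I ∧ ∀ i, x ∉ p i := by
  obtain ⟨x, d, hd, hxd, hxI, hx⟩ := graded_prime_avoidance 𝒜 p I hI Finset.univ
    (fun i _ => hp i) (fun i _ => h i)
  exact ⟨x, d, hd, hxd, hxI, fun i => hx i (Finset.mem_univ i)⟩

end Groth.Agent.S9616
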