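import Groth.Statements.S7388
import Mathlib
import Groth.Agent.S9616
import Groth.Agent.S7389

set_option autoImplicit false
universe u
open CategoryTheory AlgebraicGeometry
open Mor

namespace Groth.Agent.S7388

/-- Let `X` be a scheme admitting an immersion into `Proj S` for some graded ring `S`. Then any finite
set of points of `X` is contained in an affine open of `X`. -/
theorem result {R A : Type u} [CommRing R] [CommRing A] [Algebra R A]
    (𝒜 : ℕ → Submodule R A) [GradedAlgebra 𝒜] {X : Scheme.{u}} (ι : X ⟶ Proj 𝒜) [IsImmersion ι]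
    (E : Set X) (hE : E.Finite) :
    ∃ U : X.Opens, IsAffineOpen U ∧ E ⊆ U := by
  classical
  obtain ⟨f, d, hd, hfd, -, hfT⟩ := Groth.Agent.S9616.graded_prime_avoidance 𝒜
    (fun x : X => (ι.base x).asHomogeneousIdeal) (HomogeneousIdeal.irrelevant 𝒜) le_rfl
    hE.toFinset (fun x _ => (ι.base x).isPrime)
    (fun x _ h => (ι.base x).not_irrelevant_le h)
  let V : (Proj 𝒜).Opens := Proj.basicOpen 𝒜 f
  have hV : IsAffineOpen V := Proj.isAffineOpen_basicOpen 𝒜 f hfd hd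
  haveI : IsAffine (V : Scheme.{u}) := hV
  haveI : IsImmersion (ι ∣_ V) := IsZariskiLocalAtTarget.restrict ‹IsImmersion ι› V
  let E' : Set ((ι ⁻¹ᵁ V : X.Opens) : Scheme.{u}) := (ι ⁻¹ᵁ V).ι.base ⁻¹' E
  have hE' : E'.Finite :=
    hE.preimage ((ι ⁻¹ᵁ V).ι.isOpenEmbedding.injective.injOn)
  obtain ⟨U', hU', hEU'⟩ := Groth.Agent.S7389.result (ι ∣_ V) E' hE'
  refine ⟨(ι ⁻¹ᵁ V).ι ''ᵁ U', hU'.image_of_isOpenImmersion (ι ⁻¹ᵁ V).ι, ?_⟩
  intro x hx
  have hxV : ι.base x ∈ V :=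
    (Proj.mem_basicOpen 𝒜 f _).mpr (hfT x (hE.mem_toFinset.mpr hx))
  let y : ((ι ⁻¹ᵁ V : X.Opens) : Scheme.{u}) := ⟨x, hxV⟩
  have hy : y ∈ E' := hx
  exact ⟨y, hEU' hy, rfl⟩


end Groth.Agent.S7388
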