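import Groth.Statements.S7390
import Mathlib
import Groth.Agent.Lib.Helper4.GenLocus

set_option autoImplicit false
universe u
open CategoryTheory AlgebraicGeometry
open Mor

namespace Groth.Agent.S7390

/-- Let `X` be a scheme such that every point lies in some affine open `X_s`, the locus where a global
section `s` generates an invertible `O_X`-module `L` (both depending on the point). Then the
diagonal of `X` is an affine morphism. -/
theorem result (X : Scheme.{u})
    (h : ∀ x : X, ∃ (L : X.Modules) (s : Coh.structureModule X ⟶ L), PicF.IsInvertible L ∧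
      x ∈ CohB1.genLocus L s ∧ IsAffineOpen (CohB1.genLocus L s)) :
    IsAffineHom (Limits.pullback.diagonal (Limits.terminal.from X)) := by
  classical
  choose Lx sx hLx hxx haff using h
  have hcov : TopologicalSpace.IsOpenCover (fun x : X => CohB1.genLocus (Lx x) (sx x)) := by
    show (⨆ x : X, CohB1.genLocus (Lx x) (sx x)) = ⊤
    rw [eq_top_iff]
    intro x _
    exact TopologicalSpace.Opens.mem_iSup.mpr ⟨x, hxx x⟩
  let 𝒰 : X.OpenCover := X.openCoverOfIsOpenCover (fun x : X => CohB1.genLocus (Lx x) (sx x)) hcov
  haveI h1 : ∀ i, IsAffine (𝒰.X i) := fun i => haff i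
  haveI h2 : ∀ i, IsAffineHom (𝒰.f i) := fun i =>
    Groth.Agent.Helper4.GenLocus.main X (Lx i) (hLx i) (sx i)
  let Q : AffineTargetMorphismProperty := fun X _ _ _ => IsAffine X
  haveI hQ : HasAffineProperty @IsAffineHom Q :=
    inferInstanceAs (HasAffineProperty @IsAffineHom fun X _ _ _ ↦ IsAffine X)
  haveI hQl : Q.IsLocal := HasAffineProperty.isLocal_affineProperty @IsAffineHom
  have key : Q.diagonal (Limits.terminal.from X) := by
    refine AffineTargetMorphismProperty.diagonal_of_openCover_source (Q := Q)
      (Limits.terminal.from X) 𝒰 (fun i j => ?_)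
    show IsAffine (Limits.pullback (𝒰.f i) (𝒰.f j))
    infer_instance
  exact (HasAffineProperty.diagonal_iff @IsAffineHom (Q := Q)).mp key

end Groth.Agent.S7390
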