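import Groth.Statements.S7394
import Mathlib
set_option linter.style.haveILetI false

set_option autoImplicit false
universe u
open CategoryTheory AlgebraicGeometry
open Lim

namespace Groth.Agent.S7394

section Aux
open scoped TensorProduct
open PiTensorProduct

open Classical in
private lemma bigProd_update {k : Type u} [Field k] {I : Type u} [DecidableEq I] (K : I → Type u)
    [∀ i, Field (K i)] [∀ i, Algebra k (K i)] (r : ∀ i, K i →ₗ[k] k) (m : ∀ i, K i) (i : I) (a : K i) :
    (if (Function.mulSupport fun j => r j (Function.update m i a j)).Finite then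
        ∏ᶠ j, r j (Function.update m i a j) else 0) =
      r i a * (if {j | j ≠ i ∧ r j (m j) ≠ 1}.Finite then ∏ᶠ (j) (_ : j ≠ i), r j (m j) else 0) := by
  have hS : (Function.mulSupport fun j => r j (Function.update m i a j)).Finite ↔
      {j | j ≠ i ∧ r j (m j) ≠ 1}.Finite := by
    constructor
    · intro h
      refine h.subset ?_
      rintro j ⟨hj, hj'⟩
      simp only [Function.mem_mulSupport]
      rwa [Function.update_of_ne hj]
    · intro h
      refine (h.insert i).subset ?_
      intro j hj
      by_cases hji : j = i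
      · subst hji
        exact Set.mem_insert _ _
      · refine Set.mem_insert_of_mem _ ⟨hji, ?_⟩
        have := hj
        simp only [Function.mem_mulSupport] at this
        rwa [Function.update_of_ne hji] at this
  by_cases h : {j | j ≠ i ∧ r j (m j) ≠ 1}.Finite
  · rw [if_pos (hS.mpr h), if_pos h, ← mul_finprod_cond_ne i (hS.mpr h)]
    simp only [Function.update_self]
    congr 1
    refine finprod_congr fun j => finprod_congr fun hj => ?_
    rw [Function.update_of_ne hj]
  · rw [if_neg (fun h' => h (hS.mp h')), if_neg h, mul_zero]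

open Classical in
private noncomputable def bigProd {k : Type u} [Field k] {I : Type u} (K : I → Type u)
    [∀ i, Field (K i)] [∀ i, Algebra k (K i)] (r : ∀ i, K i →ₗ[k] k) : MultilinearMap k K k where
  toFun x := if (Function.mulSupport fun j => r j (x j)).Finite then ∏ᶠ j, r j (x j) else 0
  map_update_add' := by
    intro _ m i x y
    rw [bigProd_update K r m i (x + y), bigProd_update K r m i x, bigProd_update K r m i y,
      map_add, add_mul]
  map_update_smul' := by
    intro _ m i c x
    rw [bigProd_update K r m i (c • x), bigProd_update K r m i x, map_smul, smul_eq_mul,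
      smul_eq_mul, mul_assoc]

open Classical in
private lemma exists_common_field (k : Type u) [Field k] {I : Type u} (K : I → Type u)
    [∀ i, Field (K i)] [∀ i, Algebra k (K i)] :
    ∃ (L : Type u) (_ : Field L) (_ : Algebra k L), ∀ i, Nonempty (K i →ₐ[k] L) := by
  classical
  have hr : ∀ i, ∃ r : K i →ₗ[k] k, r 1 = 1 := by
    intro i
    obtain ⟨g, hg⟩ := LinearMap.exists_leftInverse_of_injective (Algebra.linearMap k (K i))
      (LinearMap.ker_eq_bot.mpr (algebraMap k (K i)).injective)
    refine ⟨g, ?_⟩
    have := LinearMap.congr_fun hg 1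
    simpa using this
  choose r hr1 using hr
  have h1 : bigProd K r 1 = 1 := by
    change (if (Function.mulSupport fun j => r j ((1 : ∀ i, K i) j)).Finite then
      ∏ᶠ j, r j ((1 : ∀ i, K i) j) else 0) = 1
    simp only [Pi.one_apply, hr1]
    rw [if_pos (by simp [Function.mulSupport])]
    exact finprod_one
  haveI : Nontrivial (⨂[k] i, K i) := by
    refine ⟨⟨1, 0, fun h => ?_⟩⟩
    have h2 := congrArg (PiTensorProduct.lift (bigProd K r)) h
    rw [PiTensorProduct.one_def, PiTensorProduct.lift.tprod, h1, map_zero] at h2
    exact one_ne_zero h2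
  obtain ⟨m, hm⟩ := Ideal.exists_maximal (⨂[k] i, K i)
  letI : Field ((⨂[k] i, K i) ⧸ m) := Ideal.Quotient.field m
  exact ⟨(⨂[k] i, K i) ⧸ m, inferInstance, inferInstance,
    fun i => ⟨(Ideal.Quotient.mkₐ k m).comp (PiTensorProduct.singleAlgHom i)⟩⟩

end Aux


/-- Let `S` be a scheme and `T_i → S`, `i ∈ I`, surjective affine morphisms. Then any product of the
`T_i` in the category of schemes over `S` maps surjectively onto `S`. -/
theorem result {S : Scheme.{u}} {I : Type u} (T : I → Over S)
    (hT : ∀ i, IsAffineHom (T i).hom ∧ Surjective (T i).hom) (c : Limits.Fan T) (hc : Limits.IsLimit c) :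
    Surjective c.pt.hom := by
  refine ⟨fun s => ?_⟩
  have ht : ∀ i, ∃ t : (T i).left, (T i).hom t = s := fun i => (hT i).2.surj s
  choose t ht using ht
  let a : ∀ i, S.residueField s ⟶ (T i).left.residueField (t i) := fun i =>
    (S.residueFieldCongr (ht i).symm).hom ≫ (T i).hom.residueFieldMap (t i)
  have ha : ∀ i, Spec.map (a i) ≫ S.fromSpecResidueField s =
      (T i).left.fromSpecResidueField (t i) ≫ (T i).hom := by
    intro i
    simp only [a, Spec.map_comp, Category.assoc, Scheme.residueFieldCongr_fromSpecResidueField,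
      Scheme.Hom.SpecMap_residueFieldMap_fromSpecResidueField]
  letI : ∀ i, Algebra (S.residueField s) ((T i).left.residueField (t i)) :=
    fun i => (a i).hom.toAlgebra
  obtain ⟨L, _, _, ψ⟩ := exists_common_field (S.residueField s)
    (fun i => (T i).left.residueField (t i))
  have ψ' := fun i => (ψ i).some
  have hcomp : ∀ i, a i ≫ CommRingCat.ofHom (ψ' i).toRingHom =
      CommRingCat.ofHom (algebraMap (S.residueField s) L) := by
    intro i
    ext x
    exact (ψ' i).commutes x
  let g : Spec (CommRingCat.of L) ⟶ S :=
    Spec.map (CommRingCat.ofHom (algebraMap (S.residueField s) L)) ≫ S.fromSpecResidueField s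
  let φ : ∀ i, Spec (CommRingCat.of L) ⟶ (T i).left := fun i =>
    Spec.map (CommRingCat.ofHom (ψ' i).toRingHom) ≫ (T i).left.fromSpecResidueField (t i)
  have hcomp' : ∀ i, Spec.map (CommRingCat.ofHom (ψ' i).toRingHom) ≫ Spec.map (a i) =
      Spec.map (CommRingCat.ofHom (algebraMap (S.residueField s) L)) := fun i => by
    rw [← Spec.map_comp]
    exact congrArg Spec.map (hcomp i)
  have hφ : ∀ i, φ i ≫ (T i).hom = g := by
    intro i
    calc φ i ≫ (T i).hom = Spec.map (CommRingCat.ofHom (ψ' i).toRingHom) ≫
          ((T i).left.fromSpecResidueField (t i) ≫ (T i).hom) := Category.assoc _ _ _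
      _ = Spec.map (CommRingCat.ofHom (ψ' i).toRingHom) ≫
          (Spec.map (a i) ≫ S.fromSpecResidueField s) := by rw [ha i]
      _ = (Spec.map (CommRingCat.ofHom (ψ' i).toRingHom) ≫ Spec.map (a i)) ≫
          S.fromSpecResidueField s := (Category.assoc _ _ _).symm
      _ = g := congrArg (· ≫ S.fromSpecResidueField s) (hcomp' i)
  let l : Over.mk g ⟶ c.pt :=
    hc.lift (Limits.Fan.mk (Over.mk g) (fun i => Over.homMk (φ i) (hφ i)))
  have hl : l.left ≫ c.pt.hom = g := Over.w l
  obtain ⟨p⟩ : Nonempty (Spec (CommRingCat.of L)) := inferInstance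
  refine ⟨l.left p, ?_⟩
  have e : c.pt.hom (l.left p) = g p := congrArg (fun f : Spec (CommRingCat.of L) ⟶ S => f p) hl
  rw [e]
  simp only [g, Scheme.Hom.comp_apply]
  exact Scheme.fromSpecResidueField_apply _ _

end Groth.Agent.S7394
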