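import Groth.Statements.S7400
import Groth.Agent.H25.Tower3
open Groth.Agent.H25

set_option autoImplicit false
universe u
open CategoryTheory AlgebraicGeometry
open Mor

namespace Groth.Agent.S7400

/-- Let `A ⊆ B` be a ring extension. The morphism `Spec B → Spec A` is a universal homeomorphism with
all residue field extensions trivial exactly when each finite subset of `B` is contained in some
`A[b_1, …, b_n] ⊆ B` such that `b_i^2` and `b_i^3` lie in `A[b_1, …, b_{i-1}]` for every `i`. (Here
`A → B` is an injective ring map and `A[b_1, …, b_{i-1}]` is the `A`-subalgebra generated by the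
earlier entries.) -/
theorem result {A B : Type u} [CommRing A] [CommRing B] [Algebra A B]
    (hinj : Function.Injective (algebraMap A B)) :
    (FlatMor.IsUnivHomeo (Spec.map (CommRingCat.ofHom (algebraMap A B))) ∧
      ∀ x : Spec (CommRingCat.of B),
        Function.Surjective ((Spec.map (CommRingCat.ofHom (algebraMap A B))).residueFieldMap x)) ↔
    ∀ E : Finset B, ∃ l : List B, (↑E : Set B) ⊆ Algebra.adjoin A {b : B | b ∈ l} ∧
      ∀ i : Fin l.length, l.get i ^ 2 ∈ Algebra.adjoin A {b : B | ∃ j : Fin l.length, j < i ∧ b = l.get j} ∧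
        l.get i ^ 3 ∈ Algebra.adjoin A {b : B | ∃ j : Fin l.length, j < i ∧ b = l.get j} := by
  constructor
  · rintro ⟨hU, hres⟩ E
    have hP := ColimUH.pres_of_res _ hres
    obtain ⟨l, hE, hl⟩ := Tower.tower_exists Tower.el1_mono Tower.el1_fin (Tower.hex1 hU hP) E
    exact ⟨l, hE, hl⟩
  · intro h
    have hb : ∀ b : B, ∃ l : List B, b ∈ Algebra.adjoin A {x | x ∈ l} ∧
        Tower.IsTower (Tower.El1 (A := A)) l := fun b => by
      obtain ⟨l, hE, hl⟩ := h {b}
      exact ⟨l, hE (by simp), hl⟩
    refine ⟨Tower.good_of_towers hinj (fun b => ?_),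
      fun x => ColimUH.res_of_pres _ (Tower.pres_of_towers fun b => ?_) x⟩
    · obtain ⟨l, hbl, hl⟩ := hb b
      have := Tower.tower1_good l hl
      exact ⟨_, hbl, this.1, this.2.1⟩
    · obtain ⟨l, hbl, hl⟩ := hb b
      exact ⟨_, hbl, (Tower.tower1_good l hl).2.2⟩

end Groth.Agent.S7400
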