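import Groth.Statements.S7405
import Groth.Agent.H25.ColimUH
open Groth.Agent.H25

set_option autoImplicit false
universe u
open CategoryTheory AlgebraicGeometry
open Mor

namespace Groth.Agent.S7405

/-- Let `A` be a ring and `B` the colimit of a filtered diagram `j ↦ B_j` of `A`-algebras. Each of the
following properties, when it holds for every `Spec B_j → Spec A`, holds for `Spec B → Spec A`:
being a universal homeomorphism; being a universal homeomorphism with trivial residue field
extensions; being universally closed; being both universally closed and universally injective. -/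
theorem result (A : CommRingCat.{u}) {J : Type u} [SmallCategory J]
    [IsFiltered J] (F : J ⥤ Under A) (c : Limits.Cocone F) (hc : Limits.IsColimit c) :
    ((∀ j, FlatMor.IsUnivHomeo (Spec.map (F.obj j).hom)) → FlatMor.IsUnivHomeo (Spec.map c.pt.hom)) ∧
    ((∀ j, FlatMor.IsUnivHomeo (Spec.map (F.obj j).hom) ∧
        ∀ x : Spec (F.obj j).right, Function.Surjective ((Spec.map (F.obj j).hom).residueFieldMap x)) →
      FlatMor.IsUnivHomeo (Spec.map c.pt.hom) ∧
        ∀ x : Spec c.pt.right, Function.Surjective ((Spec.map c.pt.hom).residueFieldMap x)) ∧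
    ((∀ j, UniversallyClosed (Spec.map (F.obj j).hom)) → UniversallyClosed (Spec.map c.pt.hom)) ∧
    ((∀ j, UniversallyClosed (Spec.map (F.obj j).hom) ∧ UniversallyInjective (Spec.map (F.obj j).hom)) →
      UniversallyClosed (Spec.map c.pt.hom) ∧ UniversallyInjective (Spec.map c.pt.hom)) := by
  have hS := ColimUH.cat_surj A F c hc
  have hK := ColimUH.cat_ker A F c hc
  have hC := ColimUH.cat_comp A F c
  haveI : Nonempty J := IsFiltered.nonempty
  have tI := ColimUH.integral_colim c.pt.hom.hom (fun j => (F.obj j).right)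
    (fun j => (F.obj j).hom.hom) (fun j => (c.ι.app j).right.hom) hC hS
  have tU := ColimUH.pui_colim c.pt.hom.hom (fun j => (F.obj j).right)
    (fun j => (F.obj j).hom.hom) (fun j => (c.ι.app j).right.hom) hC hS
  have tK := ColimUH.pker_colim c.pt.hom.hom (fun j => (F.obj j).right)
    (fun j => (F.obj j).hom.hom) (fun j => (c.ι.app j).right.hom) hC hK
  have tR := ColimUH.pres_colim c.pt.hom.hom (fun j => (F.obj j).right)
    (fun j => (F.obj j).hom.hom) (fun j => (c.ι.app j).right.hom) hC hS
  have eUH : ∀ {B : CommRingCat.{u}} (φ : A ⟶ B), FlatMor.IsUnivHomeo (Spec.map φ) ↔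
      φ.hom.IsIntegral ∧ ColimUH.PUI φ.hom ∧ ColimUH.PKer φ.hom :=
    fun φ => ColimUH.univHomeo_iff φ.hom
  have eUC : ∀ {B : CommRingCat.{u}} (φ : A ⟶ B), UniversallyClosed (Spec.map φ) ↔
      φ.hom.IsIntegral := fun φ => ColimUH.univClosed_iff φ.hom
  have eUI : ∀ {B : CommRingCat.{u}} (φ : A ⟶ B), UniversallyInjective (Spec.map φ) ↔
      ColimUH.PUI φ.hom := fun φ => ColimUH.ui_iff φ.hom
  have eR1 : ∀ {B : CommRingCat.{u}} (φ : A ⟶ B), ColimUH.PRes φ.hom →
      ∀ x : Spec B, Function.Surjective ((Spec.map φ).residueFieldMap x) :=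
    fun φ h x => ColimUH.res_of_pres φ.hom h x
  have eR2 : ∀ {B : CommRingCat.{u}} (φ : A ⟶ B),
      (∀ x : Spec B, Function.Surjective ((Spec.map φ).residueFieldMap x)) → ColimUH.PRes φ.hom :=
    fun φ h => ColimUH.pres_of_res φ.hom h
  refine ⟨?_, ?_, ?_, ?_⟩
  · intro h
    rw [eUH]
    exact ⟨tI fun j => ((eUH _).1 (h j)).1, tU fun j => ((eUH _).1 (h j)).2.1,
      tK fun j => ((eUH _).1 (h j)).2.2⟩
  · intro h
    refine ⟨?_, ?_⟩
    · rw [eUH]
      exact ⟨tI fun j => ((eUH _).1 (h j).1).1, tU fun j => ((eUH _).1 (h j).1).2.1,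
        tK fun j => ((eUH _).1 (h j).1).2.2⟩
    · exact eR1 _ (tR fun j => eR2 _ (h j).2)
  · intro h
    rw [eUC]
    exact tI fun j => (eUC _).1 (h j)
  · intro h
    refine ⟨?_, ?_⟩
    · rw [eUC]
      exact tI fun j => (eUC _).1 (h j).1
    · rw [eUI]
      exact tU fun j => (eUI _).1 (h j).2

end Groth.Agent.S7405
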