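import Groth.Statements.S7406
import Mathlib

set_option autoImplicit false
universe u
open CategoryTheory AlgebraicGeometry
open Desc

namespace Groth.Agent.S7406

section Helpers
open AlgebraicGeometry CategoryTheory Limits

set_option backward.isDefEq.respectTransparency false in
theorem etale_residue7406 {V' V : Scheme.{u}} (b : V' ⟶ V) [Etale b] (v' : V') :
    Etale (Spec.map (b.residueFieldMap v')) := by
  rw [HasRingHomProperty.Spec_iff (P := @Etale)]
  algebraize [(b.stalkMap v').hom]
  have : IsLocalHom (algebraMap (V.presheaf.stalk (b v')) (V'.presheaf.stalk v')) :=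
    inferInstanceAs <| IsLocalHom (b.stalkMap v').hom
  have : Algebra.EssFiniteType (V.presheaf.stalk (b v')) (V'.presheaf.stalk v') := by
    rw [← RingHom.essFiniteType_algebraMap, RingHom.algebraMap_toAlgebra]
    exact LocallyOfFiniteType.stalkMap b v'
  have : Algebra.FormallyUnramified (V.presheaf.stalk (b v')) (V'.presheaf.stalk v') := by
    rw [← RingHom.formallyUnramified_algebraMap, RingHom.algebraMap_toAlgebra]
    exact FormallyUnramified.stalkMap b v'
  suffices h : Algebra.Etale (IsLocalRing.ResidueField (V.presheaf.stalk (b v')))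
      (IsLocalRing.ResidueField (V'.presheaf.stalk v')) by
    show @Algebra.Etale _ _ _ _ (b.residueFieldMap v').hom.toAlgebra
    convert! h
    refine Algebra.algebra_ext _ _ fun x ↦ ?_
    obtain ⟨x, rfl⟩ := IsLocalRing.residue_surjective x
    rfl
  haveI : Algebra.FormallyEtale (IsLocalRing.ResidueField (V.presheaf.stalk (b v')))
      (IsLocalRing.ResidueField (V'.presheaf.stalk v')) :=
    Algebra.FormallyEtale.of_isSeparable _ _
  haveI : Algebra.FinitePresentation (IsLocalRing.ResidueField (V.presheaf.stalk (b v')))
      (IsLocalRing.ResidueField (V'.presheaf.stalk v')) :=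
    Algebra.FinitePresentation.of_finiteType.mp inferInstance
  exact {}

set_option backward.isDefEq.respectTransparency false in
theorem main7406 {U U' V V' : Scheme.{u}} (h : U ⟶ V) (h' : U' ⟶ V') (a : U' ⟶ U)
    (b : V' ⟶ V) [Etale a] [Etale b] (comm : h' ≫ b = a ≫ h) (v' : V')
    (φ : h'.fiber v' ⟶ h.fiber (b v')) (hφ1 : φ ≫ h.fiberι (b v') = h'.fiberι v' ≫ a)
    (hφ2 : φ ≫ h.fiberToSpecResidueField (b v') =
      h'.fiberToSpecResidueField v' ≫ Spec.map (b.residueFieldMap v')) :
    Etale φ := by
  haveI := etale_residue7406 b v'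
  have er : V'.fromSpecResidueField v' ≫ b =
      Spec.map (b.residueFieldMap v') ≫ V.fromSpecResidueField (b v') :=
    (Scheme.Hom.SpecMap_residueFieldMap_fromSpecResidueField b v').symm
  let α : pullback h' (V'.fromSpecResidueField v') ⟶
      pullback (h' ≫ b) (V'.fromSpecResidueField v' ≫ b) :=
    pullback.map h' (V'.fromSpecResidueField v') (h' ≫ b) (V'.fromSpecResidueField v' ≫ b)
      (𝟙 _) (𝟙 _) b (Category.id_comp _).symm (Category.id_comp _).symm
  have hα : Etale α := by
    have sq := pullback_map_diagonal_isPullback h' (V'.fromSpecResidueField v') b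
    haveI : IsOpenImmersion α :=
      MorphismProperty.of_isPullback (P := @IsOpenImmersion) sq inferInstance
    infer_instance
  let β : pullback (h' ≫ b) (V'.fromSpecResidueField v' ≫ b) ⟶
      pullback h (V.fromSpecResidueField (b v')) :=
    pullback.map (h' ≫ b) (V'.fromSpecResidueField v' ≫ b) h (V.fromSpecResidueField (b v'))
      a (Spec.map (b.residueFieldMap v')) (𝟙 _)
      ((Category.comp_id _).trans comm) ((Category.comp_id _).trans er)
  have hβ : Etale β :=
    MorphismProperty.pullbackMap (P := @Etale) (inferInstance : Etale a)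
      (inferInstance : Etale (Spec.map (b.residueFieldMap v'))) comm er
  have hφ : φ = α ≫ β := by
    refine pullback.hom_ext (f := h) (g := V.fromSpecResidueField (b v')) ?_ ?_
    · refine hφ1.trans ?_
      simp [α, β, Scheme.Hom.fiberι]
    · refine hφ2.trans ?_
      simp [α, β, Scheme.Hom.fiberToSpecResidueField]
  rw [hφ]
  infer_instance

end Helpers

/-- Consider a commutative square of schemes with horizontal maps `h' : U' → V'`, `h : U → V` and étale
vertical maps `a : U' → U`, `b : V' → V`, and let `v' ∈ V'` with image `v = b(v')`. Then the induced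
morphism of fibres `U'_{v'} → U_v` is étale. (The morphism of fibres is characterised by its
compatibility with `a` and with `Spec κ(v') → Spec κ(v)`.) -/
theorem result {U U' V V' : Scheme.{u}} (h : U ⟶ V) (h' : U' ⟶ V') (a : U' ⟶ U)
    (b : V' ⟶ V) [Etale a] [Etale b] (comm : h' ≫ b = a ≫ h) (v' : V')
    (φ : h'.fiber v' ⟶ h.fiber (b v')) (hφ1 : φ ≫ h.fiberι (b v') = h'.fiberι v' ≫ a)
    (hφ2 : φ ≫ h.fiberToSpecResidueField (b v') = h'.fiberToSpecResidueField v' ≫ Spec.map (b.residueFieldMap v')) :
    Etale φ := by
  exact main7406 h h' a b comm v' φ hφ1 hφ2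

end Groth.Agent.S7406
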