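import Groth.Statements.S7407
import Mathlib

set_option autoImplicit false
universe u
open CategoryTheory AlgebraicGeometry
open Desc

namespace Groth.Agent.S7407

section Helpers
open AlgebraicGeometry CategoryTheory Limits

theorem trdeg_top7407 (K L M : Type u) [Field K] [Field L] [Field M] [Algebra K L] [Algebra L M]
    [Algebra K M] [IsScalarTower K L M] [Algebra.IsAlgebraic L M] :
    Algebra.trdeg K L = Algebra.trdeg K M := by
  have := trdeg_add_eq K L (A := M)
  rw [← this, trdeg_eq_zero (R := L) (A := M), add_zero]

theorem trdeg_bot7407 (K L M : Type u) [Field K] [Field L] [Field M] [Algebra K L] [Algebra L M]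
    [Algebra K M] [IsScalarTower K L M] [Algebra.IsAlgebraic K L] :
    Algebra.trdeg L M = Algebra.trdeg K M := by
  have := trdeg_add_eq K L (A := M)
  rw [← this, trdeg_eq_zero (R := K) (A := L), zero_add]

set_option backward.isDefEq.respectTransparency false in
theorem top7407 {U U' V : Scheme.{u}} (h : U ⟶ V) (a : U' ⟶ U) [Etale a] (u' : U') :
    @Algebra.trdeg (V.residueField (h (a u'))) (U.residueField (a u')) _ _
        (h.residueFieldMap (a u')).hom.toAlgebra =
      @Algebra.trdeg (V.residueField ((a ≫ h) u')) (U'.residueField u') _ _
        ((a ≫ h).residueFieldMap u').hom.toAlgebra := by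
  letI : Algebra (V.residueField (h (a u'))) (U.residueField (a u')) :=
    (h.residueFieldMap (a u')).hom.toAlgebra
  letI : Algebra (U.residueField (a u')) (U'.residueField u') :=
    (a.residueFieldMap u').hom.toAlgebra
  letI : Algebra (V.residueField (h (a u'))) (U'.residueField u') :=
    ((a ≫ h).residueFieldMap u').hom.toAlgebra
  haveI : IsScalarTower (V.residueField (h (a u'))) (U.residueField (a u'))
      (U'.residueField u') := IsScalarTower.of_algebraMap_eq' (by
    show ((a ≫ h).residueFieldMap u').hom =
      (a.residueFieldMap u').hom.comp (h.residueFieldMap (a u')).hom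
    rw [Scheme.residueFieldMap_comp]; rfl)
  haveI : Algebra.IsSeparable (U.residueField (a u')) (U'.residueField u') := inferInstance
  haveI : Algebra.IsAlgebraic (U.residueField (a u')) (U'.residueField u') := inferInstance
  exact trdeg_top7407 (V.residueField (h (a u'))) (U.residueField (a u'))
    (U'.residueField u')

set_option backward.isDefEq.respectTransparency false in
theorem bot7407 {U' V V' : Scheme.{u}} (h' : U' ⟶ V') (b : V' ⟶ V) [Etale b] (u' : U') :
    @Algebra.trdeg (V'.residueField (h' u')) (U'.residueField u') _ _
        (h'.residueFieldMap u').hom.toAlgebra =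
      @Algebra.trdeg (V.residueField ((h' ≫ b) u')) (U'.residueField u') _ _
        ((h' ≫ b).residueFieldMap u').hom.toAlgebra := by
  letI : Algebra (V.residueField (b (h' u'))) (V'.residueField (h' u')) :=
    (b.residueFieldMap (h' u')).hom.toAlgebra
  letI : Algebra (V'.residueField (h' u')) (U'.residueField u') :=
    (h'.residueFieldMap u').hom.toAlgebra
  letI : Algebra (V.residueField (b (h' u'))) (U'.residueField u') :=
    ((h' ≫ b).residueFieldMap u').hom.toAlgebra
  haveI : IsScalarTower (V.residueField (b (h' u'))) (V'.residueField (h' u'))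
      (U'.residueField u') := IsScalarTower.of_algebraMap_eq' (by
    show ((h' ≫ b).residueFieldMap u').hom =
      (h'.residueFieldMap u').hom.comp (b.residueFieldMap (h' u')).hom
    rw [Scheme.residueFieldMap_comp]; rfl)
  haveI : Algebra.IsSeparable (V.residueField (b (h' u'))) (V'.residueField (h' u')) :=
    inferInstance
  haveI : Algebra.IsAlgebraic (V.residueField (b (h' u'))) (V'.residueField (h' u')) :=
    inferInstance
  exact trdeg_bot7407 (V.residueField (b (h' u'))) (V'.residueField (h' u'))
    (U'.residueField u')

theorem mid7407 {U' V : Scheme.{u}} (c c' : U' ⟶ V) (hc : c = c') (u' : U') :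
    @Algebra.trdeg (V.residueField (c u')) (U'.residueField u') _ _
        (c.residueFieldMap u').hom.toAlgebra =
      @Algebra.trdeg (V.residueField (c' u')) (U'.residueField u') _ _
        (c'.residueFieldMap u').hom.toAlgebra := by
  subst hc; rfl

end Helpers

/-- The transcendence degree of the residue field extension `κ(x)/κ(s)` of a morphism of germs `(X, x) →
(S, s)` is étale local on the source-and-target: for a commutative square with horizontal maps `h' :
U' → V'`, `h : U → V`, étale vertical maps `a : U' → U`, `b : V' → V` and `u' ∈ U'` with `u =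
a(u')`, the transcendence degree of `κ(u)` over `κ(h(u))` equals that of `κ(u')` over `κ(h'(u'))`. -/
theorem result {U U' V V' : Scheme.{u}} (h : U ⟶ V) (h' : U' ⟶ V') (a : U' ⟶ U)
    (b : V' ⟶ V) [Etale a] [Etale b] (comm : h' ≫ b = a ≫ h) (u' : U') :
    @Algebra.trdeg (V.residueField (h (a u'))) (U.residueField (a u')) _ _ (h.residueFieldMap (a u')).hom.toAlgebra =
      @Algebra.trdeg (V'.residueField (h' u')) (U'.residueField u') _ _ (h'.residueFieldMap u').hom.toAlgebra := by
  exact (top7407 h a u').trans ((mid7407 _ _ comm.symm u').trans (bot7407 h' b u').symm)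

end Groth.Agent.S7407
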