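import Groth.Statements.S7412
import Mathlib

set_option autoImplicit false
universe u
open Desc

namespace Groth.Agent.S7412

open TensorProduct in
lemma key {R : Type u} [CommRing R] {M N P : Type u}
    [AddCommGroup M] [Module R M] [AddCommGroup N] [Module R N] [AddCommGroup P] [Module R P]
    (f : M →ₗ[R] N) (φ : P →ₗ[R] CharacterModule N) :
    CharacterModule.dual (f.lTensor P) (CharacterModule.homEquiv φ) =
      CharacterModule.homEquiv ((CharacterModule.dual f).comp φ) := by
  refine DFunLike.ext _ _ fun z => ?_
  induction z using TensorProduct.induction_on with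
  | zero => rw [map_zero, map_zero]
  | tmul p m => rfl
  | add x y hx hy => rw [map_add, map_add, hx, hy]

/-- Let `R` be a ring and `f : M → N` a map of `R`-modules. Then `f` is universally injective (`f ⊗ 1_P`
is injective for every `R`-module `P`; here `P` ranges over modules in the same universe, which
suffices) if and only if the map of character modules `C(N) → C(M)`, `C(-) = Hom_ℤ(-, ℚ/ℤ)`, is a
split surjection of `R`-modules. -/
theorem result {R : Type u} [CommRing R] {M N : Type u}
    [AddCommGroup M] [Module R M] [AddCommGroup N] [Module R N] (f : M →ₗ[R] N) :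
    (∀ (P : Type u) [AddCommGroup P] [Module R P], Function.Injective (f.lTensor P)) ↔
      ∃ g : CharacterModule M →ₗ[R] CharacterModule N, (CharacterModule.dual f).comp g = LinearMap.id := by
  constructor
  · intro h
    have h1 : Function.Surjective (CharacterModule.dual (f.lTensor (CharacterModule M))) :=
      CharacterModule.dual_surjective_iff_injective.2 (h (CharacterModule M))
    obtain ⟨d, hd⟩ := h1 (CharacterModule.homEquiv (LinearMap.id : CharacterModule M →ₗ[R] _))
    refine ⟨CharacterModule.homEquiv.symm d, ?_⟩
    apply CharacterModule.homEquiv.injective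
    rw [← key, LinearEquiv.apply_symm_apply, hd]
  · rintro ⟨g, hg⟩ P _ _
    rw [← CharacterModule.dual_surjective_iff_injective]
    intro c
    refine ⟨CharacterModule.homEquiv (g.comp (CharacterModule.homEquiv.symm c)), ?_⟩
    rw [key, ← LinearMap.comp_assoc, hg, LinearMap.id_comp, LinearEquiv.apply_symm_apply]

end Groth.Agent.S7412
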