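import Groth.Statements.S7415
-- import your own Groth.Agent.* helpers here

set_option autoImplicit false
universe u
open CategoryTheory AlgebraicGeometry
open Mor

namespace Groth.Agent.S7415

/-- Let `X` be a reduced scheme with finitely many irreducible components and `x ∈ X`. Then `x` has an
affine open neighbourhood `U` such that `O_X(U) → O_{X,x}` is injective. -/
theorem result (X : Scheme.{u}) [AlgebraicGeometry.IsReduced X]
    (hirr : (irreducibleComponents (X : Type u)).Finite) (x : X) : X.IsGermInjectiveAt x := by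
  classical
  -- the irreducible components not containing x
  set S : Set (Set X) := {Z ∈ irreducibleComponents (X : Type u) | x ∉ Z} with hS
  have hSfin : S.Finite := hirr.subset (fun Z hZ => hZ.1)
  have hclosed : IsClosed (⋃₀ S) := by
    rw [Set.sUnion_eq_biUnion]
    exact hSfin.isClosed_biUnion (fun Z hZ => isClosed_of_mem_irreducibleComponents Z hZ.1)
  let W : X.Opens := ⟨(⋃₀ S)ᶜ, hclosed.isOpen_compl⟩
  have hxW : x ∈ W := by
    change x ∈ (⋃₀ S)ᶜ
    rw [Set.mem_compl_iff, Set.mem_sUnion]
    rintro ⟨Z, hZ, hxZ⟩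
    exact hZ.2 hxZ
  obtain ⟨U, hU, hxU, hUW⟩ := exists_isAffineOpen_mem_and_subset hxW
  refine ⟨U, hxU, hU, ?_⟩
  rw [injective_iff_map_eq_zero]
  intro s hs
  have hs' : X.presheaf.germ U x hxU s = X.presheaf.germ U x hxU 0 := by rw [hs, map_zero]
  obtain ⟨V, hxV, iU, iV, hV⟩ := X.presheaf.germ_eq x hxU hxU s 0 hs'
  rw [map_zero] at hV
  have hbo : V ⊓ X.basicOpen s = ⊥ := by
    rw [← Scheme.basicOpen_res, hV, Scheme.basicOpen_zero]
  rw [← AlgebraicGeometry.basicOpen_eq_bot_iff]
  by_contra hne
  have hne' : (X.basicOpen s : Set X).Nonempty := by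
    rw [Set.nonempty_iff_ne_empty]
    intro h
    apply hne
    ext1
    exact h
  obtain ⟨y, hy⟩ := hne'
  have hyU : y ∈ U := X.basicOpen_le s hy
  -- the irreducible component of y contains x
  have hxZ : x ∈ irreducibleComponent y := by
    by_contra hcon
    have : y ∈ ⋃₀ S := Set.mem_sUnion.2
      ⟨irreducibleComponent y, ⟨irreducibleComponent_mem_irreducibleComponents y, hcon⟩,
        mem_irreducibleComponent⟩
    exact (hUW hyU) this
  have hirrZ : IsIrreducible (irreducibleComponent y) := isIrreducible_irreducibleComponent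
  obtain ⟨z, hzZ, hzV, hzs⟩ := hirrZ.2 (V : Set X) (X.basicOpen s : Set X) V.2 (X.basicOpen s).2
    ⟨x, hxZ, hxV⟩ ⟨y, mem_irreducibleComponent, hy⟩
  have : z ∈ V ⊓ X.basicOpen s := ⟨hzV, hzs⟩
  rw [hbo] at this
  exact this

end Groth.Agent.S7415
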