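import Groth.Statements.S7416
import Mathlib

set_option autoImplicit false
universe u
open CategoryTheory AlgebraicGeometry
open Mor

namespace Groth.Agent.S7416

/-- Let `U`, `V` be affine schemes and `W → U`, `W → V` open immersions. Then every `w ∈ W` has an open
neighbourhood `W' ⊆ W` whose images in `U` and in `V` are standard opens `D(f) ⊆ U`, `D(g) ⊆ V` (in
particular `W'` is affine). -/
theorem result {U V W : Scheme.{u}} [IsAffine U]
    [IsAffine V] (i : W ⟶ U) (j : W ⟶ V) [IsOpenImmersion i] [IsOpenImmersion j] (w : W) :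
    ∃ (W' : W.Opens) (f : Γ(U, ⊤)) (g : Γ(V, ⊤)), w ∈ W' ∧ i ''ᵁ W' = U.basicOpen f ∧ j ''ᵁ W' = V.basicOpen g := by
  have hUtop : IsAffineOpen (⊤ : U.Opens) := isAffineOpen_top U
  have hVtop : IsAffineOpen (⊤ : V.Opens) := isAffineOpen_top V
  obtain ⟨f₀, hf₀le, hf₀mem⟩ :=
    hUtop.exists_basicOpen_le (V := i.opensRange) ⟨i w, ⟨w, rfl⟩⟩ trivial
  obtain ⟨g₀, hg₀le, hg₀mem⟩ :=
    hVtop.exists_basicOpen_le (V := j.opensRange) ⟨j w, ⟨w, rfl⟩⟩ trivial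
  have hA : IsAffineOpen (i ⁻¹ᵁ U.basicOpen f₀) :=
    (hUtop.basicOpen f₀).preimage_of_isOpenImmersion i hf₀le
  have hB : IsAffineOpen (j ⁻¹ᵁ V.basicOpen g₀) :=
    (hVtop.basicOpen g₀).preimage_of_isOpenImmersion j hg₀le
  obtain ⟨a, b, hab, hwa⟩ := exists_basicOpen_le_affine_inter hA hB w ⟨hf₀mem, hg₀mem⟩
  have hiA : i ''ᵁ (i ⁻¹ᵁ U.basicOpen f₀) = U.basicOpen f₀ := by
    rw [i.image_preimage_eq_opensRange_inf, inf_eq_right.mpr hf₀le]
  have hjB : j ''ᵁ (j ⁻¹ᵁ V.basicOpen g₀) = V.basicOpen g₀ := by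
    rw [j.image_preimage_eq_opensRange_inf, inf_eq_right.mpr hg₀le]
  have key : ∀ (X : Scheme.{u}) (hX : IsAffineOpen (⊤ : X.Opens)) (f : Γ(X, ⊤)) (O : X.Opens)
      (hO : O = X.basicOpen f) (s : Γ(X, O)),
      ∃ f' : Γ(X, ⊤), X.basicOpen f' = X.basicOpen s := by
    intro X hX f O hO s
    subst hO
    exact hX.basicOpen_basicOpen_is_basicOpen f s
  obtain ⟨f', hf'⟩ := key U hUtop f₀ _ hiA ((i.appIso _).inv a)
  obtain ⟨g', hg'⟩ := key V hVtop g₀ _ hjB ((j.appIso _).inv b)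
  refine ⟨W.basicOpen a, f', g', hwa, ?_, ?_⟩
  · rw [Scheme.image_basicOpen, hf']
  · rw [hab, Scheme.image_basicOpen, hg']

end Groth.Agent.S7416
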