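import Groth.Statements.S7426
import Groth.Agent.H25.AWNSch5
open Groth.Agent.H25 Groth.Agent.H25.AWNSch

set_option autoImplicit false
universe u
open CategoryTheory AlgebraicGeometry
open HTop

namespace Groth.Agent.S7426

/-- For a scheme `X` the following are equivalent: `X` is absolutely weakly normal; `X^awn → X` is an
isomorphism (equivalently, the identity of `X` is an absolute weak normalization); every universal
homeomorphism `Y → X` with `Y` reduced is an isomorphism. -/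
theorem result (X : Scheme.{u}) :
    (HTop.IsAWN X ↔ HTop.IsAWNormalization (𝟙 X)) ∧
    (HTop.IsAWN X ↔ ∀ (Y : Scheme.{u}) (π : Y ⟶ X), FlatMor.IsUnivHomeo π → AlgebraicGeometry.IsReduced Y → IsIso π) := by
  have hb : HTop.IsAWN X ↔ ∀ (Y : Scheme.{u}) (π : Y ⟶ X), FlatMor.IsUnivHomeo π →
      AlgebraicGeometry.IsReduced Y → IsIso π := by
    constructor
    · intro hX Y π hπ hY
      exact isIso_of_isAWN hX π hπ
    · intro H
      haveI := H _ (ν X) (ν_uh X) inferInstance
      exact isAWN_of_iso (asIso (ν X)) (isAWN_Xawn X)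
  refine ⟨?_, hb⟩
  constructor
  · intro hX
    haveI : IsIso (ν X) := isIso_of_isAWN hX (ν X) (ν_uh X)
    refine ⟨uh_id X, fun Y π hπ => ?_⟩
    obtain ⟨h₀, hh₀, huniq⟩ := (ν_isAWNormalization X).2 Y π hπ
    refine ⟨inv (ν X) ≫ h₀, ?_, fun h' hh' => ?_⟩
    · show (inv (ν X) ≫ h₀) ≫ π = 𝟙 X
      rw [Category.assoc, hh₀, IsIso.inv_hom_id]
    · have hh'' : h' ≫ π = 𝟙 X := hh'
      have : ν X ≫ h' = h₀ := huniq _ (by
        show (ν X ≫ h') ≫ π = ν X
        rw [Category.assoc, hh'', Category.comp_id])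
      rw [← this, IsIso.inv_hom_id_assoc]
  · intro hid
    obtain ⟨h, hh, -⟩ := hid.2 _ (ν X) (ν_uh X)
    obtain ⟨k, -, kuniq⟩ := (ν_isAWNormalization X).2 _ (ν X) (ν_uh X)
    have hh' : h ≫ ν X = 𝟙 X := hh
    have e1 : ν X ≫ h = k := kuniq _ (by
      show (ν X ≫ h) ≫ ν X = ν X
      rw [Category.assoc, hh', Category.comp_id])
    have e2 : 𝟙 _ = k := kuniq _ (Category.id_comp _)
    haveI : IsIso (ν X) := ⟨h, by rw [e1, ← e2], hh'⟩
    exact isAWN_of_iso (asIso (ν X)) (isAWN_Xawn X)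

end Groth.Agent.S7426
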