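import Groth.Statements.S7440
import Mathlib
import Groth.Agent.Lib.Helper4.BddFibLib5

set_option autoImplicit false
universe u
open CategoryTheory AlgebraicGeometry
open BddFib

namespace Groth.Agent.S7440

/-- Let `f : X → Y` be étale and `n ≥ 0`. If for every field `k` and every `Spec k → Y` the base change
`X_k = Spec k ×_Y X` has finitely many, and at most `n`, points, then `n` bounds the degrees of the
fibres of `f`. (The converse implication holds for every morphism of schemes, étale or not, and is
not restated here.) -/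
theorem result {X Y : Scheme.{u}} (f : X ⟶ Y) [Etale f] (n : ℕ)
    (h : ∀ (k : Type u) [Field k] (g : Spec (CommRingCat.of k) ⟶ Y),
      Finite ↥(Limits.pullback f g) ∧ Nat.card ↥(Limits.pullback f g) ≤ n) :
    BddFib.FibreDegLE f n := by
  intro y
  obtain ⟨hfin, -⟩ := h (Y.residueField y) (Y.fromSpecResidueField y)
  haveI : Finite ↥(f.fiber y) := hfin
  haveI : Etale (f.fiberToSpecResidueField y) :=
    inferInstanceAs (Etale (Limits.pullback.snd f (Y.fromSpecResidueField y)))
  let φ : CommRingCat.of (Y.residueField y) ⟶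
      CommRingCat.of (AlgebraicClosure (Y.residueField y)) :=
    CommRingCat.ofHom (algebraMap (Y.residueField y) (AlgebraicClosure (Y.residueField y)))
  obtain ⟨hfin', hcard⟩ := h (AlgebraicClosure (Y.residueField y))
    (Spec.map φ ≫ Y.fromSpecResidueField y)
  have hbot : IsPullback (f.fiberι y) (f.fiberToSpecResidueField y) f
      (Y.fromSpecResidueField y) := IsPullback.of_hasPullback _ _
  have hP : IsPullback (Limits.pullback.fst f (Spec.map φ ≫ Y.fromSpecResidueField y))
      (Limits.pullback.snd f (Spec.map φ ≫ Y.fromSpecResidueField y)) f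
      (Spec.map φ ≫ Y.fromSpecResidueField y) := IsPullback.of_hasPullback _ _
  have hq1 : hbot.lift (Limits.pullback.fst f (Spec.map φ ≫ Y.fromSpecResidueField y))
      (Limits.pullback.snd f (Spec.map φ ≫ Y.fromSpecResidueField y) ≫ Spec.map φ)
      (by rw [hP.w, Category.assoc]) ≫ f.fiberι y =
      Limits.pullback.fst f (Spec.map φ ≫ Y.fromSpecResidueField y) := hbot.lift_fst _ _ _
  have hq2 : hbot.lift (Limits.pullback.fst f (Spec.map φ ≫ Y.fromSpecResidueField y))
      (Limits.pullback.snd f (Spec.map φ ≫ Y.fromSpecResidueField y) ≫ Spec.map φ)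
      (by rw [hP.w, Category.assoc]) ≫ f.fiberToSpecResidueField y =
      Limits.pullback.snd f (Spec.map φ ≫ Y.fromSpecResidueField y) ≫ Spec.map φ :=
    hbot.lift_snd _ _ _
  have hout : IsPullback (hbot.lift (Limits.pullback.fst f (Spec.map φ ≫ Y.fromSpecResidueField y))
      (Limits.pullback.snd f (Spec.map φ ≫ Y.fromSpecResidueField y) ≫ Spec.map φ)
      (by rw [hP.w, Category.assoc]) ≫ f.fiberι y)
      (Limits.pullback.snd f (Spec.map φ ≫ Y.fromSpecResidueField y)) f
      (Spec.map φ ≫ Y.fromSpecResidueField y) := by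
    rw [hq1]
    exact hP
  have htop := IsPullback.of_right hout hq2 hbot
  exact Groth.Agent.Helper4.BddFibLib.finiteOfDegLE_of_etale_of_card (Y.residueField y)
    (AlgebraicClosure (Y.residueField y)) φ (f.fiberToSpecResidueField y) _ _ htop n hfin' hcard

end Groth.Agent.S7440
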