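import Groth.Statements.S7453
import Mathlib
import Groth.Agent.Lib.Helper5.GrpdLib

set_option autoImplicit false
universe u
open CategoryTheory CategoryTheory.Limits AlgebraicGeometry
open Grpd

namespace Groth.Agent.S7453

section Aux
open Groth.Agent.Helper5.GrpdLib

variable {S : Scheme.{u}} (G : Grpd.GroupoidScheme S)

lemma eq_of_cmp_i_eq {T : Scheme.{u}} (ρ₁ ρ₂ : T ⟶ G.R) (h : ρ₁ ≫ G.s = (ρ₂ ≫ G.i) ≫ G.t)
    (υ : T ⟶ G.U) (h1 : cmp G ρ₁ (ρ₂ ≫ G.i) h = υ ≫ G.e) (h2 : ρ₂ ≫ G.t = υ) : ρ₁ = ρ₂ := by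
  have h' : cmp G ρ₁ (ρ₂ ≫ G.i) h ≫ G.s = ρ₂ ≫ G.t := by rw [cmp_s, Category.assoc, G.i_s]
  have e1 := cmp_i_cmp' ρ₁ ρ₂ h h'
  have e2 : cmp G (cmp G ρ₁ (ρ₂ ≫ G.i) h) ρ₂ h' = ρ₂ :=
    e_cmp _ _ (by rw [h1, ← h2, Category.assoc]) _
  exact e1.symm.trans e2

lemma hγ : pullback.fst G.s G.s ≫ G.s = (pullback.snd G.s G.s ≫ G.i) ≫ G.t := by
  rw [Category.assoc, G.i_t, pullback.condition]

lemma isPullback_diag_s :
    IsPullback (pullback.diagonal G.s) G.t
      (cmp G (pullback.fst G.s G.s) (pullback.snd G.s G.s ≫ G.i) (hγ G)) G.e := by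
  have w : pullback.diagonal G.s ≫
      cmp G (pullback.fst G.s G.s) (pullback.snd G.s G.s ≫ G.i) (hγ G) = G.t ≫ G.e := by
    rw [comp_cmp]
    exact (cmp_congr (pullback.diagonal_fst G.s)
      (by rw [← Category.assoc, pullback.diagonal_snd]) _).trans
      ((cmp_i (𝟙 G.R) (𝟙 G.R ≫ G.i) rfl _).trans (Category.id_comp _))
  have hk : ∀ k : PullbackCone
      (cmp G (pullback.fst G.s G.s) (pullback.snd G.s G.s ≫ G.i) (hγ G)) G.e,
      k.fst ≫ pullback.fst G.s G.s = k.fst ≫ pullback.snd G.s G.s ∧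
        (k.fst ≫ pullback.snd G.s G.s) ≫ G.t = k.snd := by
    intro k
    have c1 := k.condition
    rw [comp_cmp] at c1
    have c2 : (k.fst ≫ pullback.snd G.s G.s) ≫ G.t = k.snd := by
      have := congrArg (fun x => x ≫ G.s) c1
      simp only [Category.assoc, G.e_s, Category.comp_id] at this
      rw [← this, cmp_s]
      simp only [Category.assoc, G.i_s]
    refine ⟨eq_of_cmp_i_eq G _ _ ?_ k.snd ?_ c2, c2⟩
    · rw [Category.assoc, Category.assoc, G.i_t, Category.assoc, pullback.condition]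
    · exact (cmp_congr rfl (Category.assoc _ _ _).symm _).trans c1
  refine ⟨⟨w⟩, ⟨PullbackCone.IsLimit.mk w (fun k => k.fst ≫ pullback.fst G.s G.s) ?_ ?_ ?_⟩⟩
  · intro k
    apply pullback.hom_ext
    · rw [Category.assoc, pullback.diagonal_fst, Category.comp_id]
    · rw [Category.assoc, pullback.diagonal_snd, Category.comp_id, (hk k).1]
  · intro k
    rw [(hk k).1]
    exact (hk k).2
  · intro k m hm1 hm2
    rw [← hm1, Category.assoc, pullback.diagonal_fst, Category.comp_id]

end Aux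

/-- Let (U, R, s, t, c) be a groupoid scheme over S with U the spectrum of a field. Then R is a
separated scheme. (A groupoid scheme carries U, R, s, t, c, e, i over S with the groupoid axioms on
T-points; c is defined on the fibre product of s and t and sends a pair (a, b) with s(a) = t(b) to a
composed with b.) -/
theorem result (S : Scheme.{u}) (G : Grpd.GroupoidScheme S) (k : Type u) [Field k] (eU : G.U ≅ Spec (CommRingCat.of k)) : G.R.IsSeparated := by
  haveI : Subsingleton (Spec (CommRingCat.of k)) :=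
    (inferInstance : Subsingleton (PrimeSpectrum k))
  haveI : Subsingleton G.U := eU.hom.homeomorph.subsingleton
  haveI : IsClosedImmersion G.e := isClosedImmersion_of_comp_eq_id G.s G.e G.e_s
  haveI : IsSeparated G.s :=
    ⟨MorphismProperty.of_isPullback (P := @IsClosedImmersion) (isPullback_diag_s G).flip
      inferInstance⟩
  haveI : IsAffine G.U := IsAffine.of_isIso eU.hom
  refine ⟨?_⟩
  rw [← terminal.comp_from G.s]
  infer_instance

end Groth.Agent.S7453
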