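import Groth.Statements.S7456
import Mathlib
import Groth.Agent.Lib.Helper5.GrpdLib

set_option autoImplicit false
universe u
open CategoryTheory CategoryTheory.Limits AlgebraicGeometry
open Grpd

namespace Groth.Agent.S7456

/-- Let (U, R, s, t, c) be a groupoid scheme over S. For every subset W of U, the subset t(s^{-1}(W)) is
set-theoretically R-invariant: its preimages under s and t coincide. If moreover s and t are open
maps and quasi-compact, then U is covered by R-invariant quasi-compact open subsets. (The published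
statement also asserts that this set is open when W is open and s, t are open maps; this row omits
that clause.) (A groupoid scheme carries U, R, s, t, c, e, i over S with the groupoid axioms on
T-points; c is defined on the fibre product of s and t and sends a pair (a, b) with s(a) = t(b) to a
composed with b.) -/
theorem result (S : Scheme.{u}) (G : Grpd.GroupoidScheme S) : (∀ W : Set G.U, ⇑G.s ⁻¹' (⇑G.t '' (⇑G.s ⁻¹' W)) = ⇑G.t ⁻¹' (⇑G.t '' (⇑G.s ⁻¹' W))) ∧ (IsOpenMap ⇑G.s → IsOpenMap ⇑G.t → QuasiCompact G.s → QuasiCompact G.t → ∀ u : G.U, ∃ W : G.U.Opens, IsCompact (W : Set G.U) ∧ u ∈ W ∧ G.s ⁻¹ᵁ W = G.t ⁻¹ᵁ W) := by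
  have hcs : ∀ z : ↑(pullback G.s G.t), G.s (G.c z) = G.s (pullback.snd G.s G.t z) := fun z =>
    (Scheme.Hom.comp_apply G.c G.s z).symm.trans
      ((congrArg (fun f : pullback G.s G.t ⟶ G.U => f z) Groth.Agent.Helper5.GrpdLib.c_s).trans
        (Scheme.Hom.comp_apply _ _ z))
  have hct : ∀ z : ↑(pullback G.s G.t), G.t (G.c z) = G.t (pullback.fst G.s G.t z) := fun z =>
    (Scheme.Hom.comp_apply G.c G.t z).symm.trans
      ((congrArg (fun f : pullback G.s G.t ⟶ G.U => f z) Groth.Agent.Helper5.GrpdLib.c_t).trans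
        (Scheme.Hom.comp_apply _ _ z))
  have his : ∀ r : G.R, G.s (G.i r) = G.t r := fun r =>
    (Scheme.Hom.comp_apply G.i G.s r).symm.trans (congrArg (fun f : G.R ⟶ G.U => f r) G.i_s)
  have hit : ∀ r : G.R, G.t (G.i r) = G.s r := fun r =>
    (Scheme.Hom.comp_apply G.i G.t r).symm.trans (congrArg (fun f : G.R ⟶ G.U => f r) G.i_t)
  have hes : ∀ u : G.U, G.s (G.e u) = u := fun u =>
    (Scheme.Hom.comp_apply G.e G.s u).symm.trans
      ((congrArg (fun f : G.U ⟶ G.U => f u) G.e_s).trans (by simp))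
  have het : ∀ u : G.U, G.t (G.e u) = u := fun u =>
    (Scheme.Hom.comp_apply G.e G.t u).symm.trans
      ((congrArg (fun f : G.U ⟶ G.U => f u) G.e_t).trans (by simp))
  have part1 : ∀ W : Set G.U, ⇑G.s ⁻¹' (⇑G.t '' (⇑G.s ⁻¹' W)) = ⇑G.t ⁻¹' (⇑G.t '' (⇑G.s ⁻¹' W)) := by
    intro W
    ext r
    simp only [Set.mem_preimage, Set.mem_image]
    constructor
    · rintro ⟨r', hr'W, hr'⟩
      obtain ⟨z, hz1, hz2⟩ := Scheme.Pullback.exists_preimage_pullback (f := G.s) (g := G.t) r r'
        hr'.symm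
      refine ⟨G.c z, ?_, ?_⟩
      · rw [hcs, hz2]; exact hr'W
      · rw [hct, hz1]
    · rintro ⟨r', hr'W, hr'⟩
      obtain ⟨z, hz1, hz2⟩ := Scheme.Pullback.exists_preimage_pullback (f := G.s) (g := G.t)
        (G.i r) r' (by rw [his, hr'])
      refine ⟨G.c z, ?_, ?_⟩
      · rw [hcs, hz2]; exact hr'W
      · rw [hct, hz1, hit]
  refine ⟨part1, ?_⟩
  intro hs ht _ _ u
  obtain ⟨V, hVaff, huV⟩ : ∃ V : G.U.Opens, IsAffineOpen V ∧ u ∈ V := by
    obtain ⟨_, ⟨V, hV, rfl⟩, huV, -⟩ :=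
      G.U.isBasis_affineOpens.exists_subset_of_mem_open (Set.mem_univ u) isOpen_univ
    exact ⟨V, hV, huV⟩
  refine ⟨⟨⇑G.t '' (⇑G.s ⁻¹' (V : Set G.U)), ht _ (V.2.preimage G.s.continuous)⟩, ?_, ?_, ?_⟩
  · exact (G.s.isCompact_preimage hVaff.isCompact).image G.t.continuous
  · exact ⟨G.e u, by show G.s (G.e u) ∈ (V : Set G.U); rw [hes]; exact huV, het u⟩
  · exact TopologicalSpace.Opens.ext (part1 (V : Set G.U))

end Groth.Agent.S7456
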