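import Groth.Statements.S7459
import Groth.Agent.H28.GrpShear

set_option autoImplicit false
universe u
open CategoryTheory MonoidalCategory CartesianMonoidalCategory MonObj GrpObj AlgebraicGeometry
open GrpSch

namespace Groth.Agent.S7459

/-- Let G be a group scheme over a field k, W an open subscheme of G and f : T -> G a morphism of
schemes (T becomes a k-scheme through f). Then the image of the composition T x_k W -> G x_k G -> G,
the second map being the multiplication, is open. -/
theorem result (K : Type u) [Field K] (G : Over (Spec (CommRingCat.of K))) [GrpObj G] (W : G.left.Opens) (T : Scheme.{u}) (f : T ⟶ G.left) : IsOpen (Set.range ⇑(((Over.homMk f rfl : Over.mk (f ≫ G.hom) ⟶ G) ⊗ₘ (Over.homMk W.ι rfl : Over.mk (W.ι ≫ G.hom) ⟶ G)) ≫ μ[G]).left) := by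
  have hopen : UniversallyOpen G.hom := inferInstance
  set T : Over (Spec (CommRingCat.of K)) := Over.mk (f ≫ G.hom) with hT
  set W' : Over (Spec (CommRingCat.of K)) := Over.mk (W.ι ≫ G.hom) with hW'
  set a : T ⟶ G := Over.homMk f rfl with ha
  set b : W' ⟶ G := Over.homMk W.ι rfl with hb
  have e : (a ⊗ₘ b) ≫ μ[G] = (T ◁ b) ≫ Groth.Agent.H28.GrpShear.shear a ≫ snd T G := by
    rw [tensorHom_def', Category.assoc, Groth.Agent.H28.GrpShear.whiskerRight_mul]
  rw [e, Over.comp_left, Over.comp_left, Over.snd_left]
  have : IsIso (Groth.Agent.H28.GrpShear.shear a).left :=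
    (Over.forget _).map_isIso (Groth.Agent.H28.GrpShear.shear a)
  have hTo : UniversallyOpen T.hom := inferInstance
  have h1 : IsOpenImmersion (T ◁ b).left := by
    rw [Over.whiskerLeft_left]
    exact MorphismProperty.pullbackMap (P := @IsOpenImmersion) (inferInstance : IsOpenImmersion (𝟙 T.left))
      (inferInstance : IsOpenImmersion W.ι) (Category.id_comp _).symm (Over.w b).symm
  exact (Scheme.Hom.isOpenMap _).isOpen_range


end Groth.Agent.S7459
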