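import Groth.Statements.S7461
import Mathlib
import Groth.Agent.Lib.Helper5.GrpdLib

set_option autoImplicit false
universe u
open CategoryTheory CategoryTheory.Limits AlgebraicGeometry
open Grpd

namespace Groth.Agent.S7461

section Aux
open Groth.Agent.Helper5.GrpdLib
variable {S : Scheme.{u}} {G : Grpd.GroupoidScheme S}

lemma i_i : G.i ≫ G.i = 𝟙 G.R := by
  have h1 : (G.i ≫ G.i) ≫ G.s = G.i ≫ G.t := by rw [Category.assoc, G.i_s]
  have h2 : G.i ≫ G.s = 𝟙 G.R ≫ G.t := by rw [G.i_s, Category.id_comp]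
  have hA := cmp_assoc (G.i ≫ G.i) G.i (𝟙 G.R) h1 h2
  have e1 : cmp G (G.i ≫ G.i) G.i h1 = G.t ≫ G.e :=
    (i_cmp _ _ rfl h1).trans (by rw [← Category.assoc, G.i_s])
  have e2 : cmp G (cmp G (G.i ≫ G.i) G.i h1) (𝟙 G.R) ((cmp_s _ _ h1).trans h2) = 𝟙 G.R := by
    refine (cmp_congr e1 rfl _).trans ?_
    exact e_cmp _ _ (by rw [Category.id_comp]) _
  have e3 : cmp G G.i (𝟙 G.R) h2 = G.s ≫ G.e :=
    (i_cmp _ _ (Category.id_comp _).symm h2).trans (Category.id_comp _)
  have e4 : cmp G (G.i ≫ G.i) (cmp G G.i (𝟙 G.R) h2) (h1.trans (cmp_t _ _ h2).symm) =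
      G.i ≫ G.i := by
    refine (cmp_congr rfl e3 _).trans ?_
    exact cmp_e _ _ (by
      rw [Category.assoc, ← Category.assoc G.i G.s, G.i_s, ← Category.assoc, G.i_t]) _
  exact e4.symm.trans (hA.symm.trans e2)

lemma finrank_s_t [Flat G.s] [IsFinite G.s] (x : G.R) :
    G.s.finrank (G.t x) = G.s.finrank (G.s x) := by
  have h1 := Scheme.Hom.finrank_of_isPullback _ _ _ _ (isPullback_c_snd (G := G)) x
  have h2 := Scheme.Hom.finrank_pullback_snd G.s G.t x
  rw [← h2, h1]

theorem aux (S : Scheme.{u}) (G : Grpd.GroupoidScheme S) [IsFinite G.s] [Flat G.s]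
    [LocallyOfFinitePresentation G.s] [IsFinite G.t] [Flat G.t]
    [LocallyOfFinitePresentation G.t] :
    ∃ V : ℕ → G.U.Opens, V 0 = ⊥ ∧ (∀ r r', r ≠ r' → Disjoint (V r) (V r')) ∧
      (⨆ r, V r) = ⊤ ∧ ∀ r, G.s ⁻¹ᵁ V r = G.t ⁻¹ᵁ V r ∧
        Mor2.IsFinLocFreeOfDeg r (G.s ∣_ V r) ∧ Mor2.IsFinLocFreeOfDeg r (G.t ∣_ V r) := by
  have hlc := Scheme.Hom.isLocallyConstant_finrank G.s
  obtain ⟨V, hV⟩ : ∃ V : ℕ → G.U.Opens, ∀ r u, u ∈ V r ↔ G.s.finrank u = r :=
    ⟨fun r => ⟨{u | G.s.finrank u = r}, hlc.isOpen_fiber r⟩, fun r u => Iff.rfl⟩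
  have hpos : ∀ u : G.U, 1 ≤ G.s.finrank u := by
    intro u
    have h := Scheme.Hom.one_le_finrank_map G.s (G.e u)
    have e : G.s (G.e u) = u := by rw [← Scheme.Hom.comp_apply, G.e_s]; rfl
    rwa [e] at h
  haveI : IsIso G.i := ⟨⟨G.i, i_i, i_i⟩⟩
  have hts : G.t.finrank = G.s.finrank := by
    rw [← G.i_s]; exact Scheme.Hom.finrank_comp_left_of_isIso G.i G.s
  refine ⟨V, ?_, ?_, ?_, ?_⟩
  · rw [eq_bot_iff]
    intro u hu
    have h0 := (hV 0 u).mp hu
    have h1 := hpos u
    omega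
  · intro r r' hrr'
    rw [disjoint_iff_inf_le]
    intro u hu
    exact absurd (((hV r u).mp hu.1).symm.trans ((hV r' u).mp hu.2)) hrr'
  · rw [eq_top_iff]
    intro u _
    exact TopologicalSpace.Opens.mem_iSup.mpr ⟨G.s.finrank u, (hV _ u).mpr rfl⟩
  · intro r
    refine ⟨?_, ?_, ?_⟩
    · apply le_antisymm
      · intro x hx
        show G.t x ∈ V r
        have hx' : G.s x ∈ V r := hx
        rw [hV] at hx' ⊢
        rw [finrank_s_t, hx']
      · intro x hx
        show G.s x ∈ V r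
        have hx' : G.t x ∈ V r := hx
        rw [hV] at hx' ⊢
        rw [← finrank_s_t, hx']
    · refine ⟨⟨inferInstance, inferInstance, inferInstance⟩, ?_⟩
      intro y
      rw [Scheme.Hom.finrank_of_isPullback _ _ _ _ (isPullback_morphismRestrict G.s (V r)).flip y]
      exact (hV r _).mp y.2
    · refine ⟨⟨inferInstance, inferInstance, inferInstance⟩, ?_⟩
      intro y
      rw [Scheme.Hom.finrank_of_isPullback _ _ _ _ (isPullback_morphismRestrict G.t (V r)).flip y,
        hts]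
      exact (hV r _).mp y.2

end Aux

/-- Let (U, R, s, t, c) be a groupoid scheme over S with s and t finite locally free. Then U is a
disjoint union of R-invariant open subschemes U_r, r = 1, 2, 3, ..., such that s and t restricted
over U_r are finite locally free of rank r. Here the decomposition is indexed by all natural numbers
with U_0 empty, R-invariance of U_r means s^{-1}(U_r) = t^{-1}(U_r), and 'finite locally free of
rank r' means finite, flat, locally of finite presentation with rank function constant equal to r.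
(A groupoid scheme carries U, R, s, t, c, e, i over S with the groupoid axioms on T-points; c is
defined on the fibre product of s and t and sends a pair (a, b) with s(a) = t(b) to a composed with
b.) -/
theorem result (S : Scheme.{u}) (G : Grpd.GroupoidScheme S) [IsFinite G.s] [Flat G.s] [LocallyOfFinitePresentation G.s] [IsFinite G.t] [Flat G.t] [LocallyOfFinitePresentation G.t] : ∃ V : ℕ → G.U.Opens, V 0 = ⊥ ∧ (∀ r r', r ≠ r' → Disjoint (V r) (V r')) ∧ (⨆ r, V r) = ⊤ ∧ ∀ r, G.s ⁻¹ᵁ V r = G.t ⁻¹ᵁ V r ∧ Mor2.IsFinLocFreeOfDeg r (G.s ∣_ V r) ∧ Mor2.IsFinLocFreeOfDeg r (G.t ∣_ V r) := by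
  exact aux S G

end Groth.Agent.S7461
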