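import Mathlib
import Groth.Statements.S7492
import Groth.Agent.S2516
import Groth.Agent.S13044
-- import your own Groth.Agent.* helpers here

set_option autoImplicit false
universe u
open CategoryTheory CategoryTheory.Limits AlgebraicGeometry
open Grpd

namespace Groth.Agent.S7492


variable {S : Scheme.{u}}

lemma lift_c_congr (G : GroupoidScheme S) {T : Scheme.{u}} {α α' β β' : T ⟶ G.R}
    (hα : α = α') (hβ : β = β')
    (h : α ≫ G.s = β ≫ G.t) (h' : α' ≫ G.s = β' ≫ G.t) :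
    pullback.lift α β h ≫ G.c = pullback.lift α' β' h' ≫ G.c := by
  subst hα hβ; rfl

/-- idempotent arrows are identities -/
lemma idem_eq (G : GroupoidScheme S) {T : Scheme.{u}} (ε : T ⟶ G.R) (h : ε ≫ G.s = ε ≫ G.t)
    (hε : pullback.lift ε ε h ≫ G.c = ε) : ε = ε ≫ G.t ≫ G.e := by
  have hi : ε ≫ G.s = (ε ≫ G.i) ≫ G.t := by rw [Category.assoc, G.i_t]
  have h1 := G.comp_i ε
  have h2 := G.assoc ε ε (ε ≫ G.i) h hi
  have h3 : pullback.lift (pullback.lift ε ε h ≫ G.c) (ε ≫ G.i)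
      ((G.comp_s ε ε h).trans hi) ≫ G.c = ε ≫ G.t ≫ G.e :=
    (lift_c_congr G hε rfl _ _).trans h1
  have h4 : pullback.lift ε (pullback.lift ε (ε ≫ G.i) hi ≫ G.c)
      (h.trans (G.comp_t ε (ε ≫ G.i) hi).symm) ≫ G.c = ε :=
    (lift_c_congr G rfl (h1.trans (by rw [← Category.assoc, ← h, Category.assoc])) _ _).trans
      (G.comp_e ε)
  exact h4.symm.trans (h2.symm.trans h3)

/-- uniqueness of inverses -/
lemma inv_unique (G : GroupoidScheme S) {T : Scheme.{u}} (x y : T ⟶ G.R)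
    (h : x ≫ G.s = y ≫ G.t)
    (hxy : pullback.lift x y h ≫ G.c = y ≫ G.s ≫ G.e) : x = y ≫ G.i := by
  have hy : y ≫ G.s = (y ≫ G.i) ≫ G.t := by rw [Category.assoc, G.i_t]
  have h2 := G.assoc x y (y ≫ G.i) h hy
  have h3 : pullback.lift (pullback.lift x y h ≫ G.c) (y ≫ G.i)
      ((G.comp_s x y h).trans hy) ≫ G.c = y ≫ G.i :=
    (lift_c_congr G (hxy.trans (by rw [Category.assoc, ← Category.assoc G.i G.t G.e, G.i_t]))
      rfl _ _).trans (G.e_comp (y ≫ G.i))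
  have h4 : pullback.lift x (pullback.lift y (y ≫ G.i) hy ≫ G.c)
      (h.trans (G.comp_t y (y ≫ G.i) hy).symm) ≫ G.c = x :=
    (lift_c_congr G rfl ((G.comp_i y).trans (by rw [← Category.assoc, ← h, Category.assoc]))
      _ _).trans (G.comp_e x)
  exact h4.symm.trans (h2.symm.trans h3)

lemma hom_e {G₁ G₂ : GroupoidScheme S} (f : GroupoidScheme.Hom G₁ G₂) :
    G₁.e ≫ f.fR = f.fU ≫ G₂.e := by
  have hs : (G₁.e ≫ f.fR) ≫ G₂.s = f.fU := by
    rw [Category.assoc, f.comm_s, ← Category.assoc, G₁.e_s, Category.id_comp]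
  have ht : (G₁.e ≫ f.fR) ≫ G₂.t = f.fU := by
    rw [Category.assoc, f.comm_t, ← Category.assoc, G₁.e_t, Category.id_comp]
  have hst : G₁.e ≫ G₁.s = G₁.e ≫ G₁.t := by rw [G₁.e_s, G₁.e_t]
  have hee : pullback.lift G₁.e G₁.e hst ≫ G₁.c = G₁.e :=
    (lift_c_congr G₁ rfl (by rw [← Category.assoc, G₁.e_s, Category.id_comp]) _ _).trans
      (G₁.comp_e G₁.e)
  have hc := f.comm_c G₁.e G₁.e hst
  rw [hee] at hc
  have hid := idem_eq G₂ (G₁.e ≫ f.fR) (hs.trans ht.symm) hc.symm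
  calc G₁.e ≫ f.fR = (G₁.e ≫ f.fR) ≫ G₂.t ≫ G₂.e := hid
    _ = f.fU ≫ G₂.e := by rw [← Category.assoc, ht]

lemma hom_i {G₁ G₂ : GroupoidScheme S} (f : GroupoidScheme.Hom G₁ G₂) :
    G₁.i ≫ f.fR = f.fR ≫ G₂.i := by
  have h : (G₁.i ≫ f.fR) ≫ G₂.s = f.fR ≫ G₂.t := by
    rw [Category.assoc, f.comm_s, ← Category.assoc, G₁.i_s, f.comm_t]
  apply inv_unique G₂ (G₁.i ≫ f.fR) f.fR h
  have h0 : G₁.i ≫ G₁.s = 𝟙 G₁.R ≫ G₁.t := by rw [G₁.i_s, Category.id_comp]
  have hc := f.comm_c G₁.i (𝟙 G₁.R) h0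
  have h1 := G₁.i_comp (𝟙 G₁.R)
  have h1' : pullback.lift G₁.i (𝟙 G₁.R) h0 ≫ G₁.c = G₁.s ≫ G₁.e :=
    (lift_c_congr G₁ (Category.id_comp _).symm rfl _ _).trans (h1.trans (Category.id_comp _))
  rw [h1'] at hc
  calc pullback.lift (G₁.i ≫ f.fR) f.fR h ≫ G₂.c
      = pullback.lift (G₁.i ≫ f.fR) (𝟙 G₁.R ≫ f.fR)
          (by rw [Category.id_comp]; exact h) ≫ G₂.c :=
        lift_c_congr G₂ rfl (Category.id_comp _).symm _ _
    _ = (G₁.s ≫ G₁.e) ≫ f.fR := hc.symm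
    _ = f.fR ≫ G₂.s ≫ G₂.e := by
        rw [Category.assoc, hom_e f, ← Category.assoc, ← f.comm_s, Category.assoc]

/-- Let (U, R_1, s_1, t_1, c_1) -> (U, R_2, s_2, t_2, c_2) be a morphism of groupoid schemes over S that
is an isomorphism on object schemes, where U is the spectrum of a field, and assume a : R_1 -> R_2
is quasi-compact. Let Z be the scheme-theoretic image of a (the closed subscheme of R_2 cut out by
the kernel ideal sheaf of a). Then (U, Z, s_2|_Z, t_2|_Z, c_2|_Z) is a groupoid scheme over S;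
stated as: there are a groupoid scheme G' over S and a morphism of groupoid schemes G' -> (U, R_2,
...) which is an isomorphism on object schemes and whose arrow component is a closed immersion with
kernel ideal sheaf equal to that of a. (A groupoid scheme carries U, R, s, t, c, e, i over S with
the groupoid axioms on T-points; c is defined on the fibre product of s and t and sends a pair (a,
b) with s(a) = t(b) to a composed with b.) -/
theorem result (S : Scheme.{u}) (G₁ G₂ : Grpd.GroupoidScheme S) (f : Grpd.GroupoidScheme.Hom G₁ G₂) [IsIso f.fU] [QuasiCompact f.fR] (k : Type u) [Field k] (eU : G₂.U ≅ Spec (CommRingCat.of k)) : ∃ (G' : Grpd.GroupoidScheme S) (ψ : Grpd.GroupoidScheme.Hom G' G₂), IsIso ψ.fU ∧ IsClosedImmersion ψ.fR ∧ ψ.fR.ker = f.fR.ker := by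
  haveI hstd : IsSchemeTheoreticallyDominant f.fR.toImage :=
    ⟨Groth.Agent.S2516.ker_toImage_eq_bot f.fR⟩
  obtain ⟨Z, ι, q, hιcl, hqι, hqd, hqqc, hker⟩ : ∃ (Z : Scheme.{u}) (ι : Z ⟶ G₂.R) (q : G₁.R ⟶ Z),
      IsClosedImmersion ι ∧ q ≫ ι = f.fR ∧ IsSchemeTheoreticallyDominant q ∧ QuasiCompact q ∧
      ι.ker = f.fR.ker :=
    ⟨f.fR.image, f.fR.imageι, f.fR.toImage, inferInstance, f.fR.toImage_imageι, hstd,
      inferInstance, Scheme.IdealSheafData.ker_subschemeι _⟩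
  haveI := hιcl
  haveI := hqd
  haveI := hqqc
  have hflat : ∀ {Y : Scheme.{u}} (g : Y ⟶ G₂.U), Flat g := by
    intro Y g
    have : g = (g ≫ eU.hom) ≫ eU.inv := by rw [Category.assoc, eU.hom_inv_id, Category.comp_id]
    rw [this]; infer_instance
  obtain ⟨s', hs'⟩ : ∃ s' : Z ⟶ G₂.U, s' = ι ≫ G₂.s := ⟨_, rfl⟩
  obtain ⟨t', ht'⟩ : ∃ t' : Z ⟶ G₂.U, t' = ι ≫ G₂.t := ⟨_, rfl⟩
  obtain ⟨s₁, hs₁⟩ : ∃ s₁ : G₁.R ⟶ G₂.U, s₁ = G₁.s ≫ f.fU := ⟨_, rfl⟩
  obtain ⟨t₁, ht₁⟩ : ∃ t₁ : G₁.R ⟶ G₂.U, t₁ = G₁.t ≫ f.fU := ⟨_, rfl⟩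
  have hqs : q ≫ s' = s₁ := by rw [hs', hs₁, ← Category.assoc, hqι, f.comm_s]
  have hqt : q ≫ t' = t₁ := by rw [ht', ht₁, ← Category.assoc, hqι, f.comm_t]
  haveI : Flat t₁ := hflat _
  haveI : Flat s' := hflat _
  obtain ⟨m₁, hm₁f, hm₁s⟩ : ∃ m₁ : pullback s₁ t₁ ⟶ pullback s' t₁,
      m₁ ≫ pullback.fst s' t₁ = pullback.fst s₁ t₁ ≫ q ∧
      m₁ ≫ pullback.snd s' t₁ = pullback.snd s₁ t₁ :=
    ⟨pullback.lift (pullback.fst s₁ t₁ ≫ q) (pullback.snd s₁ t₁)
      (by rw [Category.assoc, hqs, pullback.condition]),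
      pullback.lift_fst _ _ _, pullback.lift_snd _ _ _⟩
  obtain ⟨m₂, hm₂f, hm₂s⟩ : ∃ m₂ : pullback s' t₁ ⟶ pullback s' t',
      m₂ ≫ pullback.fst s' t' = pullback.fst s' t₁ ∧
      m₂ ≫ pullback.snd s' t' = pullback.snd s' t₁ ≫ q :=
    ⟨pullback.lift (pullback.fst s' t₁) (pullback.snd s' t₁ ≫ q)
      (by rw [Category.assoc, hqt, pullback.condition]),
      pullback.lift_fst _ _ _, pullback.lift_snd _ _ _⟩
  haveI hm₁ : IsSchemeTheoreticallyDominant m₁ := by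
    have outer : IsPullback (m₁ ≫ pullback.snd s' t₁) (pullback.fst s₁ t₁) t₁ (q ≫ s') := by
      rw [hm₁s, hqs]; exact (IsPullback.of_hasPullback s₁ t₁).flip
    have sq := IsPullback.of_right outer hm₁f (IsPullback.of_hasPullback s' t₁).flip
    exact IsSchemeTheoreticallyDominant.of_isPullback sq.flip
  haveI hm₂ : IsSchemeTheoreticallyDominant m₂ := by
    have outer : IsPullback (m₂ ≫ pullback.fst s' t') (pullback.snd s' t₁) s' (q ≫ t') := by
      rw [hm₂f, hqt]; exact IsPullback.of_hasPullback s' t₁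
    have sq := IsPullback.of_right outer hm₂s (IsPullback.of_hasPullback s' t')
    exact IsSchemeTheoreticallyDominant.of_isPullback sq.flip
  have e1 : (m₁ ≫ m₂) ≫ pullback.fst s' t' = pullback.fst s₁ t₁ ≫ q := by
    rw [Category.assoc, hm₂f, hm₁f]
  have e2 : (m₁ ≫ m₂) ≫ pullback.snd s' t' = pullback.snd s₁ t₁ ≫ q := by
    rw [Category.assoc, hm₂s, ← Category.assoc, hm₁s]
  have hι3 : (pullback.fst s' t' ≫ ι) ≫ G₂.s = (pullback.snd s' t' ≫ ι) ≫ G₂.t := by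
    rw [Category.assoc, Category.assoc, ← hs', ← ht', pullback.condition]
  obtain ⟨g₃, hg₃⟩ : ∃ g₃ : pullback s' t' ⟶ G₂.R,
      g₃ = pullback.lift (pullback.fst s' t' ≫ ι) (pullback.snd s' t' ≫ ι) hι3 ≫ G₂.c := ⟨_, rfl⟩
  have h11 : pullback.fst s₁ t₁ ≫ G₁.s = pullback.snd s₁ t₁ ≫ G₁.t := by
    have := pullback.condition (f := s₁) (g := t₁)
    apply (cancel_mono f.fU).mp
    rw [Category.assoc, Category.assoc, ← hs₁, ← ht₁]; exact this
  obtain ⟨c', hc'⟩ : ∃ c' : pullback s' t' ⟶ Z, c' ≫ ι = g₃ := by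
    apply Groth.Agent.S13044.lift_of_std (m₁ ≫ m₂) g₃ ι
      ((pullback.lift (pullback.fst s₁ t₁) (pullback.snd s₁ t₁) h11 ≫ G₁.c) ≫ q)
    rw [Category.assoc, hqι, f.comm_c, hg₃, ← Category.assoc (m₁ ≫ m₂)]
    congr 1
    apply pullback.hom_ext
    · rw [pullback.lift_fst, Category.assoc, pullback.lift_fst, ← Category.assoc, e1,
        Category.assoc, hqι]
    · rw [pullback.lift_snd, Category.assoc, pullback.lift_snd, ← Category.assoc, e2,
        Category.assoc, hqι]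
  have K : ∀ {T : Scheme.{u}} (α β : T ⟶ Z) (h : α ≫ s' = β ≫ t')
      (h' : (α ≫ ι) ≫ G₂.s = (β ≫ ι) ≫ G₂.t),
      (pullback.lift α β h ≫ c') ≫ ι = pullback.lift (α ≫ ι) (β ≫ ι) h' ≫ G₂.c := by
    intro T α β h h'
    rw [Category.assoc, hc', hg₃, ← Category.assoc]
    congr 1
    apply pullback.hom_ext
    · simp only [Category.assoc, pullback.lift_fst, pullback.lift_fst_assoc]
    · simp only [Category.assoc, pullback.lift_snd, pullback.lift_snd_assoc]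
  have hst' : ∀ {T : Scheme.{u}} (α β : T ⟶ Z), α ≫ s' = β ≫ t' →
      (α ≫ ι) ≫ G₂.s = (β ≫ ι) ≫ G₂.t := by
    intro T α β h; rw [Category.assoc, Category.assoc, ← hs', ← ht']; exact h
  have hs'' : ∀ {T : Scheme.{u}} (x : T ⟶ Z), x ≫ s' = (x ≫ ι) ≫ G₂.s := by
    intro T x; rw [hs', Category.assoc]
  have ht'' : ∀ {T : Scheme.{u}} (x : T ⟶ Z), x ≫ t' = (x ≫ ι) ≫ G₂.t := by
    intro T x; rw [ht', Category.assoc]
  obtain ⟨e', he'⟩ : ∃ e' : G₂.U ⟶ Z, e' ≫ ι = G₂.e :=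
    ⟨inv f.fU ≫ G₁.e ≫ q, by
      rw [Category.assoc, Category.assoc, hqι, hom_e f, IsIso.inv_hom_id_assoc]⟩
  obtain ⟨i', hi'⟩ : ∃ i' : Z ⟶ Z, i' ≫ ι = ι ≫ G₂.i := by
    apply Groth.Agent.S13044.lift_of_std q (ι ≫ G₂.i) ι (G₁.i ≫ q)
    rw [Category.assoc, hqι, hom_i f, ← Category.assoc, hqι]
  have cancelι : ∀ {T : Scheme.{u}} (x y : T ⟶ Z), x ≫ ι = y ≫ ι → x = y :=
    fun x y h => (cancel_mono ι).mp h
  have hse : ∀ {T : Scheme.{u}} (α : T ⟶ Z), (α ≫ s' ≫ e') ≫ ι = (α ≫ ι) ≫ G₂.s ≫ G₂.e := by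
    intro T α; simp only [Category.assoc, he', hs']
  have hte : ∀ {T : Scheme.{u}} (α : T ⟶ Z), (α ≫ t' ≫ e') ≫ ι = (α ≫ ι) ≫ G₂.t ≫ G₂.e := by
    intro T α; simp only [Category.assoc, he', ht']
  have hcs : ∀ {T : Scheme.{u}} (α β : T ⟶ Z) (h : α ≫ s' = β ≫ t'),
      (pullback.lift α β h ≫ c') ≫ s' = β ≫ s' := by
    intro T α β h
    rw [hs'' (pullback.lift α β h ≫ c'), hs'' β, K α β h (hst' α β h)]
    exact G₂.comp_s (α ≫ ι) (β ≫ ι) (hst' α β h)
  have hct : ∀ {T : Scheme.{u}} (α β : T ⟶ Z) (h : α ≫ s' = β ≫ t'),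
      (pullback.lift α β h ≫ c') ≫ t' = α ≫ t' := by
    intro T α β h
    rw [ht'' (pullback.lift α β h ≫ c'), ht'' α, K α β h (hst' α β h)]
    exact G₂.comp_t (α ≫ ι) (β ≫ ι) (hst' α β h)
  have hes : e' ≫ s' = 𝟙 G₂.U := by rw [hs'' e', he', G₂.e_s]
  have het : e' ≫ t' = 𝟙 G₂.U := by rw [ht'' e', he', G₂.e_t]
  have his : i' ≫ s' = t' := by rw [hs'' i', hi', Category.assoc, G₂.i_s, ← ht']
  have hit : i' ≫ t' = s' := by rw [ht'' i', hi', Category.assoc, G₂.i_t, ← hs']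
  let G' : GroupoidScheme S :=
    { U := G₂.U
      R := Z
      pU := G₂.pU
      pR := ι ≫ G₂.pR
      s := s'
      t := t'
      e := e'
      i := i'
      c := c'
      s_over := by rw [hs', Category.assoc, G₂.s_over]
      t_over := by rw [ht', Category.assoc, G₂.t_over]
      comp_s := fun α β h => hcs α β h
      comp_t := fun α β h => hct α β h
      assoc := by
        intro T α β γ h₁ h₂
        apply cancelι
        exact (K _ _ _ (hst' _ _ ((hcs α β h₁).trans h₂))).trans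
          ((lift_c_congr G₂ (K α β h₁ (hst' α β h₁)) rfl _ _).trans
            ((G₂.assoc (α ≫ ι) (β ≫ ι) (γ ≫ ι) (hst' α β h₁) (hst' β γ h₂)).trans
              ((lift_c_congr G₂ rfl (K β γ h₂ (hst' β γ h₂)) _ _).symm.trans
                (K _ _ _ (hst' _ _ (h₁.trans (hct β γ h₂).symm))).symm)))
      e_s := hes
      e_t := het
      comp_e := by
        intro T α
        apply cancelι
        have hh : α ≫ s' = (α ≫ s' ≫ e') ≫ t' := by
          rw [Category.assoc, Category.assoc, het, Category.comp_id]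
        exact (K _ _ hh (hst' _ _ hh)).trans
          ((lift_c_congr G₂ rfl (hse α) _ _).trans (G₂.comp_e (α ≫ ι)))
      e_comp := by
        intro T α
        apply cancelι
        have hh : (α ≫ t' ≫ e') ≫ s' = α ≫ t' := by
          rw [Category.assoc, Category.assoc, hes, Category.comp_id]
        exact (K _ _ hh (hst' _ _ hh)).trans
          ((lift_c_congr G₂ (hte α) rfl _ _).trans (G₂.e_comp (α ≫ ι)))
      i_s := his
      i_t := hit
      comp_i := by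
        intro T α
        apply cancelι
        have hh : α ≫ s' = (α ≫ i') ≫ t' := by rw [Category.assoc, hit]
        exact (K _ _ hh (hst' _ _ hh)).trans
          ((lift_c_congr G₂ rfl (by rw [Category.assoc, hi', Category.assoc]) _ _).trans
            ((G₂.comp_i (α ≫ ι)).trans (hte α).symm))
      i_comp := by
        intro T α
        apply cancelι
        have hh : (α ≫ i') ≫ s' = α ≫ t' := by rw [Category.assoc, his]
        exact (K _ _ hh (hst' _ _ hh)).trans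
          ((lift_c_congr G₂ (by rw [Category.assoc, hi', Category.assoc]) rfl _ _).trans
            ((G₂.i_comp (α ≫ ι)).trans (hse α).symm)) }
  refine ⟨G', ⟨𝟙 _, ι, Category.id_comp _, ?_, ?_, ?_⟩, ?_, hιcl, hker⟩
  · show ι ≫ G₂.s = s' ≫ 𝟙 _
    rw [Category.comp_id, hs']
  · show ι ≫ G₂.t = t' ≫ 𝟙 _
    rw [Category.comp_id, ht']
  · intro T α β h
    exact K α β h _
  · show IsIso (𝟙 G₂.U)
    infer_instance

end Groth.Agent.S7492
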