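import Mathlib
import Groth.Statements.S7509
import Groth.Agent.S2516
import Groth.Agent.S13044
import Groth.Agent.S7492
-- import your own Groth.Agent.* helpers here

set_option autoImplicit false
universe u
open CategoryTheory CategoryTheory.Limits AlgebraicGeometry
open Grpd

namespace Groth.Agent.S7509


open Groth.Agent.S7492

variable {S : Scheme.{u}}

lemma part1 (G₁ G₂ : GroupoidScheme S) (f : GroupoidScheme.Hom G₁ G₂) [IsIso f.fU]
    [QuasiCompact f.fR] (k : Type u) [Field k] (eU : G₂.U ≅ Spec (CommRingCat.of k)) :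
    ∃ (Z : Scheme.{u}) (ι : Z ⟶ G₂.R) (q : G₁.R ⟶ Z) (s' t' : Z ⟶ G₂.U)
      (c' : pullback s' t' ⟶ Z) (e' : G₂.U ⟶ Z) (i' : Z ⟶ Z),
      IsClosedImmersion ι ∧ q ≫ ι = f.fR ∧ ι.ker = f.fR.ker ∧ s' = ι ≫ G₂.s ∧ t' = ι ≫ G₂.t ∧
      (∀ hι3 : (pullback.fst s' t' ≫ ι) ≫ G₂.s = (pullback.snd s' t' ≫ ι) ≫ G₂.t,
        c' ≫ ι = pullback.lift (pullback.fst s' t' ≫ ι) (pullback.snd s' t' ≫ ι) hι3 ≫ G₂.c) ∧
      e' ≫ ι = G₂.e ∧ i' ≫ ι = ι ≫ G₂.i := by
  haveI hstd : IsSchemeTheoreticallyDominant f.fR.toImage :=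
    ⟨Groth.Agent.S2516.ker_toImage_eq_bot f.fR⟩
  obtain ⟨Z, ι, q, hιcl, hqι, hqd, hqqc, hker⟩ : ∃ (Z : Scheme.{u}) (ι : Z ⟶ G₂.R) (q : G₁.R ⟶ Z),
      IsClosedImmersion ι ∧ q ≫ ι = f.fR ∧ IsSchemeTheoreticallyDominant q ∧ QuasiCompact q ∧
      ι.ker = f.fR.ker :=
    ⟨f.fR.image, f.fR.imageι, f.fR.toImage, inferInstance, f.fR.toImage_imageι, hstd,
      inferInstance, Scheme.IdealSheafData.ker_subschemeι _⟩
  haveI := hιcl
  haveI := hqd
  haveI := hqqc
  have hflat : ∀ {Y : Scheme.{u}} (g : Y ⟶ G₂.U), Flat g := by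
    intro Y g
    have : g = (g ≫ eU.hom) ≫ eU.inv := by rw [Category.assoc, eU.hom_inv_id, Category.comp_id]
    rw [this]; infer_instance
  obtain ⟨s', hs'⟩ : ∃ s' : Z ⟶ G₂.U, s' = ι ≫ G₂.s := ⟨_, rfl⟩
  obtain ⟨t', ht'⟩ : ∃ t' : Z ⟶ G₂.U, t' = ι ≫ G₂.t := ⟨_, rfl⟩
  obtain ⟨s₁, hs₁⟩ : ∃ s₁ : G₁.R ⟶ G₂.U, s₁ = G₁.s ≫ f.fU := ⟨_, rfl⟩
  obtain ⟨t₁, ht₁⟩ : ∃ t₁ : G₁.R ⟶ G₂.U, t₁ = G₁.t ≫ f.fU := ⟨_, rfl⟩
  have hqs : q ≫ s' = s₁ := by rw [hs', hs₁, ← Category.assoc, hqι, f.comm_s]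
  have hqt : q ≫ t' = t₁ := by rw [ht', ht₁, ← Category.assoc, hqι, f.comm_t]
  haveI : Flat t₁ := hflat _
  haveI : Flat s' := hflat _
  obtain ⟨m₁, hm₁f, hm₁s⟩ : ∃ m₁ : pullback s₁ t₁ ⟶ pullback s' t₁,
      m₁ ≫ pullback.fst s' t₁ = pullback.fst s₁ t₁ ≫ q ∧
      m₁ ≫ pullback.snd s' t₁ = pullback.snd s₁ t₁ :=
    ⟨pullback.lift (pullback.fst s₁ t₁ ≫ q) (pullback.snd s₁ t₁)
      (by rw [Category.assoc, hqs, pullback.condition]),
      pullback.lift_fst _ _ _, pullback.lift_snd _ _ _⟩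
  obtain ⟨m₂, hm₂f, hm₂s⟩ : ∃ m₂ : pullback s' t₁ ⟶ pullback s' t',
      m₂ ≫ pullback.fst s' t' = pullback.fst s' t₁ ∧
      m₂ ≫ pullback.snd s' t' = pullback.snd s' t₁ ≫ q :=
    ⟨pullback.lift (pullback.fst s' t₁) (pullback.snd s' t₁ ≫ q)
      (by rw [Category.assoc, hqt, pullback.condition]),
      pullback.lift_fst _ _ _, pullback.lift_snd _ _ _⟩
  haveI hm₁ : IsSchemeTheoreticallyDominant m₁ := by
    have outer : IsPullback (m₁ ≫ pullback.snd s' t₁) (pullback.fst s₁ t₁) t₁ (q ≫ s') := by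
      rw [hm₁s, hqs]; exact (IsPullback.of_hasPullback s₁ t₁).flip
    have sq := IsPullback.of_right outer hm₁f (IsPullback.of_hasPullback s' t₁).flip
    exact IsSchemeTheoreticallyDominant.of_isPullback sq.flip
  haveI hm₂ : IsSchemeTheoreticallyDominant m₂ := by
    have outer : IsPullback (m₂ ≫ pullback.fst s' t') (pullback.snd s' t₁) s' (q ≫ t') := by
      rw [hm₂f, hqt]; exact IsPullback.of_hasPullback s' t₁
    have sq := IsPullback.of_right outer hm₂s (IsPullback.of_hasPullback s' t')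
    exact IsSchemeTheoreticallyDominant.of_isPullback sq.flip
  have e1 : (m₁ ≫ m₂) ≫ pullback.fst s' t' = pullback.fst s₁ t₁ ≫ q := by
    rw [Category.assoc, hm₂f, hm₁f]
  have e2 : (m₁ ≫ m₂) ≫ pullback.snd s' t' = pullback.snd s₁ t₁ ≫ q := by
    rw [Category.assoc, hm₂s, ← Category.assoc, hm₁s]
  have hι3 : (pullback.fst s' t' ≫ ι) ≫ G₂.s = (pullback.snd s' t' ≫ ι) ≫ G₂.t := by
    rw [Category.assoc, Category.assoc, ← hs', ← ht', pullback.condition]
  obtain ⟨g₃, hg₃⟩ : ∃ g₃ : pullback s' t' ⟶ G₂.R,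
      g₃ = pullback.lift (pullback.fst s' t' ≫ ι) (pullback.snd s' t' ≫ ι) hι3 ≫ G₂.c := ⟨_, rfl⟩
  have h11 : pullback.fst s₁ t₁ ≫ G₁.s = pullback.snd s₁ t₁ ≫ G₁.t := by
    have := pullback.condition (f := s₁) (g := t₁)
    apply (cancel_mono f.fU).mp
    rw [Category.assoc, Category.assoc, ← hs₁, ← ht₁]; exact this
  obtain ⟨c', hc'⟩ : ∃ c' : pullback s' t' ⟶ Z, c' ≫ ι = g₃ := by
    apply Groth.Agent.S13044.lift_of_std (m₁ ≫ m₂) g₃ ι
      ((pullback.lift (pullback.fst s₁ t₁) (pullback.snd s₁ t₁) h11 ≫ G₁.c) ≫ q)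
    rw [Category.assoc, hqι, f.comm_c, hg₃, ← Category.assoc (m₁ ≫ m₂)]
    congr 1
    apply pullback.hom_ext
    · rw [pullback.lift_fst, Category.assoc, pullback.lift_fst, ← Category.assoc, e1,
        Category.assoc, hqι]
    · rw [pullback.lift_snd, Category.assoc, pullback.lift_snd, ← Category.assoc, e2,
        Category.assoc, hqι]
  obtain ⟨e', he'⟩ : ∃ e' : G₂.U ⟶ Z, e' ≫ ι = G₂.e :=
    ⟨inv f.fU ≫ G₁.e ≫ q, by
      rw [Category.assoc, Category.assoc, hqι, hom_e f, IsIso.inv_hom_id_assoc]⟩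
  obtain ⟨i', hi'⟩ : ∃ i' : Z ⟶ Z, i' ≫ ι = ι ≫ G₂.i := by
    apply Groth.Agent.S13044.lift_of_std q (ι ≫ G₂.i) ι (G₁.i ≫ q)
    rw [Category.assoc, hqι, hom_i f, ← Category.assoc, hqι]
  exact ⟨Z, ι, q, s', t', c', e', i', hιcl, hqι, hker, hs', ht',
    fun _ => by rw [hc', hg₃], he', hi'⟩

/-- The pair groupoid `(U, U ×_S U)`. -/
@[simps]
noncomputable def pairGrpd (G : GroupoidScheme S) : GroupoidScheme S where
  U := G.U
  R := pullback G.pU G.pU
  pU := G.pU
  pR := pullback.fst G.pU G.pU ≫ G.pU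
  s := pullback.snd G.pU G.pU
  t := pullback.fst G.pU G.pU
  e := pullback.lift (𝟙 _) (𝟙 _) rfl
  i := pullback.lift (pullback.snd G.pU G.pU) (pullback.fst G.pU G.pU) pullback.condition.symm
  c := pullback.lift (pullback.fst _ _ ≫ pullback.fst G.pU G.pU)
      (pullback.snd _ _ ≫ pullback.snd G.pU G.pU) (by
        calc (pullback.fst (pullback.snd G.pU G.pU) (pullback.fst G.pU G.pU) ≫
              pullback.fst G.pU G.pU) ≫ G.pU
            = pullback.fst (pullback.snd G.pU G.pU) (pullback.fst G.pU G.pU) ≫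
              (pullback.fst G.pU G.pU ≫ G.pU) := Category.assoc _ _ _
          _ = pullback.fst (pullback.snd G.pU G.pU) (pullback.fst G.pU G.pU) ≫
              (pullback.snd G.pU G.pU ≫ G.pU) := by rw [pullback.condition]
          _ = (pullback.fst (pullback.snd G.pU G.pU) (pullback.fst G.pU G.pU) ≫
              pullback.snd G.pU G.pU) ≫ G.pU := (Category.assoc _ _ _).symm
          _ = (pullback.snd (pullback.snd G.pU G.pU) (pullback.fst G.pU G.pU) ≫
              pullback.fst G.pU G.pU) ≫ G.pU := by rw [pullback.condition]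
          _ = pullback.snd (pullback.snd G.pU G.pU) (pullback.fst G.pU G.pU) ≫
              (pullback.fst G.pU G.pU ≫ G.pU) := Category.assoc _ _ _
          _ = pullback.snd (pullback.snd G.pU G.pU) (pullback.fst G.pU G.pU) ≫
              (pullback.snd G.pU G.pU ≫ G.pU) := by rw [pullback.condition]
          _ = (pullback.snd (pullback.snd G.pU G.pU) (pullback.fst G.pU G.pU) ≫
              pullback.snd G.pU G.pU) ≫ G.pU := (Category.assoc _ _ _).symm)
  s_over := pullback.condition.symm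
  t_over := rfl
  comp_s := by intros; simp only [Category.assoc, pullback.lift_snd, pullback.lift_snd_assoc]
  comp_t := by intros; simp only [Category.assoc, pullback.lift_fst, pullback.lift_fst_assoc]
  assoc := by
    intros
    apply pullback.hom_ext <;>
      simp only [Category.assoc, pullback.lift_fst, pullback.lift_fst_assoc, pullback.lift_snd,
        pullback.lift_snd_assoc]
  e_s := pullback.lift_snd _ _ _
  e_t := pullback.lift_fst _ _ _
  comp_e := by
    intros
    apply pullback.hom_ext <;>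
      simp only [Category.assoc, pullback.lift_fst, pullback.lift_fst_assoc, pullback.lift_snd,
        pullback.lift_snd_assoc, Category.comp_id]
  e_comp := by
    intros
    apply pullback.hom_ext <;>
      simp only [Category.assoc, pullback.lift_fst, pullback.lift_fst_assoc, pullback.lift_snd,
        pullback.lift_snd_assoc, Category.comp_id]
  i_s := pullback.lift_snd _ _ _
  i_t := pullback.lift_fst _ _ _
  comp_i := by
    intros
    apply pullback.hom_ext <;>
      simp only [Category.assoc, pullback.lift_fst, pullback.lift_fst_assoc, pullback.lift_snd,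
        pullback.lift_snd_assoc, Category.comp_id]
  i_comp := by
    intros
    apply pullback.hom_ext <;>
      simp only [Category.assoc, pullback.lift_fst, pullback.lift_fst_assoc, pullback.lift_snd,
        pullback.lift_snd_assoc, Category.comp_id]

noncomputable def jHom (G : GroupoidScheme S) : GroupoidScheme.Hom G (pairGrpd G) where
  fU := 𝟙 _
  fR := G.j
  fU_over := Category.id_comp _
  comm_s := by
    show G.j ≫ pullback.snd G.pU G.pU = G.s ≫ 𝟙 _
    rw [GroupoidScheme.j, pullback.lift_snd, Category.comp_id]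
  comm_t := by
    show G.j ≫ pullback.fst G.pU G.pU = G.t ≫ 𝟙 _
    rw [GroupoidScheme.j, pullback.lift_fst, Category.comp_id]
  comm_c := by
    intro T α β h
    have h1 := G.comp_t α β h
    have h2 := G.comp_s α β h
    have hjt : G.j ≫ pullback.fst G.pU G.pU = G.t := pullback.lift_fst _ _ _
    have hjs : G.j ≫ pullback.snd G.pU G.pU = G.s := pullback.lift_snd _ _ _
    have hh : (α ≫ G.j) ≫ (pairGrpd G).s = (β ≫ G.j) ≫ (pairGrpd G).t := by
      show (α ≫ G.j) ≫ pullback.snd G.pU G.pU = (β ≫ G.j) ≫ pullback.fst G.pU G.pU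
      rw [Category.assoc, Category.assoc, hjs, hjt]; exact h
    apply pullback.hom_ext
    · refine Eq.trans ?_ ((pairGrpd G).comp_t (α ≫ G.j) (β ≫ G.j) hh).symm
      show ((pullback.lift α β h ≫ G.c) ≫ G.j) ≫ pullback.fst G.pU G.pU =
        (α ≫ G.j) ≫ pullback.fst G.pU G.pU
      rw [Category.assoc, hjt, Category.assoc α, hjt]; exact h1
    · refine Eq.trans ?_ ((pairGrpd G).comp_s (α ≫ G.j) (β ≫ G.j) hh).symm
      show ((pullback.lift α β h ≫ G.c) ≫ G.j) ≫ pullback.snd G.pU G.pU =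
        (β ≫ G.j) ≫ pullback.snd G.pU G.pU
      rw [Category.assoc, hjs, Category.assoc β, hjs]; exact h2

/-- Let (U, R, s, t, c) be a groupoid scheme over S with U the spectrum of a field and R quasi-compact
(equivalently s, t quasi-compact), and let Z be the scheme-theoretic image of j = (t, s) : R -> U
x_S U. Then (U, Z, pr_0|_Z, pr_1|_Z, pr_02) is a groupoid scheme over S; stated as: there are a
groupoid scheme G' over S and a morphism of groupoid schemes φ : (U, R, s, t, c) -> G' which is an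
isomorphism on object schemes, such that j' : G'.R -> G'.U x_S G'.U is a closed immersion whose
kernel ideal sheaf equals the kernel ideal sheaf of j followed by the induced isomorphism U x_S U ->
G'.U x_S G'.U (so G'.R is the scheme-theoretic image of j, transported). (A groupoid scheme carries
U, R, s, t, c, e, i over S with the groupoid axioms on T-points; c is defined on the fibre product
of s and t and sends a pair (a, b) with s(a) = t(b) to a composed with b.) -/
theorem result (S : Scheme.{u}) (G : Grpd.GroupoidScheme S) (k : Type u) [Field k] (eU : G.U ≅ Spec (CommRingCat.of k)) [CompactSpace G.R] : ∃ (G' : Grpd.GroupoidScheme S) (φ : Grpd.GroupoidScheme.Hom G G'), IsIso φ.fU ∧ IsClosedImmersion G'.j ∧ G'.j.ker = (G.j ≫ pullback.map G.pU G.pU G'.pU G'.pU φ.fU φ.fU (𝟙 S) ((Category.comp_id _).trans φ.fU_over.symm) ((Category.comp_id _).trans φ.fU_over.symm)).ker := by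
  haveI : IsAffine G.U := IsAffine.of_isIso eU.hom
  haveI : QuasiCompact (jHom G).fR := by
    show QuasiCompact G.j
    haveI : QuasiCompact (G.j ≫ pullback.fst G.pU G.pU) := by
      rw [GroupoidScheme.j, pullback.lift_fst]; infer_instance
    exact QuasiCompact.of_comp G.j (pullback.fst G.pU G.pU)
  haveI : IsIso (jHom G).fU := by show IsIso (𝟙 G.U); infer_instance
  obtain ⟨Z, ι, q, s', t', c', e', i', hιcl, hqι, hker, hs', ht', hc'', he', hi'⟩ :=
    part1 G (pairGrpd G) (jHom G) k eU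
  haveI := hιcl
  have hι3 : (pullback.fst s' t' ≫ ι) ≫ (pairGrpd G).s = (pullback.snd s' t' ≫ ι) ≫ (pairGrpd G).t := by
    rw [Category.assoc, Category.assoc, ← hs', ← ht', pullback.condition]
  obtain ⟨g₃, hg₃⟩ : ∃ g₃ : pullback s' t' ⟶ (pairGrpd G).R,
      g₃ = pullback.lift (pullback.fst s' t' ≫ ι) (pullback.snd s' t' ≫ ι) hι3 ≫ (pairGrpd G).c :=
    ⟨_, rfl⟩
  have hc' : c' ≫ ι = g₃ := by rw [hg₃]; exact hc'' hι3
  have K : ∀ {T : Scheme.{u}} (α β : T ⟶ Z) (h : α ≫ s' = β ≫ t')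
      (h' : (α ≫ ι) ≫ (pairGrpd G).s = (β ≫ ι) ≫ (pairGrpd G).t),
      (pullback.lift α β h ≫ c') ≫ ι = pullback.lift (α ≫ ι) (β ≫ ι) h' ≫ (pairGrpd G).c := by
    intro T α β h h'
    rw [Category.assoc, hc', hg₃, ← Category.assoc]
    congr 1
    apply pullback.hom_ext
    · simp only [Category.assoc, pullback.lift_fst, pullback.lift_fst_assoc]
    · simp only [Category.assoc, pullback.lift_snd, pullback.lift_snd_assoc]
  have hst' : ∀ {T : Scheme.{u}} (α β : T ⟶ Z), α ≫ s' = β ≫ t' →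
      (α ≫ ι) ≫ (pairGrpd G).s = (β ≫ ι) ≫ (pairGrpd G).t := by
    intro T α β h; rw [Category.assoc, Category.assoc, ← hs', ← ht']; exact h
  have hs'' : ∀ {T : Scheme.{u}} (x : T ⟶ Z), x ≫ s' = (x ≫ ι) ≫ (pairGrpd G).s := by
    intro T x; rw [hs', Category.assoc]
  have ht'' : ∀ {T : Scheme.{u}} (x : T ⟶ Z), x ≫ t' = (x ≫ ι) ≫ (pairGrpd G).t := by
    intro T x; rw [ht', Category.assoc]
  have cancelι : ∀ {T : Scheme.{u}} (x y : T ⟶ Z), x ≫ ι = y ≫ ι → x = y :=
    fun x y h => (cancel_mono ι).mp h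
  have hse : ∀ {T : Scheme.{u}} (α : T ⟶ Z), (α ≫ s' ≫ e') ≫ ι = (α ≫ ι) ≫ (pairGrpd G).s ≫ (pairGrpd G).e := by
    intro T α; simp only [Category.assoc, he', hs']
  have hte : ∀ {T : Scheme.{u}} (α : T ⟶ Z), (α ≫ t' ≫ e') ≫ ι = (α ≫ ι) ≫ (pairGrpd G).t ≫ (pairGrpd G).e := by
    intro T α; simp only [Category.assoc, he', ht']
  have hcs : ∀ {T : Scheme.{u}} (α β : T ⟶ Z) (h : α ≫ s' = β ≫ t'),
      (pullback.lift α β h ≫ c') ≫ s' = β ≫ s' := by
    intro T α β h
    rw [hs'' (pullback.lift α β h ≫ c'), hs'' β, K α β h (hst' α β h)]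
    exact (pairGrpd G).comp_s (α ≫ ι) (β ≫ ι) (hst' α β h)
  have hct : ∀ {T : Scheme.{u}} (α β : T ⟶ Z) (h : α ≫ s' = β ≫ t'),
      (pullback.lift α β h ≫ c') ≫ t' = α ≫ t' := by
    intro T α β h
    rw [ht'' (pullback.lift α β h ≫ c'), ht'' α, K α β h (hst' α β h)]
    exact (pairGrpd G).comp_t (α ≫ ι) (β ≫ ι) (hst' α β h)
  have hes : e' ≫ s' = 𝟙 (pairGrpd G).U := by rw [hs'' e', he', (pairGrpd G).e_s]
  have het : e' ≫ t' = 𝟙 (pairGrpd G).U := by rw [ht'' e', he', (pairGrpd G).e_t]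
  have his : i' ≫ s' = t' := by rw [hs'' i', hi', Category.assoc, (pairGrpd G).i_s, ← ht']
  have hit : i' ≫ t' = s' := by rw [ht'' i', hi', Category.assoc, (pairGrpd G).i_t, ← hs']
  let G' : GroupoidScheme S :=
    { U := (pairGrpd G).U
      R := Z
      pU := (pairGrpd G).pU
      pR := ι ≫ (pairGrpd G).pR
      s := s'
      t := t'
      e := e'
      i := i'
      c := c'
      s_over := by rw [hs', Category.assoc, (pairGrpd G).s_over]
      t_over := by rw [ht', Category.assoc, (pairGrpd G).t_over]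
      comp_s := fun α β h => hcs α β h
      comp_t := fun α β h => hct α β h
      assoc := by
        intro T α β γ h₁ h₂
        apply cancelι
        exact (K _ _ _ (hst' _ _ ((hcs α β h₁).trans h₂))).trans
          ((lift_c_congr (pairGrpd G) (K α β h₁ (hst' α β h₁)) rfl _ _).trans
            (((pairGrpd G).assoc (α ≫ ι) (β ≫ ι) (γ ≫ ι) (hst' α β h₁) (hst' β γ h₂)).trans
              ((lift_c_congr (pairGrpd G) rfl (K β γ h₂ (hst' β γ h₂)) _ _).symm.trans
                (K _ _ _ (hst' _ _ (h₁.trans (hct β γ h₂).symm))).symm)))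
      e_s := hes
      e_t := het
      comp_e := by
        intro T α
        apply cancelι
        have hh : α ≫ s' = (α ≫ s' ≫ e') ≫ t' := by
          rw [Category.assoc, Category.assoc, het, Category.comp_id]
        exact (K _ _ hh (hst' _ _ hh)).trans
          ((lift_c_congr (pairGrpd G) rfl (hse α) _ _).trans ((pairGrpd G).comp_e (α ≫ ι)))
      e_comp := by
        intro T α
        apply cancelι
        have hh : (α ≫ t' ≫ e') ≫ s' = α ≫ t' := by
          rw [Category.assoc, Category.assoc, hes, Category.comp_id]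
        exact (K _ _ hh (hst' _ _ hh)).trans
          ((lift_c_congr (pairGrpd G) (hte α) rfl _ _).trans ((pairGrpd G).e_comp (α ≫ ι)))
      i_s := his
      i_t := hit
      comp_i := by
        intro T α
        apply cancelι
        have hh : α ≫ s' = (α ≫ i') ≫ t' := by rw [Category.assoc, hit]
        exact (K _ _ hh (hst' _ _ hh)).trans
          ((lift_c_congr (pairGrpd G) rfl (by rw [Category.assoc, hi', Category.assoc]) _ _).trans
            (((pairGrpd G).comp_i (α ≫ ι)).trans (hte α).symm))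
      i_comp := by
        intro T α
        apply cancelι
        have hh : (α ≫ i') ≫ s' = α ≫ t' := by rw [Category.assoc, his]
        exact (K _ _ hh (hst' _ _ hh)).trans
          ((lift_c_congr (pairGrpd G) (by rw [Category.assoc, hi', Category.assoc]) rfl _ _).trans
            (((pairGrpd G).i_comp (α ≫ ι)).trans (hse α).symm)) }
  have hqj : q ≫ ι = G.j := hqι
  have hj : G'.j = ι := by
    apply pullback.hom_ext
    · exact (pullback.lift_fst _ _ _).trans ht'
    · exact (pullback.lift_snd _ _ _).trans hs'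
  have hmap : ∀ (h1 : G.pU ≫ 𝟙 S = 𝟙 G.U ≫ G.pU) (h2 : G.pU ≫ 𝟙 S = 𝟙 G.U ≫ G.pU),
      pullback.map G.pU G.pU G.pU G.pU (𝟙 G.U) (𝟙 G.U) (𝟙 S) h1 h2 = 𝟙 _ := by
    intro h1 h2
    apply pullback.hom_ext
    · rw [pullback.lift_fst, Category.comp_id, Category.id_comp]
    · rw [pullback.lift_snd, Category.comp_id, Category.id_comp]
  refine ⟨G', ⟨𝟙 G.U, q, Category.id_comp _, ?_, ?_, ?_⟩, ?_, ?_, ?_⟩
  · show q ≫ s' = G.s ≫ 𝟙 _
    rw [hs', ← Category.assoc, hqj, Category.comp_id]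
    exact pullback.lift_snd _ _ _
  · show q ≫ t' = G.t ≫ 𝟙 _
    rw [ht', ← Category.assoc, hqj, Category.comp_id]
    exact pullback.lift_fst _ _ _
  · intro T α β h
    apply cancelι
    have hh : (α ≫ q) ≫ s' = (β ≫ q) ≫ t' := by
      rw [Category.assoc, Category.assoc, hs', ht', ← Category.assoc q, ← Category.assoc q, hqj]
      show α ≫ G.j ≫ pullback.snd G.pU G.pU = β ≫ G.j ≫ pullback.fst G.pU G.pU
      rw [GroupoidScheme.j, pullback.lift_snd, pullback.lift_fst]; exact h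
    refine Eq.trans ?_ (K (α ≫ q) (β ≫ q) hh (hst' _ _ hh)).symm
    rw [Category.assoc, hqj]
    refine ((jHom G).comm_c α β h).trans ?_
    exact lift_c_congr (pairGrpd G) (by rw [Category.assoc, hqj]; rfl)
      (by rw [Category.assoc, hqj]; rfl) _ _
  · show IsIso (𝟙 G.U)
    infer_instance
  · rw [hj]; exact hιcl
  · have h3 : ∀ (h1 : G.pU ≫ 𝟙 S = 𝟙 G.U ≫ G.pU) (h2 : G.pU ≫ 𝟙 S = 𝟙 G.U ≫ G.pU),
        (G.j ≫ pullback.map G.pU G.pU G.pU G.pU (𝟙 G.U) (𝟙 G.U) (𝟙 S) h1 h2).ker = G.j.ker := by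
      intro h1 h2; rw [hmap, Category.comp_id]
    exact (congrArg Scheme.Hom.ker hj).trans (hker.trans (h3 _ _).symm)

end Groth.Agent.S7509
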