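import Groth.Statements.S7464
import Mathlib
import Groth.Agent.Lib.Helper5.GrpdLib

set_option autoImplicit false
universe u
open CategoryTheory CategoryTheory.Limits AlgebraicGeometry
open Grpd

namespace Groth.Agent.S7464

/-- Let (U, R, s, t, c) be a groupoid scheme over S with s and t finite, and let u, u' be distinct
points of U in the same orbit, say u = s(r) and u' = t(r). Then u' does not lie in the closure of u.
(The published statement calls u, u' points of R; this row takes them to be points of U, as the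
orbit condition and the proof require.) (A groupoid scheme carries U, R, s, t, c, e, i over S with
the groupoid axioms on T-points; c is defined on the fibre product of s and t and sends a pair (a,
b) with s(a) = t(b) to a composed with b.) -/
theorem result (S : Scheme.{u}) (G : Grpd.GroupoidScheme S) [IsFinite G.s] [IsFinite G.t] (r : G.R) (hne : G.s r ≠ G.t r) : ¬ (G.s r ⤳ G.t r) := by
  classical
  intro hsp
  have hcs : ∀ z : ↑(pullback G.s G.t), G.s (G.c z) = G.s (pullback.snd G.s G.t z) := fun z =>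
    (Scheme.Hom.comp_apply G.c G.s z).symm.trans
      ((congrArg (fun f : pullback G.s G.t ⟶ G.U => f z) Groth.Agent.Helper5.GrpdLib.c_s).trans
        (Scheme.Hom.comp_apply _ _ z))
  have hct : ∀ z : ↑(pullback G.s G.t), G.t (G.c z) = G.t (pullback.fst G.s G.t z) := fun z =>
    (Scheme.Hom.comp_apply G.c G.t z).symm.trans
      ((congrArg (fun f : pullback G.s G.t ⟶ G.U => f z) Groth.Agent.Helper5.GrpdLib.c_t).trans
        (Scheme.Hom.comp_apply _ _ z))
  have hes : ∀ u : G.U, G.s (G.e u) = u := fun u =>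
    (Scheme.Hom.comp_apply G.e G.s u).symm.trans
      ((congrArg (fun f : G.U ⟶ G.U => f u) G.e_s).trans (by simp))
  have het : ∀ u : G.U, G.t (G.e u) = u := fun u =>
    (Scheme.Hom.comp_apply G.e G.t u).symm.trans
      ((congrArg (fun f : G.U ⟶ G.U => f u) G.e_t).trans (by simp))
  have hOfin : (⇑G.t '' (⇑G.s ⁻¹' {G.s r})).Finite := (G.s.finite_preimage_singleton (G.s r)).image _
  have hO_trans : ∀ q : G.R, G.s q ∈ ⇑G.t '' (⇑G.s ⁻¹' {G.s r}) →
      G.t q ∈ ⇑G.t '' (⇑G.s ⁻¹' {G.s r}) := by
    rintro q ⟨p, hp, hpq⟩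
    obtain ⟨z, hz1, hz2⟩ := Scheme.Pullback.exists_preimage_pullback (f := G.s) (g := G.t) q p
      hpq.symm
    refine ⟨G.c z, ?_, ?_⟩
    · show G.s (G.c z) = G.s r
      rw [hcs, hz2]; exact hp
    · rw [hct, hz1]
  have hu₀O : G.s r ∈ ⇑G.t '' (⇑G.s ⁻¹' {G.s r}) := ⟨G.e (G.s r), hes _, het _⟩
  have key : ∀ n : ℕ, ∀ v : G.U, v ∈ ⇑G.t '' (⇑G.s ⁻¹' {G.s r}) →
      (hOfin.toFinset.filter (fun w => v ⤳ w)).card = n →
      ∀ q : G.R, G.s q = v → G.t q ≠ v → v ⤳ G.t q → False := by
    intro n
    induction n using Nat.strong_induction_on with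
    | _ n ih =>
      intro v hvO hdv q hq hqne hqsp
      have hsm : SpecializingMap ⇑G.s := G.s.isClosedMap.specializingMap
      obtain ⟨q', hqq', hq'⟩ := @hsm q (G.t q) (by rw [hq]; exact hqsp)
      have hqq'' : q ⤳ q' := hqq'
      have h1 : G.t q ⤳ G.t q' := hqq''.map G.t.continuous
      have h2 : G.t q' ≠ G.t q := by
        intro heq
        obtain ⟨Uo, hUo, hUeq⟩ := (isDiscrete_iff_forall_mem_exists_isOpen.mp
          (G.t.isDiscrete_preimage_singleton (G.t q))) q' heq
        have hq'U : q' ∈ Uo := by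
          have : q' ∈ Uo ∩ (⇑G.t ⁻¹' {G.t q}) := by rw [hUeq]; exact Set.mem_singleton q'
          exact this.1
        have hqU : q ∈ Uo := hqq''.mem_open hUo hq'U
        have hmem : q ∈ Uo ∩ (⇑G.t ⁻¹' {G.t q}) := ⟨hqU, rfl⟩
        rw [hUeq] at hmem
        have hqeq : q = q' := hmem
        apply hqne
        rw [← hq, ← hq', ← hqeq]
      have hv'O : G.t q ∈ ⇑G.t '' (⇑G.s ⁻¹' {G.s r}) := hO_trans q (hq ▸ hvO)
      have hlt : (hOfin.toFinset.filter (fun w => G.t q ⤳ w)).card < n := by
        rw [← hdv]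
        apply Finset.card_lt_card
        have hsub : hOfin.toFinset.filter (fun w => G.t q ⤳ w) ⊆
            hOfin.toFinset.filter (fun w => v ⤳ w) := by
          intro w hw
          rw [Finset.mem_filter] at hw ⊢
          exact ⟨hw.1, hqsp.trans hw.2⟩
        rw [Finset.ssubset_iff_of_subset hsub]
        refine ⟨v, ?_, ?_⟩
        · rw [Finset.mem_filter]
          exact ⟨hOfin.mem_toFinset.mpr hvO, specializes_rfl⟩
        · rw [Finset.mem_filter]
          rintro ⟨-, hback⟩
          exact hqne ((hqsp.antisymm hback).eq).symm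
      exact ih _ hlt (G.t q) hv'O rfl q' hq' h2 h1
  exact key _ (G.s r) hu₀O rfl r rfl (Ne.symm hne) hsp

end Groth.Agent.S7464
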