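import Groth.Statements.S7476
import Mathlib
import Groth.Agent.Lib.Helper5.PhV

set_option autoImplicit false
universe w u
open HTop

namespace Groth.Agent.S7476aux

open CategoryTheory CategoryTheory.Limits AlgebraicGeometry HTop IsLocalRing

universe w' w''

/-- The generic point of the spectrum of a domain. -/
def genPt (A : CommRingCat.{u}) [IsDomain A] : Spec A := ⟨⊥, Ideal.isPrime_bot⟩

lemma genPt_specializes (A : CommRingCat.{u}) [IsDomain A] (x : Spec A) : genPt A ⤳ x :=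
  (PrimeSpectrum.le_iff_specializes _ _).mp bot_le

lemma map_genPt {A B : CommRingCat.{u}} [IsDomain A] [IsDomain B] (φ : A ⟶ B)
    (h : Function.Injective φ.hom) : Spec.map φ (genPt B) = genPt A := by
  rw [Spec.map_apply]
  apply PrimeSpectrum.ext
  show Ideal.comap φ.hom ⊥ = ⊥
  rw [← RingHom.ker_eq_comap_bot]
  exact (RingHom.injective_iff_ker_eq_bot _).1 h

lemma eq_genPt_of_field {A : CommRingCat.{u}} [IsDomain A] {L : CommRingCat.{u}}
    (ψ : A ⟶ L) (h : Function.Injective ψ.hom) (p : Spec L) (hp : p.asIdeal = ⊥) :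
    Spec.map ψ p = genPt A := by
  rw [Spec.map_apply]
  apply PrimeSpectrum.ext
  show Ideal.comap ψ.hom p.asIdeal = ⊥
  rw [hp, ← RingHom.ker_eq_comap_bot]
  exact (RingHom.injective_iff_ker_eq_bot _).1 h

theorem exists_valuationRing_of_specializes {Z : Scheme.{u}} {z' z : Z} (h : z' ⤳ z) :
    ∃ (A : CommRingCat.{u}) (_ : IsDomain A) (_ : ValuationRing A) (m : Spec A ⟶ Z),
      m (closedPoint A) = z ∧ m (genPt A) = z' := by
  let ρ : Z.presheaf.stalk z ⟶ Z.residueField z' :=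
    Z.presheaf.stalkSpecializes h ≫ Z.residue z'
  obtain ⟨A, hA, hA_local⟩ := exists_factor_valuationRing ρ.hom
  let toA : Z.presheaf.stalk z ⟶ CommRingCat.of A :=
    CommRingCat.ofHom (ρ.hom.codRestrict _ hA)
  have w : Z.fromSpecResidueField z' =
      Spec.map (CommRingCat.ofHom (algebraMap A (Z.residueField z'))) ≫
        Spec.map toA ≫ Z.fromSpecStalk z := by
    rw [Scheme.fromSpecResidueField, ← Scheme.SpecMap_stalkSpecializes_fromSpecStalk h]
    simp_rw [← Spec.map_comp_assoc]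
    rfl
  refine ⟨CommRingCat.of A, inferInstance, inferInstance, Spec.map toA ≫ Z.fromSpecStalk z, ?_, ?_⟩
  · rw [Scheme.Hom.comp_apply]
    have : Spec.map toA (closedPoint A) = closedPoint (Z.presheaf.stalk z) :=
      comap_closedPoint (S := A) (ρ.hom.codRestrict A.toSubring hA)
    rw [this, Z.fromSpecStalk_closedPoint]
  · have h1 := Scheme.fromSpecResidueField_apply z' (closedPoint (Z.residueField z'))
    rw [w, Scheme.Hom.comp_apply] at h1
    have hp := eq_genPt_of_field (A := CommRingCat.of A) (L := Z.residueField z')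
      (CommRingCat.ofHom (algebraMap A (Z.residueField z'))) Subtype.val_injective
      (closedPoint (Z.residueField z')) (IsLocalRing.maximalIdeal_eq_bot)
    rw [← hp]
    exact h1

/-- V covering ⇒ valuative lifting. -/
theorem hasValLift_of_isVCover {X Y : Scheme.{u}} (f : X ⟶ Y)
    (h : IsVCover (PreZeroHypercover.singleton.{w'} f)) :
    HasValLift (PreZeroHypercover.singleton.{w''} f) := by
  intro V _ _ g
  obtain ⟨U, hU, hy, -⟩ := exists_isAffineOpen_mem_and_subset
    (X := Y) (x := g (closedPoint V)) (U := ⊤) (by simp)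
  have hU' : U ∈ Y.affineOpens := hU
  obtain ⟨G, hG, hGE⟩ := h ⟨U, hU'⟩
  have hr : Set.range g ⊆ Set.range U.ι := by
    rw [Scheme.Opens.range_ι]
    exact Groth.Agent.Helper5.HTopLib.range_subset_of_closedPoint_mem V g U hy
  let g₀ : Spec V ⟶ (U : Scheme.{u}) := IsOpenImmersion.lift U.ι g hr
  have hg₀ : g₀ ≫ U.ι = g := IsOpenImmersion.lift_fac _ _ _
  obtain ⟨W, i1, i2, φ, hφ, j, g', hg'⟩ := hG.lift V g₀
  obtain ⟨i, k, hk⟩ := hGE j
  let k' : G.X j ⟶ X := k
  have hk' : k' ≫ f = G.f j ≫ U.ι := hk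
  refine ⟨W, i1, i2, φ, hφ, ⟨⟩, g' ≫ k', ?_⟩
  show (g' ≫ k') ≫ f = Spec.map φ ≫ g
  rw [Category.assoc, hk', ← Category.assoc, hg', Category.assoc, hg₀]

/-- Valuative lifting ⇒ V covering, for quasi-compact morphisms. -/
theorem isVCover_of_hasValLift {X Y : Scheme.{u}} (f : X ⟶ Y) [QuasiCompact f]
    (h : HasValLift (PreZeroHypercover.singleton.{w'} f)) :
    IsVCover (PreZeroHypercover.singleton.{w''} f) := by
  intro U
  haveI : IsAffine ((U : Y.Opens) : Scheme.{u}) := U.2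
  haveI hqc : QuasiCompact (f ∣_ (U : Y.Opens)) := IsZariskiLocalAtTarget.restrict ‹QuasiCompact f› _
  haveI : CompactSpace ↥((f ⁻¹ᵁ (U : Y.Opens) : X.Opens) : Scheme.{u}) :=
    QuasiCompact.compactSpace_of_compactSpace (f ∣_ (U : Y.Opens))
  obtain ⟨n, W, hW, hcov⟩ := Groth.Agent.Helper5.PhV.exists_finite_affine_cover_compact
    ((f ⁻¹ᵁ (U : Y.Opens) : X.Opens) : Scheme.{u})
  refine ⟨⟨Fin n, fun k => (W k : Scheme.{u}), fun k => (W k).ι ≫ (f ∣_ (U : Y.Opens))⟩, ?_, ?_⟩
  · refine ⟨inferInstance, inferInstanceAs (Finite (Fin n)), fun k => hW k, ?_⟩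
    intro V _ _ g
    obtain ⟨W', i1, i2, φ, hφ, j0, g', hg'⟩ := h V (g ≫ (U : Y.Opens).ι)
    haveI := i1
    haveI := i2
    let g1 : Spec W' ⟶ X := g'
    have hg1 : g1 ≫ f = Spec.map φ ≫ g ≫ (U : Y.Opens).ι := hg'
    have hr : Set.range g1 ⊆ Set.range (f ⁻¹ᵁ (U : Y.Opens)).ι := by
      rw [Scheme.Opens.range_ι]
      rintro _ ⟨x, rfl⟩
      show f (g1 x) ∈ (U : Y.Opens)
      have : f (g1 x) = (U : Y.Opens).ι ((Spec.map φ ≫ g) x) := by
        rw [← Scheme.Hom.comp_apply, hg1, ← Category.assoc, Scheme.Hom.comp_apply]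
      rw [this]
      exact ((Spec.map φ ≫ g) x).2
    let g2 : Spec W' ⟶ ((f ⁻¹ᵁ (U : Y.Opens) : X.Opens) : Scheme.{u}) :=
      IsOpenImmersion.lift (f ⁻¹ᵁ (U : Y.Opens)).ι g1 hr
    have hg2 : g2 ≫ (f ⁻¹ᵁ (U : Y.Opens)).ι = g1 := IsOpenImmersion.lift_fac _ _ _
    have hg2' : g2 ≫ (f ∣_ (U : Y.Opens)) = Spec.map φ ≫ g := by
      rw [← cancel_mono (U : Y.Opens).ι, Category.assoc, morphismRestrict_ι, ← Category.assoc,
        hg2, hg1, Category.assoc]
    obtain ⟨k, hk⟩ := hcov (g2 (closedPoint W'))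
    have hr3 : Set.range g2 ⊆ Set.range (W k).ι := by
      rw [Scheme.Opens.range_ι]
      exact Groth.Agent.Helper5.HTopLib.range_subset_of_closedPoint_mem W' g2 (W k) hk
    refine ⟨W', i1, i2, φ, hφ, k, IsOpenImmersion.lift (W k).ι g2 hr3, ?_⟩
    show IsOpenImmersion.lift (W k).ι g2 hr3 ≫ (W k).ι ≫ (f ∣_ (U : Y.Opens)) = Spec.map φ ≫ g
    rw [← Category.assoc, IsOpenImmersion.lift_fac, hg2']
  · intro k
    refine ⟨⟨⟩, (W k).ι ≫ (f ⁻¹ᵁ (U : Y.Opens)).ι, ?_⟩
    show ((W k).ι ≫ (f ⁻¹ᵁ (U : Y.Opens)).ι) ≫ f =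
      ((W k).ι ≫ (f ∣_ (U : Y.Opens))) ≫ (U : Y.Opens).ι
    rw [Category.assoc, Category.assoc, morphismRestrict_ι]

/-- Valuative lifting ⇒ lifting of specializations after any base change. -/
theorem spec_lift_of_hasValLift {X Y : Scheme.{u}} (f : X ⟶ Y)
    (h : HasValLift (PreZeroHypercover.singleton.{w'} f))
    (Z : Scheme.{u}) (g : Z ⟶ Y) (z' z : Z) (hz : z' ⤳ z) :
    ∃ w' w : ↑(pullback g f), w' ⤳ w ∧ pullback.fst g f w' = z' ∧ pullback.fst g f w = z := by
  obtain ⟨A, iA1, iA2, m, hm1, hm2⟩ := exists_valuationRing_of_specializes hz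
  haveI := iA1
  haveI := iA2
  obtain ⟨W, i1, i2, φ, ⟨hφinj, hφloc⟩, j0, g', hg'⟩ := h A (m ≫ g)
  haveI := i1
  haveI := i2
  haveI := hφloc
  let g1 : Spec W ⟶ X := g'
  have hg1 : g1 ≫ f = Spec.map φ ≫ m ≫ g := hg'
  let q : Spec W ⟶ pullback g f := pullback.lift (Spec.map φ ≫ m) g1 (by rw [Category.assoc, hg1])
  have hq : q ≫ pullback.fst g f = Spec.map φ ≫ m := pullback.lift_fst _ _ _
  refine ⟨q (genPt W), q (closedPoint W), (genPt_specializes W _).map q.continuous, ?_, ?_⟩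
  · rw [← Scheme.Hom.comp_apply, hq, Scheme.Hom.comp_apply, map_genPt φ hφinj, hm2]
  · rw [← Scheme.Hom.comp_apply, hq, Scheme.Hom.comp_apply]
    have : Spec.map φ (closedPoint W) = closedPoint A := comap_closedPoint φ.hom
    rw [this, hm1]

/-- Lifting of specializations after base change ⇒ valuative lifting. -/
theorem hasValLift_of_spec_lift {X Y : Scheme.{u}} (f : X ⟶ Y)
    (h : ∀ (Z : Scheme.{u}) (g : Z ⟶ Y) (z' z : Z), z' ⤳ z →
      ∃ w' w : ↑(pullback g f), w' ⤳ w ∧ pullback.fst g f w' = z' ∧ pullback.fst g f w = z) :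
    HasValLift (PreZeroHypercover.singleton.{w'} f) := by
  intro V _ _ g
  obtain ⟨w', w, hw, hw1, hw2⟩ := h (Spec V) g (genPt V) (closedPoint V) (genPt_specializes V _)
  obtain ⟨A, iA1, iA2, m, hm1, hm2⟩ := exists_valuationRing_of_specializes hw
  haveI := iA1
  haveI := iA2
  let φ : V ⟶ A := Spec.preimage (m ≫ pullback.fst g f)
  have hφ : Spec.map φ = m ≫ pullback.fst g f := Spec.map_preimage _
  have hc : Spec.map φ (closedPoint A) = closedPoint V := by
    rw [hφ, Scheme.Hom.comp_apply, hm1, hw2]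
  have hgen : Spec.map φ (genPt A) = genPt V := by
    rw [hφ, Scheme.Hom.comp_apply, hm2, hw1]
  have hloc : IsLocalHom φ.hom := (isLocalHom_iff_comap_closedPoint φ.hom).2 hc
  have hinj : Function.Injective φ.hom := by
    rw [RingHom.injective_iff_ker_eq_bot, RingHom.ker_eq_comap_bot]
    have := congrArg PrimeSpectrum.asIdeal hgen
    exact this
  refine ⟨A, iA1, iA2, φ, ⟨hinj, hloc⟩, ⟨⟩, m ≫ pullback.snd g f, ?_⟩
  show (m ≫ pullback.snd g f) ≫ f = Spec.map φ ≫ g
  rw [Category.assoc, ← pullback.condition, hφ, Category.assoc]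

end Groth.Agent.S7476aux

namespace Groth.Agent.S7476

open CategoryTheory CategoryTheory.Limits AlgebraicGeometry in
/-- Let f : X -> Y be a quasi-compact morphism of schemes. Then the one-member family of f is a V
covering if and only if every morphism from the spectrum of a valuation ring to Y lifts to X after
an extension of valuation rings; and the latter holds if and only if for every morphism Z -> Y and
every specialization z' ⤳ z of points of Z there is a specialization w' ⤳ w of points of Z x_Y X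
mapping to z' ⤳ z. -/
theorem result {X Y : Scheme.{u}} (f : X ⟶ Y) [QuasiCompact f] : (HTop.IsVCover (PreZeroHypercover.singleton f) ↔ HTop.HasValLift (PreZeroHypercover.singleton f)) ∧ (HTop.HasValLift (PreZeroHypercover.singleton f) ↔ ∀ (Z : Scheme.{u}) (g : Z ⟶ Y) (z' z : Z), z' ⤳ z → ∃ w' w : ↑(pullback g f), w' ⤳ w ∧ pullback.fst g f w' = z' ∧ pullback.fst g f w = z) := by
  refine ⟨⟨Groth.Agent.S7476aux.hasValLift_of_isVCover f,
    Groth.Agent.S7476aux.isVCover_of_hasValLift f⟩,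
    ⟨Groth.Agent.S7476aux.spec_lift_of_hasValLift f,
    Groth.Agent.S7476aux.hasValLift_of_spec_lift f⟩⟩

end Groth.Agent.S7476
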