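import Groth.Statements.S7467
import Mathlib
import Groth.Agent.S7476

set_option autoImplicit false
universe w u
open HTop

namespace Groth.Agent.S7467aux

open CategoryTheory CategoryTheory.Limits AlgebraicGeometry HTop IsLocalRing
open Groth.Agent.S7476aux

universe w'

/-- A family of flat, jointly surjective morphisms has the valuative lifting property. -/
theorem hasValLift_of_flat_surj {T : Scheme.{u}} (E : PreZeroHypercover.{w'} T)
    (hflat : ∀ j, Flat (E.f j)) (hsurj : ∀ t : T, ∃ (j : E.I₀) (x : E.X j), E.f j x = t) :
    HasValLift E := by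
  intro V _ _ g
  obtain ⟨j, x, hx⟩ := hsurj (g (closedPoint V))
  obtain ⟨w, hw1, hw2⟩ := Scheme.Pullback.exists_preimage_pullback (f := g) (g := E.f j)
    (closedPoint V) x hx.symm
  haveI := hflat j
  have hgen : GeneralizingMap (pullback.fst g (E.f j)) := Flat.generalizingMap _
  obtain ⟨w', hw', hw'1⟩ := hgen (a := w) (b := genPt V) (by rw [hw1]; exact genPt_specializes V _)
  obtain ⟨A, iA1, iA2, m, hm1, hm2⟩ := exists_valuationRing_of_specializes hw'
  haveI := iA1
  haveI := iA2
  let φ : V ⟶ A := Spec.preimage (m ≫ pullback.fst g (E.f j))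
  have hφ : Spec.map φ = m ≫ pullback.fst g (E.f j) := Spec.map_preimage _
  have hc : Spec.map φ (closedPoint A) = closedPoint V := by
    rw [hφ, Scheme.Hom.comp_apply, hm1, hw1]
  have hgen' : Spec.map φ (genPt A) = genPt V := by
    rw [hφ, Scheme.Hom.comp_apply, hm2, hw'1]
  have hloc : IsLocalHom φ.hom := (isLocalHom_iff_comap_closedPoint φ.hom).2 hc
  have hinj : Function.Injective φ.hom := by
    rw [RingHom.injective_iff_ker_eq_bot, RingHom.ker_eq_comap_bot]
    have := congrArg PrimeSpectrum.asIdeal hgen'
    exact this
  refine ⟨A, iA1, iA2, φ, ⟨hinj, hloc⟩, j, m ≫ pullback.snd g (E.f j), ?_⟩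
  rw [Category.assoc, ← pullback.condition, hφ, Category.assoc]

end Groth.Agent.S7467aux

namespace Groth.Agent.S7467

open CategoryTheory CategoryTheory.Limits AlgebraicGeometry in
/-- A standard fpqc covering, that is a finite family of flat morphisms T_j -> T of affine schemes whose
images jointly cover the affine scheme T, is a standard V covering (every morphism from the spectrum
of a valuation ring to T lifts to some T_j after an extension of valuation rings). -/
theorem result {T : Scheme.{u}} [IsAffine T] (E : PreZeroHypercover.{w} T) (hfin : Finite E.I₀) (haff : ∀ j, IsAffine (E.X j)) (hflat : ∀ j, Flat (E.f j)) (hsurj : ∀ t : T, ∃ (j : E.I₀) (x : E.X j), E.f j x = t) : HTop.IsStandardV E := by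
  exact ⟨inferInstance, hfin, haff, Groth.Agent.S7467aux.hasValLift_of_flat_surj E hflat hsurj⟩

end Groth.Agent.S7467
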