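import Groth.Statements.S7473
import Mathlib
import Groth.Agent.S7467

set_option autoImplicit false
universe u
open HTop

namespace Groth.Agent.S7473

open CategoryTheory CategoryTheory.Limits AlgebraicGeometry in
/-- An fpqc covering of a scheme T is a V covering. (Here an fpqc covering is a family in Mathlib's fpqc
precoverage: flat, jointly surjective, and every affine open of T is the union of the images of
finitely many quasi-compact opens of the members. The further clauses for fppf, syntomic, smooth,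
étale and Zariski coverings follow because those coverings are fpqc coverings; the clause for ph
coverings is the standard ph statement applied over each affine open.) -/
theorem result {T : Scheme.{u}} : ∀ 𝒰 : Scheme.Cover Scheme.fpqcPrecoverage T, HTop.IsVCover 𝒰.toPreZeroHypercover := by
  intro 𝒰 U
  haveI : IsAffine ((U : T.Opens) : Scheme.{u}) := U.2
  have hmem := 𝒰.mem₀
  have hqc : QuasiCompactCover 𝒰.toPreZeroHypercover :=
    Scheme.presieve₀_mem_qcPrecoverage_iff.1 hmem.1
  have hfl : ∀ i, Flat (𝒰.f i) :=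
    ((Scheme.presieve₀_mem_precoverage_iff (P := @Flat) 𝒰.toPreZeroHypercover).1 hmem.2).2
  obtain ⟨n, a, V, hV, hUn⟩ := QuasiCompactCover.exists_isAffineOpen_of_isCompact
    𝒰.toPreZeroHypercover U.2.isCompact
  have hr : ∀ k, Set.range ((V k).ι ≫ 𝒰.f (a k)) ⊆ Set.range (U : T.Opens).ι := by
    intro k
    rw [Scheme.Opens.range_ι, ← hUn]
    rintro _ ⟨x, rfl⟩
    exact Set.mem_iUnion.2 ⟨k, ⟨x.1, x.2, rfl⟩⟩
  let l : ∀ k, ((V k : (𝒰.X (a k)).Opens) : Scheme.{u}) ⟶ ((U : T.Opens) : Scheme.{u}) :=
    fun k => IsOpenImmersion.lift (U : T.Opens).ι ((V k).ι ≫ 𝒰.f (a k)) (hr k)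
  have hl : ∀ k, l k ≫ (U : T.Opens).ι = (V k).ι ≫ 𝒰.f (a k) :=
    fun k => IsOpenImmersion.lift_fac _ _ _
  refine ⟨⟨Fin n, fun k => ((V k : (𝒰.X (a k)).Opens) : Scheme.{u}), l⟩, ?_, ?_⟩
  · refine Groth.Agent.S7467.result _ (inferInstanceAs (Finite (Fin n))) (fun k => hV k) ?_ ?_
    · intro k
      haveI := hfl (a k)
      have : Flat (l k ≫ (U : T.Opens).ι) := by
        rw [hl k]
        infer_instance
      exact MorphismProperty.of_postcomp (W := @Flat) (W' := @IsOpenImmersion) (l k)
        (U : T.Opens).ι inferInstance this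
    · intro t
      have ht : t.1 ∈ ⋃ i, 𝒰.f (a i) '' (V i) := by
        rw [hUn]
        exact t.2
      obtain ⟨k, y, hy, hyt⟩ := Set.mem_iUnion.1 ht
      refine ⟨k, ⟨y, hy⟩, ?_⟩
      apply (U : T.Opens).ι.injective
      show (l k ≫ (U : T.Opens).ι) ⟨y, hy⟩ = (U : T.Opens).ι t
      rw [hl k]
      exact hyt
  · intro k
    exact ⟨a k, (V k).ι, (hl k).symm⟩

end Groth.Agent.S7473
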