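import Groth.Statements.S7474
import Mathlib
import Groth.Agent.Lib.Helper5.VSheaf

set_option autoImplicit false
universe w u
open HTop

namespace Groth.Agent.S7474

open CategoryTheory CategoryTheory.Limits AlgebraicGeometry in
/-- A presheaf F of sets on the category of all schemes has the sheaf property for every V covering
family exactly when F is a sheaf for the Zariski topology and has the sheaf property for each
standard V covering. -/
theorem result (F : Scheme.{u}ᵒᵖ ⥤ Type w) : HTop.IsVSheaf F ↔ (Presieve.IsSheaf Scheme.zariskiTopology F ∧ ∀ (T : Scheme.{u}) (E : PreZeroHypercover.{u} T), HTop.IsStandardV E → Presieve.IsSheafFor F E.presieve₀) := by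
  constructor
  · intro hV
    refine ⟨Groth.Agent.Helper5.VSheaf.zariski_of_isVSheaf F hV, ?_⟩
    intro T E hE
    exact hV _ ((HTop.presieve₀_mem_vPrecoverage_iff E).2
      (Groth.Agent.Helper5.VSheaf.isVCover_of_isStandardV E hE))
  · rintro ⟨hzar, hstd⟩
    intro X R hR
    obtain ⟨E, hE, rfl⟩ := PreZeroHypercoverFamily.mem_precoverage_iff.1 hR
    refine Groth.Agent.Helper5.VSheaf.sheafFor_of_isVCover F hzar ?_ E hE
    intro T G hG
    have := hstd T (G.reindex (Equiv.ulift.{u, 0} : ULift.{u, 0} G.I₀ ≃ G.I₀))
      (Groth.Agent.Helper5.VSheaf.isStandardV_reindex G _ hG)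
    rwa [PreZeroHypercover.presieve₀_reindex] at this

end Groth.Agent.S7474
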