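import Groth.Statements.S7477
import Mathlib
import Groth.Agent.S7476
import Groth.Agent.S7471

set_option autoImplicit false
universe w u
open HTop

namespace Groth.Agent.S7477aux

open CategoryTheory CategoryTheory.Limits AlgebraicGeometry HTop IsLocalRing
open Groth.Agent.S7476aux

universe w'

theorem PL {R S' : Type u} [CommRing R] [CommRing S'] (φ : R →+* S')
    (Z : Set (PrimeSpectrum S')) (hZ : IsClosed Z) (p : PrimeSpectrum R)
    (hp : p ∈ closure (PrimeSpectrum.comap φ '' Z)) :
    ∃ q ∈ Z, PrimeSpectrum.comap φ q ⤳ p := by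
  obtain ⟨I, rfl⟩ := (PrimeSpectrum.isClosed_iff_zeroLocus_ideal Z).mp hZ
  rw [PrimeSpectrum.closure_image_comap_zeroLocus] at hp
  obtain ⟨q, hqI, hq, hqle⟩ := p.asIdeal.exists_ideal_comap_le_prime I hp
  exact ⟨⟨q, hq⟩, hqI, (PrimeSpectrum.le_iff_specializes ⟨q.comap φ, inferInstance⟩ p).mp hqle⟩

/-- Points in the closure of the image of a closed set under a morphism of affine schemes are
specializations of points of the image. -/
theorem CL {X T : Scheme.{u}} [IsAffine X] [IsAffine T] (f : X ⟶ T) (C : Set X) (hC : IsClosed C)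
    (y : T) (hy : y ∈ closure (f '' C)) : ∃ x ∈ C, f x ⤳ y := by
  have hnat := Scheme.isoSpec_hom_naturality f
  have hy' : T.isoSpec.hom y ∈ closure (Spec.map f.appTop '' (X.isoSpec.hom '' C)) := by
    have h1 : T.isoSpec.hom y ∈ T.isoSpec.hom '' closure (f '' C) := ⟨y, hy, rfl⟩
    have h2 := image_closure_subset_closure_image (T.isoSpec.hom.continuous) h1
    have h3 : T.isoSpec.hom '' (f '' C) = Spec.map f.appTop '' (X.isoSpec.hom '' C) := by
      ext z
      constructor
      · rintro ⟨_, ⟨x, hx, rfl⟩, rfl⟩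
        refine ⟨X.isoSpec.hom x, ⟨x, hx, rfl⟩, ?_⟩
        rw [← Scheme.Hom.comp_apply, hnat, Scheme.Hom.comp_apply]
      · rintro ⟨_, ⟨x, hx, rfl⟩, rfl⟩
        refine ⟨f x, ⟨x, hx, rfl⟩, ?_⟩
        rw [← Scheme.Hom.comp_apply, ← hnat, Scheme.Hom.comp_apply]
    rwa [h3] at h2
  have hcl : IsClosed (X.isoSpec.hom '' C) :=
    (X.isoSpec.hom.homeomorph).isClosedMap _ hC
  obtain ⟨q, ⟨x, hx, rfl⟩, hq⟩ := PL f.appTop.hom (X.isoSpec.hom '' C) hcl (T.isoSpec.hom y) hy'
  refine ⟨x, hx, ?_⟩
  have h4 : (Spec.map f.appTop) (X.isoSpec.hom x) = T.isoSpec.hom (f x) := by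
    rw [← Scheme.Hom.comp_apply, hnat, Scheme.Hom.comp_apply]
  have hq' : T.isoSpec.hom (f x) ⤳ T.isoSpec.hom y := by
    rw [← h4]
    exact hq
  have := hq'.map T.isoSpec.inv.continuous
  simpa using this

/-- A standard V covering is jointly surjective. -/
theorem surj_of_standardV {T : Scheme.{u}} (G : PreZeroHypercover.{w'} T) (hG : IsStandardV G)
    (t : T) : ∃ (j : G.I₀) (x : G.X j), G.f j x = t := by
  obtain ⟨W, i1, i2, φ, hφ, j, g', hg'⟩ := hG.lift (T.residueField t) (T.fromSpecResidueField t)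
  haveI := i1
  haveI := i2
  refine ⟨j, g' (closedPoint W), ?_⟩
  rw [← Scheme.Hom.comp_apply, hg', Scheme.Hom.comp_apply, Scheme.fromSpecResidueField_apply]

theorem surj_of_isVCover {T : Scheme.{u}} (F : PreZeroHypercover.{w'} T) (hF : IsVCover F)
    (t : T) : ∃ (i : F.I₀) (x : F.X i), F.f i x = t := by
  obtain ⟨U, hU, ht, -⟩ := exists_isAffineOpen_mem_and_subset (X := T) (x := t) (U := ⊤) (by simp)
  have hU' : U ∈ T.affineOpens := hU
  obtain ⟨G, hG, hGF⟩ := hF ⟨U, hU'⟩
  obtain ⟨j, x, hx⟩ := surj_of_standardV G hG ⟨t, ht⟩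
  obtain ⟨i, h, hh⟩ := hGF j
  refine ⟨i, h x, ?_⟩
  rw [← Scheme.Hom.comp_apply, hh, Scheme.Hom.comp_apply, hx]
  rfl

/-- For a standard V covering, a set whose preimages are all closed is closed. -/
theorem isClosed_of_standardV {T : Scheme.{u}} (G : PreZeroHypercover.{w'} T) (hG : IsStandardV G)
    (S : Set T) (hS : ∀ j, IsClosed ((G.f j) ⁻¹' S)) : IsClosed S := by
  haveI := hG.isAffine
  haveI := hG.isAffine_obj
  haveI := hG.finite_index
  have hstab : StableUnderSpecialization S := by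
    intro x y hxy hx
    obtain ⟨A, iA1, iA2, m, hm1, hm2⟩ := exists_valuationRing_of_specializes hxy
    haveI := iA1
    haveI := iA2
    obtain ⟨W, i1, i2, φ, ⟨hφinj, hφloc⟩, j, g', hg'⟩ := hG.lift A m
    haveI := i1
    haveI := i2
    haveI := hφloc
    have h1 : g' (genPt W) ∈ (G.f j) ⁻¹' S := by
      show G.f j (g' (genPt W)) ∈ S
      rw [← Scheme.Hom.comp_apply, hg', Scheme.Hom.comp_apply, map_genPt φ hφinj, hm2]
      exact hx
    have h2 : g' (closedPoint W) ∈ (G.f j) ⁻¹' S :=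
      (hS j).stableUnderSpecialization ((genPt_specializes W _).map g'.continuous) h1
    have h3 : G.f j (g' (closedPoint W)) = y := by
      rw [← Scheme.Hom.comp_apply, hg', Scheme.Hom.comp_apply]
      have : Spec.map φ (closedPoint W) = closedPoint A := comap_closedPoint φ.hom
      rw [this, hm1]
    rw [← h3]
    exact h2
  have hunion : S = ⋃ j, (G.f j) '' ((G.f j) ⁻¹' S) := by
    ext t
    simp only [Set.mem_iUnion, Set.mem_image, Set.mem_preimage]
    constructor
    · intro ht
      obtain ⟨j, x, hx⟩ := surj_of_standardV G hG t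
      exact ⟨j, x, hx ▸ ht, hx⟩
    · rintro ⟨j, x, hx, rfl⟩
      exact hx
  rw [← closure_subset_iff_isClosed]
  intro y hy
  rw [hunion, closure_iUnion_of_finite] at hy
  obtain ⟨j, hj⟩ := Set.mem_iUnion.1 hy
  obtain ⟨x, hx, hxy⟩ := CL (G.f j) _ (hS j) y hj
  exact hstab hxy hx

/-- For a V covering, a set whose preimages are all closed is closed. -/
theorem isClosed_of_isVCover {T : Scheme.{u}} (F : PreZeroHypercover.{w'} T) (hF : IsVCover F)
    (S : Set T) (hS : ∀ i, IsClosed ((F.f i) ⁻¹' S)) : IsClosed S := by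
  have hcov : TopologicalSpace.IsOpenCover (fun U : T.affineOpens => (U : T.Opens)) :=
    iSup_affineOpens_eq_top T
  rw [hcov.isClosed_iff_coe_preimage]
  intro U
  obtain ⟨G, hG, hGF⟩ := hF U
  show IsClosed ((U : T.Opens).ι ⁻¹' S)
  refine isClosed_of_standardV G hG _ ?_
  intro j
  obtain ⟨i, h, hh⟩ := hGF j
  have h5 : (G.f j) ⁻¹' ((U : T.Opens).ι ⁻¹' S) = h ⁻¹' ((F.f i) ⁻¹' S) := by
    ext x
    simp only [Set.mem_preimage]
    rw [← Scheme.Hom.comp_apply, ← Scheme.Hom.comp_apply, hh]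
  rw [h5]
  exact (hS i).preimage h.continuous

/-- Any morphism through which all members of a V covering factor is a quotient map. -/
theorem isQuotientMap_of_isVCover {T P : Scheme.{u}} (F : PreZeroHypercover.{w'} T)
    (hF : IsVCover F) (p : P ⟶ T) (hs : ∀ i, ∃ s : F.X i ⟶ P, s ≫ p = F.f i) :
    Topology.IsQuotientMap p := by
  choose s hs using hs
  rw [Topology.isQuotientMap_iff_isClosed]
  refine ⟨?_, fun S => ⟨fun h => h.preimage p.continuous, fun h => ?_⟩⟩
  · intro t
    obtain ⟨i, x, hx⟩ := surj_of_isVCover F hF t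
    refine ⟨s i x, ?_⟩
    rw [← Scheme.Hom.comp_apply, hs i, hx]
  · refine isClosed_of_isVCover F hF S ?_
    intro i
    have : (F.f i) ⁻¹' S = (s i) ⁻¹' (p ⁻¹' S) := by
      ext x
      simp only [Set.mem_preimage]
      rw [← Scheme.Hom.comp_apply, hs i]
    rw [this]
    exact h.preimage (s i).continuous

end Groth.Agent.S7477aux

namespace Groth.Agent.S7477

open CategoryTheory CategoryTheory.Limits AlgebraicGeometry in
/-- If {f_i : X_i -> X} is a V covering (indexed by a type in the universe of X), then the morphism from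
the coproduct of the X_i to X induced by the f_i is universally submersive. -/
theorem result {X : Scheme.{u}} (E : PreZeroHypercover.{u} X) (hE : HTop.IsVCover E) : SGA1.UnivSubmersive (Sigma.desc E.f) := by
  intro X' Y' i₁ i₂ f' hpb
  show Topology.IsQuotientMap f'
  refine Groth.Agent.S7477aux.isQuotientMap_of_isVCover (E.pullback₁ i₂)
    (Groth.Agent.S7471.result i₂ E hE) f' ?_
  intro i
  refine ⟨hpb.lift (pullback.fst i₂ (E.f i)) (pullback.snd i₂ (E.f i) ≫ Sigma.ι E.X i) ?_, ?_⟩
  · rw [Category.assoc, Sigma.ι_desc]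
    exact pullback.condition
  · exact hpb.lift_fst _ _ _

end Groth.Agent.S7477
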