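import Groth.Statements.S7478
import Mathlib

set_option autoImplicit false
universe w u
open HTop

namespace Groth.Agent.S7478

open CategoryTheory CategoryTheory.Limits AlgebraicGeometry in
/-- The base change of a standard ph covering along a morphism of affine schemes T' -> T is a standard
ph covering of T'. -/
theorem result {T T' : Scheme.{u}} [IsAffine T'] (g : T' ⟶ T) (E : PreZeroHypercover.{w} T) (hE : HTop.IsStandardPh E) : HTop.IsStandardPh (E.pullback₁ g) := by
  obtain ⟨U, f, ι, hf1, hf2, hι, hfac, hcov⟩ := hE.exists_proper
  haveI := hE.isAffine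
  haveI := hE.isAffine_obj
  haveI := hf1
  haveI := hf2
  refine ⟨inferInstance, hE.finite_index, ?_, ?_⟩
  · intro j
    show IsAffine (pullback g (E.f j))
    infer_instance
  · have hc : ∀ j, pullback.fst g (E.f j) ≫ g = (pullback.snd g (E.f j) ≫ ι j) ≫ f := by
      intro j
      rw [Category.assoc, hfac j]
      exact pullback.condition
    have hsq : ∀ j, IsPullback (pullback.snd g (E.f j))
        (pullback.lift (pullback.fst g (E.f j)) (pullback.snd g (E.f j) ≫ ι j) (hc j))
        (ι j) (pullback.snd g f) := by
      intro j
      refine IsPullback.of_bot ?_ (pullback.lift_snd _ _ _).symm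
        (IsPullback.of_hasPullback g f).flip
      rw [pullback.lift_fst, hfac j]
      exact (IsPullback.of_hasPullback g (E.f j)).flip
    refine ⟨pullback g f, pullback.fst g f,
      fun j => pullback.lift (pullback.fst g (E.f j)) (pullback.snd g (E.f j) ≫ ι j) (hc j),
      inferInstance, inferInstance, ?_, ?_, ?_⟩
    · intro j
      exact MorphismProperty.of_isPullback (P := @IsOpenImmersion) (hsq j) (hι j)
    · intro j
      exact pullback.lift_fst _ _ _
    · intro x
      obtain ⟨j, hj⟩ := hcov (pullback.snd g f x)
      refine ⟨j, ?_⟩
      haveI := hι j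
      have h1 := (hsq j).isoPullback_hom_snd
      have h2 : Set.range (pullback.lift (pullback.fst g (E.f j)) (pullback.snd g (E.f j) ≫ ι j)
          (hc j)) = Set.range (pullback.snd (ι j) (pullback.snd g f)) := by
        rw [← h1]
        ext y
        constructor
        · rintro ⟨a, rfl⟩
          exact ⟨(hsq j).isoPullback.hom a, rfl⟩
        · rintro ⟨a, rfl⟩
          refine ⟨(hsq j).isoPullback.inv a, ?_⟩
          show ((hsq j).isoPullback.inv ≫ (hsq j).isoPullback.hom ≫ pullback.snd (ι j) (pullback.snd g f)) a = _
          rw [Iso.inv_hom_id_assoc]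
      show x ∈ Set.range (pullback.lift (pullback.fst g (E.f j)) (pullback.snd g (E.f j) ≫ ι j)
          (hc j))
      rw [h2, Scheme.Pullback.range_snd]
      exact hj

end Groth.Agent.S7478
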