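import Groth.Statements.S7486
import Mathlib
import Groth.Agent.Lib.Helper5.GrpdLib

set_option autoImplicit false
universe u
open CategoryTheory CategoryTheory.Limits AlgebraicGeometry
open Grpd

namespace Groth.Agent.S7486

section Alg
open TensorProduct

/-- copy of a ring, to carry a second algebra structure -/
def Cp (B : Type u) : Type u := B

noncomputable instance instCommRingCp (B : Type u) [CommRing B] : CommRing (Cp B) :=
  inferInstanceAs (CommRing B)

variable {A B D : Type u} [CommRing A] [CommRing B] [CommRing D]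

lemma indep (s t : A →+* B) (f g : B →+* D)
    (hpo : IsPushout (CommRingCat.ofHom t) (CommRingCat.ofHom s) (CommRingCat.ofHom g)
      (CommRingCat.ofHom f))
    {I : Type u} (y : I → B)
    (hB : letI := s.toAlgebra; ∃ b : Module.Basis I A B, ∀ i, b i = y i)
    (F : Finset I) (β : I → B) (h : ∑ i ∈ F, f (y i) * g (β i) = 0) : ∀ i ∈ F, β i = 0 := by
  letI : Algebra A B := s.toAlgebra
  obtain ⟨b, hb⟩ := hB
  letI iACp : Algebra A (Cp B) := RingHom.toAlgebra (show A →+* Cp B from t)
  letI iCpD : Algebra (Cp B) D := RingHom.toAlgebra (show Cp B →+* D from g)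
  letI iBD : Algebra B D := f.toAlgebra
  letI iAD : Algebra A D := (f.comp s).toAlgebra
  haveI : IsScalarTower A B D := IsScalarTower.of_algebraMap_eq (fun _ => rfl)
  haveI : IsScalarTower A (Cp B) D := IsScalarTower.of_algebraMap_eq (fun a => by
    have := congrArg (fun φ => φ.hom a) hpo.w
    exact this.symm)
  have hP : Algebra.IsPushout A (Cp B) B D := CommRingCat.isPushout_iff_isPushout.mp hpo
  let bD : Module.Basis I (Cp B) D := hP.out.basis b
  have hbD : ∀ i, bD i = f (y i) := fun i => by
    rw [IsBaseChange.basis_apply, hb]; rfl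
  have hli := bD.linearIndependent
  rw [linearIndependent_iff'] at hli
  refine hli F β ?_
  rw [← h]
  refine Finset.sum_congr rfl fun i _ => ?_
  rw [hbD, Algebra.smul_def, mul_comm]
  rfl

theorem alg (s t : A →+* B) (f g c : B →+* D) (e : B →+* A)
    (hpo : IsPushout (CommRingCat.ofHom t) (CommRingCat.ofHom s) (CommRingCat.ofHom g)
      (CommRingCat.ofHom f))
    (hct : ∀ a, c (t a) = f (t a)) (hcs : ∀ a, c (s a) = g (s a))
    (hes : ∀ a, e (s a) = a) (het : ∀ a, e (t a) = a)
    {I : Type u} (x : I → A)
    (hB : letI := s.toAlgebra; ∃ b : Module.Basis I A B, ∀ i, b i = t (x i)) :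
    (∃ b : Module.Basis I (RingHom.eqLocus s t) A, ∀ i, b i = x i) ∧
    (letI := (s.comp (RingHom.eqLocus s t).subtype).toAlgebra;
      ∀ φ : A ⊗[RingHom.eqLocus s t] A →ₗ[RingHom.eqLocus s t] B,
        (∀ a a' : A, φ (a ⊗ₜ[RingHom.eqLocus s t] a') = t a * s a') → Function.Bijective φ) := by
  classical
  have hfg : ∀ a, f (s a) = g (t a) := fun a => (congrArg (fun φ => φ.hom a) hpo.w).symm
  have hsinj : Function.Injective s := fun a a' h => by rw [← hes a, ← hes a', h]
  have htinj : Function.Injective t := fun a a' h => by rw [← het a, ← het a', h]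
  have hB' := hB
  letI : Algebra A B := s.toAlgebra
  obtain ⟨b, hb⟩ := hB
  have hrepr : ∀ b' : B, b' = ∑ i ∈ (b.repr b').support, s (b.repr b' i) * t (x i) := by
    intro b'
    have h6 := b.linearCombination_repr b'
    rw [Finsupp.linearCombination_apply, Finsupp.sum] at h6
    refine h6.symm.trans (Finset.sum_congr rfl fun i _ => ?_)
    rw [hb, Algebra.smul_def, RingHom.algebraMap_toAlgebra]
  -- key: coefficients are invariant
  have hcoef : ∀ a : A, ∀ i, s (b.repr (t a) i) = t (b.repr (t a) i) := by
    intro a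
    obtain ⟨l, hl⟩ : ∃ l, b.repr (t a) = l := ⟨_, rfl⟩
    have hta : t a = ∑ i ∈ l.support, s (l i) * t (x i) := by
      have := hrepr (t a)
      rw [hl] at this
      exact this
    rw [hl]
    have h1 : c (t a) = ∑ i ∈ l.support, f (t (x i)) * g (s (l i)) := by
      conv_lhs => rw [hta]
      rw [map_sum]
      refine Finset.sum_congr rfl fun i _ => ?_
      rw [map_mul, hcs, hct, mul_comm]
    have h2 : f (t a) = ∑ i ∈ l.support, f (t (x i)) * g (t (l i)) := by
      conv_lhs => rw [hta]
      rw [map_sum]
      refine Finset.sum_congr rfl fun i _ => ?_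
      rw [map_mul, hfg, mul_comm]
    have h3 : ∑ i ∈ l.support, f (t (x i)) * g (s (l i) - t (l i)) = 0 := by
      simp only [map_sub, mul_sub, Finset.sum_sub_distrib]
      rw [← h1, ← h2, hct, sub_self]
    have h4 := indep s t f g hpo (fun i => t (x i)) hB' l.support
      (fun i => s (l i) - t (l i)) h3
    intro i
    by_cases hi : i ∈ l.support
    · exact sub_eq_zero.mp (h4 i hi)
    · rw [Finsupp.notMem_support_iff.mp hi, map_zero, map_zero]
  have hli : LinearIndependent (RingHom.eqLocus s t) x := by
    rw [linearIndependent_iff']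
    intro F γ hγ i hi
    have h5 : ∑ j ∈ F, ((γ j : A)) • b j = 0 := by
      have := congrArg t hγ
      rw [map_sum, map_zero] at this
      rw [← this]
      refine Finset.sum_congr rfl fun j _ => ?_
      have hj : s (γ j : A) = t (γ j : A) := (γ j).2
      rw [hb, Algebra.smul_def, RingHom.algebraMap_toAlgebra, Subring.smul_def, smul_eq_mul,
        map_mul, hj]
    have := linearIndependent_iff'.mp b.linearIndependent F (fun j => (γ j : A)) h5 i hi
    exact Subtype.ext this
  have hsp : ⊤ ≤ Submodule.span (RingHom.eqLocus s t) (Set.range x) := by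
    intro a _
    have ha : a = ∑ i ∈ (b.repr (t a)).support, (b.repr (t a) i) * x i := by
      apply htinj
      rw [map_sum]
      refine (hrepr (t a)).trans (Finset.sum_congr rfl fun i _ => ?_)
      rw [map_mul, hcoef a i]
    rw [ha]
    refine Submodule.sum_mem _ fun i _ => ?_
    have : (b.repr (t a) i) * x i =
        (⟨b.repr (t a) i, hcoef a i⟩ : RingHom.eqLocus s t) • x i := rfl
    rw [this]
    exact Submodule.smul_mem _ _ (Submodule.subset_span ⟨i, rfl⟩)
  refine ⟨⟨Module.Basis.mk hli hsp, fun i => Module.Basis.mk_apply hli hsp i⟩, ?_⟩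
  letI : Algebra (RingHom.eqLocus s t) B := (s.comp (RingHom.eqLocus s t).subtype).toAlgebra
  intro φ hφ
  have hbA : ∀ a : A, a = ∑ i ∈ ((Module.Basis.mk hli hsp).repr a).support,
      ((Module.Basis.mk hli hsp).repr a i) • x i := by
    intro a
    have h6 := (Module.Basis.mk hli hsp).linearCombination_repr a
    rw [Finsupp.linearCombination_apply, Finsupp.sum] at h6
    refine h6.symm.trans (Finset.sum_congr rfl fun i _ => ?_)
    rw [Module.Basis.mk_apply]
  constructor
  · -- injective
    have hΦ : ∀ z : A ⊗[RingHom.eqLocus s t] A, ∃ L : I →₀ A,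
        (L.sum fun i r => x i ⊗ₜ[RingHom.eqLocus s t] r) = z := by
      intro z
      induction z using TensorProduct.induction_on with
      | zero => exact ⟨0, Finsupp.sum_zero_index⟩
      | tmul a a' =>
        refine ⟨((Module.Basis.mk hli hsp).repr a).mapRange (fun c => c • a') (zero_smul _ _), ?_⟩
        rw [Finsupp.sum_mapRange_index (fun i => TensorProduct.tmul_zero _ _), Finsupp.sum]
        conv_rhs => rw [hbA a, TensorProduct.sum_tmul]
        refine Finset.sum_congr rfl fun i _ => ?_
        rw [TensorProduct.smul_tmul]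
      | add z₁ z₂ h₁ h₂ =>
        obtain ⟨L₁, rfl⟩ := h₁
        obtain ⟨L₂, rfl⟩ := h₂
        exact ⟨L₁ + L₂, Finsupp.sum_add_index' (fun i => TensorProduct.tmul_zero _ _)
          (fun i r₁ r₂ => TensorProduct.tmul_add _ _ _)⟩
    rw [injective_iff_map_eq_zero]
    intro z hz
    obtain ⟨L, rfl⟩ := hΦ z
    rw [Finsupp.sum, map_sum] at hz
    have h7 : ∑ i ∈ L.support, (L i) • b i = 0 := by
      rw [← hz]
      refine Finset.sum_congr rfl fun i _ => ?_
      rw [hφ, hb, Algebra.smul_def, RingHom.algebraMap_toAlgebra, mul_comm]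
    have h8 := linearIndependent_iff'.mp b.linearIndependent L.support (fun i => L i) h7
    rw [Finsupp.sum]
    refine Finset.sum_eq_zero fun i hi => ?_
    rw [h8 i hi, TensorProduct.tmul_zero]
  · -- surjective
    intro b'
    refine ⟨∑ i ∈ (b.repr b').support, x i ⊗ₜ[RingHom.eqLocus s t] (b.repr b' i), ?_⟩
    rw [map_sum]
    refine ((hrepr b').trans (Finset.sum_congr rfl fun i _ => ?_)).symm
    rw [hφ, mul_comm]

end Alg

/-- Let (U, R, s, t, c) be a groupoid scheme over S with U = Spec A and R = Spec B affine (A, B the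
rings of global functions), and let x_i, i in I, be elements of A such that B is free as an A-module
through s^# with basis the elements t^#(x_i). Let C be the subring of R-invariant functions (those a
with s^#(a) = t^#(a)). Then the x_i form a basis of A as a C-module, and the C-linear map A (x)_C A
-> B sending a (x) a' to t^#(a) s^#(a') is bijective (B carries the C-module structure through s^#).
(A groupoid scheme carries U, R, s, t, c, e, i over S with the groupoid axioms on T-points; c is
defined on the fibre product of s and t and sends a pair (a, b) with s(a) = t(b) to a composed with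
b.) -/
theorem result (S : Scheme.{u}) (G : Grpd.GroupoidScheme S) [IsAffine G.U] [IsAffine G.R] (I : Type u) (x : I → Γ(G.U, ⊤)) (hB : letI := G.s.appTop.hom.toAlgebra; ∃ b : Module.Basis I Γ(G.U, ⊤) Γ(G.R, ⊤), ∀ i, b i = G.t.appTop.hom (x i)) : (∃ b : Module.Basis I G.invariants Γ(G.U, ⊤), ∀ i, b i = x i) ∧ (letI := (G.s.appTop.hom.comp G.invariants.subtype).toAlgebra; ∀ φ : TensorProduct G.invariants Γ(G.U, ⊤) Γ(G.U, ⊤) →ₗ[G.invariants] Γ(G.R, ⊤), (∀ a a' : Γ(G.U, ⊤), φ (a ⊗ₜ[G.invariants] a') = G.t.appTop.hom a * G.s.appTop.hom a') → Function.Bijective φ) := by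
  have hpo : IsPushout (CommRingCat.ofHom G.t.appTop.hom) (CommRingCat.ofHom G.s.appTop.hom)
      (CommRingCat.ofHom (pullback.snd G.s G.t).appTop.hom)
      (CommRingCat.ofHom (pullback.fst G.s G.t).appTop.hom) :=
    (isPushout_appTop_of_isPullback (IsPullback.of_hasPullback G.s G.t)).flip
  have hct : ∀ a, G.c.appTop.hom (G.t.appTop.hom a) =
      (pullback.fst G.s G.t).appTop.hom (G.t.appTop.hom a) := fun a => by
    have := congrArg (fun φ : pullback G.s G.t ⟶ G.U => φ.appTop.hom a)
      (Groth.Agent.Helper5.GrpdLib.c_t (G := G))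
    simpa using this
  have hcs : ∀ a, G.c.appTop.hom (G.s.appTop.hom a) =
      (pullback.snd G.s G.t).appTop.hom (G.s.appTop.hom a) := fun a => by
    have := congrArg (fun φ : pullback G.s G.t ⟶ G.U => φ.appTop.hom a)
      (Groth.Agent.Helper5.GrpdLib.c_s (G := G))
    simpa using this
  have hes : ∀ a, G.e.appTop.hom (G.s.appTop.hom a) = a := fun a => by
    have := congrArg (fun φ : G.U ⟶ G.U => φ.appTop.hom a) G.e_s
    simpa using this
  have het : ∀ a, G.e.appTop.hom (G.t.appTop.hom a) = a := fun a => by
    have := congrArg (fun φ : G.U ⟶ G.U => φ.appTop.hom a) G.e_t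
    simpa using this
  exact alg G.s.appTop.hom G.t.appTop.hom (pullback.fst G.s G.t).appTop.hom
    (pullback.snd G.s G.t).appTop.hom G.c.appTop.hom G.e.appTop.hom hpo hct hcs hes het x hB

end Groth.Agent.S7486
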