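import Groth.Statements.S7494
import Groth.Prelude.Def_Magnet2

set_option autoImplicit false
universe u
open CategoryTheory MonoidalCategory CartesianMonoidalCategory MonObj GrpObj AlgebraicGeometry
open AlgGrp

namespace Groth.Agent.S7494

/-- Let G be a group scheme over S acting on a scheme X over S by a. The action is free, meaning that
for every scheme T over S and all T-points g of G and x of X with g · x = x one has g = 1, if and
only if the morphism G x_S X -> X x_S X, (g, x) ↦ (a(g, x), x), is a monomorphism of schemes. -/
theorem result {S : Scheme.{u}} (G X : Over S) [GrpObj G] (a : AlgGrp.Action G X) : (∀ (T : Over S) (g : T ⟶ G) (x : T ⟶ X), lift g x ≫ a.act = x → g = toUnit T ≫ η[G]) ↔ Mono (lift a.act (snd G X)).left := by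
  let b : Magnet.MonAct G X := Magnet.MonAct.ofAction a
  have hb : b.act = a.act := rfl
  constructor
  · intro hfree
    have : Mono (lift a.act (snd G X)) := by
      constructor
      intro T u v huv
      have h1 := congrArg (· ≫ fst X X) huv
      have h2 := congrArg (· ≫ snd X X) huv
      simp only [Category.assoc, lift_fst, lift_snd] at h1 h2
      have hu : u = lift (u ≫ fst G X) (u ≫ snd G X) := by
        apply CartesianMonoidalCategory.hom_ext <;> simp
      have hv : v = lift (v ≫ fst G X) (v ≫ snd G X) := by
        apply CartesianMonoidalCategory.hom_ext <;> simp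
      set g := u ≫ fst G X
      set g' := v ≫ fst G X
      set x := u ≫ snd G X
      rw [hu, hv, ← h2] at h1 ⊢
      have h3 : lift (g'⁻¹ * g) x ≫ a.act = x := by
        rw [← hb, b.lift_mul_act, hb, h1, ← hb, ← b.lift_mul_act, inv_mul_cancel, b.lift_one_act]
      have h4 := hfree T _ x h3
      rw [← Hom.one_def, inv_mul_eq_one] at h4
      rw [h4]
    exact Over.mono_left_of_mono _
  · intro hmono T g x hgx
    have : Mono (lift a.act (snd G X)) := Over.mono_of_mono_left _
    have h1 : lift g x ≫ lift a.act (snd G X) = lift (1 : T ⟶ G) x ≫ lift a.act (snd G X) := by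
      apply CartesianMonoidalCategory.hom_ext
      · simp only [Category.assoc, lift_fst]
        rw [hgx, ← hb, b.lift_one_act]
      · simp
    have h2 := congrArg (· ≫ fst G X) ((cancel_mono _).1 h1)
    simpa [Hom.one_def] using h2


end Groth.Agent.S7494
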