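import Groth.Statements.S7496
import Mathlib

set_option autoImplicit false
universe w u
open CategoryTheory CategoryTheory.Limits AlgebraicGeometry
open HTop

namespace Groth.Agent.S7496aux

lemma aux {X T : Scheme.{u}} [QuasiSeparatedSpace T] (f : X ⟶ T) (V : X.Opens)
    (hV : IsCompact (V : Set X)) (W : T.Opens) (hW : IsAffineOpen W) :
    IsCompact ((V ⊓ f ⁻¹ᵁ W : X.Opens) : Set X) := by
  haveI : CompactSpace V.toScheme := isCompact_iff_compactSpace.mp hV
  have h1 : IsCompact ((V.ι ≫ f) ⁻¹' (W : Set T)) :=
    QuasiCompact.isCompact_preimage (f := V.ι ≫ f) _ W.2 hW.isCompact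
  have h2 := h1.image V.ι.continuous
  convert h2 using 1
  ext y
  constructor
  · rintro ⟨hyV, hyW⟩
    exact ⟨⟨y, hyV⟩, hyW, rfl⟩
  · rintro ⟨z, hz, rfl⟩
    exact ⟨z.2, hz⟩

end Groth.Agent.S7496aux

namespace Groth.Agent.S7496

/-- Let T be a quasi-separated scheme and {f_i : T_i -> T} a family of morphisms. Then every affine open
of T is the union of the images of finitely many quasi-compact opens of the T_i (the
quasi-compactness condition in the definition of an fpqc covering) if and only if for every point t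
of T there are finitely many quasi-compact opens U_j of members T_(i_j) such that the union of the
f_(i_j)(U_j) is a neighbourhood of t. (The published statement also asks every f_i to be flat, on
both sides, and lists two more equivalent forms of the quasi-compactness condition; this row omits
flatness, which plays no part in the equivalence, and states only the equivalence of the
quasi-compactness condition with the neighbourhood condition.) -/
theorem result {T : Scheme.{u}} [QuasiSeparatedSpace T] (E : PreZeroHypercover.{w} T) : QuasiCompactCover E ↔ ∀ t : T, ∃ (n : ℕ) (i : Fin n → E.I₀) (V : ∀ j, (E.X (i j)).Opens), (∀ j, IsCompact (V j : Set (E.X (i j)))) ∧ (⋃ j, ⇑(E.f (i j)) '' (V j : Set (E.X (i j)))) ∈ nhds t := by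
  constructor
  · intro h t
    obtain ⟨U, hU, htU, -⟩ := TopologicalSpace.Opens.isBasis_iff_nbhd.mp T.isBasis_affineOpens
      (TopologicalSpace.Opens.mem_top t)
    obtain ⟨n, i, V, hV, hUeq⟩ :=
      QuasiCompactCover.exists_isAffineOpen_of_isCompact E (U := U) (IsAffineOpen.isCompact hU)
    refine ⟨n, i, V, fun j => (hV j).isCompact, ?_⟩
    rw [hUeq]
    exact U.2.mem_nhds htU
  · intro h
    refine ⟨fun {U} hU => ?_⟩
    refine IsCompactOpenCovered.of_isCompact_of_forall_exists_isCompactOpenCovered
      hU.isCompact fun x hxU => ?_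
    obtain ⟨n, i, V, hV, hN⟩ := h x
    obtain ⟨N, hNdef⟩ : ∃ N : Set T, N = ⋃ j, ⇑(E.f (i j)) '' (V j : Set (E.X (i j))) := ⟨_, rfl⟩
    rw [← hNdef] at hN
    obtain ⟨W, hW, hxW, hWle⟩ := TopologicalSpace.Opens.isBasis_iff_nbhd.mp T.isBasis_affineOpens
      (show x ∈ U ⊓ ⟨interior N, isOpen_interior⟩ from ⟨hxU, mem_interior_iff_mem_nhds.mpr hN⟩)
    refine ⟨W, fun y hy => (hWle hy).1, hxW, W.2, ?_⟩
    refine IsCompactOpenCovered.of_finite (κ := Fin n) i
      (fun j => V j ⊓ (E.f (i j)) ⁻¹ᵁ W) (fun j => ?_) ?_
    · exact Groth.Agent.S7496aux.aux (E.f (i j)) (V j) (hV j) W hW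
    · apply subset_antisymm
      · intro y hy
        simp only [Set.mem_iUnion] at hy
        obtain ⟨j, z, hz, rfl⟩ := hy
        exact hz.2
      · intro y hy
        have hyN : y ∈ N := interior_subset (hWle hy).2
        rw [hNdef] at hyN
        simp only [Set.mem_iUnion] at hyN
        obtain ⟨j, z, hz, rfl⟩ := hyN
        exact Set.mem_iUnion.mpr ⟨j, z, ⟨hz, hy⟩, rfl⟩

end Groth.Agent.S7496
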