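import Groth.Statements.S7498
import Mathlib
import Groth.Agent.Lib.Helper5.GrpdLib

set_option autoImplicit false
universe u
open CategoryTheory CategoryTheory.Limits AlgebraicGeometry
open Grpd

namespace Groth.Agent.S7498

section Aux
open Groth.Agent.Helper5.GrpdLib

variable {S : Scheme.{u}} {G : Grpd.GroupoidScheme S} {K : Scheme.{u}}

lemma hc1 (ρ : K ⟶ G.R) : pullback.fst G.s (ρ ≫ G.s) ≫ G.s =
    (pullback.snd G.s (ρ ≫ G.s) ≫ ρ ≫ G.i) ≫ G.t := by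
  simp only [Category.assoc]
  rw [G.i_t, pullback.condition]

lemma hc2 (ρ ρ' : K ⟶ G.R) (h : ρ ≫ G.t = ρ' ≫ G.t) :
    cmp G (pullback.fst G.s (ρ ≫ G.s)) (pullback.snd G.s (ρ ≫ G.s) ≫ ρ ≫ G.i) (hc1 ρ) ≫ G.s =
      (pullback.snd G.s (ρ ≫ G.s) ≫ ρ') ≫ G.t := by
  rw [cmp_s]
  simp only [Category.assoc]
  rw [G.i_s, h]

lemma exists_fwd (ρ ρ' : K ⟶ G.R) (h : ρ ≫ G.t = ρ' ≫ G.t) :
    ∃ F : pullback G.s (ρ ≫ G.s) ⟶ pullback G.s (ρ' ≫ G.s),
      F ≫ pullback.snd _ _ = pullback.snd _ _ ∧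
      F ≫ pullback.fst _ _ = cmp G (cmp G (pullback.fst _ _) (pullback.snd _ _ ≫ ρ ≫ G.i) (hc1 ρ))
        (pullback.snd _ _ ≫ ρ') (hc2 ρ ρ' h) := by
  refine ⟨pullback.lift (cmp G (cmp G (pullback.fst _ _) (pullback.snd _ _ ≫ ρ ≫ G.i) (hc1 ρ))
    (pullback.snd _ _ ≫ ρ') (hc2 ρ ρ' h)) (pullback.snd _ _) ?_, pullback.lift_snd _ _ _,
    pullback.lift_fst _ _ _⟩
  rw [cmp_s, Category.assoc]

lemma fwd_comp (ρ ρ' : K ⟶ G.R) (h : ρ ≫ G.t = ρ' ≫ G.t)
    (F : pullback G.s (ρ ≫ G.s) ⟶ pullback G.s (ρ' ≫ G.s))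
    (F' : pullback G.s (ρ' ≫ G.s) ⟶ pullback G.s (ρ ≫ G.s))
    (hF1 : F ≫ pullback.snd _ _ = pullback.snd _ _)
    (hF2 : F ≫ pullback.fst _ _ = cmp G (cmp G (pullback.fst _ _)
      (pullback.snd _ _ ≫ ρ ≫ G.i) (hc1 ρ)) (pullback.snd _ _ ≫ ρ') (hc2 ρ ρ' h))
    (hF'1 : F' ≫ pullback.snd _ _ = pullback.snd _ _)
    (hF'2 : F' ≫ pullback.fst _ _ = cmp G (cmp G (pullback.fst _ _)
      (pullback.snd _ _ ≫ ρ' ≫ G.i) (hc1 ρ')) (pullback.snd _ _ ≫ ρ) (hc2 ρ' ρ h.symm)) :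
    F ≫ F' = 𝟙 _ := by
  have hs : ∀ {Z : Scheme.{u}} (m : K ⟶ Z), F ≫ pullback.snd G.s (ρ' ≫ G.s) ≫ m =
      pullback.snd G.s (ρ ≫ G.s) ≫ m := by
    intro Z m; rw [← Category.assoc, hF1]
  apply pullback.hom_ext
  · rw [Category.assoc, hF'2, comp_cmp, Category.id_comp]
    refine (cmp_congr ((comp_cmp F _ _ _).trans (cmp_congr hF2 (hs _) _)) (hs _) _).trans ?_
    refine (cmp_congr (α' := cmp G (pullback.fst G.s (ρ ≫ G.s))
      (pullback.snd G.s (ρ ≫ G.s) ≫ ρ ≫ G.i) (hc1 ρ))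
      (β' := pullback.snd G.s (ρ ≫ G.s) ≫ ρ) ?_ rfl _).trans ?_
    · exact (cmp_congr rfl (Category.assoc _ _ _).symm _).trans (cmp_cmp_i _ _ _ _)
    · exact (cmp_congr (cmp_congr rfl (Category.assoc _ _ _).symm _) rfl _).trans
        (cmp_i_cmp' _ _ _ _)
  · rw [Category.assoc, hF'1, hF1, Category.id_comp]

lemma main_of_pts (k : Type u) [Field k] (ρ ρ' : Spec (CommRingCat.of k) ⟶ G.R)
    (h : ρ ≫ G.t = ρ' ≫ G.t) :
    ∃ (φ : pullback G.s (ρ ≫ G.s) ≅ pullback G.s (ρ' ≫ G.s)) (p : ↑(pullback G.s (ρ ≫ G.s))),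
      φ.hom ≫ pullback.snd _ _ = pullback.snd _ _ ∧
      (pullback.fst G.s (ρ ≫ G.s)) p = ρ (IsLocalRing.closedPoint k) ∧
      (pullback.fst G.s (ρ' ≫ G.s)) (φ.hom p) = ρ' (IsLocalRing.closedPoint k) := by
  obtain ⟨F, hF1, hF2⟩ := exists_fwd ρ ρ' h
  obtain ⟨F', hF'1, hF'2⟩ := exists_fwd ρ' ρ h.symm
  have h1 : F ≫ F' = 𝟙 _ := fwd_comp ρ ρ' h F F' hF1 hF2 hF'1 hF'2
  have h2 : F' ≫ F = 𝟙 _ := fwd_comp ρ' ρ h.symm F' F hF'1 hF'2 hF1 hF2
  have hLc : ρ ≫ G.s = 𝟙 _ ≫ (ρ ≫ G.s) := by rw [Category.id_comp]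
  obtain ⟨L, hL⟩ : ∃ L : Spec (CommRingCat.of k) ⟶ pullback G.s (ρ ≫ G.s),
    L = pullback.lift ρ (𝟙 _) hLc := ⟨_, rfl⟩
  have hL1 : L ≫ pullback.fst _ _ = ρ := by rw [hL, pullback.lift_fst]
  have hL2 : L ≫ pullback.snd _ _ = 𝟙 _ := by rw [hL, pullback.lift_snd]
  have hLs : ∀ {Z : Scheme.{u}} (m : Spec (CommRingCat.of k) ⟶ Z),
      L ≫ pullback.snd G.s (ρ ≫ G.s) ≫ m = m := by
    intro Z m; rw [← Category.assoc, hL2, Category.id_comp]
  have hl : L ≫ F ≫ pullback.fst _ _ = ρ' := by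
    rw [hF2, comp_cmp]
    refine (cmp_congr ((comp_cmp L _ _ _).trans (cmp_congr hL1 (hLs _) _)) (hLs _) _).trans ?_
    refine (cmp_congr (cmp_i ρ (ρ ≫ G.i) rfl _) rfl _).trans ?_
    exact e_cmp _ _ (by rw [reassoc_of% h]) _
  refine ⟨⟨F, F', h1, h2⟩, L (IsLocalRing.closedPoint k), hF1, ?_, ?_⟩
  · rw [← Scheme.Hom.comp_apply, hL1]
  · show (pullback.fst G.s (ρ' ≫ G.s)) (F (L (IsLocalRing.closedPoint k))) = _
    have e1 : pullback.fst G.s (ρ' ≫ G.s) (F (L (IsLocalRing.closedPoint k))) =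
        (L ≫ F ≫ pullback.fst G.s (ρ' ≫ G.s)) (IsLocalRing.closedPoint k) := by
      rw [Scheme.Hom.comp_apply, Scheme.Hom.comp_apply]
    rw [e1, hl]

theorem aux (S : Scheme.{u}) (G : Grpd.GroupoidScheme S) (r r' : G.R) (h : G.t r = G.t r') :
    ∃ (k : Type u) (_ : Field k) (a b : Spec (CommRingCat.of k) ⟶ G.U)
      (φ : pullback G.s a ≅ pullback G.s b) (p : ↑(pullback G.s a)),
      a (IsLocalRing.closedPoint k) = G.s r ∧ b (IsLocalRing.closedPoint k) = G.s r' ∧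
      φ.hom ≫ pullback.snd G.s b = pullback.snd G.s a ∧ pullback.fst G.s a p = r ∧
      pullback.fst G.s b (φ.hom p) = r' := by
  obtain ⟨z, hz1, hz2⟩ := Scheme.Pullback.exists_preimage_pullback (f := G.t) (g := G.t) r r' h
  obtain ⟨ζ, hζ⟩ : ∃ ζ : Spec (CommRingCat.of ((pullback G.t G.t).residueField z)) ⟶
      pullback G.t G.t, ∀ q, ζ q = z :=
    ⟨(pullback G.t G.t).fromSpecResidueField z, fun q => Scheme.fromSpecResidueField_apply z q⟩
  have hρ : (ζ ≫ pullback.fst G.t G.t) ≫ G.t = (ζ ≫ pullback.snd G.t G.t) ≫ G.t := by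
    rw [Category.assoc, Category.assoc, pullback.condition]
  obtain ⟨φ, p, h1, h2, h3⟩ := main_of_pts ((pullback G.t G.t).residueField z)
    (ζ ≫ pullback.fst G.t G.t) (ζ ≫ pullback.snd G.t G.t) hρ
  refine ⟨(pullback G.t G.t).residueField z, inferInstance, _, _, φ, p, ?_, ?_, h1, ?_, ?_⟩
  · rw [Scheme.Hom.comp_apply, Scheme.Hom.comp_apply, hζ, hz1]
  · rw [Scheme.Hom.comp_apply, Scheme.Hom.comp_apply, hζ, hz2]
  · rw [h2, Scheme.Hom.comp_apply, hζ, hz1]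
  · rw [h3, Scheme.Hom.comp_apply, hζ, hz2]

end Aux

/-- Let (U, R, s, t, c) be a groupoid scheme over S and r, r' points of R with t(r) = t(r'); put u =
s(r), u' = s(r') and let F_u, F_u' be the scheme-theoretic fibres of s. Then there are a field k
which is a common extension of κ(u) and κ(u') (morphisms a, b : Spec k -> U with images u, u') and
an isomorphism of the base changes (F_u)_k and (F_u')_k over Spec k, which moreover can be chosen to
send some point lying over r to a point lying over r'. (The published statement also compares the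
germs of s at r and at r' when s and t are flat or flat of finite presentation; this row omits
that.) (A groupoid scheme carries U, R, s, t, c, e, i over S with the groupoid axioms on T-points; c
is defined on the fibre product of s and t and sends a pair (a, b) with s(a) = t(b) to a composed
with b.) -/
theorem result (S : Scheme.{u}) (G : Grpd.GroupoidScheme S) (r r' : G.R) (h : G.t r = G.t r') : ∃ (k : Type u) (_ : Field k) (a b : Spec (CommRingCat.of k) ⟶ G.U) (φ : pullback G.s a ≅ pullback G.s b) (p : ↑(pullback G.s a)), a (IsLocalRing.closedPoint k) = G.s r ∧ b (IsLocalRing.closedPoint k) = G.s r' ∧ φ.hom ≫ pullback.snd G.s b = pullback.snd G.s a ∧ pullback.fst G.s a p = r ∧ pullback.fst G.s b (φ.hom p) = r' := by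
  exact aux S G r r' h

end Groth.Agent.S7498
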