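import Groth.Statements.S7500
import Mathlib
import Groth.Agent.Lib.Helper5.GrpdLib

set_option autoImplicit false
universe u
open CategoryTheory CategoryTheory.Limits AlgebraicGeometry
open Grpd

namespace Groth.Agent.S7500

/-- Let (U, R, s, t, c) be a groupoid scheme over S and G -> U its stabilizer group scheme (the base
change of j = (t, s) along the diagonal). The action of G on R by composition, base changed to G_0 =
G x_(U, pr_0) (U x_S U), makes R a pseudo G_0-torsor over U x_S U. Concretely: let α : G x_(U, t) R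
-> R x_(s, U, t) R be the morphism with components (γ viewed in R, r) and β : G x_(U, t) R -> R
x_(j, U x_S U, j) R the morphism with components (c ∘ α, r); then β is an isomorphism. (A groupoid
scheme carries U, R, s, t, c, e, i over S with the groupoid axioms on T-points; c is defined on the
fibre product of s and t and sends a pair (a, b) with s(a) = t(b) to a composed with b.) -/
theorem result (S : Scheme.{u}) (G : Grpd.GroupoidScheme S) (α : pullback G.stabilizerToU G.t ⟶ pullback G.s G.t) (hα₁ : α ≫ pullback.fst G.s G.t = pullback.fst G.stabilizerToU G.t ≫ pullback.fst G.j G.diag) (hα₂ : α ≫ pullback.snd G.s G.t = pullback.snd G.stabilizerToU G.t) (β : pullback G.stabilizerToU G.t ⟶ pullback G.j G.j) (hβ₁ : β ≫ pullback.fst G.j G.j = α ≫ G.c) (hβ₂ : β ≫ pullback.snd G.j G.j = pullback.snd G.stabilizerToU G.t) : IsIso β := by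
  have cond : pullback.fst G.j G.j ≫ G.j = pullback.snd G.j G.j ≫ G.j := pullback.condition
  have ht : pullback.fst G.j G.j ≫ G.t = pullback.snd G.j G.j ≫ G.t := by
    have := congrArg (fun x => x ≫ pullback.fst G.pU G.pU) cond
    simpa only [Category.assoc, Groth.Agent.Helper5.GrpdLib.j_fst] using this
  have hs : pullback.fst G.j G.j ≫ G.s = pullback.snd G.j G.j ≫ G.s := by
    have := congrArg (fun x => x ≫ pullback.snd G.pU G.pU) cond
    simpa only [Category.assoc, Groth.Agent.Helper5.GrpdLib.j_snd] using this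
  have hγ : pullback.fst G.j G.j ≫ G.s = (pullback.snd G.j G.j ≫ G.i) ≫ G.t := by
    rw [Category.assoc, G.i_t, hs]
  have hstab : Groth.Agent.Helper5.GrpdLib.cmp G (pullback.fst G.j G.j)
      (pullback.snd G.j G.j ≫ G.i) hγ ≫ G.j = (pullback.snd G.j G.j ≫ G.t) ≫ G.diag := by
    apply pullback.hom_ext
    · rw [Category.assoc, Groth.Agent.Helper5.GrpdLib.j_fst, Category.assoc,
        Groth.Agent.Helper5.GrpdLib.diag_fst, Category.comp_id,
        Groth.Agent.Helper5.GrpdLib.cmp_t, ht]
    · rw [Category.assoc, Groth.Agent.Helper5.GrpdLib.j_snd, Category.assoc,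
        Groth.Agent.Helper5.GrpdLib.diag_snd, Category.comp_id,
        Groth.Agent.Helper5.GrpdLib.cmp_s, Category.assoc, G.i_s]
  obtain ⟨σ, hσ1, hσ2⟩ : ∃ σ : pullback G.j G.j ⟶ G.stabilizer,
      σ ≫ pullback.fst G.j G.diag = Groth.Agent.Helper5.GrpdLib.cmp G (pullback.fst G.j G.j)
        (pullback.snd G.j G.j ≫ G.i) hγ ∧
      σ ≫ G.stabilizerToU = pullback.snd G.j G.j ≫ G.t :=
    ⟨pullback.lift _ _ hstab, pullback.lift_fst _ _ _, pullback.lift_snd _ _ _⟩
  have hαc : α ≫ G.c = Groth.Agent.Helper5.GrpdLib.cmp G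
      (pullback.fst G.stabilizerToU G.t ≫ pullback.fst G.j G.diag)
      (pullback.snd G.stabilizerToU G.t) (by
        rw [← hα₁, ← hα₂, Category.assoc, Category.assoc, pullback.condition]) :=
    (Groth.Agent.Helper5.GrpdLib.comp_c α).trans
      (Groth.Agent.Helper5.GrpdLib.cmp_congr hα₁ hα₂ _)
  refine ⟨⟨pullback.lift σ (pullback.snd G.j G.j) hσ2, ?_, ?_⟩⟩
  · apply pullback.hom_ext
    · rw [Category.assoc, pullback.lift_fst, Category.id_comp]
      apply pullback.hom_ext
      · calc (β ≫ σ) ≫ pullback.fst G.j G.diag = β ≫ (σ ≫ pullback.fst G.j G.diag) :=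
              Category.assoc _ _ _
          _ = β ≫ Groth.Agent.Helper5.GrpdLib.cmp G (pullback.fst G.j G.j)
              (pullback.snd G.j G.j ≫ G.i) hγ := congrArg (fun x => β ≫ x) hσ1
          _ = Groth.Agent.Helper5.GrpdLib.cmp G (β ≫ pullback.fst G.j G.j)
              (β ≫ pullback.snd G.j G.j ≫ G.i) _ := Groth.Agent.Helper5.GrpdLib.comp_cmp _ _ _ _
          _ = _ := (Groth.Agent.Helper5.GrpdLib.cmp_congr (hβ₁.trans hαc)
              (by rw [← Category.assoc, hβ₂]) _).trans
              (Groth.Agent.Helper5.GrpdLib.cmp_cmp_i _ _ _ _)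
      · calc (β ≫ σ) ≫ pullback.snd G.j G.diag = β ≫ (σ ≫ G.stabilizerToU) :=
              Category.assoc _ _ _
          _ = β ≫ (pullback.snd G.j G.j ≫ G.t) := congrArg (fun x => β ≫ x) hσ2
          _ = (β ≫ pullback.snd G.j G.j) ≫ G.t := (Category.assoc _ _ _).symm
          _ = pullback.snd G.stabilizerToU G.t ≫ G.t := congrArg (fun x => x ≫ G.t) hβ₂
          _ = pullback.fst G.stabilizerToU G.t ≫ G.stabilizerToU := pullback.condition.symm
    · rw [Category.assoc, pullback.lift_snd, hβ₂, Category.id_comp]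
  · apply pullback.hom_ext
    · rw [Category.assoc, hβ₁, Category.id_comp, ← Category.assoc, Groth.Agent.Helper5.GrpdLib.comp_c]
      have e1 : (pullback.lift σ (pullback.snd G.j G.j) hσ2 ≫ α) ≫ pullback.fst G.s G.t =
          Groth.Agent.Helper5.GrpdLib.cmp G (pullback.fst G.j G.j)
            (pullback.snd G.j G.j ≫ G.i) hγ :=
        calc (pullback.lift σ (pullback.snd G.j G.j) hσ2 ≫ α) ≫ pullback.fst G.s G.t
            = pullback.lift σ (pullback.snd G.j G.j) hσ2 ≫ (α ≫ pullback.fst G.s G.t) :=
              Category.assoc _ _ _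
          _ = pullback.lift σ (pullback.snd G.j G.j) hσ2 ≫
              (pullback.fst G.stabilizerToU G.t ≫ pullback.fst G.j G.diag) :=
              congrArg (fun x => pullback.lift σ (pullback.snd G.j G.j) hσ2 ≫ x) hα₁
          _ = (pullback.lift σ (pullback.snd G.j G.j) hσ2 ≫ pullback.fst G.stabilizerToU G.t) ≫
              pullback.fst G.j G.diag := (Category.assoc _ _ _).symm
          _ = σ ≫ pullback.fst G.j G.diag :=
              congrArg (fun x : pullback G.j G.j ⟶ G.stabilizer => x ≫ pullback.fst G.j G.diag)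
                (pullback.lift_fst _ _ _)
          _ = _ := hσ1
      have e2 : (pullback.lift σ (pullback.snd G.j G.j) hσ2 ≫ α) ≫ pullback.snd G.s G.t =
          pullback.snd G.j G.j := by rw [Category.assoc, hα₂, pullback.lift_snd]
      exact (Groth.Agent.Helper5.GrpdLib.cmp_congr e1 e2 _).trans
        (Groth.Agent.Helper5.GrpdLib.cmp_i_cmp' _ _ _ _)
    · rw [Category.assoc, hβ₂, pullback.lift_snd, Category.id_comp]

end Groth.Agent.S7500
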