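import Groth.Statements.S7504
import Mathlib
import Groth.Agent.Lib.Helper5.GrpdLib

set_option autoImplicit false
universe u
open CategoryTheory CategoryTheory.Limits AlgebraicGeometry
open Grpd

namespace Groth.Agent.S7504

section Aux
open Groth.Agent.Helper5.GrpdLib

/-- `P q ↔ P (pullback.snd p b)` when `q` is a base change of `p` along `b`. -/
lemma P_iff_of_isPullback (P : MorphismProperty Scheme.{u}) [P.RespectsIso]
    {E U Y E' : Scheme.{u}} {p : E ⟶ U} {b : Y ⟶ U} {f : E' ⟶ E} {q : E' ⟶ Y}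
    (h : IsPullback f q p b) : P q ↔ P (pullback.snd p b) := by
  have e := h.isoPullback_hom_snd
  constructor
  · intro hq
    rw [← e] at hq
    exact (P.cancel_left_of_respectsIso _ _).mp hq
  · intro hq
    rw [← e]
    exact (P.cancel_left_of_respectsIso _ _).mpr hq

/-- Generic statement: if `p : E ⟶ U` is such that its base change along `t` is also a base change
along `s`, then the largest open over which `p` has a `τ`-local property is `R`-invariant. -/
theorem gen {S : Scheme.{u}} (G : Grpd.GroupoidScheme S)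
    (Q : MorphismProperty Scheme.{u}) [Q.IsStableUnderBaseChange] [Q.IsStableUnderComposition]
    (hQi : ∀ {X Y : Scheme.{u}} (f : X ⟶ Y), IsOpenImmersion f → Q f)
    (hQo : ∀ {X Y : Scheme.{u}} (f : X ⟶ Y), Q f → IsOpenMap f)
    (P : MorphismProperty Scheme.{u}) [P.IsLocalAtTarget (Scheme.precoverage Q)]
    (hs : Presieve.singleton G.s ∈ Scheme.precoverage Q G.U)
    (ht : Presieve.singleton G.t ∈ Scheme.precoverage Q G.U)
    {E : Scheme.{u}} (p : E ⟶ G.U) (ψ : pullback p G.t ⟶ E)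
    (hψ : IsPullback ψ (pullback.snd p G.t) p G.s)
    (W : G.U.Opens) (hW : P (p ∣_ W)) (hmax : ∀ W' : G.U.Opens, P (p ∣_ W') → W' ≤ W) :
    G.s ⁻¹ᵁ W = G.t ⁻¹ᵁ W := by
  have hs' := (Scheme.singleton_mem_precoverage_iff Q G.s).mp hs
  have ht' := (Scheme.singleton_mem_precoverage_iff Q G.t).mp ht
  have hQs : Q G.s := hs'.2
  have hQt : Q G.t := ht'.2
  have L1 : ∀ V : G.U.Opens, P (p ∣_ V) ↔ P (pullback.snd p V.ι) := fun V =>
    P_iff_of_isPullback P (isPullback_morphismRestrict p V).flip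
  have L2 : ∀ {Y Y' : Scheme.{u}} (b : Y ⟶ G.U) (b' : Y' ⟶ Y),
      Presieve.singleton b' ∈ Scheme.precoverage Q Y →
      (P (pullback.snd p b) ↔ P (pullback.snd p (b' ≫ b))) := by
    intro Y Y' b b' hb'
    have hpaste := (IsPullback.of_hasPullback (pullback.snd p b) b').paste_horiz
      (IsPullback.of_hasPullback p b)
    rw [← P_iff_of_isPullback P hpaste]
    constructor
    · intro h
      exact MorphismProperty.IsLocalAtTarget.pullbackSnd hb' Presieve.singleton.mk h
    · intro h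
      apply MorphismProperty.IsLocalAtTarget.of_forall_pullbackSnd hb'
      intro U g _ hg
      cases hg
      exact h
  have L3 : ∀ {Z : Scheme.{u}} (a : Z ⟶ G.R),
      P (pullback.snd p (a ≫ G.t)) ↔ P (pullback.snd p (a ≫ G.s)) := by
    intro Z a
    have h1 := (IsPullback.of_hasPullback (pullback.snd p G.t) a).paste_horiz
      (IsPullback.of_hasPullback p G.t)
    have h2 := (IsPullback.of_hasPullback (pullback.snd p G.t) a).paste_horiz hψ
    rw [← P_iff_of_isPullback P h1, ← P_iff_of_isPullback P h2]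
  obtain ⟨W'', hW''⟩ : ∃ W'' : G.U.Opens, (W'' : Set G.U) = G.t '' (G.s ⁻¹ᵁ W : Set G.R) :=
    ⟨⟨_, hQo G.t hQt _ (G.s ⁻¹ᵁ W).isOpen⟩, rfl⟩
  have hle : W'' ≤ W := by
    apply hmax
    rw [L1]
    have hrange : Set.range ((G.s ⁻¹ᵁ W).ι ≫ G.t) ⊆ Set.range W''.ι := by
      rw [Scheme.Opens.range_ι, hW'']
      rintro _ ⟨x, rfl⟩
      exact ⟨(G.s ⁻¹ᵁ W).ι x, x.2, by rw [Scheme.Hom.comp_apply]⟩
    obtain ⟨τ, hτ⟩ : ∃ τ : (G.s ⁻¹ᵁ W).toScheme ⟶ W''.toScheme,
        τ ≫ W''.ι = (G.s ⁻¹ᵁ W).ι ≫ G.t :=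
      ⟨IsOpenImmersion.lift W''.ι ((G.s ⁻¹ᵁ W).ι ≫ G.t) hrange, IsOpenImmersion.lift_fac _ _ _⟩
    have hQτ : Q τ := by
      refine Q.of_postcomp (W' := @IsOpenImmersion) τ W''.ι inferInstance ?_
      rw [hτ]
      exact Q.comp_mem _ _ (hQi _ inferInstance) hQt
    have hτsurj : Function.Surjective τ.base := by
      intro w
      have hw : (w.1 : G.U) ∈ (W'' : Set G.U) := w.2
      rw [hW''] at hw
      obtain ⟨r, hr, hrw⟩ := hw
      refine ⟨⟨r, hr⟩, ?_⟩
      apply W''.ι.isOpenEmbedding.injective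
      have e1 : W''.ι (τ ⟨r, hr⟩) = (τ ≫ W''.ι) ⟨r, hr⟩ := by rw [Scheme.Hom.comp_apply]
      have e2 : ((G.s ⁻¹ᵁ W).ι ≫ G.t) ⟨r, hr⟩ = G.t r := by rw [Scheme.Hom.comp_apply]; rfl
      exact (e1.trans (by rw [hτ]; exact e2)).trans hrw
    have hτK : Presieve.singleton τ ∈ Scheme.precoverage Q W'' :=
      (Scheme.singleton_mem_precoverage_iff Q τ).mpr ⟨hτsurj, hQτ⟩
    have hssurj : Function.Surjective (G.s ∣_ W).base := by
      intro w
      obtain ⟨r, hr⟩ := hs'.1 w.1
      have hrW : r ∈ G.s ⁻¹ᵁ W := by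
        show G.s r ∈ W
        have : G.s r = w.1 := hr
        rw [this]
        exact w.2
      refine ⟨⟨r, hrW⟩, ?_⟩
      apply W.ι.isOpenEmbedding.injective
      have e1 : W.ι ((G.s ∣_ W) ⟨r, hrW⟩) = ((G.s ∣_ W) ≫ W.ι) ⟨r, hrW⟩ := by
        rw [Scheme.Hom.comp_apply]
      have e2 : ((G.s ⁻¹ᵁ W).ι ≫ G.s) ⟨r, hrW⟩ = G.s r := by rw [Scheme.Hom.comp_apply]; rfl
      exact (e1.trans (by rw [morphismRestrict_ι]; exact e2)).trans hr
    have hsK : Presieve.singleton (G.s ∣_ W) ∈ Scheme.precoverage Q W :=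
      (Scheme.singleton_mem_precoverage_iff Q _).mpr
        ⟨hssurj, Q.of_isPullback (isPullback_morphismRestrict G.s W).flip hQs⟩
    have h0 : P (pullback.snd p W.ι) := (L1 W).mp hW
    have h1 : P (pullback.snd p ((G.s ∣_ W) ≫ W.ι)) := (L2 W.ι (G.s ∣_ W) hsK).mp h0
    have h2 : P (pullback.snd p ((G.s ⁻¹ᵁ W).ι ≫ G.s)) := by
      rw [← morphismRestrict_ι]
      exact h1
    have h3 : P (pullback.snd p ((G.s ⁻¹ᵁ W).ι ≫ G.t)) := (L3 _).mpr h2
    have h4 : P (pullback.snd p (τ ≫ W''.ι)) := by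
      rw [hτ]
      exact h3
    exact (L2 W''.ι τ hτK).mpr h4
  have hst : G.s ⁻¹ᵁ W ≤ G.t ⁻¹ᵁ W := by
    intro r hr
    show G.t r ∈ W
    apply hle
    show G.t r ∈ (W'' : Set G.U)
    rw [hW'']
    exact ⟨r, hr, rfl⟩
  apply le_antisymm hst
  intro r hr
  have h1 : G.i r ∈ G.s ⁻¹ᵁ W := by
    show G.s (G.i r) ∈ W
    rw [← Scheme.Hom.comp_apply, G.i_s]
    exact hr
  have h3 : G.t (G.i r) ∈ W := hst h1
  rw [← Scheme.Hom.comp_apply, G.i_t] at h3
  exact h3

lemma isOpenMap_of_flat_lfp {X Y : Scheme.{u}} (f : X ⟶ Y) [Flat f]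
    [LocallyOfFinitePresentation f] : IsOpenMap f := f.isOpenMap

end Aux

/-- Let (U, R, s, t, c) be a groupoid scheme over S, let τ be the Zariski, étale, smooth or fppf
topology (given as the corresponding precoverage K on schemes), and let P be a property of scheme
morphisms that is τ-local on the target. (The published statement also allows the syntomic topology,
which has no precoverage here; this row omits it.) Assume the one-arrow families {s : R -> U} and {t
: R -> U} are τ-coverings. If W is the largest open subscheme of U such that the restriction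
s^{-1}(W) -> W of s has P (W has the property and contains every open with the property), then W is
R-invariant: s^{-1}(W) = t^{-1}(W). (A groupoid scheme carries U, R, s, t, c, e, i over S with the
groupoid axioms on T-points; c is defined on the fibre product of s and t and sends a pair (a, b)
with s(a) = t(b) to a composed with b.) -/
theorem result (S : Scheme.{u}) (G : Grpd.GroupoidScheme S) (K : Precoverage Scheme.{u}) (hK : K = Scheme.zariskiPrecoverage ∨ K = Scheme.etalePrecoverage ∨ K = Scheme.precoverage @Smooth ∨ K = Scheme.fppfPrecoverage) (P : MorphismProperty Scheme.{u}) [P.IsLocalAtTarget K] (hs : Presieve.singleton G.s ∈ K G.U) (ht : Presieve.singleton G.t ∈ K G.U) (W : G.U.Opens) (hW : P (G.s ∣_ W)) (hmax : ∀ W' : G.U.Opens, P (G.s ∣_ W') → W' ≤ W) : G.s ⁻¹ᵁ W = G.t ⁻¹ᵁ W := by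
  rcases hK with rfl | rfl | rfl | rfl
  · exact gen G @IsOpenImmersion (fun f hf => hf) (fun f hf => f.isOpenEmbedding.isOpenMap) P hs ht
      G.s G.c Groth.Agent.Helper5.GrpdLib.isPullback_c_snd W hW hmax
  · haveI : P.IsLocalAtTarget (Scheme.precoverage @Etale) :=
      ‹P.IsLocalAtTarget Scheme.etalePrecoverage›
    exact gen G @Etale (fun f hf => inferInstance)
      (fun f hf => by haveI : Etale f := hf; exact isOpenMap_of_flat_lfp f) P hs ht
      G.s G.c Groth.Agent.Helper5.GrpdLib.isPullback_c_snd W hW hmax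
  · exact gen G @Smooth (fun f hf => inferInstance)
      (fun f hf => by haveI : Smooth f := hf; exact isOpenMap_of_flat_lfp f) P hs ht
      G.s G.c Groth.Agent.Helper5.GrpdLib.isPullback_c_snd W hW hmax
  · haveI : P.IsLocalAtTarget (Scheme.precoverage (@Flat ⊓ @LocallyOfFinitePresentation)) :=
      ‹P.IsLocalAtTarget Scheme.fppfPrecoverage›
    exact gen G (@Flat ⊓ @LocallyOfFinitePresentation) (fun f hf => ⟨inferInstance, inferInstance⟩)
      (fun f hf => by
        haveI : Flat f := hf.1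
        haveI : LocallyOfFinitePresentation f := hf.2
        exact isOpenMap_of_flat_lfp f) P hs ht
      G.s G.c Groth.Agent.Helper5.GrpdLib.isPullback_c_snd W hW hmax

end Groth.Agent.S7504
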