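import Groth.Statements.S7505
import Groth.Agent.H28.MaxOpen
import Groth.Agent.H28.GrpdStab

set_option autoImplicit false
universe u
open CategoryTheory CategoryTheory.Limits AlgebraicGeometry
open Grpd

namespace Groth.Agent.S7505


theorem core (Q : MorphismProperty Scheme.{u}) [Q.IsStableUnderBaseChange]
    [Q.IsStableUnderComposition]
    (hopen : ∀ {A B : Scheme.{u}} (k : A ⟶ B), Q k → IsOpenMap k.base)
    (hoi : ∀ {A B : Scheme.{u}} (k : A ⟶ B) [IsOpenImmersion k], Q k)
    (S : Scheme.{u}) (G : Grpd.GroupoidScheme S) (P : MorphismProperty Scheme.{u})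
    [P.IsLocalAtTarget (Scheme.precoverage Q)]
    (hs : Presieve.singleton G.s ∈ Scheme.precoverage Q G.U)
    (ht : Presieve.singleton G.t ∈ Scheme.precoverage Q G.U)
    (W : G.U.Opens) (hW : P (G.stabilizerToU ∣_ W))
    (hmax : ∀ W' : G.U.Opens, P (G.stabilizerToU ∣_ W') → W' ≤ W) :
    G.s ⁻¹ᵁ W = G.t ⁻¹ᵁ W := by
  have hQs : Q G.s := ((Scheme.singleton_mem_precoverage_iff Q G.s).mp hs).2
  have hQt : Q G.t := ((Scheme.singleton_mem_precoverage_iff Q G.t).mp ht).2
  have : IsZariskiLocalAtTarget P :=
    MorphismProperty.IsLocalAtTarget.of_le (L := Scheme.precoverage Q)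
      (Scheme.precoverage_mono (fun _ _ k hk => @hoi _ _ k hk))
  obtain ⟨W', hW', hmax'⟩ :=
    Groth.Agent.H28.MaxOpen.exists_maxOpen P (pullback.snd G.stabilizerToU G.s)
  have h1 : W' = G.s ⁻¹ᵁ W :=
    Groth.Agent.H28.MaxOpen.maxOpen_bc' hopen hoi
      (IsPullback.of_hasPullback G.stabilizerToU G.s) W hW hmax hQs W' hW' hmax'
  have h2 : W' = G.t ⁻¹ᵁ W :=
    Groth.Agent.H28.MaxOpen.maxOpen_bc' hopen hoi (Groth.Agent.H28.GrpdAlg.isPullback_conj G) W hW
      hmax hQt W' hW' hmax'
  rw [← h1, ← h2]

theorem isOpenMap_of_flat_lfp {A B : Scheme.{u}} (k : A ⟶ B) [Flat k]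
    [LocallyOfFinitePresentation k] : IsOpenMap k.base := k.isOpenMap

/-- Let (U, R, s, t, c) be a groupoid scheme over S with stabilizer group scheme G -> U, let τ be the
étale, smooth or fppf topology (given as the corresponding precoverage K), and let P be a property
of scheme morphisms that is τ-local on the target. (The published statement also allows the syntomic
topology; this row omits it.) Assume {s : R -> U} and {t : R -> U} are τ-coverings. If W is the
largest open subscheme of U such that the restriction G_W -> W of the stabilizer has P, then W is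
R-invariant: s^{-1}(W) = t^{-1}(W). (A groupoid scheme carries U, R, s, t, c, e, i over S with the
groupoid axioms on T-points; c is defined on the fibre product of s and t and sends a pair (a, b)
with s(a) = t(b) to a composed with b.) -/
theorem result (S : Scheme.{u}) (G : Grpd.GroupoidScheme S) (K : Precoverage Scheme.{u}) (hK : K = Scheme.etalePrecoverage ∨ K = Scheme.precoverage @Smooth ∨ K = Scheme.fppfPrecoverage) (P : MorphismProperty Scheme.{u}) [P.IsLocalAtTarget K] (hs : Presieve.singleton G.s ∈ K G.U) (ht : Presieve.singleton G.t ∈ K G.U) (W : G.U.Opens) (hW : P (G.stabilizerToU ∣_ W)) (hmax : ∀ W' : G.U.Opens, P (G.stabilizerToU ∣_ W') → W' ≤ W) : G.s ⁻¹ᵁ W = G.t ⁻¹ᵁ W := by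
  rcases hK with rfl | rfl | rfl
  · have hloc : P.IsLocalAtTarget (Scheme.precoverage @Etale) := by
      have h := ‹P.IsLocalAtTarget Scheme.etalePrecoverage›
      rwa [Scheme.etalePrecoverage] at h
    rw [Scheme.etalePrecoverage] at hs ht
    exact core @Etale (fun k hk => by
        have : Etale k := hk
        exact isOpenMap_of_flat_lfp k)
      (fun k hk => inferInstance) S G P hs ht W hW hmax
  · exact core @Smooth (fun k hk => by
        have : Smooth k := hk
        exact isOpenMap_of_flat_lfp k)
      (fun k hk => inferInstance) S G P hs ht W hW hmax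
  · have hloc : P.IsLocalAtTarget (Scheme.precoverage (@Flat ⊓ @LocallyOfFinitePresentation)) := by
      have h := ‹P.IsLocalAtTarget Scheme.fppfPrecoverage›
      rwa [Scheme.fppfPrecoverage] at h
    rw [Scheme.fppfPrecoverage] at hs ht
    exact core (@Flat ⊓ @LocallyOfFinitePresentation) (fun k hk => by
        have : Flat k := hk.1
        have : LocallyOfFinitePresentation k := hk.2
        exact isOpenMap_of_flat_lfp k)
      (fun k hk => ⟨inferInstance, inferInstance⟩) S G P hs ht W hW hmax

end Groth.Agent.S7505
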