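import Groth.Statements.S7510
import Mathlib
import Groth.Agent.Lib.Helper5.GrpdLib

set_option autoImplicit false
universe u
open CategoryTheory CategoryTheory.Limits AlgebraicGeometry
open Grpd

namespace Groth.Agent.S7510

section Aux
open Groth.Agent.Helper5.GrpdLib

/-- if `cmp ρ β = α` then `ρ = cmp α (β ≫ i)` -/
lemma eq_cmp_i_of_cmp_eq {S : Scheme.{u}} {G : Grpd.GroupoidScheme S} {T : Scheme.{u}}
    (ρ β α : T ⟶ G.R) (h : ρ ≫ G.s = β ≫ G.t)
    (e : cmp G ρ β h = α) (h' : α ≫ G.s = (β ≫ G.i) ≫ G.t) :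
    ρ = cmp G α (β ≫ G.i) h' := by
  subst e
  exact (cmp_cmp_i ρ β h h').symm

theorem isPullback_act {S : Scheme.{u}} {G : Grpd.GroupoidScheme S} {U' : Scheme.{u}} (g : U' ⟶ G.U)
    (h : pullback g G.t ⟶ G.U) (hdef : pullback.snd g G.t ≫ G.s = h)
    (a : pullback h G.t ⟶ pullback g G.t)
    (ha1 : a ≫ pullback.fst g G.t = pullback.fst h G.t ≫ pullback.fst g G.t)
    (hc1 : (pullback.fst h G.t ≫ pullback.snd g G.t) ≫ G.s = pullback.snd h G.t ≫ G.t)
    (ha2 : a ≫ pullback.snd g G.t =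
      cmp G (pullback.fst h G.t ≫ pullback.snd g G.t) (pullback.snd h G.t) hc1) :
    IsPullback a (pullback.snd h G.t) h G.s := by
  have hw : a ≫ h = pullback.snd h G.t ≫ G.s := by
    have e : a ≫ pullback.snd g G.t ≫ G.s = pullback.snd h G.t ≫ G.s := by
      rw [← Category.assoc, ha2, cmp_s]
    rw [hdef] at e
    exact e
  have hx1 : ∀ k : PullbackCone h G.s,
      (k.fst ≫ pullback.snd g G.t) ≫ G.s = (k.snd ≫ G.i) ≫ G.t := fun k => by
    rw [Category.assoc, hdef, k.condition, Category.assoc, G.i_t]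
  have hx2 : ∀ k : PullbackCone h G.s, (k.fst ≫ pullback.fst g G.t) ≫ g =
      cmp G (k.fst ≫ pullback.snd g G.t) (k.snd ≫ G.i) (hx1 k) ≫ G.t := fun k => by
    rw [cmp_t, Category.assoc, Category.assoc, pullback.condition]
  have hx3 : ∀ k : PullbackCone h G.s,
      pullback.lift (k.fst ≫ pullback.fst g G.t)
        (cmp G (k.fst ≫ pullback.snd g G.t) (k.snd ≫ G.i) (hx1 k)) (hx2 k) ≫ h =
        k.snd ≫ G.t := fun k => by
    have e : pullback.lift (k.fst ≫ pullback.fst g G.t)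
        (cmp G (k.fst ≫ pullback.snd g G.t) (k.snd ≫ G.i) (hx1 k)) (hx2 k) ≫
        pullback.snd g G.t ≫ G.s = k.snd ≫ G.t := by
      rw [← Category.assoc, pullback.lift_snd, cmp_s, Category.assoc, G.i_s]
    rw [hdef] at e
    exact e
  refine ⟨⟨hw⟩, ⟨PullbackCone.IsLimit.mk hw
    (fun k => pullback.lift (pullback.lift _ _ (hx2 k)) k.snd (hx3 k)) ?_ ?_ ?_⟩⟩
  · intro k
    apply pullback.hom_ext
    · rw [Category.assoc, ha1, ← Category.assoc, pullback.lift_fst, pullback.lift_fst]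
    · rw [Category.assoc, ha2, comp_cmp]
      exact (cmp_congr (by rw [← Category.assoc, pullback.lift_fst, pullback.lift_snd])
        (pullback.lift_snd _ _ _) _).trans (cmp_i_cmp' _ _ _ _)
  · intro k
    exact pullback.lift_snd _ _ _
  · intro k m hm1 hm2
    apply pullback.hom_ext
    · rw [pullback.lift_fst]
      apply pullback.hom_ext
      · rw [pullback.lift_fst, Category.assoc, ← ha1, ← Category.assoc, hm1]
      · rw [pullback.lift_snd, Category.assoc]
        have hρ : (m ≫ pullback.fst h G.t ≫ pullback.snd g G.t) ≫ G.s = k.snd ≫ G.t := by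
          rw [← hm2]
          simp only [Category.assoc]
          rw [hdef, pullback.condition]
        have e0 : k.fst ≫ pullback.snd g G.t =
            cmp G (m ≫ pullback.fst h G.t ≫ pullback.snd g G.t) (m ≫ pullback.snd h G.t)
              (by rw [hm2]; exact hρ) := by
          rw [← hm1, Category.assoc, ha2, comp_cmp]
        exact eq_cmp_i_of_cmp_eq _ _ _ hρ ((cmp_congr rfl hm2.symm hρ).trans e0.symm) (hx1 k)
    · rw [pullback.lift_snd]
      exact hm2

theorem aux (S : Scheme.{u}) (G : Grpd.GroupoidScheme S) {U' : Scheme.{u}} (g : U' ⟶ G.U)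
    (P Q R : MorphismProperty Scheme.{u}) [P.RespectsIso] [Q.IsStableUnderBaseChange]
    (W : ∀ {X Y : Scheme.{u}} (f : X ⟶ Y), Q f → X.Opens)
    (hWP : ∀ {X Y : Scheme.{u}} (f : X ⟶ Y) (hf : Q f), P ((W f hf).ι ≫ f))
    (hWmax : ∀ {X Y : Scheme.{u}} (f : X ⟶ Y) (hf : Q f) (V : X.Opens), P (V.ι ≫ f) → V ≤ W f hf)
    (hWbc : ∀ {X Y Y' : Scheme.{u}} (f : X ⟶ Y) (hf : Q f) (b : Y' ⟶ Y), R b →
      ∀ hf' : Q (pullback.snd f b), pullback.fst f b ⁻¹ᵁ W f hf = W (pullback.snd f b) hf')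
    (hs : R G.s) (ht : R G.t)
    (h : pullback g G.t ⟶ G.U) (hdef : pullback.snd g G.t ≫ G.s = h) (hh : Q h) :
    ∃ V : U'.Opens, pullback.fst g G.t ⁻¹ᵁ V = W h hh := by
  have W_congr : ∀ {X Y : Scheme.{u}} (f f' : X ⟶ Y) (e : f = f') (hf : Q f) (hf' : Q f'),
      W f hf = W f' hf' := by
    intro X Y f f' e hf hf'
    subst e
    rfl
  have W_iso_le : ∀ {X' X Y : Scheme.{u}} (θ : X' ⟶ X) [IsIso θ] (f : X ⟶ Y) (hf : Q f)
      (hf' : Q (θ ≫ f)), θ ⁻¹ᵁ W f hf ≤ W (θ ≫ f) hf' := by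
    intro X' X Y θ _ f hf hf'
    apply hWmax
    have e : (θ ⁻¹ᵁ W f hf).ι ≫ θ ≫ f = (θ ∣_ W f hf) ≫ (W f hf).ι ≫ f := by
      rw [← Category.assoc, ← morphismRestrict_ι, Category.assoc]
    rw [e]
    exact (P.cancel_left_of_respectsIso _ _).mpr (hWP f hf)
  have W_iso : ∀ {X' X Y : Scheme.{u}} (θ : X' ⟶ X) [IsIso θ] (f : X ⟶ Y) (hf : Q f)
      (hf' : Q (θ ≫ f)), θ ⁻¹ᵁ W f hf = W (θ ≫ f) hf' := by
    intro X' X Y θ _ f hf hf'
    apply le_antisymm (W_iso_le θ f hf hf')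
    have e1 : inv θ ≫ θ ≫ f = f := by simp
    have hQ' : Q (inv θ ≫ θ ≫ f) := by rw [e1]; exact hf
    have h1 := W_iso_le (inv θ) (θ ≫ f) hf' hQ'
    rw [W_congr _ _ e1 hQ' hf] at h1
    intro x hx
    have hx' : θ x ∈ inv θ ⁻¹ᵁ W (θ ≫ f) hf' := by
      show (inv θ) (θ x) ∈ W (θ ≫ f) hf'
      have : (inv θ) (θ x) = x := by
        rw [← Scheme.Hom.comp_apply, IsIso.hom_inv_id]
        rfl
      rw [this]
      exact hx
    exact h1 hx'
  have hc1 : (pullback.fst h G.t ≫ pullback.snd g G.t) ≫ G.s = pullback.snd h G.t ≫ G.t := by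
    rw [Category.assoc, hdef, pullback.condition]
  have hc2 : (pullback.fst h G.t ≫ pullback.fst g G.t) ≫ g =
      cmp G (pullback.fst h G.t ≫ pullback.snd g G.t) (pullback.snd h G.t) hc1 ≫ G.t := by
    rw [cmp_t, Category.assoc, Category.assoc, pullback.condition]
  obtain ⟨a, ha⟩ : ∃ a : pullback h G.t ⟶ pullback g G.t, a = pullback.lift _ _ hc2 := ⟨_, rfl⟩
  have ha1 : a ≫ pullback.fst g G.t = pullback.fst h G.t ≫ pullback.fst g G.t := by
    rw [ha, pullback.lift_fst]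
  have ha2 : a ≫ pullback.snd g G.t =
      cmp G (pullback.fst h G.t ≫ pullback.snd g G.t) (pullback.snd h G.t) hc1 := by
    rw [ha, pullback.lift_snd]
  have hpb : IsPullback a (pullback.snd h G.t) h G.s := isPullback_act g h hdef a ha1 hc1 ha2
  have hQ1 : Q (pullback.snd h G.t) := Q.pullback_snd h G.t hh
  have hQ2 : Q (pullback.snd h G.s) := Q.pullback_snd h G.s hh
  have E1 : pullback.fst h G.t ⁻¹ᵁ W h hh = W (pullback.snd h G.t) hQ1 := hWbc h hh G.t ht hQ1
  have E2 : pullback.fst h G.s ⁻¹ᵁ W h hh = W (pullback.snd h G.s) hQ2 := hWbc h hh G.s hs hQ2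
  have hθ1 : hpb.isoPullback.hom ≫ pullback.fst h G.s = a := hpb.isoPullback_hom_fst
  have hθ2 : hpb.isoPullback.hom ≫ pullback.snd h G.s = pullback.snd h G.t :=
    hpb.isoPullback_hom_snd
  have hQ3 : Q (hpb.isoPullback.hom ≫ pullback.snd h G.s) := by rw [hθ2]; exact hQ1
  have key : a ⁻¹ᵁ W h hh = pullback.fst h G.t ⁻¹ᵁ W h hh := by
    calc a ⁻¹ᵁ W h hh = (hpb.isoPullback.hom ≫ pullback.fst h G.s) ⁻¹ᵁ W h hh := by rw [hθ1]
      _ = hpb.isoPullback.hom ⁻¹ᵁ (pullback.fst h G.s ⁻¹ᵁ W h hh) := rfl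
      _ = hpb.isoPullback.hom ⁻¹ᵁ W (pullback.snd h G.s) hQ2 := by rw [E2]
      _ = W (hpb.isoPullback.hom ≫ pullback.snd h G.s) hQ3 := W_iso _ _ hQ2 hQ3
      _ = W (pullback.snd h G.t) hQ1 := W_congr _ _ hθ2 hQ3 hQ1
      _ = pullback.fst h G.t ⁻¹ᵁ W h hh := E1.symm
  have hσc : 𝟙 (pullback g G.t) ≫ h = (pullback.snd g G.t ≫ G.i) ≫ G.t := by
    rw [Category.id_comp, Category.assoc, G.i_t, hdef]
  obtain ⟨σ, hσ⟩ : ∃ σ : pullback g G.t ⟶ pullback h G.t,
    σ = pullback.lift (𝟙 _) (pullback.snd g G.t ≫ G.i) hσc := ⟨_, rfl⟩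
  have hσ1 : σ ≫ pullback.fst h G.t = 𝟙 _ := by rw [hσ, pullback.lift_fst]
  have hσ2 : σ ≫ pullback.snd h G.t = pullback.snd g G.t ≫ G.i := by rw [hσ, pullback.lift_snd]
  have hεc : 𝟙 U' ≫ g = (g ≫ G.e) ≫ G.t := by
    rw [Category.id_comp, Category.assoc, G.e_t, Category.comp_id]
  obtain ⟨ε, hε⟩ : ∃ ε : U' ⟶ pullback g G.t, ε = pullback.lift (𝟙 _) (g ≫ G.e) hεc := ⟨_, rfl⟩
  have hε1 : ε ≫ pullback.fst g G.t = 𝟙 _ := by rw [hε, pullback.lift_fst]
  have hε2 : ε ≫ pullback.snd g G.t = g ≫ G.e := by rw [hε, pullback.lift_snd]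
  have hσa : σ ≫ a = pullback.fst g G.t ≫ ε := by
    apply pullback.hom_ext
    · rw [Category.assoc, ha1, ← Category.assoc, hσ1, Category.id_comp, Category.assoc, hε1,
        Category.comp_id]
    · have hR : (pullback.fst g G.t ≫ ε) ≫ pullback.snd g G.t = pullback.fst g G.t ≫ g ≫ G.e := by
        rw [Category.assoc, hε2]
      rw [hR, Category.assoc, ha2, comp_cmp]
      refine (cmp_congr (by rw [← Category.assoc, hσ1, Category.id_comp]) hσ2 _).trans ?_
      exact (cmp_i _ _ rfl _).trans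
        (by rw [← Category.assoc, ← pullback.condition, Category.assoc])
  refine ⟨ε ⁻¹ᵁ W h hh, ?_⟩
  calc pullback.fst g G.t ⁻¹ᵁ (ε ⁻¹ᵁ W h hh) = (pullback.fst g G.t ≫ ε) ⁻¹ᵁ W h hh := rfl
    _ = (σ ≫ a) ⁻¹ᵁ W h hh := by rw [hσa]
    _ = σ ⁻¹ᵁ (a ⁻¹ᵁ W h hh) := rfl
    _ = σ ⁻¹ᵁ (pullback.fst h G.t ⁻¹ᵁ W h hh) := by rw [key]
    _ = (σ ≫ pullback.fst h G.t) ⁻¹ᵁ W h hh := rfl
    _ = W h hh := by rw [hσ1]; rfl

end Aux

/-- Let (U, R, s, t, c, e, i) be a groupoid scheme over S and g : U' -> U a morphism; write h = s ∘ pr_1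
: U' x_(g,U,t) R -> U. Let P, Q, R be properties of morphisms of schemes, with P invariant under
composition with isomorphisms, such that (1) R implies Q, (2) Q is stable under base change and
composition, (3) every morphism f : X -> Y with Q has a largest open W(P, f) of X on which the
restriction of f has P (given here as a function W with these two properties), and (4) for f with Q
and a base change along Y' -> Y with R, the preimage of W(P, f) in X x_Y Y' is W(P, f') for the base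
change f'. If s, t have R and g has Q, then there is an open W of U' whose preimage in U' x_(g,U,t)
R equals W(P, h). (The published statement speaks of arbitrary properties of morphisms; this row
asks P to be invariant under composition with isomorphisms, which the proof uses to identify the
largest opens on the two isomorphic fibre products of h with t and with s.) (A groupoid scheme
carries U, R, s, t, c, e, i over S with the groupoid axioms on T-points; c is defined on the fibre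
product of s and t and sends a pair (a, b) with s(a) = t(b) to a composed with b.) -/
theorem result (S : Scheme.{u}) (G : Grpd.GroupoidScheme S) {U' : Scheme.{u}} (g : U' ⟶ G.U) (P Q R : MorphismProperty Scheme.{u}) [P.RespectsIso] (hRQ : R ≤ Q) [Q.IsStableUnderBaseChange] [Q.IsStableUnderComposition] (W : ∀ {X Y : Scheme.{u}} (f : X ⟶ Y), Q f → X.Opens) (hWP : ∀ {X Y : Scheme.{u}} (f : X ⟶ Y) (hf : Q f), P ((W f hf).ι ≫ f)) (hWmax : ∀ {X Y : Scheme.{u}} (f : X ⟶ Y) (hf : Q f) (V : X.Opens), P (V.ι ≫ f) → V ≤ W f hf) (hWbc : ∀ {X Y Y' : Scheme.{u}} (f : X ⟶ Y) (hf : Q f) (b : Y' ⟶ Y), R b → ∀ hf' : Q (pullback.snd f b), pullback.fst f b ⁻¹ᵁ W f hf = W (pullback.snd f b) hf') (hs : R G.s) (ht : R G.t) (hg : Q g) (hh : Q (pullback.snd g G.t ≫ G.s)) : ∃ V : U'.Opens, pullback.fst g G.t ⁻¹ᵁ V = W (pullback.snd g G.t ≫ G.s) hh := by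
  exact aux S G g P Q R @W @hWP @hWmax @hWbc hs ht _ rfl hh

end Groth.Agent.S7510
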