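import Groth.Statements.S7511
import Mathlib

set_option autoImplicit false
universe u
open CategoryTheory CategoryTheory.Limits AlgebraicGeometry
open HTop

namespace Groth.Agent.S7511

/-- Let {f_i : T_i -> T} be a family of morphisms of schemes (indexed by a type in the universe of T, so
that the coproduct exists). Then it is an fpqc covering if and only if the one-arrow family
consisting of the induced morphism from the coproduct of the T_i to T is an fpqc covering. -/
theorem result {T : Scheme.{u}} (E : PreZeroHypercover.{u} T) : E.presieve₀ ∈ Scheme.fpqcPrecoverage T ↔ Presieve.singleton (Sigma.desc E.f) ∈ Scheme.fpqcPrecoverage T := by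
  classical
  have hι : ∀ i, Sigma.ι E.X i ≫ Sigma.desc E.f = E.f i := fun i => Sigma.ι_desc _ _
  have hkey : ∀ p : (Σ i, E.X i), (Sigma.desc E.f) (sigmaMk E.X p) = E.f p.1 p.2 := by
    rintro ⟨i, x⟩
    rw [sigmaMk_mk, ← Scheme.Hom.comp_apply, hι]
  -- compact open covered sets agree
  have hcov : ∀ U : Set T, IsCompactOpenCovered (fun i => ((E.f i : E.X i ⟶ T) : E.X i → T)) U ↔
      IsCompactOpenCovered (fun _ : PUnit.{u + 1} => ((Sigma.desc E.f : ∐ E.X ⟶ T) : ↥(∐ E.X) → T)) U := by
    intro U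
    rw [IsCompactOpenCovered.iff_isCompactOpenCovered_sigmaMk, IsCompactOpenCovered.iff_of_unique,
      IsCompactOpenCovered.iff_of_unique]
    constructor
    · rintro ⟨V, hV, hVU⟩
      refine ⟨⟨sigmaMk E.X '' V.1, (sigmaMk E.X).isOpenMap _ V.2⟩,
        hV.image (sigmaMk E.X).continuous, ?_⟩
      rw [← hVU]
      show (Sigma.desc E.f) '' (sigmaMk E.X '' V.1) = _
      rw [Set.image_image]
      exact Set.image_congr fun p _ => hkey p
    · rintro ⟨V, hV, hVU⟩
      refine ⟨⟨sigmaMk E.X ⁻¹' V.1, V.2.preimage (sigmaMk E.X).continuous⟩,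
        (sigmaMk E.X).isCompact_preimage.mpr hV, ?_⟩
      rw [← hVU]
      show (fun p : (Σ i, E.X i) => E.f p.1 p.2) '' (sigmaMk E.X ⁻¹' V.1) = (Sigma.desc E.f) '' V.1
      have : (fun p : (Σ i, E.X i) => E.f p.1 p.2) = (Sigma.desc E.f) ∘ sigmaMk E.X :=
        funext fun p => (hkey p).symm
      rw [this, Set.image_comp, (sigmaMk E.X).image_preimage]
  have hqc : QuasiCompactCover E ↔ QuasiCompactCover (PreZeroHypercover.singleton.{u} (Sigma.desc E.f)) := by
    rw [quasiCompactCover_iff, quasiCompactCover_iff]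
    exact forall_congr' fun U => forall_congr' fun hU => hcov _
  have hflat : (∀ i, Flat (E.f i)) ↔ Flat (Sigma.desc E.f) := by
    rw [IsZariskiLocalAtSource.iff_of_openCover (P := @Flat) (sigmaOpenCover E.X)]
    exact forall_congr' fun i => by
      show _ ↔ Flat (Sigma.ι E.X i ≫ Sigma.desc E.f)
      rw [hι]
  have hsurj : (∀ x : T, ∃ i, x ∈ Set.range (E.f i)) ↔ Function.Surjective (Sigma.desc E.f) := by
    constructor
    · intro h x
      obtain ⟨i, y, rfl⟩ := h x
      exact ⟨Sigma.ι E.X i y, by rw [← Scheme.Hom.comp_apply, hι]⟩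
    · intro h x
      obtain ⟨z, rfl⟩ := h x
      obtain ⟨⟨i, y⟩, rfl⟩ := (sigmaMk E.X).surjective z
      exact ⟨i, y, (hkey ⟨i, y⟩).symm⟩
  rw [← PreZeroHypercover.presieve₀_singleton.{_, _, u} (Sigma.desc E.f)]
  show (E.presieve₀ ∈ Scheme.qcPrecoverage T ∧ E.presieve₀ ∈ Scheme.precoverage @Flat T) ↔
    ((PreZeroHypercover.singleton.{u} (Sigma.desc E.f)).presieve₀ ∈ Scheme.qcPrecoverage T ∧
      (PreZeroHypercover.singleton.{u} (Sigma.desc E.f)).presieve₀ ∈ Scheme.precoverage @Flat T)
  rw [Scheme.presieve₀_mem_qcPrecoverage_iff, Scheme.presieve₀_mem_qcPrecoverage_iff,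
    Scheme.presieve₀_mem_precoverage_iff, Scheme.presieve₀_mem_precoverage_iff, hqc, hflat, hsurj]
  refine and_congr Iff.rfl (and_congr ?_ ?_)
  · constructor
    · intro h x
      obtain ⟨y, rfl⟩ := h x
      exact ⟨PUnit.unit, y, rfl⟩
    · intro h x
      obtain ⟨_, y, rfl⟩ := h x
      exact ⟨y, rfl⟩
  · exact ⟨fun h _ => h, fun h => h PUnit.unit⟩

end Groth.Agent.S7511
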