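import Groth.Statements.S7512
import Mathlib

set_option autoImplicit false
universe w u
open HTop

namespace Groth.Agent.S7512

open CategoryTheory CategoryTheory.Limits AlgebraicGeometry in
/-- Let {f_i : T_i -> T} be a family of flat morphisms of schemes. Assume that for every affine scheme Z
and every morphism h : Z -> T there is a standard fpqc covering of Z (a finite family of flat
morphisms Z_j -> Z with Z_j affine whose images cover Z) refining the family of base changes {T_i
x_T Z -> Z} (every Z_j -> Z factors through some T_i compatibly with h). Then {f_i : T_i -> T} is an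
fpqc covering (in Mathlib's sense). -/
theorem result {T : Scheme.{u}} (E : PreZeroHypercover.{w} T) (hflat : ∀ i, Flat (E.f i)) (href : ∀ (Z : Scheme.{u}) [IsAffine Z] (h : Z ⟶ T), ∃ F : PreZeroHypercover.{0} Z, Finite F.I₀ ∧ (∀ j, IsAffine (F.X j)) ∧ (∀ j, Flat (F.f j)) ∧ (∀ z : Z, ∃ (j : F.I₀) (x : F.X j), F.f j x = z) ∧ HTop.RefinesOver h F E) : E.presieve₀ ∈ Scheme.fpqcPrecoverage T := by
  classical
  refine ⟨?_, ?_⟩
  · -- quasi-compactness
    rw [Scheme.presieve₀_mem_qcPrecoverage_iff]
    refine ⟨fun {U} hU => ?_⟩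
    haveI : IsAffine (U : Scheme.{u}) := hU
    obtain ⟨F, hfin, haff, -, hsurj, href'⟩ := href (U : Scheme.{u}) U.ι
    choose a t ht using href'
    haveI := hfin
    refine IsCompactOpenCovered.of_comp (f := fun i => ((E.f i : E.X i ⟶ T) : E.X i → T))
      (σ := F.I₀) (Y := fun j => ↥(F.X j))
      (fun j => ((F.f j ≫ U.ι : F.X j ⟶ T) : F.X j → T)) (a := a)
      (fun j => ((t j : F.X j ⟶ E.X (a j)) : F.X j → E.X (a j)))
      (fun j => (t j).continuous) ?_ (fun i => (E.f i).continuous) U.2 ?_
    · intro j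
      funext x
      show (F.f j ≫ U.ι) x = (E.f (a j)) ((t j) x)
      rw [← Scheme.Hom.comp_apply, ht j]
    · refine ⟨Set.univ, Set.finite_univ, fun j _ => ⊤, fun j _ => ?_, ?_⟩
      · haveI := haff j
        exact isCompact_univ
      · apply Set.Subset.antisymm
        · intro y hy
          simp only [Set.mem_iUnion] at hy
          obtain ⟨j, -, x, -, rfl⟩ := hy
          show (F.f j ≫ U.ι) x ∈ (U : Set T)
          rw [Scheme.Hom.comp_apply]
          exact (F.f j x).2
        · intro y hy
          obtain ⟨j, x, hx⟩ := hsurj ⟨y, hy⟩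
          simp only [Set.mem_iUnion]
          refine ⟨j, trivial, x, trivial, ?_⟩
          show (F.f j ≫ U.ι) x = y
          rw [Scheme.Hom.comp_apply, hx]
          rfl
  · rw [Scheme.presieve₀_mem_precoverage_iff]
    refine ⟨fun x => ?_, hflat⟩
    obtain ⟨U₀, hU, hxU, -⟩ := TopologicalSpace.Opens.isBasis_iff_nbhd.mp T.isBasis_affineOpens
      (show x ∈ (⊤ : T.Opens) from trivial)
    obtain ⟨U, rfl⟩ : ∃ U : T.Opens, U = U₀ := ⟨U₀, rfl⟩
    have hU' : IsAffineOpen U := hU
    haveI : IsAffine (U : Scheme.{u}) := hU'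
    obtain ⟨F, -, -, -, hsurj, href'⟩ := href (U : Scheme.{u}) U.ι
    obtain ⟨j, z, hz⟩ := hsurj ⟨x, hxU⟩
    obtain ⟨i, h, hh⟩ := href' j
    refine ⟨i, h z, ?_⟩
    rw [← Scheme.Hom.comp_apply, hh, Scheme.Hom.comp_apply, hz]
    rfl

end Groth.Agent.S7512
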