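import Groth.Statements.S7522
import Mathlib

set_option autoImplicit false
universe u
open CategoryTheory CategoryTheory.Limits AlgebraicGeometry
open Grpd

namespace Groth.Agent.S7522

/-- Let S be a scheme, U a scheme over S and j : R -> U x_S U a pre-equivalence relation, that is a
morphism such that for every scheme T the image of the T-points of R in pairs of T-points of U is an
equivalence relation; write t = pr_0 ∘ j and s = pr_1 ∘ j. Then the relation on the points of U in
which x ∼ y when some point r of R has t(r) = x and s(r) = y is an equivalence relation. -/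
theorem result {S U R : Scheme.{u}} (pU : U ⟶ S) (j : R ⟶ pullback pU pU) (hj : ∀ T : Scheme.{u}, Equivalence (fun a b : T ⟶ U => ∃ r : T ⟶ R, r ≫ j ≫ pullback.fst pU pU = a ∧ r ≫ j ≫ pullback.snd pU pU = b)) : Equivalence (fun x y : ↥U => ∃ r : R, (j ≫ pullback.fst pU pU) r = x ∧ (j ≫ pullback.snd pU pU) r = y) := by
  refine ⟨fun x => ?_, fun {x y} => ?_, fun {x y z} => ?_⟩
  · obtain ⟨r, hr1, hr2⟩ := (hj (Spec (U.residueField x))).refl (U.fromSpecResidueField x)
    refine ⟨r (IsLocalRing.closedPoint (U.residueField x)), ?_, ?_⟩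
    · rw [← Scheme.Hom.comp_apply, hr1, Scheme.fromSpecResidueField_apply]
    · rw [← Scheme.Hom.comp_apply, hr2, Scheme.fromSpecResidueField_apply]
  · rintro ⟨r, hr1, hr2⟩
    obtain ⟨r', hr'1, hr'2⟩ := (hj (Spec (R.residueField r))).symm
      (x := R.fromSpecResidueField r ≫ j ≫ pullback.fst pU pU)
      (y := R.fromSpecResidueField r ≫ j ≫ pullback.snd pU pU)
      ⟨R.fromSpecResidueField r, rfl, rfl⟩
    refine ⟨r' (IsLocalRing.closedPoint (R.residueField r)), ?_, ?_⟩
    · rw [← Scheme.Hom.comp_apply, hr'1, Scheme.Hom.comp_apply,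
        Scheme.fromSpecResidueField_apply, hr2]
    · rw [← Scheme.Hom.comp_apply, hr'2, Scheme.Hom.comp_apply,
        Scheme.fromSpecResidueField_apply, hr1]
  · rintro ⟨r₁, h11, h12⟩ ⟨r₂, h21, h22⟩
    obtain ⟨w, hw1, hw2⟩ := Scheme.Pullback.exists_preimage_pullback
      (f := j ≫ pullback.snd pU pU) (g := j ≫ pullback.fst pU pU) r₁ r₂ (h12.trans h21.symm)
    obtain ⟨r₃, hr31, hr32⟩ := (hj (Spec ((pullback (j ≫ pullback.snd pU pU)
        (j ≫ pullback.fst pU pU)).residueField w))).trans
      (x := ((pullback (j ≫ pullback.snd pU pU) (j ≫ pullback.fst pU pU)).fromSpecResidueField w ≫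
        pullback.fst _ _) ≫ j ≫ pullback.fst pU pU)
      (y := ((pullback (j ≫ pullback.snd pU pU) (j ≫ pullback.fst pU pU)).fromSpecResidueField w ≫
        pullback.fst _ _) ≫ j ≫ pullback.snd pU pU)
      (z := ((pullback (j ≫ pullback.snd pU pU) (j ≫ pullback.fst pU pU)).fromSpecResidueField w ≫
        pullback.snd _ _) ≫ j ≫ pullback.snd pU pU)
      ⟨_, rfl, rfl⟩
      ⟨(pullback (j ≫ pullback.snd pU pU) (j ≫ pullback.fst pU pU)).fromSpecResidueField w ≫
        pullback.snd _ _, by
          rw [Category.assoc, Category.assoc, pullback.condition], rfl⟩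
    refine ⟨r₃ (IsLocalRing.closedPoint _), ?_, ?_⟩
    · rw [← Scheme.Hom.comp_apply, hr31, Scheme.Hom.comp_apply,
        Scheme.Hom.comp_apply ((pullback (j ≫ pullback.snd pU pU)
          (j ≫ pullback.fst pU pU)).fromSpecResidueField w) (pullback.fst _ _),
        Scheme.fromSpecResidueField_apply, hw1, h11]
    · rw [← Scheme.Hom.comp_apply, hr32, Scheme.Hom.comp_apply,
        Scheme.Hom.comp_apply ((pullback (j ≫ pullback.snd pU pU)
          (j ≫ pullback.fst pU pU)).fromSpecResidueField w) (pullback.snd _ _),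
        Scheme.fromSpecResidueField_apply, hw2, h22]

end Groth.Agent.S7522
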