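import Groth.Statements.S7528
import Groth.Agent.Lib.Helper6.Spectral

set_option autoImplicit false
universe u
open SpecSp

namespace Groth.Agent.S7528

/-- For a spectral space X the following are equivalent: (1) X is profinite, i.e. quasi-compact,
Hausdorff and totally disconnected (quasi-compactness being automatic); (2) X is Hausdorff; (3) X is
totally disconnected; (4) every quasi-compact open subset is closed; (5) there are no nontrivial
specializations between points; (6) every point is closed; (7) every point is the generic point of
an irreducible component; (8) the constructible topology coincides with the topology of X. -/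
theorem result (X : Type u) [tX : TopologicalSpace X] [SpectralSpace X] :
    List.TFAE [
      T2Space X ∧ TotallyDisconnectedSpace X,
      T2Space X,
      TotallyDisconnectedSpace X,
      ∀ U : Set X, IsOpen U → IsCompact U → IsClosed U,
      ∀ x y : X, x ⤳ y → x = y,
      ∀ x : X, IsClosed ({x} : Set X),
      ∀ x : X, closure ({x} : Set X) ∈ irreducibleComponents X,
      constructibleTopology X = tX] := by
  tfae_have 1 → 2 := fun h => h.1
  tfae_have 2 → 4 := by
    intro h U _ hUc
    exact hUc.isClosed
  tfae_have 4 → 8 := by
    intro h
    apply le_antisymm
    · exact Groth.Agent.Helper6.constructibleTopology_le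
    · apply le_generateFrom
      rintro s (⟨ho, _⟩ | ⟨hcl, hc⟩)
      · exact ho
      · have := h sᶜ hcl.isOpen_compl hc
        rwa [isClosed_compl_iff] at this
  tfae_have 8 → 1 := by
    intro h
    have h2 : T2Space X := by
      have := Groth.Agent.Helper6.t2Space_constructibleTopology (X := X)
      rwa [h] at this
    exact ⟨h2, inferInstance⟩
  tfae_have 1 → 3 := fun h => h.2
  tfae_have 3 → 5 := by
    intro h x y hxy
    have hpre : IsPreconnected ({x, y} : Set X) := by
      refine (isPreconnected_singleton (x := x)).subset_closure (by simp) ?_
      intro z hz
      rcases hz with rfl | rfl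
      · exact subset_closure rfl
      · exact specializes_iff_mem_closure.mp hxy
    exact hpre.subsingleton (by simp) (by simp)
  tfae_have 5 → 6 := by
    intro h x
    rw [← closure_eq_iff_isClosed]
    apply Set.Subset.antisymm
    · intro y hy
      exact (h x y (specializes_iff_mem_closure.mpr hy)).symm
    · exact subset_closure
  tfae_have 6 → 5 := by
    intro h x y hxy
    have := specializes_iff_mem_closure.mp hxy
    rw [(h x).closure_eq] at this
    exact this.symm
  tfae_have 5 → 7 := by
    intro h x
    refine ⟨isIrreducible_singleton.closure, fun Z hZ hxZ => ?_⟩
    obtain ⟨ξ, hξ⟩ := QuasiSober.sober hZ.closure isClosed_closure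
    have hξx : ξ ⤳ x := by
      rw [specializes_iff_mem_closure, hξ.def]
      exact subset_closure (hxZ (subset_closure rfl))
    have hξeq : ξ = x := h ξ x hξx
    intro z hz
    have hz' : z ∈ closure ({ξ} : Set X) := by
      rw [hξ.def]; exact subset_closure hz
    rwa [hξeq] at hz'
  tfae_have 7 → 5 := by
    intro h x y hxy
    have hyx : closure ({y} : Set X) ⊆ closure {x} :=
      (isClosed_closure.closure_subset_iff).mpr
        (Set.singleton_subset_iff.mpr (specializes_iff_mem_closure.mp hxy))
    have := (h y).2 isIrreducible_singleton.closure hyx
    have hyx' : y ⤳ x := specializes_iff_mem_closure.mpr (this (subset_closure rfl))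
    exact (hxy.antisymm hyx').eq
  tfae_have 5 → 4 := by
    intro h U hUo hUc
    refine Groth.Agent.Helper6.isClosed_of_isClosed_constructibleTopology_of_stableUnderSpecialization
      (Groth.Agent.Helper6.isClosed_constructibleTopology_of_isCompact_isOpen hUo hUc) ?_
    intro x y hxy hx
    rwa [← h x y hxy]
  tfae_finish

end Groth.Agent.S7528
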