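import Groth.Statements.S7551
import Mathlib
-- import your own Groth.Agent.* helpers here

set_option autoImplicit false
universe u
open PtTop

namespace Groth.Agent.S7551

/-- Let s, t : R → U and π : U → X be continuous maps between topological spaces satisfying: (1) π is an
open map, (2) U is a sober space, (3) s and t have finite fibres, (4) generalizations lift along s
and along t, and (5) the image of (t, s) : R → U × U is an equivalence relation on U and π
identifies X, as a set, with the quotient of U by it. Then X is Kolmogorov. -/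
theorem result {R U X : Type u}
    [TopologicalSpace R] [TopologicalSpace U] [TopologicalSpace X] [QuasiSober U] [T0Space U]
    (s t : R → U) (π : U → X) (hs : Continuous s) (ht : Continuous t) (hπ : Continuous π)
    (hπo : IsOpenMap π) (hsf : ∀ u, (s ⁻¹' {u}).Finite) (htf : ∀ u, (t ⁻¹' {u}).Finite)
    (hsg : GeneralizingMap s) (htg : GeneralizingMap t)
    (hE : Equivalence fun u u' : U => ∃ r, t r = u ∧ s r = u')
    (hπs : Function.Surjective π) (hπq : ∀ u u' : U, π u = π u' ↔ ∃ r, t r = u ∧ s r = u') :
    T0Space X := by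
  classical
  refine ⟨fun x x' hxx' => ?_⟩
  have hcl : closure ({x} : Set X) = closure {x'} := inseparable_iff_closure_eq.1 hxx'
  -- orbits
  have horb : ∀ u : U, π ⁻¹' {π u} = s '' (t ⁻¹' {u}) := by
    intro u
    ext u'
    simp only [Set.mem_preimage, Set.mem_singleton_iff, Set.mem_image]
    constructor
    · intro h
      obtain ⟨r, hr1, hr2⟩ := (hπq u u').1 h.symm
      exact ⟨r, hr1, hr2⟩
    · rintro ⟨r, hr1, hr2⟩
      exact ((hπq u u').2 ⟨r, hr1, hr2⟩).symm
  obtain ⟨u, rfl⟩ := hπs x
  obtain ⟨u', rfl⟩ := hπs x'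
  have hfin : (π ⁻¹' {π u}).Finite := by rw [horb]; exact (htf u).image s
  have hfin' : (π ⁻¹' {π u'}).Finite := by rw [horb]; exact (htf u').image s
  have hne : (π ⁻¹' {π u}).Nonempty := ⟨u, rfl⟩
  have hclO : closure (π ⁻¹' {π u}) = closure (π ⁻¹' {π u'}) := by
    rw [← hπo.preimage_closure_eq_closure_preimage hπ, ← hπo.preimage_closure_eq_closure_preimage hπ,
      hcl]
  have hbi : ∀ O : Set U, O.Finite → closure O = ⋃ v ∈ O, closure ({v} : Set U) := by
    intro O hO
    conv_lhs => rw [← Set.biUnion_of_singleton O]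
    exact hO.closure_biUnion _
  obtain ⟨v, hvO, hvmax⟩ := hfin.exists_maximalFor (fun v => closure ({v} : Set U)) _ hne
  have hv1 : v ∈ closure (π ⁻¹' {π u'}) := hclO ▸ subset_closure hvO
  rw [hbi _ hfin'] at hv1
  simp only [Set.mem_iUnion] at hv1
  obtain ⟨v', hv'O, hvv'⟩ := hv1
  have hv2 : v' ∈ closure (π ⁻¹' {π u}) := hclO.symm ▸ subset_closure hv'O
  rw [hbi _ hfin] at hv2
  simp only [Set.mem_iUnion] at hv2
  obtain ⟨v'', hv''O, hv'v''⟩ := hv2
  have h1 : closure ({v} : Set U) ⊆ closure {v'} :=
    closure_minimal (Set.singleton_subset_iff.2 hvv') isClosed_closure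
  have h2 : closure ({v'} : Set U) ⊆ closure {v''} :=
    closure_minimal (Set.singleton_subset_iff.2 hv'v'') isClosed_closure
  have h3 : closure ({v''} : Set U) ⊆ closure {v} := hvmax hv''O (h1.trans h2)
  have heq : closure ({v} : Set U) = closure {v'} := le_antisymm h1 (h2.trans h3)
  have hvv : v = v' := (inseparable_iff_closure_eq.2 heq).eq
  have e1 : π v = π u := hvO
  have e2 : π v' = π u' := hv'O
  rw [← e1, ← e2, hvv]

end Groth.Agent.S7551
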