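import Groth.Statements.S7552
import Groth.Agent.Lib.Helper7.KrullFib
-- import your own Groth.Agent.* helpers here

set_option autoImplicit false
universe u
open PtTop

namespace Groth.Agent.S7552

/-- Let f : X → Y be a continuous surjective map of topological spaces with Y sober, and assume that
specializations lift along f or that generalizations lift along f. Then dim X ≥ dim Y (Krull
dimensions as suprema of lengths of chains of irreducible closed subsets). -/
theorem result {X Y : Type u}
    [TopologicalSpace X] [TopologicalSpace Y] [QuasiSober Y] [T0Space Y]
    (f : X → Y) (hf : Continuous f) (hsurj : Function.Surjective f)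
    (hlift : SpecializingMap f ∨ GeneralizingMap f) :
    topologicalKrullDim Y ≤ topologicalKrullDim X := by
  unfold topologicalKrullDim
  letI pX : Preorder X := specializationPreorder X
  letI pY : PartialOrder Y := specializationOrder Y
  have h1 : Order.krullDim (TopologicalSpace.IrreducibleCloseds Y) = Order.krullDim Y :=
    Order.krullDim_eq_of_orderIso irreducibleSetEquivPoints
  have h2 : Order.krullDim X ≤ Order.krullDim (TopologicalSpace.IrreducibleCloseds X) := by
    refine Order.krullDim_le_of_strictMono
      (fun x => (⟨closure {x}, isIrreducible_singleton.closure, isClosed_closure⟩ :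
        TopologicalSpace.IrreducibleCloseds X)) ?_
    intro x y hxy
    have hle : y ⤳ x := hxy.le
    have hnle : ¬ x ⤳ y := fun h => hxy.not_ge h
    rw [lt_iff_le_not_ge]
    constructor
    · show closure {x} ⊆ closure {y}
      exact specializes_iff_closure_subset.1 hle
    · intro hcon
      apply hnle
      have : closure {y} ⊆ closure {x} := hcon
      exact specializes_iff_closure_subset.2 this
  have h3 : Order.krullDim Y ≤ Order.krullDim X := by
    rcases hlift with hsp | hgen
    · rw [← Order.krullDim_orderDual (α := Y), ← Order.krullDim_orderDual (α := X)]
      refine Groth.Agent.Helper7.krullDim_le_of_fibration (α := Xᵒᵈ) (β := Yᵒᵈ)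
        (fun a => OrderDual.toDual (f (OrderDual.ofDual a))) ?_ ?_ ?_
      · intro a a' haa'
        have : OrderDual.ofDual a ⤳ OrderDual.ofDual a' := haa'
        exact this.map hf
      · intro a b hab
        have hab' : f (OrderDual.ofDual a) ⤳ OrderDual.ofDual b := hab
        obtain ⟨a', ha', hfa'⟩ := hsp hab'
        exact ⟨OrderDual.toDual a', ha', congrArg OrderDual.toDual hfa'⟩
      · intro b
        obtain ⟨a, ha⟩ := hsurj (OrderDual.ofDual b)
        exact ⟨OrderDual.toDual a, congrArg OrderDual.toDual ha⟩
    · refine Groth.Agent.Helper7.krullDim_le_of_fibration f ?_ ?_ hsurj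
      · intro a a' haa'
        have : a' ⤳ a := haa'
        exact this.map hf
      · intro a b hab
        have hab' : b ⤳ f a := hab
        obtain ⟨a', ha', hfa'⟩ := hgen hab'
        exact ⟨a', ha', hfa'⟩
  rw [h1]
  exact h3.trans h2

end Groth.Agent.S7552
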