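import Groth.Statements.S7553
-- import your own Groth.Agent.* helpers here

set_option autoImplicit false
universe u
open ConstrTop

namespace Groth.Agent.S7553

open Topology in
theorem aux_Q {X : Type u} [TopologicalSpace X] {E : Set X} (hE : Topology.IsConstructible E) :
    ∀ x : X, ∃ U : Set X, IsOpen U ∧ x ∈ U ∧
      (U ∩ closure {x} ⊆ E ∨ U ∩ closure {x} ∩ E = ∅) := by
  induction hE using Topology.IsConstructible.empty_union_induction with
  | open_retrocompact U hUo _ =>
    intro x
    by_cases hx : x ∈ U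
    · exact ⟨U, hUo, hx, Or.inl Set.inter_subset_left⟩
    · refine ⟨Set.univ, isOpen_univ, trivial, Or.inr ?_⟩
      rw [Set.eq_empty_iff_forall_notMem]
      rintro y ⟨⟨-, hy⟩, hyU⟩
      apply hx
      have : x ⤳ y := specializes_iff_mem_closure.mpr hy
      exact this.mem_open hUo hyU
  | union s hs t ht ihs iht =>
    intro x
    obtain ⟨U, hU, hxU, h1⟩ := ihs x
    obtain ⟨V, hV, hxV, h2⟩ := iht x
    rcases h1 with h1 | h1
    · exact ⟨U, hU, hxU, Or.inl (h1.trans Set.subset_union_left)⟩
    rcases h2 with h2 | h2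
    · exact ⟨V, hV, hxV, Or.inl (h2.trans Set.subset_union_right)⟩
    refine ⟨U ∩ V, hU.inter hV, ⟨hxU, hxV⟩, Or.inr ?_⟩
    rw [Set.eq_empty_iff_forall_notMem] at h1 h2 ⊢
    rintro y ⟨⟨⟨hyU, hyV⟩, hyc⟩, hy | hy⟩
    · exact h1 y ⟨⟨hyU, hyc⟩, hy⟩
    · exact h2 y ⟨⟨hyV, hyc⟩, hy⟩
  | compl s hs ih =>
    intro x
    obtain ⟨U, hU, hxU, h1⟩ := ih x
    refine ⟨U, hU, hxU, ?_⟩
    rcases h1 with h1 | h1
    · right
      rw [Set.eq_empty_iff_forall_notMem]
      rintro y ⟨hy1, hy2⟩
      exact hy2 (h1 hy1)
    · left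
      intro y hy hys
      rw [Set.eq_empty_iff_forall_notMem] at h1
      exact h1 y ⟨hy, hys⟩

theorem aux_closed {X : Type u} [TopologicalSpace X]
    [TopologicalSpace.NoetherianSpace X] [QuasiSober X] (E : Set X)
    (hE : Topology.IsConstructible E) (hsp : StableUnderSpecialization E) : IsClosed E := by
  have key : ∀ Z : TopologicalSpace.Closeds X, IsClosed (E ∩ (Z : Set X)) := by
    intro Z
    induction Z using WellFoundedLT.induction with
    | ind Z ih =>
    by_cases hZe : (Z : Set X) = ∅
    · rw [hZe, Set.inter_empty]; exact isClosed_empty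
    by_cases hirr : IsPreirreducible (Z : Set X)
    · have hZirr : IsIrreducible (Z : Set X) := ⟨Set.nonempty_iff_ne_empty.mpr hZe, hirr⟩
      obtain ⟨η, hη⟩ := QuasiSober.sober hZirr Z.isClosed
      have hcl : closure {η} = (Z : Set X) := hη
      obtain ⟨U, hU, hηU, h⟩ := aux_Q hE η
      rw [hcl] at h
      rcases h with h | h
      · have hηE : η ∈ E := h ⟨hηU, hcl ▸ subset_closure rfl⟩
        have : (Z : Set X) ⊆ E := by
          intro y hy
          rw [← hcl] at hy
          exact hsp (specializes_iff_mem_closure.mpr hy) hηE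
        rw [Set.inter_eq_right.mpr this]
        exact Z.isClosed
      · set Z' : TopologicalSpace.Closeds X := ⟨(Z : Set X) \ U, Z.isClosed.sdiff hU⟩ with hZ'
        have hlt : Z' < Z := by
          refine lt_of_le_of_ne (fun y hy => hy.1) ?_
          intro heq
          have : η ∈ (Z' : Set X) := by rw [heq, ← hcl]; exact subset_closure rfl
          exact this.2 hηU
        have := ih Z' hlt
        have heq : E ∩ (Z : Set X) = E ∩ (Z' : Set X) := by
          ext y
          constructor
          · rintro ⟨hyE, hyZ⟩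
            refine ⟨hyE, hyZ, fun hyU => ?_⟩
            rw [Set.eq_empty_iff_forall_notMem] at h
            exact h y ⟨⟨hyU, hyZ⟩, hyE⟩
          · rintro ⟨hyE, hyZ, -⟩
            exact ⟨hyE, hyZ⟩
        rw [heq]; exact this
    · rw [isPreirreducible_iff_isClosed_union_isClosed] at hirr
      push Not at hirr
      obtain ⟨z₁, z₂, hz₁, hz₂, hsub, hn1, hn2⟩ := hirr
      set Z₁ : TopologicalSpace.Closeds X := ⟨(Z : Set X) ∩ z₁, Z.isClosed.inter hz₁⟩
      set Z₂ : TopologicalSpace.Closeds X := ⟨(Z : Set X) ∩ z₂, Z.isClosed.inter hz₂⟩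
      have hlt1 : Z₁ < Z := by
        refine lt_of_le_of_ne (fun y hy => hy.1) ?_
        intro heq
        apply hn1
        intro y hy
        have : y ∈ (Z₁ : Set X) := by rw [heq]; exact hy
        exact this.2
      have hlt2 : Z₂ < Z := by
        refine lt_of_le_of_ne (fun y hy => hy.1) ?_
        intro heq
        apply hn2
        intro y hy
        have : y ∈ (Z₂ : Set X) := by rw [heq]; exact hy
        exact this.2
      have heq : E ∩ (Z : Set X) = (E ∩ (Z₁ : Set X)) ∪ (E ∩ (Z₂ : Set X)) := by
        ext y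
        constructor
        · rintro ⟨hyE, hyZ⟩
          rcases hsub hyZ with h | h
          · exact Or.inl ⟨hyE, hyZ, h⟩
          · exact Or.inr ⟨hyE, hyZ, h⟩
        · rintro (⟨hyE, hyZ, -⟩ | ⟨hyE, hyZ, -⟩) <;> exact ⟨hyE, hyZ⟩
      rw [heq]
      exact (ih Z₁ hlt1).union (ih Z₂ hlt2)
  have := key ⊤
  simpa using this

/-- Let X be a Noetherian sober topological space and E ⊆ X. (1) A constructible E that is closed under
specialization is a closed subset. (2) A constructible E that is closed under generalization is an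
open subset. -/
theorem result {X : Type u} [TopologicalSpace X]
    [TopologicalSpace.NoetherianSpace X] [QuasiSober X] [T0Space X] (E : Set X) (hE : Topology.IsConstructible E) :
    (StableUnderSpecialization E → IsClosed E) ∧ (StableUnderGeneralization E → IsOpen E) := by
  refine ⟨fun h => aux_closed E hE h, fun h => ?_⟩
  rw [← isClosed_compl_iff]
  exact aux_closed Eᶜ hE.compl h.compl

end Groth.Agent.S7553
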