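import Groth.Statements.S7556
import Mathlib
-- import your own Groth.Agent.* helpers here

set_option autoImplicit false
universe u
open PtTop

namespace Groth.Agent.S7556

open Set Function in
/-- `X` with the discrete topology. -/
def Disc (X : Type u) : Type u := X

instance (X : Type u) : TopologicalSpace (Disc X) := ⊥
instance (X : Type u) : DiscreteTopology (Disc X) := ⟨rfl⟩

open Set Function in
/-- a self-map of a minimal cover over the base is the identity -/
theorem eq_id_of_minimal {X E : Type u} [TopologicalSpace X] [TopologicalSpace E] [T2Space E]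
    (π : E → X) (hπs : Function.Surjective π)
    (hmin : ∀ E₀ : Set E, IsClosed E₀ → E₀ ≠ Set.univ → π '' E₀ ≠ Set.univ)
    (h : E → E) (hh : Continuous h) (hπh : π ∘ h = π) : h = id := by
  funext x
  by_contra hx
  obtain ⟨G₁, G₂, hG₁, hG₂, hx₁, hx₂, hdisj⟩ := t2_separation hx
  -- G := G₂ ∩ h⁻¹(G₁) is an open nbhd of x with h(G) ∩ G = ∅
  set G : Set E := G₂ ∩ h ⁻¹' G₁ with hG
  have hGo : IsOpen G := hG₂.inter (hG₁.preimage hh)
  have hxG : x ∈ G := ⟨hx₂, hx₁⟩
  have hGc : IsClosed Gᶜ := hGo.isClosed_compl
  have hne : Gᶜ ≠ Set.univ := by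
    intro hcon
    have : x ∈ Gᶜ := hcon ▸ Set.mem_univ x
    exact this hxG
  apply hmin Gᶜ hGc hne
  rw [Set.eq_univ_iff_forall]
  intro a
  obtain ⟨e, rfl⟩ := hπs a
  by_cases he : e ∈ G
  · refine ⟨h e, ?_, congrFun hπh e⟩
    intro hcon
    exact Set.disjoint_left.1 hdisj he.2 hcon.1
  · exact ⟨e, he, rfl⟩


/-- Let X be a quasi-compact Hausdorff space. There is a continuous surjection p : X' → X with X'
quasi-compact, Hausdorff and extremally disconnected such that no proper closed subset of X' maps
onto X; and if q : X'' → X is a second cover with the same properties, there is a homeomorphism X' ≃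
X'' compatible with p and q. -/
theorem result (X : Type u) [TopologicalSpace X] [CompactSpace X] [T2Space X] :
    (∃ (X' : Type u) (_ : TopologicalSpace X') (_ : CompactSpace X') (_ : T2Space X') (_ : ExtremallyDisconnected X')
        (p : X' → X), Continuous p ∧ Function.Surjective p ∧
        ∀ E : Set X', IsClosed E → E ≠ Set.univ → p '' E ≠ Set.univ) ∧
    (∀ (X' X'' : Type u) [TopologicalSpace X'] [CompactSpace X'] [T2Space X'] [ExtremallyDisconnected X']
        [TopologicalSpace X''] [CompactSpace X''] [T2Space X''] [ExtremallyDisconnected X'']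
        (p : X' → X) (q : X'' → X),
        Continuous p → Function.Surjective p → (∀ E : Set X', IsClosed E → E ≠ Set.univ → p '' E ≠ Set.univ) →
        Continuous q → Function.Surjective q → (∀ E : Set X'', IsClosed E → E ≠ Set.univ → q '' E ≠ Set.univ) →
        ∃ h : X' ≃ₜ X'', q ∘ h = p) := by
  constructor
  · -- existence
    let π : StoneCech (Disc X) → X :=
      stoneCechExtend (α := Disc X) (g := fun x : Disc X => (x : X)) continuous_of_discreteTopology
    have hπc : Continuous π := continuous_stoneCechExtend _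
    have hπs : Function.Surjective π := fun x =>
      ⟨stoneCechUnit (α := Disc X) x, stoneCechExtend_stoneCechUnit _ _⟩
    obtain ⟨E, hEc, hEonto, hEmin⟩ := exists_compact_surjective_zorn_subset hπc hπs
    let ρ : E → X := E.domRestrict π
    have hρc : Continuous ρ := hπc.continuousOn.domRestrict
    have hρs : Function.Surjective ρ := fun a => by
      rcases (hEonto ▸ Set.mem_univ a : a ∈ π '' E) with ⟨d, ⟨hd, rfl⟩⟩
      exact ⟨⟨d, hd⟩, rfl⟩
    have hmin' : ∀ E₀ : Set E, IsClosed E₀ → E₀ ≠ Set.univ → ρ '' E₀ ≠ Set.univ :=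
      fun E₀ h1 h2 => hEmin E₀ h2 h1
    -- retraction
    have hDproj : CompactT2.Projective (StoneCech (Disc X)) := StoneCech.projective
    obtain ⟨r, hrc, hr⟩ := hDproj (f := π) (g := ρ) hπc hρc hρs
    have hrid : (fun e : E => r e.1) = id := by
      apply eq_id_of_minimal ρ hρs hmin' _ (hrc.comp continuous_subtype_val)
      funext e
      exact congrFun hr e.1
    have hEproj : CompactT2.Projective E := by
      intro Y Z _ _ _ _ _ _ f g hf hg hgs
      obtain ⟨l, hlc, hl⟩ := hDproj (f := f ∘ r) (g := g) (hf.comp hrc) hg hgs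
      refine ⟨fun e => l e.1, hlc.comp continuous_subtype_val, ?_⟩
      funext e
      have := congrFun hl e.1
      simp only [Function.comp] at this ⊢
      rw [this]
      exact congrArg f (congrFun hrid e)
    have hED : ExtremallyDisconnected E := hEproj.extremallyDisconnected
    exact ⟨E, inferInstance, hEc, inferInstance, hED, ρ, hρc, hρs, hmin'⟩
  · -- uniqueness
    intro X' X'' _ _ _ _ _ _ _ _ p q hpc hps hpmin hqc hqs hqmin
    have hproj : CompactT2.Projective X' := CompactT2.ExtremallyDisconnected.projective
    obtain ⟨h, hhc, hh⟩ := hproj (f := p) (g := q) hpc hqc hqs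
    have hhs : Function.Surjective h := by
      have hcl : IsClosed (Set.range h) := (isCompact_range hhc).isClosed
      by_contra hns
      have hne : Set.range h ≠ Set.univ := fun hcon => hns (Set.range_eq_univ.1 hcon)
      apply hqmin _ hcl hne
      rw [Set.eq_univ_iff_forall]
      intro a
      obtain ⟨x', rfl⟩ := hps a
      exact ⟨h x', ⟨x', rfl⟩, congrFun hh x'⟩
    have hzorn : ∀ E₀ : Set X', E₀ ≠ Set.univ → IsClosed E₀ → h '' E₀ ≠ Set.univ := by
      intro E₀ hne hcl hcon
      apply hpmin E₀ hcl hne
      rw [← hh, Set.image_comp, hcon, Set.image_univ, Set.range_eq_univ.2 hqs]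
    refine ⟨ExtremallyDisconnected.homeoCompactToT2 hhc hhs hzorn, ?_⟩
    rw [← hh]
    rfl

end Groth.Agent.S7556
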