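import Groth.Statements.S7557
import Mathlib
-- import your own Groth.Agent.* helpers here

set_option autoImplicit false
universe u
open CategoryTheory CategoryTheory.Limits
open PtTop

namespace Groth.Agent.S7557

section Construction

variable {J : Type u} [Category.{u} J] (F : J ⥤ TopCommRingCat.{u})

/-- underlying diagram of rings -/
noncomputable abbrev G : J ⥤ CommRingCat.{u} := F ⋙ forget₂ TopCommRingCat CommRingCat

/-- the limit ring -/
noncomputable abbrev R : CommRingCat.{u} := limit (G F)

/-- the projections as ring homs -/
noncomputable def proj (j : J) : (R F) →+* (F.obj j) := (limit.π (G F) j).hom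

noncomputable def limTop : TopologicalSpace (R F) :=
  ⨅ j, TopologicalSpace.induced (proj F j) (F.obj j).isTopologicalSpace

theorem limTop_ring : @IsTopologicalRing (R F) (limTop F) _ := by
  have key : ∀ j, @IsTopologicalRing (R F)
      (TopologicalSpace.induced (proj F j) (F.obj j).isTopologicalSpace) _ := by
    intro j
    letI := TopologicalSpace.induced (proj F j) (F.obj j).isTopologicalSpace
    have hind : Topology.IsInducing (proj F j) := ⟨rfl⟩
    have h1 : ContinuousAdd (R F) := hind.continuousAdd (proj F j)
    have h2 : ContinuousMul (R F) := hind.continuousMul (proj F j)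
    have h3 : ContinuousNeg (R F) := by
      refine ⟨hind.continuous_iff.2 ?_⟩
      have : (proj F j) ∘ (fun x : R F => -x) = (fun y => -y) ∘ (proj F j) := by
        funext x
        simp
      rw [this]
      exact continuous_neg.comp hind.continuous
    exact @IsTopologicalRing.mk _ _ _ (@IsTopologicalSemiring.mk _ _ _ h1 h2) h3
  have h1 : @ContinuousAdd (R F) (limTop F) _ :=
    continuousAdd_iInf (fun j => @IsTopologicalSemiring.toContinuousAdd _ _ _
      (@IsTopologicalRing.toIsTopologicalSemiring _ _ _ (key j)))
  have h2 : @ContinuousMul (R F) (limTop F) _ :=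
    continuousMul_iInf (fun j => @IsTopologicalSemiring.toContinuousMul _ _ _
      (@IsTopologicalRing.toIsTopologicalSemiring _ _ _ (key j)))
  have h3 : @ContinuousNeg (R F) (limTop F) _ :=
    continuousNeg_iInf (fun j => @IsTopologicalRing.toContinuousNeg _ _ _ (key j))
  exact @IsTopologicalRing.mk _ (limTop F) _ (@IsTopologicalSemiring.mk _ (limTop F) _ h1 h2) h3

theorem proj_continuous (j : J) :
    @Continuous _ _ (limTop F) (F.obj j).isTopologicalSpace (proj F j) :=
  continuous_iInf_dom (i := j) continuous_induced_dom

noncomputable def limPt : TopCommRingCat.{u} :=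
  @TopCommRingCat.of (R F) _ (limTop F) (limTop_ring F)

noncomputable def projHom (j : J) : limPt F ⟶ F.obj j :=
  ⟨proj F j, proj_continuous F j⟩

theorem proj_w {j j' : J} (f : j ⟶ j') : (F.map f).val.comp (proj F j) = proj F j' := by
  have := limit.w (G F) f
  exact congrArg CommRingCat.Hom.hom this

noncomputable def limCone : Cone F where
  pt := limPt F
  π :=
    { app := fun j => projHom F j
      naturality := by
        intro j j' f
        apply Subtype.ext
        change _ = (F.map f).val.comp (proj F j)
        rw [proj_w]
        rfl }

/-- the induced ring hom into the limit -/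
noncomputable def liftRing (s : Cone F) : s.pt →+* (R F) :=
  (limit.lift (G F) ((forget₂ TopCommRingCat CommRingCat).mapCone s)).hom

theorem proj_liftRing (s : Cone F) (j : J) : (proj F j).comp (liftRing F s) = (s.π.app j).val := by
  have := limit.lift_π ((forget₂ TopCommRingCat CommRingCat).mapCone s) j
  exact congrArg CommRingCat.Hom.hom this

theorem liftRing_continuous (s : Cone F) :
    @Continuous _ _ s.pt.isTopologicalSpace (limTop F) (liftRing F s) := by
  refine continuous_iInf_rng.2 (fun j => continuous_induced_rng.2 ?_)
  have : (proj F j) ∘ (liftRing F s) = (s.π.app j).val := by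
    rw [← proj_liftRing]
    rfl
  rw [this]
  exact (s.π.app j).2

noncomputable def liftHom (s : Cone F) : s.pt ⟶ limPt F :=
  ⟨liftRing F s, liftRing_continuous F s⟩

noncomputable def isLimitLimCone : IsLimit (limCone F) where
  lift s := liftHom F s
  fac s j := by
    apply Subtype.ext
    exact proj_liftRing F s j
  uniq s m hm := by
    apply Subtype.ext
    change m.val = liftRing F s
    let m' : (forget₂ TopCommRingCat CommRingCat).obj s.pt ⟶ limit (G F) :=
      CommRingCat.ofHom m.val
    have : m' = limit.lift (G F) ((forget₂ TopCommRingCat CommRingCat).mapCone s) := by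
      apply limit.hom_ext
      intro j
      rw [limit.lift_π]
      apply CommRingCat.hom_ext
      exact congrArg Subtype.val (hm j)
    exact congrArg CommRingCat.Hom.hom this

theorem limCone_top_eq :
    ((forget₂ TopCommRingCat TopCat).mapCone (limCone F)).pt.str =
      ⨅ j, ((F ⋙ forget₂ TopCommRingCat TopCat).obj j).str.induced
        (((forget₂ TopCommRingCat TopCat).mapCone (limCone F)).π.app j) := rfl

end Construction


/-- The category of topological rings (commutative, with continuous ring homomorphisms) has limits, and
limits commute with the forgetful functors to topological spaces and to rings. -/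
theorem result :
    HasLimits TopCommRingCat.{u} ∧
    PreservesLimits (forget₂ TopCommRingCat.{u} TopCat.{u}) ∧
    PreservesLimits (forget₂ TopCommRingCat.{u} CommRingCat.{u}) := by
  refine ⟨⟨fun J _ => ⟨fun F => HasLimit.mk ⟨limCone F, isLimitLimCone F⟩⟩⟩,
    ⟨fun {J} _ => ⟨fun {F} => ?_⟩⟩, ⟨fun {J} _ => ⟨fun {F} => ?_⟩⟩⟩
  · refine preservesLimit_of_preserves_limit_cone (isLimitLimCone F) ?_
    have hc : IsLimit ((forget TopCat).mapCone
        ((forget₂ TopCommRingCat TopCat).mapCone (limCone F))) :=
      isLimitOfPreserves (forget CommRingCat) (limit.isLimit (G F))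
    exact ((TopCat.nonempty_isLimit_iff_eq_induced _ hc).2 (limCone_top_eq F)).some
  · refine preservesLimit_of_preserves_limit_cone (isLimitLimCone F) ?_
    refine IsLimit.ofIsoLimit (limit.isLimit (G F)) (Cone.ext (Iso.refl _) ?_)
    intro j
    rfl

end Groth.Agent.S7557
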