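import Groth.Statements.S7558
import Mathlib
-- import your own Groth.Agent.* helpers here

set_option autoImplicit false
universe u
open CategoryTheory CategoryTheory.Limits
open PtTop

namespace Groth.Agent.S7558

section Construction

variable {J : Type u} [Category.{u} J] (F : J ⥤ TopCommRingCat.{u})

/-- underlying diagram of rings -/
noncomputable abbrev G : J ⥤ CommRingCat.{u} := F ⋙ forget₂ TopCommRingCat CommRingCat

/-- the colimit ring -/
noncomputable abbrev R : CommRingCat.{u} := colimit (G F)

/-- the coprojections as ring homs -/
noncomputable def inj (j : J) : (F.obj j) →+* (R F) := (colimit.ι (G F) j).hom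

/-- ring topologies making all coprojections continuous -/
def goodTops : Set (TopologicalSpace (R F)) :=
  {t | @IsTopologicalRing (R F) t _ ∧
    ∀ j, @Continuous _ _ (F.obj j).isTopologicalSpace t (inj F j)}

noncomputable def colimTop : TopologicalSpace (R F) := sInf (goodTops F)

theorem colimTop_ring : @IsTopologicalRing (R F) (colimTop F) _ := by
  have h1 : @ContinuousAdd (R F) (sInf (goodTops F)) _ :=
    continuousAdd_sInf (fun t ht => @IsTopologicalSemiring.toContinuousAdd _ t _
      (@IsTopologicalRing.toIsTopologicalSemiring _ t _ ht.1))
  have h2 : @ContinuousMul (R F) (sInf (goodTops F)) _ :=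
    continuousMul_sInf (fun t ht => @IsTopologicalSemiring.toContinuousMul _ t _
      (@IsTopologicalRing.toIsTopologicalSemiring _ t _ ht.1))
  have h3 : @ContinuousNeg (R F) (sInf (goodTops F)) _ :=
    continuousNeg_sInf (fun t ht => @IsTopologicalRing.toContinuousNeg _ t _ ht.1)
  exact @IsTopologicalRing.mk _ (colimTop F) _ (@IsTopologicalSemiring.mk _ (colimTop F) _ h1 h2) h3

theorem inj_continuous (j : J) :
    @Continuous _ _ (F.obj j).isTopologicalSpace (colimTop F) (inj F j) :=
  continuous_sInf_rng.2 (fun t ht => ht.2 j)

noncomputable def colimPt : TopCommRingCat.{u} :=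
  @TopCommRingCat.of (R F) _ (colimTop F) (colimTop_ring F)

noncomputable def injHom (j : J) : F.obj j ⟶ colimPt F :=
  ⟨inj F j, inj_continuous F j⟩

theorem inj_w {j j' : J} (f : j ⟶ j') : (inj F j').comp (F.map f).val = inj F j := by
  have := colimit.w (G F) f
  exact congrArg CommRingCat.Hom.hom this

noncomputable def colimCocone : Cocone F where
  pt := colimPt F
  ι :=
    { app := fun j => injHom F j
      naturality := by
        intro j j' f
        apply Subtype.ext
        change (inj F j').comp (F.map f).val = _
        rw [inj_w]
        rfl }

/-- the induced ring hom out of the colimit -/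
noncomputable def descRing (s : Cocone F) : (R F) →+* s.pt :=
  (colimit.desc (G F) ((forget₂ TopCommRingCat CommRingCat).mapCocone s)).hom

theorem descRing_inj (s : Cocone F) (j : J) : (descRing F s).comp (inj F j) = (s.ι.app j).val := by
  have := colimit.ι_desc ((forget₂ TopCommRingCat CommRingCat).mapCocone s) j
  exact congrArg CommRingCat.Hom.hom this

theorem descRing_continuous (s : Cocone F) :
    @Continuous _ _ (colimTop F) s.pt.isTopologicalSpace (descRing F s) := by
  refine continuous_sInf_dom (t := TopologicalSpace.induced (descRing F s) s.pt.isTopologicalSpace)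
    ?_ continuous_induced_dom
  refine ⟨?_, ?_⟩
  · letI := TopologicalSpace.induced (descRing F s) s.pt.isTopologicalSpace
    have hind : Topology.IsInducing (descRing F s) := ⟨rfl⟩
    have h1 : ContinuousAdd (R F) := hind.continuousAdd (descRing F s)
    have h2 : ContinuousMul (R F) := hind.continuousMul (descRing F s)
    have h3 : ContinuousNeg (R F) := by
      refine ⟨hind.continuous_iff.2 ?_⟩
      have : (descRing F s) ∘ (fun x : R F => -x) = (fun y => -y) ∘ (descRing F s) := by
        funext x
        simp
      rw [this]
      exact continuous_neg.comp hind.continuous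
    exact @IsTopologicalRing.mk _ _ _ (@IsTopologicalSemiring.mk _ _ _ h1 h2) h3
  · intro j
    refine continuous_induced_rng.2 ?_
    have : (descRing F s) ∘ (inj F j) = (s.ι.app j).val := by
      rw [← descRing_inj]
      rfl
    rw [this]
    exact (s.ι.app j).2

noncomputable def descHom (s : Cocone F) : colimPt F ⟶ s.pt :=
  ⟨descRing F s, descRing_continuous F s⟩

noncomputable def isColimitColimCocone : IsColimit (colimCocone F) where
  desc s := descHom F s
  fac s j := by
    apply Subtype.ext
    exact descRing_inj F s j
  uniq s m hm := by
    apply Subtype.ext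
    change m.val = descRing F s
    let m' : colimit (G F) ⟶ (forget₂ TopCommRingCat CommRingCat).obj s.pt :=
      CommRingCat.ofHom m.val
    have : m' = colimit.desc (G F) ((forget₂ TopCommRingCat CommRingCat).mapCocone s) := by
      apply colimit.hom_ext
      intro j
      rw [colimit.ι_desc]
      apply CommRingCat.hom_ext
      exact congrArg Subtype.val (hm j)
    exact congrArg CommRingCat.Hom.hom this

end Construction


/-- The category of topological rings (commutative, with continuous ring homomorphisms) has colimits,
and colimits commute with the forgetful functor to rings. -/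
theorem result :
    HasColimits TopCommRingCat.{u} ∧
    PreservesColimits (forget₂ TopCommRingCat.{u} CommRingCat.{u}) := by
  refine ⟨⟨fun J _ => ⟨fun F => HasColimit.mk ⟨colimCocone F, isColimitColimCocone F⟩⟩⟩,
    ⟨fun {J} _ => ⟨fun {F} => ?_⟩⟩⟩
  refine preservesColimit_of_preserves_colimit_cocone (isColimitColimCocone F) ?_
  refine IsColimit.ofIsoColimit (colimit.isColimit (G F)) (Cocone.ext (Iso.refl _) ?_)
  intro j
  rfl

end Groth.Agent.S7558
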