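import Groth.Statements.S7559
import Groth.Agent.Lib.Helper7.Strat
-- import your own Groth.Agent.* helpers here

set_option autoImplicit false
universe u
open PtTop

namespace Groth.Agent.S7559

/-- Let X be a topological space and X = ∐ P_k a finite partition into locally closed parts. Then there
is a finite stratification of X refining it: a finite partially ordered index set I and pairwise
disjoint locally closed strata S_i covering X with closure(S_j) ⊆ ⋃_{i ≤ j} S_i, such that every
part P_k is a union of strata. -/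
theorem result {X : Type u} [TopologicalSpace X]
    {n : ℕ} (P : Fin n → Set X) (hP : ∀ k, IsLocallyClosed (P k)) (hcov : ⋃ k, P k = Set.univ)
    (hdisj : ∀ k k', k ≠ k' → Disjoint (P k) (P k')) :
    ∃ (I : Type) (_ : Fintype I) (_ : PartialOrder I) (S : I → Set X),
      (∀ i, IsLocallyClosed (S i)) ∧ (⋃ i, S i = Set.univ) ∧ (∀ i j, i ≠ j → Disjoint (S i) (S j)) ∧
      (∀ j, closure (S j) ⊆ ⋃ i ∈ Set.Iic j, S i) ∧
      (∀ i k, (S i ∩ P k).Nonempty → S i ⊆ P k) := by
  classical
  let C : Fin n ⊕ Fin n → Set X := fun l =>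
    Sum.elim (fun k => closure (P k)) (fun k => closure (P k) \ P k) l
  have hC : ∀ l, IsClosed (C l) := by
    rintro (k | k)
    · exact isClosed_closure
    · have := (hP k).isOpen_coborder
      have h2 : closure (P k) \ P k = (coborder (P k))ᶜ := by
        rw [coborder, compl_compl]
      show IsClosed (closure (P k) \ P k)
      rw [h2]
      exact this.isClosed_compl
  refine ⟨(Finset (Fin n ⊕ Fin n))ᵒᵈ, inferInstance, inferInstance,
    Groth.Agent.Helper7.atom C, Groth.Agent.Helper7.atom_isLocallyClosed C hC,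
    Groth.Agent.Helper7.iUnion_atom C, Groth.Agent.Helper7.atom_disjoint C,
    Groth.Agent.Helper7.closure_atom_subset C hC, ?_⟩
  rintro A k ⟨x, hxA, hxP⟩ y hyA
  have h1 : Sum.inl k ∈ OrderDual.ofDual A := (hxA (Sum.inl k)).2 (subset_closure hxP)
  have h2 : Sum.inr k ∉ OrderDual.ofDual A := fun h => ((hxA (Sum.inr k)).1 h).2 hxP
  have h3 : y ∈ closure (P k) := (hyA (Sum.inl k)).1 h1
  by_contra hy
  exact h2 ((hyA (Sum.inr k)).2 ⟨h3, hy⟩)

end Groth.Agent.S7559
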