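import Groth.Statements.S7560
import Groth.Agent.Lib.Helper7.Strat
-- import your own Groth.Agent.* helpers here

set_option autoImplicit false
universe u
open ConstrTop

namespace Groth.Agent.S7560

open Topology in
theorem exists_saturating_family {X : Type u} [TopologicalSpace X] {s : Set X}
    (hs : IsConstructible s) :
    ∃ 𝒰 : Set (Set X), 𝒰.Finite ∧ (∀ U ∈ 𝒰, IsOpen U ∧ IsRetrocompact U) ∧
      ∀ x y : X, (∀ U ∈ 𝒰, x ∈ U ↔ y ∈ U) → (x ∈ s ↔ y ∈ s) := by
  induction hs using IsConstructible.empty_union_induction with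
  | open_retrocompact U hUo hUc =>
    exact ⟨{U}, Set.finite_singleton U, fun V hV => by rw [Set.mem_singleton_iff.1 hV]; exact ⟨hUo, hUc⟩,
      fun x y h => h U rfl⟩
  | union s hs t ht ihs iht =>
    obtain ⟨𝒰, h𝒰f, h𝒰, h𝒰s⟩ := ihs
    obtain ⟨𝒱, h𝒱f, h𝒱, h𝒱s⟩ := iht
    refine ⟨𝒰 ∪ 𝒱, h𝒰f.union h𝒱f, ?_, ?_⟩
    · rintro U (hU | hU)
      · exact h𝒰 U hU
      · exact h𝒱 U hU
    · intro x y h
      have h1 := h𝒰s x y (fun U hU => h U (Or.inl hU))
      have h2 := h𝒱s x y (fun U hU => h U (Or.inr hU))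
      simp only [Set.mem_union, h1, h2]
  | compl s hs ihs =>
    obtain ⟨𝒰, h𝒰f, h𝒰, h𝒰s⟩ := ihs
    refine ⟨𝒰, h𝒰f, h𝒰, ?_⟩
    intro x y h
    simp only [Set.mem_compl_iff, h𝒰s x y h]


/-- Let X be a topological space written as a finite union X = T_1 ∪ … ∪ T_n of constructible subsets.
Then there is a finite stratification X = ∐ S_i (pairwise disjoint locally closed strata indexed by
a finite partially ordered set, with closure(S_j) ⊆ ⋃_{i ≤ j} S_i) whose strata are constructible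
and such that every T_k is a union of strata. -/
theorem result {X : Type u} [TopologicalSpace X]
    {n : ℕ} (T : Fin n → Set X) (hT : ∀ k, Topology.IsConstructible (T k)) (hcov : ⋃ k, T k = Set.univ) :
    ∃ (I : Type) (_ : Fintype I) (_ : PartialOrder I) (S : I → Set X),
      (∀ i, IsLocallyClosed (S i) ∧ Topology.IsConstructible (S i)) ∧ (⋃ i, S i = Set.univ) ∧
      (∀ i j, i ≠ j → Disjoint (S i) (S j)) ∧
      (∀ j, closure (S j) ⊆ ⋃ i ∈ Set.Iic j, S i) ∧
      (∀ i k, (S i ∩ T k).Nonempty → S i ⊆ T k) := by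
  classical
  choose 𝒰 h𝒰f h𝒰 h𝒰s using fun k => exists_saturating_family (hT k)
  have hfin : (⋃ k, 𝒰 k).Finite := Set.finite_iUnion h𝒰f
  let 𝒲 : Finset (Set X) := hfin.toFinset
  let e : Fin 𝒲.card ≃ 𝒲 := 𝒲.equivFin.symm
  let C : Fin 𝒲.card → Set X := fun l => ((e l).1)ᶜ
  have hmem : ∀ l, ∃ k, (e l).1 ∈ 𝒰 k := by
    intro l
    have := (e l).2
    rw [Set.Finite.mem_toFinset] at this
    exact Set.mem_iUnion.1 this
  have hCcl : ∀ l, IsClosed (C l) := by
    intro l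
    obtain ⟨k, hk⟩ := hmem l
    exact (h𝒰 k _ hk).1.isClosed_compl
  have hCcon : ∀ l, Topology.IsConstructible (C l) := by
    intro l
    obtain ⟨k, hk⟩ := hmem l
    exact ((h𝒰 k _ hk).2.isConstructible (h𝒰 k _ hk).1).compl
  refine ⟨(Finset (Fin 𝒲.card))ᵒᵈ, inferInstance, inferInstance,
    Groth.Agent.Helper7.atom C, ?_,
    Groth.Agent.Helper7.iUnion_atom C, Groth.Agent.Helper7.atom_disjoint C,
    Groth.Agent.Helper7.closure_atom_subset C hCcl, ?_⟩
  · intro A
    refine ⟨Groth.Agent.Helper7.atom_isLocallyClosed C hCcl A, ?_⟩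
    rw [Groth.Agent.Helper7.atom_eq]
    refine Topology.IsConstructible.inter ?_ ?_
    · exact (Topology.IsConstructible.biUnion (Finset.finite_toSet _) (fun l _ => hCcon l)).compl
    · exact Topology.IsConstructible.biInter (Finset.finite_toSet _) (fun l _ => hCcon l)
  · rintro A k ⟨x, hxA, hxT⟩ y hyA
    have hxy : ∀ U ∈ 𝒰 k, x ∈ U ↔ y ∈ U := by
      intro U hU
      have hUW : U ∈ 𝒲 := by
        rw [Set.Finite.mem_toFinset]
        exact Set.mem_iUnion.2 ⟨k, hU⟩
      obtain ⟨l, hl⟩ := e.surjective ⟨U, hUW⟩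
      have h1 : x ∈ C l ↔ y ∈ C l := by rw [← hxA l, ← hyA l]
      have hCl : C l = Uᶜ := by
        show ((e l).1)ᶜ = Uᶜ
        rw [hl]
      rw [hCl, Set.mem_compl_iff, Set.mem_compl_iff, not_iff_not] at h1
      exact h1
    exact (h𝒰s k x y hxy).1 hxT

end Groth.Agent.S7560
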