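import Groth.Statements.S7561
import Mathlib
-- import your own Groth.Agent.* helpers here

set_option autoImplicit false
universe u
open PtTop

namespace Groth.Agent.S7561


open TopologicalSpace Topology

section
variable {X : Type u} [TopologicalSpace X]

lemma find_open (Z : Set X) : ∀ L : List (Set X), (∀ p ∈ L, IsLocallyClosed p) →
    ∀ O : Set X, IsOpen O → (Z ∩ O).Nonempty →
    ∃ O' : Set X, IsOpen O' ∧ O' ⊆ O ∧ (Z ∩ O').Nonempty ∧
      ∀ p ∈ L, Z ∩ O' ⊆ p ∨ Disjoint (Z ∩ O') p := by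
  intro L
  induction L with
  | nil =>
    intro _ O hO hne
    exact ⟨O, hO, subset_rfl, hne, by simp⟩
  | cons p L ih =>
    intro hL O hO hne
    obtain ⟨O₁, hO₁, hO₁O, hne₁, hdich⟩ :=
      ih (fun q hq => hL q (List.mem_cons_of_mem _ hq)) O hO hne
    have hp : IsLocallyClosed p := hL p (List.mem_cons.2 (Or.inl rfl))
    by_cases hden : Z ∩ O₁ ⊆ closure (Z ∩ O₁ ∩ p)
    · obtain ⟨Op, Fp, hOp, hFp, hpeq⟩ := hp
      have hclF : closure (Z ∩ O₁ ∩ p) ⊆ Fp :=
        closure_minimal (fun x hx => by have := hx.2; rw [hpeq] at this; exact this.2) hFp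
      have hne2 : (Z ∩ O₁ ∩ p).Nonempty := by
        by_contra hemp
        rw [Set.not_nonempty_iff_eq_empty] at hemp
        rw [hemp, closure_empty] at hden
        obtain ⟨x, hx⟩ := hne₁
        exact hden hx
      refine ⟨O₁ ∩ Op, hO₁.inter hOp, fun x hx => hO₁O hx.1, ?_, ?_⟩
      · obtain ⟨x, hx⟩ := hne2
        have hxp : x ∈ Op := by have := hx.2; rw [hpeq] at this; exact this.1
        exact ⟨x, hx.1.1, hx.1.2, hxp⟩
      · intro q hq
        rcases List.mem_cons.1 hq with hqp | hq'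
        · left
          intro x hx
          rw [hqp, hpeq]
          exact ⟨hx.2.2, hclF (hden ⟨hx.1, hx.2.1⟩)⟩
        · have hsub : Z ∩ (O₁ ∩ Op) ⊆ Z ∩ O₁ := fun x hx => ⟨hx.1, hx.2.1⟩
          exact (hdich q hq').imp (fun h => hsub.trans h) (fun h => h.mono_left hsub)
    · refine ⟨O₁ ∩ (closure (Z ∩ O₁ ∩ p))ᶜ, hO₁.inter isClosed_closure.isOpen_compl,
        fun x hx => hO₁O hx.1, ?_, ?_⟩
      · obtain ⟨x, hx, hxn⟩ := Set.not_subset.1 hden
        exact ⟨x, hx.1, hx.2, hxn⟩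
      · intro q hq
        rcases List.mem_cons.1 hq with hqp | hq'
        · right
          rw [Set.disjoint_left, hqp]
          intro x hx hxp
          exact hx.2.2 (subset_closure ⟨⟨hx.1, hx.2.1⟩, hxp⟩)
        · have hsub : Z ∩ (O₁ ∩ (closure (Z ∩ O₁ ∩ p))ᶜ) ⊆ Z ∩ O₁ :=
            fun x hx => ⟨hx.1, hx.2.1⟩
          exact (hdich q hq').imp (fun h => hsub.trans h) (fun h => h.mono_left hsub)

lemma strat [NoetherianSpace X] (Z : Closeds X) :
    ∀ L : List (Set X), (∀ p ∈ L, IsLocallyClosed p) →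
    ∃ 𝒮 : Set (Set X), 𝒮.Finite ∧ (∀ s ∈ 𝒮, IsLocallyClosed s) ∧ ⋃₀ 𝒮 = (Z : Set X) ∧
      (∀ s ∈ 𝒮, ∀ t ∈ 𝒮, s ≠ t → Disjoint s t) ∧
      (∀ s ∈ 𝒮, ∀ t ∈ 𝒮, (s ∩ closure t).Nonempty → s ⊆ closure t) ∧
      (∀ s ∈ 𝒮, ∀ p ∈ L, (s ∩ p).Nonempty → s ⊆ p) := by
  apply wellFounded_lt.induction Z
  intro Z ih L hL
  by_cases hZ : (Z : Set X) = ∅
  · refine ⟨∅, Set.finite_empty, by simp, by simp [hZ], by simp, by simp, by simp⟩
  · have hne : ((Z : Set X) ∩ Set.univ).Nonempty := by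
      rw [Set.inter_univ]; exact Set.nonempty_iff_ne_empty.2 hZ
    obtain ⟨O', hO', -, hneU, hdich⟩ := find_open (Z : Set X) L hL Set.univ isOpen_univ hne
    obtain ⟨Z', hZ'⟩ : ∃ Z' : Closeds X, (Z' : Set X) = (Z : Set X) ∩ O'ᶜ :=
      ⟨⟨_, Z.isClosed.inter hO'.isClosed_compl⟩, rfl⟩
    have hZ'lt : Z' < Z := by
      rw [SetLike.lt_iff_le_and_exists]
      refine ⟨?_, ?_⟩
      · rw [← SetLike.coe_subset_coe, hZ']; exact Set.inter_subset_left
      · obtain ⟨x, hxZ, hxO⟩ := hneU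
        refine ⟨x, hxZ, fun hx => ?_⟩
        have hx' : x ∈ (Z' : Set X) := hx
        rw [hZ'] at hx'
        exact hx'.2 hxO
    obtain ⟨U, hU⟩ : ∃ U : Set X, U = (Z : Set X) ∩ O' := ⟨_, rfl⟩
    rw [← hU] at hneU hdich
    have hUlc : IsLocallyClosed U := by
      rw [hU]; exact Z.isClosed.isLocallyClosed.inter hO'.isLocallyClosed
    obtain ⟨𝒮, hfin, hlc, hun, hdj, hgood, href⟩ := ih Z' hZ'lt (closure U :: L) (by
      intro p hp
      rcases List.mem_cons.1 hp with h | h
      · rw [h]; exact isClosed_closure.isLocallyClosed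
      · exact hL p h)
    rw [hZ'] at hun
    have hsubZ' : ∀ s ∈ 𝒮, s ⊆ (Z : Set X) ∩ O'ᶜ := by
      intro s hs
      have : s ⊆ ⋃₀ 𝒮 := Set.subset_sUnion_of_mem hs
      rw [hun] at this
      exact this
    have hUdisj : ∀ s ∈ 𝒮, Disjoint U s := by
      intro s hs
      rw [Set.disjoint_left]
      intro x hxU hxs
      rw [hU] at hxU
      exact (hsubZ' s hs hxs).2 hxU.2
    refine ⟨insert U 𝒮, hfin.insert U, ?_, ?_, ?_, ?_, ?_⟩
    · intro s hs
      rcases Set.mem_insert_iff.1 hs with h | h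
      · rw [h]; exact hUlc
      · exact hlc s h
    · rw [Set.sUnion_insert, hun, hU]
      ext x
      simp only [Set.mem_union, Set.mem_inter_iff, Set.mem_compl_iff]
      by_cases hx : x ∈ O' <;> simp [hx]
    · intro s hs t ht hst
      rcases Set.mem_insert_iff.1 hs with h | h <;> rcases Set.mem_insert_iff.1 ht with h' | h'
      · exact absurd (h.trans h'.symm) hst
      · rw [h]; exact hUdisj t h'
      · rw [h']; exact (hUdisj s h).symm
      · exact hdj s h t h' hst
    · intro s hs t ht hne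
      rcases Set.mem_insert_iff.1 hs with h | h <;> rcases Set.mem_insert_iff.1 ht with h' | h'
      · rw [h, h']; exact subset_closure
      · exfalso
        rw [h] at hne
        obtain ⟨x, hxU, hxt⟩ := hne
        have hcl : closure t ⊆ (Z : Set X) ∩ O'ᶜ :=
          closure_minimal (hsubZ' t h') (Z.isClosed.inter hO'.isClosed_compl)
        rw [hU] at hxU
        exact (hcl hxt).2 hxU.2
      · rw [h'] at hne ⊢
        exact href s h (closure U) (List.mem_cons.2 (Or.inl rfl)) hne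
      · exact hgood s h t h' hne
    · intro s hs p hp hne
      rcases Set.mem_insert_iff.1 hs with h | h
      · rw [h] at hne ⊢
        rcases hdich p hp with h1 | h1
        · exact h1
        · obtain ⟨x, hx1, hx2⟩ := hne
          exact absurd hx2 (Set.disjoint_left.1 h1 hx1)
      · exact href s h p (List.mem_cons_of_mem _ hp) hne

end


/-- Let X be a Noetherian topological space and X = ∐ P_k a finite partition into locally closed parts.
Then it is refined by a finite good stratification: a finite partition X = ∐ S_i into locally closed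
strata such that S_i ∩ closure(S_j) ≠ ∅ implies S_i ⊆ closure(S_j), with every P_k a union of
strata. -/
theorem result {X : Type u} [TopologicalSpace X]
    [TopologicalSpace.NoetherianSpace X]
    {n : ℕ} (P : Fin n → Set X) (hP : ∀ k, IsLocallyClosed (P k)) (hcov : ⋃ k, P k = Set.univ)
    (hdisj : ∀ k k', k ≠ k' → Disjoint (P k) (P k')) :
    ∃ (m : ℕ) (S : Fin m → Set X),
      (∀ i, IsLocallyClosed (S i)) ∧ (⋃ i, S i = Set.univ) ∧ (∀ i j, i ≠ j → Disjoint (S i) (S j)) ∧
      (∀ i j, (S i ∩ closure (S j)).Nonempty → S i ⊆ closure (S j)) ∧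
      (∀ i k, (S i ∩ P k).Nonempty → S i ⊆ P k) := by
  obtain ⟨𝒮, hfin, hlc, hun, hdj, hgood, href⟩ := strat (⊤ : Closeds X) (List.ofFn P) (by
    intro p hp
    obtain ⟨k, rfl⟩ := List.mem_ofFn.1 hp
    exact hP k)
  obtain ⟨m, f, hinj, hrange⟩ := hfin.fin_param
  have hmem : ∀ i, f i ∈ 𝒮 := fun i => hrange ▸ Set.mem_range_self i
  refine ⟨m, f, fun i => hlc _ (hmem i), ?_, ?_, ?_, ?_⟩
  · rw [← Set.sUnion_range, hrange, hun, Closeds.coe_top]
  · intro i j hij; exact hdj _ (hmem i) _ (hmem j) (fun h => hij (hinj h))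
  · intro i j h; exact hgood _ (hmem i) _ (hmem j) h
  · intro i k h; exact href _ (hmem i) (P k) (List.mem_ofFn.2 ⟨k, rfl⟩) h

end Groth.Agent.S7561
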