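import Groth.Statements.S7564
-- import your own Groth.Agent.* helpers here

set_option autoImplicit false
universe u
open PtTop

namespace Groth.Agent.S7564

/-- For a continuous surjection f : X → Y, if X has finitely many irreducible components, say n of them,
then Y has at most n irreducible components. -/
theorem result {X Y : Type u} [TopologicalSpace X] [TopologicalSpace Y]
    (f : X → Y) (hf : Continuous f) (hs : Function.Surjective f) (hfin : (irreducibleComponents X).Finite) :
    (irreducibleComponents Y).Finite ∧ (irreducibleComponents Y).ncard ≤ (irreducibleComponents X).ncard := by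
  classical
  set g : Set X → Set Y := fun W => closure (f '' W) with hg
  have hsub : irreducibleComponents Y ⊆ g '' irreducibleComponents X := by
    intro S hS
    obtain ⟨z, hz, hSz⟩ := isIrreducible_iff_sUnion_isClosed.mp hS.1 ((hfin.image g).toFinset)
      (by
        intro z hz
        rw [Set.Finite.mem_toFinset] at hz
        obtain ⟨W, -, rfl⟩ := hz
        exact isClosed_closure)
      (by
        intro y _
        obtain ⟨x, rfl⟩ := hs y
        have : x ∈ ⋃₀ irreducibleComponents X := by rw [sUnion_irreducibleComponents]; trivial
        obtain ⟨W, hW, hxW⟩ := this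
        refine ⟨g W, ?_, subset_closure ⟨x, hxW, rfl⟩⟩
        rw [Set.Finite.coe_toFinset]
        exact ⟨W, hW, rfl⟩)
    rw [Set.Finite.mem_toFinset] at hz
    obtain ⟨W, hW, rfl⟩ := hz
    refine ⟨W, hW, ?_⟩
    have hirr : IsIrreducible (g W) := (hW.1.image f hf.continuousOn).closure
    exact (subset_antisymm (hS.2 hirr hSz) hSz)
  have hfin' : (g '' irreducibleComponents X).Finite := hfin.image g
  refine ⟨hfin'.subset hsub, ?_⟩
  calc (irreducibleComponents Y).ncard ≤ (g '' irreducibleComponents X).ncard :=
        Set.ncard_le_ncard hsub hfin'
    _ ≤ (irreducibleComponents X).ncard := Set.ncard_image_le hfin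

end Groth.Agent.S7564
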