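import Groth.Statements.S7565
import Mathlib
-- import your own Groth.Agent.* helpers here

set_option autoImplicit false
universe u
open PtTop

namespace Groth.Agent.S7565

/-- Let f : X → Y be a continuous open map of topological spaces and assume every point of X has a
Noetherian neighbourhood. Then every point of f(X) (with the induced topology) has a Noetherian
neighbourhood. The published statement also asserts that a continuous image of a Noetherian space is
Noetherian; this row states the part about open maps and locally Noetherian spaces. -/
theorem result {X Y : Type u} [TopologicalSpace X] [TopologicalSpace Y]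
    (f : X → Y) (hf : Continuous f) (hfo : IsOpenMap f)
    (hX : ∀ x : X, ∃ E ∈ nhds x, TopologicalSpace.NoetherianSpace E) :
    ∀ y : Set.range f, ∃ E : Set (Set.range f), E ∈ nhds y ∧ TopologicalSpace.NoetherianSpace E := by
  rintro ⟨_, x, rfl⟩
  obtain ⟨E, hE, hEN⟩ := hX x
  have hEc : ∀ t, t ⊆ E → IsCompact t := (TopologicalSpace.noetherianSpace_set_iff E).mp hEN
  have himg : ∀ t, t ⊆ f '' E → IsCompact t := by
    intro t ht
    have : t = f '' (E ∩ f ⁻¹' t) := by
      ext y
      constructor
      · intro hy
        obtain ⟨z, hz, rfl⟩ := ht hy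
        exact ⟨z, ⟨hz, hy⟩, rfl⟩
      · rintro ⟨z, ⟨-, hz⟩, rfl⟩
        exact hz
    rw [this]
    exact (hEc _ Set.inter_subset_left).image hf
  refine ⟨(Subtype.val : Set.range f → Y) ⁻¹' (f '' E), ?_, ?_⟩
  · exact continuous_subtype_val.continuousAt.preimage_mem_nhds (hfo.image_mem_nhds hE)
  · rw [TopologicalSpace.noetherianSpace_set_iff]
    intro t ht
    rw [Topology.IsEmbedding.subtypeVal.isCompact_iff]
    apply himg
    rintro _ ⟨z, hz, rfl⟩
    exact ht hz

end Groth.Agent.S7565
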