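import Mathlib

set_option autoImplicit false
universe u

namespace Groth.Agent.SpectralCC

/-- In a quasi-compact prespectral quasi-separated space, the intersection of all clopen
neighbourhoods of a point is preconnected. More generally: if `S` is the intersection of a family
of clopen sets which is closed under finite intersections... here the pointed version. -/
theorem isPreconnected_sInter_isClopen {X : Type u} [TopologicalSpace X]
    [CompactSpace X] [PrespectralSpace X] [QuasiSeparatedSpace X] (x : X) :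
    IsPreconnected (⋂₀ {Z : Set X | IsClopen Z ∧ x ∈ Z}) := by
  set S : Set X := ⋂₀ {Z : Set X | IsClopen Z ∧ x ∈ Z} with hS
  have hSclosed : IsClosed S := isClosed_sInter (fun Z hZ => hZ.1.isClosed)
  have hxS : x ∈ S := fun Z hZ => hZ.2
  rw [isPreconnected_iff_subset_of_fully_disjoint_closed hSclosed]
  intro u v hu hv hSuv huv
  set B := S ∩ u with hB
  set C := S ∩ v with hC
  have hBc : IsClosed B := hSclosed.inter hu
  have hCc : IsClosed C := hSclosed.inter hv
  have hBC : Disjoint B C := huv.mono Set.inter_subset_right Set.inter_subset_right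
  have hSBC : S ⊆ B ∪ C := fun y hy => (hSuv hy).imp (fun h => ⟨hy, h⟩) (fun h => ⟨hy, h⟩)
  obtain ⟨U, hUc, hUo, hBU, hUC⟩ := PrespectralSpace.exists_isCompact_and_isOpen_between
    hBc.isCompact hCc.isOpen_compl (fun y hy => Set.disjoint_left.mp hBC hy)
  obtain ⟨V, hVc, hVo, hCV, hVB⟩ := PrespectralSpace.exists_isCompact_and_isOpen_between
    hCc.isCompact hBc.isOpen_compl (fun y hy => Set.disjoint_right.mp hBC hy)
  have hUV : IsCompact (U ∩ V) := QuasiSeparatedSpace.inter_isCompact U V hUo hUc hVo hVc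
  have hcompl : IsCompact (U ∪ V)ᶜ := (hUo.union hVo).isClosed_compl.isCompact
  set K := (U ∩ V) ∪ (U ∪ V)ᶜ with hK
  have hKc : IsCompact K := hUV.union hcompl
  have hKS : K ∩ S = ∅ := by
    rw [Set.eq_empty_iff_forall_notMem]
    rintro y ⟨hyK, hyS⟩
    rcases hSBC hyS with hyB | hyC
    · rcases hyK with ⟨-, hyV⟩ | hyn
      · exact hVB hyV hyB
      · exact hyn (Or.inl (hBU hyB))
    · rcases hyK with ⟨hyU, -⟩ | hyn
      · exact hUC hyU hyC
      · exact hyn (Or.inr (hCV hyC))
  let ι := {Z : Set X // IsClopen Z ∧ x ∈ Z}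
  have hKS' : K ∩ ⋂ i : ι, (i : Set X) = ∅ := by
    convert hKS using 2
    ext y
    simp only [Set.mem_iInter, hS, Set.mem_sInter]
    constructor
    · intro h Z hZ; exact h ⟨Z, hZ⟩
    · intro h i; exact h i.1 i.2
  obtain ⟨F, hF⟩ := hKc.elim_finite_subfamily_closed (fun i : ι => (i : Set X))
    (fun i => i.2.1.isClosed) hKS'
  set Z₀ : Set X := ⋂ i ∈ F, (i : Set X) with hZ₀
  have hZ₀clopen : IsClopen Z₀ := isClopen_biInter_finset (fun i _ => i.2.1)
  have hxZ₀ : x ∈ Z₀ := by
    simp only [hZ₀, Set.mem_iInter]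
    intro i _; exact i.2.2
  have hZ₀K : ∀ y ∈ Z₀, y ∉ K := by
    intro y hy hyK
    have : y ∈ K ∩ Z₀ := ⟨hyK, hy⟩
    rw [hF] at this
    exact this
  -- Z₀ ∩ U is clopen
  have hZ₁ : IsClopen (Z₀ ∩ U) := by
    constructor
    · have : Z₀ ∩ U = Z₀ ∩ Vᶜ := by
        ext y
        constructor
        · rintro ⟨hy, hyU⟩
          exact ⟨hy, fun hyV => hZ₀K y hy (Or.inl ⟨hyU, hyV⟩)⟩
        · rintro ⟨hy, hyV⟩
          refine ⟨hy, ?_⟩
          by_contra hyU
          exact hZ₀K y hy (Or.inr (fun h => h.elim hyU hyV))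
      rw [this]
      exact hZ₀clopen.isClosed.inter hVo.isClosed_compl
    · exact hZ₀clopen.isOpen.inter hUo
  have hZ₂ : IsClopen (Z₀ ∩ V) := by
    constructor
    · have : Z₀ ∩ V = Z₀ ∩ Uᶜ := by
        ext y
        constructor
        · rintro ⟨hy, hyV⟩
          exact ⟨hy, fun hyU => hZ₀K y hy (Or.inl ⟨hyU, hyV⟩)⟩
        · rintro ⟨hy, hyU⟩
          refine ⟨hy, ?_⟩
          by_contra hyV
          exact hZ₀K y hy (Or.inr (fun h => h.elim hyU hyV))
      rw [this]
      exact hZ₀clopen.isClosed.inter hUo.isClosed_compl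
    · exact hZ₀clopen.isOpen.inter hVo
  rcases hSBC hxS with hxB | hxC
  · left
    have hSU : S ⊆ Z₀ ∩ U := fun y hy => hy (Z₀ ∩ U) ⟨hZ₁, hxZ₀, hBU hxB⟩
    intro y hy
    rcases hSBC hy with h | h
    · exact h.2
    · exact absurd h (hUC (hSU hy).2)
  · right
    have hSV : S ⊆ Z₀ ∩ V := fun y hy => hy (Z₀ ∩ V) ⟨hZ₂, hxZ₀, hCV hxC⟩
    intro y hy
    rcases hSBC hy with h | h
    · exact absurd h (hVB (hSV hy).2)
    · exact h.2

theorem connectedComponent_eq_sInter_isClopen {X : Type u} [TopologicalSpace X]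
    [CompactSpace X] [PrespectralSpace X] [QuasiSeparatedSpace X] (x : X) :
    connectedComponent x = ⋂₀ {Z : Set X | IsClopen Z ∧ x ∈ Z} := by
  apply subset_antisymm
  · intro y hy Z hZ
    exact hZ.1.connectedComponent_subset hZ.2 hy
  · exact (isPreconnected_sInter_isClopen x).subset_connectedComponent (fun Z hZ => hZ.2)

end Groth.Agent.SpectralCC
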