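import Groth.Statements.S7567
import Groth.Agent.SpectralCC
-- import your own Groth.Agent.* helpers here

set_option autoImplicit false
universe u
open PtTop

namespace Groth.Agent.S7567

/-- Let X be a quasi-compact topological space whose quasi-compact opens form a basis, any two of them
meeting in a quasi-compact set. For a subset T ⊆ X these two conditions are equivalent: (a) T can be
written as an intersection of clopen subsets of X; (b) T is closed and is a union of connected
components of X. -/
theorem result {X : Type u} [TopologicalSpace X]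
    [CompactSpace X] [PrespectralSpace X] [QuasiSeparatedSpace X] (T : Set X) :
    (∃ S : Set (Set X), (∀ Z ∈ S, IsClopen Z) ∧ T = ⋂₀ S) ↔
      (IsClosed T ∧ ∀ x ∈ T, connectedComponent x ⊆ T) := by
  constructor
  · rintro ⟨S, hS, rfl⟩
    refine ⟨isClosed_sInter (fun Z hZ => (hS Z hZ).isClosed), ?_⟩
    intro x hx y hy Z hZ
    exact (hS Z hZ).connectedComponent_subset (hx Z hZ) hy
  · rintro ⟨hT, hcomp⟩
    refine ⟨{Z | IsClopen Z ∧ T ⊆ Z}, fun Z hZ => hZ.1, ?_⟩
    apply subset_antisymm
    · intro x hx Z hZ
      exact hZ.2 hx
    · intro y hy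
      by_contra hyT
      have hdisj : T ∩ connectedComponent y = ∅ := by
        rw [Set.eq_empty_iff_forall_notMem]
        rintro z ⟨hzT, hzy⟩
        have : connectedComponent z = connectedComponent y :=
          (connectedComponent_eq hzy).symm
        apply hyT
        apply hcomp z hzT
        rw [this]
        exact mem_connectedComponent
      rw [Groth.Agent.SpectralCC.connectedComponent_eq_sInter_isClopen y] at hdisj
      let ι := {Z : Set X // IsClopen Z ∧ y ∈ Z}
      have hdisj' : T ∩ ⋂ i : ι, (i : Set X) = ∅ := by
        convert hdisj using 2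
        ext w
        simp only [Set.mem_iInter, Set.mem_sInter]
        constructor
        · intro h Z hZ; exact h ⟨Z, hZ⟩
        · intro h i; exact h i.1 i.2
      obtain ⟨F, hF⟩ := hT.isCompact.elim_finite_subfamily_closed (fun i : ι => (i : Set X))
        (fun i => i.2.1.isClosed) hdisj'
      set Z₀ : Set X := ⋂ i ∈ F, (i : Set X) with hZ₀
      have hZ₀clopen : IsClopen Z₀ := isClopen_biInter_finset (fun i _ => i.2.1)
      have hyZ₀ : y ∈ Z₀ := by
        simp only [hZ₀, Set.mem_iInter]
        intro i _; exact i.2.2
      have : y ∈ Z₀ᶜ := by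
        apply hy Z₀ᶜ
        refine ⟨hZ₀clopen.compl, ?_⟩
        intro w hw hwZ
        have : w ∈ T ∩ Z₀ := ⟨hw, hwZ⟩
        rw [hF] at this
        exact this
      exact this hyZ₀

end Groth.Agent.S7567
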