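import Groth.Statements.S7568
import Mathlib
-- import your own Groth.Agent.* helpers here

set_option autoImplicit false
universe u
open PtTop

namespace Groth.Agent.S7568

/-- Let X be a Hausdorff quasi-compact space, X = ⋃ U_i an open covering, p ≥ 0 an integer, and for
every (p+1)-tuple (i_0, …, i_p) an open covering of U_{i_0} ∩ … ∩ U_{i_p} by opens W_{i_0…i_p,k}.
Then there are an open covering X = ⋃_{j ∈ J} V_j and a map α : J → I with closure(V_j) ⊆ U_{α(j)}
such that each V_{j_0} ∩ … ∩ V_{j_p} is contained in W_{α(j_0)…α(j_p),k} for some k. The published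
statement allows a covering of an empty intersection to have no members; this row requires every
covering W_{i_0…i_p} to have at least one member (possibly empty), without which the conclusion
fails. -/
theorem result {X : Type u} [TopologicalSpace X] [CompactSpace X] [T2Space X]
    {ι : Type u} (U : ι → Set X) (hU : ∀ i, IsOpen (U i)) (hcov : ⋃ i, U i = Set.univ) (p : ℕ)
    (W : (Fin (p + 1) → ι) → Set (Set X)) (hWo : ∀ t, ∀ w ∈ W t, IsOpen w)
    (hWc : ∀ t, ⋃₀ W t = ⋂ l, U (t l)) (hWne : ∀ t, (W t).Nonempty) :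
    ∃ (J : Type u) (V : J → Set X) (α : J → ι), (∀ j, IsOpen (V j)) ∧ (⋃ j, V j = Set.univ) ∧
      (∀ j, closure (V j) ⊆ U (α j)) ∧
      (∀ t : Fin (p + 1) → J, ∃ w ∈ W (α ∘ t), (⋂ l, V (t l)) ⊆ w) := by
  classical
  -- finite subcover
  obtain ⟨I₀, hI₀⟩ := isCompact_univ.elim_finite_subcover U hU (by rw [hcov])
  set U' : ι → Set X := fun i => if i ∈ I₀ then U i else ∅ with hU'def
  have hU'o : ∀ i, IsOpen (U' i) := by
    intro i
    simp only [hU'def]
    split_ifs
    · exact hU i
    · exact isOpen_empty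
  have hU'U : ∀ i, U' i ⊆ U i := by
    intro i
    simp only [hU'def]
    split_ifs
    · exact subset_rfl
    · exact Set.empty_subset _
  have hU'I : ∀ i x, x ∈ U' i → i ∈ I₀ := by
    intro i x hx
    simp only [hU'def] at hx
    split_ifs at hx with h
    · exact h
    · exact hx.elim
  have hU'fin : ∀ x, {i | x ∈ U' i}.Finite := by
    intro x
    refine (I₀.finite_toSet).subset ?_
    intro i hi
    exact hU'I i x hi
  have hU'cov : ⋃ i, U' i = Set.univ := by
    rw [Set.eq_univ_iff_forall]
    intro x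
    have := hI₀ (Set.mem_univ x)
    simp only [Set.mem_iUnion] at this
    obtain ⟨i, hi, hx⟩ := this
    simp only [Set.mem_iUnion]
    refine ⟨i, ?_⟩
    simp only [hU'def, if_pos hi]
    exact hx
  obtain ⟨O', hO'cov, hO'o, hO'U⟩ := exists_iUnion_eq_closure_subset hU'o hU'fin hU'cov
  have hO'fin : ∀ x, {i | x ∈ O' i}.Finite := by
    intro x
    refine (hU'fin x).subset ?_
    intro i hi
    exact hO'U i (subset_closure hi)
  obtain ⟨O, hOcov, hOo, hOO'⟩ := exists_iUnion_eq_closure_subset hO'o hO'fin hO'cov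
  -- index choice
  have hα : ∀ x : X, ∃ i, x ∈ closure (O i) := by
    intro x
    have : x ∈ ⋃ i, O i := by rw [hOcov]; trivial
    obtain ⟨i, hi⟩ := Set.mem_iUnion.1 this
    exact ⟨i, subset_closure hi⟩
  choose α hα using hα
  have hαI : ∀ x, α x ∈ I₀ := fun x =>
    hU'I _ x (hO'U _ (subset_closure (hOO' _ (hα x))))
  -- choice of w
  have hw : ∀ (x : X) (t : Fin (p + 1) → ι), x ∈ ⋂ l, U (t l) → ∃ w : Set X, w ∈ W t ∧ x ∈ w := by
    intro x t hx
    rw [← hWc t] at hx
    obtain ⟨w, hw, hxw⟩ := hx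
    exact ⟨w, hw, hxw⟩
  choose! w hwW hxw using hw
  set T₀ : Finset (Fin (p + 1) → ι) := Fintype.piFinset (fun _ => I₀) with hT₀
  set N : X → Set X := fun x =>
    ((⋂ i ∈ I₀.filter (fun i => x ∉ closure (O' i)), (closure (O' i))ᶜ) ∩
      (⋂ i ∈ I₀.filter (fun i => x ∈ closure (O i)), O' i)) ∩
      (⋂ t ∈ T₀.filter (fun t => x ∈ ⋂ l, U (t l)), w x t) with hN
  have hNo : ∀ x, IsOpen (N x) := by
    intro x
    refine ((isOpen_biInter_finset (fun i _ => isClosed_closure.isOpen_compl)).inter
      (isOpen_biInter_finset (fun i _ => hO'o i))).inter (isOpen_biInter_finset (fun t ht => ?_))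
    rw [Finset.mem_filter] at ht
    exact hWo t _ (hwW x t (by simpa using ht.2))
  have hxN : ∀ x, x ∈ N x := by
    intro x
    refine ⟨⟨?_, ?_⟩, ?_⟩
    · simp only [Set.mem_iInter]
      intro i hi
      rw [Finset.mem_filter] at hi
      exact hi.2
    · simp only [Set.mem_iInter]
      intro i hi
      rw [Finset.mem_filter] at hi
      exact hOO' i hi.2
    · simp only [Set.mem_iInter]
      intro t ht
      rw [Finset.mem_filter] at ht
      exact hxw x t (by simpa using ht.2)
  obtain ⟨F, -, hFcov⟩ := isCompact_univ.elim_nhds_subcover N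
    (fun x _ => (hNo x).mem_nhds (hxN x))
  have hNO' : ∀ x, N x ⊆ O' (α x) := by
    intro x y hy
    have := hy.1.2
    simp only [Set.mem_iInter] at this
    exact this (α x) (Finset.mem_filter.2 ⟨hαI x, hα x⟩)
  refine ⟨{x // x ∈ F}, fun j => N j.1, fun j => α j.1, fun j => hNo j.1, ?_, ?_, ?_⟩
  · rw [Set.eq_univ_iff_forall]
    intro y
    have := hFcov (Set.mem_univ y)
    simp only [Set.mem_iUnion] at this
    obtain ⟨x, hx, hyx⟩ := this
    exact Set.mem_iUnion.2 ⟨⟨x, hx⟩, hyx⟩
  · intro j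
    calc closure (N j.1) ⊆ closure (O' (α j.1)) := closure_mono (hNO' j.1)
      _ ⊆ U' (α j.1) := hO'U _
      _ ⊆ U (α j.1) := hU'U _
  · intro t
    by_cases hne : (⋂ l, N (t l).1).Nonempty
    · obtain ⟨y, hy⟩ := hne
      simp only [Set.mem_iInter] at hy
      set x₀ : X := (t 0).1 with hx₀
      have hx₀U : x₀ ∈ ⋂ l, U (((fun j : {x // x ∈ F} => α j.1) ∘ t) l) := by
        simp only [Set.mem_iInter, Function.comp]
        intro l
        have hyO' : y ∈ closure (O' (α (t l).1)) := subset_closure (hNO' _ (hy l))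
        have hx₀cl : x₀ ∈ closure (O' (α (t l).1)) := by
          by_contra hcon
          have := (hy 0).1.1
          simp only [Set.mem_iInter] at this
          exact this (α (t l).1) (Finset.mem_filter.2 ⟨hαI _, hcon⟩) hyO'
        exact hU'U _ (hO'U _ hx₀cl)
      have htT : ((fun j : {x // x ∈ F} => α j.1) ∘ t) ∈ T₀ := by
        rw [hT₀, Fintype.mem_piFinset]
        intro l
        exact hαI _
      refine ⟨w x₀ ((fun j : {x // x ∈ F} => α j.1) ∘ t), hwW _ _ hx₀U, ?_⟩
      intro z hz
      simp only [Set.mem_iInter] at hz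
      have := (hz 0).2
      simp only [Set.mem_iInter] at this
      exact this _ (Finset.mem_filter.2 ⟨htT, Set.mem_iInter.1 hx₀U⟩)
    · obtain ⟨w₀, hw₀⟩ := hWne ((fun j : {x // x ∈ F} => α j.1) ∘ t)
      refine ⟨w₀, hw₀, ?_⟩
      rw [Set.not_nonempty_iff_eq_empty] at hne
      rw [hne]
      exact Set.empty_subset _

end Groth.Agent.S7568
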