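import Groth.Statements.S7569
import Mathlib
-- import your own Groth.Agent.* helpers here

set_option autoImplicit false
universe u
open PtTop

namespace Groth.Agent.S7569

/-- Let X be a Hausdorff, locally quasi-compact space and Z ⊆ X a quasi-compact subset. Let p ≥ 0, let
U_i ⊆ X be opens with Z ⊆ ⋃ U_i, and for every (p+1)-tuple (i_0, …, i_p) let W_{i_0…i_p} ⊆ U_{i_0} ∩
… ∩ U_{i_p} be an open with W_{i_0…i_p} ∩ Z = U_{i_0} ∩ … ∩ U_{i_p} ∩ Z. Then there are opens V_i ⊆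
X with Z ⊆ ⋃ V_i, closure(V_i) ⊆ U_i for all i, and V_{i_0} ∩ … ∩ V_{i_p} ⊆ W_{i_0…i_p} for all
(p+1)-tuples. -/
theorem result {X : Type u} [TopologicalSpace X]
    [T2Space X] [LocallyCompactSpace X] (Z : Set X) (hZ : IsCompact Z)
    {ι : Type u} (U : ι → Set X) (hU : ∀ i, IsOpen (U i)) (hcov : Z ⊆ ⋃ i, U i) (p : ℕ)
    (W : (Fin (p + 1) → ι) → Set X) (hWo : ∀ t, IsOpen (W t)) (hWU : ∀ t, W t ⊆ ⋂ l, U (t l))
    (hWZ : ∀ t, W t ∩ Z = (⋂ l, U (t l)) ∩ Z) :
    ∃ V : ι → Set X, (∀ i, IsOpen (V i)) ∧ (Z ⊆ ⋃ i, V i) ∧ (∀ i, closure (V i) ⊆ U i) ∧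
      (∀ t : Fin (p + 1) → ι, (⋂ l, V (t l)) ⊆ W t) := by
  classical
  rcases isEmpty_or_nonempty ι with hι | hι
  · refine ⟨fun i => isEmptyElim i, fun i => isEmptyElim i, ?_, fun i => isEmptyElim i,
      fun t => isEmptyElim (t 0)⟩
    intro z hz
    obtain ⟨i, -⟩ := Set.mem_iUnion.1 (hcov hz)
    exact isEmptyElim i
  have hex : ∀ z : X, z ∈ Z → ∃ (i : ι) (K : Set X), K ∈ nhds z ∧ K ⊆ U i ∧ IsCompact K := by
    intro z hz
    obtain ⟨i, hi⟩ := Set.mem_iUnion.1 (hcov hz)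
    obtain ⟨K, hK, hKU, hKc⟩ := local_compact_nhds ((hU i).mem_nhds hi)
    exact ⟨i, K, hK, hKU, hKc⟩
  choose! idx K hKn hKU hKc using hex
  obtain ⟨F, hFZ, hFcov⟩ := hZ.elim_nhds_subcover (fun z => interior (K z))
    (fun z hz => interior_mem_nhds.2 (hKn z hz))
  set Kc : ι → Set X := fun i => ⋃ z ∈ F.filter (fun z => idx z = i), K z with hKcdef
  set A : ι → Set X := fun i => ⋃ z ∈ F.filter (fun z => idx z = i), interior (K z) with hAdef
  have hKcc : ∀ i, IsCompact (Kc i) := fun i =>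
    Finset.isCompact_biUnion _ (fun z hz => hKc z (hFZ z (Finset.mem_filter.1 hz).1))
  have hKcU : ∀ i, Kc i ⊆ U i := by
    intro i x hx
    simp only [hKcdef, Set.mem_iUnion] at hx
    obtain ⟨z, hz, hxz⟩ := hx
    rw [Finset.mem_filter] at hz
    exact hz.2 ▸ hKU z (hFZ z hz.1) hxz
  have hAo : ∀ i, IsOpen (A i) := fun i =>
    isOpen_biUnion (fun z _ => isOpen_interior)
  have hAK : ∀ i, A i ⊆ Kc i := by
    intro i x hx
    simp only [hAdef, Set.mem_iUnion] at hx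
    obtain ⟨z, hz, hxz⟩ := hx
    simp only [hKcdef, Set.mem_iUnion]
    exact ⟨z, hz, interior_subset hxz⟩
  have hAne : ∀ i x, x ∈ A i → i ∈ F.image idx := by
    intro i x hx
    simp only [hAdef, Set.mem_iUnion] at hx
    obtain ⟨z, hz, -⟩ := hx
    rw [Finset.mem_filter] at hz
    exact Finset.mem_image.2 ⟨z, hz.1, hz.2⟩
  set T₀ : Finset (Fin (p + 1) → ι) := Fintype.piFinset (fun _ => F.image idx) with hT₀
  set Kt : (Fin (p + 1) → ι) → Set X := fun t => ⋂ l, Kc (t l) with hKt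
  have hKtc : ∀ t, IsCompact (Kt t) := fun t =>
    (hKcc (t 0)).of_isClosed_subset (isClosed_iInter (fun l => (hKcc (t l)).isClosed))
      (Set.iInter_subset _ 0)
  have hD : ∀ t, IsCompact (Kt t \ W t) := fun t => (hKtc t).diff (hWo t)
  have hdisj : ∀ t, Disjoint Z (Kt t \ W t) := by
    intro t
    rw [Set.disjoint_left]
    rintro x hxZ ⟨hxK, hxW⟩
    apply hxW
    have hxU : x ∈ ⋂ l, U (t l) := by
      simp only [Set.mem_iInter]
      intro l
      exact hKcU (t l) (Set.mem_iInter.1 hxK l)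
    have : x ∈ W t ∩ Z := by rw [hWZ t]; exact ⟨hxU, hxZ⟩
    exact this.1
  have hsep : ∀ t, ∃ N M : Set X, IsOpen N ∧ IsOpen M ∧ Z ⊆ N ∧ (Kt t \ W t) ⊆ M ∧ Disjoint N M :=
    fun t => SeparatedNhds.of_isCompact_isCompact hZ (hD t) (hdisj t)
  choose N M hNo hMo hZN hDM hNM using hsep
  set Ntot : Set X := ⋂ t ∈ T₀, N t with hNtot
  have hNtoto : IsOpen Ntot := isOpen_biInter_finset (fun t _ => hNo t)
  have hZNtot : Z ⊆ Ntot := by
    intro z hz
    simp only [hNtot, Set.mem_iInter]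
    exact fun t _ => hZN t hz
  refine ⟨fun i => A i ∩ Ntot, fun i => (hAo i).inter hNtoto, ?_, ?_, ?_⟩
  · intro z hz
    have := hFcov hz
    simp only [Set.mem_iUnion] at this
    obtain ⟨z', hz', hzz'⟩ := this
    simp only [Set.mem_iUnion]
    refine ⟨idx z', ?_, hZNtot hz⟩
    simp only [hAdef, Set.mem_iUnion]
    exact ⟨z', Finset.mem_filter.2 ⟨hz', rfl⟩, hzz'⟩
  · intro i
    calc closure (A i ∩ Ntot) ⊆ closure (A i) := closure_mono Set.inter_subset_left
      _ ⊆ Kc i := closure_minimal (hAK i) (hKcc i).isClosed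
      _ ⊆ U i := hKcU i
  · intro t x hx
    simp only [Set.mem_iInter] at hx
    have htT : t ∈ T₀ := by
      rw [hT₀, Fintype.mem_piFinset]
      intro l
      exact hAne (t l) x (hx l).1
    have hxK : x ∈ Kt t := by
      simp only [hKt, Set.mem_iInter]
      exact fun l => hAK (t l) (hx l).1
    have hxN : x ∈ N t := by
      have := (hx 0).2
      simp only [hNtot, Set.mem_iInter] at this
      exact this t htT
    by_contra hxW
    exact Set.disjoint_left.1 (hNM t) hxN (hDM t ⟨hxK, hxW⟩)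

end Groth.Agent.S7569
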