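import Groth.Statements.S7570
import Mathlib
-- import your own Groth.Agent.* helpers here

set_option autoImplicit false
universe u
open PtTop

namespace Groth.Agent.S7570

theorem sep1 {X : Type u} [TopologicalSpace X] (Z : Set X)
    (hZsep : ∀ z ∈ Z, ∀ z' ∈ Z, z ≠ z' → ∃ A B : Set X, IsOpen A ∧ IsOpen B ∧ z ∈ A ∧ z' ∈ B ∧ Disjoint A B)
    (z : X) (hz : z ∈ Z) (K : Set X) (hK : IsCompact K) (hKZ : K ⊆ Z) (hzK : z ∉ K) :
    ∃ A B : Set X, IsOpen A ∧ IsOpen B ∧ z ∈ A ∧ K ⊆ B ∧ Disjoint A B := by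
  classical
  have hex : ∀ k : X, k ∈ K → ∃ A B : Set X, IsOpen A ∧ IsOpen B ∧ z ∈ A ∧ k ∈ B ∧ Disjoint A B := by
    intro k hk
    exact hZsep z hz k (hKZ hk) (fun h => hzK (h ▸ hk))
  choose! A B hAo hBo hzA hkB hAB using hex
  obtain ⟨F, hFK, hFcov⟩ := hK.elim_nhds_subcover B (fun k hk => (hBo k hk).mem_nhds (hkB k hk))
  refine ⟨⋂ k ∈ F, A k, ⋃ k ∈ F, B k, isOpen_biInter_finset (fun k hk => hAo k (hFK k hk)),
    isOpen_biUnion (fun k hk => hBo k (hFK k hk)), ?_, hFcov, ?_⟩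
  · simp only [Set.mem_iInter]
    exact fun k hk => hzA k (hFK k hk)
  · rw [Set.disjoint_left]
    intro x hxA hxB
    simp only [Set.mem_iUnion] at hxB
    obtain ⟨k, hk, hxk⟩ := hxB
    simp only [Set.mem_iInter] at hxA
    exact Set.disjoint_left.1 (hAB k (hFK k hk)) (hxA k hk) hxk


/-- Let X be a topological space and Z ⊆ X a quasi-compact subset such that any two distinct points of Z
have disjoint open neighbourhoods in X. Let p ≥ 0, let U_i ⊆ X be opens with Z ⊆ ⋃ U_i, and for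
every (p+1)-tuple let W_{i_0…i_p} ⊆ U_{i_0} ∩ … ∩ U_{i_p} be an open with W_{i_0…i_p} ∩ Z = U_{i_0}
∩ … ∩ U_{i_p} ∩ Z. Then there are opens V_i with (1) Z ⊆ ⋃ V_i, (2) V_i ⊆ U_i, (3) closure(V_i) ∩ Z
⊆ U_i, and (4) V_{i_0} ∩ … ∩ V_{i_p} ⊆ W_{i_0…i_p} for all (p+1)-tuples. -/
theorem result {X : Type u} [TopologicalSpace X]
    (Z : Set X) (hZ : IsCompact Z)
    (hZsep : ∀ z ∈ Z, ∀ z' ∈ Z, z ≠ z' → ∃ A B : Set X, IsOpen A ∧ IsOpen B ∧ z ∈ A ∧ z' ∈ B ∧ Disjoint A B)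
    {ι : Type u} (U : ι → Set X) (hU : ∀ i, IsOpen (U i)) (hcov : Z ⊆ ⋃ i, U i) (p : ℕ)
    (W : (Fin (p + 1) → ι) → Set X) (hWo : ∀ t, IsOpen (W t)) (hWU : ∀ t, W t ⊆ ⋂ l, U (t l))
    (hWZ : ∀ t, W t ∩ Z = (⋂ l, U (t l)) ∩ Z) :
    ∃ V : ι → Set X, (∀ i, IsOpen (V i)) ∧ (Z ⊆ ⋃ i, V i) ∧ (∀ i, V i ⊆ U i) ∧
      (∀ i, closure (V i) ∩ Z ⊆ U i) ∧ (∀ t : Fin (p + 1) → ι, (⋂ l, V (t l)) ⊆ W t) := by
  classical
  rcases isEmpty_or_nonempty ι with hι | hι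
  · refine ⟨fun i => isEmptyElim i, fun i => isEmptyElim i, ?_, fun i => isEmptyElim i,
      fun i => isEmptyElim i, fun t => isEmptyElim (t 0)⟩
    intro z hz
    obtain ⟨i, -⟩ := Set.mem_iUnion.1 (hcov hz)
    exact isEmptyElim i
  have hex : ∀ z : X, z ∈ Z → ∃ (i : ι) (A B : Set X), z ∈ U i ∧ IsOpen A ∧ IsOpen B ∧ z ∈ A ∧
      Z \ U i ⊆ B ∧ Disjoint A B := by
    intro z hz
    obtain ⟨i, hi⟩ := Set.mem_iUnion.1 (hcov hz)
    obtain ⟨A, B, hA, hB, hzA, hKB, hAB⟩ := sep1 Z hZsep z hz (Z \ U i) (hZ.diff (hU i))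
      Set.sdiff_subset (fun h => h.2 hi)
    exact ⟨i, A, B, hi, hA, hB, hzA, hKB, hAB⟩
  choose! idx A B hzU hAo hBo hzA hKB hAB using hex
  obtain ⟨F, hFZ, hFcov⟩ := hZ.elim_nhds_subcover A (fun z hz => (hAo z hz).mem_nhds (hzA z hz))
  set A' : ι → Set X := fun i => ⋃ z ∈ F.filter (fun z => idx z = i), A z with hA'def
  set B' : ι → Set X := fun i => ⋂ z ∈ F.filter (fun z => idx z = i), B z with hB'def
  have hA'o : ∀ i, IsOpen (A' i) := fun i =>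
    isOpen_biUnion (fun z hz => hAo z (hFZ z (Finset.mem_filter.1 hz).1))
  have hB'o : ∀ i, IsOpen (B' i) := fun i =>
    isOpen_biInter_finset (fun z hz => hBo z (hFZ z (Finset.mem_filter.1 hz).1))
  have hA'B' : ∀ i x, x ∈ A' i → x ∈ B' i → False := by
    intro i x hxA hxB
    simp only [hA'def, Set.mem_iUnion] at hxA
    obtain ⟨z, hz, hxz⟩ := hxA
    simp only [hB'def, Set.mem_iInter] at hxB
    exact Set.disjoint_left.1 (hAB z (hFZ z (Finset.mem_filter.1 hz).1)) hxz (hxB z hz)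
  have hZB' : ∀ i, Z \ U i ⊆ B' i := by
    intro i x hx
    simp only [hB'def, Set.mem_iInter]
    intro z hz
    rw [Finset.mem_filter] at hz
    exact hKB z (hFZ z hz.1) (hz.2 ▸ hx)
  have hA'ne : ∀ i x, x ∈ A' i → i ∈ F.image idx := by
    intro i x hx
    simp only [hA'def, Set.mem_iUnion] at hx
    obtain ⟨z, hz, -⟩ := hx
    rw [Finset.mem_filter] at hz
    exact Finset.mem_image.2 ⟨z, hz.1, hz.2⟩
  set I₀ : Finset ι := F.image idx with hI₀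
  set T₀ : Finset (Fin (p + 1) → ι) := Fintype.piFinset (fun _ => I₀) with hT₀
  set Nz : X → Set X := fun z =>
    (⋂ t ∈ T₀.filter (fun t => z ∈ ⋂ l, U (t l)), W t) ∩
      (⋂ i ∈ I₀.filter (fun i => z ∉ U i), B' i) with hNz
  have hNzo : ∀ z, IsOpen (Nz z) := fun z =>
    (isOpen_biInter_finset (fun t _ => hWo t)).inter (isOpen_biInter_finset (fun i _ => hB'o i))
  have hzNz : ∀ z ∈ Z, z ∈ Nz z := by
    intro z hz
    refine ⟨?_, ?_⟩
    · simp only [Set.mem_iInter]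
      intro t ht
      rw [Finset.mem_filter] at ht
      have : z ∈ W t ∩ Z := by rw [hWZ t]; exact ⟨Set.mem_iInter.2 ht.2, hz⟩
      exact this.1
    · simp only [Set.mem_iInter]
      intro i hi
      rw [Finset.mem_filter] at hi
      exact hZB' i ⟨hz, hi.2⟩
  set N : Set X := ⋃ z ∈ Z, Nz z with hN
  have hNo : IsOpen N := isOpen_biUnion (fun z _ => hNzo z)
  have hZN : Z ⊆ N := by
    intro z hz
    simp only [hN, Set.mem_iUnion]
    exact ⟨z, hz, hzNz z hz⟩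
  refine ⟨fun i => A' i ∩ U i ∩ N, fun i => ((hA'o i).inter (hU i)).inter hNo, ?_, ?_, ?_, ?_⟩
  · intro z hz
    have := hFcov hz
    simp only [Set.mem_iUnion] at this
    obtain ⟨z', hz', hzz'⟩ := this
    simp only [Set.mem_iUnion]
    have hzA' : z ∈ A' (idx z') := by
      simp only [hA'def, Set.mem_iUnion]
      exact ⟨z', Finset.mem_filter.2 ⟨hz', rfl⟩, hzz'⟩
    refine ⟨idx z', ⟨hzA', ?_⟩, hZN hz⟩
    by_contra hzU'
    exact hA'B' (idx z') z hzA' (hZB' (idx z') ⟨hz, hzU'⟩)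
  · intro i x hx
    exact hx.1.2
  · rintro i x ⟨hxcl, hxZ⟩
    by_contra hxU
    have hxB : x ∈ B' i := hZB' i ⟨hxZ, hxU⟩
    rw [mem_closure_iff] at hxcl
    obtain ⟨y, hyB, hyV⟩ := hxcl (B' i) (hB'o i) hxB
    exact hA'B' i y hyV.1.1 hyB
  · intro t x hx
    simp only [Set.mem_iInter] at hx
    have htT : t ∈ T₀ := by
      rw [hT₀, Fintype.mem_piFinset]
      intro l
      exact hA'ne (t l) x (hx l).1.1
    have hxN : x ∈ N := (hx 0).2
    simp only [hN, Set.mem_iUnion] at hxN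
    obtain ⟨z, hz, hxz⟩ := hxN
    by_cases hzt : z ∈ ⋂ l, U (t l)
    · have := hxz.1
      simp only [Set.mem_iInter] at this
      exact this t (Finset.mem_filter.2 ⟨htT, Set.mem_iInter.1 hzt⟩)
    · exfalso
      simp only [Set.mem_iInter, not_forall] at hzt
      obtain ⟨l₀, hl₀⟩ := hzt
      have := hxz.2
      simp only [Set.mem_iInter] at this
      have hxB := this (t l₀) (Finset.mem_filter.2 ⟨hA'ne (t l₀) x (hx l₀).1.1, hl₀⟩)
      exact hA'B' (t l₀) x (hx l₀).1.1 hxB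

end Groth.Agent.S7570
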