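import Groth.Statements.S7571
import Mathlib
-- import your own Groth.Agent.* helpers here

set_option autoImplicit false
universe u
open CategoryTheory CategoryTheory.Limits
open PtTop

namespace Groth.Agent.S7571

/-- Let j ↦ X_j be a diagram of topological spaces over a cofiltered category with limit X and
projections f_j. (1) Every open of X is a union of subsets of the form f_j⁻¹(U_j) with U_j ⊆ X_j
open. (2) Every quasi-compact open of X equals f_i⁻¹(U_i) for some i and some open U_i ⊆ X_i. -/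
theorem result {J : Type u} [SmallCategory J] [IsCofiltered J]
    (F : J ⥤ TopCat.{u}) (c : Cone F) (hc : IsLimit c) :
    (∀ W : Set c.pt, IsOpen W →
      ∃ S : Set (Σ j, Set (F.obj j)), (∀ s ∈ S, IsOpen s.2) ∧ W = ⋃ s ∈ S, c.π.app s.1 ⁻¹' s.2) ∧
    (∀ W : Set c.pt, IsOpen W → IsCompact W →
      ∃ (i : J) (Ui : Set (F.obj i)), IsOpen Ui ∧ W = c.π.app i ⁻¹' Ui) := by
  classical
  have hbasis := TopCat.isTopologicalBasis_cofiltered_limit.{u, u, u} F c hc
    (fun j => {U | IsOpen U})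
    (fun j => TopologicalSpace.isTopologicalBasis_opens) (fun i => isOpen_univ)
    (fun i U1 U2 h1 h2 => IsOpen.inter h1 h2)
    (fun i j f V hV => hV.preimage (F.map f).hom.continuous)
  constructor
  · intro W hW
    refine ⟨{s | IsOpen s.2 ∧ c.π.app s.1 ⁻¹' s.2 ⊆ W}, fun s hs => hs.1, ?_⟩
    apply Set.Subset.antisymm
    · intro x hx
      obtain ⟨B, ⟨j, V, hV, rfl⟩, hxB, hBW⟩ := hbasis.exists_subset_of_mem_open hx hW
      exact Set.mem_iUnion₂.2 ⟨⟨j, V⟩, ⟨hV, hBW⟩, hxB⟩
    · intro x hx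
      obtain ⟨s, hs, hxs⟩ := Set.mem_iUnion₂.1 hx
      exact hs.2 hxs
  · intro W hW hWc
    have hex : ∀ x : c.pt, x ∈ W → ∃ (j : J) (V : Set (F.obj j)), IsOpen V ∧
        x ∈ c.π.app j ⁻¹' V ∧ c.π.app j ⁻¹' V ⊆ W := by
      intro x hx
      obtain ⟨B, ⟨j, V, hV, rfl⟩, hxB, hBW⟩ := hbasis.exists_subset_of_mem_open hx hW
      exact ⟨j, V, hV, hxB, hBW⟩
    have : Nonempty J := IsCofiltered.nonempty
    choose! jj VV hVo hxV hVW using hex
    obtain ⟨t, htW, htcov⟩ := hWc.elim_nhds_subcover (fun x => c.π.app (jj x) ⁻¹' VV x)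
      (fun x hx => ((hVo x hx).preimage (c.π.app (jj x)).hom.continuous).mem_nhds (hxV x hx))
    obtain ⟨i, hi⟩ := IsCofiltered.inf_objs_exists (t.image jj)
    have hg : ∀ x : {x // x ∈ t}, Nonempty (i ⟶ jj x.1) := fun x =>
      hi (Finset.mem_image_of_mem jj x.2)
    choose g _ using fun x => (hg x).elim (fun f => (⟨f, trivial⟩ : ∃ _ : i ⟶ jj x.1, True))
    refine ⟨i, ⋃ x : {x // x ∈ t}, (F.map (g x)) ⁻¹' VV x.1, ?_, ?_⟩
    · exact isOpen_iUnion (fun x => (hVo x.1 (htW x.1 x.2)).preimage (F.map (g x)).hom.continuous)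
    · have hnat : ∀ x : {x // x ∈ t}, c.π.app i ⁻¹' ((F.map (g x)) ⁻¹' VV x.1) =
          c.π.app (jj x.1) ⁻¹' VV x.1 := by
        intro x
        rw [← c.w (g x)]
        rfl
      rw [Set.preimage_iUnion]
      apply Set.Subset.antisymm
      · intro y hy
        have := htcov hy
        simp only [Set.mem_iUnion] at this
        obtain ⟨x, hx, hyx⟩ := this
        refine Set.mem_iUnion.2 ⟨⟨x, hx⟩, ?_⟩
        rw [hnat]
        exact hyx
      · intro y hy
        obtain ⟨x, hyx⟩ := Set.mem_iUnion.1 hy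
        rw [hnat] at hyx
        exact hVW x.1 (htW x.1 x.2) hyx

end Groth.Agent.S7571
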