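import Groth.Statements.S7587
import Mathlib
-- import your own Groth.Agent.* helpers here

set_option autoImplicit false
universe u
open ShSp

namespace Groth.Agent.S7587

open TopologicalSpace

lemma stalkRel_of_germ_eq {X : Type u} [TopologicalSpace X] {B : Set (Opens X)}
    (hB : Opens.IsBasis B) (F : ShB.Pre B) (x : X)
    (a b : Σ U : {U : B // x ∈ (U : Opens X)}, F.obj U.1)
    (h : (Quot.mk (ShB.StalkRel F x) a : ShB.Stalk F x) = Quot.mk _ b) :
    ShB.StalkRel F x a b := by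
  have h' := Quot.eqvGen_exact h
  clear h
  induction h' with
  | rel a b hab => exact hab
  | refl a => exact ⟨a.1.1, a.1.2, le_refl _, le_refl _, rfl⟩
  | symm a b _ ih =>
    obtain ⟨W, hxW, ha, hb, e⟩ := ih
    exact ⟨W, hxW, hb, ha, e.symm⟩
  | trans a b c _ _ ih1 ih2 =>
    obtain ⟨W1, hx1, ha1, hb1, e1⟩ := ih1
    obtain ⟨W2, hx2, hb2, hc2, e2⟩ := ih2
    obtain ⟨W3, hW3B, hx3, hW3le⟩ := Opens.isBasis_iff_nbhd.mp hB
      (Opens.mem_inf.mpr ⟨hx1, hx2⟩ : x ∈ (W1 : Opens X) ⊓ (W2 : Opens X))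
    have h31 : W3 ≤ (W1 : Opens X) := hW3le.trans inf_le_left
    have h32 : W3 ≤ (W2 : Opens X) := hW3le.trans inf_le_right
    refine ⟨⟨W3, hW3B⟩, hx3, h31.trans ha1, h32.trans hc2, ?_⟩
    calc F.res (V := ⟨W3, hW3B⟩) (h31.trans ha1) a.2
        = F.res (U := W1) (V := ⟨W3, hW3B⟩) h31 (F.res ha1 a.2) := (F.res_comp ha1 h31 a.2).symm
      _ = F.res (U := W1) (V := ⟨W3, hW3B⟩) h31 (F.res hb1 b.2) := by rw [e1]
      _ = F.res (V := ⟨W3, hW3B⟩) (h31.trans hb1) b.2 := F.res_comp hb1 h31 b.2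
      _ = F.res (V := ⟨W3, hW3B⟩) (h32.trans hb2) b.2 := rfl
      _ = F.res (U := W2) (V := ⟨W3, hW3B⟩) h32 (F.res hb2 b.2) := (F.res_comp hb2 h32 b.2).symm
      _ = F.res (U := W2) (V := ⟨W3, hW3B⟩) h32 (F.res hc2 c.2) := by rw [e2]
      _ = F.res (V := ⟨W3, hW3B⟩) (h32.trans hc2) c.2 := F.res_comp hc2 h32 c.2


/-- Let X be a topological space, ℬ a basis for its topology, U ∈ ℬ and F a sheaf of sets on ℬ. Sending
a section over U to its germs at the points of U, a map from F(U) into the product of the stalks F_x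
over x ∈ U, puts F(U) in bijection with those germ families (s_x)_{x ∈ U} that satisfy (*): each x ∈
U lies in some V ∈ ℬ contained in U carrying a section σ ∈ F(V) whose germ at every y ∈ V equals
s_y. That is, the map is injective and its image is exactly the set of such families. -/
theorem result {X : Type u} [TopologicalSpace X] {B : Set (TopologicalSpace.Opens X)}
    (hB : TopologicalSpace.Opens.IsBasis B) (F : ShB.Pre B) (hF : ShB.IsSheaf F) (U : B) :
    Function.Injective (fun (s : F.obj U) (x : (U : TopologicalSpace.Opens X)) => ShB.germ F x.1 x.2 s) ∧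
    ∀ f : ∀ x : (U : TopologicalSpace.Opens X), ShB.Stalk F x.1,
      (∃ s : F.obj U, ∀ x, ShB.germ F x.1 x.2 s = f x) ↔
      ∀ x : (U : TopologicalSpace.Opens X), ∃ (V : B) (hxV : x.1 ∈ (V : TopologicalSpace.Opens X))
        (hVU : (V : TopologicalSpace.Opens X) ≤ (U : TopologicalSpace.Opens X)) (σ : F.obj V),
        ∀ (y : X) (hy : y ∈ (V : TopologicalSpace.Opens X)), ShB.germ F y hy σ = f ⟨y, hVU hy⟩ := by
  classical
  constructor
  · intro s s' hss
    have hloc : ∀ x : (U : Opens X), ∃ W : B, x.1 ∈ (W : Opens X) ∧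
        ∃ (hWU : (W : Opens X) ≤ (U : Opens X)), F.res hWU s = F.res hWU s' := by
      intro x
      have h1 : ShB.germ F x.1 x.2 s = ShB.germ F x.1 x.2 s' := congrFun hss x
      obtain ⟨W, hxW, ha, hb, e⟩ :=
        stalkRel_of_germ_eq hB F x.1 ⟨⟨U, x.2⟩, s⟩ ⟨⟨U, x.2⟩, s'⟩ h1
      exact ⟨W, hxW, ha, e⟩
    choose W hxW hWU hres using hloc
    have hinter : ∀ (i j : (U : Opens X)) (p : ((W i : Opens X) ⊓ (W j : Opens X) : Opens X)),
        ∃ W' : B, p.1 ∈ (W' : Opens X) ∧
          (W' : Opens X) ≤ (W i : Opens X) ⊓ (W j : Opens X) := by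
      intro i j p
      obtain ⟨W', hW'B, hp, hle⟩ := Opens.isBasis_iff_nbhd.mp hB p.2
      exact ⟨⟨W', hW'B⟩, hp, hle⟩
    choose W2 hpW2 hW2le using hinter
    let c : ShB.Cover B :=
      { U := U
        ι := (U : Opens X)
        V := W
        V_le := hWU
        V_cover := fun y hy => Opens.mem_iSup.mpr ⟨⟨y, hy⟩, hxW ⟨y, hy⟩⟩
        κ := fun i j => ((W i : Opens X) ⊓ (W j : Opens X) : Opens X)
        W := fun i j p => W2 i j p
        W_le_left := fun i j p => (hW2le i j p).trans inf_le_left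
        W_le_right := fun i j p => (hW2le i j p).trans inf_le_right
        W_cover := fun i j y hy => Opens.mem_iSup.mpr ⟨⟨y, hy⟩, hpW2 i j ⟨y, hy⟩⟩ }
    obtain ⟨t, ht, huniq⟩ := hF c (fun i => F.res (hWU i) s) (by
      intro i j k
      show F.res _ (F.res (hWU i) s) = F.res _ (F.res (hWU j) s)
      rw [F.res_comp, F.res_comp])
    have e1 : s = t := huniq s (fun i => rfl)
    have e2 : s' = t := huniq s' (fun i => (hres i).symm)
    exact e1.trans e2.symm
  · intro f
    constructor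
    · rintro ⟨s, hs⟩ x
      exact ⟨U, x.2, le_refl _, s, fun y hy => hs ⟨y, hy⟩⟩
    · intro hloc
      choose V hxV hVU σ hσ using hloc
      have hinter : ∀ (i j : (U : Opens X)) (p : ((V i : Opens X) ⊓ (V j : Opens X) : Opens X)),
          ∃ (W' : B) (_ : p.1 ∈ (W' : Opens X)) (ha : (W' : Opens X) ≤ (V i : Opens X))
            (hb : (W' : Opens X) ≤ (V j : Opens X)), F.res ha (σ i) = F.res hb (σ j) := by
        intro i j p
        have hp1 : p.1 ∈ (V i : Opens X) := (Opens.mem_inf.mp p.2).1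
        have hp2 : p.1 ∈ (V j : Opens X) := (Opens.mem_inf.mp p.2).2
        have h1 : ShB.germ F p.1 hp1 (σ i) = ShB.germ F p.1 hp2 (σ j) := by
          rw [hσ i p.1 hp1, hσ j p.1 hp2]
        exact stalkRel_of_germ_eq hB F p.1 ⟨⟨V i, hp1⟩, σ i⟩ ⟨⟨V j, hp2⟩, σ j⟩ h1
      choose W2 hpW2 ha2 hb2 hres2 using hinter
      let c : ShB.Cover B :=
        { U := U
          ι := (U : Opens X)
          V := V
          V_le := hVU
          V_cover := fun y hy => Opens.mem_iSup.mpr ⟨⟨y, hy⟩, hxV ⟨y, hy⟩⟩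
          κ := fun i j => ((V i : Opens X) ⊓ (V j : Opens X) : Opens X)
          W := fun i j p => W2 i j p
          W_le_left := fun i j p => ha2 i j p
          W_le_right := fun i j p => hb2 i j p
          W_cover := fun i j y hy => Opens.mem_iSup.mpr ⟨⟨y, hy⟩, hpW2 i j ⟨y, hy⟩⟩ }
      obtain ⟨t, ht, -⟩ := hF c σ (fun i j k => hres2 i j k)
      refine ⟨t, fun x => ?_⟩
      have h2 : ShB.germ F x.1 x.2 t = ShB.germ F x.1 (hxV x) (σ x) := by
        show (Quot.mk (ShB.StalkRel F x.1) ⟨⟨U, x.2⟩, t⟩ : ShB.Stalk F x.1) =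
          Quot.mk _ ⟨⟨V x, hxV x⟩, σ x⟩
        refine Quot.sound ⟨V x, hxV x, hVU x, le_refl _, ?_⟩
        show F.res (hVU x) t = F.res (le_refl _) (σ x)
        rw [F.res_id]
        exact ht x
      exact h2.trans (hσ x x.1 (hxV x))

end Groth.Agent.S7587
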