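import Groth.Statements.S7588
import Mathlib
import Groth.Agent.S7587
-- import your own Groth.Agent.* helpers here

set_option autoImplicit false
universe u
open CategoryTheory
open ShSp

namespace Groth.Agent.S7588

open TopologicalSpace CategoryTheory Opposite

section

variable {X : Type u} [TopologicalSpace X] {B : Set (Opens X)}

def rs (P : (Opens X)ᵒᵖ ⥤ Type u) {W V : Opens X} (h : V ≤ W) (s : P.obj (op W)) :
    P.obj (op V) := P.map (homOfLE h).op s

lemma op_hom_eq {W W' : (Opens X)ᵒᵖ} (f g : W ⟶ W') : f = g :=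
  Quiver.Hom.unop_inj (Subsingleton.elim _ _)

lemma rs_rs (P : (Opens X)ᵒᵖ ⥤ Type u) {W V Z : Opens X} (h1 : V ≤ W) (h2 : Z ≤ V)
    (s : P.obj (op W)) : rs P h2 (rs P h1 s) = rs P (h2.trans h1) s := by
  unfold rs
  rw [← P.map_comp_apply]
  exact congrArg (fun m => P.map m s) (op_hom_eq _ _)

lemma rs_refl (P : (Opens X)ᵒᵖ ⥤ Type u) {W : Opens X} (s : P.obj (op W)) :
    rs P (le_refl W) s = s := by
  unfold rs
  have h : (homOfLE (le_refl W)).op = 𝟙 (op W) := op_hom_eq _ _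
  rw [h, P.map_id_apply]

lemma basis_cover (hB : Opens.IsBasis B) (W : Opens X) :
    W ≤ ⨆ V : {V : B // (V : Opens X) ≤ W}, (V.1 : Opens X) := by
  intro x hx
  obtain ⟨V, hVB, hxV, hVW⟩ := Opens.isBasis_iff_nbhd.mp hB hx
  exact Opens.mem_iSup.mpr ⟨⟨⟨V, hVB⟩, hVW⟩, hxV⟩

lemma sep_basis (hB : Opens.IsBasis B) (G : TopCat.Sheaf (Type u) (TopCat.of X)) (W : Opens X)
    (s t : G.1.obj (op W))
    (h : ∀ V : {V : B // (V : Opens X) ≤ W}, rs G.1 V.2 s = rs G.1 V.2 t) : s = t :=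
  TopCat.Sheaf.eq_of_locally_eq' G
    (fun V : {V : B // (V : Opens X) ≤ W} => (V.1 : Opens X)) W (fun V => homOfLE V.2)
    (basis_cover hB W) s t h

lemma glue_basis (hB : Opens.IsBasis B) (G' : TopCat.Sheaf (Type u) (TopCat.of X)) (W : Opens X)
    (t : ∀ V : {V : B // (V : Opens X) ≤ W}, G'.1.obj (op (V.1 : Opens X)))
    (hcompat : ∀ (V V' : {V : B // (V : Opens X) ≤ W}) (h : (V'.1 : Opens X) ≤ (V.1 : Opens X)),
      rs G'.1 h (t V) = t V') :
    ∃! r : G'.1.obj (op W), ∀ V : {V : B // (V : Opens X) ≤ W}, rs G'.1 V.2 r = t V := by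
  refine TopCat.Sheaf.existsUnique_gluing' G'
    (fun V : {V : B // (V : Opens X) ≤ W} => (V.1 : Opens X)) W (fun V => homOfLE V.2)
    (basis_cover hB W) t ?_
  intro V V'
  refine sep_basis hB G' ((V.1 : Opens X) ⊓ (V'.1 : Opens X)) _ _ (fun Z => ?_)
  have hZV : (Z.1 : Opens X) ≤ (V.1 : Opens X) := Z.2.trans inf_le_left
  have hZV' : (Z.1 : Opens X) ≤ (V'.1 : Opens X) := Z.2.trans inf_le_right
  have hZW : (Z.1 : Opens X) ≤ W := hZV.trans V.2
  have e1 : rs G'.1 Z.2 (G'.1.map (TopologicalSpace.Opens.infLELeft _ _).op (t V)) =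
      t ⟨Z.1, hZW⟩ := by
    rw [← hcompat V ⟨Z.1, hZW⟩ hZV]
    show rs G'.1 Z.2 (rs G'.1 inf_le_left (t V)) = _
    rw [rs_rs]
  have e2 : rs G'.1 Z.2 (G'.1.map (TopologicalSpace.Opens.infLERight _ _).op (t V')) =
      t ⟨Z.1, hZW⟩ := by
    rw [← hcompat V' ⟨Z.1, hZW⟩ hZV']
    show rs G'.1 Z.2 (rs G'.1 inf_le_right (t V')) = _
    rw [rs_rs]
  rw [e1, e2]

lemma nat_ext (hB : Opens.IsBasis B) (G G' : TopCat.Sheaf (Type u) (TopCat.of X))
    (φ₁ φ₂ : G.1 ⟶ G'.1)
    (h : ∀ (U : B) (s : G.1.obj (op (U : Opens X))),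
      φ₁.app (op (U : Opens X)) s = φ₂.app (op (U : Opens X)) s) : φ₁ = φ₂ := by
  apply NatTrans.ext
  funext W
  ext s
  refine sep_basis hB G' W.unop _ _ (fun V => ?_)
  have n1 := NatTrans.naturality_apply φ₁ (homOfLE V.2).op s
  have n2 := NatTrans.naturality_apply φ₂ (homOfLE V.2).op s
  show G'.1.map (homOfLE V.2).op (φ₁.app W s) = G'.1.map (homOfLE V.2).op (φ₂.app W s)
  rw [← n1, ← n2]
  exact h V.1 _

lemma exists_hom (hB : Opens.IsBasis B) (F : ShB.Pre B)
    (G G' : TopCat.Sheaf (Type u) (TopCat.of X))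
    (e : ShB.Iso (ShB.restrict B G.presheaf) F) (e' : ShB.Iso (ShB.restrict B G'.presheaf) F) :
    ∃ φ : G.1 ⟶ G'.1, ∀ (U : B) (s : G.1.obj (op (U : Opens X))),
      e'.hom.app U (φ.app (op (U : Opens X)) s) = e.hom.app U s := by
  have hfam : ∀ (W : Opens X) (s : G.1.obj (op W)), ∃! r : G'.1.obj (op W),
      ∀ V : {V : B // (V : Opens X) ≤ W},
        rs G'.1 V.2 r = e'.inv.app V.1 (e.hom.app V.1 (rs G.1 V.2 s)) := by
    intro W s
    refine glue_basis hB G' W _ ?_
    intro V V' h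
    have h1 := e'.inv.natural h (e.hom.app V.1 (rs G.1 V.2 s))
    have h2 := e.hom.natural h (rs G.1 V.2 s)
    show (ShB.restrict B G'.presheaf).res h
      (e'.inv.app V.1 (e.hom.app V.1 (rs G.1 V.2 s))) = _
    rw [h1, h2]
    show e'.inv.app V'.1 (e.hom.app V'.1 (rs G.1 h (rs G.1 V.2 s))) = _
    rw [rs_rs]
  have hfam' := fun W s => (hfam W s).exists
  choose r hr using hfam'
  refine ⟨{ app := fun W => ↾(fun s => r W.unop s), naturality := ?_ }, ?_⟩
  · intro W W' f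
    ext s
    show r W'.unop (G.1.map f s) = G'.1.map f (r W.unop s)
    refine sep_basis hB G' W'.unop _ _ (fun V => ?_)
    have hVW : (V.1 : Opens X) ≤ W.unop := V.2.trans (leOfHom f.unop)
    rw [hr W'.unop (G.1.map f s) V]
    have e1 : rs G'.1 V.2 (G'.1.map f (r W.unop s)) = rs G'.1 hVW (r W.unop s) := by
      unfold rs
      rw [← G'.1.map_comp_apply]
      exact congrArg (fun m => G'.1.map m (r W.unop s)) (op_hom_eq _ _)
    have e2 : rs G.1 V.2 (G.1.map f s) = rs G.1 hVW s := by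
      unfold rs
      rw [← G.1.map_comp_apply]
      exact congrArg (fun m => G.1.map m s) (op_hom_eq _ _)
    rw [e1, hr W.unop s ⟨V.1, hVW⟩, e2]
  · intro U s
    show e'.hom.app U (r (U : Opens X) s) = e.hom.app U s
    have h1 := hr (U : Opens X) s ⟨U, le_refl _⟩
    rw [rs_refl, rs_refl] at h1
    rw [h1, e'.inv_hom]

lemma germ_res (F : ShB.Pre B) {U V : B} (h : (V : Opens X) ≤ (U : Opens X)) (y : X)
    (hy : y ∈ (V : Opens X)) (σ : F.obj U) :
    ShB.germ F y hy (F.res h σ) = ShB.germ F y (h hy) σ := by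
  show (Quot.mk (ShB.StalkRel F y) ⟨⟨V, hy⟩, F.res h σ⟩ : ShB.Stalk F y) =
    Quot.mk _ ⟨⟨U, h hy⟩, σ⟩
  refine Quot.sound ⟨V, hy, le_refl _, h, ?_⟩
  show F.res (le_refl _) (F.res h σ) = F.res h σ
  rw [F.res_id]

/-- the local predicate: families of germs locally coming from sections over members of `B` -/
def locPred (hB : Opens.IsBasis B) (F : ShB.Pre B) :
    TopCat.LocalPredicate (X := TopCat.of X) (fun x => ShB.Stalk F x) where
  pred {U} f := ∀ x : U, ∃ (V : B) (_ : x.1 ∈ (V : Opens X)) (hVU : (V : Opens X) ≤ U)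
    (σ : F.obj V), ∀ (y : X) (hy : y ∈ (V : Opens X)), ShB.germ F y hy σ = f ⟨y, hVU hy⟩
  res {U W} i f h := by
    intro x
    obtain ⟨V, hxV, hVW, σ, hσ⟩ := h ⟨x.1, i.le x.2⟩
    obtain ⟨V₂, hV₂B, hxV₂, hV₂le⟩ := Opens.isBasis_iff_nbhd.mp hB
      (Opens.mem_inf.mpr ⟨hxV, x.2⟩ : x.1 ∈ (V : Opens X) ⊓ U)
    refine ⟨⟨V₂, hV₂B⟩, hxV₂, hV₂le.trans inf_le_right,
      F.res (U := V) (V := ⟨V₂, hV₂B⟩) (hV₂le.trans inf_le_left) σ, ?_⟩
    intro y hy
    rw [germ_res]
    exact hσ y _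
  locality {U} f h := by
    intro x
    obtain ⟨W, hxW, i, hW⟩ := h x
    obtain ⟨V, hxV, hVW, σ, hσ⟩ := hW ⟨x.1, hxW⟩
    exact ⟨V, hxV, hVW.trans i.le, σ, fun y hy => hσ y hy⟩

/-- the extension of `F` to a sheaf on `X` -/
noncomputable def extSheaf (hB : Opens.IsBasis B) (F : ShB.Pre B) :
    TopCat.Sheaf (Type u) (TopCat.of X) :=
  TopCat.subsheafToTypes (locPred hB F)

/-- sections of the extension -/
abbrev Sec (hB : Opens.IsBasis B) (F : ShB.Pre B) (U : Opens X) : Type u :=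
  {g : ∀ x : U, ShB.Stalk F x.1 // (locPred hB F).pred g}

theorem partA (hB : Opens.IsBasis B) (F : ShB.Pre B) (hF : ShB.IsSheaf F) :
    ∃ G : TopCat.Sheaf (Type u) (TopCat.of X),
      Nonempty (ShB.Iso (ShB.restrict B G.presheaf) F) := by
  refine ⟨extSheaf hB F, ?_⟩
  have hex : ∀ (U : B) (f : Sec hB F U), ∃ s : F.obj U,
      ∀ x : (U : Opens X), ShB.germ F x.1 x.2 s = f.1 x :=
    fun U f => ((Groth.Agent.S7587.result hB F hF U).2 f.1).mpr f.2
  have hinj : ∀ U : B, Function.Injective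
      (fun (s : F.obj U) (x : (U : Opens X)) => ShB.germ F x.1 x.2 s) :=
    fun U => (Groth.Agent.S7587.result hB F hF U).1
  choose homF hhomF using hex
  obtain ⟨invF, hinvF⟩ : ∃ invF : ∀ U : B, F.obj U → Sec hB F U,
      ∀ (U : B) (s : F.obj U) (x : (U : Opens X)), (invF U s).1 x = ShB.germ F x.1 x.2 s :=
    ⟨fun U s => ⟨fun x => ShB.germ F x.1 x.2 s,
      fun x => ⟨U, x.2, le_refl _, s, fun y hy => rfl⟩⟩, fun U s x => rfl⟩
  have h_hom_inv : ∀ (U : B) (f : Sec hB F U), invF U (homF U f) = f := by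
    intro U f
    apply Subtype.ext
    funext x
    rw [hinvF]
    exact hhomF U f x
  have h_inv_hom : ∀ (U : B) (s : F.obj U), homF U (invF U s) = s := by
    intro U s
    apply hinj U
    funext x
    show ShB.germ F x.1 x.2 (homF U (invF U s)) = ShB.germ F x.1 x.2 s
    rw [hhomF U (invF U s) x, hinvF]
  have h_inv_nat : ∀ {U V : B} (h : (V : Opens X) ≤ (U : Opens X)) (s : F.obj U),
      (ShB.restrict B (extSheaf hB F).presheaf).res h (invF U s) = invF V (F.res h s) := by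
    intro U V h s
    apply Subtype.ext
    funext y
    rw [hinvF, germ_res, ← hinvF U s ⟨y.1, h y.2⟩]
    rfl
  refine ⟨{ hom := { app := homF, natural := ?_ }
            inv := { app := invF, natural := fun h s => h_inv_nat h s }
            hom_inv := h_hom_inv
            inv_hom := h_inv_hom }⟩
  intro U V h f
  have h3 := h_inv_nat h (homF U f)
  rw [h_hom_inv] at h3
  rw [h3, h_inv_hom]

theorem partB (hB : Opens.IsBasis B) (F : ShB.Pre B)
    (G G' : TopCat.Sheaf (Type u) (TopCat.of X))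
    (e : ShB.Iso (ShB.restrict B G.presheaf) F) (e' : ShB.Iso (ShB.restrict B G'.presheaf) F) :
    ∃! φ : G ⟶ G', IsIso φ ∧ ∀ (U : B) (s : G.presheaf.obj (op (U : Opens X))),
      e'.hom.app U (φ.1.app (op (U : Opens X)) s) = e.hom.app U s := by
  obtain ⟨φ, hφ⟩ := exists_hom hB F G G' e e'
  obtain ⟨ψ, hψ⟩ := exists_hom hB F G' G e' e
  have hinj : ∀ (U : B) (a b : G.1.obj (op (U : Opens X))),
      e.hom.app U a = e.hom.app U b → a = b := by
    intro U a b h
    rw [← e.hom_inv U a, ← e.hom_inv U b, h]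
  have hinj' : ∀ (U : B) (a b : G'.1.obj (op (U : Opens X))),
      e'.hom.app U a = e'.hom.app U b → a = b := by
    intro U a b h
    rw [← e'.hom_inv U a, ← e'.hom_inv U b, h]
  have h1 : φ ≫ ψ = 𝟙 G.1 := by
    apply nat_ext hB G G
    intro U s
    apply hinj U
    show e.hom.app U (ψ.app _ (φ.app _ s)) = e.hom.app U s
    rw [hψ, hφ]
  have h2 : ψ ≫ φ = 𝟙 G'.1 := by
    apply nat_ext hB G' G'
    intro U s
    apply hinj' U
    show e'.hom.app U (φ.app _ (ψ.app _ s)) = e'.hom.app U s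
    rw [hφ, hψ]
  refine ⟨ObjectProperty.homMk φ, ⟨?_, hφ⟩, ?_⟩
  · exact ⟨⟨ObjectProperty.homMk ψ, CategoryTheory.Sheaf.hom_ext h1,
      CategoryTheory.Sheaf.hom_ext h2⟩⟩
  · rintro φ' ⟨-, hφ'⟩
    apply CategoryTheory.Sheaf.hom_ext
    apply nat_ext hB G G'
    intro U s
    apply hinj' U
    rw [hφ' U s]
    exact (hφ U s).symm

end


/-- Let X be a topological space, ℬ a basis for its topology and F a sheaf of sets on ℬ. There is a
sheaf of sets F^ext on X together with an isomorphism of presheaves on ℬ between the restriction of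
F^ext to ℬ and F; and it is unique: given two sheaves G, G′ on X with such isomorphisms e, e′, there
is a unique isomorphism G ≅ G′ whose restriction to the members of ℬ is compatible with e and e′. -/
theorem result {X : Type u} [TopologicalSpace X] {B : Set (TopologicalSpace.Opens X)}
    (hB : TopologicalSpace.Opens.IsBasis B) (F : ShB.Pre B) (hF : ShB.IsSheaf F) :
    (∃ G : TopCat.Sheaf (Type u) (TopCat.of X), Nonempty (ShB.Iso (ShB.restrict B G.presheaf) F)) ∧
    ∀ (G G' : TopCat.Sheaf (Type u) (TopCat.of X)) (e : ShB.Iso (ShB.restrict B G.presheaf) F)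
      (e' : ShB.Iso (ShB.restrict B G'.presheaf) F),
      ∃! φ : G ⟶ G', IsIso φ ∧ ∀ (U : B) (s : G.presheaf.obj (Opposite.op (U : TopologicalSpace.Opens X))),
        e'.hom.app U (φ.1.app (Opposite.op (U : TopologicalSpace.Opens X)) s) = e.hom.app U s := by
  exact ⟨partA hB F hF, fun G G' e e' => partB hB F G G' e e'⟩

end Groth.Agent.S7588
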