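import Groth.Statements.S7575
import Mathlib
import Groth.Agent.S7588
-- import your own Groth.Agent.* helpers here

set_option autoImplicit false
universe u
open CategoryTheory CategoryTheory.Limits TopologicalSpace Opposite
open ShSp

namespace Groth.Agent.S7575

open Groth.Agent.S7588 (rs rs_rs rs_refl op_hom_eq)

section

variable {X : TopCat.{u}} {J : Type u} [Preorder J] (F : J ⥤ X.Sheaf (Type u))

abbrev Sec (i : J) (V : Opens X) : Type u := (F.obj i).1.obj (op V)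

def tr {i j : J} (h : i ≤ j) (V : Opens X) (s : Sec F i V) : Sec F j V :=
  (F.map (homOfLE h)).1.app (op V) s

lemma tr_tr {i j k : J} (h1 : i ≤ j) (h2 : j ≤ k) (V : Opens X) (s : Sec F i V) :
    tr F h2 V (tr F h1 V s) = tr F (h1.trans h2) V s := by
  have e : homOfLE (h1.trans h2) = homOfLE h1 ≫ homOfLE h2 := rfl
  unfold tr
  rw [e, F.map_comp]
  rfl

lemma tr_rs {i j : J} (h : i ≤ j) {V W : Opens X} (hW : W ≤ V) (s : Sec F i V) :
    rs (F.obj j).1 hW (tr F h V s) = tr F h W (rs (F.obj i).1 hW s) :=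
  (NatTrans.naturality_apply (F.map (homOfLE h)).1 (homOfLE hW).op s).symm

lemma tr_eq_restrict {i k : J} (hk : i ≤ k) {V W W' : Opens X} (hW : W ≤ V) (hW' : W' ≤ W)
    (s t : Sec F i V)
    (e : tr F hk W (rs (F.obj i).1 hW s) = tr F hk W (rs (F.obj i).1 hW t)) :
    tr F hk W' (rs (F.obj i).1 (hW'.trans hW) s) = tr F hk W' (rs (F.obj i).1 (hW'.trans hW) t) := by
  have h := congrArg (rs (F.obj k).1 hW') e
  rwa [tr_rs, tr_rs, rs_rs, rs_rs] at h

variable (c : Cocone F)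

def leg (i : J) (V : Opens X) (s : Sec F i V) : c.pt.1.obj (op V) :=
  (c.ι.app i).1.app (op V) s

lemma leg_tr {i j : J} (h : i ≤ j) (V : Opens X) (s : Sec F i V) :
    leg F c j V (tr F h V s) = leg F c i V s :=
  congrArg (fun m : F.obj i ⟶ c.pt => m.1.app (op V) s) (c.w (homOfLE h))

lemma leg_rs (i : J) {V W : Opens X} (hW : W ≤ V) (s : Sec F i V) :
    rs c.pt.1 hW (leg F c i V s) = leg F c i W (rs (F.obj i).1 hW s) :=
  (NatTrans.naturality_apply (c.ι.app i).1 (homOfLE hW).op s).symm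

def mkPropHom (P : (Opens X)ᵒᵖ ⥤ Type u) (N : ∀ (V : Opens X), P.obj (op V) → X → Prop)
    (hN : ∀ (V W : Opens X) (h : W ≤ V) (s : P.obj (op V)) (y : X), y ∈ W →
      (N W (rs P h s) y ↔ N V s y)) :
    P ⟶ TopCat.presheafToType X (ULift.{u} Prop) where
  app V := ↾(fun (s : P.obj V) => fun y : ↥V.unop => ULift.up (N V.unop s y.1))
  naturality := by
    intro V V' f
    ext s
    funext y
    have e : P.map f s = rs P (leOfHom f.unop) s :=
      congrArg (fun m => P.map m s) (op_hom_eq _ _)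
    show ULift.up (N V'.unop (P.map f s) y.1) = ULift.up (N V.unop s y.1)
    rw [e]
    exact congrArg ULift.up (propext (hN V.unop V'.unop (leOfHom f.unop) s y.1 y.2))

def Near {i : J} {V : Opens X} (s : Sec F i V) (j : J) (V' : Opens X) (r : Sec F j V')
    (y : X) : Prop :=
  ∃ (W : Opens X) (hW' : W ≤ V') (hW : W ≤ V), y ∈ W ∧ ∃ (k : J) (hjk : j ≤ k) (hik : i ≤ k),
    tr F hjk W (rs (F.obj j).1 hW' r) = tr F hik W (rs (F.obj i).1 hW s)

lemma near_rs {i : J} {V : Opens X} (s : Sec F i V) (j : J) (V' W' : Opens X) (h' : W' ≤ V')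
    (r : Sec F j V') (y : X) (hy : y ∈ W') :
    Near F s j W' (rs (F.obj j).1 h' r) y ↔ Near F s j V' r y := by
  constructor
  · rintro ⟨W, hW', hW, hyW, k, hjk, hik, e⟩
    refine ⟨W, hW'.trans h', hW, hyW, k, hjk, hik, ?_⟩
    rw [← e, rs_rs]
  · rintro ⟨W, hW', hW, hyW, k, hjk, hik, e⟩
    refine ⟨W ⊓ W', inf_le_right, inf_le_left.trans hW, Opens.mem_inf.2 ⟨hyW, hy⟩, k, hjk, hik, ?_⟩
    rw [rs_rs]
    have e1 : rs (F.obj j).1 ((inf_le_right : W ⊓ W' ≤ W').trans h') r =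
        rs (F.obj j).1 (inf_le_left : W ⊓ W' ≤ W) (rs (F.obj j).1 hW' r) := by rw [rs_rs]
    have e2 : rs (F.obj i).1 ((inf_le_left : W ⊓ W' ≤ W).trans hW) s =
        rs (F.obj i).1 (inf_le_left : W ⊓ W' ≤ W) (rs (F.obj i).1 hW s) := by rw [rs_rs]
    rw [e1, e2, ← tr_rs F hjk inf_le_left, e, tr_rs]

lemma near_tr [IsDirected J (· ≤ ·)] {i : J} {V : Opens X} (s : Sec F i V) {j j' : J}
    (h : j ≤ j') (V' : Opens X) (r : Sec F j V') (y : X) :
    Near F s j' V' (tr F h V' r) y ↔ Near F s j V' r y := by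
  constructor
  · rintro ⟨W, hW', hW, hyW, k, hjk, hik, e⟩
    refine ⟨W, hW', hW, hyW, k, h.trans hjk, hik, ?_⟩
    rw [← e, tr_rs, tr_tr]
  · rintro ⟨W, hW', hW, hyW, k, hjk, hik, e⟩
    obtain ⟨k', hk1, hk2⟩ := exists_ge_ge k j'
    refine ⟨W, hW', hW, hyW, k', hk2, hik.trans hk1, ?_⟩
    rw [tr_rs, tr_tr]
    have e3 : tr F (h.trans hk2) W (rs (F.obj j).1 hW' r) =
        tr F hk1 W (tr F hjk W (rs (F.obj j).1 hW' r)) := by rw [tr_tr]
    rw [e3, e, tr_tr]

lemma locEq [IsDirected J (· ≤ ·)] (hc : IsColimit c) {i : J} {V : Opens X} (s t : Sec F i V)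
    (h : leg F c i V s = leg F c i V t) (x : X) (hx : x ∈ V) : Near F s i V t x := by
  let H : X.Sheaf (Type u) := TopCat.sheafToType X (ULift.{u} Prop)
  let φ : ∀ j, F.obj j ⟶ H := fun j => ObjectProperty.homMk
    (mkPropHom (F.obj j).1 (fun V' r y => Near F s j V' r y)
      (fun V' W' h' r y hy => near_rs F s j V' W' h' r y hy))
  have hnat : ∀ ⦃j j' : J⦄ (f : j ⟶ j'),
      F.map f ≫ φ j' = φ j ≫ ((Functor.const J).obj H).map f := by
    intro j j' f
    apply CategoryTheory.Sheaf.hom_ext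
    apply NatTrans.ext
    funext V'
    ext r
    funext y
    show ULift.up (Near F s j' V'.unop (tr F (leOfHom f) V'.unop r) y.1) =
      ULift.up (Near F s j V'.unop r y.1)
    exact congrArg ULift.up (propext (near_tr F s (leOfHom f) V'.unop r y.1))
  let K : Cocone F := { pt := H, ι := { app := φ, naturality := hnat } }
  have hs : (hc.desc K).1.app (op V) (leg F c i V s) ⟨x, hx⟩ = ULift.up (Near F s i V s x) :=
    congrArg (fun m : F.obj i ⟶ H => m.1.app (op V) s ⟨x, hx⟩) (hc.fac K i)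
  have ht : (hc.desc K).1.app (op V) (leg F c i V t) ⟨x, hx⟩ = ULift.up (Near F s i V t x) :=
    congrArg (fun m : F.obj i ⟶ H => m.1.app (op V) t ⟨x, hx⟩) (hc.fac K i)
  rw [h] at hs
  have h2 : Near F s i V s x = Near F s i V t x := congrArg ULift.down (hs.symm.trans ht)
  rw [← h2]
  exact ⟨V, le_refl V, le_refl V, hx, i, le_refl i, le_refl i, rfl⟩

lemma locEq' [IsDirected J (· ≤ ·)] (hc : IsColimit c) {i : J} {V : Opens X} (s t : Sec F i V)
    (h : leg F c i V s = leg F c i V t) (x : X) (hx : x ∈ V) :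
    ∃ (W : Opens X) (hW : W ≤ V), x ∈ W ∧ ∃ (k : J) (hk : i ≤ k),
      tr F hk W (rs (F.obj i).1 hW s) = tr F hk W (rs (F.obj i).1 hW t) := by
  obtain ⟨W, hW', hW, hxW, k, hjk, hik, e⟩ := locEq F c hc s t h x hx
  exact ⟨W, hW, hxW, k, hik, e.symm⟩

def InIm (V : Opens X) (s : c.pt.1.obj (op V)) (y : X) : Prop :=
  ∃ (W : Opens X) (hW : W ≤ V), y ∈ W ∧ ∃ (i : J) (r : Sec F i W),
    leg F c i W r = rs c.pt.1 hW s

lemma inIm_rs (V W' : Opens X) (h' : W' ≤ V) (s : c.pt.1.obj (op V)) (y : X) (hy : y ∈ W') :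
    InIm F c W' (rs c.pt.1 h' s) y ↔ InIm F c V s y := by
  constructor
  · rintro ⟨W, hW, hyW, i, r, e⟩
    exact ⟨W, hW.trans h', hyW, i, r, by rw [e, rs_rs]⟩
  · rintro ⟨W, hW, hyW, i, r, e⟩
    refine ⟨W ⊓ W', inf_le_right, Opens.mem_inf.2 ⟨hyW, hy⟩, i,
      rs (F.obj i).1 inf_le_left r, ?_⟩
    rw [← leg_rs, e, rs_rs, rs_rs]

lemma locSurj (hc : IsColimit c) {V : Opens X} (s : c.pt.1.obj (op V)) (x : X) (hx : x ∈ V) :
    InIm F c V s x := by
  let H : X.Sheaf (Type u) := TopCat.sheafToType X (ULift.{u} Prop)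
  let a : c.pt ⟶ H := ObjectProperty.homMk
    (mkPropHom c.pt.1 (fun _ _ _ => True) (fun _ _ _ _ _ _ => Iff.rfl))
  let b : c.pt ⟶ H := ObjectProperty.homMk
    (mkPropHom c.pt.1 (fun V s y => InIm F c V s y)
      (fun V W h s y hy => inIm_rs F c V W h s y hy))
  have hab : a = b := by
    refine hc.hom_ext (fun j => ?_)
    apply CategoryTheory.Sheaf.hom_ext
    apply NatTrans.ext
    funext V'
    ext r
    funext y
    show ULift.up True = ULift.up (InIm F c V'.unop (leg F c j V'.unop r) y.1)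
    refine congrArg ULift.up (propext ⟨fun _ => ?_, fun _ => trivial⟩)
    exact ⟨V'.unop, le_refl _, y.2, j, r, by rw [rs_refl]⟩
  have h1 : ULift.up True = ULift.up (InIm F c V s x) :=
    congrArg (fun m : c.pt ⟶ H => m.1.app (op V) s ⟨x, hx⟩) hab
  exact (congrArg ULift.down h1).mp trivial

lemma finEq [IsDirected J (· ≤ ·)] {ι : Type*} [Fintype ι] (Wf : ι → Opens X) {V : Opens X}
    (hWV : ∀ a, Wf a ≤ V) (hcov : V ≤ ⨆ a, Wf a) {i : J} (s t : Sec F i V)
    (h : ∀ a, ∃ (k : J) (hk : i ≤ k),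
      tr F hk (Wf a) (rs (F.obj i).1 (hWV a) s) = tr F hk (Wf a) (rs (F.obj i).1 (hWV a) t)) :
    ∃ (k : J) (hk : i ≤ k), tr F hk V s = tr F hk V t := by
  classical
  have : Nonempty J := ⟨i⟩
  choose k hk e using h
  obtain ⟨K, hK⟩ := (Finset.univ.image k ∪ {i}).exists_le
  have hiK : i ≤ K := hK i (by simp)
  have hkK : ∀ a, k a ≤ K := fun a => hK (k a) (by simp)
  refine ⟨K, hiK, ?_⟩
  refine TopCat.Sheaf.eq_of_locally_eq' (F.obj K) Wf V (fun a => homOfLE (hWV a)) hcov _ _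
    (fun a => ?_)
  show rs (F.obj K).1 (hWV a) (tr F hiK V s) = rs (F.obj K).1 (hWV a) (tr F hiK V t)
  rw [tr_rs, tr_rs]
  have e1 : ∀ r : Sec F i (Wf a), tr F hiK (Wf a) r =
      tr F (hkK a) (Wf a) (tr F (hk a) (Wf a) r) := fun r => by rw [tr_tr]
  rw [e1, e1, e a]

lemma glueFin [IsDirected J (· ≤ ·)] [Nonempty J] {ι : Type*} [Fintype ι] (Wf : ι → Opens X)
    {V : Opens X} (hWV : ∀ a, Wf a ≤ V) (hcov : V ≤ ⨆ a, Wf a) (s : c.pt.1.obj (op V))
    (hloc : ∀ a, ∃ (i : J) (r : Sec F i (Wf a)), leg F c i (Wf a) r = rs c.pt.1 (hWV a) s)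
    (hov : ∀ (a b : ι) (i : J) (p q : Sec F i (Wf a ⊓ Wf b)),
      leg F c i (Wf a ⊓ Wf b) p = leg F c i (Wf a ⊓ Wf b) q →
      ∃ (k : J) (hk : i ≤ k), tr F hk (Wf a ⊓ Wf b) p = tr F hk (Wf a ⊓ Wf b) q) :
    ∃ (k : J) (r : Sec F k V), leg F c k V r = s := by
  classical
  choose i r hr using hloc
  obtain ⟨i₀, hi₀'⟩ := (Finset.univ.image i).exists_le
  have hi₀ : ∀ a, i a ≤ i₀ := fun a => hi₀' (i a) (by simp)
  have hr' : ∀ a, leg F c i₀ (Wf a) (tr F (hi₀ a) (Wf a) (r a)) = rs c.pt.1 (hWV a) s :=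
    fun a => by rw [leg_tr, hr a]
  have hpq : ∀ a b, ∃ (k : J) (hk : i₀ ≤ k),
      tr F hk (Wf a ⊓ Wf b) (rs (F.obj i₀).1 inf_le_left (tr F (hi₀ a) (Wf a) (r a))) =
      tr F hk (Wf a ⊓ Wf b) (rs (F.obj i₀).1 inf_le_right (tr F (hi₀ b) (Wf b) (r b))) := by
    intro a b
    apply hov a b i₀
    rw [← leg_rs, ← leg_rs, hr' a, hr' b, rs_rs, rs_rs]
  choose k hk e using hpq
  obtain ⟨K, hK'⟩ := (Finset.univ.image (fun ab : ι × ι => k ab.1 ab.2) ∪ {i₀}).exists_le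
  have hi₀K : i₀ ≤ K := hK' i₀ (by simp)
  have hkK : ∀ a b, k a b ≤ K := fun a b => hK' (k a b) (by
    refine Finset.mem_union_left _ (Finset.mem_image.2 ⟨(a, b), Finset.mem_univ _, rfl⟩))
  have hcompat : TopCat.Presheaf.IsCompatible (F.obj K).1 Wf
      (fun a => tr F hi₀K (Wf a) (tr F (hi₀ a) (Wf a) (r a))) := by
    intro a b
    show rs (F.obj K).1 inf_le_left (tr F hi₀K (Wf a) (tr F (hi₀ a) (Wf a) (r a))) =
      rs (F.obj K).1 inf_le_right (tr F hi₀K (Wf b) (tr F (hi₀ b) (Wf b) (r b)))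
    rw [tr_rs F hi₀K inf_le_left, tr_rs F hi₀K inf_le_right]
    have e1 : ∀ p : Sec F i₀ (Wf a ⊓ Wf b), tr F hi₀K (Wf a ⊓ Wf b) p =
        tr F (hkK a b) (Wf a ⊓ Wf b) (tr F (hk a b) (Wf a ⊓ Wf b) p) := fun p => by rw [tr_tr]
    rw [e1, e1, e a b]
  obtain ⟨R, hR, -⟩ := TopCat.Sheaf.existsUnique_gluing' (F.obj K) Wf V
    (fun a => homOfLE (hWV a)) hcov _ hcompat
  refine ⟨K, R, ?_⟩
  refine TopCat.Sheaf.eq_of_locally_eq' c.pt Wf V (fun a => homOfLE (hWV a)) hcov _ _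
    (fun a => ?_)
  show rs c.pt.1 (hWV a) (leg F c K V R) = rs c.pt.1 (hWV a) s
  have hRa : rs (F.obj K).1 (hWV a) R = tr F hi₀K (Wf a) (tr F (hi₀ a) (Wf a) (r a)) := hR a
  rw [leg_rs, hRa, leg_tr, hr' a]

lemma injEq [IsDirected J (· ≤ ·)] (hc : IsColimit c)
    (hinj : ∀ (i j : J) (h : i ⟶ j) (V : Opens X), Function.Injective ((F.map h).1.app (op V)))
    {i : J} {V : Opens X} (s t : Sec F i V) (h : leg F c i V s = leg F c i V t) : s = t := by
  have hl := fun (x : ↥V) => locEq' F c hc s t h x.1 x.2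
  choose W hW hxW k hk e using hl
  refine TopCat.Sheaf.eq_of_locally_eq' (F.obj i) W V (fun x => homOfLE (hW x)) ?_ s t
    (fun x => ?_)
  · intro y hy
    exact Opens.mem_iSup.2 ⟨⟨y, hy⟩, hxW ⟨y, hy⟩⟩
  · exact hinj i (k x) (homOfLE (hk x)) (W x) (e x)

lemma compactEq [IsDirected J (· ≤ ·)] (hc : IsColimit c) {V : Opens X}
    (hV : IsCompact (V : Set X)) {i : J} (s t : Sec F i V)
    (h : leg F c i V s = leg F c i V t) :
    ∃ (k : J) (hk : i ≤ k), tr F hk V s = tr F hk V t := by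
  have hl := fun (x : ↥V) => locEq' F c hc s t h x.1 x.2
  choose W hW hxW k hk e using hl
  obtain ⟨T, hT⟩ := hV.elim_finite_subcover (fun x : ↥V => (W x : Set X))
    (fun x => (W x).isOpen) (fun y hy => Set.mem_iUnion.2 ⟨⟨y, hy⟩, hxW ⟨y, hy⟩⟩)
  refine finEq F (fun x : {x // x ∈ T} => W x.1) (fun x => hW x.1) ?_ s t
    (fun x => ⟨k x.1, hk x.1, e x.1⟩)
  intro y hy
  obtain ⟨x, hx⟩ := Set.mem_iUnion.1 (hT hy)
  obtain ⟨hxT, hyx⟩ := Set.mem_iUnion.1 hx
  exact Opens.mem_iSup.2 ⟨⟨x, hxT⟩, hyx⟩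

noncomputable abbrev evU (U : Opens X) : X.Sheaf (Type u) ⥤ Type u :=
  TopCat.Sheaf.forget (Type u) X ⋙ (evaluation (Opens X)ᵒᵖ (Type u)).obj (op U)

lemma psi_ι (U : Opens X) (i : J) (s : Sec F i U) :
    colimit.desc (F ⋙ evU U) ((evU U).mapCocone c) (colimit.ι (F ⋙ evU U) i s) =
      leg F c i U s :=
  colimit.ι_desc_apply _ _ _

lemma psi_inj [IsDirected J (· ≤ ·)] [Nonempty J] (U : Opens X)
    (H : ∀ (i : J) (s t : Sec F i U), leg F c i U s = leg F c i U t →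
      ∃ (k : J) (hk : i ≤ k), tr F hk U s = tr F hk U t) :
    Function.Injective (colimit.desc (F ⋙ evU U) ((evU U).mapCocone c)) := by
  intro z1 z2 hz
  obtain ⟨i1, s1, rfl⟩ := Types.jointly_surjective' z1
  obtain ⟨i2, s2, rfl⟩ := Types.jointly_surjective' z2
  have hz0 : leg F c i1 U s1 = leg F c i2 U s2 :=
    (psi_ι F c U i1 s1).symm.trans (hz.trans (psi_ι F c U i2 s2))
  obtain ⟨i, h1, h2⟩ := exists_ge_ge i1 i2
  have hz' : leg F c i U (tr F h1 U s1) = leg F c i U (tr F h2 U s2) := by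
    rw [leg_tr, leg_tr, hz0]
  obtain ⟨k, hk, e⟩ := H i _ _ hz'
  rw [tr_tr, tr_tr] at e
  exact (Types.FilteredColimit.colimit_eq_iff (F ⋙ evU U)).2
    ⟨k, homOfLE (h1.trans hk), homOfLE (h2.trans hk), e⟩

lemma psi_surj (U : Opens X)
    (H : ∀ s : c.pt.1.obj (op U), ∃ (k : J) (r : Sec F k U), leg F c k U r = s) :
    Function.Surjective (colimit.desc (F ⋙ evU U) ((evU U).mapCocone c)) := by
  intro s
  obtain ⟨k, r, hr⟩ := H s
  exact ⟨colimit.ι (F ⋙ evU U) k r, (psi_ι F c U k r).trans hr⟩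

end


/-- Let X be a topological space, I a directed set, (F_i) a system of sheaves of sets on X over I with
colimit F (in sheaves), U ⊆ X open, and Ψ : colim_i F_i(U) → F(U) the canonical map. (1) If all
transition maps F_i → F_{i'} are injective (on all sections) then Ψ is injective. (2)
Quasi-compactness of U alone already makes Ψ injective. (3) When U is quasi-compact and every
transition map is injective, Ψ is bijective. (4) If every open covering of U can be refined by a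
finite open covering U = U_1 ∪ … ∪ U_m with all U_j ∩ U_{j'} quasi-compact, then Ψ is bijective. -/
theorem result {X : TopCat.{u}} {J : Type u} [Preorder J] [Nonempty J] [IsDirected J (· ≤ ·)]
    (F : J ⥤ X.Sheaf (Type u)) (c : Cocone F) (hc : IsColimit c) (U : Opens X) :
    let ev := TopCat.Sheaf.forget (Type u) X ⋙ (evaluation (Opens X)ᵒᵖ (Type u)).obj (op U)
    let Ψ : colimit (F ⋙ ev) → ev.obj c.pt := colimit.desc (F ⋙ ev) (ev.mapCocone c)
    ((∀ (i j : J) (h : i ⟶ j) (V : Opens X), Function.Injective ((F.map h).1.app (op V))) → Function.Injective Ψ) ∧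
    (IsCompact (U : Set X) → Function.Injective Ψ) ∧
    (IsCompact (U : Set X) → (∀ (i j : J) (h : i ⟶ j) (V : Opens X), Function.Injective ((F.map h).1.app (op V))) →
      Function.Bijective Ψ) ∧
    ((∀ 𝒱 : Set (Opens X), (⨆ V ∈ 𝒱, V) = U →
        ∃ (m : ℕ) (W : Fin m → Opens X), (∀ j, ∃ V ∈ 𝒱, W j ≤ V) ∧ (⨆ j, W j) = U ∧
          ∀ j j', IsCompact ((W j ⊓ W j' : Opens X) : Set X)) →
      Function.Bijective Ψ) := by
  intro ev Ψ
  have hinj1 : (∀ (i j : J) (h : i ⟶ j) (V : Opens X),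
      Function.Injective ((F.map h).1.app (op V))) → Function.Injective Ψ := fun hinj =>
    psi_inj F c U (fun i s t h => ⟨i, le_refl i, by rw [injEq F c hc hinj s t h]⟩)
  refine ⟨hinj1, fun hU => ?_, fun hU hinj => ⟨hinj1 hinj, ?_⟩, fun href => ⟨?_, ?_⟩⟩
  · exact psi_inj F c U (fun i s t h => compactEq F c hc hU s t h)
  · apply psi_surj F c U
    intro s
    have hl := fun (x : ↥U) => locSurj F c hc s x.1 x.2
    choose W hW hxW i r hr using hl
    obtain ⟨T, hT⟩ := hU.elim_finite_subcover (fun x : ↥U => (W x : Set X))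
      (fun x => (W x).isOpen) (fun y hy => Set.mem_iUnion.2 ⟨⟨y, hy⟩, hxW ⟨y, hy⟩⟩)
    refine glueFin F c (fun x : {x // x ∈ T} => W x.1) (fun x => hW x.1) ?_ s
      (fun x => ⟨i x.1, r x.1, hr x.1⟩)
      (fun a b i p q h => ⟨i, le_refl i, by rw [injEq F c hc hinj p q h]⟩)
    intro y hy
    obtain ⟨x, hx⟩ := Set.mem_iUnion.1 (hT hy)
    obtain ⟨hxT, hyx⟩ := Set.mem_iUnion.1 hx
    exact Opens.mem_iSup.2 ⟨⟨x, hxT⟩, hyx⟩
  · apply psi_inj F c U
    intro i s t h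
    have hl := fun (x : ↥U) => locEq' F c hc s t h x.1 x.2
    choose W hW hxW k hk e using hl
    have hsup : (⨆ V ∈ Set.range W, V) = U := by
      apply le_antisymm
      · refine iSup₂_le fun V hV => ?_
        obtain ⟨x, rfl⟩ := hV
        exact hW x
      · intro y hy
        refine Opens.mem_iSup.2 ⟨W ⟨y, hy⟩, ?_⟩
        exact Opens.mem_iSup.2 ⟨⟨⟨y, hy⟩, rfl⟩, hxW ⟨y, hy⟩⟩
    obtain ⟨m, Wf, hWf, hsupf, -⟩ := href (Set.range W) hsup
    choose V hV hWfV using hWf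
    choose xj hxj using hV
    have hWfW : ∀ j, Wf j ≤ W (xj j) := fun j => (hWfV j).trans (hxj j).ge
    refine finEq F Wf (fun j => (hWfW j).trans (hW (xj j))) hsupf.ge s t (fun j => ?_)
    exact ⟨k (xj j), hk (xj j),
      tr_eq_restrict F (hk (xj j)) (hW (xj j)) (hWfW j) s t (e (xj j))⟩
  · apply psi_surj F c U
    intro s
    have hl := fun (x : ↥U) => locSurj F c hc s x.1 x.2
    choose W hW hxW i r hr using hl
    have hsup : (⨆ V ∈ Set.range W, V) = U := by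
      apply le_antisymm
      · refine iSup₂_le fun V hV => ?_
        obtain ⟨x, rfl⟩ := hV
        exact hW x
      · intro y hy
        refine Opens.mem_iSup.2 ⟨W ⟨y, hy⟩, ?_⟩
        exact Opens.mem_iSup.2 ⟨⟨⟨y, hy⟩, rfl⟩, hxW ⟨y, hy⟩⟩
    obtain ⟨m, Wf, hWf, hsupf, hcpt⟩ := href (Set.range W) hsup
    choose V hV hWfV using hWf
    choose xj hxj using hV
    have hWfW : ∀ j, Wf j ≤ W (xj j) := fun j => (hWfV j).trans (hxj j).ge
    refine glueFin F c Wf (fun j => (hWfW j).trans (hW (xj j))) hsupf.ge s (fun j => ?_)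
      (fun a b i p q h => compactEq F c hc (hcpt a b) p q h)
    refine ⟨i (xj j), rs (F.obj (i (xj j))).1 (hWfW j) (r (xj j)), ?_⟩
    rw [← leg_rs, hr (xj j), rs_rs]

end Groth.Agent.S7575
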