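import Groth.Statements.S7577
import Mathlib
-- import your own Groth.Agent.* helpers here

set_option autoImplicit false
universe u
open PtTop

namespace Groth.Agent.S7577


open TopologicalSpace

section
variable {X : Type u} [TopologicalSpace X] [QuasiSober X] [T0Space X]

noncomputable def gp (Z : IrreducibleCloseds X) : X := Z.isIrreducible.genericPoint

lemma closure_gp (Z : IrreducibleCloseds X) : closure {gp Z} = (Z : Set X) :=
  Z.isIrreducible.closure_genericPoint Z.isClosed

lemma le_iff (Z Z' : IrreducibleCloseds X) : Z ≤ Z' ↔ gp Z' ⤳ gp Z := by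
  rw [specializes_iff_closure_subset, closure_gp, closure_gp]
  exact SetLike.coe_subset_coe.symm

lemma gp_injective : Function.Injective (gp (X := X)) := by
  intro Z Z' h
  apply SetLike.coe_injective
  rw [← closure_gp Z, ← closure_gp Z', h]

def mkC (x : X) : IrreducibleCloseds X :=
  ⟨closure {x}, isIrreducible_singleton.closure, isClosed_closure⟩

lemma gp_mkC (x : X) : gp (mkC x) = x := by
  have h1 : IsGenericPoint (gp (mkC x)) (closure {x}) := by
    show closure {gp (mkC x)} = closure {x}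
    exact closure_gp (mkC x)
  exact h1.eq isGenericPoint_closure

lemma lt_iff (Z Z' : IrreducibleCloseds X) : Z < Z' ↔ gp Z' ⤳ gp Z ∧ gp Z' ≠ gp Z := by
  rw [lt_iff_le_and_ne, le_iff]
  constructor
  · rintro ⟨h1, h2⟩; exact ⟨h1, fun h => h2 (gp_injective h.symm)⟩
  · rintro ⟨h1, h2⟩; exact ⟨h1, fun h => h2 (by rw [h])⟩

variable (δ : X → ℤ)

lemma D_strictMono (hδ : PtTop.IsDimensionFunction δ) :
    StrictMono (fun Z : IrreducibleCloseds X => δ (gp Z)) := by
  intro Z Z' h
  obtain ⟨h1, h2⟩ := (lt_iff Z Z').1 h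
  exact hδ.1 _ _ h1 h2

lemma D_lt (hδ : PtTop.IsDimensionFunction δ) {Z Z' : IrreducibleCloseds X} (h : Z < Z') :
    δ (gp Z) < δ (gp Z') := D_strictMono δ hδ h

lemma D_le (hδ : PtTop.IsDimensionFunction δ) {Z Z' : IrreducibleCloseds X} (h : Z ≤ Z') :
    δ (gp Z) ≤ δ (gp Z') := (D_strictMono δ hδ).monotone h

lemma D_covBy (hδ : PtTop.IsDimensionFunction δ) {Z Z' : IrreducibleCloseds X} (h : Z ⋖ Z') :
    δ (gp Z') = δ (gp Z) + 1 := by
  apply hδ.2
  obtain ⟨h1, h2⟩ := (lt_iff Z Z').1 h.lt
  refine ⟨h1, h2, fun z hz1 hz2 => ?_⟩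
  have hW1 : Z ≤ mkC z := by rw [le_iff, gp_mkC]; exact hz2
  have hW2 : mkC z ≤ Z' := by rw [le_iff, gp_mkC]; exact hz1
  by_cases hZW : Z = mkC z
  · exact Or.inr (by rw [hZW, gp_mkC])
  · left
    have hlt : Z < mkC z := lt_of_le_of_ne hW1 hZW
    by_contra hne
    have hlt2 : mkC z < Z' := lt_of_le_of_ne hW2 (fun h' => hne (by rw [← h', gp_mkC]))
    exact h.2 hlt hlt2

lemma length_le (hδ : PtTop.IsDimensionFunction δ) (s : LTSeries (IrreducibleCloseds X)) :
    δ (gp s.head) + s.length ≤ δ (gp s.last) := by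
  have := LTSeries.head_add_length_le_int (s.map _ (D_strictMono δ hδ))
  simpa using this

lemma exists_chain (hδ : PtTop.IsDimensionFunction δ) :
    ∀ (n : ℕ) (Y Y' : IrreducibleCloseds X), Y ≤ Y' → (δ (gp Y') - δ (gp Y)).toNat = n →
      ∃ s : LTSeries (IrreducibleCloseds X), s.head = Y ∧ s.last = Y' ∧
        (s.length : ℤ) = δ (gp Y') - δ (gp Y) := by
  intro n
  induction n using Nat.strong_induction_on with
  | _ n ih =>
    intro Y Y' hle hn
    by_cases hYY : Y = Y'
    · refine ⟨RelSeries.singleton _ Y, rfl, ?_, ?_⟩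
      · exact hYY
      · rw [← hYY]; simp
    · have hlt : Y < Y' := lt_of_le_of_ne hle hYY
      have hex : ∃ m, ∃ W : IrreducibleCloseds X, Y < W ∧ W ≤ Y' ∧
          (δ (gp W) - δ (gp Y)).toNat = m := ⟨_, Y', hlt, le_rfl, rfl⟩
      classical
      obtain ⟨W, hYW, hWY', hm⟩ := Nat.find_spec hex
      have hmin : ∀ W' : IrreducibleCloseds X, Y < W' → W' ≤ Y' → δ (gp W) ≤ δ (gp W') := by
        intro W' h1 h2
        have := Nat.find_min' hex ⟨W', h1, h2, rfl⟩
        rw [← hm] at this
        have h3 := D_lt δ hδ h1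
        have h4 := D_lt δ hδ hYW
        omega
      have hcov : Y ⋖ W := by
        refine ⟨hYW, fun c hc1 hc2 => ?_⟩
        have h5 := hmin c hc1 (hc2.le.trans hWY')
        have h6 := D_lt δ hδ hc2
        omega
      have hD := D_covBy δ hδ hcov
      have hlt' := D_lt δ hδ hlt
      have hle' := D_le δ hδ hWY'
      obtain ⟨s, hs1, hs2, hs3⟩ := ih (δ (gp Y') - δ (gp W)).toNat (by omega) W Y' hWY' rfl
      refine ⟨s.cons Y (by rw [hs1]; exact hYW), ?_, ?_, ?_⟩
      · simp
      · rw [RelSeries.last_cons]; exact hs2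
      · rw [RelSeries.cons_length]; push_cast; omega

lemma codim_eq (hδ : PtTop.IsDimensionFunction δ) (Y Y' : IrreducibleCloseds X) (hle : Y ≤ Y') :
    PtTop.codim Y (Y' : Set X) = ((δ (gp Y') - δ (gp Y)).toNat : ℕ∞) := by
  apply le_antisymm
  · unfold PtTop.codim
    apply iSup_le; intro s; apply iSup_le; rintro ⟨hs1, hs2⟩
    have h1 := length_le δ hδ s
    have h2 : s.last ≤ Y' := SetLike.coe_subset_coe.1 hs2
    have h3 := D_le δ hδ h2
    rw [hs1] at h1
    have : s.length ≤ (δ (gp Y') - δ (gp Y)).toNat := by omega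
    exact_mod_cast this
  · obtain ⟨s, hs1, hs2, hs3⟩ := exists_chain δ hδ _ Y Y' hle rfl
    unfold PtTop.codim
    have : ((δ (gp Y') - δ (gp Y)).toNat : ℕ∞) = (s.length : ℕ∞) := by
      congr 1; omega
    rw [this]
    exact le_iSup₂_of_le s ⟨hs1, by simp [hs2]⟩ le_rfl

end


/-- Let X be a sober topological space and δ : X → ℤ a dimension function. Then X is catenary, and for
any specialization x ⤳ y the codimension of the closure of {y} in the closure of {x} equals δ(x) −
δ(y). -/
theorem result {X : Type u} [TopologicalSpace X] [QuasiSober X] [T0Space X]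
    (δ : X → ℤ) (hδ : PtTop.IsDimensionFunction δ) :
    PtTop.IsCatenarySpace X ∧
    ∀ x y : X, x ⤳ y →
      PtTop.codim (⟨closure {y}, isIrreducible_singleton.closure, isClosed_closure⟩ : TopologicalSpace.IrreducibleCloseds X)
        (closure {x}) = ((δ x - δ y).toNat : ℕ∞) := by
  refine ⟨?_, ?_⟩
  · intro T T' hTT'
    refine ⟨?_, ?_⟩
    · rw [codim_eq δ hδ T T' hTT']; exact ENat.coe_ne_top _
    · intro s hs1 hs2 hcov
      rw [codim_eq δ hδ T T' hTT']
      have key : ∀ i : Fin (s.length + 1), δ (gp (s i)) = δ (gp s.head) + ((i : ℕ) : ℤ) := by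
        intro i
        induction i using Fin.induction with
        | zero => simp [RelSeries.head]
        | succ i ih =>
          have := D_covBy δ hδ (hcov i)
          rw [this, ih]
          simp only [Fin.val_succ, Fin.val_castSucc]
          push_cast; ring
      have hlast := key (Fin.last _)
      simp only [Fin.val_last] at hlast
      have h1 : δ (gp T') - δ (gp T) = s.length := by
        rw [← hs1, ← hs2]
        show δ (gp (s (Fin.last _))) - _ = _
        rw [hlast]; ring
      rw [h1]; simp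
  · intro x y hxy
    have hle : mkC y ≤ mkC x := by rw [le_iff, gp_mkC, gp_mkC]; exact hxy
    have := codim_eq δ hδ (mkC y) (mkC x) hle
    rw [gp_mkC, gp_mkC] at this
    exact this

end Groth.Agent.S7577
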