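import Groth.Statements.S7578
import Mathlib
import Groth.Agent.S7577
-- import your own Groth.Agent.* helpers here

set_option autoImplicit false
universe u
open PtTop

namespace Groth.Agent.S7578


open TopologicalSpace Topology

lemma isClosed_of_stable {V : Type*} [TopologicalSpace V] [NoetherianSpace V] [QuasiSober V]
    (A : Set V) (hA : ∀ a b : V, a ⤳ b → (a ∈ A ↔ b ∈ A)) : IsClosed A := by
  have hfin : {Z ∈ irreducibleComponents V | (Z ∩ A).Nonempty}.Finite :=
    NoetherianSpace.finite_irreducibleComponents.subset (fun Z hZ => hZ.1)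
  have hEq : A = ⋃₀ {Z ∈ irreducibleComponents V | (Z ∩ A).Nonempty} := by
    ext b
    constructor
    · intro hb
      exact ⟨irreducibleComponent b, ⟨irreducibleComponent_mem_irreducibleComponents b,
        ⟨b, mem_irreducibleComponent, hb⟩⟩, mem_irreducibleComponent⟩
    · rintro ⟨Z, ⟨hZ, ⟨a, haZ, haA⟩⟩, hbZ⟩
      have hirr : IsIrreducible Z := hZ.1
      have hcl : IsClosed Z := isClosed_of_mem_irreducibleComponents Z hZ
      obtain ⟨ξ, hξ⟩ := QuasiSober.sober hirr hcl
      have h1 : ξ ⤳ a := hξ.specializes haZ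
      have h2 : ξ ⤳ b := hξ.specializes hbZ
      exact (hA ξ b h2).1 ((hA ξ a h1).2 haA)
  rw [hEq, Set.sUnion_eq_biUnion]
  exact hfin.isClosed_biUnion (fun Z hZ => isClosed_of_mem_irreducibleComponents Z hZ.1)

lemma locConst_of_spec {V : Type*} [TopologicalSpace V] [NoetherianSpace V] [QuasiSober V]
    {Y : Type*} (g : V → Y) (hg : ∀ a b : V, a ⤳ b → g a = g b) : IsLocallyConstant g := by
  intro s
  rw [← isClosed_compl_iff]
  apply isClosed_of_stable
  intro a b hab
  simp only [Set.mem_compl_iff, Set.mem_preimage, hg a b hab]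


/-- Let X be a topological space which is locally Noetherian (every point has a Noetherian
neighbourhood) and sober, and let δ, δ' be two dimension functions on X. Then δ − δ' is locally
constant. -/
theorem result {X : Type u} [TopologicalSpace X] [QuasiSober X] [T0Space X]
    (hX : ∀ x : X, ∃ E ∈ nhds x, TopologicalSpace.NoetherianSpace E)
    (δ δ' : X → ℤ) (hδ : PtTop.IsDimensionFunction δ) (hδ' : PtTop.IsDimensionFunction δ') :
    IsLocallyConstant (fun x => δ x - δ' x) := by
  have hspec : ∀ ξ x : X, ξ ⤳ x → δ ξ - δ' ξ = δ x - δ' x := by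
    intro ξ x hξx
    by_cases hne : ξ = x
    · rw [hne]
    · have h1 := (Groth.Agent.S7577.result δ hδ).2 ξ x hξx
      have h2 := (Groth.Agent.S7577.result δ' hδ').2 ξ x hξx
      rw [h1] at h2
      have h3 : (δ ξ - δ x).toNat = (δ' ξ - δ' x).toNat := by exact_mod_cast h2
      have h4 := hδ.1 ξ x hξx hne
      have h5 := hδ'.1 ξ x hξx hne
      omega
  rw [IsLocallyConstant.iff_eventually_eq]
  intro x
  obtain ⟨E, hE, hEN⟩ := hX x
  have hc := (noetherianSpace_set_iff E).1 hEN
  have hVN : NoetherianSpace (interior E) :=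
    (noetherianSpace_set_iff (interior E)).2 (fun t ht => hc t (ht.trans interior_subset))
  have hVS : QuasiSober (interior E) := (isOpen_interior.isOpenEmbedding_subtypeVal).quasiSober
  have hxV : x ∈ interior E := mem_interior_iff_mem_nhds.2 hE
  have hloc := locConst_of_spec (V := interior E) (fun a => δ a.1 - δ' a.1)
    (fun a b hab => hspec a.1 b.1 ((subtype_specializes_iff a b).1 hab))
  have hev := (IsLocallyConstant.iff_eventually_eq _).1 hloc ⟨x, hxV⟩
  have hmap : Filter.map Subtype.val (𝓝 (⟨x, hxV⟩ : interior E)) = 𝓝 x :=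
    (isOpen_interior.isOpenEmbedding_subtypeVal).map_nhds_eq ⟨x, hxV⟩
  rw [← hmap, Filter.eventually_map]
  exact hev

end Groth.Agent.S7578
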