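import Groth.Statements.S7579
import Mathlib
-- import your own Groth.Agent.* helpers here

set_option autoImplicit false
universe u
open SpecSp

namespace Groth.Agent.S7579

/-- Let X be a spectral space. Then X with its constructible topology is Hausdorff and totally
disconnected. The published statement also asserts that the constructible topology is quasi-compact;
this row states the Hausdorff and totally disconnected parts. -/
theorem result (X : Type u) [TopologicalSpace X] [SpectralSpace X] :
    T2Space (WithConstructibleTopology X) ∧ TotallyDisconnectedSpace (WithConstructibleTopology X) := by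
  have hclopen : ∀ V : Set X, IsOpen V → IsCompact V →
      IsClopen (WithTopology.ofTopology ⁻¹' V : Set (WithConstructibleTopology X)) := by
    intro V hVo hVc
    constructor
    · rw [← isOpen_compl_iff, WithConstructibleTopology.isOpen_iff]
      exact IsCompact.isOpen_constructibleTopology_of_isClosed (s := Vᶜ)
        (by rwa [compl_compl]) hVo.isClosed_compl
    · rw [WithConstructibleTopology.isOpen_iff]
      exact IsCompact.isOpen_constructibleTopology_of_isOpen hVc hVo
  have hts : TotallySeparatedSpace (WithConstructibleTopology X) := by
    rw [totallySeparatedSpace_iff_exists_isClopen]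
    intro x y hxy
    have hne : x.ofTopology ≠ y.ofTopology :=
      fun h => hxy (WithTopology.ofTopology_injective _ h)
    obtain ⟨U, hU, hxor⟩ := exists_isOpen_xor_mem hne
    rcases hxor with ⟨hxU, hyU⟩ | ⟨hyU, hxU⟩
    · obtain ⟨V, ⟨hVo, hVc⟩, hxV, hVU⟩ :=
        (PrespectralSpace.isTopologicalBasis (X := X)).exists_subset_of_mem_open hxU hU
      exact ⟨_, hclopen V hVo hVc, hxV, fun hyV => hyU (hVU hyV)⟩
    · obtain ⟨V, ⟨hVo, hVc⟩, hyV, hVU⟩ :=
        (PrespectralSpace.isTopologicalBasis (X := X)).exists_subset_of_mem_open hyU hU
      refine ⟨_, (hclopen V hVo hVc).compl, fun hxV => hxU (hVU hxV), ?_⟩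
      rw [compl_compl]
      exact hyV
  exact ⟨inferInstance, inferInstance⟩

end Groth.Agent.S7579
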