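import Groth.Statements.S7581
import Mathlib
-- import your own Groth.Agent.* helpers here

set_option autoImplicit false
universe u
open PtTop

namespace Groth.Agent.S7581


open TopologicalSpace

section
variable {X : Type u} [TopologicalSpace X]

lemma le_codim {Y Y' : IrreducibleCloseds X} (s : LTSeries (IrreducibleCloseds X))
    (h1 : s.head = Y) (h2 : s.last ≤ Y') :
    (s.length : ℕ∞) ≤ PtTop.codim Y (Y' : Set X) := by
  unfold PtTop.codim
  exact le_iSup₂_of_le s ⟨h1, SetLike.coe_subset_coe.2 h2⟩ le_rfl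

lemma codim_le {Y Y' : IrreducibleCloseds X} (n : ℕ∞)
    (h : ∀ s : LTSeries (IrreducibleCloseds X), s.head = Y → s.last ≤ Y' → (s.length : ℕ∞) ≤ n) :
    PtTop.codim Y (Y' : Set X) ≤ n := by
  unfold PtTop.codim
  apply iSup_le; intro s; apply iSup_le; rintro ⟨hs1, hs2⟩
  exact h s hs1 (SetLike.coe_subset_coe.1 hs2)

lemma exists_max {Y Y' : IrreducibleCloseds X} (hle : Y ≤ Y')
    (hfin : PtTop.codim Y (Y' : Set X) ≠ ⊤) :
    ∃ s : LTSeries (IrreducibleCloseds X), s.head = Y ∧ s.last = Y' ∧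
      (s.length : ℕ∞) = PtTop.codim Y (Y' : Set X) := by
  obtain ⟨n, hn⟩ := ENat.ne_top_iff_exists.1 hfin
  have h1 : ∃ s : LTSeries (IrreducibleCloseds X), s.head = Y ∧ s.last ≤ Y' ∧ n ≤ s.length := by
    by_contra hcon
    push_neg at hcon
    have h0 := hcon (RelSeries.singleton _ Y) rfl hle
    have hle' : PtTop.codim Y (Y' : Set X) ≤ ((n - 1 : ℕ) : ℕ∞) := by
      apply codim_le
      intro s hs1 hs2
      have := hcon s hs1 hs2
      exact_mod_cast (by omega : s.length ≤ n - 1)
    rw [← hn] at hle'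
    have : n ≤ n - 1 := by exact_mod_cast hle'
    simp at h0
    omega
  obtain ⟨s, hs1, hs2, hs3⟩ := h1
  have hs4 : (s.length : ℕ∞) ≤ n := by rw [hn]; exact le_codim s hs1 hs2
  have hs5 : s.length = n := le_antisymm (by exact_mod_cast hs4) hs3
  refine ⟨s, hs1, ?_, by rw [← hn, hs5]⟩
  by_contra hne
  have hlt : s.last < Y' := lt_of_le_of_ne hs2 hne
  have := le_codim (Y := Y) (Y' := Y') (s.snoc Y' hlt) (by simp [hs1]) (by simp)
  rw [← hn, RelSeries.snoc_length] at this
  have : s.length + 1 ≤ n := by exact_mod_cast this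
  omega

lemma sat_of_max {Y Y' : IrreducibleCloseds X} (s : LTSeries (IrreducibleCloseds X))
    (hs1 : s.head = Y) (hs2 : s.last ≤ Y')
    (hmax : (s.length : ℕ∞) = PtTop.codim Y (Y' : Set X)) (i : Fin s.length) :
    s i.castSucc ⋖ s i.succ := by
  by_contra hnc
  have hlt : s i.castSucc < s i.succ := s.step i
  obtain ⟨c, hc1, hc2⟩ := (not_covBy_iff hlt).1 hnc
  obtain ⟨t, ht1, ht2, ht3⟩ : ∃ t : LTSeries (IrreducibleCloseds X),
      t.head = Y ∧ t.last ≤ Y' ∧ t.length = s.length + 1 := by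
    refine ⟨((s.take i.castSucc).snoc c (by rw [RelSeries.last_take]; exact hc1)).append
      (s.drop i.succ) (by rw [RelSeries.last_snoc, RelSeries.head_drop]; exact hc2), ?_, ?_, ?_⟩
    · simp [hs1]
    · simp [hs2]
    · have := i.isLt
      simp only [RelSeries.append_length, RelSeries.snoc_length, RelSeries.take_length,
        RelSeries.drop_length, Fin.val_castSucc, Fin.val_succ]
      omega
  have := le_codim t ht1 ht2
  rw [ht3, ← hmax] at this
  have : s.length + 1 ≤ s.length := by exact_mod_cast this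
  omega

lemma sat_smash (p q : LTSeries (IrreducibleCloseds X)) (h : p.last = q.head)
    (hp : ∀ i : Fin p.length, p i.castSucc ⋖ p i.succ)
    (hq : ∀ i : Fin q.length, q i.castSucc ⋖ q i.succ) :
    ∀ i : Fin (p.smash q h).length, (p.smash q h) i.castSucc ⋖ (p.smash q h) i.succ := by
  have : ∀ i : Fin (p.length + q.length),
      (p.smash q h) i.castSucc ⋖ (p.smash q h) i.succ := by
    intro i
    induction i using Fin.addCases with
    | left j => rw [RelSeries.smash_castAdd, RelSeries.smash_succ_castAdd]; exact hp j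
    | right j => rw [RelSeries.smash_natAdd, RelSeries.smash_succ_natAdd]; exact hq j
  intro i
  exact this i

lemma additive_of_cat (hcat : PtTop.IsCatenarySpace X) (Y Y' Y'' : IrreducibleCloseds X)
    (h1 : Y ≤ Y') (h2 : Y' ≤ Y'') :
    PtTop.codim Y (Y'' : Set X) = PtTop.codim Y (Y' : Set X) + PtTop.codim Y' (Y'' : Set X) := by
  obtain ⟨p, hp1, hp2, hp3⟩ := exists_max h1 (hcat Y Y' h1).1
  obtain ⟨q, hq1, hq2, hq3⟩ := exists_max h2 (hcat Y' Y'' h2).1
  have hpq : p.last = q.head := by rw [hp2, hq1]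
  have hsat := sat_smash p q hpq (sat_of_max p hp1 hp2.le hp3) (sat_of_max q hq1 hq2.le hq3)
  have := (hcat Y Y'' (h1.trans h2)).2 (p.smash q hpq) (by simp [hp1]) (by simp [hq2]) hsat
  rw [← this, ← hp3, ← hq3, RelSeries.smash_length, Nat.cast_add]

lemma codim_self
    (hfin : ∀ Y Y' : IrreducibleCloseds X, Y ≤ Y' → PtTop.codim Y (Y' : Set X) ≠ ⊤)
    (hadd : ∀ Y Y' Y'' : IrreducibleCloseds X, Y ≤ Y' → Y' ≤ Y'' →
      PtTop.codim Y (Y'' : Set X) = PtTop.codim Y (Y' : Set X) + PtTop.codim Y' (Y'' : Set X))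
    (Y : IrreducibleCloseds X) : PtTop.codim Y (Y : Set X) = 0 := by
  have h := hadd Y Y Y le_rfl le_rfl
  obtain ⟨n, hn⟩ := ENat.ne_top_iff_exists.1 (hfin Y Y le_rfl)
  rw [← hn] at h ⊢
  have h' : n = n + n := by exact_mod_cast h
  have : n = 0 := by omega
  simp [this]

lemma codim_covBy {Y Y' : IrreducibleCloseds X} (h : Y ⋖ Y') :
    PtTop.codim Y (Y' : Set X) = 1 := by
  apply le_antisymm
  · apply codim_le
    intro s hs1 hs2
    by_contra hlen
    have hlen' : 1 < s.length := by
      by_contra h'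
      exact hlen (by exact_mod_cast (by omega : s.length ≤ 1))
    have h01 : s ⟨0, by omega⟩ < s ⟨1, by omega⟩ := s.strictMono (Fin.mk_lt_mk.2 (by omega))
    have h1l : s ⟨1, by omega⟩ < s (Fin.last _) := s.strictMono (Fin.lt_def.2 hlen')
    have e0 : s ⟨0, by omega⟩ = Y := hs1
    rw [e0] at h01
    exact h.2 h01 (lt_of_lt_of_le h1l hs2)
  · have := le_codim (Y := Y) (Y' := Y') ((RelSeries.singleton _ Y).snoc Y' h.lt) (by simp) (by simp)
    simpa using this

lemma cat_of_additive
    (hfin : ∀ Y Y' : IrreducibleCloseds X, Y ≤ Y' → PtTop.codim Y (Y' : Set X) ≠ ⊤)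
    (hadd : ∀ Y Y' Y'' : IrreducibleCloseds X, Y ≤ Y' → Y' ≤ Y'' →
      PtTop.codim Y (Y'' : Set X) = PtTop.codim Y (Y' : Set X) + PtTop.codim Y' (Y'' : Set X)) :
    PtTop.IsCatenarySpace X := by
  intro T T' hTT'
  refine ⟨hfin T T' hTT', ?_⟩
  intro s hs1 hs2 hcov
  have key : ∀ i : Fin (s.length + 1),
      PtTop.codim s.head ((s i : IrreducibleCloseds X) : Set X) = ((i : ℕ) : ℕ∞) := by
    intro i
    induction i using Fin.induction with
    | zero =>
      simp only [Fin.val_zero, Nat.cast_zero]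
      exact codim_self hfin hadd s.head
    | succ i ih =>
      rw [hadd s.head (s i.castSucc) (s i.succ) (s.head_le _) (hcov i).le, ih,
        codim_covBy (hcov i)]
      simp only [Fin.val_succ, Fin.val_castSucc, Nat.cast_add, Nat.cast_one]
  have := key (Fin.last _)
  rw [← hs1, ← hs2]
  simp only [Fin.val_last] at this
  exact this.symm

end


/-- Let X be a topological space. Then X is catenary if and only if for every pair of irreducible closed
subsets Y ⊆ Y' the codimension codim(Y, Y') is finite and for every triple Y ⊆ Y' ⊆ Y'' of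
irreducible closed subsets codim(Y, Y'') = codim(Y, Y') + codim(Y', Y''). -/
theorem result (X : Type u) [TopologicalSpace X] :
    PtTop.IsCatenarySpace X ↔
      (∀ Y Y' : TopologicalSpace.IrreducibleCloseds X, Y ≤ Y' → PtTop.codim Y (Y' : Set X) ≠ ⊤) ∧
      (∀ Y Y' Y'' : TopologicalSpace.IrreducibleCloseds X, Y ≤ Y' → Y' ≤ Y'' →
        PtTop.codim Y (Y'' : Set X) = PtTop.codim Y (Y' : Set X) + PtTop.codim Y' (Y'' : Set X)) := by
  constructor
  · intro hcat
    exact ⟨fun Y Y' h => (hcat Y Y' h).1,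
      fun Y Y' Y'' h1 h2 => additive_of_cat hcat Y Y' Y'' h1 h2⟩
  · rintro ⟨hfin, hadd⟩
    exact cat_of_additive hfin hadd

end Groth.Agent.S7581
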