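import Groth.Statements.S7582
import Mathlib
-- import your own Groth.Agent.* helpers here

set_option autoImplicit false
universe u
open PtTop

namespace Groth.Agent.S7582

open TopologicalSpace

section

variable {X : Type u} [TopologicalSpace X]

/-- carrier of a point of the soberification -/
def car (Z : PtTop.Sob X) : Set X := IrreducibleCloseds.carrier Z

lemma car_irr (Z : PtTop.Sob X) : IsIrreducible (car Z) :=
  IrreducibleCloseds.isIrreducible' Z

lemma car_closed (Z : PtTop.Sob X) : IsClosed (car Z) := IrreducibleCloseds.isClosed' Z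

lemma car_ext {Z Z' : PtTop.Sob X} (h : car Z = car Z') : Z = Z' :=
  IrreducibleCloseds.ext (s := show IrreducibleCloseds X from Z)
    (t := show IrreducibleCloseds X from Z') h

/-- the open subset of the soberification attached to a subset of `X` -/
def O (U : Set X) : Set (PtTop.Sob X) := {Z | (car Z ∩ U).Nonempty}

lemma isOpen_O (U : Opens X) : IsOpen (O (U : Set X)) :=
  TopologicalSpace.isOpen_generateFrom_of_mem ⟨U, rfl⟩

lemma isOpen_iff (S : Set (PtTop.Sob X)) : IsOpen S ↔ ∃ U : Opens X, S = O (U : Set X) := by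
  constructor
  · intro h
    have h' : TopologicalSpace.GenerateOpen
        {S : Set (IrreducibleCloseds X) | ∃ U : Opens X,
          S = {Z : IrreducibleCloseds X | ((Z : Set X) ∩ (U : Set X)).Nonempty}} S := h
    clear h
    induction h' with
    | basic s hs => exact hs
    | univ =>
      refine ⟨⊤, ?_⟩
      ext Z
      simp only [Set.mem_univ, true_iff]
      obtain ⟨x, hx⟩ := (car_irr Z).nonempty
      exact ⟨x, hx, trivial⟩
    | inter s t _ _ ihs iht =>
      obtain ⟨U, rfl⟩ := ihs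
      obtain ⟨V, rfl⟩ := iht
      refine ⟨U ⊓ V, ?_⟩
      ext Z
      constructor
      · rintro ⟨hU, hV⟩
        exact (car_irr Z).2 U V U.isOpen V.isOpen hU hV
      · rintro ⟨x, hxZ, hxUV⟩
        exact ⟨⟨x, hxZ, (Opens.mem_inf.mp hxUV).1⟩, ⟨x, hxZ, (Opens.mem_inf.mp hxUV).2⟩⟩
    | sUnion K _ ih =>
      choose U hU using ih
      refine ⟨⨆ (s : Set (IrreducibleCloseds X)) (hs : s ∈ K), U s hs, ?_⟩
      ext Z
      constructor
      · rintro ⟨s, hs, hZ⟩
        obtain ⟨x, hxZ, hxU⟩ := (Set.ext_iff.mp (hU s hs) Z).mp hZ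
        exact ⟨x, hxZ, Opens.mem_iSup.mpr ⟨s, Opens.mem_iSup.mpr ⟨hs, hxU⟩⟩⟩
      · rintro ⟨x, hxZ, hxW⟩
        obtain ⟨s, hx⟩ := Opens.mem_iSup.mp hxW
        obtain ⟨hs, hx'⟩ := Opens.mem_iSup.mp hx
        exact ⟨s, hs, (Set.ext_iff.mp (hU s hs) Z).mpr ⟨x, hxZ, hx'⟩⟩
  · rintro ⟨U, rfl⟩
    exact isOpen_O U

lemma preimage_O (U : Set X) (hU : IsOpen U) : PtTop.toSob X ⁻¹' O U = U := by
  ext x
  constructor
  · rintro ⟨y, hy, hyU⟩
    have hy' : y ∈ closure ({x} : Set X) := hy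
    obtain ⟨z, hzU, hz⟩ := mem_closure_iff.mp hy' U hU hyU
    rw [Set.mem_singleton_iff] at hz
    rwa [hz] at hzU
  · intro hx
    exact ⟨x, subset_closure (Set.mem_singleton x), hx⟩

lemma sub_of_insep (Z Z' : PtTop.Sob X)
    (h : ∀ s : Set (PtTop.Sob X), IsOpen s → (Z ∈ s ↔ Z' ∈ s)) : car Z ⊆ car Z' := by
  intro x hx
  by_contra hx'
  have h1 : Z ∈ O (car Z')ᶜ := ⟨x, hx, hx'⟩
  have h2 := (h _ (isOpen_O ⟨(car Z')ᶜ, (car_closed Z').isOpen_compl⟩)).mp h1
  obtain ⟨y, hy, hy'⟩ := h2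
  exact hy' hy

lemma mem_closure_singleton (P Z : PtTop.Sob X) :
    Z ∈ closure ({P} : Set (PtTop.Sob X)) ↔ car Z ⊆ car P := by
  constructor
  · intro h x hx
    by_contra hx'
    have h1 : Z ∈ O (car P)ᶜ := ⟨x, hx, hx'⟩
    obtain ⟨Q, hQ, hQP⟩ := mem_closure_iff.mp h _
      (isOpen_O ⟨(car P)ᶜ, (car_closed P).isOpen_compl⟩) h1
    rw [Set.mem_singleton_iff] at hQP
    rw [hQP] at hQ
    obtain ⟨y, hy, hy'⟩ := hQ
    exact hy' hy
  · intro hsub
    rw [mem_closure_iff]
    intro o ho hZo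
    obtain ⟨U, rfl⟩ := (isOpen_iff o).mp ho
    obtain ⟨x, hxZ, hxU⟩ := hZo
    exact ⟨P, ⟨x, hsub hxZ, hxU⟩, Set.mem_singleton P⟩

lemma quasiSober : QuasiSober (PtTop.Sob X) := by
  refine ⟨fun {T} hT hTc => ?_⟩
  obtain ⟨U, hU⟩ := (isOpen_iff Tᶜ).mp hTc.isOpen_compl
  have hTU : ∀ Z : PtTop.Sob X, Z ∈ T ↔ car Z ⊆ (U : Set X)ᶜ := by
    intro Z
    constructor
    · intro hZ x hx hxU
      have h1 : Z ∈ Tᶜ := by rw [hU]; exact ⟨x, hx, hxU⟩
      exact h1 hZ
    · intro hsub
      by_contra hZ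
      have h1 : Z ∈ O (U : Set X) := by rw [← hU]; exact hZ
      obtain ⟨x, hx, hxU⟩ := h1
      exact hsub hx hxU
  have hirr : IsIrreducible (⋃ Z ∈ T, car Z) := by
    constructor
    · obtain ⟨Z, hZ⟩ := hT.nonempty
      obtain ⟨x, hx⟩ := (car_irr Z).nonempty
      exact ⟨x, Set.mem_biUnion hZ hx⟩
    · intro u v hu hv hnu hnv
      obtain ⟨x, hx, hxu⟩ := hnu
      obtain ⟨y, hy, hyv⟩ := hnv
      obtain ⟨Z₁, hZ₁, hxZ₁⟩ := Set.mem_iUnion₂.mp hx
      obtain ⟨Z₂, hZ₂, hyZ₂⟩ := Set.mem_iUnion₂.mp hy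
      obtain ⟨Z₃, hZ₃, hZ₃u, hZ₃v⟩ := hT.2 (O u) (O v) (isOpen_O ⟨u, hu⟩) (isOpen_O ⟨v, hv⟩)
        ⟨Z₁, hZ₁, x, hxZ₁, hxu⟩ ⟨Z₂, hZ₂, y, hyZ₂, hyv⟩
      obtain ⟨z, hz, hzuv⟩ := (car_irr Z₃).2 u v hu hv hZ₃u hZ₃v
      exact ⟨z, Set.mem_biUnion hZ₃ hz, hzuv⟩
  obtain ⟨P, hP⟩ : ∃ P : PtTop.Sob X, car P = closure (⋃ Z ∈ T, car Z) :=
    ⟨(⟨closure (⋃ Z ∈ T, car Z), hirr.closure, isClosed_closure⟩ : IrreducibleCloseds X), rfl⟩
  refine ⟨P, ?_⟩
  show closure ({P} : Set (PtTop.Sob X)) = T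
  ext Z
  rw [mem_closure_singleton, hTU, hP]
  constructor
  · intro h
    refine h.trans (closure_minimal ?_ U.isOpen.isClosed_compl)
    intro x hx
    obtain ⟨Z', hZ', hxZ'⟩ := Set.mem_iUnion₂.mp hx
    exact (hTU Z').mp hZ' hxZ'
  · intro h
    have hZT : Z ∈ T := (hTU Z).mpr h
    exact fun x hx => subset_closure (Set.mem_biUnion hZT hx)

lemma factor (Y : Type u) [TopologicalSpace Y] [QuasiSober Y] [T0Space Y] (f : X → Y)
    (hf : Continuous f) :
    ∃ g : PtTop.Sob X → Y, Continuous g ∧ g ∘ PtTop.toSob X = f := by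
  have himg : ∀ Z : PtTop.Sob X, IsIrreducible (f '' car Z) :=
    fun Z => (car_irr Z).image f hf.continuousOn
  refine ⟨fun Z => (himg Z).genericPoint, ?_, ?_⟩
  · rw [continuous_def]
    intro V hV
    have h1 : (fun Z => (himg Z).genericPoint) ⁻¹' V = O (f ⁻¹' V) := by
      ext Z
      show (himg Z).genericPoint ∈ V ↔ (car Z ∩ f ⁻¹' V).Nonempty
      rw [(himg Z).isGenericPoint_genericPoint_closure.mem_open_set_iff hV,
        closure_inter_open_nonempty_iff hV]
      constructor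
      · rintro ⟨y, ⟨x, hx, rfl⟩, hy⟩
        exact ⟨x, hx, hy⟩
      · rintro ⟨x, hx, hy⟩
        exact ⟨f x, ⟨x, hx, rfl⟩, hy⟩
    rw [h1]
    exact isOpen_O ⟨f ⁻¹' V, hV.preimage hf⟩
  · funext x
    show (himg (PtTop.toSob X x)).genericPoint = f x
    refine (himg (PtTop.toSob X x)).isGenericPoint_genericPoint_closure.eq ?_
    show closure ({f x} : Set Y) = closure (f '' closure ({x} : Set X))
    apply subset_antisymm
    · exact closure_minimal (Set.singleton_subset_iff.mpr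
        (subset_closure ⟨x, subset_closure (Set.mem_singleton x), rfl⟩)) isClosed_closure
    · refine closure_minimal ?_ isClosed_closure
      have h2 := image_closure_subset_closure_image hf (s := ({x} : Set X))
      rwa [Set.image_singleton] at h2

end


/-- Let X be a topological space and c : X → X′ the canonical map to its soberification (X′ =
irreducible closed subsets of X, with opens the sets of those meeting a given open of X; c(x) =
closure of {x}). Then X′ is sober, c is continuous, the rule U′ ↦ c⁻¹(U′) is a bijection from the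
open subsets of X′ onto the open subsets of X (it automatically respects finite intersections and
arbitrary unions), and every continuous map from X to a sober space Y is of the form g ∘ c for a
continuous g : X′ → Y. The published statement also asserts that g is unique and that c(X) is a
Kolmogorov space universal for maps to Kolmogorov spaces; this row omits those clauses and lets Y
range over the universe of X. -/
theorem result (X : Type u) [TopologicalSpace X] :
    QuasiSober (PtTop.Sob X) ∧ T0Space (PtTop.Sob X) ∧ Continuous (PtTop.toSob X) ∧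
    Set.BijOn (fun U' : Set (PtTop.Sob X) => PtTop.toSob X ⁻¹' U') {U' | IsOpen U'} {U : Set X | IsOpen U} ∧
    ∀ (Y : Type u) [TopologicalSpace Y] [QuasiSober Y] [T0Space Y] (f : X → Y), Continuous f →
      ∃ g : PtTop.Sob X → Y, Continuous g ∧ g ∘ PtTop.toSob X = f := by
  refine ⟨quasiSober, ⟨?_⟩, ?_, ⟨?_, ?_, ?_⟩, ?_⟩
  · intro Z Z' h
    rw [inseparable_iff_forall_isOpen] at h
    exact car_ext (subset_antisymm (sub_of_insep Z Z' h)
      (sub_of_insep Z' Z (fun s hs => (h s hs).symm)))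
  · rw [continuous_def]
    intro S hS
    obtain ⟨U, rfl⟩ := (isOpen_iff S).mp hS
    rw [preimage_O _ U.isOpen]
    exact U.isOpen
  · intro S hS
    obtain ⟨U, rfl⟩ := (isOpen_iff S).mp hS
    show IsOpen (PtTop.toSob X ⁻¹' O (U : Set X))
    rw [preimage_O _ U.isOpen]
    exact U.isOpen
  · intro S hS S' hS' h
    obtain ⟨U, rfl⟩ := (isOpen_iff S).mp hS
    obtain ⟨U', rfl⟩ := (isOpen_iff S').mp hS'
    have h' : PtTop.toSob X ⁻¹' O (U : Set X) = PtTop.toSob X ⁻¹' O (U' : Set X) := h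
    rw [preimage_O _ U.isOpen, preimage_O _ U'.isOpen] at h'
    rw [h']
  · intro U hU
    exact ⟨O U, isOpen_O ⟨U, hU⟩, preimage_O U hU⟩
  · intro Y _ _ _ f hf
    exact factor Y f hf

end Groth.Agent.S7582
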