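import Groth.Statements.S7583
import Mathlib
import Groth.Agent.S7582
-- import your own Groth.Agent.* helpers here

set_option autoImplicit false
universe u
open PtTop

namespace Groth.Agent.S7583

open TopologicalSpace
open Groth.Agent.S7582

section

variable {X : Type u} [TopologicalSpace X]

lemma toSob_mem_O {U : Set X} {x : X} (hx : x ∈ U) : PtTop.toSob X x ∈ O U :=
  ⟨x, subset_closure (Set.mem_singleton x), hx⟩

lemma mem_of_toSob_mem_O {U : Set X} (hU : IsOpen U) {x : X} (hx : PtTop.toSob X x ∈ O U) :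
    x ∈ U := by
  have h1 : x ∈ PtTop.toSob X ⁻¹' O U := hx
  rwa [preimage_O U hU] at h1

lemma isCompact_O_iff (U : Opens X) : IsCompact (O (U : Set X)) ↔ IsCompact (U : Set X) := by
  constructor
  · intro h
    rw [isCompact_iff_finite_subcover]
    intro ι W hW hcov
    obtain ⟨t, ht⟩ := isCompact_iff_finite_subcover.mp h (fun i => O (W i))
      (fun i => isOpen_O ⟨W i, hW i⟩) (by
        rintro Z ⟨x, hxZ, hxU⟩
        obtain ⟨i, hi⟩ := Set.mem_iUnion.mp (hcov hxU)
        exact Set.mem_iUnion.mpr ⟨i, x, hxZ, hi⟩)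
    refine ⟨t, fun x hx => ?_⟩
    obtain ⟨i, hit, hi⟩ := Set.mem_iUnion₂.mp (ht (toSob_mem_O hx))
    exact Set.mem_iUnion₂.mpr ⟨i, hit, mem_of_toSob_mem_O (hW i) hi⟩
  · intro h
    rw [isCompact_iff_finite_subcover]
    intro ι W hW hcov
    choose V hV using fun i => (isOpen_iff (W i)).mp (hW i)
    obtain ⟨t, ht⟩ := isCompact_iff_finite_subcover.mp h (fun i => (V i : Set X))
      (fun i => (V i).isOpen) (by
        intro x hx
        obtain ⟨i, hi⟩ := Set.mem_iUnion.mp (hcov (toSob_mem_O hx))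
        rw [hV i] at hi
        exact Set.mem_iUnion.mpr ⟨i, mem_of_toSob_mem_O (V i).isOpen hi⟩)
    refine ⟨t, ?_⟩
    rintro Z ⟨x, hxZ, hxU⟩
    obtain ⟨i, hit, hi⟩ := Set.mem_iUnion₂.mp (ht hxU)
    refine Set.mem_iUnion₂.mpr ⟨i, hit, ?_⟩
    rw [hV i]
    exact ⟨x, hxZ, hi⟩

lemma compactSpace_sob [CompactSpace X] : CompactSpace (PtTop.Sob X) := by
  rw [← isCompact_univ_iff]
  have h1 : (Set.univ : Set (PtTop.Sob X)) = O ((⊤ : Opens X) : Set X) := by
    ext Z
    simp only [Set.mem_univ, true_iff]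
    obtain ⟨x, hx⟩ := (car_irr Z).nonempty
    exact ⟨x, hx, trivial⟩
  rw [h1, isCompact_O_iff]
  exact isCompact_univ

lemma spectral_sob [CompactSpace X] [PrespectralSpace X] [QuasiSeparatedSpace X] :
    SpectralSpace (PtTop.Sob X) := by
  haveI : T0Space (PtTop.Sob X) := (Groth.Agent.S7582.result X).2.1
  haveI : QuasiSober (PtTop.Sob X) := quasiSober
  haveI : CompactSpace (PtTop.Sob X) := compactSpace_sob
  haveI : QuasiSeparatedSpace (PtTop.Sob X) := by
    refine ⟨fun S S' hS hSc hS' hS'c => ?_⟩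
    obtain ⟨U, rfl⟩ := (isOpen_iff S).mp hS
    obtain ⟨V, rfl⟩ := (isOpen_iff S').mp hS'
    have h1 : O (U : Set X) ∩ O (V : Set X) = O ((U ⊓ V : Opens X) : Set X) := by
      ext Z
      constructor
      · rintro ⟨hU, hV⟩
        exact (car_irr Z).2 U V U.isOpen V.isOpen hU hV
      · rintro ⟨x, hxZ, hxUV⟩
        exact ⟨⟨x, hxZ, (Opens.mem_inf.mp hxUV).1⟩, ⟨x, hxZ, (Opens.mem_inf.mp hxUV).2⟩⟩
    rw [h1, isCompact_O_iff]
    exact QuasiSeparatedSpace.inter_isCompact _ _ U.isOpen ((isCompact_O_iff U).mp hSc)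
      V.isOpen ((isCompact_O_iff V).mp hS'c)
  haveI : PrespectralSpace (PtTop.Sob X) := by
    refine ⟨TopologicalSpace.isTopologicalBasis_of_isOpen_of_nhds (fun u hu => hu.1) ?_⟩
    intro Z S hZS hS
    obtain ⟨U, rfl⟩ := (isOpen_iff S).mp hS
    obtain ⟨x, hxZ, hxU⟩ := hZS
    obtain ⟨V, ⟨hVo, hVc⟩, hxV, hVU⟩ :=
      (PrespectralSpace.isTopologicalBasis (X := X)).exists_subset_of_mem_open hxU U.isOpen
    refine ⟨O V, ⟨isOpen_O ⟨V, hVo⟩, (isCompact_O_iff ⟨V, hVo⟩).mpr hVc⟩, ⟨x, hxZ, hxV⟩, ?_⟩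
    rintro Z' ⟨y, hyZ', hyV⟩
    exact ⟨y, hyZ', hVU hyV⟩
  exact {}

lemma noeth_sob [NoetherianSpace X] : NoetherianSpace (PtTop.Sob X) := by
  rw [noetherianSpace_iff_opens]
  intro S
  obtain ⟨U, hU⟩ := (isOpen_iff (S : Set (PtTop.Sob X))).mp S.isOpen
  rw [hU, isCompact_O_iff]
  exact NoetherianSpace.isCompact _

end


/-- Let X be a topological space and c : X → X′ the canonical map to its soberification (X′ =
irreducible closed subsets of X, with opens the sets of those meeting a given open of X). (1)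
Quasi-compactness of X passes to X′. (2) When X is quasi-compact, its quasi-compact opens form a
basis, and any two quasi-compact opens meet in a quasi-compact set, the soberification X′ is a
spectral space. (3) When X is Noetherian, X′ is both spectral and Noetherian. -/
theorem result (X : Type u) [TopologicalSpace X] :
    (CompactSpace X → CompactSpace (PtTop.Sob X)) ∧
    (CompactSpace X → PrespectralSpace X → QuasiSeparatedSpace X → SpectralSpace (PtTop.Sob X)) ∧
    (TopologicalSpace.NoetherianSpace X →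
      TopologicalSpace.NoetherianSpace (PtTop.Sob X) ∧ SpectralSpace (PtTop.Sob X)) := by
  refine ⟨fun h => ?_, fun h1 h2 h3 => ?_, fun h => ?_⟩
  · haveI := h
    exact compactSpace_sob
  · haveI := h1
    haveI := h2
    haveI := h3
    exact spectral_sob
  · haveI := h
    haveI : QuasiSeparatedSpace X := ⟨fun U V _ _ _ _ => NoetherianSpace.isCompact _⟩
    exact ⟨noeth_sob, spectral_sob⟩

end Groth.Agent.S7583
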