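import Groth.Statements.S7585
import Mathlib
-- import your own Groth.Agent.* helpers here

set_option autoImplicit false
universe u
open ShSp

namespace Groth.Agent.S7585

open TopologicalSpace

lemma sep {X : Type u} [TopologicalSpace X] {B : Set (Opens X)}
    (F : ShB.Pre B)
    (C : ∀ U : B, Set (ShB.Cover B)) (hCU : ∀ U, ∀ c ∈ C U, c.U = U)
    (hC : ∀ (U : B) (ι : Type u) (V : ι → B), (∀ i, (V i : Opens X) ≤ (U : Opens X)) →
      (U : Opens X) ≤ ⨆ i, (V i : Opens X) →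
      ∃ c ∈ C U, ∀ i' : c.ι, ∃ i, (c.V i' : Opens X) ≤ (V i : Opens X))
    (H : ∀ U, ∀ c ∈ C U, ShB.GluesUniquely F c)
    (U : B) (ι : Type u) (V : ι → B) (hle : ∀ i, (V i : Opens X) ≤ (U : Opens X))
    (hcov : (U : Opens X) ≤ ⨆ i, (V i : Opens X)) (s s' : F.obj U)
    (h : ∀ i, F.res (hle i) s = F.res (hle i) s') : s = s' := by
  obtain ⟨c, hc, href⟩ := hC U ι V hle hcov
  have hU := hCU U c hc
  subst hU
  choose φ hφ using href
  obtain ⟨t, -, huniq⟩ := H c.U c hc (fun i' => F.res (c.V_le i') s) (fun i' j' k => by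
    show F.res (c.W_le_left i' j' k) (F.res (c.V_le i') s) =
      F.res (c.W_le_right i' j' k) (F.res (c.V_le j') s)
    rw [F.res_comp, F.res_comp])
  have e1 : s = t := huniq s (fun _ => rfl)
  have e2 : s' = t := huniq s' (fun i' => by
    have h1 : F.res (c.V_le i') s = F.res (hφ i') (F.res (hle (φ i')) s) :=
      (F.res_comp _ _ _).symm
    have h2 : F.res (c.V_le i') s' = F.res (hφ i') (F.res (hle (φ i')) s') :=
      (F.res_comp _ _ _).symm
    show F.res (c.V_le i') s' = F.res (c.V_le i') s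
    rw [h1, h2, h (φ i')])
  exact e1.trans e2.symm

lemma compatY {X : Type u} [TopologicalSpace X] {B : Set (Opens X)} (hB : Opens.IsBasis B)
    (F : ShB.Pre B)
    (C : ∀ U : B, Set (ShB.Cover B)) (hCU : ∀ U, ∀ c ∈ C U, c.U = U)
    (hC : ∀ (U : B) (ι : Type u) (V : ι → B), (∀ i, (V i : Opens X) ≤ (U : Opens X)) →
      (U : Opens X) ≤ ⨆ i, (V i : Opens X) →
      ∃ c ∈ C U, ∀ i' : c.ι, ∃ i, (c.V i' : Opens X) ≤ (V i : Opens X))
    (H : ∀ U, ∀ c ∈ C U, ShB.GluesUniquely F c)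
    (c0 : ShB.Cover B) (s0 : ∀ i, F.obj (c0.V i))
    (hs0 : ∀ i j k, F.res (c0.W_le_left i j k) (s0 i) = F.res (c0.W_le_right i j k) (s0 j))
    (i j : c0.ι) (Y : B) (h1 : (Y : Opens X) ≤ (c0.V i : Opens X))
    (h2 : (Y : Opens X) ≤ (c0.V j : Opens X)) :
    F.res h1 (s0 i) = F.res h2 (s0 j) := by
  refine sep F C hCU hC H Y
    {Z : B // (Z : Opens X) ≤ (Y : Opens X) ∧ ∃ k, (Z : Opens X) ≤ (c0.W i j k : Opens X)}
    (fun Z => Z.1) (fun Z => Z.2.1) ?_ _ _ ?_
  · intro y hy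
    have hy' : y ∈ (c0.V i : Opens X) ⊓ (c0.V j : Opens X) := Opens.mem_inf.mpr ⟨h1 hy, h2 hy⟩
    obtain ⟨k, hk⟩ := Opens.mem_iSup.mp (c0.W_cover i j hy')
    obtain ⟨Z, hZB, hyZ, hZle⟩ := Opens.isBasis_iff_nbhd.mp hB
      (Opens.mem_inf.mpr ⟨hy, hk⟩ : y ∈ (Y : Opens X) ⊓ (c0.W i j k : Opens X))
    exact Opens.mem_iSup.mpr
      ⟨⟨⟨Z, hZB⟩, hZle.trans inf_le_left, k, hZle.trans inf_le_right⟩, hyZ⟩
  · rintro ⟨Z, hZY, k, hZk⟩
    show F.res hZY (F.res h1 (s0 i)) = F.res hZY (F.res h2 (s0 j))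
    rw [F.res_comp, F.res_comp]
    have e1 : F.res (hZY.trans h1) (s0 i) = F.res hZk (F.res (c0.W_le_left i j k) (s0 i)) :=
      (F.res_comp _ _ _).symm
    have e2 : F.res (hZY.trans h2) (s0 j) = F.res hZk (F.res (c0.W_le_right i j k) (s0 j)) :=
      (F.res_comp _ _ _).symm
    rw [e1, e2, hs0 i j k]

lemma glue {X : Type u} [TopologicalSpace X] {B : Set (Opens X)} (hB : Opens.IsBasis B)
    (F : ShB.Pre B)
    (C : ∀ U : B, Set (ShB.Cover B)) (hCU : ∀ U, ∀ c ∈ C U, c.U = U)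
    (hC : ∀ (U : B) (ι : Type u) (V : ι → B), (∀ i, (V i : Opens X) ≤ (U : Opens X)) →
      (U : Opens X) ≤ ⨆ i, (V i : Opens X) →
      ∃ c ∈ C U, ∀ i' : c.ι, ∃ i, (c.V i' : Opens X) ≤ (V i : Opens X))
    (H : ∀ U, ∀ c ∈ C U, ShB.GluesUniquely F c)
    (U : B) (ι : Type u) (V : ι → B) (hle : ∀ i, (V i : Opens X) ≤ (U : Opens X))
    (hcov : (U : Opens X) ≤ ⨆ i, (V i : Opens X))
    (s0 : ∀ i, F.obj (V i))
    (hcompat : ∀ i j (Y : B) (h1 : (Y : Opens X) ≤ (V i : Opens X))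
      (h2 : (Y : Opens X) ≤ (V j : Opens X)), F.res h1 (s0 i) = F.res h2 (s0 j)) :
    ∃! t : F.obj U, ∀ i, F.res (hle i) t = s0 i := by
  obtain ⟨c, hc, href⟩ := hC U ι V hle hcov
  have hU := hCU U c hc
  subst hU
  choose φ hφ using href
  obtain ⟨t, ht, huniq⟩ := H c.U c hc (fun i' => F.res (hφ i') (s0 (φ i'))) (fun i' j' k => by
    show F.res (c.W_le_left i' j' k) (F.res (hφ i') (s0 (φ i'))) =
      F.res (c.W_le_right i' j' k) (F.res (hφ j') (s0 (φ j')))
    rw [F.res_comp, F.res_comp]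
    exact hcompat _ _ _ _ _)
  refine ⟨t, ?_, ?_⟩
  · intro i
    refine sep F C hCU hC H (V i)
      {Z : B // (Z : Opens X) ≤ (V i : Opens X) ∧ ∃ i', (Z : Opens X) ≤ (c.V i' : Opens X)}
      (fun Z => Z.1) (fun Z => Z.2.1) ?_ _ _ ?_
    · intro y hy
      obtain ⟨i', hi'⟩ := Opens.mem_iSup.mp (c.V_cover (hle i hy))
      obtain ⟨Z, hZB, hyZ, hZle⟩ := Opens.isBasis_iff_nbhd.mp hB
        (Opens.mem_inf.mpr ⟨hy, hi'⟩ : y ∈ (V i : Opens X) ⊓ (c.V i' : Opens X))
      exact Opens.mem_iSup.mpr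
        ⟨⟨⟨Z, hZB⟩, hZle.trans inf_le_left, i', hZle.trans inf_le_right⟩, hyZ⟩
    · rintro ⟨Z, hZV, i', hZi'⟩
      show F.res hZV (F.res (hle i) t) = F.res hZV (s0 i)
      rw [F.res_comp]
      have e1 : F.res (hZV.trans (hle i)) t = F.res hZi' (F.res (c.V_le i') t) :=
        (F.res_comp _ _ _).symm
      rw [e1, ht i']
      show F.res hZi' (F.res (hφ i') (s0 (φ i'))) = F.res hZV (s0 i)
      rw [F.res_comp]
      exact hcompat _ _ _ _ _
  · intro t' ht'
    apply huniq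
    intro i'
    show F.res (c.V_le i') t' = F.res (hφ i') (s0 (φ i'))
    rw [← ht' (φ i'), F.res_comp]


/-- Let X be a topological space, ℬ a basis for its topology and F a presheaf of sets on ℬ. For each U ∈
ℬ let C(U) be a cofinal system of coverings of U by members of ℬ (every covering of U by members of
ℬ is refined by one in C(U)), each member of C(U) coming with chosen coverings of the pairwise
intersections U_i ∩ U_j by members of ℬ. Then F is a sheaf on ℬ if and only if the sheaf condition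
(**) holds for every U ∈ ℬ and every covering in C(U) with its chosen intersection coverings. -/
theorem result {X : Type u} [TopologicalSpace X] {B : Set (TopologicalSpace.Opens X)}
    (hB : TopologicalSpace.Opens.IsBasis B) (F : ShB.Pre B)
    (C : ∀ U : B, Set (ShB.Cover B)) (hCU : ∀ U, ∀ c ∈ C U, c.U = U)
    (hC : ∀ (U : B) (ι : Type u) (V : ι → B), (∀ i, (V i : TopologicalSpace.Opens X) ≤ (U : TopologicalSpace.Opens X)) →
      (U : TopologicalSpace.Opens X) ≤ ⨆ i, (V i : TopologicalSpace.Opens X) →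
      ∃ c ∈ C U, ∀ i' : c.ι, ∃ i, (c.V i' : TopologicalSpace.Opens X) ≤ (V i : TopologicalSpace.Opens X)) :
    ShB.IsSheaf F ↔ ∀ U, ∀ c ∈ C U, ShB.GluesUniquely F c := by
  constructor
  · intro hF U c _
    exact hF c
  · intro H c0 s0 hs0
    exact glue hB F C hCU hC H c0.U c0.ι c0.V c0.V_le c0.V_cover s0
      (fun i j Y h1 h2 => compatY hB F C hCU hC H c0 s0 hs0 i j Y h1 h2)

end Groth.Agent.S7585
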