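import Groth.Statements.S7590
import Mathlib
import Groth.Agent.SepClosedBC
set_option linter.style.haveILetI false

set_option autoImplicit false
universe u
open CategoryTheory CategoryTheory.Limits AlgebraicGeometry
open Variety

namespace Groth.Agent.S7590

/-- Let k be a separably closed field, K any extension field of k and X a scheme over k. Then the
projection X_K → X induces a bijection between the sets of connected components. -/
theorem result (k : Type u) [Field k] [IsSepClosed k] (X : Scheme.{u}) [X.Over (Spec (CommRingCat.of k))]
    (K : Type u) [Field K] [Algebra k K] :
    Function.Bijective (Continuous.connectedComponentsMap (Curv2.bcFst k X K).continuous) := by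
  have ho : IsOpenMap (Curv2.bcFst k X K).base :=
    Groth.Agent.AlgClosedBC.bc_isOpenMap k (X ↘ Spec (CommRingCat.of k)) K
  have hfib : ∀ x, _root_.IsConnected ((Curv2.bcFst k X K).base ⁻¹' {x}) := fun x =>
    (Groth.Agent.SepClosedBC.isIrreducible_fiber_bc_sep k (X ↘ Spec (CommRingCat.of k)) K x).isConnected
  have hs : Function.Surjective (Curv2.bcFst k X K).base := fun x => (hfib x).nonempty
  have hq : Topology.IsCoinducing (Curv2.bcFst k X K).base :=
    (ho.isQuotientMap (Curv2.bcFst k X K).continuous hs).isCoinducing
  exact hq.connectedComponentsMap_bijective hfib

end Groth.Agent.S7590
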