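import Groth.Statements.S7594
import Mathlib
import Groth.Agent.S1540
import Groth.Agent.S2150

set_option autoImplicit false
universe u
open CategoryTheory CategoryTheory.Limits AlgebraicGeometry
open Variety

namespace Groth.Agent.S7594

/-- A scheme X over a field k is geometrically irreducible over k precisely when the fibre product X ×_k
X of X with itself is an irreducible scheme. -/
theorem result (k : Type u) [Field k] (X : Scheme.{u}) [X.Over (Spec (CommRingCat.of k))] :
    GeometricallyIrreducible (X ↘ (Spec (CommRingCat.of k))) ↔ IrreducibleSpace ↥(pullback (X ↘ (Spec (CommRingCat.of k))) (X ↘ (Spec (CommRingCat.of k)))) := by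
  set f := X ↘ Spec (CommRingCat.of k) with hf
  haveI : UniversallyOpen f := inferInstance
  constructor
  · intro h
    haveI := h
    haveI : IrreducibleSpace ↥X :=
      GeometricallyIrreducible.irreducibleSpace_of_subsingleton (f := f)
    infer_instance
  · intro h
    haveI := h
    haveI hX : IrreducibleSpace ↥X := by
      have hs : Function.Surjective ⇑(pullback.fst f f) := by
        intro x
        refine ⟨(pullback.diagonal f) x, ?_⟩
        rw [← Scheme.Hom.comp_apply, pullback.diagonal_fst]
        rfl
      exact hs.irreducibleSpace (pullback.fst f f).continuous
    letI : Algebra k (X.residueField (genericPoint X)) := Curv2.resAlgebra k X (genericPoint X)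
    have hιf : X.fromSpecResidueField (genericPoint X) ≫ f =
        Spec.map (CommRingCat.ofHom (algebraMap k (X.residueField (genericPoint X)))) :=
      Groth.Agent.S1537.fromSpecRes_comp1537 k X (genericPoint X)
    have hopen : IsOpenMap ⇑(pullback.snd f f) := (pullback.snd f f).isOpenMap
    have h1 : IrreducibleSpace ↥(pullback (X.fromSpecResidueField (genericPoint X))
        (pullback.snd f f)) :=
      (Groth.Agent.Helper18.GeomIrrField.irr_iff_open (pullback.snd f f) hopen).mp h
    have e1 : pullback (X.fromSpecResidueField (genericPoint X)) (pullback.snd f f) ≅
        pullback f (X.fromSpecResidueField (genericPoint X) ≫ f) :=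
      (pullbackSymmetry _ _) ≪≫ (pullbackLeftPullbackSndIso f f _)
    have h2 : IrreducibleSpace ↥(pullback f (X.fromSpecResidueField (genericPoint X) ≫ f)) :=
      e1.hom.homeomorph.irreducibleSpace_iff.mp h1
    rw [hιf] at h2
    have h3 : IrreducibleSpace ↥(pullback (X.fromSpecResidueField (genericPoint X) ≫ f)
        (Spec.map (CommRingCat.ofHom (algebraMap k (X.residueField (genericPoint X)))))) :=
      (Groth.Agent.Helper18.GeomIrrField.irr_iff (k' := X.residueField (genericPoint X)) f).mp h2
    rw [hιf] at h3
    have e2 := pullbackSpecIso k (X.residueField (genericPoint X)) (X.residueField (genericPoint X))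
    have h4 : IrreducibleSpace ↥(Spec (CommRingCat.of
        (TensorProduct k (X.residueField (genericPoint X)) (X.residueField (genericPoint X))))) :=
      e2.hom.homeomorph.irreducibleSpace_iff.mp h3
    have hPN : Groth.Agent.S2112.PN
        (TensorProduct k (X.residueField (genericPoint X)) (X.residueField (genericPoint X))) :=
      (PrimeSpectrum.irreducibleSpace_iff_isPrime_nilradical).mp h4
    refine (Groth.Agent.S1540.result k X).mpr ?_
    intro α hα
    let j : TensorProduct k (IntermediateField.adjoin k {α}) (X.residueField (genericPoint X)) →ₐ[k]
        TensorProduct k (X.residueField (genericPoint X)) (X.residueField (genericPoint X)) :=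
      Algebra.TensorProduct.map (IntermediateField.val _) (AlgHom.id k _)
    have hinj : Function.Injective j := by
      have h5 := Module.Flat.rTensor_preserves_injective_linearMap
        (M := X.residueField (genericPoint X))
        (IntermediateField.val (IntermediateField.adjoin k {α})).toLinearMap Subtype.val_injective
      intro a b hab
      exact h5 hab
    exact Groth.Agent.S2150.mem_range_of_PN hα
      (Groth.Agent.S2112.PN_of_injective j.toRingHom hinj hPN)

end Groth.Agent.S7594
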