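import Groth.Statements.S7595
import Mathlib
set_option linter.style.haveILetI false

set_option autoImplicit false
universe u
open CategoryTheory CategoryTheory.Limits AlgebraicGeometry
open Variety

namespace Groth.Agent.S7595

/-- Let X be a scheme over a field k, K an extension field of k and T an irreducible component of X.
Then each point of the inverse image of T in X_K lies on some irreducible component of X_K that is
contained in this inverse image; so the inverse image of T is the union of the irreducible
components of X_K lying inside it. -/
theorem result (k : Type u) [Field k] (X : Scheme.{u}) [X.Over (Spec (CommRingCat.of k))] (K : Type u) [Field K] [Algebra k K]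
    (T : Set ↥X) (hT : T ∈ irreducibleComponents ↥X) :
    (Curv2.bcFst k X K).base ⁻¹' T = ⋃₀ {Z : Set ↥(Curv2.bc k X K) | Z ∈ irreducibleComponents ↥(Curv2.bc k X K) ∧ Z ⊆ (Curv2.bcFst k X K).base ⁻¹' T} := by
  set p := Curv2.bcFst k X K with hp
  have hflatK : Flat (Spec.map (CommRingCat.ofHom (algebraMap k K))) := by
    rw [HasRingHomProperty.Spec_iff (P := @Flat)]
    simp only [CommRingCat.hom_ofHom]
    rw [RingHom.flat_algebraMap_iff]
    infer_instance
  have hflat : Flat p := inferInstance
  have hgen : GeneralizingMap p := Flat.generalizingMap p
  apply Set.Subset.antisymm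
  · intro z hz
    have hTirr : IsIrreducible T := hT.1
    have hTcl : IsClosed T := isClosed_of_mem_irreducibleComponents T hT
    obtain ⟨ξ, hξ⟩ := QuasiSober.sober hTirr hTcl
    have h1 : ξ ⤳ p z := by
      rw [specializes_iff_mem_closure, hξ.def]
      exact hz
    obtain ⟨z', hz'z, hz'ξ⟩ := hgen h1
    refine ⟨irreducibleComponent z', ⟨irreducibleComponent_mem_irreducibleComponents z', ?_⟩, ?_⟩
    · intro w hw
      have hirr : IsIrreducible (closure (p '' irreducibleComponent z')) :=
        ((isIrreducible_irreducibleComponent).image p p.continuous.continuousOn).closure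
      have hTle : T ≤ closure (p '' irreducibleComponent z') := by
        rw [← hξ.def]
        apply closure_minimal _ isClosed_closure
        rw [Set.singleton_subset_iff]
        exact subset_closure ⟨z', mem_irreducibleComponent, hz'ξ⟩
      have := hT.2 hirr hTle
      exact this (subset_closure ⟨w, hw, rfl⟩)
    · exact hz'z.mem_closed isClosed_irreducibleComponent mem_irreducibleComponent
  · rintro z ⟨Z, ⟨_, hZ⟩, hz⟩
    exact hZ hz

end Groth.Agent.S7595
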