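import Groth.Statements.S7605
import Mathlib
set_option linter.style.haveILetI false

set_option autoImplicit false
universe u
open CategoryTheory CategoryTheory.Limits AlgebraicGeometry
open Variety

namespace Groth.Agent.S7605

section Aux
open AlgebraicGeometry CategoryTheory Limits

theorem noeth_of_ess {A B : Type u} [CommRing A] [CommRing B] (f : A →+* B)
    (hf : f.EssFiniteType) [IsNoetherianRing A] : IsNoetherianRing B := by
  letI := f.toAlgebra
  haveI : Algebra.EssFiniteType A B := hf
  exact Algebra.EssFiniteType.isNoetherianRing A B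

theorem noeth_descent {A B : Type u} [CommRing A] [CommRing B] (f : A →+* B)
    (hf : f.FaithfullyFlat) [hB : IsNoetherianRing B] : IsNoetherianRing A := by
  letI := f.toAlgebra
  haveI : Module.FaithfullyFlat A B := hf
  have hsm : StrictMono (Ideal.map (algebraMap A B)) :=
    Monotone.strictMono_of_injective (fun _ _ h => Ideal.map_mono h)
      Ideal.map_injective_of_faithfullyFlat
  rw [isNoetherianRing_iff, isNoetherian_iff'] at hB ⊢
  exact hsm.wellFoundedGT

end Aux

/-- For a scheme X over a field k and a finitely generated field extension k' of k, local Noetherianity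
of X is equivalent to local Noetherianity of its base change X_{k'}. -/
theorem result (k : Type u) [Field k] (X : Scheme.{u}) [X.Over (Spec (CommRingCat.of k))] (k' : Type u) [Field k'] [Algebra k k']
    (hfg : (⊤ : IntermediateField k k').FG) :
    IsLocallyNoetherian X ↔ IsLocallyNoetherian (Curv2.bc k X k') := by
  let gk : Spec (CommRingCat.of k') ⟶ Spec (CommRingCat.of k) :=
    Spec.map (CommRingCat.ofHom (algebraMap k k'))
  let 𝒰 := X.affineCover
  let 𝒱 := 𝒰.pullback₁ (Curv2.bcFst k X k')
  have e : ∀ i, 𝒱.X i ≅ pullback (𝒰.f i ≫ (X ↘ Spec (CommRingCat.of k))) gk := fun i =>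
    pullbackSymmetry _ _ ≪≫ pullbackRightPullbackFstIso (X ↘ Spec (CommRingCat.of k)) gk (𝒰.f i)
  haveI : ∀ i, IsAffine (𝒱.X i) := fun i => .of_isIso (e i).hom
  rw [isLocallyNoetherian_iff_of_affine_openCover 𝒰, isLocallyNoetherian_iff_of_affine_openCover 𝒱]
  have happ : gk.appTop = (Scheme.ΓSpecIso _).hom ≫ CommRingCat.ofHom (algebraMap k k') ≫
      (Scheme.ΓSpecIso _).inv := by
    rw [← Category.assoc, ← Scheme.ΓSpecIso_naturality, Category.assoc, Iso.hom_inv_id,
      Category.comp_id]
  have hgk1 : gk.appTop.hom.EssFiniteType := by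
    rw [happ, CommRingCat.hom_comp, RingHom.EssFiniteType.respectsIso.cancel_left_isIso,
      CommRingCat.hom_comp, RingHom.EssFiniteType.respectsIso.cancel_right_isIso]
    exact RingHom.essFiniteType_algebraMap.mpr (IntermediateField.fg_top_iff.mp hfg)
  have hgk2 : gk.appTop.hom.FaithfullyFlat := by
    rw [happ, CommRingCat.hom_comp, RingHom.FaithfullyFlat.respectsIso.cancel_left_isIso,
      CommRingCat.hom_comp, RingHom.FaithfullyFlat.respectsIso.cancel_right_isIso]
    exact RingHom.faithfullyFlat_algebraMap_iff.mpr inferInstance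
  have hq1 : ∀ i, (pullback.fst (𝒰.f i ≫ (X ↘ Spec (CommRingCat.of k))) gk).appTop.hom.EssFiniteType :=
    fun i => RingHom.IsStableUnderBaseChange.pullback_fst_appTop _
      RingHom.EssFiniteType.isStableUnderBaseChange RingHom.EssFiniteType.respectsIso _ _ hgk1
  have hq2 : ∀ i, (pullback.fst (𝒰.f i ≫ (X ↘ Spec (CommRingCat.of k))) gk).appTop.hom.FaithfullyFlat :=
    fun i => RingHom.IsStableUnderBaseChange.pullback_fst_appTop _
      RingHom.FaithfullyFlat.isStableUnderBaseChange RingHom.FaithfullyFlat.respectsIso _ _ hgk2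
  constructor
  · intro h i
    haveI : IsNoetherianRing Γ(𝒰.X i, ⊤) := h i
    haveI : IsNoetherianRing ↑(Scheme.Γ.obj
        (Opposite.op (pullback (𝒰.f i ≫ X ↘ Spec (CommRingCat.of k)) gk))) :=
      noeth_of_ess _ (hq1 i)
    exact isNoetherianRing_of_ringEquiv _ (Scheme.Γ.mapIso (e i).op).commRingCatIsoToRingEquiv
  · intro h i
    haveI : IsNoetherianRing ↑(Scheme.Γ.obj (Opposite.op (𝒱.X i))) := h i
    haveI : IsNoetherianRing Γ(pullback (𝒰.f i ≫ (X ↘ Spec (CommRingCat.of k))) gk, ⊤) :=
      isNoetherianRing_of_ringEquiv _ (Scheme.Γ.mapIso (e i).op).commRingCatIsoToRingEquiv.symm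
    exact noeth_descent _ (hq2 i)

end Groth.Agent.S7605
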