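import Groth.Statements.S7612
import Mathlib
set_option linter.style.haveILetI false

set_option autoImplicit false
universe u
open CategoryTheory CategoryTheory.Limits AlgebraicGeometry
open Variety

namespace Groth.Agent.S7612

section Aux
open CategoryTheory CategoryTheory.Limits AlgebraicGeometry

private lemma key {X Y S P : Scheme.{u}} {p : P ⟶ X} {q : P ⟶ Y} {f : X ⟶ S} {g : Y ⟶ S}
    (h : IsPullback p q f g) [IsIntegral S] [Subsingleton S] {U : Set P} (hU : IsOpen U) (a : X) :
    IsOpen (q '' (U ∩ p ⁻¹' {a})) := by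
  have h1 : IsPullback (p.fiberι a) (p.fiberToSpecResidueField a) p (X.fromSpecResidueField a) :=
    IsPullback.of_hasPullback p (X.fromSpecResidueField a)
  have h2 := h1.paste_horiz h.flip
  have h3 : UniversallyOpen (p.fiberι a ≫ q) :=
    MorphismProperty.of_isPullback (P := @UniversallyOpen) h2.flip inferInstance
  have h4 : q '' (U ∩ p ⁻¹' {a}) = (p.fiberι a ≫ q) '' ((p.fiberι a) ⁻¹' U) := by
    ext y
    constructor
    · rintro ⟨z, ⟨hzU, hza⟩, rfl⟩
      have : z ∈ Set.range (p.fiberι a) := by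
        rw [Scheme.Hom.range_fiberι]
        exact hza
      obtain ⟨v, rfl⟩ := this
      exact ⟨v, hzU, rfl⟩
    · rintro ⟨v, hv, rfl⟩
      refine ⟨p.fiberι a v, ⟨hv, ?_⟩, rfl⟩
      have : p.fiberι a v ∈ Set.range (p.fiberι a) := Set.mem_range_self v
      rw [Scheme.Hom.range_fiberι] at this
      exact this
  rw [h4]
  exact (p.fiberι a ≫ q).isOpenMap _ (hU.preimage (p.fiberι a).continuous)

private lemma main {X Y S P : Scheme.{u}} {p : P ⟶ X} {q : P ⟶ Y} {f : X ⟶ S} {g : Y ⟶ S}
    (h : IsPullback p q f g) [IsIntegral S] [Subsingleton S] (A : Set X) (B : Set Y) :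
    closure (p ⁻¹' A ∩ q ⁻¹' B) = p ⁻¹' closure A ∩ q ⁻¹' closure B := by
  apply Set.Subset.antisymm
  · apply closure_minimal
    · exact Set.inter_subset_inter (Set.preimage_mono subset_closure)
        (Set.preimage_mono subset_closure)
    · exact (isClosed_closure.preimage p.continuous).inter (isClosed_closure.preimage q.continuous)
  · intro z hz
    by_contra hzU
    set U : Set P := (closure (p ⁻¹' A ∩ q ⁻¹' B))ᶜ with hUdef
    have hU : IsOpen U := isClosed_closure.isOpen_compl
    have hUdisj : ∀ w ∈ U, ¬ (p w ∈ A ∧ q w ∈ B) := fun w hw hw' => hw (subset_closure hw')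
    -- step 1
    have step1 : ∀ a ∈ A, ∀ w ∈ U, p w = a → q w ∉ closure B := by
      intro a ha w hw hpw
      have hW := key h hU a
      have hdisj : Disjoint (q '' (U ∩ p ⁻¹' {a})) B := by
        rw [Set.disjoint_left]
        rintro _ ⟨w', ⟨hw'U, hw'a⟩, rfl⟩ hb
        exact hUdisj w' hw'U ⟨by rw [Set.mem_preimage, Set.mem_singleton_iff] at hw'a; rw [hw'a]; exact ha, hb⟩
      have hdisj' := hdisj.closure_right hW
      rw [Set.disjoint_left] at hdisj'
      exact hdisj' ⟨w, ⟨hw, hpw⟩, rfl⟩
    -- step 2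
    have hW' := key h.flip hU (q z)
    have hdisj : Disjoint (p '' (U ∩ q ⁻¹' {q z})) A := by
      rw [Set.disjoint_left]
      rintro _ ⟨w', ⟨hw'U, hw'y⟩, rfl⟩ ha
      refine step1 _ ha w' hw'U rfl ?_
      rw [Set.mem_preimage, Set.mem_singleton_iff] at hw'y
      rw [hw'y]
      exact hz.2
    have hdisj' := hdisj.closure_right hW'
    rw [Set.disjoint_left] at hdisj'
    exact hdisj' ⟨z, ⟨hzU, rfl⟩, rfl⟩ hz.1

end Aux


/-- Let X and Y be schemes over a field k and A ⊆ X, B ⊆ Y subsets. Inside X ×_k Y, the closure of the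
set of points projecting into A and into B equals the set of points projecting into the closure of A
and into the closure of B. -/
theorem result (k : Type u) [Field k] (X : Scheme.{u}) [X.Over (Spec (CommRingCat.of k))] (Y : Scheme.{u}) [Y.Over (Spec (CommRingCat.of k))] (A : Set ↥X) (B : Set ↥Y) :
    closure ((pullback.fst (X ↘ (Spec (CommRingCat.of k))) (Y ↘ (Spec (CommRingCat.of k)))).base ⁻¹' A ∩ (pullback.snd (X ↘ (Spec (CommRingCat.of k))) (Y ↘ (Spec (CommRingCat.of k)))).base ⁻¹' B) =
      (pullback.fst (X ↘ (Spec (CommRingCat.of k))) (Y ↘ (Spec (CommRingCat.of k)))).base ⁻¹' closure A ∩ (pullback.snd (X ↘ (Spec (CommRingCat.of k))) (Y ↘ (Spec (CommRingCat.of k)))).base ⁻¹' closure B := by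
  exact main (IsPullback.of_hasPullback _ _) A B

end Groth.Agent.S7612
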