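import Groth.Statements.S7614
import Mathlib
import Groth.Agent.S1127
set_option linter.style.haveILetI false

set_option autoImplicit false
universe u
open CategoryTheory CategoryTheory.Limits AlgebraicGeometry
open Variety

namespace Groth.Agent.S7614

/-- Let X be a scheme over a field k and K an extension field of k. If X_K is quasi-affine, then X is
quasi-affine. -/
theorem result (k : Type u) [Field k] (X : Scheme.{u}) [X.Over (Spec (CommRingCat.of k))] (K : Type u) [Field K] [Algebra k K]
    [(Curv2.bc k X K).IsQuasiAffine] : X.IsQuasiAffine := by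
  have hff := (flat_and_surjective_SpecMap_iff (CommRingCat.ofHom (algebraMap k K))).mpr
    (RingHom.faithfullyFlat_algebraMap_iff.mpr inferInstance)
  haveI : Flat (Spec.map (CommRingCat.ofHom (algebraMap k K))) := hff.1
  haveI : Surjective (Spec.map (CommRingCat.ofHom (algebraMap k K))) := hff.2
  haveI : (Limits.pullback (X ↘ Spec (CommRingCat.of k))
      (Spec.map (CommRingCat.ofHom (algebraMap k K)))).IsQuasiAffine :=
    ‹(Curv2.bc k X K).IsQuasiAffine›
  exact Groth.Agent.S1127.core (Spec.map (CommRingCat.ofHom (algebraMap k K)))
    (X ↘ Spec (CommRingCat.of k))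

end Groth.Agent.S7614
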