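import Groth.Statements.S7618
import Mathlib

set_option autoImplicit false
universe u
open CategoryTheory CategoryTheory.Limits AlgebraicGeometry
open Variety

namespace Groth.Agent.S7618

open AlgebraicGeometry CategoryTheory in
theorem idem_trivial (X : Scheme.{u}) [ConnectedSpace ↥X] [IsReduced X] (e : Γ(X, ⊤))
    (he : e * (1 - e) = 0) : e = 0 ∨ e = 1 := by
  have hmem : ∀ x : X, x ∈ X.basicOpen e ∨ x ∈ X.basicOpen (1 - e) := by
    intro x
    rw [Scheme.mem_basicOpen_top, Scheme.mem_basicOpen_top]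
    apply IsLocalRing.isUnit_or_isUnit_of_add_one
    rw [← map_add, add_sub_cancel, map_one]
  have hinf : X.basicOpen e ⊓ X.basicOpen (1 - e) = ⊥ := by
    rw [← Scheme.basicOpen_mul, he, Scheme.basicOpen_zero]
  have hcompl : ((X.basicOpen e : Set X))ᶜ = (X.basicOpen (1 - e) : Set X) := by
    ext x
    constructor
    · intro hx
      rcases hmem x with h | h
      · exact absurd h hx
      · exact h
    · intro hx hx'
      have : x ∈ X.basicOpen e ⊓ X.basicOpen (1 - e) := ⟨hx', hx⟩
      rw [hinf] at this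
      exact this
  have hclopen : IsClopen (X.basicOpen e : Set X) := by
    refine ⟨?_, (X.basicOpen e).2⟩
    rw [← isOpen_compl_iff, hcompl]
    exact (X.basicOpen (1 - e)).2
  rcases isClopen_iff.mp hclopen with h | h
  · left
    rw [← AlgebraicGeometry.basicOpen_eq_bot_iff]
    exact TopologicalSpace.Opens.ext h
  · right
    have h' : X.basicOpen (1 - e) = ⊥ := by
      apply TopologicalSpace.Opens.ext
      rw [← hcompl, h]
      simp
    rw [AlgebraicGeometry.basicOpen_eq_bot_iff] at h'
    exact (sub_eq_zero.mp h').symm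

/-- Let X be a connected reduced scheme over a field k. Then the global functions on X that are integral
over k form a field. -/
theorem result (k : Type u) [Field k] (X : Scheme.{u}) [X.Over (Spec (CommRingCat.of k))] [ConnectedSpace ↥X] [IsReduced X] :
    letI := ((X ↘ (Spec (CommRingCat.of k))).appTop.hom.comp (Scheme.ΓSpecIso (CommRingCat.of k)).inv.hom : k →+* Γ(X, ⊤)).toAlgebra
    IsField ↥(integralClosure k ↑Γ(X, ⊤)) := by
  letI alg : Algebra k Γ(X, ⊤) := ((X ↘ (Spec (CommRingCat.of k))).appTop.hom.comp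
    (Scheme.ΓSpecIso (CommRingCat.of k)).inv.hom : k →+* Γ(X, ⊤)).toAlgebra
  show IsField ↥(integralClosure k ↑Γ(X, ⊤))
  haveI : Nonempty (⊤ : X.Opens) := ⟨⟨(inferInstance : Nonempty X).some, trivial⟩⟩
  haveI : Nontrivial Γ(X, ⊤) := inferInstance
  haveI : IsReduced Γ(X, ⊤) := inferInstance
  refine { exists_pair_ne := ⟨0, 1, zero_ne_one⟩, mul_comm := mul_comm, mul_inv_cancel := ?_ }
  intro a ha
  have hint : IsIntegral k (a : Γ(X, ⊤)) := a.2
  have hp0 : minpoly k (a : Γ(X, ⊤)) ≠ 0 := minpoly.ne_zero hint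
  have hpa : Polynomial.aeval a (minpoly k (a : Γ(X, ⊤))) = 0 := by
    apply Subtype.ext
    rw [← Subalgebra.aeval_coe]
    exact minpoly.aeval k (a : Γ(X, ⊤))
  obtain ⟨q, hq, hq'⟩ := Polynomial.exists_eq_pow_rootMultiplicity_mul_and_not_dvd
    (minpoly k (a : Γ(X, ⊤))) hp0 0
  generalize (minpoly k (a : Γ(X, ⊤))).rootMultiplicity 0 = m at hq
  rw [Polynomial.C_0, sub_zero] at hq hq'
  have hc : q.coeff 0 ≠ 0 := fun h => hq' (Polynomial.X_dvd_iff.mpr h)
  have huw : Polynomial.aeval a q =
      a * Polynomial.aeval a q.divX + algebraMap k _ (q.coeff 0) := by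
    have := congrArg (Polynomial.aeval a) (Polynomial.divX_mul_X_add q)
    simp only [map_add, map_mul, Polynomial.aeval_X, Polynomial.aeval_C] at this
    rw [← this]
    ring
  have hau : a ^ m * Polynomial.aeval a q = 0 := by
    have := hpa
    rw [hq, map_mul, map_pow, Polynomial.aeval_X] at this
    exact this
  generalize Polynomial.aeval a q = u at huw hau
  generalize Polynomial.aeval a q.divX = w at huw
  have hcc : algebraMap k (integralClosure k Γ(X, ⊤)) (q.coeff 0)⁻¹ *
      algebraMap k (integralClosure k Γ(X, ⊤)) (q.coeff 0) = 1 := by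
    rw [← map_mul, inv_mul_cancel₀ hc, map_one]
  generalize algebraMap k (integralClosure k Γ(X, ⊤)) (q.coeff 0)⁻¹ = c at hcc
  generalize algebraMap k (integralClosure k Γ(X, ⊤)) (q.coeff 0) = c0 at hcc huw
  have hcop : IsCoprime a u := ⟨-(c * w), c, by rw [huw]; linear_combination hcc⟩
  obtain ⟨s, t, hst⟩ := hcop.pow_left (m := m)
  have hid : (s * a ^ m) * (1 - s * a ^ m) = 0 := by
    have : 1 - s * a ^ m = t * u := by rw [← hst]; ring
    rw [this]
    linear_combination (s * t) * hau
  have hidR : ((s * a ^ m : integralClosure k Γ(X, ⊤)) : Γ(X, ⊤)) *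
      (1 - ((s * a ^ m : integralClosure k Γ(X, ⊤)) : Γ(X, ⊤))) = 0 := by
    have := congrArg (fun x : integralClosure k Γ(X, ⊤) => (x : Γ(X, ⊤))) hid
    simpa using this
  rcases idem_trivial X _ hidR with h0 | h1
  · exfalso
    have h0' : s * a ^ m = 0 := Subtype.ext h0
    have htu : t * u = 1 := by rw [← hst, h0', zero_add]
    have ham : a ^ m = 0 := by
      calc a ^ m = a ^ m * (t * u) := by rw [htu, mul_one]
        _ = t * (a ^ m * u) := by ring
        _ = 0 := by rw [hau, mul_zero]
    have hR : (a : Γ(X, ⊤)) ^ m = 0 := by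
      have := congrArg (fun x : integralClosure k Γ(X, ⊤) => (x : Γ(X, ⊤))) ham
      simpa using this
    have : (a : Γ(X, ⊤)) = 0 := IsNilpotent.eq_zero ⟨m, hR⟩
    exact ha (Subtype.ext this)
  · have h1' : s * a ^ m = 1 := Subtype.ext h1
    rcases Nat.eq_zero_or_pos m with hm | hm
    · have hu0 : u = 0 := by rw [hm, pow_zero, one_mul] at hau; exact hau
      refine ⟨-(c * w), ?_⟩
      rw [hu0] at huw
      linear_combination c * huw + hcc
    · refine ⟨s * a ^ (m - 1), ?_⟩
      have : a * a ^ (m - 1) = a ^ m := by rw [← pow_succ', Nat.sub_add_cancel hm]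
      calc a * (s * a ^ (m - 1)) = s * (a * a ^ (m - 1)) := by ring
        _ = s * a ^ m := by rw [this]
        _ = 1 := h1'

end Groth.Agent.S7618
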