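import Groth.Statements.S7619
import Mathlib

set_option linter.style.haveILetI false

set_option autoImplicit false
universe u
open CategoryTheory CategoryTheory.Limits AlgebraicGeometry
open scoped TensorProduct
open Variety

namespace Groth.Agent.S7619

section Aux

open TensorProduct

theorem exists_span_fin (A B : Type u) [CommRing A] [CommRing B] [Algebra A B]
    [Algebra.FiniteType A B] (q : Ideal B) [q.IsPrime] (r : ℕ)
    (hr : Module.finrank q.ResidueField (q.ResidueField ⊗[B] Ω[B⁄A]) = r) :
    ∃ β : Fin r → B, Submodule.span q.ResidueField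
      (Set.range fun i => (1 : q.ResidueField) ⊗ₜ[B] KaehlerDifferential.D A B (β i)) = ⊤ := by
  classical
  obtain ⟨T, hTdef⟩ : ∃ T : Set (q.ResidueField ⊗[B] Ω[B⁄A]),
      T = Set.range (fun b : B => (1 : q.ResidueField) ⊗ₜ[B] KaehlerDifferential.D A B b) :=
    ⟨_, rfl⟩
  have hT : Submodule.span q.ResidueField T = ⊤ := by
    have h1 := Submodule.baseChange_span (R := B) (A := q.ResidueField)
      (Set.range (KaehlerDifferential.D A B))
    rw [KaehlerDifferential.span_range_derivation, Submodule.baseChange_top] at h1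
    rw [h1]
    congr 1
    rw [hTdef]
    ext y; constructor
    · rintro ⟨b, rfl⟩; exact ⟨_, ⟨b, rfl⟩, rfl⟩
    · rintro ⟨_, ⟨b, rfl⟩, rfl⟩; exact ⟨b, rfl⟩
  obtain ⟨s, hsT, hspan, hli⟩ := exists_linearIndependent q.ResidueField T
  let bas : Module.Basis s q.ResidueField (q.ResidueField ⊗[B] Ω[B⁄A]) :=
    Module.Basis.mk hli (by rw [Subtype.range_coe, hspan, hT])
  haveI : Finite s := Module.Finite.finite_basis bas
  have hcard : Nat.card s = r := by
    rw [← hr]; exact (Module.finrank_eq_nat_card_basis bas).symm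
  let e : s ≃ Fin r := Finite.equivFinOfCardEq hcard
  have hch : ∀ y : s, ∃ b : B,
      (1 : q.ResidueField) ⊗ₜ[B] KaehlerDifferential.D A B b = (y : q.ResidueField ⊗[B] Ω[B⁄A]) := by
    intro y
    have := hsT y.2
    rw [hTdef] at this
    exact this
  choose g hg using hch
  refine ⟨fun i => g (e.symm i), ?_⟩
  have : (Set.range fun i => (1 : q.ResidueField) ⊗ₜ[B]
      KaehlerDifferential.D A B (g (e.symm i))) = s := by
    ext y; constructor
    · rintro ⟨i, rfl⟩; dsimp only; rw [hg]; exact (e.symm i).2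
    · intro hy; refine ⟨e ⟨y, hy⟩, ?_⟩; dsimp only; rw [Equiv.symm_apply_apply, hg]
  rw [this, hspan, hT]

end Aux

/-- Let A → B be a finite type ring map (a finite type morphism of affine schemes), q a prime of B and r
= dim_{κ(q)} Ω_{B/A} ⊗_B κ(q). Then there is an A-algebra homomorphism A[x_1, …, x_r] → B for which
B is unramified over A[x_1, …, x_r] at q. -/
theorem result (A B : Type u) [CommRing A] [CommRing B] [Algebra A B] [Algebra.FiniteType A B]
    (q : Ideal B) [q.IsPrime] (r : ℕ) (hr : Module.finrank q.ResidueField (q.ResidueField ⊗[B] Ω[B⁄A]) = r) :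
    ∃ φ : MvPolynomial (Fin r) A →ₐ[A] B,
      letI := φ.toRingHom.toAlgebra
      Algebra.IsUnramifiedAt (MvPolynomial (Fin r) A) q := by
  classical
  obtain ⟨β, hβ⟩ := exists_span_fin A B q r hr
  let φ : MvPolynomial (Fin r) A →ₐ[A] B := MvPolynomial.aeval β
  refine ⟨φ, ?_⟩
  letI : Algebra (MvPolynomial (Fin r) A) B := φ.toRingHom.toAlgebra
  haveI : IsScalarTower A (MvPolynomial (Fin r) A) B :=
    IsScalarTower.of_algebraMap_eq' φ.comp_algebraMap.symm
  haveI : Algebra.FiniteType (MvPolynomial (Fin r) A) B :=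
    Algebra.FiniteType.of_restrictScalars_finiteType A _ B
  show Algebra.IsUnramifiedAt (MvPolynomial (Fin r) A) q
  let g : q.ResidueField ⊗[B] Ω[B⁄A] →ₗ[q.ResidueField]
      q.ResidueField ⊗[B] Ω[B⁄MvPolynomial (Fin r) A] :=
    (KaehlerDifferential.map A (MvPolynomial (Fin r) A) B B).baseChange q.ResidueField
  have hgsurj : Function.Surjective g := by
    intro y
    obtain ⟨x, hx⟩ := LinearMap.lTensor_surjective q.ResidueField
      (KaehlerDifferential.map_surjective A (MvPolynomial (Fin r) A) B) y
    exact ⟨x, hx⟩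
  have hg0 : g = 0 := by
    apply LinearMap.ext_on hβ
    rintro _ ⟨i, rfl⟩
    show g ((1 : q.ResidueField) ⊗ₜ[B] KaehlerDifferential.D A B (β i)) = 0
    rw [LinearMap.baseChange_tmul, KaehlerDifferential.map_D]
    have hβi : algebraMap B B (β i) = algebraMap (MvPolynomial (Fin r) A) B (MvPolynomial.X i) := by
      show β i = φ (MvPolynomial.X i)
      simp [φ]
    rw [hβi, Derivation.map_algebraMap, TensorProduct.tmul_zero]
  have key : Subsingleton (q.ResidueField ⊗[B] Ω[B⁄MvPolynomial (Fin r) A]) := ⟨fun x y => by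
    obtain ⟨x', rfl⟩ := hgsurj x
    obtain ⟨y', rfl⟩ := hgsurj y
    rw [hg0]; rfl⟩
  have hmem : (⟨q, inferInstance⟩ : PrimeSpectrum B) ∈
      Algebra.unramifiedLocus (MvPolynomial (Fin r) A) B := by
    rw [Algebra.unramifiedLocus_eq_compl_support, Set.mem_compl_iff,
      Module.mem_support_iff_nontrivial_residueField_tensorProduct,
      not_nontrivial_iff_subsingleton]
    exact key
  exact hmem

end Groth.Agent.S7619
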