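import Groth.Statements.S7620
import Mathlib
import Groth.Agent.H14Lib.KrullDim

set_option linter.style.haveILetI false

set_option autoImplicit false
universe u
open CategoryTheory CategoryTheory.Limits AlgebraicGeometry
open scoped TensorProduct
open Variety

namespace Groth.Agent.S7620

section Aux

open TensorProduct

/-- Every element of `κ(p) ⊗ B` is, up to a scalar from `A ∖ p`, a pure tensor `1 ⊗ b`. -/
theorem exists_smul_eq_one_tmul (A B : Type u) [CommRing A] [CommRing B] [Algebra A B]
    (p : Ideal A) [p.IsPrime] (y : p.ResidueField ⊗[A] B) :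
    ∃ s : A, s ∉ p ∧ ∃ b : B, s • y = (1 : p.ResidueField) ⊗ₜ[A] b := by
  induction y using TensorProduct.induction_on with
  | zero =>
    exact ⟨1, fun h => (Ideal.IsPrime.ne_top ‹_›) ((Ideal.eq_top_iff_one p).mpr h), 0, by simp⟩
  | tmul c b =>
    obtain ⟨x, rfl⟩ := IsLocalRing.residue_surjective (R := Localization.AtPrime p) c
    obtain ⟨⟨a, s⟩, hx⟩ := IsLocalization.surj p.primeCompl x
    refine ⟨s, s.2, a • b, ?_⟩
    have h1 : algebraMap A p.ResidueField s * IsLocalRing.residue _ x =
        algebraMap A p.ResidueField a := by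
      rw [IsScalarTower.algebraMap_apply A (Localization.AtPrime p) p.ResidueField,
        IsScalarTower.algebraMap_apply A (Localization.AtPrime p) p.ResidueField a,
        IsLocalRing.ResidueField.algebraMap_eq, ← map_mul, mul_comm]
      exact congrArg _ hx
    rw [TensorProduct.smul_tmul', Algebra.smul_def, h1, Algebra.algebraMap_eq_smul_one,
      TensorProduct.smul_tmul]
  | add y₁ y₂ h₁ h₂ =>
    obtain ⟨s₁, hs₁, b₁, e₁⟩ := h₁
    obtain ⟨s₂, hs₂, b₂, e₂⟩ := h₂
    refine ⟨s₁ * s₂, fun h => (Ideal.IsPrime.mem_or_mem ‹_› h).elim hs₁ hs₂,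
      s₂ • b₁ + s₁ • b₂, ?_⟩
    rw [TensorProduct.tmul_add, TensorProduct.tmul_smul, TensorProduct.tmul_smul, ← e₁, ← e₂,
      smul_add, mul_smul s₁ s₂ y₂, mul_comm s₁ s₂, mul_smul s₂ s₁ y₁]

end Aux

/-- Let A → B be a finite type ring map (a finite type morphism of affine schemes X → S), p a prime of A
and suppose the fibre ring κ(p) ⊗_A B has Krull dimension d. Then there is an A-algebra homomorphism
π : A[t_1, …, t_d] → B such that the induced map of fibres κ(p) ⊗_A A[t_1, …, t_d] → κ(p) ⊗_A B is
finite. -/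
theorem result (A B : Type u) [CommRing A] [CommRing B] [Algebra A B] [Algebra.FiniteType A B]
    (p : Ideal A) [p.IsPrime] (d : ℕ) (hd : ringKrullDim (p.ResidueField ⊗[A] B) = d) :
    ∃ π : MvPolynomial (Fin d) A →ₐ[A] B,
      (Algebra.TensorProduct.map (AlgHom.id p.ResidueField p.ResidueField) π).toRingHom.Finite := by
  classical
  haveI : Nontrivial (p.ResidueField ⊗[A] B) := by
    by_contra h
    rw [not_nontrivial_iff_subsingleton] at h
    rw [ringKrullDim_eq_bot_of_subsingleton] at hd
    exact (WithBot.natCast_ne_bot d) hd.symm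
  obtain ⟨s, g, hginj, hgfin⟩ :=
    exists_finite_inj_algHom_of_fg p.ResidueField (p.ResidueField ⊗[A] B)
  have hsd : s = d := by
    letI : Algebra (MvPolynomial (Fin s) p.ResidueField) (p.ResidueField ⊗[A] B) :=
      g.toRingHom.toAlgebra
    haveI : Module.Finite (MvPolynomial (Fin s) p.ResidueField) (p.ResidueField ⊗[A] B) := hgfin
    haveI : Algebra.IsIntegral (MvPolynomial (Fin s) p.ResidueField) (p.ResidueField ⊗[A] B) :=
      Algebra.IsIntegral.of_finite _ _
    have h1 := Groth.Agent.H14Lib.ringKrullDim_eq_of_isIntegral_of_injective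
      (MvPolynomial (Fin s) p.ResidueField) (p.ResidueField ⊗[A] B) hginj
    rw [hd, MvPolynomial.ringKrullDim_of_isNoetherianRing, ringKrullDim_eq_zero_of_field,
      zero_add, Nat.card_eq_fintype_card, Fintype.card_fin] at h1
    exact_mod_cast h1.symm
  subst hsd
  choose sA hsA b hb using fun i : Fin s =>
    exists_smul_eq_one_tmul A B p (g (MvPolynomial.X i))
  let π : MvPolynomial (Fin s) A →ₐ[A] B := MvPolynomial.aeval b
  refine ⟨π, ?_⟩
  let u : Fin s → p.ResidueField := fun i => algebraMap A p.ResidueField (sA i)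
  have hu : ∀ i, u i ≠ 0 := fun i h => hsA i (Ideal.algebraMap_residueField_eq_zero.mp h)
  let σ : MvPolynomial (Fin s) p.ResidueField →ₐ[p.ResidueField]
      MvPolynomial (Fin s) p.ResidueField :=
    MvPolynomial.aeval (fun i => MvPolynomial.C (u i) * MvPolynomial.X i)
  let τ : MvPolynomial (Fin s) p.ResidueField →ₐ[p.ResidueField]
      MvPolynomial (Fin s) p.ResidueField :=
    MvPolynomial.aeval (fun i => MvPolynomial.C (u i)⁻¹ * MvPolynomial.X i)
  have hστ : σ.comp τ = AlgHom.id _ _ := by
    apply MvPolynomial.algHom_ext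
    intro i
    simp only [σ, τ, AlgHom.comp_apply, MvPolynomial.aeval_X, map_mul, MvPolynomial.aeval_C,
      AlgHom.id_apply]
    rw [MvPolynomial.algebraMap_eq, ← mul_assoc, ← MvPolynomial.C_mul, inv_mul_cancel₀ (hu i),
      MvPolynomial.C_1, one_mul]
  have hσsurj : Function.Surjective σ := fun x => ⟨τ x, AlgHom.congr_fun hστ x⟩
  have hg' : (g.comp σ).toRingHom.Finite :=
    RingHom.Finite.comp hgfin (RingHom.Finite.of_surjective _ hσsurj)
  let e := MvPolynomial.algebraTensorAlgEquiv (σ := Fin s) A p.ResidueField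
  let T := Algebra.TensorProduct.map (AlgHom.id p.ResidueField p.ResidueField) π
  have hT : T.comp e.symm.toAlgHom = g.comp σ := by
    apply MvPolynomial.algHom_ext
    intro i
    have h1 : g (σ (MvPolynomial.X i)) = sA i • g (MvPolynomial.X i) := by
      simp only [σ, MvPolynomial.aeval_X, map_mul]
      rw [← MvPolynomial.algebraMap_eq, AlgHom.commutes, ← Algebra.smul_def, algebraMap_smul]
    have h2 : T (e.symm (MvPolynomial.X i)) = 1 ⊗ₜ b i := by
      rw [MvPolynomial.algebraTensorAlgEquiv_symm_X]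
      simp [T, π]
    show T (e.symm (MvPolynomial.X i)) = g (σ (MvPolynomial.X i))
    rw [h1, h2, hb i]
  have hT' : T.toRingHom.comp e.symm.toAlgHom.toRingHom = (g.comp σ).toRingHom :=
    congrArg AlgHom.toRingHom hT
  exact RingHom.Finite.of_comp_finite (hT' ▸ hg')

end Groth.Agent.S7620
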