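import Groth.Statements.S7622
import Mathlib
import Groth.Agent.H27.RegSmoothU
import Groth.Agent.H27.RegSmooth
import Groth.Agent.H27.CoeffSection
import Groth.Agent.H27.FieldSmooth
import Groth.Agent.S19474

set_option autoImplicit false
universe u
open CategoryTheory CategoryTheory.Limits AlgebraicGeometry
open Variety

namespace Groth.Agent.S7622

/-- Let A be a Noetherian local algebra over a field k (such as the local ring of a locally Noetherian
k-scheme at a point) whose residue field κ is a separable extension of k, meaning geometrically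
reduced over k; κ need not be algebraic over k. Then there are n ≥ 0, an ideal I of κ[[x_1, …, x_n]]
and a k-algebra isomorphism e from κ[[x_1, …, x_n]]/I onto the completion A^∧ of A at its maximal
ideal which induces the identity on residue fields: for every a in A, the value of e on the constant
power series whose value is the residue class of a is congruent to the image of a modulo the
extended maximal ideal of A^∧. -/
theorem result (k A : Type u) [Field k] [CommRing A] [Algebra k A]
    [IsNoetherianRing A] [IsLocalRing A] [Algebra.IsGeometricallyReduced k (IsLocalRing.ResidueField A)] :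
    ∃ (n : ℕ) (I : Ideal (MvPowerSeries (Fin n) (IsLocalRing.ResidueField A)))
      (e : (MvPowerSeries (Fin n) (IsLocalRing.ResidueField A) ⧸ I) ≃ₐ[k]
        AdicCompletion (IsLocalRing.maximalIdeal A) A),
      ∀ a : A, e (Ideal.Quotient.mk I (MvPowerSeries.C (IsLocalRing.residue A a))) -
          algebraMap A (AdicCompletion (IsLocalRing.maximalIdeal A) A) a ∈
        (IsLocalRing.maximalIdeal A).map (algebraMap A (AdicCompletion (IsLocalRing.maximalIdeal A) A)) := by
  classical
  haveI := Groth.Agent.S19474.isNoetherianRing_adicCompletion A (IsLocalRing.maximalIdeal A)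
  have hmax := AdicCompletion.maximalIdeal_eq_map (R := A)
  have hbij := AdicCompletion.residueField_map_bijective A
  let ι : IsLocalRing.ResidueField A ≃+*
      IsLocalRing.ResidueField (AdicCompletion (IsLocalRing.maximalIdeal A) A) :=
    RingEquiv.ofBijective _ hbij
  have hι : ∀ a : A, ι (IsLocalRing.residue A a) =
      IsLocalRing.residue _ (algebraMap A (AdicCompletion (IsLocalRing.maximalIdeal A) A) a) :=
    fun a => rfl
  have hιc : ∀ c : k, ι (algebraMap k (IsLocalRing.ResidueField A) c) =
      algebraMap k (IsLocalRing.ResidueField (AdicCompletion (IsLocalRing.maximalIdeal A) A)) c := by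
    intro c
    show ι (IsLocalRing.residue A (algebraMap k A c)) =
      IsLocalRing.residue _ (algebraMap k (AdicCompletion (IsLocalRing.maximalIdeal A) A) c)
    rw [hι, ← IsScalarTower.algebraMap_apply]
  let ιₐ : IsLocalRing.ResidueField A ≃ₐ[k]
      IsLocalRing.ResidueField (AdicCompletion (IsLocalRing.maximalIdeal A) A) :=
    AlgEquiv.ofRingEquiv (f := ι) hιc
  haveI : Algebra.FormallySmooth k (IsLocalRing.ResidueField A) :=
    Groth.Agent.H27.FieldSmooth.formallySmooth_of_geomReduced
  haveI : Algebra.FormallySmooth k
      (IsLocalRing.ResidueField (AdicCompletion (IsLocalRing.maximalIdeal A) A)) :=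
    Algebra.FormallySmooth.of_equiv ιₐ
  obtain ⟨σ, hσ⟩ := Groth.Agent.H27.RegSmooth.exists_algSection k
    (AdicCompletion (IsLocalRing.maximalIdeal A) A)
  obtain ⟨x, hx⟩ := Groth.Agent.H27.RegSmooth.exists_gens
    (AdicCompletion (IsLocalRing.maximalIdeal A) A) _ rfl
  obtain ⟨u, huC, huX, husurj⟩ :=
    Groth.Agent.H27.CoeffSection.exists_ps_surjection σ.toRingHom hσ x hx
  have hmιsurj := (Groth.Agent.H27.RegSmooth.map_bijective
    (Fin (IsLocalRing.maximalIdeal (AdicCompletion (IsLocalRing.maximalIdeal A) A)).spanFinrank) ι).2
  let vA : MvPowerSeries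
      (Fin (IsLocalRing.maximalIdeal (AdicCompletion (IsLocalRing.maximalIdeal A) A)).spanFinrank)
      (IsLocalRing.ResidueField A) →ₐ[k] AdicCompletion (IsLocalRing.maximalIdeal A) A :=
    { toRingHom := u.comp (MvPowerSeries.map (ι : IsLocalRing.ResidueField A →+*
        IsLocalRing.ResidueField (AdicCompletion (IsLocalRing.maximalIdeal A) A)))
      commutes' := fun c => by
        show u (MvPowerSeries.map (ι : IsLocalRing.ResidueField A →+*
          IsLocalRing.ResidueField (AdicCompletion (IsLocalRing.maximalIdeal A) A))
          (algebraMap k _ c)) = algebraMap k _ c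
        rw [MvPowerSeries.algebraMap_apply, MvPowerSeries.map_C, huC]
        show σ (ι (algebraMap k (IsLocalRing.ResidueField A) c)) = _
        rw [hιc]
        exact σ.commutes c }
  have hvsurj : Function.Surjective vA := fun r => by
    obtain ⟨s, hs⟩ := husurj r
    obtain ⟨t, ht⟩ := hmιsurj s
    exact ⟨t, by
      show u (MvPowerSeries.map _ t) = r
      rw [ht, hs]⟩
  refine ⟨_, RingHom.ker vA, Ideal.quotientKerAlgEquivOfSurjective hvsurj, ?_⟩
  intro a
  rw [Ideal.quotientKerAlgEquivOfSurjective_mk, ← hmax, ← IsLocalRing.residue_eq_zero_iff, map_sub]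
  have h1 : vA (MvPowerSeries.C (IsLocalRing.residue A a)) = σ (ι (IsLocalRing.residue A a)) := by
    show u (MvPowerSeries.map _ (MvPowerSeries.C (IsLocalRing.residue A a))) = _
    rw [MvPowerSeries.map_C, huC]
    rfl
  rw [h1, hσ, hι, sub_self]

end Groth.Agent.S7622
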