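import Groth.Statements.S7629
import Mathlib
import Groth.Agent.S14360

set_option autoImplicit false
universe u
open CategoryTheory CategoryTheory.Limits AlgebraicGeometry
open Variety

namespace Groth.Agent.S7629

open AlgebraicGeometry CategoryTheory in
theorem key' {X Y : Scheme.{u}} (W : X.Opens) (W' : Y.Opens) (a : W.toScheme ⟶ Y)
    (b : W'.toScheme ⟶ X)
    (h1 : (a ∣_ W') ≫ b = (a ⁻¹ᵁ W').ι ≫ W.ι) (h2 : (b ∣_ W) ≫ a = (b ⁻¹ᵁ W).ι ≫ W'.ι) :
    ∃ i : (a ⁻¹ᵁ W').toScheme ≅ (b ⁻¹ᵁ W).toScheme, i.hom ≫ (b ⁻¹ᵁ W).ι = a ∣_ W' := by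
  have hp : Set.range (a ∣_ W') ⊆ Set.range (b ⁻¹ᵁ W).ι := by
    rintro _ ⟨x, rfl⟩
    rw [Scheme.Opens.range_ι]
    have e := congrArg (fun f : (a ⁻¹ᵁ W').toScheme ⟶ X => f x) h1
    simp only [Scheme.Hom.comp_apply] at e
    show b ((a ∣_ W') x) ∈ (W : Set X)
    rw [e]
    exact ((a ⁻¹ᵁ W').ι x).2
  have hq : Set.range (b ∣_ W) ⊆ Set.range (a ⁻¹ᵁ W').ι := by
    rintro _ ⟨x, rfl⟩
    rw [Scheme.Opens.range_ι]
    have e := congrArg (fun f : (b ⁻¹ᵁ W).toScheme ⟶ Y => f x) h2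
    simp only [Scheme.Hom.comp_apply] at e
    show a ((b ∣_ W) x) ∈ (W' : Set Y)
    rw [e]
    exact ((b ⁻¹ᵁ W).ι x).2
  let p := IsOpenImmersion.lift (b ⁻¹ᵁ W).ι (a ∣_ W') hp
  let q := IsOpenImmersion.lift (a ⁻¹ᵁ W').ι (b ∣_ W) hq
  have hpf : p ≫ (b ⁻¹ᵁ W).ι = a ∣_ W' := IsOpenImmersion.lift_fac _ _ _
  have hqf : q ≫ (a ⁻¹ᵁ W').ι = b ∣_ W := IsOpenImmersion.lift_fac _ _ _
  refine ⟨⟨p, q, ?_, ?_⟩, hpf⟩
  · rw [← cancel_mono ((a ⁻¹ᵁ W').ι ≫ W.ι)]
    rw [Category.assoc, reassoc_of% hqf, morphismRestrict_ι, reassoc_of% hpf, h1, Category.id_comp]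
  · rw [← cancel_mono ((b ⁻¹ᵁ W).ι ≫ W'.ι)]
    rw [Category.assoc, reassoc_of% hpf, morphismRestrict_ι, reassoc_of% hqf, h2, Category.id_comp]

open AlgebraicGeometry CategoryTheory in
theorem nonempty_image_preimage {X Y : Scheme.{u}} (W : X.Opens) (a : W.toScheme ⟶ Y)
    [IsDominant a] (W' : Y.Opens) (hW' : (W' : Set Y).Nonempty) :
    ((W.ι ''ᵁ a ⁻¹ᵁ W' : X.Opens) : Set X).Nonempty := by
  simpa [← Set.nonempty_preimage_iff] using a.denseRange.inter_open_nonempty _ W'.2 hW'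

open AlgebraicGeometry CategoryTheory in
theorem fromSpecStalk_comp_struct (k : Type u) [Field k] (X : Scheme.{u})
    [X.Over (Spec (CommRingCat.of k))] (x : X) :
    X.fromSpecStalk x ≫ (X ↘ Spec (CommRingCat.of k)) =
      Spec.map (CommRingCat.ofHom (Curv2.stalkMap k X x)) := by
  have h1 : X.toSpecΓ ≫ Spec.map ((Scheme.ΓSpecIso (CommRingCat.of k)).inv ≫
      (X ↘ Spec (CommRingCat.of k)).appTop) = (X ↘ Spec (CommRingCat.of k)) := by
    rw [Spec.map_comp, ← Scheme.toSpecΓ_naturality_assoc, toSpecΓ_SpecMap_ΓSpecIso_inv,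
      Category.comp_id]
  calc X.fromSpecStalk x ≫ (X ↘ Spec (CommRingCat.of k))
      = X.fromSpecStalk x ≫ X.toSpecΓ ≫ Spec.map ((Scheme.ΓSpecIso (CommRingCat.of k)).inv ≫
          (X ↘ Spec (CommRingCat.of k)).appTop) := by rw [h1]
    _ = Spec.map (((Scheme.ΓSpecIso (CommRingCat.of k)).inv ≫
          (X ↘ Spec (CommRingCat.of k)).appTop) ≫ X.presheaf.germ ⊤ x trivial) := by
        rw [Scheme.fromSpecStalk_toSpecΓ_assoc, ← Spec.map_comp]
    _ = _ := rfl

open AlgebraicGeometry CategoryTheory in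
theorem fromSpecStalkOfMem_homOfLE {X : Scheme.{u}} {U V : X.Opens} (h : U ≤ V) (x : X)
    (hx : x ∈ U) :
    U.fromSpecStalkOfMem x hx ≫ X.homOfLE h = V.fromSpecStalkOfMem x (h hx) := by
  rw [← cancel_mono V.ι, Category.assoc, Scheme.homOfLE_ι, Scheme.Opens.fromSpecStalkOfMem_ι,
    Scheme.Opens.fromSpecStalkOfMem_ι]

open AlgebraicGeometry CategoryTheory in
theorem fromSpecStalkOfMem_closedPoint {X : Scheme.{u}} (U : X.Opens) (x : X) (hx : x ∈ U) :
    (U.fromSpecStalkOfMem x hx) (IsLocalRing.closedPoint (X.presheaf.stalk x)) = ⟨x, hx⟩ := by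
  apply Subtype.ext
  have := congrArg (fun φ : Spec (X.presheaf.stalk x) ⟶ X =>
    φ (IsLocalRing.closedPoint (X.presheaf.stalk x))) (U.fromSpecStalkOfMem_ι x hx)
  simp only [Scheme.Hom.comp_apply, Scheme.fromSpecStalk_closedPoint] at this
  exact this

set_option backward.isDefEq.respectTransparency false in
set_option backward.defeqAttrib.useBackward true in
open AlgebraicGeometry CategoryTheory in
theorem comp_equiv_id {X Y : Scheme.{u}} [IrreducibleSpace X] [Nonempty Y]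
    (f₀ : X.PartialMap Y) (g₀ : Y.PartialMap X) [IsDominant f₀.hom]
    {x : X} [X.IsGermInjectiveAt x] {y : Y} (hx : x ∈ f₀.domain) (hy : y ∈ g₀.domain)
    (hxy : f₀.hom ⟨x, hx⟩ = y)
    (θ : Spec (X.presheaf.stalk x) ⟶ Spec (Y.presheaf.stalk y))
    (h1 : f₀.fromSpecStalkOfMem hx = θ ≫ Y.fromSpecStalk y)
    (h2 : θ ≫ g₀.fromSpecStalkOfMem hy = X.fromSpecStalk x) :
    (f₀.comp g₀).equiv (Scheme.PartialMap.id X) := by
  have hxF : x ∈ (f₀.comp g₀).domain := by
    show x ∈ f₀.domain.ι ''ᵁ (f₀.hom ⁻¹ᵁ g₀.domain)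
    refine ⟨⟨x, hx⟩, ?_, rfl⟩
    show f₀.hom ⟨x, hx⟩ ∈ g₀.domain
    rw [hxy]; exact hy
  refine Scheme.PartialMap.equiv_of_fromSpecStalkOfMem_eq (x := x) _ _ hxF trivial ?_
  rw [Scheme.PartialMap.fromSpecStalkOfMem_toPartialMap, Category.comp_id]
  have C1 : (f₀.comp g₀).domain.fromSpecStalkOfMem x hxF ≫ (f₀.domain.ι.isoImage _).inv ≫
      (f₀.hom ∣_ g₀.domain) = θ ≫ g₀.domain.fromSpecStalkOfMem y hy := by
    rw [← cancel_mono g₀.domain.ι]
    simp only [Category.assoc, morphismRestrict_ι, Scheme.Opens.fromSpecStalkOfMem_ι]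
    rw [Scheme.Opens.isoImage_ι_inv_ι_assoc, ← Category.assoc, fromSpecStalkOfMem_homOfLE]
    exact h1
  show (f₀.comp g₀).domain.fromSpecStalkOfMem x hxF ≫ (f₀.comp g₀).hom = _
  rw [Scheme.PartialMap.comp_hom, reassoc_of% C1]
  exact h2

set_option backward.isDefEq.respectTransparency false in
set_option backward.defeqAttrib.useBackward true in
open AlgebraicGeometry CategoryTheory in
theorem main (k : Type u) [Field k] (X : Scheme.{u}) [X.Over (Spec (CommRingCat.of k))]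
    [IsIntegral X] [LocallyOfFiniteType (X ↘ (Spec (CommRingCat.of k)))]
    (Y : Scheme.{u}) [Y.Over (Spec (CommRingCat.of k))] [IsIntegral Y]
    [LocallyOfFiniteType (Y ↘ (Spec (CommRingCat.of k)))]
    (e : X.functionField ≅ Y.functionField)
    (he : e.hom.hom.comp (Curv2.stalkMap k X (genericPoint X)) =
      Curv2.stalkMap k Y (genericPoint Y)) :
    ∃ (U : X.Opens) (V : Y.Opens), (U : Set ↥X).Nonempty ∧
      ∃ φ : (U : Scheme.{u}) ≅ (V : Scheme.{u}),
        φ.hom ≫ V.ι ≫ (Y ↘ (Spec (CommRingCat.of k))) =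
          U.ι ≫ (X ↘ (Spec (CommRingCat.of k))) := by
  haveI : IrreducibleSpace X := inferInstance
  haveI : IrreducibleSpace Y := inferInstance
  have heX : CommRingCat.ofHom (Curv2.stalkMap k X (genericPoint X)) ≫ e.hom =
      CommRingCat.ofHom (Curv2.stalkMap k Y (genericPoint Y)) := by
    rw [← he]; rfl
  have heY : CommRingCat.ofHom (Curv2.stalkMap k Y (genericPoint Y)) ≫ e.inv =
      CommRingCat.ofHom (Curv2.stalkMap k X (genericPoint X)) := by
    rw [← heX, Category.assoc, e.hom_inv_id]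
    exact Category.comp_id _
  have hfXY : (Spec.map e.inv ≫ Y.fromSpecStalk (genericPoint Y)) ≫
      (Y ↘ (Spec (CommRingCat.of k))) =
      X.fromSpecStalk (genericPoint X) ≫ (X ↘ (Spec (CommRingCat.of k))) := by
    rw [Category.assoc, fromSpecStalk_comp_struct, fromSpecStalk_comp_struct, ← Spec.map_comp,
      heY]
  have hfYX : (Spec.map e.hom ≫ X.fromSpecStalk (genericPoint X)) ≫
      (X ↘ (Spec (CommRingCat.of k))) =
      Y.fromSpecStalk (genericPoint Y) ≫ (Y ↘ (Spec (CommRingCat.of k))) := by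
    rw [Category.assoc, fromSpecStalk_comp_struct, fromSpecStalk_comp_struct, ← Spec.map_comp,
      heX]
  set f₀ := Scheme.PartialMap.ofFromSpecStalk (X ↘ (Spec (CommRingCat.of k)))
    (Y ↘ (Spec (CommRingCat.of k))) _ hfXY with hf₀
  set g₀ := Scheme.PartialMap.ofFromSpecStalk (Y ↘ (Spec (CommRingCat.of k)))
    (X ↘ (Spec (CommRingCat.of k))) _ hfYX with hg₀
  have hξf : genericPoint X ∈ f₀.domain := Scheme.PartialMap.mem_domain_ofFromSpecStalk _ _ _ hfXY
  have hηg : genericPoint Y ∈ g₀.domain := Scheme.PartialMap.mem_domain_ofFromSpecStalk _ _ _ hfYX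
  have hf1 : f₀.fromSpecStalkOfMem hξf = Spec.map e.inv ≫ Y.fromSpecStalk (genericPoint Y) :=
    Scheme.PartialMap.fromSpecStalkOfMem_ofFromSpecStalk _ _ _ hfXY
  have hg1 : g₀.fromSpecStalkOfMem hηg = Spec.map e.hom ≫ X.fromSpecStalk (genericPoint X) :=
    Scheme.PartialMap.fromSpecStalkOfMem_ofFromSpecStalk _ _ _ hfYX
  have hfs : f₀.hom ≫ (Y ↘ (Spec (CommRingCat.of k))) =
      f₀.domain.ι ≫ (X ↘ (Spec (CommRingCat.of k))) :=
    Scheme.PartialMap.ofFromSpecStalk_comp _ _ _ hfXY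
  haveI sY : Subsingleton (Spec Y.functionField) :=
    inferInstanceAs (Subsingleton (PrimeSpectrum Y.functionField))
  haveI sX : Subsingleton (Spec X.functionField) :=
    inferInstanceAs (Subsingleton (PrimeSpectrum X.functionField))
  have hfξ : f₀.hom ⟨genericPoint X, hξf⟩ = genericPoint Y := by
    rw [← fromSpecStalkOfMem_closedPoint f₀.domain (genericPoint X) hξf]
    have := congrArg (fun φ : Spec (X.presheaf.stalk (genericPoint X)) ⟶ Y =>
      φ (IsLocalRing.closedPoint (X.presheaf.stalk (genericPoint X)))) hf1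
    simp only [Scheme.PartialMap.fromSpecStalkOfMem, Scheme.Hom.comp_apply] at this
    rw [this, Subsingleton.elim ((Spec.map e.inv) _)
      (IsLocalRing.closedPoint (Y.presheaf.stalk (genericPoint Y))),
      Scheme.fromSpecStalk_closedPoint]
  have hgη : g₀.hom ⟨genericPoint Y, hηg⟩ = genericPoint X := by
    rw [← fromSpecStalkOfMem_closedPoint g₀.domain (genericPoint Y) hηg]
    have := congrArg (fun φ : Spec (Y.presheaf.stalk (genericPoint Y)) ⟶ X =>
      φ (IsLocalRing.closedPoint (Y.presheaf.stalk (genericPoint Y)))) hg1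
    simp only [Scheme.PartialMap.fromSpecStalkOfMem, Scheme.Hom.comp_apply] at this
    rw [this, Subsingleton.elim ((Spec.map e.hom) _)
      (IsLocalRing.closedPoint (X.presheaf.stalk (genericPoint X))),
      Scheme.fromSpecStalk_closedPoint]
  haveI df : IsDominant f₀.hom := ⟨by
    apply dense_iff_closure_eq.mpr
    apply Set.eq_univ_of_univ_subset
    rw [← (genericPoint_spec Y).def]
    exact closure_mono (Set.singleton_subset_iff.mpr ⟨⟨genericPoint X, hξf⟩, hfξ⟩)⟩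
  haveI dg : IsDominant g₀.hom := ⟨by
    apply dense_iff_closure_eq.mpr
    apply Set.eq_univ_of_univ_subset
    rw [← (genericPoint_spec X).def]
    exact closure_mono (Set.singleton_subset_iff.mpr ⟨⟨genericPoint Y, hηg⟩, hgη⟩)⟩
  have EF : (f₀.comp g₀).equiv (Scheme.PartialMap.id X) :=
    comp_equiv_id f₀ g₀ hξf hηg hfξ (Spec.map e.inv) hf1 (by
      rw [hg1, ← Category.assoc, ← Spec.map_comp, e.hom_inv_id, Spec.map_id, Category.id_comp])
  have EG : (g₀.comp f₀).equiv (Scheme.PartialMap.id Y) :=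
    comp_equiv_id g₀ f₀ hηg hξf hgη (Spec.map e.hom) hg1 (by
      rw [hf1, ← Category.assoc, ← Spec.map_comp, e.inv_hom_id, Spec.map_id, Category.id_comp])
  obtain ⟨W, hW, hWl, hWr, E1⟩ := EF
  obtain ⟨W', hW', hW'l, hW'r, E2⟩ := EG
  have E1' : X.homOfLE hWl ≫ (f₀.comp g₀).hom = W.ι := by
    rw [Scheme.PartialMap.restrict_hom, Scheme.PartialMap.restrict_hom] at E1
    rw [E1]; simp
  have E2' : Y.homOfLE hW'l ≫ (g₀.comp f₀).hom = W'.ι := by
    rw [Scheme.PartialMap.restrict_hom, Scheme.PartialMap.restrict_hom] at E2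
    rw [E2]; simp
  have hWU : W ≤ f₀.domain := hWl.trans (f₀.domain.ι_image_le _)
  have hW'V : W' ≤ g₀.domain := hW'l.trans (g₀.domain.ι_image_le _)
  have H1 := Groth.Agent.S14360.half f₀ g₀ W hWl E1' W' hW'l
  have H2 := Groth.Agent.S14360.half g₀ f₀ W' hW'l E2' W hWl
  obtain ⟨i, hi⟩ := key' W W' (X.homOfLE hWU ≫ f₀.hom) (Y.homOfLE hW'V ≫ g₀.hom) H1 H2
  haveI : IsDominant (X.homOfLE hWU) := AlgebraicGeometry.Opens.isDominant_homOfLE hW hWU
  haveI da : IsDominant (X.homOfLE hWU ≫ f₀.hom) := inferInstance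
  refine ⟨W.ι ''ᵁ (X.homOfLE hWU ≫ f₀.hom) ⁻¹ᵁ W', W'.ι ''ᵁ (Y.homOfLE hW'V ≫ g₀.hom) ⁻¹ᵁ W,
    ?_, (W.ι.isoImage _).symm ≪≫ i ≪≫ (W'.ι.isoImage _), ?_⟩
  · exact nonempty_image_preimage W (X.homOfLE hWU ≫ f₀.hom) W' hW'.nonempty
  · simp only [Iso.trans_hom, Iso.symm_hom, Category.assoc]
    rw [Scheme.Hom.isoImage_hom_ι_assoc, reassoc_of% hi, morphismRestrict_ι_assoc]
    have ha_s : (X.homOfLE hWU ≫ f₀.hom) ≫ (Y ↘ (Spec (CommRingCat.of k))) =
        W.ι ≫ (X ↘ (Spec (CommRingCat.of k))) := by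
      rw [Category.assoc, hfs, Scheme.homOfLE_ι_assoc]
    rw [ha_s, Scheme.Hom.isoImage_inv_ι_assoc]

/-- (2) ⇒ (3): let X and Y be varieties over a field k (integral, separated, of finite type) and suppose
the function fields k(X) and k(Y) are isomorphic as k-algebras. Then there are nonempty open
subschemes U ⊆ X and V ⊆ Y which are isomorphic as schemes over k. -/
theorem result (k : Type u) [Field k] (X : Scheme.{u}) [X.Over (Spec (CommRingCat.of k))] [IsIntegral X] [IsSeparated (X ↘ (Spec (CommRingCat.of k)))] [LocallyOfFiniteType (X ↘ (Spec (CommRingCat.of k)))] [QuasiCompact (X ↘ (Spec (CommRingCat.of k)))]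
    (Y : Scheme.{u}) [Y.Over (Spec (CommRingCat.of k))] [IsIntegral Y] [IsSeparated (Y ↘ (Spec (CommRingCat.of k)))] [LocallyOfFiniteType (Y ↘ (Spec (CommRingCat.of k)))] [QuasiCompact (Y ↘ (Spec (CommRingCat.of k)))]
    (e : X.functionField ≅ Y.functionField)
    (he : e.hom.hom.comp (Curv2.stalkMap k X (genericPoint X)) = Curv2.stalkMap k Y (genericPoint Y)) :
    ∃ (U : X.Opens) (V : Y.Opens), (U : Set ↥X).Nonempty ∧
      ∃ φ : (U : Scheme.{u}) ≅ (V : Scheme.{u}), φ.hom ≫ V.ι ≫ (Y ↘ (Spec (CommRingCat.of k))) = U.ι ≫ (X ↘ (Spec (CommRingCat.of k))) := by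
  exact main k X Y e he

end Groth.Agent.S7629
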