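import Groth.Statements.S7644
import Mathlib

set_option autoImplicit false
universe u
open CategoryTheory CategoryTheory.Limits AlgebraicGeometry
open Variety

namespace Groth.Agent.S7644

/-- If X is an irreducible scheme of positive dimension, separated over a field k, and x is a closed
point of X, then the open subscheme obtained by removing x is not proper over k. -/
theorem result (k : Type u) [Field k] (X : Scheme.{u}) [X.Over (Spec (CommRingCat.of k))]
    [IsSeparated (X ↘ (Spec (CommRingCat.of k)))] [IrreducibleSpace X] (hdim : 0 < topologicalKrullDim X)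
    (x : X) (hx : IsClosed ({x} : Set X)) :
    ¬ IsProper (Scheme.Opens.ι (⟨({x} : Set X)ᶜ, hx.isOpen_compl⟩ : X.Opens) ≫ (X ↘ (Spec (CommRingCat.of k)))) := by
  intro hprop
  haveI := hprop
  obtain ⟨U, hUdef⟩ : ∃ U : X.Opens, U = (⟨({x} : Set X)ᶜ, hx.isOpen_compl⟩ : X.Opens) := ⟨_, rfl⟩
  rw [← hUdef] at hprop
  haveI := hprop
  haveI : IsProper U.ι := IsProper.of_comp U.ι (X ↘ (Spec (CommRingCat.of k)))
  have hcl : IsClosed (Set.range U.ι) := U.ι.isClosedMap.isClosed_range
  rw [Scheme.Opens.range_ι, hUdef] at hcl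
  have hopen : IsOpen ({x} : Set X) := by
    have h1 : IsOpen (({x} : Set X)ᶜ)ᶜ := hcl.isOpen_compl
    rwa [compl_compl] at h1
  have hdense : Dense ({x} : Set X) := hopen.dense ⟨x, rfl⟩
  have huniv : ({x} : Set X) = Set.univ := by
    rw [← hx.closure_eq]; exact hdense.closure_eq
  haveI : Subsingleton X := by
    refine ⟨fun a b => ?_⟩
    have ha : a ∈ ({x} : Set X) := by rw [huniv]; trivial
    have hb : b ∈ ({x} : Set X) := by rw [huniv]; trivial
    exact ha.trans hb.symm
  have hle : topologicalKrullDim X ≤ 0 := topologicalKrullDim_zero_of_discreteTopology X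
  exact absurd hdim (not_lt.mpr hle)

end Groth.Agent.S7644
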