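import Mathlib
import Groth.Statements.S7653
import Groth.Agent.Lib.Helper9.Dim1
-- import your own Groth.Agent.* helpers here

set_option autoImplicit false
universe u
open CategoryTheory CategoryTheory.Limits AlgebraicGeometry
open Variety

namespace Groth.Agent.S7653


open IsLocalRing Groth.Agent.Helper9.Dim1

section
variable {A : Type u} [CommRing A]

theorem sInf_minimalPrimes_eq_bot [IsReduced A] : sInf (minimalPrimes A) = (⊥ : Ideal A) := by
  show sInf ((⊥ : Ideal A).minimalPrimes) = ⊥
  rw [Ideal.sInf_minimalPrimes]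
  exact nilradical_eq_zero A

theorem nzd_of_avoid_reduced [IsReduced A] (s : A) (h : ∀ p ∈ minimalPrimes A, s ∉ p) :
    s ∈ nonZeroDivisors A := by
  rw [mem_nonZeroDivisors_iff_right]
  intro x hx
  have hmem : x ∈ sInf (minimalPrimes A) := by
    rw [Ideal.mem_sInf]
    intro p hp
    haveI := Ideal.minimalPrimes_isPrime hp
    have : x * s ∈ p := hx ▸ p.zero_mem
    exact (Ideal.IsPrime.mem_or_mem ‹_› this).resolve_right (h p hp)
  rw [sInf_minimalPrimes_eq_bot] at hmem
  exact hmem

theorem isDomain_of_closed [IsLocalRing A] [IsNoetherianRing A] [IsReduced A]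
    (H1 : ∀ y : FractionRing A, IsIntegral A y → ∃ a, algebraMap A (FractionRing A) a = y) :
    IsDomain A := by
  classical
  obtain ⟨p₁, hp₁, -⟩ := Ideal.exists_minimalPrimes_le (bot_le : (⊥ : Ideal A) ≤ maximalIdeal A)
  have hp₁ : p₁ ∈ minimalPrimes A := hp₁
  haveI hp₁prime := Ideal.minimalPrimes_isPrime hp₁
  have hfin : (minimalPrimes A).Finite := minimalPrimes.finite_of_isNoetherianRing A
  let s : Finset (Ideal A) := hfin.toFinset.erase p₁
  have hs : ∀ q ∈ s, q ∈ minimalPrimes A ∧ q ≠ p₁ := fun q hq => by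
    rw [Finset.mem_erase] at hq
    exact ⟨hfin.mem_toFinset.mp hq.2, hq.1⟩
  have hs' : ∀ q ∈ minimalPrimes A, q ≠ p₁ → q ∈ s := fun q hq hne =>
    Finset.mem_erase.mpr ⟨hne, hfin.mem_toFinset.mpr hq⟩
  have hx : ¬ (s.inf id ≤ p₁) := by
    intro hle
    obtain ⟨q, hq, hqle⟩ := (Ideal.IsPrime.inf_le' hp₁prime).mp hle
    obtain ⟨hqmin, hqne⟩ := hs q hq
    haveI := Ideal.minimalPrimes_isPrime hqmin
    exact hqne (le_antisymm hqle (hp₁.2 ⟨‹_›, bot_le⟩ hqle))
  obtain ⟨x, hxI, hxp⟩ := SetLike.not_le_iff_exists.mp hx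
  have hy : ¬ ((p₁ : Set A) ⊆ ⋃ i ∈ (↑s : Set (Ideal A)), ((id i : Ideal A) : Set A)) := by
    intro hsub
    obtain ⟨q, hq, hle⟩ := (Ideal.subset_union_prime (s := s) (f := id) ⊤ ⊤
      (fun q hq _ _ => Ideal.minimalPrimes_isPrime (hs q hq).1)).mp hsub
    obtain ⟨hqmin, hqne⟩ := hs q hq
    exact hqne (le_antisymm (hqmin.2 ⟨hp₁prime, bot_le⟩ hle) hle)
  obtain ⟨y, hyp, hyq⟩ := Set.not_subset.mp hy
  have hyq' : ∀ q ∈ s, y ∉ q := by
    intro q hq hyq''
    apply hyq
    simp only [Set.mem_iUnion]
    exact ⟨q, hq, hyq''⟩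
  have hxq : ∀ q ∈ s, x ∈ q := fun q hq => (Finset.inf_le hq : s.inf id ≤ id q) hxI
  have hxy : x * y = 0 := by
    have hmem : x * y ∈ sInf (minimalPrimes A) := by
      rw [Ideal.mem_sInf]
      intro q hq
      by_cases hqe : q = p₁
      · subst hqe; exact Ideal.mul_mem_left _ _ hyp
      · exact Ideal.mul_mem_right _ _ (hxq q (hs' q hq hqe))
    rw [sInf_minimalPrimes_eq_bot] at hmem
    exact hmem
  have hsavoid : ∀ q ∈ minimalPrimes A, x + y ∉ q := by
    intro q hq hmem
    by_cases hqe : q = p₁
    · subst hqe; exact hxp ((Ideal.add_mem_iff_left _ hyp).mp hmem)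
    · exact hyq' q (hs' q hq hqe) ((Ideal.add_mem_iff_right _ (hxq q (hs' q hq hqe))).mp hmem)
  have hsn : x + y ∈ nonZeroDivisors A := nzd_of_avoid_reduced _ hsavoid
  obtain ⟨e, hes⟩ : ∃ e : FractionRing A,
      e * algebraMap A (FractionRing A) (x + y) = algebraMap A (FractionRing A) x :=
    ⟨IsLocalization.mk' (FractionRing A) x ⟨x + y, hsn⟩, IsLocalization.mk'_spec _ _ _⟩
  have hunit : IsUnit (algebraMap A (FractionRing A) (x + y)) :=
    IsLocalization.map_units _ (⟨x + y, hsn⟩ : nonZeroDivisors A)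
  have hidem : e * e = e := by
    apply hunit.mul_left_injective
    apply hunit.mul_left_injective
    show e * e * algebraMap A (FractionRing A) (x + y) * algebraMap A (FractionRing A) (x + y) =
      e * algebraMap A (FractionRing A) (x + y) * algebraMap A (FractionRing A) (x + y)
    calc e * e * algebraMap A (FractionRing A) (x + y) * algebraMap A (FractionRing A) (x + y)
        = (e * algebraMap A (FractionRing A) (x + y)) *
          (e * algebraMap A (FractionRing A) (x + y)) := by ring
      _ = algebraMap A (FractionRing A) (x * x) := by rw [hes, map_mul]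
      _ = algebraMap A (FractionRing A) (x * (x + y)) := by rw [mul_add, hxy, add_zero]
      _ = e * algebraMap A (FractionRing A) (x + y) * algebraMap A (FractionRing A) (x + y) := by
          rw [hes, map_mul]
  have hint : IsIntegral A e := by
    refine ⟨Polynomial.X ^ 2 - Polynomial.X,
      Polynomial.monic_X_pow_sub (by rw [Polynomial.degree_X]; norm_num), ?_⟩
    simp [Polynomial.eval₂_sub, pow_two, hidem]
  obtain ⟨a, ha⟩ := H1 e hint
  have hinj : Function.Injective (algebraMap A (FractionRing A)) :=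
    IsLocalization.injective _ (le_refl _)
  have has : a * (x + y) = x := hinj (by rw [map_mul, ha, hes])
  have haa : a * a = a := hinj (by rw [map_mul, ha, hidem])
  have ha01 : a = 0 ∨ a = 1 := by
    rcases IsLocalRing.isUnit_or_isUnit_one_sub_self a with hu | hu
    · right
      have h0 : a * (a - 1) = 0 := by rw [mul_sub, haa, mul_one, sub_self]
      exact sub_eq_zero.mp (hu.mul_right_eq_zero.mp h0)
    · left
      have h0 : (1 - a) * a = 0 := by rw [sub_mul, one_mul, haa, sub_self]
      exact hu.mul_right_eq_zero.mp h0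
  rcases ha01 with rfl | rfl
  · rw [zero_mul] at has
    exact absurd (has ▸ p₁.zero_mem) hxp
  · rw [one_mul] at has
    have hy0 : y = 0 := by simpa using has
    have hsempty : ∀ q ∈ minimalPrimes A, q = p₁ := by
      intro q hq
      by_contra hqe
      exact hyq' q (hs' q hq hqe) (hy0 ▸ q.zero_mem)
    have hp₁bot : p₁ = ⊥ := by
      rw [← sInf_minimalPrimes_eq_bot (A := A)]
      apply le_antisymm
      · exact le_sInf (fun q hq => (hsempty q hq).ge)
      · exact sInf_le hp₁
    haveI : (⊥ : Ideal A).IsPrime := hp₁bot ▸ hp₁prime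
    exact IsDomain.of_bot_isPrime A

end

/-- For a reduced local Nagata ring A of Krull dimension one, the δ-invariant of A is zero exactly when
A is a DVR (in particular a domain). -/
theorem result (A : Type u) [CommRing A] [IsLocalRing A]
    [IsReduced A] (hN : CAlg.IsNagata A) (hdim : ringKrullDim A = 1) :
    Curv2.deltaInv A = 0 ↔ ∃ _ : IsDomain A, IsDiscreteValuationRing A := by
  haveI : IsNoetherianRing A := hN.1
  unfold Curv2.deltaInv
  rw [Module.length_eq_zero_iff, Submodule.Quotient.subsingleton_iff]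
  constructor
  · intro htop
    have H1 : ∀ y : FractionRing A, IsIntegral A y →
        ∃ a, algebraMap A (FractionRing A) a = y := by
      intro y hy
      have hmem : (⟨y, hy⟩ : integralClosure A (FractionRing A)) ∈
          LinearMap.range (Algebra.linearMap A (integralClosure A (FractionRing A))) :=
        htop ▸ Submodule.mem_top
      obtain ⟨a, ha⟩ := hmem
      exact ⟨a, congrArg Subtype.val ha⟩
    haveI hdom : IsDomain A := isDomain_of_closed H1
    refine ⟨hdom, ?_⟩
    have hnf : ¬ IsField A := by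
      intro hf
      have h0 := ringKrullDim_eq_zero_of_isField hf
      rw [hdim] at h0
      exact absurd h0 (by decide)
    have htfae : IsDiscreteValuationRing A ↔
        (IsIntegrallyClosed A ∧ ∃! P : Ideal A, P ≠ ⊥ ∧ P.IsPrime) :=
      (IsDiscreteValuationRing.TFAE A hnf).out 0 3
    refine htfae.mpr ⟨?_, ?_⟩
    · exact (isIntegrallyClosed_iff (FractionRing A)).mpr (fun {x} hx => H1 x hx)
    · refine ⟨IsLocalRing.maximalIdeal A, ⟨?_, inferInstance⟩, ?_⟩
      · intro h
        exact hnf (IsLocalRing.isField_iff_maximalIdeal_eq.mpr h)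
      · rintro P ⟨hP0, hPprime⟩
        haveI := hPprime
        apply Groth.Agent.Helper9.Dim1.eq_maximalIdeal_of_notMem_minimalPrimes hdim P
        intro hPmin
        rw [IsDomain.minimalPrimes_eq_singleton_bot] at hPmin
        exact hP0 hPmin
  · rintro ⟨hdom, hdvr⟩
    haveI := hdom
    haveI := hdvr
    rw [eq_top_iff]
    rintro ⟨y, hy⟩ -
    obtain ⟨a, ha⟩ := (isIntegrallyClosed_iff (FractionRing A)).mp inferInstance hy
    exact ⟨a, Subtype.ext ha⟩

end Groth.Agent.S7653
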