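import Mathlib
import Groth.Statements.S7658
-- import your own Groth.Agent.* helpers here

set_option autoImplicit false
universe u
open CategoryTheory CategoryTheory.Limits AlgebraicGeometry
open Variety

namespace Groth.Agent.S7658

open CategoryTheory.Limits Topology

lemma closure_image_mem_irreducibleComponents {P X : Type*} [TopologicalSpace P]
    [TopologicalSpace X] (j : P → X) (hj : IsOpenEmbedding j) (η : P)
    (hη : closure {η} ∈ irreducibleComponents P) :
    closure {j η} ∈ irreducibleComponents X := by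
  refine ⟨isIrreducible_singleton.closure, fun T' hT' hTT' => ?_⟩
  have hηT' : j η ∈ T' := hTT' (subset_closure rfl)
  have h1 : IsIrreducible (j ⁻¹' T') := ⟨⟨η, hηT'⟩, hT'.2.preimage hj⟩
  have hmaps : Set.MapsTo j {η} {j η} := by
    intro a ha; rw [Set.mem_singleton_iff] at ha; rw [ha]; rfl
  have h2 : closure {η} ⊆ j ⁻¹' T' := by
    intro y hy
    exact hTT' (map_mem_closure hj.continuous hy hmaps)
  have h3 : j ⁻¹' T' ⊆ closure {η} := hη.2 h1 h2
  have h4 : T' ⊆ closure (T' ∩ Set.range j) :=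
    subset_closure_inter_of_isPreirreducible_of_isOpen hT'.2 hj.isOpen_range ⟨j η, hηT', η, rfl⟩
  refine h4.trans (closure_minimal ?_ isClosed_closure)
  rintro _ ⟨hy, y, rfl⟩
  exact map_mem_closure hj.continuous (h3 hy) hmaps

lemma inj_aux {X Y : Scheme.{u}} (f : X ⟶ Y) [IsSeparated f]
    (hinj : ∀ ξ ξ' : X, closure ({ξ} : Set X) ∈ irreducibleComponents (X : Type u) →
      closure ({ξ'} : Set X) ∈ irreducibleComponents (X : Type u) → f.base ξ = f.base ξ' → ξ = ξ')
    (U U' : X.Opens) [hU : IsOpenImmersion (U.ι ≫ f)] [hU' : IsOpenImmersion (U'.ι ≫ f)]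
    (x x' : X) (hx : x ∈ U) (hx' : x' ∈ U') (hxx' : f x = f x') : x = x' := by
  set g := U.ι ≫ f with hg
  set g' := U'.ι ≫ f with hg'
  set q₁ : pullback g g' ⟶ X := pullback.fst g g' ≫ U.ι with hq₁
  set q₂ : pullback g g' ⟶ X := pullback.snd g g' ≫ U'.ι with hq₂
  haveI : IsOpenImmersion q₁ := by rw [hq₁]; infer_instance
  haveI : IsOpenImmersion q₂ := by rw [hq₂]; infer_instance
  have hq : q₁ ≫ f = q₂ ≫ f := by
    simp only [hq₁, hq₂, Category.assoc]; exact pullback.condition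
  have hq₁U : ∀ y, q₁ y ∈ U := fun y => (pullback.fst g g' y).2
  have hq₂U : ∀ y, q₂ y ∈ U' := fun y => (pullback.snd g g' y).2
  obtain ⟨z, hz1, hz2⟩ := Scheme.Pullback.exists_preimage_pullback (f := g) (g := g')
    ⟨x, hx⟩ ⟨x', hx'⟩ hxx'
  have hz1' : q₁ z = x := by
    change U.ι (pullback.fst g g' z) = x
    rw [hz1]; rfl
  have hz2' : q₂ z = x' := by
    change U'.ι (pullback.snd g g' z) = x'
    rw [hz2]; rfl
  set W : X.Opens := U ⊓ U' with hW
  set N : (pullback g g').Opens := q₁ ⁻¹ᵁ W ⊓ q₂ ⁻¹ᵁ W with hNdef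
  have hN : N.ι ≫ q₁ = N.ι ≫ q₂ := by
    haveI : IsOpenImmersion (W.ι ≫ f) := by
      have : W.ι ≫ f = X.homOfLE (inf_le_left : W ≤ U) ≫ U.ι ≫ f := by
        rw [← Category.assoc, Scheme.homOfLE_ι]
      rw [this]; infer_instance
    have r1 : Set.range (N.ι ≫ q₁) ⊆ Set.range W.ι := by
      rintro _ ⟨n, rfl⟩
      rw [Scheme.Opens.range_ι]
      exact n.2.1
    have r2 : Set.range (N.ι ≫ q₂) ⊆ Set.range W.ι := by
      rintro _ ⟨n, rfl⟩
      rw [Scheme.Opens.range_ι]
      exact n.2.2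
    obtain ⟨a, ha⟩ : ∃ a, a ≫ W.ι = N.ι ≫ q₁ := ⟨_, IsOpenImmersion.lift_fac _ _ r1⟩
    obtain ⟨b, hb⟩ : ∃ b, b ≫ W.ι = N.ι ≫ q₂ := ⟨_, IsOpenImmersion.lift_fac _ _ r2⟩
    have hab : a = b := by
      rw [← cancel_mono (W.ι ≫ f)]
      calc a ≫ W.ι ≫ f = (a ≫ W.ι) ≫ f := (Category.assoc _ _ _).symm
        _ = (N.ι ≫ q₁) ≫ f := by rw [ha]
        _ = N.ι ≫ q₁ ≫ f := Category.assoc _ _ _
        _ = N.ι ≫ q₂ ≫ f := by rw [hq]
        _ = (N.ι ≫ q₂) ≫ f := (Category.assoc _ _ _).symm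
        _ = (b ≫ W.ι) ≫ f := by rw [hb]
        _ = b ≫ W.ι ≫ f := Category.assoc _ _ _
    rw [← ha, ← hb, hab]
  set L : pullback g g' ⟶ pullback f f := pullback.lift q₁ q₂ hq with hL
  set T : Set ↥(pullback g g') := {y | L y ∈ Set.range ⇑(pullback.diagonal f)} with hTdef
  have hTclosed : IsClosed T :=
    IsClosed.preimage L.continuous (pullback.diagonal f).isClosedEmbedding.isClosed_range
  have hNT : (N : Set ↥(pullback g g')) ⊆ T := by
    intro n hn
    have e : N.ι ≫ L = (N.ι ≫ q₁) ≫ pullback.diagonal f := by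
      apply pullback.hom_ext
      · rw [Category.assoc, hL, pullback.lift_fst, Category.assoc, pullback.diagonal_fst,
          Category.comp_id]
      · rw [Category.assoc, hL, pullback.lift_snd, Category.assoc, pullback.diagonal_snd,
          Category.comp_id, hN]
    refine ⟨(N.ι ≫ q₁) ⟨n, hn⟩, ?_⟩
    have e2 : (N.ι ≫ L) ⟨n, hn⟩ = ((N.ι ≫ q₁) ≫ pullback.diagonal f) ⟨n, hn⟩ := by rw [e]
    rw [Scheme.Hom.comp_apply, Scheme.Hom.comp_apply (N.ι ≫ q₁)] at e2
    exact e2.symm
  have hT : ∀ y, y ∈ T := by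
    intro y
    obtain ⟨η, hη⟩ := QuasiSober.sober (isIrreducible_irreducibleComponent (x := y))
      isClosed_irreducibleComponent
    have hηc : closure {η} ∈ irreducibleComponents ↥(pullback g g') := by
      rw [hη.def]; exact irreducibleComponent_mem_irreducibleComponents y
    have h1 := closure_image_mem_irreducibleComponents q₁ q₁.isOpenEmbedding η hηc
    have h2 := closure_image_mem_irreducibleComponents q₂ q₂.isOpenEmbedding η hηc
    have h3 : q₁ η = q₂ η := by
      refine hinj _ _ h1 h2 ?_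
      have := congrArg (fun φ : pullback g g' ⟶ Y => φ η) hq
      simpa [Scheme.Hom.comp_apply] using this
    have hηN : η ∈ N := by
      refine ⟨⟨hq₁U η, ?_⟩, ⟨?_, hq₂U η⟩⟩
      · change q₁ η ∈ U'
        rw [h3]; exact hq₂U η
      · change q₂ η ∈ U
        rw [← h3]; exact hq₁U η
    have hsub : closure {η} ⊆ T :=
      closure_minimal (Set.singleton_subset_iff.mpr (hNT hηN)) hTclosed
    apply hsub
    rw [hη.def]
    exact mem_irreducibleComponent
  obtain ⟨t, ht⟩ := hT z
  have e1 : q₁ z = t := by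
    have h5 : (L ≫ pullback.fst f f) z = (pullback.diagonal f ≫ pullback.fst f f) t := by
      rw [Scheme.Hom.comp_apply, Scheme.Hom.comp_apply, ht]
    rw [hL, pullback.lift_fst, pullback.diagonal_fst] at h5
    exact h5
  have e2 : q₂ z = t := by
    have h5 : (L ≫ pullback.snd f f) z = (pullback.diagonal f ≫ pullback.snd f f) t := by
      rw [Scheme.Hom.comp_apply, Scheme.Hom.comp_apply, ht]
    rw [hL, pullback.lift_snd, pullback.diagonal_snd] at h5
    exact h5
  rw [← hz1', ← hz2', e1, e2]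


/-- A separated morphism of schemes f : X → Y such that X has an open covering on whose members f
restricts to open immersions, and such that no two distinct generic points of irreducible components
of X have the same image under f, is an open immersion. -/
theorem result {X Y : Scheme.{u}}
    (f : X ⟶ Y) [IsSeparated f]
    (hloc : ∀ x : X, ∃ U : X.Opens, x ∈ U ∧ IsOpenImmersion (U.ι ≫ f))
    (hinj : ∀ ξ ξ' : X, closure ({ξ} : Set X) ∈ irreducibleComponents (X : Type u) → closure ({ξ'} : Set X) ∈ irreducibleComponents (X : Type u) →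
      f.base ξ = f.base ξ' → ξ = ξ') :
    IsOpenImmersion f := by
  have hinj' : Function.Injective f := by
    intro x x' hxx'
    obtain ⟨U, hxU, hU⟩ := hloc x
    obtain ⟨U', hxU', hU'⟩ := hloc x'
    exact inj_aux f hinj U U' x x' hxU hxU' hxx'
  have hopen : IsOpenMap f := by
    intro O hO
    rw [isOpen_iff_forall_mem_open]
    rintro _ ⟨x, hxO, rfl⟩
    obtain ⟨U, hxU, hU⟩ := hloc x
    refine ⟨(U.ι ≫ f) '' (U.ι ⁻¹' O), ?_, ?_, ?_⟩
    · rintro _ ⟨y, hy, rfl⟩
      exact ⟨U.ι y, hy, by rw [Scheme.Hom.comp_apply]⟩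
    · exact (U.ι ≫ f).isOpenEmbedding.isOpenMap _ (hO.preimage U.ι.continuous)
    · exact ⟨⟨x, hxU⟩, hxO, by rw [Scheme.Hom.comp_apply]; rfl⟩
  have hemb : Topology.IsOpenEmbedding f :=
    .of_continuous_injective_isOpenMap f.continuous hinj' hopen
  haveI : ∀ x, IsIso (f.stalkMap x) := by
    intro x
    obtain ⟨U, hxU, hU⟩ := hloc x
    have h1 : IsIso ((U.ι ≫ f).stalkMap ⟨x, hxU⟩) := inferInstance
    rw [Scheme.Hom.stalkMap_comp] at h1
    have h0 : IsIso (U.ι.stalkMap ⟨x, hxU⟩) := inferInstance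
    exact @IsIso.of_isIso_comp_right _ _ _ _ _ _ (U.ι.stalkMap ⟨x, hxU⟩) h0 h1
  exact IsOpenImmersion.of_isIso_stalkMap f hemb

end Groth.Agent.S7658
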