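import Groth.Statements.S7661
import Mathlib

set_option autoImplicit false
universe u
open CategoryTheory CategoryTheory.Limits AlgebraicGeometry
open Variety

namespace Groth.Agent.S7661

theorem aux (A : Type u) [CommRing A] (I : Ideal A) (s : Finset (Ideal A)) :
    (∀ p ∈ s, p.IsPrime) → (∀ p ∈ s, ¬ I ≤ p) → ∀ f₀ : A,
      ∃ f : A, f - f₀ ∈ I ∧ ∀ p ∈ s, f ∉ p := by
  classical
  induction s using Finset.strongInduction with
  | H s ih =>
    intro hs hI f₀
    rcases s.eq_empty_or_nonempty with rfl | hne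
    · exact ⟨f₀, by simp, by simp⟩
    · obtain ⟨q, hq, hmin⟩ := s.exists_minimal hne
      have hqs : q ∈ s := hq
      obtain ⟨f, hfI, hf⟩ := ih (s.erase q) (Finset.erase_ssubset hqs)
        (fun p hp => hs p (Finset.mem_of_mem_erase hp))
        (fun p hp => hI p (Finset.mem_of_mem_erase hp)) f₀
      by_cases hfq : f ∈ q
      · -- find x ∈ I ⊓ (inf of erase) not in q
        have : q.IsPrime := hs q hqs
        have hnot : ¬ (I ⊓ (s.erase q).inf id ≤ q) := by
          intro hle
          rcases (Ideal.IsPrime.inf_le ‹q.IsPrime›).1 hle with h | h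
          · exact hI q hqs h
          · obtain ⟨p, hp, hpq⟩ := (Ideal.IsPrime.inf_le' ‹q.IsPrime›).1 h
            have hps : p ∈ s := Finset.mem_of_mem_erase hp
            have hqp : q ≤ p := hmin hps hpq
            have : p = q := le_antisymm hpq hqp
            exact (Finset.ne_of_mem_erase hp) this
        obtain ⟨x, hx, hxq⟩ := SetLike.not_le_iff_exists.1 hnot
        refine ⟨f + x, ?_, ?_⟩
        · have : f + x - f₀ = (f - f₀) + x := by ring
          rw [this]
          exact I.add_mem hfI hx.1
        · intro p hp hmem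
          by_cases hpq : p = q
          · subst hpq
            exact hxq ((Ideal.add_mem_iff_right _ hfq).1 hmem)
          · have hpe : p ∈ s.erase q := Finset.mem_erase.2 ⟨hpq, hp⟩
            have hxp : x ∈ p :=
              (Finset.inf_le hpe : (s.erase q).inf id ≤ id p) hx.2
            exact hf p hpe ((Ideal.add_mem_iff_left _ hxp).1 hmem)
      · refine ⟨f, hfI, ?_⟩
        intro p hp
        by_cases hpq : p = q
        · subst hpq; exact hfq
        · exact hf p (Finset.mem_erase.2 ⟨hpq, hp⟩)

/-- Let A be a ring, I an ideal, p_1, …, p_r prime ideals with I ⊄ p_i for all i, and let f̄ ∈ A/I. Then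
f̄ lifts to an element f ∈ A with f ∉ p_i for all i. -/
theorem result (A : Type u) [CommRing A] (I : Ideal A)
    (s : Finset (Ideal A)) (hs : ∀ p ∈ s, p.IsPrime) (hI : ∀ p ∈ s, ¬ I ≤ p) (fbar : A ⧸ I) :
    ∃ f : A, Ideal.Quotient.mk I f = fbar ∧ ∀ p ∈ s, f ∉ p := by
  obtain ⟨f₀, rfl⟩ := Ideal.Quotient.mk_surjective fbar
  obtain ⟨f, hf, hfs⟩ := aux A I s hs hI f₀
  exact ⟨f, (Ideal.Quotient.eq).2 hf, hfs⟩

end Groth.Agent.S7661
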