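import Mathlib
import Groth.Statements.S7663
import Groth.Agent.Lib.Helper9.SLD1
-- import your own Groth.Agent.* helpers here

set_option autoImplicit false
universe u
open CategoryTheory CategoryTheory.Limits AlgebraicGeometry
open Variety

namespace Groth.Agent.S7663

open Groth.Agent.Helper9.SLD1


/-- Let K be a field and A, B ⊆ K subrings with fraction field K, with A Noetherian of dimension one.
Then A ⊗ B → K is not surjective (equivalently, the subring generated by A and B is not K) if and
only if some discrete valuation ring O ⊆ K with fraction field K contains both A and B. -/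
theorem result (K : Type u) [Field K]
    (A : Subring K) [IsFractionRing A K] (B : Subring K) [IsFractionRing B K] [IsNoetherianRing A] (hdim : ringKrullDim A = 1) :
    A ⊔ B ≠ ⊤ ↔ ∃ O : ValuationSubring K, IsDiscreteValuationRing O ∧ A ≤ O.toSubring ∧ B ≤ O.toSubring := by
  constructor
  · intro hC
    have hex : ∃ x : K, x ∉ A ⊔ B := by
      by_contra hall
      push Not at hall
      exact hC (eq_top_iff.mpr fun x _ => hall x)
    obtain ⟨x, hx⟩ := hex
    obtain ⟨n, d, hd, hnd⟩ := IsFractionRing.div_surjective (A := A) x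
    have hd0 : (d : K) ≠ 0 := fun h => (nonZeroDivisors.ne_zero hd) (Subtype.ext h)
    let d' : ↥(A ⊔ B) := ⟨(d : K), (le_sup_left : A ≤ A ⊔ B) d.2⟩
    have hI : Ideal.span {d'} ≠ ⊤ := by
      intro htop
      rw [Ideal.span_singleton_eq_top] at htop
      obtain ⟨⟨e, he⟩, hde⟩ := htop.exists_right_inv
      have h1 : (d : K) * e = 1 := congrArg Subtype.val hde
      have h2 : e = (d : K)⁻¹ := eq_inv_of_mul_eq_one_right h1
      apply hx
      rw [← hnd]
      show (n : K) / (d : K) ∈ A ⊔ B
      rw [div_eq_mul_inv, ← h2]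
      exact Subring.mul_mem _ ((le_sup_left : A ≤ A ⊔ B) n.2) he
    obtain ⟨V, hV, hCV, -⟩ := exists_dvr A hdim (A ⊔ B) le_sup_left (Ideal.span {d'}) hI d'
      (Ideal.subset_span rfl) (fun h => hd0 (congrArg Subtype.val h))
    exact ⟨V, hV, le_sup_left.trans hCV, le_sup_right.trans hCV⟩
  · rintro ⟨O, hO, hAO, hBO⟩ htop
    haveI := hO
    apply dvr_ne_top O
    rw [eq_top_iff, ← htop]
    exact sup_le hAO hBO

end Groth.Agent.S7663
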