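import Mathlib
import Groth.Statements.S7687
import Groth.Agent.Lib.Helper9.SLD2
-- import your own Groth.Agent.* helpers here

set_option autoImplicit false
universe u
open CategoryTheory CategoryTheory.Limits AlgebraicGeometry
open Variety

namespace Groth.Agent.S7687

open Groth.Agent.Helper9.SLD1 Groth.Agent.Helper9.SLD2

/-- Let K be a field and A, B ⊆ K Noetherian semi-local domains of dimension one with fraction field K
such that A ⊗ B → K is surjective, and R = A ∩ B. Then Spec A and Spec B each map to Spec R by an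
open immersion, Spec R is the union of the two images, and the natural map A ⊗_R B → K is an
isomorphism. -/
theorem result (K : Type u) [Field K]
    (A : Subring K) [IsFractionRing A K] (B : Subring K) [IsFractionRing B K] [IsNoetherianRing A] [IsNoetherianRing B]
    (hdimA : ringKrullDim A = 1) (hdimB : ringKrullDim B = 1)
    (hslA : Finite (MaximalSpectrum A)) (hslB : Finite (MaximalSpectrum B)) (hgen : A ⊔ B = ⊤) :
    IsOpenImmersion (Spec.map (CommRingCat.ofHom (Subring.inclusion (inf_le_left : A ⊓ B ≤ A)))) ∧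
      IsOpenImmersion (Spec.map (CommRingCat.ofHom (Subring.inclusion (inf_le_right : A ⊓ B ≤ B)))) ∧
      Set.range (Spec.map (CommRingCat.ofHom (Subring.inclusion (inf_le_left : A ⊓ B ≤ A)))).base ∪
        Set.range (Spec.map (CommRingCat.ofHom (Subring.inclusion (inf_le_right : A ⊓ B ≤ B)))).base = Set.univ ∧
      IsPushout (CommRingCat.ofHom (Subring.inclusion (inf_le_left : A ⊓ B ≤ A)))
        (CommRingCat.ofHom (Subring.inclusion (inf_le_right : A ⊓ B ≤ B)))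
        (CommRingCat.ofHom A.subtype) (CommRingCat.ofHom B.subtype) := by
  obtain ⟨s, t, hst, ht0, hs0, htA, htA', hsB, hsB', ⟨htB, htJ⟩, ⟨hsA, hsJ⟩⟩ :=
    exists_partition A B hdimA hdimB hslA hslB hgen
  have htR : t ∈ A ⊓ B := ⟨htA, htB⟩
  have hsR : s ∈ A ⊓ B := ⟨hsA, hsB⟩
  letI algA : Algebra ↥(A ⊓ B) A := (Subring.inclusion (inf_le_left : A ⊓ B ≤ A)).toAlgebra
  letI algB : Algebra ↥(A ⊓ B) B := (Subring.inclusion (inf_le_right : A ⊓ B ≤ B)).toAlgebra
  haveI hLA : IsLocalization.Away (⟨t, htR⟩ : ↥(A ⊓ B)) A :=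
    isLocalization_away (A ⊓ B) A inf_le_left t htR ht0 htA' (fun a ha => by
      obtain ⟨N, hN⟩ := pow_mul_mem B hdimB t htB htJ a
      exact ⟨N, ⟨A.mul_mem (A.pow_mem htA N) ha, hN N le_rfl⟩⟩)
  haveI hLB : IsLocalization.Away (⟨s, hsR⟩ : ↥(A ⊓ B)) B :=
    isLocalization_away (A ⊓ B) B inf_le_right s hsR hs0 hsB' (fun b hb => by
      obtain ⟨N, hN⟩ := pow_mul_mem A hdimA s hsA hsJ b
      exact ⟨N, ⟨hN N le_rfl, B.mul_mem (B.pow_mem hsB N) hb⟩⟩)
  have hrA := range_specMap_away (R := ↥(A ⊓ B)) (S := A) (⟨t, htR⟩ : ↥(A ⊓ B))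
  have hrB := range_specMap_away (R := ↥(A ⊓ B)) (S := B) (⟨s, hsR⟩ : ↥(A ⊓ B))
  refine ⟨IsOpenImmersion.of_isLocalization (R := ↥(A ⊓ B)) (S := A) (⟨t, htR⟩ : ↥(A ⊓ B)),
    IsOpenImmersion.of_isLocalization (R := ↥(A ⊓ B)) (S := B) (⟨s, hsR⟩ : ↥(A ⊓ B)), ?_, ?_⟩
  · refine Eq.trans (congrArg₂ (· ∪ ·) hrA hrB) ?_
    ext p
    simp only [Set.mem_union, Set.mem_univ, iff_true]
    by_contra hcon
    push Not at hcon
    have hc1 : (⟨t, htR⟩ : ↥(A ⊓ B)) ∈ p.asIdeal := not_not.mp hcon.1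
    have hc2 : (⟨s, hsR⟩ : ↥(A ⊓ B)) ∈ p.asIdeal := not_not.mp hcon.2
    have h1 : (⟨s, hsR⟩ + ⟨t, htR⟩ : ↥(A ⊓ B)) ∈ p.asIdeal := p.asIdeal.add_mem hc2 hc1
    have h2 : (⟨s, hsR⟩ + ⟨t, htR⟩ : ↥(A ⊓ B)) = 1 := Subtype.ext hst
    rw [h2] at h1
    exact p.isPrime.ne_top ((Ideal.eq_top_iff_one _).mpr h1)
  · haveI : IsScalarTower ↥(A ⊓ B) A K := IsScalarTower.of_algebraMap_eq (fun x => rfl)
    haveI : IsScalarTower ↥(A ⊓ B) B K := IsScalarTower.of_algebraMap_eq (fun x => rfl)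
    haveI : IsLocalization (Algebra.algebraMapSubmonoid A
        (Submonoid.powers (⟨s, hsR⟩ : ↥(A ⊓ B)))) K :=
      isLocalization_field (A ⊓ B) A inf_le_left hdimA s hsR hs0 hsJ
    haveI hP : Algebra.IsPushout ↥(A ⊓ B) A B K :=
      Algebra.isPushout_of_isLocalization (Submonoid.powers (⟨s, hsR⟩ : ↥(A ⊓ B))) B A K
    exact CommRingCat.isPushout_of_isPushout ↥(A ⊓ B) A B K

end Groth.Agent.S7687
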