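import Mathlib
import Groth.Statements.S7664
import Groth.Agent.Lib.Helper9.SLD2
import Groth.Agent.S7687
-- import your own Groth.Agent.* helpers here

set_option autoImplicit false
universe u
open CategoryTheory CategoryTheory.Limits AlgebraicGeometry
open Variety

namespace Groth.Agent.S7664

open Groth.Agent.Helper9.SLD1 Groth.Agent.Helper9.SLD2

theorem unit_of_forall_notMem {R : Type*} [CommRing R] (x : R)
    (h : ∀ m : MaximalSpectrum R, x ∉ m.asIdeal) : IsUnit x := by
  by_contra hx
  obtain ⟨m, hm, hxm⟩ := exists_max_ideal_of_mem_nonunits (show x ∈ nonunits R from hx)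
  exact h ⟨m, hm⟩ hxm

/-- For `a` in a semilocal ring there is a unit `w` with `a² + a + w` a unit. -/
theorem exists_unit_add {R : Type*} [CommRing R] [Finite (MaximalSpectrum R)] (a : R) :
    ∃ w : R, IsUnit w ∧ IsUnit (a ^ 2 + a + w) := by
  classical
  have hcop : Pairwise (Function.onFun IsCoprime (fun m : MaximalSpectrum R => m.asIdeal)) :=
    fun m m' hne => Ideal.isCoprime_of_isMaximal (MaximalSpectrum.ext_iff.ne.mp hne)
  obtain ⟨w, hw⟩ := Ideal.exists_forall_sub_mem_ideal hcop
    (fun m => if a ^ 2 + a ∈ m.asIdeal then (1 : R) else - a ^ 2)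
  refine ⟨w, unit_of_forall_notMem w (fun m hwm => ?_),
    unit_of_forall_notMem _ (fun m hwm => ?_)⟩
  · have h1 := hw m
    by_cases hc : a ^ 2 + a ∈ m.asIdeal
    · simp only [hc, if_true] at h1
      have : (1 : R) ∈ m.asIdeal := by
        have := m.asIdeal.sub_mem hwm h1
        simpa using this
      exact m.isMaximal.ne_top ((Ideal.eq_top_iff_one _).mpr this)
    · simp only [hc, if_false] at h1
      have h2 : a ^ 2 ∈ m.asIdeal := by
        have := m.asIdeal.sub_mem h1 hwm
        simpa using this
      have h3 : a ∈ m.asIdeal := m.isMaximal.isPrime.mem_of_pow_mem 2 h2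
      exact hc (m.asIdeal.add_mem h2 h3)
  · have h1 := hw m
    by_cases hc : a ^ 2 + a ∈ m.asIdeal
    · simp only [hc, if_true] at h1
      have : (1 : R) ∈ m.asIdeal := by
        have := m.asIdeal.sub_mem (m.asIdeal.sub_mem hwm hc) h1
        have e : a ^ 2 + a + w - (a ^ 2 + a) - (w - 1) = 1 := by ring
        rwa [e] at this
      exact m.isMaximal.ne_top ((Ideal.eq_top_iff_one _).mpr this)
    · simp only [hc, if_false] at h1
      have h3 : a ∈ m.asIdeal := by
        have := m.asIdeal.sub_mem hwm h1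
        have e : a ^ 2 + a + w - (w - -a ^ 2) = a := by ring
        rwa [e] at this
      exact hc (m.asIdeal.add_mem (m.asIdeal.pow_mem_of_mem h3 2 (by norm_num)) h3)

theorem le_of_units {K : Type*} [Field K] (A : Subring K) [Finite (MaximalSpectrum A)]
    (B : ValuationSubring K) (hu : ∀ u : A, IsUnit u → (u : K) ∈ B) : A ≤ B.toSubring := by
  intro a ha
  by_contra haB
  obtain ⟨w, hw, hw'⟩ := exists_unit_add (⟨a, ha⟩ : A)
  have h1 : (w : K) ∈ B := hu w hw
  have h2 : a ^ 2 + a + (w : K) ∈ B := hu _ hw'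
  have hinv : a⁻¹ ∈ B := (B.mem_or_inv_mem a).resolve_left haB
  have ha0 : a ≠ 0 := by
    rintro rfl
    exact haB B.zero_mem
  -- c := w - (a^2+a+w) ∈ B ; a^2 + a + c = 0
  -- 1 = a⁻¹ * (-(1 + c * a⁻¹)) hence a = ... ∈ B
  have hc : (w : K) - (a ^ 2 + a + (w : K)) ∈ B := sub_mem h1 h2
  have key : a = -(1 + ((w : K) - (a ^ 2 + a + (w : K))) * a⁻¹) := by
    field_simp
    ring
  apply haB
  rw [key]
  exact B.neg_mem _ (B.add_mem _ _ B.one_mem (B.mul_mem _ _ hc hinv))

theorem sup_eq_top_of_notMem {K : Type u} [Field K] (A : Subring K) (B : ValuationSubring K)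
    [IsDiscreteValuationRing B] (u : K) (huA : u ∈ A) (huB : u ∉ B) : A ⊔ B.toSubring = ⊤ := by
  have hinv : u⁻¹ ∈ B := (B.mem_or_inv_mem u).resolve_left huB
  have hu0 : u ≠ 0 := by
    rintro rfl
    exact huB B.zero_mem
  haveI : IsFractionRing B.toSubring K := inferInstanceAs (IsFractionRing B K)
  haveI : IsNoetherianRing B.toSubring := inferInstanceAs (IsNoetherianRing B)
  haveI : IsLocalRing B.toSubring := inferInstanceAs (IsLocalRing B)
  have hdim : ringKrullDim B.toSubring = 1 := IsDiscreteValuationRing.ringKrullDim_eq_one B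
  have hJ : (⟨u⁻¹, hinv⟩ : B.toSubring) ∈ (⊥ : Ideal B.toSubring).jacobson := by
    rw [IsLocalRing.jacobson_eq_maximalIdeal ⊥ bot_ne_top, IsLocalRing.mem_maximalIdeal]
    intro hunit
    obtain ⟨v, hv⟩ := hunit.exists_right_inv
    have hvK : u⁻¹ * (v : K) = 1 := congrArg Subtype.val hv
    have : (v : K) = u := by
      field_simp at hvK
      exact hvK
    exact huB (this ▸ v.2)
  rw [eq_top_iff]
  intro k _
  obtain ⟨N, hN⟩ := pow_mul_mem B.toSubring hdim u⁻¹ hinv hJ k
  have hk : k = u ^ N * (u⁻¹ ^ N * k) := by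
    rw [← mul_assoc, ← mul_pow, mul_inv_cancel₀ hu0, one_pow, one_mul]
  rw [hk]
  have hA' : A ≤ A ⊔ B.toSubring := le_sup_left
  have hB' : B.toSubring ≤ A ⊔ B.toSubring := le_sup_right
  exact Subring.mul_mem _ (Subring.pow_mem _ (hA' huA) N) (hB' (hN N le_rfl))

/-- Let K be a field, A ⊆ K a Noetherian semi-local domain of dimension one and B ⊆ K a discrete
valuation ring, both with fraction field K, and R = A ∩ B. (a) If some unit of A does not lie in R,
then Spec A and Spec B each map to Spec R by an open immersion, Spec R is the union of the two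
images, and the natural map A ⊗_R B → K is an isomorphism. (b) If every unit of A lies in R, then B
dominates the local ring of A at one of its maximal ideals (A ⊆ B and the maximal ideal of B
contracts to a maximal ideal of A) and A ⊗ B → K is not surjective. -/
theorem result (K : Type u) [Field K]
    (A : Subring K) [IsFractionRing A K] [IsNoetherianRing A] (hdim : ringKrullDim A = 1) (hsl : Finite (MaximalSpectrum A))
    (B : ValuationSubring K) [IsDiscreteValuationRing B] :
    ((∃ u : A, IsUnit u ∧ (u : K) ∉ B) →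
      IsOpenImmersion (Spec.map (CommRingCat.ofHom (Subring.inclusion (inf_le_left : A ⊓ B.toSubring ≤ A)))) ∧
      IsOpenImmersion (Spec.map (CommRingCat.ofHom (Subring.inclusion (inf_le_right : A ⊓ B.toSubring ≤ B.toSubring)))) ∧
      Set.range (Spec.map (CommRingCat.ofHom (Subring.inclusion (inf_le_left : A ⊓ B.toSubring ≤ A)))).base ∪
        Set.range (Spec.map (CommRingCat.ofHom (Subring.inclusion (inf_le_right : A ⊓ B.toSubring ≤ B.toSubring)))).base = Set.univ ∧
      IsPushout (CommRingCat.ofHom (Subring.inclusion (inf_le_left : A ⊓ B.toSubring ≤ A)))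
        (CommRingCat.ofHom (Subring.inclusion (inf_le_right : A ⊓ B.toSubring ≤ B.toSubring)))
        (CommRingCat.ofHom A.subtype) (CommRingCat.ofHom B.toSubring.subtype)) ∧
    ((∀ u : A, IsUnit u → (u : K) ∈ B) →
      (∃ h : A ≤ B.toSubring,
        (Ideal.comap (Subring.inclusion h) (IsLocalRing.maximalIdeal B)).IsMaximal) ∧ A ⊔ B.toSubring ≠ ⊤) := by
  haveI : IsFractionRing B.toSubring K := inferInstanceAs (IsFractionRing B K)
  haveI : IsNoetherianRing B.toSubring := inferInstanceAs (IsNoetherianRing B)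
  haveI : IsLocalRing B.toSubring := inferInstanceAs (IsLocalRing B)
  have hdimB : ringKrullDim B.toSubring = 1 := IsDiscreteValuationRing.ringKrullDim_eq_one B
  have hslB : Finite (MaximalSpectrum B.toSubring) := by
    haveI : Subsingleton (MaximalSpectrum B.toSubring) := ⟨fun m m' => by
      ext1
      rw [IsLocalRing.eq_maximalIdeal m.isMaximal, IsLocalRing.eq_maximalIdeal m'.isMaximal]⟩
    exact Finite.of_subsingleton
  refine ⟨?_, ?_⟩
  · rintro ⟨u, -, huB⟩
    exact Groth.Agent.S7687.result K A B.toSubring hdim hdimB hsl hslB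
      (sup_eq_top_of_notMem A B u u.2 huB)
  · intro hu
    haveI := hsl
    have hle : A ≤ B.toSubring := le_of_units A B hu
    refine ⟨⟨hle, ?_⟩, ?_⟩
    · haveI hprime : (Ideal.comap (Subring.inclusion hle) (IsLocalRing.maximalIdeal B)).IsPrime :=
        Ideal.comap_isPrime _ _
      refine isMaximal_of_le A hdim A le_rfl _ ?_
      obtain ⟨ϖ, hϖ⟩ := IsDiscreteValuationRing.exists_irreducible B
      obtain ⟨p, q, hq, hpq⟩ := IsFractionRing.div_surjective (A := A) (ϖ : K)
      have hq0 : q ≠ 0 := nonZeroDivisors.ne_zero hq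
      have hqK : (q : K) ≠ 0 := fun h => hq0 (Subtype.ext h)
      have hp : (p : K) = (ϖ : K) * (q : K) := by
        have : (p : K) / (q : K) = (ϖ : K) := hpq
        rw [← this]; field_simp
      have hϖ0 : (ϖ : K) ≠ 0 := fun h => hϖ.ne_zero (Subtype.ext h)
      have hp0 : p ≠ 0 := by
        intro h0
        rw [h0] at hp
        exact mul_ne_zero hϖ0 hqK hp.symm
      intro hbot
      apply hp0
      have hmem : p ∈ Ideal.comap (Subring.inclusion hle) (IsLocalRing.maximalIdeal B) := by
        rw [Ideal.mem_comap]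
        have : Subring.inclusion hle p = ϖ * Subring.inclusion hle q := Subtype.ext hp
        rw [this]
        exact Ideal.mul_mem_right _ _ (hϖ.maximalIdeal_eq ▸ Ideal.mem_span_singleton_self ϖ)
      rw [hbot] at hmem
      exact hmem
    · rw [sup_eq_right.mpr hle]
      exact dvr_ne_top B

end Groth.Agent.S7664
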