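import Mathlib
import Groth.Statements.S7665
import Groth.Agent.Lib.Helper9.SLD2
import Groth.Agent.Lib.Helper9.SLD3
-- import your own Groth.Agent.* helpers here

set_option autoImplicit false
universe u
open CategoryTheory CategoryTheory.Limits AlgebraicGeometry
open Variety

namespace Groth.Agent.S7665

open Groth.Agent.Helper9.SLD1 Groth.Agent.Helper9.SLD2 Groth.Agent.Helper9

/-- Let K be a field and A_1, …, A_r ⊆ K (r ≥ 1) Noetherian semi-local rings of dimension one with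
fraction field K, and assume A_i and A_j generate K as a ring whenever i ≠ j. Then A = A_1 ∩ … ∩ A_r
is a Noetherian semi-local domain of dimension one with fraction field K contained in every A_i,
each Spec A_i → Spec A is an open immersion, Spec A is the union of their images, and every closed
point of Spec A belongs to the image of exactly one Spec A_i. (The published statement asserts only
that some such subring A exists; this row takes A to be the intersection A_1 ∩ … ∩ A_r.) -/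
theorem result (K : Type u) [Field K] (r : ℕ) (hr : 1 ≤ r)
    (A : Fin r → Subring K) [∀ i, IsNoetherianRing (A i)] [∀ i, IsFractionRing (A i) K]
    (hdim : ∀ i, ringKrullDim (A i) = 1) (hsl : ∀ i, Finite (MaximalSpectrum (A i)))
    (hgen : ∀ i j, i ≠ j → A i ⊔ A j = ⊤) :
    IsNoetherianRing ↥(⨅ i, A i) ∧ ringKrullDim ↥(⨅ i, A i) = 1 ∧ Finite (MaximalSpectrum ↥(⨅ i, A i)) ∧
      IsFractionRing ↥(⨅ i, A i) K ∧
      (∀ i, IsOpenImmersion (Spec.map (CommRingCat.ofHom (Subring.inclusion (iInf_le A i))))) ∧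
      (⋃ i, Set.range (Spec.map (CommRingCat.ofHom (Subring.inclusion (iInf_le A i)))).base) = Set.univ ∧
      (∀ m : PrimeSpectrum ↥(⨅ i, A i), m.asIdeal.IsMaximal →
        ∃! i, m ∈ Set.range (Spec.map (CommRingCat.ofHom (Subring.inclusion (iInf_le A i)))).base) := by
  classical
  haveI : Nonempty (Fin r) := ⟨⟨0, hr⟩⟩
  obtain ⟨eK, hsum, he0, heA, heinv, heJ⟩ := exists_family A hdim hsl hgen
  have heAll : ∀ i j, eK i ∈ A j := fun i j => by
    by_cases h : j = i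
    · subst h; exact heA j
    · exact (heJ i j h).1
  have heR : ∀ i, eK i ∈ ⨅ j, A j := fun i => Subring.mem_iInf.mpr (heAll i)
  obtain ⟨e, he⟩ : ∃ e : Fin r → ↥(⨅ j, A j), ∀ i, (e i : K) = eK i :=
    ⟨fun i => ⟨eK i, heR i⟩, fun i => rfl⟩
  have hesum : ∑ i, e i = 1 := Subtype.ext (by
    rw [AddSubmonoidClass.coe_finset_sum]
    simp only [he]
    exact hsum)
  have hpow : ∀ i, ∀ a ∈ A i, ∃ N : ℕ, eK i ^ N * a ∈ ⨅ j, A j := fun i a ha =>
    exists_pow_mul_mem_iInf A (eK i) a (fun j => by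
      by_cases h : j = i
      · subst h; exact ⟨0, fun n _ => (A j).mul_mem ((A j).pow_mem (heA j) n) ha⟩
      · obtain ⟨hm, hJ⟩ := heJ i j h
        exact pow_mul_mem (A j) (hdim j) (eK i) hm hJ a)
  letI alg : ∀ i, Algebra ↥(⨅ j, A j) ↥(A i) := fun i =>
    (Subring.inclusion (iInf_le A i)).toAlgebra
  have hee : ∀ i, e i = ⟨eK i, heR i⟩ := fun i => Subtype.ext (he i)
  haveI hloc : ∀ i, IsLocalization.Away (e i) ↥(A i) := fun i => by
    rw [hee i]
    exact isLocalization_away (⨅ j, A j) (A i) (iInf_le A i) (eK i) (heR i) (he0 i) (heinv i)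
      (hpow i)
  have hmaxA : ∀ i (P : Ideal ↥(A i)), P ≠ ⊥ → P.IsPrime → P.IsMaximal := fun i P hP0 hP => by
    haveI := hP
    exact isMaximal_of_le (A i) (hdim i) (A i) le_rfl P hP0
  have hJ : ∀ i k, k ≠ i →
      algebraMap ↥(⨅ j, A j) ↥(A i) (e k) ∈ (⊥ : Ideal ↥(A i)).jacobson := fun i k hki => by
    rw [hee k]
    exact (heJ k i (Ne.symm hki)).2
  have hnfA : ∀ i, ¬ IsField ↥(A i) := fun i hF => by
    have := ringKrullDim_eq_zero_of_isField hF
    rw [hdim i] at this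
    exact one_ne_zero this
  have hnf : ¬ IsField ↥(⨅ j, A j) :=
    SLD3.not_isField e (fun i => ↥(A i)) ⟨0, hr⟩ (hnfA _)
  have hmax := SLD3.isMaximal_of_ne_bot e hesum (fun i => ↥(A i)) hmaxA hJ
  have hrange := fun i =>
    range_specMap_away (R := ↥(⨅ j, A j)) (S := ↥(A i)) (e i)
  refine ⟨SLD3.isNoetherianRing e hesum (fun i => ↥(A i)) inferInstance,
    SLD3.ringKrullDim_eq_one_of hmax hnf,
    SLD3.finite_maximalSpectrum e hesum (fun i => ↥(A i)) hmaxA hnf hsl, ?_, ?_, ?_, ?_⟩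
  · refine IsFractionRing.of_field (R := ↥(⨅ j, A j)) (K := K) (fun z => ?_)
    obtain ⟨p, q, hq, rfl⟩ := IsFractionRing.div_surjective (A := A ⟨0, hr⟩) z
    have hq0 : q ≠ 0 := nonZeroDivisors.ne_zero hq
    have hqK : (q : K) ≠ 0 := fun h => hq0 (Subtype.ext h)
    obtain ⟨N₁, hN₁⟩ := hpow ⟨0, hr⟩ p p.2
    obtain ⟨N₂, hN₂⟩ := hpow ⟨0, hr⟩ q q.2
    have h0 := he0 ⟨0, hr⟩
    refine ⟨⟨_, hN₁⟩ * (⟨eK ⟨0, hr⟩, heR _⟩ : ↥(⨅ j, A j)) ^ N₂,
      ⟨_, hN₂⟩ * (⟨eK ⟨0, hr⟩, heR _⟩ : ↥(⨅ j, A j)) ^ N₁, ?_⟩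
    show (p : K) / (q : K) = (eK ⟨0, hr⟩ ^ N₁ * (p : K) * eK ⟨0, hr⟩ ^ N₂) /
      (eK ⟨0, hr⟩ ^ N₂ * (q : K) * eK ⟨0, hr⟩ ^ N₁)
    field_simp
  · intro i
    exact IsOpenImmersion.of_isLocalization (R := ↥(⨅ j, A j)) (S := ↥(A i)) (e i)
  · ext p
    simp only [Set.mem_iUnion, Set.mem_univ, iff_true]
    obtain ⟨i, hi⟩ := SLD3.exists_notMem e hesum p.asIdeal p.isPrime.ne_top
    exact ⟨i, (Set.ext_iff.mp (hrange i) p).mpr hi⟩
  · intro m hm
    obtain ⟨i, hi, huniq⟩ :=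
      SLD3.existsUnique_notMem e hesum (fun i => ↥(A i)) hmaxA hJ hnf m.asIdeal hm
    refine ⟨i, (Set.ext_iff.mp (hrange i) m).mpr hi, fun k hk => huniq k ?_⟩
    exact (Set.ext_iff.mp (hrange k) m).mp hk

end Groth.Agent.S7665
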