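import Mathlib
import Groth.Statements.S7666
import Groth.Agent.Lib.Helper9.Dim1

set_option autoImplicit false
universe u
open CategoryTheory CategoryTheory.Limits AlgebraicGeometry
open Variety

namespace Groth.Agent.S7666

open Groth.Agent.Helper9.Dim1

/-- `a₁ ^ (n+1) - a₂ ^ (n+1) = (a₁ - a₂) * y` with `y ∈ m ^ n` when `a₁, a₂ ∈ m`. -/
theorem pow_sub_pow_mem {A : Type u} [CommRing A] (m : Ideal A) (a₁ a₂ : A) (h₁ : a₁ ∈ m)
    (h₂ : a₂ ∈ m) (n : ℕ) : ∃ y ∈ m ^ n, a₁ ^ (n + 1) - a₂ ^ (n + 1) = (a₁ - a₂) * y := by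
  refine ⟨∑ i ∈ Finset.range (n + 1), a₁ ^ i * a₂ ^ (n - i), ?_, ?_⟩
  · refine Ideal.sum_mem _ fun i hi => ?_
    have hi' : i ≤ n := Nat.lt_succ_iff.1 (Finset.mem_range.1 hi)
    have : m ^ n = m ^ i * m ^ (n - i) := by rw [← pow_add, Nat.add_sub_cancel' hi']
    rw [this]
    exact Ideal.mul_mem_mul (Ideal.pow_mem_pow h₁ i) (Ideal.pow_mem_pow h₂ (n - i))
  · have := Commute.mul_geom_sum₂ (Commute.all a₁ a₂) (n + 1)
    rw [← this]
    congr 1

theorem result (A : Type u) [CommRing A]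
    [IsLocalRing A] [IsNoetherianRing A] (hdim : ringKrullDim A = 1)
    (a₁ a₂ : A) (h₁ : a₁ ∈ IsLocalRing.maximalIdeal A) (h₂ : a₂ ∈ IsLocalRing.maximalIdeal A)
    (heq : ∀ p : {p : PrimeSpectrum A // p.asIdeal ∈ minimalPrimes A},
      algebraMap A (Localization.AtPrime p.1.asIdeal) a₁ = algebraMap A (Localization.AtPrime p.1.asIdeal) a₂) :
    ∃ n : ℕ, 0 < n ∧ a₁ ^ n = a₂ ^ n := by
  set x := a₁ - a₂ with hx
  let J : Ideal A := (Ideal.span {x}).annihilator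
  have hJ : ∀ p ∈ minimalPrimes A, ¬ J ≤ p := by
    intro p hp hJp
    have hpp : p.IsPrime := hp.1.1
    have h0 : algebraMap A (Localization.AtPrime p) x = 0 := by
      rw [hx, map_sub, sub_eq_zero]
      exact heq ⟨⟨p, hpp⟩, hp⟩
    obtain ⟨s, hs⟩ := (IsLocalization.map_eq_zero_iff p.primeCompl (Localization.AtPrime p) x).1 h0
    have hsJ : (s : A) ∈ J := by
      rw [Submodule.mem_annihilator_span_singleton]
      exact hs
    exact s.2 (hJp hsJ)
  obtain ⟨k, hk⟩ := exists_pow_maximalIdeal_le hdim J hJ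
  obtain ⟨y, hy, hyeq⟩ := pow_sub_pow_mem (IsLocalRing.maximalIdeal A) a₁ a₂ h₁ h₂ k
  refine ⟨k + 1, Nat.succ_pos k, ?_⟩
  rw [← sub_eq_zero, hyeq]
  have : y ∈ J := hk hy
  rw [Submodule.mem_annihilator_span_singleton] at this
  rw [mul_comm]
  exact this

end Groth.Agent.S7666
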