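import Mathlib
import Groth.Statements.S7667
import Groth.Agent.Lib.Helper9.Dim1

set_option autoImplicit false
universe u
open CategoryTheory CategoryTheory.Limits AlgebraicGeometry
open Variety

namespace Groth.Agent.S7667

open Groth.Agent.Helper9.Dim1

section
variable (A : Type u) [CommRing A]

/-- The index type: minimal primes. -/
abbrev P := {p : PrimeSpectrum A // p.asIdeal ∈ minimalPrimes A}

/-- The product of the localizations at the minimal primes. -/
abbrev LL := ∀ p : P A, Localization.AtPrime p.1.asIdeal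

instance [IsNoetherianRing A] : Finite (P A) := by
  have hfin : (minimalPrimes A).Finite := minimalPrimes.finite_of_isNoetherianRing A
  have : Finite (minimalPrimes A) := hfin
  refine Finite.of_injective (fun p : P A => (⟨p.1.asIdeal, p.2⟩ : minimalPrimes A)) ?_
  intro p q h
  apply Subtype.ext
  apply PrimeSpectrum.ext
  exact congrArg Subtype.val h

variable {A}

/-- An element of a minimal prime is nilpotent in the localization. -/
theorem isNilpotent_of_mem (q : P A) {t : A} (ht : t ∈ q.1.asIdeal) :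
    IsNilpotent (algebraMap A (Localization.AtPrime q.1.asIdeal) t) := by
  have h := IsLocalization.AtPrime.radical_map_of_mem_minimalPrimes
    (A := Localization.AtPrime q.1.asIdeal) q.1.asIdeal ⊥ q.2
  rw [Ideal.map_bot] at h
  have : algebraMap A (Localization.AtPrime q.1.asIdeal) t ∈ (⊥ : Ideal _).radical := by
    rw [h]; exact Ideal.mem_map_of_mem _ ht
  exact mem_nilradical.1 this

/-- For a minimal prime `p₀` there is `e ∉ p₀` mapping to zero in the other localizations. -/
theorem exists_e [IsNoetherianRing A] (p₀ : P A) :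
    ∃ e : A, e ∉ p₀.1.asIdeal ∧ ∀ q : P A, q ≠ p₀ →
      algebraMap A (Localization.AtPrime q.1.asIdeal) e = 0 := by
  classical
  have := Fintype.ofFinite (P A)
  have h1 : ∀ q : P A, q ≠ p₀ → ∃ t : A, t ∈ q.1.asIdeal ∧ t ∉ p₀.1.asIdeal := by
    intro q hq
    by_contra hcon
    push Not at hcon
    have hle : q.1.asIdeal ≤ p₀.1.asIdeal := hcon
    have := p₀.2.2 ⟨q.1.isPrime, bot_le⟩ hle
    apply hq
    apply Subtype.ext
    apply PrimeSpectrum.ext
    exact le_antisymm hle this
  choose! t ht1 ht2 using h1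
  have h2 : ∀ q : P A, q ≠ p₀ → ∃ n : ℕ,
      algebraMap A (Localization.AtPrime q.1.asIdeal) (t q ^ n) = 0 := by
    intro q hq
    obtain ⟨n, hn⟩ := isNilpotent_of_mem q (ht1 q hq)
    exact ⟨n, by rw [map_pow, hn]⟩
  choose! n hn using h2
  refine ⟨∏ q ∈ Finset.univ.erase p₀, t q ^ n q, ?_, ?_⟩
  · intro hmem
    obtain ⟨q, hq, hqm⟩ := (Ideal.IsPrime.prod_mem_iff (hp := p₀.1.isPrime)).1 hmem
    exact ht2 q (Finset.ne_of_mem_erase hq) (p₀.1.isPrime.mem_of_pow_mem _ hqm)
  · intro q hq
    rw [map_prod]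
    exact Finset.prod_eq_zero (Finset.mem_erase.2 ⟨hq, Finset.mem_univ q⟩) (hn q hq)

/-- The conductor-type ideal of `l`. -/
def Q (l : LL A) : Ideal A where
  carrier := {b | algebraMap A (LL A) b * l ∈ (algebraMap A (LL A)).range}
  add_mem' := by
    intro b c hb hc
    simp only [Set.mem_ofPred_eq] at hb hc ⊢
    rw [map_add, add_mul]
    exact Subring.add_mem _ hb hc
  zero_mem' := by
    simp only [Set.mem_ofPred_eq, map_zero, zero_mul]
    exact Subring.zero_mem _
  smul_mem' := by
    intro r b hb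
    simp only [Set.mem_ofPred_eq, smul_eq_mul] at hb ⊢
    rw [map_mul, mul_assoc]
    exact Subring.mul_mem _ ⟨r, rfl⟩ hb

theorem mem_Q {l : LL A} {b : A} :
    b ∈ Q l ↔ algebraMap A (LL A) b * l ∈ (algebraMap A (LL A)).range := Iff.rfl

theorem Q_not_le [IsNoetherianRing A] (l : LL A) (p₀ : P A) : ¬ Q l ≤ p₀.1.asIdeal := by
  intro hle
  obtain ⟨e, he, he0⟩ := exists_e p₀
  obtain ⟨⟨b, u⟩, hbu⟩ := IsLocalization.surj p₀.1.asIdeal.primeCompl (l p₀)
  have hs : (u : A) * e ∈ Q l := by
    rw [mem_Q]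
    refine ⟨e * b, ?_⟩
    funext q
    simp only [Pi.algebraMap_apply, Pi.mul_apply]
    by_cases hq : q = p₀
    · subst hq
      rw [map_mul, map_mul, ← hbu]
      ring
    · rw [map_mul, map_mul, he0 q hq]
      ring
  have := hle hs
  rcases p₀.1.isPrime.mem_or_mem this with h | h
  · exact u.2 h
  · exact he h

end

theorem result (A : Type u) [CommRing A]
    [IsLocalRing A] [IsNoetherianRing A] (hdim : ringKrullDim A = 1)
    (a : A) (ha : a ∈ IsLocalRing.maximalIdeal A)
    (i : ∀ p : {p : PrimeSpectrum A // p.asIdeal ∈ minimalPrimes A}, Localization.AtPrime p.1.asIdeal)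
    (hi : i ∈ (nilradical A).map (algebraMap A (∀ p : {p : PrimeSpectrum A // p.asIdeal ∈ minimalPrimes A}, Localization.AtPrime p.1.asIdeal))) :
    ∃ n : ℕ, 0 < n ∧ (i + algebraMap A (∀ p : {p : PrimeSpectrum A // p.asIdeal ∈ minimalPrimes A}, Localization.AtPrime p.1.asIdeal) a) ^ n ∈
      (algebraMap A (∀ p : {p : PrimeSpectrum A // p.asIdeal ∈ minimalPrimes A}, Localization.AtPrime p.1.asIdeal)).range := by
  -- `i` is nilpotent
  obtain ⟨t, ht⟩ := IsNoetherianRing.isNilpotent_nilradical A
  have hit : i ^ t = 0 := by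
    have h1 : i ^ t ∈ ((nilradical A).map (algebraMap A (LL A))) ^ t := Ideal.pow_mem_pow hi t
    rw [← Ideal.map_pow, ht, Ideal.zero_eq_bot, Ideal.map_bot] at h1
    exact h1
  -- conductors
  have h2 : ∀ k : ℕ, ∃ N : ℕ, IsLocalRing.maximalIdeal A ^ N ≤ Q (i ^ k) := by
    intro k
    refine exists_pow_maximalIdeal_le hdim _ ?_
    intro p hp hle
    exact Q_not_le (i ^ k) ⟨⟨p, hp.1.1⟩, hp⟩ hle
  choose N hN using h2
  let M := (Finset.range t).sup N
  refine ⟨M + t + 1, Nat.succ_pos _, ?_⟩
  rw [add_pow]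
  refine Subring.sum_mem _ fun k hk => ?_
  by_cases hkt : t ≤ k
  · have : i ^ k = 0 := by
      rw [← Nat.sub_add_cancel hkt, pow_add, hit, mul_zero]
    rw [this, zero_mul, zero_mul]
    exact Subring.zero_mem _
  · push Not at hkt
    have hNk : N k ≤ M := Finset.le_sup (f := N) (Finset.mem_range.2 hkt)
    have hle : N k ≤ M + t + 1 - k := by omega
    have hmem : a ^ (M + t + 1 - k) ∈ Q (i ^ k) := by
      apply hN k
      exact Ideal.pow_le_pow_right hle (Ideal.pow_mem_pow ha _)
    rw [mem_Q] at hmem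
    have h3 : i ^ k * algebraMap A (LL A) a ^ (M + t + 1 - k) ∈ (algebraMap A (LL A)).range := by
      rw [mul_comm, ← map_pow]
      exact hmem
    exact Subring.mul_mem _ h3 (natCast_mem _ _)

end Groth.Agent.S7667
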