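import Mathlib
import Groth.Statements.S7668

set_option autoImplicit false
universe u
open CategoryTheory CategoryTheory.Limits AlgebraicGeometry
open Variety

namespace Groth.Agent.S7668

section
variable {A : Type u} [CommRing A] {r : ℕ} (p : Fin r → PrimeSpectrum A)

/-- The complement of the union of the primes. -/
abbrev SS : Submonoid A := ⨅ i, (p i).asIdeal.primeCompl

theorem disjoint_p (i : Fin r) : Disjoint ((SS p) : Set A) ((p i).asIdeal : Set A) := by
  rw [Set.disjoint_left]
  intro x hxS hx
  have := (Submonoid.mem_iInf.1 hxS) i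
  exact this hx

theorem exists_le_of_disjoint (q : Ideal A) [q.IsPrime]
    (hq : Disjoint ((SS p) : Set A) (q : Set A)) : ∃ i, q ≤ (p i).asIdeal := by
  rcases Nat.eq_zero_or_pos r with rfl | hr
  · exfalso
    have h1 : (1 : A) ∈ (SS p) := one_mem _
    have h0 : (0 : A) ∈ (SS p) := by
      rw [Submonoid.mem_iInf]
      intro i
      exact i.elim0
    exact Set.disjoint_left.1 hq h0 (zero_mem q)
  · let a : Fin r := ⟨0, hr⟩
    have hsub : (q : Set A) ⊆ ⋃ i ∈ ((Finset.univ : Finset (Fin r)) : Set (Fin r)),
        ((p i).asIdeal : Set A) := by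
      intro x hx
      by_contra hcon
      simp only [Finset.coe_univ, Set.mem_univ, Set.iUnion_true, Set.mem_iUnion, not_exists] at hcon
      have : x ∈ (SS p) := by
        rw [Submonoid.mem_iInf]
        intro i
        exact hcon i
      exact Set.disjoint_left.1 hq this hx
    obtain ⟨i, -, hi⟩ := (Ideal.subset_union_prime (s := Finset.univ)
      (f := fun i => (p i).asIdeal) a a (fun i _ _ _ => (p i).isPrime)).1 hsub
    exact ⟨i, hi⟩

theorem comap_eq_of_isMaximal (m : Ideal (Localization (SS p))) (hm : m.IsMaximal) :
    ∃ i, m.comap (algebraMap A (Localization (SS p))) = (p i).asIdeal ∧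
      ∀ j, m.comap (algebraMap A (Localization (SS p))) ≤ (p j).asIdeal → m.comap (algebraMap A (Localization (SS p))) = (p j).asIdeal := by
  have hprime := (IsLocalization.isPrime_iff_isPrime_disjoint (SS p) (Localization (SS p)) m).1 hm.isPrime
  have : (m.comap (algebraMap A (Localization (SS p)))).IsPrime := hprime.1
  obtain ⟨i, hi⟩ := exists_le_of_disjoint p (m.comap (algebraMap A (Localization (SS p)))) hprime.2
  have key : ∀ j, m.comap (algebraMap A (Localization (SS p))) ≤ (p j).asIdeal →
      m.comap (algebraMap A (Localization (SS p))) = (p j).asIdeal := by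
    intro j hj
    have hjprime : ((p j).asIdeal.map (algebraMap A (Localization (SS p)))).IsPrime :=
      IsLocalization.isPrime_of_isPrime_disjoint (SS p) (Localization (SS p)) _ (p j).isPrime
        (disjoint_p p j)
    have hle : m ≤ (p j).asIdeal.map (algebraMap A (Localization (SS p))) := by
      rw [← IsLocalization.map_under (SS p) (Localization (SS p)) m]
      exact Ideal.map_mono hj
    have heq : m = (p j).asIdeal.map (algebraMap A (Localization (SS p))) := hm.eq_of_le hjprime.ne_top hle
    rw [heq]
    exact IsLocalization.under_map_of_isPrime_disjoint (SS p) (Localization (SS p)) (p j).isPrime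
      (disjoint_p p j)
  exact ⟨i, key i hi, key⟩

theorem comap_injective : Function.Injective
    (fun m : Ideal (Localization (SS p)) => m.comap (algebraMap A (Localization (SS p)))) := by
  intro m₁ m₂ h
  rw [← IsLocalization.map_under (SS p) (Localization (SS p)) m₁,
    ← IsLocalization.map_under (SS p) (Localization (SS p)) m₂]
  exact congrArg (Ideal.map (algebraMap A (Localization (SS p)))) h

end

theorem result (A : Type u) [CommRing A]
    (r : ℕ) (p : Fin r → PrimeSpectrum A) :
    Finite (MaximalSpectrum (Localization (⨅ i, (p i).asIdeal.primeCompl))) ∧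
      Set.BijOn (fun m : Ideal (Localization (⨅ i, (p i).asIdeal.primeCompl)) =>
          m.comap (algebraMap A (Localization (⨅ i, (p i).asIdeal.primeCompl))))
        {m | m.IsMaximal}
        {q | q ∈ Set.range (fun i => (p i).asIdeal) ∧
          ∀ j, q ≤ (p j).asIdeal → q = (p j).asIdeal} := by
  constructor
  · choose idx hidx using fun m : MaximalSpectrum (Localization (⨅ i, (p i).asIdeal.primeCompl)) =>
      comap_eq_of_isMaximal p m.asIdeal m.isMaximal
    refine Finite.of_injective idx ?_
    intro m₁ m₂ h
    have h1 := (hidx m₁).1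
    have h2 := (hidx m₂).1
    rw [h] at h1
    have := comap_injective p (h1.trans h2.symm)
    exact MaximalSpectrum.ext this
  · refine ⟨?_, ?_, ?_⟩
    · intro m hm
      obtain ⟨i, hi, hmax⟩ := comap_eq_of_isMaximal p m hm
      exact ⟨⟨i, hi.symm⟩, hmax⟩
    · intro m₁ _ m₂ _ h
      exact comap_injective p h
    · rintro q ⟨⟨i, rfl⟩, hmax⟩
      have hiprime : ((p i).asIdeal.map
          (algebraMap A (Localization (⨅ i, (p i).asIdeal.primeCompl)))).IsPrime :=
        IsLocalization.isPrime_of_isPrime_disjoint (⨅ i, (p i).asIdeal.primeCompl) _ _ (p i).isPrime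
          (disjoint_p p i)
      obtain ⟨m', hm', hle⟩ := Ideal.exists_le_maximal _ hiprime.ne_top
      obtain ⟨j, hj, -⟩ := comap_eq_of_isMaximal p m' hm'
      have hcm : ((p i).asIdeal.map
          (algebraMap A (Localization (⨅ i, (p i).asIdeal.primeCompl)))).comap
          (algebraMap A (Localization (⨅ i, (p i).asIdeal.primeCompl))) = (p i).asIdeal :=
        IsLocalization.under_map_of_isPrime_disjoint (⨅ i, (p i).asIdeal.primeCompl) _
          (p i).isPrime (disjoint_p p i)
      have hij : (p i).asIdeal ≤ (p j).asIdeal := by
        rw [← hj, ← hcm]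
        exact Ideal.comap_mono hle
      have heq : (p i).asIdeal = (p j).asIdeal := hmax j hij
      have hm'eq : m' = (p i).asIdeal.map
          (algebraMap A (Localization (⨅ i, (p i).asIdeal.primeCompl))) := by
        rw [← IsLocalization.map_under (⨅ i, (p i).asIdeal.primeCompl) _ m']
        change Ideal.map _ (m'.comap _) = _
        rw [hj, heq]
      refine ⟨m', hm', ?_⟩
      change m'.comap _ = (p i).asIdeal
      rw [hj, heq]

end Groth.Agent.S7668
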