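import Groth.Statements.S7674
import Mathlib
import Groth.Agent.S7675

set_option autoImplicit false
universe u
open CategoryTheory CategoryTheory.Limits AlgebraicGeometry
open Variety

namespace Groth.Agent.S7674

theorem spec_iff {S : Type u} [TopologicalSpace S] {A : Type u} [CommRing A]
    (Φ : S ≃ₜ PrimeSpectrum A) (s t : S) :
    s ⤳ t ↔ (Φ s).asIdeal ≤ (Φ t).asIdeal := by
  rw [← Φ.isInducing.specializes_iff, ← PrimeSpectrum.le_iff_specializes]
  rfl

theorem mem_closure_iff' {S : Type u} [TopologicalSpace S] {A : Type u} [CommRing A]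
    (Φ : S ≃ₜ PrimeSpectrum A) (s t : S) :
    t ∈ closure ({s} : Set S) ↔ (Φ s).asIdeal ≤ (Φ t).asIdeal := by
  rw [← specializes_iff_mem_closure, spec_iff Φ]

theorem exists_ideal_of_closed {S : Type u} [TopologicalSpace S] {A : Type u} [CommRing A]
    (Φ : S ≃ₜ PrimeSpectrum A) (X : Set S) (hX : IsClosed X) :
    ∃ I : Ideal A, ∀ s, s ∈ X ↔ I ≤ (Φ s).asIdeal := by
  refine ⟨PrimeSpectrum.vanishingIdeal (Φ '' X), fun s => ?_⟩
  have hcl : IsClosed (Φ '' X) := Φ.isClosedMap _ hX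
  have h1 : PrimeSpectrum.zeroLocus (PrimeSpectrum.vanishingIdeal (Φ '' X) : Set A) = Φ '' X := by
    rw [PrimeSpectrum.zeroLocus_vanishingIdeal_eq_closure, hcl.closure_eq]
  constructor
  · intro hs
    have : Φ s ∈ PrimeSpectrum.zeroLocus (PrimeSpectrum.vanishingIdeal (Φ '' X) : Set A) := by
      rw [h1]; exact ⟨s, hs, rfl⟩
    exact (PrimeSpectrum.mem_zeroLocus _ _).mp this
  · intro h
    have : Φ s ∈ Φ '' X := by
      rw [← h1]; exact (PrimeSpectrum.mem_zeroLocus _ _).mpr h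
    obtain ⟨s', hs', he⟩ := this
    rwa [← Φ.injective he]

open Topology in
theorem dimcl {S : Type u} [TopologicalSpace S] [QuasiSober S] [T0Space S] {A : Type u}
    [CommRing A] (Φ : S ≃ₜ PrimeSpectrum A) (s : S) :
    topologicalKrullDim ↥(closure ({s} : Set S)) = ringKrullDim (A ⧸ (Φ s).asIdeal) := by
  haveI : QuasiSober ↥(closure ({s} : Set S)) :=
    isClosed_closure.isClosedEmbedding_subtypeVal.quasiSober
  rw [Groth.Agent.S10840.topDim_eq, ringKrullDim_quotient]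
  have h0 : PrimeSpectrum.zeroLocus ((Φ s).asIdeal : Set A) = Set.Ici (Φ s) := by
    ext x
    rfl
  rw [h0, ← Order.krullDim_orderDual (α := ↥(Set.Ici (Φ s)))]
  let e₂ : @OrderIso ↥(closure ({s} : Set S)) (↥(Set.Ici (Φ s)))ᵒᵈ
      (specializationPreorder ↥(closure ({s} : Set S))).toLE _ :=
    { toFun := fun a => OrderDual.toDual ⟨Φ a.1, (mem_closure_iff' Φ s a.1).mp a.2⟩
      invFun := fun b => ⟨Φ.symm (OrderDual.ofDual b).1, by
        rw [mem_closure_iff' Φ, Φ.apply_symm_apply]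
        exact (OrderDual.ofDual b).2⟩
      left_inv := by
        intro a
        apply Subtype.ext
        simp
      right_inv := by
        intro b
        simp
      map_rel_iff' := by
        intro a b
        show Φ b.1 ≤ Φ a.1 ↔ b ⤳ a
        rw [subtype_specializes_iff, spec_iff Φ]
        rfl }
  exact @Order.krullDim_eq_of_orderIso _ _ (specializationPreorder _) _ e₂

open Topology in
theorem compGen {S : Type u} [TopologicalSpace S] [QuasiSober S] [T0Space S] {A : Type u}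
    [CommRing A] (Φ : S ≃ₜ PrimeSpectrum A) (W : Set S) (hWcl : IsClosed W) (J : Ideal A)
    (hW : ∀ w, w ∈ W ↔ J ≤ (Φ w).asIdeal) (C : Set ↥W) (hC : C ∈ irreducibleComponents ↥W) :
    ∃ c : S, Subtype.val '' C = closure ({c} : Set S) ∧ (Φ c).asIdeal ∈ J.minimalPrimes := by
  have hCcl : IsClosed C := isClosed_of_mem_irreducibleComponents C hC
  have hCirr : IsIrreducible C := hC.1
  have hC'cl : IsClosed (Subtype.val '' C) :=
    hWcl.isClosedEmbedding_subtypeVal.isClosedMap _ hCcl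
  have hC'irr : IsIrreducible (Subtype.val '' C) :=
    hCirr.image _ continuous_subtype_val.continuousOn
  obtain ⟨y, hy⟩ := QuasiSober.sober hC'irr hC'cl
  have hC'eq : Subtype.val '' C = closure ({y} : Set S) := hy.def.symm
  have hyC' : y ∈ Subtype.val '' C := by rw [hC'eq]; exact subset_closure (Set.mem_singleton y)
  obtain ⟨c, hcC, rfl⟩ := hyC'
  have hJy : J ≤ (Φ c.1).asIdeal := (hW _).mp c.2
  obtain ⟨q, hq, hqy⟩ := Ideal.exists_minimalPrimes_le hJy
  haveI hqp : q.IsPrime := hq.1.1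
  have hPz : (Φ (Φ.symm ⟨q, hqp⟩)).asIdeal = q := by rw [Φ.apply_symm_apply]
  have hzW : Φ.symm ⟨q, hqp⟩ ∈ W := by rw [hW, hPz]; exact hq.1.2
  have hC₂irr : IsIrreducible (closure {(⟨_, hzW⟩ : ↥W)}) := isIrreducible_singleton.closure
  have hCsub : C ⊆ closure {(⟨_, hzW⟩ : ↥W)} := by
    intro c' hc'
    rw [Topology.IsEmbedding.subtypeVal.closure_eq_preimage_closure_image, Set.image_singleton]
    show c'.1 ∈ closure {Φ.symm ⟨q, hqp⟩}
    rw [mem_closure_iff' Φ, hPz]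
    have hc'' : c'.1 ∈ Subtype.val '' C := ⟨c', hc', rfl⟩
    rw [hC'eq, mem_closure_iff' Φ] at hc''
    exact hqy.trans hc''
  have hsub2 := hC.2 hC₂irr hCsub
  have hwC := hsub2 (subset_closure (Set.mem_singleton _))
  have hzC' : Φ.symm ⟨q, hqp⟩ ∈ Subtype.val '' C := ⟨_, hwC, rfl⟩
  rw [hC'eq, mem_closure_iff' Φ, hPz] at hzC'
  refine ⟨c.1, hC'eq, ?_⟩
  rw [le_antisymm hzC' hqy]
  exact hq

open Topology in
theorem compOfMin {S : Type u} [TopologicalSpace S] [QuasiSober S] [T0Space S] {A : Type u}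
    [CommRing A] (Φ : S ≃ₜ PrimeSpectrum A) (X : Set S) (hXcl : IsClosed X) (I : Ideal A)
    (hX : ∀ s, s ∈ X ↔ I ≤ (Φ s).asIdeal) (p : Ideal A) (hp : p ∈ I.minimalPrimes) :
    ∃ C ∈ irreducibleComponents ↥X, topologicalKrullDim ↥C = ringKrullDim (A ⧸ p) := by
  haveI hpp : p.IsPrime := hp.1.1
  have hPx : (Φ (Φ.symm ⟨p, hpp⟩)).asIdeal = p := by rw [Φ.apply_symm_apply]
  have hxX : Φ.symm ⟨p, hpp⟩ ∈ X := by rw [hX, hPx]; exact hp.1.2
  have himg : Subtype.val '' (closure {(⟨_, hxX⟩ : ↥X)}) = closure ({Φ.symm ⟨p, hpp⟩} : Set S) := by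
    rw [← hXcl.isClosedEmbedding_subtypeVal.closure_image_eq, Set.image_singleton]
  refine ⟨closure {(⟨_, hxX⟩ : ↥X)}, ⟨isIrreducible_singleton.closure, ?_⟩, ?_⟩
  · intro C' hC' hsub
    have hC''irr : IsIrreducible (closure C') := hC'.closure
    have hvcl : IsClosed (Subtype.val '' (closure C')) :=
      hXcl.isClosedEmbedding_subtypeVal.isClosedMap _ isClosed_closure
    have hvirr : IsIrreducible (Subtype.val '' (closure C')) :=
      hC''irr.image _ continuous_subtype_val.continuousOn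
    obtain ⟨x', hx'⟩ := QuasiSober.sober hvirr hvcl
    have hveq : Subtype.val '' (closure C') = closure ({x'} : Set S) := hx'.def.symm
    have hx'mem : x' ∈ Subtype.val '' (closure C') := by
      rw [hveq]; exact subset_closure (Set.mem_singleton x')
    have hx'X : x' ∈ X := by
      obtain ⟨w, _, rfl⟩ := hx'mem
      exact w.2
    have h1 : Φ.symm ⟨p, hpp⟩ ∈ Subtype.val '' (closure C') :=
      ⟨⟨_, hxX⟩, subset_closure (hsub (subset_closure (Set.mem_singleton _))), rfl⟩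
    rw [hveq, mem_closure_iff' Φ, hPx] at h1
    have h2 : p ≤ (Φ x').asIdeal := hp.2 ⟨(Φ x').isPrime, (hX x').mp hx'X⟩ h1
    intro c' hc'
    rw [Topology.IsEmbedding.subtypeVal.closure_eq_preimage_closure_image, Set.image_singleton]
    show c'.1 ∈ closure {Φ.symm ⟨p, hpp⟩}
    rw [mem_closure_iff' Φ, hPx]
    have h3 : c'.1 ∈ Subtype.val '' (closure C') := ⟨c', subset_closure hc', rfl⟩
    rw [hveq, mem_closure_iff' Φ] at h3
    exact h2.trans h3
  · rw [IsHomeomorph.topologicalKrullDim_eq _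
      (Topology.IsEmbedding.subtypeVal.homeomorphImage (closure {(⟨_, hxX⟩ : ↥X)})).isHomeomorph,
      himg, dimcl Φ, hPx]

open Topology in
theorem affDimThm (k : Type u) [Field k] (n r s : ℕ)
    {S : Type u} [TopologicalSpace S] [QuasiSober S] [T0Space S]
    (Φ : S ≃ₜ PrimeSpectrum (MvPolynomial (Fin n) k))
    (X Y : Set S) (hX : IsClosed X) (hY : IsClosed Y)
    (hXr : ∀ Z ∈ irreducibleComponents ↥X, topologicalKrullDim ↥Z = r)
    (hYs : ∀ Z ∈ irreducibleComponents ↥Y, topologicalKrullDim ↥Z = s)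
    (Z : Set ↥(X ∩ Y)) (hZ : Z ∈ irreducibleComponents ↥(X ∩ Y)) :
    ((r + s : ℕ) : WithBot ℕ∞) ≤ topologicalKrullDim ↥Z + (n : WithBot ℕ∞) := by
  obtain ⟨IX, hIX⟩ := exists_ideal_of_closed Φ X hX
  obtain ⟨IY, hIY⟩ := exists_ideal_of_closed Φ Y hY
  have hW : ∀ w, w ∈ X ∩ Y ↔ IX ⊔ IY ≤ (Φ w).asIdeal := by
    intro w
    rw [Set.mem_inter_iff, hIX, hIY, sup_le_iff]
  obtain ⟨c, hZc, hcmin⟩ := compGen Φ (X ∩ Y) (hX.inter hY) (IX ⊔ IY) hW Z hZ
  haveI := (Φ c).isPrime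
  obtain ⟨p, hp, hpc⟩ := Ideal.exists_minimalPrimes_le (le_sup_left.trans hcmin.1.2 :
    IX ≤ (Φ c).asIdeal)
  obtain ⟨q, hq, hqc⟩ := Ideal.exists_minimalPrimes_le (le_sup_right.trans hcmin.1.2 :
    IY ≤ (Φ c).asIdeal)
  haveI := hp.1.1
  haveI := hq.1.1
  have hmin : (Φ c).asIdeal ∈ (p ⊔ q).minimalPrimes := by
    refine ⟨⟨(Φ c).isPrime, sup_le hpc hqc⟩, ?_⟩
    rintro Q₁ ⟨hQ₁p, hQ₁⟩ hQ₁c
    exact hcmin.2 ⟨hQ₁p, (sup_le_sup hp.1.2 hq.1.2).trans hQ₁⟩ hQ₁c
  obtain ⟨CX, hCX, hCXd⟩ := compOfMin Φ X hX IX hIX p hp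
  obtain ⟨CY, hCY, hCYd⟩ := compOfMin Φ Y hY IY hIY q hq
  have hr := hXr CX hCX
  have hs := hYs CY hCY
  rw [hCXd] at hr
  rw [hCYd] at hs
  have hadt := Groth.Agent.S7675.adt k n p q (Φ c).asIdeal hmin
  rw [hr, hs] at hadt
  have hdimZ : topologicalKrullDim ↥Z =
      ringKrullDim (MvPolynomial (Fin n) k ⧸ (Φ c).asIdeal) := by
    rw [IsHomeomorph.topologicalKrullDim_eq _
      (Topology.IsEmbedding.subtypeVal.homeomorphImage Z).isHomeomorph, hZc, dimcl Φ]
  rw [hdimZ]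
  refine le_trans ?_ hadt
  push_cast
  exact le_rfl

/-- Let k be a field, n ≥ 0, and X, Y ⊆ A^n_k closed subsets which are equidimensional of dimensions r
and s. Then each irreducible component Z of the intersection X ∩ Y satisfies dim Z ≥ r + s − n. -/
theorem result (k : Type u) [Field k] (n r s : ℕ)
    (X Y : Set ↥(𝔸(ULift.{u} (Fin n); Spec (CommRingCat.of k)))) (hX : IsClosed X) (hY : IsClosed Y)
    (hXr : ∀ Z ∈ irreducibleComponents X, topologicalKrullDim Z = r)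
    (hYs : ∀ Z ∈ irreducibleComponents Y, topologicalKrullDim Z = s)
    (Z : Set ↥(X ∩ Y)) (hZ : Z ∈ irreducibleComponents ↥(X ∩ Y)) :
    ((r + s : ℕ) : WithBot ℕ∞) ≤ topologicalKrullDim Z + (n : WithBot ℕ∞) := by
  let Φ₁ : ↥(𝔸(ULift.{u} (Fin n); Spec (CommRingCat.of k))) ≃ₜ
      PrimeSpectrum (MvPolynomial (ULift.{u} (Fin n)) k) :=
    Scheme.homeoOfIso (AffineSpace.SpecIso (ULift.{u} (Fin n)) (CommRingCat.of k))
  let Φ₂ : PrimeSpectrum (MvPolynomial (ULift.{u} (Fin n)) k) ≃ₜ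
      PrimeSpectrum (MvPolynomial (Fin n) k) :=
    PrimeSpectrum.homeomorphOfRingEquiv
      (MvPolynomial.renameEquiv k (Equiv.ulift : ULift.{u} (Fin n) ≃ Fin n)).toRingEquiv
  exact affDimThm k n r s (Φ₁.trans Φ₂) X Y hX hY hXr hYs Z hZ

end Groth.Agent.S7674
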