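import Groth.Statements.S8260
import Groth.Agent.Lib.Helper22.RelProjLoc

set_option autoImplicit false
universe u
open CategoryTheory CategoryTheory.Limits AlgebraicGeometry Opposite TopologicalSpace
open scoped HomogeneousIdeal
open EGA2

namespace Groth.Agent.S8260

/-- If the quasi-coherent positively graded O_Y-algebra 𝒮 is of finite type (over every affine open U of
Y the ring 𝒮(U) is a finitely generated O_Y(U)-algebra), then its relative homogeneous spectrum
Proj(𝒮) is of finite type over Y. -/
theorem result {Y P : Scheme.{u}} (𝒮 : RelProj.QCGrAlg Y)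
    (hft : ∀ (U : Y.Opens) (hU : IsAffineOpen U), (𝒮.str.app (op U)).hom.FiniteType)
    (p : P ⟶ Y)
    (chart : ∀ (U : Y.Opens) (hU : IsAffineOpen U), (((p ⁻¹ᵁ U : P.Opens) : Scheme.{u}) ≅ Proj (𝒮.deg U hU)))
    (hP : RelProj.IsRelProj 𝒮 p chart) : LocallyOfFiniteType p ∧ QuasiCompact p := by
  have hAft : ∀ (U : Y.Opens) (hU : IsAffineOpen U),
      Algebra.FiniteType (𝒮.deg U hU 0) (𝒮.presheaf.obj (op U)) := by
    intro U hU
    rw [← RingHom.finiteType_algebraMap]
    have hc : (algebraMap (𝒮.deg U hU 0) (𝒮.presheaf.obj (op U))).comp (𝒮.strZero U hU).hom =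
        (𝒮.str.app (op U)).hom := RingHom.ext fun r => rfl
    exact RingHom.FiniteType.of_comp_finiteType (f := (𝒮.strZero U hU).hom)
      (by rw [hc]; exact hft U hU)
  have hZft : ∀ (U : Y.Opens) (hU : IsAffineOpen U), (𝒮.strZero U hU).hom.FiniteType := by
    intro U hU
    have hc : (𝒮.strZero U hU).hom =
        (GradedRing.projZeroRingHom' (𝒮.deg U hU)).comp (𝒮.str.app (op U)).hom := by
      refine RingHom.ext fun r => Subtype.ext ?_
      show (𝒮.str.app (op U)).hom r =
        GradedRing.projZeroRingHom (𝒮.deg U hU) ((𝒮.str.app (op U)).hom r)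
      rw [GradedRing.projZeroRingHom_apply,
        DirectSum.decompose_of_mem_same _ (𝒮.str_mem U hU r)]
    rw [hc]
    exact RingHom.FiniteType.comp
      (RingHom.FiniteType.of_surjective _ (GradedRing.projZeroRingHom'_surjective _)) (hft U hU)
  constructor
  · refine Groth.Agent.Helper22.RelProjLoc.of_chartwise_str 𝒮 p chart hP @LocallyOfFiniteType
      (fun U hU => ?_)
    haveI := hAft U hU
    haveI : LocallyOfFiniteType (Spec.map (𝒮.strZero U hU)) :=
      (HasRingHomProperty.Spec_iff (P := @LocallyOfFiniteType)).mpr (hZft U hU)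
    infer_instance
  · refine Groth.Agent.Helper22.RelProjLoc.of_chartwise_str 𝒮 p chart hP @QuasiCompact
      (fun U hU => ?_)
    haveI := hAft U hU
    infer_instance

end Groth.Agent.S8260
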