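import Groth.Statements.S8261
import Groth.Agent.Lib.Helper22.RelProjLoc
import Groth.Agent.Lib.Helper22.ProjFT

set_option autoImplicit false
universe u
open CategoryTheory CategoryTheory.Limits AlgebraicGeometry Opposite TopologicalSpace
open scoped HomogeneousIdeal
open EGA2

namespace Groth.Agent.S8261

/-- Let 𝒮 be a quasi-coherent positively graded O_Y-algebra generated by 𝒮_1 with 𝒮_1 of finite type
over O_Y. Then Proj(𝒮) is of finite type over Y. -/
theorem result {Y P : Scheme.{u}} (𝒮 : RelProj.QCGrAlg Y)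
    (hgen : 𝒮.IsGenDegOne) (hft : 𝒮.IsFTDeg 1) (p : P ⟶ Y)
    (chart : ∀ (U : Y.Opens) (hU : IsAffineOpen U), (((p ⁻¹ᵁ U : P.Opens) : Scheme.{u}) ≅ Proj (𝒮.deg U hU)))
    (hP : RelProj.IsRelProj 𝒮 p chart) : LocallyOfFiniteType p ∧ QuasiCompact p := by
  classical
  have key : ∀ (U : Y.Opens) (hU : IsAffineOpen U),
      LocallyOfFiniteType (Proj.toSpecZero (𝒮.deg U hU) ≫ Spec.map (𝒮.strZero U hU)) ∧
      QuasiCompact (Proj.toSpecZero (𝒮.deg U hU) ≫ Spec.map (𝒮.strZero U hU)) := by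
    intro U hU
    obtain ⟨T, hT, hspan⟩ := hft U hU
    have hT' : ∀ t ∈ T, t ∈ 𝒮.deg U hU 1 := fun t ht => hT (Finset.mem_coe.mpr ht)
    have hadj : Algebra.adjoin (𝒮.deg U hU 0) (T : Set (𝒮.presheaf.obj (op U))) = ⊤ := by
      rw [eq_top_iff]
      intro x _
      have hx : x ∈ Subring.closure ((𝒮.deg U hU 0 : Set (𝒮.presheaf.obj (op U))) ∪
          (𝒮.deg U hU 1 : Set _)) := by
        rw [hgen U hU]
        trivial
      have hle : Subring.closure ((𝒮.deg U hU 0 : Set (𝒮.presheaf.obj (op U))) ∪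
          (𝒮.deg U hU 1 : Set _)) ≤
          (Algebra.adjoin (𝒮.deg U hU 0) (T : Set (𝒮.presheaf.obj (op U)))).toSubring := by
        rw [Subring.closure_le]
        rintro y (hy | hy)
        · exact (Algebra.adjoin (𝒮.deg U hU 0)
            (T : Set (𝒮.presheaf.obj (op U)))).algebraMap_mem ⟨y, hy⟩
        · obtain ⟨c, rfl⟩ := hspan y hy
          refine Subalgebra.sum_mem _ fun t ht => Subalgebra.mul_mem _ ?_
            (Algebra.subset_adjoin (Finset.mem_coe.mpr ht))
          exact (Algebra.adjoin (𝒮.deg U hU 0)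
            (T : Set (𝒮.presheaf.obj (op U)))).algebraMap_mem ⟨_, 𝒮.str_mem U hU (c t)⟩
      exact hle hx
    haveI : Algebra.FiniteType (𝒮.deg U hU 0) (𝒮.presheaf.obj (op U)) := ⟨⟨T, hadj⟩⟩
    constructor
    · rw [IsZariskiLocalAtSource.iff_of_iSup_eq_top (P := @LocallyOfFiniteType) _
        (Proj.iSup_basicOpen_eq_top' (𝒮.deg U hU) (ι := T) (↑) (fun i => ⟨1, hT' _ i.2⟩)
          (by simpa using hadj))]
      intro i
      have e : (Proj.basicOpenIsoSpec (𝒮.deg U hU) (i : 𝒮.presheaf.obj (op U))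
            (hT' _ i.2) one_pos).inv ≫
          (Proj.basicOpen (𝒮.deg U hU) (i : 𝒮.presheaf.obj (op U))).ι ≫
            Proj.toSpecZero (𝒮.deg U hU) ≫ Spec.map (𝒮.strZero U hU) =
          Spec.map (𝒮.strZero U hU ≫ CommRingCat.ofHom
            (HomogeneousLocalization.fromZeroRingHom (𝒮.deg U hU) _)) := by
        rw [Proj.basicOpenIsoSpec_inv_ι_assoc, Proj.awayι_toSpecZero_assoc, ← Spec.map_comp]
      rw [← MorphismProperty.cancel_left_of_respectsIso (P := @LocallyOfFiniteType)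
        (Proj.basicOpenIsoSpec (𝒮.deg U hU) (i : 𝒮.presheaf.obj (op U))
          (hT' _ i.2) one_pos).inv, e,
        HasRingHomProperty.Spec_iff (P := @LocallyOfFiniteType)]
      exact Groth.Agent.Helper22.ProjFT.away_finiteType_of_degOne (𝒮.deg U hU)
        (𝒮.str.app (op U)).hom (𝒮.str_mem U hU) T hT' hspan hadj i.1 (hT' _ i.2) _
        (fun r => rfl)
    · infer_instance
  exact ⟨Groth.Agent.Helper22.RelProjLoc.of_chartwise_str 𝒮 p chart hP @LocallyOfFiniteType
      (fun U hU => (key U hU).1),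
    Groth.Agent.Helper22.RelProjLoc.of_chartwise_str 𝒮 p chart hP @QuasiCompact
      (fun U hU => (key U hU).2)⟩

end Groth.Agent.S8261
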