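import Groth.Statements.S8272
import Groth.Agent.H21.ProjKer

set_option autoImplicit false
universe u
open CategoryTheory CategoryTheory.Limits AlgebraicGeometry Opposite TopologicalSpace
open EGA2

namespace Groth.Agent.S8272

/-- Let T be a positively graded ring, Z = Proj T and g ∈ T_d (d > 0) a homogeneous element that is not
a zero divisor in T. Then Z is the smallest closed subscheme of Z containing the open D_+(g);
equivalently the kernel (ideal sheaf) of the open immersion D_+(g) → Z vanishes. -/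
theorem result {R A : Type u} [CommRing R] [CommRing A] [Algebra R A]
    (𝒜 : ℕ → Submodule R A) [GradedAlgebra 𝒜] {d : ℕ} (hd : 0 < d) (g : A) (hg : g ∈ 𝒜 d)
    (hnz : g ∈ nonZeroDivisors A) :
    (Proj.basicOpen 𝒜 g).ι.ker = ⊥ := by
  classical
  rw [eq_bot_iff]
  let U : {f : A // ∃ m, 0 < m ∧ f ∈ 𝒜 m} → (Proj 𝒜).affineOpens := fun f =>
    ⟨Proj.basicOpen 𝒜 f.1, by
      obtain ⟨m, hm, hf⟩ := f.2
      exact Proj.isAffineOpen_basicOpen 𝒜 f.1 hf hm⟩
  refine Scheme.IdealSheafData.le_of_iSup_eq_top U ?_ ?_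
  · apply Proj.iSup_basicOpen_eq_top 𝒜 (fun f : {f : A // ∃ m, 0 < m ∧ f ∈ 𝒜 m} => f.1)
    intro x hx
    rw [← DirectSum.sum_support_decompose 𝒜 x]
    apply Ideal.sum_mem
    intro i _
    by_cases hi : i = 0
    · subst hi
      have := (HomogeneousIdeal.mem_irrelevant_iff 𝒜 x).mp hx
      rw [GradedRing.proj_apply] at this
      rw [this]
      exact zero_mem _
    · exact Ideal.subset_span ⟨⟨_, i, Nat.pos_of_ne_zero hi, SetLike.coe_mem _⟩, rfl⟩
  · intro f
    obtain ⟨m, hm, hf⟩ := f.2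
    refine (Scheme.Hom.ideal_ker_le _ _).trans ?_
    rw [Scheme.IdealSheafData.ideal_bot]
    show RingHom.ker _ ≤ ⊥
    rw [le_bot_iff, ← RingHom.injective_iff_ker_eq_bot, Scheme.Opens.ι_app]
    refine H21.ProjKer.restrict_injective 𝒜 hf hm hg hnz _ ?_ _
    rw [Scheme.Hom.image_preimage_eq_opensRange_inf, Scheme.Opens.opensRange_ι, inf_comm]

end Groth.Agent.S8272
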