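import Groth.Statements.S8279
import Groth.Agent.Lib.Helper22.ProjGen

set_option autoImplicit false
universe u
open CategoryTheory CategoryTheory.Limits AlgebraicGeometry Opposite TopologicalSpace
open scoped HomogeneousIdeal
open EGA2

namespace Groth.Agent.S8279

/-- Let 𝒮 be a quasi-coherent positively graded O_Y-algebra and 𝒮' the graded O_Y-algebra O_Y ⊕ (⊕_{n>0}
𝒮_n), presented here as a quasi-coherent graded algebra 𝒮' with 𝒮'_0 = O_Y together with a graded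
homomorphism φ : 𝒮' → 𝒮 that is bijective in every positive degree over every affine open. Then the
morphism Proj(𝒮) → Proj(𝒮') induced by φ is an isomorphism (the canonical Y-isomorphism of the two
relative homogeneous spectra). -/
theorem result {Y P P' : Scheme.{u}} {𝒮' 𝒮 : RelProj.QCGrAlg Y}
    (φ : 𝒮'.toQCAlg ⟶ 𝒮.toQCAlg) (hφ : RelProj.IsGradedHom φ)
    (h0 : ∀ (U : Y.Opens) (hU : IsAffineOpen U), Function.Bijective (𝒮'.strZero U hU).hom)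
    (hpos : ∀ (U : Y.Opens) (hU : IsAffineOpen U) (n : ℕ), 0 < n →
      Set.BijOn (φ.hom.app (op U)).hom (𝒮'.deg U hU n) (𝒮.deg U hU n))
    (hirr : ∀ (U : Y.Opens) (hU : IsAffineOpen U),
      (𝒮.deg U hU)₊ ≤ ((𝒮'.deg U hU)₊).map (RelProj.gradedHomAt φ hφ U hU))
    (p' : P' ⟶ Y) (p : P ⟶ Y)
    (chart' : ∀ (U : Y.Opens) (hU : IsAffineOpen U), (((p' ⁻¹ᵁ U : P'.Opens) : Scheme.{u}) ≅ Proj (𝒮'.deg U hU)))
    (chart : ∀ (U : Y.Opens) (hU : IsAffineOpen U), (((p ⁻¹ᵁ U : P.Opens) : Scheme.{u}) ≅ Proj (𝒮.deg U hU)))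
    (hP' : RelProj.IsRelProj 𝒮' p' chart') (hP : RelProj.IsRelProj 𝒮 p chart)
    (h : P ⟶ P') (hh : RelProj.IsRelProjMap φ hφ hirr chart' chart h) : IsIso h := by
  have hcompat : ∀ (U : Y.Opens) (hU : IsAffineOpen U),
      𝒮'.strZero U hU ≫ CommRingCat.ofHom (Groth.Agent.Helper22.ProjGen.zeroHom (𝒮'.deg U hU)
        (𝒮.deg U hU) (RelProj.gradedHomAt φ hφ U hU)) = 𝒮.strZero U hU := by
    intro U hU
    refine CommRingCat.hom_ext (RingHom.ext fun r => Subtype.ext ?_)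
    show (φ.hom.app (op U)).hom ((𝒮'.str.app (op U)).hom r) = (𝒮.str.app (op U)).hom r
    have := congrArg (fun t => (t.app (op U)).hom r) φ.comm
    exact this
  have hcomp : h ≫ p' = p := by
    refine Scheme.Cover.hom_ext (P.openCoverOfIsOpenCover _
      (.comap (iSup_affineOpens_eq_top Y) p.base.hom)) _ _ fun U => ?_
    change (p ⁻¹ᵁ U.1).ι ≫ h ≫ p' = (p ⁻¹ᵁ U.1).ι ≫ p
    rw [← hP.chart_over U.1 U.2, reassoc_of% (hh U.1 U.2), ← hP'.chart_over U.1 U.2,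
      Iso.inv_hom_id_assoc,
      reassoc_of% (Groth.Agent.Helper22.ProjGen.map_comp_toSpecZero (𝒮'.deg U.1 U.2)
        (𝒮.deg U.1 U.2) (RelProj.gradedHomAt φ hφ U.1 U.2) (hirr U.1 U.2)),
      ← Spec.map_comp_assoc, hcompat U.1 U.2]
  have hsup : ⨆ U : Y.affineOpens, p' ⁻¹ᵁ U.1 = ⊤ :=
    TopologicalSpace.IsOpenCover.comap (iSup_affineOpens_eq_top Y) p'.base.hom
  suffices hiso : (MorphismProperty.isomorphisms Scheme) h from hiso
  rw [IsZariskiLocalAtTarget.iff_of_iSup_eq_top (P := MorphismProperty.isomorphisms Scheme)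
    (fun U : Y.affineOpens => p' ⁻¹ᵁ U.1) hsup]
  intro U
  rw [MorphismProperty.isomorphisms.iff]
  have hpre : h ⁻¹ᵁ (p' ⁻¹ᵁ U.1) = p ⁻¹ᵁ U.1 := by
    rw [← hcomp]
    rfl
  haveI : IsIso (Proj.map (RelProj.gradedHomAt φ hφ U.1 U.2) (hirr U.1 U.2)) :=
    Groth.Agent.Helper22.ProjGen.isIso_map_of_bijOn_ge (𝒮.deg U.1 U.2) (𝒮'.deg U.1 U.2)
      (RelProj.gradedHomAt φ hφ U.1 U.2) 1 (fun n hn => hpos U.1 U.2 n hn) (hirr U.1 U.2)
  have key : (P.isoOfEq hpre).inv ≫ (h ∣_ (p' ⁻¹ᵁ U.1)) =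
      (chart U.1 U.2).hom ≫ Proj.map (RelProj.gradedHomAt φ hφ U.1 U.2) (hirr U.1 U.2) ≫
        (chart' U.1 U.2).inv := by
    rw [← cancel_mono (p' ⁻¹ᵁ U.1).ι]
    simp only [Category.assoc, morphismRestrict_ι]
    rw [Scheme.isoOfEq_inv_ι_assoc]
    exact hh U.1 U.2
  have heq : h ∣_ (p' ⁻¹ᵁ U.1) = (P.isoOfEq hpre).hom ≫ (chart U.1 U.2).hom ≫
      Proj.map (RelProj.gradedHomAt φ hφ U.1 U.2) (hirr U.1 U.2) ≫ (chart' U.1 U.2).inv := by
    rw [← key, Iso.hom_inv_id_assoc]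
  rw [heq]
  infer_instance

end Groth.Agent.S8279
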