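import Groth.Statements.S8306
import Groth.Agent.Lead.AffSurj
-- import your own Groth.Agent.* helpers here

set_option autoImplicit false
universe u
open CategoryTheory CategoryTheory.Limits AlgebraicGeometry Opposite TopologicalSpace
noncomputable section
open EGA2

namespace Groth.Agent.S8306


section
open Groth.Agent.Lead.QCoh Groth.Agent.Lead.AffSurj

set_option backward.isDefEq.respectTransparency false in
theorem main {X S : Scheme.{u}} (f : X ⟶ S) [IsAffineHom f] (F G : X.Modules)
    [F.IsQuasicoherent] [G.IsQuasicoherent] (v : F ⟶ G) [Epi v] :
    Epi ((AMod.dirImg f).map v) := by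
  have h1 : Epi ((SheafOfModules.toSheaf (AMod.ringSheaf (RelSpec.QCAlg.directImage f))).map
      ((AMod.dirImg f).map v)) := by
    refine (TopCat.Sheaf.isLocallySurjective_iff_epi _).mp ?_
    rw [TopCat.Presheaf.isLocallySurjective_iff]
    intro V t x hx
    obtain ⟨V', hV'aff, hxV', hV'V⟩ := Opens.isBasis_iff_nbhd.mp S.isBasis_affineOpens hx
    have hU : IsAffineOpen (f ⁻¹ᵁ V') := hV'aff.preimage f
    obtain ⟨s, hs⟩ := app_surjective_of_isAffineOpen v hU
      (G.presheaf.map (homOfLE (f.preimage_mono hV'V)).op t)
    exact ⟨V', hV'V, ⟨s, hs⟩, hxV'⟩
  exact (SheafOfModules.toSheaf (AMod.ringSheaf (RelSpec.QCAlg.directImage f))).epi_of_epi_map h1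
end

/-- Exactness: in the form it takes for the direct image: let f : X → S be an affine morphism and v : F
→ G an epimorphism between quasi-coherent O_X-modules. Then the direct image f_*(v) : f_*F → f_*G, a
homomorphism of modules over the direct-image algebra f_*O_X, is again an epimorphism. (The
published statement says that the module on X attached to a quasi-coherent f_*O_X-module is an exact
functor of that module; since this functor is inverse to the direct image on quasi-coherent modules
and the direct image is left exact, its exactness amounts to the direct image preserving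
epimorphisms between quasi-coherent modules.) -/
theorem result {X S : Scheme.{u}} (f : X ⟶ S) [IsAffineHom f]
    (F G : X.Modules) (hF : Coh.IsQCoh F) (hG : Coh.IsQCoh G) (v : F ⟶ G) [Epi v] :
    Epi ((AMod.dirImg f).map v) := by
  haveI : F.IsQuasicoherent := hF
  haveI : G.IsQuasicoherent := hG
  exact main f F G v

end Groth.Agent.S8306
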