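import Groth.Statements.S8310
import Groth.Agent.Lib.Helper22.ProjTN

set_option autoImplicit false
universe u
open CategoryTheory AlgebraicGeometry
open scoped HomogeneousIdeal
open EGA2

namespace Groth.Agent.S8310

/-- Let S be a positively graded ring (an ℕ-graded R-algebra), S♮ the graded ring with S♮_n = S_[n] =
⊕_{m ≥ n} S_m (presented as a graded ring S' with an injective algebra homomorphism φ : S' → S[X]
carrying S'_n onto S_[n]·X^n), and T = S♮ ⊗_S S_0 = ⊕_n S_[n]/S_+S_[n] (presented as a graded ring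
with a surjective graded homomorphism π : S' → T whose kernel is the ideal generated by the elements
of S' corresponding to the constants in S_+); let ρ : T → S be the surjective graded homomorphism
sending the class of a ∈ S_[n] (in degree n) to the degree-n component of a, and Proj S → Proj T the
morphism it induces (a closed immersion, ρ being surjective). Then this morphism Proj S → Proj T is
bijective. -/
theorem result {R A B C : Type u} [CommRing R] [CommRing A] [Algebra R A]
    (𝒜 : ℕ → Submodule R A) [GradedAlgebra 𝒜] [CommRing B] [Algebra R B] (ℬ : ℕ → Submodule R B) [GradedAlgebra ℬ]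
    (φ : B →ₐ[R] Polynomial A) (hφ : Function.Injective φ)
    (hdeg : ∀ n : ℕ, Submodule.map φ.toLinearMap (ℬ n) =
      Submodule.map ((Polynomial.monomial n : A →ₗ[A] Polynomial A).restrictScalars R) (⨆ (m : ℕ) (_ : n ≤ m), 𝒜 m))
    [CommRing C] [Algebra R C] (𝒞 : ℕ → Submodule R C) [GradedAlgebra 𝒞]
    (π : ℬ →+*ᵍ 𝒞) (hπ : Function.Surjective π)
    (hker : RingHom.ker π.toRingHom =
      Ideal.span (⇑φ ⁻¹' (⇑(Polynomial.C : A →+* Polynomial A) '' ((HomogeneousIdeal.irrelevant 𝒜).toIdeal : Set A))))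
    (ρ : 𝒞 →+*ᵍ 𝒜) (hρ : ∀ (n : ℕ) (b : B), b ∈ ℬ n → ρ (π b) = GradedRing.proj 𝒜 n ((φ b).coeff n))
    (hirr : HomogeneousIdeal.irrelevant 𝒜 ≤ (HomogeneousIdeal.irrelevant 𝒞).map ρ) :
    Function.Bijective (Proj.map ρ hirr).base := by
  have hsurj : Function.Surjective ρ :=
    Groth.Agent.Helper22.ProjTN.rho_surjective 𝒜 ℬ φ hdeg 𝒞 π ρ hρ
  have key_inj : Function.Injective (ProjectiveSpectrum.comapFun ρ hirr) := by
    intro p₁ p₂ h
    have h1 : p₁.asHomogeneousIdeal.toIdeal.comap ρ = p₂.asHomogeneousIdeal.toIdeal.comap ρ :=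
      congrArg (fun q : ProjectiveSpectrum 𝒞 => q.asHomogeneousIdeal.toIdeal) h
    have h2 : p₁.asHomogeneousIdeal.toIdeal = p₂.asHomogeneousIdeal.toIdeal := by
      rw [← Ideal.map_comap_of_surjective ρ hsurj p₁.asHomogeneousIdeal.toIdeal, h1,
        Ideal.map_comap_of_surjective ρ hsurj]
    exact ProjectiveSpectrum.ext (HomogeneousIdeal.toIdeal_injective h2)
  have key_surj : Function.Surjective (ProjectiveSpectrum.comapFun ρ hirr) := by
    intro q
    have hk : ∀ c : C, ρ c = 0 → c ∈ q.asHomogeneousIdeal.toIdeal := fun c hc =>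
      nilradical_le_prime q.asHomogeneousIdeal.toIdeal
        (mem_nilradical.mpr (Groth.Agent.Helper22.ProjTN.isNilpotent_of_rho_eq_zero
          𝒜 ℬ φ hφ hdeg 𝒞 π hπ hker ρ hρ c hc))
    have hkerle : RingHom.ker ρ ≤ q.asHomogeneousIdeal.toIdeal := fun c hc =>
      hk c (RingHom.mem_ker.mp hc)
    have hcm : (q.asHomogeneousIdeal.toIdeal.map ρ).comap ρ = q.asHomogeneousIdeal.toIdeal := by
      rw [Ideal.comap_map_of_surjective ρ hsurj]
      refine sup_eq_left.mpr fun c hc => hk c ?_
      rw [Ideal.mem_comap, Ideal.mem_bot] at hc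
      exact hc
    have hprime : (q.asHomogeneousIdeal.map ρ).toIdeal.IsPrime := by
      show (q.asHomogeneousIdeal.toIdeal.map ρ).IsPrime
      exact Ideal.map_isPrime_of_surjective hsurj hkerle
    have hnot : ¬ HomogeneousIdeal.irrelevant 𝒜 ≤ q.asHomogeneousIdeal.map ρ := by
      intro hle
      apply q.not_irrelevant_le
      intro c hc
      have hc0 : (DirectSum.decompose 𝒞 c 0 : C) = 0 := by
        have := (HomogeneousIdeal.mem_irrelevant_iff 𝒞 c).mp hc
        rwa [GradedRing.proj_apply] at this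
      have h1 : ρ c ∈ HomogeneousIdeal.irrelevant 𝒜 := by
        rw [HomogeneousIdeal.mem_irrelevant_iff, GradedRing.proj_apply,
          ← GradedRingHom.map_directSumDecompose, hc0, map_zero]
      have h2 : ρ c ∈ q.asHomogeneousIdeal.toIdeal.map ρ := hle h1
      have h3 : c ∈ (q.asHomogeneousIdeal.toIdeal.map ρ).comap ρ := h2
      rw [hcm] at h3
      exact h3
    refine ⟨⟨q.asHomogeneousIdeal.map ρ, hprime, hnot⟩, ?_⟩
    exact ProjectiveSpectrum.ext (HomogeneousIdeal.toIdeal_injective
      (show ((q.asHomogeneousIdeal.map ρ).comap ρ).toIdeal = q.asHomogeneousIdeal.toIdeal from hcm))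
  exact ⟨key_inj, key_surj⟩

end Groth.Agent.S8310
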