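import Groth.Statements.S8324


set_option autoImplicit false
universe u
open CategoryTheory CategoryTheory.Limits AlgebraicGeometry Opposite TopologicalSpace
open scoped HomogeneousIdeal
noncomputable section
open EGA2

namespace Groth.Agent.S8324

theorem exists_hom_not_mem' {A σ : Type u} [CommRing A] [SetLike σ A] [AddSubgroupClass σ A]
    (𝒜 : ℕ → σ) [GradedRing 𝒜] (x : ProjectiveSpectrum 𝒜) :
    ∃ (d : ℕ) (g : A), 0 < d ∧ g ∈ 𝒜 d ∧ g ∉ x.asHomogeneousIdeal := by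
  classical
  obtain ⟨f, hf, hfy⟩ := SetLike.not_le_iff_exists.mp x.not_irrelevant_le
  by_contra hcon
  apply hfy
  have hf' : f ∈ HomogeneousIdeal.irrelevant 𝒜 := hf
  rw [HomogeneousIdeal.mem_irrelevant_iff, GradedRing.proj_apply] at hf'
  have hsum : f = ∑ i ∈ (DirectSum.decompose 𝒜 f).support, (DirectSum.decompose 𝒜 f i : A) :=
    (DirectSum.sum_support_decompose 𝒜 f).symm
  rw [hsum]
  show (∑ i ∈ (DirectSum.decompose 𝒜 f).support, (DirectSum.decompose 𝒜 f i : A)) ∈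
    x.asHomogeneousIdeal.toIdeal
  refine Ideal.sum_mem _ fun i _ => ?_
  rcases Nat.eq_zero_or_pos i with hi | hi
  · subst hi
    rw [hf']
    exact zero_mem _
  · by_contra h
    exact hcon ⟨i, _, hi, SetLike.coe_mem _, h⟩

theorem tildeAt_zero {A σ : Type u} [CommRing A] [SetLike σ A] [AddSubgroupClass σ A]
    (𝒜 : ℕ → σ) [GradedRing 𝒜]
    {M τ : Type u} [AddCommGroup M] [Module A M] [SetLike τ M] [AddSubgroupClass τ M] (ℳ : ℕ → τ)
    [SetLike.GradedSMul 𝒜 ℳ]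
    (N : ℕ) (hN : ∀ k, N ≤ k → ∀ m ∈ ℳ k, m = 0) (n : ℤ) (x : ProjectiveSpectrum 𝒜)
    (z : GrMod.LocMod 𝒜 (M := M) x) (hz : z ∈ GrMod.tildeAt 𝒜 ℳ n x) : z = 0 := by
  obtain ⟨d, g, hd, hg, hgx⟩ := exists_hom_not_mem' 𝒜 x
  have hle : GrMod.tildeAt 𝒜 ℳ n x ≤ ⊥ := by
    refine Submodule.span_le.mpr ?_
    rintro q ⟨i, j, m, s, hs, -, rfl⟩
    rw [SetLike.mem_coe, Submodule.mem_bot]
    rw [← LocalizedModule.zero_mk (⟨(s : A), hs⟩ : x.asHomogeneousIdeal.toIdeal.primeCompl),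
      LocalizedModule.mk_eq]
    have hgN : g ^ N ∈ x.asHomogeneousIdeal.toIdeal.primeCompl :=
      fun h => hgx (x.isPrime.mem_of_pow_mem N h)
    refine ⟨⟨g ^ N, hgN⟩, ?_⟩
    rw [smul_zero, smul_zero]
    change (g ^ N : A) • ((s : A) • (m : M)) = 0
    refine hN _ ?_ _ (SetLike.GradedSMul.smul_mem (SetLike.pow_mem_graded N hg)
      (SetLike.GradedSMul.smul_mem s.2 m.2))
    have h1 : N ≤ N * d := Nat.le_mul_of_pos_right N hd
    simp only [smul_eq_mul, vadd_eq_add]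
    omega
  exact (Submodule.mem_bot _).mp (hle hz)

theorem tilde_sections_zero {A σ : Type u} [CommRing A] [SetLike σ A] [AddSubgroupClass σ A]
    (𝒜 : ℕ → σ) [GradedRing 𝒜]
    {M τ : Type u} [AddCommGroup M] [Module A M] [SetLike τ M] [AddSubgroupClass τ M] (ℳ : ℕ → τ)
    [SetLike.GradedSMul 𝒜 ℳ]
    (N : ℕ) (hN : ∀ k, N ≤ k → ∀ m ∈ ℳ k, m = 0) (n : ℤ) (V : (Proj 𝒜).Opens)
    (t : Γ(GrMod.tilde 𝒜 ℳ n, V)) : t = 0 := by
  refine Subtype.ext (funext fun y => Subtype.ext ?_)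
  have h1 := tildeAt_zero 𝒜 ℳ N hN n y.1 _ (((t : GrMod.sect 𝒜 ℳ n (op V)).1 y).2)
  exact h1

/-- If the quasi-coherent graded 𝒮-module ℳ satisfies (TN) — its pieces of all large degrees vanish —
then the module (ℳ(n))~ on P = Proj(𝒮) (given through its chartwise identifications) is zero, for
every integer n. -/
theorem result {Y P : Scheme.{u}} (𝒮 : RelProj.QCGrAlg Y) (p : P ⟶ Y)
    (chart : ∀ (U : Y.Opens) (hU : IsAffineOpen U), (((p ⁻¹ᵁ U : P.Opens) : Scheme.{u}) ≅ Proj (𝒮.deg U hU)))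
    (hP : RelProj.IsRelProj 𝒮 p chart) (ℳ : RelProj.GrModule 𝒮)
    (hℳ : Coh.IsQCoh ((AMod.toOS 𝒮.toQCAlg).obj ℳ.mod)) (hTN : ℳ.IsTN) (n : ℤ) (F : P.Modules)
    (lam : ∀ (U : Y.Opens) (hU : IsAffineOpen U),
      F ⟶ (Scheme.Modules.pushforward (RelProj.emb p chart U hU)).obj (GrMod.tilde (𝒮.deg U hU) (ℳ.deg U hU) n))
    (hF : RelProj.IsRelTilde 𝒮 p chart ℳ n F lam) : IsZero F := by
  obtain ⟨N, hN⟩ := hTN
  have stepA : ∀ (U : Y.Opens) (hU : IsAffineOpen U) (W : P.Opens), W ≤ p ⁻¹ᵁ U →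
      ∀ s : Γ(F, W), s = 0 := by
    intro U hU W hW s
    apply (hF.bijective U hU W hW).1
    have h0 : ∀ t : Γ(GrMod.tilde (𝒮.deg U hU) (ℳ.deg U hU) n, RelProj.emb p chart U hU ⁻¹ᵁ W), t = 0 :=
      tilde_sections_zero (𝒮.deg U hU) (ℳ.deg U hU) N (fun k hk m hm => hN U hU k hk m hm) n _
    exact (h0 _).trans (h0 _).symm
  have hsec : ∀ (W : P.Opens) (s : Γ(F, W)), s = 0 := by
    intro W s
    refine TopCat.Sheaf.eq_of_locally_eq' ((SheafOfModules.toSheaf _).obj F)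
      (fun V : Y.affineOpens => W ⊓ p ⁻¹ᵁ V.1) W (fun V => homOfLE inf_le_left) ?_ s 0 ?_
    · intro y hy
      obtain ⟨_, ⟨U, hU, rfl⟩, hyU, -⟩ := Y.isBasis_affineOpens.exists_subset_of_mem_open
        (Set.mem_univ (p.base y)) isOpen_univ
      exact Opens.mem_iSup.mpr ⟨⟨U, hU⟩, hy, hyU⟩
    · intro V
      exact (stepA V.1 V.2 _ inf_le_right _).trans (stepA V.1 V.2 _ inf_le_right _).symm
  rw [Limits.IsZero.iff_id_eq_zero]
  apply Scheme.Modules.hom_ext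
  intro W
  ext s
  rw [hsec W s, map_zero, map_zero]

end Groth.Agent.S8324
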