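import Groth.Statements.S8331
import Groth.Agent.S8324

set_option autoImplicit false
universe u
open CategoryTheory CategoryTheory.Limits AlgebraicGeometry Opposite TopologicalSpace
open scoped HomogeneousIdeal
noncomputable section
open EGA2

namespace Groth.Agent.S8331

theorem decompose_map {A : Type u} [CommRing A]
    {M τ : Type u} [AddCommGroup M] [Module A M] [SetLike τ M] [AddSubgroupClass τ M] (ℳ : ℕ → τ)
    [DirectSum.Decomposition ℳ]
    {N τ' : Type u} [AddCommGroup N] [Module A N] [SetLike τ' N] [AddSubgroupClass τ' N] (𝒩 : ℕ → τ')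
    [DirectSum.Decomposition 𝒩]
    (u : M →ₗ[A] N) (hu : ∀ (i : ℕ) (m : M), m ∈ ℳ i → u m ∈ 𝒩 i) (w : M) :
    ∀ k : ℕ, (DirectSum.decompose 𝒩 (u w) k : N) = u (DirectSum.decompose ℳ w k : M) := by
  classical
  refine DirectSum.Decomposition.inductionOn ℳ ?_ ?_ ?_ w
  · intro k
    simp
  · intro i m k
    by_cases hik : i = k
    · subst hik
      rw [DirectSum.decompose_of_mem_same 𝒩 (hu i m m.2), DirectSum.decompose_of_mem_same ℳ m.2]
    · rw [DirectSum.decompose_of_mem_ne 𝒩 (hu i m m.2) hik, DirectSum.decompose_of_mem_ne ℳ m.2 hik,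
        map_zero]
  · intro m m' h h' k
    simp only [map_add, DirectSum.decompose_add, DirectSum.add_apply, AddMemClass.coe_add, h k, h' k]

theorem locMap_injective {A σ : Type u} [CommRing A] [SetLike σ A] [AddSubgroupClass σ A]
    (𝒜 : ℕ → σ) [GradedRing 𝒜]
    {M τ : Type u} [AddCommGroup M] [Module A M] [SetLike τ M] [AddSubgroupClass τ M] (ℳ : ℕ → τ)
    [SetLike.GradedSMul 𝒜 ℳ] [DirectSum.Decomposition ℳ]
    {N τ' : Type u} [AddCommGroup N] [Module A N] [SetLike τ' N] [AddSubgroupClass τ' N] (𝒩 : ℕ → τ')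
    [DirectSum.Decomposition 𝒩]
    (u : M →ₗ[A] N) (hu : ∀ (i : ℕ) (m : M), m ∈ ℳ i → u m ∈ 𝒩 i)
    (n₀ : ℕ) (hinj : ∀ k, n₀ ≤ k → ∀ m ∈ ℳ k, u m = 0 → m = 0)
    (x : ProjectiveSpectrum 𝒜) (z : GrMod.LocMod 𝒜 (M := M) x)
    (hz : GrMod.locMap u x z = 0) : z = 0 := by
  classical
  obtain ⟨d, g, hd, hg, hgx⟩ := Groth.Agent.S8324.exists_hom_not_mem' 𝒜 x
  have key : ∀ w : M, u w = 0 → (g ^ n₀ : A) • w = 0 := by
    intro w hw
    have hcomp : ∀ k, u (DirectSum.decompose ℳ w k : M) = 0 := by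
      intro k
      rw [← decompose_map ℳ 𝒩 u hu w k, hw, DirectSum.decompose_zero, DirectSum.zero_apply,
        ZeroMemClass.coe_zero]
    rw [← DirectSum.sum_support_decompose ℳ w, Finset.smul_sum]
    refine Finset.sum_eq_zero fun k _ => ?_
    refine hinj _ ?_ _ (SetLike.GradedSMul.smul_mem (SetLike.pow_mem_graded n₀ hg)
      (SetLike.coe_mem _)) ?_
    · have h1 : n₀ ≤ n₀ * d := Nat.le_mul_of_pos_right n₀ hd
      simp only [smul_eq_mul, vadd_eq_add]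
      omega
    · rw [map_smul, hcomp k, smul_zero]
  have hgN : g ^ n₀ ∈ x.asHomogeneousIdeal.toIdeal.primeCompl :=
    fun h => hgx (x.isPrime.mem_of_pow_mem n₀ h)
  revert hz
  refine LocalizedModule.induction_on (fun m s => ?_) z
  intro hz
  rw [GrMod.locMap_mk, ← LocalizedModule.zero_mk s, LocalizedModule.mk_eq] at hz
  obtain ⟨t, ht⟩ := hz
  rw [smul_zero, smul_zero] at ht
  have hw : u ((t : A) • (s : A) • m) = 0 := by
    rw [map_smul, map_smul]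
    exact ht
  have hkill := key _ hw
  rw [← LocalizedModule.zero_mk s, LocalizedModule.mk_eq]
  refine ⟨⟨g ^ n₀, hgN⟩ * t, ?_⟩
  rw [smul_zero, smul_zero]
  change ((g ^ n₀ : A) * (t : A)) • ((s : A) • m) = 0
  rw [mul_smul]
  exact hkill

theorem map_app_injective {A σ : Type u} [CommRing A] [SetLike σ A] [AddSubgroupClass σ A]
    (𝒜 : ℕ → σ) [GradedRing 𝒜]
    {M τ : Type u} [AddCommGroup M] [Module A M] [SetLike τ M] [AddSubgroupClass τ M] (ℳ : ℕ → τ)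
    [SetLike.GradedSMul 𝒜 ℳ] [DirectSum.Decomposition ℳ]
    {N τ' : Type u} [AddCommGroup N] [Module A N] [SetLike τ' N] [AddSubgroupClass τ' N] (𝒩 : ℕ → τ')
    [SetLike.GradedSMul 𝒜 𝒩] [DirectSum.Decomposition 𝒩]
    (u : M →ₗ[A] N) (hu : ∀ (i : ℕ) (m : M), m ∈ ℳ i → u m ∈ 𝒩 i) (n : ℤ)
    (n₀ : ℕ) (hinj : ∀ k, n₀ ≤ k → ∀ m ∈ ℳ k, u m = 0 → m = 0)
    (V : (Proj 𝒜).Opens) (t : Γ(GrMod.tilde 𝒜 ℳ n, V))
    (ht : (GrMod.map 𝒜 u hu n).app V t = 0) : t = 0 := by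
  refine Subtype.ext (funext fun y => Subtype.ext ?_)
  have h2 : GrMod.val ((GrMod.map 𝒜 u hu n).app V t) y = 0 := by
    rw [ht]
    rfl
  exact locMap_injective 𝒜 ℳ 𝒩 u hu n₀ hinj y.1 _ ((GrMod.map_app_val u hu n V t y).symm.trans h2)

/-- A (TN)-injective degree-preserving homomorphism u : ℳ → 𝒩 of quasi-coherent graded 𝒮-modules
(injective in all large degrees, one bound for the whole base) induces a monomorphism ũ : (ℳ(n))~ →
(𝒩(n))~ of modules on P = Proj(𝒮) (ũ pinned through the chartwise identifications). -/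
theorem result {Y P : Scheme.{u}} (𝒮 : RelProj.QCGrAlg Y) (p : P ⟶ Y)
    (chart : ∀ (U : Y.Opens) (hU : IsAffineOpen U), (((p ⁻¹ᵁ U : P.Opens) : Scheme.{u}) ≅ Proj (𝒮.deg U hU)))
    (hP : RelProj.IsRelProj 𝒮 p chart) (ℳ 𝒩 : RelProj.GrModule 𝒮)
    (hℳ : Coh.IsQCoh ((AMod.toOS 𝒮.toQCAlg).obj ℳ.mod)) (h𝒩 : Coh.IsQCoh ((AMod.toOS 𝒮.toQCAlg).obj 𝒩.mod))
    (u : ℳ.mod ⟶ 𝒩.mod) (hu : RelProj.IsGrModHom u)
    (hinj : ∃ n₀ : ℕ, ∀ (U : Y.Opens) (hU : IsAffineOpen U) (k : ℕ), n₀ ≤ k →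
      ∀ m ∈ ℳ.deg U hU k, (u.val.app (op U)).hom m = 0 → m = 0)
    (n : ℤ) (F : P.Modules)
    (lam : ∀ (U : Y.Opens) (hU : IsAffineOpen U),
      F ⟶ (Scheme.Modules.pushforward (RelProj.emb p chart U hU)).obj (GrMod.tilde (𝒮.deg U hU) (ℳ.deg U hU) n))
    (hF : RelProj.IsRelTilde 𝒮 p chart ℳ n F lam) (G : P.Modules)
    (lam' : ∀ (U : Y.Opens) (hU : IsAffineOpen U),
      G ⟶ (Scheme.Modules.pushforward (RelProj.emb p chart U hU)).obj (GrMod.tilde (𝒮.deg U hU) (𝒩.deg U hU) n))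
    (hG : RelProj.IsRelTilde 𝒮 p chart 𝒩 n G lam') (ut : F ⟶ G)
    (hut : ∀ (U : Y.Opens) (hU : IsAffineOpen U),
      ut ≫ lam' U hU =
        lam U hU ≫ (Scheme.Modules.pushforward (RelProj.emb p chart U hU)).map
          (GrMod.map (𝒮.deg U hU)
            (show ℳ.mod.val.obj (op U) →ₗ[𝒮.presheaf.obj (op U)] 𝒩.mod.val.obj (op U) from (u.val.app (op U)).hom)
            (hu U hU) n)) : Mono ut := by
  obtain ⟨n₀, hinj⟩ := hinj
  have stepA : ∀ (U : Y.Opens) (hU : IsAffineOpen U) (W : P.Opens), W ≤ p ⁻¹ᵁ U →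
      ∀ s : Γ(F, W), ut.app W s = 0 → s = 0 := by
    intro U hU W hW s hs
    apply (hF.bijective U hU W hW).1
    have h1 : (lam' U hU).app W (ut.app W s) =
        (GrMod.map (𝒮.deg U hU)
          (show ℳ.mod.val.obj (op U) →ₗ[𝒮.presheaf.obj (op U)] 𝒩.mod.val.obj (op U) from
            (u.val.app (op U)).hom) (hu U hU) n).app (RelProj.emb p chart U hU ⁻¹ᵁ W)
          ((lam U hU).app W s) :=
      congrArg (fun φ => (Scheme.Modules.Hom.app φ W) s) (hut U hU)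
    rw [hs, map_zero] at h1
    have h2 := map_app_injective (𝒮.deg U hU) (ℳ.deg U hU) (𝒩.deg U hU)
      (show ℳ.mod.val.obj (op U) →ₗ[𝒮.presheaf.obj (op U)] 𝒩.mod.val.obj (op U) from
        (u.val.app (op U)).hom) (hu U hU) n n₀
      (fun k hk m hm h => hinj U hU k hk m hm h) _ _ h1.symm
    exact h2.trans (map_zero _).symm
  have hinjW : ∀ (W : P.Opens) (s : Γ(F, W)), ut.app W s = 0 → s = 0 := by
    intro W s hs
    refine TopCat.Sheaf.eq_of_locally_eq' ((SheafOfModules.toSheaf _).obj F)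
      (fun V : Y.affineOpens => W ⊓ p ⁻¹ᵁ V.1) W (fun V => homOfLE inf_le_left) ?_ s 0 ?_
    · intro y hy
      obtain ⟨_, ⟨U, hU, rfl⟩, hyU, -⟩ := Y.isBasis_affineOpens.exists_subset_of_mem_open
        (Set.mem_univ (p.base y)) isOpen_univ
      exact Opens.mem_iSup.mpr ⟨⟨U, hU⟩, hy, hyU⟩
    · intro V
      have hnat : ut.app (W ⊓ p ⁻¹ᵁ V.1)
            (F.presheaf.map (homOfLE (inf_le_left : W ⊓ p ⁻¹ᵁ V.1 ≤ W)).op s) =
          G.presheaf.map (homOfLE (inf_le_left : W ⊓ p ⁻¹ᵁ V.1 ≤ W)).op (ut.app W s) :=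
        ConcreteCategory.congr_hom
          (ut.mapPresheaf.naturality (homOfLE (inf_le_left : W ⊓ p ⁻¹ᵁ V.1 ≤ W)).op) s
      rw [hs, map_zero] at hnat
      exact (stepA V.1 V.2 _ inf_le_right _ hnat).trans (map_zero _).symm
  constructor
  intro Z g h hgh
  apply Scheme.Modules.hom_ext
  intro W
  ext s
  have h1 : ut.app W (g.app W s) = ut.app W (h.app W s) :=
    congrArg (fun φ => (Scheme.Modules.Hom.app φ W) s) hgh
  have h2 : ut.app W (g.app W s - h.app W s) = 0 := by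
    rw [map_sub, h1, sub_self]
  exact sub_eq_zero.mp (hinjW W _ h2)

end Groth.Agent.S8331
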