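import Groth.Statements.S8332
import Groth.Agent.S8324

set_option autoImplicit false
universe u
open CategoryTheory CategoryTheory.Limits AlgebraicGeometry Opposite TopologicalSpace
open scoped HomogeneousIdeal
noncomputable section
open EGA2

namespace Groth.Agent.S8332

theorem map_map {X : Scheme.{u}} (Q : X.Modules) {W W' W'' : X.Opens} (h1 : W' ≤ W) (h2 : W'' ≤ W')
    (t : Γ(Q, W)) :
    Q.presheaf.map (homOfLE h2).op (Q.presheaf.map (homOfLE h1).op t) =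
      Q.presheaf.map (homOfLE (h2.trans h1)).op t :=
  (ConcreteCategory.congr_hom (Q.presheaf.map_comp (homOfLE h1).op (homOfLE h2).op) t).symm

theorem exists_local_preimage {A σ : Type u} [CommRing A] [SetLike σ A] [AddSubgroupClass σ A]
    (𝒜 : ℕ → σ) [GradedRing 𝒜]
    {M τ : Type u} [AddCommGroup M] [Module A M] [SetLike τ M] [AddSubgroupClass τ M] (ℳ : ℕ → τ)
    [SetLike.GradedSMul 𝒜 ℳ]
    {N τ' : Type u} [AddCommGroup N] [Module A N] [SetLike τ' N] [AddSubgroupClass τ' N] (𝒩 : ℕ → τ')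
    [SetLike.GradedSMul 𝒜 𝒩]
    (u : M →ₗ[A] N) (hu : ∀ (i : ℕ) (m : M), m ∈ ℳ i → u m ∈ 𝒩 i) (n : ℤ)
    (n₀ : ℕ) (hsurj : ∀ k, n₀ ≤ k → ∀ m' ∈ 𝒩 k, ∃ m ∈ ℳ k, u m = m')
    (V : (Proj 𝒜).Opens) (t : Γ(GrMod.tilde 𝒜 𝒩 n, V)) (y : V) :
    ∃ (V' : (Proj 𝒜).Opens) (hV' : V' ≤ V), y.1 ∈ V' ∧ ∃ s : Γ(GrMod.tilde 𝒜 ℳ n, V'),
      (GrMod.map 𝒜 u hu n).app V' s = (GrMod.tilde 𝒜 𝒩 n).presheaf.map (homOfLE hV').op t := by
  classical
  obtain ⟨V1, mV1, iV, i, j, m', s, nin, c, w⟩ := (t : GrMod.sect 𝒜 𝒩 n (op V)).2 y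
  obtain ⟨d, g, hd, hg, hgy⟩ := Groth.Agent.S8324.exists_hom_not_mem' 𝒜 y.1
  have hV1 : V1 ≤ V := leOfHom iV
  have hVle : (V1 : (Proj 𝒜).Opens) ⊓ Proj.basicOpen 𝒜 g ≤ V := inf_le_left.trans hV1
  have hymem : y.1 ∈ (V1 : (Proj 𝒜).Opens) ⊓ Proj.basicOpen 𝒜 g :=
    ⟨mV1, (ProjectiveSpectrum.mem_basicOpen 𝒜 g y.1).mpr hgy⟩
  have hgx : ∀ x : ((V1 : (Proj 𝒜).Opens) ⊓ Proj.basicOpen 𝒜 g : (Proj 𝒜).Opens),
      g ∉ x.1.asHomogeneousIdeal :=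
    fun x => (ProjectiveSpectrum.mem_basicOpen 𝒜 g x.1).mp x.2.2
  rcases c with hij | hm0
  · obtain ⟨m, hm, hum⟩ := hsurj (n₀ * d + i)
      (Nat.le_trans (Nat.le_mul_of_pos_right n₀ hd) (Nat.le_add_right _ _)) (g ^ n₀ • (m' : N))
      (SetLike.GradedSMul.smul_mem (SetLike.pow_mem_graded n₀ hg) m'.2 :
        g ^ n₀ • (m' : N) ∈ 𝒩 (n₀ * d + i))
    have hs' : g ^ n₀ * (s : A) ∈ 𝒜 (n₀ * d + j) :=
      SetLike.mul_mem_graded (SetLike.pow_mem_graded n₀ hg) s.2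
    have nin' : ∀ x : ((V1 : (Proj 𝒜).Opens) ⊓ Proj.basicOpen 𝒜 g : (Proj 𝒜).Opens),
        g ^ n₀ * (s : A) ∉ x.1.asHomogeneousIdeal := by
      intro x h
      rcases x.1.isPrime.mem_or_mem h with h1 | h1
      · exact hgx x (x.1.isPrime.mem_of_pow_mem n₀ h1)
      · exact nin ⟨x.1, x.2.1⟩ h1
    have hdeg : ((n₀ * d + i : ℕ) : ℤ) = ((n₀ * d + j : ℕ) : ℤ) + n := by
      rw [Nat.cast_add, Nat.cast_add, hij]
      ring
    refine ⟨_, hVle, hymem,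
      (⟨fun x => ⟨LocalizedModule.mk (m : M) ⟨g ^ n₀ * (s : A), nin' x⟩,
          Submodule.subset_span ⟨n₀ * d + i, n₀ * d + j, ⟨m, hm⟩, ⟨g ^ n₀ * (s : A), hs'⟩,
            nin' x, hdeg, rfl⟩⟩,
        fun x => ⟨_, x.2, 𝟙 _, n₀ * d + i, n₀ * d + j, ⟨m, hm⟩, ⟨g ^ n₀ * (s : A), hs'⟩, nin',
          Or.inl hdeg, fun _ => rfl⟩⟩ :
        GrMod.sect 𝒜 ℳ n (op ((V1 : (Proj 𝒜).Opens) ⊓ Proj.basicOpen 𝒜 g))), ?_⟩
    refine Subtype.ext (funext fun x => Subtype.ext ?_)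
    have hw := w ⟨x.1, x.2.1⟩
    refine Eq.trans (GrMod.locMap_mk u x.1 (m : M) ⟨g ^ n₀ * (s : A), nin' x⟩)
      (Eq.trans ?_ hw.symm)
    rw [hum, LocalizedModule.mk_eq]
    refine ⟨1, ?_⟩
    rw [one_smul, one_smul]
    change (s : A) • (g ^ n₀ • (m' : N)) = (g ^ n₀ * (s : A)) • (m' : N)
    rw [smul_smul, mul_comm]
  · refine ⟨_, hVle, hymem, 0, ?_⟩
    rw [map_zero]
    refine Subtype.ext (funext fun x => Subtype.ext ?_)
    have hw := w ⟨x.1, x.2.1⟩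
    rw [hm0, LocalizedModule.zero_mk] at hw
    exact hw.symm

/-- A (TN)-surjective degree-preserving homomorphism u : ℳ → 𝒩 of quasi-coherent graded 𝒮-modules
(surjective on the pieces of all large degrees, one bound for the whole base) induces an epimorphism
ũ : (ℳ(n))~ → (𝒩(n))~ of modules on P = Proj(𝒮) (ũ pinned through the chartwise identifications). -/
theorem result {Y P : Scheme.{u}} (𝒮 : RelProj.QCGrAlg Y) (p : P ⟶ Y)
    (chart : ∀ (U : Y.Opens) (hU : IsAffineOpen U), (((p ⁻¹ᵁ U : P.Opens) : Scheme.{u}) ≅ Proj (𝒮.deg U hU)))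
    (hP : RelProj.IsRelProj 𝒮 p chart) (ℳ 𝒩 : RelProj.GrModule 𝒮)
    (hℳ : Coh.IsQCoh ((AMod.toOS 𝒮.toQCAlg).obj ℳ.mod)) (h𝒩 : Coh.IsQCoh ((AMod.toOS 𝒮.toQCAlg).obj 𝒩.mod))
    (u : ℳ.mod ⟶ 𝒩.mod) (hu : RelProj.IsGrModHom u)
    (hsurj : ∃ n₀ : ℕ, ∀ (U : Y.Opens) (hU : IsAffineOpen U) (k : ℕ), n₀ ≤ k →
      ∀ m' ∈ 𝒩.deg U hU k, ∃ m ∈ ℳ.deg U hU k, (u.val.app (op U)).hom m = m')
    (n : ℤ) (F : P.Modules)
    (lam : ∀ (U : Y.Opens) (hU : IsAffineOpen U),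
      F ⟶ (Scheme.Modules.pushforward (RelProj.emb p chart U hU)).obj (GrMod.tilde (𝒮.deg U hU) (ℳ.deg U hU) n))
    (hF : RelProj.IsRelTilde 𝒮 p chart ℳ n F lam) (G : P.Modules)
    (lam' : ∀ (U : Y.Opens) (hU : IsAffineOpen U),
      G ⟶ (Scheme.Modules.pushforward (RelProj.emb p chart U hU)).obj (GrMod.tilde (𝒮.deg U hU) (𝒩.deg U hU) n))
    (hG : RelProj.IsRelTilde 𝒮 p chart 𝒩 n G lam') (ut : F ⟶ G)
    (hut : ∀ (U : Y.Opens) (hU : IsAffineOpen U),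
      ut ≫ lam' U hU =
        lam U hU ≫ (Scheme.Modules.pushforward (RelProj.emb p chart U hU)).map
          (GrMod.map (𝒮.deg U hU)
            (show ℳ.mod.val.obj (op U) →ₗ[𝒮.presheaf.obj (op U)] 𝒩.mod.val.obj (op U) from (u.val.app (op U)).hom)
            (hu U hU) n)) : Epi ut := by
  obtain ⟨n₀, hsurj⟩ := hsurj
  have hloc : ∀ (W : P.Opens) (t : Γ(G, W)) (y : P), y ∈ W →
      ∃ (W' : P.Opens) (hW' : W' ≤ W), y ∈ W' ∧ ∃ s : Γ(F, W'),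
        ut.app W' s = G.presheaf.map (homOfLE hW').op t := by
    intro W t y hy
    obtain ⟨_, ⟨U, hU, rfl⟩, hyU, -⟩ := Y.isBasis_affineOpens.exists_subset_of_mem_open
      (Set.mem_univ (p.base y)) isOpen_univ
    have e1 : (chart U hU).hom ≫ RelProj.emb p chart U hU = (p ⁻¹ᵁ U).ι := by
      rw [RelProj.emb, Iso.hom_inv_id_assoc]
    obtain ⟨yq, hyq⟩ : ∃ yq : Proj (𝒮.deg U hU), (RelProj.emb p chart U hU).base yq = y :=
      ⟨(chart U hU).hom.base ⟨y, hyU⟩, congrArg (fun f => f.base ⟨y, hyU⟩) e1⟩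
    have hyq_mem : yq ∈ RelProj.emb p chart U hU ⁻¹ᵁ (W ⊓ p ⁻¹ᵁ U) := by
      show (RelProj.emb p chart U hU).base yq ∈ W ⊓ p ⁻¹ᵁ U
      rw [hyq]
      exact ⟨hy, hyU⟩
    obtain ⟨V', hV', hyV', s', hs'⟩ := exists_local_preimage (𝒮.deg U hU) (ℳ.deg U hU)
      (𝒩.deg U hU)
      (show ℳ.mod.val.obj (op U) →ₗ[𝒮.presheaf.obj (op U)] 𝒩.mod.val.obj (op U) from
        (u.val.app (op U)).hom) (hu U hU) n n₀
      (fun k hk m' hm' => hsurj U hU k hk m' hm')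
      (RelProj.emb p chart U hU ⁻¹ᵁ (W ⊓ p ⁻¹ᵁ U))
      ((lam' U hU).app (W ⊓ p ⁻¹ᵁ U)
        (G.presheaf.map (homOfLE (inf_le_left : W ⊓ p ⁻¹ᵁ U ≤ W)).op t)) ⟨yq, hyq_mem⟩
    have hW'1 : RelProj.emb p chart U hU ''ᵁ V' ≤ W ⊓ p ⁻¹ᵁ U := by
      rintro _ ⟨v, hv, rfl⟩
      exact hV' hv
    have hle : RelProj.emb p chart U hU ⁻¹ᵁ (RelProj.emb p chart U hU ''ᵁ V') ≤ V' := by
      rintro v ⟨v', hv', e⟩
      have := (RelProj.emb p chart U hU).isOpenEmbedding.injective e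
      exact this ▸ hv'
    have hW'U : RelProj.emb p chart U hU ''ᵁ V' ≤ p ⁻¹ᵁ U := hW'1.trans inf_le_right
    obtain ⟨s, hs⟩ := (hF.bijective U hU _ hW'U).2
      ((GrMod.tilde (𝒮.deg U hU) (ℳ.deg U hU) n).presheaf.map (homOfLE hle).op s')
    refine ⟨RelProj.emb p chart U hU ''ᵁ V', hW'1.trans inf_le_left, ⟨yq, hyV', hyq⟩, s, ?_⟩
    apply (hG.bijective U hU _ hW'U).1
    have h1 : (lam' U hU).app (RelProj.emb p chart U hU ''ᵁ V')
          (ut.app (RelProj.emb p chart U hU ''ᵁ V') s) =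
        (GrMod.map (𝒮.deg U hU)
          (show ℳ.mod.val.obj (op U) →ₗ[𝒮.presheaf.obj (op U)] 𝒩.mod.val.obj (op U) from
            (u.val.app (op U)).hom) (hu U hU) n).app
          (RelProj.emb p chart U hU ⁻¹ᵁ (RelProj.emb p chart U hU ''ᵁ V'))
          ((lam U hU).app (RelProj.emb p chart U hU ''ᵁ V') s) :=
      congrArg (fun φ => (Scheme.Modules.Hom.app φ (RelProj.emb p chart U hU ''ᵁ V')) s) (hut U hU)
    rw [hs] at h1
    have h2 : (lam' U hU).app (RelProj.emb p chart U hU ''ᵁ V')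
          (G.presheaf.map (homOfLE hW'1).op
            (G.presheaf.map (homOfLE (inf_le_left : W ⊓ p ⁻¹ᵁ U ≤ W)).op t)) =
        ((Scheme.Modules.pushforward (RelProj.emb p chart U hU)).obj
          (GrMod.tilde (𝒮.deg U hU) (𝒩.deg U hU) n)).presheaf.map (homOfLE hW'1).op
          ((lam' U hU).app (W ⊓ p ⁻¹ᵁ U)
            (G.presheaf.map (homOfLE (inf_le_left : W ⊓ p ⁻¹ᵁ U ≤ W)).op t)) :=
      ConcreteCategory.congr_hom ((lam' U hU).mapPresheaf.naturality (homOfLE hW'1).op) _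
    have h3 : (lam' U hU).app (RelProj.emb p chart U hU ''ᵁ V')
          (G.presheaf.map (homOfLE hW'1).op
            (G.presheaf.map (homOfLE (inf_le_left : W ⊓ p ⁻¹ᵁ U ≤ W)).op t)) =
        (lam' U hU).app (RelProj.emb p chart U hU ''ᵁ V')
          (G.presheaf.map (homOfLE (hW'1.trans inf_le_left)).op t) :=
      congrArg _ (map_map G inf_le_left hW'1 t)
    refine Eq.trans ?_ h3
    refine h1.trans (Eq.trans ?_ h2.symm)
    refine Subtype.ext (funext fun x => Subtype.ext ?_)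
    have hv := congrArg (fun σ => GrMod.val σ ⟨x.1, hle x.2⟩) hs'
    exact hv
  constructor
  intro Z g h hgh
  apply Scheme.Modules.hom_ext
  intro W
  ext t
  choose W' hW' hyW' s hs using fun (y : W) => hloc W t y.1 y.2
  refine TopCat.Sheaf.eq_of_locally_eq' ((SheafOfModules.toSheaf _).obj Z)
    (fun y : W => W' y) W (fun y => homOfLE (hW' y)) ?_ _ _ ?_
  · intro y hy
    exact Opens.mem_iSup.mpr ⟨⟨y, hy⟩, hyW' ⟨y, hy⟩⟩
  · intro y
    have hg1 : Z.presheaf.map (homOfLE (hW' y)).op (g.app W t) =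
        g.app (W' y) (G.presheaf.map (homOfLE (hW' y)).op t) :=
      (ConcreteCategory.congr_hom (g.mapPresheaf.naturality (homOfLE (hW' y)).op) t).symm
    have hh1 : Z.presheaf.map (homOfLE (hW' y)).op (h.app W t) =
        h.app (W' y) (G.presheaf.map (homOfLE (hW' y)).op t) :=
      (ConcreteCategory.congr_hom (h.mapPresheaf.naturality (homOfLE (hW' y)).op) t).symm
    have e : g.app (W' y) (ut.app (W' y) (s y)) = h.app (W' y) (ut.app (W' y) (s y)) :=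
      congrArg (fun φ => (Scheme.Modules.Hom.app φ (W' y)) (s y)) hgh
    rw [hs y] at e
    exact hg1.trans (e.trans hh1.symm)

end Groth.Agent.S8332
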