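import Groth.Statements.S8330
import Groth.Agent.S8324
import Groth.Agent.S8331
import Groth.Agent.S8332

set_option autoImplicit false
universe u
open CategoryTheory CategoryTheory.Limits AlgebraicGeometry Opposite TopologicalSpace
open scoped HomogeneousIdeal
noncomputable section
open EGA2

namespace Groth.Agent.S8330

/-- Sections over `U` as a functor to abelian groups. -/
def sectionsFunctor (X : Scheme.{u}) (U : X.Opens) : X.Modules ⥤ Ab.{u} :=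
  Scheme.Modules.toPresheaf X ⋙ (evaluation (Opens X)ᵒᵖ Ab.{u}).obj (op U)

instance sectionsFunctor_preservesLimits {X : Scheme.{u}} (U : X.Opens) :
    PreservesLimits (sectionsFunctor X U) := by
  have h : PreservesLimits ((evaluation (Opens X)ᵒᵖ Ab.{u}).obj (op U)) := inferInstance
  exact @comp_preservesLimits _ _ _ _ _ _ (Scheme.Modules.toPresheaf X) _ _ h

theorem app_injective_of_mono {X : Scheme.{u}} {F G : X.Modules} (φ : F ⟶ G) [Mono φ] (U : X.Opens) :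
    Function.Injective (φ.app U) := by
  have : Mono ((sectionsFunctor X U).map φ) := inferInstance
  exact (AddCommGrpCat.mono_iff_injective _).1 this

theorem app_naturality {X : Scheme.{u}} {F G : X.Modules} (φ : F ⟶ G) {V W : X.Opens} (i : W ⟶ V)
    (t : Γ(F, V)) : φ.app W (F.presheaf.map i.op t) = G.presheaf.map i.op (φ.app V t) :=
  ConcreteCategory.congr_hom ((Scheme.Modules.Hom.mapPresheaf φ).naturality i.op) t

theorem decompose_smul_hom {A σ : Type u} [CommRing A] [SetLike σ A] [AddSubgroupClass σ A]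
    (𝒜 : ℕ → σ) [GradedRing 𝒜]
    {M τ : Type u} [AddCommGroup M] [Module A M] [SetLike τ M] [AddSubgroupClass τ M] (ℳ : ℕ → τ)
    [SetLike.GradedSMul 𝒜 ℳ] [DirectSum.Decomposition ℳ]
    (x : M) (i : ℕ) (hx : x ∈ ℳ i) (a : A) :
    ∀ k : ℕ, (DirectSum.decompose ℳ (a • x) (k + i) : M) = (DirectSum.decompose 𝒜 a k : A) • x := by
  classical
  refine DirectSum.Decomposition.inductionOn 𝒜 ?_ ?_ ?_ a
  · intro k
    simp
  · intro l a k
    have hmem : (a : A) • x ∈ ℳ (l + i) := SetLike.GradedSMul.smul_mem a.2 hx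
    by_cases hlk : l = k
    · subst hlk
      rw [DirectSum.decompose_of_mem_same ℳ hmem, DirectSum.decompose_of_mem_same 𝒜 a.2]
    · rw [DirectSum.decompose_of_mem_ne ℳ hmem (by omega), DirectSum.decompose_of_mem_ne 𝒜 a.2 hlk,
        zero_smul]
  · intro a a' h h' k
    simp only [add_smul, DirectSum.decompose_add, DirectSum.add_apply, AddMemClass.coe_add, h k, h' k]

theorem exists_component_not_mem {A σ : Type u} [CommRing A] [SetLike σ A] [AddSubgroupClass σ A]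
    (𝒜 : ℕ → σ) [GradedRing 𝒜] (y : ProjectiveSpectrum 𝒜) (a : A)
    (ha : a ∉ y.asHomogeneousIdeal) :
    ∃ k, (DirectSum.decompose 𝒜 a k : A) ∉ y.asHomogeneousIdeal := by
  classical
  by_contra hcon
  apply ha
  have hsum : a = ∑ i ∈ (DirectSum.decompose 𝒜 a).support, (DirectSum.decompose 𝒜 a i : A) :=
    (DirectSum.sum_support_decompose 𝒜 a).symm
  rw [hsum]
  show (∑ i ∈ (DirectSum.decompose 𝒜 a).support, (DirectSum.decompose 𝒜 a i : A)) ∈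
    y.asHomogeneousIdeal.toIdeal
  refine Ideal.sum_mem _ fun i _ => ?_
  by_contra h
  exact hcon ⟨i, h⟩

theorem exists_local_lift_exact {A σ : Type u} [CommRing A] [SetLike σ A] [AddSubgroupClass σ A]
    (𝒜 : ℕ → σ) [GradedRing 𝒜]
    {M₁ τ₁ : Type u} [AddCommGroup M₁] [Module A M₁] [SetLike τ₁ M₁] [AddSubgroupClass τ₁ M₁]
    (ℳ₁ : ℕ → τ₁) [SetLike.GradedSMul 𝒜 ℳ₁] [DirectSum.Decomposition ℳ₁]
    {M₂ τ₂ : Type u} [AddCommGroup M₂] [Module A M₂] [SetLike τ₂ M₂] [AddSubgroupClass τ₂ M₂]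
    (ℳ₂ : ℕ → τ₂) [SetLike.GradedSMul 𝒜 ℳ₂] [DirectSum.Decomposition ℳ₂]
    {M₃ τ₃ : Type u} [AddCommGroup M₃] [Module A M₃] [SetLike τ₃ M₃] [AddSubgroupClass τ₃ M₃]
    (ℳ₃ : ℕ → τ₃) [SetLike.GradedSMul 𝒜 ℳ₃] [DirectSum.Decomposition ℳ₃]
    (u : M₁ →ₗ[A] M₂) (hu : ∀ (i : ℕ) (m : M₁), m ∈ ℳ₁ i → u m ∈ ℳ₂ i)
    (v : M₂ →ₗ[A] M₃) (hv : ∀ (i : ℕ) (m : M₂), m ∈ ℳ₂ i → v m ∈ ℳ₃ i)
    (hex : Function.Exact u v) (n : ℤ)
    (V : (Proj 𝒜).Opens) (t : Γ(GrMod.tilde 𝒜 ℳ₂ n, V))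
    (ht : (GrMod.map 𝒜 v hv n).app V t = 0) (y : V) :
    ∃ (V' : (Proj 𝒜).Opens) (hV' : V' ≤ V), y.1 ∈ V' ∧ ∃ s : Γ(GrMod.tilde 𝒜 ℳ₁ n, V'),
      (GrMod.map 𝒜 u hu n).app V' s = (GrMod.tilde 𝒜 ℳ₂ n).presheaf.map (homOfLE hV').op t := by
  classical
  obtain ⟨V1, mV1, iV, i, j, m₂, f, nin, c, w⟩ := (t : GrMod.sect 𝒜 ℳ₂ n (op V)).2 y
  have hV1 : V1 ≤ V := leOfHom iV
  rcases c with hij | hm0
  · have hval : GrMod.locMap v y.1 (GrMod.val t y) = 0 := by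
      have h2 : GrMod.val ((GrMod.map 𝒜 v hv n).app V t) y = 0 := by
        rw [ht]
        rfl
      exact (GrMod.map_app_val v hv n V t y).symm.trans h2
    have hw := w ⟨y.1, mV1⟩
    have hval' : GrMod.locMap v y.1
        (LocalizedModule.mk (m₂ : M₂) ⟨(f : A), nin ⟨y.1, mV1⟩⟩) = 0 :=
      (congrArg (GrMod.locMap v y.1) hw).symm.trans hval
    rw [GrMod.locMap_mk, ← LocalizedModule.zero_mk ⟨(f : A), nin ⟨y.1, mV1⟩⟩,
      LocalizedModule.mk_eq] at hval'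
    obtain ⟨a, ha⟩ := hval'
    rw [smul_zero, smul_zero] at ha
    have ha' : ((a : A) * (f : A)) • v (m₂ : M₂) = 0 := by
      rw [mul_smul]
      exact ha
    have hnot : (a : A) * (f : A) ∉ y.1.asHomogeneousIdeal := by
      intro h
      rcases y.1.isPrime.mem_or_mem h with h1 | h1
      · exact a.2 h1
      · exact nin ⟨y.1, mV1⟩ h1
    obtain ⟨k, hk⟩ := exists_component_not_mem 𝒜 y.1 _ hnot
    have hb0 : (DirectSum.decompose 𝒜 ((a : A) * (f : A)) k : A) • v (m₂ : M₂) = 0 := by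
      rw [← decompose_smul_hom 𝒜 ℳ₃ (v (m₂ : M₂)) i (hv i _ m₂.2) ((a : A) * (f : A)) k, ha',
        DirectSum.decompose_zero, DirectSum.zero_apply, ZeroMemClass.coe_zero]
    obtain ⟨b, hbdef⟩ : ∃ b : A, b = (DirectSum.decompose 𝒜 ((a : A) * (f : A)) k : A) := ⟨_, rfl⟩
    have hbmem : b ∈ 𝒜 k := hbdef ▸ SetLike.coe_mem _
    rw [← hbdef] at hk hb0
    have hvb : v (b • (m₂ : M₂)) = 0 := by
      rw [map_smul]
      exact hb0
    obtain ⟨m₁', hm₁'⟩ := (hex (b • (m₂ : M₂))).mp hvb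
    have hbm : b • (m₂ : M₂) ∈ ℳ₂ (k + i) := SetLike.GradedSMul.smul_mem hbmem m₂.2
    have hum : u (DirectSum.decompose ℳ₁ m₁' (k + i) : M₁) = b • (m₂ : M₂) := by
      rw [← Groth.Agent.S8331.decompose_map ℳ₁ ℳ₂ u hu m₁' (k + i), hm₁',
        DirectSum.decompose_of_mem_same ℳ₂ hbm]
    have hVle : (V1 : (Proj 𝒜).Opens) ⊓ Proj.basicOpen 𝒜 b ≤ V := inf_le_left.trans hV1
    have hymem : y.1 ∈ (V1 : (Proj 𝒜).Opens) ⊓ Proj.basicOpen 𝒜 b :=
      ⟨mV1, (ProjectiveSpectrum.mem_basicOpen 𝒜 b y.1).mpr hk⟩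
    have hbx : ∀ x : ((V1 : (Proj 𝒜).Opens) ⊓ Proj.basicOpen 𝒜 b : (Proj 𝒜).Opens),
        b ∉ x.1.asHomogeneousIdeal :=
      fun x => (ProjectiveSpectrum.mem_basicOpen 𝒜 b x.1).mp x.2.2
    have hs' : b * (f : A) ∈ 𝒜 (k + j) := SetLike.mul_mem_graded hbmem f.2
    have nin' : ∀ x : ((V1 : (Proj 𝒜).Opens) ⊓ Proj.basicOpen 𝒜 b : (Proj 𝒜).Opens),
        b * (f : A) ∉ x.1.asHomogeneousIdeal := by
      intro x h
      rcases x.1.isPrime.mem_or_mem h with h1 | h1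
      · exact hbx x h1
      · exact nin ⟨x.1, x.2.1⟩ h1
    have hdeg : ((k + i : ℕ) : ℤ) = ((k + j : ℕ) : ℤ) + n := by
      rw [Nat.cast_add, Nat.cast_add, hij]
      ring
    refine ⟨_, hVle, hymem,
      (⟨fun x => ⟨LocalizedModule.mk ((DirectSum.decompose ℳ₁ m₁' (k + i) : M₁))
            ⟨b * (f : A), nin' x⟩,
          Submodule.subset_span ⟨k + i, k + j, DirectSum.decompose ℳ₁ m₁' (k + i),
            ⟨b * (f : A), hs'⟩, nin' x, hdeg, rfl⟩⟩,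
        fun x => ⟨_, x.2, 𝟙 _, k + i, k + j, DirectSum.decompose ℳ₁ m₁' (k + i),
          ⟨b * (f : A), hs'⟩, nin', Or.inl hdeg, fun _ => rfl⟩⟩ :
        GrMod.sect 𝒜 ℳ₁ n (op ((V1 : (Proj 𝒜).Opens) ⊓ Proj.basicOpen 𝒜 b))), ?_⟩
    refine Subtype.ext (funext fun x => Subtype.ext ?_)
    have hw' := w ⟨x.1, x.2.1⟩
    refine Eq.trans (GrMod.locMap_mk u x.1 ((DirectSum.decompose ℳ₁ m₁' (k + i) : M₁))
      ⟨b * (f : A), nin' x⟩) (Eq.trans ?_ hw'.symm)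
    rw [hum, LocalizedModule.mk_eq]
    refine ⟨1, ?_⟩
    rw [one_smul, one_smul]
    change (f : A) • (b • (m₂ : M₂)) = (b * (f : A)) • (m₂ : M₂)
    rw [smul_smul, mul_comm]
  · refine ⟨V1, hV1, mV1, 0, ?_⟩
    rw [map_zero]
    refine Subtype.ext (funext fun x => Subtype.ext ?_)
    have hw := w ⟨x.1, x.2⟩
    rw [hm0, LocalizedModule.zero_mk] at hw
    exact hw.symm

theorem epi_of_local_lift {X : Scheme.{u}} {F G : X.Modules} (φ : F ⟶ G)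
    (hloc : ∀ (W : X.Opens) (t : Γ(G, W)) (y : X), y ∈ W →
      ∃ (W' : X.Opens) (hW' : W' ≤ W), y ∈ W' ∧ ∃ s : Γ(F, W'),
        φ.app W' s = G.presheaf.map (homOfLE hW').op t) : Epi φ := by
  constructor
  intro Z g h hgh
  apply Scheme.Modules.hom_ext
  intro W
  ext t
  choose W' hW' hyW' s hs using fun (y : W) => hloc W t y.1 y.2
  refine TopCat.Sheaf.eq_of_locally_eq' ((SheafOfModules.toSheaf _).obj Z)
    (fun y : W => W' y) W (fun y => homOfLE (hW' y)) ?_ _ _ ?_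
  · intro y hy
    exact Opens.mem_iSup.mpr ⟨⟨y, hy⟩, hyW' ⟨y, hy⟩⟩
  · intro y
    have hg1 : Z.presheaf.map (homOfLE (hW' y)).op (g.app W t) =
        g.app (W' y) (G.presheaf.map (homOfLE (hW' y)).op t) :=
      (ConcreteCategory.congr_hom (g.mapPresheaf.naturality (homOfLE (hW' y)).op) t).symm
    have hh1 : Z.presheaf.map (homOfLE (hW' y)).op (h.app W t) =
        h.app (W' y) (G.presheaf.map (homOfLE (hW' y)).op t) :=
      (ConcreteCategory.congr_hom (h.mapPresheaf.naturality (homOfLE (hW' y)).op) t).symm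
    have e : g.app (W' y) (φ.app (W' y) (s y)) = h.app (W' y) (φ.app (W' y) (s y)) :=
      congrArg (fun ψ => (Scheme.Modules.Hom.app ψ (W' y)) (s y)) hgh
    rw [hs y] at e
    exact hg1.trans (e.trans hh1.symm)

/-- Let u : ℳ₁ → ℳ₂ and v : ℳ₂ → ℳ₃ be degree-preserving homomorphisms of quasi-coherent graded
𝒮-modules with ℳ₁ → ℳ₂ → ℳ₃ exact (exactness of the sections over every affine open of Y), and let
ũ, ṽ be the induced maps between the modules (ℳᵢ(n))~ on P = Proj(𝒮) (pinned through the chartwise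
identifications). Then (ℳ₁(n))~ → (ℳ₂(n))~ → (ℳ₃(n))~ is exact. -/
theorem result {Y P : Scheme.{u}} (𝒮 : RelProj.QCGrAlg Y) (p : P ⟶ Y)
    (chart : ∀ (U : Y.Opens) (hU : IsAffineOpen U), (((p ⁻¹ᵁ U : P.Opens) : Scheme.{u}) ≅ Proj (𝒮.deg U hU)))
    (hP : RelProj.IsRelProj 𝒮 p chart) (ℳ₁ ℳ₂ ℳ₃ : RelProj.GrModule 𝒮)
    (h₁ : Coh.IsQCoh ((AMod.toOS 𝒮.toQCAlg).obj ℳ₁.mod)) (h₂ : Coh.IsQCoh ((AMod.toOS 𝒮.toQCAlg).obj ℳ₂.mod))
    (h₃ : Coh.IsQCoh ((AMod.toOS 𝒮.toQCAlg).obj ℳ₃.mod))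
    (u : ℳ₁.mod ⟶ ℳ₂.mod) (hu : RelProj.IsGrModHom u) (v : ℳ₂.mod ⟶ ℳ₃.mod) (hv : RelProj.IsGrModHom v)
    (hex : ∀ (U : Y.Opens) (hU : IsAffineOpen U), Function.Exact (u.val.app (op U)).hom (v.val.app (op U)).hom)
    (n : ℤ) (F₁ F₂ F₃ : P.Modules)
    (lam₁ : ∀ (U : Y.Opens) (hU : IsAffineOpen U),
      F₁ ⟶ (Scheme.Modules.pushforward (RelProj.emb p chart U hU)).obj (GrMod.tilde (𝒮.deg U hU) (ℳ₁.deg U hU) n))
    (hF₁ : RelProj.IsRelTilde 𝒮 p chart ℳ₁ n F₁ lam₁)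
    (lam₂ : ∀ (U : Y.Opens) (hU : IsAffineOpen U),
      F₂ ⟶ (Scheme.Modules.pushforward (RelProj.emb p chart U hU)).obj (GrMod.tilde (𝒮.deg U hU) (ℳ₂.deg U hU) n))
    (hF₂ : RelProj.IsRelTilde 𝒮 p chart ℳ₂ n F₂ lam₂)
    (lam₃ : ∀ (U : Y.Opens) (hU : IsAffineOpen U),
      F₃ ⟶ (Scheme.Modules.pushforward (RelProj.emb p chart U hU)).obj (GrMod.tilde (𝒮.deg U hU) (ℳ₃.deg U hU) n))
    (hF₃ : RelProj.IsRelTilde 𝒮 p chart ℳ₃ n F₃ lam₃)
    (ut : F₁ ⟶ F₂)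
    (hut : ∀ (U : Y.Opens) (hU : IsAffineOpen U),
      ut ≫ lam₂ U hU =
        lam₁ U hU ≫ (Scheme.Modules.pushforward (RelProj.emb p chart U hU)).map
          (GrMod.map (𝒮.deg U hU)
            (show ℳ₁.mod.val.obj (op U) →ₗ[𝒮.presheaf.obj (op U)] ℳ₂.mod.val.obj (op U) from (u.val.app (op U)).hom)
            (hu U hU) n))
    (vt : F₂ ⟶ F₃)
    (hvt : ∀ (U : Y.Opens) (hU : IsAffineOpen U),
      vt ≫ lam₃ U hU =
        lam₂ U hU ≫ (Scheme.Modules.pushforward (RelProj.emb p chart U hU)).map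
          (GrMod.map (𝒮.deg U hU)
            (show ℳ₂.mod.val.obj (op U) →ₗ[𝒮.presheaf.obj (op U)] ℳ₃.mod.val.obj (op U) from (v.val.app (op U)).hom)
            (hv U hU) n))
    (w : ut ≫ vt = 0) : (ShortComplex.mk ut vt w).Exact := by
  have hloc : ∀ (W : P.Opens) (t : Γ(F₂, W)), vt.app W t = 0 → ∀ (y : P), y ∈ W →
      ∃ (W' : P.Opens) (hW' : W' ≤ W), y ∈ W' ∧ ∃ s : Γ(F₁, W'),
        ut.app W' s = F₂.presheaf.map (homOfLE hW').op t := by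
    intro W t ht y hy
    obtain ⟨_, ⟨U, hU, rfl⟩, hyU, -⟩ := Y.isBasis_affineOpens.exists_subset_of_mem_open
      (Set.mem_univ (p.base y)) isOpen_univ
    have e1 : (chart U hU).hom ≫ RelProj.emb p chart U hU = (p ⁻¹ᵁ U).ι := by
      rw [RelProj.emb, Iso.hom_inv_id_assoc]
    obtain ⟨yq, hyq⟩ : ∃ yq : Proj (𝒮.deg U hU), (RelProj.emb p chart U hU).base yq = y :=
      ⟨(chart U hU).hom.base ⟨y, hyU⟩, congrArg (fun f => f.base ⟨y, hyU⟩) e1⟩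
    have hyq_mem : yq ∈ RelProj.emb p chart U hU ⁻¹ᵁ (W ⊓ p ⁻¹ᵁ U) := by
      show (RelProj.emb p chart U hU).base yq ∈ W ⊓ p ⁻¹ᵁ U
      rw [hyq]
      exact ⟨hy, hyU⟩
    have hz : vt.app (W ⊓ p ⁻¹ᵁ U)
        (F₂.presheaf.map (homOfLE (inf_le_left : W ⊓ p ⁻¹ᵁ U ≤ W)).op t) = 0 := by
      rw [app_naturality, ht, map_zero]
    have h0 : (lam₃ U hU).app (W ⊓ p ⁻¹ᵁ U) (vt.app (W ⊓ p ⁻¹ᵁ U)
          (F₂.presheaf.map (homOfLE (inf_le_left : W ⊓ p ⁻¹ᵁ U ≤ W)).op t)) =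
        (GrMod.map (𝒮.deg U hU)
          (show ℳ₂.mod.val.obj (op U) →ₗ[𝒮.presheaf.obj (op U)] ℳ₃.mod.val.obj (op U) from
            (v.val.app (op U)).hom) (hv U hU) n).app
          (RelProj.emb p chart U hU ⁻¹ᵁ (W ⊓ p ⁻¹ᵁ U))
          ((lam₂ U hU).app (W ⊓ p ⁻¹ᵁ U)
            (F₂.presheaf.map (homOfLE (inf_le_left : W ⊓ p ⁻¹ᵁ U ≤ W)).op t)) :=
      congrArg (fun φ => (Scheme.Modules.Hom.app φ (W ⊓ p ⁻¹ᵁ U))
        (F₂.presheaf.map (homOfLE (inf_le_left : W ⊓ p ⁻¹ᵁ U ≤ W)).op t)) (hvt U hU)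
    rw [hz, map_zero] at h0
    obtain ⟨V', hV', hyV', s', hs'⟩ := exists_local_lift_exact (𝒮.deg U hU) (ℳ₁.deg U hU)
      (ℳ₂.deg U hU) (ℳ₃.deg U hU)
      (show ℳ₁.mod.val.obj (op U) →ₗ[𝒮.presheaf.obj (op U)] ℳ₂.mod.val.obj (op U) from
        (u.val.app (op U)).hom) (hu U hU)
      (show ℳ₂.mod.val.obj (op U) →ₗ[𝒮.presheaf.obj (op U)] ℳ₃.mod.val.obj (op U) from
        (v.val.app (op U)).hom) (hv U hU) (hex U hU) n
      (RelProj.emb p chart U hU ⁻¹ᵁ (W ⊓ p ⁻¹ᵁ U))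
      ((lam₂ U hU).app (W ⊓ p ⁻¹ᵁ U)
        (F₂.presheaf.map (homOfLE (inf_le_left : W ⊓ p ⁻¹ᵁ U ≤ W)).op t)) h0.symm ⟨yq, hyq_mem⟩
    have hW'1 : RelProj.emb p chart U hU ''ᵁ V' ≤ W ⊓ p ⁻¹ᵁ U := by
      rintro _ ⟨v, hv, rfl⟩
      exact hV' hv
    have hle : RelProj.emb p chart U hU ⁻¹ᵁ (RelProj.emb p chart U hU ''ᵁ V') ≤ V' := by
      rintro v ⟨v', hv', e⟩
      have := (RelProj.emb p chart U hU).isOpenEmbedding.injective e
      exact this ▸ hv'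
    have hW'U : RelProj.emb p chart U hU ''ᵁ V' ≤ p ⁻¹ᵁ U := hW'1.trans inf_le_right
    obtain ⟨s, hs⟩ := (hF₁.bijective U hU _ hW'U).2
      ((GrMod.tilde (𝒮.deg U hU) (ℳ₁.deg U hU) n).presheaf.map (homOfLE hle).op s')
    refine ⟨RelProj.emb p chart U hU ''ᵁ V', hW'1.trans inf_le_left, ⟨yq, hyV', hyq⟩, s, ?_⟩
    apply (hF₂.bijective U hU _ hW'U).1
    have h1 : (lam₂ U hU).app (RelProj.emb p chart U hU ''ᵁ V')
          (ut.app (RelProj.emb p chart U hU ''ᵁ V') s) =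
        (GrMod.map (𝒮.deg U hU)
          (show ℳ₁.mod.val.obj (op U) →ₗ[𝒮.presheaf.obj (op U)] ℳ₂.mod.val.obj (op U) from
            (u.val.app (op U)).hom) (hu U hU) n).app
          (RelProj.emb p chart U hU ⁻¹ᵁ (RelProj.emb p chart U hU ''ᵁ V'))
          ((lam₁ U hU).app (RelProj.emb p chart U hU ''ᵁ V') s) :=
      congrArg (fun φ => (Scheme.Modules.Hom.app φ (RelProj.emb p chart U hU ''ᵁ V')) s) (hut U hU)
    rw [hs] at h1
    have h2 : (lam₂ U hU).app (RelProj.emb p chart U hU ''ᵁ V')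
          (F₂.presheaf.map (homOfLE hW'1).op
            (F₂.presheaf.map (homOfLE (inf_le_left : W ⊓ p ⁻¹ᵁ U ≤ W)).op t)) =
        ((Scheme.Modules.pushforward (RelProj.emb p chart U hU)).obj
          (GrMod.tilde (𝒮.deg U hU) (ℳ₂.deg U hU) n)).presheaf.map (homOfLE hW'1).op
          ((lam₂ U hU).app (W ⊓ p ⁻¹ᵁ U)
            (F₂.presheaf.map (homOfLE (inf_le_left : W ⊓ p ⁻¹ᵁ U ≤ W)).op t)) :=
      ConcreteCategory.congr_hom ((lam₂ U hU).mapPresheaf.naturality (homOfLE hW'1).op) _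
    have h3 : (lam₂ U hU).app (RelProj.emb p chart U hU ''ᵁ V')
          (F₂.presheaf.map (homOfLE hW'1).op
            (F₂.presheaf.map (homOfLE (inf_le_left : W ⊓ p ⁻¹ᵁ U ≤ W)).op t)) =
        (lam₂ U hU).app (RelProj.emb p chart U hU ''ᵁ V')
          (F₂.presheaf.map (homOfLE (hW'1.trans inf_le_left)).op t) :=
      congrArg _ (Groth.Agent.S8332.map_map F₂ inf_le_left hW'1 t)
    refine Eq.trans ?_ h3
    refine h1.trans (Eq.trans ?_ h2.symm)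
    refine Subtype.ext (funext fun x => Subtype.ext ?_)
    have hv' := congrArg (fun σ => GrMod.val σ ⟨x.1, hle x.2⟩) hs'
    exact hv'
  refine (ShortComplex.exact_iff_epi_kernel_lift _).mpr ?_
  show Epi (kernel.lift vt ut w)
  apply epi_of_local_lift
  intro W t y hy
  have hι : vt.app W ((kernel.ι vt).app W t) = 0 :=
    congrArg (fun φ => (Scheme.Modules.Hom.app φ W) t) (kernel.condition vt)
  obtain ⟨W', hW', hyW', s, hs⟩ := hloc W _ hι y hy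
  refine ⟨W', hW', hyW', s, ?_⟩
  apply app_injective_of_mono (kernel.ι vt) W'
  have h1 : (kernel.ι vt).app W' ((kernel.lift vt ut w).app W' s) = ut.app W' s :=
    congrArg (fun φ => (Scheme.Modules.Hom.app φ W') s) (kernel.lift_ι vt ut w)
  exact (h1.trans hs).trans
    (app_naturality (kernel.ι vt) (homOfLE hW') t).symm

end Groth.Agent.S8330
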