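import Groth.Statements.S8345

set_option autoImplicit false
universe u
open ConstrTop

namespace Groth.Agent.S8345

theorem aux_open {X : Type u} [TopologicalSpace X] [TopologicalSpace.NoetherianSpace X] {U : Set X}
    (hU : IsOpen U) : Topology.IsConstructible U :=
  IsRetrocompact.isConstructible hU fun _ _ _ ↦ TopologicalSpace.NoetherianSpace.isCompact _

open TopologicalSpace in
/-- Suppose X is a topological space that is Noetherian. Then a subset s of X is constructible exactly
when s can be written as the union of finitely many locally closed subsets of X. -/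
theorem result {X : Type u} [TopologicalSpace X]
    [NoetherianSpace X] (s : Set X) :
    Topology.IsConstructible s ↔
      ∃ (n : ℕ) (Z : Fin n → Set X), (∀ i, IsLocallyClosed (Z i)) ∧ s = ⋃ i, Z i := by
  constructor
  · intro hs
    induction s, hs using BooleanSubalgebra.closure_sdiff_sup_induction with
    | isSublattice =>
      exact ⟨fun s hs t ht ↦ ⟨hs.1.union ht.1, hs.2.union ht.2⟩,
        fun s hs t ht ↦ ⟨hs.1.inter ht.1, hs.2.inter_isOpen ht.2 ht.1⟩⟩
    | bot_mem => exact ⟨isOpen_empty, .empty⟩
    | top_mem => exact ⟨isOpen_univ, .univ⟩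
    | sdiff U hU V hV =>
      refine ⟨1, fun _ ↦ U \ V, fun _ ↦ ?_, ?_⟩
      · exact ⟨U, Vᶜ, hU.1, hV.1.isClosed_compl, rfl⟩
      · exact (Set.iUnion_const _).symm
    | sup s _ t _ hs' ht' =>
      obtain ⟨n1, Z1, h1, rfl⟩ := hs'
      obtain ⟨n2, Z2, h2, rfl⟩ := ht'
      refine ⟨n1 + n2, Sum.elim Z1 Z2 ∘ finSumFinEquiv.symm, fun i ↦ ?_, ?_⟩
      · simp only [Function.comp_apply]
        rcases finSumFinEquiv.symm i with j | j
        · exact h1 j
        · exact h2 j
      · change _ = ⋃ i, Sum.elim Z1 Z2 (finSumFinEquiv.symm i)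
        rw [finSumFinEquiv.symm.surjective.iUnion_comp (Sum.elim Z1 Z2), Set.iUnion_sum]
        simp
  · rintro ⟨n, Z, hZ, rfl⟩
    refine Topology.IsConstructible.iUnion fun i ↦ ?_
    obtain ⟨U, C, hU, hC, h⟩ := hZ i
    rw [h]
    exact (aux_open hU).inter (aux_open hC.isOpen_compl).of_compl

end Groth.Agent.S8345
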