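import Groth.Statements.S8352
import Mathlib

set_option autoImplicit false
universe u
open CategoryTheory CategoryTheory.Limits Opposite
open HomAlg3

namespace Groth.Agent.S8352

/-- Category of abelian groups, system indexed by the natural numbers: Let (A_k) be an inverse system of
abelian groups satisfying the Mittag-Leffler condition, A = lim A_k with projections π_p : A ⟶ A_p.
Filter A and each A_k by the kernels of the maps to A_{p-1} (with A_{-1} = 0); the graded piece
gr^p(A) is identified with Im(π_p) ∩ Ker(A_p ⟶ A_{p-1}) and gr^p(A_k), k ≥ p, with Im(A_k ⟶ A_p) ∩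
Ker(A_p ⟶ A_{p-1}), a decreasing family of subgroups of A_p. The statement gr^p(A) ≅ lim_k gr^p(A_k)
then reads: Im(π_0) = ⋂_k Im(A_k ⟶ A_0), and for every p, Im(π_{p+1}) ∩ Ker(A_{p+1} ⟶ A_p) = ⋂_{k ≥
p+1} (Im(A_k ⟶ A_{p+1}) ∩ Ker(A_{p+1} ⟶ A_p)). -/
theorem result (F : ℕᵒᵖ ⥤ AddCommGrpCat.{u})
    (hF : (F ⋙ forget AddCommGrpCat).IsMittagLeffler) :
    (limit.π F (op 0)).hom.range = ⨅ k : ℕ, (F.map (homOfLE (Nat.zero_le k)).op).hom.range ∧
      ∀ p : ℕ, (limit.π F (op (p + 1))).hom.range ⊓ (F.map (homOfLE (Nat.le_succ p)).op).hom.ker =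
        ⨅ (k : ℕ) (hk : p + 1 ≤ k),
          (F.map (homOfLE hk).op).hom.range ⊓ (F.map (homOfLE (Nat.le_succ p)).op).hom.ker := by
  classical
  have hML : ∀ j : ℕ, ∃ i, ∃ hi : j ≤ i, ∀ k (hk : j ≤ k) (b : F.obj (op i)),
      ∃ b' : F.obj (op k), (F.map (homOfLE hk).op).hom b' = (F.map (homOfLE hi).op).hom b := by
    intro j
    obtain ⟨i, f, h⟩ := hF (op j)
    have hi : j ≤ i.unop := leOfHom f.unop
    refine ⟨i.unop, hi, fun k hk b => ?_⟩
    have hf : f = (homOfLE hi).op := Quiver.Hom.unop_inj (Subsingleton.elim _ _)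
    subst hf
    obtain ⟨b', hb'⟩ := h (homOfLE hk).op ⟨b, rfl⟩
    exact ⟨b', hb'⟩
  have mcomp : ∀ (a b c : ℕ) (hab : a ≤ b) (hbc : b ≤ c) (z : F.obj (op c)),
      (F.map (homOfLE hab).op).hom ((F.map (homOfLE hbc).op).hom z) =
        (F.map (homOfLE (hab.trans hbc)).op).hom z := by
    intro a b c hab hbc z
    have : F.map (homOfLE (hab.trans hbc)).op =
        F.map (homOfLE hbc).op ≫ F.map (homOfLE hab).op := by
      rw [← F.map_comp]; rfl
    rw [this]; rfl
  have mid : ∀ (a : ℕ) (z : F.obj (op a)), (F.map (homOfLE (le_refl a)).op).hom z = z := by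
    intro a z
    have : F.map (homOfLE (le_refl a)).op = 𝟙 _ := by rw [← F.map_id]; rfl
    rw [this]; rfl
  have step : ∀ (j : ℕ) (x : F.obj (op j)),
      (∀ k (hk : j ≤ k), ∃ b : F.obj (op k), (F.map (homOfLE hk).op).hom b = x) →
      ∃ x' : F.obj (op (j + 1)), (F.map (homOfLE (Nat.le_succ j)).op).hom x' = x ∧
        ∀ k (hk : j + 1 ≤ k), ∃ b : F.obj (op k), (F.map (homOfLE hk).op).hom b = x' := by
    intro j x hx
    obtain ⟨i, hi, hML'⟩ := hML (j + 1)
    obtain ⟨b, hb⟩ := hx i ((Nat.le_succ j).trans hi)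
    refine ⟨(F.map (homOfLE hi).op).hom b, ?_, fun k hk => hML' k hk b⟩
    rw [mcomp]; exact hb
  have key : ∀ (j : ℕ) (x : F.obj (op j)),
      (∀ k (hk : j ≤ k), ∃ b : F.obj (op k), (F.map (homOfLE hk).op).hom b = x) →
      ∃ a : ↑(limit F), (limit.π F (op j)).hom a = x := by
    intro j x hx
    have stepS : ∀ n (z : {z : F.obj (op n) // ∀ k (hk : n ≤ k), ∃ b : F.obj (op k),
        (F.map (homOfLE hk).op).hom b = z}),
        ∃ z' : {z : F.obj (op (n + 1)) // ∀ k (hk : n + 1 ≤ k), ∃ b : F.obj (op k),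
        (F.map (homOfLE hk).op).hom b = z},
          (F.map (homOfLE (Nat.le_succ n)).op).hom z'.1 = z.1 := by
      intro n z
      obtain ⟨x', h1, h2⟩ := step n z.1 z.2
      exact ⟨⟨x', h2⟩, h1⟩
    choose nx hnx using stepS
    obtain ⟨y, hy0, hyS⟩ : ∃ y : ∀ n, {z : F.obj (op (j + n)) // ∀ k (hk : j + n ≤ k),
        ∃ b : F.obj (op k), (F.map (homOfLE hk).op).hom b = z},
        (y 0).1 = x ∧ ∀ n, (F.map (homOfLE (Nat.le_succ (j + n))).op).hom (y (n + 1)).1 =
          (y n).1 := by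
      refine ⟨fun n => Nat.rec (motive := fun n => {z : F.obj (op (j + n)) //
        ∀ k (hk : j + n ≤ k), ∃ b : F.obj (op k), (F.map (homOfLE hk).op).hom b = z})
        ⟨x, hx⟩ (fun n z => nx (j + n) z) n, rfl, fun n => hnx (j + n) _⟩
    have hyx : ∀ n, (F.map (homOfLE (Nat.le_add_right j n)).op).hom (y n).1 = x := by
      intro n
      induction n with
      | zero => rw [← hy0]; exact mid _ _
      | succ n ih =>
        rw [← ih, ← hyS n, mcomp]
    obtain ⟨s, hs⟩ : ∃ s : ∀ m : ℕ, F.obj (op m),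
        s = fun m => (F.map (homOfLE (Nat.le_add_left m j)).op).hom (y m).1 := ⟨_, rfl⟩
    have hsS : ∀ m, (F.map (homOfLE (Nat.le_succ m)).op).hom (s (m + 1)) = s m := by
      intro m
      rw [hs]
      dsimp only
      rw [mcomp, ← hyS m, mcomp]
    have hsle : ∀ m m' (h : m ≤ m'), (F.map (homOfLE h).op).hom (s m') = s m := by
      intro m m' h
      induction m', h using Nat.le_induction with
      | base => exact mid _ _
      | succ m' h ih =>
        rw [← ih, ← hsS m', mcomp]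
    have hsj : s j = x := by
      rw [hs]; exact hyx j
    have hsec : (fun i : ℕᵒᵖ => (s i.unop : (F ⋙ forget AddCommGrpCat).obj i)) ∈
        (F ⋙ forget AddCommGrpCat).sections := by
      intro i i' f
      have hle : i'.unop ≤ i.unop := leOfHom f.unop
      have hf : f = (homOfLE hle).op := Quiver.Hom.unop_inj (Subsingleton.elim _ _)
      subst hf
      exact hsle _ _ hle
    refine ⟨(Types.isLimitEquivSections (isLimitOfPreserves (forget AddCommGrpCat)
      (limit.isLimit F))).symm ⟨_, hsec⟩, ?_⟩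
    have := Types.isLimitEquivSections_symm_apply (isLimitOfPreserves (forget AddCommGrpCat)
      (limit.isLimit F)) ⟨_, hsec⟩ (op j)
    exact this.trans hsj
  have hw : ∀ (j k : ℕ) (hk : j ≤ k) (a : ↑(limit F)),
      (F.map (homOfLE hk).op).hom ((limit.π F (op k)).hom a) = (limit.π F (op j)).hom a := by
    intro j k hk a
    have := congrArg (fun g : limit F ⟶ F.obj (op j) => g.hom a) (limit.w F (homOfLE hk).op)
    exact this
  constructor
  · ext x
    simp only [AddSubgroup.mem_iInf, AddMonoidHom.mem_range]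
    constructor
    · rintro ⟨a, rfl⟩ k
      exact ⟨(limit.π F (op k)).hom a, hw 0 k _ a⟩
    · intro h
      exact key 0 x (fun k hk => h k)
  · intro p
    ext x
    simp only [AddSubgroup.mem_inf, AddSubgroup.mem_iInf, AddMonoidHom.mem_range,
      AddMonoidHom.mem_ker]
    constructor
    · rintro ⟨⟨a, rfl⟩, hker⟩ k hk
      exact ⟨⟨(limit.π F (op k)).hom a, hw (p + 1) k hk a⟩, hker⟩
    · intro h
      exact ⟨key (p + 1) x (fun k hk => (h k hk).1), (h (p + 1) le_rfl).2⟩

end Groth.Agent.S8352
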