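import Groth.Statements.S8353
import Mathlib

set_option autoImplicit false
universe u
open HomAlg3

namespace Groth.Agent.S8353

/-- Let S be a Noetherian ring which is separated and complete for the adic topology of an ideal J, and
let M be an S-module with a decreasing filtration (F^p M)_{p ∈ ℤ} by submodules such that F^p M = M
for some p, J·F^p M ⊆ F^{p+1} M for all p, and ⋂_p F^p M = 0. Then the following are equivalent: (a)
M is a finitely generated S-module and J·F^p M = F^{p+1} M for all large p; (c) every F^p M /
F^{p+1} M is a finitely generated S-module and, for all large p, the map J ⊗ (F^p M/F^{p+1} M) ⟶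
F^{p+1} M/F^{p+2} M is surjective, that is F^{p+1} M = J·F^p M + F^{p+2} M. (The published statement
also lists a third equivalent condition, finite generation of the associated graded module over the
associated graded ring; this row states the equivalence of the other two.) -/
theorem result {S : Type u} [CommRing S] [IsNoetherianRing S]
    (J : Ideal S) [IsAdicComplete J S] {M : Type u} [AddCommGroup M] [Module S M]
    (F : ℤ → Submodule S M) (hF : Antitone F) (hcod : ∃ p₀ : ℤ, F p₀ = ⊤)
    (hJ : ∀ p : ℤ, J • F p ≤ F (p + 1)) (hsep : ⨅ p : ℤ, F p = ⊥) :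
    (Module.Finite S M ∧ ∃ p₁ : ℤ, ∀ p : ℤ, p₁ ≤ p → J • F p = F (p + 1)) ↔
      ((∀ p : ℤ, (Submodule.map (F (p + 1)).mkQ (F p)).FG) ∧
        ∃ p₁ : ℤ, ∀ p : ℤ, p₁ ≤ p → F (p + 1) = J • F p ⊔ F (p + 2)) := by
  classical
  constructor
  · rintro ⟨hfin, p₁, hp₁⟩
    refine ⟨fun p => ?_, p₁, fun p hp => ?_⟩
    · have : IsNoetherian S M := isNoetherian_of_isNoetherianRing_of_finite S M
      exact Submodule.FG.map _ (IsNoetherian.noetherian _)
    · rw [hp₁ p hp]
      have h2 : F (p + 2) ≤ F (p + 1) := hF (by lia)
      exact (sup_eq_left.2 h2).symm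
  · rintro ⟨hgr, p₁, hp₁⟩
    have hJpow : ∀ (k : ℕ) (p : ℤ), J ^ k • F p ≤ F (p + k) := by
      intro k
      induction k with
      | zero =>
        intro p
        rw [pow_zero, Ideal.one_eq_top, Submodule.top_smul]
        simp
      | succ k ih =>
        intro p
        rw [pow_succ, Submodule.mul_smul]
        have e : p + 1 + (k : ℤ) = p + ((k + 1 : ℕ) : ℤ) := by push_cast; ring
        calc J ^ k • J • F p ≤ J ^ k • F (p + 1) := Submodule.smul_mono le_rfl (hJ p)
          _ ≤ F (p + 1 + k) := ih (p + 1)
          _ = F (p + ((k + 1 : ℕ) : ℤ)) := by rw [e]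
    have claim : ∀ p : ℤ, p₁ ≤ p → (F p).FG ∧ F (p + 1) ≤ J • F p := by
      intro p hp
      obtain ⟨t, ht⟩ := hgr p
      have hpre : ∀ z ∈ t, ∃ w ∈ F p, (F (p + 1)).mkQ w = z := by
        intro z hz
        have : z ∈ Submodule.map (F (p + 1)).mkQ (F p) := by
          rw [← ht]; exact Submodule.subset_span hz
        obtain ⟨w, hw, rfl⟩ := this
        exact ⟨w, hw, rfl⟩
      choose! g hgF hgz using hpre
      obtain ⟨x, hx⟩ : ∃ x : t → M, x = fun z => g z.1 := ⟨_, rfl⟩
      have hxF : ∀ z, x z ∈ F p := fun z => by rw [hx]; exact hgF z.1 z.2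
      obtain ⟨N, hN⟩ : ∃ N : Submodule S M, N = Submodule.span S (Set.range x) := ⟨_, rfl⟩
      have hNF : N ≤ F p := by
        rw [hN, Submodule.span_le]
        rintro _ ⟨z, rfl⟩
        exact hxF z
      have hgen0 : F p ≤ N ⊔ F (p + 1) := by
        have h1 : Submodule.span S (t : Set (M ⧸ F (p + 1))) ≤ Submodule.map (F (p + 1)).mkQ N := by
          rw [Submodule.span_le]
          intro z hz
          refine ⟨g z, ?_, hgz z hz⟩
          rw [hN]
          exact Submodule.subset_span ⟨⟨z, hz⟩, by rw [hx]⟩
        calc F p ≤ Submodule.comap (F (p + 1)).mkQ (Submodule.map (F (p + 1)).mkQ (F p)) :=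
              Submodule.le_comap_map _ _
          _ ≤ Submodule.comap (F (p + 1)).mkQ (Submodule.map (F (p + 1)).mkQ N) := by
              rw [← ht]; exact Submodule.comap_mono h1
          _ = F (p + 1) ⊔ N := Submodule.comap_map_mkQ _ _
          _ = N ⊔ F (p + 1) := sup_comm _ _
      have hG2 : ∀ k : ℕ, F (p + k) ≤ J ^ k • N ⊔ F (p + k + 1) := by
        intro k
        induction k with
        | zero =>
          rw [pow_zero, Ideal.one_eq_top, Submodule.top_smul]
          simpa using hgen0
        | succ k ih =>
          have e1 : p + ((k + 1 : ℕ) : ℤ) = p + k + 1 := by push_cast; ring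
          have e2 : p + (k : ℤ) + 1 + 1 = p + k + 2 := by ring
          rw [e1, e2, hp₁ (p + k) (by lia)]
          refine sup_le ?_ le_sup_right
          calc J • F (p + k) ≤ J • (J ^ k • N ⊔ F (p + k + 1)) := Submodule.smul_mono le_rfl ih
            _ = J • J ^ k • N ⊔ J • F (p + k + 1) := Submodule.smul_sup _ _ _
            _ ≤ J ^ (k + 1) • N ⊔ F (p + k + 2) := by
              refine sup_le_sup ?_ ?_
              · rw [← Submodule.mul_smul, ← pow_succ']
              · rw [← e2]; exact hJ _
      have hG3 : ∀ k₀ : ℕ, F (p + k₀) ≤ J ^ k₀ • N := by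
        intro k₀ y hy
        have hstep : ∀ (k : ℕ) (y : M), y ∈ F (p + k) → ∃ (c : t → S) (y' : M),
            (∀ i, c i ∈ J ^ k) ∧ y' ∈ F (p + k + 1) ∧ y = ∑ i, c i • x i + y' := by
          intro k y hy
          obtain ⟨n, hn, y', hy', rfl⟩ := Submodule.mem_sup.1 (hG2 k hy)
          rw [hN, Submodule.mem_ideal_smul_span_iff_exists_sum] at hn
          obtain ⟨a, ha, rfl⟩ := hn
          refine ⟨fun i => a i, y', ha, hy', ?_⟩
          rw [Finsupp.sum_fintype a (fun i c => c • x i) (fun i => zero_smul _ _)]
        choose! C Y hC hY hCY using hstep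
        obtain ⟨yseq, hyseq0, hyseqS⟩ : ∃ yseq : ℕ → M, yseq 0 = y ∧
            ∀ n, yseq (n + 1) = Y (k₀ + n) (yseq n) :=
          ⟨fun n => Nat.rec y (fun n z => Y (k₀ + n) z) n, rfl, fun n => rfl⟩
        have hmem : ∀ n : ℕ, yseq n ∈ F (p + ((k₀ + n : ℕ) : ℤ)) := by
          intro n
          induction n with
          | zero => rw [hyseq0]; simpa using hy
          | succ n ih =>
            rw [hyseqS]
            have e : p + ((k₀ + n : ℕ) : ℤ) + 1 = p + ((k₀ + (n + 1) : ℕ) : ℤ) := by
              push_cast; ring
            rw [← e]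
            exact hY _ _ ih
        obtain ⟨cseq, hcseq⟩ : ∃ cseq : ℕ → t → S, cseq = fun n => C (k₀ + n) (yseq n) :=
          ⟨_, rfl⟩
        have hc : ∀ n i, cseq n i ∈ J ^ (k₀ + n) := by
          intro n i; rw [hcseq]; exact hC _ _ (hmem n) i
        have hrel : ∀ n, yseq n = ∑ i, cseq n i • x i + yseq (n + 1) := by
          intro n; rw [hcseq, hyseqS]; exact hCY _ _ (hmem n)
        obtain ⟨s, hs⟩ : ∃ s : ℕ → t → S, s = fun n i => ∑ l ∈ Finset.range n, cseq l i :=
          ⟨_, rfl⟩
        have hs0 : ∀ i, s 0 i = 0 := by intro i; rw [hs]; simp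
        have hsS : ∀ n i, s (n + 1) i = s n i + cseq n i := by
          intro n i; rw [hs]; simp [Finset.sum_range_succ]
        have hsum : ∀ n, y = ∑ i, s n i • x i + yseq n := by
          intro n
          induction n with
          | zero => simp [hs0, hyseq0]
          | succ n ih =>
            have : ∑ i, s (n + 1) i • x i = ∑ i, s n i • x i + ∑ i, cseq n i • x i := by
              rw [← Finset.sum_add_distrib]
              refine Finset.sum_congr rfl (fun i _ => ?_)
              rw [hsS, add_smul]
            rw [this, add_assoc, ← hrel n]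
            exact ih
        have hdiff : ∀ (i : t) (a b : ℕ), a ≤ b → s b i - s a i ∈ J ^ a := by
          intro i a b hab
          induction b, hab using Nat.le_induction with
          | base => simp
          | succ b hab ih =>
            rw [hsS]
            have : s b i + cseq b i - s a i = (s b i - s a i) + cseq b i := by ring
            rw [this]
            exact Ideal.add_mem _ ih (Ideal.pow_le_pow_right (by lia) (hc b i))
        have hcauchy : ∀ i : t, ∀ {a b : ℕ}, a ≤ b →
            s a i ≡ s b i [SMOD (J ^ a • ⊤ : Submodule S S)] := by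
          intro i a b hab
          rw [SModEq.sub_mem, smul_eq_mul, Ideal.mul_top]
          have := hdiff i a b hab
          rw [← neg_sub] at this
          exact (Submodule.neg_mem_iff _).1 this
        have hprec : IsPrecomplete J S := inferInstance
        choose L hL using fun i : t => hprec.prec (f := fun n => s n i) (hcauchy i)
        have hLn : ∀ (n : ℕ) (i : t), s n i - L i ∈ J ^ n := by
          intro n i
          have := hL i n
          rw [SModEq.sub_mem, smul_eq_mul, Ideal.mul_top] at this
          exact this
        have hLk : ∀ i, L i ∈ J ^ k₀ := by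
          intro i
          have h1 : s k₀ i ∈ J ^ k₀ := by
            have := hdiff i 0 k₀ (Nat.zero_le _)
            rw [hs0, sub_zero] at this
            -- use direct sum membership instead
            rw [hs]
            exact Ideal.sum_mem _ (fun l _ => Ideal.pow_le_pow_right (by lia) (hc l i))
          have h2 := hLn k₀ i
          have : L i = s k₀ i - (s k₀ i - L i) := by ring
          rw [this]
          exact Ideal.sub_mem _ h1 h2
        have hfinal : y - ∑ i, L i • x i ∈ (⨅ q : ℤ, F q) := by
          rw [Submodule.mem_iInf]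
          intro q
          have hn : ∀ n : ℕ, y - ∑ i, L i • x i ∈ F (p + n) := by
            intro n
            have e : y - ∑ i, L i • x i = ∑ i, (s n i - L i) • x i + yseq n := by
              have h1 : ∑ i, (s n i - L i) • x i = ∑ i, s n i • x i - ∑ i, L i • x i := by
                rw [← Finset.sum_sub_distrib]
                exact Finset.sum_congr rfl (fun i _ => sub_smul _ _ _)
              rw [h1]
              nth_rewrite 1 [hsum n]
              abel
            rw [e]
            refine Submodule.add_mem _ ?_ ?_
            · apply hJpow n p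
              exact Submodule.sum_mem _ (fun i _ =>
                Submodule.smul_mem_smul (hLn n i) (hxF i))
            · exact hF (by push_cast; lia) (hmem n)
          exact hF (by lia : q ≤ p + ((q - p).toNat : ℤ)) (hn (q - p).toNat)
        rw [hsep, Submodule.mem_bot, sub_eq_zero] at hfinal
        rw [hfinal, hN]
        exact Submodule.sum_mem _ (fun i _ =>
          Submodule.smul_mem_smul (hLk i) (Submodule.subset_span ⟨i, rfl⟩))
      constructor
      · have h0 := hG3 0
        rw [pow_zero, Ideal.one_eq_top, Submodule.top_smul] at h0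
        have : F p = N := le_antisymm (by simpa using h0) hNF
        rw [this, hN]
        exact Submodule.fg_span (Set.finite_range x)
      · have h1 := hG3 1
        rw [pow_one] at h1
        calc F (p + 1) = F (p + ((1 : ℕ) : ℤ)) := by simp
          _ ≤ J • N := h1
          _ ≤ J • F p := Submodule.smul_mono le_rfl hNF
    have hFGdown : ∀ n : ℕ, (F (p₁ - n)).FG := by
      intro n
      induction n with
      | zero => simpa using (claim p₁ le_rfl).1
      | succ n ih =>
        have e : p₁ - ((n + 1 : ℕ) : ℤ) + 1 = p₁ - n := by push_cast; ring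
        apply Submodule.fg_of_fg_map_of_fg_inf_ker (F (p₁ - ((n + 1 : ℕ) : ℤ) + 1)).mkQ
        · exact hgr _
        · rw [Submodule.ker_mkQ, inf_eq_right.2 (hF (by lia)), e]
          exact ih
    have hFG : ∀ p : ℤ, (F p).FG := by
      intro p
      by_cases hp : p₁ ≤ p
      · exact (claim p hp).1
      · have e : p = p₁ - ((p₁ - p).toNat : ℤ) := by lia
        rw [e]; exact hFGdown _
    obtain ⟨p₀, hp₀⟩ := hcod
    refine ⟨Module.finite_def.2 (by rw [← hp₀]; exact hFG p₀), p₁, fun p hp => ?_⟩
    exact le_antisymm (hJ p) (claim p hp).2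

end Groth.Agent.S8353
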