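import Groth.Statements.S8354
import Groth.Agent.S1123

set_option autoImplicit false
universe w w' v v' u u'
open CategoryTheory CategoryTheory.Limits
open HomAlg3

namespace Groth.Agent.S8354

/-- Bounded-below case, exactness at the middle term. Let T : C ⥤ D be an additive functor of abelian
categories, C having enough injectives, and 0 ⟶ K₁ ⟶ K₂ ⟶ K₃ ⟶ 0 a short exact sequence of bounded
below cochain complexes of C. Let R^n T(K) denote the n-th cohomology object of R⁺T(K), where R⁺T is
the right derived functor of T on the bounded below derived category (computed with injective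
resolutions). Then R^n T(K₁) ⟶ R^n T(K₂) ⟶ R^n T(K₃) is exact for every n. (The published statement
asserts a long exact sequence with connecting morphisms; this row states exactness at the middle
term only, with the vanishing of the composite carried as a hypothesis.) -/
theorem result {C : Type u} [Category.{v} C] [Abelian C]
    [EnoughInjectives C] [HasDerivedCategory.{w} C] {D : Type u'} [Category.{v'} D] [Abelian D]
    [HasDerivedCategory.{w'} D] (T : C ⥤ D) [T.Additive] {K₁ K₂ K₃ : CochainComplex.Plus C}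
    (φ : K₁ ⟶ K₂) (ψ : K₂ ⟶ K₃) (hφψ : φ.hom ≫ ψ.hom = 0)
    (hS : (ShortComplex.mk φ.hom ψ.hom hφψ).ShortExact) (n : ℤ)
    (hz : (HomotopyCategory.Plus.quotient C ⋙ DerivedCategory.Plus.Qh ⋙ T.rightDerivedFunctorPlus ⋙
          DerivedCategory.Plus.homologyFunctor D n).map φ ≫
      (HomotopyCategory.Plus.quotient C ⋙ DerivedCategory.Plus.Qh ⋙ T.rightDerivedFunctorPlus ⋙
          DerivedCategory.Plus.homologyFunctor D n).map ψ = 0) :
    (ShortComplex.mk ((HomotopyCategory.Plus.quotient C ⋙ DerivedCategory.Plus.Qh ⋙ T.rightDerivedFunctorPlus ⋙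
          DerivedCategory.Plus.homologyFunctor D n).map φ)
      ((HomotopyCategory.Plus.quotient C ⋙ DerivedCategory.Plus.Qh ⋙ T.rightDerivedFunctorPlus ⋙
          DerivedCategory.Plus.homologyFunctor D n).map ψ) hz).Exact := by
  classical
  let F : CochainComplex.Plus C ⥤ D := HomotopyCategory.Plus.quotient C ⋙ DerivedCategory.Plus.Qh ⋙
    T.rightDerivedFunctorPlus ⋙ DerivedCategory.Plus.homologyFunctor D n
  let Φ : CochainComplex.Plus C ⥤ D := HomotopyCategory.Plus.quotient C ⋙
    (T.mapHomotopyCategoryPlus ⋙ DerivedCategory.Plus.Qh) ⋙ DerivedCategory.Plus.homologyFunctor D n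
  let η : Φ ⟶ F := Functor.whiskerLeft (HomotopyCategory.Plus.quotient C)
    (Functor.whiskerRight T.rightDerivedFunctorPlusUnit (DerivedCategory.Plus.homologyFunctor D n))
  change (ShortComplex.mk (F.map φ) (F.map ψ) hz).Exact
  -- a common lower bound
  obtain ⟨n₁, h₁⟩ := K₁.property
  obtain ⟨n₂, h₂⟩ := K₂.property
  obtain ⟨n₃, h₃⟩ := K₃.property
  obtain ⟨n₀, hn₀⟩ : ∃ n₀ : ℤ, n₀ = min n₁ (min n₂ n₃) := ⟨_, rfl⟩
  have : K₁.obj.IsStrictlyGE n₀ := K₁.obj.isStrictlyGE_of_ge n₀ n₁ (by omega)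
  have : K₂.obj.IsStrictlyGE n₀ := K₂.obj.isStrictlyGE_of_ge n₀ n₂ (by omega)
  have : K₃.obj.IsStrictlyGE n₀ := K₃.obj.isStrictlyGE_of_ge n₀ n₃ (by omega)
  obtain ⟨R, τ, hR, hR1, hR2, hR3, hinj, hq1, hq2, hq3⟩ :=
    Groth.Agent.S1123.result (ShortComplex.mk φ.hom ψ.hom hφψ) hS n₀
  let J₁ : CochainComplex.Plus C := ⟨R.X₁, ⟨n₀, hR1⟩⟩
  let J₂ : CochainComplex.Plus C := ⟨R.X₂, ⟨n₀, hR2⟩⟩
  let J₃ : CochainComplex.Plus C := ⟨R.X₃, ⟨n₀, hR3⟩⟩
  let a : J₁ ⟶ J₂ := ObjectProperty.homMk R.f
  let b : J₂ ⟶ J₃ := ObjectProperty.homMk R.g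
  let q₁ : K₁ ⟶ J₁ := ObjectProperty.homMk τ.τ₁
  let q₂ : K₂ ⟶ J₂ := ObjectProperty.homMk τ.τ₂
  let q₃ : K₃ ⟶ J₃ := ObjectProperty.homMk τ.τ₃
  have c12 : φ ≫ q₂ = q₁ ≫ a := by
    ext : 1
    exact τ.comm₁₂.symm
  have c23 : ψ ≫ q₃ = q₂ ≫ b := by
    ext : 1
    exact τ.comm₂₃.symm
  have inv_qi : ∀ {X Y : CochainComplex.Plus C} (q : X ⟶ Y), QuasiIso q.hom → IsIso (F.map q) := by
    intro X Y q hq
    have h1 : IsIso (DerivedCategory.Plus.Qh.map ((HomotopyCategory.Plus.quotient C).map q)) :=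
      Localization.inverts (HomotopyCategory.Plus.quotient C ⋙ DerivedCategory.Plus.Qh)
        (CochainComplex.Plus.quasiIso C) q hq
    exact Functor.map_isIso
      (T.rightDerivedFunctorPlus ⋙ DerivedCategory.Plus.homologyFunctor D n) _
  have := inv_qi q₁ hq1
  have := inv_qi q₂ hq2
  have := inv_qi q₃ hq3
  have hz' : F.map φ ≫ F.map ψ = 0 := hz
  have zJ : F.map a ≫ F.map b = 0 := by
    rw [← cancel_epi (F.map q₁), comp_zero, ← F.map_comp_assoc, ← c12, F.map_comp_assoc,
      ← F.map_comp, ← c23, F.map_comp, reassoc_of% hz', zero_comp]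
  -- the image under `T` of the injective short exact sequence
  let G := T.mapHomologicalComplex (ComplexShape.up ℤ)
  have hS' : (R.map G).ShortExact := by
    apply HomologicalComplex.shortExact_of_degreewise_shortExact
    intro k
    have hk : (R.map (HomologicalComplex.eval C (ComplexShape.up ℤ) k)).ShortExact :=
      hR.map_of_exact _
    have : Injective (R.map (HomologicalComplex.eval C (ComplexShape.up ℤ) k)).X₁ := (hinj k).1
    exact (hk.splittingOfInjective.map T).shortExact
  have exΨ := hS'.homology_exact₂ n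
  let ε : ∀ X : CochainComplex.Plus C, Φ.obj X ≅ (G.obj X.obj).homology n := fun X =>
    (DerivedCategory.homologyFunctorFactors D n).app (G.obj X.obj)
  have εnat : ∀ {X Y : CochainComplex.Plus C} (f : X ⟶ Y),
      Φ.map f ≫ (ε Y).hom = (ε X).hom ≫ HomologicalComplex.homologyMap (G.map f.hom) n := by
    intro X Y f
    exact DerivedCategory.homologyFunctorFactors_hom_naturality (G.map f.hom) n
  have inj1 : ∀ k, Injective (J₁.obj.X k) := fun k => (hinj k).1
  have inj2 : ∀ k, Injective (J₂.obj.X k) := fun k => (hinj k).2.1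
  have inj3 : ∀ k, Injective (J₃.obj.X k) := fun k => (hinj k).2.2
  have i1 : IsIso (η.app J₁) := by
    change IsIso ((DerivedCategory.Plus.homologyFunctor D n).map
      (T.rightDerivedFunctorPlusUnit.app ((HomotopyCategory.Plus.quotient C).obj J₁)))
    infer_instance
  have i2 : IsIso (η.app J₂) := by
    change IsIso ((DerivedCategory.Plus.homologyFunctor D n).map
      (T.rightDerivedFunctorPlusUnit.app ((HomotopyCategory.Plus.quotient C).obj J₂)))
    infer_instance
  have i3 : IsIso (η.app J₃) := by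
    change IsIso ((DerivedCategory.Plus.homologyFunctor D n).map
      (T.rightDerivedFunctorPlusUnit.app ((HomotopyCategory.Plus.quotient C).obj J₃)))
    infer_instance
  have comm : ∀ {X Y : CochainComplex.Plus C} (f : X ⟶ Y) [IsIso (η.app X)] [IsIso (η.app Y)],
      (inv (η.app X) ≫ (ε X).hom) ≫ HomologicalComplex.homologyMap (G.map f.hom) n =
        F.map f ≫ (inv (η.app Y) ≫ (ε Y).hom) := by
    intro X Y f _ _
    rw [Category.assoc, ← εnat f, ← Category.assoc, ← Category.assoc]
    congr 1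
    rw [IsIso.eq_comp_inv, Category.assoc, η.naturality f, IsIso.inv_hom_id_assoc]
  have exJ : (ShortComplex.mk (F.map a) (F.map b) zJ).Exact :=
    (ShortComplex.exact_iff_of_iso (ShortComplex.isoMk
      ((asIso (η.app J₁)).symm ≪≫ ε J₁) ((asIso (η.app J₂)).symm ≪≫ ε J₂)
      ((asIso (η.app J₃)).symm ≪≫ ε J₃)
      (comm a) (comm b))).2 exΨ
  refine (ShortComplex.exact_iff_of_iso (ShortComplex.isoMk (asIso (F.map q₁)) (asIso (F.map q₂))
    (asIso (F.map q₃)) ?_ ?_)).2 exJ
  · dsimp
    rw [← F.map_comp, ← F.map_comp, c12]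
  · dsimp
    rw [← F.map_comp, ← F.map_comp, c23]

end Groth.Agent.S8354
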