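import Groth.Statements.S8361
import Mathlib
-- import your own Groth.Agent.* helpers here

set_option autoImplicit false
universe u
open CategoryTheory MonObj AlgebraicGeometry
open LieS

namespace Groth.Agent.S8361

open AlgebraicGeometry CategoryTheory

section Concrete
variable (B : Type u) [CommRing B]

theorem mulHom_fst (x : DualNumber B) : (LieS.mulHom B x).fst = TrivSqZeroExt.inl x.fst := by
  ext <;> simp [LieS.mulHom, LieS.dualHom_apply, TrivSqZeroExt.algebraMap_eq_inl']

theorem mulHom_snd (x : DualNumber B) : (LieS.mulHom B x).snd = TrivSqZeroExt.inr x.snd := by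
  ext <;> simp [LieS.mulHom, LieS.dualHom_apply, TrivSqZeroExt.algebraMap_eq_inl']

end Concrete

section Concrete2
variable (B : Type u) [CommRing B]

noncomputable def rho : LieS.D2 B →+* DualNumber B :=
  (TrivSqZeroExt.fstHom (DualNumber B) (DualNumber B) (DualNumber B)).toRingHom

noncomputable def rr (t : LieS.D2 B) : DualNumber B :=
  TrivSqZeroExt.inl t.fst.fst + TrivSqZeroExt.inr t.snd.snd

theorem isNilpotent_inr {R : Type u} [CommRing R] (m : R) :
    IsNilpotent (TrivSqZeroExt.inr m : DualNumber R) :=
  ⟨2, by rw [pow_two, TrivSqZeroExt.inr_mul_inr]⟩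

theorem ha_concrete (a : DualNumber B) : IsNilpotent (a - rho B (LieS.mulHom B a)) := by
  have h : a - rho B (LieS.mulHom B a) = TrivSqZeroExt.inr a.snd := by
    ext <;> simp [rho, mulHom_fst]
  rw [h]
  exact isNilpotent_inr _

theorem hb_concrete (a : DualNumber B) (t : LieS.D2 B) :
    rr B (LieS.mulHom B a * t) = a * rr B t := by
  ext
  · simp [rr, mulHom_fst]
  · simp [rr, mulHom_fst, mulHom_snd]

theorem hc_concrete (t : LieS.D2 B) : IsNilpotent (t - LieS.mulHom B (rr B t)) := by
  have h : t - LieS.mulHom B (rr B t) =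
      TrivSqZeroExt.inl (TrivSqZeroExt.inr t.fst.snd) + TrivSqZeroExt.inr (TrivSqZeroExt.inl t.snd.fst) := by
    apply TrivSqZeroExt.ext
    · ext <;> simp [rr, mulHom_fst]
    · ext <;> simp [rr, mulHom_snd]
  rw [h]
  have hcomm : ∀ x y : LieS.D2 B, Commute x y := fun x y => Commute.all x y
  refine (hcomm _ _).isNilpotent_add ?_ (isNilpotent_inr _)
  exact (isNilpotent_inr (t.fst.snd)).map (TrivSqZeroExt.inlHom (DualNumber B) (DualNumber B))

end Concrete2

theorem mem_iff_of_nilpotent_sub {R : Type*} [CommRing R] (P : Ideal R) [P.IsPrime] {a b : R}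
    (h : IsNilpotent (a - b)) : a ∈ P ↔ b ∈ P := by
  obtain ⟨n, hn⟩ := h
  have hab : a - b ∈ P := Ideal.IsPrime.mem_of_pow_mem inferInstance n (hn ▸ P.zero_mem)
  constructor
  · intro ha
    have h1 : b = a - (a - b) := by ring
    rw [h1]
    exact P.sub_mem ha hab
  · intro hb
    have h1 : a = (a - b) + b := by ring
    rw [h1]
    exact P.add_mem hab hb

set_option backward.isDefEq.respectTransparency.types false in
theorem epi_specMap_of_retraction {R S : CommRingCat.{u}} (f : R ⟶ S) (ρ : S →+* R) (r : S → R)
    (ha : ∀ a : R, IsNilpotent (a - ρ (f.hom a)))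
    (hb : ∀ (a : R) (t : S), r (f.hom a * t) = a * r t)
    (hc : ∀ t : S, IsNilpotent (t - f.hom (r t))) :
    Epi (Spec.map f) := by
  have hr0 : r 0 = 0 := by
    have h1 := hb 0 0
    simpa using h1
  have hs : Function.Surjective (PrimeSpectrum.comap f.hom) := by
    intro p
    refine ⟨PrimeSpectrum.comap ρ p, PrimeSpectrum.ext (Ideal.ext fun a => ?_)⟩
    change ρ (f.hom a) ∈ p.asIdeal ↔ a ∈ p.asIdeal
    exact (mem_iff_of_nilpotent_sub p.asIdeal (ha a)).symm
  have hinj : ∀ q : PrimeSpectrum S, Function.Injective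
      (Localization.localRingHom (PrimeSpectrum.comap f.hom q).asIdeal q.asIdeal f.hom rfl) := by
    intro q
    rw [injective_iff_map_eq_zero]
    intro x hx
    obtain ⟨a, s, rfl⟩ := IsLocalization.exists_mk'_eq
      (PrimeSpectrum.comap f.hom q).asIdeal.primeCompl x
    rw [Localization.localRingHom_mk', IsLocalization.mk'_eq_zero_iff] at hx
    obtain ⟨⟨t, ht⟩, hta⟩ := hx
    rw [IsLocalization.mk'_eq_zero_iff]
    have hrt : r t ∉ (PrimeSpectrum.comap f.hom q).asIdeal := by
      intro hmem
      have h1 : f.hom (r t) ∈ q.asIdeal := hmem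
      exact ht ((mem_iff_of_nilpotent_sub q.asIdeal (hc t)).2 h1)
    refine ⟨⟨r t, hrt⟩, ?_⟩
    change r t * a = 0
    have hta' : f.hom a * t = 0 := by
      rw [mul_comm]
      exact hta
    have h2 : r (f.hom a * t) = a * r t := hb a t
    rw [hta', hr0] at h2
    rw [mul_comm]
    exact h2.symm
  have hs' : Function.Surjective (Spec.map f) := hs
  apply CategoryTheory.Functor.epi_of_epi_map (Scheme.forgetToLocallyRingedSpace)
  apply CategoryTheory.Functor.epi_of_epi_map (LocallyRingedSpace.forgetToSheafedSpace)
  apply SheafedSpace.epi_of_base_surjective_of_stalk_mono _ hs'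
  intro x
  change Mono ((Spec.map f).stalkMap x)
  rw [← Scheme.localRingHom_comp_stalkIso]
  have h1 : Mono (CommRingCat.ofHom (Localization.localRingHom
      (PrimeSpectrum.comap f.hom x).asIdeal x.asIdeal f.hom rfl)) :=
    ConcreteCategory.mono_of_injective _ (hinj x)
  have h2 : Mono (CommRingCat.ofHom (Localization.localRingHom
      (PrimeSpectrum.comap f.hom x).asIdeal x.asIdeal f.hom rfl) ≫ (Spec.stalkIso S x).inv) :=
    mono_comp _ _
  exact mono_comp _ _

theorem epi_specMap_of_retraction' {A A' : Type u} [CommRing A] [CommRing A']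
    (φ : A →+* A') (ρ : A' →+* A) (r : A' → A)
    (ha : ∀ a : A, IsNilpotent (a - ρ (φ a)))
    (hb : ∀ (a : A) (t : A'), r (φ a * t) = a * r t)
    (hc : ∀ t : A', IsNilpotent (t - φ (r t))) :
    Epi (Spec.map (CommRingCat.ofHom φ)) :=
  epi_specMap_of_retraction (R := CommRingCat.of A) (S := CommRingCat.of A')
    (CommRingCat.ofHom φ) ρ r ha hb hc

theorem hepi_concrete (B : Type u) [CommRing B] :
    Epi (Spec.map (CommRingCat.ofHom (R := DualNumber B) (S := LieS.D2 B) (LieS.mulHom B))) := by
  refine epi_specMap_of_retraction' (A := DualNumber B) (A' := LieS.D2 B)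
    (LieS.mulHom B) (rho B) (rr B) ?_ ?_ ?_
  · intro a
    exact ha_concrete B a
  · intro a t
    exact hb_concrete B a t
  · intro t
    exact hc_concrete B t


/-- Uniqueness of the bracket: for a group scheme G over a scheme S and an affine S-scheme T = Spec B:
an element of Lie(G/S)(T) is determined by its pull-back along the coordinate-multiplying map from
the iterated dual numbers over T to the dual numbers over T; in particular the bracket of x and y,
the element whose pull-back is the commutator of x read in the second dual coordinate with y read in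
the first, is unique when it exists. -/
theorem result (S : Scheme.{u}) (G : Over S) [GrpObj G] (B : Type u) [CommRing B]
    (f : Spec (CommRingCat.of B) ⟶ S) (x y z z' : LieS.Lie G B f)
    (h : LieS.IsBracket G B f x y z) (h' : LieS.IsBracket G B f x y z') : z = z' := by
  have hepi := hepi_concrete B
  have e : LieS.mulMap B f ≫ z.1 = LieS.mulMap B f ≫ z'.1 := Eq.trans h (Eq.symm h')
  have e' : Spec.map (CommRingCat.ofHom (R := DualNumber B) (S := LieS.D2 B) (LieS.mulHom B)) ≫ z.1.left =
      Spec.map (CommRingCat.ofHom (R := DualNumber B) (S := LieS.D2 B) (LieS.mulHom B)) ≫ z'.1.left :=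
    congrArg CommaMorphism.left e
  have e'' : z.1.left = z'.1.left := hepi.left_cancellation _ _ e'
  exact Subtype.ext (Over.OverMorphism.ext e'')

end Groth.Agent.S8361
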