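import Groth.Statements.S8362
import Groth.Agent.H23.SqZero

set_option autoImplicit false
universe u
open CategoryTheory AlgebraicGeometry
open SGA3

namespace Groth.Agent.S8362

/-- Over an affine base S = Spec R with S₀ = Spec (R/J) for an ideal J of square zero: for an arbitrary
S-scheme X, every S-endomorphism of X inducing the identity on X ×_S S₀ is an automorphism. (The
published statement is over an arbitrary base scheme with a quasi-coherent ideal of square zero;
this row is its case of an affine base, to which it reduces since being an isomorphism is local on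
the base.) -/
theorem result (R : Type u) [CommRing R] (J : Ideal R) (hJ : J * J = ⊥)
    (X : Over (Spec (CommRingCat.of R))) (u : X ⟶ X)
    (h : (Over.pullback (Spec.map (CommRingCat.ofHom (Ideal.Quotient.mk J)))).map u = 𝟙 _) :
    IsIso u := by
  classical
  obtain ⟨i₀, hi₀⟩ : ∃ i₀ : Spec (CommRingCat.of (R ⧸ J)) ⟶ Spec (CommRingCat.of R),
      i₀ = Spec.map (CommRingCat.ofHom (Ideal.Quotient.mk J)) := ⟨_, rfl⟩
  rw [← hi₀] at h
  -- the reduction is the identity
  have hp : Limits.pullback.fst X.hom i₀ ≫ u.left = Limits.pullback.fst X.hom i₀ := by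
    have h1 := congrArg Over.Hom.left h
    have h2 : ((Over.pullback i₀).map u).left ≫ Limits.pullback.fst X.hom i₀ =
        Limits.pullback.fst X.hom i₀ ≫ u.left :=
      Limits.pullback.lift_fst _ _ _
    rw [h1] at h2
    simpa using h2.symm
  have hJnil : J ≤ nilradical R := by
    intro j hj
    rw [mem_nilradical]
    refine ⟨2, ?_⟩
    have : j * j ∈ J * J := Ideal.mul_mem_mul hj hj
    rw [hJ, Ideal.mem_bot] at this
    rw [pow_two, this]
  have hsurj : Surjective i₀ := by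
    rw [hi₀]
    constructor
    intro x
    obtain ⟨y, hy⟩ := (PrimeSpectrum.comap_quotientMk_bijective_of_le_nilradical hJnil).2 x
    exact ⟨y, hy⟩
  have hfx : ∀ x : X.left, u.left x = x := by
    intro x
    obtain ⟨x₀, rfl⟩ := (Limits.pullback.fst X.hom i₀).surjective x
    rw [← Scheme.Hom.comp_apply, hp]
  suffices hleft : IsIso u.left by
    have : IsIso ((Over.forget _).map u) := hleft
    exact isIso_of_reflects_iso u (Over.forget _)
  rw [← MorphismProperty.isomorphisms.iff]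
  refine (IsZariskiLocalAtTarget.iff_of_iSup_eq_top (P := MorphismProperty.isomorphisms Scheme)
    (fun U : X.left.affineOpens => U.1) (iSup_affineOpens_eq_top _)).mpr ?_
  intro U
  rw [MorphismProperty.isomorphisms.iff]
  have hfU : u.left ⁻¹ᵁ U.1 = U.1 := by
    ext x
    show u.left x ∈ U.1 ↔ x ∈ U.1
    rw [hfx]
  have hrange : Set.range (U.1.ι ≫ u.left) ⊆ Set.range U.1.ι := by
    rintro _ ⟨y, rfl⟩
    rw [Scheme.Hom.comp_apply, hfx]
    exact ⟨y, rfl⟩
  obtain ⟨uU, huU⟩ : ∃ uU : U.1.toScheme ⟶ U.1.toScheme, uU ≫ U.1.ι = U.1.ι ≫ u.left :=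
    ⟨IsOpenImmersion.lift U.1.ι (U.1.ι ≫ u.left) hrange, IsOpenImmersion.lift_fac _ _ _⟩
  obtain ⟨e, -⟩ : ∃ e : U.1.toScheme ≅ Spec Γ(X.left, U.1), e = U.2.isoSpec := ⟨_, rfl⟩
  obtain ⟨ψ, hψ⟩ : ∃ ψ : Γ(X.left, U.1) ⟶ Γ(X.left, U.1), Spec.map ψ = e.inv ≫ uU ≫ e.hom :=
    ⟨Spec.preimage _, Spec.map_preimage _⟩
  obtain ⟨α, hα⟩ : ∃ α : CommRingCat.of R ⟶ Γ(X.left, U.1),
      Spec.map α = e.inv ≫ U.1.ι ≫ X.hom := ⟨Spec.preimage _, Spec.map_preimage _⟩
  have hw : u.left ≫ X.hom = X.hom := Over.w u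
  -- (F1)
  have F1 : α ≫ ψ = α := by
    apply Spec.map_injective
    rw [Spec.map_comp, hψ, hα]
    simp only [Category.assoc, Iso.hom_inv_id_assoc]
    rw [reassoc_of% huU, hw]
  -- (F2)
  obtain ⟨N, hN⟩ : ∃ N : Ideal Γ(X.left, U.1), N = J.map α.hom := ⟨_, rfl⟩
  obtain ⟨mkN, hmkN⟩ : ∃ mkN : Γ(X.left, U.1) ⟶ CommRingCat.of (Γ(X.left, U.1) ⧸ N),
      mkN = CommRingCat.ofHom (Ideal.Quotient.mk N) := ⟨_, rfl⟩
  have hle : J ≤ N.comap α.hom := by rw [hN]; exact Ideal.le_comap_map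
  obtain ⟨β, hβ⟩ : ∃ β : CommRingCat.of (R ⧸ J) ⟶ CommRingCat.of (Γ(X.left, U.1) ⧸ N),
      β = CommRingCat.ofHom (Ideal.quotientMap N α.hom hle) := ⟨_, rfl⟩
  have hβmk : CommRingCat.ofHom (Ideal.Quotient.mk J) ≫ β = α ≫ mkN := by
    rw [hβ, hmkN]
    ext x
    simp
  have hq : (Spec.map mkN ≫ e.inv ≫ U.1.ι) ≫ X.hom = Spec.map β ≫ i₀ := by
    rw [hi₀, ← Spec.map_comp, hβmk, Spec.map_comp, hα]
    simp only [Category.assoc]
  have hqu : (Spec.map mkN ≫ e.inv ≫ U.1.ι) ≫ u.left = Spec.map mkN ≫ e.inv ≫ U.1.ι := by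
    have h3 : Limits.pullback.lift (Spec.map mkN ≫ e.inv ≫ U.1.ι) (Spec.map β) hq ≫
        Limits.pullback.fst X.hom i₀ = Spec.map mkN ≫ e.inv ≫ U.1.ι :=
      Limits.pullback.lift_fst _ _ _
    rw [← h3, Category.assoc, hp]
  have F2' : ψ ≫ mkN = mkN := by
    apply Spec.map_injective
    rw [Spec.map_comp, hψ]
    have : Mono (e.inv ≫ U.1.ι) := mono_comp _ _
    rw [← cancel_mono (e.inv ≫ U.1.ι)]
    simp only [Category.assoc, Iso.hom_inv_id_assoc]
    rw [huU]
    simpa only [Category.assoc] using hqu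
  have F2 : ∀ b : Γ(X.left, U.1), ψ.hom b - b ∈ J.map α.hom := by
    intro b
    rw [← hN]
    have h4 := congrArg (fun φ => φ.hom b) F2'
    simp only [hmkN, CommRingCat.hom_comp, CommRingCat.hom_ofHom, RingHom.comp_apply] at h4
    exact Ideal.Quotient.eq.mp h4
  have F1' : ∀ r : R, ψ.hom (α.hom r) = α.hom r := by
    intro r
    have h5 := congrArg (fun φ => φ.hom r) F1
    simpa using h5
  have hbij : Function.Bijective ψ.hom :=
    Groth.Agent.H23.SqZero.alg_bij α.hom J hJ ψ.hom F1' F2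
  have hψiso : IsIso ψ := (ConcreteCategory.isIso_iff_bijective ψ).mpr hbij
  have hwiso : IsIso (e.inv ≫ uU ≫ e.hom) := by
    rw [← hψ]
    infer_instance
  have huUiso : IsIso uU := by
    have h6 : uU = e.hom ≫ (e.inv ≫ uU ≫ e.hom) ≫ e.inv := by simp
    rw [h6]
    infer_instance
  have hres : u.left ∣_ U.1 = (X.left.isoOfEq hfU).hom ≫ uU := by
    rw [← cancel_mono U.1.ι, morphismRestrict_ι, Category.assoc, huU,
      Scheme.isoOfEq_hom_ι_assoc]
  rw [hres]
  infer_instance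

end Groth.Agent.S8362
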