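import Groth.Statements.S8364
import Mathlib

set_option autoImplicit false
universe u
open SGA3

namespace Groth.Agent.S8364

theorem bij_of_congr_id {R A : Type u} [CommRing R] [CommRing A] [Algebra R A] (J : Ideal R)
    (hJ : J * J = ⊥) (θ : A →ₐ[R] A) (hθ : ∀ a, θ a - a ∈ Ideal.map (algebraMap R A) J) :
    Function.Bijective θ := by
  let D : A →ₗ[R] A := θ.toLinearMap - LinearMap.id
  have hD : ∀ a, D a ∈ (J • ⊤ : Submodule R A) := by
    intro a
    rw [Ideal.smul_top_eq_map]
    exact hθ a
  have hD0 : ∀ x ∈ (J • ⊤ : Submodule R A), D x = 0 := by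
    intro x hx
    refine Submodule.smul_induction_on hx ?_ ?_
    · intro j hj a _
      rw [map_smul]
      have : j • D a ∈ (J • (J • ⊤ : Submodule R A)) := Submodule.smul_mem_smul hj (hD a)
      rw [← Submodule.mul_smul, hJ, Submodule.bot_smul] at this
      exact (Submodule.mem_bot R).1 this
    · intro x y hx hy
      rw [map_add, hx, hy, add_zero]
  have hDD : ∀ a, D (D a) = 0 := fun a => hD0 _ (hD a)
  have hθD : ∀ a, θ a = a + D a := by intro a; simp [D]
  constructor
  · intro a b hab
    have h1 : a + D a = b + D b := by rw [← hθD, ← hθD, hab]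
    have h2 : D a = D b := by
      have := congrArg D h1
      simpa [map_add, hDD] using this
    rw [h2] at h1
    exact add_right_cancel h1
  · intro b
    refine ⟨b - D b, ?_⟩
    rw [hθD, map_sub, hDD, sub_zero, sub_add_cancel]

/-- For a commutative ring R, an ideal J of R of square zero, a smooth R-algebra A and the extended
ideal I = J·A, every R-algebra automorphism of A/I lifts to an R-algebra automorphism of A. (The
published statement concerns the automorphism functor of a smooth affine S-scheme E and affine test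
schemes Y; this row is the case Y = S = Spec R, E = Spec A, which gives the general one after
replacing R by the ring of Y.) -/
theorem result (R A : Type u) [CommRing R] [CommRing A] [Algebra R A]
    [Algebra.Smooth R A] (J : Ideal R) (hJ : J * J = ⊥)
    (φ₀ : (A ⧸ Ideal.map (algebraMap R A) J) ≃ₐ[R] (A ⧸ Ideal.map (algebraMap R A) J)) :
    ∃ φ : A ≃ₐ[R] A,
      (Ideal.Quotient.mkₐ R (Ideal.map (algebraMap R A) J)).comp φ.toAlgHom =
        φ₀.toAlgHom.comp (Ideal.Quotient.mkₐ R (Ideal.map (algebraMap R A) J)) := by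
  have hI2 : (Ideal.map (algebraMap R A) J) ^ 2 = ⊥ := by
    rw [← Ideal.map_pow, pow_two, hJ, Ideal.map_bot]
  have hnil : IsNilpotent (Ideal.map (algebraMap R A) J) := ⟨2, hI2⟩
  obtain ⟨φ, hφ⟩ := Algebra.FormallySmooth.exists_lift (Ideal.map (algebraMap R A) J) hnil
    (φ₀.toAlgHom.comp (Ideal.Quotient.mkₐ R (Ideal.map (algebraMap R A) J)))
  obtain ⟨ψ, hψ⟩ := Algebra.FormallySmooth.exists_lift (Ideal.map (algebraMap R A) J) hnil
    (φ₀.symm.toAlgHom.comp (Ideal.Quotient.mkₐ R (Ideal.map (algebraMap R A) J)))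
  have e1 : ∀ a, Ideal.Quotient.mk (Ideal.map (algebraMap R A) J) (φ a) =
      φ₀ (Ideal.Quotient.mk _ a) := fun a => AlgHom.congr_fun hφ a
  have e2 : ∀ a, Ideal.Quotient.mk (Ideal.map (algebraMap R A) J) (ψ a) =
      φ₀.symm (Ideal.Quotient.mk _ a) := fun a => AlgHom.congr_fun hψ a
  have h1 : Function.Bijective (ψ.comp φ) := by
    apply bij_of_congr_id J hJ
    intro a
    rw [← Ideal.Quotient.eq]
    change Ideal.Quotient.mk _ (ψ (φ a)) = _
    rw [e2, e1, AlgEquiv.symm_apply_apply]
  have h2 : Function.Bijective (φ.comp ψ) := by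
    apply bij_of_congr_id J hJ
    intro a
    rw [← Ideal.Quotient.eq]
    change Ideal.Quotient.mk _ (φ (ψ a)) = _
    rw [e1, e2, AlgEquiv.apply_symm_apply]
  have hinj : Function.Injective φ := by
    intro a b hab
    apply h1.1
    change ψ (φ a) = ψ (φ b)
    rw [hab]
  have hsurj : Function.Surjective φ := by
    intro b
    obtain ⟨c, hc⟩ := h2.2 b
    exact ⟨ψ c, hc⟩
  refine ⟨AlgEquiv.ofBijective φ ⟨hinj, hsurj⟩, ?_⟩
  rw [← hφ]
  rfl

end Groth.Agent.S8364
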