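import Groth.Statements.S8369
import Mathlib.RingTheory.Smooth.Quotient

set_option autoImplicit false
universe u v
open SGA3

namespace Groth.Agent.S8369

/-- Let A be a commutative ring, J a nilpotent ideal, N ⊆ M A-modules with M/N flat over A. If elements
of N have images generating the image of N in M/JM, then they generate N. (The published statement
takes finitely many elements; this row allows an arbitrary set, which the same argument permits.) -/
theorem result (A : Type u) [CommRing A] (J : Ideal A) (hJ : IsNilpotent J)
    (M : Type v) [AddCommGroup M] [Module A M] (N : Submodule A M) [Module.Flat A (M ⧸ N)] (s : Set M)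
    (hs : s ⊆ N)
    (hgen : (Submodule.span A s).map (J • (⊤ : Submodule A M)).mkQ = N.map (J • (⊤ : Submodule A M)).mkQ) :
    Submodule.span A s = N := by
  have hle : Submodule.span A s ≤ N := Submodule.span_le.mpr hs
  have h1 : (J • ⊤ : Submodule A M) ⊔ Submodule.span A s = (J • ⊤) ⊔ N := by
    rw [← Submodule.comap_map_mkQ, ← Submodule.comap_map_mkQ, hgen]
  have hflat : N ⊓ (J • ⊤ : Submodule A M) = J • N := by
    have := LinearMap.ker_inf_smul_top_eq_smul_of_flat J N.mkQ N.mkQ_surjective
    rwa [Submodule.ker_mkQ] at this
  have h2 : N ≤ Submodule.span A s ⊔ J • N := by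
    intro x hx
    have hx' : x ∈ (J • ⊤ : Submodule A M) ⊔ Submodule.span A s := by
      rw [h1]; exact (le_sup_right : N ≤ _) hx
    obtain ⟨y, hy, z, hz, rfl⟩ := Submodule.mem_sup.mp hx'
    have hyN : y ∈ N ⊓ J • ⊤ :=
      ⟨by have := N.sub_mem hx (hle hz); simpa using this, hy⟩
    rw [hflat] at hyN
    exact Submodule.mem_sup.mpr ⟨z, hz, y, hyN, add_comm _ _⟩
  have h3 : ∀ k : ℕ, N ≤ Submodule.span A s ⊔ J ^ k • N := by
    intro k
    induction k with
    | zero => simp
    | succ k ih =>
      calc N ≤ Submodule.span A s ⊔ J • N := h2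
      _ ≤ Submodule.span A s ⊔ J • (Submodule.span A s ⊔ J ^ k • N) :=
          sup_le_sup_left (Submodule.smul_mono le_rfl ih) _
      _ = Submodule.span A s ⊔ (J • Submodule.span A s ⊔ J • J ^ k • N) := by
          rw [Submodule.smul_sup]
      _ ≤ Submodule.span A s ⊔ J ^ (k + 1) • N := by
          refine sup_le le_sup_left (sup_le (Submodule.smul_le_right.trans le_sup_left) ?_)
          rw [← Submodule.mul_smul, ← pow_succ']
          exact le_sup_right
  obtain ⟨k, hk⟩ := hJ
  apply le_antisymm hle
  have := h3 k
  rw [hk] at this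
  simpa using this

end Groth.Agent.S8369
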