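import Groth.Statements.S8370
import Mathlib
-- import your own Groth.Agent.* helpers here

set_option autoImplicit false
universe u
open CategoryTheory MonObj AlgebraicGeometry
open LieS

namespace Groth.Agent.S8370

open CategoryTheory.Limits

section Pre
variable {S : Scheme.{u}} (G : Over S) [GrpObj G]

/-- precomposition as a group homomorphism -/
noncomputable def pre {T T' : Over S} (g : T' ⟶ T) : (T ⟶ G) →* (T' ⟶ G) :=
  ((yonedaGrpObj G).map g.op).hom

theorem pre_apply {T T' : Over S} (g : T' ⟶ T) (v : T ⟶ G) : pre G g v = g ≫ v := rfl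

end Pre

section Rings
variable {B : Type u} [CommRing B] {C : Type u} [CommRing C]

theorem dual_decomp (z : DualNumber B) :
    z = algebraMap B (DualNumber B) z.fst + algebraMap B (DualNumber B) z.snd * DualNumber.eps := by
  ext <;> simp [TrivSqZeroExt.algebraMap_eq_inl']

theorem section_comp_bcHom (ψ : DualNumber B →+* C) :
    (LieS.dualHom (RingHom.id C) (ψ DualNumber.eps)
        (by rw [← map_mul, LieS.eps_sq, map_zero])).comp
      (LieS.bcHom (ψ.comp (algebraMap B (DualNumber B)))) = ψ := by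
  refine RingHom.ext fun z => ?_
  have h1 : (LieS.dualHom (RingHom.id C) (ψ DualNumber.eps)
        (by rw [← map_mul, LieS.eps_sq, map_zero]))
      (LieS.bcHom (ψ.comp (algebraMap B (DualNumber B))) z) =
      ψ (algebraMap B (DualNumber B) z.fst) + ψ (algebraMap B (DualNumber B) z.snd) * ψ DualNumber.eps := by
    simp [LieS.bcHom, TrivSqZeroExt.algebraMap_eq_inl']
  rw [RingHom.comp_apply, h1]
  conv_rhs => rw [dual_decomp z]
  rw [map_add, map_mul]

end Rings

section Affine
variable {S : Scheme.{u}} (G K : Over S) [GrpObj G] [GrpObj K] (i : K ⟶ G) [IsMonHom i]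
  (B : Type u) [CommRing B] (f : Spec (CommRingCat.of B) ⟶ S) (x : LieS.Lie G B f)

theorem affine_case
    (hR : ∀ (B' : Type u) [CommRing B'] (h : B →+* B')
      (k : LieS.pt B' (Spec.map (CommRingCat.ofHom h) ≫ f) ⟶ K),
      LieS.Ad G B' (Spec.map (CommRingCat.ofHom h) ≫ f) (k ≫ i) (LieS.pull G f h x) =
        LieS.pull G f h x)
    (C : CommRingCat.{u}) (g : Spec C ⟶ S) (y : Over.mk g ⟶ LieS.dpt B f) (h : Over.mk g ⟶ K) :
    (y ≫ x.1) * (h ≫ i) = (h ≫ i) * (y ≫ x.1) := by
  let yl : Spec C ⟶ Spec (CommRingCat.of (DualNumber B)) := y.left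
  let ψ : DualNumber B →+* C := (Spec.preimage yl).hom
  have hψ : Spec.map (CommRingCat.ofHom ψ) = yl := Spec.map_preimage yl
  let hh : B →+* C := ψ.comp (algebraMap B (DualNumber B))
  let f' : Spec (CommRingCat.of C) ⟶ S := Spec.map (CommRingCat.ofHom hh) ≫ f
  have hw : yl ≫ (Spec.map (CommRingCat.ofHom (algebraMap B (DualNumber B))) ≫ f) = g :=
    Over.w y
  have hg : f' = g := by
    have e1 : Spec.map (CommRingCat.ofHom hh) = Spec.map (CommRingCat.ofHom ψ) ≫
        Spec.map (CommRingCat.ofHom (algebraMap B (DualNumber B))) := (LieS.specMap_comp _ _).symm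
    calc f' = (Spec.map (CommRingCat.ofHom ψ) ≫
          Spec.map (CommRingCat.ofHom (algebraMap B (DualNumber B)))) ≫ f := congrArg (· ≫ f) e1
      _ = Spec.map (CommRingCat.ofHom ψ) ≫
          (Spec.map (CommRingCat.ofHom (algebraMap B (DualNumber B))) ≫ f) := Category.assoc _ _ _
      _ = yl ≫ (Spec.map (CommRingCat.ofHom (algebraMap B (DualNumber B))) ≫ f) := by rw [hψ]
      _ = g := hw
  let θ : LieS.pt C f' ⟶ Over.mk g :=
    Over.homMk (U := LieS.pt C f') (V := Over.mk g) (𝟙 (Spec C)) ((Category.id_comp g).trans hg.symm)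
  let θinv : Over.mk g ⟶ LieS.pt C f' :=
    Over.homMk (U := Over.mk g) (V := LieS.pt C f') (𝟙 (Spec C)) ((Category.id_comp f').trans hg)
  have hθ : θinv ≫ θ = 𝟙 _ := Over.OverMorphism.ext (Category.id_comp _)
  have hc : ψ DualNumber.eps * ψ DualNumber.eps = 0 := by
    rw [← map_mul, LieS.eps_sq, map_zero]
  let σ : LieS.pt C f' ⟶ LieS.dpt C f' :=
    Over.homMk (Spec.map (CommRingCat.ofHom (LieS.dualHom (RingHom.id C) (ψ DualNumber.eps) hc))) (by
      change Spec.map _ ≫ Spec.map _ ≫ f' = f'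
      rw [← Category.assoc, LieS.specMap_comp, LieS.dualHom_comp_algebraMap, CommRingCat.ofHom_id]
      erw [Spec.map_id]
      exact Category.id_comp f')
  have σ_proj : σ ≫ LieS.proj C f' = 𝟙 _ := by
    apply Over.OverMorphism.ext
    change Spec.map _ ≫ Spec.map _ = 𝟙 _
    rw [LieS.specMap_comp, LieS.dualHom_comp_algebraMap, CommRingCat.ofHom_id]
    erw [Spec.map_id]
  have σ_dpt : σ ≫ LieS.dptMap f hh = θ ≫ y := by
    apply Over.OverMorphism.ext
    change Spec.map _ ≫ Spec.map _ = 𝟙 _ ≫ yl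
    rw [Category.id_comp, ← hψ]
    exact (LieS.specMap_comp _ _).trans
      (congrArg (fun r => Spec.map (CommRingCat.ofHom r)) (section_comp_bcHom ψ))
  let k : LieS.pt C f' ⟶ K := θ ≫ h
  have E1 := congrArg Subtype.val (hR C hh k)
  have E1' : (LieS.proj C f' ≫ (k ≫ i)) * (LieS.dptMap f hh ≫ x.1) *
      (LieS.proj C f' ≫ (k ≫ i))⁻¹ = LieS.dptMap f hh ≫ x.1 := E1
  have E2 : (σ ≫ LieS.proj C f' ≫ (k ≫ i)) * (σ ≫ LieS.dptMap f hh ≫ x.1) *
      (σ ≫ LieS.proj C f' ≫ (k ≫ i))⁻¹ = σ ≫ LieS.dptMap f hh ≫ x.1 := by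
    have h2 := congrArg (pre G σ) E1'
    rw [map_mul, map_mul, map_inv] at h2
    exact h2
  have a1 : σ ≫ LieS.proj C f' ≫ (k ≫ i) = θ ≫ (h ≫ i) := by
    rw [← Category.assoc, σ_proj, Category.id_comp, Category.assoc]
  have a2 : σ ≫ LieS.dptMap f hh ≫ x.1 = θ ≫ (y ≫ x.1) := by
    rw [← Category.assoc, σ_dpt, Category.assoc]
  rw [a1, a2] at E2
  have E3 : pre G θ ((h ≫ i) * (y ≫ x.1) * (h ≫ i)⁻¹) = pre G θ (y ≫ x.1) := by
    rw [map_mul, map_mul, map_inv]
    exact E2
  have E4 := congrArg (pre G θinv) E3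
  have hcancel : ∀ v : Over.mk g ⟶ G, pre G θinv (pre G θ v) = v := fun v => by
    change θinv ≫ θ ≫ v = v
    rw [← Category.assoc, hθ, Category.id_comp]
  rw [hcancel, hcancel] at E4
  exact (mul_inv_eq_iff_eq_mul.1 E4).symm

end Affine

/-- For a group scheme G over a scheme S (the group law of the Lie algebra functor of a group scheme is
commutative, which the published statement assumes), a sub-group-scheme K of G given by a
monomorphic homomorphism i, and an affine S-scheme T = Spec B: an element x of Lie(G/S)(T) belongs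
to the Lie algebra of the centraliser of K, i.e. the point x of G with values in the dual numbers
I_T commutes with every point of K with values in any scheme over I_T, if and only if x is fixed by
the adjoint action of every point of K with values in an affine scheme T' = Spec B' over T (acting
on the restriction of x to T'). -/
theorem result (S : Scheme.{u}) (G K : Over S) [GrpObj G] [GrpObj K] (i : K ⟶ G)
    [IsMonHom i] [Mono i] (B : Type u) [CommRing B] (f : Spec (CommRingCat.of B) ⟶ S) (x : LieS.Lie G B f) :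
    (∀ (X' : Over S) (y : X' ⟶ LieS.dpt B f) (h : X' ⟶ K), (y ≫ x.1) * (h ≫ i) = (h ≫ i) * (y ≫ x.1)) ↔
    (∀ (B' : Type u) [CommRing B'] (h : B →+* B')
      (k : LieS.pt B' (Spec.map (CommRingCat.ofHom h) ≫ f) ⟶ K),
      LieS.Ad G B' (Spec.map (CommRingCat.ofHom h) ≫ f) (k ≫ i) (LieS.pull G f h x) = LieS.pull G f h x) := by
  constructor
  · intro hL B' _ hh k
    apply Subtype.ext
    have hcomm := hL (LieS.dpt B' (Spec.map (CommRingCat.ofHom hh) ≫ f)) (LieS.dptMap f hh)
      (LieS.proj B' (Spec.map (CommRingCat.ofHom hh) ≫ f) ≫ k)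
    have hassoc : (LieS.proj B' (Spec.map (CommRingCat.ofHom hh) ≫ f) ≫ k) ≫ i =
        LieS.proj B' (Spec.map (CommRingCat.ofHom hh) ≫ f) ≫ (k ≫ i) := Category.assoc _ _ _
    rw [hassoc] at hcomm
    change (LieS.proj B' (Spec.map (CommRingCat.ofHom hh) ≫ f) ≫ (k ≫ i)) *
        (LieS.dptMap f hh ≫ x.1) *
        (LieS.proj B' (Spec.map (CommRingCat.ofHom hh) ≫ f) ≫ (k ≫ i))⁻¹ = LieS.dptMap f hh ≫ x.1
    rw [mul_inv_eq_iff_eq_mul]
    exact hcomm.symm
  · intro hR X' y h
    apply Over.OverMorphism.ext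
    refine Scheme.Cover.hom_ext X'.left.affineOpenCover.openCover _ _ (fun j => ?_)
    let C : CommRingCat.{u} := X'.left.affineOpenCover.X j
    let jj : Spec C ⟶ X'.left := X'.left.affineOpenCover.f j
    let ιo : Over.mk (jj ≫ X'.hom) ⟶ X' := Over.homMk jj rfl
    have key := affine_case G K i B f x hR C (jj ≫ X'.hom) (ιo ≫ y) (ιo ≫ h)
    have e1 : pre G ιo ((y ≫ x.1) * (h ≫ i)) = pre G ιo ((h ≫ i) * (y ≫ x.1)) := by
      rw [map_mul, map_mul]
      change (ιo ≫ y ≫ x.1) * (ιo ≫ h ≫ i) = (ιo ≫ h ≫ i) * (ιo ≫ y ≫ x.1)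
      rw [← Category.assoc, ← Category.assoc]
      exact key
    exact congrArg CommaMorphism.left e1

end Groth.Agent.S8370
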