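import Groth.Statements.S8371
import Mathlib
-- import your own Groth.Agent.* helpers here

set_option autoImplicit false
universe u
open CategoryTheory MonObj AlgebraicGeometry
open LieS

namespace Groth.Agent.S8371


/-- The sequence of Lie algebras, with M = O_S: if 1 → G' → G → G'' → 1 is a sequence of homomorphisms
of group schemes over a scheme S which is exact on points with values in every S-scheme, then for
every affine S-scheme T = Spec B the derived morphisms give an exact sequence 1 → Lie(G'/S)(T) →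
Lie(G/S)(T) → Lie(G''/S)(T) → 1: the first is injective, the second surjective, and the kernel of
the second is the image of the first. -/
theorem result (S : Scheme.{u}) (G' G G'' : Over S) [GrpObj G'] [GrpObj G] [GrpObj G'']
    (i : G' ⟶ G) [IsMonHom i] (q : G ⟶ G'') [IsMonHom q]
    (hex : ∀ T : Over S, Function.Injective (fun a : T ⟶ G' => a ≫ i) ∧
      Function.Surjective (fun b : T ⟶ G => b ≫ q) ∧ ∀ b : T ⟶ G, b ≫ q = 1 ↔ ∃ a : T ⟶ G', a ≫ i = b)
    (B : Type u) [CommRing B] (f : Spec (CommRingCat.of B) ⟶ S) :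
    Function.Injective (LieS.map B f i) ∧ Function.Surjective (LieS.map B f q) ∧
      ∀ v : LieS.Lie G B f, LieS.map B f q v = 1 ↔ ∃ w : LieS.Lie G' B f, LieS.map B f i w = v := by
  obtain ⟨hinj_d, hsurj_d, hker_d⟩ := hex (LieS.dpt B f)
  obtain ⟨hinj_p, _, _⟩ := hex (LieS.pt B f)
  refine ⟨?_, ?_, ?_⟩
  · intro w w' h
    apply Subtype.ext
    apply hinj_d
    exact congrArg Subtype.val h
  · intro v''
    obtain ⟨b, hb⟩ := hsurj_d v''.1
    have hb' : b ≫ q = v''.1 := hb
    have hv'' : LieS.zeroSec B f ≫ v''.1 = 1 := (LieS.mem_Lie_iff G'' B f v''.1).1 v''.2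
    let b₀ : LieS.pt B f ⟶ G := LieS.zeroSec B f ≫ b
    let c : LieS.dpt B f ⟶ G := LieS.proj B f ≫ b₀
    have hb₀ : b₀ ≫ q = 1 := by
      change (LieS.zeroSec B f ≫ b) ≫ q = 1
      rw [Category.assoc, hb']
      exact hv''
    have hp1 : LieS.proj B f ≫ (1 : LieS.pt B f ⟶ G'') = 1 :=
      ((yonedaGrpObj G'').map (LieS.proj B f).op).hom.map_one
    have hc : c ≫ q = 1 := by
      change (LieS.proj B f ≫ b₀) ≫ q = 1
      rw [Category.assoc, hb₀]
      exact hp1
    have hrc : LieS.res G B f c = LieS.res G B f b := by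
      change LieS.zeroSec B f ≫ LieS.proj B f ≫ (LieS.zeroSec B f ≫ b) = LieS.zeroSec B f ≫ b
      rw [← Category.assoc, LieS.zeroSec_proj, Category.id_comp]
    have hmem : b * c⁻¹ ∈ LieS.Lie G B f := by
      show LieS.res G B f (b * c⁻¹) = 1
      rw [map_mul, map_inv, hrc, mul_inv_cancel]
    have hQ : (b * c⁻¹) ≫ q = (b ≫ q) * (c ≫ q)⁻¹ := by
      have h1 := map_mul (IsMonHom.monoidHom q (LieS.dpt B f)) b c⁻¹
      rw [map_inv] at h1
      exact h1
    refine ⟨⟨b * c⁻¹, hmem⟩, Subtype.ext ?_⟩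
    change (b * c⁻¹) ≫ q = v''.1
    rw [hQ, hc, hb', inv_one, _root_.mul_one]
  · intro v
    constructor
    · intro hv
      have hv' : v.1 ≫ q = 1 := congrArg Subtype.val hv
      obtain ⟨a, ha⟩ := (hker_d v.1).1 hv'
      have hmem : a ∈ LieS.Lie G' B f := by
        rw [LieS.mem_Lie_iff]
        apply hinj_p
        change (LieS.zeroSec B f ≫ a) ≫ i = 1 ≫ i
        have h1 : (1 : LieS.pt B f ⟶ G') ≫ i = 1 := (IsMonHom.monoidHom i (LieS.pt B f)).map_one
        rw [Category.assoc, ha, h1]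
        exact (LieS.mem_Lie_iff G B f v.1).1 v.2
      exact ⟨⟨a, hmem⟩, Subtype.ext ha⟩
    · rintro ⟨w, rfl⟩
      apply Subtype.ext
      change (w.1 ≫ i) ≫ q = 1
      exact (hker_d (w.1 ≫ i)).2 ⟨w.1, rfl⟩

end Groth.Agent.S8371
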