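import Groth.Statements.S8375
import Mathlib
-- import your own Groth.Agent.* helpers here

set_option autoImplicit false
universe u
open scoped TensorProduct
open SGA3t2b

namespace Groth.Agent.S8375

open Polynomial TensorProduct

theorem charpoly_comp_comm {K V W : Type*} [Field K] [AddCommGroup V] [Module K V]
    [Module.Finite K V] [AddCommGroup W] [Module K W] [Module.Finite K W]
    (F : V →ₗ[K] W) (G : W →ₗ[K] V) :
    (X : K[X]) ^ Module.finrank K V * (F ∘ₗ G).charpoly =
      X ^ Module.finrank K W * (G ∘ₗ F).charpoly := by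
  classical
  let bV := Module.finBasis K V
  let bW := Module.finBasis K W
  have h1 : (F ∘ₗ G).charpoly =
      (LinearMap.toMatrix bV bW F * LinearMap.toMatrix bW bV G).charpoly := by
    rw [← LinearMap.toMatrix_comp bW bV bW, LinearMap.charpoly_toMatrix]
  have h2 : (G ∘ₗ F).charpoly =
      (LinearMap.toMatrix bW bV G * LinearMap.toMatrix bV bW F).charpoly := by
    rw [← LinearMap.toMatrix_comp bV bW bV, LinearMap.charpoly_toMatrix]
  rw [h1, h2]
  have := Matrix.charpoly_mul_comm' (LinearMap.toMatrix bV bW F) (LinearMap.toMatrix bW bV G)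
  simpa using this

theorem ad_tmul_eq {A : Type u} [CommRing A] {L : Type u} [LieRing L] [LieAlgebra A L]
    (K : Type u) [CommRing K] [Algebra A K] (a : L) :
    (LieAlgebra.ad K (K ⊗[A] L) ((1 : K) ⊗ₜ[A] a) : (K ⊗[A] L) →ₗ[K] (K ⊗[A] L)) =
      (LieAlgebra.ad A L a : L →ₗ[A] L).baseChange K := by
  ext y
  simp [LieAlgebra.ExtendScalars.bracket_tmul]


/-- Over an affine base Spec A: let L be a Lie algebra over A which is a finitely generated projective
A-module, such that the nilpotent rank of the fibre Lie algebras κ(p) ⊗ L is a locally constant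
function of p ∈ Spec A. Then for every a ∈ L the set of primes p at which 1 ⊗ a is a regular element
of κ(p) ⊗ L is open in Spec A. (The published statement is over an arbitrary base and first asserts
that the locus of regular elements in the vector bundle of L is open; this row states its
consequence for a given section a, over an affine base.) -/
theorem result {A : Type u} [CommRing A] {L : Type u} [LieRing L]
    [LieAlgebra A L] [Module.Finite A L] [Module.Projective A L]
    (hC0 : ∀ p : PrimeSpectrum A, ∃ f : A, f ∉ p.asIdeal ∧ ∀ q : PrimeSpectrum A, f ∉ q.asIdeal →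
        LieAlgebra.rank q.asIdeal.ResidueField (q.asIdeal.ResidueField ⊗[A] L) =
          LieAlgebra.rank p.asIdeal.ResidueField (p.asIdeal.ResidueField ⊗[A] L)) (a : L) :
    IsOpen {p : PrimeSpectrum A |
      LieAlgebra.IsRegular p.asIdeal.ResidueField ((1 : p.asIdeal.ResidueField) ⊗ₜ[A] a)} := by
  classical
  have hfp : Module.FinitePresentation A L := Module.finitePresentation_of_projective A L
  obtain ⟨n, π, i, hπ, hi, hπi⟩ := Module.Finite.exists_comp_eq_id_of_projective A L
  set T : L →ₗ[A] L := (LieAlgebra.ad A L a : L →ₗ[A] L) with hT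
  set M : (Fin n → A) →ₗ[A] (Fin n → A) := i ∘ₗ T ∘ₗ π with hM
  have key : ∀ q : PrimeSpectrum A,
      (X : q.asIdeal.ResidueField[X]) ^ n *
        (LieAlgebra.ad q.asIdeal.ResidueField (q.asIdeal.ResidueField ⊗[A] L)
          ((1 : q.asIdeal.ResidueField) ⊗ₜ[A] a)).charpoly =
      X ^ (Module.rankAtStalk L q) * M.charpoly.map (algebraMap A q.asIdeal.ResidueField) := by
    intro q
    have : Nontrivial A := (algebraMap A q.asIdeal.ResidueField).domain_nontrivial
    have h1 := charpoly_comp_comm (K := q.asIdeal.ResidueField)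
      ((i.baseChange q.asIdeal.ResidueField) ∘ₗ (T.baseChange q.asIdeal.ResidueField))
      (π.baseChange q.asIdeal.ResidueField)
    have h2 : ((i.baseChange q.asIdeal.ResidueField) ∘ₗ (T.baseChange q.asIdeal.ResidueField)) ∘ₗ
        (π.baseChange q.asIdeal.ResidueField) = M.baseChange q.asIdeal.ResidueField := by
      rw [hM, LinearMap.baseChange_comp, LinearMap.baseChange_comp, LinearMap.comp_assoc]
    have h3 : (π.baseChange q.asIdeal.ResidueField) ∘ₗ
        ((i.baseChange q.asIdeal.ResidueField) ∘ₗ (T.baseChange q.asIdeal.ResidueField)) =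
        T.baseChange q.asIdeal.ResidueField := by
      rw [← LinearMap.comp_assoc, ← LinearMap.baseChange_comp, hπi, LinearMap.baseChange_id,
        LinearMap.id_comp]
    rw [h2, h3, LinearMap.charpoly_baseChange] at h1
    have h4 : Module.finrank q.asIdeal.ResidueField
        (q.asIdeal.ResidueField ⊗[A] (Fin n → A)) = n := by
      rw [Module.finrank_baseChange]; simp
    have h5 : Module.finrank q.asIdeal.ResidueField (q.asIdeal.ResidueField ⊗[A] L) =
        Module.rankAtStalk L q := (Module.rankAtStalk_eq q).symm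
    rw [h4, h5] at h1
    rw [ad_tmul_eq]
    exact h1.symm
  have hopen : ∀ g : A, IsOpen {q : PrimeSpectrum A | g ∉ q.asIdeal} :=
    fun g => (PrimeSpectrum.basicOpen g).isOpen
  rw [isOpen_iff_forall_mem_open]
  intro p hp
  obtain ⟨f, hfp, hf⟩ := hC0 p
  set r := LieAlgebra.rank p.asIdeal.ResidueField (p.asIdeal.ResidueField ⊗[A] L) with hr
  set d := Module.rankAtStalk L p with hd
  set c : A := if d ≤ r + n then M.charpoly.coeff (r + n - d) else 0 with hc
  have hN : ∀ q : PrimeSpectrum A, f ∉ q.asIdeal → Module.rankAtStalk L q = d →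
      (LieAlgebra.IsRegular q.asIdeal.ResidueField ((1 : q.asIdeal.ResidueField) ⊗ₜ[A] a) ↔
        c ∉ q.asIdeal) := by
    intro q hfq hdq
    rw [LieAlgebra.isRegular_def, hf q hfq]
    have hk := congrArg (fun P => Polynomial.coeff P (r + n)) (key q)
    simp only [Polynomial.coeff_X_pow_mul] at hk
    rw [hdq, Polynomial.coeff_X_pow_mul'] at hk
    rw [hk]
    by_cases hdr : d ≤ r + n
    · rw [if_pos hdr, Polynomial.coeff_map, hc, if_pos hdr, Ne,
        Ideal.algebraMap_residueField_eq_zero]
    · rw [if_neg hdr, hc, if_neg hdr]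
      simp
  refine ⟨{q | c ∉ q.asIdeal} ∩ ({q | f ∉ q.asIdeal} ∩ {q | Module.rankAtStalk L q = d}),
    ?_, ?_, ?_⟩
  · rintro q ⟨hcq, hfq, hdq⟩
    exact (hN q hfq hdq).mpr hcq
  · exact (hopen c).inter ((hopen f).inter
      ((Module.isLocallyConstant_rankAtStalk).isOpen_fiber d))
  · exact ⟨(hN p hfp rfl).mp hp, hfp, rfl⟩

end Groth.Agent.S8375
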