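import Groth.Statements.S8373
import Mathlib
import Groth.Agent.S8375
-- import your own Groth.Agent.* helpers here

set_option autoImplicit false
universe u
open scoped TensorProduct
open SGA3t2b

namespace Groth.Agent.S8373

open Polynomial TensorProduct

section lemmas

variable {A : Type u} [CommRing A]

theorem nilp_of_fibres {n : ℕ} (M : (Fin n → A) →ₗ[A] (Fin n → A))
    (h : ∀ p : PrimeSpectrum A, IsNilpotent (M.baseChange p.asIdeal.ResidueField)) :
    IsNilpotent M := by
  have hR : IsNilpotent (M.charpoly - X ^ n) := by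
    rw [Polynomial.isNilpotent_iff]
    intro j
    rw [nilpotent_iff_mem_prime]
    intro J hJ
    have : Nontrivial A := (algebraMap A J.ResidueField).domain_nontrivial
    have h1 := (h ⟨J, hJ⟩).charpoly_eq_X_pow_finrank
    rw [LinearMap.charpoly_baseChange] at h1
    have h2 : Module.finrank J.ResidueField (J.ResidueField ⊗[A] (Fin n → A)) = n := by
      rw [Module.finrank_baseChange]; simp
    rw [h2] at h1
    have h3 := congrArg (fun Q => Polynomial.coeff Q j) h1
    simp only [Polynomial.coeff_map] at h3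
    rw [← Ideal.algebraMap_residueField_eq_zero (I := J), Polynomial.coeff_sub, map_sub, h3]
    simp only [Polynomial.coeff_X_pow]
    split_ifs <;> simp
  obtain ⟨e, he⟩ := hR
  have hdvd : M.charpoly ∣ (X ^ n) ^ e := by
    have h4 := sub_dvd_pow_sub_pow (X ^ n : A[X]) (X ^ n - M.charpoly) e
    rw [sub_sub_cancel] at h4
    have hy : (X ^ n - M.charpoly : A[X]) ^ e = 0 := by
      rw [← neg_sub, neg_pow, he, mul_zero]
    rwa [hy, sub_zero] at h4
  obtain ⟨Q, hQ⟩ := hdvd
  refine ⟨n * e, ?_⟩
  have h5 := congrArg (Polynomial.aeval M) hQ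
  rw [map_mul, LinearMap.aeval_self_charpoly, zero_mul, map_pow, map_pow, Polynomial.aeval_X,
    ← pow_mul] at h5
  exact h5

theorem surj_of_fibres {Q : Type*} [AddCommGroup Q] [Module A Q] [Module.Finite A Q]
    (S : Q →ₗ[A] Q)
    (h : ∀ p : PrimeSpectrum A, Function.Surjective (S.baseChange p.asIdeal.ResidueField)) :
    Function.Surjective S := by
  rw [← LinearMap.range_eq_top, ← Submodule.Quotient.subsingleton_iff,
    ← Module.support_eq_empty_iff (R := A), Set.eq_empty_iff_forall_notMem]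
  intro p hp
  rw [Module.mem_support_iff_nontrivial_residueField_tensorProduct] at hp
  have hsub : Subsingleton (p.asIdeal.ResidueField ⊗[A] (Q ⧸ LinearMap.range S)) := by
    have h1 : Function.Surjective
        ((LinearMap.range S).mkQ.baseChange p.asIdeal.ResidueField) := by
      rw [LinearMap.baseChange_eq_ltensor]
      exact LinearMap.lTensor_surjective _ (Submodule.mkQ_surjective _)
    have h2 : (LinearMap.range S).mkQ.baseChange p.asIdeal.ResidueField ∘ₗ
        S.baseChange p.asIdeal.ResidueField = 0 := by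
      rw [← LinearMap.baseChange_comp, LinearMap.range_mkQ_comp, LinearMap.baseChange_zero]
    have hz : ∀ z, z = (0 : p.asIdeal.ResidueField ⊗[A] (Q ⧸ LinearMap.range S)) := by
      intro z
      obtain ⟨w, rfl⟩ := h1 z
      obtain ⟨v, rfl⟩ := h p w
      exact LinearMap.congr_fun h2 v
    exact ⟨fun x y => by rw [hz x, hz y]⟩
  exact (not_nontrivial_iff_subsingleton.mpr hsub) hp

theorem conj_pow {R V W : Type*} [CommRing R] [AddCommGroup V] [Module R V]
    [AddCommGroup W] [Module R W]
    (P : V →ₗ[R] W) (Rr : W →ₗ[R] V) (hRP : Rr ∘ₗ P = LinearMap.id) (S : V →ₗ[R] V) (j : ℕ) :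
    ((P ∘ₗ S ∘ₗ Rr : Module.End R W)) ^ (j + 1) = P ∘ₗ ((S : Module.End R V) ^ (j + 1)) ∘ₗ Rr := by
  have hrp : ∀ z, Rr (P z) = z := fun z => LinearMap.congr_fun hRP z
  induction j with
  | zero => simp
  | succ j ih =>
    rw [pow_succ, ih, pow_succ (S : Module.End R V) (j + 1)]
    refine LinearMap.ext fun v => ?_
    simp only [Module.End.mul_apply, LinearMap.comp_apply]
    rw [hrp]

variable {L : Type u} [LieRing L] [LieAlgebra A L]

theorem coe_pow_ad (H : LieSubalgebra A L) (x : H) (k : ℕ) (h : H) :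
    ((LieAlgebra.ad A L (x : L)) ^ k) (h : L) = (((LieAlgebra.ad A H x) ^ k) h : H) := by
  induction k with
  | zero => simp
  | succ k ih =>
    rw [pow_succ', Module.End.mul_apply, ih, pow_succ', Module.End.mul_apply]
    simp [LieAlgebra.ad_apply]

theorem fibre_facts (K : Type u) [Field K] [Algebra A K] [Module.Finite A L]
    (H : LieSubalgebra A L) (x : L) (hxH : x ∈ H)
    (hn : LieRing.IsNilpotent (K ⊗[A] H))
    (hr : Module.finrank K (LinearMap.range ((H.incl : H →ₗ[A] L).baseChange K)) =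
      LieAlgebra.rank K (K ⊗[A] L))
    (hq : LieAlgebra.IsRegular K ((1 : K) ⊗ₜ[A] x)) :
    IsNilpotent ((LieAlgebra.ad A H ⟨x, hxH⟩ : H →ₗ[A] H).baseChange K) ∧
    ∀ z : K ⊗[A] L, ∃ w : K ⊗[A] L,
      ((LieAlgebra.ad A L x : L →ₗ[A] L).baseChange K) w - z ∈
        LinearMap.range ((H.incl : H →ₗ[A] L).baseChange K) := by
  classical
  set TK : (K ⊗[A] L) →ₗ[K] (K ⊗[A] L) :=
    (LieAlgebra.ad A L x : L →ₗ[A] L).baseChange K with hTK
  set THK : (K ⊗[A] H) →ₗ[K] (K ⊗[A] H) :=
    (LieAlgebra.ad A H ⟨x, hxH⟩ : H →ₗ[A] H).baseChange K with hTHK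
  set iK := (H.incl : H →ₗ[A] L).baseChange K with hiK
  have hadL : (LieAlgebra.ad K (K ⊗[A] L) ((1 : K) ⊗ₜ[A] x) :
      (K ⊗[A] L) →ₗ[K] (K ⊗[A] L)) = TK := Groth.Agent.S8375.ad_tmul_eq K x
  have hadH : (LieAlgebra.ad K (K ⊗[A] H) ((1 : K) ⊗ₜ[A] (⟨x, hxH⟩ : H)) :
      (K ⊗[A] H) →ₗ[K] (K ⊗[A] H)) = THK := Groth.Agent.S8375.ad_tmul_eq K (⟨x, hxH⟩ : H)
  have hnil : IsNilpotent THK := by
    have := hn
    obtain ⟨k, hk⟩ := LieAlgebra.nilpotent_ad_of_nilpotent_algebra K (K ⊗[A] H)
    exact ⟨k, by rw [← hadH]; exact hk _⟩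
  refine ⟨hnil, ?_⟩
  obtain ⟨k, hk⟩ := hnil
  have hint : ∀ j : ℕ, (TK ^ j) ∘ₗ iK = iK ∘ₗ (THK ^ j) := by
    intro j
    have h0 : ((LieAlgebra.ad A L x : L →ₗ[A] L) ^ j) ∘ₗ (H.incl : H →ₗ[A] L) =
        (H.incl : H →ₗ[A] L) ∘ₗ ((LieAlgebra.ad A H ⟨x, hxH⟩ : H →ₗ[A] H) ^ j) :=
      LinearMap.ext fun h => coe_pow_ad H ⟨x, hxH⟩ j h
    have h1 := congrArg (fun f => LinearMap.baseChange K f) h0
    simp only [LinearMap.baseChange_comp, LinearMap.baseChange_pow] at h1
    exact h1
  set E : Submodule K (K ⊗[A] L) :=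
    (LieSubalgebra.engel K ((1 : K) ⊗ₜ[A] x)).toSubmodule with hE
  have hmemE : ∀ y, y ∈ E ↔ ∃ j : ℕ, (TK ^ j) y = 0 := by
    intro y
    rw [hE, LieSubalgebra.mem_toSubmodule, LieSubalgebra.mem_engel_iff, hadL]
  have hle : LinearMap.range iK ≤ E := by
    rintro _ ⟨v, rfl⟩
    rw [hmemE]
    refine ⟨k, ?_⟩
    have := LinearMap.congr_fun (hint k) v
    simp only [LinearMap.comp_apply] at this
    rw [this, hk, LinearMap.zero_apply, map_zero]
  have hEq : LinearMap.range iK = E := by
    apply Submodule.eq_of_le_of_finrank_eq hle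
    rw [hr]
    exact ((LieAlgebra.isRegular_iff_finrank_engel_eq_rank K _).mp hq).symm
  have hinv : E ≤ E.comap TK := by
    intro y hy
    rw [Submodule.mem_comap, hmemE]
    obtain ⟨j, hj⟩ := (hmemE y).mp hy
    refine ⟨j, ?_⟩
    have h1 : TK ^ j * TK = TK * TK ^ j := (pow_succ TK j).symm.trans (pow_succ' TK j)
    have h2 : (TK ^ j) (TK y) = TK ((TK ^ j) y) := LinearMap.congr_fun h1 y
    rw [h2, hj, map_zero]
  have hE' : ∀ y, TK y ∈ E → y ∈ E := by
    intro y hy
    obtain ⟨j, hj⟩ := (hmemE _).mp hy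
    rw [hmemE]
    exact ⟨j + 1, by rw [pow_succ, Module.End.mul_apply, hj]⟩
  have hinj : Function.Injective (E.mapQ E TK hinv) := by
    rw [← LinearMap.ker_eq_bot, LinearMap.ker_eq_bot']
    intro m hm
    obtain ⟨y, rfl⟩ := E.mkQ_surjective m
    rw [Submodule.mkQ_apply, Submodule.mapQ_apply, Submodule.Quotient.mk_eq_zero] at hm
    rw [Submodule.mkQ_apply, Submodule.Quotient.mk_eq_zero]
    exact hE' y hm
  have hsurj := LinearMap.injective_iff_surjective.mp hinj
  intro z
  obtain ⟨m, hm⟩ := hsurj (E.mkQ z)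
  obtain ⟨w, rfl⟩ := E.mkQ_surjective m
  refine ⟨w, ?_⟩
  rw [Submodule.mkQ_apply, Submodule.mapQ_apply, Submodule.mkQ_apply, Submodule.Quotient.eq] at hm
  rw [hEq]
  exact hm

theorem cartan_eq_engel [Module.Finite A L] [Module.Projective A L]
    (H : LieSubalgebra A L) (hH : SGA3t2b.IsCartanRel H) (x : L) (hxH : x ∈ H)
    (hx : SGA3t2b.IsQuasiRegular A L x) : H = LieSubalgebra.engel A x := by
  classical
  have hff := fun p : PrimeSpectrum A =>
    fibre_facts p.asIdeal.ResidueField H x hxH (hH.2 p).1 (hH.2 p).2.2 (hx p)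
  set T : L →ₗ[A] L := (LieAlgebra.ad A L x : L →ₗ[A] L) with hT
  set TH : H →ₗ[A] H := (LieAlgebra.ad A H ⟨x, hxH⟩ : H →ₗ[A] H) with hTH
  set incl : H →ₗ[A] L := (H.incl : H →ₗ[A] L) with hincl
  have hcoe : ∀ (k : ℕ) (h : H), (T ^ k) (h : L) = ((TH ^ k) h : H) :=
    fun k h => coe_pow_ad H ⟨x, hxH⟩ k h
  apply le_antisymm
  · -- H ≤ engel
    have : Module.Projective A (L ⧸ H.toSubmodule) := hH.1
    obtain ⟨s, hs⟩ := Module.projective_lifting_property (H.toSubmodule.mkQ) LinearMap.id
      (Submodule.mkQ_surjective _)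
    have hs' : ∀ q, H.toSubmodule.mkQ (s q) = q := fun q => LinearMap.congr_fun hs q
    have hmem : ∀ y : L, y - s (H.toSubmodule.mkQ y) ∈ H := by
      intro y
      have : H.toSubmodule.mkQ (y - s (H.toSubmodule.mkQ y)) = 0 := by
        rw [map_sub, hs', sub_self]
      exact (Submodule.Quotient.mk_eq_zero _).mp this
    let ρH : L →ₗ[A] H :=
      { toFun := fun y => ⟨y - s (H.toSubmodule.mkQ y), hmem y⟩
        map_add' := fun y z => Subtype.ext (by
          show (y + z) - s (H.toSubmodule.mkQ (y + z)) =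
            (y - s (H.toSubmodule.mkQ y)) + (z - s (H.toSubmodule.mkQ z))
          rw [map_add, map_add]; abel)
        map_smul' := fun c y => Subtype.ext (by
          show c • y - s (H.toSubmodule.mkQ (c • y)) = c • (y - s (H.toSubmodule.mkQ y))
          rw [map_smul, map_smul, smul_sub]) }
    have hρi : ∀ h : H, ρH (h : L) = h := by
      intro h
      apply Subtype.ext
      show (h : L) - s (H.toSubmodule.mkQ (h : L)) = h
      have : H.toSubmodule.mkQ (h : L) = 0 := (Submodule.Quotient.mk_eq_zero _).mpr h.2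
      rw [this, map_zero, sub_zero]
    obtain ⟨n, π, i, -, -, hπi⟩ := Module.Finite.exists_comp_eq_id_of_projective A L
    have hπi' : ∀ y, π (i y) = y := fun y => LinearMap.congr_fun hπi y
    set P : H →ₗ[A] (Fin n → A) := i ∘ₗ incl with hP
    set R : (Fin n → A) →ₗ[A] H := ρH ∘ₗ π with hR
    have hRP : R ∘ₗ P = LinearMap.id := by
      refine LinearMap.ext fun h => ?_
      show ρH (π (i (h : L))) = h
      rw [hπi', hρi]
    set M : (Fin n → A) →ₗ[A] (Fin n → A) := P ∘ₗ TH ∘ₗ R with hM
    have hMnil : IsNilpotent M := by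
      apply nilp_of_fibres
      intro p
      obtain ⟨k, hk⟩ := (hff p).1
      refine ⟨k + 1, ?_⟩
      have hRPκ : R.baseChange p.asIdeal.ResidueField ∘ₗ P.baseChange p.asIdeal.ResidueField =
          LinearMap.id := by
        rw [← LinearMap.baseChange_comp, hRP, LinearMap.baseChange_id]
      have hMκ : M.baseChange p.asIdeal.ResidueField =
          P.baseChange p.asIdeal.ResidueField ∘ₗ TH.baseChange p.asIdeal.ResidueField ∘ₗ
            R.baseChange p.asIdeal.ResidueField := by
        rw [hM, LinearMap.baseChange_comp (f := TH ∘ₗ R) P, LinearMap.baseChange_comp (f := R) TH]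
      rw [hMκ, conj_pow _ _ hRPκ, pow_succ, hk, zero_mul]
      simp
    obtain ⟨N, hN⟩ := hMnil
    have hTHN : TH ^ (N + 1) = 0 := by
      have h1 : M ^ (N + 1) = 0 := by rw [pow_succ, hN, zero_mul]
      rw [hM, conj_pow _ _ hRP] at h1
      have hrp : ∀ z, R (P z) = z := fun z => LinearMap.congr_fun hRP z
      refine LinearMap.ext fun h => ?_
      have h2 := LinearMap.congr_fun h1 (P h)
      simp only [LinearMap.comp_apply, LinearMap.zero_apply] at h2
      rw [hrp] at h2
      have h3 := congrArg R h2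
      rw [hrp, map_zero] at h3
      rw [h3]; rfl
    intro y hy
    rw [LieSubalgebra.mem_engel_iff]
    refine ⟨N + 1, ?_⟩
    have h4 := hcoe (N + 1) ⟨y, hy⟩
    rw [hTHN] at h4
    simpa using h4
  · -- engel ≤ H
    have hTH' : H.toSubmodule ≤ H.toSubmodule.comap T := fun y hy => H.lie_mem hxH hy
    have hsurj : Function.Surjective (H.toSubmodule.mapQ H.toSubmodule T hTH') := by
      apply surj_of_fibres
      intro p v
      have hρs : Function.Surjective ((H.toSubmodule.mkQ).baseChange p.asIdeal.ResidueField) := by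
        rw [LinearMap.baseChange_eq_ltensor]
        exact LinearMap.lTensor_surjective _ (Submodule.mkQ_surjective _)
      obtain ⟨z, rfl⟩ := hρs v
      obtain ⟨w, hw⟩ := (hff p).2 z
      refine ⟨(H.toSubmodule.mkQ).baseChange p.asIdeal.ResidueField w, ?_⟩
      have h00 : (H.toSubmodule.mapQ H.toSubmodule T hTH') ∘ₗ H.toSubmodule.mkQ =
          H.toSubmodule.mkQ ∘ₗ T := LinearMap.ext fun y => rfl
      have hcomm : (H.toSubmodule.mapQ H.toSubmodule T hTH').baseChange p.asIdeal.ResidueField ∘ₗ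
          (H.toSubmodule.mkQ).baseChange p.asIdeal.ResidueField =
          (H.toSubmodule.mkQ).baseChange p.asIdeal.ResidueField ∘ₗ
            T.baseChange p.asIdeal.ResidueField := by
        rw [← LinearMap.baseChange_comp, ← LinearMap.baseChange_comp, h00]
      have hker : ∀ y ∈ LinearMap.range (incl.baseChange p.asIdeal.ResidueField),
          (H.toSubmodule.mkQ).baseChange p.asIdeal.ResidueField y = 0 := by
        rintro _ ⟨t, rfl⟩
        have h0 : H.toSubmodule.mkQ ∘ₗ incl = 0 :=
          LinearMap.ext fun h => (Submodule.Quotient.mk_eq_zero _).mpr h.2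
        have h1 := LinearMap.congr_fun
          (congrArg (fun f => LinearMap.baseChange p.asIdeal.ResidueField f) h0) t
        simpa [LinearMap.baseChange_comp] using h1
      have h1 := LinearMap.congr_fun hcomm w
      simp only [LinearMap.comp_apply] at h1
      rw [h1]
      have h2 := hker _ hw
      rw [map_sub, sub_eq_zero] at h2
      exact h2
    have hinj : Function.Injective (H.toSubmodule.mapQ H.toSubmodule T hTH') :=
      OrzechProperty.injective_of_surjective_endomorphism _ hsurj
    intro y hy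
    rw [LieSubalgebra.mem_engel_iff] at hy
    obtain ⟨k, hk⟩ := hy
    have h2 : ∀ j : ℕ, ((H.toSubmodule.mapQ H.toSubmodule T hTH') ^ j) (H.toSubmodule.mkQ y) =
        H.toSubmodule.mkQ ((T ^ j) y) := by
      intro j
      induction j with
      | zero => simp
      | succ j ih =>
        rw [pow_succ', Module.End.mul_apply, ih, pow_succ', Module.End.mul_apply]
        rfl
    have h1 : ((H.toSubmodule.mapQ H.toSubmodule T hTH') ^ k) (H.toSubmodule.mkQ y) = 0 := by
      rw [h2, hk, map_zero]
    have h3 : Function.Injective ⇑((H.toSubmodule.mapQ H.toSubmodule T hTH') ^ k) := by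
      rw [Module.End.coe_pow]; exact hinj.iterate k
    have h4 : H.toSubmodule.mkQ y = 0 := h3 (by rw [h1, map_zero])
    exact (Submodule.Quotient.mk_eq_zero _).mp h4

end lemmas


/-- Over an affine base Spec A: let L be a Lie algebra over A which is a finitely generated projective
A-module, H a Cartan subalgebra of L relative to A, a an element of H which is quasi-regular in L,
and u an automorphism of the Lie algebra L over A. Then u(H) = H if and only if u(a) ∈ H. -/
theorem result {A : Type u} [CommRing A] {L : Type u} [LieRing L]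
    [LieAlgebra A L] [Module.Finite A L] [Module.Projective A L]
    (H : LieSubalgebra A L) (hH : SGA3t2b.IsCartanRel H) (a : L) (haH : a ∈ H)
    (ha : SGA3t2b.IsQuasiRegular A L a) (u : L ≃ₗ⁅A⁆ L) :
    H.map u.toLieHom = H ↔ u a ∈ H := by
  classical
  constructor
  · intro h
    have h1 : u a ∈ H.map u.toLieHom := by
      rw [LieSubalgebra.mem_map]
      exact ⟨a, haH, rfl⟩
    rwa [h] at h1
  · intro hb
    have hmap : ∀ y z : L, u ⁅y, z⁆ = ⁅u y, u z⁆ := fun y z => LieHom.map_lie u.toLieHom y z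
    have hu0 : u 0 = 0 := (u.toLinearEquiv).map_zero
    have hHa := cartan_eq_engel H hH a haH ha
    have hbq : SGA3t2b.IsQuasiRegular A L (u a) := by
      intro p
      have hap := ha p
      rw [LieAlgebra.isRegular_def] at hap ⊢
      have hch : (LieAlgebra.ad p.asIdeal.ResidueField (p.asIdeal.ResidueField ⊗[A] L)
            ((1 : p.asIdeal.ResidueField) ⊗ₜ[A] (u a))).charpoly =
          (LieAlgebra.ad p.asIdeal.ResidueField (p.asIdeal.ResidueField ⊗[A] L)
            ((1 : p.asIdeal.ResidueField) ⊗ₜ[A] a)).charpoly := by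
        rw [Groth.Agent.S8375.ad_tmul_eq, Groth.Agent.S8375.ad_tmul_eq]
        have hU'U : (u.symm.toLinearEquiv : L →ₗ[A] L) ∘ₗ (u.toLinearEquiv : L →ₗ[A] L) =
            LinearMap.id := LinearMap.ext fun y => u.symm_apply_apply y
        have hconj : (LieAlgebra.ad A L (u a) : L →ₗ[A] L) =
            (u.toLinearEquiv : L →ₗ[A] L) ∘ₗ (LieAlgebra.ad A L a : L →ₗ[A] L) ∘ₗ
              (u.symm.toLinearEquiv : L →ₗ[A] L) := by
          refine LinearMap.ext fun y => ?_
          show ⁅u a, y⁆ = u ⁅a, u.symm y⁆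
          rw [hmap, u.apply_symm_apply]
        rw [hconj, LinearMap.baseChange_comp, LinearMap.baseChange_comp]
        have h1 := Groth.Agent.S8375.charpoly_comp_comm (K := p.asIdeal.ResidueField)
          ((u.toLinearEquiv : L →ₗ[A] L).baseChange p.asIdeal.ResidueField ∘ₗ
            (LieAlgebra.ad A L a : L →ₗ[A] L).baseChange p.asIdeal.ResidueField)
          ((u.symm.toLinearEquiv : L →ₗ[A] L).baseChange p.asIdeal.ResidueField)
        have h2 : (u.symm.toLinearEquiv : L →ₗ[A] L).baseChange p.asIdeal.ResidueField ∘ₗ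
            ((u.toLinearEquiv : L →ₗ[A] L).baseChange p.asIdeal.ResidueField ∘ₗ
              (LieAlgebra.ad A L a : L →ₗ[A] L).baseChange p.asIdeal.ResidueField) =
            (LieAlgebra.ad A L a : L →ₗ[A] L).baseChange p.asIdeal.ResidueField := by
          rw [← LinearMap.comp_assoc, ← LinearMap.baseChange_comp, hU'U, LinearMap.baseChange_id,
            LinearMap.id_comp]
        rw [h2, LinearMap.comp_assoc] at h1
        exact mul_left_cancel₀ (pow_ne_zero _ Polynomial.X_ne_zero) h1
      rw [hch]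
      exact hap
    have hHb := cartan_eq_engel H hH (u a) hb hbq
    have hpow : ∀ (k : ℕ) (z : L),
        ((LieAlgebra.ad A L (u a)) ^ k) (u z) = u (((LieAlgebra.ad A L a) ^ k) z) := by
      intro k
      induction k with
      | zero => intro z; simp
      | succ k ih =>
        intro z
        rw [pow_succ', Module.End.mul_apply, ih, pow_succ', Module.End.mul_apply,
          LieAlgebra.ad_apply, LieAlgebra.ad_apply, hmap]
    ext y
    rw [LieSubalgebra.mem_map]
    constructor
    · rintro ⟨z, hz, rfl⟩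
      rw [hHa, LieSubalgebra.mem_engel_iff] at hz
      obtain ⟨k, hk⟩ := hz
      rw [hHb, LieSubalgebra.mem_engel_iff]
      refine ⟨k, ?_⟩
      show ((LieAlgebra.ad A L (u a)) ^ k) (u z) = 0
      rw [hpow, hk, hu0]
    · intro hy
      rw [hHb, LieSubalgebra.mem_engel_iff] at hy
      obtain ⟨k, hk⟩ := hy
      refine ⟨u.symm y, ?_, u.apply_symm_apply y⟩
      rw [hHa, LieSubalgebra.mem_engel_iff]
      refine ⟨k, u.injective ?_⟩
      show u (((LieAlgebra.ad A L a) ^ k) (u.symm y)) = u 0
      rw [← hpow, u.apply_symm_apply, hk, hu0]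

end Groth.Agent.S8373
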