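import Groth.Statements.S8372
import Mathlib
import Groth.Agent.S8375
import Groth.Agent.S8373
-- import your own Groth.Agent.* helpers here

set_option autoImplicit false
universe u
open scoped TensorProduct
open SGA3t2b

namespace Groth.Agent.S8372

open Polynomial TensorProduct

section fieldlemmas

open Module LieSubalgebra LieAlgebra in
theorem engel_nilp_of_card {K : Type*} {L : Type*} [Field K] [LieRing L] [LieAlgebra K L]
    [Module.Finite K L]
    (h : (Module.finrank K L : Cardinal) ≤ Cardinal.mk K) (x : L) (hx : LieAlgebra.IsRegular K x) :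
    LieRing.IsNilpotent (LieSubalgebra.engel K x) := by
  apply LieSubalgebra.isNilpotent_of_forall_le_engel
  intro y hy
  set Ex : {engel K z | z ∈ engel K x} := ⟨engel K x, x, self_mem_engel _ _, rfl⟩
  suffices IsBot Ex from @this ⟨engel K y, y, hy, rfl⟩
  apply LieAlgebra.engel_isBot_of_isMin h (engel K x) Ex le_rfl
  rintro ⟨_, y, hy, rfl⟩ hyx
  suffices finrank K (engel K x) ≤ finrank K (engel K y) by
    suffices engel K y = engel K x from this.ge
    apply LieSubalgebra.toSubmodule_injective
    exact Submodule.eq_of_le_of_finrank_le hyx this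
  rw [(isRegular_iff_finrank_engel_eq_rank K x).mp hx]
  apply rank_le_finrank_engel

section rk
attribute [local instance 100] LieRing.ofAssociativeRing

theorem rank_baseChange_field (K K' L : Type*) [Field K] [Field K'] [Algebra K K'] [LieRing L]
    [LieAlgebra K L] [Module.Finite K L] :
    LieAlgebra.rank K' (K' ⊗[K] L) = LieAlgebra.rank K L := by
  classical
  let b := Module.Free.chooseBasis K L
  have hφ : (LinearMap.tensorProduct K K' L L) ∘ₗ ((LieAlgebra.ad K L).toLinearMap.baseChange K') =
      (LieAlgebra.ad K' (K' ⊗[K] L)).toLinearMap := by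
    refine TensorProduct.AlgebraTensorModule.ext fun s y => ?_
    refine TensorProduct.AlgebraTensorModule.ext fun t z => ?_
    simp [LieAlgebra.ExtendScalars.bracket_tmul, TensorProduct.liftAux_tmul,
      TensorProduct.smul_tmul']
  have hP : LinearMap.polyCharpoly (LieAlgebra.ad K' (K' ⊗[K] L)).toLinearMap
        (Algebra.TensorProduct.basis K' b) =
      (LinearMap.polyCharpoly (LieAlgebra.ad K L).toLinearMap b).map
        (MvPolynomial.map (algebraMap K K')) := by
    rw [← hφ]
    exact LinearMap.polyCharpoly_baseChange _ b K'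
  have hinj : Function.Injective
      (MvPolynomial.map (σ := Module.Free.ChooseBasisIndex K L) (algebraMap K K')) :=
    MvPolynomial.map_injective _ (algebraMap K K').injective
  have h1 := LieAlgebra.polyCharpoly_coeff_rank_ne_zero K L b
  have h2 := LieAlgebra.polyCharpoly_coeff_rank_ne_zero K' (K' ⊗[K] L)
    (Algebra.TensorProduct.basis K' b)
  have hr := LieAlgebra.rank_eq_natTrailingDegree K L b
  have hr' := LieAlgebra.rank_eq_natTrailingDegree K' (K' ⊗[K] L) (Algebra.TensorProduct.basis K' b)
  apply le_antisymm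
  · rw [hr']
    apply Polynomial.natTrailingDegree_le_of_ne_zero
    rw [hP, Polynomial.coeff_map]
    exact (map_ne_zero_iff _ hinj).mpr h1
  · rw [hr]
    apply Polynomial.natTrailingDegree_le_of_ne_zero
    intro h0
    apply h2
    rw [hP, Polynomial.coeff_map, h0, map_zero]

end rk

theorem engel_nilp {K L : Type u} [Field K] [LieRing L] [LieAlgebra K L] [Module.Finite K L]
    (x : L) (hx : LieAlgebra.IsRegular K x) : LieRing.IsNilpotent (LieSubalgebra.engel K x) := by
  classical
  have : Infinite (RatFunc K) :=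
    Infinite.of_injective (algebraMap (Polynomial K) (RatFunc K)) (IsFractionRing.injective _ _)
  have hx' : LieAlgebra.IsRegular (RatFunc K) ((1 : RatFunc K) ⊗ₜ[K] x) := by
    rw [LieAlgebra.isRegular_def, rank_baseChange_field, Groth.Agent.S8375.ad_tmul_eq,
      LinearMap.charpoly_baseChange, Polynomial.coeff_map]
    exact (map_ne_zero_iff _ (algebraMap K (RatFunc K)).injective).mpr hx
  have hcard : (Module.finrank (RatFunc K) (RatFunc K ⊗[K] L) : Cardinal) ≤
      Cardinal.mk (RatFunc K) :=
    (Cardinal.natCast_le_aleph0).trans (Cardinal.infinite_iff.mp ‹Infinite (RatFunc K)›)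
  have hE' := engel_nilp_of_card hcard _ hx'
  obtain ⟨k, hk⟩ := LieAlgebra.nilpotent_ad_of_nilpotent_algebra (RatFunc K)
    (LieSubalgebra.engel (RatFunc K) ((1 : RatFunc K) ⊗ₜ[K] x))
  apply LieSubalgebra.isNilpotent_of_forall_le_engel
  intro y hy z hz
  have hmem : ∀ e ∈ LieSubalgebra.engel K x, (1 : RatFunc K) ⊗ₜ[K] e ∈
      LieSubalgebra.engel (RatFunc K) ((1 : RatFunc K) ⊗ₜ[K] x) := by
    intro e he
    rw [LieSubalgebra.mem_engel_iff] at he ⊢
    obtain ⟨n, hn⟩ := he
    refine ⟨n, ?_⟩
    rw [Groth.Agent.S8375.ad_tmul_eq, ← LinearMap.baseChange_pow, LinearMap.baseChange_tmul, hn,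
      TensorProduct.tmul_zero]
  rw [LieSubalgebra.mem_engel_iff]
  refine ⟨k, ?_⟩
  have h1 := Groth.Agent.S8373.coe_pow_ad
    (LieSubalgebra.engel (RatFunc K) ((1 : RatFunc K) ⊗ₜ[K] x)) ⟨_, hmem y hy⟩ k ⟨_, hmem z hz⟩
  rw [hk] at h1
  simp only [LinearMap.zero_apply, ZeroMemClass.coe_zero] at h1
  rw [Groth.Agent.S8375.ad_tmul_eq, ← LinearMap.baseChange_pow, LinearMap.baseChange_tmul] at h1
  exact Module.Flat.tensorProduct_mk_injective K L (RatFunc K) (by simpa using h1)

end fieldlemmas

section lemmas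

variable {A : Type u} [CommRing A] {L : Type u} [LieRing L] [LieAlgebra A L]

theorem exists_retraction (H : LieSubalgebra A L) [Module.Projective A (L ⧸ H.toSubmodule)] :
    ∃ ρ : L →ₗ[A] H, ∀ h : H, ρ (h : L) = h := by
  obtain ⟨s, hs⟩ := Module.projective_lifting_property (H.toSubmodule.mkQ) LinearMap.id
    (Submodule.mkQ_surjective _)
  have hs' : ∀ q, H.toSubmodule.mkQ (s q) = q := fun q => LinearMap.congr_fun hs q
  have hmem : ∀ y : L, y - s (H.toSubmodule.mkQ y) ∈ H := by
    intro y
    have : H.toSubmodule.mkQ (y - s (H.toSubmodule.mkQ y)) = 0 := by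
      rw [map_sub, hs', sub_self]
    exact (Submodule.Quotient.mk_eq_zero _).mp this
  refine ⟨{ toFun := fun y => ⟨y - s (H.toSubmodule.mkQ y), hmem y⟩
            map_add' := fun y z => Subtype.ext (by
              show (y + z) - s (H.toSubmodule.mkQ (y + z)) =
                (y - s (H.toSubmodule.mkQ y)) + (z - s (H.toSubmodule.mkQ z))
              rw [map_add, map_add]; abel)
            map_smul' := fun c y => Subtype.ext (by
              show c • y - s (H.toSubmodule.mkQ (c • y)) = c • (y - s (H.toSubmodule.mkQ y))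
              rw [map_smul, map_smul, smul_sub]) }, ?_⟩
  intro h
  apply Subtype.ext
  show (h : L) - s (H.toSubmodule.mkQ (h : L)) = h
  have : H.toSubmodule.mkQ (h : L) = 0 := (Submodule.Quotient.mk_eq_zero _).mpr h.2
  rw [this, map_zero, sub_zero]

theorem mapQ_surj [Module.Finite A L] (H : LieSubalgebra A L) (hH : SGA3t2b.IsCartanRel H)
    (x : L) (hxH : x ∈ H) (hx : SGA3t2b.IsQuasiRegular A L x) (y : L) :
    ∃ z : L, ⁅x, z⁆ - y ∈ H := by
  classical
  have hff := fun p : PrimeSpectrum A =>
    Groth.Agent.S8373.fibre_facts p.asIdeal.ResidueField H x hxH (hH.2 p).1 (hH.2 p).2.2 (hx p)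
  set T : L →ₗ[A] L := (LieAlgebra.ad A L x : L →ₗ[A] L) with hT
  set incl : H →ₗ[A] L := (H.incl : H →ₗ[A] L) with hincl
  have hTH' : H.toSubmodule ≤ H.toSubmodule.comap T := fun y hy => H.lie_mem hxH hy
  have hsurj : Function.Surjective (H.toSubmodule.mapQ H.toSubmodule T hTH') := by
    apply Groth.Agent.S8373.surj_of_fibres
    intro p v
    have hρs : Function.Surjective ((H.toSubmodule.mkQ).baseChange p.asIdeal.ResidueField) := by
      rw [LinearMap.baseChange_eq_ltensor]
      exact LinearMap.lTensor_surjective _ (Submodule.mkQ_surjective _)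
    obtain ⟨z, rfl⟩ := hρs v
    obtain ⟨w, hw⟩ := (hff p).2 z
    refine ⟨(H.toSubmodule.mkQ).baseChange p.asIdeal.ResidueField w, ?_⟩
    have h00 : (H.toSubmodule.mapQ H.toSubmodule T hTH') ∘ₗ H.toSubmodule.mkQ =
        H.toSubmodule.mkQ ∘ₗ T := LinearMap.ext fun y => rfl
    have hcomm : (H.toSubmodule.mapQ H.toSubmodule T hTH').baseChange p.asIdeal.ResidueField ∘ₗ
        (H.toSubmodule.mkQ).baseChange p.asIdeal.ResidueField =
        (H.toSubmodule.mkQ).baseChange p.asIdeal.ResidueField ∘ₗ
          T.baseChange p.asIdeal.ResidueField := by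
      rw [← LinearMap.baseChange_comp, ← LinearMap.baseChange_comp, h00]
    have hker : ∀ y ∈ LinearMap.range (incl.baseChange p.asIdeal.ResidueField),
        (H.toSubmodule.mkQ).baseChange p.asIdeal.ResidueField y = 0 := by
      rintro _ ⟨t, rfl⟩
      have h0 : H.toSubmodule.mkQ ∘ₗ incl = 0 :=
        LinearMap.ext fun h => (Submodule.Quotient.mk_eq_zero _).mpr h.2
      have h1 := LinearMap.congr_fun
        (congrArg (fun f => LinearMap.baseChange p.asIdeal.ResidueField f) h0) t
      simpa [LinearMap.baseChange_comp] using h1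
    have h1 := LinearMap.congr_fun hcomm w
    simp only [LinearMap.comp_apply] at h1
    rw [h1]
    have h2 := hker _ hw
    rw [map_sub, sub_eq_zero] at h2
    exact h2
  obtain ⟨m, hm⟩ := hsurj (H.toSubmodule.mkQ y)
  obtain ⟨z, rfl⟩ := H.toSubmodule.mkQ_surjective m
  refine ⟨z, ?_⟩
  rw [Submodule.mkQ_apply, Submodule.mapQ_apply, Submodule.mkQ_apply, Submodule.Quotient.eq] at hm
  exact hm

theorem isCartanRel_of_engel [Module.Finite A L] (a : L) (ha : SGA3t2b.IsQuasiRegular A L a)
    (E : LieSubalgebra A L) (hEa : a ∈ E)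
    (hE : ∀ y : L, y ∈ E ↔ ∃ n : ℕ, ((LieAlgebra.ad A L a) ^ n) y = 0)
    (hP : Module.Projective A (L ⧸ E.toSubmodule))
    (hI : ∀ z : L, ⁅a, z⁆ ∈ E → z ∈ E)
    (hS : ∀ y : L, ∃ z : L, ⁅a, z⁆ - y ∈ E) :
    SGA3t2b.IsCartanRel E := by
  classical
  refine ⟨hP, fun p => ?_⟩
  have := hP
  obtain ⟨ρE, hρE⟩ := exists_retraction E
  have : Module.Finite A E := Module.Finite.of_surjective ρE (fun h => ⟨h, hρE h⟩)
  set T : L →ₗ[A] L := (LieAlgebra.ad A L a : L →ₗ[A] L) with hT
  set TK := T.baseChange p.asIdeal.ResidueField with hTK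
  set iK := (E.incl : E →ₗ[A] L).baseChange p.asIdeal.ResidueField with hiK
  have hadL : (LieAlgebra.ad p.asIdeal.ResidueField (p.asIdeal.ResidueField ⊗[A] L)
      ((1 : p.asIdeal.ResidueField) ⊗ₜ[A] a) :
      (p.asIdeal.ResidueField ⊗[A] L) →ₗ[p.asIdeal.ResidueField] (p.asIdeal.ResidueField ⊗[A] L)) =
      TK := Groth.Agent.S8375.ad_tmul_eq _ a
  set Eκ := LieSubalgebra.engel p.asIdeal.ResidueField ((1 : p.asIdeal.ResidueField) ⊗ₜ[A] a)
    with hEκ
  have hmemEκ : ∀ y, y ∈ Eκ ↔ ∃ j : ℕ, (TK ^ j) y = 0 := by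
    intro y
    rw [hEκ, LieSubalgebra.mem_engel_iff, hadL]
  have hle1 : LinearMap.range iK ≤ Eκ.toSubmodule := by
    rintro _ ⟨v, rfl⟩
    induction v using TensorProduct.induction_on with
    | zero => rw [map_zero]; exact Submodule.zero_mem _
    | tmul s e =>
      rw [hiK, LinearMap.baseChange_tmul, LieSubalgebra.mem_toSubmodule, hmemEκ]
      obtain ⟨n, hn⟩ := (hE _).mp e.2
      refine ⟨n, ?_⟩
      rw [hTK, ← LinearMap.baseChange_pow, LinearMap.baseChange_tmul]
      have h0 : ((T ^ n) ((E.incl : E →ₗ[A] L) e)) = 0 := hn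
      rw [h0, TensorProduct.tmul_zero]
    | add v w hv hw => rw [map_add]; exact Submodule.add_mem _ hv hw
  have hTE' : E.toSubmodule ≤ E.toSubmodule.comap T := fun y hy => E.lie_mem hEa hy
  have hTq_inj : Function.Injective (E.toSubmodule.mapQ E.toSubmodule T hTE') := by
    rw [← LinearMap.ker_eq_bot, LinearMap.ker_eq_bot']
    intro m hm
    obtain ⟨y, rfl⟩ := E.toSubmodule.mkQ_surjective m
    rw [Submodule.mkQ_apply, Submodule.mapQ_apply, Submodule.Quotient.mk_eq_zero] at hm
    rw [Submodule.mkQ_apply, Submodule.Quotient.mk_eq_zero]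
    exact hI y hm
  have hTq_surj : Function.Surjective (E.toSubmodule.mapQ E.toSubmodule T hTE') := by
    intro m
    obtain ⟨y, rfl⟩ := E.toSubmodule.mkQ_surjective m
    obtain ⟨z, hz⟩ := hS y
    refine ⟨E.toSubmodule.mkQ z, ?_⟩
    rw [Submodule.mkQ_apply, Submodule.mapQ_apply, Submodule.mkQ_apply, Submodule.Quotient.eq]
    exact hz
  set Tq := E.toSubmodule.mapQ E.toSubmodule T hTE' with hTq
  let eq := LinearEquiv.ofBijective Tq ⟨hTq_inj, hTq_surj⟩
  have hTqκ_inj : Function.Injective (Tq.baseChange p.asIdeal.ResidueField) := by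
    have h1 : (eq.symm : (L ⧸ E.toSubmodule) →ₗ[A] (L ⧸ E.toSubmodule)).baseChange
        p.asIdeal.ResidueField ∘ₗ Tq.baseChange p.asIdeal.ResidueField = LinearMap.id := by
      rw [← LinearMap.baseChange_comp]
      have h2 : (eq.symm : (L ⧸ E.toSubmodule) →ₗ[A] (L ⧸ E.toSubmodule)) ∘ₗ Tq = LinearMap.id :=
        LinearMap.ext fun q => eq.symm_apply_apply q
      rw [h2, LinearMap.baseChange_id]
    exact Function.LeftInverse.injective (fun v => LinearMap.congr_fun h1 v)
  have h00 : Tq ∘ₗ E.toSubmodule.mkQ = E.toSubmodule.mkQ ∘ₗ T := LinearMap.ext fun y => rfl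
  have hcomm : ∀ (j : ℕ) (y : p.asIdeal.ResidueField ⊗[A] L),
      ((Tq.baseChange p.asIdeal.ResidueField) ^ j)
        ((E.toSubmodule.mkQ).baseChange p.asIdeal.ResidueField y) =
      (E.toSubmodule.mkQ).baseChange p.asIdeal.ResidueField ((TK ^ j) y) := by
    intro j
    induction j with
    | zero => intro y; simp
    | succ j ih =>
      intro y
      have h1 : Tq.baseChange p.asIdeal.ResidueField
          ((E.toSubmodule.mkQ).baseChange p.asIdeal.ResidueField y) =
          (E.toSubmodule.mkQ).baseChange p.asIdeal.ResidueField (TK y) := by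
        have h2 := LinearMap.congr_fun
          (congrArg (fun f => LinearMap.baseChange p.asIdeal.ResidueField f) h00) y
        simpa [LinearMap.baseChange_comp] using h2
      rw [pow_succ (Tq.baseChange p.asIdeal.ResidueField), Module.End.mul_apply, h1, ih,
        pow_succ TK, Module.End.mul_apply]
  have hker : ∀ y, (E.toSubmodule.mkQ).baseChange p.asIdeal.ResidueField y = 0 →
      y ∈ LinearMap.range iK := by
    intro y hy
    have h1 : y ∈ LinearMap.ker (LinearMap.lTensor p.asIdeal.ResidueField E.toSubmodule.mkQ) := by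
      rw [LinearMap.mem_ker]; exact hy
    rw [lTensor_mkQ] at h1
    obtain ⟨v, hv⟩ := h1
    exact ⟨v, hv⟩
  have hle2 : Eκ.toSubmodule ≤ LinearMap.range iK := by
    intro y hy
    obtain ⟨j, hj⟩ := (hmemEκ y).mp hy
    apply hker
    have h1 := hcomm j y
    rw [hj, map_zero] at h1
    have h2 : Function.Injective ⇑((Tq.baseChange p.asIdeal.ResidueField) ^ j) := by
      rw [Module.End.coe_pow]; exact hTqκ_inj.iterate j
    exact h2 (by rw [h1, map_zero])
  have hEq : SGA3t2b.fibreSubmodule p E = Eκ.toSubmodule := le_antisymm hle1 hle2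
  have hreg := ha p
  refine ⟨?_, ?_, ?_⟩
  · rw [LieAlgebra.isNilpotent_iff_forall (R := p.asIdeal.ResidueField)]
    intro v
    have hEκnil : LieRing.IsNilpotent Eκ := engel_nilp _ hreg
    obtain ⟨k, hk⟩ := LieAlgebra.nilpotent_ad_of_nilpotent_algebra p.asIdeal.ResidueField Eκ
    refine ⟨k, ?_⟩
    let g := LieAlgebra.ExtendScalars.map (AlgHom.id A p.asIdeal.ResidueField) E.incl
    have hg : ∀ w, g w = iK w := by
      intro w
      induction w using TensorProduct.induction_on with
      | zero => simp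
      | tmul s e => rfl
      | add w1 w2 h1 h2 => rw [map_add, map_add, h1, h2]
    have hlie : ∀ v w, iK ⁅v, w⁆ = ⁅iK v, iK w⁆ := by
      intro v w
      rw [← hg, ← hg, ← hg]
      exact LieHom.map_lie g v w
    have hiK_inj : Function.Injective iK := by
      have h1 : ρE.baseChange p.asIdeal.ResidueField ∘ₗ iK = LinearMap.id := by
        rw [hiK, ← LinearMap.baseChange_comp]
        have h2 : ρE ∘ₗ (E.incl : E →ₗ[A] L) = LinearMap.id := LinearMap.ext fun h => hρE h
        rw [h2, LinearMap.baseChange_id]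
      exact Function.LeftInverse.injective (fun w => LinearMap.congr_fun h1 w)
    set adv := LieAlgebra.ad p.asIdeal.ResidueField (p.asIdeal.ResidueField ⊗[A] E) v with hadv
    set adL := LieAlgebra.ad p.asIdeal.ResidueField (p.asIdeal.ResidueField ⊗[A] L) (iK v)
      with hadL'
    have hadv1 : ∀ w, adv w = ⁅v, w⁆ := fun w => rfl
    have hadL1 : ∀ w, adL w = ⁅iK v, w⁆ := fun w => rfl
    have hpow : ∀ (j : ℕ) (w), iK ((adv ^ j) w) = (adL ^ j) (iK w) := by
      intro j
      induction j with
      | zero => intro w; simp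
      | succ j ih =>
        intro w
        rw [pow_succ' adv, Module.End.mul_apply, hadv1, hlie, ih, pow_succ' adL,
          Module.End.mul_apply, hadL1]
    refine LinearMap.ext fun w => hiK_inj ?_
    rw [hpow, LinearMap.zero_apply, map_zero]
    have hv : iK v ∈ Eκ := hle1 ⟨v, rfl⟩
    have hw : iK w ∈ Eκ := hle1 ⟨w, rfl⟩
    have h1 := Groth.Agent.S8373.coe_pow_ad Eκ ⟨iK v, hv⟩ k ⟨iK w, hw⟩
    rw [hk] at h1
    simpa using h1
  · intro x hx
    rw [hEq] at hx ⊢
    have h1 : x ∈ Eκ.normalizer := by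
      rw [LieSubalgebra.mem_normalizer_iff]
      exact hx
    rw [hEκ, LieSubalgebra.normalizer_engel] at h1
    exact h1
  · rw [hEq]
    exact (LieAlgebra.isRegular_iff_finrank_engel_eq_rank _ _).mp hreg

end lemmas


/-- Over an affine base Spec A: let L be a Lie algebra over the commutative ring A which is a finitely
generated projective A-module, and a an element of L which is quasi-regular (its image in every
fibre κ(p) ⊗ L is a regular element). Then every Cartan subalgebra of L relative to A (locally a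
direct summand, with nilpotent self-normalizing fibres) which contains a is the Engel subalgebra
Nil(a, L) of elements killed by a power of ad(a); and a lies in some relative Cartan subalgebra (a
is regular) if and only if the quotient module of L by Nil(a, L) is projective and ad(a) induces a
bijection of that quotient (injective and surjective modulo Nil(a, L)). -/
theorem result {A : Type u} [CommRing A] {L : Type u} [LieRing L]
    [LieAlgebra A L] [Module.Finite A L] [Module.Projective A L] (a : L) (ha : SGA3t2b.IsQuasiRegular A L a) :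
    (∀ H : LieSubalgebra A L, SGA3t2b.IsCartanRel H → a ∈ H → H = LieSubalgebra.engel A a) ∧
    ((∃ H : LieSubalgebra A L, SGA3t2b.IsCartanRel H ∧ a ∈ H) ↔
      (Module.Projective A (L ⧸ (LieSubalgebra.engel A a).toSubmodule) ∧
        (∀ z : L, ⁅a, z⁆ ∈ LieSubalgebra.engel A a → z ∈ LieSubalgebra.engel A a) ∧
        (∀ y : L, ∃ z : L, ⁅a, z⁆ - y ∈ LieSubalgebra.engel A a))) := by
  classical
  refine ⟨fun H hH haH => Groth.Agent.S8373.cartan_eq_engel H hH a haH ha, ?_⟩
  constructor
  · rintro ⟨H, hH, haH⟩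
    have hHe := Groth.Agent.S8373.cartan_eq_engel H hH a haH ha
    subst hHe
    refine ⟨hH.1, ?_, ?_⟩
    · intro z hz
      rw [LieSubalgebra.mem_engel_iff] at hz ⊢
      obtain ⟨n, hn⟩ := hz
      exact ⟨n + 1, by rw [pow_succ, Module.End.mul_apply]; exact hn⟩
    · intro y
      exact mapQ_surj _ hH a haH ha y
  · rintro ⟨hP, hI, hS⟩
    exact ⟨LieSubalgebra.engel A a,
      isCartanRel_of_engel a ha _ (LieSubalgebra.self_mem_engel A a)
        (fun y => LieSubalgebra.mem_engel_iff A a y) hP hI hS,
      LieSubalgebra.self_mem_engel A a⟩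

end Groth.Agent.S8372
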