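import Groth.Statements.S8378
import Mathlib
import Groth.Agent.S8372
-- import your own Groth.Agent.* helpers here

set_option autoImplicit false
universe u
open scoped TensorProduct
open SGA3t2b

namespace Groth.Agent.S8378

open TensorProduct

section rk
attribute [local instance 100] LieRing.ofAssociativeRing

theorem rank_eq_of_equiv {K L₁ L₂ : Type*} [Field K] [LieRing L₁] [LieAlgebra K L₁]
    [Module.Finite K L₁] [LieRing L₂] [LieAlgebra K L₂] [Module.Finite K L₂]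
    (e : L₁ ≃ₗ[K] L₂) (he : ∀ x y, e ⁅x, y⁆ = ⁅e x, e y⁆) :
    LieAlgebra.rank K L₁ = LieAlgebra.rank K L₂ := by
  classical
  let b₁ := Module.Free.chooseBasis K L₁
  let b₂ := b₁.map e
  have hmat : LinearMap.toMatrix b₁ b₁.end (LieAlgebra.ad K L₁).toLinearMap =
      LinearMap.toMatrix b₂ b₂.end (LieAlgebra.ad K L₂).toLinearMap := by
    ext ⟨k, l⟩ j
    simp only [LinearMap.toMatrix_apply, Module.Basis.end_repr_apply]
    have hm : LinearMap.toMatrix b₁ b₁ ((LieAlgebra.ad K L₁) (b₁ j)) =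
        LinearMap.toMatrix (b₁.map e) (b₁.map e) ((LieAlgebra.ad K L₂) (e (b₁ j))) := by
      ext k' l'
      simp only [LinearMap.toMatrix_apply, Module.Basis.map_apply, Module.Basis.map_repr,
        LieAlgebra.ad_apply, LinearEquiv.trans_apply]
      rw [← he, LinearEquiv.symm_apply_apply]
    exact congrArg (fun m => (Matrix.stdBasis K _ _).repr m (k, l)) hm
  rw [LieAlgebra.rank_eq_natTrailingDegree K L₁ b₁, LieAlgebra.rank_eq_natTrailingDegree K L₂ b₂,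
    LinearMap.polyCharpoly_eq_of_basis _ b₁ b₁, LinearMap.polyCharpoly_eq_of_basis _ b₂ b₂]
  unfold LinearMap.toMvPolynomial
  rw [hmat]

end rk

theorem cancel_lie {A B K' L : Type*} [CommRing A] [CommRing B] [CommRing K'] [Algebra A B]
    [Algebra A K'] [Algebra B K'] [IsScalarTower A B K'] [LieRing L] [LieAlgebra A L]
    (x y : K' ⊗[B] (B ⊗[A] L)) :
    TensorProduct.AlgebraTensorModule.cancelBaseChange A B K' K' L ⁅x, y⁆ =
      ⁅TensorProduct.AlgebraTensorModule.cancelBaseChange A B K' K' L x,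
        TensorProduct.AlgebraTensorModule.cancelBaseChange A B K' K' L y⁆ := by
  set e := TensorProduct.AlgebraTensorModule.cancelBaseChange A B K' K' L with he
  induction x using TensorProduct.induction_on with
  | zero =>
    have ha : ⁅(0 : K' ⊗[B] (B ⊗[A] L)), y⁆ = 0 := zero_lie y
    have hb : ⁅(0 : K' ⊗[A] L), e y⁆ = 0 := zero_lie _
    rw [ha, map_zero, hb]
  | add x₁ x₂ h₁ h₂ =>
    have ha : ⁅x₁ + x₂, y⁆ = ⁅x₁, y⁆ + ⁅x₂, y⁆ := add_lie x₁ x₂ y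
    have hb : ⁅e x₁ + e x₂, e y⁆ = ⁅e x₁, e y⁆ + ⁅e x₂, e y⁆ := add_lie _ _ _
    rw [ha, map_add, map_add, hb, h₁, h₂]
  | tmul k₁ u₁ =>
    induction y using TensorProduct.induction_on with
    | zero =>
      have ha : ⁅k₁ ⊗ₜ[B] u₁, (0 : K' ⊗[B] (B ⊗[A] L))⁆ = 0 := lie_zero (k₁ ⊗ₜ[B] u₁)
      have hb : ⁅e (k₁ ⊗ₜ[B] u₁), (0 : K' ⊗[A] L)⁆ = 0 := lie_zero (e (k₁ ⊗ₜ[B] u₁))
      rw [ha, map_zero, hb]
    | add y₁ y₂ h₁ h₂ =>
      have ha : ⁅k₁ ⊗ₜ[B] u₁, y₁ + y₂⁆ = ⁅k₁ ⊗ₜ[B] u₁, y₁⁆ + ⁅k₁ ⊗ₜ[B] u₁, y₂⁆ := lie_add (k₁ ⊗ₜ[B] u₁) y₁ y₂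
      have hb : ⁅e (k₁ ⊗ₜ[B] u₁), e y₁ + e y₂⁆ =
          ⁅e (k₁ ⊗ₜ[B] u₁), e y₁⁆ + ⁅e (k₁ ⊗ₜ[B] u₁), e y₂⁆ := lie_add (e (k₁ ⊗ₜ[B] u₁)) (e y₁) (e y₂)
      rw [ha, map_add, map_add, hb, h₁, h₂]
    | tmul k₂ u₂ =>
      induction u₁ using TensorProduct.induction_on with
      | zero =>
        rw [TensorProduct.tmul_zero]
        have ha : ⁅(0 : K' ⊗[B] (B ⊗[A] L)), k₂ ⊗ₜ[B] u₂⁆ = 0 := zero_lie (k₂ ⊗ₜ[B] u₂)
        have hb : ⁅(0 : K' ⊗[A] L), e (k₂ ⊗ₜ[B] u₂)⁆ = 0 := zero_lie (e (k₂ ⊗ₜ[B] u₂))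
        rw [ha, map_zero, hb]
      | add v₁ v₂ h₁ h₂ =>
        rw [TensorProduct.tmul_add]
        have ha : ⁅k₁ ⊗ₜ[B] v₁ + k₁ ⊗ₜ[B] v₂, k₂ ⊗ₜ[B] u₂⁆ =
            ⁅k₁ ⊗ₜ[B] v₁, k₂ ⊗ₜ[B] u₂⁆ + ⁅k₁ ⊗ₜ[B] v₂, k₂ ⊗ₜ[B] u₂⁆ := add_lie (k₁ ⊗ₜ[B] v₁) (k₁ ⊗ₜ[B] v₂) (k₂ ⊗ₜ[B] u₂)
        have hb : ⁅e (k₁ ⊗ₜ[B] v₁) + e (k₁ ⊗ₜ[B] v₂), e (k₂ ⊗ₜ[B] u₂)⁆ =
            ⁅e (k₁ ⊗ₜ[B] v₁), e (k₂ ⊗ₜ[B] u₂)⁆ + ⁅e (k₁ ⊗ₜ[B] v₂), e (k₂ ⊗ₜ[B] u₂)⁆ :=
          add_lie (e (k₁ ⊗ₜ[B] v₁)) (e (k₁ ⊗ₜ[B] v₂)) (e (k₂ ⊗ₜ[B] u₂))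
        rw [ha, map_add, map_add, hb, h₁, h₂]
      | tmul b₁ l₁ =>
        induction u₂ using TensorProduct.induction_on with
        | zero =>
          rw [TensorProduct.tmul_zero]
          have ha : ⁅k₁ ⊗ₜ[B] (b₁ ⊗ₜ[A] l₁), (0 : K' ⊗[B] (B ⊗[A] L))⁆ = 0 := lie_zero (k₁ ⊗ₜ[B] (b₁ ⊗ₜ[A] l₁))
          have hb : ⁅e (k₁ ⊗ₜ[B] (b₁ ⊗ₜ[A] l₁)), (0 : K' ⊗[A] L)⁆ = 0 := lie_zero (e (k₁ ⊗ₜ[B] (b₁ ⊗ₜ[A] l₁)))
          rw [ha, map_zero, hb]
        | add v₁ v₂ h₁ h₂ =>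
          rw [TensorProduct.tmul_add]
          have ha : ⁅k₁ ⊗ₜ[B] (b₁ ⊗ₜ[A] l₁), k₂ ⊗ₜ[B] v₁ + k₂ ⊗ₜ[B] v₂⁆ =
              ⁅k₁ ⊗ₜ[B] (b₁ ⊗ₜ[A] l₁), k₂ ⊗ₜ[B] v₁⁆ + ⁅k₁ ⊗ₜ[B] (b₁ ⊗ₜ[A] l₁), k₂ ⊗ₜ[B] v₂⁆ :=
            lie_add (k₁ ⊗ₜ[B] (b₁ ⊗ₜ[A] l₁)) (k₂ ⊗ₜ[B] v₁) (k₂ ⊗ₜ[B] v₂)
          have hb : ⁅e (k₁ ⊗ₜ[B] (b₁ ⊗ₜ[A] l₁)), e (k₂ ⊗ₜ[B] v₁) + e (k₂ ⊗ₜ[B] v₂)⁆ =
              ⁅e (k₁ ⊗ₜ[B] (b₁ ⊗ₜ[A] l₁)), e (k₂ ⊗ₜ[B] v₁)⁆ +
                ⁅e (k₁ ⊗ₜ[B] (b₁ ⊗ₜ[A] l₁)), e (k₂ ⊗ₜ[B] v₂)⁆ :=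
            lie_add (e (k₁ ⊗ₜ[B] (b₁ ⊗ₜ[A] l₁))) (e (k₂ ⊗ₜ[B] v₁)) (e (k₂ ⊗ₜ[B] v₂))
          rw [ha, map_add, map_add, hb, h₁, h₂]
        | tmul b₂ l₂ =>
          simp [he, LieAlgebra.ExtendScalars.bracket_tmul]
          rw [mul_comm b₁ b₂, mul_smul]

theorem rank_cancel {A B K' L : Type u} [CommRing A] [CommRing B] [Field K'] [Algebra A B]
    [Algebra A K'] [Algebra B K'] [IsScalarTower A B K'] [LieRing L] [LieAlgebra A L]
    [Module.Finite A L] :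
    LieAlgebra.rank K' (K' ⊗[B] (B ⊗[A] L)) = LieAlgebra.rank K' (K' ⊗[A] L) :=
  rank_eq_of_equiv (TensorProduct.AlgebraTensorModule.cancelBaseChange A B K' K' L)
    (fun x y => cancel_lie x y)

theorem rank_fibre_comap {A A' L : Type u} [CommRing A] [CommRing A'] [Algebra A A'] [LieRing L]
    [LieAlgebra A L] [Module.Finite A L] (q' : PrimeSpectrum A') :
    LieAlgebra.rank q'.asIdeal.ResidueField (q'.asIdeal.ResidueField ⊗[A'] (A' ⊗[A] L)) =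
    LieAlgebra.rank (PrimeSpectrum.comap (algebraMap A A') q').asIdeal.ResidueField
      ((PrimeSpectrum.comap (algebraMap A A') q').asIdeal.ResidueField ⊗[A] L) := by
  letI algK : Algebra (PrimeSpectrum.comap (algebraMap A A') q').asIdeal.ResidueField
      q'.asIdeal.ResidueField :=
    (Ideal.ResidueField.map (PrimeSpectrum.comap (algebraMap A A') q').asIdeal q'.asIdeal
      (algebraMap A A') rfl).toAlgebra
  letI algA : Algebra A q'.asIdeal.ResidueField :=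
    ((algebraMap A' q'.asIdeal.ResidueField).comp (algebraMap A A')).toAlgebra
  haveI t1 : IsScalarTower A A' q'.asIdeal.ResidueField :=
    IsScalarTower.of_algebraMap_eq (fun x => rfl)
  haveI t2 : IsScalarTower A (PrimeSpectrum.comap (algebraMap A A') q').asIdeal.ResidueField
      q'.asIdeal.ResidueField :=
    IsScalarTower.of_algebraMap_eq
      (fun x => (Ideal.ResidueField.map_algebraMap _ _ _ rfl x).symm)
  rw [rank_cancel (A := A) (B := A') (K' := q'.asIdeal.ResidueField) (L := L),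
    ← rank_cancel (A := A) (B := (PrimeSpectrum.comap (algebraMap A A') q').asIdeal.ResidueField)
      (K' := q'.asIdeal.ResidueField) (L := L)]
  exact Groth.Agent.S8372.rank_baseChange_field _ _ _


/-- Over an affine base Spec A: let L be a Lie algebra over A which is a finitely generated projective
A-module. If for some faithfully flat A-algebra A' the Lie algebra A' ⊗ L has a Cartan subalgebra
relative to A' (condition (C₁)), then the nilpotent rank of the fibres κ(p) ⊗ L is a locally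
constant function of p ∈ Spec A (condition (C₀)). -/
theorem result {A : Type u} [CommRing A] {L : Type u} [LieRing L]
    [LieAlgebra A L] [Module.Finite A L] [Module.Projective A L]
    (hC1 : ∃ (A' : Type u) (_ : CommRing A') (_ : Algebra A A'), Module.FaithfullyFlat A A' ∧
        ∃ H : LieSubalgebra A' (A' ⊗[A] L), SGA3t2b.IsCartanRel H) :
    ∀ p : PrimeSpectrum A, ∃ f : A, f ∉ p.asIdeal ∧ ∀ q : PrimeSpectrum A, f ∉ q.asIdeal →
        LieAlgebra.rank q.asIdeal.ResidueField (q.asIdeal.ResidueField ⊗[A] L) =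
          LieAlgebra.rank p.asIdeal.ResidueField (p.asIdeal.ResidueField ⊗[A] L) := by
  classical
  obtain ⟨A', _, _, hff, H, hH⟩ := hC1
  haveI := hff
  haveI := hH.1
  obtain ⟨ρ, hρ⟩ := Groth.Agent.S8372.exists_retraction H
  have hρi : ρ ∘ₗ (H.incl : H →ₗ[A'] (A' ⊗[A] L)) = LinearMap.id := LinearMap.ext fun h => hρ h
  haveI : Module.Finite A' H := Module.Finite.of_surjective ρ (fun h => ⟨h, hρ h⟩)
  haveI : Module.Projective A' H :=
    Module.Projective.of_split (H.incl : H →ₗ[A'] (A' ⊗[A] L)) ρ hρi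
  haveI : Module.FinitePresentation A' H := Module.finitePresentation_of_projective A' H
  have hAB : ∀ q' : PrimeSpectrum A',
      LieAlgebra.rank (PrimeSpectrum.comap (algebraMap A A') q').asIdeal.ResidueField
        ((PrimeSpectrum.comap (algebraMap A A') q').asIdeal.ResidueField ⊗[A] L) =
      Module.rankAtStalk (R := A') H q' := by
    intro q'
    rw [← rank_fibre_comap q', ← (hH.2 q').2.2, Module.rankAtStalk_eq q']
    have hinj : Function.Injective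
        ((H.incl : H →ₗ[A'] (A' ⊗[A] L)).baseChange q'.asIdeal.ResidueField) := by
      have h2 : ρ.baseChange q'.asIdeal.ResidueField ∘ₗ
          (H.incl : H →ₗ[A'] (A' ⊗[A] L)).baseChange q'.asIdeal.ResidueField = LinearMap.id := by
        rw [← LinearMap.baseChange_comp, hρi, LinearMap.baseChange_id]
      exact Function.LeftInverse.injective (fun w => LinearMap.congr_fun h2 w)
    exact LinearMap.finrank_range_of_inj hinj
  have hlc : IsLocallyConstant (fun q' : PrimeSpectrum A' => Module.rankAtStalk (R := A') H q') :=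
    Module.isLocallyConstant_rankAtStalk
  have hquot : Topology.IsQuotientMap (PrimeSpectrum.comap (algebraMap A A')) :=
    PrimeSpectrum.isQuotientMap_of_generalizingMap
      PrimeSpectrum.comap_surjective_of_faithfullyFlat
      (RingHom.Flat.generalizingMap_comap (RingHom.flat_algebraMap_iff.mpr inferInstance))
  intro p
  have hopen : IsOpen {q : PrimeSpectrum A |
      LieAlgebra.rank q.asIdeal.ResidueField (q.asIdeal.ResidueField ⊗[A] L) =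
        LieAlgebra.rank p.asIdeal.ResidueField (p.asIdeal.ResidueField ⊗[A] L)} := by
    rw [← hquot.isOpen_preimage]
    have hpre : (PrimeSpectrum.comap (algebraMap A A')) ⁻¹' {q : PrimeSpectrum A |
        LieAlgebra.rank q.asIdeal.ResidueField (q.asIdeal.ResidueField ⊗[A] L) =
          LieAlgebra.rank p.asIdeal.ResidueField (p.asIdeal.ResidueField ⊗[A] L)} =
        {q' | Module.rankAtStalk (R := A') H q' =
          LieAlgebra.rank p.asIdeal.ResidueField (p.asIdeal.ResidueField ⊗[A] L)} := by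
      ext q'
      simp only [Set.mem_preimage, Set.mem_setOf_eq, hAB]
    rw [hpre]
    exact hlc.isOpen_fiber _
  obtain ⟨_, ⟨f, rfl⟩, hpv, hv⟩ :=
    PrimeSpectrum.isTopologicalBasis_basic_opens.exists_subset_of_mem_open
      (show p ∈ {q : PrimeSpectrum A |
        LieAlgebra.rank q.asIdeal.ResidueField (q.asIdeal.ResidueField ⊗[A] L) =
          LieAlgebra.rank p.asIdeal.ResidueField (p.asIdeal.ResidueField ⊗[A] L)} from rfl) hopen
  exact ⟨f, hpv, fun q hq => hv hq⟩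

end Groth.Agent.S8378
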