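import Groth.Statements.S8376
import Mathlib
import Groth.Agent.S8375
import Groth.Agent.S8372
import Groth.Agent.S8378
-- import your own Groth.Agent.* helpers here

set_option autoImplicit false
universe u
open scoped TensorProduct
open SGA3t2b

namespace Groth.Agent.S8376


open TensorProduct

theorem isRegular_equiv {K L₁ L₂ : Type*} [Field K] [LieRing L₁] [LieAlgebra K L₁]
    [Module.Finite K L₁] [LieRing L₂] [LieAlgebra K L₂] [Module.Finite K L₂]
    (e : L₁ ≃ₗ[K] L₂) (he : ∀ x y, e ⁅x, y⁆ = ⁅e x, e y⁆) (x : L₁) :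
    LieAlgebra.IsRegular K (e x) ↔ LieAlgebra.IsRegular K x := by
  have hconj : (LieAlgebra.ad K L₂ (e x) : Module.End K L₂) =
      e.conj (LieAlgebra.ad K L₁ x : Module.End K L₁) := by
    ext y
    rw [LinearEquiv.conj_apply_apply, LieAlgebra.ad_apply, LieAlgebra.ad_apply, he,
      LinearEquiv.apply_symm_apply]
  rw [LieAlgebra.isRegular_def, LieAlgebra.isRegular_def, hconj, LinearEquiv.charpoly_conj,
    Groth.Agent.S8378.rank_eq_of_equiv e he]

theorem isRegular_cancel {A B K' L : Type u} [CommRing A] [CommRing B] [Field K'] [Algebra A B]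
    [Algebra A K'] [Algebra B K'] [IsScalarTower A B K'] [LieRing L] [LieAlgebra A L]
    [Module.Finite A L] (a : L) :
    LieAlgebra.IsRegular K' ((1 : K') ⊗ₜ[B] ((1 : B) ⊗ₜ[A] a)) ↔
      LieAlgebra.IsRegular K' ((1 : K') ⊗ₜ[A] a) := by
  have h := isRegular_equiv (TensorProduct.AlgebraTensorModule.cancelBaseChange A B K' K' L)
    (fun x y => Groth.Agent.S8378.cancel_lie x y) ((1 : K') ⊗ₜ[B] ((1 : B) ⊗ₜ[A] a))
  rw [TensorProduct.AlgebraTensorModule.cancelBaseChange_tmul, one_smul] at h
  exact h.symm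

theorem isRegular_baseChange_field {K K' M : Type u} [Field K] [Field K'] [Algebra K K']
    [LieRing M] [LieAlgebra K M] [Module.Finite K M] (x : M) :
    LieAlgebra.IsRegular K' ((1 : K') ⊗ₜ[K] x) ↔ LieAlgebra.IsRegular K x := by
  rw [LieAlgebra.isRegular_def, LieAlgebra.isRegular_def,
    Groth.Agent.S8372.rank_baseChange_field, Groth.Agent.S8375.ad_tmul_eq,
    LinearMap.charpoly_baseChange, Polynomial.coeff_map]
  exact map_ne_zero_iff _ (algebraMap K K').injective

theorem regular_fibre_comap {A A' L : Type u} [CommRing A] [CommRing A'] [Algebra A A'] [LieRing L]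
    [LieAlgebra A L] [Module.Finite A L] (q' : PrimeSpectrum A') (a : L) :
    LieAlgebra.IsRegular q'.asIdeal.ResidueField
      ((1 : q'.asIdeal.ResidueField) ⊗ₜ[A'] ((1 : A') ⊗ₜ[A] a)) ↔
    LieAlgebra.IsRegular (PrimeSpectrum.comap (algebraMap A A') q').asIdeal.ResidueField
      ((1 : (PrimeSpectrum.comap (algebraMap A A') q').asIdeal.ResidueField) ⊗ₜ[A] a) := by
  letI algK : Algebra (PrimeSpectrum.comap (algebraMap A A') q').asIdeal.ResidueField
      q'.asIdeal.ResidueField :=
    (Ideal.ResidueField.map (PrimeSpectrum.comap (algebraMap A A') q').asIdeal q'.asIdeal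
      (algebraMap A A') rfl).toAlgebra
  letI algA : Algebra A q'.asIdeal.ResidueField :=
    ((algebraMap A' q'.asIdeal.ResidueField).comp (algebraMap A A')).toAlgebra
  haveI t1 : IsScalarTower A A' q'.asIdeal.ResidueField :=
    IsScalarTower.of_algebraMap_eq (fun x => rfl)
  haveI t2 : IsScalarTower A (PrimeSpectrum.comap (algebraMap A A') q').asIdeal.ResidueField
      q'.asIdeal.ResidueField :=
    IsScalarTower.of_algebraMap_eq
      (fun x => (Ideal.ResidueField.map_algebraMap _ _ _ rfl x).symm)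
  rw [isRegular_cancel (A := A) (B := A') (K' := q'.asIdeal.ResidueField) (L := L) a,
    ← isRegular_cancel (A := A) (B := (PrimeSpectrum.comap (algebraMap A A') q').asIdeal.ResidueField)
      (K' := q'.asIdeal.ResidueField) (L := L) a]
  exact isRegular_baseChange_field _

theorem engel_smul {K M : Type*} [Field K] [LieRing M] [LieAlgebra K M] (c : K) (hc : c ≠ 0)
    (x : M) : LieSubalgebra.engel K (c • x) = LieSubalgebra.engel K x := by
  ext y
  rw [LieSubalgebra.mem_engel_iff, LieSubalgebra.mem_engel_iff]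
  have h : ∀ n : ℕ, ((LieAlgebra.ad K M (c • x)) ^ n) y =
      c ^ n • ((LieAlgebra.ad K M x) ^ n) y := by
    intro n
    rw [map_smul, smul_pow, LinearMap.smul_apply]
  constructor
  · rintro ⟨n, hn⟩
    refine ⟨n, ?_⟩
    rw [h n] at hn
    exact (smul_eq_zero.mp hn).resolve_left (pow_ne_zero n hc)
  · rintro ⟨n, hn⟩
    exact ⟨n, by rw [h n, hn, smul_zero]⟩

theorem isRegular_smul {K M : Type*} [Field K] [LieRing M] [LieAlgebra K M] [Module.Finite K M]
    (c : K) (hc : c ≠ 0) (x : M) :
    LieAlgebra.IsRegular K (c • x) ↔ LieAlgebra.IsRegular K x := by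
  rw [LieAlgebra.isRegular_iff_finrank_engel_eq_rank, LieAlgebra.isRegular_iff_finrank_engel_eq_rank,
    engel_smul c hc x]

theorem exists_lift {A : Type u} [CommRing A] {L : Type u} [AddCommGroup L] [Module A L]
    (p : PrimeSpectrum A) (x : p.asIdeal.ResidueField ⊗[A] L) :
    ∃ g : A, g ∉ p.asIdeal ∧ ∃ a : L, g • x = (1 : p.asIdeal.ResidueField) ⊗ₜ[A] a := by
  induction x using TensorProduct.induction_on with
  | zero =>
    exact ⟨1, fun h => p.isPrime.ne_top ((Ideal.eq_top_iff_one _).mpr h), 0, by simp⟩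
  | tmul s a =>
    obtain ⟨z, rfl⟩ := IsLocalRing.residue_surjective (R := Localization.AtPrime p.asIdeal) s
    obtain ⟨⟨b, g⟩, hbg⟩ := IsLocalization.surj p.asIdeal.primeCompl z
    have key : (g : A) • (IsLocalRing.residue (Localization.AtPrime p.asIdeal) z :
        p.asIdeal.ResidueField) = b • (1 : p.asIdeal.ResidueField) := by
      rw [Algebra.smul_def, Algebra.smul_def, mul_one,
        IsScalarTower.algebraMap_apply A (Localization.AtPrime p.asIdeal) p.asIdeal.ResidueField,
        IsScalarTower.algebraMap_apply A (Localization.AtPrime p.asIdeal) p.asIdeal.ResidueField b,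
        ← hbg, IsLocalRing.ResidueField.algebraMap_eq, map_mul, mul_comm]
    refine ⟨g, g.2, b • a, ?_⟩
    rw [TensorProduct.smul_tmul', key, TensorProduct.smul_tmul]
  | add x₁ x₂ h₁ h₂ =>
    obtain ⟨g₁, hg₁, a₁, e₁⟩ := h₁
    obtain ⟨g₂, hg₂, a₂, e₂⟩ := h₂
    refine ⟨g₁ * g₂, fun h => (p.isPrime.mem_or_mem h).elim hg₁ hg₂, g₂ • a₁ + g₁ • a₂, ?_⟩
    rw [smul_add, mul_comm g₁ g₂, mul_smul, e₁, mul_comm g₂ g₁, mul_smul, e₂,
      TensorProduct.tmul_add, TensorProduct.tmul_smul, TensorProduct.tmul_smul]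


/-- Over an affine base Spec A: let L be a Lie algebra over A which is a finitely generated projective
A-module satisfying condition (C₂): the nilpotent rank of the fibres κ(p) ⊗ L is locally constant on
Spec A and, for every A-algebra A', every quasi-regular element of A' ⊗ L is regular (lies in a
relative Cartan subalgebra). Then for every prime p such that κ(p) ⊗ L has a regular element
(automatic when κ(p) is infinite) there is f ∉ p such that the Lie algebra A_f ⊗ L over the
localisation A_f has a Cartan subalgebra relative to A_f. -/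
theorem result {A : Type u} [CommRing A] {L : Type u} [LieRing L]
    [LieAlgebra A L] [Module.Finite A L] [Module.Projective A L]
    (hC2 : ((∀ p : PrimeSpectrum A, ∃ f : A, f ∉ p.asIdeal ∧ ∀ q : PrimeSpectrum A, f ∉ q.asIdeal →
        LieAlgebra.rank q.asIdeal.ResidueField (q.asIdeal.ResidueField ⊗[A] L) =
          LieAlgebra.rank p.asIdeal.ResidueField (p.asIdeal.ResidueField ⊗[A] L)) ∧
      ∀ (A' : Type u) [CommRing A'] [Algebra A A'] (a' : A' ⊗[A] L),
        SGA3t2b.IsQuasiRegular A' (A' ⊗[A] L) a' → SGA3t2b.IsRegularRel A' (A' ⊗[A] L) a'))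
    (p : PrimeSpectrum A)
    (hp : ∃ x : p.asIdeal.ResidueField ⊗[A] L, LieAlgebra.IsRegular p.asIdeal.ResidueField x) :
    ∃ f : A, f ∉ p.asIdeal ∧
      ∃ H : LieSubalgebra (Localization.Away f) (Localization.Away f ⊗[A] L), SGA3t2b.IsCartanRel H := by
  classical
  obtain ⟨hC0, hQR⟩ := hC2
  obtain ⟨x, hx⟩ := hp
  obtain ⟨g, hg, a, hga⟩ := exists_lift p x
  have hgne : algebraMap A p.asIdeal.ResidueField g ≠ 0 := by
    rw [Ne, Ideal.algebraMap_residueField_eq_zero]
    exact hg
  have hreg : LieAlgebra.IsRegular p.asIdeal.ResidueField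
      ((1 : p.asIdeal.ResidueField) ⊗ₜ[A] a) := by
    rw [← hga, ← algebraMap_smul p.asIdeal.ResidueField g x, isRegular_smul _ hgne]
    exact hx
  have hopen := Groth.Agent.S8375.result hC0 a
  obtain ⟨_, ⟨f, rfl⟩, hpf, hfU⟩ :=
    PrimeSpectrum.isTopologicalBasis_basic_opens.exists_subset_of_mem_open
      (show p ∈ {q : PrimeSpectrum A | LieAlgebra.IsRegular q.asIdeal.ResidueField
        ((1 : q.asIdeal.ResidueField) ⊗ₜ[A] a)} from hreg) hopen
  have hfp : f ∉ p.asIdeal := hpf
  refine ⟨f, hfp, ?_⟩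
  have hqr : SGA3t2b.IsQuasiRegular (Localization.Away f) (Localization.Away f ⊗[A] L)
      ((1 : Localization.Away f) ⊗ₜ[A] a) := by
    intro q'
    refine (regular_fibre_comap q' a).mpr (hfU ?_)
    show f ∉ (PrimeSpectrum.comap (algebraMap A (Localization.Away f)) q').asIdeal
    intro hmem
    have hu : IsUnit (algebraMap A (Localization.Away f) f) :=
      IsLocalization.Away.algebraMap_isUnit f
    exact q'.isPrime.ne_top (Ideal.eq_top_of_isUnit_mem _ hmem hu)
  obtain ⟨_, H, hH, _⟩ := hQR (Localization.Away f) _ hqr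
  exact ⟨H, hH⟩

end Groth.Agent.S8376
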