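import Groth.Statements.S8379
import Mathlib
import Groth.Agent.S8372
import Groth.Agent.S8373
import Groth.Agent.S8375
import Groth.Agent.S8378
-- import your own Groth.Agent.* helpers here

set_option autoImplicit false
universe u
open scoped TensorProduct
open SGA3t2b

namespace Groth.Agent.S8379


open Polynomial TensorProduct

section alg

theorem fitting_of_local {R V : Type*} [CommRing R] [AddCommGroup V] [Module R V]
    (T : Module.End R V)
    (h : ∀ q : PrimeSpectrum R, ∃ g : R, g ∉ q.asIdeal ∧ ∃ (N : ℕ) (W : R[X]),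
      g • T ^ N = T ^ (N + 1) * aeval T W) :
    ∃ (N : ℕ) (W : R[X]), T ^ N = T ^ (N + 1) * aeval T W := by
  let 𝔞 : Ideal R :=
    { carrier := {g | ∃ (N : ℕ) (W : R[X]), g • T ^ N = T ^ (N + 1) * aeval T W}
      add_mem' := by
        rintro g₁ g₂ ⟨N₁, W₁, h₁⟩ ⟨N₂, W₂, h₂⟩
        refine ⟨N₁ + N₂, W₁ + W₂, ?_⟩
        have e1 : g₁ • T ^ (N₁ + N₂) = T ^ (N₁ + N₂ + 1) * aeval T W₁ := by
          have h0 : T ^ (N₁ + N₂) = T ^ N₂ * T ^ N₁ := by rw [← pow_add, add_comm]
          have hx : N₂ + (N₁ + 1) = N₁ + N₂ + 1 := by omega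
          rw [h0, ← mul_smul_comm, h₁, ← mul_assoc, ← pow_add, hx]
        have e2 : g₂ • T ^ (N₁ + N₂) = T ^ (N₁ + N₂ + 1) * aeval T W₂ := by
          have h0 : T ^ (N₁ + N₂) = T ^ N₁ * T ^ N₂ := by rw [← pow_add]
          have hx : N₁ + (N₂ + 1) = N₁ + N₂ + 1 := by omega
          rw [h0, ← mul_smul_comm, h₂, ← mul_assoc, ← pow_add, hx]
        rw [add_smul, e1, e2, map_add, mul_add]
      zero_mem' := ⟨0, 0, by simp⟩
      smul_mem' := by
        rintro c g ⟨N, W, hW⟩
        refine ⟨N, c • W, ?_⟩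
        rw [smul_eq_mul, mul_smul, hW, map_smul, mul_smul_comm] }
  have htop : 𝔞 = ⊤ := by
    by_contra hne
    obtain ⟨m, hm, hle⟩ := Ideal.exists_le_maximal _ hne
    obtain ⟨g, hg, N, W, hgN⟩ := h ⟨m, hm.isPrime⟩
    exact hg (hle ⟨N, W, hgN⟩)
  have h1 : (1 : R) ∈ 𝔞 := by rw [htop]; trivial
  obtain ⟨N, W, hNW⟩ := h1
  exact ⟨N, W, by rwa [one_smul] at hNW⟩

theorem local_step {R V : Type*} [CommRing R] [AddCommGroup V] [Module R V] (T : Module.End R V)
    (P : R[X]) (hP : aeval T P = 0) (d : ℕ) (g : R)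
    (hnil : ∀ j < d, IsNilpotent (g * P.coeff j)) :
    ∃ (s N : ℕ) (W : R[X]), (g * P.coeff d) ^ s • T ^ N = T ^ (N + 1) * aeval T W := by
  set n := P.natDegree with hn
  set plow : R[X] := ∑ j ∈ Finset.range d, monomial j (P.coeff j) with hplow
  set H : R[X] := ∑ j ∈ Finset.range (n + 1), monomial j (P.coeff (j + d)) with hH
  have h1 : ∀ k, plow.coeff k = if k < d then P.coeff k else 0 := by
    intro k
    rw [hplow, finsetSum_coeff]
    simp only [coeff_monomial, Finset.sum_ite_eq', Finset.mem_range]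
  have h2 : ∀ m, H.coeff m = if m < n + 1 then P.coeff (m + d) else 0 := by
    intro m
    rw [hH, finsetSum_coeff]
    simp only [coeff_monomial, Finset.sum_ite_eq', Finset.mem_range]
  have hdec : P = plow + X ^ d * H := by
    ext k
    rw [coeff_add, coeff_X_pow_mul', h1]
    by_cases hk : k < d
    · rw [if_pos hk, if_neg (by omega), add_zero]
    · rw [if_neg hk, if_pos (by omega), zero_add, h2]
      by_cases hkn : k - d < n + 1
      · rw [if_pos hkn]; congr 1; omega
      · rw [if_neg hkn]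
        exact coeff_eq_zero_of_natDegree_lt (by omega)
  set α := g * P.coeff d with hα
  set W₁ : R[X] := C g * divX H with hW₁
  have hH0 : H.coeff 0 = P.coeff d := by rw [h2, if_pos (by omega), zero_add]
  have hCH : C g * H = C α + X * W₁ := by
    conv_lhs => rw [← divX_mul_X_add H]
    rw [hH0, hW₁, hα, C_mul]; ring
  set v : R[X] := C g * plow with hv
  have hvnil : IsNilpotent v := by
    rw [Polynomial.isNilpotent_iff]
    intro k
    rw [hv, coeff_C_mul, h1]
    by_cases hk : k < d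
    · rw [if_pos hk]; exact hnil k hk
    · rw [if_neg hk, mul_zero]; exact IsNilpotent.zero
  obtain ⟨s, hs⟩ := hvnil
  set u : R[X] := C g * P with hu
  have huv : X ^ d * (C α + X * W₁) = u - v := by
    rw [hu, hv, ← hCH]; conv_rhs => rw [hdec]
    ring
  obtain ⟨Y, hY⟩ : P ∣ (u - v) ^ s := by
    have h3 := sub_dvd_pow_sub_pow (u - v) (-v) s
    rw [sub_neg_eq_add, sub_add_cancel, neg_pow, hs, mul_zero, sub_zero] at h3
    exact (Dvd.intro_left (C g) rfl).trans h3
  obtain ⟨Z, hZ⟩ := sub_dvd_pow_sub_pow (C α + X * W₁) (C α) s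
  rw [add_sub_cancel_left] at hZ
  have hZ' : (C α + X * W₁) ^ s = C (α ^ s) + X * (W₁ * Z) := by
    have h7 := hZ
    rw [sub_eq_iff_eq_add] at h7
    rw [h7, C_pow]; ring
  have hpoly : (X ^ d) ^ s * (C (α ^ s) + X * (W₁ * Z)) = P * Y := by
    calc (X ^ d) ^ s * (C (α ^ s) + X * (W₁ * Z)) = (X ^ d) ^ s * (C α + X * W₁) ^ s := by rw [hZ']
      _ = (X ^ d * (C α + X * W₁)) ^ s := (mul_pow _ _ _).symm
      _ = (u - v) ^ s := by rw [huv]
      _ = P * Y := hY
  have hfin := congrArg (aeval T) hpoly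
  simp only [map_mul, map_pow, map_add, aeval_X, aeval_C, hP, zero_mul] at hfin
  have h5 : (algebraMap R (Module.End R V) α) ^ s = α ^ s • (1 : Module.End R V) := by
    rw [← map_pow, Algebra.algebraMap_eq_smul_one]
  have h6 : T ^ (d * s) * (T * (aeval T W₁ * aeval T Z)) =
      T ^ (d * s + 1) * (aeval T W₁ * aeval T Z) := by rw [pow_succ, mul_assoc]
  rw [h5, ← pow_mul, mul_add, mul_smul_comm, mul_one, h6] at hfin
  refine ⟨s, d * s, -(W₁ * Z), ?_⟩
  rw [map_neg, mul_neg, eq_neg_iff_add_eq_zero, map_mul]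
  exact hfin

theorem fitting_consequences {R V : Type*} [CommRing R] [AddCommGroup V] [Module R V]
    [Module.Projective R V]
    (T : Module.End R V) (N : ℕ) (W : R[X]) (hNW : T ^ N = T ^ (N + 1) * aeval T W)
    (E : Submodule R V) (hE : ∀ x, x ∈ E ↔ ∃ k : ℕ, (T ^ k) x = 0) :
    Module.Projective R (V ⧸ E) ∧ ∀ y, ∃ z, T z - y ∈ E := by
  set Vv := aeval T W with hVv
  have hcomm : Commute T Vv := by
    have := (Commute.all (X : R[X]) W).map (aeval T)
    rwa [aeval_X] at this
  set F := T * Vv with hF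
  have h1 : T ^ N * F = T ^ N := by rw [hF, ← mul_assoc, ← pow_succ]; exact hNW.symm
  have h2 : ∀ k, T ^ N * F ^ k = T ^ N := by
    intro k
    induction k with
    | zero => rw [pow_zero, mul_one]
    | succ k ih => rw [pow_succ, ← mul_assoc, ih, h1]
  have hFk : ∀ k, F ^ k = Vv ^ k * T ^ k := by
    intro k; rw [hF, hcomm.mul_pow, (hcomm.pow_pow k k).eq]
  set e := F ^ N with he
  have hTe : T ^ N * e = T ^ N := h2 N
  have hEk : ∀ x, x ∈ E ↔ (T ^ N) x = 0 := by
    intro x; rw [hE]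
    constructor
    · rintro ⟨k, hk⟩
      have := LinearMap.congr_fun (h2 k) x
      rw [Module.End.mul_apply, hFk k, Module.End.mul_apply, hk, map_zero, map_zero] at this
      exact this.symm
    · intro h; exact ⟨N, h⟩
  have hker : ∀ x ∈ E, e x = 0 := by
    intro x hx
    rw [he, hFk N, Module.End.mul_apply, (hEk x).mp hx, map_zero]
  have hTe' : ∀ x, (T ^ N) (e x) = (T ^ N) x := fun x => LinearMap.congr_fun hTe x
  have hsub : ∀ x, e x - x ∈ E := by
    intro x
    rw [hEk, map_sub, hTe', sub_self]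
  refine ⟨?_, ?_⟩
  · refine Module.Projective.of_split
      (E.liftQ e (fun x hx => LinearMap.mem_ker.mpr (hker x hx))) E.mkQ ?_
    apply LinearMap.ext
    intro m
    obtain ⟨x, rfl⟩ := E.mkQ_surjective m
    simp only [LinearMap.comp_apply, Submodule.mkQ_apply, Submodule.liftQ_apply,
      LinearMap.id_apply]
    rw [Submodule.Quotient.eq]
    exact hsub x
  · intro y
    refine ⟨Vv (e y), ?_⟩
    have e1 : (T ^ N) (F (e y)) = (T ^ N) (e y) := LinearMap.congr_fun h1 (e y)
    rw [hEk, map_sub]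
    show (T ^ N) (F (e y)) - (T ^ N) y = 0
    rw [e1, hTe', sub_self]

theorem aeval_conj {R V : Type*} [CommRing R] [AddCommGroup V] [Module R V] {n : ℕ}
    (π : (Fin n → R) →ₗ[R] V) (i : V →ₗ[R] (Fin n → R)) (hπi : π ∘ₗ i = LinearMap.id)
    (T : Module.End R V) (p : R[X]) :
    aeval T p = π ∘ₗ (aeval (i ∘ₗ T ∘ₗ π : Module.End R (Fin n → R)) p) ∘ₗ i := by
  have hπi' : ∀ y, π (i y) = y := fun y => LinearMap.congr_fun hπi y
  induction p using Polynomial.induction_on' with
  | add p q hp hq => rw [map_add, map_add, hp, hq, LinearMap.add_comp, LinearMap.comp_add]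
  | monomial k c =>
    rw [aeval_monomial, aeval_monomial]
    cases k with
    | zero =>
      apply LinearMap.ext; intro v
      simp [Algebra.algebraMap_eq_smul_one, hπi']
    | succ k =>
      rw [Groth.Agent.S8373.conj_pow i π hπi T k]
      apply LinearMap.ext; intro v
      simp [Algebra.algebraMap_eq_smul_one, Module.End.mul_apply, hπi']

end alg

theorem coeff_facts {A : Type u} [CommRing A] {L : Type u} [LieRing L]
    [LieAlgebra A L] [Module.Finite A L] [Module.Projective A L] (a : L) {n : ℕ}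
    (π : (Fin n → A) →ₗ[A] L) (i : L →ₗ[A] (Fin n → A)) (hπi : π ∘ₗ i = LinearMap.id)
    (q : PrimeSpectrum A)
    (hreg : LieAlgebra.IsRegular q.asIdeal.ResidueField ((1 : q.asIdeal.ResidueField) ⊗ₜ[A] a)) :
    (Module.rankAtStalk L q ≤ n + LieAlgebra.rank q.asIdeal.ResidueField (q.asIdeal.ResidueField ⊗[A] L) ∧
      (i ∘ₗ (LieAlgebra.ad A L a : L →ₗ[A] L) ∘ₗ π).charpoly.coeff
        (n + LieAlgebra.rank q.asIdeal.ResidueField (q.asIdeal.ResidueField ⊗[A] L) -
          Module.rankAtStalk L q) ∉ q.asIdeal) ∧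
    ∀ j, j + Module.rankAtStalk L q <
        n + LieAlgebra.rank q.asIdeal.ResidueField (q.asIdeal.ResidueField ⊗[A] L) →
      (i ∘ₗ (LieAlgebra.ad A L a : L →ₗ[A] L) ∘ₗ π).charpoly.coeff j ∈ q.asIdeal := by
  classical
  set T : L →ₗ[A] L := (LieAlgebra.ad A L a : L →ₗ[A] L) with hT
  set M : (Fin n → A) →ₗ[A] (Fin n → A) := i ∘ₗ T ∘ₗ π with hM
  set r := LieAlgebra.rank q.asIdeal.ResidueField (q.asIdeal.ResidueField ⊗[A] L) with hr
  set ρ := Module.rankAtStalk L q with hρ
  have key : (X : q.asIdeal.ResidueField[X]) ^ n *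
        (LieAlgebra.ad q.asIdeal.ResidueField (q.asIdeal.ResidueField ⊗[A] L)
          ((1 : q.asIdeal.ResidueField) ⊗ₜ[A] a)).charpoly =
      X ^ ρ * M.charpoly.map (algebraMap A q.asIdeal.ResidueField) := by
    have : Nontrivial A := (algebraMap A q.asIdeal.ResidueField).domain_nontrivial
    have h1 := Groth.Agent.S8375.charpoly_comp_comm (K := q.asIdeal.ResidueField)
      ((i.baseChange q.asIdeal.ResidueField) ∘ₗ (T.baseChange q.asIdeal.ResidueField))
      (π.baseChange q.asIdeal.ResidueField)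
    have h2 : ((i.baseChange q.asIdeal.ResidueField) ∘ₗ (T.baseChange q.asIdeal.ResidueField)) ∘ₗ
        (π.baseChange q.asIdeal.ResidueField) = M.baseChange q.asIdeal.ResidueField := by
      rw [hM, LinearMap.baseChange_comp, LinearMap.baseChange_comp, LinearMap.comp_assoc]
    have h3 : (π.baseChange q.asIdeal.ResidueField) ∘ₗ
        ((i.baseChange q.asIdeal.ResidueField) ∘ₗ (T.baseChange q.asIdeal.ResidueField)) =
        T.baseChange q.asIdeal.ResidueField := by
      rw [← LinearMap.comp_assoc, ← LinearMap.baseChange_comp, hπi, LinearMap.baseChange_id,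
        LinearMap.id_comp]
    rw [h2, h3, LinearMap.charpoly_baseChange] at h1
    have h4 : Module.finrank q.asIdeal.ResidueField
        (q.asIdeal.ResidueField ⊗[A] (Fin n → A)) = n := by
      rw [Module.finrank_baseChange]; simp
    have h5 : Module.finrank q.asIdeal.ResidueField (q.asIdeal.ResidueField ⊗[A] L) =
        Module.rankAtStalk L q := (Module.rankAtStalk_eq q).symm
    rw [h4, h5] at h1
    rw [Groth.Agent.S8375.ad_tmul_eq]
    exact h1.symm
  have hχ : (LieAlgebra.ad q.asIdeal.ResidueField (q.asIdeal.ResidueField ⊗[A] L)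
      ((1 : q.asIdeal.ResidueField) ⊗ₜ[A] a)).charpoly.coeff r ≠ 0 :=
    (LieAlgebra.isRegular_def _ _).mp hreg
  have hlow : ∀ k < r, (LieAlgebra.ad q.asIdeal.ResidueField (q.asIdeal.ResidueField ⊗[A] L)
      ((1 : q.asIdeal.ResidueField) ⊗ₜ[A] a)).charpoly.coeff k = 0 := by
    intro k hk
    apply Polynomial.coeff_eq_zero_of_lt_natTrailingDegree
    exact lt_of_lt_of_le hk (LieAlgebra.rank_le_natTrailingDegree_charpoly_ad _ _)
  refine ⟨?_, ?_⟩
  · have hk := congrArg (fun P => Polynomial.coeff P (n + r)) key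
    simp only [Polynomial.coeff_X_pow_mul'] at hk
    rw [if_pos (Nat.le_add_right n r), Nat.add_sub_cancel_left] at hk
    by_cases hle : ρ ≤ n + r
    · rw [if_pos hle, Polynomial.coeff_map] at hk
      refine ⟨hle, fun hmem => hχ ?_⟩
      rw [hk, Ideal.algebraMap_residueField_eq_zero.mpr hmem]
    · rw [if_neg hle] at hk
      exact (hχ hk).elim
  · intro j hj
    have hk := congrArg (fun P => Polynomial.coeff P (j + ρ)) key
    simp only [Polynomial.coeff_X_pow_mul] at hk
    rw [Polynomial.coeff_X_pow_mul', Polynomial.coeff_map] at hk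
    rw [← Ideal.algebraMap_residueField_eq_zero, ← hk]
    by_cases hnj : n ≤ j + ρ
    · rw [if_pos hnj]; exact hlow _ (by omega)
    · rw [if_neg hnj]


/-- Over an affine base Spec A with A reduced: let L be a Lie algebra over A which is a finitely
generated projective A-module whose fibres κ(p) ⊗ L have locally constant nilpotent rank on Spec A.
Then for every A-algebra A', every quasi-regular element of A' ⊗ L (regular in every fibre) is
regular: it lies in a Cartan subalgebra of A' ⊗ L relative to A' (over a reduced base, condition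
(C₀) implies condition (C₂)). -/
theorem result {A : Type u} [CommRing A] {L : Type u} [LieRing L]
    [LieAlgebra A L] [Module.Finite A L] [Module.Projective A L] [IsReduced A]
    (hC0 : ∀ p : PrimeSpectrum A, ∃ f : A, f ∉ p.asIdeal ∧ ∀ q : PrimeSpectrum A, f ∉ q.asIdeal →
        LieAlgebra.rank q.asIdeal.ResidueField (q.asIdeal.ResidueField ⊗[A] L) =
          LieAlgebra.rank p.asIdeal.ResidueField (p.asIdeal.ResidueField ⊗[A] L))
    (A' : Type u) [CommRing A'] [Algebra A A'] (a' : A' ⊗[A] L)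
    (ha' : SGA3t2b.IsQuasiRegular A' (A' ⊗[A] L) a') :
    SGA3t2b.IsRegularRel A' (A' ⊗[A] L) a' := by
  classical
  refine ⟨ha', LieSubalgebra.engel A' a', ?_, LieSubalgebra.self_mem_engel A' a'⟩
  have hfp : Module.FinitePresentation A' (A' ⊗[A] L) :=
    Module.finitePresentation_of_projective A' (A' ⊗[A] L)
  obtain ⟨n, π, i, -, -, hπi⟩ := Module.Finite.exists_comp_eq_id_of_projective A' (A' ⊗[A] L)
  set T : Module.End A' (A' ⊗[A] L) := (LieAlgebra.ad A' (A' ⊗[A] L) a' : _ →ₗ[A'] _) with hT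
  set M : Module.End A' (Fin n → A') := i ∘ₗ T ∘ₗ π with hM
  have hPT : aeval T M.charpoly = 0 := by
    rw [aeval_conj π i hπi T, hM, LinearMap.aeval_self_charpoly]; simp
  have hloc : ∀ q : PrimeSpectrum A', ∃ g : A', g ∉ q.asIdeal ∧ ∃ (N : ℕ) (W : Polynomial A'),
      g • T ^ N = T ^ (N + 1) * aeval T W := by
    intro q
    obtain ⟨⟨hρle, hcd⟩, -⟩ := coeff_facts a' π i hπi q (ha' q)
    set ρ := Module.rankAtStalk (A' ⊗[A] L) q with hρdef
    set r := LieAlgebra.rank q.asIdeal.ResidueField (q.asIdeal.ResidueField ⊗[A'] (A' ⊗[A] L))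
      with hr
    obtain ⟨f, hfq, hf⟩ := hC0 (PrimeSpectrum.comap (algebraMap A A') q)
    obtain ⟨_, ⟨g₂, rfl⟩, hq2, hg₂⟩ :=
      PrimeSpectrum.isTopologicalBasis_basic_opens.exists_subset_of_mem_open
        (show q ∈ {q'' : PrimeSpectrum A' | Module.rankAtStalk (A' ⊗[A] L) q'' = ρ} from rfl)
        ((Module.isLocallyConstant_rankAtStalk).isOpen_fiber ρ)
    have hfq' : algebraMap A A' f ∉ q.asIdeal := hfq
    have hq2' : g₂ ∉ q.asIdeal := hq2
    have hgq : algebraMap A A' f * g₂ ∉ q.asIdeal :=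
      fun h => (q.isPrime.mem_or_mem h).elim hfq' hq2'
    have hnil : ∀ j < n + r - ρ, IsNilpotent (algebraMap A A' f * g₂ * M.charpoly.coeff j) := by
      intro j hj
      rw [nilpotent_iff_mem_prime]
      intro J hJ
      by_cases hgJ : algebraMap A A' f * g₂ ∈ J
      · exact J.mul_mem_right _ hgJ
      · apply J.mul_mem_left
        have hfJ : algebraMap A A' f ∉ J := fun h => hgJ (J.mul_mem_right _ h)
        have hg₂J : g₂ ∉ J := fun h => hgJ (J.mul_mem_left _ h)
        have hρJ : Module.rankAtStalk (A' ⊗[A] L) (⟨J, hJ⟩ : PrimeSpectrum A') = ρ :=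
          hg₂ (show (⟨J, hJ⟩ : PrimeSpectrum A') ∈ (PrimeSpectrum.basicOpen g₂ : Set _) from hg₂J)
        have hrJ : LieAlgebra.rank (⟨J, hJ⟩ : PrimeSpectrum A').asIdeal.ResidueField
            ((⟨J, hJ⟩ : PrimeSpectrum A').asIdeal.ResidueField ⊗[A'] (A' ⊗[A] L)) = r := by
          rw [hr, Groth.Agent.S8378.rank_fibre_comap (⟨J, hJ⟩ : PrimeSpectrum A'),
            Groth.Agent.S8378.rank_fibre_comap q]
          exact hf _ hfJ
        have h3 := (coeff_facts a' π i hπi (⟨J, hJ⟩ : PrimeSpectrum A') (ha' ⟨J, hJ⟩)).2 j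
          (by rw [hρJ, hrJ]; omega)
        exact h3
    obtain ⟨s, N, W, hsN⟩ := local_step T M.charpoly hPT (n + r - ρ) (algebraMap A A' f * g₂) hnil
    refine ⟨(algebraMap A A' f * g₂ * M.charpoly.coeff (n + r - ρ)) ^ s, ?_, N, W, hsN⟩
    intro hmem
    have h4 := q.isPrime.mem_of_pow_mem _ hmem
    exact (q.isPrime.mem_or_mem h4).elim hgq hcd
  obtain ⟨N, W, hNW⟩ := fitting_of_local T hloc
  obtain ⟨hproj, hS⟩ := fitting_consequences T N W hNW (LieSubalgebra.engel A' a').toSubmodule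
    (fun x => by rw [LieSubalgebra.mem_toSubmodule, LieSubalgebra.mem_engel_iff])
  refine Groth.Agent.S8372.isCartanRel_of_engel a' ha' _ (LieSubalgebra.self_mem_engel A' a')
    (fun y => LieSubalgebra.mem_engel_iff A' a' y) hproj ?_ (fun y => hS y)
  intro z hz
  rw [LieSubalgebra.mem_engel_iff] at hz ⊢
  obtain ⟨k, hk⟩ := hz
  refine ⟨k + 1, ?_⟩
  rw [pow_succ, Module.End.mul_apply, LieAlgebra.ad_apply]
  exact hk

end Groth.Agent.S8379
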