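import Groth.Statements.S8374
import Mathlib
import Groth.Agent.S8372
import Groth.Agent.S8373
import Groth.Agent.S8375
import Groth.Agent.S8376
import Groth.Agent.S8379
-- import your own Groth.Agent.* helpers here

set_option autoImplicit false
universe u
open scoped TensorProduct
open SGA3t2b

namespace Groth.Agent.S8374


open Polynomial TensorProduct

theorem exists_regular_in_cartan {K M N : Type*} [Field K] [Infinite K] [LieRing M] [LieAlgebra K M]
    [Module.Finite K M] [LieRing N] [LieAlgebra K N] [LieRing.IsNilpotent N]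
    (ι : N →ₗ[K] M) (hι : ∀ s t, ι ⁅s, t⁆ = ⁅ι s, ι t⁆)
    (hnorm : ∀ x : M, (∀ y ∈ LinearMap.range ι, ⁅x, y⁆ ∈ LinearMap.range ι) → x ∈ LinearMap.range ι)
    (hdim : Module.finrank K (LinearMap.range ι) = LieAlgebra.rank K M) :
    ∃ s : N, LieAlgebra.IsRegular K (ι s) := by
  classical
  obtain ⟨k₀, hk₀⟩ := LieAlgebra.nilpotent_ad_of_nilpotent_algebra K N
  let U : LieSubalgebra K M :=
    { LinearMap.range ι with
      lie_mem' := by
        rintro _ _ ⟨s, rfl⟩ ⟨t, rfl⟩
        exact ⟨⁅s, t⁆, hι s t⟩ }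
  have hint : ∀ (s : N) (j : ℕ) (t : N), ((LieAlgebra.ad K M (ι s)) ^ j) (ι t) =
      ι (((LieAlgebra.ad K N s) ^ j) t) := by
    intro s j
    induction j with
    | zero => intro t; simp
    | succ j ih =>
      intro t
      rw [pow_succ', Module.End.mul_apply, ih, pow_succ', Module.End.mul_apply, LieAlgebra.ad_apply,
        LieAlgebra.ad_apply, hι]
  have hUle : ∀ s : N, U ≤ LieSubalgebra.engel K (ι s) := by
    rintro s _ ⟨t, rfl⟩
    rw [LieSubalgebra.mem_engel_iff]
    exact ⟨k₀, by rw [hint, hk₀, LinearMap.zero_apply, map_zero]⟩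
  let S : Set ℕ := {m | ∃ s : N, Module.finrank K (LieSubalgebra.engel K (ι s)) = m}
  have hSne : S.Nonempty := ⟨_, 0, rfl⟩
  obtain ⟨s₀, hs₀⟩ := Nat.sInf_mem hSne
  have hmin : ∀ s : N, Module.finrank K (LieSubalgebra.engel K (ι s₀)) ≤
      Module.finrank K (LieSubalgebra.engel K (ι s)) := by
    intro s; rw [hs₀]; exact Nat.sInf_le ⟨s, rfl⟩
  have hcard : (Module.finrank K M : Cardinal) ≤ Cardinal.mk K :=
    (Cardinal.natCast_le_aleph0).trans (Cardinal.infinite_iff.mp ‹Infinite K›)
  have hbot : IsBot (⟨LieSubalgebra.engel K (ι s₀), ι s₀, ⟨s₀, rfl⟩, rfl⟩ :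
      {LieSubalgebra.engel K x | x ∈ U}) := by
    apply LieAlgebra.engel_isBot_of_isMin hcard U _ (hUle s₀)
    rintro ⟨_, y, ⟨t, rfl⟩, rfl⟩ hyx
    have hfr := hmin t
    have heq : LieSubalgebra.engel K (ι t) = LieSubalgebra.engel K (ι s₀) := by
      apply LieSubalgebra.toSubmodule_injective
      exact Submodule.eq_of_le_of_finrank_le hyx hfr
    exact heq.ge
  let E' : LieSubmodule K U M :=
    { ((LieSubalgebra.engel K (ι s₀)).toSubmodule) with
      lie_mem := fun {u m} hm => by
        rw [LieSubalgebra.coe_bracket_of_module]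
        exact (LieSubalgebra.engel K (ι s₀)).lie_mem (hUle s₀ u.2) hm }
  have hcoe : ∀ (u : U) (j : ℕ) (e : E'), (((LieModule.toEnd K U E' u) ^ j) e : M) =
      ((LieAlgebra.ad K M (u : M)) ^ j) (e : M) := by
    intro u j
    induction j with
    | zero => intro e; simp
    | succ j ih =>
      intro e
      rw [pow_succ', Module.End.mul_apply, pow_succ', Module.End.mul_apply, ← ih]
      rfl
  have hnilE : ∀ u : U, _root_.IsNilpotent (LieModule.toEnd K U E' u) := by
    intro u
    rw [Module.End.isNilpotent_iff_of_finite]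
    intro e
    obtain ⟨t, ht⟩ := u.2
    have hmem : (e : M) ∈ LieSubalgebra.engel K (u : M) := by
      rw [← ht]
      exact hbot ⟨_, ι t, ⟨t, rfl⟩, rfl⟩ e.2
    rw [LieSubalgebra.mem_engel_iff] at hmem
    obtain ⟨j, hj⟩ := hmem
    refine ⟨j, ?_⟩
    apply Subtype.ext
    rw [hcoe u j e, hj]; rfl
  haveI : LieModule.IsNilpotent U E' := (LieModule.isNilpotent_iff_forall' (R := K)).mpr hnilE
  obtain ⟨k, hk⟩ := (LieSubmodule.isNilpotent_iff_exists_lcs_eq_bot E').mp inferInstance
  have hdesc : ∀ j, j ≤ k → ∀ m ∈ E'.lcs (k - j), m ∈ LinearMap.range ι := by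
    intro j
    induction j with
    | zero =>
      intro _ m hm
      rw [Nat.sub_zero, hk] at hm
      rw [(LieSubmodule.mem_bot m).mp hm]; exact Submodule.zero_mem _
    | succ j ih =>
      intro hj m hm
      apply hnorm
      intro y hy
      have h1 : ⁅(⟨y, hy⟩ : U), m⁆ ∈ E'.lcs (k - (j + 1) + 1) := by
        rw [LieSubmodule.lcs_succ]
        exact LieSubmodule.lie_mem_lie (LieSubmodule.mem_top _) hm
      have h2 : k - (j + 1) + 1 = k - j := by omega
      rw [h2] at h1
      have h3 := ih (by omega) _ h1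
      rw [LieSubalgebra.coe_bracket_of_module] at h3
      have h4 : ⁅m, y⁆ = -⁅y, m⁆ := (lie_skew m y).symm
      rw [h4]; exact Submodule.neg_mem _ h3
  have hEle : ∀ m ∈ LieSubalgebra.engel K (ι s₀), m ∈ LinearMap.range ι := by
    intro m hm
    exact hdesc k le_rfl m (by rw [Nat.sub_self, LieSubmodule.lcs_zero]; exact hm)
  refine ⟨s₀, (LieAlgebra.isRegular_iff_finrank_engel_eq_rank K (ι s₀)).mpr ?_⟩
  rw [← hdim]
  have hEq : (LieSubalgebra.engel K (ι s₀)).toSubmodule = LinearMap.range ι :=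
    le_antisymm (fun m hm => hEle m hm) (hUle s₀)
  exact congrArg (fun W : Submodule K M => Module.finrank K W) hEq


theorem incl_lie {A : Type u} [CommRing A] {L : Type u} [LieRing L] [LieAlgebra A L]
    (K : Type u) [CommRing K] [Algebra A K] (H : LieSubalgebra A L) (x y : K ⊗[A] H) :
    ((H.incl : H →ₗ[A] L).baseChange K) ⁅x, y⁆ =
      ⁅((H.incl : H →ₗ[A] L).baseChange K) x, ((H.incl : H →ₗ[A] L).baseChange K) y⁆ := by
  set e := (H.incl : H →ₗ[A] L).baseChange K with he
  induction x using TensorProduct.induction_on with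
  | zero =>
    have ha : ⁅(0 : K ⊗[A] H), y⁆ = 0 := zero_lie y
    have hb : ⁅(0 : K ⊗[A] L), e y⁆ = 0 := zero_lie _
    rw [ha, map_zero, hb]
  | add x₁ x₂ h₁ h₂ =>
    have ha : ⁅x₁ + x₂, y⁆ = ⁅x₁, y⁆ + ⁅x₂, y⁆ := add_lie x₁ x₂ y
    have hb : ⁅e x₁ + e x₂, e y⁆ = ⁅e x₁, e y⁆ + ⁅e x₂, e y⁆ := add_lie _ _ _
    rw [ha, map_add, map_add, hb, h₁, h₂]
  | tmul k₁ u₁ =>
    induction y using TensorProduct.induction_on with
    | zero =>
      have ha : ⁅k₁ ⊗ₜ[A] u₁, (0 : K ⊗[A] H)⁆ = 0 := lie_zero (k₁ ⊗ₜ[A] u₁)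
      have hb : ⁅e (k₁ ⊗ₜ[A] u₁), (0 : K ⊗[A] L)⁆ = 0 := lie_zero (e (k₁ ⊗ₜ[A] u₁))
      rw [ha, map_zero, hb]
    | add y₁ y₂ h₁ h₂ =>
      have ha : ⁅k₁ ⊗ₜ[A] u₁, y₁ + y₂⁆ = ⁅k₁ ⊗ₜ[A] u₁, y₁⁆ + ⁅k₁ ⊗ₜ[A] u₁, y₂⁆ :=
        lie_add (k₁ ⊗ₜ[A] u₁) y₁ y₂
      have hb : ⁅e (k₁ ⊗ₜ[A] u₁), e y₁ + e y₂⁆ =
          ⁅e (k₁ ⊗ₜ[A] u₁), e y₁⁆ + ⁅e (k₁ ⊗ₜ[A] u₁), e y₂⁆ :=
        lie_add (e (k₁ ⊗ₜ[A] u₁)) (e y₁) (e y₂)
      rw [ha, map_add, map_add, hb, h₁, h₂]
    | tmul k₂ u₂ =>
      simp [he, LieAlgebra.ExtendScalars.bracket_tmul, LinearMap.baseChange_tmul]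

section lem
variable {A : Type u} [CommRing A] {L : Type u} [LieRing L] [LieAlgebra A L]

theorem le_engel_of_fibres_nilp [Module.Finite A L] [Module.Projective A L]
    (H : LieSubalgebra A L) (hP : Module.Projective A (L ⧸ H.toSubmodule)) (x : L) (hxH : x ∈ H)
    (hnf : ∀ p : PrimeSpectrum A, IsNilpotent
      ((LieAlgebra.ad A H ⟨x, hxH⟩ : H →ₗ[A] H).baseChange p.asIdeal.ResidueField)) :
    H ≤ LieSubalgebra.engel A x := by
  classical
  set T : L →ₗ[A] L := (LieAlgebra.ad A L x : L →ₗ[A] L) with hT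
  set TH : H →ₗ[A] H := (LieAlgebra.ad A H ⟨x, hxH⟩ : H →ₗ[A] H) with hTH
  set incl : H →ₗ[A] L := (H.incl : H →ₗ[A] L) with hincl
  have hcoe : ∀ (k : ℕ) (h : H), (T ^ k) (h : L) = ((TH ^ k) h : H) :=
    fun k h => Groth.Agent.S8373.coe_pow_ad H ⟨x, hxH⟩ k h
  have : Module.Projective A (L ⧸ H.toSubmodule) := hP
  obtain ⟨ρH, hρi⟩ := Groth.Agent.S8372.exists_retraction H
  obtain ⟨n, π, i, -, -, hπi⟩ := Module.Finite.exists_comp_eq_id_of_projective A L
  have hπi' : ∀ y, π (i y) = y := fun y => LinearMap.congr_fun hπi y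
  set P : H →ₗ[A] (Fin n → A) := i ∘ₗ incl with hP'
  set R : (Fin n → A) →ₗ[A] H := ρH ∘ₗ π with hR
  have hRP : R ∘ₗ P = LinearMap.id := by
    refine LinearMap.ext fun h => ?_
    show ρH (π (i (h : L))) = h
    rw [hπi', hρi]
  set M : (Fin n → A) →ₗ[A] (Fin n → A) := P ∘ₗ TH ∘ₗ R with hM
  have hMnil : IsNilpotent M := by
    apply Groth.Agent.S8373.nilp_of_fibres
    intro p
    obtain ⟨k, hk⟩ := hnf p
    refine ⟨k + 1, ?_⟩
    have hRPκ : R.baseChange p.asIdeal.ResidueField ∘ₗ P.baseChange p.asIdeal.ResidueField =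
        LinearMap.id := by
      rw [← LinearMap.baseChange_comp, hRP, LinearMap.baseChange_id]
    have hMκ : M.baseChange p.asIdeal.ResidueField =
        P.baseChange p.asIdeal.ResidueField ∘ₗ TH.baseChange p.asIdeal.ResidueField ∘ₗ
          R.baseChange p.asIdeal.ResidueField := by
      rw [hM, LinearMap.baseChange_comp (f := TH ∘ₗ R) P, LinearMap.baseChange_comp (f := R) TH]
    rw [hMκ, Groth.Agent.S8373.conj_pow _ _ hRPκ, pow_succ, hk, zero_mul]
    simp
  obtain ⟨N, hN⟩ := hMnil
  have hTHN : TH ^ (N + 1) = 0 := by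
    have h1 : M ^ (N + 1) = 0 := by rw [pow_succ, hN, zero_mul]
    rw [hM, Groth.Agent.S8373.conj_pow _ _ hRP] at h1
    have hrp : ∀ z, R (P z) = z := fun z => LinearMap.congr_fun hRP z
    refine LinearMap.ext fun h => ?_
    have h2 := LinearMap.congr_fun h1 (P h)
    simp only [LinearMap.comp_apply, LinearMap.zero_apply] at h2
    rw [hrp] at h2
    have h3 := congrArg R h2
    rw [hrp, map_zero] at h3
    rw [h3]; rfl
  intro y hy
  rw [LieSubalgebra.mem_engel_iff]
  refine ⟨N + 1, ?_⟩
  have h4 := hcoe (N + 1) ⟨y, hy⟩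
  rw [hTHN] at h4
  simpa using h4


theorem engel_le_up_to_pow [Module.Finite A L]
    (H : LieSubalgebra A L) (hP : Module.Projective A (L ⧸ H.toSubmodule)) (x : L) (hxH : x ∈ H)
    (f : A)
    (hsf : ∀ q : PrimeSpectrum A, f ∉ q.asIdeal → ∀ z : q.asIdeal.ResidueField ⊗[A] L,
      ∃ w : q.asIdeal.ResidueField ⊗[A] L,
        ((LieAlgebra.ad A L x : L →ₗ[A] L).baseChange q.asIdeal.ResidueField) w - z ∈
          LinearMap.range ((H.incl : H →ₗ[A] L).baseChange q.asIdeal.ResidueField))
    (y : L) (hy : y ∈ LieSubalgebra.engel A x) : ∃ n : ℕ, f ^ n • y ∈ H := by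
  classical
  set T : L →ₗ[A] L := (LieAlgebra.ad A L x : L →ₗ[A] L) with hT
  set incl : H →ₗ[A] L := (H.incl : H →ₗ[A] L) with hincl
  have hTH' : H.toSubmodule ≤ H.toSubmodule.comap T := fun y hy => H.lie_mem hxH hy
  set S : Module.End A (L ⧸ H.toSubmodule) := H.toSubmodule.mapQ H.toSubmodule T hTH' with hS
  have : Module.Projective A (L ⧸ H.toSubmodule) := hP
  obtain ⟨m, πQ, iQ, -, -, hπiQ⟩ :=
    Module.Finite.exists_comp_eq_id_of_projective A (L ⧸ H.toSubmodule)
  have hπi' : ∀ v, πQ (iQ v) = v := fun v => LinearMap.congr_fun hπiQ v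
  set G : (L ⧸ H.toSubmodule) →ₗ[A] (Fin m → A) := iQ ∘ₗ S - f • iQ with hG
  set St : Module.End A (Fin m → A) := f • LinearMap.id + G ∘ₗ πQ with hSt
  have hSti : ∀ v, St (iQ v) = iQ (S v) := by
    intro v
    simp [hSt, hG, hπi']
  have hπSt : πQ ∘ₗ St = S ∘ₗ πQ := by
    apply LinearMap.ext; intro w
    simp [hSt, hG, hπi']
  have hStpow : ∀ (j : ℕ) v, (St ^ j) (iQ v) = iQ ((S ^ j) v) := by
    intro j
    induction j with
    | zero => intro v; simp
    | succ j ih =>
      intro v
      rw [pow_succ, Module.End.mul_apply, hSti, ih, pow_succ, Module.End.mul_apply]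
  have hc : Commute St (aeval St (divX St.charpoly)) := by
    have := (Commute.all (X : A[X]) (divX St.charpoly)).map (aeval St)
    rwa [aeval_X] at this
  have hCH : algebraMap A (Module.End A (Fin m → A)) (St.charpoly.coeff 0) =
      -(St * aeval St (divX St.charpoly)) := by
    have h0 : aeval St (divX St.charpoly * X + C (St.charpoly.coeff 0)) = 0 := by
      rw [divX_mul_X_add]; exact LinearMap.aeval_self_charpoly St
    rw [map_add, map_mul, aeval_X, aeval_C] at h0
    rw [eq_neg_iff_add_eq_zero, add_comm, hc.eq]; exact h0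
  have hkill : ∀ (k : ℕ) (v : L ⧸ H.toSubmodule), (S ^ k) v = 0 →
      (St.charpoly.coeff 0) ^ k • v = 0 := by
    intro k v hv
    have hc2 : Commute St (-(aeval St (divX St.charpoly))) := hc.neg_right
    have hCH2 : algebraMap A (Module.End A (Fin m → A)) (St.charpoly.coeff 0) =
        St * (-(aeval St (divX St.charpoly))) := by
      rw [hCH]; exact (mul_neg St _).symm
    have h1 : (algebraMap A (Module.End A (Fin m → A)) (St.charpoly.coeff 0)) ^ k =
        (-(aeval St (divX St.charpoly))) ^ k * St ^ k := by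
      rw [hCH2, hc2.mul_pow, (hc2.pow_pow k k).eq]
    have h2 := LinearMap.congr_fun h1 (iQ v)
    rw [Module.End.mul_apply, hStpow, hv, map_zero, map_zero] at h2
    rw [← map_pow, Algebra.algebraMap_eq_smul_one, LinearMap.smul_apply, Module.End.one_apply] at h2
    have h3 := congrArg πQ h2
    rw [map_smul, hπi', map_zero] at h3
    exact h3
  have hδq : ∀ q : PrimeSpectrum A, f ∉ q.asIdeal → St.charpoly.coeff 0 ∉ q.asIdeal := by
    intro q hfq hmem
    have : Nontrivial A := (algebraMap A q.asIdeal.ResidueField).domain_nontrivial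
    have hfne : algebraMap A q.asIdeal.ResidueField f ≠ 0 := by
      rw [Ne, Ideal.algebraMap_residueField_eq_zero]; exact hfq
    have hSsurj : Function.Surjective (S.baseChange q.asIdeal.ResidueField) := by
      intro v
      have hρs : Function.Surjective ((H.toSubmodule.mkQ).baseChange q.asIdeal.ResidueField) := by
        rw [LinearMap.baseChange_eq_ltensor]
        exact LinearMap.lTensor_surjective _ (Submodule.mkQ_surjective _)
      obtain ⟨z, rfl⟩ := hρs v
      obtain ⟨w, hw⟩ := hsf q hfq z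
      refine ⟨(H.toSubmodule.mkQ).baseChange q.asIdeal.ResidueField w, ?_⟩
      have h00 : S ∘ₗ H.toSubmodule.mkQ = H.toSubmodule.mkQ ∘ₗ T := LinearMap.ext fun y => rfl
      have hcomm : S.baseChange q.asIdeal.ResidueField ∘ₗ
          (H.toSubmodule.mkQ).baseChange q.asIdeal.ResidueField =
          (H.toSubmodule.mkQ).baseChange q.asIdeal.ResidueField ∘ₗ
            T.baseChange q.asIdeal.ResidueField := by
        rw [← LinearMap.baseChange_comp, ← LinearMap.baseChange_comp, h00]
      have hker : ∀ y ∈ LinearMap.range (incl.baseChange q.asIdeal.ResidueField),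
          (H.toSubmodule.mkQ).baseChange q.asIdeal.ResidueField y = 0 := by
        rintro _ ⟨t, rfl⟩
        have h0 : H.toSubmodule.mkQ ∘ₗ incl = 0 :=
          LinearMap.ext fun h => (Submodule.Quotient.mk_eq_zero _).mpr h.2
        have h1 := LinearMap.congr_fun
          (congrArg (fun f => LinearMap.baseChange q.asIdeal.ResidueField f) h0) t
        simpa [LinearMap.baseChange_comp] using h1
      have h1 := LinearMap.congr_fun hcomm w
      simp only [LinearMap.comp_apply] at h1
      rw [h1]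
      have h2 := hker _ hw
      rw [map_sub, sub_eq_zero] at h2
      exact h2
    have hSinj : Function.Injective (S.baseChange q.asIdeal.ResidueField) :=
      LinearMap.injective_iff_surjective.mpr hSsurj
    have hπStκ : πQ.baseChange q.asIdeal.ResidueField ∘ₗ St.baseChange q.asIdeal.ResidueField =
        S.baseChange q.asIdeal.ResidueField ∘ₗ πQ.baseChange q.asIdeal.ResidueField := by
      rw [← LinearMap.baseChange_comp, ← LinearMap.baseChange_comp, hπSt]
    have hStκ : St.baseChange q.asIdeal.ResidueField = f • LinearMap.id +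
        G.baseChange q.asIdeal.ResidueField ∘ₗ πQ.baseChange q.asIdeal.ResidueField := by
      rw [hSt, LinearMap.baseChange_add, LinearMap.baseChange_smul, LinearMap.baseChange_id,
        LinearMap.baseChange_comp]
    have hStinj : ∀ w, St.baseChange q.asIdeal.ResidueField w = 0 → w = 0 := by
      intro w hw
      have h1 := LinearMap.congr_fun hπStκ w
      simp only [LinearMap.comp_apply] at h1
      rw [hw, map_zero] at h1
      have h2 : πQ.baseChange q.asIdeal.ResidueField w = 0 := hSinj (by rw [← h1, map_zero])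
      rw [hStκ, LinearMap.add_apply, LinearMap.comp_apply, h2, map_zero, add_zero,
        LinearMap.smul_apply, LinearMap.id_apply,
        ← algebraMap_smul q.asIdeal.ResidueField f w] at hw
      exact (smul_eq_zero.mp hw).resolve_left hfne
    have hroot : (St.baseChange q.asIdeal.ResidueField).charpoly.IsRoot 0 := by
      rw [LinearMap.charpoly_baseChange, Polynomial.IsRoot.def,
        ← Polynomial.coeff_zero_eq_eval_zero, Polynomial.coeff_map]
      exact Ideal.algebraMap_residueField_eq_zero.mpr hmem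
    have hev := (Module.End.hasEigenvalue_iff_isRoot_charpoly _ _).mpr hroot
    obtain ⟨w, hw⟩ := hev.exists_hasEigenvector
    exact hw.2 (hStinj w (by rw [hw.apply_eq_smul, zero_smul]))
  have hrad : f ∈ (Ideal.span {St.charpoly.coeff 0}).radical := by
    rw [Ideal.radical_eq_sInf, Ideal.mem_sInf]
    rintro J ⟨hJle, hJp⟩
    by_contra hfJ
    exact hδq ⟨J, hJp⟩ hfJ (hJle (Ideal.subset_span rfl))
  obtain ⟨N, hN⟩ := hrad
  obtain ⟨c, hc'⟩ := Ideal.mem_span_singleton'.mp hN
  rw [LieSubalgebra.mem_engel_iff] at hy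
  obtain ⟨k, hk⟩ := hy
  have hSk : (S ^ k) (H.toSubmodule.mkQ y) = 0 := by
    have h2 : ∀ j : ℕ, (S ^ j) (H.toSubmodule.mkQ y) = H.toSubmodule.mkQ ((T ^ j) y) := by
      intro j
      induction j with
      | zero => simp
      | succ j ih =>
        rw [pow_succ', Module.End.mul_apply, ih, pow_succ', Module.End.mul_apply]; rfl
    rw [h2, hk, map_zero]
  have h5 := hkill k _ hSk
  refine ⟨N * k, ?_⟩
  have h6 : f ^ (N * k) • H.toSubmodule.mkQ y = 0 := by
    rw [pow_mul, ← hc', mul_pow, mul_smul, h5, smul_zero]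
  rw [← map_smul] at h6
  exact (Submodule.Quotient.mk_eq_zero _).mp h6

end lem

/-- Over an affine base Spec A: let L be a Lie algebra over A which is a finitely generated projective
A-module, H a Cartan subalgebra of L relative to A, and p a prime of A whose residue field is
infinite. Then there are f ∈ A with f ∉ p and an element a ∈ H such that a is a regular element of
every fibre κ(q) ⊗ L with f ∉ q, H is contained in the Engel subalgebra Nil(a, L), and every element
of Nil(a, L) is carried into H by some power of f; that is, over the basic open set D(f) the section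
a is regular and H coincides with Nil(a, L). (The published statement gives a regular section of H
over some open neighbourhood of p; this row takes a global element of H and a basic open
neighbourhood D(f), which is equivalent over an affine base because multiplying by a function
invertible on D(f) does not change regularity.) -/
theorem result {A : Type u} [CommRing A] {L : Type u} [LieRing L]
    [LieAlgebra A L] [Module.Finite A L] [Module.Projective A L]
    (H : LieSubalgebra A L) (hH : SGA3t2b.IsCartanRel H) (p : PrimeSpectrum A)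
    (hp : Infinite p.asIdeal.ResidueField) :
    ∃ f : A, f ∉ p.asIdeal ∧ ∃ a : L, a ∈ H ∧
      (∀ q : PrimeSpectrum A, f ∉ q.asIdeal →
        LieAlgebra.IsRegular q.asIdeal.ResidueField ((1 : q.asIdeal.ResidueField) ⊗ₜ[A] a)) ∧
      H ≤ LieSubalgebra.engel A a ∧
      ∀ y : L, y ∈ LieSubalgebra.engel A a → ∃ n : ℕ, f ^ n • y ∈ H := by
  classical
  haveI := hH.1
  obtain ⟨ρ, hρ⟩ := Groth.Agent.S8372.exists_retraction H
  have hρi : ρ ∘ₗ (H.incl : H →ₗ[A] L) = LinearMap.id := LinearMap.ext fun h => hρ h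
  haveI : Module.Finite A H := Module.Finite.of_surjective ρ (fun h => ⟨h, hρ h⟩)
  haveI : Module.Projective A H := Module.Projective.of_split (H.incl : H →ₗ[A] L) ρ hρi
  haveI : Module.FinitePresentation A H := Module.finitePresentation_of_projective A H
  have hrk : ∀ q : PrimeSpectrum A,
      LieAlgebra.rank q.asIdeal.ResidueField (q.asIdeal.ResidueField ⊗[A] L) =
        Module.rankAtStalk (R := A) H q := by
    intro q
    rw [← (hH.2 q).2.2, Module.rankAtStalk_eq q]
    have hinj : Function.Injective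
        ((H.incl : H →ₗ[A] L).baseChange q.asIdeal.ResidueField) := by
      have h2 : ρ.baseChange q.asIdeal.ResidueField ∘ₗ
          (H.incl : H →ₗ[A] L).baseChange q.asIdeal.ResidueField = LinearMap.id := by
        rw [← LinearMap.baseChange_comp, hρi, LinearMap.baseChange_id]
      exact Function.LeftInverse.injective (fun w => LinearMap.congr_fun h2 w)
    exact LinearMap.finrank_range_of_inj hinj
  have hC0 : ∀ p' : PrimeSpectrum A, ∃ f : A, f ∉ p'.asIdeal ∧ ∀ q : PrimeSpectrum A,
      f ∉ q.asIdeal →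
      LieAlgebra.rank q.asIdeal.ResidueField (q.asIdeal.ResidueField ⊗[A] L) =
        LieAlgebra.rank p'.asIdeal.ResidueField (p'.asIdeal.ResidueField ⊗[A] L) := by
    intro p'
    obtain ⟨_, ⟨f, rfl⟩, hpf, hfU⟩ :=
      PrimeSpectrum.isTopologicalBasis_basic_opens.exists_subset_of_mem_open
        (show p' ∈ {q : PrimeSpectrum A | Module.rankAtStalk (R := A) H q =
          Module.rankAtStalk (R := A) H p'} from rfl)
        ((Module.isLocallyConstant_rankAtStalk (R := A) (M := H)).isOpen_fiber _)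
    refine ⟨f, hpf, fun q hq => ?_⟩
    rw [hrk q, hrk p']
    exact hfU hq
  haveI : LieRing.IsNilpotent (p.asIdeal.ResidueField ⊗[A] H) := (hH.2 p).1
  obtain ⟨s₀, hs₀⟩ := exists_regular_in_cartan (K := p.asIdeal.ResidueField)
    ((H.incl : H →ₗ[A] L).baseChange p.asIdeal.ResidueField)
    (fun s t => incl_lie p.asIdeal.ResidueField H s t) (hH.2 p).2.1 (hH.2 p).2.2
  obtain ⟨g, hg, h, hgh⟩ := Groth.Agent.S8376.exists_lift p s₀
  have hgne : algebraMap A p.asIdeal.ResidueField g ≠ 0 := by
    rw [Ne, Ideal.algebraMap_residueField_eq_zero]; exact hg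
  have hreg : LieAlgebra.IsRegular p.asIdeal.ResidueField
      ((1 : p.asIdeal.ResidueField) ⊗ₜ[A] (h : L)) := by
    have h1 : (1 : p.asIdeal.ResidueField) ⊗ₜ[A] (h : L) =
        algebraMap A p.asIdeal.ResidueField g •
          ((H.incl : H →ₗ[A] L).baseChange p.asIdeal.ResidueField) s₀ := by
      rw [← map_smul, algebraMap_smul, hgh, LinearMap.baseChange_tmul]; rfl
    rw [h1, Groth.Agent.S8376.isRegular_smul _ hgne]
    exact hs₀
  have hopen := Groth.Agent.S8375.result hC0 (h : L)
  obtain ⟨_, ⟨f, rfl⟩, hpf, hfU⟩ :=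
    PrimeSpectrum.isTopologicalBasis_basic_opens.exists_subset_of_mem_open
      (show p ∈ {q : PrimeSpectrum A | LieAlgebra.IsRegular q.asIdeal.ResidueField
        ((1 : q.asIdeal.ResidueField) ⊗ₜ[A] (h : L))} from hreg) hopen
  have hxH : f • (h : L) ∈ H := H.smul_mem f h.2
  have hR : ∀ q : PrimeSpectrum A, f ∉ q.asIdeal →
      LieAlgebra.IsRegular q.asIdeal.ResidueField
        ((1 : q.asIdeal.ResidueField) ⊗ₜ[A] (f • (h : L))) := by
    intro q hq
    have hfne : algebraMap A q.asIdeal.ResidueField f ≠ 0 := by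
      rw [Ne, Ideal.algebraMap_residueField_eq_zero]; exact hq
    rw [TensorProduct.tmul_smul, ← algebraMap_smul q.asIdeal.ResidueField f,
      Groth.Agent.S8376.isRegular_smul _ hfne]
    exact hfU hq
  have hff := fun (q : PrimeSpectrum A) (hq : f ∉ q.asIdeal) =>
    Groth.Agent.S8373.fibre_facts q.asIdeal.ResidueField H (f • (h : L)) hxH (hH.2 q).1
      (hH.2 q).2.2 (hR q hq)
  refine ⟨f, hpf, f • (h : L), hxH, hR, ?_, ?_⟩
  · apply le_engel_of_fibres_nilp H hH.1 _ hxH
    intro q
    by_cases hq : f ∈ q.asIdeal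
    · have hz : ((LieAlgebra.ad A H ⟨f • (h : L), hxH⟩ : H →ₗ[A] H).baseChange
          q.asIdeal.ResidueField) = 0 := by
        have hsm : (LieAlgebra.ad A H ⟨f • (h : L), hxH⟩ : H →ₗ[A] H) =
            f • (LieAlgebra.ad A H h : H →ₗ[A] H) := by
          have hh : (⟨f • (h : L), hxH⟩ : H) = f • h := Subtype.ext rfl
          rw [hh, map_smul]
        rw [hsm, LinearMap.baseChange_smul]
        apply LinearMap.ext; intro w
        rw [LinearMap.smul_apply, ← algebraMap_smul q.asIdeal.ResidueField f,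
          Ideal.algebraMap_residueField_eq_zero.mpr hq, zero_smul, LinearMap.zero_apply]
      exact ⟨1, by rw [pow_one]; exact hz⟩
    · exact (hff q hq).1
  · intro y hy
    exact engel_le_up_to_pow H hH.1 _ hxH f (fun q hq => (hff q hq).2) y hy

end Groth.Agent.S8374
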