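import Groth.Statements.S8377
import Mathlib
import Groth.Agent.S8375
import Groth.Agent.S8376
-- import your own Groth.Agent.* helpers here

set_option autoImplicit false
universe u
open scoped TensorProduct
open SGA3t2b

namespace Groth.Agent.S8377


open TensorProduct

theorem exists_regular_nbhd {A : Type u} [CommRing A] {L : Type u} [LieRing L]
    [LieAlgebra A L] [Module.Finite A L] [Module.Projective A L]
    (hC0 : ∀ p : PrimeSpectrum A, ∃ f : A, f ∉ p.asIdeal ∧ ∀ q : PrimeSpectrum A, f ∉ q.asIdeal →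
        LieAlgebra.rank q.asIdeal.ResidueField (q.asIdeal.ResidueField ⊗[A] L) =
          LieAlgebra.rank p.asIdeal.ResidueField (p.asIdeal.ResidueField ⊗[A] L))
    (p : PrimeSpectrum A)
    (hp : ∃ x : p.asIdeal.ResidueField ⊗[A] L, LieAlgebra.IsRegular p.asIdeal.ResidueField x) :
    ∃ f : A, f ∉ p.asIdeal ∧ ∃ a : L, ∀ q : PrimeSpectrum A, f ∉ q.asIdeal →
      LieAlgebra.IsRegular q.asIdeal.ResidueField ((1 : q.asIdeal.ResidueField) ⊗ₜ[A] a) := by
  classical
  obtain ⟨x, hx⟩ := hp
  obtain ⟨g, hg, a, hga⟩ := Groth.Agent.S8376.exists_lift p x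
  have hgne : algebraMap A p.asIdeal.ResidueField g ≠ 0 := by
    rw [Ne, Ideal.algebraMap_residueField_eq_zero]
    exact hg
  have hreg : LieAlgebra.IsRegular p.asIdeal.ResidueField
      ((1 : p.asIdeal.ResidueField) ⊗ₜ[A] a) := by
    rw [← hga, ← algebraMap_smul p.asIdeal.ResidueField g x,
      Groth.Agent.S8376.isRegular_smul _ hgne]
    exact hx
  have hopen := Groth.Agent.S8375.result hC0 a
  obtain ⟨_, ⟨f, rfl⟩, hpf, hfU⟩ :=
    PrimeSpectrum.isTopologicalBasis_basic_opens.exists_subset_of_mem_open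
      (show p ∈ {q : PrimeSpectrum A | LieAlgebra.IsRegular q.asIdeal.ResidueField
        ((1 : q.asIdeal.ResidueField) ⊗ₜ[A] a)} from hreg) hopen
  exact ⟨f, hpf, a, fun q hq => hfU hq⟩

abbrev PiLoc {A : Type u} [CommRing A] {ι : Type u} (f : ι → A) : Type u :=
  Π i, Localization.Away (f i)

theorem pi_faithfullyFlat {A : Type u} [CommRing A] {ι : Type u} [Fintype ι] [DecidableEq ι]
    (f : ι → A) (hcov : ∀ p : PrimeSpectrum A, ∃ i, f i ∉ p.asIdeal) :
    Module.FaithfullyFlat A (PiLoc f) := by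
  haveI : ∀ i, Algebra.Etale A (Localization.Away (f i)) :=
    fun i => Algebra.Etale.of_isLocalizationAway (f i)
  haveI : Algebra.Etale A (PiLoc f) := inferInstance
  haveI : Module.Flat A (PiLoc f) := inferInstance
  apply Module.FaithfullyFlat.of_comap_surjective
  intro p
  obtain ⟨i, hi⟩ := hcov p
  have hmem : p ∈ Set.range (PrimeSpectrum.comap (algebraMap A (Localization.Away (f i)))) := by
    rw [PrimeSpectrum.localization_away_comap_range (Localization.Away (f i)) (f i)]
    exact hi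
  obtain ⟨qi, hqi⟩ := hmem
  refine ⟨PrimeSpectrum.comap (Pi.evalRingHom (fun i => Localization.Away (f i)) i) qi, ?_⟩
  rw [← hqi]
  exact PrimeSpectrum.ext (Ideal.ext fun x => Iff.rfl)

theorem pi_quasiRegular {A : Type u} [CommRing A] {L : Type u} [LieRing L] [LieAlgebra A L]
    [Module.Finite A L] {ι : Type u} [Fintype ι] [DecidableEq ι] (f : ι → A) (a : ι → L)
    (ha : ∀ i, ∀ q : PrimeSpectrum A, f i ∉ q.asIdeal →
      LieAlgebra.IsRegular q.asIdeal.ResidueField ((1 : q.asIdeal.ResidueField) ⊗ₜ[A] a i)) :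
    SGA3t2b.IsQuasiRegular (PiLoc f) (PiLoc f ⊗[A] L)
      (∑ j, (Pi.single j 1 : PiLoc f) ⊗ₜ[A] a j) := by
  intro q'
  have hsum : (∑ j, (Pi.single j 1 : PiLoc f)) = 1 := Finset.univ_sum_single (1 : PiLoc f)
  obtain ⟨i, hi⟩ : ∃ i, (Pi.single i 1 : PiLoc f) ∉ q'.asIdeal := by
    by_contra hall
    push_neg at hall
    have h1 : (1 : PiLoc f) ∈ q'.asIdeal := by
      rw [← hsum]
      exact Ideal.sum_mem _ (fun j _ => hall j)
    exact q'.isPrime.ne_top ((Ideal.eq_top_iff_one _).mpr h1)
  have hj : ∀ j, j ≠ i → (Pi.single j 1 : PiLoc f) ∈ q'.asIdeal := by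
    intro j hji
    have hmul : (Pi.single i 1 : PiLoc f) * Pi.single j 1 = 0 := by
      ext k
      rw [Pi.mul_apply, Pi.zero_apply]
      by_cases hk : k = i
      · have hkj : k ≠ j := fun h => hji (h.symm.trans hk)
        rw [Pi.single_eq_of_ne hkj, mul_zero]
      · rw [Pi.single_eq_of_ne hk, zero_mul]
    have hmem : (Pi.single i 1 : PiLoc f) * Pi.single j 1 ∈ q'.asIdeal := by
      rw [hmul]; exact q'.asIdeal.zero_mem
    exact (q'.isPrime.mem_or_mem hmem).resolve_left hi
  have halg_j : ∀ j, j ≠ i →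
      algebraMap (PiLoc f) q'.asIdeal.ResidueField (Pi.single j 1 : PiLoc f) = 0 :=
    fun j hji => Ideal.algebraMap_residueField_eq_zero.mpr (hj j hji)
  have halg_i : algebraMap (PiLoc f) q'.asIdeal.ResidueField (Pi.single i 1 : PiLoc f) = 1 := by
    have h1 : algebraMap (PiLoc f) q'.asIdeal.ResidueField (∑ j, (Pi.single j 1 : PiLoc f)) = 1 := by
      rw [hsum, map_one]
    have h2 : ∑ j, algebraMap (PiLoc f) q'.asIdeal.ResidueField (Pi.single j 1 : PiLoc f) =
        algebraMap (PiLoc f) q'.asIdeal.ResidueField (Pi.single i 1 : PiLoc f) :=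
      Finset.sum_eq_single i (fun j _ hji => halg_j j hji)
        (fun h => absurd (Finset.mem_univ i) h)
    rw [map_sum, h2] at h1
    exact h1
  have hkey : (1 : q'.asIdeal.ResidueField) ⊗ₜ[PiLoc f]
        (∑ j, (Pi.single j 1 : PiLoc f) ⊗ₜ[A] a j) =
      (1 : q'.asIdeal.ResidueField) ⊗ₜ[PiLoc f] ((1 : PiLoc f) ⊗ₜ[A] a i) := by
    rw [TensorProduct.tmul_sum]
    have hterm : ∀ j, (1 : q'.asIdeal.ResidueField) ⊗ₜ[PiLoc f]
          ((Pi.single j 1 : PiLoc f) ⊗ₜ[A] a j) =
        (algebraMap (PiLoc f) q'.asIdeal.ResidueField (Pi.single j 1 : PiLoc f)) ⊗ₜ[PiLoc f]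
          ((1 : PiLoc f) ⊗ₜ[A] a j) := by
      intro j
      have e1 : (Pi.single j 1 : PiLoc f) ⊗ₜ[A] a j =
          (Pi.single j 1 : PiLoc f) • ((1 : PiLoc f) ⊗ₜ[A] a j) := by
        rw [TensorProduct.smul_tmul', smul_eq_mul, mul_one]
      rw [e1, ← TensorProduct.smul_tmul, Algebra.smul_def, mul_one]
    have h3 : ∑ j, (algebraMap (PiLoc f) q'.asIdeal.ResidueField (Pi.single j 1 : PiLoc f))
          ⊗ₜ[PiLoc f] ((1 : PiLoc f) ⊗ₜ[A] a j) =
        (algebraMap (PiLoc f) q'.asIdeal.ResidueField (Pi.single i 1 : PiLoc f))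
          ⊗ₜ[PiLoc f] ((1 : PiLoc f) ⊗ₜ[A] a i) :=
      Finset.sum_eq_single i
        (fun j _ hji => by rw [halg_j j hji, TensorProduct.zero_tmul])
        (fun h => absurd (Finset.mem_univ i) h)
    rw [Finset.sum_congr rfl (fun j _ => hterm j), h3, halg_i]
  rw [hkey, Groth.Agent.S8376.regular_fibre_comap q' (a i)]
  apply ha i
  intro hmem
  obtain ⟨u, hu⟩ := (IsLocalization.Away.algebraMap_isUnit (S := Localization.Away (f i))
    (f i)).exists_right_inv
  have hprod : algebraMap A (PiLoc f) (f i) * Pi.single i u = Pi.single i 1 := by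
    ext k
    rw [Pi.mul_apply]
    by_cases hk : k = i
    · subst hk
      rw [Pi.single_eq_same, Pi.single_eq_same]
      exact hu
    · rw [Pi.single_eq_of_ne hk, Pi.single_eq_of_ne hk, mul_zero]
  apply hi
  rw [← hprod]
  exact Ideal.mul_mem_right _ _ hmem


/-- Let L be a Lie algebra over the commutative ring A which is a finitely generated projective
A-module. Suppose that the nilpotent rank of the fibres κ(p) ⊗ L is locally constant on Spec A, that
for every A-algebra A' every quasi-regular element of A' ⊗ L is regular (condition (C₂)), and that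
every fibre κ(p) ⊗ L has a regular element (automatic when every residue field of A is infinite).
Then L acquires a relative Cartan subalgebra after a faithfully flat etale base change A → A'
(condition (C′₁)). (The published implication (C₂) ⇒ (C′₁) is over an arbitrary base and has no
hypothesis on regular elements of the fibres; this row is over an affine base and assumes every
fibre has a regular element, the case in which the published argument, through the existence of a
Cartan subalgebra Zariski-locally near each such point, is complete.) -/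
theorem result {A : Type u} [CommRing A] {L : Type u} [LieRing L]
    [LieAlgebra A L] [Module.Finite A L] [Module.Projective A L]
    (hC2 : ((∀ p : PrimeSpectrum A, ∃ f : A, f ∉ p.asIdeal ∧ ∀ q : PrimeSpectrum A, f ∉ q.asIdeal →
        LieAlgebra.rank q.asIdeal.ResidueField (q.asIdeal.ResidueField ⊗[A] L) =
          LieAlgebra.rank p.asIdeal.ResidueField (p.asIdeal.ResidueField ⊗[A] L)) ∧
      ∀ (A' : Type u) [CommRing A'] [Algebra A A'] (a' : A' ⊗[A] L),
        SGA3t2b.IsQuasiRegular A' (A' ⊗[A] L) a' → SGA3t2b.IsRegularRel A' (A' ⊗[A] L) a'))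
    (hreg : ∀ p : PrimeSpectrum A, ∃ x : p.asIdeal.ResidueField ⊗[A] L, LieAlgebra.IsRegular p.asIdeal.ResidueField x) :
    ∃ (A' : Type u) (_ : CommRing A') (_ : Algebra A A'), Algebra.Etale A A' ∧ Module.FaithfullyFlat A A' ∧
        ∃ H : LieSubalgebra A' (A' ⊗[A] L), SGA3t2b.IsCartanRel H := by
  classical
  obtain ⟨hC0, hQR⟩ := hC2
  have h1 := fun p => exists_regular_nbhd hC0 p (hreg p)
  choose F hF a ha using h1
  have hspan : Ideal.span (Set.range F) = ⊤ := by
    by_contra hne
    obtain ⟨m, hm, hle⟩ := Ideal.exists_le_maximal _ hne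
    exact hF ⟨m, hm.isPrime⟩ (hle (Ideal.subset_span ⟨_, rfl⟩))
  obtain ⟨s', hs', hs'top⟩ := (Ideal.span_eq_top_iff_finite _).mp hspan
  have h2 : ∀ i : ↥s', ∃ p : PrimeSpectrum A, F p = i.1 :=
    fun i => hs' (Finset.mem_coe.mpr i.2)
  choose P hP using h2
  have hcov : ∀ p : PrimeSpectrum A, ∃ i : ↥s', F (P i) ∉ p.asIdeal := by
    intro p
    by_contra hall
    push_neg at hall
    have hle : Ideal.span (s' : Set A) ≤ p.asIdeal := by
      rw [Ideal.span_le]
      intro r hr
      have := hall ⟨r, Finset.mem_coe.mp hr⟩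
      rw [hP] at this
      exact this
    rw [hs'top] at hle
    exact p.isPrime.ne_top (top_le_iff.mp hle)
  have hqr := pi_quasiRegular (L := L) (fun i : ↥s' => F (P i)) (fun i => a (P i))
    (fun i q hq => ha (P i) q hq)
  have hff := pi_faithfullyFlat (fun i : ↥s' => F (P i)) hcov
  haveI : ∀ i : ↥s', Algebra.Etale A (Localization.Away (F (P i))) :=
    fun i => Algebra.Etale.of_isLocalizationAway (F (P i))
  haveI hEt : Algebra.Etale A (PiLoc (fun i : ↥s' => F (P i))) := inferInstance
  obtain ⟨_, H, hH, _⟩ := hQR (PiLoc (fun i : ↥s' => F (P i))) _ hqr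
  exact ⟨PiLoc (fun i : ↥s' => F (P i)), inferInstance, inferInstance, hEt, hff, H, hH⟩

end Groth.Agent.S8377
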