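import Groth.Statements.S8383
import Mathlib

set_option autoImplicit false
universe u
open scoped TensorProduct
open SGA3t2b

namespace Groth.Agent.S8383

lemma sum_update' {ι : Type*} [Fintype ι] [DecidableEq ι] (a : ι → ℕ) (j : ι) (b : ℕ) :
    ∑ i, Function.update a j b i + a j = ∑ i, a i + b := by
  rw [← Finset.add_sum_erase Finset.univ _ (Finset.mem_univ j),
    ← Finset.add_sum_erase Finset.univ a (Finset.mem_univ j)]
  have : ∑ i ∈ Finset.univ.erase j, Function.update a j b i = ∑ i ∈ Finset.univ.erase j, a i := by
    apply Finset.sum_congr rfl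
    intro i hi
    rw [Function.update_of_ne (Finset.ne_of_mem_erase hi)]
  rw [this, Function.update_self]
  ring

lemma mon_update {M : Type*} [CommRing M] {ι : Type*} [Fintype ι] [DecidableEq ι]
    (t : ι → M) (a : ι → ℕ) (j : ι) (b : ℕ) :
    ∏ i, t i ^ Function.update a j b i = t j ^ b * ∏ i ∈ Finset.univ.erase j, t i ^ a i := by
  rw [← Finset.mul_prod_erase Finset.univ _ (Finset.mem_univ j)]
  have : ∏ i ∈ Finset.univ.erase j, t i ^ Function.update a j b i =
      ∏ i ∈ Finset.univ.erase j, t i ^ a i := by
    apply Finset.prod_congr rfl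
    intro i hi
    rw [Function.update_of_ne (Finset.ne_of_mem_erase hi)]
  rw [this, Function.update_self]

lemma mon_split {M : Type*} [CommRing M] {ι : Type*} [Fintype ι] [DecidableEq ι]
    (t : ι → M) (a : ι → ℕ) (j : ι) :
    ∏ i, t i ^ a i = t j ^ a j * ∏ i ∈ Finset.univ.erase j, t i ^ a i :=
  (Finset.mul_prod_erase Finset.univ (fun i => t i ^ a i) (Finset.mem_univ j)).symm

lemma exists_nonvanishing {K : Type*} [Field K] {X : Type*} [Fintype X] [DecidableEq X]
    {ι : Type*} [Fintype ι] [DecidableEq ι]
    (q : ℕ) (hq : 2 ≤ q) (t : ι → X → K)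
    (h1 : ∀ i, t i ^ q ∈ Submodule.span K (Set.range t))
    (h2 : ∀ x y : X, x ≠ y → ∃ i, t i x ≠ t i y)
    (h3 : Fintype.card X = q ^ Fintype.card ι) :
    ∃ x, ∀ i, t i x ≠ 0 := by
  rcases isEmpty_or_nonempty ι with hι | hι
  · have hX : 0 < Fintype.card X := by rw [h3]; positivity
    obtain ⟨x⟩ := Fintype.card_pos_iff.1 hX
    exact ⟨x, fun i => hι.elim i⟩
  let mon : (ι → ℕ) → (X → K) := fun a => ∏ i, t i ^ a i
  let bb : (ι → Fin q) → (X → K) := fun a => mon (fun i => (a i).val)
  let S : Submodule K (X → K) := Submodule.span K (Set.range bb)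
  have hmon : ∀ (N : ℕ) (a : ι → ℕ), ∑ i, a i = N → mon a ∈ S := by
    intro N
    induction N using Nat.strong_induction_on with
    | _ N ih =>
      intro a ha
      by_cases hred : ∀ i, a i < q
      · exact Submodule.subset_span ⟨fun i => ⟨a i, hred i⟩, rfl⟩
      · push Not at hred
        obtain ⟨l, hl⟩ := hred
        have hsplit : mon a = mon (Function.update a l (a l - q)) * t l ^ q := by
          show ∏ i, t i ^ a i = (∏ i, t i ^ Function.update a l (a l - q) i) * t l ^ q
          rw [mon_update, mon_split t a l]
          have : t l ^ a l = t l ^ (a l - q) * t l ^ q := by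
            rw [← pow_add, Nat.sub_add_cancel hl]
          rw [this]; ring
        have hsum1 := sum_update' a l (a l - q)
        rw [hsplit]
        have key : ∀ g ∈ Submodule.span K (Set.range t),
            mon (Function.update a l (a l - q)) * g ∈ S := by
          intro g hg
          induction hg using Submodule.span_induction with
          | mem g hg =>
            obtain ⟨j, rfl⟩ := hg
            have e : mon (Function.update a l (a l - q)) * t j =
                mon (Function.update (Function.update a l (a l - q)) j
                  (Function.update a l (a l - q) j + 1)) := by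
              show (∏ i, t i ^ Function.update a l (a l - q) i) * t j = ∏ i, t i ^ _
              rw [mon_update t (Function.update a l (a l - q)) j,
                mon_split t (Function.update a l (a l - q)) j, pow_succ]
              ring
            rw [e]
            have hsum2 := sum_update' (Function.update a l (a l - q)) j
              (Function.update a l (a l - q) j + 1)
            refine ih _ ?_ _ rfl
            omega
          | zero => rw [mul_zero]; exact S.zero_mem
          | add g1 g2 _ _ h1 h2 => rw [mul_add]; exact S.add_mem h1 h2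
          | smul c g _ hg => rw [mul_smul_comm]; exact S.smul_mem c hg
        exact key _ (h1 l)
  have hadj : Subalgebra.toSubmodule (Algebra.adjoin K (Set.range t)) ≤ S := by
    rw [Algebra.adjoin_eq_span]
    apply Submodule.span_le.2
    intro g hg
    have : ∃ a, g = mon a := by
      induction hg using Submonoid.closure_induction with
      | mem g hg =>
        obtain ⟨j, rfl⟩ := hg
        refine ⟨Pi.single j 1, ?_⟩
        show t j = ∏ i, t i ^ (Pi.single j 1 : ι → ℕ) i
        rw [Finset.prod_eq_single j]
        · simp
        · intro b _ hb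
          simp [Pi.single_eq_of_ne hb]
        · intro h
          exact absurd (Finset.mem_univ j) h
      | one => exact ⟨0, by simp [mon]⟩
      | mul g1 g2 _ _ h1 h2 =>
        obtain ⟨a1, rfl⟩ := h1
        obtain ⟨a2, rfl⟩ := h2
        exact ⟨a1 + a2, by simp [mon, pow_add, Finset.prod_mul_distrib]⟩
    obtain ⟨a, rfl⟩ := this
    exact hmon _ a rfl
  have hsingle : ∀ x, (Pi.single x (1 : K) : X → K) ∈ Algebra.adjoin K (Set.range t) := by
    intro x
    choose! i hi using h2 x
    have : (Pi.single x (1 : K) : X → K) = ∏ y ∈ Finset.univ.erase x,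
        ((t (i y) - algebraMap K (X → K) (t (i y) y)) *
          algebraMap K (X → K) ((t (i y) x - t (i y) y)⁻¹)) := by
      funext z
      rw [Finset.prod_apply]
      by_cases hz : z = x
      · subst hz
        rw [Pi.single_eq_same]
        symm
        apply Finset.prod_eq_one
        intro y hy
        have hne : z ≠ y := (Finset.ne_of_mem_erase hy).symm
        have h0 : t (i y) z - t (i y) y ≠ 0 := sub_ne_zero.2 (hi y hne)
        simp only [Pi.mul_apply, Pi.sub_apply, Pi.algebraMap_apply, Algebra.algebraMap_self,
          RingHom.id_apply]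
        exact mul_inv_cancel₀ h0
      · rw [Pi.single_eq_of_ne hz]
        symm
        apply Finset.prod_eq_zero (Finset.mem_erase.2 ⟨hz, Finset.mem_univ z⟩)
        simp
    rw [this]
    apply Subalgebra.prod_mem
    intro y _
    apply Subalgebra.mul_mem
    · apply Subalgebra.sub_mem
      · exact Algebra.subset_adjoin ⟨_, rfl⟩
      · exact Subalgebra.algebraMap_mem _ _
    · exact Subalgebra.algebraMap_mem _ _
  have htop : ⊤ ≤ S := by
    intro h _
    apply hadj
    show h ∈ Algebra.adjoin K (Set.range t)
    rw [← Finset.univ_sum_single h]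
    apply Subalgebra.sum_mem
    intro x _
    have : (Pi.single x (h x) : X → K) = h x • (Pi.single x (1 : K) : X → K) := by
      rw [← Pi.single_smul, smul_eq_mul, mul_one]
    rw [this]
    exact Subalgebra.smul_mem _ (hsingle x) _
  have hcard : Fintype.card (ι → Fin q) = Module.finrank K (X → K) := by
    rw [Module.finrank_fintype_fun_eq_card, Fintype.card_fun, Fintype.card_fin, h3]
  have hli : LinearIndependent K bb :=
    linearIndependent_of_top_le_span_of_card_eq_finrank htop hcard
  have hne := hli.ne_zero (fun _ => (⟨1, by omega⟩ : Fin q))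
  obtain ⟨x, hx⟩ := Function.ne_iff.1 hne
  refine ⟨x, ?_⟩
  have hx' : ∏ i, t i x ≠ 0 := by
    have : bb (fun _ => (⟨1, by omega⟩ : Fin q)) x = ∏ i, t i x := by
      show (∏ i, t i ^ 1) x = _
      rw [Finset.prod_apply]
      simp
    rw [← this]
    exact hx
  intro i
  exact (Finset.prod_ne_zero_iff.1 hx') i (Finset.mem_univ i)

/-- Let k be a finite field with algebraic closure K, V a finite-dimensional vector space over k, and
θ₁, …, θₙ a basis of the dual of the K-vector space K ⊗ V. Then there is x ∈ V with θᵢ(1 ⊗ x) ≠ 0
for every i. -/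
theorem result (k : Type u) [Field k] [Finite k]
    (V : Type u) [AddCommGroup V] [Module k V] [Module.Finite k V] {ι : Type} [Fintype ι]
    (θ : Module.Basis ι (AlgebraicClosure k) (Module.Dual (AlgebraicClosure k) (AlgebraicClosure k ⊗[k] V))) :
    ∃ x : V, ∀ i : ι, θ i ((1 : AlgebraicClosure k) ⊗ₜ[k] x) ≠ 0 := by
  classical
  haveI : Fintype k := Fintype.ofFinite k
  haveI : Finite V := Module.finite_of_finite k
  haveI : Fintype V := Fintype.ofFinite V
  obtain ⟨p, hchar⟩ := CharP.exists k
  haveI := hchar
  obtain ⟨n, hp, hqn⟩ := FiniteField.card k p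
  haveI : Fact p.Prime := ⟨hp⟩
  haveI : CharP (AlgebraicClosure k) p :=
    charP_of_injective_algebraMap (algebraMap k (AlgebraicClosure k)).injective p
  have hq : 2 ≤ Fintype.card k := Fintype.one_lt_card
  let t : ι → V → AlgebraicClosure k := fun i x => θ i ((1 : AlgebraicClosure k) ⊗ₜ[k] x)
  have hev : ∀ (ℓ : Module.Dual (AlgebraicClosure k) (AlgebraicClosure k ⊗[k] V)),
      (fun x : V => ℓ ((1 : AlgebraicClosure k) ⊗ₜ[k] x)) ∈
        Submodule.span (AlgebraicClosure k) (Set.range t) := by
    intro ℓ
    have : (fun x : V => ℓ ((1 : AlgebraicClosure k) ⊗ₜ[k] x)) =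
        ∑ j, θ.repr ℓ j • t j := by
      funext x
      have h := congrArg (fun φ : Module.Dual (AlgebraicClosure k) (AlgebraicClosure k ⊗[k] V) =>
        φ ((1 : AlgebraicClosure k) ⊗ₜ[k] x)) (θ.sum_repr ℓ)
      simp only [LinearMap.sum_apply, LinearMap.smul_apply] at h
      rw [← h, Finset.sum_apply]
      rfl
    rw [this]
    exact Submodule.sum_mem _ fun j _ =>
      Submodule.smul_mem _ _ (Submodule.subset_span ⟨j, rfl⟩)
  have h1 : ∀ i, t i ^ Fintype.card k ∈ Submodule.span (AlgebraicClosure k) (Set.range t) := by
    intro i
    let φ : V →ₗ[k] AlgebraicClosure k :=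
      { toFun := fun x => (θ i ((1 : AlgebraicClosure k) ⊗ₜ[k] x)) ^ Fintype.card k
        map_add' := by
          intro x y
          rw [TensorProduct.tmul_add, map_add, hqn]
          exact add_pow_char_pow _ _ p n
        map_smul' := by
          intro c x
          rw [TensorProduct.tmul_smul, ← algebraMap_smul (AlgebraicClosure k) c
            ((1 : AlgebraicClosure k) ⊗ₜ[k] x), map_smul, smul_eq_mul, mul_pow, ← map_pow,
            FiniteField.pow_card, RingHom.id_apply, Algebra.smul_def] }
    have := hev (φ.liftBaseChange (AlgebraicClosure k))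
    convert this using 1
    funext x
    rw [LinearMap.liftBaseChange_tmul, one_smul]
    rfl
  have h2 : ∀ x y : V, x ≠ y → ∃ i, t i x ≠ t i y := by
    intro x y hxy
    by_contra hcon
    push Not at hcon
    apply hxy
    have hz : (1 : AlgebraicClosure k) ⊗ₜ[k] (x - y) = 0 := by
      rw [← Module.forall_dual_apply_eq_zero_iff (AlgebraicClosure k)]
      intro φ
      rw [← θ.sum_repr φ]
      simp only [LinearMap.sum_apply, LinearMap.smul_apply]
      apply Finset.sum_eq_zero
      intro j _
      have : θ j ((1 : AlgebraicClosure k) ⊗ₜ[k] (x - y)) = 0 := by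
        rw [TensorProduct.tmul_sub, map_sub, sub_eq_zero]
        exact hcon j
      rw [this, smul_zero]
    have hinj := Module.Flat.tensorProduct_mk_injective (R := k) (S := AlgebraicClosure k) (M := V)
    have : x - y = 0 := by
      apply hinj
      rw [map_zero]
      exact hz
    exact sub_eq_zero.1 this
  have h3 : Fintype.card V = Fintype.card k ^ Fintype.card ι := by
    rw [Module.card_eq_pow_finrank (K := k) (V := V)]
    congr 1
    rw [← Module.finrank_eq_card_basis θ, Subspace.dual_finrank_eq, Module.finrank_baseChange]
  exact exists_nonvanishing (Fintype.card k) hq t h1 h2 h3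

end Groth.Agent.S8383
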