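import Groth.Statements.S8384
import Mathlib
-- import your own Groth.Agent.* helpers here

set_option autoImplicit false
universe u
open CategoryTheory MonoidalCategory CartesianMonoidalCategory MonObj GrpObj AlgebraicGeometry
open SGA3x

namespace Groth.Agent.S8384

section helpers
open TopologicalSpace

variable {A : Type u} [CommRing A] [IsLocalRing A]

lemma comap_mk_eq (n : ℕ) (y : PrimeSpectrum (A ⧸ (IsLocalRing.maximalIdeal A) ^ n)) :
    PrimeSpectrum.comap (Ideal.Quotient.mk ((IsLocalRing.maximalIdeal A) ^ n)) y =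
      IsLocalRing.closedPoint A := by
  apply PrimeSpectrum.ext
  have hle : (IsLocalRing.maximalIdeal A) ^ n ≤
      (PrimeSpectrum.comap (Ideal.Quotient.mk ((IsLocalRing.maximalIdeal A) ^ n)) y).asIdeal := by
    intro a ha
    show Ideal.Quotient.mk _ a ∈ y.asIdeal
    rw [Ideal.Quotient.eq_zero_iff_mem.mpr ha]
    exact y.asIdeal.zero_mem
  have hm : IsLocalRing.maximalIdeal A ≤
      (PrimeSpectrum.comap (Ideal.Quotient.mk ((IsLocalRing.maximalIdeal A) ^ n)) y).asIdeal :=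
    (PrimeSpectrum.comap _ y).isPrime.le_of_pow_le hle
  exact ((IsLocalRing.maximalIdeal.isMaximal A).eq_of_le
    (PrimeSpectrum.comap _ y).isPrime.ne_top hm).symm

lemma appLE_congr_hom {Y X : Scheme.{u}} (v w : Y ⟶ X) (e : v = w) (U : X.Opens) (V : Y.Opens)
    (hv : V ≤ v ⁻¹ᵁ U) (hw : V ≤ w ⁻¹ᵁ U) : v.appLE U V hv = w.appLE U V hw := by
  subst e; rfl

lemma appTop_eq_appLE {Y X : Scheme.{u}} (v : Y ⟶ X) (e : (⊤ : Y.Opens) ≤ v ⁻¹ᵁ ⊤) :
    v.appTop = v.appLE ⊤ ⊤ e :=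
  Scheme.Hom.app_eq_appLE v

theorem part1 [IsHausdorff (IsLocalRing.maximalIdeal A) A] (X : Scheme.{u})
    (f g : Spec (CommRingCat.of A) ⟶ X)
    (h : ∀ n : ℕ, Spec.map (CommRingCat.ofHom (Ideal.Quotient.mk ((IsLocalRing.maximalIdeal A) ^ n))) ≫ f =
      Spec.map (CommRingCat.ofHom (Ideal.Quotient.mk ((IsLocalRing.maximalIdeal A) ^ n))) ≫ g) :
    f = g := by
  have hne : Nontrivial (A ⧸ (IsLocalRing.maximalIdeal A) ^ 1) := by
    rw [pow_one]
    exact Ideal.Quotient.nontrivial_iff.mpr (IsLocalRing.maximalIdeal.isMaximal A).ne_top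
  obtain ⟨y0⟩ := (inferInstance : Nonempty (PrimeSpectrum (A ⧸ (IsLocalRing.maximalIdeal A) ^ 1)))
  let y : ↥(Spec (CommRingCat.of (A ⧸ (IsLocalRing.maximalIdeal A) ^ 1))) := y0
  have hy : (Spec.map (CommRingCat.ofHom (Ideal.Quotient.mk ((IsLocalRing.maximalIdeal A) ^ 1)))) y =
      IsLocalRing.closedPoint A := comap_mk_eq 1 y0
  have hcp : f (IsLocalRing.closedPoint A) = g (IsLocalRing.closedPoint A) := by
    have h1 := congrArg (fun φ : Spec (CommRingCat.of (A ⧸ (IsLocalRing.maximalIdeal A) ^ 1)) ⟶ X => φ y) (h 1)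
    simp only [Scheme.Hom.comp_apply] at h1
    rw [hy] at h1
    exact h1
  obtain ⟨_, ⟨U, hU, rfl⟩, hxU, -⟩ := X.isBasis_affineOpens.exists_subset_of_mem_open
    (Set.mem_univ (f (IsLocalRing.closedPoint A))) isOpen_univ
  have hf_top : f ⁻¹ᵁ U = ⊤ := Scheme.preimage_eq_top_of_closedPoint_mem f hxU
  have hg_top : g ⁻¹ᵁ U = ⊤ := Scheme.preimage_eq_top_of_closedPoint_mem g (hcp ▸ hxU)
  have e1 := IsAffineOpen.SpecMap_appLE_fromSpec f hU (isAffineOpen_top _) hf_top.ge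
  have e2 := IsAffineOpen.SpecMap_appLE_fromSpec g hU (isAffineOpen_top _) hg_top.ge
  have hn : ∀ n, f.appLE U ⊤ hf_top.ge ≫ (Scheme.ΓSpecIso (CommRingCat.of A)).hom ≫
        CommRingCat.ofHom (Ideal.Quotient.mk ((IsLocalRing.maximalIdeal A) ^ n)) =
      g.appLE U ⊤ hg_top.ge ≫ (Scheme.ΓSpecIso (CommRingCat.of A)).hom ≫
        CommRingCat.ofHom (Ideal.Quotient.mk ((IsLocalRing.maximalIdeal A) ^ n)) := by
    intro n
    rw [← Scheme.ΓSpecIso_naturality]
    simp only [← Category.assoc]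
    congr 1
    have e2 : (⊤ : (Spec (CommRingCat.of (A ⧸ (IsLocalRing.maximalIdeal A) ^ n))).Opens) ≤
        (Spec.map (CommRingCat.ofHom (Ideal.Quotient.mk ((IsLocalRing.maximalIdeal A) ^ n)))) ⁻¹ᵁ ⊤ :=
      le_of_eq rfl
    rw [appTop_eq_appLE _ e2, Scheme.Hom.appLE_comp_appLE, Scheme.Hom.appLE_comp_appLE]
    exact appLE_congr_hom _ _ (h n) _ _ _ _
  have key : f.appLE U ⊤ hf_top.ge = g.appLE U ⊤ hg_top.ge := by
    rw [← cancel_mono (Scheme.ΓSpecIso (CommRingCat.of A)).hom]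
    ext s
    apply eq_of_sub_eq_zero
    apply IsHausdorff.haus' (I := IsLocalRing.maximalIdeal A)
    intro n
    rw [SModEq.zero, smul_eq_mul, Ideal.mul_top, ← Ideal.Quotient.eq]
    have := congrArg (fun φ => φ.hom s) (hn n)
    simpa using this
  rw [key] at e1
  have e3 := e1.symm.trans e2
  rw [IsAffineOpen.fromSpec_top] at e3
  exact (cancel_epi _).mp e3


lemma subsing_pts (n : ℕ) (y y' : PrimeSpectrum (A ⧸ (IsLocalRing.maximalIdeal A) ^ n)) : y = y' :=
  PrimeSpectrum.comap_injective_of_surjective _ Ideal.Quotient.mk_surjective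
    ((comap_mk_eq n y).trans (comap_mk_eq n y').symm)

lemma nontriv_succ (n : ℕ) : Nontrivial (A ⧸ (IsLocalRing.maximalIdeal A) ^ (n + 1)) := by
  rw [Ideal.Quotient.nontrivial_iff]
  intro htop
  have hle : (IsLocalRing.maximalIdeal A) ^ (n + 1) ≤ IsLocalRing.maximalIdeal A :=
    Ideal.pow_le_self n.succ_ne_zero
  rw [htop] at hle
  exact (IsLocalRing.maximalIdeal.isMaximal A).ne_top (top_le_iff.mp hle)

lemma empty_zero (y : PrimeSpectrum (A ⧸ (IsLocalRing.maximalIdeal A) ^ 0)) : False := by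
  haveI : Subsingleton (A ⧸ (IsLocalRing.maximalIdeal A) ^ 0) :=
    not_nontrivial_iff_subsingleton.mp (by
      rw [Ideal.Quotient.nontrivial_iff, pow_zero, Ideal.one_eq_top]
      exact fun h => h rfl)
  exact (inferInstance : IsEmpty (PrimeSpectrum (A ⧸ (IsLocalRing.maximalIdeal A) ^ 0))).false y

theorem part2 [IsAdicComplete (IsLocalRing.maximalIdeal A) A] (X : Scheme.{u})
    (u : (n : ℕ) → (Spec (CommRingCat.of (A ⧸ (IsLocalRing.maximalIdeal A) ^ n)) ⟶ X))
    (hu : ∀ n : ℕ, (Spec.map (CommRingCat.ofHom (Ideal.Quotient.factor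
          (Ideal.pow_le_pow_right (I := (IsLocalRing.maximalIdeal A)) (Nat.le_succ n))))) ≫ u (n + 1) = u n) :
    ∃ f : (Spec (CommRingCat.of A)) ⟶ X, ∀ n : ℕ,
      (Spec.map (CommRingCat.ofHom (Ideal.Quotient.mk ((IsLocalRing.maximalIdeal A) ^ n)))) ≫ f = u n := by
  haveI := nontriv_succ (A := A) 0
  obtain ⟨y0⟩ := (inferInstance : Nonempty (PrimeSpectrum (A ⧸ (IsLocalRing.maximalIdeal A) ^ (0 + 1))))
  let y1 : ↥(Spec (CommRingCat.of (A ⧸ (IsLocalRing.maximalIdeal A) ^ (0 + 1)))) := y0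
  obtain ⟨_, ⟨U, hU, rfl⟩, hxU, -⟩ := X.isBasis_affineOpens.exists_subset_of_mem_open
    (Set.mem_univ ((u (0 + 1)) y1)) isOpen_univ
  have hP : ∀ n (y : ↥(Spec (CommRingCat.of (A ⧸ (IsLocalRing.maximalIdeal A) ^ (n + 1))))),
      (u (n + 1)) y ∈ U := by
    intro n
    induction n with
    | zero =>
      intro y
      have hyy : y = y1 := subsing_pts (0 + 1) y y1
      rw [hyy]; exact hxU
    | succ k ih =>
      intro y
      haveI := nontriv_succ (A := A) k
      obtain ⟨z0⟩ := (inferInstance : Nonempty (PrimeSpectrum (A ⧸ (IsLocalRing.maximalIdeal A) ^ (k + 1))))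
      let z : ↥(Spec (CommRingCat.of (A ⧸ (IsLocalRing.maximalIdeal A) ^ (k + 1)))) := z0
      have hz : (Spec.map (CommRingCat.ofHom (Ideal.Quotient.factor
          (Ideal.pow_le_pow_right (I := (IsLocalRing.maximalIdeal A)) (Nat.le_succ (k + 1)))))) z = y :=
        subsing_pts (k + 1 + 1) _ _
      have h1 := congrArg
        (fun φ : Spec (CommRingCat.of (A ⧸ (IsLocalRing.maximalIdeal A) ^ (k + 1))) ⟶ X => φ z) (hu (k + 1))
      simp only [Scheme.Hom.comp_apply] at h1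
      rw [hz] at h1
      rw [h1]
      exact ih z
  have hle : ∀ n, (⊤ : (Spec (CommRingCat.of (A ⧸ (IsLocalRing.maximalIdeal A) ^ n))).Opens) ≤
      (u n) ⁻¹ᵁ U := by
    intro n
    cases n with
    | zero => intro y _; exact (empty_zero y).elim
    | succ k => intro y _; exact hP k y
  let Ψ : ∀ n, Γ(X, U) ⟶ CommRingCat.of (A ⧸ (IsLocalRing.maximalIdeal A) ^ n) := fun n =>
    (u n).appLE U ⊤ (hle n) ≫
      (Scheme.ΓSpecIso (CommRingCat.of (A ⧸ (IsLocalRing.maximalIdeal A) ^ n))).hom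
  have hΨ : ∀ n, Ψ (n + 1) ≫ CommRingCat.ofHom (Ideal.Quotient.factor
      (Ideal.pow_le_pow_right (I := (IsLocalRing.maximalIdeal A)) (Nat.le_succ n))) = Ψ n := by
    intro n
    show ((u (n + 1)).appLE U ⊤ (hle (n + 1)) ≫ (Scheme.ΓSpecIso _).hom) ≫ _ =
      (u n).appLE U ⊤ (hle n) ≫ (Scheme.ΓSpecIso _).hom
    rw [Category.assoc, ← Scheme.ΓSpecIso_naturality, ← Category.assoc]
    congr 1
    have e2 : (⊤ : (Spec (CommRingCat.of (A ⧸ (IsLocalRing.maximalIdeal A) ^ n))).Opens) ≤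
        (Spec.map (CommRingCat.ofHom (Ideal.Quotient.factor
          (Ideal.pow_le_pow_right (I := (IsLocalRing.maximalIdeal A)) (Nat.le_succ n))))) ⁻¹ᵁ ⊤ :=
      le_of_eq rfl
    rw [appTop_eq_appLE _ e2, Scheme.Hom.appLE_comp_appLE]
    exact appLE_congr_hom _ _ (hu n) _ _ _ _
  let ψ : (n : ℕ) → (Γ(X, U) : Type u) →+* A ⧸ (IsLocalRing.maximalIdeal A) ^ (id n) :=
    fun n => (Ψ n).hom
  have hψ : ∀ {k : ℕ}, (Ideal.Quotient.factorPow (IsLocalRing.maximalIdeal A)
      (strictMono_id.monotone k.le_succ)).comp (ψ (k + 1)) = ψ k := by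
    intro k
    exact congrArg CommRingCat.Hom.hom (hΨ k)
  let lift : (Γ(X, U) : Type u) →+* A :=
    IsAdicComplete.StrictMono.liftRingHom (IsLocalRing.maximalIdeal A) strictMono_id ψ (@hψ)
  have hlift : ∀ n, (Ideal.Quotient.mk ((IsLocalRing.maximalIdeal A) ^ n)).comp lift = ψ n := fun n =>
    IsAdicComplete.StrictMono.mk_comp_liftRingHom (IsLocalRing.maximalIdeal A) strictMono_id ψ (@hψ)
  refine ⟨Spec.map (CommRingCat.ofHom lift) ≫ hU.fromSpec, fun n => ?_⟩
  rw [← Category.assoc, ← Spec.map_comp]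
  have h1 : CommRingCat.ofHom lift ≫
      CommRingCat.ofHom (Ideal.Quotient.mk ((IsLocalRing.maximalIdeal A) ^ n)) = Ψ n := by
    apply CommRingCat.hom_ext
    exact hlift n
  rw [h1]
  show Spec.map ((u n).appLE U ⊤ (hle n) ≫ (Scheme.ΓSpecIso _).hom) ≫ hU.fromSpec = u n
  rw [Spec.map_comp, Category.assoc,
    IsAffineOpen.SpecMap_appLE_fromSpec (u n) hU (isAffineOpen_top _) (hle n),
    IsAffineOpen.fromSpec_top, Scheme.isoSpec_Spec_inv, ← Category.assoc, ← Spec.map_comp,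
    Iso.inv_hom_id, Spec.map_id, Category.id_comp]


end helpers

/-- Let A be a local ring, separated and complete for the topology defined by its maximal ideal m, S =
Spec A and Sₙ = Spec(A/mⁿ). Then for every scheme X the canonical map Hom(S, X) → lim Hom(Sₙ, X) is
bijective: two morphisms S → X that agree on every Sₙ are equal, and every family of morphisms Sₙ →
X compatible with the closed immersions Sₙ → Sₙ₊₁ is induced by a morphism S → X. -/
theorem result (A : Type u) [CommRing A] [IsLocalRing A]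
    [IsAdicComplete (IsLocalRing.maximalIdeal A) A] (X : Scheme.{u}) :
    (∀ f g : (Spec (CommRingCat.of A)) ⟶ X,
      (∀ n : ℕ, (Spec.map (CommRingCat.ofHom (Ideal.Quotient.mk ((IsLocalRing.maximalIdeal A) ^ n)))) ≫ f = (Spec.map (CommRingCat.ofHom (Ideal.Quotient.mk ((IsLocalRing.maximalIdeal A) ^ n)))) ≫ g) → f = g) ∧
    (∀ u : (n : ℕ) → (Spec (CommRingCat.of (A ⧸ (IsLocalRing.maximalIdeal A) ^ n)) ⟶ X),
      (∀ n : ℕ, (Spec.map (CommRingCat.ofHom (Ideal.Quotient.factor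
          (Ideal.pow_le_pow_right (I := (IsLocalRing.maximalIdeal A)) (Nat.le_succ n))))) ≫ u (n + 1) = u n) →
      ∃ f : (Spec (CommRingCat.of A)) ⟶ X, ∀ n : ℕ, (Spec.map (CommRingCat.ofHom (Ideal.Quotient.mk ((IsLocalRing.maximalIdeal A) ^ n)))) ≫ f = u n) := by
  haveI : IsHausdorff (IsLocalRing.maximalIdeal A) A := inferInstance
  exact ⟨fun f g h => part1 X f g h, fun u hu => part2 X u hu⟩

end Groth.Agent.S8384
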