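import Groth.Statements.S8441
import Mathlib

set_option autoImplicit false
universe u v w
open SGA3t2b

namespace Groth.Agent.S8441

theorem foldl_sub_mem {ι : Type u} {M : Type v} {N : Type w} [AddCommGroup M] [Module ℤ M]
    [AddCommGroup N] [Module ℤ N] (P : RootPairing ι ℤ M N) {n : ℕ} (f : Fin n → ι) (i : Fin n)
    (L : List (Fin n)) (hL : ∀ j ∈ L, i < j) (x : M)
    (hx : x - P.root (f i) ∈ Submodule.span ℤ ((fun j => P.root (f j)) '' {j | i < j})) :
    L.foldl (fun x j => P.reflection (f j) x) x - P.root (f i) ∈
      Submodule.span ℤ ((fun j => P.root (f j)) '' {j | i < j}) := by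
  induction L generalizing x with
  | nil => simpa using hx
  | cons j L ih =>
    rw [List.foldl_cons]
    apply ih (fun k hk => hL k (List.mem_cons_of_mem _ hk))
    rw [P.reflection_apply]
    rw [sub_right_comm]
    exact Submodule.sub_mem _ hx (Submodule.smul_mem _ _
      (Submodule.subset_span ⟨j, hL j List.mem_cons_self, rfl⟩))

theorem span_eq_of_unitriangular {M : Type v} [AddCommGroup M] [Module ℤ M] {n : ℕ}
    (a θ : Fin n → M)
    (h : ∀ i, θ i - a i ∈ Submodule.span ℤ (a '' {j | i < j})) :
    Submodule.span ℤ (Set.range θ) = Submodule.span ℤ (Set.range a) := by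
  apply le_antisymm
  · rw [Submodule.span_le]
    rintro _ ⟨i, rfl⟩
    have h1 : θ i = (θ i - a i) + a i := by abel
    rw [h1]
    exact Submodule.add_mem _ (Submodule.span_mono (Set.image_subset_range _ _) (h i))
      (Submodule.subset_span ⟨i, rfl⟩)
  · rw [Submodule.span_le]
    rintro _ ⟨i, rfl⟩
    induction i using WellFoundedGT.induction with
    | ind i ih =>
      have h2 : Submodule.span ℤ (a '' {j | i < j}) ≤ Submodule.span ℤ (Set.range θ) := by
        rw [Submodule.span_le]
        rintro _ ⟨j, hj, rfl⟩
        exact ih j hj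
      have h1 : a i = θ i - (θ i - a i) := by abel
      rw [h1]
      exact Submodule.sub_mem _ (Submodule.subset_span ⟨i, rfl⟩) (h2 (h i))


/-- Let R be a root system with a system of simple roots a₁, …, aₙ and simple reflections rᵢ, and put θᵢ
= rₙ ⋯ rᵢ₊₁(aᵢ). Then the θᵢ form a basis of the group generated by the roots. Stated for a root
pairing over ℤ (Mathlib) with a base whose support is enumerated by Fin n: the θᵢ are ℤ-linearly
independent and their ℤ-span is the ℤ-span of all roots. -/
theorem result {ι : Type u} {M : Type v} {N : Type w} [AddCommGroup M] [Module ℤ M]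
    [AddCommGroup N] [Module ℤ N] (P : RootPairing ι ℤ M N) (b : P.Base) (n : ℕ) (e : Fin n ≃ ↥b.support) :
    LinearIndependent ℤ (fun i : Fin n =>
      ((List.finRange n).filter (fun j => i < j)).foldl (fun x j => P.reflection (e j : ι) x) (P.root (e i : ι))) ∧
    Submodule.span ℤ (Set.range (fun i : Fin n =>
      ((List.finRange n).filter (fun j => i < j)).foldl (fun x j => P.reflection (e j : ι) x) (P.root (e i : ι)))) =
      Submodule.span ℤ (Set.range P.root) := by
  classical
  obtain rfl : ‹Module ℤ M› = AddCommGroup.toIntModule M := Subsingleton.elim _ _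
  set θ : Fin n → M := fun i : Fin n =>
      ((List.finRange n).filter (fun j => i < j)).foldl (fun x j => P.reflection (e j : ι) x)
        (P.root (e i : ι)) with hθ
  set a : Fin n → M := fun i => P.root (e i : ι) with ha
  have key : ∀ i, θ i - a i ∈ Submodule.span ℤ (a '' {j | i < j}) := by
    intro i
    refine foldl_sub_mem P (fun j => (e j : ι)) i _ ?_ _ ?_
    · intro j hj
      simpa using (List.mem_filter.mp hj).2
    · simp
  have hspan : Submodule.span ℤ (Set.range θ) = Submodule.span ℤ (Set.range a) :=
    span_eq_of_unitriangular a θ key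
  have hrange : Set.range a = P.root '' (b.support : Set ι) := by
    ext x
    constructor
    · rintro ⟨i, rfl⟩
      exact ⟨e i, (e i).2, rfl⟩
    · rintro ⟨j, hj, rfl⟩
      exact ⟨e.symm ⟨j, hj⟩, by simp [ha]⟩
  have hli : LinearIndependent ℤ a := by
    have h1 := b.linearIndepOn_root
    exact LinearIndependent.comp h1 (fun i : Fin n => ⟨(e i : ι), (e i).2⟩)
      (by
        intro i j hij
        apply e.injective
        apply Subtype.ext
        simpa using congrArg Subtype.val hij)
  refine ⟨?_, ?_⟩
  · rw [linearIndependent_iff_card_eq_finrank_span, Set.finrank, hspan]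
    exact linearIndependent_iff_card_eq_finrank_span.mp hli
  · rw [hspan, hrange, b.span_int_root_support]

end Groth.Agent.S8441
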