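import Groth.Statements.S8535
import Mathlib

set_option autoImplicit false
universe v v' u u'
open CategoryTheory CategoryTheory.Limits
open DeltaF

namespace Groth.Agent.S8535

section helpers

variable {A : Type u} [Category.{v} A] [Abelian A] {B : Type u'} [Category.{v'} B] [Abelian B]
  (T T' : DeltaF.CohDeltaFunctor A B ℕ) (φ : T ⟶ T')

lemma shortExact_of_mono {X Y : A} (u : X ⟶ Y) [Mono u] :
    (ShortComplex.mk u (cokernel.π u) (cokernel.condition u)).ShortExact :=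
  ShortComplex.ShortExact.mk' (ShortComplex.exact_cokernel u)
    (by dsimp; infer_instance) (by dsimp; infer_instance)

lemma mono_step (i : ℕ) (hE : ∀ X, Epi ((φ.app i).app X)) (hM : ∀ X, Mono ((φ.app i).app X))
    (S : ShortComplex A) (hS : S.ShortExact) (hu : (T.F (i + 1)).map S.f = 0) :
    Mono ((φ.app (i + 1)).app S.X₁) := by
  have hδ : Epi (T.δ S hS i (i + 1) rfl) := (T.exact₁ S hS i (i + 1) rfl).epi_f hu
  rw [Preadditive.mono_iff_cancel_zero]
  intro K k hk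
  obtain ⟨K₁, π₁, hπ₁, z, hz⟩ := (epi_iff_surjective_up_to_refinements _).1 hδ k
  have h1 : (z ≫ (φ.app i).app S.X₃) ≫ T'.δ S hS i (i + 1) rfl = 0 := by
    rw [Category.assoc, ← φ.comm S hS i (i + 1) rfl, ← Category.assoc, ← hz, Category.assoc, hk,
      comp_zero]
  obtain ⟨K₂, π₂, hπ₂, y', hy'⟩ : ∃ (K₂ : B) (π₂ : K₂ ⟶ K₁) (_ : Epi π₂)
      (y' : K₂ ⟶ (T'.F i).obj S.X₂),
      π₂ ≫ z ≫ (φ.app i).app S.X₃ = y' ≫ (T'.F i).map S.g :=
    (T'.exact₃ S hS i (i + 1) rfl).exact_up_to_refinements _ h1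
  obtain ⟨K₃, π₃, hπ₃, y, hy⟩ := (epi_iff_surjective_up_to_refinements _).1 (hE S.X₂) y'
  have h2 : (π₃ ≫ π₂ ≫ z - y ≫ (T.F i).map S.g) ≫ (φ.app i).app S.X₃ = 0 := by
    have nat := (φ.app i).naturality S.g
    have e1 : π₃ ≫ π₂ ≫ z ≫ (φ.app i).app S.X₃ =
        y ≫ (φ.app i).app S.X₂ ≫ (T'.F i).map S.g := by
      rw [hy', ← Category.assoc, hy, Category.assoc]
    rw [Preadditive.sub_comp, sub_eq_zero]
    simp only [Category.assoc]
    rw [e1, nat]
  have h3 : π₃ ≫ π₂ ≫ z = y ≫ (T.F i).map S.g :=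
    sub_eq_zero.1 ((Preadditive.mono_iff_cancel_zero _).1 (hM S.X₃) _ _ h2)
  have h4 : (π₃ ≫ π₂ ≫ π₁) ≫ k = 0 := by
    have : (π₃ ≫ π₂ ≫ π₁) ≫ k = (π₃ ≫ π₂ ≫ z) ≫ T.δ S hS i (i + 1) rfl := by
      simp only [Category.assoc, hz]
    rw [this, h3, Category.assoc, T.comp_δ, comp_zero]
  have : Epi (π₃ ≫ π₂ ≫ π₁) := epi_comp' hπ₃ (epi_comp' hπ₂ hπ₁)
  exact (cancel_epi (π₃ ≫ π₂ ≫ π₁)).1 (h4.trans comp_zero.symm)

lemma epi_step (i : ℕ) (hE : ∀ X, Epi ((φ.app i).app X))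
    (S : ShortComplex A) (hS : S.ShortExact) (hu : (T'.F (i + 1)).map S.f = 0) :
    Epi ((φ.app (i + 1)).app S.X₁) := by
  have hδ : Epi (T'.δ S hS i (i + 1) rfl) := (T'.exact₁ S hS i (i + 1) rfl).epi_f hu
  have := hE S.X₃
  have : Epi ((φ.app i).app S.X₃ ≫ T'.δ S hS i (i + 1) rfl) := epi_comp _ _
  exact epi_of_epi_fac (φ.comm S hS i (i + 1) rfl)

end helpers


/-- Let A and B be abelian categories, T and T' cohomological delta-functors from A to B in degrees ≥ 0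
whose degree-0 components are left exact (they vanish in negative degrees), such that T^i is
effaceable for every i > 0, and let φ : T → T' be a morphism of delta-functors and n a natural
number. Then the following are equivalent: (a) φ^i is an isomorphism for i ≤ n and a monomorphism
for i = n + 1; (b) φ^0 is a monomorphism and φ^i is an epimorphism for every i ≤ n; (c) φ^0 is an
isomorphism and, for 0 < i ≤ n, T'^i is effaceable (every object X admits a monomorphism X → Y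
killed by T'^i). -/
theorem result {A : Type u} [Category.{v} A] [Abelian A]
    {B : Type u'} [Category.{v'} B] [Abelian B] (T T' : DeltaF.CohDeltaFunctor A B ℕ)
    (h0 : T.ZeroMono) (h0' : T'.ZeroMono) (hT : T.IsEffaceable) (φ : T ⟶ T') (n : ℕ) :
    ((∀ i : ℕ, i ≤ n → IsIso (φ.app i)) ∧ Mono (φ.app (n + 1)) ↔
      (Mono (φ.app 0) ∧ ∀ i : ℕ, i ≤ n → Epi (φ.app i))) ∧
    ((∀ i : ℕ, i ≤ n → IsIso (φ.app i)) ∧ Mono (φ.app (n + 1)) ↔
      (IsIso (φ.app 0) ∧ ∀ i : ℕ, 0 < i → i ≤ n → ∀ X : A, ∃ (Y : A) (u : X ⟶ Y), Mono u ∧ (T'.F i).map u = 0)) := by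
  have monoI : ∀ i, Mono (φ.app i) ↔ ∀ X, Mono ((φ.app i).app X) :=
    fun i => NatTrans.mono_iff_mono_app _
  have epiI : ∀ i, Epi (φ.app i) ↔ ∀ X, Epi ((φ.app i).app X) :=
    fun i => NatTrans.epi_iff_epi_app _
  have isoI : ∀ i, IsIso (φ.app i) ↔ ∀ X, IsIso ((φ.app i).app X) :=
    fun i => NatTrans.isIso_iff_isIso_app _
  have stepM : ∀ i, (∀ X, Epi ((φ.app i).app X)) → (∀ X, Mono ((φ.app i).app X)) →
      ∀ X, Mono ((φ.app (i + 1)).app X) := by
    intro i hE hM X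
    obtain ⟨Y, u, hu, hu0⟩ := hT i X
    exact mono_step T T' φ i hE hM _ (shortExact_of_mono u) hu0
  have stepE : ∀ i, (∀ X, Epi ((φ.app i).app X)) →
      (∀ X : A, ∃ (Y : A) (u : X ⟶ Y), Mono u ∧ (T'.F (i + 1)).map u = 0) →
      ∀ X, Epi ((φ.app (i + 1)).app X) := by
    intro i hE heff X
    obtain ⟨Y, u, hu, hu0⟩ := heff X
    exact epi_step T T' φ i hE _ (shortExact_of_mono u) hu0
  have key : (∀ X, Mono ((φ.app 0).app X)) → (∀ i, i ≤ n → ∀ X, Epi ((φ.app i).app X)) →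
      ∀ i, i ≤ n + 1 → ∀ X, Mono ((φ.app i).app X) := by
    intro h0M hE i
    induction i with
    | zero => intro _; exact h0M
    | succ i ih => intro hi; exact stepM i (hE i (by omega)) (ih (by omega))
  refine ⟨⟨?_, ?_⟩, ⟨?_, ?_⟩⟩
  · rintro ⟨hI, hM⟩
    exact ⟨by have := hI 0 (Nat.zero_le _); infer_instance,
      fun i hi => by have := hI i hi; infer_instance⟩
  · rintro ⟨h0M, hE⟩
    have hE' : ∀ i, i ≤ n → ∀ X, Epi ((φ.app i).app X) := fun i hi => (epiI i).1 (hE i hi)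
    have hM' := key ((monoI 0).1 h0M) hE'
    refine ⟨fun i hi => (isoI i).2 (fun X => ?_), (monoI _).2 (hM' (n + 1) le_rfl)⟩
    have := hM' i (by omega) X
    have := hE' i hi X
    exact isIso_of_mono_of_epi _
  · rintro ⟨hI, hM⟩
    refine ⟨hI 0 (Nat.zero_le _), ?_⟩
    intro i hi0 hin X
    obtain ⟨j, rfl⟩ : ∃ j, i = j + 1 := ⟨i - 1, by omega⟩
    obtain ⟨Y, u, hu, hu0⟩ := hT j X
    refine ⟨Y, u, hu, ?_⟩
    have hiso := (isoI (j + 1)).1 (hI (j + 1) hin)
    have := hiso X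
    rw [← cancel_epi ((φ.app (j + 1)).app X), ← (φ.app (j + 1)).naturality, hu0, zero_comp,
      comp_zero]
  · rintro ⟨hI0, heff⟩
    have hI0' := (isoI 0).1 hI0
    have hQ : ∀ i, i ≤ n →
        (∀ X, Mono ((φ.app i).app X)) ∧ (∀ X, Epi ((φ.app i).app X)) := by
      intro i
      induction i with
      | zero =>
        intro _
        exact ⟨fun X => by have := hI0' X; infer_instance,
          fun X => by have := hI0' X; infer_instance⟩
      | succ i ih =>
        intro hi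
        obtain ⟨hM, hE⟩ := ih (by omega)
        exact ⟨stepM i hE hM, stepE i hE (heff (i + 1) (by omega) hi)⟩
    refine ⟨fun i hi => (isoI i).2 (fun X => ?_), (monoI _).2 ?_⟩
    · have := (hQ i hi).1 X
      have := (hQ i hi).2 X
      exact isIso_of_mono_of_epi _
    · exact stepM n (hQ n le_rfl).2 (hQ n le_rfl).1

end Groth.Agent.S8535
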