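import Groth.Statements.S8558
import Mathlib
import Groth.Agent.Lib.Helper7.Torsor7
-- import your own Groth.Agent.* helpers here

set_option autoImplicit false
universe u
open CategoryTheory CategoryTheory.Limits AlgebraicGeometry Opposite
open NonAbH1

namespace Groth.Agent.S8558

open Groth.Agent.Lib.Helper7.Torsor7

/-- Exactness of the non-abelian cohomology sequence at the global sections of the quotient: let u : F ⟶
G be a morphism of sheaves of groups on the small etale site of a scheme X that is injective on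
sections over every object, and let the G-sheaf Q with its equivariant map π from G (acting on
itself by left translation) be the quotient G/F (π identifies two sections of G exactly when they
differ by right multiplication by a section of F, and is locally surjective). If the F-torsor T is
the sheaf of local liftings of a global section c of Q to G (F acting by f · g = g u(f)⁻¹), then the
class of T in H¹(X, F) is the base point, ∂c = 1, if and only if c is the image under π of a global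
section of G. -/
theorem result {X : Scheme.{u}} {F G : Sheaf X.smallEtaleTopology GrpCat.{u + 1}}
    (u : F ⟶ G) (hu : ∀ U : X.Etaleᵒᵖ, Function.Injective (u.hom.app U))
    {Q : NonAbH1.GSheaf G} (π : NonAbH1.GSheaf.trivial.{u + 1, u, u + 1} G ⟶ Q) (hQ : NonAbH1.GSheaf.IsQuotientBy.{u + 1, u, u + 1} u π)
    (c : Q.P.obj.sections) (T : NonAbH1.Torsor F) (hT : NonAbH1.GSheaf.IsFibreOver.{u + 1, u, u + 1} u π c T.toGSheaf) :
    T.cl = 1 ↔
      ∃ g : (NonAbH1.GSheaf.uSh.{u + 1, u, u + 1} G).obj.sections, ∀ U : X.Etaleᵒᵖ, π.hom.hom.app U (g.1 U) = c.1 U := by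
  obtain ⟨h⟩ := (fib_iff.{u + 1, u, u + 1} u π c _).1 hT
  have h0 := trivFib.{u + 1, u, u + 1} u π hu hQ
  have hrel : T.cl = 1 ↔ Nonempty (T.toGSheaf ≅ (NonAbH1.trivialTorsor F).toGSheaf) := by
    have heq : Equivalence (fun P Q : NonAbH1.Torsor F => Nonempty (P.toGSheaf ≅ Q.toGSheaf)) :=
      ⟨fun P => ⟨Iso.refl _⟩, fun ⟨e⟩ => ⟨e.symm⟩, fun ⟨e⟩ ⟨e'⟩ => ⟨e ≪≫ e'⟩⟩
    exact heq.quot_mk_eq_iff _ _
  rw [hrel]
  constructor
  · rintro ⟨e⟩
    obtain ⟨g, hg⟩ := Fib.exists_section_of_hom.{u + 1, u, u + 1} hu hQ h h0 e.hom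
    refine ⟨⟨fun U => NonAbH1.GSheaf.ofGrp.{u + 1, u, u + 1} (NonAbH1.GSheaf.toGrp.{u + 1, u, u + 1} (g.1 U))⁻¹, ?_⟩, ?_⟩
    · intro U V f
      show G.obj.map f (NonAbH1.GSheaf.toGrp.{u + 1, u, u + 1} (g.1 U))⁻¹ = (NonAbH1.GSheaf.toGrp.{u + 1, u, u + 1} (g.1 V))⁻¹
      rw [map_inv]
      exact congrArg (fun x : G.obj.obj V => x⁻¹) (g.2 f)
    · intro U
      show pi.{u + 1, u, u + 1} π U (NonAbH1.GSheaf.toGrp.{u + 1, u, u + 1} (g.1 U))⁻¹ = c.1 U
      have h1 : pi.{u + 1, u, u + 1} π U ((NonAbH1.GSheaf.toGrp.{u + 1, u, u + 1} (g.1 U))⁻¹ * 1) =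
          Q.smul (NonAbH1.GSheaf.toGrp.{u + 1, u, u + 1} (g.1 U))⁻¹ (pi.{u + 1, u, u + 1} π U 1) := pi_mul.{u + 1, u, u + 1} π U _ _
      rw [mul_one] at h1
      have h2 : pi.{u + 1, u, u + 1} π U 1 = Q.smul (NonAbH1.GSheaf.toGrp.{u + 1, u, u + 1} (g.1 U)) (c.1 U) := (hg U).symm
      rw [h1, h2, ← Q.mul_smul, inv_mul_cancel, Q.one_smul]
  · rintro ⟨g, hg⟩
    have := Fib.iso_of_section.{u + 1, u, u + 1} hu hQ h0 h (fun U => NonAbH1.GSheaf.toGrp.{u + 1, u, u + 1} (g.1 U))
      (fun U V f => g.2 f) (by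
        intro U
        show Q.smul (NonAbH1.GSheaf.toGrp.{u + 1, u, u + 1} (g.1 U)) (pi.{u + 1, u, u + 1} π U 1) = c.1 U
        rw [← pi_mul.{u + 1, u, u + 1}, mul_one]
        exact hg U)
    obtain ⟨e⟩ := this
    exact ⟨e.symm⟩

end Groth.Agent.S8558
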