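import Groth.Statements.S8562
import Mathlib
-- import your own Groth.Agent.* helpers here

set_option autoImplicit false
universe u
open CategoryTheory CategoryTheory.Limits AlgebraicGeometry Opposite
open NonAbH1

namespace Groth.Agent.S8562

set_option backward.isDefEq.respectTransparency.types false in
noncomputable def ZZ {Y : Scheme.{u}} (W V : Y.Etale) : Y.Etale :=
  Scheme.Etale.mk (pullback.fst W.hom V.hom ≫ W.hom)

set_option backward.isDefEq.respectTransparency.types false in
noncomputable def aa {Y : Scheme.{u}} (W V : Y.Etale) : ZZ W V ⟶ W :=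
  MorphismProperty.Over.homMk (pullback.fst W.hom V.hom) rfl trivial

set_option backward.isDefEq.respectTransparency.types false in
noncomputable def bb {Y : Scheme.{u}} (W V : Y.Etale) : ZZ W V ⟶ V :=
  MorphismProperty.Over.homMk (pullback.snd W.hom V.hom) (pullback.condition).symm trivial

set_option backward.isDefEq.respectTransparency.types false in
theorem cover_of_covers {Y : Scheme.{u}} {ι : Type u} (V : ι → Y.Etale) (hV : EtCoh.Covers V)
    (W : Y.Etale) :
    Sieve.ofArrows (fun i => ZZ W (V i)) (fun i => aa W (V i)) ∈ Y.smallEtaleTopology W := by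
  rw [Scheme.ofArrows_mem_smallEtaleTopology_iff]
  ext x
  simp only [Set.mem_iUnion, Set.mem_range, Set.mem_univ, iff_true]
  obtain ⟨i, v, hv⟩ := hV (W.hom x)
  obtain ⟨z, hz, -⟩ := Scheme.Pullback.exists_preimage_pullback (f := W.hom) (g := (V i).hom)
    x v hv.symm
  exact ⟨i, z, hz⟩

set_option backward.isDefEq.respectTransparency.types false in
theorem hom_of_top {Y : Scheme.{u}} {V : Y.Etale} (a : V ⟶ EtCoh.top Y) (v : V.left) :
    V.hom.base v = a.left v := by
  have hw : a.left ≫ 𝟙 Y = V.hom := MorphismProperty.Over.w a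
  rw [← hw]
  rfl

set_option backward.isDefEq.respectTransparency.types false in
theorem points_of_cover {Y : Scheme.{u}} (W : Y.Etale) (S : Sieve W)
    (hS : S ∈ Y.smallEtaleTopology W) (x : W.left) :
    ∃ (V : Y.Etale) (a : V ⟶ W) (v : V.left), S a ∧ a.left v = x := by
  have hcov : Sieve.ofArrows (fun i : (Σ V : Y.Etale, {a : V ⟶ W // S a}) => i.1)
      (fun i => i.2.1) ∈ Y.smallEtaleTopology W := by
    refine Y.smallEtaleTopology.superset_covering ?_ hS
    intro V a ha
    exact (Sieve.mem_ofArrows_iff _ _ _).2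
      ⟨(⟨V, ⟨a, ha⟩⟩ : Σ V : Y.Etale, {a : V ⟶ W // S a}), 𝟙 V, (Category.id_comp a).symm⟩
  rw [Scheme.ofArrows_mem_smallEtaleTopology_iff] at hcov
  have hx : x ∈ ⋃ i : (Σ V : Y.Etale, {a : V ⟶ W // S a}), Set.range (i.2.1.left) := by
    rw [hcov]; trivial
  simp only [Set.mem_iUnion, Set.mem_range] at hx
  obtain ⟨i, v, hv⟩ := hx
  exact ⟨i.1, i.2.1, v, i.2.2, hv⟩


/-- Exactness of the sequence 0 → H¹(Y, f_*F) → H¹(X, F) → H⁰(Y, R¹f_*F) at its middle term, in terms of
torsors: let f : X ⟶ Y be a morphism of schemes, F a sheaf of groups on the small etale site of X,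
f_*F its direct image on Y (sections over an etale Y-scheme V are the sections of F over X ×_Y V),
and Q an F-torsor. Then Q is the image of a class in H¹(Y, f_*F), in the sense that there are an
f_*F-torsor P on Y and a morphism of sheaves of sets from P to the direct image of the sheaf
underlying Q which is equivariant for the actions of f_*F, if and only if the class of Q is locally
trivial over Y: there is a jointly surjective family of etale Y-schemes Y_i such that Q has a
section over every X ×_Y Y_i. -/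
theorem result {X Y : Scheme.{u}} (f : X ⟶ Y)
    [EtCoh.BCCont f] (F : Sheaf X.smallEtaleTopology GrpCat.{u + 1}) (Q : NonAbH1.Torsor F) :
    (∃ (P : NonAbH1.Torsor (((EtCoh.bc f).sheafPushforwardContinuous GrpCat.{u + 1}
        Y.smallEtaleTopology X.smallEtaleTopology).obj F))
      (φ : P.P ⟶ ((EtCoh.bc f).sheafPushforwardContinuous (Type (u + 1))
        Y.smallEtaleTopology X.smallEtaleTopology).obj Q.P),
      ∀ (V : Y.Etaleᵒᵖ) (g : F.obj.obj (op ((EtCoh.bc f).obj V.unop))) (s : P.P.obj.obj V),
        φ.hom.app V (P.smul g s) = Q.smul g (φ.hom.app V s)) ↔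
    ∃ (ι : Type u) (V : ι → Y.Etale), EtCoh.Covers V ∧
      ∀ i, Nonempty (Q.P.obj.obj (op ((EtCoh.bc f).obj (V i)))) := by
  constructor
  · rintro ⟨P, φ, hφ⟩
    obtain ⟨S, hS, hne⟩ := P.isTorsor.2 (EtCoh.top Y)
    have hpt := points_of_cover (EtCoh.top Y) S hS
    choose V a v hv using hpt
    refine ⟨↥Y, fun y => V y, ?_, ?_⟩
    · intro y
      refine ⟨y, v y, ?_⟩
      exact (hom_of_top (a y) (v y)).trans (hv y).2
    · intro y
      obtain ⟨p⟩ := hne (a y) (hv y).1
      exact ⟨φ.hom.app (op (V y)) p⟩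
  · rintro ⟨ι, V, hV, hne⟩
    refine ⟨⟨⟨((EtCoh.bc f).sheafPushforwardContinuous (Type (u + 1))
        Y.smallEtaleTopology X.smallEtaleTopology).obj Q.P,
        fun {W} g s => Q.smul (U := (EtCoh.bc f).op.obj W) g s,
        fun {W} p => Q.one_smul (U := (EtCoh.bc f).op.obj W) p,
        fun {W} g h p => Q.mul_smul (U := (EtCoh.bc f).op.obj W) g h p,
        fun {W W'} k g p => Q.map_smul ((EtCoh.bc f).op.map k) g p⟩, ?_, ?_⟩, 𝟙 _, ?_⟩
    · intro W p q
      exact Q.isTorsor.1 ((EtCoh.bc f).op.obj W) p q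
    · intro W
      refine ⟨_, cover_of_covers V hV W, ?_⟩
      intro W' h hh
      obtain ⟨i, c, rfl⟩ := (Sieve.mem_ofArrows_iff _ _ _).1 hh
      obtain ⟨q⟩ := hne i
      exact ⟨Q.P.obj.map ((EtCoh.bc f).map (c ≫ bb W (V i))).op q⟩
    · intro W g s
      rfl

end Groth.Agent.S8562
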