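import Groth.Statements.S8586
import Mathlib

set_option autoImplicit false
universe u
open CAlg

namespace Groth.Agent.S8586


section Aux8586
variable {A : Type u} [CommRing A] [IsNoetherianRing A] [IsLocalRing A]

theorem key8586 (I : Ideal A) (a : A) (ha : a ∈ IsLocalRing.maximalIdeal A)
    (h : IsLocalRing.maximalIdeal A ≤ (I ⊔ Ideal.span {a}).radical) (y : A)
    (hy : ∀ P ∈ I.minimalPrimes, P ≠ IsLocalRing.maximalIdeal A → y ∉ P) :
    IsLocalRing.maximalIdeal A ≤ (I ⊔ Ideal.span {y}).radical := by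
  rw [Ideal.radical_eq_sInf]
  apply le_sInf
  rintro Q ⟨hQ, hQp⟩
  haveI := hQp
  obtain ⟨P, hPmin, hPQ⟩ := Ideal.exists_minimalPrimes_le (I := I) (J := Q) (le_sup_left.trans hQ)
  by_cases hPm : P = IsLocalRing.maximalIdeal A
  · rw [← hPm]; exact hPQ
  have hyP := hy P hPmin hPm
  have hyQ : y ∈ Q := hQ (Ideal.mem_sup_right (Ideal.mem_span_singleton_self y))
  by_contra hmQ
  have hQm : Q ≤ IsLocalRing.maximalIdeal A := IsLocalRing.le_maximalIdeal hQp.ne_top
  haveI hPprime : P.IsPrime := hPmin.1.1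
  have hφ : Function.Surjective (Ideal.Quotient.mk P) := Ideal.Quotient.mk_surjective
  have hker : RingHom.ker (Ideal.Quotient.mk P) = P := Ideal.mk_ker
  haveI hQ'p : (Q.map (Ideal.Quotient.mk P)).IsPrime :=
    Ideal.map_isPrime_of_surjective hφ (by rw [hker]; exact hPQ)
  haveI hm'p : ((IsLocalRing.maximalIdeal A).map (Ideal.Quotient.mk P)).IsPrime :=
    Ideal.map_isPrime_of_surjective hφ (by rw [hker]; exact hPQ.trans hQm)
  have hcm : ∀ J : Ideal A, P ≤ J → (J.map (Ideal.Quotient.mk P)).comap (Ideal.Quotient.mk P) = J := by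
    intro J hJ
    rw [Ideal.comap_map_of_surjective _ hφ, ← RingHom.ker_eq_comap_bot, hker]
    exact sup_eq_left.mpr hJ
  have h0 : (⊥ : Ideal (A ⧸ P)) < Q.map (Ideal.Quotient.mk P) := by
    rw [bot_lt_iff_ne_bot]
    intro hbot
    have h1 := hcm Q hPQ
    rw [hbot, ← RingHom.ker_eq_comap_bot, hker] at h1
    exact hyP (h1 ▸ hyQ)
  have h1 : Q.map (Ideal.Quotient.mk P) < (IsLocalRing.maximalIdeal A).map (Ideal.Quotient.mk P) := by
    refine lt_of_le_of_ne (Ideal.map_mono hQm) fun heq => hmQ ?_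
    have h2 := congrArg (Ideal.comap (Ideal.Quotient.mk P)) heq
    rw [hcm Q hPQ, hcm _ (hPQ.trans hQm)] at h2
    exact h2 ▸ le_rfl
  have hmin : IsLocalRing.maximalIdeal A ∈ (P ⊔ Ideal.span {a}).minimalPrimes := by
    refine ⟨⟨inferInstance, sup_le (hPQ.trans hQm) ?_⟩, ?_⟩
    · rw [Ideal.span_singleton_le_iff_mem]; exact ha
    · rintro q ⟨hqp, hqa⟩ _
      haveI := hqp
      refine h.trans ?_
      rw [Ideal.IsPrime.radical_le_iff hqp]
      exact sup_le ((hPmin.1.2).trans (le_sup_left.trans hqa)) (le_sup_right.trans hqa)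
  have hle := Ideal.map_height_le_one_of_mem_minimalPrimes hmin
  haveI : (⊥ : Ideal (A ⧸ P)).IsPrime := Ideal.isPrime_bot
  have hlt0 := Ideal.height_strict_mono_of_isPrime h0
  have hlt1 := Ideal.height_strict_mono_of_isPrime h1
  have h3 : (Q.map (Ideal.Quotient.mk P)).height < 1 := lt_of_lt_of_le hlt1 hle
  rw [ENat.lt_one_iff_eq_zero] at h3
  rw [h3] at hlt0
  exact not_lt_zero hlt0

theorem exists_y8586 (I₁ I₂ : Ideal A) (a₁ a₂ : A) (ha₁ : a₁ ∈ IsLocalRing.maximalIdeal A)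
    (ha₂ : a₂ ∈ IsLocalRing.maximalIdeal A)
    (h₁ : IsLocalRing.maximalIdeal A ≤ (I₁ ⊔ Ideal.span {a₁}).radical)
    (h₂ : IsLocalRing.maximalIdeal A ≤ (I₂ ⊔ Ideal.span {a₂}).radical) :
    ∃ y ∈ IsLocalRing.maximalIdeal A, IsLocalRing.maximalIdeal A ≤ (I₁ ⊔ Ideal.span {y}).radical ∧
      IsLocalRing.maximalIdeal A ≤ (I₂ ⊔ Ideal.span {y}).radical := by
  classical
  have hfin : {P : Ideal A | (P ∈ I₁.minimalPrimes ∨ P ∈ I₂.minimalPrimes) ∧
      P ≠ IsLocalRing.maximalIdeal A}.Finite :=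
    ((Ideal.finite_minimalPrimes_of_isNoetherianRing A I₁).union
      (Ideal.finite_minimalPrimes_of_isNoetherianRing A I₂)).subset (fun P hP => hP.1)
  have hex : ∃ y ∈ IsLocalRing.maximalIdeal A, ∀ P : Ideal A,
      (P ∈ I₁.minimalPrimes ∨ P ∈ I₂.minimalPrimes) → P ≠ IsLocalRing.maximalIdeal A → y ∉ P := by
    by_contra hcon
    push_neg at hcon
    have hsub : ((IsLocalRing.maximalIdeal A : Ideal A) : Set A) ⊆
        ⋃ P ∈ (↑hfin.toFinset : Set (Ideal A)), ((id P : Ideal A) : Set A) := by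
      intro y hy
      obtain ⟨P, hP1, hP2, hyP⟩ := hcon y hy
      refine Set.mem_biUnion (x := P) ?_ hyP
      simp only [Finset.mem_coe, Set.Finite.mem_toFinset, Set.mem_setOf_eq]
      exact ⟨hP1, hP2⟩
    rw [Ideal.subset_union_prime (f := id) ⊥ ⊥] at hsub
    · obtain ⟨P, hPS, hmP⟩ := hsub
      simp only [Set.Finite.mem_toFinset, Set.mem_setOf_eq] at hPS
      have hPp : P.IsPrime := by
        rcases hPS.1 with h | h
        · exact h.1.1
        · exact h.1.1
      exact hPS.2 (le_antisymm (IsLocalRing.le_maximalIdeal hPp.ne_top) hmP)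
    · intro P hPS _ _
      simp only [Set.Finite.mem_toFinset, Set.mem_setOf_eq] at hPS
      rcases hPS.1 with h | h
      · exact h.1.1
      · exact h.1.1
  obtain ⟨y, hym, hy⟩ := hex
  exact ⟨y, hym, key8586 I₁ a₁ ha₁ h₁ y (fun P hP hPm => hy P (Or.inl hP) hPm),
    key8586 I₂ a₂ ha₂ h₂ y (fun P hP hPm => hy P (Or.inr hP) hPm)⟩

def Sop8586 (K : Ideal A) {d : ℕ} (w : Fin d → A) : Prop :=
  (∀ i, w i ∈ IsLocalRing.maximalIdeal A) ∧
    IsLocalRing.maximalIdeal A ≤ (K ⊔ Ideal.span (Set.range w)).radical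

def Step8586 (K : Ideal A) {d : ℕ} (w w' : Fin d → A) : Prop :=
  Sop8586 K w ∧ Sop8586 K w' ∧ ∃ i : Fin d, ∀ i' : Fin d, i' ≠ i → w i' = w' i'

theorem chain8586 : ∀ (d : ℕ) (K : Ideal A) (u v : Fin d → A), Sop8586 K u → Sop8586 K v →
    Relation.ReflTransGen (Step8586 K) u v := by
  intro d
  induction d with
  | zero =>
    intro K u v _ _
    have : u = v := funext fun i => i.elim0
    rw [this]
  | succ n ih =>
    intro K u v hu hv
    have hspan' : ∀ (w : Fin n → A) (y : A),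
        K ⊔ Ideal.span (Set.range (Fin.cons y w : Fin (n + 1) → A)) =
          (K ⊔ Ideal.span (Set.range w)) ⊔ Ideal.span {y} := by
      intro w y
      rw [Fin.range_cons, Ideal.span_insert, sup_assoc, sup_comm (Ideal.span (Set.range w))]
    have hu0 : u = Fin.cons (u 0) (Fin.tail u) := (Fin.cons_self_tail u).symm
    have hv0 : v = Fin.cons (v 0) (Fin.tail v) := (Fin.cons_self_tail v).symm
    have hu2 := hu.2
    rw [hu0, hspan'] at hu2
    have hv2 := hv.2
    rw [hv0, hspan'] at hv2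
    obtain ⟨y, hym, hy1, hy2⟩ := exists_y8586 (K ⊔ Ideal.span (Set.range (Fin.tail u)))
      (K ⊔ Ideal.span (Set.range (Fin.tail v))) (u 0) (v 0) (hu.1 0) (hv.1 0) hu2 hv2
    have hsopc : ∀ w : Fin n → A, (∀ i, w i ∈ IsLocalRing.maximalIdeal A) →
        IsLocalRing.maximalIdeal A ≤ ((K ⊔ Ideal.span (Set.range w)) ⊔ Ideal.span {y}).radical →
        Sop8586 K (Fin.cons y w : Fin (n + 1) → A) := by
      intro w hw hr
      refine ⟨fun i => ?_, ?_⟩
      · rcases Fin.eq_zero_or_eq_succ i with rfl | ⟨j, rfl⟩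
        · rw [Fin.cons_zero]; exact hym
        · rw [Fin.cons_succ]; exact hw j
      · rw [hspan']; exact hr
    have hu' : Sop8586 K (Fin.cons y (Fin.tail u) : Fin (n + 1) → A) :=
      hsopc _ (fun i => hu.1 i.succ) hy1
    have hv' : Sop8586 K (Fin.cons y (Fin.tail v) : Fin (n + 1) → A) :=
      hsopc _ (fun i => hv.1 i.succ) hy2
    have s1 : Step8586 K u (Fin.cons y (Fin.tail u)) := by
      refine ⟨hu, hu', 0, fun i' hi' => ?_⟩
      rcases Fin.eq_zero_or_eq_succ i' with rfl | ⟨j, rfl⟩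
      · exact absurd rfl hi'
      · rw [Fin.cons_succ]; rfl
    have s3 : Step8586 K (Fin.cons y (Fin.tail v)) v := by
      refine ⟨hv', hv, 0, fun i' hi' => ?_⟩
      rcases Fin.eq_zero_or_eq_succ i' with rfl | ⟨j, rfl⟩
      · exact absurd rfl hi'
      · rw [Fin.cons_succ]; rfl
    have hswap : ∀ w : Fin n → A, (K ⊔ Ideal.span {y}) ⊔ Ideal.span (Set.range w) =
        (K ⊔ Ideal.span (Set.range w)) ⊔ Ideal.span {y} := by
      intro w
      rw [sup_assoc, sup_comm (Ideal.span {y}), ← sup_assoc]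
    have hmid := ih (K ⊔ Ideal.span {y}) (Fin.tail u) (Fin.tail v)
      ⟨fun i => hu.1 i.succ, by rw [hswap]; exact hy1⟩
      ⟨fun i => hv.1 i.succ, by rw [hswap]; exact hy2⟩
    have hlift : Relation.ReflTransGen (Step8586 K)
        (Fin.cons y (Fin.tail u) : Fin (n + 1) → A) (Fin.cons y (Fin.tail v)) := by
      refine Relation.ReflTransGen.lift (fun w : Fin n → A => (Fin.cons y w : Fin (n + 1) → A))
        ?_ _ _ hmid
      rintro w w' ⟨hw, hw', i, hi⟩
      show Step8586 K (Fin.cons y w : Fin (n + 1) → A) (Fin.cons y w')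
      have conv : ∀ w : Fin n → A, Sop8586 (K ⊔ Ideal.span {y}) w →
          Sop8586 K (Fin.cons y w : Fin (n + 1) → A) :=
        fun w hw => hsopc w hw.1 (by rw [← hswap]; exact hw.2)
      refine ⟨conv w hw, conv w' hw', i.succ, fun i' hi' => ?_⟩
      rcases Fin.eq_zero_or_eq_succ i' with rfl | ⟨j, rfl⟩
      · rw [Fin.cons_zero, Fin.cons_zero]
      · rw [Fin.cons_succ, Fin.cons_succ]
        exact hi j (fun hji => hi' (by rw [hji]))
    exact (Relation.ReflTransGen.single s1).trans (hlift.trans (Relation.ReflTransGen.single s3))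

theorem toChain8586 {d : ℕ} (P : (Fin d → A) → Prop) (S : (Fin d → A) → (Fin d → A) → Prop)
    (u v : Fin d → A) (hv : P v) (hS : ∀ a b, S a b → P a)
    (h : Relation.ReflTransGen S u v) :
    ∃ (m : ℕ) (w : Fin (m + 1) → Fin d → A), w 0 = u ∧ w (Fin.last m) = v ∧ (∀ k, P (w k)) ∧
      ∀ k : Fin m, S (w k.castSucc) (w k.succ) := by
  induction h using Relation.ReflTransGen.head_induction_on with
  | refl => exact ⟨0, fun _ => v, rfl, rfl, fun _ => hv, fun k => k.elim0⟩
  | head hab hbc ih =>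
    rename_i a b
    obtain ⟨m, w, h0, hl, hP, hS'⟩ := ih
    refine ⟨m + 1, @Fin.cons (m + 1) (fun _ => Fin d → A) a w, ?_, ?_, ?_, ?_⟩
    · rfl
    · rw [← Fin.succ_last, Fin.cons_succ]; exact hl
    · intro k
      rcases Fin.eq_zero_or_eq_succ k with rfl | ⟨j, rfl⟩
      · rw [Fin.cons_zero]; exact hS _ _ hab
      · rw [Fin.cons_succ]; exact hP j
    · intro k
      rcases Fin.eq_zero_or_eq_succ k with rfl | ⟨j, rfl⟩
      · rw [Fin.castSucc_zero, Fin.cons_zero, Fin.cons_succ, h0]; exact hab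
      · rw [← Fin.succ_castSucc, Fin.cons_succ, Fin.cons_succ]; exact hS' j

end Aux8586


/-- Suppose A is a Cohen–Macaulay local ring whose Krull dimension is d, and consider two systems of
parameters u = (u_1, ..., u_d) and v = (v_1, ..., v_d) of A (that is, d-tuples of elements of the
maximal ideal m such that the ideal they generate has radical m). Then one can find a finite
sequence w_0 = u, w_1, ..., w_m = v, each term a system of parameters of A, where w_{k+1} arises
from w_k by altering just one coordinate. -/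
theorem result (A : Type u) [CommRing A] [LocCoh.IsCohenMacaulayLocalRing A]
    (d : ℕ) (hd : ringKrullDim A = d) (u v : Fin d → A)
    (hu : ∀ i, u i ∈ IsLocalRing.maximalIdeal A) (hu' : IsLocalRing.maximalIdeal A ≤ (Ideal.span (Set.range u)).radical)
    (hv : ∀ i, v i ∈ IsLocalRing.maximalIdeal A) (hv' : IsLocalRing.maximalIdeal A ≤ (Ideal.span (Set.range v)).radical) :
    ∃ (m : ℕ) (w : Fin (m + 1) → Fin d → A), w 0 = u ∧ w (Fin.last m) = v ∧
      (∀ k : Fin (m + 1), (∀ i, w k i ∈ IsLocalRing.maximalIdeal A) ∧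
        IsLocalRing.maximalIdeal A ≤ (Ideal.span (Set.range (w k))).radical) ∧
      (∀ k : Fin m, ∃ i : Fin d, ∀ i' : Fin d, i' ≠ i → w k.castSucc i' = w k.succ i') := by
  have hu0 : Sop8586 (⊥ : Ideal A) u := ⟨hu, by rw [bot_sup_eq]; exact hu'⟩
  have hv0 : Sop8586 (⊥ : Ideal A) v := ⟨hv, by rw [bot_sup_eq]; exact hv'⟩
  obtain ⟨m, w, h0, hl, hP, hS⟩ := toChain8586 (Sop8586 (⊥ : Ideal A)) (Step8586 (⊥ : Ideal A)) u v hv0
    (fun a b h => h.1) (chain8586 d ⊥ u v hu0 hv0)
  refine ⟨m, w, h0, hl, fun k => ⟨(hP k).1, ?_⟩, fun k => (hS k).2.2⟩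
  have := (hP k).2
  rwa [bot_sup_eq] at this

end Groth.Agent.S8586
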