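import Groth.Statements.S8597
import Mathlib
import Mathlib
import Groth.Agent.H19.TorIso

set_option autoImplicit false
universe u
open CategoryTheory CategoryTheory.Limits
open CAlg

namespace Groth.Agent.S8597

/-- Case of modules placed in degree 0: let A be a commutative Noetherian ring and u : M -> N a
homomorphism of A-modules such that for every prime ideal x of A, with residue field k(x), and every
i ≥ 0, the induced map Tor_i^A(k(x), M) -> Tor_i^A(k(x), N) (left derived functors of k(x) ⊗ -) is
an isomorphism. Then u is an isomorphism. (The published statement is for a morphism of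
bounded-above complexes and the derived tensor products with k(x); this is the case of two modules.) -/
theorem result (A : Type u) [CommRing A] [IsNoetherianRing A]
    {M N : ModuleCat.{u} A} (u : M ⟶ N)
    (h : ∀ (x : Ideal A) [x.IsPrime] (i : ℕ),
      IsIso (((Tor (ModuleCat.{u} A) i).obj (ModuleCat.of A x.ResidueField)).map u)) :
    IsIso u := by
  have hk : ∀ (x : Ideal A) [x.IsPrime], Groth.Agent.H19.TorIso.D u x.ResidueField := by
    intro x _ i
    haveI := h x i
    exact ConcreteCategory.bijective_of_isIso
      (((Tor (ModuleCat.{u} A) i).obj (ModuleCat.of A x.ResidueField)).map u)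
  have hprime : ∀ p : Ideal A, p.IsPrime → Groth.Agent.H19.TorIso.D u (A ⧸ p) := by
    intro p
    induction p using WellFoundedGT.induction with
    | ind p IH =>
      intro hp
      exact Groth.Agent.H19.TorIso.prime_step u hk p (fun q hpq hq => IH q hpq hq)
  have hA : Groth.Agent.H19.TorIso.D u A :=
    Groth.Agent.H19.TorIso.D_of_fg u ⊥ (fun q hq _ => hprime q hq) A bot_le
  exact Groth.Agent.H19.TorIso.isIso_of_tor_zero_unit u (hA 0)

end Groth.Agent.S8597
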