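import Groth.Statements.S8598
import Groth.Agent.H10.ShriekEx
import Mathlib

set_option autoImplicit false
universe u
open CategoryTheory CategoryTheory.Limits AlgebraicGeometry Opposite
open EtDl

namespace Groth.Agent.S8598

/-- Let u : X -> Y be an etale, separated morphism of finite type that is surjective, and F an abelian
sheaf on Y_et. The sheaves F_n = (u_n)_! u_n^* F built from the iterated fibre powers of X over Y
form a left resolution of F; in particular (the part stated here) the augmentation u_! u^* F -> F,
which is the counit of the adjunction between extension by zero u_! and restriction u^*, is an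
epimorphism. (The continuity of V ↦ (V -> X -> Y) between the small etale sites is carried as an
instance hypothesis, the prelude's convention for extension by zero along an etale morphism.) -/
theorem result {X Y : Scheme.{u}} (u : X ⟶ Y) [Etale u] [IsSeparated u]
    [LocallyOfFiniteType u] [QuasiCompact u] [Surjective u] [EtShriek.JCont u] (F : EtCoh.Ab Y) :
    Epi ((EtShriek.extZeroAdj u).counit.app F) := by
  have hu : EtCoh.etaleMP u := ‹Etale u›
  let adj : EtShriek.compEtale u ⊣ EtCoh.bc u :=
    MorphismProperty.Over.mapPullbackAdj EtCoh.etaleMP ⊤ u hu trivial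
  haveI : (EtShriek.restrAlong u).Faithful := by
    constructor
    intro F G α β h
    apply ObjectProperty.hom_ext
    ext V s
    obtain ⟨V'⟩ := V
    let W' : X.Etale := (EtCoh.bc u).obj V'
    let ε : (EtShriek.compEtale u).obj W' ⟶ V' := adj.counit.app V'
    have h' : α.hom.app (op ((EtShriek.compEtale u).obj W')) =
        β.hom.app (op ((EtShriek.compEtale u).obj W')) :=
      congrArg (fun γ => γ.hom.app (op W')) h
    have hcov : Sieve.generate (Presieve.singleton ε) ∈ Y.smallEtaleTopology V' := by
      have eY : Y.smallEtaleTopology =
          (Y.smallPretopology (P := EtCoh.etaleMP) (Q := EtCoh.etaleMP)).toGrothendieck :=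
        Scheme.smallGrothendieckTopology_eq_toGrothendieck_smallPretopology Y le_rfl
      rw [eY]
      refine (Scheme.mem_toGrothendieck_smallPretopology V' _).2 ?_
      intro x
      have hs : Surjective (pullback.fst V'.hom u) := inferInstance
      obtain ⟨w, hw⟩ := hs.surj x
      have he : Etale (pullback.fst V'.hom u) := inferInstance
      exact ⟨_, ε, w, ⟨_, 𝟙 _, ε, Presieve.singleton_self ε, Category.id_comp _⟩, he, hw⟩
    refine Sheaf.isSeparated G V' _ hcov _ _ ?_
    rintro W f ⟨Z, g, _, ⟨⟩, rfl⟩
    have n1 := congrArg (fun φ => φ s)
      (congrArg AddCommGrpCat.Hom.hom (α.hom.naturality ε.op))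
    have n2 := congrArg (fun φ => φ s)
      (congrArg AddCommGrpCat.Hom.hom (β.hom.naturality ε.op))
    simp only [AddCommGrpCat.hom_comp, AddMonoidHom.coe_comp, Function.comp_apply] at n1 n2
    rw [op_comp, Functor.map_comp]
    simp only [AddCommGrpCat.hom_comp, AddMonoidHom.coe_comp, Function.comp_apply]
    congr 1
    rw [← n1, ← n2, h']
  infer_instance

end Groth.Agent.S8598
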