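import Groth.Statements.S8604
import Groth.Agent.H28.PLin2

set_option autoImplicit false
universe u
open CAlg

namespace Groth.Agent.S8604

/-- Over an algebraically closed field: let k be an algebraically closed field of characteristic p > 0,
V a finite-dimensional k-vector space and F : V -> V a p-linear endomorphism (additive with F(a·v) =
a^p·F(v)). Let V^F be the set of vectors fixed by F (an F_p-subspace), V_0 the k-span of V^F and V_n
the k-span of the vectors killed by some iterate of F (these already form an F-stable subspace on
which F is nilpotent). Then V = V_0 ⊕ V_n, and V^F ⊗ k -> V_0 is bijective in the sense that any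
finitely many F-fixed vectors linearly independent over Z/p (every vanishing integer combination has
all coefficients divisible by p) are linearly independent over k. (The published statement asserts
this decomposition, with V^F ⊗ k ≅ V_0, for every PERFECT field k; that is false when k is not
separably closed — for k = Z/3, V = k and F = multiplication by 2 there are no nonzero fixed vectors
although F is bijective — and the decomposition is stated here over an algebraically closed field,
the case in which it holds.) -/
theorem result (p : ℕ) [Fact p.Prime] (k : Type u) [Field k]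
    [IsAlgClosed k] [CharP k p] (V : Type u) [AddCommGroup V] [Module k V] [FiniteDimensional k V]
    (F : V →+ V) (hF : ∀ (a : k) (v : V), F (a • v) = a ^ p • F v) :
    IsCompl (Submodule.span k {v : V | F v = v})
        (Submodule.span k {v : V | ∃ m : ℕ, (⇑F)^[m] v = 0}) ∧
      ∀ (s : Finset V), (∀ v ∈ s, F v = v) →
        (∀ c : s → ℤ, (∑ v : s, c v • (v : V)) = 0 → ∀ v : s, (p : ℤ) ∣ c v) →
          LinearIndependent k (fun v : s => (v : V)) := by
  let Fs : V →ₛₗ[frobenius k p] V :=
    { toFun := F
      map_add' := F.map_add
      map_smul' := fun a v => by rw [hF, frobenius_def] }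
  have hFs : ∀ v, Fs v = F v := fun v => rfl
  have hiter : ∀ (m : ℕ) (v : V), (Fs^[m]) v = (⇑F)^[m] v := fun m v => rfl
  have hW0 : Submodule.span k {v : V | F v = v} = Groth.Agent.H28.PLin.W0 p Fs := rfl
  have hN : Submodule.span k {v : V | ∃ m : ℕ, (⇑F)^[m] v = 0} = Groth.Agent.H28.PLin.N p Fs := by
    apply le_antisymm
    · rw [Submodule.span_le]
      rintro v ⟨m, hm⟩
      exact ⟨m, hm⟩
    · rintro v ⟨m, hm⟩
      exact Submodule.subset_span ⟨m, hm⟩
  refine ⟨?_, ?_⟩
  · rw [hW0, hN]
    exact ⟨Groth.Agent.H28.PLin.disjoint_W0_N p Fs, Groth.Agent.H28.PLin.codisjoint_W0_N p Fs⟩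
  · intro s hs hZ
    exact Groth.Agent.H28.PLin.linIndep_fixed p Fs s hs hZ

end Groth.Agent.S8604
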