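import Groth.Statements.S8607
import Mathlib

set_option autoImplicit false
universe u
open CategoryTheory CategoryTheory.Limits AlgebraicGeometry Opposite
open DEt

namespace Groth.Agent.S8607

lemma isOpenImmersion_of_comp_mono {X E Z : Scheme.{u}} (j : X ⟶ E) (t : E ⟶ Z) [Mono t]
    [IsOpenImmersion (j ≫ t)] : IsOpenImmersion j := by
  let σ : X ⟶ pullback (j ≫ t) t := pullback.lift (𝟙 X) j (by simp)
  have h1 : σ ≫ pullback.fst (j ≫ t) t = 𝟙 X := pullback.lift_fst _ _ _
  have h2 : σ ≫ pullback.snd (j ≫ t) t = j := pullback.lift_snd _ _ _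
  have : IsIso (pullback.fst (j ≫ t) t) := by
    have : IsSplitEpi (pullback.fst (j ≫ t) t) := ⟨⟨σ, h1⟩⟩
    exact isIso_of_mono_of_isSplitEpi _
  have : IsIso σ := by
    have : σ = inv (pullback.fst (j ≫ t) t) := by
      rw [← cancel_mono (pullback.fst (j ≫ t) t), h1, IsIso.inv_hom_id]
    rw [this]; infer_instance
  rw [← h2]
  infer_instance

/-- The equalizing half of 'the category of compactifications of f is cofiltering': let f : X -> Y be a
morphism of quasi-compact quasi-separated schemes, (Xbar_1, j_1, fbar_1) and (Xbar_2, j_2, fbar_2)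
two compactifications of f, and r, s : Xbar_1 -> Xbar_2 two morphisms of compactifications (r ∘ j_1
= j_2 = s ∘ j_1 and fbar_2 ∘ r = fbar_1 = fbar_2 ∘ s). Then there are a compactification (Xbar, j,
fbar) of f and a proper morphism t : Xbar -> Xbar_1 of compactifications (t ∘ j = j_1, fbar_1 ∘ t =
fbar) with r ∘ t = s ∘ t. -/
theorem result {X Y : Scheme.{u}} [CompactSpace ↥X] [QuasiSeparatedSpace ↥X]
    [CompactSpace ↥Y] [QuasiSeparatedSpace ↥Y] {f : X ⟶ Y} (c₁ c₂ : DEt.Compactification f)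
    (r s : c₁.Xbar ⟶ c₂.Xbar) (hr : c₁.j ≫ r = c₂.j) (hs : c₁.j ≫ s = c₂.j)
    (hr' : r ≫ c₂.fbar = c₁.fbar) (hs' : s ≫ c₂.fbar = c₁.fbar) :
    ∃ (c : DEt.Compactification f) (t : c.Xbar ⟶ c₁.Xbar), IsProper t ∧ c.j ≫ t = c₁.j ∧ t ≫ c₁.fbar = c.fbar ∧
      t ≫ r = t ≫ s := by
  let A : Over Y := Over.mk c₁.fbar
  let B : Over Y := Over.mk c₂.fbar
  let r' : A ⟶ B := Over.homMk r hr'
  let s' : A ⟶ B := Over.homMk s hs'
  haveI : IsSeparated B.hom := (inferInstance : IsSeparated c₂.fbar)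
  let E := equalizer r' s'
  let t : E.left ⟶ c₁.Xbar := (equalizer.ι r' s').left
  have ht : IsClosedImmersion t := isClosedImmersion_equalizer_ι_left r' s'
  let X' : Over Y := Over.mk f
  let j₁' : X' ⟶ A := Over.homMk c₁.j c₁.fac
  let j' : X' ⟶ E := equalizer.lift j₁' (by
    ext
    simp only [Over.comp_left]
    change c₁.j ≫ r = c₁.j ≫ s
    rw [hr, hs])
  have hj : j'.left ≫ t = c₁.j := by
    change j'.left ≫ (equalizer.ι r' s').left = c₁.j
    rw [← Over.comp_left, equalizer.lift_ι]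
    rfl
  have hopen : IsOpenImmersion j'.left := by
    haveI : IsOpenImmersion (j'.left ≫ t) := by rw [hj]; infer_instance
    exact isOpenImmersion_of_comp_mono j'.left t
  refine ⟨⟨E.left, j'.left, t ≫ c₁.fbar, hopen, inferInstance, by
    rw [← Category.assoc, hj, c₁.fac]⟩, t, inferInstance, hj, rfl, ?_⟩
  exact congr_arg CommaMorphism.left (equalizer.condition r' s')

end Groth.Agent.S8607
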