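import Groth.Statements.S8611
import Mathlib

set_option autoImplicit false
universe w v u
open CategoryTheory CategoryTheory.Limits
open SGA4h

namespace Groth.Agent.S8611

section helpers

variable {C : Type u} [Category.{v} C] [Abelian C]
  (T T' : DeltaF.CohDeltaFunctor C AddCommGrpCat.{w} ℕ) (φ : T ⟶ T')

lemma shortExact_of_mono {X Y : C} (u : X ⟶ Y) [Mono u] :
    (ShortComplex.mk u (cokernel.π u) (cokernel.condition u)).ShortExact :=
  ShortComplex.ShortExact.mk' (ShortComplex.exact_cokernel u)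
    (by dsimp; infer_instance) (by dsimp; infer_instance)

lemma ex1 (S : ShortComplex C) (hS : S.ShortExact) (q : ℕ) (x : (T.F (q + 1)).obj S.X₁)
    (hx : (T.F (q + 1)).map S.f x = 0) :
    ∃ z : (T.F q).obj S.X₃, T.δ S hS q (q + 1) rfl z = x :=
  (ShortComplex.ab_exact_iff _).1 (T.exact₁ S hS q (q + 1) rfl) x hx

lemma ex2 (S : ShortComplex C) (hS : S.ShortExact) (q : ℕ) (y : (T.F q).obj S.X₂)
    (hy : (T.F q).map S.g y = 0) : ∃ x : (T.F q).obj S.X₁, (T.F q).map S.f x = y :=
  (ShortComplex.ab_exact_iff _).1 (T.exact₂ S hS q) y hy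

lemma ex3 (S : ShortComplex C) (hS : S.ShortExact) (q : ℕ) (z : (T.F q).obj S.X₃)
    (hz : T.δ S hS q (q + 1) rfl z = 0) : ∃ y : (T.F q).obj S.X₂, (T.F q).map S.g y = z :=
  (ShortComplex.ab_exact_iff _).1 (T.exact₃ S hS q (q + 1) rfl) z hz

lemma comp_δ_apply (S : ShortComplex C) (hS : S.ShortExact) (q : ℕ) (y : (T.F q).obj S.X₂) :
    T.δ S hS q (q + 1) rfl ((T.F q).map S.g y) = 0 :=
  ConcreteCategory.congr_hom (T.comp_δ S hS q (q + 1) rfl) y

lemma comm_apply (S : ShortComplex C) (hS : S.ShortExact) (q : ℕ) (z : (T.F q).obj S.X₃) :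
    (φ.app (q + 1)).app S.X₁ (T.δ S hS q (q + 1) rfl z) =
      T'.δ S hS q (q + 1) rfl ((φ.app q).app S.X₃ z) :=
  ConcreteCategory.congr_hom (φ.comm S hS q (q + 1) rfl) z

lemma nat_apply (q : ℕ) {X Y : C} (u : X ⟶ Y) (x : (T.F q).obj X) :
    (φ.app q).app Y ((T.F q).map u x) = (T'.F q).map u ((φ.app q).app X x) :=
  ConcreteCategory.congr_hom ((φ.app q).naturality u) x

lemma map_g_map_f (S : ShortComplex C) (q : ℕ) (x : (T.F q).obj S.X₁) :
    (T.F q).map S.g ((T.F q).map S.f x) = 0 := by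
  have h : (T.F q).map S.f ≫ (T.F q).map S.g = 0 := by
    rw [← CategoryTheory.Functor.map_comp, S.zero, CategoryTheory.Functor.map_zero]
  exact ConcreteCategory.congr_hom h x

lemma hsub {X Y : AddCommGrpCat.{w}} (f : X ⟶ Y) (a b : X) : f (a - b) = f a - f b :=
  map_sub f.hom a b

lemma hzero {X Y : AddCommGrpCat.{w}} (f : X ⟶ Y) : f 0 = 0 := map_zero f.hom

lemma hinj {X Y : AddCommGrpCat.{w}} (f : X ⟶ Y) :
    Function.Injective f ↔ ∀ a, f a = 0 → a = 0 := injective_iff_map_eq_zero f.hom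

/-- injectivity step -/
lemma inj_step (hT : ∀ (q : ℕ) (A : C) (α : (T.F (q + 1)).obj A),
      ∃ (M : C) (u : A ⟶ M), Mono u ∧ (T.F (q + 1)).map u α = 0)
    (q : ℕ) (hb : ∀ A : C, Function.Bijective ((φ.app q).app A)) (A : C) :
    Function.Injective ((φ.app (q + 1)).app A) := by
  rw [hinj]
  intro α hα
  obtain ⟨M, u, hu, huα⟩ := hT q A α
  have hS := shortExact_of_mono u
  obtain ⟨ν, hν⟩ := ex1 T _ hS q α huα
  have h1 : T'.δ _ hS q (q + 1) rfl ((φ.app q).app _ ν) = 0 := by
    rw [← comm_apply T T' φ _ hS q ν, hν]; exact hα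
  obtain ⟨μ', hμ'⟩ := ex3 T' _ hS q _ h1
  obtain ⟨μ, hμ⟩ := (hb _).2 μ'
  have h2 : (φ.app q).app _ ((T.F q).map (cokernel.π u) μ) = (φ.app q).app _ ν := by
    rw [nat_apply T T' φ q (cokernel.π u) μ, hμ]; exact hμ'
  have h3 := (hb _).1 h2
  rw [← hν, ← h3]
  exact comp_δ_apply T _ hS q μ

/-- surjectivity step from effaceability of `T'` -/
lemma surj_step3 (q : ℕ) (hb : ∀ A : C, Function.Bijective ((φ.app q).app A))
    (hT' : ∀ (A : C) (α : (T'.F (q + 1)).obj A),
      ∃ (M : C) (u : A ⟶ M), Mono u ∧ (T'.F (q + 1)).map u α = 0) (A : C) :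
    Function.Surjective ((φ.app (q + 1)).app A) := by
  intro α'
  obtain ⟨M, u, hu, huα⟩ := hT' A α'
  have hS := shortExact_of_mono u
  obtain ⟨ν', hν'⟩ := ex1 T' _ hS q α' huα
  obtain ⟨ν, hν⟩ := (hb _).2 ν'
  refine ⟨T.δ _ hS q (q + 1) rfl ν, ?_⟩
  rw [comm_apply T T' φ _ hS q ν, hν]; exact hν'

/-- surjectivity step from surjectivity on a cogenerating class -/
lemma surj_step2 (E : ObjectProperty C) (hE : ∀ A : C, ∃ (M : C) (i : A ⟶ M), Mono i ∧ E M)
    (q : ℕ) (hb : ∀ A : C, Function.Bijective ((φ.app q).app A))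
    (hi : ∀ A : C, Function.Injective ((φ.app (q + 1)).app A))
    (hs : ∀ M : C, E M → Function.Surjective ((φ.app (q + 1)).app M)) (A : C) :
    Function.Surjective ((φ.app (q + 1)).app A) := by
  intro α'
  obtain ⟨M, i, hi', hM⟩ := hE A
  have hS := shortExact_of_mono i
  obtain ⟨μ, hμ⟩ := hs M hM ((T'.F (q + 1)).map i α')
  have h1 : (φ.app (q + 1)).app _ ((T.F (q + 1)).map (cokernel.π i) μ) =
      (φ.app (q + 1)).app _ 0 := by
    rw [nat_apply T T' φ (q + 1) (cokernel.π i) μ, hμ, hzero]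
    exact map_g_map_f T' (ShortComplex.mk i (cokernel.π i) (cokernel.condition i)) (q + 1) α'
  have h2 := hi _ h1
  obtain ⟨α₀, hα₀⟩ := ex2 T _ hS (q + 1) μ h2
  have h3 : (T'.F (q + 1)).map i ((φ.app (q + 1)).app A α₀ - α') = 0 := by
    rw [hsub, ← nat_apply T T' φ (q + 1) i α₀]
    have : (T.F (q + 1)).map i α₀ = μ := hα₀
    rw [this, hμ, sub_self]
  obtain ⟨ν', hν'⟩ := ex1 T' _ hS q _ h3
  obtain ⟨ν, hν⟩ := (hb _).2 ν'
  refine ⟨α₀ - T.δ _ hS q (q + 1) rfl ν, ?_⟩
  rw [hsub, comm_apply T T' φ _ hS q ν, hν]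
  have : T'.δ _ hS q (q + 1) rfl ν' = (φ.app (q + 1)).app A α₀ - α' := hν'
  rw [this, sub_sub_cancel]

/-- base case -/
lemma base_step (hT0 : T.ZeroMono) (hT'0 : T'.ZeroMono) (E : ObjectProperty C)
    (hE : ∀ A : C, ∃ (M : C) (i : A ⟶ M), Mono i ∧ E M)
    (hb : ∀ M : C, E M → Function.Bijective ((φ.app 0).app M)) (A : C) :
    Function.Bijective ((φ.app 0).app A) := by
  have hinj0 : ∀ A : C, Function.Injective ((φ.app 0).app A) := by
    intro A
    rw [hinj]
    intro a ha
    obtain ⟨M, i, hi', hM⟩ := hE A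
    have hS := shortExact_of_mono i
    have h1 : (φ.app 0).app M ((T.F 0).map i a) = (φ.app 0).app M 0 := by
      rw [nat_apply T T' φ 0 i a, ha, hzero, hzero]
    have h2 := (hb M hM).1 h1
    have hm : Function.Injective ((T.F 0).map i) :=
      (AddCommGrpCat.mono_iff_injective _).1 (hT0 _ hS)
    exact hm (h2.trans (hzero _).symm)
  refine ⟨hinj0 A, ?_⟩
  intro a'
  obtain ⟨M, i, hi', hM⟩ := hE A
  have hS := shortExact_of_mono i
  obtain ⟨m, hm⟩ := (hb M hM).2 ((T'.F 0).map i a')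
  have h1 : (φ.app 0).app _ ((T.F 0).map (cokernel.π i) m) = (φ.app 0).app _ 0 := by
    rw [nat_apply T T' φ 0 (cokernel.π i) m, hm, hzero]
    exact map_g_map_f T' (ShortComplex.mk i (cokernel.π i) (cokernel.condition i)) 0 a'
  have h2 := hinj0 _ h1
  obtain ⟨a, ha⟩ := ex2 T _ hS 0 m h2
  refine ⟨a, ?_⟩
  have hm' : Function.Injective ((T'.F 0).map i) :=
    (AddCommGrpCat.mono_iff_injective _).1 (hT'0 _ hS)
  apply hm'
  rw [← nat_apply T T' φ 0 i a]
  have : (T.F 0).map i a = m := ha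
  rw [this, hm]

end helpers


/-- Let C be an abelian category, T and T' cohomological delta-functors on C in degrees ≥ 0 with values
in abelian groups, both left exact in degree 0, with T effaceable in every degree q > 0 (every
element of T^q(A) is killed by T^q(u) for some monomorphism u : A → M, depending on the element),
and φ : T → T' a morphism of delta-functors. Let E be a class of objects such that every object
admits a monomorphism into a member of E. Then the following are equivalent: (i) φ^q(A) is bijective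
for all q and all A; (ii) φ^0(M) is bijective and φ^q(M) is surjective for q > 0, for all M in E;
(iii) φ^0(A) is bijective for all A and T' is effaceable in every degree > 0 (in the same
element-wise sense). Stated as (i) ⇔ (ii) together with (i) ⇔ (iii). -/
theorem result {C : Type u} [Category.{v} C] [Abelian C]
    (T T' : DeltaF.CohDeltaFunctor C AddCommGrpCat.{w} ℕ) (hT0 : T.ZeroMono) (hT'0 : T'.ZeroMono)
    (hT : ∀ (q : ℕ) (A : C) (α : (T.F (q + 1)).obj A),
      ∃ (M : C) (u : A ⟶ M), Mono u ∧ (T.F (q + 1)).map u α = 0)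
    (φ : T ⟶ T') (E : ObjectProperty C)
    (hE : ∀ A : C, ∃ (M : C) (i : A ⟶ M), Mono i ∧ E M) :
    ((∀ (q : ℕ) (A : C), IsIso ((φ.app q).app A)) ↔
      ((∀ M : C, E M → IsIso ((φ.app 0).app M)) ∧
        ∀ (q : ℕ) (M : C), E M → Epi ((φ.app (q + 1)).app M))) ∧
    ((∀ (q : ℕ) (A : C), IsIso ((φ.app q).app A)) ↔
      ((∀ A : C, IsIso ((φ.app 0).app A)) ∧
        ∀ (q : ℕ) (A : C) (α : (T'.F (q + 1)).obj A),
          ∃ (M : C) (u : A ⟶ M), Mono u ∧ (T'.F (q + 1)).map u α = 0)) := by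
  have isoI : ∀ (q : ℕ) (A : C), IsIso ((φ.app q).app A) ↔
      Function.Bijective ((φ.app q).app A) :=
    fun q A => ConcreteCategory.isIso_iff_bijective _
  have epiI : ∀ (q : ℕ) (A : C), Epi ((φ.app q).app A) ↔
      Function.Surjective ((φ.app q).app A) :=
    fun q A => AddCommGrpCat.epi_iff_surjective _
  constructor
  · constructor
    · intro h
      exact ⟨fun M _ => h 0 M, fun q M _ => by have := h (q + 1) M; infer_instance⟩
    · rintro ⟨h0, hs⟩
      have hB : ∀ (q : ℕ) (A : C), Function.Bijective ((φ.app q).app A) := by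
        intro q
        induction q with
        | zero =>
          exact base_step T T' φ hT0 hT'0 E hE (fun M hM => (isoI 0 M).1 (h0 M hM))
        | succ q ih =>
          intro A
          have hi := inj_step T T' φ hT q ih
          exact ⟨hi A, surj_step2 T T' φ E hE q ih hi
            (fun M hM => (epiI (q + 1) M).1 (hs q M hM)) A⟩
      exact fun q A => (isoI q A).2 (hB q A)
  · constructor
    · intro h
      refine ⟨fun A => h 0 A, fun q A α' => ?_⟩
      obtain ⟨α, hα⟩ := ((isoI (q + 1) A).1 (h (q + 1) A)).2 α'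
      obtain ⟨M, u, hu, huα⟩ := hT q A α
      refine ⟨M, u, hu, ?_⟩
      rw [← hα, ← nat_apply T T' φ (q + 1) u α, huα]
      exact hzero _
    · rintro ⟨h0, hT'⟩
      have hB : ∀ (q : ℕ) (A : C), Function.Bijective ((φ.app q).app A) := by
        intro q
        induction q with
        | zero => exact fun A => (isoI 0 A).1 (h0 A)
        | succ q ih =>
          intro A
          exact ⟨inj_step T T' φ hT q ih A, surj_step3 T T' φ q ih (hT' q) A⟩
      exact fun q A => (isoI q A).2 (hB q A)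

end Groth.Agent.S8611
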