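import Groth.Statements.S8612
import Mathlib
-- import your own Groth.Agent.* helpers here

set_option autoImplicit false
universe w v u
open CategoryTheory CategoryTheory.Limits
open SGA4h

namespace Groth.Agent.S8612

section ColimFacts

theorem colim_facts {J : Type v} [SmallCategory J] [IsFiltered J] (G : J ⥤ AddCommGrpCat.{w})
    (c : Cocone G) (hc : IsColimit c) :
    (∀ x : c.pt, ∃ (j : J) (y : G.obj j), (c.ι.app j).hom y = x) ∧
    (∀ (j : J) (y : G.obj j), (c.ι.app j).hom y = 0 →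
      ∃ (k : J) (g : j ⟶ k), (G.map g).hom y = 0) := by
  have hc' : IsColimit (AddCommGrpCat.uliftFunctor.{v, w}.mapCocone c) :=
    isColimitOfPreserves AddCommGrpCat.uliftFunctor.{v, w} hc
  haveI : PreservesFilteredColimitsOfSize.{v, v} (forget AddCommGrpCat.{max w v}) :=
    preservesFilteredColimitsOfSize_shrink.{v, w, v, w} _
  haveI : PreservesColimitsOfShape J (forget AddCommGrpCat.{max w v}) :=
    PreservesFilteredColimitsOfSize.preserves_filtered_colimits J
  constructor
  · intro x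
    obtain ⟨j, y, hy⟩ := Concrete.isColimit_exists_rep (G ⋙ AddCommGrpCat.uliftFunctor.{v, w}) hc'
      (ULift.up x)
    exact ⟨j, y.down, congrArg ULift.down hy⟩
  · intro j y hy
    obtain ⟨k, f, g, hfg⟩ := Concrete.isColimit_exists_of_rep_eq
      (G ⋙ AddCommGrpCat.uliftFunctor.{v, w}) (i := j) (j := j) hc' (ULift.up y) (ULift.up 0) (by
        show ULift.up ((c.ι.app j).hom y) = ULift.up ((c.ι.app j).hom 0)
        rw [hy, map_zero])
    refine ⟨k, f, ?_⟩
    have h2 : (G.map f).hom y = (G.map g).hom 0 := congrArg ULift.down hfg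
    rw [h2, map_zero]

end ColimFacts

section Main

variable {C : Type u} [Category.{v} C] [Abelian C]
  (T T' : DeltaF.CohDeltaFunctor C AddCommGrpCat.{w} ℕ) (φ : T ⟶ T')

theorem nat_apply (q : ℕ) {A B : C} (g : A ⟶ B) (x : (T.F q).obj A) :
    ((φ.app q).app B).hom (((T.F q).map g).hom x) =
      ((T'.F q).map g).hom (((φ.app q).app A).hom x) :=
  congrArg (fun m => m.hom x) ((φ.app q).naturality g)

theorem δ_nat (S : ShortComplex C) (hS : S.ShortExact) (n₀ n₁ : ℕ) (h : n₀ + 1 = n₁)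
    (z : (T.F n₀).obj S.X₃) :
    ((φ.app n₁).app S.X₁).hom ((T.δ S hS n₀ n₁ h).hom z) =
      (T'.δ S hS n₀ n₁ h).hom (((φ.app n₀).app S.X₃).hom z) :=
  congrArg (fun m => m.hom z) (φ.comm S hS n₀ n₁ h)

omit T' φ in
theorem map_gf_zero (S : ShortComplex C) (n : ℕ) (x : (T.F n).obj S.X₁) :
    ((T.F n).map S.g).hom (((T.F n).map S.f).hom x) = 0 := by
  have h : (T.F n).map S.f ≫ (T.F n).map S.g = 0 := by
    rw [← Functor.map_comp, S.zero, Functor.map_zero]
  exact congrArg (fun m => m.hom x) h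

omit T' φ in
theorem ex2 (S : ShortComplex C) (hS : S.ShortExact) (n : ℕ) (x₂ : (T.F n).obj S.X₂)
    (h : ((T.F n).map S.g).hom x₂ = 0) : ∃ x₁ : (T.F n).obj S.X₁, ((T.F n).map S.f).hom x₁ = x₂ :=
  (ShortComplex.ab_exact_iff _).1 (T.exact₂ S hS n) x₂ h

omit T' φ in
theorem ex3 (S : ShortComplex C) (hS : S.ShortExact) (n₀ n₁ : ℕ) (h : n₀ + 1 = n₁)
    (x : (T.F n₀).obj S.X₃) (hx : (T.δ S hS n₀ n₁ h).hom x = 0) :
    ∃ y : (T.F n₀).obj S.X₂, ((T.F n₀).map S.g).hom y = x :=
  (ShortComplex.ab_exact_iff _).1 (T.exact₃ S hS n₀ n₁ h) x hx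

omit T' φ in
theorem ex1 (S : ShortComplex C) (hS : S.ShortExact) (n₀ n₁ : ℕ) (h : n₀ + 1 = n₁)
    (x : (T.F n₁).obj S.X₁) (hx : ((T.F n₁).map S.f).hom x = 0) :
    ∃ z : (T.F n₀).obj S.X₃, (T.δ S hS n₀ n₁ h).hom z = x :=
  (ShortComplex.ab_exact_iff _).1 (T.exact₁ S hS n₀ n₁ h) x hx

omit T' φ in
theorem comp_δ_apply (S : ShortComplex C) (hS : S.ShortExact) (n₀ n₁ : ℕ) (h : n₀ + 1 = n₁)
    (m : (T.F n₀).obj S.X₂) : (T.δ S hS n₀ n₁ h).hom (((T.F n₀).map S.g).hom m) = 0 :=
  congrArg (fun f => f.hom m) (T.comp_δ S hS n₀ n₁ h)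

/-- the short exact sequence of a monomorphism -/
noncomputable def ses {A M : C} (i : A ⟶ M) : ShortComplex C :=
  ShortComplex.mk i (cokernel.π i) (cokernel.condition i)

theorem ses_exact {A M : C} (i : A ⟶ M) [Mono i] : (ses i).ShortExact :=
  { exact := ShortComplex.exact_cokernel i
    mono_f := ‹Mono i›
    epi_g := by dsimp [ses]; infer_instance }

theorem inj_zero' (hT0 : T.ZeroMono) (S : ShortComplex C) (hS : S.ShortExact)
    (hM : Function.Injective ((φ.app 0).app S.X₂).hom) :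
    Function.Injective ((φ.app 0).app S.X₁).hom := by
  have hinj : Function.Injective ((T.F 0).map S.f).hom :=
    (AddCommGrpCat.mono_iff_injective _).1 (hT0 S hS)
  intro x x' hxx'
  apply hinj
  apply hM
  rw [nat_apply, nat_apply, hxx']

theorem sur_zero' (hT'0 : T'.ZeroMono) (S : ShortComplex C) (hS : S.ShortExact)
    (hMs : Function.Surjective ((φ.app 0).app S.X₂).hom)
    (hQ : Function.Injective ((φ.app 0).app S.X₃).hom) :
    Function.Surjective ((φ.app 0).app S.X₁).hom := by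
  have hinj' : Function.Injective ((T'.F 0).map S.f).hom :=
    (AddCommGrpCat.mono_iff_injective _).1 (hT'0 S hS)
  intro y
  obtain ⟨m, hm⟩ := hMs (((T'.F 0).map S.f).hom y)
  have h1 : ((T.F 0).map S.g).hom m = 0 := by
    apply hQ
    rw [nat_apply, hm, map_zero]
    exact map_gf_zero T' S 0 y
  obtain ⟨x, hx⟩ := ex2 T S hS 0 m h1
  refine ⟨x, hinj' ?_⟩
  rw [← nat_apply, hx, hm]

theorem inj_succ' (q : ℕ) (ih : ∀ X, Function.Bijective ((φ.app q).app X).hom)
    (S : ShortComplex C) (hS : S.ShortExact)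
    (hM : Function.Injective ((φ.app (q+1)).app S.X₂).hom) :
    Function.Injective ((φ.app (q+1)).app S.X₁).hom := by
  rw [injective_iff_map_eq_zero]
  intro x hx
  have h1 : ((T.F (q+1)).map S.f).hom x = 0 := by
    apply hM
    rw [nat_apply, hx, map_zero, map_zero]
  obtain ⟨z, hz⟩ := ex1 T S hS q (q+1) rfl x h1
  have h2 : (T'.δ S hS q (q+1) rfl).hom (((φ.app q).app S.X₃).hom z) = 0 := by
    rw [← δ_nat, hz, hx]
  obtain ⟨m', hm'⟩ := ex3 T' S hS q (q+1) rfl _ h2
  obtain ⟨m, rfl⟩ := (ih S.X₂).2 m'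
  have h3 : z = ((T.F q).map S.g).hom m := by
    apply (ih S.X₃).1
    rw [nat_apply]
    exact hm'.symm
  rw [← hz, h3]
  exact comp_δ_apply T S hS q (q+1) rfl m

theorem sur_succ' (q : ℕ) (ih : ∀ X, Function.Bijective ((φ.app q).app X).hom)
    (S : ShortComplex C) (hS : S.ShortExact)
    (hMs : Function.Surjective ((φ.app (q+1)).app S.X₂).hom)
    (hQ : Function.Injective ((φ.app (q+1)).app S.X₃).hom) :
    Function.Surjective ((φ.app (q+1)).app S.X₁).hom := by
  intro y
  obtain ⟨m, hm⟩ := hMs (((T'.F (q+1)).map S.f).hom y)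
  have h1 : ((T.F (q+1)).map S.g).hom m = 0 := by
    apply hQ
    rw [nat_apply, hm, map_zero]
    exact map_gf_zero T' S (q+1) y
  obtain ⟨x, hx⟩ := ex2 T S hS (q+1) m h1
  have h2 : ((T'.F (q+1)).map S.f).hom (((φ.app (q+1)).app S.X₁).hom x - y) = 0 := by
    rw [map_sub, ← nat_apply, hx, hm, sub_self]
  obtain ⟨z', hz'⟩ := ex1 T' S hS q (q+1) rfl _ h2
  obtain ⟨z, rfl⟩ := (ih S.X₃).2 z'
  refine ⟨x - (T.δ S hS q (q+1) rfl).hom z, ?_⟩
  rw [map_sub, δ_nat, hz', sub_sub_cancel]

theorem inj_of_iso (q : ℕ) {A B : C} (e : A ≅ B)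
    (h : Function.Injective ((φ.app q).app A).hom) :
    Function.Injective ((φ.app q).app B).hom := by
  rw [injective_iff_map_eq_zero] at h ⊢
  intro x hx
  have h1 : ((φ.app q).app A).hom (((T.F q).map e.inv).hom x) = 0 := by
    rw [nat_apply, hx, map_zero]
  have h2 := h _ h1
  have h3 : ((T.F q).map e.hom).hom (((T.F q).map e.inv).hom x) = x :=
    congrArg (fun m => m.hom x) ((T.F q).mapIso e).inv_hom_id
  rw [← h3, h2, map_zero]

theorem sur_of_iso (q : ℕ) {A B : C} (e : A ≅ B)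
    (h : Function.Surjective ((φ.app q).app A).hom) :
    Function.Surjective ((φ.app q).app B).hom := by
  intro y
  obtain ⟨x', hx'⟩ := h (((T'.F q).map e.inv).hom y)
  refine ⟨((T.F q).map e.hom).hom x', ?_⟩
  have h3 : ((T'.F q).map e.hom).hom (((T'.F q).map e.inv).hom y) = y :=
    congrArg (fun m => m.hom y) ((T'.F q).mapIso e).inv_hom_id
  rw [nat_apply, hx', h3]

theorem inj_of_colim [∀ n, PreservesFilteredColimitsOfSize.{v, v} (T.F n)]
    [∀ n, PreservesFilteredColimitsOfSize.{v, v} (T'.F n)] (q : ℕ)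
    {J : Type v} [SmallCategory J] [IsFiltered J] (K : J ⥤ C) (c : Cocone K) (hc : IsColimit c)
    (h : ∀ j, Function.Injective ((φ.app q).app (K.obj j)).hom) :
    Function.Injective ((φ.app q).app c.pt).hom := by
  haveI : PreservesColimitsOfShape J (T.F q) :=
    PreservesFilteredColimitsOfSize.preserves_filtered_colimits J
  haveI : PreservesColimitsOfShape J (T'.F q) :=
    PreservesFilteredColimitsOfSize.preserves_filtered_colimits J
  let ci : ∀ j, K.obj j ⟶ c.pt := fun j => c.ι.app j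
  have h1 : ∀ x : (T.F q).obj c.pt, ∃ (j : J) (y : (T.F q).obj (K.obj j)),
      ((T.F q).map (ci j)).hom y = x :=
    (colim_facts (K ⋙ T.F q) ((T.F q).mapCocone c) (isColimitOfPreserves (T.F q) hc)).1
  have h2 : ∀ (j : J) (y : (T'.F q).obj (K.obj j)), ((T'.F q).map (ci j)).hom y = 0 →
      ∃ (k : J) (g : j ⟶ k), ((T'.F q).map (K.map g)).hom y = 0 :=
    (colim_facts (K ⋙ T'.F q) ((T'.F q).mapCocone c) (isColimitOfPreserves (T'.F q) hc)).2
  rw [injective_iff_map_eq_zero]
  intro x hx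
  obtain ⟨j, y, rfl⟩ := h1 x
  have e1 : ((T'.F q).map (ci j)).hom (((φ.app q).app (K.obj j)).hom y) = 0 := by
    rw [← nat_apply]
    exact hx
  obtain ⟨k, g, hg⟩ := h2 j _ e1
  have e2 : ((φ.app q).app (K.obj k)).hom (((T.F q).map (K.map g)).hom y) = 0 := by
    rw [nat_apply]
    exact hg
  have e3 : ((T.F q).map (K.map g)).hom y = 0 := (injective_iff_map_eq_zero _).1 (h k) _ e2
  have e4 : K.map g ≫ ci k = ci j := c.w g
  have e5 : ((T.F q).map (ci j)).hom y =
      ((T.F q).map (ci k)).hom (((T.F q).map (K.map g)).hom y) := by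
    rw [← e4, Functor.map_comp]
    rfl
  rw [e5, e3, map_zero]

theorem sur_of_colim [∀ n, PreservesFilteredColimitsOfSize.{v, v} (T.F n)]
    [∀ n, PreservesFilteredColimitsOfSize.{v, v} (T'.F n)] (q : ℕ)
    {J : Type v} [SmallCategory J] [IsFiltered J] (K : J ⥤ C) (c : Cocone K) (hc : IsColimit c)
    (h : ∀ j, Function.Surjective ((φ.app q).app (K.obj j)).hom) :
    Function.Surjective ((φ.app q).app c.pt).hom := by
  haveI : PreservesColimitsOfShape J (T'.F q) :=
    PreservesFilteredColimitsOfSize.preserves_filtered_colimits J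
  let ci : ∀ j, K.obj j ⟶ c.pt := fun j => c.ι.app j
  have h1 : ∀ x : (T'.F q).obj c.pt, ∃ (j : J) (y : (T'.F q).obj (K.obj j)),
      ((T'.F q).map (ci j)).hom y = x :=
    (colim_facts (K ⋙ T'.F q) ((T'.F q).mapCocone c) (isColimitOfPreserves (T'.F q) hc)).1
  intro x'
  obtain ⟨j, y', rfl⟩ := h1 x'
  obtain ⟨y, rfl⟩ := h j y'
  exact ⟨((T.F q).map (ci j)).hom y, nat_apply T T' φ q (ci j) y⟩

theorem main_bij [∀ n, PreservesFilteredColimitsOfSize.{v, v} (T.F n)]
    [∀ n, PreservesFilteredColimitsOfSize.{v, v} (T'.F n)]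
    (hT0 : T.ZeroMono) (hT'0 : T'.ZeroMono) (D E : ObjectProperty C)
    (hD : ∀ A : C, ∃ (J : Type v) (_ : SmallCategory J) (_ : IsFiltered J) (K : J ⥤ C)
      (c : Cocone K) (_ : IsColimit c), (∀ j, D (K.obj j)) ∧ Nonempty (c.pt ≅ A))
    (hE : ∀ A : C, D A → ∃ (M : C) (i : A ⟶ M), Mono i ∧ E M)
    (hE' : ∀ (q : ℕ) (M : C), E M → IsIso ((φ.app q).app M)) :
    ∀ (q : ℕ) (A : C), Function.Bijective ((φ.app q).app A).hom := by
  have bijE : ∀ q M, E M → Function.Bijective ((φ.app q).app M).hom := fun q M hM => by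
    haveI := hE' q M hM
    exact (ConcreteCategory.isIso_iff_bijective ((φ.app q).app M)).1 inferInstance
  have passI : ∀ q, (∀ A, D A → Function.Injective ((φ.app q).app A).hom) →
      ∀ A, Function.Injective ((φ.app q).app A).hom := by
    intro q h A
    obtain ⟨J, hJ1, hJ2, K, c, hc, hKD, ⟨e⟩⟩ := hD A
    exact inj_of_iso T T' φ q e (inj_of_colim T T' φ q K c hc (fun j => h _ (hKD j)))
  have passS : ∀ q, (∀ A, D A → Function.Surjective ((φ.app q).app A).hom) →
      ∀ A, Function.Surjective ((φ.app q).app A).hom := by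
    intro q h A
    obtain ⟨J, hJ1, hJ2, K, c, hc, hKD, ⟨e⟩⟩ := hD A
    exact sur_of_iso T T' φ q e (sur_of_colim T T' φ q K c hc (fun j => h _ (hKD j)))
  intro q
  induction q with
  | zero =>
    have hb : ∀ A, Function.Injective ((φ.app 0).app A).hom := passI 0 (fun A hA => by
      obtain ⟨M, i, hi, hM⟩ := hE A hA
      haveI := hi
      exact inj_zero' T T' φ hT0 (ses i) (ses_exact i) (bijE 0 M hM).1)
    have hd : ∀ A, Function.Surjective ((φ.app 0).app A).hom := passS 0 (fun A hA => by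
      obtain ⟨M, i, hi, hM⟩ := hE A hA
      haveI := hi
      exact sur_zero' T T' φ hT'0 (ses i) (ses_exact i) (bijE 0 M hM).2 (hb _))
    exact fun A => ⟨hb A, hd A⟩
  | succ q ih =>
    have hb : ∀ A, Function.Injective ((φ.app (q+1)).app A).hom := passI (q+1) (fun A hA => by
      obtain ⟨M, i, hi, hM⟩ := hE A hA
      haveI := hi
      exact inj_succ' T T' φ q ih (ses i) (ses_exact i) (bijE (q+1) M hM).1)
    have hd : ∀ A, Function.Surjective ((φ.app (q+1)).app A).hom := passS (q+1) (fun A hA => by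
      obtain ⟨M, i, hi, hM⟩ := hE A hA
      haveI := hi
      exact sur_succ' T T' φ q ih (ses i) (ses_exact i) (bijE (q+1) M hM).2 (hb _))
    exact fun A => ⟨hb A, hd A⟩

end Main

/-- Let C be an abelian category with filtered colimits, T and T' cohomological delta-functors on C in
degrees ≥ 0 with values in abelian groups, both left exact in degree 0 and commuting with filtered
colimits in every degree, and φ : T → T' a morphism of delta-functors. Let D and E be classes of
objects such that (a) every object of C is a filtered colimit of objects of D and (b) every object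
of D admits a monomorphism into a member of E. Then φ^q(A) is bijective for all q and all A if and
only if φ^q(M) is bijective for all q and all M in E. -/
theorem result {C : Type u} [Category.{v} C] [Abelian C]
    [HasFilteredColimitsOfSize.{v, v} C]
    (T T' : DeltaF.CohDeltaFunctor C AddCommGrpCat.{w} ℕ) (hT0 : T.ZeroMono) (hT'0 : T'.ZeroMono)
    [∀ n, PreservesFilteredColimitsOfSize.{v, v} (T.F n)] [∀ n, PreservesFilteredColimitsOfSize.{v, v} (T'.F n)]
    (φ : T ⟶ T') (D E : ObjectProperty C)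
    (hD : ∀ A : C, ∃ (J : Type v) (_ : SmallCategory J) (_ : IsFiltered J) (K : J ⥤ C) (c : Cocone K)
      (_ : IsColimit c), (∀ j, D (K.obj j)) ∧ Nonempty (c.pt ≅ A))
    (hE : ∀ A : C, D A → ∃ (M : C) (i : A ⟶ M), Mono i ∧ E M) :
    (∀ (q : ℕ) (A : C), IsIso ((φ.app q).app A)) ↔
      ∀ (q : ℕ) (M : C), E M → IsIso ((φ.app q).app M) := by
  constructor
  · intro h q M _
    exact h q M
  · intro h q A
    have hb := main_bij T T' φ hT0 hT'0 D E hD hE h q A
    exact (ConcreteCategory.isIso_iff_bijective ((φ.app q).app A)).2 hb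

end Groth.Agent.S8612
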