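import Groth.Statements.S8625
import Mathlib

set_option autoImplicit false
universe u
open SGA4h

namespace Groth.Agent.S8625

section
variable {G : Type u} [Group G] (F : G →* G)

/-- (i) -/
lemma fixed_of_fixed (g : G) (h : F (F g * g⁻¹) = F g * g⁻¹) : F (g⁻¹ * F g) = g⁻¹ * F g := by
  have h2 : F (F g) = (F g * g⁻¹) * F g := by
    conv_lhs => rw [show F g = (F g * g⁻¹) * g by group]
    rw [map_mul, h]
  rw [map_mul, map_inv, h2]
  group

/-- the key conjugation lemma -/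
lemma conj_key (g g' c : G) (hc : F c = c)
    (hconj : c * (F g * g⁻¹) * c⁻¹ = F g' * g'⁻¹) :
    F (g'⁻¹ * c * g) = g'⁻¹ * c * g ∧
      (g'⁻¹ * c * g) * (g⁻¹ * F g) * (g'⁻¹ * c * g)⁻¹ = g'⁻¹ * F g' := by
  have hFg' : F g' = c * (F g * g⁻¹) * c⁻¹ * g' := by rw [hconj]; group
  constructor
  · rw [map_mul, map_mul, map_inv, hc, hFg']
    group
  · rw [hFg']
    group

end

theorem result {G : Type u} [Group G] (F : G →* G)
    (hL : Function.Surjective fun g : G => F g * g⁻¹) :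
    (∀ g : G, F (F g * g⁻¹) = F g * g⁻¹ → F (g⁻¹ * F g) = g⁻¹ * F g) ∧
    ∃ φ : ConjClasses ↥(F.eqLocus (MonoidHom.id G)) → ConjClasses ↥(F.eqLocus (MonoidHom.id G)),
      Function.Bijective φ ∧
      ∀ (g : G) (h : F (F g * g⁻¹) = F g * g⁻¹) (h' : F (g⁻¹ * F g) = g⁻¹ * F g),
        φ (ConjClasses.mk (⟨F g * g⁻¹, h⟩ : ↥(F.eqLocus (MonoidHom.id G)))) =
          ConjClasses.mk (⟨g⁻¹ * F g, h'⟩ : ↥(F.eqLocus (MonoidHom.id G))) := by
  refine ⟨fixed_of_fixed F, ?_⟩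
  -- notation
  set H := F.eqLocus (MonoidHom.id G) with hH
  have memH : ∀ x : G, x ∈ H ↔ F x = x := fun x => Iff.rfl
  -- choice of a Lang preimage
  choose γ hγ using hL
  have hγ' : ∀ a : G, F (γ a) * (γ a)⁻¹ = a := hγ
  -- the function on representatives
  have hfix : ∀ a : H, F ((γ a)⁻¹ * F (γ a)) = (γ a)⁻¹ * F (γ a) := by
    intro a
    apply fixed_of_fixed
    rw [hγ' a]
    exact a.2
  let f : H → H := fun a => ⟨(γ a)⁻¹ * F (γ a), hfix a⟩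
  -- general comparison: if F g g⁻¹ and F g' g'⁻¹ are conjugate under H, so are g⁻¹ F g and g'⁻¹ F g'
  have compare : ∀ (g g' : G) (hg : F (F g * g⁻¹) = F g * g⁻¹) (hg' : F (F g' * g'⁻¹) = F g' * g'⁻¹),
      IsConj (⟨F g * g⁻¹, hg⟩ : H) ⟨F g' * g'⁻¹, hg'⟩ →
      IsConj (⟨g⁻¹ * F g, fixed_of_fixed F g hg⟩ : H) ⟨g'⁻¹ * F g', fixed_of_fixed F g' hg'⟩ := by
    intro g g' hg hg' hc
    rw [isConj_iff] at hc ⊢
    obtain ⟨c, hc⟩ := hc
    have hc' : (c : G) * (F g * g⁻¹) * (c : G)⁻¹ = F g' * g'⁻¹ := by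
      have := congrArg Subtype.val hc
      simpa using this
    obtain ⟨h1, h2⟩ := conj_key F g g' c c.2 hc'
    refine ⟨⟨g'⁻¹ * c * g, h1⟩, ?_⟩
    apply Subtype.ext
    simpa using h2
  -- converse comparison
  have compare' : ∀ (g g' : G) (hg : F (F g * g⁻¹) = F g * g⁻¹) (hg' : F (F g' * g'⁻¹) = F g' * g'⁻¹),
      IsConj (⟨g⁻¹ * F g, fixed_of_fixed F g hg⟩ : H) ⟨g'⁻¹ * F g', fixed_of_fixed F g' hg'⟩ →
      IsConj (⟨F g * g⁻¹, hg⟩ : H) ⟨F g' * g'⁻¹, hg'⟩ := by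
    intro g g' hg hg' hc
    rw [isConj_iff] at hc ⊢
    obtain ⟨d, hd⟩ := hc
    have hd' : (d : G) * (g⁻¹ * F g) * (d : G)⁻¹ = g'⁻¹ * F g' := by
      have := congrArg Subtype.val hd
      simpa using this
    have hdF : F (d : G) = d := d.2
    -- c = g' d g⁻¹
    have hconj : (g' * d * g⁻¹) * (F g * g⁻¹) * (g' * d * g⁻¹)⁻¹ = F g' * g'⁻¹ := by
      have : F g' = g' * ((d : G) * (g⁻¹ * F g) * (d : G)⁻¹) := by rw [hd']; group
      rw [this]
      group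
    have hcF : F (g' * d * g⁻¹) = g' * d * g⁻¹ := by
      have e1 : F g' = (F g' * g'⁻¹) * g' := by group
      have e2 : (F g)⁻¹ = g⁻¹ * (F g * g⁻¹)⁻¹ := by group
      rw [map_mul, map_mul, map_inv, hdF, e1, e2, ← hconj]
      group
    refine ⟨⟨g' * d * g⁻¹, hcF⟩, ?_⟩
    apply Subtype.ext
    simpa using hconj
  have hγmem : ∀ a : H, F (F (γ a) * (γ a)⁻¹) = F (γ a) * (γ a)⁻¹ := by
    intro a; rw [hγ' a]; exact a.2
  have haeq : ∀ a : H, (⟨F (γ a) * (γ a)⁻¹, hγmem a⟩ : H) = a := fun a => Subtype.ext (hγ' a)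
  have fwell : ∀ a b : H, IsConj a b → ConjClasses.mk (f a) = ConjClasses.mk (f b) := by
    intro a b hab
    rw [ConjClasses.mk_eq_mk_iff_isConj]
    have := compare (γ a) (γ b) (hγmem a) (hγmem b) (by rw [haeq a, haeq b]; exact hab)
    exact this
  let φ : ConjClasses H → ConjClasses H := Quotient.lift (fun a => ConjClasses.mk (f a)) fwell
  have hφ : ∀ (g : G) (h : F (F g * g⁻¹) = F g * g⁻¹) (h' : F (g⁻¹ * F g) = g⁻¹ * F g),
      φ (ConjClasses.mk (⟨F g * g⁻¹, h⟩ : H)) = ConjClasses.mk (⟨g⁻¹ * F g, h'⟩ : H) := by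
    intro g h h'
    change ConjClasses.mk (f ⟨F g * g⁻¹, h⟩) = _
    rw [ConjClasses.mk_eq_mk_iff_isConj]
    have := compare (γ (F g * g⁻¹)) g (hγmem ⟨F g * g⁻¹, h⟩) h
      (by rw [haeq ⟨F g * g⁻¹, h⟩])
    exact this
  refine ⟨φ, ⟨?_, ?_⟩, hφ⟩
  · -- injective
    intro x y hxy
    obtain ⟨a, rfl⟩ := ConjClasses.mk_surjective x
    obtain ⟨b, rfl⟩ := ConjClasses.mk_surjective y
    change ConjClasses.mk (f a) = ConjClasses.mk (f b) at hxy
    rw [ConjClasses.mk_eq_mk_iff_isConj] at hxy ⊢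
    have := compare' (γ a) (γ b) (hγmem a) (hγmem b) hxy
    rwa [haeq a, haeq b] at this
  · -- surjective
    intro y
    obtain ⟨b, rfl⟩ := ConjClasses.mk_surjective y
    -- find g with g⁻¹ F g = b
    set k := γ ((b : G)⁻¹) with hk
    have hk' : F k * k⁻¹ = (b : G)⁻¹ := hγ' _
    have hb : (k⁻¹)⁻¹ * F (k⁻¹) = b := by
      rw [map_inv, inv_inv, ← inv_inj, mul_inv_rev, inv_inv, hk', ]
    have hbF : F (b : G) = b := b.2
    have hmem : F (F k⁻¹ * (k⁻¹)⁻¹) = F k⁻¹ * (k⁻¹)⁻¹ := by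
      have e : F k⁻¹ * (k⁻¹)⁻¹ = k⁻¹ * b * k := by
        rw [← hb]; group
      have e2 : F k = (b : G)⁻¹ * k := by rw [← hk']; group
      rw [e, map_mul, map_mul, map_inv, hbF, e2]
      group
    refine ⟨ConjClasses.mk ⟨F k⁻¹ * (k⁻¹)⁻¹, hmem⟩, ?_⟩
    rw [hφ k⁻¹ hmem (fixed_of_fixed F _ hmem)]
    congr 1
    exact Subtype.ext hb

end Groth.Agent.S8625
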