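import Groth.Statements.S8637
import Mathlib

set_option autoImplicit false
open Zeta

namespace Groth.Agent.S8637

theorem result {ι : Type} (s : Finset ι) (f : ι → PowerSeries ℝ)
    (h0 : ∀ i ∈ s, PowerSeries.constantCoeff (f i) = 1)
    (hpos : ∀ i ∈ s, ∀ n : ℕ, 0 ≤ PowerSeries.coeff n (f i)) (i : ι) (hi : i ∈ s) (n : ℕ) :
    PowerSeries.coeff n (f i) ≤ PowerSeries.coeff n (∏ j ∈ s, f j) := by
  classical
  set g : PowerSeries ℝ := ∏ j ∈ s.erase i, f j with hg
  have hprod : ∏ j ∈ s, f j = f i * g := by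
    rw [hg, Finset.mul_prod_erase s f hi]
  have hgpos : ∀ m : ℕ, 0 ≤ PowerSeries.coeff m g := by
    rw [hg]
    refine Finset.prod_induction f (fun p => ∀ m : ℕ, 0 ≤ PowerSeries.coeff m p) ?_ ?_ ?_
    · intro a b ha hb m
      rw [PowerSeries.coeff_mul]
      exact Finset.sum_nonneg fun x _ => mul_nonneg (ha _) (hb _)
    · intro m
      rw [PowerSeries.coeff_one]
      split_ifs <;> norm_num
    · intro j hj
      exact hpos j (Finset.mem_of_mem_erase hj)
  have hg0 : PowerSeries.coeff 0 g = 1 := by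
    rw [PowerSeries.coeff_zero_eq_constantCoeff_apply, hg, map_prod]
    exact Finset.prod_eq_one fun j hj => h0 j (Finset.mem_of_mem_erase hj)
  rw [hprod, PowerSeries.coeff_mul]
  have hmem : (n, 0) ∈ Finset.HasAntidiagonal.antidiagonal n := by simp
  calc PowerSeries.coeff n (f i) = PowerSeries.coeff (n, 0).1 (f i) * PowerSeries.coeff (n, 0).2 g := by
        simp [hg0]
    _ ≤ ∑ p ∈ Finset.HasAntidiagonal.antidiagonal n, PowerSeries.coeff p.1 (f i) * PowerSeries.coeff p.2 g :=
        Finset.single_le_sum (f := fun p : ℕ × ℕ => PowerSeries.coeff p.1 (f i) * PowerSeries.coeff p.2 g)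
          (fun p _ => mul_nonneg (hpos i hi _) (hgpos _)) hmem

end Groth.Agent.S8637
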