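import Groth.Statements.S8649
import Groth.Agent.H28.LambdaAux

set_option autoImplicit false
universe u
open Finset
open LambdaRing

namespace Groth.Agent.S8649

open Groth.Agent.H28.LambdaAux

theorem result (K : Type u) [CommRing K] [LambdaRing.LambdaOps K]
    (h1 : ∀ k : ℕ, 2 ≤ k → LambdaRing.LambdaOps.lam k (1 : K) = 0) (n : ℕ) (x : K) :
    LambdaRing.gamma n x = LambdaRing.LambdaOps.lam n (x + (n : K) - 1) := by
  cases n with
  | zero => simp [LambdaRing.gamma, LambdaOps.lam_zero]
  | succ m =>
    have hx : x + ((m + 1 : ℕ) : K) - 1 = x + (m : K) := by push_cast; ring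
    rw [hx, lam_add_natCast h1 m (m + 1) x, LambdaRing.gamma, if_neg (Nat.succ_ne_zero m)]
    refine Finset.sum_congr rfl fun j hj => ?_
    have hj' : j < m + 1 + 1 := Finset.mem_range.mp hj
    by_cases hj0 : j = 0
    · subst hj0
      have : Nat.choose m (m + 1 - 0) = 0 := Nat.choose_eq_zero_of_lt (by omega)
      simp [this]
    · rw [if_neg hj0]
      congr 2
      have e : m + 1 - 1 = m := by omega
      rw [e]
      apply Nat.choose_symm_of_eq_add
      omega

end Groth.Agent.S8649
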