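import Groth.Statements.S8650
import Groth.Agent.H28.LambdaAux

set_option autoImplicit false
universe u
open Finset
open LambdaRing

namespace Groth.Agent.S8650

open Groth.Agent.H28.LambdaAux

theorem result (K : Type u) [CommRing K] [LambdaRing.LambdaOps K]
    (h1 : ∀ k : ℕ, 2 ≤ k → LambdaRing.LambdaOps.lam k (1 : K) = 0) (n : ℕ) (x : K) :
    LambdaRing.LambdaOps.lam n (x + (n : K) - 1) =
      (-1 : K) ^ n * ∑ i ∈ range (n + 1), (-1 : K) ^ i * LambdaRing.LambdaOps.lam i (x + (n : K)) := by
  set y : K := x + (n : K) - 1 with hy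
  have hxy : x + (n : K) = y + 1 := by rw [hy]; ring
  rw [hxy]
  -- telescoping
  have tel : ∀ m : ℕ, ∑ i ∈ range (m + 1), (-1 : K) ^ i * LambdaOps.lam i (y + 1) =
      (-1 : K) ^ m * LambdaOps.lam m y := by
    intro m
    induction m with
    | zero => simp [LambdaOps.lam_zero]
    | succ m ih =>
      rw [Finset.sum_range_succ, ih, lam_succ_add_one h1]
      ring
  rw [tel n, ← mul_assoc, ← mul_pow]
  simp

end Groth.Agent.S8650
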