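import Groth.Statements.S8651
import Mathlib

set_option autoImplicit false
universe u
open Finset
open LambdaRing

namespace Groth.Agent.S8651


section aux
variable {A : Type u} [CommRing A] [LambdaRing.LambdaOps A]

lemma lamSeries_add (x y : A) :
    LambdaRing.lamSeries (x + y) = LambdaRing.lamSeries x * LambdaRing.lamSeries y := by
  ext n
  rw [PowerSeries.coeff_mul, LambdaRing.lamSeries, PowerSeries.coeff_mk, LambdaRing.LambdaOps.lam_add,
    Finset.Nat.sum_antidiagonal_eq_sum_range_succ (fun i j => PowerSeries.coeff i (LambdaRing.lamSeries x) * PowerSeries.coeff j (LambdaRing.lamSeries y))]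
  simp [LambdaRing.lamSeries]

lemma lamSeries_line (x : A) (hx : ∀ j : ℕ, 2 ≤ j → LambdaRing.LambdaOps.lam j x = 0) :
    LambdaRing.lamSeries x = 1 + PowerSeries.C x * PowerSeries.X := by
  ext n
  rcases n with _ | _ | n
  · simp [LambdaRing.lamSeries, LambdaRing.LambdaOps.lam_zero]
  · simp [LambdaRing.lamSeries, LambdaRing.LambdaOps.lam_one]
  · simp [LambdaRing.lamSeries, hx (n+2) (by omega), PowerSeries.coeff_one]

lemma lamSeries_zero : LambdaRing.lamSeries (0 : A) = 1 := by
  have h := lamSeries_add (0 : A) 0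
  rw [add_zero] at h
  have hu : IsUnit (LambdaRing.lamSeries (0 : A)) := by
    rw [PowerSeries.isUnit_iff_constantCoeff]
    simp [LambdaRing.lamSeries, ← PowerSeries.coeff_zero_eq_constantCoeff_apply,
      LambdaRing.LambdaOps.lam_zero]
  have h' : LambdaRing.lamSeries (0 : A) * 1 = LambdaRing.lamSeries (0 : A) * LambdaRing.lamSeries (0 : A) := by
    rw [mul_one]; exact h
  exact (hu.mul_right_injective h').symm

lemma lam_succ_zero (j : ℕ) : LambdaRing.LambdaOps.lam (j + 1) (0 : A) = 0 := by
  have h := congrArg (PowerSeries.coeff (j + 1)) (lamSeries_zero (A := A))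
  simpa [LambdaRing.lamSeries, PowerSeries.coeff_one] using h

omit [LambdaRing.LambdaOps A] in
lemma pascal_sum (f : ℕ → A) (m : ℕ) :
    ∑ j ∈ Finset.range (m + 2), (Nat.choose (m + 1) j : A) * f j =
      ∑ j ∈ Finset.range (m + 1), (Nat.choose m j : A) * (f j + f (j + 1)) := by
  rw [Finset.sum_range_succ']
  simp only [Nat.choose_succ_succ, Nat.cast_add, add_mul, Finset.sum_add_distrib, mul_add]
  have h := Finset.sum_range_succ' (fun j => (Nat.choose m j : A) * f j) (m + 1)
  rw [Finset.sum_range_succ] at h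
  simp only [Nat.choose_succ_self, Nat.cast_zero, zero_mul, add_zero, Nat.choose_zero_right,
    Nat.cast_one, one_mul] at h ⊢
  linear_combination (-1 : A) * h

lemma gamma_succ (k : ℕ) (x : A) :
    LambdaRing.gamma (k + 1) x =
      ∑ j ∈ Finset.range (k + 1), (Nat.choose k j : A) * LambdaRing.LambdaOps.lam (j + 1) x := by
  unfold LambdaRing.gamma
  rw [if_neg (Nat.succ_ne_zero k), Finset.sum_range_succ']
  simp

lemma gamma_step (h1 : ∀ k : ℕ, 2 ≤ k → LambdaRing.LambdaOps.lam k (1 : A) = 0) (z y : A)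
    (hy : ∀ j : ℕ, 2 ≤ j → LambdaRing.LambdaOps.lam j y = 0) (k : ℕ) :
    LambdaRing.gamma (k + 1) (z + (y - 1)) =
      LambdaRing.gamma (k + 1) z + (y - 1) * LambdaRing.gamma k z := by
  have hser : LambdaRing.lamSeries (z + (y - 1)) * (1 + PowerSeries.C (1 : A) * PowerSeries.X) =
      LambdaRing.lamSeries z * (1 + PowerSeries.C y * PowerSeries.X) := by
    rw [← lamSeries_line 1 h1, ← lamSeries_line y hy, ← lamSeries_add, ← lamSeries_add]
    congr 1
    ring
  have hrel : ∀ j : ℕ, LambdaRing.LambdaOps.lam (j + 1) (z + (y - 1)) + LambdaRing.LambdaOps.lam j (z + (y - 1)) =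
      LambdaRing.LambdaOps.lam (j + 1) z + LambdaRing.LambdaOps.lam j z * y := by
    intro j
    have h := congrArg (PowerSeries.coeff (j + 1)) hser
    rw [mul_add, mul_add, mul_one, mul_one, map_add, map_add, ← mul_assoc, ← mul_assoc,
      PowerSeries.coeff_succ_mul_X, PowerSeries.coeff_succ_mul_X, PowerSeries.coeff_mul_C,
      PowerSeries.coeff_mul_C] at h
    simpa [LambdaRing.lamSeries] using h
  rcases k with _ | m
  · rw [gamma_succ, gamma_succ]
    simp [LambdaRing.gamma, LambdaRing.LambdaOps.lam_one]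
  · rw [gamma_succ, gamma_succ, gamma_succ m, pascal_sum, pascal_sum, Finset.mul_sum,
      ← Finset.sum_add_distrib]
    refine Finset.sum_congr rfl fun j _ => ?_
    have := hrel (j + 1)
    linear_combination (Nat.choose m j : A) * this

/-- generating series of the gamma operations -/
noncomputable def gser (z : A) : PowerSeries A := PowerSeries.mk fun k => LambdaRing.gamma k z

lemma gser_step (h1 : ∀ k : ℕ, 2 ≤ k → LambdaRing.LambdaOps.lam k (1 : A) = 0) (z y : A)
    (hy : ∀ j : ℕ, 2 ≤ j → LambdaRing.LambdaOps.lam j y = 0) :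
    gser (z + (y - 1)) = gser z * (1 + PowerSeries.C (y - 1) * PowerSeries.X) := by
  ext k
  rcases k with _ | k
  · simp [gser, LambdaRing.gamma, mul_add]
  · rw [mul_add, mul_one, map_add, ← mul_assoc, PowerSeries.coeff_succ_mul_X, PowerSeries.coeff_mul_C]
    simp only [gser, PowerSeries.coeff_mk]
    rw [gamma_step h1 z y hy k]
    ring

lemma gser_zero : gser (0 : A) = 1 := by
  ext k
  rcases k with _ | k
  · simp [gser, LambdaRing.gamma]
  · simp only [gser, PowerSeries.coeff_mk, PowerSeries.coeff_one]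
    rw [gamma_succ]
    simp [lam_succ_zero]

lemma gser_sum (h1 : ∀ k : ℕ, 2 ≤ k → LambdaRing.LambdaOps.lam k (1 : A) = 0) {ι : Type*}
    (y : ι → A) (hy : ∀ (i : ι) (j : ℕ), 2 ≤ j → LambdaRing.LambdaOps.lam j (y i) = 0)
    (s : Finset ι) :
    gser (∑ i ∈ s, (y i - 1)) = ∏ i ∈ s, (1 + PowerSeries.C (y i - 1) * PowerSeries.X) := by
  classical
  induction s using Finset.induction_on with
  | empty => simp [gser_zero]
  | insert a s ha ih =>
    rw [Finset.sum_insert ha, Finset.prod_insert ha, add_comm, gser_step h1 _ _ (hy a), ih, mul_comm]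

end aux

/-- Let A be a pre-λ-ring (λ^0 = 1, λ^1 = id, additive formula) in which λ^k(1) = 0 for all k ≥ 2, and
let y_1, …, y_n ∈ A satisfy λ^j(y_i) = 0 for every j ≥ 2; put x = Σ_i y_i. Then for every k the
element γ^k(x − n) (γ-operations: the coefficients of λ_{t/(1−t)}) equals the k-th elementary
symmetric function of y_1 − 1, …, y_n − 1, namely the sum over the k-element subsets s of the index
set of Π_{i ∈ s} (y_i − 1); in particular γ^k(x − n) = 0 for k > n. (The published statement is for
a λ-ring; its proof uses only additivity and λ_t(1) = 1 + t, the hypotheses taken here.) -/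
theorem result (A : Type u) [CommRing A] [LambdaRing.LambdaOps A]
    (h1 : ∀ k : ℕ, 2 ≤ k → LambdaRing.LambdaOps.lam k (1 : A) = 0) (n : ℕ) (y : Fin n → A)
    (hy : ∀ (i : Fin n) (j : ℕ), 2 ≤ j → LambdaRing.LambdaOps.lam j (y i) = 0) (k : ℕ) :
    LambdaRing.gamma k (∑ i : Fin n, y i - (n : A)) =
      ∑ s ∈ (univ : Finset (Fin n)).powersetCard k, ∏ i ∈ s, (y i - 1) := by
  classical
  have hsum : ∑ i : Fin n, y i - (n : A) = ∑ i ∈ (univ : Finset (Fin n)), (y i - 1) := by
    rw [Finset.sum_sub_distrib]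
    simp
  rw [hsum]
  have h := congrArg (PowerSeries.coeff k) (gser_sum h1 y hy (univ : Finset (Fin n)))
  simp only [gser, PowerSeries.coeff_mk] at h
  rw [h, Finset.prod_one_add, map_sum, Finset.powersetCard_eq_filter, Finset.sum_filter]
  refine Finset.sum_congr rfl fun t _ => ?_
  rw [Finset.prod_mul_distrib, ← map_prod, Finset.prod_const, PowerSeries.coeff_C_mul_X_pow]
  by_cases hk : k = t.card
  · rw [if_pos hk, if_pos hk.symm]
  · rw [if_neg hk, if_neg (fun h => hk h.symm)]

end Groth.Agent.S8651
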