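import Groth.Statements.S8678
import Mathlib

set_option autoImplicit false
universe u
open Finset
open LambdaRing

namespace Groth.Agent.S8678

/-- As the identity it proves in the pre-λ-ring K(Y') of the exceptional divisor: let K be a pre-λ-ring
(λ^0 = 1, λ^1 = id, additive formula) with λ^k(1) = 0 for all k ≥ 2, let d ≥ 2, and let F, L, N' ∈ K
satisfy λ^j(L) = 0 for j ≥ 2 (L is the class of an invertible module), λ^i(N') = 0 for i ≥ d − 1 (N'
is the class of a bundle of rank d − 2) and F + L = N' + 2 (for the blowing up of a regular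
immersion of codimension d: on the exceptional divisor the pulled-back conormal class is F + L, and
N = N' + 2). Then 1 − L divides λ_{−1}(F) = Σ_{i<d} (−1)^i λ^i(F). (The published proof uses only
additivity of λ_t and λ_t(1) = 1 + t, the hypotheses taken here.) -/
theorem result (K : Type u) [CommRing K] [LambdaRing.LambdaOps K]
    (h1 : ∀ k : ℕ, 2 ≤ k → LambdaRing.LambdaOps.lam k (1 : K) = 0) (d : ℕ) (hd : 2 ≤ d) (F L N' : K)
    (hL : ∀ j : ℕ, 2 ≤ j → LambdaRing.LambdaOps.lam j L = 0) (hN' : ∀ i : ℕ, d - 1 ≤ i → LambdaRing.LambdaOps.lam i N' = 0)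
    (hrel : F + L = N' + 2) :
    (1 - L) ∣ ∑ i ∈ range d, (-1 : K) ^ i * LambdaRing.LambdaOps.lam i F := by
  classical
  have hadd : ∀ x y : K, LambdaRing.lamSeries (x + y) = LambdaRing.lamSeries x * LambdaRing.lamSeries y := by
    intro x y
    ext n
    rw [PowerSeries.coeff_mul, LambdaRing.lamSeries, PowerSeries.coeff_mk, LambdaRing.LambdaOps.lam_add,
      Finset.Nat.sum_antidiagonal_eq_sum_range_succ (fun i j => PowerSeries.coeff i (LambdaRing.lamSeries x) * PowerSeries.coeff j (LambdaRing.lamSeries y))]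
    simp [LambdaRing.lamSeries]
  have hline : ∀ x : K, (∀ j : ℕ, 2 ≤ j → LambdaRing.LambdaOps.lam j x = 0) →
      LambdaRing.lamSeries x = 1 + PowerSeries.C x * PowerSeries.X := by
    intro x hx
    ext n
    rcases n with _ | _ | n
    · simp [LambdaRing.lamSeries, LambdaRing.LambdaOps.lam_zero]
    · simp [LambdaRing.lamSeries, LambdaRing.LambdaOps.lam_one]
    · simp [LambdaRing.lamSeries, hx (n+2) (by omega), PowerSeries.coeff_one]
  have h2 : LambdaRing.lamSeries (2 : K) = (1 + PowerSeries.X) * (1 + PowerSeries.X) := by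
    have : (2 : K) = 1 + 1 := by norm_num
    rw [this, hadd, hline 1 h1]
    simp
  have hmain : LambdaRing.lamSeries F * (1 + PowerSeries.C L * PowerSeries.X) =
      LambdaRing.lamSeries N' * ((1 + PowerSeries.X) * (1 + PowerSeries.X)) := by
    rw [← hline L hL, ← hadd, hrel, hadd, h2]
  set I : Ideal K := Ideal.span {1 - L} with hI
  set π : K →+* K ⧸ I := Ideal.Quotient.mk I with hπ
  have hπL : π L = 1 := by
    have : π (1 - L) = 0 := Ideal.Quotient.eq_zero_iff_mem.mpr (Ideal.subset_span rfl)
    rw [map_sub, map_one, sub_eq_zero] at this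
    exact this.symm
  have hmap := congrArg (PowerSeries.map π) hmain
  simp only [map_mul, map_add, map_one, PowerSeries.map_C, PowerSeries.map_X, hπL, one_mul] at hmap
  have hunit : IsUnit (1 + PowerSeries.X : PowerSeries (K ⧸ I)) := by
    rw [PowerSeries.isUnit_iff_constantCoeff]
    simp
  rw [← mul_assoc] at hmap
  have hmap2 := hunit.mul_left_injective hmap
  -- coefficients
  set n : ℕ → K ⧸ I := fun i => π (LambdaRing.LambdaOps.lam i N') with hn
  set a : ℕ → K ⧸ I := fun i => π (LambdaRing.LambdaOps.lam i F) with ha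
  have ha0 : a 0 = n 0 := by
    have := congrArg (PowerSeries.coeff 0) hmap2
    rw [mul_add, mul_one, map_add, PowerSeries.coeff_zero_mul_X, add_zero, PowerSeries.coeff_map,
      PowerSeries.coeff_map] at this
    simpa [LambdaRing.lamSeries] using this
  have hasucc : ∀ i, a (i + 1) = n (i + 1) + n i := by
    intro i
    have := congrArg (PowerSeries.coeff (i + 1)) hmap2
    rw [mul_add, mul_one, map_add, PowerSeries.coeff_succ_mul_X] at this
    simpa [LambdaRing.lamSeries] using this
  have htel : ∀ m : ℕ, ∑ i ∈ range (m + 1), (-1 : K ⧸ I) ^ i * a i = (-1) ^ m * n m := by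
    intro m
    induction m with
    | zero => simp [ha0]
    | succ m ih =>
      rw [Finset.sum_range_succ, ih, hasucc]
      ring
  obtain ⟨m, rfl⟩ : ∃ m, d = m + 1 := ⟨d - 1, by omega⟩
  have hfin : π (∑ i ∈ range (m + 1), (-1 : K) ^ i * LambdaRing.LambdaOps.lam i F) = 0 := by
    rw [map_sum]
    simp only [map_mul, map_pow, map_neg, map_one]
    rw [htel m]
    simp only [hn]
    rw [hN' m (by omega)]
    simp
  rw [← Ideal.mem_span_singleton]
  exact Ideal.Quotient.eq_zero_iff_mem.mp hfin

end Groth.Agent.S8678
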