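import Groth.Statements.S8686
import Mathlib

set_option autoImplicit false
universe u
open LambdaRing

namespace Groth.Agent.S8686

/-- Let K be a pre-λ-ring with λ^n(1) = 0 for all n ≥ 2, i.e. λ_t(1) = 1 + t. Then the Adams operations,
defined for k ≥ 1 through (d/dt λ_t(x)) · λ_t(x)⁻¹ = Σ_{k ≥ 1} (−1)^{k−1} ψ^k(x) t^{k−1}, satisfy
ψ^k(1) = 1 for every k ≥ 1. (The published statement is for a λ-ring in the strict sense; this
identity uses only λ_t(1) = 1 + t, the hypothesis taken here.) -/
theorem result (K : Type u) [CommRing K] [LambdaRing.LambdaOps K]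
    (h1 : ∀ n : ℕ, 2 ≤ n → LambdaRing.LambdaOps.lam n (1 : K) = 0) (k : ℕ) (hk : 1 ≤ k) :
    LambdaRing.adamsOp k (1 : K) = 1 := by
  obtain ⟨k, rfl⟩ : ∃ j, k = j + 1 := ⟨k - 1, by omega⟩
  have hs : LambdaRing.lamSeries (1 : K) = 1 + PowerSeries.X := by
    ext n
    rcases n with _ | _ | n
    · simp [LambdaRing.lamSeries, LambdaRing.LambdaOps.lam_zero]
    · simp [LambdaRing.lamSeries, LambdaRing.LambdaOps.lam_one]
    · simp [LambdaRing.lamSeries, h1 (n+2) (by omega), PowerSeries.coeff_one, PowerSeries.coeff_X]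
  set g : PowerSeries K := PowerSeries.mk fun n => (-1 : K) ^ n with hg
  have h2 : (1 + PowerSeries.X) * g = 1 := by
    ext n
    rw [add_mul, one_mul, map_add]
    rcases n with _ | n
    · simp [hg]
    · rw [PowerSeries.coeff_succ_X_mul]; simp [hg, pow_succ]
  have h3 : (1 + PowerSeries.X : PowerSeries K) * PowerSeries.invOfUnit (1 + PowerSeries.X) 1 = 1 :=
    PowerSeries.mul_invOfUnit _ _ (by simp)
  have h4 : PowerSeries.invOfUnit (1 + PowerSeries.X : PowerSeries K) 1 = g := by
    calc PowerSeries.invOfUnit (1 + PowerSeries.X : PowerSeries K) 1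
        = PowerSeries.invOfUnit (1 + PowerSeries.X : PowerSeries K) 1 * ((1 + PowerSeries.X) * g) := by
          rw [h2, mul_one]
      _ = ((1 + PowerSeries.X) * PowerSeries.invOfUnit (1 + PowerSeries.X : PowerSeries K) 1) * g := by ring
      _ = g := by rw [h3, one_mul]
  show (-1) ^ k * PowerSeries.coeff k (LambdaRing.logDerivSeries (1:K)) = 1
  rw [LambdaRing.logDerivSeries, hs, h4]
  have h5 : PowerSeries.derivative K (1 + PowerSeries.X : PowerSeries K) = 1 := by
    rw [map_add, PowerSeries.derivative_X]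
    simp
  rw [h5, one_mul, hg, PowerSeries.coeff_mk, ← mul_pow]
  simp

end Groth.Agent.S8686
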