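import Groth.Statements.S8699
import Groth.Agent.Helper1.LambdaSpecial

set_option autoImplicit false
universe u
open LambdaRing

namespace Groth.Agent.S8699

open Finset LambdaRing Groth.Agent.Helper1.Newton in
theorem newton_binomial (K : Type u) [CommRing K] [LambdaRing.LambdaOps K] [BinomialRing K]
    (hKb : LambdaRing.IsBinomial K) (x : K) (m : ℕ) :
    NewtonRel (fun k => LambdaOps.lam k x) (fun _ => x) m := by
  induction m with
  | zero =>
    unfold NewtonRel
    simp [LambdaOps.lam_zero, LambdaOps.lam_one]
  | succ m ih =>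
    unfold NewtonRel at ih ⊢
    rw [Finset.sum_range_succ']
    have h1 : ∑ i ∈ range (m + 1), (-1 : K) ^ (i + 1) * x * LambdaOps.lam (m + 1 - (i + 1)) x =
        -(∑ i ∈ range (m + 1), (-1 : K) ^ i * x * LambdaOps.lam (m - i) x) := by
      rw [← Finset.sum_neg_distrib]
      refine Finset.sum_congr rfl fun i _ => ?_
      rw [Nat.add_sub_add_right, pow_succ]
      ring
    rw [h1, ← ih]
    have key : (((m + 1 : ℕ) : K) + 1) * LambdaOps.lam (m + 1 + 1) x =
        (x - ((m + 1 : ℕ) : K)) * LambdaOps.lam (m + 1) x := by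
      have h2 := Ring.choose_smul_choose x (Nat.le_succ (m + 1))
      rw [Nat.choose_succ_self_right, Nat.succ_sub (le_refl _), Nat.sub_self,
        Ring.choose_one_right, nsmul_eq_mul] at h2
      rw [hKb, hKb, mul_comm (x - _)]
      rw [← h2]
      push_cast
      ring
    rw [key]
    push_cast
    simp only [pow_zero, Nat.sub_zero]
    ring

/-- A binomial ring K (no additive torsion and all binomial coefficients C(x, n) defined) with its
binomial λ-structure λ^n(x) = C(x, n), i.e. λ_t(x) = (1 + t)^x, is a λ-ring in the strict sense: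
λ_t(1) = 1 + t, λ^n(xy) = P_n(λ^1 x, …; λ^1 y, …) and λ^j(λ^i x) = Q_{i,j}(λ^1 x, …) for the
universal polynomials. In particular the integers with λ^n(m) = C(m, n) form a λ-ring. -/
theorem result (K : Type u) [CommRing K] [LambdaRing.LambdaOps K] [BinomialRing K]
    (hKb : LambdaRing.IsBinomial K) : LambdaRing.IsSpecial K := by
  haveI := BinomialRing.toIsAddTorsionFree (R := K)
  have hψ : ∀ k : ℕ, 1 ≤ k → ∀ x : K, LambdaRing.adamsOp k x = x := by
    intro k hk x
    exact Groth.Agent.Helper1.Newton.newton_unique' (fun m => LambdaRing.LambdaOps.lam m x)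
      (fun m => LambdaRing.LambdaOps.lam m x) (fun k => LambdaRing.adamsOp k x) (fun _ => x) k
      (LambdaRing.LambdaOps.lam_zero x)
      (fun m _ => Groth.Agent.Helper1.Newton.newton_lam x m)
      (fun m _ => newton_binomial K hKb x m) (fun m _ => rfl) k hk le_rfl
  apply Groth.Agent.Helper1.LambdaSpecial.isSpecial_of_adams
  · intro m x y h
    have h' : (m + 1) • x = (m + 1) • y := by
      rw [nsmul_eq_mul, nsmul_eq_mul]
      push_cast
      exact h
    exact (nsmul_right_inj (Nat.succ_ne_zero m)).mp h'
  · intro k hk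
    exact hψ k hk 1
  · intro k hk x y
    rw [hψ k hk, hψ k hk, hψ k hk]
  · intro k k' hk hk' x
    rw [hψ k' hk', hψ k hk, hψ (k * k') (Nat.mul_pos hk hk')]

end Groth.Agent.S8699
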