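import Groth.Statements.S8702
import Groth.Agent.Helper1.LambdaAux

set_option autoImplicit false
universe u
open LambdaRing

namespace Groth.Agent.S8702

open PowerSeries Groth.Agent.Helper1.LambdaAux

section

variable {K : Type u} [CommRing K] [Algebra ℚ K]

/-- the series `Σ_{k ≥ 1} (-1)^(k-1) ψ^k(x) t^k / k`. -/
noncomputable def g (ψ : ℕ → K →+ K) (x : K) : PowerSeries K :=
  PowerSeries.mk fun k => if k = 0 then 0 else (-1) ^ (k - 1) * ψ k x * algebraMap ℚ K (1 / (k : ℚ))

theorem g_const (ψ : ℕ → K →+ K) (x : K) : constantCoeff (g ψ x) = 0 := by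
  rw [← coeff_zero_eq_constantCoeff_apply, g, coeff_mk, if_pos rfl]

theorem g_hasSubst (ψ : ℕ → K →+ K) (x : K) : HasSubst (g ψ x) :=
  HasSubst.of_constantCoeff_zero' (g_const ψ x)

theorem coeff_deriv_g (ψ : ℕ → K →+ K) (x : K) (k : ℕ) :
    coeff k (d⁄dX K (g ψ x)) = (-1) ^ k * ψ (k + 1) x := by
  rw [coeff_derivative, g, coeff_mk, if_neg (Nat.succ_ne_zero k), Nat.add_sub_cancel]
  have h : (((k + 1 : ℕ) : ℚ)) = (k : ℚ) + 1 := by push_cast; rfl
  rw [h, mul_assoc, mul_comm (algebraMap ℚ K _) _, natCast_succ_mul_inv, mul_one]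

theorem deriv_g_add (ψ : ℕ → K →+ K) (x y : K) :
    d⁄dX K (g ψ (x + y)) = d⁄dX K (g ψ x) + d⁄dX K (g ψ y) := by
  ext k
  rw [map_add, coeff_deriv_g, coeff_deriv_g, coeff_deriv_g, map_add, mul_add]

/-- `exp (g x)`. -/
noncomputable def F (ψ : ℕ → K →+ K) (x : K) : PowerSeries K := (exp K).subst (g ψ x)

theorem F_const (ψ : ℕ → K →+ K) (x : K) : constantCoeff (F ψ x) = 1 := by
  have hs := g_hasSubst ψ x
  have h0 : constantCoeff (subst (g ψ x) (exp K - 1)) = 0 :=
    constantCoeff_subst_eq_zero (f := exp K - 1) (a := g ψ x) (g_const ψ x)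
      (by simp [constantCoeff_exp])
  rw [subst_sub hs, map_sub] at h0
  rw [← coe_substAlgHom hs, map_one, map_one] at h0
  rw [F, ← coe_substAlgHom hs]
  linear_combination h0

theorem deriv_F (ψ : ℕ → K →+ K) (x : K) :
    d⁄dX K (F ψ x) = d⁄dX K (g ψ x) * F ψ x := by
  rw [F, derivative_subst (g_hasSubst ψ x), derivative_exp, mul_comm]

theorem F_add (ψ : ℕ → K →+ K) (x y : K) : F ψ (x + y) = F ψ x * F ψ y := by
  apply ode_unique (L := d⁄dX K (g ψ (x + y))) (deriv_F ψ (x + y))
  · rw [Derivation.leibniz, deriv_F, deriv_F, deriv_g_add]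
    simp only [smul_eq_mul]
    ring
  · rw [F_const, map_mul, F_const, F_const, mul_one]

/-- the λ-structure attached to `ψ`. -/
noncomputable def ops (ψ : ℕ → K →+ K) (hψ : ψ 1 = AddMonoidHom.id K) : LambdaOps K where
  lam n x := coeff n (F ψ x)
  lam_zero x := by rw [coeff_zero_eq_constantCoeff_apply, F_const]
  lam_one x := by
    have h := congrArg (coeff 0) (deriv_F ψ x)
    rw [coeff_derivative, coeff_mul, Finset.Nat.antidiagonal_zero, Finset.sum_singleton,
      coeff_deriv_g, coeff_zero_eq_constantCoeff_apply, F_const, hψ] at h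
    simpa using h
  lam_add k x y := by
    rw [F_add, coeff_mul, Finset.Nat.sum_antidiagonal_eq_sum_range_succ_mk]

theorem lamSeries_ops (ψ : ℕ → K →+ K) (hψ : ψ 1 = AddMonoidHom.id K) (x : K) :
    @lamSeries K _ (ops ψ hψ) x = F ψ x := by
  ext n
  rw [@coeff_lamSeries K _ (ops ψ hψ)]
  rfl

end

/-- Let K be a commutative ring which is an algebra over the rationals, and let ψ^k : K → K, k ≥ 1, be
additive maps with ψ^1 the identity. Then there is one and only one pre-λ-structure on K whose Adams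
operations (defined through the logarithmic derivative of λ_t) are the ψ^k for every k ≥ 1, namely
λ_t(x) = exp(Σ_{k ≥ 1} (−1)^{k−1} ψ^k(x) t^k / k): in characteristic zero, pre-λ-structures and
families of additive operations ψ^k with ψ^1 = id determine each other. (The value of the family at
k = 0 is ignored.) -/
theorem result (K : Type u) [CommRing K] [Algebra ℚ K]
    (ψ : ℕ → K →+ K) (hψ : ψ 1 = AddMonoidHom.id K) :
    ∃! L : LambdaRing.LambdaOps K, ∀ k : ℕ, 1 ≤ k → ∀ x : K, @LambdaRing.adamsOp K _ L k x = ψ k x := by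
  refine ⟨ops ψ hψ, ?_, ?_⟩
  · intro k hk x
    obtain ⟨k, rfl⟩ := Nat.exists_eq_succ_of_ne_zero (by omega : k ≠ 0)
    have hL : @logDerivSeries K _ (ops ψ hψ) x = d⁄dX K (g ψ x) := by
      apply @logDerivSeries_eq_of_deriv K _ (ops ψ hψ)
      rw [lamSeries_ops, deriv_F]
    rw [@adamsOp_succ K _ (ops ψ hψ), hL, coeff_deriv_g, ← mul_assoc, ← mul_pow]
    simp
  · intro L' hL'
    apply lambdaOps_ext
    intro n x
    have hlog : @logDerivSeries K _ L' x = d⁄dX K (g ψ x) := by
      ext k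
      rw [@coeff_logDerivSeries K _ L', coeff_deriv_g, hL' (k + 1) (by omega) x]
    have h1 : d⁄dX K (@lamSeries K _ L' x) = d⁄dX K (g ψ x) * @lamSeries K _ L' x := by
      rw [@deriv_lamSeries K _ L', hlog]
    have hF := ode_unique h1 (deriv_F ψ x)
      (by rw [@constantCoeff_lamSeries K _ L', F_const])
    have := congrArg (coeff n) hF
    rw [@coeff_lamSeries K _ L'] at this
    exact this

end Groth.Agent.S8702
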