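import Groth.Statements.S8703
import Groth.Agent.Helper1.LambdaAux

set_option autoImplicit false
universe u
open LambdaRing

namespace Groth.Agent.S8703

open PowerSeries Groth.Agent.Helper1.LambdaAux

/-- The Adams operations commute with λ-homomorphisms, and conversely, if K and K' are pre-λ-rings which
are algebras over the rationals, a ring homomorphism f : K → K' commuting with the ψ^k for all k ≥ 1
is a λ-homomorphism (commutes with all λ^i), the λ^i being expressible through the ψ^k in
characteristic zero. -/
theorem result (K K' : Type u) [CommRing K] [CommRing K']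
    [LambdaRing.LambdaOps K] [LambdaRing.LambdaOps K'] [Algebra ℚ K] [Algebra ℚ K'] (f : K →+* K') :
    LambdaRing.IsLambdaHom f ↔
      ∀ k : ℕ, 1 ≤ k → ∀ x : K, f (LambdaRing.adamsOp k x) = LambdaRing.adamsOp k (f x) := by
  constructor
  · intro hf k hk x
    obtain ⟨k, rfl⟩ := Nat.exists_eq_succ_of_ne_zero (by omega : k ≠ 0)
    have hmap : PowerSeries.map f (lamSeries x) = lamSeries (f x) := by
      ext n
      rw [coeff_map, coeff_lamSeries, coeff_lamSeries]
      exact hf n x
    have e1 : PowerSeries.map f (logDerivSeries x) * lamSeries (f x) =
        logDerivSeries (f x) * lamSeries (f x) := by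
      calc PowerSeries.map f (logDerivSeries x) * lamSeries (f x)
          = PowerSeries.map f (logDerivSeries x) * PowerSeries.map f (lamSeries x) := by rw [hmap]
        _ = PowerSeries.map f (logDerivSeries x * lamSeries x) := by rw [map_mul]
        _ = PowerSeries.map f (d⁄dX K (lamSeries x)) := by rw [deriv_lamSeries]
        _ = d⁄dX K' (PowerSeries.map f (lamSeries x)) := by rw [map_derivative]
        _ = d⁄dX K' (lamSeries (f x)) := by rw [hmap]
        _ = logDerivSeries (f x) * lamSeries (f x) := by rw [deriv_lamSeries]
    have hL : PowerSeries.map f (logDerivSeries x) = logDerivSeries (f x) := by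
      calc PowerSeries.map f (logDerivSeries x)
          = PowerSeries.map f (logDerivSeries x) *
              (lamSeries (f x) * (lamSeries (f x)).invOfUnit 1) := by
            rw [lamSeries_mul_inv, mul_one]
        _ = logDerivSeries (f x) * (lamSeries (f x) * (lamSeries (f x)).invOfUnit 1) := by
            rw [← mul_assoc, e1, mul_assoc]
        _ = logDerivSeries (f x) := by rw [lamSeries_mul_inv, mul_one]
    have h := congrArg (PowerSeries.coeff k) hL
    rw [coeff_map] at h
    rw [adamsOp_succ, adamsOp_succ, map_mul, map_pow, map_neg, map_one, h]
  · intro h i x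
    have hL : PowerSeries.map f (logDerivSeries x) = logDerivSeries (f x) := by
      ext k
      rw [coeff_map, coeff_logDerivSeries, coeff_logDerivSeries, map_mul, map_pow, map_neg,
        map_one, h (k + 1) (by omega) x]
    have h1 : d⁄dX K' (PowerSeries.map f (lamSeries x)) =
        logDerivSeries (f x) * PowerSeries.map f (lamSeries x) := by
      rw [map_derivative, deriv_lamSeries, map_mul, hL]
    have h2 : d⁄dX K' (lamSeries (f x)) = logDerivSeries (f x) * lamSeries (f x) :=
      deriv_lamSeries (f x)
    have hc : constantCoeff (PowerSeries.map f (lamSeries x)) =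
        constantCoeff (lamSeries (f x)) := by
      rw [← coeff_zero_eq_constantCoeff_apply, coeff_map, coeff_zero_eq_constantCoeff_apply,
        constantCoeff_lamSeries, constantCoeff_lamSeries, map_one]
    have hF := ode_unique h1 h2 hc
    have := congrArg (PowerSeries.coeff i) hF
    rw [coeff_map, coeff_lamSeries, coeff_lamSeries] at this
    exact this

end Groth.Agent.S8703
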