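import Groth.Statements.S8704
import Groth.Agent.Helper1.LambdaAux

set_option autoImplicit false
universe u v
open LambdaRing

namespace Groth.Agent.S8704

open PowerSeries Groth.Agent.Helper1.LambdaAux

section Gamma

variable {A : Type v} [CommRing A] [LambdaOps A]

/-- `t/(1-t)`. -/
noncomputable def uu : PowerSeries A := X * mk 1

theorem uu_const : constantCoeff (uu : PowerSeries A) = 0 := by
  rw [uu, map_mul, constantCoeff_X, zero_mul]

theorem uu_hasSubst : HasSubst (uu : PowerSeries A) := HasSubst.of_constantCoeff_zero' uu_const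

/-- `γ_t(x) = λ_{t/(1-t)}(x)`. -/
noncomputable def gammaSeries (x : A) : PowerSeries A := (lamSeries x).subst uu

theorem lamSeries_add (x y : A) : lamSeries (x + y) = lamSeries x * lamSeries y := by
  ext k
  rw [coeff_lamSeries, coeff_mul, LambdaOps.lam_add,
    Finset.Nat.sum_antidiagonal_eq_sum_range_succ_mk]
  refine Finset.sum_congr rfl fun i _ => ?_
  rw [coeff_lamSeries, coeff_lamSeries]

theorem lamSeries_zero : lamSeries (0 : A) = 1 := by
  have h : lamSeries (0 : A) * lamSeries 0 = lamSeries (0 : A) := by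
    rw [← lamSeries_add, add_zero]
  calc lamSeries (0 : A) = lamSeries 0 * (lamSeries 0 * (lamSeries (0 : A)).invOfUnit 1) := by
        rw [lamSeries_mul_inv, mul_one]
    _ = lamSeries 0 * (lamSeries (0 : A)).invOfUnit 1 := by rw [← mul_assoc, h]
    _ = 1 := lamSeries_mul_inv 0

theorem coeff_uu_pow_succ (k e : ℕ) :
    coeff (k + 1) ((uu : PowerSeries A) ^ (e + 1)) = (Nat.choose k e : A) := by
  rw [uu, mul_pow, mk_one_pow_eq_mk_choose_add, coeff_X_pow_mul']
  split_ifs with h
  · rw [coeff_mk]
    have : e + (k + 1 - (e + 1)) = k := by omega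
    rw [this]
  · rw [Nat.choose_eq_zero_of_lt (by omega), Nat.cast_zero]

theorem coeff_gammaSeries_succ (k : ℕ) (x : A) :
    coeff (k + 1) (gammaSeries x) = gamma (k + 1) x := by
  rw [gammaSeries, coeff_subst' uu_hasSubst,
    finsum_eq_sum_of_support_subset (s := Finset.range (k + 1 + 1)), gamma,
    if_neg (Nat.succ_ne_zero k)]
  · refine Finset.sum_congr rfl fun j _ => ?_
    cases j with
    | zero =>
      rw [pow_zero, coeff_one, if_neg (Nat.succ_ne_zero k), smul_zero, if_pos rfl, mul_zero]
    | succ e =>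
      rw [coeff_uu_pow_succ, coeff_lamSeries, smul_eq_mul, if_neg (Nat.succ_ne_zero e), mul_comm,
        Nat.add_sub_cancel, Nat.add_sub_cancel]
  · intro d hd
    rw [Function.mem_support] at hd
    rw [Finset.coe_range, Set.mem_Iio]
    by_contra hlt
    apply hd
    obtain ⟨e, rfl⟩ := Nat.exists_eq_succ_of_ne_zero (by omega : d ≠ 0)
    rw [coeff_uu_pow_succ, Nat.choose_eq_zero_of_lt (by omega), Nat.cast_zero, smul_zero]

theorem gammaSeries_const (x : A) : constantCoeff (gammaSeries x) = 1 := by
  have hs := uu_hasSubst (A := A)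
  have h0 : constantCoeff (subst (uu : PowerSeries A) (lamSeries x - 1)) = 0 :=
    constantCoeff_subst_eq_zero (f := lamSeries x - 1) (a := (uu : PowerSeries A)) uu_const
      (by simp [constantCoeff_lamSeries])
  rw [subst_sub hs, map_sub] at h0
  rw [← coe_substAlgHom hs, map_one, map_one] at h0
  rw [gammaSeries, ← coe_substAlgHom hs]
  linear_combination h0

theorem coeff_gammaSeries (k : ℕ) (x : A) : coeff k (gammaSeries x) = gamma k x := by
  cases k with
  | zero =>
    rw [coeff_zero_eq_constantCoeff_apply, gammaSeries_const]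
    simp [gamma]
  | succ k => exact coeff_gammaSeries_succ k x

theorem gammaSeries_add (x y : A) : gammaSeries (x + y) = gammaSeries x * gammaSeries y := by
  rw [gammaSeries, lamSeries_add, subst_mul uu_hasSubst]
  rfl

theorem gammaSeries_zero : gammaSeries (0 : A) = 1 := by
  rw [gammaSeries, lamSeries_zero, ← coe_substAlgHom uu_hasSubst, map_one]

theorem gamma_one (x : A) : gamma 1 x = x := by
  simp [gamma, Finset.sum_range_succ, LambdaOps.lam_one]

end Gamma

section Graded

variable {K : Type u} [CommRing K] {A : Type v} [CommRing A] [Algebra K A]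
  (T : ℕ → Submodule K A)

/-- coefficientwise membership in a filtration. -/
def Gr (F : PowerSeries A) : Prop := ∀ i, coeff i F ∈ T i

theorem Gr_mul (hmul : ∀ a b y z, y ∈ T a → z ∈ T b → y * z ∈ T (a + b)) {F G : PowerSeries A}
    (hF : Gr T F) (hG : Gr T G) : Gr T (F * G) := by
  intro i
  rw [coeff_mul]
  refine Submodule.sum_mem _ fun p hp => ?_
  have h := Finset.HasAntidiagonal.mem_antidiagonal.mp hp
  rw [← h]
  exact hmul _ _ _ _ (hF _) (hG _)

theorem Gr_one (h1 : (1 : A) ∈ T 0) : Gr T 1 := by
  intro i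
  rw [coeff_one]
  split_ifs with h
  · subst h; exact h1
  · exact zero_mem _

theorem Gr_inv (hmul : ∀ a b y z, y ∈ T a → z ∈ T b → y * z ∈ T (a + b)) (h1 : (1 : A) ∈ T 0)
    {F G : PowerSeries A} (hF : Gr T F) (hc : constantCoeff F = 1) (hFG : F * G = 1) :
    Gr T G := by
  intro i
  induction i using Nat.strong_induction_on with
  | _ i ih =>
    cases i with
    | zero =>
      have h := congrArg constantCoeff hFG
      rw [map_mul, hc, one_mul, map_one] at h
      rw [coeff_zero_eq_constantCoeff_apply, h]
      exact h1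
    | succ i =>
      have h := congrArg (coeff (i + 1)) hFG
      rw [coeff_mul, Finset.Nat.sum_antidiagonal_succ] at h
      dsimp only at h
      rw [coeff_zero_eq_constantCoeff_apply, hc, one_mul, coeff_one,
        if_neg (Nat.succ_ne_zero i)] at h
      have h' := eq_neg_of_add_eq_zero_left h
      rw [h']
      refine neg_mem (Submodule.sum_mem _ fun p hp => ?_)
      have hp' := Finset.HasAntidiagonal.mem_antidiagonal.mp hp
      have e : p.1 + 1 + p.2 = i + 1 := by omega
      rw [← e]
      exact hmul _ _ _ _ (hF _) (ih p.2 (by omega))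

end Graded

section Main

variable {K : Type u} [CommRing K] {A : Type v} [CommRing A] [LambdaOps A] [Algebra K A]
  (ε : A →ₐ[K] K) (S : Set A)

/-- generators of weight at least `i`. -/
def gen (i : ℕ) : Set A :=
  {y : A | ∃ l : List (ℕ × A), (∀ p ∈ l, p.2 ∈ S) ∧ i ≤ (l.map Prod.fst).sum ∧
    y = (l.map fun p => LambdaRing.gamma p.1 (p.2 - algebraMap K A (ε p.2))).prod}

/-- their `K`-span. -/
def T (i : ℕ) : Submodule K A := Submodule.span K (gen ε S i)

theorem T_mul (a b : ℕ) (y z : A) (hy : y ∈ T ε S a) (hz : z ∈ T ε S b) :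
    y * z ∈ T ε S (a + b) := by
  have h : T ε S a * T ε S b ≤ T ε S (a + b) := by
    rw [T, T, Submodule.span_mul_span]
    refine Submodule.span_le.mpr ?_
    rintro _ ⟨y1, ⟨l1, h1S, h1n, rfl⟩, y2, ⟨l2, h2S, h2n, rfl⟩, rfl⟩
    refine Submodule.subset_span ⟨l1 ++ l2, ?_, ?_, ?_⟩
    · intro p hp
      rcases List.mem_append.mp hp with h | h
      exacts [h1S p h, h2S p h]
    · rw [List.map_append, List.sum_append]; omega
    · rw [List.map_append, List.prod_append]
  exact h (Submodule.mul_mem_mul hy hz)

theorem T_anti {a b : ℕ} (h : a ≤ b) : T ε S b ≤ T ε S a := by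
  refine Submodule.span_mono ?_
  rintro y ⟨l, hS, hn, rfl⟩
  exact ⟨l, hS, le_trans h hn, rfl⟩

theorem one_mem_T : (1 : A) ∈ T ε S 0 :=
  Submodule.subset_span ⟨[], by simp, by simp, by simp⟩

theorem single_mem (i : ℕ) (s : A) (hs : s ∈ S) :
    gamma i (s - algebraMap K A (ε s)) ∈ T ε S i :=
  Submodule.subset_span ⟨[(i, s)], by simpa using hs, by simp, by simp⟩

theorem gr_of_mem_closure (x : A)
    (hx : x ∈ AddSubgroup.closure ((fun s => s - algebraMap K A (ε s)) '' S)) :
    Gr (T ε S) (gammaSeries x) := by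
  induction hx using AddSubgroup.closure_induction with
  | mem x hx =>
    obtain ⟨s, hs, rfl⟩ := hx
    intro i
    rw [coeff_gammaSeries]
    exact single_mem ε S i s hs
  | zero =>
    rw [gammaSeries_zero]
    exact Gr_one _ (one_mem_T ε S)
  | add x y _ _ ihx ihy =>
    rw [gammaSeries_add]
    exact Gr_mul _ (T_mul ε S) ihx ihy
  | neg x _ ih =>
    refine Gr_inv _ (T_mul ε S) (one_mem_T ε S) ih (gammaSeries_const x) ?_
    rw [← gammaSeries_add, add_neg_cancel, gammaSeries_zero]

theorem theta_mem (x : A) (hx : x ∈ AddSubgroup.closure S) :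
    x - algebraMap K A (ε x) ∈
      AddSubgroup.closure ((fun s => s - algebraMap K A (ε s)) '' S) := by
  induction hx using AddSubgroup.closure_induction with
  | mem x hx => exact AddSubgroup.subset_closure ⟨x, hx, rfl⟩
  | zero =>
    rw [map_zero, map_zero, sub_zero]
    exact zero_mem _
  | add x y _ _ ihx ihy =>
    have e : x + y - algebraMap K A (ε (x + y)) =
        (x - algebraMap K A (ε x)) + (y - algebraMap K A (ε y)) := by
      rw [map_add, map_add]; ring
    rw [e]
    exact add_mem ihx ihy
  | neg x _ ih =>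
    have e : -x - algebraMap K A (ε (-x)) = -(x - algebraMap K A (ε x)) := by
      rw [map_neg, map_neg]; ring
    rw [e]
    exact neg_mem ih

theorem prod_mem (hS : AddSubgroup.closure S = ⊤) (l : List (ℕ × A))
    (hl : ∀ p ∈ l, ε p.2 = 0) :
    (l.map fun p => gamma p.1 p.2).prod ∈ T ε S (l.map Prod.fst).sum := by
  induction l with
  | nil => simpa using one_mem_T ε S
  | cons p l ih =>
    rw [List.map_cons, List.map_cons, List.prod_cons, List.sum_cons]
    refine T_mul ε S _ _ _ _ ?_ (ih fun q hq => hl q (List.mem_cons_of_mem _ hq))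
    have hp : ε p.2 = 0 := hl p (by simp)
    have hx : p.2 ∈ AddSubgroup.closure S := by rw [hS]; trivial
    have h := theta_mem ε S p.2 hx
    rw [hp, map_zero, sub_zero] at h
    have := gr_of_mem_closure ε S p.2 h p.1
    rwa [coeff_gammaSeries] at this

theorem mul_mem_T (hS : AddSubgroup.closure S = ⊤) (n : ℕ) (a y : A) (hy : y ∈ T ε S n) :
    a * y ∈ T ε S n := by
  have ha : a ∈ AddSubgroup.closure S := by rw [hS]; trivial
  induction ha using AddSubgroup.closure_induction with
  | mem s hs =>
    change y ∈ Submodule.span K (gen ε S n) at hy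
    induction hy using Submodule.span_induction with
    | mem y hy =>
      obtain ⟨l, hlS, hn, rfl⟩ := hy
      have e : s * (l.map fun p => gamma p.1 (p.2 - algebraMap K A (ε p.2))).prod =
          gamma 1 (s - algebraMap K A (ε s)) *
            (l.map fun p => gamma p.1 (p.2 - algebraMap K A (ε p.2))).prod +
          (ε s) • (l.map fun p => gamma p.1 (p.2 - algebraMap K A (ε p.2))).prod := by
        rw [gamma_one, Algebra.smul_def]; ring
      rw [e]
      refine add_mem ?_ (Submodule.smul_mem _ _ (Submodule.subset_span ⟨l, hlS, hn, rfl⟩))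
      refine Submodule.subset_span ⟨(1, s) :: l, ?_, ?_, ?_⟩
      · intro p hp
        rcases List.mem_cons.mp hp with rfl | h
        · exact hs
        · exact hlS p h
      · rw [List.map_cons, List.sum_cons]; omega
      · rw [List.map_cons, List.prod_cons]
    | zero => rw [mul_zero]; exact zero_mem _
    | add y z _ _ ihy ihz => rw [mul_add]; exact add_mem ihy ihz
    | smul k y _ ih => rw [mul_smul_comm]; exact Submodule.smul_mem _ _ ih
  | zero => rw [zero_mul]; exact zero_mem _
  | add a b _ _ iha ihb => rw [add_mul]; exact add_mem iha ihb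
  | neg a _ ih => rw [neg_mul]; exact neg_mem ih

end Main

/-- Let K and A be λ-rings in the strict sense, A an augmented K-λ-algebra with augmentation ε : A → K,
and Fil^n A its γ-filtration, the ideal generated by the products γ^{i_1}(x_1) ⋯ γ^{i_k}(x_k) with
i_1 + ⋯ + i_k ≥ n and all ε(x_r) = 0. If a subset S generates A as an abelian group, then Fil^n A,
as a K-submodule of A, is generated over K by the products γ^{i_1}(s_1 − ε(s_1)) ⋯ γ^{i_k}(s_k −
ε(s_k)) with s_r ∈ S and i_1 + ⋯ + i_k ≥ n. -/
theorem result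
    (K : Type u) [CommRing K] [LambdaRing.LambdaOps K] (hK : LambdaRing.IsSpecial K)
    (A : Type v) [CommRing A] [LambdaRing.LambdaOps A] [Algebra K A] (hA : LambdaRing.IsSpecial A)
    (ε : A →ₐ[K] K) (hε : LambdaRing.IsAugLambdaAlg K A ε)
    (S : Set A) (hS : AddSubgroup.closure S = ⊤) (n : ℕ) :
    (LambdaRing.gammaFil (ε : A →+* K) n).restrictScalars K =
      Submodule.span K {y : A | ∃ l : List (ℕ × A), (∀ p ∈ l, p.2 ∈ S) ∧ n ≤ (l.map Prod.fst).sum ∧
        y = (l.map fun p => LambdaRing.gamma p.1 (p.2 - algebraMap K A (ε p.2))).prod} := by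
  apply le_antisymm
  · intro x hx
    rw [Submodule.restrictScalars_mem] at hx
    let I : Ideal A :=
      { carrier := T ε S n
        add_mem' := fun ha hb => (T ε S n).add_mem ha hb
        zero_mem' := (T ε S n).zero_mem
        smul_mem' := fun a y hy => by
          rw [smul_eq_mul]; exact mul_mem_T ε S hS n a y hy }
    have hle : gammaFil (ε : A →+* K) n ≤ I := by
      rw [gammaFil]
      refine Ideal.span_le.mpr ?_
      rintro y ⟨l, hl, hn, rfl⟩
      exact T_anti ε S hn (prod_mem ε S hS l hl)
    exact hle hx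
  · refine Submodule.span_le.mpr ?_
    rintro y ⟨l, hlS, hn, rfl⟩
    rw [SetLike.mem_coe, Submodule.restrictScalars_mem, gammaFil]
    refine Ideal.subset_span ⟨l.map fun p => (p.1, p.2 - algebraMap K A (ε p.2)), ?_, ?_, ?_⟩
    · intro p hp
      obtain ⟨q, _, rfl⟩ := List.mem_map.mp hp
      show ε (q.2 - algebraMap K A (ε q.2)) = 0
      rw [map_sub, AlgHom.commutes, Algebra.algebraMap_self_apply, sub_self]
    · rw [List.map_map]; exact hn
    · rw [List.map_map]; rfl

end Groth.Agent.S8704
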