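import Groth.Statements.S8705
import Mathlib

set_option autoImplicit false
universe u
open SGA7

namespace Groth.Agent.S8705

structure Coc (P Q : Type u) [AddCommGroup P] [AddCommGroup Q] where
  c : P → P → Q
  coc : ∀ p q r, c (p + q) r - c p (q + r) + c p q - c q r = 0
  symm : ∀ p q, c p q = c q p

namespace Coc

variable {P Q : Type u} [AddCommGroup P] [AddCommGroup Q]

@[ext] structure E (C : Coc P Q) : Type u where
  a : Q
  p : P

variable (C : Coc P Q)

lemma c_zero_right (p : P) : C.c p 0 = C.c 0 0 := by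
  have h := C.coc p 0 0
  simp only [add_zero] at h
  have h2 : C.c p 0 - C.c 0 0 = C.c p 0 - C.c p 0 + C.c p 0 - C.c 0 0 := by abel
  exact sub_eq_zero.mp (h2.trans h)

lemma c_zero_left (p : P) : C.c 0 p = C.c 0 0 := by
  rw [C.symm 0 p, C.c_zero_right]

instance : Add C.E := ⟨fun x y => ⟨x.a + y.a + C.c x.p y.p, x.p + y.p⟩⟩
instance : Zero C.E := ⟨⟨-C.c 0 0, 0⟩⟩
instance : Neg C.E := ⟨fun x => ⟨-x.a - C.c (-x.p) x.p - C.c 0 0, -x.p⟩⟩

lemma add_a (x y : C.E) : (x + y).a = x.a + y.a + C.c x.p y.p := rfl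
lemma add_p (x y : C.E) : (x + y).p = x.p + y.p := rfl
lemma zero_a : (0 : C.E).a = -C.c 0 0 := rfl
lemma zero_p : (0 : C.E).p = 0 := rfl
lemma neg_a (x : C.E) : (-x).a = -x.a - C.c (-x.p) x.p - C.c 0 0 := rfl
lemma neg_p (x : C.E) : (-x).p = -x.p := rfl

instance : AddCommGroup C.E :=
  { AddGroup.ofLeftAxioms
      (fun x y z => by
        apply E.ext
        · have key : (x + y + z).a - (x + (y + z)).a
              = C.c (x.p + y.p) z.p - C.c x.p (y.p + z.p) + C.c x.p y.p - C.c y.p z.p := by
            simp only [add_a, add_p]; abel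
          exact sub_eq_zero.mp (key.trans (C.coc _ _ _))
        · simp only [add_p, add_assoc])
      (fun x => by
        apply E.ext
        · simp only [add_a, zero_a, zero_p, c_zero_left]; abel
        · simp only [add_p, zero_p, zero_add])
      (fun x => by
        apply E.ext
        · simp only [add_a, neg_a, neg_p, zero_a]; abel
        · simp only [add_p, neg_p, zero_p, neg_add_cancel]) with
    add_comm := fun x y => by
      apply E.ext
      · show x.a + y.a + C.c x.p y.p = y.a + x.a + C.c y.p x.p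
        rw [C.symm x.p y.p]; abel
      · show x.p + y.p = y.p + x.p
        exact add_comm _ _ }

lemma key (p q : P) :
    (⟨0, p + q⟩ : C.E) + ⟨C.c p q - C.c 0 0, 0⟩ = (⟨0, p⟩ : C.E) + ⟨0, q⟩ := by
  apply E.ext
  · show (0 : Q) + (C.c p q - C.c 0 0) + C.c (p + q) 0 = 0 + 0 + C.c p q
    rw [C.c_zero_right (p + q)]; abel
  · show p + q + 0 = p + q
    rw [add_zero]

noncomputable def psi : (P →₀ ℤ) →ₗ[ℤ] C.E :=
  Finsupp.linearCombination ℤ (fun p : P => (⟨0, p⟩ : C.E))

lemma psi_single (r : P) : C.psi (Finsupp.single r 1) = ⟨0, r⟩ := by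
  rw [psi, Finsupp.linearCombination_single, one_smul]

def j : Q →+ C.E := AddMonoidHom.mk' (fun a => ⟨a - C.c 0 0, 0⟩) (by
  intro a b
  apply E.ext
  · show a + b - C.c 0 0 = (a - C.c 0 0) + (b - C.c 0 0) + C.c 0 0
    abel
  · show (0 : P) = 0 + 0
    rw [add_zero])

lemma j_apply (a : Q) : C.j a = ⟨a - C.c 0 0, 0⟩ := rfl

lemma j_inj (a : Q) (h : C.j a = 0) : a = 0 := by
  have h1 : (C.j a).a = (0 : C.E).a := congrArg E.a h
  have h2 : a - C.c 0 0 = -C.c 0 0 := h1
  have h3 : a = (a - C.c 0 0) + C.c 0 0 := by abel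
  rw [h3, h2]; abel

end Coc

lemma aux_grp {G : Type u} [AddCommGroup G] {A J B D : G} (h : A + J = B + D) :
    A - B - D = -J := by
  rw [eq_neg_iff_add_eq_zero]
  calc A - B - D + J = (A + J) - (B + D) := by abel
    _ = 0 := by rw [h, sub_self]

section
variable (P : Type u) [AddCommGroup P]

noncomputable def eps : (P →₀ ℤ) →ₗ[ℤ] P := Finsupp.linearCombination ℤ (fun p : P => p)

noncomputable def d0 : (P × P →₀ ℤ) →ₗ[ℤ] (P →₀ ℤ) := Finsupp.linearCombination ℤ
  (fun pq : P × P => Finsupp.single (pq.1 + pq.2) 1 - Finsupp.single pq.1 1 - Finsupp.single pq.2 1)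

noncomputable def d1 : (P × P × P →₀ ℤ) →ₗ[ℤ] (P × P →₀ ℤ) := Finsupp.linearCombination ℤ
  (fun t : P × P × P => Finsupp.single (t.1 + t.2.1, t.2.2) 1 - Finsupp.single (t.1, t.2.1 + t.2.2) 1
    + Finsupp.single (t.1, t.2.1) 1 - Finsupp.single (t.2.1, t.2.2) 1)

noncomputable def d1' : (P × P →₀ ℤ) →ₗ[ℤ] (P × P →₀ ℤ) := Finsupp.linearCombination ℤ
  (fun pq : P × P => Finsupp.single pq 1 - Finsupp.single (pq.2, pq.1) 1)

lemma eps_single (p : P) : eps P (Finsupp.single p 1) = p := by
  rw [eps, Finsupp.linearCombination_single, one_smul]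

lemma d0_single (p q : P) : d0 P (Finsupp.single (p, q) 1) =
    Finsupp.single (p + q) 1 - Finsupp.single p 1 - Finsupp.single q 1 := by
  rw [d0, Finsupp.linearCombination_single, one_smul]

lemma d1_single (p q r : P) : d1 P (Finsupp.single (p, q, r) 1) =
    Finsupp.single (p + q, r) 1 - Finsupp.single (p, q + r) 1
      + Finsupp.single (p, q) 1 - Finsupp.single (q, r) 1 := by
  rw [d1, Finsupp.linearCombination_single, one_smul]

lemma d1'_single (p q : P) : d1' P (Finsupp.single (p, q) 1) =
    Finsupp.single (p, q) 1 - Finsupp.single (q, p) 1 := by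
  rw [d1', Finsupp.linearCombination_single, one_smul]

lemma part1 : Function.Surjective (eps P) := fun p => ⟨Finsupp.single p 1, eps_single P p⟩

lemma eps_d0 : (eps P).comp (d0 P) = 0 := by
  apply Finsupp.lhom_ext'
  intro pq
  apply LinearMap.ext_ring
  obtain ⟨p, q⟩ := pq
  show eps P (d0 P (Finsupp.single (p, q) 1)) = 0
  rw [d0_single, map_sub, map_sub, eps_single, eps_single, eps_single]
  abel

lemma d0_d1 : (d0 P).comp (d1 P) = 0 := by
  apply Finsupp.lhom_ext'
  intro t
  apply LinearMap.ext_ring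
  obtain ⟨p, q, r⟩ := t
  show d0 P (d1 P (Finsupp.single (p, q, r) 1)) = 0
  rw [d1_single, map_sub, map_add, map_sub, d0_single, d0_single, d0_single, d0_single,
    add_assoc p q r]
  abel

lemma d0_d1' : (d0 P).comp (d1' P) = 0 := by
  apply Finsupp.lhom_ext'
  intro pq
  apply LinearMap.ext_ring
  obtain ⟨p, q⟩ := pq
  show d0 P (d1' P (Finsupp.single (p, q) 1)) = 0
  rw [d1'_single, map_sub, d0_single, d0_single, add_comm q p]
  abel

lemma part2 : LinearMap.ker (eps P) = LinearMap.range (d0 P) := by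
  apply le_antisymm
  · intro x hx
    rw [LinearMap.mem_ker] at hx
    have hadd : ∀ p q : P, (LinearMap.range (d0 P)).mkQ (Finsupp.single (p + q) 1) =
        (LinearMap.range (d0 P)).mkQ (Finsupp.single p 1) +
          (LinearMap.range (d0 P)).mkQ (Finsupp.single q 1) := by
      intro p q
      have hm : Finsupp.single (p + q) (1 : ℤ) - Finsupp.single p 1 - Finsupp.single q 1 ∈
          LinearMap.range (d0 P) := ⟨Finsupp.single (p, q) 1, d0_single P p q⟩
      have h2 : (LinearMap.range (d0 P)).mkQ
          (Finsupp.single (p + q) 1 - Finsupp.single p 1 - Finsupp.single q 1) = 0 :=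
        (Submodule.Quotient.mk_eq_zero _).mpr hm
      rw [map_sub, map_sub, sub_sub, sub_eq_zero] at h2
      exact h2
    let s : P →+ (P →₀ ℤ) ⧸ LinearMap.range (d0 P) :=
      AddMonoidHom.mk' (fun p => (LinearMap.range (d0 P)).mkQ (Finsupp.single p 1)) hadd
    have hcomp : s.toIntLinearMap.comp (eps P) = (LinearMap.range (d0 P)).mkQ := by
      apply Finsupp.lhom_ext'
      intro p
      apply LinearMap.ext_ring
      show s (eps P (Finsupp.single p 1)) = (LinearMap.range (d0 P)).mkQ (Finsupp.single p 1)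
      rw [eps_single]
      rfl
    have h3 := LinearMap.congr_fun hcomp x
    rw [LinearMap.comp_apply, hx, map_zero] at h3
    exact (Submodule.Quotient.mk_eq_zero _).mp h3.symm
  · rintro _ ⟨y, rfl⟩
    rw [LinearMap.mem_ker]
    exact LinearMap.congr_fun (eps_d0 P) y

lemma part3 : LinearMap.ker (d0 P) = LinearMap.range (d1 P) ⊔ LinearMap.range (d1' P) := by
  apply le_antisymm
  · intro x hx
    rw [LinearMap.mem_ker] at hx
    let C : Coc P ((P × P →₀ ℤ) ⧸ (LinearMap.range (d1 P) ⊔ LinearMap.range (d1' P))) :=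
      { c := fun p q => (LinearMap.range (d1 P) ⊔ LinearMap.range (d1' P)).mkQ
          (Finsupp.single (p, q) 1)
        coc := by
          intro p q r
          have hm : Finsupp.single (p + q, r) (1 : ℤ) - Finsupp.single (p, q + r) 1
              + Finsupp.single (p, q) 1 - Finsupp.single (q, r) 1 ∈
              LinearMap.range (d1 P) ⊔ LinearMap.range (d1' P) :=
            le_sup_left (a := LinearMap.range (d1 P))
              ⟨Finsupp.single (p, q, r) 1, d1_single P p q r⟩
          have h2 := (Submodule.Quotient.mk_eq_zero _).mpr hm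
          rw [← Submodule.mkQ_apply, map_sub, map_add, map_sub] at h2
          exact h2
        symm := by
          intro p q
          have hm : Finsupp.single (p, q) (1 : ℤ) - Finsupp.single (q, p) 1 ∈
              LinearMap.range (d1 P) ⊔ LinearMap.range (d1' P) :=
            le_sup_right (b := LinearMap.range (d1' P))
              ⟨Finsupp.single (p, q) 1, d1'_single P p q⟩
          have h2 := (Submodule.Quotient.mk_eq_zero _).mpr hm
          rw [← Submodule.mkQ_apply, map_sub, sub_eq_zero] at h2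
          exact h2 }
    have hmain : C.psi.comp (d0 P) =
        -(C.j.toIntLinearMap.comp (LinearMap.range (d1 P) ⊔ LinearMap.range (d1' P)).mkQ) := by
      apply Finsupp.lhom_ext'
      intro pq
      apply LinearMap.ext_ring
      obtain ⟨p, q⟩ := pq
      show C.psi (d0 P (Finsupp.single (p, q) 1)) = -(C.j (C.c p q))
      rw [d0_single, map_sub, map_sub, C.psi_single, C.psi_single, C.psi_single, C.j_apply]
      exact aux_grp (C.key p q)
    have h3 := LinearMap.congr_fun hmain x
    rw [LinearMap.comp_apply, hx, map_zero] at h3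
    have h4 : C.j ((LinearMap.range (d1 P) ⊔ LinearMap.range (d1' P)).mkQ x) = 0 := by
      have h5 : -(C.j ((LinearMap.range (d1 P) ⊔ LinearMap.range (d1' P)).mkQ x)) = 0 := h3.symm
      exact neg_eq_zero.mp h5
    have h6 := C.j_inj _ h4
    exact (Submodule.Quotient.mk_eq_zero _).mp h6
  · rw [sup_le_iff]
    constructor
    · rintro _ ⟨y, rfl⟩
      rw [LinearMap.mem_ker]
      exact LinearMap.congr_fun (d0_d1 P) y
    · rintro _ ⟨y, rfl⟩
      rw [LinearMap.mem_ker]
      exact LinearMap.congr_fun (d0_d1' P) y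

end


/-- In the case of the punctual topos (ordinary abelian groups): let P be an abelian group and consider
the complex of free abelian groups Z[P × P × P] ⊕ Z[P × P] → Z[P × P] → Z[P], augmented to P by [p]
↦ p, with d₀[p, q] = [p + q] − [p] − [q], with d₁ on the first summand given by [p, q, r] ↦ [p + q,
r] − [p, q + r] + [p, q] − [q, r] and on the second summand by [p, q] ↦ [p, q] − [q, p]. Then the
augmentation is surjective with kernel the image of d₀ (so H₀ is P), and the kernel of d₀ is the sum
of the images of the two components of d₁ (so H₁ vanishes). (The published statement is for abelian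
sheaves on an arbitrary topos; this row is its case of a one-point space.) -/
theorem result (P : Type u) [AddCommGroup P] :
    letI ε : (P →₀ ℤ) →ₗ[ℤ] P := Finsupp.linearCombination ℤ (fun p : P => p)
    letI d₀ : (P × P →₀ ℤ) →ₗ[ℤ] (P →₀ ℤ) := Finsupp.linearCombination ℤ
      (fun pq : P × P => Finsupp.single (pq.1 + pq.2) 1 - Finsupp.single pq.1 1 - Finsupp.single pq.2 1)
    letI d₁ : (P × P × P →₀ ℤ) →ₗ[ℤ] (P × P →₀ ℤ) := Finsupp.linearCombination ℤ
      (fun t : P × P × P => Finsupp.single (t.1 + t.2.1, t.2.2) 1 - Finsupp.single (t.1, t.2.1 + t.2.2) 1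
        + Finsupp.single (t.1, t.2.1) 1 - Finsupp.single (t.2.1, t.2.2) 1)
    letI d₁' : (P × P →₀ ℤ) →ₗ[ℤ] (P × P →₀ ℤ) := Finsupp.linearCombination ℤ
      (fun pq : P × P => Finsupp.single pq 1 - Finsupp.single (pq.2, pq.1) 1)
    Function.Surjective ε ∧ LinearMap.ker ε = LinearMap.range d₀ ∧
      LinearMap.ker d₀ = LinearMap.range d₁ ⊔ LinearMap.range d₁' := by
  exact ⟨part1 P, part2 P, part3 P⟩

end Groth.Agent.S8705
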