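import Groth.Statements.S8710
import Mathlib
import Mathlib
import Groth.Agent.H19.FlatCech

set_option autoImplicit false
universe u
open CategoryTheory CategoryTheory.Limits
open SGA7

namespace Groth.Agent.S8710

/-- Let f : B' → B be a surjective map of R-algebras with B' flat over R, g : C → B a map of R-algebras,
P = B' ×_B C their fibre product (the equalizer of f ∘ pr₁ and g ∘ pr₂ in B' × C), S an R-algebra
and n a natural number. If Tor_i^R(C, S) = 0 for 0 < i < n and Tor_i^R(B, S) = 0 for 0 < i ≤ n, then
Tor_i^R(P, S) = 0 for 0 < i < n. Here Tor_i^R(M, S) is the i-th left derived functor of M ⊗_R − on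
R-modules, evaluated at S. (The published statement asks the vanishing for B only in degrees 0 < i <
n; the published proof and the corollary following it use it in degrees 0 < i ≤ n, which this row
assumes.) -/
theorem result (R B' B C S : Type u) [CommRing R] [CommRing B'] [CommRing B]
    [CommRing C] [CommRing S] [Algebra R B'] [Algebra R B] [Algebra R C] [Algebra R S]
    (f : B' →ₐ[R] B) (hf : Function.Surjective f) (g : C →ₐ[R] B) [Module.Flat R B'] (n : ℕ)
    (hC : ∀ i : ℕ, 0 < i → i < n →
      IsZero (((Tor (ModuleCat.{u} R) i).obj (ModuleCat.of R C)).obj (ModuleCat.of R S)))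
    (hB : ∀ i : ℕ, 0 < i → i ≤ n →
      IsZero (((Tor (ModuleCat.{u} R) i).obj (ModuleCat.of R B)).obj (ModuleCat.of R S))) :
    letI P := AlgHom.equalizer (f.comp (AlgHom.fst R B' C)) (g.comp (AlgHom.snd R B' C))
    ∀ i : ℕ, 0 < i → i < n →
      IsZero (((Tor (ModuleCat.{u} R) i).obj (ModuleCat.of R ↥P)).obj (ModuleCat.of R S)) := by
  intro i hi1 hi2
  let P := AlgHom.equalizer (f.comp (AlgHom.fst R B' C)) (g.comp (AlgHom.snd R B' C))
  let d : B' × C →ₗ[R] B :=
    f.toLinearMap ∘ₗ LinearMap.fst R B' C - g.toLinearMap ∘ₗ LinearMap.snd R B' C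
  have hd : ∀ x : B' × C, d x = f x.1 - g x.2 := fun x => rfl
  have hex : Function.Exact P.val.toLinearMap d := by
    intro x
    rw [hd, sub_eq_zero]
    constructor
    · intro hx
      exact ⟨⟨x, hx⟩, rfl⟩
    · rintro ⟨y, rfl⟩
      exact y.2
  have hinj : Function.Injective P.val.toLinearMap := Subtype.val_injective
  have hsurj : Function.Surjective d := by
    intro b
    obtain ⟨b', rfl⟩ := hf b
    exact ⟨(b', 0), by rw [hd]; simp⟩
  have hB' : IsZero (Groth.Agent.H19.RegTor.T R S i B') := by
    haveI : Subsingleton (DRing.Tor R i B' S) := (Groth.Agent.S3527.result R B' S i hi1).1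
    exact ModuleCat.isZero_of_subsingleton _
  have hprod : IsZero (Groth.Agent.H19.RegTor.T R S i (B' × C)) :=
    Groth.Agent.H19.FlatCech.isZero_mid' S (LinearMap.inl R B' C) (LinearMap.snd R B' C)
      Function.Exact.inl_snd LinearMap.inl_injective LinearMap.snd_surjective i hB' (hC i hi1 hi2)
  exact Groth.Agent.H19.FlatCech.isZero_left S P.val.toLinearMap d hex hinj hsurj i
    (hB (i + 1) (by omega) (by omega)) hprod

end Groth.Agent.S8710
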