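import Groth.Statements.S8716
import Groth.Agent.H28.ConstGrp
import Groth.Agent.H28.ExtGrp

set_option autoImplicit false
universe u
open CategoryTheory CategoryTheory.Limits MonoidalCategory CartesianMonoidalCategory MonObj AlgebraicGeometry
open SGA7

namespace Groth.Agent.S8716

/-- Let k be a field, Z a commutative group without non-trivial elements of finite order, P a
commutative k-group scheme of finite type (so that its group of connected components is a finite,
hence torsion, group), G the constant k-group scheme Z_k (through the isomorphism eG), and u : G →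
E, v : E → P homomorphisms of commutative k-group schemes forming a sequence 1 → G → E → P → 1 exact
for the fppf topology. Then the extension is rigid: every automorphism of the k-group scheme E
compatible with u and v is the identity. (The published statement assumes only P locally of finite
type with torsion component group; this row takes P of finite type, the case it names.) -/
theorem result (k : Type u) [Field k]
    (Z : Type u) [CommGroup Z] (hZ : ∀ z : Z, IsOfFinOrder z → z = 1)
    (P E G : Over (Spec (CommRingCat.of k))) [GrpObj P] [GrpObj E] [GrpObj G]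
    [IsCommMonObj P] [IsCommMonObj E]
    [LocallyOfFiniteType P.hom] [QuasiCompact P.hom]
    (eG : G ≅ TwC.const (Spec (CommRingCat.of k)) Z) (hG : TwC.IsConstGrp Z G eG)
    (u : G ⟶ E) (v : E ⟶ P) (hex : NonAbH1.IsExactSeq Scheme.fppfPrecoverage u v)
    (φ : E ≅ E) [IsMonHom φ.hom] (hφu : u ≫ φ.hom = u) (hφv : φ.hom ≫ v = v) :
    φ.hom = 𝟙 E := by
  obtain ⟨hu, hv, huv, hpb, hloc⟩ := hex
  have hcov : Groth.Agent.H28.FpqcCov.Cov v.left :=
    Groth.Agent.H28.TorsRed.cov_of_locTriv (Over.mk v.left) _
      Scheme.fppfPrecoverage_le_fpqcPrecoverage hloc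
  obtain ⟨δ, hδdef⟩ : ∃ δ : E ⟶ E, δ = φ.hom * (𝟙 E)⁻¹ := ⟨_, rfl⟩
  have hδ : IsMonHom δ := by
    rw [hδdef, Hom.mul_def]
    infer_instance
  have hδv : δ ≫ v = 1 := by
    rw [hδdef, MonObj.mul_comp, GrpObj.inv_comp, hφv, Category.id_comp, mul_inv_cancel]
  have huδ : u ≫ δ = 1 := by
    rw [hδdef, MonObj.comp_mul, GrpObj.comp_inv, hφu, Category.comp_id, mul_inv_cancel]
  obtain ⟨d, hd⟩ := Groth.Agent.H28.ExtGrp.ker_lift u v hpb δ hδv
  have hud : u ≫ d = 1 := by
    apply Groth.Agent.H28.ExtGrp.u_inj u v hpb
    rw [Category.assoc, hd, huδ, MonObj.one_comp]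
  have hdm : IsMonHom d := by
    constructor
    · apply Groth.Agent.H28.ExtGrp.u_inj u v hpb
      rw [Category.assoc, hd, IsMonHom.one_hom, IsMonHom.one_hom]
    · apply Groth.Agent.H28.ExtGrp.u_inj u v hpb
      rw [Category.assoc, hd, IsMonHom.mul_hom, Category.assoc, IsMonHom.mul_hom,
        ← Category.assoc, MonoidalCategory.tensorHom_comp_tensorHom, hd]
  obtain ⟨d', hd'⟩ := Groth.Agent.H28.ExtGrp.desc u v hpb hcov d (by
    intro T x w
    rw [MonObj.mul_comp, Category.assoc, hud, MonObj.comp_one, _root_.mul_one])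
  have hcpt : CompactSpace P.left := QuasiCompact.compactSpace_of_compactSpace P.hom
  have hd1 : d = 1 :=
    Groth.Agent.H28.ConstGrp.hom_eq_one_of_compact eG hG v d d' hd' hZ
  have hδ1 : δ = 1 := by rw [← hd, hd1, MonObj.one_comp]
  rw [hδdef, mul_inv_eq_one] at hδ1
  exact hδ1

end Groth.Agent.S8716
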