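import Groth.Statements.S8718
import Groth.Agent.H28.ExtGrp

set_option autoImplicit false
universe u
open CategoryTheory CategoryTheory.Limits MonoidalCategory CartesianMonoidalCategory MonObj AlgebraicGeometry
open SGA7

namespace Groth.Agent.S8718

/-- For group schemes over a base scheme S (the representable case on the fppf site): let P and G be
S-group schemes with G commutative, and u : G → E, v : E → P homomorphisms of S-group schemes
forming a sequence 1 → G → E → P → 1 exact for the fppf topology. Suppose every morphism of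
S-schemes P ×_S G → G whose restrictions to P × e_G and to e_P × G are trivial is trivial. Then u(G)
is central in E: for all points g of G and x of E with values in any S-scheme, u(g) x = x u(g). If
moreover P is commutative and every morphism of S-schemes P ×_S P → G trivial on P × e_P and on e_P
× P is trivial, then E is commutative. (The published statement is for sheaves of groups on an
arbitrary topos; this row is its case of representable sheaves on the fppf site of S. Morphisms to G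
form a group; trivial means equal to its unit.) -/
theorem result (S : Scheme.{u})
    (P G E : Over S) [GrpObj P] [GrpObj G] [GrpObj E] [IsCommMonObj G]
    (u : G ⟶ E) (v : E ⟶ P) (hex : NonAbH1.IsExactSeq Scheme.fppfPrecoverage u v)
    (hPG : ∀ f : P ⊗ G ⟶ G, lift (𝟙 P) (toUnit P ≫ η[G]) ≫ f = 1 → lift (toUnit G ≫ η[P]) (𝟙 G) ≫ f = 1 → f = 1) :
    (∀ (T : Over S) (g : T ⟶ G) (x : T ⟶ E), (g ≫ u) * x = x * (g ≫ u)) ∧
      (IsCommMonObj P →
        (∀ f : P ⊗ P ⟶ G, lift (𝟙 P) (toUnit P ≫ η[P]) ≫ f = 1 → lift (toUnit P ≫ η[P]) (𝟙 P) ≫ f = 1 → f = 1) →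
          IsCommMonObj E) := by
  obtain ⟨hu1, hv1, huv, hpb, hloc⟩ := hex
  have := hu1
  have := hv1
  have hcov : Groth.Agent.H28.FpqcCov.Cov v.left :=
    Groth.Agent.H28.TorsRed.cov_of_locTriv (Over.mk v.left : Over P.left) _
      Scheme.fppfPrecoverage_le_fpqcPrecoverage hloc
  have hepi : Epi v := Groth.Agent.H28.FpqcCov.epi_of_cov v hcov
  -- first part: centrality
  have hcentral : ∀ (T : Over S) (g : T ⟶ G) (x : T ⟶ E), (g ≫ u) * x = x * (g ≫ u) := by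
    obtain ⟨d, hd⟩ : ∃ d : E ⊗ G ⟶ E,
        d = fst E G * (snd E G ≫ u) * (fst E G)⁻¹ * (snd E G ≫ u)⁻¹ := ⟨_, rfl⟩
    have hdpt : ∀ {T : Over S} (x : T ⟶ E) (g : T ⟶ G),
        lift x g ≫ d = x * (g ≫ u) * x⁻¹ * (g ≫ u)⁻¹ := by
      intro T x g
      rw [hd, MonObj.comp_mul, MonObj.comp_mul, MonObj.comp_mul, GrpObj.comp_inv, GrpObj.comp_inv,
        ← Category.assoc, lift_fst, lift_snd]
    have hdv : d ≫ v = 1 := by
      rw [hd, MonObj.mul_comp, MonObj.mul_comp, MonObj.mul_comp, GrpObj.inv_comp, GrpObj.inv_comp,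
        Category.assoc, huv, MonObj.comp_one, _root_.mul_one, mul_inv_cancel, inv_one,
        _root_.mul_one]
    obtain ⟨c, hc⟩ := Groth.Agent.H28.ExtGrp.ker_lift u v hpb d hdv
    have hcpt : ∀ {T : Over S} (x : T ⟶ E) (g : T ⟶ G),
        (lift x g ≫ c) ≫ u = x * (g ≫ u) * x⁻¹ * (g ≫ u)⁻¹ := by
      intro T x g
      rw [Category.assoc, hc, hdpt]
    have hinv : ∀ (T : Over S) (x : T ⟶ E) (w : T ⟶ G) (g : T ⟶ G),
        lift (x * (w ≫ u)) g ≫ c = lift x g ≫ c := by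
      intro T x w g
      apply Groth.Agent.H28.ExtGrp.u_inj u v hpb
      rw [hcpt, hcpt]
      have hcomm : (w ≫ u) * (g ≫ u) = (g ≫ u) * (w ≫ u) := by
        rw [← MonObj.mul_comp, ← MonObj.mul_comp, mul_comm]
      have h2 : (w ≫ u) * (g ≫ u) * (w ≫ u)⁻¹ = g ≫ u := by
        rw [hcomm, mul_inv_cancel_right]
      calc x * (w ≫ u) * (g ≫ u) * (x * (w ≫ u))⁻¹ * (g ≫ u)⁻¹
          = x * ((w ≫ u) * (g ≫ u) * (w ≫ u)⁻¹) * x⁻¹ * (g ≫ u)⁻¹ := by group
        _ = _ := by rw [h2]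
    obtain ⟨b, hb⟩ := Groth.Agent.H28.ExtGrp.desc_whiskerRight u v hpb hcov c hinv
    have hax1 : lift (𝟙 P) (toUnit P ≫ η[G]) ≫ b = 1 := by
      rw [← cancel_epi v]
      have e : v ≫ lift (𝟙 P) (toUnit P ≫ η[G]) = lift (𝟙 E) (1 : E ⟶ G) ≫ (v ▷ G) := by
        ext
        · simp
        · simp [Hom.one_def]
      rw [← Category.assoc, e, Category.assoc, hb, MonObj.comp_one]
      apply Groth.Agent.H28.ExtGrp.u_inj u v hpb
      rw [hcpt]
      simp [MonObj.one_comp]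
    have hax2 : lift (toUnit G ≫ η[P]) (𝟙 G) ≫ b = 1 := by
      have e : lift (toUnit G ≫ η[P]) (𝟙 G) = lift (1 : G ⟶ E) (𝟙 G) ≫ (v ▷ G) := by
        ext
        · simp [Hom.one_def]
        · simp
      rw [e, Category.assoc, hb]
      apply Groth.Agent.H28.ExtGrp.u_inj u v hpb
      rw [hcpt]
      simp [MonObj.one_comp]
    have hb1 : b = 1 := hPG b hax1 hax2
    have hc1 : c = 1 := by rw [← hb, hb1, MonObj.comp_one]
    intro T g x
    have h3 := hcpt x g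
    rw [hc1, MonObj.comp_one, MonObj.one_comp] at h3
    have h4 := mul_inv_eq_one.mp h3.symm
    exact (mul_inv_eq_iff_eq_mul.mp h4).symm
  refine ⟨hcentral, ?_⟩
  intro hPc hPP
  have := hPc
  obtain ⟨d, hd⟩ : ∃ d : E ⊗ E ⟶ E,
      d = fst E E * snd E E * (fst E E)⁻¹ * (snd E E)⁻¹ := ⟨_, rfl⟩
  have hdpt : ∀ {T : Over S} (x y : T ⟶ E), lift x y ≫ d = x * y * x⁻¹ * y⁻¹ := by
    intro T x y
    rw [hd, MonObj.comp_mul, MonObj.comp_mul, MonObj.comp_mul, GrpObj.comp_inv, GrpObj.comp_inv,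
      lift_fst, lift_snd]
  have hdv : d ≫ v = 1 := by
    rw [hd, MonObj.mul_comp, MonObj.mul_comp, MonObj.mul_comp, GrpObj.inv_comp, GrpObj.inv_comp]
    exact mul_inv_eq_one.mpr (mul_inv_eq_iff_eq_mul.mpr (mul_comm _ _))
  obtain ⟨c, hc⟩ := Groth.Agent.H28.ExtGrp.ker_lift u v hpb d hdv
  have hcpt : ∀ {T : Over S} (x y : T ⟶ E), (lift x y ≫ c) ≫ u = x * y * x⁻¹ * y⁻¹ := by
    intro T x y
    rw [Category.assoc, hc, hdpt]
  have hinv : ∀ (T : Over S) (x y : T ⟶ E) (w z : T ⟶ G),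
      lift (x * (w ≫ u)) (y * (z ≫ u)) ≫ c = lift x y ≫ c := by
    intro T x y w z
    apply Groth.Agent.H28.ExtGrp.u_inj u v hpb
    rw [hcpt, hcpt]
    have hw : ∀ t : T ⟶ E, (w ≫ u) * t = t * (w ≫ u) := fun t => hcentral T w t
    have hz : ∀ t : T ⟶ E, (z ≫ u) * t = t * (z ≫ u) := fun t => hcentral T z t
    calc x * (w ≫ u) * (y * (z ≫ u)) * (x * (w ≫ u))⁻¹ * (y * (z ≫ u))⁻¹
        = x * ((w ≫ u) * (y * (z ≫ u) * (w ≫ u)⁻¹)) * x⁻¹ * (z ≫ u)⁻¹ * y⁻¹ := by group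
      _ = x * ((y * (z ≫ u) * (w ≫ u)⁻¹) * (w ≫ u)) * x⁻¹ * (z ≫ u)⁻¹ * y⁻¹ := by rw [hw]
      _ = x * y * ((z ≫ u) * x⁻¹) * (z ≫ u)⁻¹ * y⁻¹ := by group
      _ = x * y * (x⁻¹ * (z ≫ u)) * (z ≫ u)⁻¹ * y⁻¹ := by rw [hz]
      _ = _ := by group
  obtain ⟨b, hb⟩ := Groth.Agent.H28.ExtGrp.desc_tensor u v hpb hcov c hinv
  have hax1 : lift (𝟙 P) (toUnit P ≫ η[P]) ≫ b = 1 := by
    rw [← cancel_epi v]
    have e : v ≫ lift (𝟙 P) (toUnit P ≫ η[P]) = lift (𝟙 E) (1 : E ⟶ E) ≫ (v ⊗ₘ v) := by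
      ext
      · simp
      · simp [Hom.one_def]
    rw [← Category.assoc, e, Category.assoc, hb, MonObj.comp_one]
    apply Groth.Agent.H28.ExtGrp.u_inj u v hpb
    rw [hcpt]
    simp [MonObj.one_comp]
  have hax2 : lift (toUnit P ≫ η[P]) (𝟙 P) ≫ b = 1 := by
    rw [← cancel_epi v]
    have e : v ≫ lift (toUnit P ≫ η[P]) (𝟙 P) = lift (1 : E ⟶ E) (𝟙 E) ≫ (v ⊗ₘ v) := by
      ext
      · simp [Hom.one_def]
      · simp
    rw [← Category.assoc, e, Category.assoc, hb, MonObj.comp_one]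
    apply Groth.Agent.H28.ExtGrp.u_inj u v hpb
    rw [hcpt]
    simp [MonObj.one_comp]
  have hb1 : b = 1 := hPP b hax1 hax2
  have hc1 : c = 1 := by rw [← hb, hb1, MonObj.comp_one]
  rw [isCommMonObj_iff_isMulCommutative]
  intro X
  refine ⟨⟨fun x y => ?_⟩⟩
  have h3 := hcpt x y
  rw [hc1, MonObj.comp_one, MonObj.one_comp] at h3
  have h4 := mul_inv_eq_one.mp h3.symm
  exact mul_inv_eq_iff_eq_mul.mp h4

end Groth.Agent.S8718
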