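import Groth.Statements.S8719
import Mathlib
import Groth.Agent.H3.MvPSDim

set_option linter.style.haveILetI false

set_option autoImplicit false
universe u
open VanCyc

namespace Groth.Agent.S8719

section Aux

open MvPowerSeries IsLocalRing

variable {k : Type u} [Field k] {N : ℕ}

/-- A power series with vanishing constant and linear coefficients lies in `𝔪²`. -/
theorem mem_sq (g : MvPowerSeries (Fin N) k) (h0 : constantCoeff g = 0)
    (h1 : ∀ i, coeff (Finsupp.single i 1) g = 0) :
    g ∈ Ideal.span (Set.range (X : Fin N → MvPowerSeries (Fin N) k)) ^ 2 := by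
  classical
  have hg := Groth.Agent.H3.MvPSDim.mem_span_X g h0
  obtain ⟨c, hc⟩ := (Ideal.mem_span_range_iff_exists_fun).mp hg
  have hcj : ∀ j, constantCoeff (c j) = 0 := by
    intro j
    have h := h1 j
    rw [← hc, map_sum] at h
    have key : ∀ i, coeff (Finsupp.single j 1) (c i * X i) =
        if i = j then constantCoeff (c i) else 0 := by
      intro i
      rw [X_def, coeff_mul_monomial]
      by_cases hij : i = j
      · subst hij
        rw [if_pos le_rfl, if_pos rfl, tsub_self, mul_one, coeff_zero_eq_constantCoeff_apply]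
      · rw [if_neg hij, if_neg]
        intro hle
        have h2 := hle i
        simp [Finsupp.single_apply, Ne.symm hij] at h2
    simp only [key, Finset.sum_ite_eq', Finset.mem_univ, if_true] at h
    exact h
  rw [← hc, pow_two]
  refine Ideal.sum_mem _ fun i _ => Ideal.mul_mem_mul ?_ (Ideal.subset_span ⟨i, rfl⟩)
  exact Groth.Agent.H3.MvPSDim.mem_span_X _ (hcj i)

theorem main (f : MvPowerSeries (Fin N) k) (hf : VanCyc.NondegQuadSeries f) :
    Ideal.span (Set.range fun i : Fin N => MvPowerSeries.pderiv k i f) =
      IsLocalRing.maximalIdeal (MvPowerSeries (Fin N) k) := by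
  classical
  obtain ⟨⟨hc0, hlin⟩, hdet⟩ := hf
  rw [Groth.Agent.H3.MvPSDim.maximalIdeal_eq_span_X]
  set P : Matrix (Fin N) (Fin N) k := polarMatrix (quadPart f) with hP
  have hdet' : IsUnit P.det := hdet
  -- coefficients of the partial derivatives
  have hA0 : ∀ i, constantCoeff (pderiv k i f) = 0 := by
    intro i
    rw [← coeff_zero_eq_constantCoeff_apply, coeff_pderiv, zero_add, hlin i, zero_mul]
  have hA1 : ∀ i l, coeff (Finsupp.single l 1) (pderiv k i f) = P i l := by
    intro i l
    rw [coeff_pderiv, hP]
    unfold polarMatrix quadPart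
    by_cases hil : i = l
    · subst hil
      simp only [if_true, Finsupp.single_eq_same]
      rw [← Finsupp.single_add]
      norm_num
      ring
    · have hli : l ≠ i := Ne.symm hil
      have h0 : (Finsupp.single l 1 : Fin N →₀ ℕ) i = 0 := by
        rw [Finsupp.single_apply, if_neg hli]
      rw [h0]
      simp only [if_neg hil]
      rcases lt_or_gt_of_ne hil with hlt | hgt
      · simp only [if_pos hlt]
        rw [add_comm (Finsupp.single l 1)]
        simp
      · have hnlt : ¬ i < l := not_lt.mpr hgt.le
        simp only [if_neg hnlt, if_neg hli, if_pos hgt]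
        simp
  -- remainders
  let r : Fin N → MvPowerSeries (Fin N) k := fun i =>
    pderiv k i f - ∑ l, C (P i l) * X l
  have hr : ∀ i, r i ∈ Ideal.span (Set.range (X : Fin N → MvPowerSeries (Fin N) k)) ^ 2 := by
    intro i
    apply mem_sq
    · simp only [r, map_sub, hA0, map_sum, map_mul, constantCoeff_X, mul_zero,
        Finset.sum_const_zero, sub_zero]
    · intro j
      simp only [r, map_sub, hA1, map_sum, coeff_C_mul, coeff_index_single_X]
      simp
  -- inverse matrix
  have hBP : P⁻¹ * P = 1 := Matrix.nonsing_inv_mul P hdet'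
  have hXj : ∀ j, (X j : MvPowerSeries (Fin N) k) =
      ∑ i, C (P⁻¹ j i) * pderiv k i f - ∑ i, C (P⁻¹ j i) * r i := by
    intro j
    rw [← Finset.sum_sub_distrib]
    have h1 : ∀ i, C (P⁻¹ j i) * pderiv k i f - C (P⁻¹ j i) * r i =
        ∑ l, C (P⁻¹ j i) * (C (P i l) * X l) := by
      intro i
      rw [← mul_sub, ← Finset.mul_sum]
      congr 1
      simp only [r, sub_sub_cancel]
    simp only [h1]
    rw [Finset.sum_comm]
    have h2 : ∀ l, ∑ i, C (P⁻¹ j i) * (C (P i l) * (X l : MvPowerSeries (Fin N) k)) =
        C ((P⁻¹ * P) j l) * X l := by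
      intro l
      rw [Matrix.mul_apply, map_sum, Finset.sum_mul]
      refine Finset.sum_congr rfl fun i _ => ?_
      rw [map_mul, mul_assoc]
    simp only [h2, hBP, Matrix.one_apply]
    rw [Finset.sum_eq_single j (fun l _ hl => by rw [if_neg (Ne.symm hl), map_zero, zero_mul])
      (fun h => absurd (Finset.mem_univ j) h), if_pos rfl, map_one, one_mul]
  apply le_antisymm
  · rw [Ideal.span_le]
    rintro _ ⟨i, rfl⟩
    exact Groth.Agent.H3.MvPSDim.mem_span_X _ (hA0 i)
  · have hfg : (Ideal.span (Set.range (X : Fin N → MvPowerSeries (Fin N) k))).FG :=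
      Submodule.fg_span (Set.finite_range _)
    have hjac : Ideal.span (Set.range (X : Fin N → MvPowerSeries (Fin N) k)) ≤
        Ideal.jacobson ⊥ := by
      rw [← Groth.Agent.H3.MvPSDim.maximalIdeal_eq_span_X]
      exact IsLocalRing.maximalIdeal_le_jacobson ⊥
    refine Submodule.le_of_le_smul_of_le_jacobson_bot hfg hjac ?_
    rw [smul_eq_mul, ← pow_two, Ideal.span_le]
    rintro _ ⟨j, rfl⟩
    rw [SetLike.mem_coe, hXj j]
    refine Submodule.sub_mem _ (Submodule.mem_sup_left ?_) (Submodule.mem_sup_right ?_)
    · exact Ideal.sum_mem _ fun i _ => Ideal.mul_mem_left _ _ (Ideal.subset_span ⟨i, rfl⟩)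
    · exact Ideal.sum_mem _ fun i _ => Ideal.mul_mem_left _ _ (hr i)

end Aux

/-- The formal computation carried out in its proof: let k be a field and f a power series in k[[x_0,
..., x_n]] with vanishing constant and linear terms whose degree-two part is a non-degenerate
quadratic form (the Gram determinant of its polar bilinear form is a unit). Then the partial
derivatives of f generate the maximal ideal of k[[x_0, ..., x_n]] (so f together with its partial
derivatives cut out the origin with multiplicity one). -/
theorem result (k : Type u) [Field k] (n : ℕ)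
    (f : MvPowerSeries (Fin (n + 1)) k) (hf : VanCyc.NondegQuadSeries f) :
    Ideal.span (Set.range fun i : Fin (n + 1) => MvPowerSeries.pderiv k i f) =
      IsLocalRing.maximalIdeal (MvPowerSeries (Fin (n + 1)) k) := by
  exact main f hf

end Groth.Agent.S8719
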