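import Groth.Statements.S8721
import Mathlib
import Mathlib
import Groth.Agent.Lib.Helper8.QLinear

set_option autoImplicit false
universe u v
open SGA7II

namespace Groth.Agent.S8721

/-- Let k be a separably closed field of characteristic p > 0, q = p^r with r >= 1, V a
finite-dimensional k-vector space and phi : V -> V additive with phi(c v) = c^q phi(v). Let V_ss be
the intersection, over n >= 1, of the k-subspaces spanned by the images of the iterates phi^n (the
semisimple part of V). Then V_ss has a k-basis consisting of phi-fixed vectors, and every phi-fixed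
vector of V is a linear combination of this basis with coefficients c satisfying c^q = c; that is,
V_ss is obtained from the F_q-space of fixed vectors by extension of scalars. -/
theorem result (k : Type u) [Field k] [IsSepClosed k] (p : ℕ)
    [Fact p.Prime] [CharP k p] (r : ℕ) (hr : 0 < r) (V : Type v) [AddCommGroup V] [Module k V]
    [FiniteDimensional k V] (φ : V →+ V) (hφ : ∀ (c : k) (v : V), φ (c • v) = c ^ (p ^ r) • φ v) :
    let Vss : Submodule k V := ⨅ n : ℕ, Submodule.span k (Set.range (φ^[n + 1]))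
    ∃ b : Module.Basis (Fin (Module.finrank k ↥Vss)) k ↥Vss, (∀ i, φ (b i : V) = (b i : V)) ∧
      ∀ v : V, φ v = v → ∃ c : Fin (Module.finrank k ↥Vss) → k,
        (∀ i, c i ^ (p ^ r) = c i) ∧ v = ∑ i, c i • (b i : V) := by
  classical
  intro Vss
  let Φ : V →ₛₗ[iterateFrobenius k p r] V :=
    { toFun := φ, map_add' := φ.map_add, map_smul' := fun c v => by rw [hφ]; rfl }
  obtain ⟨S, hS⟩ : ∃ S : ℕ → Submodule k V, S = fun n => Submodule.span k (Set.range ((⇑Φ)^[n])) :=
    ⟨_, rfl⟩
  have hSn : ∀ n, S n = Submodule.span k (Set.range ((⇑Φ)^[n])) := fun n => by rw [hS]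
  have hVss : Vss = ⨅ n : ℕ, S (n + 1) := by rw [hS]; rfl
  have hSanti : ∀ n, S (n + 1) ≤ S n := by
    intro n
    rw [hSn, hSn]
    apply Submodule.span_mono
    rintro _ ⟨x, rfl⟩
    exact ⟨Φ x, (Function.iterate_succ_apply _ _ _).symm⟩
  have hSmap : ∀ n, S n ≤ (S (n + 1)).comap Φ := by
    intro n
    rw [hSn, hSn, Submodule.span_le]
    rintro _ ⟨x, rfl⟩
    rw [SetLike.mem_coe, Submodule.mem_comap]
    exact Submodule.subset_span ⟨x, Function.iterate_succ_apply' _ _ _⟩
  obtain ⟨N, hN⟩ : ∃ N, ∀ m, N ≤ m → S N = S m := by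
    obtain ⟨N, hN⟩ := IsArtinian.monotone_stabilizes (R := k) (M := V)
      ⟨fun n => OrderDual.toDual (S n), monotone_nat_of_le_succ (fun n => hSanti n)⟩
    exact ⟨N, fun m hm => congrArg OrderDual.ofDual (hN m hm)⟩
  have hVssN : Vss = S (N + 1) := by
    rw [hVss]
    apply le_antisymm (iInf_le _ N)
    refine le_iInf (fun n => ?_)
    rcases le_total n N with h | h
    · exact (antitone_nat_of_succ_le hSanti) (by omega)
    · rw [← hN (n + 1) (by omega), hN (N + 1) (by omega)]
  have hstable : ∀ x ∈ Vss, Φ x ∈ Vss := by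
    intro x hx
    rw [hVssN] at hx ⊢
    exact hSanti (N + 1) (hSmap (N + 1) hx)
  let ΦW : Vss →ₛₗ[iterateFrobenius k p r] Vss :=
    (Φ.domRestrict Vss).codRestrict Vss (fun x => hstable x x.2)
  have hspan : Submodule.span k (Set.range ΦW) = ⊤ := by
    rw [eq_top_iff]
    rintro x -
    have hx : (x : V) ∈ S (N + 2) := by
      have h1 : (x : V) ∈ S (N + 1) := hVssN ▸ x.2
      rw [← hN (N + 1) (by omega), hN (N + 2) (by omega)] at h1
      exact h1
    have hle : S (N + 2) ≤ Submodule.map Vss.subtype (Submodule.span k (Set.range ΦW)) := by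
      rw [hSn, Submodule.span_le]
      rintro _ ⟨y, rfl⟩
      have hy : (⇑Φ)^[N + 1] y ∈ Vss := by
        rw [hVssN, hSn]; exact Submodule.subset_span ⟨y, rfl⟩
      refine ⟨ΦW ⟨_, hy⟩, Submodule.subset_span ⟨_, rfl⟩, ?_⟩
      show Φ ((⇑Φ)^[N + 1] y) = (⇑Φ)^[N + 2] y
      exact (Function.iterate_succ_apply' _ _ _).symm
    obtain ⟨x', hx', hxx'⟩ := hle hx
    have : x' = x := Subtype.ext hxx'
    rwa [← this]
  obtain ⟨b, hb⟩ := Groth.Agent.Helper8.QLinear.exists_fixed_basis p r hr ΦW hspan
  refine ⟨b, fun i => ?_, fun v hv => ?_⟩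
  · exact congrArg Subtype.val (hb i)
  · have hvΦ : Φ v = v := hv
    have hvmem : v ∈ Vss := by
      rw [hVss, Submodule.mem_iInf]
      intro n
      rw [hSn]
      exact Submodule.subset_span ⟨v, Function.iterate_fixed hvΦ (n + 1)⟩
    have hfixW : ΦW ⟨v, hvmem⟩ = ⟨v, hvmem⟩ := Subtype.ext hv
    refine ⟨fun i => b.repr ⟨v, hvmem⟩ i,
      fun i => Groth.Agent.Helper8.QLinear.repr_pow_of_fixed p r ΦW b hb _ hfixW i, ?_⟩
    have h1 := congrArg Subtype.val (b.sum_repr ⟨v, hvmem⟩)
    simp only [Submodule.coe_sum, Submodule.coe_smul] at h1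
    exact h1.symm

end Groth.Agent.S8721
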