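import Groth.Statements.S8722
import Mathlib
import Mathlib
import Groth.Agent.Lib.Helper8.QLinear

set_option autoImplicit false
universe u v
open SGA7II

namespace Groth.Agent.S8722

/-- Let k be a separably closed field of characteristic p > 0, q = p^r with r >= 1, V a
finite-dimensional k-vector space and phi : V -> V additive with phi(c v) = c^q phi(v), semisimple
in the sense that its image spans V. Then for n >= 1 the fixed vectors of the n-th iterate of phi
are exactly the finite linear combinations of phi-fixed vectors with coefficients c satisfying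
c^(q^n) = c; that is, the fixed space of phi^n is obtained from the F_q-space of phi-fixed vectors
by extending scalars to F_{q^n}. -/
theorem result (k : Type u) [Field k] [IsSepClosed k] (p : ℕ)
    [Fact p.Prime] [CharP k p] (r : ℕ) (hr : 0 < r) (V : Type v) [AddCommGroup V] [Module k V]
    [FiniteDimensional k V] (φ : V →+ V) (hφ : ∀ (c : k) (v : V), φ (c • v) = c ^ (p ^ r) • φ v)
    (hss : Submodule.span k (Set.range φ) = ⊤) (n : ℕ) (hn : 0 < n) (v : V) :
    φ^[n] v = v ↔ ∃ (s : Finset V) (c : V → k), (∀ w ∈ s, φ w = w) ∧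
      (∀ w ∈ s, c w ^ ((p ^ r) ^ n) = c w) ∧ v = ∑ w ∈ s, c w • w := by
  classical
  let Φ : V →ₛₗ[iterateFrobenius k p r] V :=
    { toFun := φ, map_add' := φ.map_add, map_smul' := fun c v => by rw [hφ]; rfl }
  have hΦφ : ∀ x, Φ x = φ x := fun x => rfl
  constructor
  · intro hv
    obtain ⟨b, hb⟩ := Groth.Agent.Helper8.QLinear.exists_fixed_basis p r hr Φ hss
    have hrepr : ∀ i, (b.repr v i) ^ ((p ^ r) ^ n) = b.repr v i := by
      intro i
      have h1 : (⇑Φ)^[n] v = ∑ j, (b.repr v j) ^ ((p ^ r) ^ n) • b j := by
        conv_lhs => rw [← b.sum_repr v]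
        rw [Groth.Agent.Helper8.QLinear.iterate_sum_smul]
        refine Finset.sum_congr rfl (fun j _ => ?_)
        rw [Function.iterate_fixed (hb j)]
      have hv' : (⇑Φ)^[n] v = v := hv
      rw [hv'] at h1
      have h2 := congrArg (fun u => b.repr u i) h1
      simp only [Module.Basis.repr_sum_self] at h2
      exact h2.symm
    refine ⟨Finset.univ.image b, Function.extend b (fun i => b.repr v i) 0, ?_, ?_, ?_⟩
    · intro w hw
      obtain ⟨i, -, rfl⟩ := Finset.mem_image.mp hw
      exact hb i
    · intro w hw
      obtain ⟨i, -, rfl⟩ := Finset.mem_image.mp hw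
      rw [b.injective.extend_apply]
      exact hrepr i
    · rw [Finset.sum_image (fun i _ j _ h => b.injective h)]
      simp only [b.injective.extend_apply]
      exact (b.sum_repr v).symm
  · rintro ⟨s, c, hfix, hc, rfl⟩
    show (⇑Φ)^[n] (∑ w ∈ s, c w • w) = ∑ w ∈ s, c w • w
    have := Groth.Agent.Helper8.QLinear.iterate_sum_smul p r Φ n s c id
    simp only [id] at this
    rw [this]
    refine Finset.sum_congr rfl (fun w hw => ?_)
    have hfw : Φ w = w := hfix w hw
    rw [hc w hw, Function.iterate_fixed hfw]

end Groth.Agent.S8722
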