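import Groth.Statements.S8724
import Mathlib

set_option autoImplicit false
open LefPen

namespace Groth.Agent.S8724

theorem sum_ite_prod {R : Type*} [AddCommMonoid R] (N : ℕ) (P : ℕ → ℕ → Prop)
    [∀ i j, Decidable (P i j)] (G : ℕ → ℕ → R) :
    ∑ i ∈ Finset.range N, ∑ j ∈ Finset.range N, (if P i j then G i j else 0)
      = ∑ p ∈ (Finset.range N ×ˢ Finset.range N).filter (fun p => P p.1 p.2), G p.1 p.2 := by
  rw [Finset.sum_filter, Finset.sum_product]

theorem auxG {R : Type*} [CommRing R] (y z : R) (c : ℕ → R) (M N : ℕ) (hMN : M ≤ N) :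
    ∑ k ∈ Finset.range (M + 1), c k * (y ^ k - z ^ k)
      = (y - z) * ∑ i ∈ Finset.range N, ∑ j ∈ Finset.range N,
          (if i + j + 1 ≤ M then c (i + j + 1) * y ^ i * z ^ j else 0) := by
  rw [sum_ite_prod N (fun i j => i + j + 1 ≤ M) (fun i j => c (i + j + 1) * y ^ i * z ^ j)]
  have h1 : ∀ k ∈ Finset.range (M + 1), c k * (y ^ k - z ^ k)
      = (y - z) * ∑ i ∈ Finset.range k, c k * y ^ i * z ^ (k - 1 - i) := by
    intro k _
    have e : ∑ i ∈ Finset.range k, c k * y ^ i * z ^ (k - 1 - i)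
        = c k * ∑ i ∈ Finset.range k, y ^ i * z ^ (k - 1 - i) := by
      rw [Finset.mul_sum]
      exact Finset.sum_congr rfl (fun i _ => by ring)
    rw [e, ← geom_sum₂_mul y z k]
    ring
  rw [Finset.sum_congr rfl h1, ← Finset.mul_sum]
  congr 1
  rw [Finset.sum_sigma']
  refine Finset.sum_nbij' (fun x => (x.2, x.1 - 1 - x.2)) (fun p => ⟨p.1 + p.2 + 1, p.1⟩)
    ?_ ?_ ?_ ?_ ?_
  · rintro ⟨k, i⟩ hx
    simp only [Finset.mem_sigma, Finset.mem_range] at hx
    simp only [Finset.mem_filter, Finset.mem_product, Finset.mem_range]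
    omega
  · rintro ⟨i, j⟩ hp
    simp only [Finset.mem_filter, Finset.mem_product, Finset.mem_range] at hp
    simp only [Finset.mem_sigma, Finset.mem_range]
    omega
  · rintro ⟨k, i⟩ hx
    simp only [Finset.mem_sigma, Finset.mem_range] at hx
    have : i + (k - 1 - i) + 1 = k := by omega
    show (Sigma.mk (i + (k - 1 - i) + 1) i : Σ _ : ℕ, ℕ) = Sigma.mk k i
    rw [this]
  · rintro ⟨i, j⟩ hp
    have : i + j + 1 - 1 - i = j := by omega
    show ((i, i + j + 1 - 1 - i) : ℕ × ℕ) = (i, j)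
    rw [this]
  · rintro ⟨k, i⟩ hx
    simp only [Finset.mem_sigma, Finset.mem_range] at hx
    have : i + (k - 1 - i) + 1 = k := by omega
    show c k * y ^ i * z ^ (k - 1 - i) = c (i + (k - 1 - i) + 1) * y ^ i * z ^ (k - 1 - i)
    rw [this]

theorem aux1 {R : Type*} [CommRing R] (y z : R) (M N : ℕ) (hMN : M ≤ N) :
    (1 + y) ^ M - (1 + z) ^ M
      = (y - z) * ∑ i ∈ Finset.range N, ∑ j ∈ Finset.range N,
          (if i + j + 1 ≤ M then ((M.choose (i + j + 1) : ℕ) : R) * y ^ i * z ^ j else 0) := by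
  have hG := auxG y z (fun k => ((M.choose k : ℕ) : R)) M N hMN
  beta_reduce at hG
  rw [← hG, add_comm 1 y, add_comm 1 z, add_pow, add_pow, ← Finset.sum_sub_distrib]
  refine Finset.sum_congr rfl (fun k _ => ?_)
  rw [one_pow]
  ring

theorem aux2 {R : Type*} [CommRing R] (y z : R) (b : ℕ) :
    (1 + y) ^ (b + 1) * z - (1 + z) ^ (b + 1) * y
      = (y - z) * (-1 + ∑ i ∈ Finset.range (b + 1 + 1), ∑ j ∈ Finset.range (b + 1 + 1),
          (if 1 ≤ i ∧ 1 ≤ j ∧ i + j ≤ b + 1 then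
            (((b + 1).choose (i + j) : ℕ) : R) * y ^ i * z ^ j else 0)) := by
  have e1 : ∀ x : R, (1 + x) ^ (b + 1)
      = 1 + x * ∑ k ∈ Finset.range (b + 1), (((b + 1).choose (k + 1) : ℕ) : R) * x ^ k := by
    intro x
    rw [add_comm 1 x, add_pow, Finset.sum_range_succ', Finset.mul_sum]
    rw [pow_zero, one_pow, Nat.choose_zero_right, Nat.cast_one, mul_one, mul_one, add_comm]
    congr 1
    refine Finset.sum_congr rfl (fun k _ => ?_)
    rw [one_pow]
    ring
  have hG := auxG y z (fun k => (((b + 1).choose (k + 1) : ℕ) : R)) b (b + 1) (Nat.le_succ b)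
  beta_reduce at hG
  have hW : ∑ i ∈ Finset.range (b + 1 + 1), ∑ j ∈ Finset.range (b + 1 + 1),
          (if 1 ≤ i ∧ 1 ≤ j ∧ i + j ≤ b + 1 then
            (((b + 1).choose (i + j) : ℕ) : R) * y ^ i * z ^ j else 0)
      = y * z * ∑ i ∈ Finset.range (b + 1), ∑ j ∈ Finset.range (b + 1),
          (if i + j + 1 ≤ b then
            (((b + 1).choose (i + j + 1 + 1) : ℕ) : R) * y ^ i * z ^ j else 0) := by
    rw [sum_ite_prod (b + 1 + 1) (fun i j => 1 ≤ i ∧ 1 ≤ j ∧ i + j ≤ b + 1)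
        (fun i j => (((b + 1).choose (i + j) : ℕ) : R) * y ^ i * z ^ j),
      sum_ite_prod (b + 1) (fun i j => i + j + 1 ≤ b)
        (fun i j => (((b + 1).choose (i + j + 1 + 1) : ℕ) : R) * y ^ i * z ^ j),
      Finset.mul_sum]
    symm
    refine Finset.sum_nbij' (fun p => (p.1 + 1, p.2 + 1)) (fun q => (q.1 - 1, q.2 - 1))
      ?_ ?_ ?_ ?_ ?_
    · rintro ⟨i, j⟩ hp
      simp only [Finset.mem_filter, Finset.mem_product, Finset.mem_range] at hp ⊢
      omega
    · rintro ⟨i, j⟩ hq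
      simp only [Finset.mem_filter, Finset.mem_product, Finset.mem_range] at hq ⊢
      omega
    · rintro ⟨i, j⟩ hp
      show ((i + 1 - 1, j + 1 - 1) : ℕ × ℕ) = (i, j)
      rw [Nat.add_sub_cancel, Nat.add_sub_cancel]
    · rintro ⟨i, j⟩ hq
      simp only [Finset.mem_filter, Finset.mem_product, Finset.mem_range] at hq
      show ((i - 1 + 1, j - 1 + 1) : ℕ × ℕ) = (i, j)
      rw [Nat.sub_add_cancel hq.2.1, Nat.sub_add_cancel hq.2.2.1]
    · rintro ⟨i, j⟩ hp
      show y * z * ((((b + 1).choose (i + j + 1 + 1) : ℕ) : R) * y ^ i * z ^ j)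
        = (((b + 1).choose (i + 1 + (j + 1)) : ℕ) : R) * y ^ (i + 1) * z ^ (j + 1)
      have : i + 1 + (j + 1) = i + j + 1 + 1 := by omega
      rw [this]
      ring
  have hd : (∑ k ∈ Finset.range (b + 1), (((b + 1).choose (k + 1) : ℕ) : R) * y ^ k)
      - (∑ k ∈ Finset.range (b + 1), (((b + 1).choose (k + 1) : ℕ) : R) * z ^ k)
      = (y - z) * ∑ i ∈ Finset.range (b + 1), ∑ j ∈ Finset.range (b + 1),
          (if i + j + 1 ≤ b then
            (((b + 1).choose (i + j + 1 + 1) : ℕ) : R) * y ^ i * z ^ j else 0) := by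
    rw [← hG, ← Finset.sum_sub_distrib]
    exact Finset.sum_congr rfl (fun k _ => by ring)
  rw [hW, e1 y, e1 z]
  linear_combination (y * z) * hd

/-- The algebraic identity established in its proof: let a >= 1 and work in Z[y, z]. Then (1+y)^(a-1) -
(1+z)^(a-1) = (y - z) * (sum over i, j >= 0 with i + j + 1 <= a - 1 of C(a-1, i+j+1) y^i z^j), and
(1+y)^a z - (1+z)^a y = (y - z) * (-1 + sum over i, j >= 1 with i + j <= a of C(a, i+j) y^i z^j).
Consequently the rational function -((1+y)^(a-1) - (1+z)^(a-1)) / ((1+y)^a z - (1+z)^a y), the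
generating series of the primitive middle Hodge numbers of smooth hypersurfaces of degree a, equals
(sum_{i,j >= 0} C(a-1, i+j+1) y^i z^j) / (1 - sum_{i,j >= 1} C(a, i+j) y^i z^j). -/
theorem result (a : ℕ) (ha : 1 ≤ a) :
    let y : MvPolynomial (Fin 2) ℤ := MvPolynomial.X 0
    let z : MvPolynomial (Fin 2) ℤ := MvPolynomial.X 1
    ((1 + y) ^ (a - 1) - (1 + z) ^ (a - 1) =
      (y - z) * ∑ i ∈ Finset.range a, ∑ j ∈ Finset.range a,
        if i + j + 1 ≤ a - 1 then ((a - 1).choose (i + j + 1) : MvPolynomial (Fin 2) ℤ) * y ^ i * z ^ j else 0) ∧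
    ((1 + y) ^ a * z - (1 + z) ^ a * y =
      (y - z) * (-1 + ∑ i ∈ Finset.range (a + 1), ∑ j ∈ Finset.range (a + 1),
        if 1 ≤ i ∧ 1 ≤ j ∧ i + j ≤ a then (a.choose (i + j) : MvPolynomial (Fin 2) ℤ) * y ^ i * z ^ j else 0)) := by
  intro y z
  refine ⟨aux1 y z (a - 1) a (Nat.sub_le a 1), ?_⟩
  obtain ⟨b, rfl⟩ : ∃ b, a = b + 1 := ⟨a - 1, by omega⟩
  exact aux2 y z b

end Groth.Agent.S8724
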