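import Groth.Statements.S8773
import Mathlib

set_option autoImplicit false
universe u
open PureExt

namespace Groth.Agent.S8773

/-- If `L → M → N` is a universally exact sequence of `R`-modules (exact after tensoring with any
module) then the inclusion of the image of `M → N` into `N` is universally injective. -/
theorem result (R : Type u) [CommRing R]
    {L M N : Type u} [AddCommGroup L] [Module R L] [AddCommGroup M] [Module R M] [AddCommGroup N] [Module R N]
    (f : L →ₗ[R] M) (g : M →ₗ[R] N)
    (h : ∀ (Q : Type u) [AddCommGroup Q] [Module R Q], Function.Exact (f.rTensor Q) (g.rTensor Q)) :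
    CAlgX.UniversallyInjective R (LinearMap.range g).subtype := by
  intro Q _ _
  have hgf : g ∘ₗ f = 0 := by
    ext l
    have h0 := (h R).apply_apply_eq_zero (TensorProduct.tmul R l (1:R))
    rw [LinearMap.rTensor_tmul, LinearMap.rTensor_tmul] at h0
    have h1 := congrArg (TensorProduct.rid R N) h0
    rw [TensorProduct.rid_tmul, one_smul, map_zero] at h1
    simpa using h1
  rw [injective_iff_map_eq_zero]
  intro z hz
  obtain ⟨w, rfl⟩ := LinearMap.rTensor_surjective Q (LinearMap.surjective_rangeRestrict g) z
  have hcomp : (LinearMap.range g).subtype ∘ₗ g.rangeRestrict = g := by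
    ext m; rfl
  have hz' : g.rTensor Q w = 0 := by
    rw [← hcomp, LinearMap.rTensor_comp]; exact hz
  obtain ⟨v, rfl⟩ := (h Q w).mp hz'
  have h3 : g.rangeRestrict ∘ₗ f = 0 := by
    ext l; simpa using LinearMap.congr_fun hgf l
  rw [← LinearMap.comp_apply, ← LinearMap.rTensor_comp, h3, LinearMap.rTensor_zero,
    LinearMap.zero_apply]

end Groth.Agent.S8773
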