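import Groth.Statements.S8781
import Mathlib
import Groth.Agent.H2.TF

set_option autoImplicit false
universe u
open CategoryTheory Limits
open AdeqTF

namespace Groth.Agent.S8781

/-- Say a module-valued functor `F` on `A`-algebras has right exact tangent functors if for every
`A`-algebra `B` and every short exact sequence `0 → N₁ → N → N₂ → 0` of `B`-modules the sequence
`TF(B, N₁) → TF(B, N) → TF(B, N₂) → 0` is exact. If `0 → F → G → H → 0` is a short exact sequence of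
module-valued functors and `F`, `G` have right exact tangent functors, so does `H`. -/
theorem result (A : Type u) [CommRing A] (C : ShortComplex (Adeq.MVF A))
    (hC : C.ShortExact)
    (h₁ : (∀ (B : Adeq.Alg A) (S : ShortComplex (ModuleCat.{u} B)), S.ShortExact →
        Function.Surjective (AdeqTF.tangentMap B C.X₁ S.g) ∧
          (AdeqTF.tangentMap B C.X₁ S.g).ker = (AdeqTF.tangentMap B C.X₁ S.f).range))
    (h₂ : (∀ (B : Adeq.Alg A) (S : ShortComplex (ModuleCat.{u} B)), S.ShortExact →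
        Function.Surjective (AdeqTF.tangentMap B C.X₂ S.g) ∧
          (AdeqTF.tangentMap B C.X₂ S.g).ker = (AdeqTF.tangentMap B C.X₂ S.f).range)) :
    (∀ (B : Adeq.Alg A) (S : ShortComplex (ModuleCat.{u} B)), S.ShortExact →
        Function.Surjective (AdeqTF.tangentMap B C.X₃ S.g) ∧
          (AdeqTF.tangentMap B C.X₃ S.g).ker = (AdeqTF.tangentMap B C.X₃ S.f).range) := by
  intro B S hS
  obtain ⟨hs1, hk1⟩ := h₁ B S hS
  obtain ⟨hs2, hk2⟩ := h₂ B S hS
  constructor
  · intro z₂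
    obtain ⟨y₂, hy₂⟩ := Groth.Agent.H2.TF.tan_g_surj B hC S.X₃ z₂
    obtain ⟨y, hy⟩ := hs2 y₂
    refine ⟨Groth.Agent.H2.TF.tanApp B C.g S.X₂ y, ?_⟩
    rw [← Groth.Agent.H2.TF.tanApp_tangentMap, hy, hy₂]
  · apply le_antisymm
    · intro z hz
      rw [AddMonoidHom.mem_ker] at hz
      obtain ⟨y, rfl⟩ := Groth.Agent.H2.TF.tan_g_surj B hC S.X₂ z
      have h1 : Groth.Agent.H2.TF.tanApp B C.g S.X₃ (AdeqTF.tangentMap B C.X₂ S.g y) = 0 := by
        rw [Groth.Agent.H2.TF.tanApp_tangentMap]; exact hz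
      obtain ⟨x₂, hx₂⟩ := Groth.Agent.H2.TF.tan_exact B hC S.X₃ _ h1
      obtain ⟨x, hx⟩ := hs1 x₂
      have h2 : AdeqTF.tangentMap B C.X₂ S.g (y - Groth.Agent.H2.TF.tanApp B C.f S.X₂ x) = 0 := by
        rw [map_sub, ← Groth.Agent.H2.TF.tanApp_tangentMap, hx, hx₂, sub_self]
      have h3 : y - Groth.Agent.H2.TF.tanApp B C.f S.X₂ x ∈ (AdeqTF.tangentMap B C.X₂ S.g).ker := h2
      rw [hk2] at h3
      obtain ⟨y₁, hy₁⟩ := h3
      rw [AddMonoidHom.mem_range]
      refine ⟨Groth.Agent.H2.TF.tanApp B C.g S.X₁ y₁, ?_⟩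
      rw [← Groth.Agent.H2.TF.tanApp_tangentMap, hy₁, map_sub, Groth.Agent.H2.TF.tan_gf, sub_zero]
    · rintro z ⟨z₁, rfl⟩
      rw [AddMonoidHom.mem_ker, ← Groth.Agent.H2.TF.tangentMap_comp, S.zero,
        Groth.Agent.H2.TF.tangentMap_zero]

end Groth.Agent.S8781
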