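import Groth.Statements.S8782
import Mathlib
import Groth.Agent.H2.TF

set_option autoImplicit false
universe u
open CategoryTheory Limits
open AdeqTF

namespace Groth.Agent.S8782

/-- If `0 → F → G → H → 0` is a short exact sequence of module-valued functors on `A`-algebras and `F`,
`H` have right exact tangent functors (for every `A`-algebra `B` and short exact `0 → N₁ → N → N₂ →
0` of `B`-modules, `T(B, N₁) → T(B, N) → T(B, N₂) → 0` is exact), so does `G`. -/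
theorem result (A : Type u) [CommRing A] (C : ShortComplex (Adeq.MVF A))
    (hC : C.ShortExact)
    (h₁ : (∀ (B : Adeq.Alg A) (S : ShortComplex (ModuleCat.{u} B)), S.ShortExact →
        Function.Surjective (AdeqTF.tangentMap B C.X₁ S.g) ∧
          (AdeqTF.tangentMap B C.X₁ S.g).ker = (AdeqTF.tangentMap B C.X₁ S.f).range))
    (h₃ : (∀ (B : Adeq.Alg A) (S : ShortComplex (ModuleCat.{u} B)), S.ShortExact →
        Function.Surjective (AdeqTF.tangentMap B C.X₃ S.g) ∧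
          (AdeqTF.tangentMap B C.X₃ S.g).ker = (AdeqTF.tangentMap B C.X₃ S.f).range)) :
    (∀ (B : Adeq.Alg A) (S : ShortComplex (ModuleCat.{u} B)), S.ShortExact →
        Function.Surjective (AdeqTF.tangentMap B C.X₂ S.g) ∧
          (AdeqTF.tangentMap B C.X₂ S.g).ker = (AdeqTF.tangentMap B C.X₂ S.f).range) := by
  intro B S hS
  obtain ⟨hs1, hk1⟩ := h₁ B S hS
  obtain ⟨hs3, hk3⟩ := h₃ B S hS
  constructor
  · intro y₂
    obtain ⟨z, hz⟩ := hs3 (Groth.Agent.H2.TF.tanApp B C.g S.X₃ y₂)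
    obtain ⟨y, hy⟩ := Groth.Agent.H2.TF.tan_g_surj B hC S.X₂ z
    have h1 : Groth.Agent.H2.TF.tanApp B C.g S.X₃ (AdeqTF.tangentMap B C.X₂ S.g y - y₂) = 0 := by
      rw [map_sub, Groth.Agent.H2.TF.tanApp_tangentMap, hy, hz, sub_self]
    obtain ⟨x₂, hx₂⟩ := Groth.Agent.H2.TF.tan_exact B hC S.X₃ _ h1
    obtain ⟨x, hx⟩ := hs1 x₂
    refine ⟨y - Groth.Agent.H2.TF.tanApp B C.f S.X₂ x, ?_⟩
    rw [map_sub, ← Groth.Agent.H2.TF.tanApp_tangentMap, hx, hx₂, sub_sub_cancel]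
  · apply le_antisymm
    · intro y hy
      rw [AddMonoidHom.mem_ker] at hy
      have h1 : Groth.Agent.H2.TF.tanApp B C.g S.X₂ y ∈ (AdeqTF.tangentMap B C.X₃ S.g).ker := by
        rw [AddMonoidHom.mem_ker, ← Groth.Agent.H2.TF.tanApp_tangentMap, hy, map_zero]
      rw [hk3] at h1
      obtain ⟨z₁, hz₁⟩ := h1
      obtain ⟨y₁, hy₁⟩ := Groth.Agent.H2.TF.tan_g_surj B hC S.X₁ z₁
      have h2 : Groth.Agent.H2.TF.tanApp B C.g S.X₂ (y - AdeqTF.tangentMap B C.X₂ S.f y₁) = 0 := by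
        rw [map_sub, Groth.Agent.H2.TF.tanApp_tangentMap, hy₁, hz₁, sub_self]
      obtain ⟨x, hx⟩ := Groth.Agent.H2.TF.tan_exact B hC S.X₂ _ h2
      have h3 : AdeqTF.tangentMap B C.X₁ S.g x = 0 := by
        apply Groth.Agent.H2.TF.tan_f_inj B hC
        rw [Groth.Agent.H2.TF.tanApp_tangentMap, hx, map_sub, hy,
          ← Groth.Agent.H2.TF.tangentMap_comp, S.zero, Groth.Agent.H2.TF.tangentMap_zero,
          sub_zero, map_zero]
      have h4 : x ∈ (AdeqTF.tangentMap B C.X₁ S.g).ker := h3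
      rw [hk1] at h4
      obtain ⟨x₁, hx₁⟩ := h4
      rw [AddMonoidHom.mem_range]
      refine ⟨y₁ + Groth.Agent.H2.TF.tanApp B C.f S.X₁ x₁, ?_⟩
      rw [map_add, ← Groth.Agent.H2.TF.tanApp_tangentMap, hx₁, hx]; abel
    · rintro y ⟨y₁, rfl⟩
      rw [AddMonoidHom.mem_ker, ← Groth.Agent.H2.TF.tangentMap_comp, S.zero,
        Groth.Agent.H2.TF.tangentMap_zero]

end Groth.Agent.S8782
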