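import Groth.Statements.S8783
import Mathlib
import Groth.Agent.H2.TF

set_option autoImplicit false
universe u
open CategoryTheory Limits
open AdeqTF

namespace Groth.Agent.S8783

/-- Let `F` be a module-valued functor on `A`-algebras with right exact tangent functors (for every
`A`-algebra `B` and short exact `0 → N₁ → N → N₂ → 0` of `B`-modules, `TF(B, N₁) → TF(B, N) → TF(B,
N₂) → 0` is exact). Then `TF(B, N₁ ⊕ N₂) = TF(B, N₁) ⊕ TF(B, N₂)`: the map from the product induced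
by the two inclusions is bijective. -/
theorem result (A : Type u) [CommRing A] (F : Adeq.MVF A)
    (hF : (∀ (B : Adeq.Alg A) (S : ShortComplex (ModuleCat.{u} B)), S.ShortExact →
        Function.Surjective (AdeqTF.tangentMap B F S.g) ∧
          (AdeqTF.tangentMap B F S.g).ker = (AdeqTF.tangentMap B F S.f).range))
    (B : Adeq.Alg A) (N₁ N₂ : ModuleCat.{u} B) :
    Function.Bijective ((AdeqTF.tangentMap B F (biprod.inl : N₁ ⟶ N₁ ⊞ N₂)).coprod
      (AdeqTF.tangentMap B F (biprod.inr : N₂ ⟶ N₁ ⊞ N₂))) := by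
  have hsplit : (ShortComplex.mk (biprod.inl : N₁ ⟶ N₁ ⊞ N₂) biprod.snd (by simp)).ShortExact :=
    (ShortComplex.Splitting.ofHasBinaryBiproduct N₁ N₂).shortExact
  obtain ⟨hs, hk⟩ := hF B _ hsplit
  have hk' : (AdeqTF.tangentMap B F (biprod.snd : N₁ ⊞ N₂ ⟶ N₂)).ker =
      (AdeqTF.tangentMap B F (biprod.inl : N₁ ⟶ N₁ ⊞ N₂)).range := hk
  constructor
  · rw [injective_iff_map_eq_zero]
    rintro ⟨x₁, x₂⟩ hx
    rw [AddMonoidHom.coprod_apply] at hx
    have e1 := congrArg (AdeqTF.tangentMap B F (biprod.fst : N₁ ⊞ N₂ ⟶ N₁)) hx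
    rw [map_add, ← Groth.Agent.H2.TF.tangentMap_comp, ← Groth.Agent.H2.TF.tangentMap_comp,
      biprod.inl_fst, biprod.inr_fst, Groth.Agent.H2.TF.tangentMap_id,
      Groth.Agent.H2.TF.tangentMap_zero, add_zero, map_zero] at e1
    have e2 := congrArg (AdeqTF.tangentMap B F (biprod.snd : N₁ ⊞ N₂ ⟶ N₂)) hx
    rw [map_add, ← Groth.Agent.H2.TF.tangentMap_comp, ← Groth.Agent.H2.TF.tangentMap_comp,
      biprod.inl_snd, biprod.inr_snd, Groth.Agent.H2.TF.tangentMap_id,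
      Groth.Agent.H2.TF.tangentMap_zero, zero_add, map_zero] at e2
    simp only at e1 e2
    rw [e1, e2]; rfl
  · intro y
    have h1 : y - AdeqTF.tangentMap B F (biprod.inr : N₂ ⟶ N₁ ⊞ N₂)
        (AdeqTF.tangentMap B F (biprod.snd : N₁ ⊞ N₂ ⟶ N₂) y) ∈
        (AdeqTF.tangentMap B F (biprod.snd : N₁ ⊞ N₂ ⟶ N₂)).ker := by
      rw [AddMonoidHom.mem_ker, map_sub, ← Groth.Agent.H2.TF.tangentMap_comp B F biprod.inr biprod.snd,
        biprod.inr_snd, Groth.Agent.H2.TF.tangentMap_id, sub_self]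
    rw [hk'] at h1
    obtain ⟨x₁, hx₁⟩ := h1
    refine ⟨(x₁, AdeqTF.tangentMap B F (biprod.snd : N₁ ⊞ N₂ ⟶ N₂) y), ?_⟩
    rw [AddMonoidHom.coprod_apply]
    show AdeqTF.tangentMap B F biprod.inl x₁ + _ = y
    rw [hx₁]; abel

end Groth.Agent.S8783
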