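import Groth.Statements.S8800
import Mathlib
import Groth.Agent.Lib.Helper8.CompleteNoeth

set_option autoImplicit false
universe u v
open AdicRing

namespace Groth.Agent.S8800

/-- Let A be a Noetherian ring and I an ideal of A. Let B be an A-algebra which is complete for the
IB-adic topology and such that B/IB is an A-algebra of finite type. Then B is a Noetherian ring. -/
theorem result (A : Type u) [CommRing A] [IsNoetherianRing A] (I : Ideal A) (B : Type v) [CommRing B] [Algebra A B] [IsAdicComplete (I.map (algebraMap A B)) B] (hB : Algebra.FiniteType A (B ⧸ I.map (algebraMap A B))) : IsNoetherianRing B := by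
  classical
  obtain ⟨d, a, ha⟩ := Submodule.fg_iff_exists_fin_generating_family.mp
    (IsNoetherian.noetherian I)
  haveI : IsNoetherianRing (B ⧸ I.map (algebraMap A B)) :=
    Algebra.FiniteType.isNoetherianRing A _
  have hspan : I.map (algebraMap A B) = Ideal.span (Set.range fun i => algebraMap A B (a i)) := by
    have : I = Ideal.span (Set.range a) := ha.symm
    rw [this, Ideal.map_span]
    congr 1
    ext y
    simp
  refine Groth.Agent.Helper8.CompleteNoeth.isNoetherianRing (I.map (algebraMap A B))
    (fun i => algebraMap A B (a i)) ?_ ?_
  · intro i
    rw [hspan]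
    exact Ideal.subset_span ⟨i, rfl⟩
  · rw [← hspan]
    exact le_sup_left

end Groth.Agent.S8800
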