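import Mathlib
import Mathlib
import Groth.Agent.H11.HensAdic2
import Groth.Statements.S8801

set_option autoImplicit false
universe u
open AdicRing

namespace Groth.Agent.S8801

/-- Let A be a Noetherian ring and I an ideal. Let C be an A-algebra of finite type and Cʰ a
henselization of the pair (C, IC), viewed as an A-algebra through C, and let J be an ideal of Cʰ.
Then there is an A-algebra B of finite type whose IB-adic completion is isomorphic as an A-algebra
to the I(Cʰ/J)-adic completion of Cʰ/J (existence of an isomorphism only; the published statement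
names no particular map). -/
theorem result (A : Type u) [CommRing A] [IsNoetherianRing A] (I : Ideal A) (C : Type u) [CommRing C] [Algebra A C] [Algebra.FiniteType A C] (Ch : Type u) [CommRing Ch] [Algebra C Ch] [Algebra A Ch] [IsScalarTower A C Ch] (hCh : Hens2.IsPairHenselization C (I.map (algebraMap A C)) Ch) (J : Ideal Ch) : ∃ (B : Type u) (_ : CommRing B) (_ : Algebra A B), Algebra.FiniteType A B ∧ Nonempty (AdicCompletion (I.map (algebraMap A B)) B ≃ₐ[A] AdicCompletion (I.map (algebraMap A (Ch ⧸ J))) (Ch ⧸ J)) := by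

  classical
  haveI : IsNoetherianRing C := Algebra.FiniteType.isNoetherianRing A C
  haveI : IsNoetherianRing Ch := Groth.Agent.H11.PH.isNoetherianRing_of_isPairHenselization hCh
  have hJ : J.FG := (isNoetherianRing_iff_ideal_fg Ch).1 inferInstance J
  have hker : (RingHom.ker (Ideal.Quotient.mk J)).FG := by rw [Ideal.mk_ker]; exact hJ
  obtain ⟨C', _, _, _, hN, 𝔟, h𝔟, θ, χ, hχ, hD⟩ :=
    Groth.Agent.H11.PH.exists_model_of_surjective hCh (Ideal.Quotient.mk J)
      Ideal.Quotient.mk_surjective hker
  letI aAC' : Algebra A C' := ((algebraMap C C').comp (algebraMap A C)).toAlgebra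
  haveI tACC' : IsScalarTower A C C' := IsScalarTower.of_algebraMap_eq (fun _ => rfl)
  haveI : Algebra.FiniteType C C' := inferInstance
  haveI : Algebra.FiniteType A C' := Algebra.FiniteType.trans (S := C) inferInstance inferInstance
  letI aBD : Algebra (C' ⧸ 𝔟) (Ch ⧸ J) := χ.toAlgebra
  haveI tABD : IsScalarTower A (C' ⧸ 𝔟) (Ch ⧸ J) := IsScalarTower.of_algebraMap_eq (fun a => by
    show algebraMap A (Ch ⧸ J) a = χ (Ideal.Quotient.mk 𝔟 (algebraMap C C' (algebraMap A C a)))
    rw [hχ, AlgHom.commutes, ← IsScalarTower.algebraMap_apply A C Ch]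
    rfl)
  have hI : ((I.map (algebraMap A C)).map (algebraMap C C')).map (Ideal.Quotient.mk 𝔟) =
      I.map (algebraMap A (C' ⧸ 𝔟)) := by
    rw [Ideal.map_map, Ideal.map_map]
    rfl
  rw [hI] at hD
  refine ⟨C' ⧸ 𝔟, inferInstance, inferInstance, inferInstance, ?_⟩
  exact Groth.Agent.H11.PH.nonempty_adicCompletion_algEquiv I hD

end Groth.Agent.S8801
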