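import Groth.Statements.S8803
import Groth.Agent.H13.LCArt

set_option autoImplicit false
set_option linter.style.haveILetI false
universe u
open CategoryTheory
open LocCoh

namespace Groth.Agent.S8803

/-- Let (A, m) be a Noetherian local ring and (M_n) an inverse system of finite A-modules. Then for
every i the inverse system H^i_m(M_n) of local cohomology modules satisfies the Mittag-Leffler
condition. -/
theorem result (A : Type u) [CommRing A] [IsNoetherianRing A] [IsLocalRing A] (Msys : ℕᵒᵖ ⥤ ModuleCat.{u} A) (hfin : ∀ n : ℕᵒᵖ, Module.Finite A (Msys.obj n)) (i : ℕ) : ARSys.IsML (Msys ⋙ localCohomology (IsLocalRing.maximalIdeal A) i) := by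
  intro n
  set X := Msys ⋙ localCohomology (IsLocalRing.maximalIdeal A) i with hX
  haveI hArt : IsArtinian A (X.obj (Opposite.op n)) :=
    Groth.Agent.H13.LC.isArtinian_max i (Msys.obj (Opposite.op n)) (hfin (Opposite.op n))
  have hanti : ∀ s t : ℕ, s ≤ t →
      Limits.imageSubobject (ARSys.shiftMap X t n) ≤ Limits.imageSubobject (ARSys.shiftMap X s n) := by
    intro s t hst
    have hcomp : ARSys.shiftMap X t n =
        ARSys.tr X (Nat.add_le_add_left hst n) ≫ ARSys.shiftMap X s n := by
      have h3 : (homOfLE (Nat.le_add_right n t)).op =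
          (homOfLE (Nat.add_le_add_left hst n)).op ≫ (homOfLE (Nat.le_add_right n s)).op :=
        Quiver.Hom.unop_inj (Subsingleton.elim _ _)
      exact (congrArg X.map h3).trans (X.map_comp _ _)
    rw [hcomp]
    exact Limits.imageSubobject_comp_le _ _
  let f : ℕ →o (Submodule A (X.obj (Opposite.op n)))ᵒᵈ :=
    { toFun := fun s => OrderDual.toDual
        (ModuleCat.subobjectModule (X.obj (Opposite.op n)) (Limits.imageSubobject (ARSys.shiftMap X s n)))
      monotone' := fun s t hst =>
        OrderDual.toDual_le_toDual.mpr
          ((ModuleCat.subobjectModule (X.obj (Opposite.op n))).monotone (hanti s t hst)) }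
  obtain ⟨r, hr⟩ := IsArtinian.monotone_stabilizes f
  refine ⟨r, fun s hs => ?_⟩
  have := hr s hs
  exact ((ModuleCat.subobjectModule (X.obj (Opposite.op n))).injective
    (OrderDual.toDual.injective this)).symm

end Groth.Agent.S8803
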