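import Groth.Statements.S8822
import Mathlib
import Groth.Agent.Lib.Helper8.QuotComplete
import Groth.Agent.Lib.Helper8.CompleteNoeth

set_option autoImplicit false
universe u v
open AdicRing

namespace Groth.Agent.S8822

/-- Let A be a Noetherian ring and I an ideal. Let B be an A-algebra which is complete for the IB-adic
topology and such that B/IB is of finite type over A, and let J be an ideal of B. Then B/J is
complete for the I(B/J)-adic topology (so B/J is again an object of the same category, the finite
type condition on (B/J)/I(B/J) being immediate). -/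
theorem result (A : Type u) [CommRing A] [IsNoetherianRing A] (I : Ideal A) (B : Type v) [CommRing B] [Algebra A B] [IsAdicComplete (I.map (algebraMap A B)) B] (hB : Algebra.FiniteType A (B ⧸ I.map (algebraMap A B))) (J : Ideal B) : IsAdicComplete (I.map (algebraMap A (B ⧸ J))) (B ⧸ J) := by
  classical
  obtain ⟨d, a, ha⟩ := Submodule.fg_iff_exists_fin_generating_family.mp (IsNoetherian.noetherian I)
  let x : Fin d → B := fun i => algebraMap A B (a i)
  have hKx : I.map (algebraMap A B) = Ideal.span (Set.range x) := by
    have h1 : I = Ideal.span (Set.range a) := ha.symm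
    conv_lhs => rw [h1]
    rw [Ideal.map_span, ← Set.range_comp]
    rfl
  haveI := hB
  haveI : IsNoetherianRing (B ⧸ I.map (algebraMap A B)) :=
    Algebra.FiniteType.isNoetherianRing A (B ⧸ I.map (algebraMap A B))
  have hBN : IsNoetherianRing B :=
    Groth.Agent.Helper8.CompleteNoeth.isNoetherianRing (I.map (algebraMap A B)) x
      (fun i => by rw [hKx]; exact Ideal.subset_span ⟨i, rfl⟩)
      (by rw [← hKx]; exact le_sup_left)
  have hc : IsAdicComplete (I.map (algebraMap A B)) (B ⧸ J) :=
    Groth.Agent.Helper8.QuotComplete.isAdicComplete_quotient _ J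
  have hc2 : IsAdicComplete I (B ⧸ J) := (IsAdicComplete.map_algebraMap_iff (S := B) _ _).mp hc
  exact (IsAdicComplete.map_algebraMap_iff (S := B ⧸ J) _ _).mpr hc2

end Groth.Agent.S8822
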