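import Groth.Statements.S8834
import Mathlib

set_option autoImplicit false
universe u
open AdicRing

namespace Groth.Agent.S8834

/-- Let A be a Noetherian ring complete for the adic topology of an ideal I and B a Noetherian ring
complete for the adic topology of an ideal J, with an algebra map A → B sending I into the radical
of J (a continuous homomorphism of adic Noetherian topological rings; the radicals of I and J are
the ideals of topologically nilpotent elements). Assume B/√J is of finite type over A, equivalently
over A/√I. Then B is topologically of finite type over A: there are b_1, …, b_s ∈ B such that the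
A-algebra map A[x_1, …, x_s] → B with x_i ↦ b_i has dense image for the J-adic topology, that is,
for every y ∈ B and every n there is a polynomial whose value at b differs from y by an element of
J^n. -/
theorem result (A : Type u) [CommRing A] [IsNoetherianRing A] (I : Ideal A) [IsAdicComplete I A] (B : Type u) [CommRing B] [Algebra A B] [IsNoetherianRing B] (J : Ideal B) [IsAdicComplete J B] (hIJ : I.map (algebraMap A B) ≤ J.radical) (hft : Algebra.FiniteType A (B ⧸ J.radical)) : ∃ s : ℕ, ∃ b : Fin s → B, ∀ (y : B) (n : ℕ), ∃ p : MvPolynomial (Fin s) A, y - MvPolynomial.aeval b p ∈ J ^ n := by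
  classical
  obtain ⟨t, f, hf⟩ := (Algebra.FiniteType.iff_quotient_mvPolynomial''.mp hft)
  have hc : ∀ i : Fin t, ∃ c : B, Ideal.Quotient.mk J.radical c = f (MvPolynomial.X i) :=
    fun i => Ideal.Quotient.mk_surjective _
  choose c hc using hc
  obtain ⟨r, d, hd⟩ :=
    Submodule.fg_iff_exists_fin_generating_family.mp (IsNoetherian.noetherian J.radical)
  let b : Fin (t + r) → B := Fin.append c d
  let S : Subalgebra A B := (MvPolynomial.aeval b : MvPolynomial (Fin (t + r)) A →ₐ[A] B).range
  have hdS : ∀ j, d j ∈ S := fun j =>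
    (AlgHom.mem_range _).mpr ⟨MvPolynomial.X (Fin.natAdd t j), by simp [b]⟩
  have hcomp : ∀ q : MvPolynomial (Fin t) A,
      Ideal.Quotient.mk J.radical (MvPolynomial.aeval c q) = f q := by
    intro q
    have : (Ideal.Quotient.mkₐ A J.radical).comp (MvPolynomial.aeval c) = f := by
      apply MvPolynomial.algHom_ext
      intro i
      simp [hc]
    exact DFunLike.congr_fun this q
  have hbc : b ∘ Fin.castAdd r = c := by
    ext i; simp [b]
  have step0 : ∀ y : B, ∃ s ∈ S, y - s ∈ J.radical := by
    intro y
    obtain ⟨q, hq⟩ := hf (Ideal.Quotient.mk J.radical y)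
    refine ⟨MvPolynomial.aeval c q,
      (AlgHom.mem_range _).mpr ⟨MvPolynomial.rename (Fin.castAdd r) q, ?_⟩, ?_⟩
    · rw [MvPolynomial.aeval_rename, hbc]
    · rw [← Ideal.Quotient.eq_zero_iff_mem, map_sub, hcomp, hq, sub_self]
  have step : ∀ n : ℕ, ∀ y ∈ J.radical ^ n, ∃ s ∈ S, y - s ∈ J.radical ^ (n + 1) := by
    intro n
    induction n with
    | zero =>
      intro y _
      obtain ⟨s, hs, h⟩ := step0 y
      exact ⟨s, hs, by simpa using h⟩
    | succ n ih =>
      intro y hy
      have hy' : y ∈ J.radical ^ n • Submodule.span B (Set.range d) := by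
        rw [hd, smul_eq_mul, ← pow_succ]; exact hy
      obtain ⟨a, ha, rfl⟩ := (Submodule.mem_ideal_smul_span_iff_exists_sum _ d y).mp hy'
      have hch : ∀ i, ∃ s ∈ S, a i - s ∈ J.radical ^ (n + 1) := fun i => ih (a i) (ha i)
      choose s hsS hs using hch
      refine ⟨∑ i, s i * d i,
        Subalgebra.sum_mem _ fun i _ => Subalgebra.mul_mem _ (hsS i) (hdS i), ?_⟩
      rw [Finsupp.sum_fintype a (fun i c => c • d i) (fun i => zero_smul _ _)]
      rw [← Finset.sum_sub_distrib]
      refine Ideal.sum_mem _ fun i _ => ?_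
      have : a i • d i - s i * d i = (a i - s i) * d i := by rw [smul_eq_mul]; ring
      rw [this, pow_succ]
      refine Ideal.mul_mem_mul (hs i) ?_
      rw [← hd]; exact Submodule.subset_span ⟨i, rfl⟩
  have approx : ∀ n : ℕ, ∀ y : B, ∃ s ∈ S, y - s ∈ J.radical ^ n := by
    intro n
    induction n with
    | zero => intro y; exact ⟨0, Subalgebra.zero_mem _, by simp⟩
    | succ n ih =>
      intro y
      obtain ⟨s, hs, h⟩ := ih y
      obtain ⟨s', hs', h'⟩ := step n (y - s) h
      exact ⟨s + s', Subalgebra.add_mem _ hs hs', by rwa [← sub_sub]⟩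
  obtain ⟨N, hN⟩ := Ideal.exists_radical_pow_le_of_fg J (IsNoetherian.noetherian _)
  refine ⟨t + r, b, fun y n => ?_⟩
  obtain ⟨s, hs, h⟩ := approx (N * n) y
  obtain ⟨p, rfl⟩ := (AlgHom.mem_range _).mp hs
  refine ⟨p, ?_⟩
  have : J.radical ^ (N * n) ≤ J ^ n := by rw [pow_mul]; exact Ideal.pow_right_mono hN n
  exact this h

end Groth.Agent.S8834
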