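import Groth.Statements.S8836
import Groth.Agent.H3.RigClosed3

set_option autoImplicit false
universe u
open AdicRing

namespace Groth.Agent.S8836

/-- Let A be a Noetherian ring complete for the adic topology of an ideal I, and B a Noetherian
A-algebra complete for the IB-adic topology, flat over A, with B/IB of finite type over A (a flat
adic morphism, topologically of finite type, of adic Noetherian topological rings). Let p be a prime
of A which is rig-closed (I ⊄ p and p maximal among the primes not containing I). The following are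
equivalent: (1) the maximal ideal of the local ring A/p lies in the image of Spec(B/√(IB)) →
Spec(A/√I), stated as: some prime Q of B containing IB lies over a maximal ideal of A containing p;
(2) there is a rig-closed prime q of B (IB ⊄ q, q maximal among the primes not containing IB) whose
inverse image in A is p. (The published statement adds that, when these hold, A/p ⊆ B/q is a finite
extension of rings and the residue field of the local ring B/q is finite over A/√I; this is not
restated here.) -/
theorem result (A : Type u) [CommRing A] [IsNoetherianRing A] (I : Ideal A) [IsAdicComplete I A] (B : Type u) [CommRing B] [Algebra A B] [IsNoetherianRing B] [IsAdicComplete (I.map (algebraMap A B)) B] (hft : Algebra.FiniteType A (B ⧸ (I.map (algebraMap A B)))) [Module.Flat A B] (p : PrimeSpectrum A) (hp : (¬ I ≤ p.asIdeal ∧ ∀ y : PrimeSpectrum A, p ≤ y → ¬ I ≤ y.asIdeal → y = p)) : (∃ Q : PrimeSpectrum B, (I.map (algebraMap A B)) ≤ Q.asIdeal ∧ p.asIdeal ≤ (PrimeSpectrum.comap (algebraMap A B) Q).asIdeal ∧ (PrimeSpectrum.comap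 (algebraMap A B) Q).asIdeal.IsMaximal) ↔ (∃ q : PrimeSpectrum B, (¬ (I.map (algebraMap A B)) ≤ q.asIdeal ∧ ∀ y : PrimeSpectrum B, q ≤ y → ¬ (I.map (algebraMap A B)) ≤ y.asIdeal → y = q) ∧ PrimeSpectrum.comap (algebraMap A B) q = p) := by
  classical
  constructor
  · rintro ⟨Q, hJQ, hpQ, hQmax⟩
    haveI : (Q.asIdeal.under A).IsPrime := Ideal.comap_isPrime _ _
    haveI := p.isPrime
    obtain ⟨q', hq'Q, hq'p, hq'over⟩ := Ideal.exists_ideal_le_liesOver_of_le (p := p.asIdeal)
      (q := Q.asIdeal.under A) Q.asIdeal hpQ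
    have hq'A : q'.comap (algebraMap A B) = p.asIdeal := (hq'over.over).symm
    have hq'J : ¬ I.map (algebraMap A B) ≤ q' := by
      intro h
      apply hp.1
      rw [← hq'A]
      exact Ideal.map_le_iff_le_comap.mp h
    let 𝒮 : Set (Ideal B) := {y | y.IsPrime ∧ q' ≤ y ∧ ¬ I.map (algebraMap A B) ≤ y}
    have h𝒮 : 𝒮.Nonempty := ⟨q', hq'p, le_rfl, hq'J⟩
    obtain ⟨q0, ⟨hq0p, hq0q', hq0J⟩, hq0max⟩ :=
      set_has_maximal_iff_noetherian.mpr (inferInstance : IsNoetherian B B) 𝒮 h𝒮
    refine ⟨⟨q0, hq0p⟩, ⟨hq0J, fun y hy hyJ => ?_⟩, ?_⟩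
    · have hyS : y.asIdeal ∈ 𝒮 := ⟨y.isPrime, hq0q'.trans hy, hyJ⟩
      have h1 := hq0max y.asIdeal hyS
      have hy' : q0 ≤ y.asIdeal := hy
      exact PrimeSpectrum.ext (eq_of_le_of_not_lt hy' h1).symm
    · apply hp.2
      · show p.asIdeal ≤ Ideal.comap (algebraMap A B) q0
        rw [← hq'A]
        exact Ideal.comap_mono hq0q'
      · intro hI
        exact hq0J ((Ideal.map_mono hI).trans Ideal.map_comap_le)
  · rintro ⟨q, hq, hqp⟩
    obtain ⟨M, hM, hqM⟩ := Ideal.exists_le_maximal q.asIdeal q.isPrime.ne_top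
    haveI := hM
    have hJM : I.map (algebraMap A B) ≤ M :=
      (IsAdicComplete.le_jacobson_bot _).trans (sInf_le ⟨bot_le, hM⟩)
    have hpM : p.asIdeal ≤ M.comap (algebraMap A B) := by
      rw [← hqp]
      exact Ideal.comap_mono hqM
    exact ⟨⟨M, hM.isPrime⟩, hJM, hpM,
      Groth.Agent.H3.RigClosed.comap_maximal_of_rig A I B p hp M hM hpM⟩

end Groth.Agent.S8836
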