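import Groth.Statements.S8837
import Mathlib
import Groth.Agent.S19474

set_option autoImplicit false
universe u
open AdicRing

namespace Groth.Agent.S8837

/-- Let A be a Noetherian ring complete for the adic topology of an ideal I (an adic Noetherian
topological ring), p a prime ideal of A, and f ∈ A an element mapping to a unit in A/p. Let A_{f}
denote the completed principal localization, i.e. the I-adic completion of A_f = A[1/f]. Then the
ideal p A_{f} generated by p is prime, and the canonical map A/p → A_{f}/p A_{f} is bijective (so p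
A_{f} = p ⊗_A A_{f} is the completion of p_f, with quotient A/p). -/
theorem result (A : Type u) [CommRing A] [IsNoetherianRing A] (I : Ideal A) [IsAdicComplete I A] (p : Ideal A) [p.IsPrime] (f : A) (hf : IsUnit (Ideal.Quotient.mk p f)) : (p.map (algebraMap A (AdicCompletion (I.map (algebraMap A (Localization.Away f))) (Localization.Away f)))).IsPrime ∧ Function.Bijective (Ideal.quotientMap (p.map (algebraMap A (AdicCompletion (I.map (algebraMap A (Localization.Away f))) (Localization.Away f)))) (algebraMap A (AdicCompletion (I.map (algebraMap A (Localization.Away f))) (Localization.Away f))) Ideal.le_comap_map) := by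
  classical
  let Af := Localization.Away f
  let J : Ideal Af := I.map (algebraMap A Af)
  let C := AdicCompletion J Af
  haveI : IsNoetherianRing Af :=
    IsLocalization.isNoetherianRing (Submonoid.powers f) Af inferInstance
  haveI : IsNoetherianRing C := Groth.Agent.S19474.isNoetherianRing_adicCompletion Af J
  have hJfg : J.FG := IsNoetherian.noetherian J
  let g : A →+* C := algebraMap A C
  let P : Ideal C := p.map g
  let JC : Ideal C := J.map (algebraMap Af C)
  haveI hcompl : IsAdicComplete JC C := AdicCompletion.isAdicComplete_self J hJfg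
  have hIg : I.map g = JC := by
    show I.map (algebraMap A C) = (I.map (algebraMap A Af)).map (algebraMap Af C)
    rw [Ideal.map_map, ← IsScalarTower.algebraMap_eq]
  have hpg : (p.map (algebraMap A Af)).map (algebraMap Af C) = P := by
    show _ = p.map (algebraMap A C)
    rw [Ideal.map_map, ← IsScalarTower.algebraMap_eq]
  have hgalg : ∀ a : A, g a = algebraMap Af C (algebraMap A Af a) := fun a =>
    IsScalarTower.algebraMap_apply A Af C a
  obtain ⟨b, hb⟩ := isUnit_iff_exists_inv.mp hf
  obtain ⟨u, rfl⟩ := Ideal.Quotient.mk_surjective b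
  have hu : 1 - f * u ∈ p := by
    rw [← Ideal.Quotient.eq_zero_iff_mem, map_sub, map_one, map_mul, hb, sub_self]
  have hupow : ∀ N : ℕ, 1 - (f * u) ^ N ∈ p := by
    intro N
    rw [← Ideal.Quotient.eq_zero_iff_mem, map_sub, map_one, map_pow, map_mul, hb, one_pow,
      sub_self]
  -- every element of `Af` is congruent to an element of `A` modulo `p Af`
  have hS1 : ∀ x : Af, ∃ a : A, x - algebraMap A Af a ∈ p.map (algebraMap A Af) := by
    intro x
    obtain ⟨⟨a, ⟨_, k, rfl⟩⟩, hx⟩ := IsLocalization.surj (Submonoid.powers f) x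
    dsimp only at hx
    refine ⟨a * u ^ k, ?_⟩
    rw [← Ideal.Quotient.eq]
    have h0 : f * u - 1 ∈ p := by
      have h := p.neg_mem hu
      rwa [neg_sub] at h
    have h1 : Ideal.Quotient.mk (p.map (algebraMap A Af)) (algebraMap A Af (f * u)) = 1 := by
      have h2 : algebraMap A Af (f * u) - 1 ∈ p.map (algebraMap A Af) := by
        rw [← map_one (algebraMap A Af), ← map_sub]
        exact Ideal.mem_map_of_mem _ h0
      rw [← sub_eq_zero, ← map_one (Ideal.Quotient.mk (p.map (algebraMap A Af))), ← map_sub,
        Ideal.Quotient.eq_zero_iff_mem]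
      exact h2
    calc Ideal.Quotient.mk (p.map (algebraMap A Af)) x
        = Ideal.Quotient.mk (p.map (algebraMap A Af)) x *
            (Ideal.Quotient.mk (p.map (algebraMap A Af)) (algebraMap A Af (f * u))) ^ k := by
          rw [h1, one_pow, mul_one]
      _ = Ideal.Quotient.mk (p.map (algebraMap A Af)) (x * algebraMap A Af (f ^ k)) *
            Ideal.Quotient.mk (p.map (algebraMap A Af)) (algebraMap A Af (u ^ k)) := by
          simp only [map_mul, map_pow]; ring
      _ = Ideal.Quotient.mk (p.map (algebraMap A Af)) (algebraMap A Af (a * u ^ k)) := by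
          rw [hx, ← map_mul, ← map_mul]
  -- surjectivity
  have hJacC : JC ≤ Ideal.jacobson ⊥ := IsAdicComplete.le_jacobson_bot JC
  haveI hHausC : IsHausdorff JC (C ⧸ P) := IsHausdorff.of_le_jacobson JC (C ⧸ P) hJacC
  let F : A →+* C ⧸ P := (Ideal.Quotient.mk P).comp g
  have hIF : I.map F = JC.map (algebraMap C (C ⧸ P)) := by
    show I.map ((Ideal.Quotient.mk P).comp g) = JC.map (Ideal.Quotient.mk P)
    rw [← Ideal.map_map, hIg]
  haveI : IsHausdorff (I.map F) (C ⧸ P) := by
    rw [hIF]; exact IsHausdorff.map_algebraMap_iff.mpr hHausC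
  have hFsurj : Function.Surjective F := by
    apply surjective_of_mk_map_comp_surjective (I := I) F
    intro z
    obtain ⟨z', rfl⟩ := Ideal.Quotient.mk_surjective z
    obtain ⟨c, rfl⟩ := Ideal.Quotient.mk_surjective z'
    obtain ⟨x, hx⟩ : ∃ x : Af, c - algebraMap Af C x ∈ JC := by
      obtain ⟨x, hx⟩ := Ideal.Quotient.mk_surjective (AdicCompletion.evalOneₐ J c)
      refine ⟨x, ?_⟩
      show c - algebraMap Af C x ∈ J.map (algebraMap Af (AdicCompletion J Af))
      rw [← AdicCompletion.ker_evalOneₐ_eq_map J hJfg, RingHom.mem_ker]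
      have h : AdicCompletion.evalOneₐ J (algebraMap Af _ x) = Ideal.Quotient.mk J x :=
        (AdicCompletion.evalOneₐ J).commutes x
      show AdicCompletion.evalOneₐ J (c - algebraMap Af _ x) = 0
      rw [map_sub, h, hx, sub_self]
    obtain ⟨a, ha⟩ := hS1 x
    refine ⟨a, ?_⟩
    simp only [RingHom.comp_apply]
    rw [Ideal.Quotient.eq]
    have h1 : algebraMap Af C x - g a ∈ P := by
      rw [← hpg]
      have h : algebraMap Af C x - g a = algebraMap Af C (x - algebraMap A Af a) := by
        rw [map_sub, hgalg]
      rw [h]; exact Ideal.mem_map_of_mem _ ha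
    have h2 : F a - Ideal.Quotient.mk P c = Ideal.Quotient.mk P (-(c - algebraMap Af C x)) := by
      show Ideal.Quotient.mk P (g a) - Ideal.Quotient.mk P c = _
      rw [← map_sub, Ideal.Quotient.eq]
      have h : g a - c - -(c - algebraMap Af C x) = -(algebraMap Af C x - g a) := by ring
      rw [h]; exact P.neg_mem h1
    rw [h2, hIF]
    exact Ideal.mem_map_of_mem _ (JC.neg_mem hx)
  -- injectivity
  have hinj : Function.Injective (Ideal.quotientMap P g Ideal.le_comap_map) := by
    rw [injective_iff_map_eq_zero]
    intro z hz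
    obtain ⟨a, rfl⟩ := Ideal.Quotient.mk_surjective z
    rw [Ideal.quotientMap_mk, Ideal.Quotient.eq_zero_iff_mem] at hz
    have hmem : ∀ n : ℕ, a ∈ p ⊔ I ^ n := by
      intro n
      let ev : C →+* Af ⧸ J ^ n := (AdicCompletion.evalₐ J n : C →ₐ[Af] Af ⧸ J ^ n)
      have hev : ∀ r : A, ev (g r) = Ideal.Quotient.mk (J ^ n) (algebraMap A Af r) := by
        intro r
        show AdicCompletion.evalₐ J n (algebraMap A C r) = _
        rw [AdicCompletion.algebraMap_apply, AdicCompletion.evalₐ_of]
      have h1 : ev (g a) ∈ P.map ev := Ideal.mem_map_of_mem _ hz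
      have h2 : P.map ev = (p.map (algebraMap A Af)).map (Ideal.Quotient.mk (J ^ n)) := by
        show (p.map g).map ev = _
        rw [Ideal.map_map, Ideal.map_map]
        congr 1
      rw [h2, hev] at h1
      obtain ⟨y, hy, hya⟩ :=
        (Ideal.mem_map_iff_of_surjective _ Ideal.Quotient.mk_surjective).mp h1
      have h4 : algebraMap A Af a ∈ (p ⊔ I ^ n).map (algebraMap A Af) := by
        rw [Ideal.map_sup, Ideal.map_pow]
        have h : algebraMap A Af a = y + (algebraMap A Af a - y) := by ring
        rw [h]
        exact Ideal.add_mem _ (Ideal.mem_sup_left hy)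
          (Ideal.mem_sup_right ((Ideal.Quotient.eq).mp hya.symm))
      obtain ⟨⟨⟨i, hi⟩, ⟨_, k, rfl⟩⟩, h5⟩ :=
        (IsLocalization.mem_map_algebraMap_iff (Submonoid.powers f) Af).mp h4
      dsimp only at h5
      rw [← map_mul, IsLocalization.eq_iff_exists (Submonoid.powers f)] at h5
      obtain ⟨⟨_, l, rfl⟩, h6⟩ := h5
      dsimp only at h6
      have h7 : f ^ (l + k) * a ∈ p ⊔ I ^ n := by
        have h : f ^ (l + k) * a = f ^ l * (a * f ^ k) := by ring
        rw [h, h6]; exact Ideal.mul_mem_left _ _ hi
      have h8 : a = (1 - (f * u) ^ (l + k)) * a + u ^ (l + k) * (f ^ (l + k) * a) := by ring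
      rw [h8]
      exact Ideal.add_mem _ (Ideal.mem_sup_left (Ideal.mul_mem_right _ _ (hupow _)))
        (Ideal.mul_mem_left _ _ h7)
    haveI : IsHausdorff I (A ⧸ p) :=
      IsHausdorff.of_le_jacobson I (A ⧸ p) (IsAdicComplete.le_jacobson_bot I)
    apply IsHausdorff.haus (I := I) inferInstance
    intro n
    rw [SModEq.zero]
    obtain ⟨y, hy, i, hi, hyi⟩ := Submodule.mem_sup.mp (hmem n)
    have h : (Ideal.Quotient.mk p a) = i • (Ideal.Quotient.mk p 1) := by
      rw [← hyi, map_add, Ideal.Quotient.eq_zero_iff_mem.mpr hy, zero_add, Algebra.smul_def,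
        map_one, mul_one]
      rfl
    rw [h]; exact Submodule.smul_mem_smul hi Submodule.mem_top
  have hbij : Function.Bijective (Ideal.quotientMap P g Ideal.le_comap_map) := by
    refine ⟨hinj, fun z => ?_⟩
    obtain ⟨a, ha⟩ := hFsurj z
    exact ⟨Ideal.Quotient.mk p a, by rw [Ideal.quotientMap_mk]; exact ha⟩
  refine ⟨?_, hbij⟩
  show P.IsPrime
  rw [← Ideal.Quotient.isDomain_iff_prime]
  exact MulEquiv.isDomain (A ⧸ p) (RingEquiv.ofBijective _ hbij).symm.toMulEquiv

end Groth.Agent.S8837
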