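import Groth.Statements.S8838
import Mathlib
import Groth.Agent.H3.RigClosed2

set_option autoImplicit false
universe u
open AdicRing

namespace Groth.Agent.S8838

open TensorProduct in
theorem formallyUnramified_of {R S : Type u} [CommRing R] [CommRing S] [Algebra R S]
    [Module.Finite R S] (I₀ : Ideal R) (hJ : I₀.map (algebraMap R S) ≤ Ideal.jacobson ⊥)
    [Algebra.FormallyUnramified R (S ⧸ I₀.map (algebraMap R S))] :
    Algebra.FormallyUnramified R S := by
  haveI : Algebra.EssFiniteType R S := inferInstance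
  haveI : Module.Finite S Ω[S⁄R] := inferInstance
  have key : ∀ x ∈ Ideal.map (algebraMap R S) I₀,
      (1 : S ⧸ I₀.map (algebraMap R S)) ⊗ₜ[S] KaehlerDifferential.D R S x = 0 := by
    intro x hx
    induction hx using Submodule.span_induction with
    | zero => rw [map_zero, TensorProduct.tmul_zero]
    | mem x h =>
      obtain ⟨x, hx, rfl⟩ := h
      rw [Derivation.map_algebraMap, TensorProduct.tmul_zero]
    | add x y hx hy ihx ihy => rw [map_add, TensorProduct.tmul_add, ihx, ihy, add_zero]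
    | smul a x hx ih =>
      have h0 : Ideal.Quotient.mk (I₀.map (algebraMap R S)) x = 0 :=
        Ideal.Quotient.eq_zero_iff_mem.mpr hx
      rw [smul_eq_mul, Derivation.leibniz, TensorProduct.tmul_add, TensorProduct.tmul_smul, ih,
        smul_zero, zero_add, ← TensorProduct.smul_tmul, Algebra.smul_def, mul_one,
        Ideal.Quotient.algebraMap_eq, h0, TensorProduct.zero_tmul]
  have hsub : Subsingleton ((S ⧸ I₀.map (algebraMap R S)) ⊗[S] Ω[S⁄R]) := by
    refine subsingleton_of_forall_eq 0 fun t => ?_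
    obtain ⟨c, rfl⟩ := (KaehlerDifferential.exact_kerCotangentToTensor_mapBaseChange R S
      (S ⧸ I₀.map (algebraMap R S)) Ideal.Quotient.mk_surjective t).mp (Subsingleton.elim _ _)
    obtain ⟨⟨x, hx⟩, rfl⟩ := Ideal.toCotangent_surjective _ c
    rw [KaehlerDifferential.kerCotangentToTensor_toCotangent]
    have hx' : x ∈ Ideal.map (algebraMap R S) I₀ := by
      rwa [Ideal.Quotient.algebraMap_eq, Ideal.mk_ker] at hx
    exact key x hx'
  have e := TensorProduct.quotTensorEquivQuotSMul Ω[S⁄R] (I₀.map (algebraMap R S))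
  haveI : Subsingleton (Ω[S⁄R] ⧸ (I₀.map (algebraMap R S) • ⊤ : Submodule S Ω[S⁄R])) :=
    e.symm.toEquiv.subsingleton
  have htop : (I₀.map (algebraMap R S) • ⊤ : Submodule S Ω[S⁄R]) = ⊤ :=
    Submodule.Quotient.subsingleton_iff.mp inferInstance
  have hbot : (⊤ : Submodule S Ω[S⁄R]) = ⊥ :=
    Submodule.eq_bot_of_le_smul_of_le_jacobson_bot (I₀.map (algebraMap R S)) ⊤
      Module.Finite.fg_top (le_of_eq htop.symm) hJ
  exact ⟨subsingleton_of_forall_eq 0 fun ω =>
    (Submodule.mem_bot S).mp (hbot ▸ (Submodule.mem_top : ω ∈ (⊤ : Submodule S Ω[S⁄R])))⟩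

theorem maximalIdeal_eq_bot {R S : Type u} [CommRing R] [IsDomain R] [CommRing S] [Algebra R S]
    [Algebra.FiniteType R S] [Algebra.FormallyUnramified R S] (Q : Ideal S) [Q.IsPrime]
    (hQ : Q.comap (algebraMap R S) = ⊥) :
    IsLocalRing.maximalIdeal (Localization.AtPrime Q) = ⊥ := by
  have hunit : ∀ r : nonZeroDivisors R, IsUnit (algebraMap R (Localization.AtPrime Q) r) := by
    intro r
    rw [IsScalarTower.algebraMap_apply R S (Localization.AtPrime Q)]
    have hr : algebraMap R S r ∈ Q.primeCompl := by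
      intro h
      have h1 : (r : R) ∈ Q.comap (algebraMap R S) := h
      rw [hQ, Ideal.mem_bot] at h1
      exact nonZeroDivisors.ne_zero r.2 h1
    exact IsLocalization.map_units (Localization.AtPrime Q) (⟨algebraMap R S r, hr⟩ : Q.primeCompl)
  let f : FractionRing R →+* Localization.AtPrime Q :=
    IsLocalization.lift (M := nonZeroDivisors R) (g := algebraMap R (Localization.AtPrime Q)) hunit
  letI : Algebra (FractionRing R) (Localization.AtPrime Q) := f.toAlgebra
  haveI : IsScalarTower R (FractionRing R) (Localization.AtPrime Q) :=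
    IsScalarTower.of_algebraMap_eq (fun r => (IsLocalization.lift_eq hunit r).symm)
  haveI : IsLocalHom (algebraMap (FractionRing R) (Localization.AtPrime Q)) := ⟨fun a ha => by
    rcases eq_or_ne a 0 with rfl | h0
    · rw [map_zero] at ha; exact absurd ha not_isUnit_zero
    · exact IsUnit.mk0 a h0⟩
  haveI : Algebra.EssFiniteType R (Localization.AtPrime Q) := inferInstance
  haveI : Algebra.EssFiniteType (FractionRing R) (Localization.AtPrime Q) :=
    Algebra.EssFiniteType.of_comp R (FractionRing R) (Localization.AtPrime Q)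
  haveI : Algebra.FormallyUnramified R (Localization.AtPrime Q) := inferInstance
  haveI : Algebra.FormallyUnramified (FractionRing R) (Localization.AtPrime Q) :=
    Algebra.FormallyUnramified.of_restrictScalars R (FractionRing R) (Localization.AtPrime Q)
  have h := Algebra.FormallyUnramified.map_maximalIdeal (R := FractionRing R)
    (S := Localization.AtPrime Q)
  rw [← h, IsLocalRing.maximalIdeal_eq_bot, Ideal.map_bot]

section

variable (A : Type u) [CommRing A] (I : Ideal A) (B : Type u) [CommRing B] [Algebra A B]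

theorem quot_props (𝔭 : Ideal A) (N : Ideal (B ⧸ 𝔭.map (algebraMap A B)))
    (hN : I.map (algebraMap A B) ≤
      Ideal.comap (Ideal.Quotient.mkₐ A (𝔭.map (algebraMap A B))) N)
    (hft : Algebra.FiniteType A (B ⧸ I.map (algebraMap A B)))
    [Algebra.FormallyUnramified A (B ⧸ I.map (algebraMap A B))] :
    Algebra.FormallyUnramified (A ⧸ 𝔭) ((B ⧸ 𝔭.map (algebraMap A B)) ⧸ N) ∧
    Algebra.FiniteType (A ⧸ 𝔭) ((B ⧸ 𝔭.map (algebraMap A B)) ⧸ N) := by
  let g : (B ⧸ I.map (algebraMap A B)) →ₐ[A] ((B ⧸ 𝔭.map (algebraMap A B)) ⧸ N) :=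
    Ideal.quotientMapₐ N (Ideal.Quotient.mkₐ A (𝔭.map (algebraMap A B))) hN
  have hg : Function.Surjective g := by
    intro x
    obtain ⟨c, rfl⟩ := Ideal.Quotient.mk_surjective x
    obtain ⟨b, rfl⟩ := Ideal.Quotient.mk_surjective c
    exact ⟨Ideal.Quotient.mk _ b, rfl⟩
  haveI := hft
  haveI : Algebra.FormallyUnramified A ((B ⧸ 𝔭.map (algebraMap A B)) ⧸ N) :=
    Algebra.FormallyUnramified.of_surjective g hg
  haveI : Algebra.FiniteType A ((B ⧸ 𝔭.map (algebraMap A B)) ⧸ N) :=
    Algebra.FiniteType.of_surjective g hg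
  exact ⟨Algebra.FormallyUnramified.of_restrictScalars A _ _,
    Algebra.FiniteType.of_restrictScalars_finiteType A _ _⟩

theorem map_comp_eq (𝔭 : Ideal A) :
    (I.map (Ideal.Quotient.mk 𝔭)).map (algebraMap (A ⧸ 𝔭) (B ⧸ 𝔭.map (algebraMap A B))) =
      (I.map (algebraMap A B)).map (Ideal.Quotient.mk (𝔭.map (algebraMap A B))) := by
  rw [Ideal.map_map, Ideal.map_map]
  rfl

theorem le_comap_of_le (𝔭 : Ideal A) (N : Ideal (B ⧸ 𝔭.map (algebraMap A B)))
    (h : (I.map (Ideal.Quotient.mk 𝔭)).map (algebraMap (A ⧸ 𝔭) (B ⧸ 𝔭.map (algebraMap A B))) ≤ N) :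
    I.map (algebraMap A B) ≤ Ideal.comap (Ideal.Quotient.mkₐ A (𝔭.map (algebraMap A B))) N := by
  rw [map_comp_eq] at h
  exact Ideal.map_le_iff_le_comap.mp h

variable [IsNoetherianRing B]

theorem map_le_jacobson (𝔭 : Ideal A) (hJac : I.map (algebraMap A B) ≤ Ideal.jacobson ⊥)
    (N : Ideal (B ⧸ 𝔭.map (algebraMap A B)))
    (hN : N ≤ ((I.map (Ideal.Quotient.mk 𝔭)).map
      (algebraMap (A ⧸ 𝔭) (B ⧸ 𝔭.map (algebraMap A B)))).radical) :
    N ≤ Ideal.jacobson ⊥ := by
  refine le_sInf ?_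
  rintro M ⟨-, hM⟩
  haveI := hM
  refine hN.trans ((Ideal.IsPrime.radical_le_iff hM.isPrime).mpr ?_)
  rw [map_comp_eq, Ideal.map_le_iff_le_comap]
  refine hJac.trans (sInf_le ⟨bot_le, ?_⟩)
  exact Ideal.comap_isMaximal_of_surjective _ Ideal.Quotient.mk_surjective

theorem finite_quot (𝔭 : Ideal A) (m' : Ideal (A ⧸ 𝔭)) [m'.IsMaximal] [IsPrecomplete m' (A ⧸ 𝔭)]
    (hIm : I.map (Ideal.Quotient.mk 𝔭) ≤ m') (hm' : m' ≤ (I.map (Ideal.Quotient.mk 𝔭)).radical)
    (hJac : I.map (algebraMap A B) ≤ Ideal.jacobson ⊥)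
    (hft : Algebra.FiniteType A (B ⧸ I.map (algebraMap A B)))
    [Algebra.FormallyUnramified A (B ⧸ I.map (algebraMap A B))] :
    Module.Finite (A ⧸ 𝔭) (B ⧸ 𝔭.map (algebraMap A B)) := by
  have hle := le_comap_of_le A I B 𝔭 (m'.map (algebraMap (A ⧸ 𝔭) (B ⧸ 𝔭.map (algebraMap A B))))
    (Ideal.map_mono hIm)
  obtain ⟨hu, hf⟩ := quot_props A I B 𝔭 _ hle hft
  letI : Field ((A ⧸ 𝔭) ⧸ m') := Ideal.Quotient.field m'
  haveI : Algebra.FormallyUnramified ((A ⧸ 𝔭) ⧸ m') ((B ⧸ 𝔭.map (algebraMap A B)) ⧸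
      m'.map (algebraMap (A ⧸ 𝔭) (B ⧸ 𝔭.map (algebraMap A B)))) :=
    Algebra.FormallyUnramified.of_restrictScalars (A ⧸ 𝔭) _ _
  haveI : Algebra.FiniteType ((A ⧸ 𝔭) ⧸ m') ((B ⧸ 𝔭.map (algebraMap A B)) ⧸
      m'.map (algebraMap (A ⧸ 𝔭) (B ⧸ 𝔭.map (algebraMap A B)))) :=
    Algebra.FiniteType.of_restrictScalars_finiteType (A ⧸ 𝔭) _ _
  haveI : Module.Finite ((A ⧸ 𝔭) ⧸ m') ((B ⧸ 𝔭.map (algebraMap A B)) ⧸
      m'.map (algebraMap (A ⧸ 𝔭) (B ⧸ 𝔭.map (algebraMap A B)))) :=
    Algebra.FormallyUnramified.finite_of_free _ _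
  haveI : Module.Finite (A ⧸ 𝔭) ((A ⧸ 𝔭) ⧸ m') :=
    Module.Finite.of_surjective (Ideal.Quotient.mkₐ (A ⧸ 𝔭) m').toLinearMap
      (Ideal.Quotient.mkₐ_surjective (A ⧸ 𝔭) m')
  haveI : Module.Finite (A ⧸ 𝔭) ((B ⧸ 𝔭.map (algebraMap A B)) ⧸
      m'.map (algebraMap (A ⧸ 𝔭) (B ⧸ 𝔭.map (algebraMap A B)))) :=
    Module.Finite.trans ((A ⧸ 𝔭) ⧸ m') _
  have hmBJ : m'.map (algebraMap (A ⧸ 𝔭) (B ⧸ 𝔭.map (algebraMap A B))) ≤ Ideal.jacobson ⊥ :=
    map_le_jacobson A I B 𝔭 hJac _ ((Ideal.map_mono hm').trans (Ideal.map_radical_le _))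
  haveI : IsHausdorff m' (B ⧸ 𝔭.map (algebraMap A B)) :=
    (IsHausdorff.map_algebraMap_iff (I := m') (M := B ⧸ 𝔭.map (algebraMap A B))
      (S := B ⧸ 𝔭.map (algebraMap A B))).mp
      (IsHausdorff.of_le_jacobson _ (B ⧸ 𝔭.map (algebraMap A B)) hmBJ)
  have hsm : (m' • ⊤ : Submodule (A ⧸ 𝔭) (B ⧸ 𝔭.map (algebraMap A B))) =
      (m'.map (algebraMap (A ⧸ 𝔭) (B ⧸ 𝔭.map (algebraMap A B)))).restrictScalars (A ⧸ 𝔭) := by
    rw [Ideal.smul_top_eq_map]
  haveI : Module.Finite (A ⧸ 𝔭) ((B ⧸ 𝔭.map (algebraMap A B)) ⧸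
      (m' • ⊤ : Submodule (A ⧸ 𝔭) (B ⧸ 𝔭.map (algebraMap A B)))) := by
    rw [hsm]
    exact Module.Finite.equiv (Submodule.Quotient.restrictScalarsEquiv (A ⧸ 𝔭)
      (m'.map (algebraMap (A ⧸ 𝔭) (B ⧸ 𝔭.map (algebraMap A B))))).symm
  exact Groth.Agent.H3.RigClosed.finite_of_quotient_finite m' (B ⧸ 𝔭.map (algebraMap A B))

end


/-- Suppose A is a Noetherian ring that is I-adically complete for an ideal I, and B is a Noetherian
A-algebra that is complete with respect to the IB-adic topology, with B/IB of finite type over A (so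
A → B is an adic morphism of adic Noetherian topological rings that is topologically of finite
type). Assume further that A → B is flat and that the induced map A/I → B/IB is étale (with I as the
chosen ideal of definition). Consider a prime q of B that is rig-closed (q does not contain IB, and
q is maximal among primes of B not containing IB), and suppose its preimage p in A is rig-closed as
well (p does not contain I, and p is maximal among primes of A not containing I). Then the extension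
of p to the localization B_q equals its maximal ideal, that is, p B_q = q B_q. -/
theorem result (A : Type u) [CommRing A] [IsNoetherianRing A] (I : Ideal A) [IsAdicComplete I A] (B : Type u) [CommRing B] [Algebra A B] [IsNoetherianRing B] [IsAdicComplete (I.map (algebraMap A B)) B] (hft : Algebra.FiniteType A (B ⧸ (I.map (algebraMap A B)))) [Module.Flat A B] [Algebra.Etale (A ⧸ I) (B ⧸ (I.map (algebraMap A B)))] (q : PrimeSpectrum B) (hq : (¬ (I.map (algebraMap A B)) ≤ q.asIdeal ∧ ∀ y : PrimeSpectrum B, q ≤ y → ¬ (I.map (algebraMap A B)) ≤ y.asIdeal → y = q)) (hp : (¬ I ≤ (PrimeSpectrum.comap (algebraMap A B) q).asIdeal ∧ ∀ y : PrimeSpectrum A, (PrimeSpectrum.comap (algebraMap A B) q) ≤ y → ¬ I ≤ y.asIdeal → y = (PrimeSpectrum.comap (algebraMap A B) q))) : ((PrimeSpectrum.comap (algebraMap A B) q).asIdeal.map (algebraMap A B)).map (algebraMap B (Localization.AtPrime q.asIdeal)) = IsLocalRing.maximalIdeal (Localization.AtPrime q.asIdeal) := by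
  classical
  obtain ⟨hdim, hmaxA, hcompA⟩ :=
    ((Groth.Agent.S8804.result A I (PrimeSpectrum.comap (algebraMap A B) q)).out 0 2).mp hp
  haveI h𝔭prime : (PrimeSpectrum.comap (algebraMap A B) q).asIdeal.IsPrime :=
    (PrimeSpectrum.comap (algebraMap A B) q).isPrime
  obtain ⟨𝔪, h𝔪⟩ := Ideal.exists_maximal (A ⧸ (PrimeSpectrum.comap (algebraMap A B) q).asIdeal)
  have h𝔪eq := hmaxA 𝔪 h𝔪
  haveI hmax : ((I.map (Ideal.Quotient.mk
      (PrimeSpectrum.comap (algebraMap A B) q).asIdeal)).radical).IsMaximal := h𝔪eq ▸ h𝔪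
  haveI := hcompA
  haveI : Algebra.FormallyUnramified A (B ⧸ I.map (algebraMap A B)) :=
    Algebra.FormallyUnramified.comp A (A ⧸ I) _
  have hJac : I.map (algebraMap A B) ≤ Ideal.jacobson ⊥ := IsAdicComplete.le_jacobson_bot _
  haveI hfin : Module.Finite (A ⧸ (PrimeSpectrum.comap (algebraMap A B) q).asIdeal)
      (B ⧸ (PrimeSpectrum.comap (algebraMap A B) q).asIdeal.map (algebraMap A B)) :=
    finite_quot A I B _ _ Ideal.le_radical le_rfl hJac hft
  have hle := le_comap_of_le A I B (PrimeSpectrum.comap (algebraMap A B) q).asIdeal _ le_rfl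
  obtain ⟨hu, -⟩ := quot_props A I B (PrimeSpectrum.comap (algebraMap A B) q).asIdeal _ hle hft
  haveI := hu
  have hJ' := map_le_jacobson A I B (PrimeSpectrum.comap (algebraMap A B) q).asIdeal hJac _
    Ideal.le_radical
  haveI : Algebra.FormallyUnramified (A ⧸ (PrimeSpectrum.comap (algebraMap A B) q).asIdeal)
      (B ⧸ (PrimeSpectrum.comap (algebraMap A B) q).asIdeal.map (algebraMap A B)) :=
    formallyUnramified_of (I.map (Ideal.Quotient.mk
      (PrimeSpectrum.comap (algebraMap A B) q).asIdeal)) hJ'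
  -- the prime upstairs
  have hPq : (PrimeSpectrum.comap (algebraMap A B) q).asIdeal.map (algebraMap A B) ≤ q.asIdeal :=
    Ideal.map_comap_le
  haveI hQprime : (q.asIdeal.map (Ideal.Quotient.mk
      ((PrimeSpectrum.comap (algebraMap A B) q).asIdeal.map (algebraMap A B)))).IsPrime :=
    Ideal.map_isPrime_of_surjective Ideal.Quotient.mk_surjective
      (by rw [Ideal.mk_ker]; exact hPq)
  have hcm := Ideal.comap_map_mk hPq
  have hQ0 : (q.asIdeal.map (Ideal.Quotient.mk
      ((PrimeSpectrum.comap (algebraMap A B) q).asIdeal.map (algebraMap A B)))).comap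
      (algebraMap (A ⧸ (PrimeSpectrum.comap (algebraMap A B) q).asIdeal)
        (B ⧸ (PrimeSpectrum.comap (algebraMap A B) q).asIdeal.map (algebraMap A B))) = ⊥ := by
    rw [eq_bot_iff]
    intro x hx
    obtain ⟨a, rfl⟩ := Ideal.Quotient.mk_surjective x
    rw [Ideal.mem_comap] at hx
    have h2 : algebraMap A B a ∈ (q.asIdeal.map (Ideal.Quotient.mk
      ((PrimeSpectrum.comap (algebraMap A B) q).asIdeal.map (algebraMap A B)))).comap
      (Ideal.Quotient.mk _) := hx
    rw [hcm] at h2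
    rw [Ideal.mem_bot, Ideal.Quotient.eq_zero_iff_mem]
    exact h2
  haveI : Algebra.FiniteType (A ⧸ (PrimeSpectrum.comap (algebraMap A B) q).asIdeal)
      (B ⧸ (PrimeSpectrum.comap (algebraMap A B) q).asIdeal.map (algebraMap A B)) := inferInstance
  have hmaxbot := maximalIdeal_eq_bot (q.asIdeal.map (Ideal.Quotient.mk
      ((PrimeSpectrum.comap (algebraMap A B) q).asIdeal.map (algebraMap A B)))) hQ0
  rw [← Localization.AtPrime.map_eq_maximalIdeal]
  apply le_antisymm
  · exact Ideal.map_mono hPq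
  · rw [Ideal.map_le_iff_le_comap]
    intro x hx
    rw [Ideal.mem_comap]
    have h1 : algebraMap _ (Localization.AtPrime (q.asIdeal.map (Ideal.Quotient.mk
        ((PrimeSpectrum.comap (algebraMap A B) q).asIdeal.map (algebraMap A B)))))
        (Ideal.Quotient.mk ((PrimeSpectrum.comap (algebraMap A B) q).asIdeal.map
          (algebraMap A B)) x) ∈ IsLocalRing.maximalIdeal _ := by
      rw [← Localization.AtPrime.map_eq_maximalIdeal]
      exact Ideal.mem_map_of_mem _ (Ideal.mem_map_of_mem _ hx)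
    rw [hmaxbot, Ideal.mem_bot] at h1
    obtain ⟨⟨s', hs'⟩, hs⟩ := (IsLocalization.map_eq_zero_iff (q.asIdeal.map (Ideal.Quotient.mk
        ((PrimeSpectrum.comap (algebraMap A B) q).asIdeal.map (algebraMap A B)))).primeCompl
        _ _).mp h1
    obtain ⟨s, rfl⟩ := Ideal.Quotient.mk_surjective s'
    have hsx : s * x ∈ (PrimeSpectrum.comap (algebraMap A B) q).asIdeal.map (algebraMap A B) := by
      rw [← Ideal.Quotient.eq_zero_iff_mem, map_mul]; exact hs
    have hsq : s ∉ q.asIdeal := fun h => hs' (Ideal.mem_map_of_mem _ h)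
    have hunit : IsUnit (algebraMap B (Localization.AtPrime q.asIdeal) s) :=
      IsLocalization.map_units _ (⟨s, hsq⟩ : q.asIdeal.primeCompl)
    have h2 : algebraMap B (Localization.AtPrime q.asIdeal) (s * x) ∈
        ((PrimeSpectrum.comap (algebraMap A B) q).asIdeal.map (algebraMap A B)).map
          (algebraMap B (Localization.AtPrime q.asIdeal)) := Ideal.mem_map_of_mem _ hsx
    rw [map_mul] at h2
    exact (Ideal.unit_mul_mem_iff_mem _ hunit).mp h2

end Groth.Agent.S8838
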