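import Groth.Statements.S8850
import Mathlib

set_option autoImplicit false
universe u
open CategoryTheory CategoryTheory.Limits AlgebraicGeometry TopologicalSpace
open SDiv

namespace Groth.Agent.S8850

open AlgebraicGeometry CategoryTheory Limits in
theorem ker_toImage {X Y : Scheme.{u}} (f : X ⟶ Y) [QuasiCompact f] : f.toImage.ker = ⊥ := by
  refine Scheme.IdealSheafData.ext_of_iSup_eq_top
    (fun U : Y.affineOpens =>
      (⟨f.imageι ⁻¹ᵁ U.1, U.2.preimage f.imageι⟩ : f.image.affineOpens)) ?_ ?_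
  · show ⨆ U : Y.affineOpens, f.imageι ⁻¹ᵁ U.1 = ⊤
    rw [← Scheme.Hom.preimage_iSup, iSup_affineOpens_eq_top, Scheme.Hom.preimage_top]
  · intro U
    have h := f.toImage_app_injective U
    rw [RingHom.injective_iff_ker_eq_bot] at h
    rw [Scheme.Hom.ker_apply]
    exact h

open AlgebraicGeometry CategoryTheory Limits in
theorem aux {X X' Y : Scheme.{u}} (U : X.Opens) (p : X' ⟶ X) [IsSeparated p]
    (h : (U : Scheme.{u}) ⟶ X') [QuasiCompact h] [IsSchemeTheoreticallyDominant h]
    (hp : h ≫ p = U.ι) :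
    IsIso (p ∣_ U) ∧ ∀ (f' : X' ⟶ Y) (f : (U : Scheme.{u}) ⟶ Y), h ≫ f' = f →
      (p ⁻¹ᵁ U).ι ≫ f' = (p ∣_ U) ≫ f := by
  have HP := isPullback_morphismRestrict p U
  let s : (U : Scheme.{u}) ⟶ (p ⁻¹ᵁ U : Scheme.{u}) :=
    HP.lift (𝟙 _) h (by rw [Category.id_comp, hp])
  have hs1 : s ≫ (p ∣_ U) = 𝟙 _ := HP.lift_fst _ _ _
  have hs2 : s ≫ (p ⁻¹ᵁ U).ι = h := HP.lift_snd _ _ _
  haveI : IsSeparated (p ∣_ U) :=
    IsZariskiLocalAtTarget.restrict (P := @IsSeparated) (inferInstance : IsSeparated p) U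
  haveI : IsClosedImmersion (s ≫ (p ∣_ U)) := by rw [hs1]; infer_instance
  haveI : IsClosedImmersion s := IsClosedImmersion.of_comp s (p ∣_ U)
  have HS : IsPullback (𝟙 (U : Scheme.{u})) s h (p ⁻¹ᵁ U).ι := by
    refine ⟨⟨by rw [Category.id_comp, hs2]⟩,
      ⟨PullbackCone.IsLimit.mk _ (fun c => c.fst) ?_ ?_ ?_⟩⟩
    · intro c; exact Category.comp_id _
    · intro c
      rw [← cancel_mono (p ⁻¹ᵁ U).ι, Category.assoc, hs2]; exact c.condition
    · intro c m h1 _
      rw [← h1, Category.comp_id]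
  haveI : IsSchemeTheoreticallyDominant s := IsSchemeTheoreticallyDominant.of_isPullback HS
  haveI : IsIso s := IsClosedImmersion.isIso_iff_ker_eq_bot.mpr
    (IsSchemeTheoreticallyDominant.ker_eq_bot s)
  have hinv : (p ∣_ U) = inv s := by
    rw [← cancel_epi s, hs1, IsIso.hom_inv_id]
  refine ⟨by rw [hinv]; infer_instance, ?_⟩
  intro f' f hf'
  rw [← cancel_epi s, ← Category.assoc, hs2, ← Category.assoc, hs1, Category.id_comp]
  exact hf'


/-- Let S be a scheme, X a Noetherian S-scheme, Y a proper S-scheme, U ⊆ X an open subscheme and f : U ⟶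
Y a morphism compatible with the structure morphisms to S. Then there are a proper morphism p : X' ⟶
X restricting to an isomorphism over U and an S-morphism f' : X' ⟶ Y whose restriction to p⁻¹(U) is
f composed with p. The published statement takes U dense, so that f is an S-rational map; this row
allows any open U, which its proof does not need. -/
theorem result {X Y S : Scheme.{u}} [IsNoetherian X] (a : X ⟶ S) (b : Y ⟶ S)
    [IsProper b] (U : X.Opens) (f : (U : Scheme.{u}) ⟶ Y) (hf : f ≫ b = U.ι ≫ a) :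
    ∃ (X' : Scheme.{u}) (p : X' ⟶ X) (f' : X' ⟶ Y), IsProper p ∧ IsIso (p ∣_ U) ∧ f' ≫ b = p ≫ a ∧
      (p ⁻¹ᵁ U).ι ≫ f' = (p ∣_ U) ≫ f := by
  let g : (U : Scheme.{u}) ⟶ pullback a b := pullback.lift U.ι f hf.symm
  haveI : NoetherianSpace (U : Scheme.{u}) :=
    Topology.IsInducing.noetherianSpace (α := X) U.ι.isEmbedding.isInducing
  haveI : QuasiCompact g := inferInstance
  have hi : g.toImage ≫ g.imageι = g := g.toImage_imageι
  have hp : g.toImage ≫ (g.imageι ≫ pullback.fst a b) = U.ι := by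
    rw [← Category.assoc, hi]; exact pullback.lift_fst _ _ _
  have hf' : g.toImage ≫ (g.imageι ≫ pullback.snd a b) = f := by
    rw [← Category.assoc, hi]; exact pullback.lift_snd _ _ _
  haveI : IsProper (pullback.fst a b) :=
    MorphismProperty.pullback_fst (P := @IsProper) a b inferInstance
  haveI : IsProper (g.imageι ≫ pullback.fst a b) := inferInstance
  haveI : IsSchemeTheoreticallyDominant g.toImage := ⟨ker_toImage g⟩
  obtain ⟨h1, h2⟩ := aux (Y := Y) U (g.imageι ≫ pullback.fst a b) g.toImage hp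
  refine ⟨g.image, g.imageι ≫ pullback.fst a b, g.imageι ≫ pullback.snd a b, inferInstance,
    h1, ?_, h2 _ _ hf'⟩
  rw [Category.assoc, Category.assoc, pullback.condition]

end Groth.Agent.S8850
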