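import Groth.Statements.S8853
import Mathlib

set_option autoImplicit false
universe u
open CategoryTheory CategoryTheory.Limits AlgebraicGeometry TopologicalSpace
open SDiv

namespace Groth.Agent.S8853

/-- Let Z be a locally principal closed subscheme of a scheme S, with ideal sheaf 𝓘 generated by a
single section on some affine open neighbourhood of each point of its support, and let U be the open
complement of Z. Then the inclusion U ⟶ S is an affine morphism. -/
theorem result {S : Scheme.{u}} (𝓘 : S.IdealSheafData) (h : Curv2.IsLocPrincipal 𝓘) :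
    IsAffineHom (Scheme.Opens.ι 𝓘.support.compl) := by
  set V : S.Opens := 𝓘.support.compl with hV
  apply isAffineHom_of_forall_exists_isAffineOpen
  intro x
  by_cases hx : x ∈ 𝓘.support
  · obtain ⟨U, hxU, f, hf⟩ := h x hx
    refine ⟨U.1, hxU, U.2, ?_⟩
    rw [← V.ι.isAffineOpen_iff_of_isOpenImmersion, Scheme.Hom.image_preimage_eq_opensRange_inf,
      Scheme.Opens.opensRange_ι]
    have hVU : V ⊓ U.1 = S.basicOpen f := by
      ext y
      constructor
      · rintro ⟨hyV, hyU⟩
        have h1 : y ∉ 𝓘.support := hyV
        rw [Scheme.IdealSheafData.mem_support_iff_of_mem hyU, hf, Scheme.zeroLocus_span,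
          Scheme.zeroLocus_singleton] at h1
        simpa using h1
      · intro hy
        have hyU : y ∈ U.1 := S.basicOpen_le f hy
        refine ⟨?_, hyU⟩
        show y ∉ 𝓘.support
        rw [Scheme.IdealSheafData.mem_support_iff_of_mem hyU, hf, Scheme.zeroLocus_span,
          Scheme.zeroLocus_singleton]
        simpa using hy
    rw [hVU]
    exact U.2.basicOpen f
  · have hxV : x ∈ V := hx
    obtain ⟨W, hW, hxW, hWV⟩ := exists_isAffineOpen_mem_and_subset hxV
    refine ⟨W, hxW, hW, ?_⟩
    exact hW.preimage_of_isOpenImmersion V.ι (by rw [Scheme.Opens.opensRange_ι]; exact hWV)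

end Groth.Agent.S8853
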