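import Groth.Statements.S8854
import Mathlib

set_option autoImplicit false
universe u
open SDiv

namespace Groth.Agent.S8854

/-- Let R be a Noetherian unique factorisation domain and I ⊆ R an ideal such that every associated
prime of R/I is minimal over I (R/I has no embedded primes) and every prime minimal over I has
height 1. Then I is principal: it is generated by one element. -/
theorem result (R : Type u) [CommRing R] [IsDomain R] [IsNoetherianRing R]
    [UniqueFactorizationMonoid R] (I : Ideal R)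
    (h1 : ∀ p : Ideal R, p ∈ associatedPrimes R (R ⧸ I) → p ∈ I.minimalPrimes)
    (h2 : ∀ p : Ideal R, p ∈ I.minimalPrimes → p.height = 1) :
    ∃ f : R, I = Ideal.span {f} := by
  by_cases hI : I = ⊥
  · exact ⟨0, by rw [hI]; simp⟩
  obtain ⟨x, hxI, hx0⟩ : ∃ x ∈ I, x ≠ 0 := Submodule.exists_mem_ne_zero_of_ne_bot hI
  -- the set of cofactors `c` with `x = f * c`, `I ≤ (f)`
  let T : Set R := {c | ∃ f, I ≤ Ideal.span {f} ∧ x = f * c}
  have hT : T.Nonempty := ⟨x, 1, by simp, by simp⟩
  have wf : WellFounded (DvdNotUnit : R → R → Prop) := wellFounded_dvdNotUnit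
  obtain ⟨c, ⟨f, hIf, hxf⟩, hcmin⟩ := wf.has_min T hT
  have hf0 : f ≠ 0 := by
    rintro rfl
    rw [zero_mul] at hxf
    exact hx0 hxf
  refine ⟨f, le_antisymm hIf ?_⟩
  rw [Ideal.span_singleton_le_iff_mem]
  let J : Ideal R := Submodule.comap (LinearMap.mulLeft R f) I
  have hJ : ∀ y, y ∈ J ↔ f * y ∈ I := fun y => Iff.rfl
  by_contra hfI
  have hJtop : J ≠ ⊤ := by
    intro h
    have h1 : (1 : R) ∈ J := by rw [h]; trivial
    rw [hJ, mul_one] at h1
    exact hfI h1
  have : Nontrivial (R ⧸ J) := Ideal.Quotient.nontrivial_iff.2 hJtop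
  obtain ⟨p, hp⟩ := associatedPrimes.nonempty R (R ⧸ J)
  let g : (R ⧸ J) →ₗ[R] (R ⧸ I) := Submodule.mapQ J I (LinearMap.mulLeft R f) (le_refl _)
  have hg : Function.Injective g := by
    rw [← LinearMap.ker_eq_bot, Submodule.ker_mapQ]
    rw [eq_bot_iff]
    rintro _ ⟨y, hy, rfl⟩
    rw [Submodule.mem_bot, Submodule.mkQ_apply, Submodule.Quotient.mk_eq_zero]
    exact hy
  have hpI : p ∈ associatedPrimes R (R ⧸ I) := associatedPrimes.subset_of_injective hg hp
  have hpmin := h1 p hpI
  have hht := h2 p hpmin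
  have hpprime : p.IsPrime := IsAssociatedPrime.isPrime hp
  have hJp : J ≤ p := by
    have h3 := IsAssociatedPrime.annihilator_le hp
    rw [Submodule.annihilator_top, Ideal.annihilator_quotient] at h3
    exact h3
  have hpbot : p ≠ ⊥ := Ideal.ne_bot_of_height_eq_one hht
  obtain ⟨π, hπp, hπ⟩ := Ideal.IsPrime.exists_mem_prime_of_ne_bot hpprime hpbot
  have hqprime : (Ideal.span {π}).IsPrime := (Ideal.span_singleton_prime hπ.ne_zero).2 hπ
  have hqle : Ideal.span {π} ≤ p := (Ideal.span_singleton_le_iff_mem _).2 hπp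
  have hpfin : p.FiniteHeight := by
    rw [Ideal.finiteHeight_iff]
    right
    rw [hht]
    exact ENat.one_ne_top
  have hpeq : Ideal.span {π} = p := by
    by_contra hne
    have hlt : Ideal.span {π} < p := lt_of_le_of_ne hqle hne
    have h4 := Ideal.height_strict_mono_of_isPrime_of_isPrime hlt
    rw [hht, Order.lt_one_iff, Ideal.height_eq_zero_iff_eq_bot] at h4
    rw [Ideal.span_singleton_eq_bot] at h4
    exact hπ.ne_zero h4
  have hIfπ : I ≤ Ideal.span {f * π} := by
    intro y hy
    obtain ⟨z, rfl⟩ := Ideal.mem_span_singleton'.1 (hIf hy)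
    have hz : z ∈ J := by
      rw [hJ, mul_comm]
      exact hy
    have h5 := hJp hz
    rw [← hpeq] at h5
    obtain ⟨w, rfl⟩ := Ideal.mem_span_singleton'.1 h5
    rw [Ideal.mem_span_singleton']
    exact ⟨w, by ring⟩
  obtain ⟨c', hc'⟩ := Ideal.mem_span_singleton'.1 (hIfπ hxI)
  have hcc' : c = π * c' := by
    apply mul_left_cancel₀ hf0
    rw [← hxf, ← hc']
    ring
  apply hcmin c' ⟨f * π, hIfπ, by rw [← hc']; ring⟩
  refine ⟨?_, π, hπ.not_isUnit, by rw [hcc', mul_comm]⟩
  rintro rfl
  rw [zero_mul] at hc'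
  exact hx0 hc'.symm

end Groth.Agent.S8854
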