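import Groth.Statements.S8868
import Mathlib
import Groth.Agent.Lead.QCoh
-- import your own Groth.Agent.* helpers here

set_option autoImplicit false
universe u
open CategoryTheory CategoryTheory.Limits AlgebraicGeometry TopologicalSpace
open SDiv

namespace Groth.Agent.S8868

/-- Let X be a scheme and F a quasi-coherent O_X-module. Then F is zero if and only if F has no weakly
associated point. -/
theorem result (X : Scheme.{u}) (F : X.Modules) (hF : Coh.IsQCoh F) :
    IsZero F ↔ ∀ x : ↥X, ¬ Curv2.IsWeakAssPoint F x := by
  have : F.IsQuasicoherent := hF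
  constructor
  · rintro hz x ⟨m, hm⟩
    have hsub := Groth.Agent.Lead.QCoh.subsingleton_stalk_of_isZero F hz x
    have h1 : (1 : X.presheaf.stalk x) ∈ Ideal.radical (LinearMap.ker
        (LinearMap.toSpanSingleton (X.presheaf.stalk x) (F.presheaf.stalk x) m)) :=
      Ideal.le_radical (by rw [LinearMap.mem_ker]; exact Subsingleton.elim _ _)
    rw [hm] at h1
    exact (IsLocalRing.maximalIdeal.isMaximal _).ne_top ((Ideal.eq_top_iff_one _).mpr h1)
  · intro h
    by_contra hnz
    have : ∃ x : X, ¬ Subsingleton (F.presheaf.stalk x) := by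
      by_contra hcon
      push_neg at hcon
      exact hnz (Groth.Agent.Lead.QCoh.isZero_of_subsingleton_stalk F hcon)
    obtain ⟨x, hx⟩ := this
    obtain ⟨y, t, ht⟩ := Groth.Agent.Lead.QCoh.exists_radical_annihilator_eq_maximalIdeal F x hx
    refine h y ⟨t, ht _ (fun α => ?_)⟩
    rw [LinearMap.mem_ker, LinearMap.toSpanSingleton_apply]

end Groth.Agent.S8868
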