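import Groth.Statements.S8874
import Groth.Agent.Lead.FittSheaf
import Groth.Agent.Lead.FreeEpi
-- import your own Groth.Agent.* helpers here

set_option autoImplicit false
universe u
open CategoryTheory CategoryTheory.Limits AlgebraicGeometry TopologicalSpace
open SDiv

namespace Groth.Agent.S8874


section
open Opposite
open Groth.Agent.Lead.QCoh Groth.Agent.Lead.FinType Groth.Agent.Lead.FittSheaf
open Groth.Agent.Lead.FreeEpi Groth.Agent.Helper22.FitCore Groth.Agent.Helper22.FitLocal

set_option backward.isDefEq.respectTransparency false in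
theorem bwd (S : Scheme.{u}) (F : S.Modules) [F.IsQuasicoherent]
    [SheafOfModules.IsFiniteType.{u, u, u} (R := S.ringCatSheaf) F] (s : S) (r : ℕ)
    (hs : s ∉ (Fitt.sheafIdeal F r).support) :
    ∃ U : S.Opens, s ∈ U ∧ ∃ π : FlatMod.freeMod (↑U) r ⟶ F.restrict U.ι, Epi π := by
  classical
  have : s ∈ (⨆ U : S.affineOpens, (U : S.Opens)) := by
    rw [iSup_affineOpens_eq_top]; trivial
  obtain ⟨U0, hsU0⟩ := Opens.mem_iSup.mp this
  haveI hfin : Module.Finite Γ(S, U0.1) Γ(F, U0.1) := finite_sections_of_isFiniteType F U0.2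
  let p := (U0.2.primeIdealOf ⟨s, hsU0⟩)
  have hnle : ¬ Fitt.ideal Γ(S, U0.1) Γ(F, U0.1) r ≤ p.asIdeal := by
    intro hle
    apply hs
    rw [Scheme.IdealSheafData.mem_support_iff_of_mem (I := Fitt.sheafIdeal F r) (U := U0) hsU0,
      sheafIdeal_ideal F r U0, Scheme.mem_zeroLocus_iff]
    intro b hb
    exact (mem_primeIdealOf_iff U0.2 s hsU0 b).mp (hle hb)
  obtain ⟨n, x, hx⟩ := Module.Finite.exists_fin (R := Γ(S, U0.1)) (M := Γ(F, U0.1))
  haveI := p.2
  obtain ⟨z, e, hz, hc⟩ := exists_minor_not_mem r x hx p.asIdeal hnle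
  let c : Γ(S, U0.1) := minor z e
  have hsc : s ∈ S.basicOpen c := by
    by_contra hnot
    exact hc ((mem_primeIdealOf_iff U0.2 s hsU0 c).mpr hnot)
  have hV : IsAffineOpen (S.basicOpen c) := U0.2.basicOpen c
  let x'' : Fin n → Γ(F, S.basicOpen c) :=
    fun i => F.presheaf.map (homOfLE (S.basicOpen_le c)).op (x i)
  have hx'' : Submodule.span Γ(S, S.basicOpen c) (Set.range x'') = ⊤ := by
    apply span_eq_top_of_span_germ_eq_top F hV x''
    intro y hy
    have h1 := span_germ_eq_top_of_span_eq_top F U0.2 x hx y (S.basicOpen_le c hy)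
    rw [← h1]
    congr 2
    funext i
    exact TopCat.Presheaf.germ_res_apply F.presheaf (homOfLE (S.basicOpen_le c)) y hy (x i)
  let z'' : Fin (n - r) → (Fin n → Γ(S, S.basicOpen c)) :=
    fun b => Groth.Agent.Helper22.FitBase.bc (R' := Γ(S, S.basicOpen c)) n (z b)
  have hz'' : ∀ b, z'' b ∈ Rel (R := Γ(S, S.basicOpen c)) x'' := by
    intro b
    rw [mem_Rel]
    have h := (mem_Rel x _).1 (hz b)
    have h2 := congrArg (F.presheaf.map (homOfLE (S.basicOpen_le c)).op) h
    rw [map_sum, map_zero] at h2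
    rw [← h2]
    refine Finset.sum_congr rfl (fun i _ => ?_)
    exact (Scheme.Modules.map_smul F (homOfLE (S.basicOpen_le c)) (z b i) (x i)).symm
  haveI : IsLocalization.Away c Γ(S, S.basicOpen c) := U0.2.isLocalization_basicOpen c
  have hu : IsUnit (minor z'' e) := by
    rw [Groth.Agent.Helper22.FitBase.minor_bc]
    exact IsLocalization.Away.algebraMap_isUnit c
  obtain ⟨g, hg⟩ := gen_of_unit_minor r x'' hx'' z'' hz'' e hu
  obtain ⟨π, hπ⟩ := exists_epi_freeMod_of_span F hV g hg
  exact ⟨S.basicOpen c, hsc, π, hπ⟩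

set_option backward.isDefEq.respectTransparency false in
theorem fwd (S : Scheme.{u}) (F : S.Modules) [F.IsQuasicoherent]
    [SheafOfModules.IsFiniteType.{u, u, u} (R := S.ringCatSheaf) F] (s : S) (r : ℕ)
    (U : S.Opens) (hsU : s ∈ U) (π : FlatMod.freeMod (↑U) r ⟶ F.restrict U.ι) [Epi π] :
    s ∉ (Fitt.sheafIdeal F r).support := by
  classical
  obtain ⟨W', hW'aff, hsW', -⟩ := Opens.isBasis_iff_nbhd.mp
    (U : Scheme.{u}).isBasis_affineOpens (show (⟨s, hsU⟩ : U) ∈ (⊤ : (U : Scheme.{u}).Opens) from trivial)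
  obtain ⟨t, ht⟩ := span_of_epi_freeMod F U π W' hW'aff
  let V : S.affineOpens := ⟨U.ι ''ᵁ W', hW'aff.image_of_isOpenImmersion U.ι⟩
  have hsV : s ∈ V.1 := ⟨⟨s, hsU⟩, hsW', rfl⟩
  intro hs
  have h1 := (Scheme.IdealSheafData.mem_support_iff_of_mem (I := Fitt.sheafIdeal F r) (U := V)
    hsV).mp hs
  rw [sheafIdeal_ideal F r V, ideal_eq_top_of_span t ht, Scheme.mem_zeroLocus_iff] at h1
  apply h1 1 trivial
  rw [Scheme.basicOpen_of_isUnit _ isUnit_one]
  exact hsV
end

/-- Let S be a scheme, F a quasi-coherent O_S-module of finite type, s a point of S and r a natural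
number. Then F can be generated by r sections over some open neighbourhood of s if and only if the
r-th Fitting ideal of F is the unit ideal at s, i.e. s does not lie in the closed subset cut out by
Fit_r(F). -/
theorem result (S : Scheme.{u}) (F : S.Modules) (hF : Coh.IsQCoh F) (hft : CohB1.IsFT F)
    (s : ↥S) (r : ℕ) :
    (∃ U : S.Opens, s ∈ U ∧ ∃ π : FlatMod.freeMod (↑U) r ⟶ F.restrict U.ι, Epi π) ↔
      s ∉ (Fitt.sheafIdeal F r).support := by
  haveI : F.IsQuasicoherent := hF
  haveI := hft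
  constructor
  · rintro ⟨U, hsU, π, hπ⟩
    exact fwd S F s r U hsU π
  · intro hs
    exact bwd S F s r hs

end Groth.Agent.S8874
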