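import Groth.Statements.S8875
import Groth.Agent.Lead.FittSheaf
import Groth.Agent.Lead.FreeEpi
import Groth.Agent.Lead.FreeIso
import Groth.Agent.Lib.Helper22.FitFree
-- import your own Groth.Agent.* helpers here

set_option autoImplicit false
universe u
open CategoryTheory CategoryTheory.Limits AlgebraicGeometry TopologicalSpace
open SDiv

namespace Groth.Agent.S8875


section
open Opposite
open Groth.Agent.Lead.QCoh Groth.Agent.Lead.FinType Groth.Agent.Lead.FittSheaf
open Groth.Agent.Lead.FreeEpi Groth.Agent.Lead.FreeIso Groth.Agent.Helper22.FitCore Groth.Agent.Helper22.FitLocal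

set_option backward.isDefEq.respectTransparency false in
theorem bwd_gen (S : Scheme.{u}) (F : S.Modules) [F.IsQuasicoherent]
    [SheafOfModules.IsFiniteType.{u, u, u} (R := S.ringCatSheaf) F] (s : S) (r : ℕ)
    (hs : s ∉ (Fitt.sheafIdeal F r).support) :
    ∃ V : S.affineOpens, s ∈ V.1 ∧ ∃ g : Fin r → Γ(F, V.1),
      Submodule.span Γ(S, V.1) (Set.range g) = ⊤ := by
  classical
  have : s ∈ (⨆ U : S.affineOpens, (U : S.Opens)) := by
    rw [iSup_affineOpens_eq_top]; trivial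
  obtain ⟨U0, hsU0⟩ := Opens.mem_iSup.mp this
  haveI hfin : Module.Finite Γ(S, U0.1) Γ(F, U0.1) := finite_sections_of_isFiniteType F U0.2
  let p := (U0.2.primeIdealOf ⟨s, hsU0⟩)
  have hnle : ¬ Fitt.ideal Γ(S, U0.1) Γ(F, U0.1) r ≤ p.asIdeal := by
    intro hle
    apply hs
    rw [Scheme.IdealSheafData.mem_support_iff_of_mem (I := Fitt.sheafIdeal F r) (U := U0) hsU0,
      sheafIdeal_ideal F r U0, Scheme.mem_zeroLocus_iff]
    intro b hb
    exact (mem_primeIdealOf_iff U0.2 s hsU0 b).mp (hle hb)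
  obtain ⟨n, x, hx⟩ := Module.Finite.exists_fin (R := Γ(S, U0.1)) (M := Γ(F, U0.1))
  haveI := p.2
  obtain ⟨z, e, hz, hc⟩ := exists_minor_not_mem r x hx p.asIdeal hnle
  let c : Γ(S, U0.1) := minor z e
  have hsc : s ∈ S.basicOpen c := by
    by_contra hnot
    exact hc ((mem_primeIdealOf_iff U0.2 s hsU0 c).mpr hnot)
  have hV : IsAffineOpen (S.basicOpen c) := U0.2.basicOpen c
  let x'' : Fin n → Γ(F, S.basicOpen c) :=
    fun i => F.presheaf.map (homOfLE (S.basicOpen_le c)).op (x i)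
  have hx'' : Submodule.span Γ(S, S.basicOpen c) (Set.range x'') = ⊤ := by
    apply span_eq_top_of_span_germ_eq_top F hV x''
    intro y hy
    have h1 := span_germ_eq_top_of_span_eq_top F U0.2 x hx y (S.basicOpen_le c hy)
    rw [← h1]
    congr 2
    funext i
    exact TopCat.Presheaf.germ_res_apply F.presheaf (homOfLE (S.basicOpen_le c)) y hy (x i)
  let z'' : Fin (n - r) → (Fin n → Γ(S, S.basicOpen c)) :=
    fun b => Groth.Agent.Helper22.FitBase.bc (R' := Γ(S, S.basicOpen c)) n (z b)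
  have hz'' : ∀ b, z'' b ∈ Rel (R := Γ(S, S.basicOpen c)) x'' := by
    intro b
    rw [mem_Rel]
    have h := (mem_Rel x _).1 (hz b)
    have h2 := congrArg (F.presheaf.map (homOfLE (S.basicOpen_le c)).op) h
    rw [map_sum, map_zero] at h2
    rw [← h2]
    refine Finset.sum_congr rfl (fun i _ => ?_)
    exact (Scheme.Modules.map_smul F (homOfLE (S.basicOpen_le c)) (z b i) (x i)).symm
  haveI : IsLocalization.Away c Γ(S, S.basicOpen c) := U0.2.isLocalization_basicOpen c
  have hu : IsUnit (minor z'' e) := by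
    rw [Groth.Agent.Helper22.FitBase.minor_bc]
    exact IsLocalization.Away.algebraMap_isUnit c
  obtain ⟨g, hg⟩ := gen_of_unit_minor r x'' hx'' z'' hz'' e hu
  exact ⟨⟨S.basicOpen c, hV⟩, hsc, g, hg⟩

set_option backward.isDefEq.respectTransparency false in
theorem bwd (S : Scheme.{u}) (F : S.Modules) [F.IsQuasicoherent]
    [SheafOfModules.IsFiniteType.{u, u, u} (R := S.ringCatSheaf) F] (r : ℕ)
    (h0 : ∀ k : ℕ, k < r → Fitt.sheafIdeal F k = ⊥) (h1 : Fitt.sheafIdeal F r = ⊤) :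
    FlatMod.IsFinLocFreeOfRank r F := by
  classical
  intro s
  have hs : s ∉ (Fitt.sheafIdeal F r).support := by
    intro hmem
    rw [h1, Scheme.IdealSheafData.support_top] at hmem
    first | exact hmem | exact (Set.mem_empty_iff_false _).mp hmem | simp at hmem
  obtain ⟨V, hsV, g, hg⟩ := bwd_gen S F s r hs
  have hfit : ∀ k, k < r → Fitt.ideal Γ(S, V.1) Γ(F, V.1) k = ⊥ := by
    intro k hk
    rw [← sheafIdeal_ideal F k V, h0 k hk]
    rfl
  have hli := Groth.Agent.Helper22.FitFree.linearIndependent_of_fit_bot g hg hfit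
  let g' : ULift.{u} (Fin r) → Γ(F, V.1) := fun i => g i.down
  have hg' : Submodule.span Γ(S, V.1) (Set.range g') = ⊤ := by
    rw [eq_top_iff, ← hg]
    apply Submodule.span_mono
    rintro _ ⟨i, rfl⟩
    exact ⟨⟨i⟩, rfl⟩
  have hli' : LinearIndependent Γ(S, V.1) g' :=
    hli.comp (fun i : ULift.{u} (Fin r) => i.down) Equiv.ulift.injective
  obtain ⟨e⟩ := exists_iso_free_restrict F V.2 (ULift.{u} (Fin r)) g' hg' hli'
  exact ⟨V.1, hsV, ⟨e.symm ≪≫ (freeModIso (V.1 : Scheme.{u}) r).symm⟩⟩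

set_option backward.isDefEq.respectTransparency false in
theorem fwd (S : Scheme.{u}) (F : S.Modules) [F.IsQuasicoherent]
    [SheafOfModules.IsFiniteType.{u, u, u} (R := S.ringCatSheaf) F] (r : ℕ)
    (h : FlatMod.IsFinLocFreeOfRank r F) :
    (∀ k : ℕ, k < r → Fitt.sheafIdeal F k = ⊥) ∧ (∀ k : ℕ, r ≤ k → Fitt.sheafIdeal F k = ⊤) := by
  classical
  have key : ∀ x : S, ∃ V : S.affineOpens, x ∈ V.1 ∧
      Nonempty (Module.Basis (Fin r) Γ(S, V.1) Γ(F, V.1)) := by
    intro x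
    obtain ⟨U, hxU, ⟨e⟩⟩ := h x
    obtain ⟨W', hW'aff, hxW', -⟩ := Opens.isBasis_iff_nbhd.mp
      (U : Scheme.{u}).isBasis_affineOpens
      (show (⟨x, hxU⟩ : U) ∈ (⊤ : (U : Scheme.{u}).Opens) from trivial)
    exact ⟨⟨U.ι ''ᵁ W', hW'aff.image_of_isOpenImmersion U.ι⟩, ⟨⟨x, hxU⟩, hxW', rfl⟩,
      exists_basis_of_iso_freeMod F U e W'⟩
  choose V hxV hb using key
  have hcov : ⨆ x, (V x).1 = ⊤ := by
    rw [eq_top_iff]
    intro x _
    exact Opens.mem_iSup.mpr ⟨x, hxV x⟩
  constructor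
  · intro k hk
    apply Scheme.IdealSheafData.ext_of_iSup_eq_top V hcov
    intro x
    obtain ⟨b⟩ := hb x
    rw [sheafIdeal_ideal F k (V x), ideal_of_basis_lt b k hk]
    rfl
  · intro k hk
    apply Scheme.IdealSheafData.ext_of_iSup_eq_top V hcov
    intro x
    obtain ⟨b⟩ := hb x
    rw [sheafIdeal_ideal F k (V x), ideal_of_basis_le b k hk]
    rfl
end

/-- (1) ⇔ (3): let S be a scheme, F a quasi-coherent O_S-module of finite type and r ≥ 0. Then F is
finite locally free of rank r if and only if Fit_k(F) = 0 for every k < r and Fit_k(F) = O_S for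
every k ≥ r. -/
theorem result (S : Scheme.{u}) (F : S.Modules) (hF : Coh.IsQCoh F) (hft : CohB1.IsFT F)
    (r : ℕ) :
    FlatMod.IsFinLocFreeOfRank r F ↔
      (∀ k : ℕ, k < r → Fitt.sheafIdeal F k = ⊥) ∧ (∀ k : ℕ, r ≤ k → Fitt.sheafIdeal F k = ⊤) := by
  haveI : F.IsQuasicoherent := hF
  haveI := hft
  constructor
  · intro h
    exact fwd S F r h
  · rintro ⟨h0, h1⟩
    exact bwd S F r h0 (h1 r le_rfl)

end Groth.Agent.S8875
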