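import Groth.Statements.S8876
import Groth.Agent.Lead.FittSheaf
import Groth.Agent.S7854
import Groth.Agent.S6891
-- import your own Groth.Agent.* helpers here

set_option autoImplicit false
universe u
open CategoryTheory CategoryTheory.Limits AlgebraicGeometry TopologicalSpace
open SDiv

namespace Groth.Agent.S8876


section
open Opposite
open Groth.Agent.Lead.QCoh Groth.Agent.Lead.FinType Groth.Agent.Lead.FittSheaf

theorem main (S : Scheme.{u}) (F : S.Modules) [F.IsQuasicoherent]
    [SheafOfModules.IsFiniteType.{u, u, u} (R := S.ringCatSheaf) F] :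
    ((Fitt.sheafIdeal F 0).support : Set ↥S) = CohB1.support F := by
  classical
  apply Set.Subset.antisymm
  · -- V(Fit_0) ⊆ Supp F
    intro s hs
    show ¬ Subsingleton (F.presheaf.stalk s)
    intro hsub
    have : s ∈ (⨆ U : S.affineOpens, (U : S.Opens)) := by
      rw [iSup_affineOpens_eq_top]; trivial
    obtain ⟨U, hsU⟩ := Opens.mem_iSup.mp this
    haveI hfin : Module.Finite Γ(S, U.1) Γ(F, U.1) := finite_sections_of_isFiniteType F U.2
    have h1 := (Scheme.IdealSheafData.mem_support_iff_of_mem (I := Fitt.sheafIdeal F 0) (U := U)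
      hsU).mp hs
    rw [sheafIdeal_ideal F 0 U, Scheme.mem_zeroLocus_iff] at h1
    -- an annihilating element not in the prime of s
    obtain ⟨n, x, hx⟩ := Module.Finite.exists_fin (R := Γ(S, U.1)) (M := Γ(F, U.1))
    have hsub' := (subsingleton_stalk_iff F U.2 s hsU).mp hsub
    choose a ha1 ha2 using fun i : Fin n => hsub' (x i)
    let p := (U.2.primeIdealOf ⟨s, hsU⟩)
    have hprod : (∏ i, a i) ∉ p.asIdeal := by
      intro hmem
      obtain ⟨i, -, hi⟩ := (Ideal.IsPrime.prod_mem_iff (hp := p.2)).mp hmem
      exact (mem_primeIdealOf_iff U.2 s hsU (a i)).mp hi (ha1 i)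
    have hann : (∏ i, a i) ∈ Module.annihilator Γ(S, U.1) Γ(F, U.1) := by
      rw [Module.mem_annihilator]
      intro m
      have hm : m ∈ Submodule.span Γ(S, U.1) (Set.range x) := by rw [hx]; trivial
      induction hm using Submodule.span_induction with
      | mem t ht =>
        obtain ⟨i, rfl⟩ := ht
        rw [← Finset.mul_prod_erase Finset.univ a (Finset.mem_univ i), mul_comm, mul_smul, ha2 i,
          smul_zero]
      | zero => exact smul_zero _
      | add y z _ _ hy hz => rw [smul_add, hy, hz, add_zero]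
      | smul c y _ hy => rw [smul_comm, hy, smul_zero]
    have hres := Groth.Agent.S6891.result (R := Γ(S, U.1)) Γ(F, U.1) ⊥
    have hzl : PrimeSpectrum.zeroLocus (Fitt.ideal Γ(S, U.1) Γ(F, U.1) 0 : Set Γ(S, U.1)) =
        PrimeSpectrum.zeroLocus (Module.annihilator Γ(S, U.1) Γ(F, U.1) : Set Γ(S, U.1)) := by
      rw [hres.2.1, Module.support_eq_zeroLocus]
    have hp : p ∈ PrimeSpectrum.zeroLocus
        (Fitt.ideal Γ(S, U.1) Γ(F, U.1) 0 : Set Γ(S, U.1)) := by
      rw [PrimeSpectrum.mem_zeroLocus]
      intro b hb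
      exact (mem_primeIdealOf_iff U.2 s hsU b).mpr (h1 b hb)
    rw [hzl, PrimeSpectrum.mem_zeroLocus] at hp
    exact hprod (hp hann)
  · -- Supp F ⊆ V(Fit_0)
    apply Groth.Agent.S7854.bwd (Fitt.sheafIdeal F 0) F
    intro V a ha m
    haveI hfin : Module.Finite Γ(S, V.1) Γ(F, V.1) := finite_sections_of_isFiniteType F V.2
    rw [sheafIdeal_ideal F 0 V] at ha
    have hres := Groth.Agent.S6891.result (R := Γ(S, V.1)) Γ(F, V.1) ⊥
    exact Module.mem_annihilator.mp (hres.1 ha) m
end

/-- Let S be a scheme and F a quasi-coherent O_S-module of finite type. Then the closed subset of S cut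
out by Fit_0(F) equals the support of F (the scheme-theoretic support and the Fit_0 subscheme have
the same underlying set). -/
theorem result (S : Scheme.{u}) (F : S.Modules) (hF : Coh.IsQCoh F) (hft : CohB1.IsFT F) :
    ((Fitt.sheafIdeal F 0).support : Set ↥S) = CohB1.support F := by
  haveI : F.IsQuasicoherent := hF
  haveI := hft
  exact main S F

end Groth.Agent.S8876
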