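import Groth.Statements.S8877
import Groth.Agent.Lead.FittSheaf
-- import your own Groth.Agent.* helpers here

set_option autoImplicit false
universe u
open CategoryTheory CategoryTheory.Limits AlgebraicGeometry TopologicalSpace
open SDiv

namespace Groth.Agent.S8877


section
open Opposite
open Groth.Agent.Lead.QCoh Groth.Agent.Lead.FinType Groth.Agent.Lead.FittSheaf

theorem main (S : Scheme.{u}) (F : S.Modules) [F.IsQuasicoherent]
    [SheafOfModules.IsFiniteType.{u, u, u} (R := S.ringCatSheaf) F] (s : S) :
    ∃ r : ℕ, s ∉ (Fitt.sheafIdeal F r).support := by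
  have : s ∈ (⨆ U : S.affineOpens, (U : S.Opens)) := by
    rw [iSup_affineOpens_eq_top]; trivial
  obtain ⟨U, hsU⟩ := Opens.mem_iSup.mp this
  have hfin : Module.Finite Γ(S, U.1) Γ(F, U.1) := finite_sections_of_isFiniteType F U.2
  obtain ⟨n, x, hx⟩ := Module.Finite.exists_fin (R := Γ(S, U.1)) (M := Γ(F, U.1))
  refine ⟨n, fun hs => ?_⟩
  have h1 := (Scheme.IdealSheafData.mem_support_iff_of_mem (I := Fitt.sheafIdeal F n) (U := U)
    hsU).mp hs
  rw [sheafIdeal_ideal F n U, Groth.Agent.Helper22.FitLocal.ideal_eq_top_of_span x hx,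
    Scheme.mem_zeroLocus_iff] at h1
  apply h1 1 trivial
  rw [Scheme.basicOpen_of_isUnit _ isUnit_one]
  exact hsU
end

/-- Let S be a scheme and F a quasi-coherent O_S-module of finite type, and let Z_r ⊆ S be the closed
subset cut out by the r-th Fitting ideal of F. Then the intersection of all the Z_r is empty. -/
theorem result (S : Scheme.{u}) (F : S.Modules) (hF : Coh.IsQCoh F) (hft : CohB1.IsFT F)
    (s : ↥S) : ∃ r : ℕ, s ∉ (Fitt.sheafIdeal F r).support := by
  haveI : F.IsQuasicoherent := hF
  haveI := hft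
  exact main S F s

end Groth.Agent.S8877
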