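import Groth.Statements.S8886
import Mathlib

set_option autoImplicit false
universe u
open CategoryTheory CategoryTheory.Limits AlgebraicGeometry TopologicalSpace
open SDiv

namespace Groth.Agent.S8886

theorem main {X Y : Scheme.{u}} (f : X ⟶ Y) [Flat f] [IsIntegral Y]
    (h : IsIntegral (f.fiber (genericPoint ↥Y))) : IsIntegral X := by
  have hI : IsIntegral (pullback f (Y.fromSpecResidueField (genericPoint Y))) := h
  have hdom : IsDominant (Y.fromSpecResidueField (genericPoint Y)) := by
    rw [isDominant_iff, DenseRange, dense_iff_closure_eq, Scheme.range_fromSpecResidueField]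
    exact (genericPoint_spec Y).def
  have hstd : IsSchemeTheoreticallyDominant (Y.fromSpecResidueField (genericPoint Y)) :=
    .of_isDominant _
  have hqc : QuasiCompact (Y.fromSpecResidueField (genericPoint Y)) := inferInstance
  have hstd' : IsSchemeTheoreticallyDominant
      (pullback.fst f (Y.fromSpecResidueField (genericPoint Y))) := inferInstance
  have hqc' : QuasiCompact (pullback.fst f (Y.fromSpecResidueField (genericPoint Y))) :=
    inferInstance
  have hred : IsReduced X :=
    IsSchemeTheoreticallyDominant.isReduced
      (pullback.fst f (Y.fromSpecResidueField (genericPoint Y)))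
  have hdom' : IsDominant (pullback.fst f (Y.fromSpecResidueField (genericPoint Y))) :=
    inferInstance
  have hirr : IsIrreducible (Set.univ : Set X) := by
    have h1 : IsIrreducible
        (Set.range (pullback.fst f (Y.fromSpecResidueField (genericPoint Y)))) := by
      rw [← Set.image_univ]
      exact (IrreducibleSpace.isIrreducible_univ _).image _
        (Scheme.Hom.continuous _).continuousOn
    have h2 := h1.closure
    rwa [(Scheme.Hom.denseRange _).closure_eq] at h2
  have : IrreducibleSpace X := (irreducibleSpace_def X).mpr hirr
  exact isIntegral_of_irreducibleSpace_of_isReduced X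

/-- Let f : X ⟶ Y be a flat morphism of schemes with Y integral. If the scheme-theoretic fibre of f over
the generic point of Y is integral, then X is integral. -/
theorem result {X Y : Scheme.{u}} (f : X ⟶ Y) [Flat f] [IsIntegral Y]
    (h : IsIntegral (f.fiber (genericPoint ↥Y))) : IsIntegral X := by
  exact main f h

end Groth.Agent.S8886
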