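import Groth.Statements.S8889
import Mathlib
import Groth.Agent.Lead.QCoh
-- import your own Groth.Agent.* helpers here

set_option autoImplicit false
universe u
open CategoryTheory CategoryTheory.Limits AlgebraicGeometry TopologicalSpace
open SDiv

namespace Groth.Agent.S8889

/-- Let X be a scheme and φ : F ⟶ G a morphism of quasi-coherent O_X-modules. Assume that for every
point x of X either the stalk map F_x → G_x is injective or x is not a weakly associated point of F.
Then φ is injective. -/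
theorem result (X : Scheme.{u}) {F G : X.Modules} (φ : F ⟶ G) (hF : Coh.IsQCoh F)
    (hG : Coh.IsQCoh G)
    (h : ∀ x : ↥X, Function.Injective ((TopCat.Presheaf.stalkFunctor AddCommGrpCat.{u} x).map (Scheme.Modules.Hom.mapPresheaf φ)) ∨ ¬ Curv2.IsWeakAssPoint F x) :
    Mono φ := by
  have : F.IsQuasicoherent := hF
  have : G.IsQuasicoherent := hG
  apply Groth.Agent.Lead.QCoh.mono_of_stalk_injective
  intro x
  change Function.Injective (Groth.Agent.Lead.QCoh.stalkMap φ x)
  rw [injective_iff_map_eq_zero]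
  intro t ht
  by_contra htne
  obtain ⟨_, ⟨U, hU, rfl⟩, hxU, -⟩ :=
    X.isBasis_affineOpens.exists_subset_of_mem_open (Set.mem_univ x) isOpen_univ
  have hU' : IsAffineOpen U := hU
  obtain ⟨b, m, hxb, hbt⟩ := Groth.Agent.Lead.QCoh.exists_smul_eq_germ F hU' x hxU t
  have hbu : IsUnit (X.presheaf.germ U x hxU b) := (Scheme.mem_basicOpen _ _ x hxU).mp hxb
  have h0 : G.presheaf.germ U x hxU (φ.app U m) = 0 := by
    rw [← Groth.Agent.Lead.QCoh.stalkMap_germ, ← hbt, Groth.Agent.Lead.QCoh.stalkMap_smul, ht,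
      smul_zero]
  obtain ⟨c, hxc, hc⟩ := (Groth.Agent.Lead.QCoh.germ_eq_zero_iff G hU' x hxU (φ.app U m)).mp h0
  have hcu : IsUnit (X.presheaf.germ U x hxU c) := (Scheme.mem_basicOpen _ _ x hxU).mp hxc
  have hm1 : F.presheaf.germ U x hxU (c • m) ≠ 0 := by
    rw [Groth.Agent.Lead.QCoh.germ_smul, ← hbt]
    intro h'
    exact htne (hbu.smul_eq_zero.mp (hcu.smul_eq_zero.mp h'))
  obtain ⟨y, hyU, -, hN⟩ := Groth.Agent.Lead.QCoh.exists_weakAss_germ F hU' (c • m) x hxU hm1
  have hker : ∀ α : X.presheaf.stalk y, α ∈ LinearMap.ker (LinearMap.toSpanSingleton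
      (X.presheaf.stalk y) (F.presheaf.stalk y) (F.presheaf.germ U y hyU (c • m))) ↔
      α • F.presheaf.germ U y hyU (c • m) = 0 := fun α => by
    rw [LinearMap.mem_ker, LinearMap.toSpanSingleton_apply]
  have h1 := hN _ hker
  have hyw : Curv2.IsWeakAssPoint F y := ⟨_, h1⟩
  have hinj : Function.Injective (Groth.Agent.Lead.QCoh.stalkMap φ y) :=
    (h y).resolve_right (not_not.mpr hyw)
  have h2 : Groth.Agent.Lead.QCoh.stalkMap φ y (F.presheaf.germ U y hyU (c • m)) = 0 := by
    rw [Groth.Agent.Lead.QCoh.stalkMap_germ, Scheme.Modules.Hom.app_smul, hc, map_zero]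
  have h3 : F.presheaf.germ U y hyU (c • m) = 0 := hinj (h2.trans (map_zero _).symm)
  have h4 : (1 : X.presheaf.stalk y) ∈ Ideal.radical (LinearMap.ker (LinearMap.toSpanSingleton
      (X.presheaf.stalk y) (F.presheaf.stalk y) (F.presheaf.germ U y hyU (c • m)))) :=
    Ideal.le_radical (by rw [hker, h3, smul_zero])
  rw [h1] at h4
  exact (IsLocalRing.maximalIdeal.isMaximal _).ne_top ((Ideal.eq_top_iff_one _).mpr h4)

end Groth.Agent.S8889
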