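import Groth.Statements.S8902
import Mathlib

set_option autoImplicit false
universe u
open CategoryTheory CategoryTheory.Limits AlgebraicGeometry TopologicalSpace
open SDiv

namespace Groth.Agent.S8902aux

theorem flat_nzd {A B : Type*} [CommRing A] [CommRing B] (φ : A →+* B) (hφ : φ.Flat) {a : A}
    (ha : a ∈ nonZeroDivisors A) : φ a ∈ nonZeroDivisors B := by
  algebraize [φ]
  have h1 : IsSMulRegular A a := (isRegular_iff_mem_nonZeroDivisors.2 ha).left.isSMulRegular
  have h2 : IsSMulRegular B (algebraMap A B a) := IsSMulRegular.of_flat h1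
  have h3 : IsLeftRegular (algebraMap A B a) := h2
  exact isRegular_iff_mem_nonZeroDivisors.1 (isLeftRegular_iff_isRegular.1 h3)

end Groth.Agent.S8902aux

namespace Groth.Agent.S8902

/-- Let f : X ⟶ Y be a flat morphism of schemes. Then pullbacks of meromorphic functions are defined for
f: for every open U ⊆ Y and every regular section s of O_Y over U, the pulled-back section of O_X
over f⁻¹U is regular. -/
theorem result {X Y : Scheme.{u}} (f : X ⟶ Y) [Flat f] (U : Y.Opens) (s : Γ(Y, U))
    (hs : s ∈ Mero.regSub Y U) : f.app U s ∈ Mero.regSub X (f ⁻¹ᵁ U) := by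
  intro x
  show X.presheaf.germ (f ⁻¹ᵁ U) x.1 x.2 (f.app U s) ∈ nonZeroDivisors _
  rw [← Scheme.Hom.germ_stalkMap_apply f U x.1 x.2 s]
  exact Groth.Agent.S8902aux.flat_nzd _ (Flat.stalkMap f x.1) (hs ⟨f x.1, x.2⟩)

end Groth.Agent.S8902
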