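import Groth.Statements.S8926
import Mathlib

set_option autoImplicit false
universe u
open InjHull

namespace Groth.Agent.S8926

open TensorProduct in
/-- Over an epimorphism `R → S`, an `R`-linear map between `S`-modules is `S`-linear. -/
theorem map_smul_of_isEpi (R S : Type u) [CommRing R] [CommRing S] [Algebra R S] [Algebra.IsEpi R S]
    {Y E : Type u} [AddCommGroup Y] [Module S Y] [Module R Y] [IsScalarTower R S Y]
    [AddCommGroup E] [Module S E] [Module R E] [IsScalarTower R S E]
    (h : Y →ₗ[R] E) (s : S) (y : Y) : h (s • y) = s • h y := by
  let φ : S ⊗[R] S →ₗ[R] E := TensorProduct.lift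
    (LinearMap.mk₂ R (fun a b : S => a • h (b • y))
      (fun a a' b => by simp [add_smul])
      (fun r a b => by simp)
      (fun a b b' => by simp [add_smul, smul_add])
      (fun r a b => by
        simp only [smul_assoc, map_smul]
        rw [smul_comm]))
  have h1 : φ ((1 : S) ⊗ₜ[R] s) = h (s • y) := by simp [φ]
  have h2 : φ (s ⊗ₜ[R] (1 : S)) = s • h y := by simp [φ]
  rw [← h1, ← h2, (Algebra.isEpi_iff_forall_one_tmul_eq R S).mp inferInstance s]

/-- Suppose R → S is an epimorphism of rings and E is an S-module whose underlying R-module (via
restriction of scalars) is injective; then E is injective as an S-module as well. -/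
theorem result (R S : Type u) [CommRing R] [CommRing S] [Algebra R S] [Algebra.IsEpi R S] (E : Type u) [AddCommGroup E] [Module S E] [Module R E] [IsScalarTower R S E] [Module.Injective R E] : Module.Injective S E := by
  constructor
  intro X Y _ _ _ _ f hf g
  letI : Module R X := Module.compHom X (algebraMap R S)
  letI : Module R Y := Module.compHom Y (algebraMap R S)
  haveI : IsScalarTower R S X := IsScalarTower.of_algebraMap_smul (fun r x => rfl)
  haveI : IsScalarTower R S Y := IsScalarTower.of_algebraMap_smul (fun r x => rfl)
  obtain ⟨h, hh⟩ := Module.Injective.out (R := R) (Q := E) (f.restrictScalars R) hf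
    (g.restrictScalars R)
  refine ⟨{ toFun := h, map_add' := h.map_add, map_smul' := ?_ }, ?_⟩
  · intro s y
    exact map_smul_of_isEpi R S h s y
  · intro x
    exact hh x

end Groth.Agent.S8926
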