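import Groth.Statements.S8928
import Mathlib

set_option autoImplicit false
universe u
open scoped TensorProduct
open Disc

namespace Groth.Agent.S8928

attribute [local instance] Algebra.TensorProduct.rightAlgebra in
theorem flat_localization_atPrime_of_disjoint (A B : Type u) [CommRing A] [CommRing B] [Algebra A B]
    (h2 : Module.Flat (FractionRing A) (FractionRing A ⊗[A] B)) (q : Ideal B) [hq : q.IsPrime]
    (hdisj : Disjoint (Algebra.algebraMapSubmonoid B (nonZeroDivisors A) : Set B) q) :
    Module.Flat A (Localization.AtPrime q) := by
  haveI : IsLocalization (Algebra.algebraMapSubmonoid B (nonZeroDivisors A))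
      (FractionRing A ⊗[A] B) := IsLocalization.tensorRight _ _
  haveI : Module.Flat A (FractionRing A) := IsLocalization.flat _ (nonZeroDivisors A)
  haveI : Module.Flat A (FractionRing A ⊗[A] B) := Module.Flat.trans A (FractionRing A) _
  have hq'prime : (q.map (algebraMap B (FractionRing A ⊗[A] B))).IsPrime :=
    IsLocalization.isPrime_of_isPrime_disjoint
      (Algebra.algebraMapSubmonoid B (nonZeroDivisors A)) _ q hq hdisj
  have hq' : (q.map (algebraMap B (FractionRing A ⊗[A] B))).comap
      (algebraMap B (FractionRing A ⊗[A] B)) = q :=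
    IsLocalization.under_map_of_isPrime_disjoint
      (Algebra.algebraMapSubmonoid B (nonZeroDivisors A)) _ hq hdisj
  haveI : IsScalarTower B (FractionRing A ⊗[A] B)
      (Localization.AtPrime (q.map (algebraMap B (FractionRing A ⊗[A] B)))) := inferInstance
  haveI : IsScalarTower A (FractionRing A ⊗[A] B)
      (Localization.AtPrime (q.map (algebraMap B (FractionRing A ⊗[A] B)))) := inferInstance
  haveI : IsScalarTower A B
      (Localization.AtPrime (q.map (algebraMap B (FractionRing A ⊗[A] B)))) := by
    refine IsScalarTower.of_algebraMap_eq (fun a => ?_)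
    rw [IsScalarTower.algebraMap_apply A (FractionRing A ⊗[A] B),
      IsScalarTower.algebraMap_apply B (FractionRing A ⊗[A] B),
      ← IsScalarTower.algebraMap_apply A B (FractionRing A ⊗[A] B)]
  have h3 : IsLocalization.AtPrime
      (Localization.AtPrime (q.map (algebraMap B (FractionRing A ⊗[A] B))))
      ((q.map (algebraMap B (FractionRing A ⊗[A] B))).comap
        (algebraMap B (FractionRing A ⊗[A] B))) :=
    IsLocalization.isLocalization_isLocalization_atPrime_isLocalization
      (Algebra.algebraMapSubmonoid B (nonZeroDivisors A)) _ _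
  have key : ∀ (p : Ideal B) [p.IsPrime], p = q → IsLocalization.AtPrime
      (Localization.AtPrime (q.map (algebraMap B (FractionRing A ⊗[A] B)))) p →
      IsLocalization.AtPrime
        (Localization.AtPrime (q.map (algebraMap B (FractionRing A ⊗[A] B)))) q := by
    rintro p _ rfl h
    exact h
  haveI h3' := key _ hq' h3
  haveI : Module.Flat A (Localization.AtPrime (q.map (algebraMap B (FractionRing A ⊗[A] B)))) :=
    inferInstance
  let e : Localization.AtPrime (q.map (algebraMap B (FractionRing A ⊗[A] B))) ≃ₐ[B]
      Localization.AtPrime q := IsLocalization.algEquiv q.primeCompl _ _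
  exact Module.Flat.of_linearEquiv (e.toLinearEquiv.restrictScalars A).symm

/-- Let A → B be a map of Noetherian rings such that nonzerodivisors of A map to nonzerodivisors of B
and Q(A) ⊗_A B is flat over the total ring of fractions Q(A). Then B_q is flat over A for every
associated prime q of B and for every prime q of B lying over an associated prime of A. -/
theorem result (A B : Type u) [CommRing A] [CommRing B] [IsNoetherianRing A] [IsNoetherianRing B] [Algebra A B] (h1 : nonZeroDivisors A ≤ (nonZeroDivisors B).comap (algebraMap A B)) (h2 : Module.Flat (FractionRing A) (FractionRing A ⊗[A] B)) : (∀ (q : Ideal B) [q.IsPrime], IsAssociatedPrime q B → Module.Flat A (Localization.AtPrime q)) ∧ (∀ (q : Ideal B) [q.IsPrime], IsAssociatedPrime (q.comap (algebraMap A B)) A → Module.Flat A (Localization.AtPrime q)) := by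
  constructor
  · intro q hqp hq
    apply flat_localization_atPrime_of_disjoint A B h2 q
    rw [Set.disjoint_left]
    rintro _ ⟨s, hs, rfl⟩ hsq
    obtain ⟨_, x, hx⟩ := (isAssociatedPrime_iff).mp hq
    have hs' := h1 hs
    rw [Submonoid.mem_comap] at hs'
    rw [hx, SetLike.mem_coe, Submodule.mem_colon_singleton, Submodule.mem_bot, smul_eq_mul] at hsq
    have hx0 : x = 0 := (mem_nonZeroDivisors_iff_right.mp hs') x (by rwa [mul_comm] at hsq) |> fun h => h
    apply hqp.ne_top
    rw [hx, hx0]
    ext r
    simp [Submodule.mem_colon_singleton]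
  · intro q hqp hq
    apply flat_localization_atPrime_of_disjoint A B h2 q
    rw [Set.disjoint_left]
    rintro _ ⟨s, hs, rfl⟩ hsq
    obtain ⟨hpp, x, hx⟩ := (isAssociatedPrime_iff).mp hq
    have hsp : s ∈ q.comap (algebraMap A B) := hsq
    rw [hx, Submodule.mem_colon_singleton, Submodule.mem_bot, smul_eq_mul] at hsp
    have hx0 : x = 0 := (mem_nonZeroDivisors_iff_right.mp hs) x (by rwa [mul_comm] at hsp)
    apply hpp.ne_top
    rw [hx, hx0]
    ext r
    simp [Submodule.mem_colon_singleton]

end Groth.Agent.S8928
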