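import Groth.Statements.S8930
import Mathlib
import Groth.Agent.H2.OpenImmFactor

set_option autoImplicit false
universe u
open AlgebraicGeometry
open Disc

namespace Groth.Agent.S8930

/-- Given two factorizations A → B' → B and A → B'' → B of a ring map with A → B' and A → B'' finite and
Spec(B) → Spec(B'), Spec(B) → Spec(B'') open immersions, there is an A-subalgebra C of B which is
finite over A, contains the images of B' and B'', and is such that Spec(B) → Spec(C) is an open
immersion. (Such an A → B is quasi-finite; that hypothesis of the published statement is implied by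
the factorizations and is not repeated.) -/
theorem result (A B B' B'' : Type u) [CommRing A] [CommRing B] [CommRing B'] [CommRing B''] [Algebra A B] [Algebra A B'] [Algebra A B''] [Algebra B' B] [Algebra B'' B] [IsScalarTower A B' B] [IsScalarTower A B'' B] [Module.Finite A B'] [Module.Finite A B''] (h' : IsOpenImmersion (Spec.map (CommRingCat.ofHom (algebraMap B' B)))) (h'' : IsOpenImmersion (Spec.map (CommRingCat.ofHom (algebraMap B'' B)))) : ∃ C : Subalgebra A B, Module.Finite A C ∧ Set.range (algebraMap B' B) ⊆ (C : Set B) ∧ Set.range (algebraMap B'' B) ⊆ (C : Set B) ∧ IsOpenImmersion (Spec.map (CommRingCat.ofHom C.val.toRingHom)) := by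
  classical
  let f' : B' →ₐ[A] B := IsScalarTower.toAlgHom A B' B
  let f'' : B'' →ₐ[A] B := IsScalarTower.toAlgHom A B'' B
  have hle' : f'.range ≤ f'.range ⊔ f''.range := le_sup_left
  have hle'' : f''.range ≤ f'.range ⊔ f''.range := le_sup_right
  refine ⟨f'.range ⊔ f''.range, ?_, ?_, ?_, ?_⟩
  · haveI : Module.Finite A f'.range := Module.Finite.range f'.toLinearMap
    haveI : Module.Finite A f''.range := Module.Finite.range f''.toLinearMap
    exact Subalgebra.finite_sup _ _
  · rintro _ ⟨x, rfl⟩
    exact hle' (AlgHom.mem_range_self f' x)
  · rintro _ ⟨x, rfl⟩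
    exact hle'' (AlgHom.mem_range_self f'' x)
  · refine Groth.Agent.H2.OpenImmFactor.isOpenImmersion_of_comp_injective
      (RingHom.codRestrict (algebraMap B' B) (f'.range ⊔ f''.range)
        (fun x => hle' (AlgHom.mem_range_self f' x)))
      (f'.range ⊔ f''.range).val.toRingHom (fun a b hab => Subtype.ext hab) ?_
    have hc : ((f'.range ⊔ f''.range).val.toRingHom).comp
        (RingHom.codRestrict (algebraMap B' B) (f'.range ⊔ f''.range)
          (fun x => hle' (AlgHom.mem_range_self f' x))) = algebraMap B' B :=
      RingHom.ext fun x => rfl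
    rw [hc]
    exact h'

end Groth.Agent.S8930
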