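import Groth.Statements.S8960
import Mathlib

set_option autoImplicit false
universe u
open QFDual

namespace Groth.Agent.S8960

/-- Suppose the Dedekind different of A → B is defined: A is Noetherian, B is a finite A-algebra,
nonzerodivisors of A are nonzerodivisors on B, and with K = Q(A) the total ring of fractions and L =
B ⊗_A K the map K → L is étale (here with L finite free over K). If A → B is flat, then
Trace_{L/K}(b) lies in A for every b ∈ B; equivalently 1 ∈ 𝓛_{B/A}, the Dedekind complementary
module. -/
theorem result (A K B L : Type u) [CommRing A] [CommRing K] [CommRing B] [CommRing L] [Algebra A K] [Algebra A B] [Algebra B L] [Algebra K L] [Algebra A L] [IsScalarTower A K L] [IsScalarTower A B L] (h : QFDual.IsDedekindDefined A K B L) [Module.Flat A B] : (1 : L) ∈ QFDual.complementary A K B L := by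
  show ∀ b : B, Algebra.trace K L (1 * algebraMap B L b) ∈ (algebraMap A K).range
  intro b
  haveI := h.isNoetherianRing
  haveI := h.finite
  haveI := h.free
  haveI := h.finiteKL
  haveI : IsLocalization (nonZeroDivisors A) K := h.isFractionRing
  haveI : IsLocalization (Algebra.algebraMapSubmonoid B (nonZeroDivisors A)) L := h.isLocalization
  haveI : Module.FinitePresentation A B := Module.finitePresentation_of_finite A B
  haveI : Module.Projective A B := Module.Flat.projective_of_finitePresentation
  obtain ⟨n, f, g, -, -, hfg⟩ := Module.Finite.exists_comp_eq_id_of_projective A B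
  let e : Fin n → (Fin n → A) := fun i j => if i = j then 1 else 0
  let φ : B →ₗ[A] L := (IsScalarTower.toAlgHom A B L).toLinearMap
  have hbc : IsBaseChange K φ := IsLocalizedModule.isBaseChange (nonZeroDivisors A) K φ
  let ψ : A →ₗ[A] K := Algebra.linearMap A K
  let G₀ : B →ₗ[A] (Fin n → K) := (ψ.compLeft (Fin n)) ∘ₗ g
  let gK : L →ₗ[K] (Fin n → K) := hbc.lift G₀
  let fK : (Fin n → K) →ₗ[K] L := (Pi.basisFun K (Fin n)).constr K (fun i => φ (f (e i)))
  have hgK : ∀ x : B, gK (φ x) = fun i => algebraMap A K (g x i) := by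
    intro x
    have h0 := hbc.lift_eq G₀ x
    rw [h0]
    rfl
  have hfKb : ∀ i, fK (Pi.basisFun K (Fin n) i) = φ (f (e i)) :=
    fun i => (Pi.basisFun K (Fin n)).constr_basis K _ i
  have hfK : ∀ v, fK v = ∑ i, v i • φ (f (e i)) := by
    intro v
    simp [fK, Module.Basis.constr_apply_fintype]
  have hcomp : fK ∘ₗ gK = LinearMap.id := by
    apply hbc.algHom_ext
    intro x
    rw [LinearMap.comp_apply, hgK, hfK, LinearMap.id_apply]
    have h1 : x = ∑ i, g x i • f (e i) := by
      have h0 := LinearMap.congr_fun hfg x
      rw [LinearMap.comp_apply, LinearMap.id_apply, LinearMap.pi_apply_eq_sum_univ f (g x)] at h0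
      exact h0.symm
    conv_rhs => rw [h1]
    rw [map_sum]
    refine Finset.sum_congr rfl (fun i _ => ?_)
    rw [map_smul]
    exact algebraMap_smul K (g x i) (φ (f (e i)))
  let T : L →ₗ[K] L := Algebra.lmul K L (algebraMap B L b)
  have hT : ∀ y, T y = algebraMap B L b * y := fun y => rfl
  have htr : Algebra.trace K L (1 * algebraMap B L b) = LinearMap.trace K L T := by
    rw [one_mul, Algebra.trace_apply]
  have h2 : LinearMap.trace K L T = LinearMap.trace K (Fin n → K) (gK ∘ₗ (T ∘ₗ fK)) := by
    rw [← LinearMap.trace_comp_comm' gK (T ∘ₗ fK), LinearMap.comp_assoc, hcomp,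
      LinearMap.comp_id]
  have h3 : LinearMap.trace K (Fin n → K) (gK ∘ₗ (T ∘ₗ fK)) =
      ∑ i, algebraMap A K (g (b * f (e i)) i) := by
    rw [LinearMap.trace_eq_matrix_trace K (Pi.basisFun K (Fin n)), Matrix.trace]
    refine Finset.sum_congr rfl (fun i _ => ?_)
    rw [Matrix.diag_apply, LinearMap.toMatrix_apply, LinearMap.comp_apply, LinearMap.comp_apply,
      hfKb, hT]
    have h4 : algebraMap B L b * φ (f (e i)) = φ (b * f (e i)) := by
      show algebraMap B L b * algebraMap B L (f (e i)) = algebraMap B L (b * f (e i))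
      rw [map_mul]
    rw [h4, hgK]
    simp [Pi.basisFun_repr]
  rw [htr, h2, h3, ← map_sum]
  exact ⟨_, rfl⟩

end Groth.Agent.S8960
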