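import Groth.Statements.S8961
import Mathlib
import Groth.Agent.S4429

set_option autoImplicit false
universe u
open QFDual

namespace Groth.Agent.S8961

open TensorProduct in
theorem isIntegral_trace_of_aeval {A F V : Type*} [CommRing A] [Field F] [Algebra A F]
    [AddCommGroup V] [Module F V] [Module.Finite F V] (T : V →ₗ[F] V) (q : Polynomial A)
    (hq : q.Monic) (hT : Polynomial.aeval T (q.map (algebraMap A F)) = 0) :
    IsIntegral A (LinearMap.trace F V T) := by
  classical
  have hcoef : ∀ i, IsIntegral A (T.charpoly.coeff i) := by
    intro i
    have hψq := Groth.Agent.S4429.aeval_baseChange_eq_zero (AlgebraicClosure F) T _ hT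
    have hc : IsIntegral A (((T.baseChange (AlgebraicClosure F)).charpoly).coeff i) := by
      refine Polynomial.isIntegral_coeff_of_factors (R := A) _ ?_ (IsAlgClosed.splits _) ?_ i
      · rw [(LinearMap.charpoly_monic _).leadingCoeff]; exact isIntegral_one
      · intro x hx
        have hev : Module.End.HasEigenvalue (T.baseChange (AlgebraicClosure F)) x :=
          (Module.End.hasEigenvalue_iff_isRoot_charpoly _ x).mpr hx
        obtain ⟨v, hv⟩ := hev.exists_hasEigenvector
        have h1 := Module.End.aeval_apply_of_hasEigenvector hv
          (p := (q.map (algebraMap A F)).map (algebraMap F (AlgebraicClosure F)))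
        rw [hψq] at h1
        have h2 : ((q.map (algebraMap A F)).map
            (algebraMap F (AlgebraicClosure F))).eval x = 0 := by
          by_contra hne
          have h3 : ((q.map (algebraMap A F)).map
              (algebraMap F (AlgebraicClosure F))).eval x • v = 0 := by
            simpa using h1.symm
          rcases smul_eq_zero.mp h3 with h4 | h4
          · exact hne h4
          · exact hv.2 h4
        refine ⟨q, hq, ?_⟩
        rw [Polynomial.map_map, Polynomial.eval_map] at h2
        rw [← h2, IsScalarTower.algebraMap_eq A F (AlgebraicClosure F)]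
    rw [LinearMap.charpoly_baseChange, Polynomial.coeff_map] at hc
    exact (isIntegral_algebraMap_iff (algebraMap F (AlgebraicClosure F)).injective).mp hc
  rw [LinearMap.trace_eq_matrix_trace F (Module.Free.chooseBasis F V) T,
    Matrix.trace_eq_neg_charpoly_nextCoeff, LinearMap.charpoly_toMatrix]
  apply IsIntegral.neg
  unfold Polynomial.nextCoeff
  split_ifs
  · exact isIntegral_zero
  · exact hcoef _

open TensorProduct in
theorem main8961 (A K B L : Type u) [CommRing A] [CommRing K] [CommRing B] [CommRing L]
    [Algebra A K] [Algebra A B] [Algebra B L] [Algebra K L] [Algebra A L] [IsScalarTower A K L]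
    [IsScalarTower A B L] (h : QFDual.IsDedekindDefined A K B L) (hA : EGA4.IsNormalRing A)
    (b : B) : Algebra.trace K L (algebraMap B L b) ∈ (algebraMap A K).range := by
  haveI := h.isNoetherianRing
  haveI := h.finite
  haveI := h.free
  haveI := h.finiteKL
  haveI : IsLocalization (nonZeroDivisors A) K := h.isFractionRing
  obtain ⟨x, hx⟩ : ∃ x : L, x = algebraMap B L b := ⟨_, rfl⟩
  obtain ⟨t, ht⟩ : ∃ t : K, t = Algebra.trace K L x := ⟨_, rfl⟩
  rw [← hx, ← ht]
  obtain ⟨q, hqm, hq⟩ : IsIntegral A b := IsIntegral.of_finite A b
  have hqx : Polynomial.aeval x q = 0 := by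
    rw [hx, Polynomial.aeval_algebraMap_apply, Polynomial.aeval_def, hq, map_zero]
  have hqK : Polynomial.aeval x (q.map (algebraMap A K)) = 0 := by
    rw [Polynomial.aeval_map_algebraMap, hqx]
  have hTx : Polynomial.aeval (Algebra.lmul K L x) (q.map (algebraMap A K)) = 0 := by
    rw [Polynomial.aeval_algHom_apply, hqK, map_zero]
  have key : ∀ (p : Ideal A) [p.IsPrime], ∃ s, s ∉ p ∧ ∃ a : A,
      algebraMap A K s * t = algebraMap A K a := by
    intro p _
    obtain ⟨hdom, hic⟩ := hA p
    haveI := hdom
    haveI := hic
    have hunit : ∀ y : nonZeroDivisors A,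
        IsUnit (algebraMap A (FractionRing (Localization.AtPrime p)) (y : A)) := by
      intro y
      have h1 : algebraMap A (Localization.AtPrime p) y ∈
          nonZeroDivisors (Localization.AtPrime p) :=
        IsLocalization.map_nonZeroDivisors_le p.primeCompl (Localization.AtPrime p)
          (Submonoid.mem_map_of_mem _ y.2)
      have h2 : algebraMap A (Localization.AtPrime p) y ≠ 0 := nonZeroDivisors.ne_zero h1
      have h3 : algebraMap A (FractionRing (Localization.AtPrime p)) (y : A) ≠ 0 := by
        rw [IsScalarTower.algebraMap_apply A (Localization.AtPrime p)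
          (FractionRing (Localization.AtPrime p))]
        exact fun h0 => h2 ((IsFractionRing.injective (Localization.AtPrime p)
          (FractionRing (Localization.AtPrime p))) (by rw [h0, map_zero]))
      exact IsUnit.mk0 _ h3
    letI : Algebra K (FractionRing (Localization.AtPrime p)) :=
      (IsLocalization.lift (M := nonZeroDivisors A)
        (g := algebraMap A (FractionRing (Localization.AtPrime p))) hunit).toAlgebra
    haveI : IsScalarTower A K (FractionRing (Localization.AtPrime p)) :=
      IsScalarTower.of_algebraMap_eq (fun a => (IsLocalization.lift_eq hunit a).symm)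
    have hTF := Groth.Agent.S4429.aeval_baseChange_eq_zero
      (FractionRing (Localization.AtPrime p)) (Algebra.lmul K L x) _ hTx
    have hmap : (q.map (algebraMap A K)).map
        (algebraMap K (FractionRing (Localization.AtPrime p))) =
        q.map (algebraMap A (FractionRing (Localization.AtPrime p))) := by
      rw [Polynomial.map_map, ← IsScalarTower.algebraMap_eq]
    rw [hmap] at hTF
    have hint := isIntegral_trace_of_aeval
      ((Algebra.lmul K L x).baseChange (FractionRing (Localization.AtPrime p))) q hqm hTF
    rw [LinearMap.trace_baseChange, ← Algebra.trace_apply, ← ht] at hint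
    have hint' : IsIntegral (Localization.AtPrime p)
        (algebraMap K (FractionRing (Localization.AtPrime p)) t) := hint.tower_top
    obtain ⟨d, hd⟩ := IsIntegrallyClosed.isIntegral_iff.mp hint'
    obtain ⟨⟨x₀, dd⟩, hxd⟩ := IsLocalization.surj (nonZeroDivisors A) t
    obtain ⟨⟨y, s'⟩, hys⟩ := IsLocalization.surj p.primeCompl d
    dsimp only at hxd hys
    have e1 : algebraMap A (Localization.AtPrime p) (↑s' * x₀) =
        algebraMap A (Localization.AtPrime p) (y * ↑dd) := by
      apply IsFractionRing.injective (Localization.AtPrime p)
        (FractionRing (Localization.AtPrime p))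
      have hA1 : ∀ a : A, algebraMap (Localization.AtPrime p)
          (FractionRing (Localization.AtPrime p)) (algebraMap A (Localization.AtPrime p) a) =
          algebraMap K (FractionRing (Localization.AtPrime p)) (algebraMap A K a) := fun a => by
        rw [← IsScalarTower.algebraMap_apply A (Localization.AtPrime p)
          (FractionRing (Localization.AtPrime p)),
          ← IsScalarTower.algebraMap_apply A K (FractionRing (Localization.AtPrime p))]
      rw [map_mul, map_mul, map_mul, map_mul, hA1 x₀, ← hxd, map_mul, ← hd, ← hys, map_mul,
        hA1 ↑dd]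
      ring
    obtain ⟨s'', hs''⟩ := (IsLocalization.eq_iff_exists p.primeCompl
      (Localization.AtPrime p)).mp e1
    refine ⟨↑s'' * ↑s', Ideal.mem_primeCompl_iff.mp (mul_mem s''.2 s'.2), ↑s'' * y, ?_⟩
    have hu : IsUnit (algebraMap A K ↑dd) := IsLocalization.map_units K dd
    apply hu.mul_right_cancel
    calc algebraMap A K (↑s'' * ↑s') * t * algebraMap A K ↑dd
        = algebraMap A K (↑s'' * ↑s') * (t * algebraMap A K ↑dd) := mul_assoc _ _ _
      _ = algebraMap A K (↑s'' * ↑s') * algebraMap A K x₀ := by rw [hxd]
      _ = algebraMap A K (↑s'' * (↑s' * x₀)) := by rw [← map_mul, mul_assoc]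
      _ = algebraMap A K (↑s'' * (y * ↑dd)) := by rw [hs'']
      _ = algebraMap A K (↑s'' * y) * algebraMap A K ↑dd := by rw [← map_mul, mul_assoc]
  let Dn : Ideal A :=
    { carrier := {s | algebraMap A K s * t ∈ (algebraMap A K).range}
      add_mem' := by
        intro s s' hs hs'
        show algebraMap A K (s + s') * t ∈ (algebraMap A K).range
        rw [map_add, add_mul]
        exact (algebraMap A K).range.add_mem hs hs'
      zero_mem' := by
        show algebraMap A K 0 * t ∈ (algebraMap A K).range
        rw [map_zero, zero_mul]
        exact (algebraMap A K).range.zero_mem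
      smul_mem' := by
        intro c s hs
        show algebraMap A K (c • s) * t ∈ (algebraMap A K).range
        rw [smul_eq_mul, map_mul, mul_assoc]
        exact (algebraMap A K).range.mul_mem (RingHom.mem_range.mpr ⟨c, rfl⟩) hs }
  have hDn : Dn = ⊤ := by
    by_contra hne
    obtain ⟨m, hm, hle⟩ := Ideal.exists_le_maximal Dn hne
    haveI := hm.isPrime
    obtain ⟨s, hs, a, ha⟩ := key m
    exact hs (hle (show algebraMap A K s * t ∈ (algebraMap A K).range from
      RingHom.mem_range.mpr ⟨a, ha.symm⟩))
  have h1 : (1 : A) ∈ Dn := hDn ▸ Submodule.mem_top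
  have h1' : algebraMap A K 1 * t ∈ (algebraMap A K).range := h1
  rwa [map_one, one_mul] at h1'


/-- Suppose the Dedekind different of A → B is defined: A is Noetherian, B is a finite A-algebra,
nonzerodivisors of A are nonzerodivisors on B, and with K = Q(A) and L = B ⊗_A K the map K → L is
étale (here with L finite free over K). If A is a normal ring, i.e. every localization A_p at a
prime is an integrally closed domain, then Trace_{L/K}(b) lies in A for every b ∈ B; equivalently 1
∈ 𝓛_{B/A}. -/
theorem result (A K B L : Type u) [CommRing A] [CommRing K] [CommRing B] [CommRing L] [Algebra A K] [Algebra A B] [Algebra B L] [Algebra K L] [Algebra A L] [IsScalarTower A K L] [IsScalarTower A B L] (h : QFDual.IsDedekindDefined A K B L) (hA : EGA4.IsNormalRing A) : (1 : L) ∈ QFDual.complementary A K B L := by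
  show ∀ b : B, Algebra.trace K L (1 * algebraMap B L b) ∈ (algebraMap A K).range
  intro b
  rw [one_mul]
  exact main8961 A K B L h hA b


end Groth.Agent.S8961
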