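import Groth.Statements.S8970
import Groth.Agent.Lib.Helper6.AdjRes

set_option autoImplicit false
universe u
open CategoryTheory
attribute [local instance] HasDerivedCategory.standard
open Dual

namespace Groth.Agent.S8970

/-- For a Noetherian ring A with a dualizing complex ω, δ(p) denotes the integer such that the
localization at p of Hom(A/p, ω[i]) is nonzero exactly for i = −δ(p); this δ is the dimension
function of ω. Suppose A is a Noetherian ring equipped with a dualizing complex ω, fix a surjective
ring homomorphism A → B, and take R : D(A) → D(B) to be the right adjoint of restriction of scalars;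
then ω_B = R(ω) = RHom_A(B, ω) is a dualizing complex for B. Then δ_{ω_B} is the restriction of δ_ω
to Spec B: for every prime q of B, with p its preimage in A, and every integer i, the localization
at q of the B-module of maps B/q → ω_B[i] in D(B) is nonzero if and only if the localization at p of
the A-module of maps A/p → ω[i] in D(A) is nonzero. -/
theorem result (A B : Type u) [CommRing A] [CommRing B] [IsNoetherianRing A] [IsNoetherianRing B] [Algebra A B] (hs : Function.Surjective (algebraMap A B)) (R : Dual.D A ⥤ Dual.D B) (adj : DRing.restrictD (algebraMap A B) ⊣ R) (ω : Dual.D A) (hω : Dual.IsDualizing A ω) (q : PrimeSpectrum B) (i : ℤ) : Nontrivial (LocalizedModule q.asIdeal.primeCompl (Dual.inD B (B ⧸ q.asIdeal) ⟶ (R.obj ω)⟦i⟧)) ↔ Nontrivial (LocalizedModule (q.asIdeal.comap (algebraMap A B)).primeCompl (Dual.inD A (A ⧸ q.asIdeal.comap (algebraMap A B)) ⟶ ω⟦i⟧)) := by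
  haveI := q.isPrime
  let Ψ₀ := Groth.Agent.Helper6.AdjRes.homEquivShift R adj
    ((DerivedCategory.singleFunctor (ModuleCat.{u} B) 0).obj (ModuleCat.of B (B ⧸ q.asIdeal))) ω i
  let θ := Groth.Agent.Helper6.AdjRes.quotIso (algebraMap A B) hs q.asIdeal
  let Ψ : (Dual.inD B (B ⧸ q.asIdeal) ⟶ (R.obj ω)⟦i⟧) ≃
      (Dual.inD A (A ⧸ q.asIdeal.comap (algebraMap A B)) ⟶ ω⟦i⟧) :=
    Ψ₀.toEquiv.trans ⟨fun x => θ.hom ≫ x, fun y => θ.inv ≫ y, fun x => by simp, fun y => by simp⟩
  refine Groth.Agent.Helper6.AdjRes.nontrivial_localizedModule_iff_of_semilinear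
    (algebraMap A B) hs q.asIdeal Ψ ?_
  intro a m
  show θ.hom ≫ Ψ₀ (algebraMap A B a • m) = a • (θ.hom ≫ Ψ₀ m)
  rw [Groth.Agent.Helper6.AdjRes.homEquivShift_smul, Linear.comp_smul]

end Groth.Agent.S8970
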