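import Groth.Statements.S8980
import Mathlib
import Groth.Agent.Lib.Helper5.PhV
import Groth.Agent.S7470

set_option autoImplicit false
universe u
open HTop

namespace Groth.Agent.S8980aux

open CategoryTheory CategoryTheory.Limits AlgebraicGeometry HTop

theorem isVCover_of_sigma {T : Scheme.{u}} (E : PreZeroHypercover.{u} T)
    (h : IsVCover (PreZeroHypercover.singleton.{0} (Sigma.desc E.f))) : IsVCover E := by
  intro U
  obtain ⟨G, hG, hGE⟩ := h U
  haveI := hG.isAffine_obj
  choose i0 hh hhe using hGE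
  have hh' : ∀ j, ∃ h' : G.X j ⟶ ∐ E.X, h' ≫ Sigma.desc E.f = G.f j ≫ (U : T.Opens).ι :=
    fun j => ⟨hh j, hhe j⟩
  choose h' hh'e using hh'
  have key : ∀ j : G.I₀, ∃ (n : ℕ) (W : Fin n → (G.X j).Opens) (a : Fin n → E.I₀),
      (∀ k, IsAffineOpen (W k)) ∧ (∀ x : G.X j, ∃ k, x ∈ W k) ∧
        ∀ k, W k ≤ (h' j) ⁻¹ᵁ (Sigma.ι E.X (a k)).opensRange := by
    intro j
    refine Groth.Agent.Helper5.VSheaf.exists_finite_affine_cover_le
      (fun i : E.I₀ => (h' j) ⁻¹ᵁ (Sigma.ι E.X i).opensRange) ?_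
    intro x
    obtain ⟨i, y, hy⟩ := (sigmaOpenCover E.X).exists_eq (h' j x)
    exact ⟨i, y, hy⟩
  choose n W a hW hcov hWO using key
  let Z : ∀ j, PreZeroHypercover.{0} (G.X j) :=
    fun j => ⟨Fin (n j), fun k => (W j k : Scheme.{u}), fun k => (W j k).ι⟩
  have hZ : ∀ j, IsStandardV (Z j) := fun j =>
    Groth.Agent.Helper5.HTopLib.isStandardV_of_opens (W j) (hW j) (hcov j)
  refine ⟨G.bind Z, Groth.Agent.S7470.result G hG Z hZ, ?_⟩
  rintro ⟨j, k⟩
  have hr : Set.range ((W j k).ι ≫ h' j) ⊆ Set.range (Sigma.ι E.X (a j k)) := by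
    rintro _ ⟨x, rfl⟩
    exact hWO j k x.2
  refine ⟨a j k, IsOpenImmersion.lift (Sigma.ι E.X (a j k)) ((W j k).ι ≫ h' j) hr, ?_⟩
  show IsOpenImmersion.lift (Sigma.ι E.X (a j k)) ((W j k).ι ≫ h' j) hr ≫ E.f (a j k) =
    ((W j k).ι ≫ G.f j) ≫ (U : T.Opens).ι
  rw [← Sigma.ι_desc E.f (a j k), ← Category.assoc, IsOpenImmersion.lift_fac, Category.assoc,
    hh'e j, Category.assoc]

end Groth.Agent.S8980aux

namespace Groth.Agent.S8980

open CategoryTheory CategoryTheory.Limits AlgebraicGeometry in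
/-- A family of morphisms T_i → T, indexed by a type in the universe of T and all locally of finite
presentation, is an h covering if and only if the one-member family given by the induced morphism
from the coproduct of the T_i to T is an h covering. (The published statement also lists, as a
further equivalent condition, that some h covering refines the family; that equivalence is immediate
from the definitions and is not restated here.) -/
theorem result {T : Scheme.{u}} (E : PreZeroHypercover.{u} T) (hE : ∀ i, LocallyOfFinitePresentation (E.f i)) : HTop.IsHCover E ↔ HTop.IsHCover (PreZeroHypercover.singleton.{0} (Sigma.desc E.f)) := by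
  constructor
  · rintro ⟨-, hV⟩
    refine ⟨fun _ => IsZariskiLocalAtSource.sigmaDesc hE, ?_⟩
    exact Groth.Agent.Helper5.VSheaf.isVCover_of_hom
      (⟨fun _ => ⟨⟩, fun i => Sigma.ι E.X i, fun i => Sigma.ι_desc E.f i⟩ :
        E.Hom (PreZeroHypercover.singleton.{0} (Sigma.desc E.f))) hV
  · rintro ⟨-, hV⟩
    exact ⟨hE, Groth.Agent.S8980aux.isVCover_of_sigma E hV⟩

end Groth.Agent.S8980
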