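import Groth.Statements.S8992
import Mathlib

set_option autoImplicit false
universe u
open HTop

namespace Groth.Agent.S8992

/-- An algebra over the prime field with p elements is absolutely weakly normal if and only if its p-th
power map is bijective (the algebra is perfect). -/
theorem result (p : ℕ) [Fact p.Prime] (A : Type u) [CommRing A] [Algebra (ZMod p) A] : HTop.IsAWNRing A ↔ PerfectRing A p := by
  have hp : p.Prime := Fact.out
  have hp2 : 2 ≤ p := hp.two_le
  have hp0 : p ≠ 0 := hp.ne_zero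
  have hpA : (p : A) = 0 := by
    rw [← map_natCast (algebraMap (ZMod p) A) p, ZMod.natCast_self, map_zero]
  constructor
  · rintro ⟨_, h2⟩
    refine ⟨⟨?_, ?_⟩⟩
    · intro a b hab
      have hab' : a ^ p = b ^ p := hab
      obtain ⟨c, _, hc⟩ := h2 p hp (a ^ p) 0 (by rw [hpA, zero_pow hp0, zero_mul])
      have ha := hc a ⟨rfl, by rw [hpA, zero_mul]⟩
      have hb := hc b ⟨hab', by rw [hpA, zero_mul]⟩
      rw [ha, hb]
    · intro x
      obtain ⟨c, ⟨hc, _⟩, _⟩ := h2 p hp x 0 (by rw [hpA, zero_pow hp0, zero_mul])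
      exact ⟨c, hc.symm⟩
  · rintro ⟨hinj, hsurj⟩
    have hinj' : ∀ a b : A, a ^ p = b ^ p → a = b := fun a b h => hinj h
    have hsurj' : ∀ x : A, ∃ a : A, a ^ p = x := fun x => hsurj x
    have hred : ∀ z : A, z ^ 3 = 0 → z = 0 := by
      intro z hz
      obtain ⟨N, hN⟩ : ∃ N, p * p = N := ⟨_, rfl⟩
      have hN4 : 4 ≤ N := by
        rw [← hN]
        exact Nat.mul_le_mul hp2 hp2
      have h1 : z ^ (p * p) = 0 := by
        have h3 : N = 3 + (N - 3) := by omega
        rw [hN, h3, pow_add, hz, zero_mul]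
      rw [pow_mul] at h1
      have h2 : z ^ p = 0 := hinj' _ _ (by rw [h1, zero_pow hp0])
      exact hinj' _ _ (by rw [h2, zero_pow hp0])
    refine ⟨?_, ?_⟩
    · intro x y hxy
      obtain ⟨i, j, hij⟩ : ∃ i j : ℕ, 2 * i + 3 * j = p := by
        rcases Nat.even_or_odd' p with ⟨m, hm | hm⟩
        · exact ⟨m, 0, by omega⟩
        · exact ⟨m - 1, 1, by omega⟩
      obtain ⟨a, ha⟩ := hsurj' (x ^ i * y ^ j)
      have ha2 : x = a ^ 2 := by
        apply hinj'
        calc x ^ p = x ^ (2 * i + 3 * j) := by rw [hij]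
          _ = (x ^ i) ^ 2 * (x ^ 3) ^ j := by ring
          _ = (x ^ i) ^ 2 * (y ^ 2) ^ j := by rw [hxy]
          _ = (x ^ i * y ^ j) ^ 2 := by ring
          _ = (a ^ p) ^ 2 := by rw [ha]
          _ = (a ^ 2) ^ p := by ring
      have ha3 : y = a ^ 3 := by
        apply hinj'
        calc y ^ p = y ^ (2 * i + 3 * j) := by rw [hij]
          _ = (y ^ 2) ^ i * (y ^ j) ^ 3 := by ring
          _ = (x ^ 3) ^ i * (y ^ j) ^ 3 := by rw [hxy]
          _ = (x ^ i * y ^ j) ^ 3 := by ring
          _ = (a ^ p) ^ 3 := by rw [ha]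
          _ = (a ^ 3) ^ p := by ring
      refine ⟨a, ⟨ha2, ha3⟩, ?_⟩
      rintro b ⟨hb2, hb3⟩
      have e2 : b ^ 2 = a ^ 2 := by rw [← hb2, ← ha2]
      have e3 : b ^ 3 = a ^ 3 := by rw [← hb3, ← ha3]
      have h0 : (b - a) ^ 3 = 0 := by
        linear_combination 4 * e3 - 3 * (a + b) * e2
      exact sub_eq_zero.mp (hred _ h0)
    · intro q hq x y hxy
      by_cases hqp : p = q
      · subst hqp
        rw [hpA, zero_pow hp0, zero_mul] at hxy
        have hy : y = 0 := hinj' _ _ (by rw [← hxy, zero_pow hp0])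
        obtain ⟨a, ha⟩ := hsurj' x
        refine ⟨a, ⟨ha.symm, by rw [hy, hpA, zero_mul]⟩, ?_⟩
        rintro b ⟨hb, _⟩
        exact hinj' _ _ (by rw [← hb, ha])
      · have hcop : Nat.Coprime q p := (Nat.coprime_primes hq hp).mpr (fun h => hqp h.symm)
        have hu : IsUnit (q : A) := by
          have h1 : IsUnit ((q : ZMod p)) := by
            rw [← ZMod.coe_unitOfCoprime q hcop]
            exact Units.isUnit _
          have h2 := h1.map (algebraMap (ZMod p) A)
          rwa [map_natCast] at h2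
        obtain ⟨v, hv⟩ := hu.exists_left_inv
        refine ⟨v * y, ⟨?_, ?_⟩, ?_⟩
        · calc x = (v * (q : A)) ^ q * x := by rw [hv, one_pow, one_mul]
            _ = v ^ q * ((q : A) ^ q * x) := by ring
            _ = v ^ q * y ^ q := by rw [hxy]
            _ = (v * y) ^ q := by ring
        · calc y = (v * (q : A)) * y := by rw [hv, one_mul]
            _ = (q : A) * (v * y) := by ring
        · rintro b ⟨_, hb⟩
          rw [hb]
          calc b = (v * (q : A)) * b := by rw [hv, one_mul]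
            _ = v * ((q : A) * b) := by ring

end Groth.Agent.S8992
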