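import Groth.Statements.S8993
import Groth.Agent.S14254
import Groth.Agent.H25.ColimUH
open Groth.Agent.H25

set_option autoImplicit false
universe u
open HTop

namespace Groth.Agent.S8993

/-- For a ring A of prime characteristic p, the map from A to the direct limit of A along Frobenius (the
perfect closure) is an absolute weak normalization of A. (The published statement also identifies,
over a base of characteristic p, the h sheafification of the structure sheaf on quasi-compact
quasi-separated objects with this colimit; that part is not stated here.) -/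
theorem result (p : ℕ) [Fact p.Prime] (A : Type u) [CommRing A] [CharP A p] : HTop.IsRingAWN (PerfectClosure.of A p) := by
  have hp : p.Prime := Fact.out
  haveI : ExpChar A p := ExpChar.prime hp
  haveI : Nontrivial A := CharP.nontrivial_of_char_ne_one (R := A) hp.ne_one
  have hUH : FlatMor.IsUnivHomeo (AlgebraicGeometry.Spec.map (CommRingCat.ofHom (PerfectClosure.of A p))) := by
    rw [Groth.Agent.S14254.result p (PerfectClosure.of A p) (PerfectClosure.of A p)
      (RingHom.id (PerfectClosure A p)) (RingHom.id (PerfectClosure A p)) rfl]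
    exact Function.bijective_id
  refine ⟨hUH, ?_⟩
  intro C _ ψ hψ
  have hψ' := (ColimUH.univHomeo_iff ψ).1 hψ
  haveI : Nontrivial C := by
    rw [nontrivial_iff]
    refine ⟨1, 0, fun h => ?_⟩
    have h1 : ψ 1 = 0 := by rw [map_one]; exact h
    obtain ⟨n, hn⟩ := hψ'.2.2 1 h1
    rw [one_pow] at hn
    exact one_ne_zero hn
  have hpC : (p : C) = 0 := by
    rw [← map_natCast ψ, CharP.cast_eq_zero, map_zero]
  haveI : CharP C p := (CharP.charP_iff_prime_eq_zero hp).2 hpC
  haveI : ExpChar C p := ExpChar.prime hp
  let φ' : PerfectClosure A p →+* PerfectClosure C p :=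
    PerfectRing.lift (PerfectClosure.of A p) ((PerfectClosure.of C p).comp ψ) p
  have hφ' : φ'.comp (PerfectClosure.of A p) = (PerfectClosure.of C p).comp ψ :=
    PerfectRing.lift_comp _ _ p
  have hbij : Function.Bijective φ' :=
    (Groth.Agent.S14254.result p ψ (PerfectClosure.of A p) (PerfectClosure.of C p) φ' hφ').1 hψ
  let e : PerfectClosure A p ≃+* PerfectClosure C p := RingEquiv.ofBijective φ' hbij
  refine ⟨e.symm.toRingHom.comp (PerfectClosure.of C p), ?_, ?_⟩
  · ext a
    simp only [RingHom.comp_apply, RingEquiv.toRingHom_eq_coe, RingHom.coe_coe]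
    rw [e.symm_apply_eq]
    exact (congr($hφ' a)).symm
  · intro χ hχ
    -- p-power conditions for ψ
    have hloc : Function.Bijective (Localization.awayMap ψ (p : A)) := by
      have h0A : (0 : A) ∈ Submonoid.powers (p : A) :=
        ⟨1, by show (p : A) ^ 1 = 0; rw [pow_one]; exact CharP.cast_eq_zero A p⟩
      have h0B : (0 : C) ∈ Submonoid.powers (ψ (p : A)) :=
        ⟨1, by show ψ (p : A) ^ 1 = 0; rw [pow_one, map_natCast]; exact hpC⟩
      haveI : Subsingleton (Localization.Away (p : A)) := IsLocalization.subsingleton h0A
      haveI : Subsingleton (Localization.Away (ψ (p : A))) := IsLocalization.subsingleton h0B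
      exact ⟨fun x y _ => Subsingleton.elim x y, fun y => ⟨0, Subsingleton.elim _ _⟩⟩
    obtain ⟨-, hb⟩ := (Groth.Agent.S0418.result ψ p hp hloc).1 hψ
    ext c
    obtain ⟨n, -, a, ha⟩ := hb c
    apply (bijective_iterateFrobenius (PerfectClosure A p) p n).1
    rw [iterateFrobenius_def, iterateFrobenius_def, ← map_pow, ← map_pow, ← ha]
    have e1 := congr($hχ a)
    simp only [RingHom.comp_apply] at e1
    rw [e1]
    simp only [RingHom.comp_apply, RingEquiv.toRingHom_eq_coe, RingHom.coe_coe]
    rw [eq_comm, e.symm_apply_eq]
    exact (congr($hφ' a)).symm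

end Groth.Agent.S8993
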