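import Groth.Statements.S9007
import Mathlib
-- import your own Groth.Agent.* helpers here

set_option autoImplicit false
universe u
open FlatMor

namespace Groth.Agent.S9007


open CategoryTheory CategoryTheory.Limits AlgebraicGeometry in
theorem aux {X Y Y' : Scheme.{u}} (j : X ⟶ Y) [IsOpenImmersion j] (j' : X ⟶ Y') [IsOpenImmersion j']
    (f : Y' ⟶ Y) [IsSeparated f] (hfj : j' ≫ f = j) (hd : Dense (Set.range j'.base)) :
    f ⁻¹ᵁ j.opensRange = j'.opensRange := by
  have hsub : Set.range j'.base ⊆ Set.range (f ⁻¹ᵁ j.opensRange).ι.base := by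
    rintro _ ⟨x, rfl⟩
    rw [Scheme.Opens.range_ι]
    change f.base (j'.base x) ∈ j.opensRange
    have : f.base (j'.base x) = j.base x := by
      rw [← hfj]; rfl
    rw [this]
    exact ⟨x, rfl⟩
  let V := f ⁻¹ᵁ j.opensRange
  let j'' : X ⟶ V := IsOpenImmersion.lift V.ι j' hsub
  have hj'' : j'' ≫ V.ι = j' := IsOpenImmersion.lift_fac _ _ _
  have hcomp : j'' ≫ (f ∣_ j.opensRange) = j.isoOpensRange.hom := by
    rw [← cancel_mono j.opensRange.ι, Category.assoc, morphismRestrict_ι, ← Category.assoc, hj'',
      hfj, Scheme.Hom.isoOpensRange_hom_ι]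
  haveI : IsSeparated (f ∣_ j.opensRange) :=
    IsZariskiLocalAtTarget.restrict (P := @IsSeparated) inferInstance _
  haveI : IsClosedImmersion (j'' ≫ (f ∣_ j.opensRange)) := by
    rw [hcomp]; infer_instance
  haveI : IsClosedImmersion j'' := IsClosedImmersion.of_comp (f := j'') (g := f ∣_ j.opensRange)
  have hcl : IsClosed (Set.range j''.base) := j''.isClosedEmbedding.isClosed_range
  have hrange : Set.range j''.base = V.ι.base ⁻¹' Set.range j'.base := by
    ext v
    constructor
    · rintro ⟨x, rfl⟩
      refine ⟨x, ?_⟩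
      rw [← hj'']; rfl
    · rintro ⟨x, hx⟩
      refine ⟨x, ?_⟩
      apply V.ι.isOpenEmbedding.injective
      rw [← hx, ← hj'']; rfl
  have hdense : Dense (Set.range j''.base) := by
    rw [hrange]
    exact hd.preimage V.ι.isOpenEmbedding.isOpenMap
  have huniv : Set.range j''.base = Set.univ := by
    rw [← hcl.closure_eq]; exact hdense.closure_eq
  apply le_antisymm
  · intro y hy
    have : (⟨y, hy⟩ : V) ∈ Set.range j''.base := by rw [huniv]; trivial
    obtain ⟨x, hx⟩ := this
    refine ⟨x, ?_⟩
    have h2 : V.ι.base (j''.base x) = y := by rw [hx]; rfl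
    rw [← h2, ← hj'']; rfl
  · rintro _ ⟨x, rfl⟩
    change f.base (j'.base x) ∈ j.opensRange
    have : f.base (j'.base x) = j.base x := by
      rw [← hfj]; rfl
    rw [this]
    exact ⟨x, rfl⟩

open CategoryTheory CategoryTheory.Limits AlgebraicGeometry in
/-- For a morphism f of compactifications of X over a quasi-compact quasi-separated S whose source
contains X as a dense open, the preimage under f of the image of X in the target is the image of X
in the source. -/
theorem result {X S : Scheme.{u}} [CompactSpace S] [QuasiSeparatedSpace S] (p : X ⟶ S) [IsSeparated p] [QuasiCompact p] [LocallyOfFiniteType p] {Y Y' : Scheme.{u}} (j : X ⟶ Y) (q : Y ⟶ S) [IsOpenImmersion j] [IsProper q] (h : j ≫ q = p) (j' : X ⟶ Y') (q' : Y' ⟶ S) [IsOpenImmersion j'] [IsProper q'] (h' : j' ≫ q' = p) (f : Y' ⟶ Y) (hf : f ≫ q = q') (hfj : j' ≫ f = j) (hd : Dense (Set.range j'.base)) : f ⁻¹ᵁ j.opensRange = j'.opensRange := by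
  haveI : IsSeparated (f ≫ q) := by rw [hf]; infer_instance
  haveI : IsSeparated f := IsSeparated.of_comp f q
  exact aux j j' f hfj hd

end Groth.Agent.S9007
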