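import Groth.Statements.S9038
import Mathlib
-- import your own Groth.Agent.* helpers here

set_option autoImplicit false
universe u
open Topology
open CohTop

namespace Groth.Agent.S9038

/-- In the category of Hausdorff locally quasi-compact spaces, call a family of continuous maps f_i :
X_i → X a qc covering when every point of X has a neighbourhood of the form ⋃_{i ∈ t} f_i(E_i) with
t a finite set of indices and E_i ⊆ X_i quasi-compact. If (f_i : X_i → X) is a qc covering and for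
each i the family (g_{ij} : X_{ij} → X_i)_j is a qc covering, then the family of composites X_{ij} →
X, indexed by the pairs (i, j), is a qc covering. -/
theorem result
    {B : Type u} [TopologicalSpace B] [T2Space B] [LocallyCompactSpace B]
    {ι : Type u} {X : ι → Type u} [∀ i, TopologicalSpace (X i)] [∀ i, T2Space (X i)]
    [∀ i, LocallyCompactSpace (X i)]
    (f : ∀ i, X i → B) (hf : ∀ i, Continuous (f i))
    (hcov : ∀ x : B, ∃ (t : Finset ι) (E : ∀ i, Set (X i)),
      (∀ i ∈ t, IsCompact (E i)) ∧ (⋃ i ∈ t, f i '' E i) ∈ 𝓝 x)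
    {κ : ι → Type u} {Y : ∀ i, κ i → Type u} [∀ i j, TopologicalSpace (Y i j)] [∀ i j, T2Space (Y i j)]
    [∀ i j, LocallyCompactSpace (Y i j)]
    (g : ∀ i j, Y i j → X i) (hg : ∀ i j, Continuous (g i j))
    (hcov' : ∀ (i : ι) (x : X i), ∃ (t : Finset (κ i)) (E : ∀ j, Set (Y i j)),
      (∀ j ∈ t, IsCompact (E j)) ∧ (⋃ j ∈ t, g i j '' E j) ∈ 𝓝 x) :
    ∀ x : B, ∃ (t : Finset (Σ i, κ i)) (E : ∀ p : (Σ i, κ i), Set (Y p.1 p.2)),
      (∀ p ∈ t, IsCompact (E p)) ∧ (⋃ p ∈ t, f p.1 '' (g p.1 p.2 '' E p)) ∈ 𝓝 x := by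
  classical
  intro x
  obtain ⟨t, E, hE, hnhds⟩ := hcov x
  choose tt EE hEE hnh using hcov'
  have hF : ∀ i, ∃ F : Finset (X i), i ∈ t → E i ⊆ ⋃ e ∈ F, ⋃ j ∈ tt i e, g i j '' EE i e j := by
    intro i
    by_cases hi : i ∈ t
    · obtain ⟨F, -, hF⟩ := (hE i hi).elim_nhds_subcover
        (fun e => ⋃ j ∈ tt i e, g i j '' EE i e j) (fun e _ => hnh i e)
      exact ⟨F, fun _ => hF⟩
    · exact ⟨∅, fun h => absurd h hi⟩
  choose F hF using hF
  refine ⟨t.sigma (fun i => (F i).biUnion (fun e => tt i e)),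
    fun p => ⋃ e ∈ (F p.1).filter (fun e => p.2 ∈ tt p.1 e), EE p.1 e p.2, ?_, ?_⟩
  · intro p hp
    refine Finset.isCompact_biUnion _ ?_
    intro e he
    rw [Finset.mem_filter] at he
    exact hEE p.1 e p.2 he.2
  · refine Filter.mem_of_superset hnhds ?_
    intro y hy
    simp only [Set.mem_iUnion, Set.mem_image] at hy
    obtain ⟨i, hi, a, ha, rfl⟩ := hy
    have := hF i hi ha
    simp only [Set.mem_iUnion, Set.mem_image] at this
    obtain ⟨e, he, j, hj, b, hb, rfl⟩ := this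
    simp only [Set.mem_iUnion, Set.mem_image]
    refine ⟨⟨i, j⟩, ?_, g i j b, ⟨b, ?_, rfl⟩, rfl⟩
    · rw [Finset.mem_sigma]
      exact ⟨hi, Finset.mem_biUnion.mpr ⟨e, he, hj⟩⟩
    · simp only [Set.mem_iUnion]
      exact ⟨e, Finset.mem_filter.mpr ⟨he, hj⟩, hb⟩

end Groth.Agent.S9038
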