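import Groth.Statements.S9085
import Groth.Agent.H10.ModFlat
import Mathlib

set_option autoImplicit false
universe u
open CategoryTheory
open ModSite

namespace Groth.Agent.S9085

open CategoryTheory.MonoidalCategory Groth.Agent.H10.SheafHomEx

theorem mono_of_sq_left {D : Type*} [Category D] {A B A' B' : D} (x : A ⟶ B) (y : A' ⟶ B')
    (a : A' ⟶ A) (b : B' ⟶ B) [IsIso a] [Mono y] [Mono b] (h : a ≫ x = y ≫ b) : Mono x := by
  have hx : x = inv a ≫ y ≫ b := by rw [← h, IsIso.inv_hom_id_assoc]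
  rw [hx]; infer_instance

theorem mono_of_sq_right {D : Type*} [Category D] {A B A' B' : D} (x : A ⟶ B) (y : A' ⟶ B')
    (a : A ⟶ A') (b : B ⟶ B') [Mono a] [Mono y] (h : x ≫ b = a ≫ y) : Mono x := by
  haveI : Mono (x ≫ b) := by rw [h]; infer_instance
  exact mono_of_mono x b

/-- On a small ringed site (C, O) with O commutative: the tensor product G ⊗_O F of two flat O-modules
is flat (flat meaning that tensoring with the module is exact on O-modules). -/
theorem result {C : Type u} [SmallCategory C] {J : GrothendieckTopology C}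
    (O : Sheaf J CommRingCat.{u}) (G F : ModSite.Mod O) (hG : ModSite.IsFlat G) (hF : ModSite.IsFlat F) :
    ModSite.IsFlat (((ModSite.tensorBi O).obj G).obj F) := by
  rw [Groth.Agent.H10.ModFlat.isFlat_iff] at hG hF ⊢
  constructor
  intro M' M m hm
  let GV : PM O.obj := G.val
  let FV : PM O.obj := F.val
  let MV' : PM O.obj := M'.val
  let MV : PM O.obj := M.val
  let mv : MV' ⟶ MV := m.val
  let p : MV' ⊗ GV ⟶ MV ⊗ GV := mv ▷ GV
  have h1 : Mono ((aF O).map p) := by
    haveI := hG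
    exact inferInstanceAs (Mono ((Groth.Agent.H10.ModFlat.T O G).map m))
  have h2 : Mono ((aF O).map (((GrF O).map ((aF O).map p)) ▷ FV)) := by
    haveI := hF
    haveI := hG
    exact inferInstanceAs (Mono ((Groth.Agent.H10.ModFlat.T O F).map
      ((Groth.Agent.H10.ModFlat.T O G).map m)))
  have hu' : IsIso ((aF O).map (((sadj O).unit.app (MV' ⊗ GV)) ▷ FV)) :=
    isIso_sheafify_whiskerRight_unit O (MV' ⊗ GV) FV
  have hu : IsIso ((aF O).map (((sadj O).unit.app (MV ⊗ GV)) ▷ FV)) :=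
    isIso_sheafify_whiskerRight_unit O (MV ⊗ GV) FV
  have hnat : p ≫ (sadj O).unit.app (MV ⊗ GV) =
      (sadj O).unit.app (MV' ⊗ GV) ≫ (GrF O).map ((aF O).map p) :=
    (sadj O).unit.naturality p
  have e3 : (aF O).map (p ▷ FV) ≫ (aF O).map (((sadj O).unit.app (MV ⊗ GV)) ▷ FV) =
      (aF O).map (((sadj O).unit.app (MV' ⊗ GV)) ▷ FV) ≫
        (aF O).map (((GrF O).map ((aF O).map p)) ▷ FV) := by
    rw [← Functor.map_comp, ← Functor.map_comp, ← MonoidalCategory.comp_whiskerRight,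
      ← MonoidalCategory.comp_whiskerRight, hnat]
  have h3 : Mono ((aF O).map (p ▷ FV)) := by
    haveI := hu'
    haveI := hu
    haveI := h2
    exact mono_of_sq_right _ _ _ _ e3
  let WV : PM O.obj := (GrF O).obj ((aF O).obj (GV ⊗ FV))
  let η : GV ⊗ FV ⟶ WV := (sadj O).unit.app (GV ⊗ FV)
  have hη : ∀ A : PM O.obj, IsIso ((aF O).map (A ◁ η)) := by
    intro A
    have h3' := isIso_sheafify_whiskerRight_unit O (GV ⊗ FV) A
    have hbr : A ◁ η = (β_ _ _).hom ≫ (η ▷ A) ≫ (β_ _ _).inv := by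
      rw [← Category.assoc, ← BraidedCategory.braiding_naturality_right, Category.assoc,
        Iso.hom_inv_id, Category.comp_id]
    rw [hbr, Functor.map_comp, Functor.map_comp]
    infer_instance
  have hρ : ∀ A : PM O.obj,
      IsIso ((aF O).map (α_ A GV FV).hom ≫ (aF O).map (A ◁ η)) := by
    intro A
    haveI := hη A
    infer_instance
  have q : ((α_ MV' GV FV).hom ≫ MV' ◁ η) ≫ mv ▷ WV =
      (p ▷ FV) ≫ ((α_ MV GV FV).hom ≫ MV ◁ η) := by
    calc ((α_ MV' GV FV).hom ≫ MV' ◁ η) ≫ mv ▷ WV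
        = (α_ MV' GV FV).hom ≫ (MV' ◁ η ≫ mv ▷ WV) := Category.assoc _ _ _
      _ = (α_ MV' GV FV).hom ≫ (mv ▷ (GV ⊗ FV) ≫ MV ◁ η) := by
          rw [MonoidalCategory.whisker_exchange]
      _ = ((α_ MV' GV FV).hom ≫ mv ▷ (GV ⊗ FV)) ≫ MV ◁ η := (Category.assoc _ _ _).symm
      _ = ((mv ▷ GV) ▷ FV ≫ (α_ MV GV FV).hom) ≫ MV ◁ η := by
          rw [MonoidalCategory.associator_naturality_left]
      _ = (p ▷ FV) ≫ ((α_ MV GV FV).hom ≫ MV ◁ η) := Category.assoc _ _ _
  have e4 : ((aF O).map (α_ MV' GV FV).hom ≫ (aF O).map (MV' ◁ η)) ≫ (aF O).map (mv ▷ WV) =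
      (aF O).map (p ▷ FV) ≫ ((aF O).map (α_ MV GV FV).hom ≫ (aF O).map (MV ◁ η)) := by
    rw [← Functor.map_comp, ← Functor.map_comp, ← Functor.map_comp, ← Functor.map_comp, q]
  have h4 : Mono ((aF O).map (mv ▷ WV)) := by
    haveI := hρ MV'
    haveI := hρ MV
    haveI := h3
    exact mono_of_sq_left _ _ _ _ e4
  exact h4

end Groth.Agent.S9085
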