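import Groth.Statements.S9089
import Mathlib
import Mathlib

set_option autoImplicit false
universe u
open CategoryTheory Opposite
open ModSite

namespace Groth.Agent.S9089

/-- Part (1): ⇔ (2), for a ringed site (C, O) with C small and O a sheaf of commutative rings: the
following are equivalent. (1) For every object U and every section f of O over U there is a covering
sieve on U on each of whose arrows either f or 1 - f restricts to a unit. (2) For every object U,
every n ≥ 1 and all sections f₁, …, fₙ of O over U generating the unit ideal of O(U), there is a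
covering sieve on U on each of whose arrows some fᵢ restricts to a unit. -/
theorem result {C : Type u} [SmallCategory C] (J : GrothendieckTopology C)
    (O : Sheaf J CommRingCat.{u}) :
    (∀ (U : C) (f : O.obj.obj (op U)), ∃ S ∈ J U, ∀ ⦃V : C⦄ (g : V ⟶ U), S g →
        IsUnit ((O.obj.map g.op).hom f) ∨ IsUnit ((O.obj.map g.op).hom (1 - f))) ↔
    (∀ (U : C) (n : ℕ) (f : Fin n → O.obj.obj (op U)), 1 ≤ n → Ideal.span (Set.range f) = ⊤ →
        ∃ S ∈ J U, ∀ ⦃V : C⦄ (g : V ⟶ U), S g → ∃ i, IsUnit ((O.obj.map g.op).hom (f i))) := by
  constructor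
  · intro hA
    have key : ∀ (n : ℕ) (U : C) (f : Fin n → O.obj.obj (op U)), 1 ≤ n →
        Ideal.span (Set.range f) = ⊤ →
        ∃ S ∈ J U, ∀ ⦃V : C⦄ (g : V ⟶ U), S g →
          ∃ i, IsUnit ((O.obj.map g.op).hom (f i)) := by
      intro n
      induction n with
      | zero =>
        intro U f h1
        omega
      | succ n ih =>
        intro U f _ hspan
        have hcomp : ∀ {W W' : C} (k : W ⟶ U) (h : W' ⟶ W) (t : O.obj.obj (op U)),
            (O.obj.map (h ≫ k).op).hom t =
              (O.obj.map h.op).hom ((O.obj.map k.op).hom t) := by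
          intro W W' k h t
          rw [op_comp, Functor.map_comp]
          rfl
        let S : Sieve U :=
          { arrows := fun W k => ∃ i, IsUnit ((O.obj.map k.op).hom (f i))
            downward_closed := by
              rintro W W' k ⟨i, hi⟩ h
              exact ⟨i, by rw [hcomp]; exact hi.map _⟩ }
        refine ⟨S, ?_, fun V g hg => hg⟩
        obtain ⟨c, hc⟩ := (Ideal.mem_span_range_iff_exists_fun).mp
          (show (1 : O.obj.obj (op U)) ∈ Ideal.span (Set.range f) by rw [hspan]; trivial)
        rw [Fin.sum_univ_castSucc] at hc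
        obtain ⟨S₁, hS₁, hS₁u⟩ := hA U (∑ i : Fin n, c i.castSucc * f i.castSucc)
        refine J.transitive hS₁ S ?_
        intro V g hg
        rcases hS₁u g hg with hu | hu
        · rcases Nat.eq_zero_or_pos n with hn | hn
          · subst hn
            rw [Finset.univ_eq_empty, Finset.sum_empty, map_zero] at hu
            have h01 : (0 : O.obj.obj (op V)) = 1 := isUnit_zero_iff.mp hu
            haveI : Subsingleton (O.obj.obj (op V)) := subsingleton_of_zero_eq_one h01
            have hmem : S g := ⟨Fin.last 0, isUnit_of_subsingleton _⟩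
            rw [Sieve.pullback_eq_top_of_mem S hmem]
            exact J.top_mem V
          · let f' : Fin n → O.obj.obj (op V) := fun i => (O.obj.map g.op).hom (f i.castSucc)
            have hspan' : Ideal.span (Set.range f') = ⊤ := by
              apply Ideal.eq_top_of_isUnit_mem _ _ hu
              rw [map_sum]
              refine Ideal.sum_mem _ (fun i _ => ?_)
              rw [map_mul]
              exact Ideal.mul_mem_left _ _ (Ideal.subset_span ⟨i, rfl⟩)
            obtain ⟨S₂, hS₂, hS₂u⟩ := ih V f' hn hspan'
            refine J.superset_covering ?_ hS₂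
            intro W h hh
            obtain ⟨i, hi⟩ := hS₂u h hh
            exact ⟨i.castSucc, by rw [hcomp]; exact hi⟩
        · have h1e : c (Fin.last n) * f (Fin.last n) =
              1 - ∑ i : Fin n, c i.castSucc * f i.castSucc := eq_sub_of_add_eq' hc
          rw [← h1e, map_mul] at hu
          have hmem : S g := ⟨Fin.last n, isUnit_of_mul_isUnit_right hu⟩
          rw [Sieve.pullback_eq_top_of_mem S hmem]
          exact J.top_mem V
    exact fun U n f => key n U f
  · intro hB U f
    obtain ⟨S, hS, hSu⟩ := hB U 2 ![f, 1 - f] (by norm_num) (by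
      rw [Ideal.eq_top_iff_one]
      have h0 : f ∈ Ideal.span (Set.range ![f, 1 - f]) := Ideal.subset_span ⟨0, rfl⟩
      have h1 : 1 - f ∈ Ideal.span (Set.range ![f, 1 - f]) := Ideal.subset_span ⟨1, rfl⟩
      have h2 := Ideal.add_mem _ h0 h1
      rwa [add_sub_cancel] at h2)
    refine ⟨S, hS, fun V g hg => ?_⟩
    obtain ⟨i, hi⟩ := hSu g hg
    fin_cases i
    · exact Or.inl hi
    · exact Or.inr hi

end Groth.Agent.S9089
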