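import Groth.Statements.S9091
import Groth.Agent.H10.StalkUnit
import Mathlib

set_option autoImplicit false
universe u
open CategoryTheory Opposite
open ModSite

namespace Groth.Agent.S9091

/-- Part (2): ⇒ (1) when the site has enough points, for a ringed site (C, O) with C small and O a sheaf
of commutative rings: if at every point p of the site the stalk O_p is the zero ring or is local,
then for every object U and every section f of O over U there is a covering sieve on U on each of
whose arrows either f or 1 - f restricts to a unit. -/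
theorem result {C : Type u} [SmallCategory C] {J : GrothendieckTopology C}
    (O : Sheaf J CommRingCat.{u}) [GrothendieckTopology.HasEnoughPoints.{u} J]
    (h : ∀ p : GrothendieckTopology.Point.{u} J, Subsingleton (ModSite.stalkRing p O) ∨ IsLocalRing (ModSite.stalkRing p O))
    (U : C) (f : O.obj.obj (op U)) :
    ∃ S ∈ J U, ∀ ⦃V : C⦄ (g : V ⟶ U), S g →
        IsUnit ((O.obj.map g.op).hom f) ∨ IsUnit ((O.obj.map g.op).hom (1 - f)) := by
  obtain ⟨P, hPs, hP⟩ := GrothendieckTopology.HasEnoughPoints.exists_objectProperty.{u} J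
  haveI := hPs
  let ι := Σ V : C, {g : V ⟶ U // IsUnit ((O.obj.map g.op).hom f) ∨
    IsUnit ((O.obj.map g.op).hom (1 - f))}
  have hcov : Sieve.ofArrows (fun i : ι => i.1) (fun i => i.2.1) ∈ J U := by
    rw [hP.jointly_reflect_ofArrows_mem_of_small]
    intro Φ x
    have hgerm : IsUnit ((Φ.obj.toPresheafFiber U x O.obj).hom f) ∨
        IsUnit ((Φ.obj.toPresheafFiber U x O.obj).hom (1 - f)) := by
      rcases h Φ.obj with hs | hl
      · left
        haveI : Subsingleton ↑(Φ.obj.presheafFiber.obj O.obj) := hs
        exact isUnit_of_subsingleton _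
      · haveI : IsLocalRing ↑(Φ.obj.presheafFiber.obj O.obj) := hl
        have h0 := IsLocalRing.isUnit_or_isUnit_one_sub_self
          ((Φ.obj.toPresheafFiber U x O.obj).hom f)
        rcases h0 with h1 | h2
        · exact Or.inl h1
        · right
          rw [map_sub, map_one]
          exact h2
    rcases hgerm with hu | hu
    · obtain ⟨Y, g, y, hy, hg⟩ :=
        Groth.Agent.H10.StalkUnit.exists_isUnit_of_isUnit_germ Φ.obj O U x f hu
      exact ⟨⟨Y, g, Or.inl hg⟩, y, hy⟩
    · obtain ⟨Y, g, y, hy, hg⟩ :=
        Groth.Agent.H10.StalkUnit.exists_isUnit_of_isUnit_germ Φ.obj O U x (1 - f) hu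
      exact ⟨⟨Y, g, Or.inr hg⟩, y, hy⟩
  refine ⟨_, hcov, ?_⟩
  intro V g hg
  obtain ⟨W, a, b, ⟨i⟩, rfl⟩ := hg
  have e : ∀ t : O.obj.obj (op U), (O.obj.map (a ≫ i.2.1).op).hom t =
      (O.obj.map a.op).hom ((O.obj.map i.2.1.op).hom t) := by
    intro t
    rw [op_comp, Functor.map_comp]
    rfl
  rcases i.2.2 with hu | hu
  · left
    rw [e f]
    exact hu.map (O.obj.map a.op).hom
  · right
    rw [e (1 - f)]
    exact hu.map (O.obj.map a.op).hom

end Groth.Agent.S9091
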