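import Groth.Statements.S9106
import Mathlib

set_option autoImplicit false
universe u
open CategoryTheory CategoryTheory.Limits
open CohSite

namespace Groth.Agent.S9106

section helpers
open CategoryTheory CategoryTheory.Limits Opposite

namespace PF

/-- pseudo-filtered axioms -/
structure IsPF (𝒥 : Type u) [SmallCategory 𝒥] : Prop where
  span : ∀ ⦃i k k' : 𝒥⦄ (_ : i ⟶ k) (_ : i ⟶ k'), ∃ (l : 𝒥) (_ : k ⟶ l) (_ : k' ⟶ l), True
  par : ∀ ⦃i k : 𝒥⦄ (f g : i ⟶ k), ∃ (l : 𝒥) (h : k ⟶ l), f ≫ h = g ≫ h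

variable {𝒥 : Type u} [SmallCategory 𝒥]

lemma exists_cocone_of_zigzag (h : IsPF 𝒥) {j j' : 𝒥} (z : Zigzag j j') :
    ∃ (k : 𝒥) (_ : j ⟶ k) (_ : j' ⟶ k), True := by
  induction z with
  | refl => exact ⟨j, 𝟙 _, 𝟙 _, trivial⟩
  | tail _ hzag ih =>
    obtain ⟨k, a, b, -⟩ := ih
    rcases hzag with ⟨⟨f⟩⟩ | ⟨⟨f⟩⟩
    · obtain ⟨l, p, q, -⟩ := h.span b f
      exact ⟨l, a ≫ p, q, trivial⟩
    · exact ⟨k, a, f ≫ b, trivial⟩

lemma component_isFiltered (h : IsPF 𝒥) (c : ConnectedComponents 𝒥) :
    IsFiltered c.Component := by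
  haveI : IsFilteredOrEmpty c.Component := by
    constructor
    · rintro ⟨j, hj⟩ ⟨j', hj'⟩
      have z : Zigzag j j' := Quotient.exact' (hj.trans hj'.symm)
      obtain ⟨k, a, b, -⟩ := exists_cocone_of_zigzag h z
      have hk : CategoryTheory.ConnectedComponents.mk k = c := by
        rw [← hj]; exact (Quotient.sound (s := Zigzag.setoid 𝒥) (Zigzag.of_hom a)).symm
      exact ⟨⟨k, hk⟩, ObjectProperty.homMk a, ObjectProperty.homMk b, trivial⟩
    · rintro ⟨j, hj⟩ ⟨j', hj'⟩ f g
      obtain ⟨l, p, hp⟩ := h.par f.hom g.hom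
      have hl : CategoryTheory.ConnectedComponents.mk l = c := by
        rw [← hj']; exact (Quotient.sound (s := Zigzag.setoid 𝒥) (Zigzag.of_hom p)).symm
      exact ⟨⟨l, hl⟩, ObjectProperty.homMk p, ObjectProperty.hom_ext _ hp⟩
  exact { nonempty := inferInstance }

section Decomp

variable (F G : 𝒥 ⥤ AddCommGrpCat.{u})

noncomputable def Φ : (∐ fun c : ConnectedComponents 𝒥 => colimit (c.ι ⋙ F)) ⟶ colimit F :=
  Limits.Sigma.desc (fun c => colimit.pre F c.ι)

noncomputable def leg (c : ConnectedComponents 𝒥) (j : 𝒥) (h : CategoryTheory.ConnectedComponents.mk j = c) :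
    F.obj j ⟶ ∐ fun c : ConnectedComponents 𝒥 => colimit (c.ι ⋙ F) :=
  colimit.ι (c.ι ⋙ F) ⟨j, h⟩ ≫ Limits.Sigma.ι (fun c : ConnectedComponents 𝒥 => colimit (c.ι ⋙ F)) c

lemma leg_eq (c : ConnectedComponents 𝒥) (j : 𝒥) (h : CategoryTheory.ConnectedComponents.mk j = c) :
    leg F c j h = leg F (CategoryTheory.ConnectedComponents.mk j) j rfl := by
  subst h; rfl

lemma leg_nat {j j' : 𝒥} (f : j ⟶ j') :
    F.map f ≫ leg F (CategoryTheory.ConnectedComponents.mk j') j' rfl = leg F (CategoryTheory.ConnectedComponents.mk j) j rfl := by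
  have h : CategoryTheory.ConnectedComponents.mk j = CategoryTheory.ConnectedComponents.mk j' :=
    Quotient.sound (s := Zigzag.setoid 𝒥) (Zigzag.of_hom f)
  rw [← leg_eq F _ j h]
  unfold leg
  rw [← Category.assoc]
  congr 1
  exact colimit.w ((CategoryTheory.ConnectedComponents.mk j').ι ⋙ F)
    (ObjectProperty.homMk f : (⟨j, h⟩ : (CategoryTheory.ConnectedComponents.mk j').Component) ⟶ ⟨j', rfl⟩)

noncomputable def Ψ : colimit F ⟶ ∐ fun c : ConnectedComponents 𝒥 => colimit (c.ι ⋙ F) :=
  colimit.desc F ⟨_, { app := fun j => leg F (CategoryTheory.ConnectedComponents.mk j) j rfl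
                       naturality := fun j j' f => by
                         dsimp
                         rw [Category.comp_id]
                         exact leg_nat F f }⟩

lemma Φ_Ψ : Φ F ≫ Ψ F = 𝟙 _ := by
  apply Limits.Sigma.hom_ext
  intro c
  apply colimit.hom_ext
  rintro ⟨j, h⟩
  rw [Category.comp_id]
  unfold Φ Ψ
  rw [Limits.Sigma.ι_desc_assoc, colimit.ι_pre_assoc, colimit.ι_desc]
  exact (leg_eq F c j h).symm

lemma Ψ_Φ : Ψ F ≫ Φ F = 𝟙 _ := by
  apply colimit.hom_ext
  intro j
  unfold Ψ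
  rw [colimit.ι_desc_assoc, Category.comp_id]
  show leg F (CategoryTheory.ConnectedComponents.mk j) j rfl ≫ Φ F = colimit.ι F j
  unfold leg Φ
  rw [Category.assoc, Limits.Sigma.ι_desc, colimit.ι_pre]
  rfl

variable {F G}

lemma Φ_nat (α : F ⟶ G) : Φ F ≫ colimMap α =
    Limits.Sigma.map (fun c : ConnectedComponents 𝒥 => colimMap (Functor.whiskerLeft c.ι α)) ≫ Φ G := by
  apply Limits.Sigma.hom_ext
  intro c
  apply colimit.hom_ext
  intro x
  simp [Φ]

lemma mono_colimMap (h : IsPF 𝒥) (α : F ⟶ G) [Mono α] : Mono (colimMap α) := by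
  have hα : ∀ j, Mono (α.app j) := fun j => inferInstance
  have h1 : ∀ c : ConnectedComponents 𝒥, Mono (colimMap (Functor.whiskerLeft c.ι α)) := by
    intro c
    haveI := component_isFiltered h c
    haveI : Mono (Functor.whiskerLeft c.ι α) := by
      haveI : ∀ x, Mono ((Functor.whiskerLeft c.ι α).app x) := fun x => hα _
      exact NatTrans.mono_of_mono_app _
    exact (inferInstance : Mono ((colim : (c.Component ⥤ AddCommGrpCat.{u}) ⥤ _).map
      (Functor.whiskerLeft c.ι α)))
  have h2 : Mono (Limits.Sigma.map (fun c : ConnectedComponents 𝒥 =>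
      colimMap (Functor.whiskerLeft c.ι α))) := by
    let τ : Discrete.functor (fun c : ConnectedComponents 𝒥 => colimit (c.ι ⋙ F)) ⟶
        Discrete.functor (fun c : ConnectedComponents 𝒥 => colimit (c.ι ⋙ G)) :=
      Discrete.natTrans (fun X => colimMap (Functor.whiskerLeft X.as.ι α))
    haveI : ∀ X, Mono (τ.app X) := fun X => h1 X.as
    haveI : Mono τ := NatTrans.mono_of_mono_app _
    exact (inferInstance : Mono ((colim : (Discrete (ConnectedComponents 𝒥) ⥤
      AddCommGrpCat.{u}) ⥤ _).map τ))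
  haveI : IsIso (Φ F) := ⟨Ψ F, Φ_Ψ F, Ψ_Φ F⟩
  haveI : IsIso (Φ G) := ⟨Ψ G, Φ_Ψ G, Ψ_Φ G⟩
  have e : colimMap α = inv (Φ F) ≫ Limits.Sigma.map (fun c : ConnectedComponents 𝒥 =>
      colimMap (Functor.whiskerLeft c.ι α)) ≫ Φ G := by
    rw [← Φ_nat, IsIso.inv_hom_id_assoc]
  rw [e]
  haveI := h2
  infer_instance

end Decomp

theorem colim_preservesFiniteLimits (h : IsPF 𝒥) :
    PreservesFiniteLimits (colim : (𝒥 ⥤ AddCommGrpCat.{u}) ⥤ AddCommGrpCat.{u}) := by
  rw [Functor.preservesFiniteLimits_iff_forall_exact_map_and_mono]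
  intro S hS
  have h1 := (Functor.preservesFiniteColimits_iff_forall_exact_map_and_epi
    (colim : (𝒥 ⥤ AddCommGrpCat.{u}) ⥤ AddCommGrpCat.{u})).1 inferInstance S hS
  haveI := hS.mono_f
  exact ⟨h1.1, mono_colimMap h S.f⟩

lemma isPF_op (𝒦 : Type u) [SmallCategory 𝒦] [HasPullbacks 𝒦] [HasEqualizers 𝒦] : IsPF 𝒦ᵒᵖ where
  span := fun i k k' f g => ⟨op (pullback f.unop g.unop), (pullback.fst f.unop g.unop).op,
    (pullback.snd f.unop g.unop).op, trivial⟩
  par := fun i k f g => ⟨op (equalizer f.unop g.unop), (equalizer.ι f.unop g.unop).op, by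
    apply Quiver.Hom.unop_inj
    simp only [unop_comp, Quiver.Hom.unop_op]
    exact equalizer.condition f.unop g.unop⟩

theorem lan_exact {C D : Type u} [SmallCategory C] [SmallCategory D] (u' : C ⥤ D)
    [HasPullbacks C] [HasEqualizers C]
    [PreservesLimitsOfShape WalkingCospan u'] [PreservesLimitsOfShape WalkingParallelPair u'] :
    PreservesFiniteLimits (u'.op.lan :
      (Cᵒᵖ ⥤ AddCommGrpCat.{u}) ⥤ (Dᵒᵖ ⥤ AddCommGrpCat.{u})) := by
  constructor
  intro K _ _
  apply preservesLimitsOfShape_of_evaluation _ K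
  intro V
  induction V using Opposite.rec with
  | op V =>
  haveI : HasExactColimitsOfShape (StructuredArrow V u')ᵒᵖ AddCommGrpCat.{u} :=
    ⟨colim_preservesFiniteLimits (isPF_op _)⟩
  haveI : PreservesFiniteLimits (colim : (CostructuredArrow u'.op (op V) ⥤ AddCommGrpCat.{u}) ⥤ _) :=
    (HasExactColimitsOfShape.of_domain_equivalence AddCommGrpCat.{u}
      (structuredArrowOpEquivalence u' V)).preservesFiniteLimits
  haveI : PreservesLimitsOfShape K ((Functor.whiskeringLeft _ _ AddCommGrpCat.{u}).obj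
      (CostructuredArrow.proj u'.op (op V)) ⋙ colim) := inferInstance
  exact preservesLimitsOfShape_of_natIso (lanEvaluationIsoColim _ _ _).symm

theorem main {C D : Type u} [SmallCategory C] [SmallCategory D]
    (J : GrothendieckTopology C) (K : GrothendieckTopology D) (u' : C ⥤ D)
    [u'.IsContinuous J K] [HasPullbacks C] [HasEqualizers C]
    [PreservesLimitsOfShape WalkingCospan u'] [PreservesLimitsOfShape WalkingParallelPair u'] :
    PreservesFiniteLimits (u'.sheafPullback AddCommGrpCat.{u} J K) := by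
  haveI := lan_exact u'
  have h1 : PreservesFiniteLimits (Functor.sheafPullbackConstruction.sheafPullback u'
      AddCommGrpCat.{u} J K) := by
    unfold Functor.sheafPullbackConstruction.sheafPullback
    have : PreservesFiniteLimits (u'.op.lan ⋙ presheafToSheaf K AddCommGrpCat.{u}) :=
      comp_preservesFiniteLimits _ _
    apply comp_preservesFiniteLimits
  exact preservesFiniteLimits_of_natIso
    (Functor.sheafPullbackConstruction.sheafPullbackIso u' AddCommGrpCat.{u} J K).symm

end PF


end helpers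

/-- Let u : C ⥤ D be a functor between small sites which is cocontinuous and continuous, and assume that
C has fibre products and equalizers and that u commutes with them. Let g be the morphism of topoi
attached to u. Then g_! on abelian sheaves, i.e. the left adjoint of restriction along u (left Kan
extension along u followed by sheafification), is exact: being a left adjoint it is right exact, and
it moreover preserves finite limits. -/
theorem result {C D : Type u} [SmallCategory C] [SmallCategory D]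
    (J : GrothendieckTopology C) (K : GrothendieckTopology D) (u : C ⥤ D)
    [u.IsCocontinuous J K] [u.IsContinuous J K] [HasPullbacks C] [HasEqualizers C]
    [PreservesLimitsOfShape WalkingCospan u] [PreservesLimitsOfShape WalkingParallelPair u] :
    PreservesFiniteLimits (u.sheafPullback AddCommGrpCat.{u} J K) := by
  exact Groth.Agent.S9106.PF.main J K u

end Groth.Agent.S9106
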