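import Mathlib
import Groth.Statements.S9109
-- import your own Groth.Agent.* helpers here

set_option autoImplicit false
universe u
open CategoryTheory CategoryTheory.Limits
open CohSite

namespace Groth.Agent.S9109


theorem epi_pi_map_const {α : Type u} {M N : AddCommGrpCat.{u}} (f : M ⟶ N) [Epi f] :
    Epi (Limits.Pi.map (fun (_ : α) => f)) := by
  have : HasExactLimitsOfShape (Discrete α) AddCommGrpCat.{u} := AB4StarOfSize.ofShape α
  have : (lim : (Discrete α ⥤ AddCommGrpCat.{u}) ⥤ AddCommGrpCat.{u}).PreservesEpimorphisms :=
    preservesEpimorphisms_of_preservesColimitsOfShape _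
  have : Epi (Discrete.natTrans (F := Discrete.functor fun (_ : α) => M)
      (G := Discrete.functor fun (_ : α) => N) (fun _ => f)) := by
    have : ∀ X : Discrete α, Epi ((Discrete.natTrans (F := Discrete.functor fun (_ : α) => M)
        (G := Discrete.functor fun (_ : α) => N) (fun _ => f)).app X) := by
      intro X
      simp only [Discrete.natTrans_app]
      infer_instance
    apply NatTrans.epi_of_epi_app
  exact inferInstanceAs (Epi (lim.map (Discrete.natTrans (F := Discrete.functor fun (_ : α) => M)
      (G := Discrete.functor fun (_ : α) => N) (fun _ => f))))


/-- Part (1): on a small site (C, J) with a point p: the skyscraper functor p_* from abelian groups to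
abelian sheaves on C (right adjoint to the stalk functor at p; its value on A is the sheaf U ↦ ∏_{x
∈ p⁻¹U} A) is exact. As a right adjoint it preserves limits; the statement here is that it also
preserves finite colimits. -/
theorem result {C : Type u} [SmallCategory C] {J : GrothendieckTopology C}
    (p : GrothendieckTopology.Point.{u} J) :
    PreservesFiniteColimits (p.skyscraperSheafFunctor (A := AddCommGrpCat.{u})) := by
  have : (p.skyscraperSheafFunctor (A := AddCommGrpCat.{u})).Additive :=
    Functor.additive_of_preserves_binary_products _
  have : (p.skyscraperSheafFunctor (A := AddCommGrpCat.{u})).PreservesEpimorphisms := by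
    constructor
    intro M N f hf
    apply (sheafToPresheaf J AddCommGrpCat.{u}).epi_of_epi_map
    show Epi (p.skyscraperPresheafFunctor.map f)
    have : ∀ U, Epi ((p.skyscraperPresheafFunctor.map f).app U) := by
      intro U
      simp only [GrothendieckTopology.Point.skyscraperPresheafFunctor_map_app]
      exact epi_pi_map_const f
    apply NatTrans.epi_of_epi_app
  have := Functor.preservesHomology_of_preservesEpis_and_kernels
    (p.skyscraperSheafFunctor (A := AddCommGrpCat.{u}))
  exact Functor.preservesFiniteColimits_of_preservesHomology _

end Groth.Agent.S9109
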