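import Groth.Statements.S9112
import Groth.Agent.H10.SheafModGA
import Mathlib

set_option autoImplicit false
universe u
open CategoryTheory
open ModSite

namespace Groth.Agent.S9112

/-- Part (1): on a small ringed site (C, O) with O commutative, for a point p of the site: the stalk
functor F ↦ F_p from O-modules to O_p-modules is exact. Stated on a short exact sequence 0 → F₁ → F₂
→ F₃ → 0 of O-modules: the induced O_p-linear map F₁,p → F₂,p is injective, F₂,p → F₃,p is
surjective, and the range of the first is the kernel of the second. -/
theorem result {C : Type u} [SmallCategory C] {J : GrothendieckTopology C}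
    (O : Sheaf J CommRingCat.{u}) (S : ShortComplex (ModSite.Mod O)) (hS : S.ShortExact)
    (p : GrothendieckTopology.Point.{u} J) :
    Function.Injective (ModSite.stalkMap p S.f).hom ∧ Function.Surjective (ModSite.stalkMap p S.g).hom ∧
      LinearMap.range (ModSite.stalkMap p S.f).hom = LinearMap.ker (ModSite.stalkMap p S.g).hom := by
  haveI : Limits.PreservesColimitsOfSize.{u, u} (SheafOfModules.toSheaf.{u} (ModSite.ringSh O)) :=
    ⟨fun {K} _ => Groth.Agent.H10.SheafModGA.toSheaf_preservesColimitsOfShape _ K⟩
  haveI : Limits.PreservesFiniteColimits (SheafOfModules.toSheaf.{u} (ModSite.ringSh O)) :=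
    Limits.PreservesColimitsOfSize.preservesFiniteColimits _
  let G : ModSite.Mod O ⥤ AddCommGrpCat.{u} :=
    SheafOfModules.toSheaf (ModSite.ringSh O) ⋙ p.sheafFiber
  haveI : Limits.PreservesFiniteLimits G := inferInstance
  haveI : Limits.PreservesFiniteColimits G := inferInstance
  haveI : G.Additive := by
    haveI : Limits.PreservesBinaryBiproducts G :=
      Limits.preservesBinaryBiproducts_of_preservesBinaryCoproducts _
    exact Functor.additive_of_preservesBinaryBiproducts _
  have hG : (S.map G).ShortExact := hS.map_of_exact G
  have hinj : Function.Injective (G.map S.f).hom :=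
    (AddCommGrpCat.mono_iff_injective _).mp hG.mono_f
  have hsurj : Function.Surjective (G.map S.g).hom :=
    (AddCommGrpCat.epi_iff_surjective _).mp hG.epi_g
  have hex := (ShortComplex.ab_exact_iff _).mp hG.exact
  have hzero : ∀ y, (G.map S.g).hom ((G.map S.f).hom y) = 0 := by
    intro y
    have h := ConcreteCategory.congr_hom (S.map G).zero y
    exact h
  refine ⟨hinj, hsurj, ?_⟩
  ext x
  rw [LinearMap.mem_range, LinearMap.mem_ker]
  constructor
  · rintro ⟨y, rfl⟩
    exact hzero y
  · intro hx
    exact hex x hx

end Groth.Agent.S9112
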