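import Mathlib
import Groth.Statements.S9121
-- import your own Groth.Agent.* helpers here

set_option autoImplicit false
universe u
open CategoryTheory CategoryTheory.Limits
open CohSite

namespace Groth.Agent.S9121


/-- Part (1): for the morphism of topoi f : Sh(C) → Sh(D) attached to a continuous functor u : D ⥤ C
between small sites whose induced pullback of sheaves of sets is exact (f_* is restriction along u):
if f_* transforms epimorphisms of sheaves of sets into epimorphisms, then f_* on abelian sheaves is
exact; being a right adjoint it preserves finite limits, and the statement is that it also preserves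
finite colimits. -/
theorem result {C D : Type u} [SmallCategory C] [SmallCategory D]
    (J : GrothendieckTopology C) (K : GrothendieckTopology D) (u : D ⥤ C) [u.IsContinuous K J]
    [PreservesFiniteLimits (u.sheafPullback (Type u) K J)]
    [(u.sheafPushforwardContinuous (Type u) K J).PreservesEpimorphisms] :
    PreservesFiniteColimits (u.sheafPushforwardContinuous AddCommGrpCat.{u} K J) := by
  have : (u.sheafPushforwardContinuous AddCommGrpCat.{u} K J).Additive :=
    Functor.additive_of_preserves_binary_products _
  have : (u.sheafPushforwardContinuous AddCommGrpCat.{u} K J).PreservesEpimorphisms := by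
    constructor
    intro F₁ F₂ φ hφ
    rw [← Sheaf.isLocallySurjective_iff_epi'] at hφ ⊢
    have h1 : Sheaf.IsLocallySurjective ((sheafCompose J (forget AddCommGrpCat.{u})).map φ) :=
      inferInstance
    have h2 : Epi ((sheafCompose J (forget AddCommGrpCat.{u})).map φ) := inferInstance
    have h3 : Epi ((u.sheafPushforwardContinuous (Type u) K J).map
        ((sheafCompose J (forget AddCommGrpCat.{u})).map φ)) := inferInstance
    have h4 : Sheaf.IsLocallySurjective ((u.sheafPushforwardContinuous (Type u) K J).map
        ((sheafCompose J (forget AddCommGrpCat.{u})).map φ)) :=
      (Sheaf.isLocallySurjective_iff_epi _).mpr h3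
    show Presheaf.IsLocallySurjective K
      ((u.sheafPushforwardContinuous AddCommGrpCat.{u} K J).map φ).hom
    rw [Presheaf.isLocallySurjective_iff_whisker_forget]
    exact h4
  have := Functor.preservesHomology_of_preservesEpis_and_kernels
    (u.sheafPushforwardContinuous AddCommGrpCat.{u} K J)
  exact Functor.preservesFiniteColimits_of_preservesHomology _

end Groth.Agent.S9121
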