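import Groth.Statements.S9124
import Groth.Agent.Lib.Helper9.Catenary
import Mathlib

set_option autoImplicit false
universe u
open CAlg

namespace Groth.Agent.S9124

open Groth.Agent.Helper9

/-- A localization of a catenary ring is catenary. -/
theorem result (A : Type u) [CommRing A] (S : Submonoid A)
    (B : Type u) [CommRing B] [Algebra A B] [IsLocalization S B]
    (hA : CAlg.IsCatenary A) : CAlg.IsCatenary B := by
  rw [isCatenary_iff_ordCat] at hA ⊢
  refine OrdCat.of_embedding (PrimeSpectrum.comap (algebraMap A B)) ?_ ?_ hA
  · intro x x'
    change x.asIdeal.comap _ ≤ x'.asIdeal.comap _ ↔ x ≤ x'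
    rw [← PrimeSpectrum.asIdeal_le_asIdeal]
    exact (IsLocalization.orderEmbedding S B).map_rel_iff
  · intro x x' y _ hy
    have : y ∈ Set.range (PrimeSpectrum.comap (algebraMap A B)) := by
      rw [PrimeSpectrum.localization_comap_range B S]
      have hx' : PrimeSpectrum.comap (algebraMap A B) x' ∈
          Set.range (PrimeSpectrum.comap (algebraMap A B)) := ⟨x', rfl⟩
      rw [PrimeSpectrum.localization_comap_range B S] at hx'
      exact Set.disjoint_of_subset_right hy hx'
    exact this

end Groth.Agent.S9124
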