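import Groth.Statements.S9125
import Groth.Agent.Lib.Helper9.Catenary
import Mathlib

set_option autoImplicit false
universe u
open CAlg

namespace Groth.Agent.S9125

open Groth.Agent.Helper9

theorem comap_mk_le_iff {A : Type u} [CommRing A] (I : Ideal A) (x x' : PrimeSpectrum (A ⧸ I)) :
    PrimeSpectrum.comap (Ideal.Quotient.mk I) x ≤ PrimeSpectrum.comap (Ideal.Quotient.mk I) x' ↔
      x ≤ x' := by
  change x.asIdeal.comap _ ≤ x'.asIdeal.comap _ ↔ x ≤ x'
  rw [Ideal.comap_le_comap_iff_of_surjective _ Ideal.Quotient.mk_surjective]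
  exact PrimeSpectrum.asIdeal_le_asIdeal x x'

theorem exists_comap_mk_eq {A : Type u} [CommRing A] (I : Ideal A) (y : PrimeSpectrum A)
    (hy : I ≤ y.asIdeal) : ∃ z, PrimeSpectrum.comap (Ideal.Quotient.mk I) z = y := by
  have : y ∈ Set.range (PrimeSpectrum.comap (Ideal.Quotient.mk I)) := by
    rw [range_comap_of_surjective _ _ Ideal.Quotient.mk_surjective,
      Ideal.mk_ker]
    exact hy
  exact this

/-- A quotient of a catenary ring is catenary. -/
theorem result (A : Type u) [CommRing A] (I : Ideal A)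
    (hA : CAlg.IsCatenary A) : CAlg.IsCatenary (A ⧸ I) := by
  rw [isCatenary_iff_ordCat] at hA ⊢
  refine OrdCat.of_embedding (PrimeSpectrum.comap (Ideal.Quotient.mk I)) (comap_mk_le_iff I) ?_ hA
  intro x x' y hxy _
  apply exists_comap_mk_eq
  refine le_trans ?_ hxy
  intro a ha
  change Ideal.Quotient.mk I a ∈ x.asIdeal
  rw [Ideal.Quotient.eq_zero_iff_mem.2 ha]
  exact Ideal.zero_mem _

end Groth.Agent.S9125
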