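import Mathlib
import Groth.Statements.S9126
import Groth.Agent.S9124
-- import your own Groth.Agent.* helpers here

set_option autoImplicit false
universe u
open CAlg

namespace Groth.Agent.S9126


/-- An algebra essentially of finite type over a Noetherian universally catenary ring is universally
catenary. -/
theorem result (A : Type u) [CommRing A] (B : Type u) [CommRing B]
    [Algebra A B] [Algebra.EssFiniteType A B]
    (hA : CAlg.IsUniversallyCatenary A) : CAlg.IsUniversallyCatenary B := by
  obtain ⟨hN, hcat⟩ := hA
  refine ⟨Algebra.EssFiniteType.isNoetherianRing A B, ?_⟩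
  intro D _ _ hD
  letI : Algebra A D := ((algebraMap B D).comp (algebraMap A B)).toAlgebra
  haveI : IsScalarTower A B D := IsScalarTower.of_algebraMap_eq fun _ => rfl
  haveI : Algebra.EssFiniteType B D := inferInstance
  haveI : Algebra.EssFiniteType A D := Algebra.EssFiniteType.comp A B D
  have h1 : CAlg.IsCatenary (Algebra.EssFiniteType.subalgebra A D) :=
    hcat _ inferInstance
  exact Groth.Agent.S9124.result _ (Algebra.EssFiniteType.submonoid A D) D h1

end Groth.Agent.S9126
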