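import Groth.Statements.S9127
import Groth.Agent.Lib.Helper9.Catenary
import Groth.Agent.S9125
import Mathlib

set_option autoImplicit false
universe u
open CAlg

namespace Groth.Agent.S9127

open Groth.Agent.Helper9

/-- A Noetherian ring is catenary if and only if its quotient by every minimal prime is catenary. -/
theorem result (R : Type u) [CommRing R] [IsNoetherianRing R] :
    CAlg.IsCatenary R ↔ ∀ p ∈ minimalPrimes R, CAlg.IsCatenary (R ⧸ p) := by
  constructor
  · intro h p _
    exact Groth.Agent.S9125.result R p h
  · intro h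
    rw [isCatenary_iff_ordCat]
    apply OrdCat.of_cover.{u}
    intro P
    obtain ⟨p, hp, hpP⟩ := Ideal.exists_minimalPrimes_le (bot_le : (⊥ : Ideal R) ≤ P.asIdeal)
    refine ⟨PrimeSpectrum (R ⧸ p), inferInstance, PrimeSpectrum.comap (Ideal.Quotient.mk p),
      Groth.Agent.S9125.comap_mk_le_iff p, ?_, (isCatenary_iff_ordCat _).1 (h p hp)⟩
    intro y hy
    exact Groth.Agent.S9125.exists_comap_mk_eq p y (hpP.trans hy)

end Groth.Agent.S9127
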