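import Groth.Statements.S9133
import Mathlib
import Groth.Agent.Lib.Helper12.KrullAkizuki

set_option autoImplicit false
universe u
open CAlg

namespace Groth.Agent.S9133


open Groth.Agent.Helper12.KA in
/-- Common core: for `J` an ideal of `S` containing the image of a nonzero `r`, the quotient `S/J` is
a finite `R`-module and an Artinian ring. -/
lemma core (R S K L : Type u)
    [CommRing R] [IsDomain R] [IsNoetherianRing R] (hdim : ringKrullDim R = 1)
    [CommRing S] [IsDomain S] [Algebra R S] [Field K] [Field L] [Algebra R K] [IsFractionRing R K]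
    [Algebra S L] [IsFractionRing S L] [Algebra K L] [Algebra R L] [IsScalarTower R K L]
    [IsScalarTower R S L] [FiniteDimensional K L] (r : R) (hr0 : r ≠ 0) (J : Ideal S)
    (hrJ : algebraMap R S r ∈ J) : Module.Finite R (S ⧸ J) ∧ IsArtinianRing (S ⧸ J) := by
  have hι : Function.Injective (IsScalarTower.toAlgHom R S L).toLinearMap :=
    IsFractionRing.injective S L
  haveI hN : IsNoetherian R (S ⧸ aN S r 1) :=
    isNoetherian_quot R hdim K L S (IsScalarTower.toAlgHom R S L).toLinearMap hι r hr0
  have hlen : Module.length R (S ⧸ aN S r 1) ≠ ⊤ :=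
    length_ne_top_of_smul_eq_zero hdim (S ⧸ aN S r 1) r hr0 (smul_aN_quot_eq_zero r)
  haveI hArt : IsArtinian R (S ⧸ aN S r 1) :=
    ((isFiniteLength_iff_isNoetherian_isArtinian).1 (Module.length_ne_top_iff.1 hlen)).2
  have hle : aN S r 1 ≤ LinearMap.ker (Ideal.Quotient.mkₐ R J).toLinearMap := by
    intro x hx
    obtain ⟨y, rfl⟩ := mem_aN.mp hx
    rw [LinearMap.mem_ker, pow_one]
    show Ideal.Quotient.mk J (r • y) = 0
    rw [Ideal.Quotient.eq_zero_iff_mem, Algebra.smul_def]
    exact J.mul_mem_right _ hrJ
  let g : (S ⧸ aN S r 1) →ₗ[R] (S ⧸ J) :=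
    Submodule.liftQ (aN S r 1) (Ideal.Quotient.mkₐ R J).toLinearMap hle
  have hg : Function.Surjective g := by
    intro q
    obtain ⟨s, rfl⟩ := Ideal.Quotient.mk_surjective q
    exact ⟨Submodule.Quotient.mk s, rfl⟩
  refine ⟨Module.Finite.of_surjective g hg, ?_⟩
  haveI : IsArtinian R (S ⧸ J) := isArtinian_of_surjective (S ⧸ aN S r 1) g hg
  exact isArtinian_of_tower R (inferInstance : IsArtinian R (S ⧸ J))

/-- Let R → S be a homomorphism of domains compatible with field maps K → L of their fraction fields (so
R → S is injective), where R is Noetherian local of dimension one and L is finite over K. Then each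
prime n of S whose contraction to R is the maximal ideal of R is a maximal ideal of S, only finitely
many such n exist, and each quotient S/n is a finite R-module (its residue field is a finite
extension of that of R). -/
theorem result (R S K L : Type u)
    [CommRing R] [IsDomain R] [IsNoetherianRing R] [IsLocalRing R] (hdim : ringKrullDim R = 1)
    [CommRing S] [IsDomain S] [Algebra R S] [Field K] [Field L] [Algebra R K] [IsFractionRing R K]
    [Algebra S L] [IsFractionRing S L] [Algebra K L] [Algebra R L] [IsScalarTower R K L]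
    [IsScalarTower R S L] [FiniteDimensional K L] :
    (∀ n ∈ (IsLocalRing.maximalIdeal R).primesOver S, n.IsMaximal) ∧
      ((IsLocalRing.maximalIdeal R).primesOver S).Finite ∧
      ∀ n ∈ (IsLocalRing.maximalIdeal R).primesOver S, Module.Finite R (S ⧸ n) := by
  have hmne : IsLocalRing.maximalIdeal R ≠ ⊥ := by
    intro h
    have hf : IsField R := IsLocalRing.isField_iff_maximalIdeal_eq.2 h
    have h0 : ringKrullDim R = 0 := ringKrullDim_eq_zero_of_isField hf
    rw [hdim] at h0
    exact one_ne_zero h0
  obtain ⟨r, hrm, hr0⟩ := Submodule.exists_mem_ne_zero_of_ne_bot hmne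
  have hmem : ∀ n ∈ (IsLocalRing.maximalIdeal R).primesOver S, algebraMap R S r ∈ n := by
    intro n hn
    have hov := hn.2.over
    have : r ∈ n.under R := hov ▸ hrm
    exact this
  refine ⟨?_, ?_, ?_⟩
  · intro n hn
    haveI := hn.1
    obtain ⟨-, hA⟩ := core R S K L hdim r hr0 n (hmem n hn)
    haveI := hA
    exact Ideal.Quotient.maximal_of_isField n (IsArtinianRing.isField_of_isDomain (S ⧸ n))
  · obtain ⟨-, hA⟩ := core R S K L hdim r hr0 (Ideal.span {algebraMap R S r})
      (Ideal.mem_span_singleton_self _)
    haveI := hA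
    let f : PrimeSpectrum (S ⧸ Ideal.span {algebraMap R S r}) → Ideal S :=
      fun P => P.asIdeal.comap (Ideal.Quotient.mk _)
    refine Set.Finite.subset (Set.finite_range f) ?_
    intro n hn
    haveI := hn.1
    have hle : Ideal.span {algebraMap R S r} ≤ n :=
      (Ideal.span_singleton_le_iff_mem n).2 (hmem n hn)
    have hprime : (n.map (Ideal.Quotient.mk (Ideal.span {algebraMap R S r}))).IsPrime :=
      Ideal.map_isPrime_of_surjective Ideal.Quotient.mk_surjective (by rw [Ideal.mk_ker]; exact hle)
    exact ⟨⟨_, hprime⟩, Ideal.comap_map_mk hle⟩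
  · intro n hn
    exact (core R S K L hdim r hr0 n (hmem n hn)).1

end Groth.Agent.S9133
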