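import Groth.Statements.S9130
import Groth.Agent.S9133

set_option autoImplicit false
universe u
open CAlg

namespace Groth.Agent.S9130


/-- Krull–Akizuki consequence: over a one-dimensional Noetherian domain `R`, for an algebraic,
essentially finite type extension of domains `R ⊆ S`, every quotient of `S` by an ideal meeting `R`
nontrivially is Artinian. -/
lemma key (R S : Type u) [CommRing R] [IsDomain R] [IsNoetherianRing R]
    (hdim : ringKrullDim R = 1) [CommRing S] [IsDomain S] [Algebra R S] [FaithfulSMul R S]
    [Algebra.IsAlgebraic R S] [Algebra.EssFiniteType R S] (r : R) (hr0 : r ≠ 0) (J : Ideal S)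
    (hrJ : algebraMap R S r ∈ J) : IsArtinianRing (S ⧸ J) := by
  letI : Algebra (FractionRing R) (FractionRing S) := FractionRing.liftAlgebra R _
  haveI : IsScalarTower R (FractionRing R) (FractionRing S) :=
    FractionRing.isScalarTower_liftAlgebra R _
  haveI : Module.IsTorsionFree R S := Module.isTorsionFree_iff_faithfulSMul.mpr inferInstance
  haveI : Module.IsTorsionFree R (FractionRing S) := .trans_faithfulSMul R S _
  haveI halg : Algebra.IsAlgebraic (FractionRing R) (FractionRing S) := by
    have := (IsFractionRing.isAlgebraic_iff' R S (FractionRing S)).1 inferInstance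
    exact ⟨fun _ ↦ (IsFractionRing.isAlgebraic_iff R (FractionRing R) (FractionRing S)).1
      (Algebra.IsAlgebraic.isAlgebraic _)⟩
  haveI : Algebra.EssFiniteType (FractionRing R) (FractionRing S) :=
    Algebra.EssFiniteType.of_comp R (FractionRing R) (FractionRing S)
  haveI : FiniteDimensional (FractionRing R) (FractionRing S) := by
    obtain ⟨t, ht, htop⟩ := IntermediateField.fg_def.mp
      (IntermediateField.fg_top (FractionRing R) (FractionRing S))
    haveI : Finite t := ht.to_subtype
    have h1 := IntermediateField.finiteDimensional_adjoin (K := FractionRing R) (S := t)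
      (fun x _ => (Algebra.IsAlgebraic.isAlgebraic x).isIntegral)
    rw [htop] at h1
    exact Module.Finite.equiv (IntermediateField.topEquiv (F := FractionRing R)
      (E := FractionRing S)).toLinearEquiv
  exact (Groth.Agent.S9133.core R S (FractionRing R) (FractionRing S) hdim r hr0 J hrJ).2

/-- Let A ⊆ B be domains with B of finite type over A and A Noetherian, and assume every element of B is
algebraic over A. For a height-one prime p of A, only finitely many primes of B lie over p and each
of them has height one. (The published statement assumes that Frac(B) is finite over Frac(A); this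
row assumes B algebraic over A, which is equivalent for a finite type extension of domains.) -/
theorem result (A B : Type u) [CommRing A] [IsDomain A]
    [IsNoetherianRing A] [CommRing B] [IsDomain B] [Algebra A B] [FaithfulSMul A B]
    [Algebra.FiniteType A B] [Algebra.IsAlgebraic A B] (p : Ideal A) [p.IsPrime]
    (hp : p.height = 1) :
    (p.primesOver B).Finite ∧ ∀ q ∈ p.primesOver B, q.height = 1 := by
  classical
  have hinjAB : Function.Injective (algebraMap A B) := FaithfulSMul.algebraMap_injective A B
  have hpne : p ≠ ⊥ := Ideal.ne_bot_of_height_eq_one hp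
  obtain ⟨r, hrp, hr0⟩ := Submodule.exists_mem_ne_zero_of_ne_bot hpne
  let M : Submonoid B := Algebra.algebraMapSubmonoid B p.primeCompl
  have hM : M ≤ nonZeroDivisors B := by
    rintro _ ⟨a, ha, rfl⟩
    apply mem_nonZeroDivisors_of_ne_zero
    intro h0
    have h1 : a = 0 := hinjAB (by rw [h0, map_zero])
    exact ha (h1 ▸ p.zero_mem)
  haveI : IsDomain (Localization M) := IsLocalization.isDomain_localization hM
  haveI : IsNoetherianRing (Localization.AtPrime p) :=
    IsLocalization.isNoetherianRing p.primeCompl _ inferInstance
  have hinjAp : Function.Injective (algebraMap A (Localization.AtPrime p)) :=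
    IsLocalization.injective _ p.primeCompl_le_nonZeroDivisors
  have hinj : Function.Injective (algebraMap (Localization.AtPrime p) (Localization M)) :=
    localizationAlgebra_injective (M := p.primeCompl) (Rₘ := Localization.AtPrime p)
      (Sₘ := Localization M) hinjAB
  haveI : FaithfulSMul (Localization.AtPrime p) (Localization M) :=
    (faithfulSMul_iff_algebraMap_injective _ _).mpr hinj
  have hdim : ringKrullDim (Localization.AtPrime p) = 1 := by
    rw [IsLocalization.AtPrime.ringKrullDim_eq_height p, hp]; rfl
  haveI : Algebra.IsAlgebraic B (Localization M) := IsLocalization.isAlgebraic _ M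
  haveI : Algebra.IsAlgebraic A (Localization M) := Algebra.IsAlgebraic.trans A B _
  haveI : Algebra.IsAlgebraic (Localization.AtPrime p) (Localization M) :=
    Algebra.IsAlgebraic.extendScalars (R := A) hinjAp
  haveI : Algebra.EssFiniteType (Localization.AtPrime p) (Localization M) :=
    Algebra.EssFiniteType.of_comp A _ _
  obtain ⟨r', hr'⟩ : ∃ r' : Localization.AtPrime p, r' = algebraMap A _ r := ⟨_, rfl⟩
  have hr'0 : r' ≠ 0 := by
    rw [hr']; exact (map_ne_zero_iff _ hinjAp).mpr hr0
  have hArt : ∀ J : Ideal (Localization M),
      algebraMap (Localization.AtPrime p) (Localization M) r' ∈ J →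
        IsArtinianRing (Localization M ⧸ J) :=
    fun J hJ => key _ _ hdim r' hr'0 J hJ
  have hr'eq : algebraMap (Localization.AtPrime p) (Localization M) r' =
      algebraMap B (Localization M) (algebraMap A B r) := by
    rw [hr', ← IsScalarTower.algebraMap_apply, ← IsScalarTower.algebraMap_apply]
  have hmem : ∀ q ∈ p.primesOver B,
      algebraMap (Localization.AtPrime p) (Localization M) r' ∈
        q.map (algebraMap B (Localization M)) := by
    intro q hq
    rw [hr'eq]
    apply Ideal.mem_map_of_mem
    have h1 : r ∈ q.under A := by rw [← hq.2.over]; exact hrp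
    exact h1
  have hmax : ∀ q ∈ p.primesOver B, (q.map (algebraMap B (Localization M))).IsMaximal ∧
      (q.map (algebraMap B (Localization M))).under B = q := by
    intro q hq
    haveI := hq.1
    have hdisj : Disjoint (M : Set B) (q : Set B) := by
      rw [Set.disjoint_left]
      rintro _ ⟨a, ha, rfl⟩ haq
      apply ha
      have h1 : a ∈ q.under A := haq
      rwa [← hq.2.over] at h1
    haveI hprime := IsLocalization.isPrime_of_isPrime_disjoint M (Localization M) q hq.1 hdisj
    have hunder := IsLocalization.under_map_of_isPrime_disjoint M (Localization M) hq.1 hdisj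
    refine ⟨?_, hunder⟩
    haveI := hArt _ (hmem q hq)
    exact Ideal.Quotient.maximal_of_isField _ (IsArtinianRing.isField_of_isDomain _)
  refine ⟨?_, ?_⟩
  · have hmemr : algebraMap (Localization.AtPrime p) (Localization M) r' ∈
        Ideal.span {algebraMap (Localization.AtPrime p) (Localization M) r'} :=
      Ideal.mem_span_singleton_self _
    haveI := hArt _ hmemr
    let f : PrimeSpectrum (Localization M ⧸
        Ideal.span {algebraMap (Localization.AtPrime p) (Localization M) r'}) → Ideal B :=
      fun P => (P.asIdeal.comap (Ideal.Quotient.mk _)).under B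
    refine Set.Finite.subset (Set.finite_range f) ?_
    intro q hq
    obtain ⟨hmaxq, hunder⟩ := hmax q hq
    have hle : Ideal.span {algebraMap (Localization.AtPrime p) (Localization M) r'} ≤
        q.map (algebraMap B (Localization M)) :=
      (Ideal.span_singleton_le_iff_mem _).2 (hmem q hq)
    have hprime : ((q.map (algebraMap B (Localization M))).map (Ideal.Quotient.mk
        (Ideal.span {algebraMap (Localization.AtPrime p) (Localization M) r'}))).IsPrime :=
      haveI := hmaxq.isPrime
      Ideal.map_isPrime_of_surjective Ideal.Quotient.mk_surjective (by rw [Ideal.mk_ker]; exact hle)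
    refine ⟨⟨_, hprime⟩, ?_⟩
    show (((q.map (algebraMap B (Localization M))).map (Ideal.Quotient.mk _)).comap
      (Ideal.Quotient.mk _)).under B = q
    rw [Ideal.comap_map_mk hle]
    exact hunder
  · intro q hq
    haveI := hq.1
    obtain ⟨hmaxq, hunder⟩ := hmax q hq
    apply le_antisymm
    · have h1 : q.height ≤ ((1 : ℕ) : ℕ∞) := by
        rw [Ideal.height_le_iff]
        intro q1 hq1 hlt
        haveI := hq1
        have hq1bot : q1 = ⊥ := by
          by_contra hq1ne
          obtain ⟨x, hx, hx0⟩ := Submodule.exists_mem_ne_zero_of_ne_bot hq1ne
          have hu : q1.under A ≠ ⊥ :=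
            Ideal.comap_ne_bot_of_algebraic_mem hx0 hx (Algebra.IsAlgebraic.isAlgebraic x)
          have hle : q1.under A ≤ p := by
            rw [hq.2.over]; exact Ideal.comap_mono hlt.le
          have heq : q1.under A = p := by
            by_contra hne'
            have hlt' : q1.under A < p := lt_of_le_of_ne hle hne'
            haveI : (q1.under A).IsPrime := Ideal.comap_isPrime _ _
            have h2 := Ideal.height_strict_mono_of_isPrime hlt'
            rw [hp] at h2
            have h0 : (q1.under A).height = 0 := ENat.lt_one_iff_eq_zero.mp h2
            exact hu (Ideal.height_eq_zero_iff_eq_bot.mp h0)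
          have hq1mem : q1 ∈ p.primesOver B := ⟨hq1, ⟨heq.symm⟩⟩
          obtain ⟨hmaxq1, hunder1⟩ := hmax q1 hq1mem
          have hQle : q1.map (algebraMap B (Localization M)) ≤
              q.map (algebraMap B (Localization M)) := Ideal.map_mono hlt.le
          have hQeq := hmaxq1.eq_of_le hmaxq.ne_top hQle
          have h3 : q1 = q := by rw [← hunder1, ← hunder, hQeq]
          exact hlt.ne h3
        rw [hq1bot, Ideal.height_bot]
        norm_num
      simpa using h1
    · rw [ENat.one_le_iff_ne_zero]
      intro h0
      have hqbot : q = ⊥ := Ideal.height_eq_zero_iff_eq_bot.mp h0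
      apply hpne
      rw [hq.2.over, hqbot]
      exact Ideal.comap_bot_of_injective _ hinjAB

end Groth.Agent.S9130
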