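import Groth.Statements.S9134
import Mathlib
import Groth.Agent.Lib.Helper12.KrullAkizuki

set_option autoImplicit false
universe u
open CAlg

namespace Groth.Agent.S9134

/-- Let R be a Noetherian domain of dimension one with fraction field K, M an R-submodule of K^r, and x
a nonzero element of R. Then M/xM has finite length over R. -/
theorem result (R : Type u) [CommRing R] [IsDomain R]
    [IsNoetherianRing R] (hdim : ringKrullDim R = 1) (K : Type u) [Field K] [Algebra R K]
    [IsFractionRing R K] (r : ℕ) (M : Submodule R (Fin r → K)) (x : R) (hx : x ≠ 0) :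
    Module.length R (M ⧸ (Ideal.span ({x} : Set R) • (⊤ : Submodule R M))) ≠ ⊤ := by
  classical
  have hmain := Groth.Agent.Helper12.KA.length_quot_le_finrank R hdim K (Fin r → K) ↥M
    M.subtype (Submodule.injective_subtype M) x hx
  obtain ⟨hRa, hle⟩ := hmain
  have heq : Groth.Agent.Helper12.KA.aN ↥M x 1 =
      Ideal.span ({x} : Set R) • (⊤ : Submodule R M) := by
    rw [Submodule.ideal_span_singleton_smul]
    ext y
    rw [Groth.Agent.Helper12.KA.mem_aN, Submodule.mem_smul_pointwise_iff_exists]
    constructor
    · rintro ⟨z, hz⟩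
      exact ⟨z, Submodule.mem_top, by rw [← hz, pow_one]⟩
    · rintro ⟨z, _, hz⟩
      exact ⟨z, by rw [pow_one, hz]⟩
  rw [← (Submodule.quotEquivOfEq _ _ heq).length_eq]
  refine ne_top_of_le_ne_top ?_ hle
  exact WithTop.mul_ne_top (ENat.coe_ne_top _) hRa

end Groth.Agent.S9134
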