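import Mathlib
import Groth.Statements.S9137
-- import your own Groth.Agent.* helpers here

set_option autoImplicit false
universe u
open CAlg

namespace Groth.Agent.S9137


open IsLocalRing

theorem fibre_finite (R S : Type u) [CommRing R] [CommRing S]
    [IsLocalRing R] [IsLocalRing S] [Algebra R S] [IsLocalHom (algebraMap R S)]
    [Algebra.EssFiniteType R S]
    (hres : Module.Finite (ResidueField R) (ResidueField S))
    (hdim : ringKrullDim (S ⧸ (maximalIdeal R).map (algebraMap R S)) = 0) :
    Module.Finite R (S ⧸ (maximalIdeal R).map (algebraMap R S)) := by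
  have hIm : (maximalIdeal R).map (algebraMap R S) ≤ maximalIdeal S :=
    ((local_hom_TFAE (algebraMap R S)).out 0 2).mp ‹IsLocalHom (algebraMap R S)›
  haveI : Nontrivial (S ⧸ (maximalIdeal R).map (algebraMap R S)) :=
    Ideal.Quotient.nontrivial_iff.mpr
      (fun h => (maximalIdeal.isMaximal S).ne_top (top_le_iff.mp (h ▸ hIm)))
  haveI : IsLocalRing (S ⧸ (maximalIdeal R).map (algebraMap R S)) :=
    IsLocalRing.of_surjective' (Ideal.Quotient.mk _) Ideal.Quotient.mk_surjective
  haveI : IsNoetherianRing (R ⧸ maximalIdeal R) :=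
    (inferInstance : IsNoetherianRing (ResidueField R))
  haveI : IsNoetherianRing (S ⧸ (maximalIdeal R).map (algebraMap R S)) :=
    Algebra.EssFiniteType.isNoetherianRing (R ⧸ maximalIdeal R) _
  haveI : Ring.KrullDimLE 0 (S ⧸ (maximalIdeal R).map (algebraMap R S)) :=
    (Ring.krullDimLE_iff).mpr hdim.le
  haveI : Module.Finite R (ResidueField S) :=
    Module.Finite.trans (ResidueField R) (ResidueField S)
  let f : (S ⧸ (maximalIdeal R).map (algebraMap R S)) →ₐ[R] ResidueField S :=
    Ideal.Quotient.liftₐ _ (IsScalarTower.toAlgHom R S (ResidueField S)) (fun a ha => by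
      show residue S a = 0
      exact (residue_eq_zero_iff a).mpr (hIm ha))
  have hf : Function.Surjective f := by
    intro y
    obtain ⟨s, rfl⟩ := residue_surjective y
    exact ⟨Ideal.Quotient.mk _ s, rfl⟩
  refine Module.finite_of_surjective_of_ker_le_nilradical f hf ?_ (IsNoetherian.noetherian _)
  rw [Ring.KrullDimLE.nilradical_eq_maximalIdeal]
  exact le_maximalIdeal (RingHom.ker_ne_top _)

theorem main (R S : Type u) [CommRing R] [CommRing S]
    [IsLocalRing R] [IsLocalRing S] [Algebra R S] [IsLocalHom (algebraMap R S)]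
    [Algebra.EssFiniteType R S]
    (hfin : Module.Finite R (S ⧸ (maximalIdeal R).map (algebraMap R S))) :
    ∃ (S'' : Subalgebra R S), S''.toSubmodule.FG ∧
      IsLocalization.AtPrime S ((maximalIdeal S).comap (algebraMap S'' S)) := by
  have hunit : ∀ x : S, x ∉ maximalIdeal S → IsUnit x := fun x hx => by
    by_contra h
    exact hx ((mem_maximalIdeal x).mpr h)
  let p₀ : Ideal (Algebra.EssFiniteType.subalgebra R S) :=
    (maximalIdeal S).comap (algebraMap (Algebra.EssFiniteType.subalgebra R S) S)
  haveI hp₀ : p₀.IsPrime := Ideal.comap_isPrime _ _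
  have hsub : Algebra.EssFiniteType.submonoid R S = p₀.primeCompl := by
    ext x
    show IsUnit (algebraMap (Algebra.EssFiniteType.subalgebra R S) S x) ↔
      ¬ (algebraMap (Algebra.EssFiniteType.subalgebra R S) S x ∈ maximalIdeal S)
    rw [mem_maximalIdeal, mem_nonunits_iff, not_not]
  haveI hloc : IsLocalization.AtPrime S p₀ := by
    show IsLocalization p₀.primeCompl S
    rw [← hsub]; infer_instance
  have hp₀R : p₀.under R = maximalIdeal R := by
    have h4 : (maximalIdeal S).comap (algebraMap R S) = maximalIdeal R :=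
      ((local_hom_TFAE (algebraMap R S)).out 0 4).mp ‹IsLocalHom (algebraMap R S)›
    rw [← h4]
    show ((maximalIdeal S).comap (algebraMap (Algebra.EssFiniteType.subalgebra R S) S)).comap
      (algebraMap R (Algebra.EssFiniteType.subalgebra R S)) = _
    rw [Ideal.comap_comap]
    rfl
  haveI : Algebra.WeaklyQuasiFiniteAt R p₀ := by
    rw [Algebra.weaklyQuasiFiniteAt_iff, hp₀R]
    let e : Localization.AtPrime p₀ ≃ₐ[Algebra.EssFiniteType.subalgebra R S] S :=
      IsLocalization.algEquiv p₀.primeCompl _ _
    let e' : Localization.AtPrime p₀ ≃ₐ[R] S := e.restrictScalars R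
    have hQ : Algebra.QuasiFinite R (S ⧸ (maximalIdeal R).map (algebraMap R S)) := inferInstance
    refine (Algebra.QuasiFinite.iff_of_algEquiv (Ideal.quotientEquivAlg _ _ e' ?_)).mpr hQ
    rw [Ideal.map_map]
    congr 1
    ext x
    exact (e'.commutes x).symm
  obtain ⟨S', hS', r, hr, hbij⟩ :=
    Algebra.QuasiFiniteAt.exists_fg_and_exists_notMem_and_awayMap_bijective (R := R) p₀
  have hsurj := Localization.awayMap_surjective_iff.mp hbij.2
  have hrunit : IsUnit ((r : Algebra.EssFiniteType.subalgebra R S) : S) := hunit _ hr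
  refine ⟨S'.map (Algebra.EssFiniteType.subalgebra R S).val, ?_, ?_⟩
  · rw [Subalgebra.map_toSubmodule]
    exact hS'.map _
  · show IsLocalization _ S
    rw [isLocalization_iff]
    refine ⟨?_, ?_, ?_⟩
    · rintro ⟨y, hy⟩
      exact hunit _ hy
    · intro z
      obtain ⟨⟨x₀, t₀⟩, hz⟩ := IsLocalization.surj (Algebra.EssFiniteType.submonoid R S) z
      obtain ⟨b₁, m₁, h₁⟩ := hsurj x₀
      obtain ⟨b₂, m₂, h₂⟩ := hsurj t₀.1
      have ht₀ : IsUnit ((t₀ : Algebra.EssFiniteType.subalgebra R S) : S) := t₀.2
      have hmem : ∀ b : S', ((b : Algebra.EssFiniteType.subalgebra R S) : S) ∈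
          S'.map (Algebra.EssFiniteType.subalgebra R S).val := fun b =>
        ⟨b.1, b.2, rfl⟩
      refine ⟨⟨⟨_, hmem (r ^ m₂ * b₁)⟩, ⟨⟨_, hmem (r ^ m₁ * b₂)⟩, ?_⟩⟩, ?_⟩
      · show ¬ (_ ∈ maximalIdeal S)
        rw [mem_maximalIdeal, mem_nonunits_iff, not_not]
        have e2 : ((b₂ : Algebra.EssFiniteType.subalgebra R S) : S) =
            ((r : Algebra.EssFiniteType.subalgebra R S) : S) ^ m₂ *
              ((t₀ : Algebra.EssFiniteType.subalgebra R S) : S) := by
          have := congrArg (Subtype.val) h₂
          simpa using this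
        show IsUnit (((r ^ m₁ * b₂ : S') : Algebra.EssFiniteType.subalgebra R S) : S)
        push_cast
        rw [e2]
        exact ((hrunit.pow _).mul ((hrunit.pow _).mul ht₀))
      · have e1 : ((b₁ : Algebra.EssFiniteType.subalgebra R S) : S) =
            ((r : Algebra.EssFiniteType.subalgebra R S) : S) ^ m₁ *
              ((x₀ : Algebra.EssFiniteType.subalgebra R S) : S) := by
          have := congrArg (Subtype.val) h₁
          simpa using this
        have e2 : ((b₂ : Algebra.EssFiniteType.subalgebra R S) : S) =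
            ((r : Algebra.EssFiniteType.subalgebra R S) : S) ^ m₂ *
              ((t₀ : Algebra.EssFiniteType.subalgebra R S) : S) := by
          have := congrArg (Subtype.val) h₂
          simpa using this
        have hz' : z * ((t₀ : Algebra.EssFiniteType.subalgebra R S) : S) =
            ((x₀ : Algebra.EssFiniteType.subalgebra R S) : S) := hz
        show z * (((r ^ m₁ * b₂ : S') : Algebra.EssFiniteType.subalgebra R S) : S) =
          (((r ^ m₂ * b₁ : S') : Algebra.EssFiniteType.subalgebra R S) : S)
        push_cast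
        rw [e1, e2, ← hz']
        ring
    · intro x y hxy
      exact ⟨1, by rw [Subtype.ext hxy]⟩

/-- Let R → S be a local ring homomorphism between local rings, essentially of finite type, such that
the residue field of S is finite over that of R and S/m_R S has dimension zero. Then S is, as an
R-algebra, the localization of a finite R-algebra at a prime. -/
theorem result (R S : Type u) [CommRing R] [CommRing S]
    [IsLocalRing R] [IsLocalRing S] [Algebra R S] [IsLocalHom (algebraMap R S)]
    [Algebra.EssFiniteType R S]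
    (hres : Module.Finite (IsLocalRing.ResidueField R) (IsLocalRing.ResidueField S))
    (hdim : ringKrullDim (S ⧸ (IsLocalRing.maximalIdeal R).map (algebraMap R S)) = 0) :
    ∃ (S' : Type u) (_ : CommRing S') (_ : Algebra R S') (_ : Algebra S' S) (_ : IsScalarTower R S' S)
      (q : Ideal S') (_ : q.IsPrime), Module.Finite R S' ∧ IsLocalization.AtPrime S q := by
  obtain ⟨S'', hfg, hloc⟩ := main R S (fibre_finite R S hres hdim)
  exact ⟨S'', inferInstance, inferInstance, inferInstance, inferInstance,
    (IsLocalRing.maximalIdeal S).comap (algebraMap S'' S), Ideal.comap_isPrime _ _,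
    ⟨(Submodule.fg_top _).mpr hfg⟩, hloc⟩

end Groth.Agent.S9137
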