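import Groth.Statements.S9139
import Mathlib

set_option autoImplicit false
universe u
open CAlg

namespace Groth.Agent.S9139

/-- An element of the extension of an ideal lies in the extension of a finitely generated subideal. -/
theorem exists_fg_le_mem_map {R S' : Type u} [CommRing R] [CommRing S'] [Algebra R S']
    (I : Ideal R) (z : S') (hz : z ∈ I.map (algebraMap R S')) :
    ∃ I₀ : Ideal R, I₀.FG ∧ I₀ ≤ I ∧ z ∈ I₀.map (algebraMap R S') := by
  unfold Ideal.map at hz
  induction hz using Submodule.span_induction with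
  | mem x hx =>
    obtain ⟨a, ha, rfl⟩ := hx
    refine ⟨Ideal.span {a}, ⟨{a}, by simp⟩, ?_, ?_⟩
    · rw [Ideal.span_le]; simpa using ha
    · exact Ideal.mem_map_of_mem _ (Ideal.subset_span (Set.mem_singleton a))
  | zero => exact ⟨⊥, Submodule.fg_bot, bot_le, Ideal.zero_mem _⟩
  | add x y _ _ hx hy =>
    obtain ⟨I₁, h1, h1', h1''⟩ := hx
    obtain ⟨I₂, h2, h2', h2''⟩ := hy
    refine ⟨I₁ ⊔ I₂, Submodule.FG.sup h1 h2, sup_le h1' h2', ?_⟩
    rw [Ideal.map_sup]
    exact Ideal.add_mem _ (Ideal.mem_sup_left h1'') (Ideal.mem_sup_right h2'')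
  | smul a x _ hx =>
    obtain ⟨I₁, h1, h1', h1''⟩ := hx
    exact ⟨I₁, h1, h1', Ideal.mul_mem_left _ _ h1''⟩

/-- Let I be a locally nilpotent ideal of a ring R (every element of I is nilpotent) and S → S' a map of
R-algebras with S' of finite type over R. If S → S'/IS' is surjective then so is S → S'. -/
theorem result (R S S' : Type u) [CommRing R] [CommRing S]
    [CommRing S'] [Algebra R S] [Algebra R S'] [Algebra.FiniteType R S'] (I : Ideal R)
    (hI : ∀ x ∈ I, IsNilpotent x) (f : S →ₐ[R] S')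
    (hf : Function.Surjective ((Ideal.Quotient.mk (I.map (algebraMap R S'))).comp f.toRingHom)) :
    Function.Surjective f := by
  classical
  obtain ⟨s, hs⟩ := (Algebra.FiniteType.out : (⊤ : Subalgebra R S').FG)
  have key : ∀ x : S', ∃ I₀ : Ideal R, I₀.FG ∧ I₀ ≤ I ∧
      ∃ y : S, x - f y ∈ I₀.map (algebraMap R S') := by
    intro x
    obtain ⟨y, hy⟩ := hf (Ideal.Quotient.mk _ x)
    have hmem : x - f y ∈ I.map (algebraMap R S') := by
      rw [← Ideal.Quotient.eq]
      exact hy.symm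
    obtain ⟨I₀, h1, h2, h3⟩ := exists_fg_le_mem_map I _ hmem
    exact ⟨I₀, h1, h2, y, h3⟩
  choose I₀ hfg hle y hy using key
  set J₀ : Ideal R := s.sup I₀ with hJ₀
  have hJfg : J₀.FG := Submodule.fg_finset_sup s I₀ (fun i _ => hfg i)
  have hJle : J₀ ≤ I := Finset.sup_le (fun i _ => hle i)
  have hJnil : IsNilpotent J₀ := by
    rw [Ideal.FG.isNilpotent_iff_le_nilradical hJfg]
    intro a ha
    exact hI a (hJle ha)
  obtain ⟨N, hN⟩ := hJnil
  set J : Ideal S' := J₀.map (algebraMap R S') with hJ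
  let q : S' →ₐ[R] S' ⧸ J := Ideal.Quotient.mkₐ R J
  have hq : Function.Surjective q := Ideal.Quotient.mkₐ_surjective R J
  have hrange : (q.comp f).range = ⊤ := by
    rw [eq_top_iff]
    have h1 : (⊤ : Subalgebra R (S' ⧸ J)) = (Algebra.adjoin R (s : Set S')).map q := by
      rw [hs, Algebra.map_top, (AlgHom.range_eq_top q).2 hq]
    rw [h1, AlgHom.map_adjoin, Algebra.adjoin_le_iff]
    rintro _ ⟨x, hx, rfl⟩
    refine ⟨y x, ?_⟩
    show q (f (y x)) = q x
    symm
    rw [Ideal.Quotient.mkₐ_eq_mk, Ideal.Quotient.eq]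
    have : I₀ x ≤ J₀ := Finset.le_sup (f := I₀) hx
    exact Ideal.map_mono this (hy x)
  have hstep : ∀ x : S', ∃ y : S, x - f y ∈ J := by
    intro x
    have : q x ∈ (q.comp f).range := by rw [hrange]; trivial
    obtain ⟨y, hy⟩ := this
    refine ⟨y, ?_⟩
    rw [← Ideal.Quotient.eq]
    exact hy.symm
  set T : Submodule R S' := LinearMap.range f.toLinearMap with hT
  have h1 : (⊤ : Submodule R S') ≤ T ⊔ J₀ • ⊤ := by
    intro x _
    obtain ⟨y, hy⟩ := hstep x
    have hx : x = f y + (x - f y) := by ring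
    rw [hx]
    refine Submodule.add_mem_sup ⟨y, rfl⟩ ?_
    rw [Ideal.smul_top_eq_map]
    exact hy
  have hk : ∀ k : ℕ, (⊤ : Submodule R S') ≤ T ⊔ (J₀ ^ k) • ⊤ := by
    intro k
    induction k with
    | zero => rw [pow_zero, Ideal.one_eq_top, Submodule.top_smul]; exact le_sup_right
    | succ k ih =>
      refine ih.trans (sup_le le_sup_left ?_)
      calc (J₀ ^ k) • (⊤ : Submodule R S') ≤ (J₀ ^ k) • (T ⊔ J₀ • ⊤) :=
            Submodule.smul_mono le_rfl h1
        _ = (J₀ ^ k) • T ⊔ (J₀ ^ k) • (J₀ • ⊤) := Submodule.smul_sup _ _ _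
        _ ≤ T ⊔ (J₀ ^ (k + 1)) • ⊤ := by
            refine sup_le_sup Submodule.smul_le_right ?_
            rw [← Submodule.mul_smul, ← pow_succ]
  have hfin := hk N
  rw [hN] at hfin
  simp only [Submodule.zero_eq_bot, Submodule.bot_smul, sup_bot_eq] at hfin
  intro x
  have : x ∈ T := hfin trivial
  obtain ⟨y, hy⟩ := this
  exact ⟨y, hy⟩

end Groth.Agent.S9139
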