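import Mathlib
import Groth.Statements.S9140
import Groth.Agent.S9139

set_option autoImplicit false
universe u
open CAlg

namespace Groth.Agent.S9140

open TensorProduct in
theorem flat_step (R S S' : Type u)
    [CommRing R] [CommRing S] [CommRing S'] [Algebra R S] [Algebra R S'] [Module.Flat R S']
    (I : Ideal R) (f : S →ₐ[R] S') (hfsurj : Function.Surjective f)
    (hker : ∀ s : S, f s = 0 → s ∈ I.map (algebraMap R S)) :
    RingHom.ker f.toRingHom ≤ I.map (algebraMap R S) • RingHom.ker f.toRingHom := by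
  let Kl : Submodule R S := LinearMap.ker f.toLinearMap
  have hinj : Function.Injective (Kl.subtype.lTensor (R ⧸ I)) :=
    LinearMap.lTensor_injective_of_exact_of_flat f.toLinearMap hfsurj Kl.subtype
      Subtype.val_injective (LinearMap.exact_subtype_ker_map f.toLinearMap) (R ⧸ I)
  have hJker : I.map (algebraMap R S) ≤ RingHom.ker (Algebra.TensorProduct.includeRight : S →ₐ[R] (R ⧸ I) ⊗[R] S).toRingHom := by
    rw [Ideal.map_le_iff_le_comap]
    intro a ha
    rw [Ideal.mem_comap, RingHom.mem_ker]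
    change (1 : R ⧸ I) ⊗ₜ[R] (algebraMap R S a) = 0
    rw [Algebra.algebraMap_eq_smul_one, ← TensorProduct.smul_tmul, ← Algebra.algebraMap_eq_smul_one]
    have : algebraMap R (R ⧸ I) a = 0 := by
      rw [Ideal.Quotient.algebraMap_eq, Ideal.Quotient.eq_zero_iff_mem]; exact ha
    rw [this, TensorProduct.zero_tmul]
  have h6 : I • Kl ≤ (I.map (algebraMap R S) • RingHom.ker f.toRingHom).restrictScalars R := by
    rw [Submodule.smul_le]
    intro a ha k hk
    have : algebraMap R S a * k ∈ (I.map (algebraMap R S) • RingHom.ker f.toRingHom) :=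
      Submodule.smul_mem_smul (Ideal.mem_map_of_mem _ ha) hk
    rw [← Algebra.smul_def] at this
    exact this
  intro x hx
  have hxJ : x ∈ I.map (algebraMap R S) := hker x hx
  have h1 : (1 : R ⧸ I) ⊗ₜ[R] x = 0 := hJker hxJ
  have h2 : Kl.subtype.lTensor (R ⧸ I) ((1 : R ⧸ I) ⊗ₜ[R] (⟨x, hx⟩ : Kl)) = 0 := by
    rw [LinearMap.lTensor_tmul]; exact h1
  have h3 : (1 : R ⧸ I) ⊗ₜ[R] (⟨x, hx⟩ : Kl) = 0 := hinj (by rw [h2, map_zero])
  have h4 := congrArg (TensorProduct.quotTensorEquivQuotSMul Kl I) h3
  rw [TensorProduct.quotTensorEquivQuotSMul_mk_one_tmul, map_zero,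
    Submodule.Quotient.mk_eq_zero] at h4
  have h5 : x ∈ (I • (⊤ : Submodule R Kl)).map Kl.subtype := ⟨⟨x, hx⟩, h4, rfl⟩
  rw [Submodule.map_smul'', Submodule.map_subtype_top] at h5
  exact h6 h5

theorem result (R S S' : Type u)
    [CommRing R] [CommRing S] [CommRing S'] [Algebra R S] [Algebra R S'] [Algebra.FiniteType R S]
    [Algebra.FinitePresentation R S'] [Module.Flat R S'] (I : Ideal R) (hI : ∀ x ∈ I, IsNilpotent x)
    (f : S →ₐ[R] S')
    (hsurj : Function.Surjective ((Ideal.Quotient.mk (I.map (algebraMap R S'))).comp f.toRingHom))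
    (hker : ∀ s : S, f s ∈ I.map (algebraMap R S') → s ∈ I.map (algebraMap R S)) :
    Function.Bijective f := by
  have hfsurj : Function.Surjective f := Groth.Agent.S9139.result R S S' I hI f hsurj
  refine ⟨?_, hfsurj⟩
  obtain ⟨n, g, hg⟩ := Algebra.FiniteType.iff_quotient_mvPolynomial''.1
    (inferInstance : Algebra.FiniteType R S)
  have hKfg : (RingHom.ker f.toRingHom).FG := by
    have := (Algebra.FinitePresentation.ker_fg_of_mvPolynomial (f.comp g) (hfsurj.comp hg)).map
      g.toRingHom
    convert this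
    simp_rw [RingHom.ker_eq_comap_bot, AlgHom.toRingHom_eq_coe, AlgHom.comp_toRingHom]
    rw [← Ideal.comap_comap, Ideal.map_comap_of_surjective (g : MvPolynomial (Fin n) R →+* S) hg]
  have hKle := flat_step R S S' I f hfsurj (fun s hs => hker s (by rw [hs]; exact Ideal.zero_mem _))
  have hJjac : I.map (algebraMap R S) ≤ Ideal.jacobson ⊥ := by
    refine le_trans ?_ (Ideal.radical_le_jacobson)
    rw [Ideal.map_le_iff_le_comap]
    intro a ha
    rw [Ideal.mem_comap]
    change algebraMap R S a ∈ nilradical S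
    rw [mem_nilradical]
    exact (hI a ha).map _
  have hKbot : RingHom.ker f.toRingHom = ⊥ :=
    Submodule.eq_bot_of_le_smul_of_le_jacobson_bot _ _ hKfg hKle hJjac
  exact (RingHom.injective_iff_ker_eq_bot f.toRingHom).2 hKbot

end Groth.Agent.S9140
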