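import Groth.Statements.S9141
import Groth.Agent.H29.GCILoc

set_option autoImplicit false
universe u
open Synt

namespace Groth.Agent.S9141

/-- For a finite type algebra S over a field k and g ∈ S, the localization S_g is a global (resp. local)
complete intersection over k whenever S is. -/
theorem result (k S : Type u) [Field k] [CommRing S] [Algebra k S]
    [Algebra.FiniteType k S] (g : S) :
    (Synt.IsGlobalCI k S → Synt.IsGlobalCI k (Localization.Away g)) ∧
      (Synt.IsLCIOver k S → Synt.IsLCIOver k (Localization.Away g)) := by

  refine ⟨fun h => Groth.Agent.H29.GCI.isGlobalCI_away k g h, ?_⟩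
  rintro ⟨hft, hloc⟩
  refine ⟨?_, ?_⟩
  · haveI : Algebra.FiniteType S (Localization.Away g) :=
      IsLocalization.finiteType_of_monoid_fg (Submonoid.powers g) _
    exact Algebra.FiniteType.trans hft this
  · intro P'
    haveI : (P'.asIdeal.comap (algebraMap S (Localization.Away g))).IsPrime :=
      Ideal.comap_isPrime _ _
    obtain ⟨h, hhp, hG⟩ := hloc ⟨P'.asIdeal.comap (algebraMap S (Localization.Away g)), inferInstance⟩
    refine ⟨algebraMap S (Localization.Away g) h, hhp, ?_⟩
    haveI : Algebra.FiniteType S (Localization.Away h) :=
      IsLocalization.finiteType_of_monoid_fg (Submonoid.powers h) _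
    haveI : Algebra.FiniteType k (Localization.Away h) := Algebra.FiniteType.trans hft this
    have hB := Groth.Agent.H29.GCI.isGlobalCI_away k (S := Localization.Away h)
      (algebraMap S (Localization.Away h) g) hG
    haveI iA : IsLocalization.Away (g * h)
        (Localization.Away (algebraMap S (Localization.Away g) h)) := inferInstance
    haveI iB : IsLocalization.Away (g * h)
        (Localization.Away (algebraMap S (Localization.Away h) g)) := inferInstance
    let e : Localization.Away (algebraMap S (Localization.Away h) g) ≃ₐ[S]
        Localization.Away (algebraMap S (Localization.Away g) h) :=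
      IsLocalization.algEquiv (Submonoid.powers (g * h)) _ _
    exact Groth.Agent.H29.GCI.isGlobalCI_of_algEquiv k (e.restrictScalars k) hB


end Groth.Agent.S9141
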