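import Groth.Statements.S9142
import Groth.Agent.H29.GCILib

set_option autoImplicit false
universe u
open Synt

namespace Groth.Agent.S9142

/-- A local complete intersection over a field is a Cohen–Macaulay ring. -/
theorem result (k S : Type u) [Field k] [CommRing S] [Algebra k S]
    (h : Synt.IsLCIOver k S) : LocCoh.IsCohenMacaulayRing S := by

  obtain ⟨hft, hloc⟩ := h
  haveI : IsNoetherianRing S := Algebra.FiniteType.isNoetherianRing k S
  refine { isCohenMacaulayLocalRing_localization := ?_ }
  intro p hp
  obtain ⟨g, hgp, hG⟩ := hloc ⟨p, hp⟩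
  refine Groth.Agent.H29.GCI.cmLocal_of_away g ?_ p hgp
  rcases hG with hsub | ⟨n, c, hcn, φ, r, hφ, hker, hdim⟩
  · exact { isCohenMacaulayLocalRing_localization := fun P hP =>
      absurd (Subsingleton.elim P ⊤) hP.ne_top }
  · let e : (MvPolynomial (Fin n) k ⧸ Ideal.span (Set.range r)) ≃+* Localization.Away g :=
      (Ideal.quotEquivOfEq hker.symm).trans
        (RingHom.quotientKerEquivOfSurjective (f := φ.toRingHom) hφ)
    have hdim' : ringKrullDim (MvPolynomial (Fin n) k ⧸ Ideal.span (Set.range r)) =
        ((n - c : ℕ) : WithBot ℕ∞) := by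
      rw [ringKrullDim_eq_of_ringEquiv e]; exact hdim
    exact Groth.Agent.H29.GCI.cmRing_of_ringEquiv e
      (Groth.Agent.H29.GCI.gci_cmRing k n hcn r hdim')


end Groth.Agent.S9142
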