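import Groth.Statements.S9146
import Groth.Agent.H29.LCILocal

set_option autoImplicit false
universe u
open Synt

namespace Groth.Agent.S9146

/-- Being syntomic is local on the target ring: if finitely many elements of S generating the unit ideal
have syntomic localizations R → S_g, then R → S is syntomic. -/
theorem result (R S : Type u) [CommRing R] [CommRing S] [Algebra R S]
    (s : Finset S) (hs : Ideal.span (s : Set S) = ⊤)
    (h : ∀ g ∈ s, Synt.IsSyntomic R (Localization.Away g)) : Synt.IsSyntomic R S := by

  have hflat : Module.Flat R S := by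
    rw [← RingHom.flat_algebraMap_iff]
    refine RingHom.Flat.ofLocalizationSpanTarget (algebraMap R S) (s : Set S) hs ?_
    rintro ⟨g, hg⟩
    have h1 := (h g hg).1
    rw [← RingHom.flat_algebraMap_iff, IsScalarTower.algebraMap_eq R S (Localization.Away g)] at h1
    exact h1
  have hfp : Algebra.FinitePresentation R S := by
    rw [← RingHom.finitePresentation_algebraMap]
    refine RingHom.finitePresentation_ofLocalizationSpanTarget (algebraMap R S) (s : Set S) hs ?_
    rintro ⟨g, hg⟩
    have h1 := (h g hg).2.1
    rw [← RingHom.finitePresentation_algebraMap,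
      IsScalarTower.algebraMap_eq R S (Localization.Away g)] at h1
    exact h1
  refine ⟨hflat, hfp, ?_⟩
  intro p
  haveI : Algebra.FiniteType R S := Algebra.FiniteType.of_finitePresentation
  refine ⟨inferInstance, ?_⟩
  intro P
  have hex : ∃ g ∈ s, ((1 : p.asIdeal.ResidueField) ⊗ₜ[R] g) ∉ P.asIdeal := by
    by_contra hcon
    push Not at hcon
    have hle : Ideal.span (s : Set S) ≤ P.asIdeal.comap
        (Algebra.TensorProduct.includeRight : S →ₐ[R] p.asIdeal.Fiber S).toRingHom := by
      rw [Ideal.span_le]
      intro g hg
      exact hcon g hg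
    rw [hs] at hle
    have h1 : (1 : S) ∈ P.asIdeal.comap
        (Algebra.TensorProduct.includeRight : S →ₐ[R] p.asIdeal.Fiber S).toRingHom :=
      hle trivial
    rw [Ideal.mem_comap, map_one] at h1
    exact P.2.ne_top ((Ideal.eq_top_iff_one _).mpr h1)
  obtain ⟨g, hg, hgP⟩ := hex
  have hL := (h g hg).2.2 p
  let e := IsLocalization.Away.tensorProductEquivTMulRight R p.asIdeal.ResidueField g
    (Localization.Away g)
  have hL' := Groth.Agent.H29.GCI.isLCIOver_of_algEquiv p.asIdeal.ResidueField e hL
  exact Groth.Agent.H29.GCI.exists_gci_of_lci_away p.asIdeal.ResidueField _ P hgP hL'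


end Groth.Agent.S9146
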