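import Groth.Statements.S9156
import Mathlib
import Groth.Agent.S2680
import Groth.Agent.Helper1.CMCatenary
import Groth.Agent.Lib.Helper7.GlobCI

set_option autoImplicit false
universe u
open CAlg

namespace Groth.Agent.S9156


set_option linter.style.haveILetI false
set_option linter.unusedSectionVars false

/-- Heights do not increase along comap of a surjection. -/
theorem height_le_height_comap {A B : Type*} [CommRing A] [CommRing B] (φ : A →+* B)
    (hφ : Function.Surjective φ) (P : Ideal B) [hP : P.IsPrime] :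
    P.height ≤ (P.comap φ).height := by
  have hf : StrictMono (PrimeSpectrum.comap φ) := by
    have hmono : Monotone (PrimeSpectrum.comap φ) := fun a b hab => Ideal.comap_mono hab
    exact hmono.strictMono_of_injective (PrimeSpectrum.comap_injective_of_surjective _ hφ)
  have h1 := Order.height_le_height_apply_of_strictMono _ hf (⟨P, hP⟩ : PrimeSpectrum B)
  rw [← PrimeSpectrum.height_eq_orderHeight, ← PrimeSpectrum.height_eq_orderHeight] at h1
  exact h1

/-- In a Cohen–Macaulay finite type algebra over a field, the height of a maximal ideal is the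
dimension of any irreducible component through it. -/
theorem height_max_eq (k S : Type u) [Field k] [CommRing S] [Algebra k S]
    [Algebra.FiniteType k S] [LocCoh.IsCohenMacaulayRing S]
    (p : Ideal S) (hp : p ∈ minimalPrimes S) (M : Ideal S) [hM : M.IsMaximal] (hpM : p ≤ M) :
    ((M.height : ℕ∞) : WithBot ℕ∞) = ringKrullDim (S ⧸ p) := by
  haveI : IsNoetherianRing S := Algebra.FiniteType.isNoetherianRing k S
  haveI hP : p.IsPrime := hp.1.1
  haveI : IsDomain (S ⧸ p) := Ideal.Quotient.isDomain p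
  haveI : M.IsPrime := hM.isPrime
  set q : Ideal (S ⧸ p) := M.map (Ideal.Quotient.mk p) with hq
  haveI hqmax : q.IsMaximal :=
    Ideal.IsMaximal.map_of_surjective_of_ker_le Ideal.Quotient.mk_surjective
      (by rw [Ideal.mk_ker]; exact hpM)
  have hcomap : q.comap (Ideal.Quotient.mk p) = M := by
    rw [hq, Ideal.comap_map_of_surjective _ Ideal.Quotient.mk_surjective,
      ← RingHom.ker_eq_comap_bot, Ideal.mk_ker, sup_eq_left]
    exact hpM
  let L := Localization.AtPrime M
  haveI : LocCoh.IsCohenMacaulayLocalRing L :=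
    LocCoh.IsCohenMacaulayRing.isCohenMacaulayLocalRing_localization M
  have hdisj : Disjoint (M.primeCompl : Set S) (p : Set S) := by
    rw [Set.disjoint_left]
    intro x hx hxP
    exact hx (hpM hxP)
  set 𝔭 : Ideal L := p.map (algebraMap S L) with h𝔭
  haveI : 𝔭.IsPrime := IsLocalization.isPrime_of_isPrime_disjoint M.primeCompl L p hP hdisj
  have hform := Groth.Agent.Helper1.CMCatenary.dim_formula L 𝔭
  have h1 : ringKrullDim L = M.height := IsLocalization.AtPrime.ringKrullDim_eq_height M L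
  have h3 : 𝔭.height = p.height := IsLocalization.height_map_of_disjoint M.primeCompl p hdisj
  have h0 : p.height = 0 := Ideal.height_eq_zero_iff.mpr hp
  have hsub : Algebra.algebraMapSubmonoid (S ⧸ p) M.primeCompl = q.primeCompl := by
    ext x
    constructor
    · rintro ⟨y, hy, rfl⟩
      intro hmemq
      apply hy
      have : y ∈ q.comap (Ideal.Quotient.mk p) := hmemq
      rwa [hcomap] at this
    · intro hx
      obtain ⟨y, rfl⟩ := Ideal.Quotient.mk_surjective x
      refine ⟨y, ?_, rfl⟩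
      intro hy
      exact hx (Ideal.mem_map_of_mem _ hy)
  haveI : IsLocalization.AtPrime (L ⧸ 𝔭) q := by
    have h := (inferInstance : IsLocalization (Algebra.algebraMapSubmonoid (S ⧸ p) M.primeCompl)
      (L ⧸ p.map (algebraMap S L)))
    rwa [hsub] at h
  have h4 : ringKrullDim (L ⧸ 𝔭) = q.height :=
    IsLocalization.AtPrime.ringKrullDim_eq_height q (L ⧸ 𝔭)
  have h5 : (q.height : WithBot ℕ∞) = ringKrullDim (S ⧸ p) :=
    Groth.Agent.S2680.height_eq_of_isMaximal k (S ⧸ p) q
  rw [h1, h4, h3, h0, h5] at hform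
  simpa using hform

/-- A Cohen–Macaulay finite type algebra S over a field k decomposes as a finite product of k-algebras
S_0 × ⋯ × S_N in which every maximal ideal of the factor S_d has height d (so Spec S is a finite
disjoint union of equidimensional open and closed pieces). -/
theorem result (k S : Type u) [Field k] [CommRing S]
    [Algebra k S] [Algebra.FiniteType k S] [LocCoh.IsCohenMacaulayRing S] :
    ∃ (N : ℕ) (T : Fin (N + 1) → Type u) (_ : ∀ d, CommRing (T d)) (_ : ∀ d, Algebra k (T d)),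
      Nonempty (S ≃ₐ[k] ((d : Fin (N + 1)) → T d)) ∧
        ∀ (d : Fin (N + 1)) (m : Ideal (T d)), m.IsMaximal → m.height = (d : ℕ) := by

  classical
  haveI : IsNoetherianRing S := Algebra.FiniteType.isNoetherianRing k S
  have hfin : (minimalPrimes S).Finite := minimalPrimes.finite_of_isNoetherianRing S
  have hδ : ∀ p ∈ minimalPrimes S, ∃ δ : ℕ, ringKrullDim (S ⧸ p) = δ := by
    intro p hp
    haveI : p.IsPrime := hp.1.1
    haveI : IsDomain (S ⧸ p) := Ideal.Quotient.isDomain p
    obtain ⟨δ, h, _⟩ := Groth.Agent.Helper7.GlobCI.dim_eq_trdeg k (S ⧸ p)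
    exact ⟨δ, h⟩
  choose! δ hδ' using hδ
  set N : ℕ := hfin.toFinset.sup δ with hN
  have hδN : ∀ p ∈ minimalPrimes S, δ p ≤ N := fun p hp =>
    Finset.le_sup (f := δ) (hfin.mem_toFinset.mpr hp)
  let I : ℕ → Ideal S := fun d => (hfin.toFinset.filter (fun p => δ p = d)).inf id
  have hIle : ∀ p ∈ minimalPrimes S, I (δ p) ≤ p := by
    intro p hp
    have : p ∈ hfin.toFinset.filter (fun p' => δ p' = δ p) := by
      rw [Finset.mem_filter, Set.Finite.mem_toFinset]
      exact ⟨hp, rfl⟩
    exact Finset.inf_le (f := id) this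
  have hIM : ∀ (d : ℕ) (M : Ideal S), M.IsMaximal → I d ≤ M →
      ∃ p ∈ minimalPrimes S, δ p = d ∧ p ≤ M ∧ ((M.height : ℕ∞) : WithBot ℕ∞) = (d : WithBot ℕ∞) := by
    intro d M hM hle
    haveI := hM
    obtain ⟨p, hp, hpM⟩ := (Ideal.IsPrime.inf_le' hM.isPrime).mp hle
    rw [Finset.mem_filter, Set.Finite.mem_toFinset] at hp
    refine ⟨p, hp.1, hp.2, hpM, ?_⟩
    rw [height_max_eq k S p hp.1 M hpM, hδ' p hp.1, hp.2]
  obtain ⟨n, hn⟩ := IsNoetherianRing.isNilpotent_nilradical S
  let J : Fin (N + 1) → Ideal S := fun d => (I d) ^ (n + 1)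
  have hcop : ∀ d d' : ℕ, d ≠ d' → IsCoprime (I d) (I d') := by
    intro d d' hdd
    rw [Ideal.isCoprime_iff_sup_eq]
    by_contra hne
    obtain ⟨M, hM, hle⟩ := Ideal.exists_le_maximal _ hne
    obtain ⟨p, _, _, _, e1⟩ := hIM d M hM (le_sup_left.trans hle)
    obtain ⟨p', _, _, _, e2⟩ := hIM d' M hM (le_sup_right.trans hle)
    apply hdd
    have := e1.symm.trans e2
    exact_mod_cast this
  have hJcop : Pairwise (Function.onFun IsCoprime J) := by
    intro i j hij
    exact (hcop i j (fun h => hij (Fin.ext h))).pow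
  have hJbot : ⨅ i, J i = ⊥ := by
    have h1 : ∏ i ∈ Finset.univ, J i = ⨅ i ∈ Finset.univ, J i :=
      Ideal.prod_eq_iInf_of_pairwise_isCoprime (fun i _ j _ hij => hJcop hij)
    simp only [Finset.mem_univ, iInf_pos] at h1
    rw [← h1, Finset.prod_pow, ← le_bot_iff]
    have h2 : ∏ i : Fin (N + 1), I i ≤ nilradical S := by
      rw [nilradical_eq_sInf]
      refine le_sInf ?_
      intro P hP
      haveI : P.IsPrime := hP
      obtain ⟨p, hpmin, hpP⟩ := Ideal.exists_minimalPrimes_le (bot_le : (⊥ : Ideal S) ≤ P)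
      have hle : δ p < N + 1 := Nat.lt_succ_of_le (hδN p hpmin)
      have h3 : ∏ i : Fin (N + 1), I i ≤ I ((⟨δ p, hle⟩ : Fin (N + 1)) : ℕ) :=
        Ideal.prod_le_inf.trans (Finset.inf_le (Finset.mem_univ (⟨δ p, hle⟩ : Fin (N + 1))))
      exact h3.trans ((hIle p hpmin).trans hpP)
    calc (∏ i : Fin (N + 1), I i) ^ (n + 1) ≤ nilradical S ^ (n + 1) := Ideal.pow_right_mono h2 _
      _ = ⊥ := by rw [pow_succ, hn, zero_mul]; rfl
  let e0 : S ≃+* (S ⧸ ⨅ i, J i) :=
    (RingEquiv.quotientBot S).symm.trans (Ideal.quotEquivOfEq hJbot.symm)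
  let e : S ≃+* ((d : Fin (N + 1)) → S ⧸ J d) :=
    e0.trans (Ideal.quotientInfRingEquivPiQuotient J hJcop)
  refine ⟨N, fun d => S ⧸ J d, fun d => inferInstanceAs (CommRing (S ⧸ J d)),
    fun d => inferInstanceAs (Algebra k (S ⧸ J d)),
    ⟨AlgEquiv.ofRingEquiv (f := e) (fun x => rfl)⟩, ?_⟩
  intro d mb hmb
  haveI := hmb
  haveI : mb.IsPrime := hmb.isPrime
  set M : Ideal S := mb.comap (Ideal.Quotient.mk (J d)) with hMdef
  haveI hM : M.IsMaximal := Ideal.comap_isMaximal_of_surjective _ Ideal.Quotient.mk_surjective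
  haveI : M.IsPrime := hM.isPrime
  have hJM : J d ≤ M := by
    intro x hx
    rw [hMdef, Ideal.mem_comap, Ideal.Quotient.eq_zero_iff_mem.mpr hx]
    exact mb.zero_mem
  have hIdM : I d ≤ M := Ideal.IsPrime.le_of_pow_le hJM
  obtain ⟨p, hpmin, hpd, hpM, e1⟩ := hIM d M hM hIdM
  haveI : p.IsPrime := hpmin.1.1
  haveI : IsDomain (S ⧸ p) := Ideal.Quotient.isDomain p
  have up : mb.height ≤ M.height :=
    height_le_height_comap (Ideal.Quotient.mk (J d)) Ideal.Quotient.mk_surjective mb
  have hJp : J d ≤ p := by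
    have h1 : I d ≤ p := by
      have := hIle p hpmin
      rwa [hpd] at this
    exact (Ideal.pow_le_self (Nat.succ_ne_zero n)).trans h1
  let φ : S ⧸ J d →+* S ⧸ p := Ideal.Quotient.factor hJp
  have hφ : Function.Surjective φ := Ideal.Quotient.factor_surjective hJp
  set q : Ideal (S ⧸ p) := M.map (Ideal.Quotient.mk p) with hq
  haveI hqmax : q.IsMaximal :=
    Ideal.IsMaximal.map_of_surjective_of_ker_le Ideal.Quotient.mk_surjective
      (by rw [Ideal.mk_ker]; exact hpM)
  haveI : q.IsPrime := hqmax.isPrime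
  have hqc : q.comap φ = mb := by
    apply Ideal.comap_injective_of_surjective (Ideal.Quotient.mk (J d)) Ideal.Quotient.mk_surjective
    rw [Ideal.comap_comap]
    have h1 : φ.comp (Ideal.Quotient.mk (J d)) = Ideal.Quotient.mk p :=
      Ideal.Quotient.factor_comp_mk hJp
    rw [h1, hq, Ideal.comap_map_of_surjective _ Ideal.Quotient.mk_surjective,
      ← RingHom.ker_eq_comap_bot, Ideal.mk_ker, sup_eq_left.mpr hpM]
  have low := height_le_height_comap φ hφ q
  rw [hqc] at low
  have h5 : (q.height : WithBot ℕ∞) = ringKrullDim (S ⧸ p) :=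
    Groth.Agent.S2680.height_eq_of_isMaximal k (S ⧸ p) q
  rw [hδ' p hpmin, hpd] at h5
  have e1' : M.height = (d : ℕ) := by exact_mod_cast e1
  have h5' : q.height = (d : ℕ) := by exact_mod_cast h5
  rw [e1'] at up
  rw [h5'] at low
  exact le_antisymm up low


end Groth.Agent.S9156
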