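import Groth.Statements.S9152
import Mathlib
import Groth.Agent.H29.GCILib
import Groth.Agent.H29.NormFlatLoc
import Groth.Agent.H29.ABMore
import Groth.Agent.H29.PDOpen
import Groth.Agent.H29.DepthFinite
import Groth.Agent.S2141
import Groth.Agent.S9156

set_option autoImplicit false
universe u
open CAlg

namespace Groth.Agent.S9152


set_option linter.style.haveILetI false
set_option linter.unusedSectionVars false

open CategoryTheory IsLocalRing

/-- Cohen–Macaulayness of local rings at corresponding primes under a ring isomorphism. -/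
theorem cmLocal_iff_of_ringEquiv {A B : Type u} [CommRing A] [CommRing B] (e : A ≃+* B)
    (p : Ideal B) [hp : p.IsPrime] [hq : (p.comap (e : A →+* B)).IsPrime] :
    LocCoh.IsCohenMacaulayLocalRing (Localization.AtPrime p) ↔
      LocCoh.IsCohenMacaulayLocalRing (Localization.AtPrime (p.comap (e : A →+* B))) := by
  have H : (p.comap (e : A →+* B)).primeCompl.map e.toMonoidHom = p.primeCompl := by
    ext x
    constructor
    · rintro ⟨y, hy, rfl⟩
      exact hy
    · intro hx
      refine ⟨e.symm x, ?_, e.apply_symm_apply x⟩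
      show e.symm x ∉ p.comap (e : A →+* B)
      rw [Ideal.mem_comap]
      intro h
      apply hx
      have : (e : A →+* B) (e.symm x) = x := e.apply_symm_apply x
      rwa [this] at h
  let e' : Localization.AtPrime (p.comap (e : A →+* B)) ≃+* Localization.AtPrime p :=
    IsLocalization.ringEquivOfRingEquiv (Localization.AtPrime (p.comap (e : A →+* B)))
      (Localization.AtPrime p) e H
  exact ⟨fun h => Groth.Agent.H29.GCI.cmLocal_of_ringEquiv e'.symm h,
    fun h => Groth.Agent.H29.GCI.cmLocal_of_ringEquiv e' h⟩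

section Quot

variable (P : Type u) [CommRing P] [IsNoetherianRing P] [IsRegularRing P] (I : Ideal P)

/-- Auslander–Buchsbaum numerics for `(P/I)_q` over the regular local ring `P_Q`. -/
theorem local_numerics (q : Ideal (P ⧸ I)) [hq : q.IsPrime] (Q : Ideal P) [hQp : Q.IsPrime]
    (hQ : Q = q.comap (Ideal.Quotient.mk I)) :
    ∃ e d c : ℕ, Q.height = c ∧ d + e = c ∧
      HasProjectiveDimensionLT (ModuleCat.of (Localization.AtPrime Q)
        (LocalizedModule Q.primeCompl (P ⧸ I))) (e + 1) ∧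
      ¬ HasProjectiveDimensionLT (ModuleCat.of (Localization.AtPrime Q)
        (LocalizedModule Q.primeCompl (P ⧸ I))) e ∧
      (d : ℕ∞) ≤ q.height ∧
      (LocCoh.IsCohenMacaulayLocalRing (Localization.AtPrime q) ↔ (d : ℕ∞) = q.height) := by
  have hIQ : I ≤ Q := by
    intro x hx
    rw [hQ, Ideal.mem_comap, Ideal.Quotient.eq_zero_iff_mem.mpr hx]
    exact q.zero_mem
  let R := Localization.AtPrime Q
  haveI : IsRegularLocalRing R := IsRegularRing.isRegularLocalRing_localization Q
  set J : Ideal R := I.map (algebraMap P R) with hJ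
  have hJm : J ≤ maximalIdeal R := by
    rw [← IsLocalization.AtPrime.map_eq_maximalIdeal Q R]
    exact Ideal.map_mono hIQ
  have hsub : Algebra.algebraMapSubmonoid (P ⧸ I) Q.primeCompl = q.primeCompl := by
    ext x
    constructor
    · rintro ⟨y, hy, rfl⟩
      intro hmemq
      apply hy
      rw [hQ]
      exact hmemq
    · intro hx
      obtain ⟨y, rfl⟩ := Ideal.Quotient.mk_surjective x
      refine ⟨y, ?_, rfl⟩
      intro hy
      rw [hQ] at hy
      exact hx hy
  haveI hloc : IsLocalization.AtPrime (R ⧸ J) q := by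
    have h := (inferInstance : IsLocalization (Algebra.algebraMapSubmonoid (P ⧸ I) Q.primeCompl)
      (R ⧸ I.map (algebraMap P R)))
    rwa [hsub] at h
  haveI : IsLocalRing (R ⧸ J) := IsLocalization.AtPrime.isLocalRing _ q
  have h3 : ringKrullDim R = Q.height := IsLocalization.AtPrime.ringKrullDim_eq_height Q R
  have h4 : ringKrullDim (R ⧸ J) = q.height :=
    IsLocalization.AtPrime.ringKrullDim_eq_height q (R ⧸ J)
  obtain ⟨c, hc⟩ := ENat.ne_top_iff_exists.mp (Ideal.height_ne_top_of_isPrime (I := Q))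
  have hn : ringKrullDim R = (c : ℕ) := by
    rw [h3, ← hc]
    rfl
  obtain ⟨hdep, hdim⟩ := Groth.Agent.H29.NormFlatLoc.depth_dim_quot I Q
  haveI : Nontrivial (LocalizedModule Q.primeCompl (P ⧸ I)) := by
    rw [← Module.supportDim_ne_bot_iff_nontrivial R, hdim, h4]
    exact WithBot.coe_ne_bot
  obtain ⟨e, hen, he1, he2, he3, _⟩ := Groth.Agent.H29.exists_pd_eq_of_isRegularLocalRing R c hn
    (LocalizedModule Q.primeCompl (P ⧸ I))
  have hdfin : LocCoh.depth R (LocalizedModule Q.primeCompl (P ⧸ I)) ≠ ⊤ := by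
    intro h
    rw [h] at he3
    simp at he3
  obtain ⟨d, hd⟩ := ENat.ne_top_iff_exists.mp hdfin
  have hle := Groth.Agent.H29.depth_le_supportDim R (LocalizedModule Q.primeCompl (P ⧸ I))
  rw [hdim, h4, ← hd] at hle
  haveI : IsLocalHom (algebraMap R (R ⧸ J)) :=
    IsLocalHom.of_surjective _ Ideal.Quotient.mk_surjective
  have hdep2 := Groth.Agent.H29.depth_eq_depth_of_isLocalHom R (R ⧸ J) (R ⧸ J)
  let eq : Localization.AtPrime q ≃+* (R ⧸ J) :=
    (IsLocalization.algEquiv q.primeCompl (Localization.AtPrime q) (R ⧸ J)).toRingEquiv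
  have hcmiff : LocCoh.IsCohenMacaulayLocalRing (R ⧸ J) ↔ (d : ℕ∞) = q.height := by
    have key : LocCoh.IsCohenMacaulayModule (R ⧸ J) (R ⧸ J) ↔ (d : ℕ∞) = q.height := by
      unfold LocCoh.IsCohenMacaulayModule
      rw [Module.supportDim_self_eq_ringKrullDim, h4, ← hdep2, ← hdep, ← hd, WithBot.coe_eq_coe]
      exact eq_comm
    exact ⟨fun h => key.mp h.supportDim_eq_depth, fun h => { supportDim_eq_depth := key.mpr h }⟩
  refine ⟨e, d, c, hc.symm, ?_, he1, he2, by exact_mod_cast hle, ?_⟩
  · rw [← hd] at he3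
    exact_mod_cast he3
  · rw [← hcmiff]
    exact ⟨fun h => Groth.Agent.H29.GCI.cmLocal_of_ringEquiv eq h,
      fun h => Groth.Agent.H29.GCI.cmLocal_of_ringEquiv eq.symm h⟩

/-- `ht Q ≤ ht q + ht p` for a minimal prime `p ≤ Q` of `I` (uses that `P_Q` is Cohen–Macaulay). -/
theorem height_le_add (q : Ideal (P ⧸ I)) [hq : q.IsPrime] (Q : Ideal P) [hQp : Q.IsPrime]
    (hQ : Q = q.comap (Ideal.Quotient.mk I)) (p : Ideal P) (hp : p ∈ I.minimalPrimes)
    (hpQ : p ≤ Q) : Q.height ≤ q.height + p.height := by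
  haveI hP : p.IsPrime := hp.1.1
  have hIp : I ≤ p := hp.1.2
  let L := Localization.AtPrime Q
  haveI : IsRegularLocalRing L := IsRegularRing.isRegularLocalRing_localization Q
  haveI : LocCoh.IsCohenMacaulayLocalRing L :=
    { supportDim_eq_depth := Groth.Agent.H29.isCohenMacaulayModule_self_of_isRegularLocalRing L }
  have hdisj : Disjoint (Q.primeCompl : Set P) (p : Set P) := by
    rw [Set.disjoint_left]
    intro x hx hxP
    exact hx (hpQ hxP)
  set 𝔭 : Ideal L := p.map (algebraMap P L) with h𝔭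
  haveI : 𝔭.IsPrime := IsLocalization.isPrime_of_isPrime_disjoint Q.primeCompl L p hP hdisj
  have hform := Groth.Agent.Helper1.CMCatenary.dim_formula L 𝔭
  have h1 : ringKrullDim L = Q.height := IsLocalization.AtPrime.ringKrullDim_eq_height Q L
  have h3 : 𝔭.height = p.height := IsLocalization.height_map_of_disjoint Q.primeCompl p hdisj
  set qp : Ideal (P ⧸ p) := Q.map (Ideal.Quotient.mk p) with hqp
  haveI hqpp : qp.IsPrime :=
    Ideal.map_isPrime_of_surjective Ideal.Quotient.mk_surjective (by rw [Ideal.mk_ker]; exact hpQ)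
  have hcomap : qp.comap (Ideal.Quotient.mk p) = Q := by
    rw [hqp, Ideal.comap_map_of_surjective _ Ideal.Quotient.mk_surjective,
      ← RingHom.ker_eq_comap_bot, Ideal.mk_ker, sup_eq_left]
    exact hpQ
  have hsub : Algebra.algebraMapSubmonoid (P ⧸ p) Q.primeCompl = qp.primeCompl := by
    ext x
    constructor
    · rintro ⟨y, hy, rfl⟩
      intro hmemq
      apply hy
      have : y ∈ qp.comap (Ideal.Quotient.mk p) := hmemq
      rwa [hcomap] at this
    · intro hx
      obtain ⟨y, rfl⟩ := Ideal.Quotient.mk_surjective x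
      refine ⟨y, ?_, rfl⟩
      intro hy
      exact hx (Ideal.mem_map_of_mem _ hy)
  haveI : IsLocalization.AtPrime (L ⧸ 𝔭) qp := by
    have h := (inferInstance : IsLocalization (Algebra.algebraMapSubmonoid (P ⧸ p) Q.primeCompl)
      (L ⧸ p.map (algebraMap P L)))
    rwa [hsub] at h
  have h4 : ringKrullDim (L ⧸ 𝔭) = qp.height :=
    IsLocalization.AtPrime.ringKrullDim_eq_height qp (L ⧸ 𝔭)
  let φ : P ⧸ I →+* P ⧸ p := Ideal.Quotient.factor hIp
  have hφ : Function.Surjective φ := Ideal.Quotient.factor_surjective hIp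
  have hqc : qp.comap φ = q := by
    apply Ideal.comap_injective_of_surjective (Ideal.Quotient.mk I) Ideal.Quotient.mk_surjective
    rw [Ideal.comap_comap]
    have h1 : φ.comp (Ideal.Quotient.mk I) = Ideal.Quotient.mk p :=
      Ideal.Quotient.factor_comp_mk hIp
    rw [h1, hcomap, hQ]
  have low := Groth.Agent.S9156.height_le_height_comap φ hφ qp
  rw [hqc] at low
  rw [h1, h4, h3] at hform
  have hform' : Q.height = qp.height + p.height := by exact_mod_cast hform
  rw [hform']
  exact add_le_add low le_rfl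

omit [IsNoetherianRing P] [IsRegularRing P] in
/-- If all primes between `I` and `Q` have height at least `h`, then `ht q + h ≤ ht Q`. -/
theorem height_add_le (q : Ideal (P ⧸ I)) [hq : q.IsPrime] (h : ℕ)
    (hh : ∀ Q0 : Ideal P, Q0.IsPrime → I ≤ Q0 → Q0 ≤ q.comap (Ideal.Quotient.mk I) →
      (h : ℕ∞) ≤ Q0.height) :
    q.height + h ≤ (q.comap (Ideal.Quotient.mk I)).height := by
  haveI : (q.comap (Ideal.Quotient.mk I)).IsPrime := Ideal.comap_isPrime _ q
  have hf : StrictMono (PrimeSpectrum.comap (Ideal.Quotient.mk I)) := by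
    have hmono : Monotone (PrimeSpectrum.comap (Ideal.Quotient.mk I)) :=
      fun a b hab => Ideal.comap_mono hab
    exact hmono.strictMono_of_injective
      (PrimeSpectrum.comap_injective_of_surjective _ Ideal.Quotient.mk_surjective)
  have hIle : ∀ x : PrimeSpectrum (P ⧸ I),
      I ≤ (PrimeSpectrum.comap (Ideal.Quotient.mk I) x).asIdeal := by
    intro x y hy
    show Ideal.Quotient.mk I y ∈ x.asIdeal
    rw [Ideal.Quotient.eq_zero_iff_mem.mpr hy]
    exact x.asIdeal.zero_mem
  have e1 : q.height = Order.height (⟨q, hq⟩ : PrimeSpectrum (P ⧸ I)) :=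
    PrimeSpectrum.height_eq_orderHeight ⟨q, hq⟩
  have e2 : (q.comap (Ideal.Quotient.mk I)).height =
      Order.height (PrimeSpectrum.comap (Ideal.Quotient.mk I) ⟨q, hq⟩) :=
    PrimeSpectrum.height_eq_orderHeight (PrimeSpectrum.comap (Ideal.Quotient.mk I) ⟨q, hq⟩)
  rw [e1, e2]
  rcases eq_or_ne (Order.height (PrimeSpectrum.comap (Ideal.Quotient.mk I) ⟨q, hq⟩)) ⊤ with
    htop | hne
  · rw [htop]
    exact le_top
  obtain ⟨n, hn⟩ := ENat.ne_top_iff_exists.mp hne
  have hhn : h ≤ n := by
    have := hh (q.comap (Ideal.Quotient.mk I)) inferInstance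
      (hIle ⟨q, hq⟩) le_rfl
    rw [e2, ← hn] at this
    exact_mod_cast this
  have hbound : Order.height (⟨q, hq⟩ : PrimeSpectrum (P ⧸ I)) ≤ ((n - h : ℕ) : ℕ∞) := by
    rw [Order.height_le_iff']
    intro s hs
    have h1 := Groth.Agent.S2141.height_add_length_le (s.map _ hf)
    rw [LTSeries.head_map, LTSeries.last_map, hs, ← hn, LTSeries.map_length] at h1
    have h2 : (h : ℕ∞) ≤ Order.height (PrimeSpectrum.comap (Ideal.Quotient.mk I) s.head) := by
      rw [← PrimeSpectrum.height_eq_orderHeight]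
      refine hh _ (PrimeSpectrum.comap (Ideal.Quotient.mk I) s.head).isPrime (hIle s.head) ?_
      have hle : s.head ≤ (⟨q, hq⟩ : PrimeSpectrum (P ⧸ I)) := by
        rw [← hs]
        exact LTSeries.head_le_last s
      exact Ideal.comap_mono hle
    have h3 : (h : ℕ∞) + (s.length : ℕ∞) ≤ (n : ℕ∞) := (add_le_add h2 le_rfl).trans h1
    have h4 : h + s.length ≤ n := by exact_mod_cast h3
    have h5 : s.length ≤ n - h := by omega
    exact_mod_cast h5
  rw [← hn]
  calc Order.height (⟨q, hq⟩ : PrimeSpectrum (P ⧸ I)) + (h : ℕ∞)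
      ≤ ((n - h : ℕ) : ℕ∞) + (h : ℕ∞) := add_le_add hbound le_rfl
    _ = (n : ℕ∞) := by
      have : n - h + h = n := by omega
      exact_mod_cast this

/-- The Cohen–Macaulay locus of a quotient of a regular ring is open. -/
theorem isOpen_cm_quot :
    IsOpen {q : PrimeSpectrum (P ⧸ I) |
      LocCoh.IsCohenMacaulayLocalRing (Localization.AtPrime q.asIdeal)} := by
  classical
  rw [isOpen_iff_forall_mem_open]
  intro q0 hq0
  haveI : (q0.asIdeal.comap (Ideal.Quotient.mk I)).IsPrime := Ideal.comap_isPrime _ _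
  obtain ⟨e0, d0, c0, hc0, hsum0, hpd0, hnpd0, hdle0, hcm0⟩ :=
    local_numerics P I q0.asIdeal (q0.asIdeal.comap (Ideal.Quotient.mk I)) rfl
  have hd0 : (d0 : ℕ∞) = q0.asIdeal.height := hcm0.mp hq0
  have hfin : I.minimalPrimes.Finite := Ideal.finite_minimalPrimes_of_isNoetherianRing P I
  let Z : Set (PrimeSpectrum P) := ⋃ p ∈ {p ∈ I.minimalPrimes | p.height < (e0 : ℕ∞)},
    PrimeSpectrum.zeroLocus (p : Set P)
  have hZ : IsClosed Z := (hfin.subset (Set.sep_subset _ _)).isClosed_biUnion
    (fun p _ => PrimeSpectrum.isClosed_zeroLocus _)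
  let O : Set (PrimeSpectrum P) := Groth.Agent.H29.pdLocus P (P ⧸ I) e0 ∩ Zᶜ
  have hO : IsOpen O := (Groth.Agent.H29.isOpen_pdLocus P e0 (P ⧸ I)).inter hZ.isOpen_compl
  refine ⟨(PrimeSpectrum.comap (Ideal.Quotient.mk I)) ⁻¹' O, ?_,
    hO.preimage (PrimeSpectrum.continuous_comap _), ?_⟩
  · -- every point of the neighbourhood is Cohen–Macaulay
    intro q hqO
    obtain ⟨hqpd, hqZ⟩ := hqO
    haveI : (q.asIdeal.comap (Ideal.Quotient.mk I)).IsPrime := Ideal.comap_isPrime _ _
    obtain ⟨e, d, c, hc, hsum, hpd, hnpd, hdle, hcm⟩ :=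
      local_numerics P I q.asIdeal (q.asIdeal.comap (Ideal.Quotient.mk I)) rfl
    have hee0 : e ≤ e0 := by
      by_contra hcon
      push Not at hcon
      apply hnpd
      have hqpd' : HasProjectiveDimensionLT (ModuleCat.of
          (Localization.AtPrime (q.asIdeal.comap (Ideal.Quotient.mk I)))
          (LocalizedModule (q.asIdeal.comap (Ideal.Quotient.mk I)).primeCompl (P ⧸ I)))
          (e0 + 1) := hqpd
      exact hasProjectiveDimensionLT_of_ge _ (e0 + 1) e (by omega)
    have hbound : q.asIdeal.height + (e0 : ℕ∞) ≤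
        (q.asIdeal.comap (Ideal.Quotient.mk I)).height := by
      apply height_add_le P I q.asIdeal e0
      intro Q0 hQ0 hIQ0 hQ0q
      haveI := hQ0
      obtain ⟨p, hpmin, hpQ0⟩ := Ideal.exists_minimalPrimes_le hIQ0
      have hpge : (e0 : ℕ∞) ≤ p.height := by
        by_contra hlt
        push Not at hlt
        apply hqZ
        show PrimeSpectrum.comap (Ideal.Quotient.mk I) q ∈ Z
        simp only [Z, Set.mem_iUnion]
        exact ⟨p, ⟨hpmin, hlt⟩, hpQ0.trans hQ0q⟩
      exact hpge.trans (Ideal.height_mono hpQ0)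
    rw [hc] at hbound
    show LocCoh.IsCohenMacaulayLocalRing (Localization.AtPrime q.asIdeal)
    rw [hcm]
    apply le_antisymm hdle
    -- ht q + e0 ≤ c = d + e ≤ d + e0
    obtain ⟨a, ha⟩ := ENat.ne_top_iff_exists.mp (Ideal.height_ne_top_of_isPrime (I := q.asIdeal))
    rw [← ha] at hbound ⊢
    have h1 : a + e0 ≤ c := by exact_mod_cast hbound
    have h2 : a ≤ d := by omega
    exact_mod_cast h2
  · -- q0 lies in the neighbourhood
    refine ⟨hpd0, ?_⟩
    intro hmemZ
    simp only [Z, Set.mem_iUnion] at hmemZ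
    obtain ⟨p, ⟨hpmin, hlt⟩, hpQ0⟩ := hmemZ
    have hpQ0' : p ≤ q0.asIdeal.comap (Ideal.Quotient.mk I) := hpQ0
    have h1 := height_le_add P I q0.asIdeal (q0.asIdeal.comap (Ideal.Quotient.mk I)) rfl p hpmin
      hpQ0'
    rw [hc0, ← hd0] at h1
    haveI : p.IsPrime := hpmin.1.1
    obtain ⟨b, hb⟩ := ENat.ne_top_iff_exists.mp (Ideal.height_ne_top_of_isPrime (I := p))
    rw [← hb] at h1 hlt
    have h2 : c0 ≤ d0 + b := by exact_mod_cast h1
    have h3 : b < e0 := by exact_mod_cast hlt
    omega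

end Quot

/-- The Cohen–Macaulay locus of a finite type algebra over a field is open. -/
theorem result (k S : Type u) [Field k] [CommRing S] [Algebra k S]
    [Algebra.FiniteType k S] :
    IsOpen {q : PrimeSpectrum S | LocCoh.IsCohenMacaulayLocalRing (Localization.AtPrime q.asIdeal)} := by

  haveI : IsNoetherianRing S := Algebra.FiniteType.isNoetherianRing k S
  obtain ⟨n, π, hπ⟩ := Algebra.FiniteType.iff_quotient_mvPolynomial''.mp
    (inferInstance : Algebra.FiniteType k S)
  let e : (MvPolynomial (Fin n) k ⧸ RingHom.ker π.toRingHom) ≃+* S :=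
    RingHom.quotientKerEquivOfSurjective (f := π.toRingHom) hπ
  have hopen := isOpen_cm_quot (MvPolynomial (Fin n) k) (RingHom.ker π.toRingHom)
  have hset : {q : PrimeSpectrum S |
      LocCoh.IsCohenMacaulayLocalRing (Localization.AtPrime q.asIdeal)} =
      (PrimeSpectrum.comap (e : (MvPolynomial (Fin n) k ⧸ RingHom.ker π.toRingHom) →+* S)) ⁻¹'
        {q | LocCoh.IsCohenMacaulayLocalRing (Localization.AtPrime q.asIdeal)} := by
    ext q
    haveI : (q.asIdeal.comap
        (e : (MvPolynomial (Fin n) k ⧸ RingHom.ker π.toRingHom) →+* S)).IsPrime :=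
      Ideal.comap_isPrime _ _
    exact cmLocal_iff_of_ringEquiv e q.asIdeal
  rw [hset]
  exact hopen.preimage (PrimeSpectrum.continuous_comap _)


end Groth.Agent.S9152
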