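import Groth.Statements.S9153
import Mathlib
import Groth.Agent.S2084
import Groth.Agent.H29.RegLocal3

set_option autoImplicit false
universe u
open CAlg

namespace Groth.Agent.S9153


/-- In a Noetherian ring all of whose local rings are Cohen–Macaulay, `P ⋖ Q` implies
`ht Q = ht P + 1`. -/
theorem height_succ_of_covBy_CM (S : Type u) [CommRing S] [IsNoetherianRing S]
    (hCM : ∀ (p : Ideal S) [p.IsPrime],
      LocCoh.IsCohenMacaulayModule (Localization.AtPrime p) (Localization.AtPrime p))
    (P Q : PrimeSpectrum S) (hPQ : P ⋖ Q) : Q.asIdeal.height = P.asIdeal.height + 1 := by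
  have hdisj : Disjoint (Q.asIdeal.primeCompl : Set S) (P.asIdeal : Set S) := by
    rw [Set.disjoint_left]
    intro x hx hxP
    exact hx (hPQ.le hxP)
  haveI hP'prime : (P.asIdeal.map (algebraMap S (Localization.AtPrime Q.asIdeal))).IsPrime :=
    IsLocalization.isPrime_of_isPrime_disjoint Q.asIdeal.primeCompl _ P.asIdeal P.2 hdisj
  let P' : PrimeSpectrum (Localization.AtPrime Q.asIdeal) :=
    ⟨P.asIdeal.map (algebraMap S (Localization.AtPrime Q.asIdeal)), hP'prime⟩
  have hcomapP' : P'.asIdeal.comap (algebraMap S (Localization.AtPrime Q.asIdeal)) = P.asIdeal :=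
    IsLocalization.under_map_of_isPrime_disjoint Q.asIdeal.primeCompl _ P.2 hdisj
  have hcov : P' ⋖ (⊤ : PrimeSpectrum (Localization.AtPrime Q.asIdeal)) := by
    have hinj := PrimeSpectrum.localization_comap_injective (Localization.AtPrime Q.asIdeal)
      Q.asIdeal.primeCompl
    have hcP' : PrimeSpectrum.comap (algebraMap S (Localization.AtPrime Q.asIdeal)) P' = P :=
      PrimeSpectrum.ext hcomapP'
    have hcTop : PrimeSpectrum.comap (algebraMap S (Localization.AtPrime Q.asIdeal)) ⊤ = Q :=
      PrimeSpectrum.ext (IsLocalization.AtPrime.under_maximalIdeal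
        (Localization.AtPrime Q.asIdeal) Q.asIdeal)
    have hmono : ∀ x y : PrimeSpectrum (Localization.AtPrime Q.asIdeal), x ≤ y →
        PrimeSpectrum.comap (algebraMap S (Localization.AtPrime Q.asIdeal)) x ≤
          PrimeSpectrum.comap (algebraMap S (Localization.AtPrime Q.asIdeal)) y :=
      fun x y h => Ideal.comap_mono h
    refine ⟨lt_of_le_of_ne le_top (fun h => ?_), fun x hx1 hx2 => ?_⟩
    · have : P = Q := by rw [← hcP', h, hcTop]
      exact hPQ.lt.ne this
    · have h1 : P < PrimeSpectrum.comap (algebraMap S (Localization.AtPrime Q.asIdeal)) x :=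
        lt_of_eq_of_lt hcP'.symm
          (lt_of_le_of_ne (hmono _ _ hx1.le) (fun h => hx1.ne (hinj h)))
      have h2 : PrimeSpectrum.comap (algebraMap S (Localization.AtPrime Q.asIdeal)) x < Q :=
        lt_of_lt_of_eq
          (lt_of_le_of_ne (hmono _ _ hx2.le) (fun h => hx2.ne (hinj h))) hcTop
      exact hPQ.2 h1 h2
  have hsupp : Module.support (Localization.AtPrime Q.asIdeal) (Localization.AtPrime Q.asIdeal) =
      Set.univ := by
    rw [Module.support_of_algebra]
    have hk : RingHom.ker (algebraMap (Localization.AtPrime Q.asIdeal)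
        (Localization.AtPrime Q.asIdeal)) = ⊥ := by
      ext x
      simp [RingHom.mem_ker]
    rw [hk]
    simp
  have key := Groth.Agent.S2084.height_succ_of_covBy (Localization.AtPrime Q.asIdeal)
    (Localization.AtPrime Q.asIdeal) (hCM Q.asIdeal) hsupp P' ⊤ hcov
  have h5 : P'.asIdeal.height = P.asIdeal.height :=
    IsLocalization.height_map_of_disjoint Q.asIdeal.primeCompl P.asIdeal hdisj
  have h2 : (⊤ : PrimeSpectrum (Localization.AtPrime Q.asIdeal)).asIdeal.height =
      Q.asIdeal.height := by
    have h := IsLocalization.AtPrime.ringKrullDim_eq_height Q.asIdeal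
      (Localization.AtPrime Q.asIdeal)
    rw [← IsLocalRing.maximalIdeal_height_eq_ringKrullDim] at h
    exact WithBot.coe_injective h
  rw [← h2, key, h5]

/-- In a polynomial ring in finitely many variables over a field, every saturated chain of primes
between two primes p ⊆ q has length equal to the difference of their heights (stated additively:
length + height p = height q). -/
theorem result (k : Type u) [Field k] (n : ℕ)
    (s : LTSeries (PrimeSpectrum (MvPolynomial (Fin n) k)))
    (hsat : ∀ i : Fin s.length, s (Fin.castSucc i) ⋖ s (Fin.succ i)) :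
    (s.length : ℕ∞) + s.head.asIdeal.height = s.last.asIdeal.height := by
  have hCM : ∀ (p : Ideal (MvPolynomial (Fin n) k)) [p.IsPrime],
      LocCoh.IsCohenMacaulayModule (Localization.AtPrime p) (Localization.AtPrime p) := by
    intro p _
    exact Groth.Agent.H29.isCohenMacaulayModule_self_of_isRegularLocalRing _
  have key : ∀ i : Fin (s.length + 1),
      (s i).asIdeal.height = s.head.asIdeal.height + ((i : ℕ) : ℕ∞) := by
    intro i
    induction i using Fin.induction with
    | zero => simp [RelSeries.head]
    | succ i ih =>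
      have h1 := height_succ_of_covBy_CM (MvPolynomial (Fin n) k) hCM _ _ (hsat i)
      rw [h1, ih]
      simp [add_assoc]
  have hlast := key (Fin.last s.length)
  rw [add_comm]
  exact hlast.symm

end Groth.Agent.S9153
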