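import Groth.Statements.S9154
import Mathlib
import Groth.Agent.S2141
import Groth.Agent.S2143
import Groth.Agent.H29.CMLib
import Groth.Agent.H29.RegLocal

set_option autoImplicit false
universe u
open CAlg

namespace Groth.Agent.S9154


set_option linter.style.haveILetI false
set_option linter.unusedSectionVars false

open RingTheory.Sequence IsLocalRing

/-- In an equidimensional finite type algebra over a field, `d ≤ dim S/q + ht q`. -/
theorem d_le (k S : Type u) [Field k] [CommRing S] [Algebra k S]
    [Algebra.FiniteType k S] (d : ℕ)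
    (heq : ∀ p ∈ minimalPrimes S, ringKrullDim (S ⧸ p) = d) (q : Ideal S) [hq : q.IsPrime] :
    (d : WithBot ℕ∞) ≤ ringKrullDim (S ⧸ q) + ((q.height : ℕ∞) : WithBot ℕ∞) := by
  obtain ⟨p, hpmin, hpq⟩ := Ideal.exists_minimalPrimes_le (bot_le : (⊥ : Ideal S) ≤ q)
  haveI : p.IsPrime := hpmin.1.1
  haveI : IsDomain (S ⧸ p) := Ideal.Quotient.isDomain p
  haveI hq' : (q.map (Ideal.Quotient.mk p)).IsPrime :=
    Ideal.map_isPrime_of_surjective Ideal.Quotient.mk_surjective (by rw [Ideal.mk_ker]; exact hpq)
  have h1 := Groth.Agent.S2141.dim_le_height_add k (S ⧸ p) (q.map (Ideal.Quotient.mk p))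
  have h2 := Groth.Agent.S2143.height_quot_le p q hpq
  rw [heq p hpmin] at h1
  let e : ((S ⧸ p) ⧸ q.map (Ideal.Quotient.mk p)) ≃+* S ⧸ q :=
    (DoubleQuot.quotQuotEquivQuotSup p q).trans (Ideal.quotEquivOfEq (sup_eq_right.mpr hpq))
  rw [ringKrullDim_eq_of_ringEquiv e] at h1
  exact h1.trans (add_le_add le_rfl (by exact_mod_cast h2))

/-- The local facts at a prime `q ⊇ I = (f)`. -/
theorem local_facts (S : Type u) [CommRing S] [IsNoetherianRing S] (f : List S)
    (q : Ideal S) [hq : q.IsPrime] (hIq : Ideal.ofList f ≤ q) :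
    ∃ (qb : Ideal (S ⧸ Ideal.ofList f)) (_ : qb.IsPrime),
      Nonempty (((S ⧸ Ideal.ofList f) ⧸ qb) ≃+* S ⧸ q) ∧
      q.height ≤ qb.height + f.length ∧
      (LocCoh.IsCohenMacaulayLocalRing (Localization.AtPrime q) →
        qb.height + f.length = q.height →
        RingTheory.Sequence.IsRegular (Localization.AtPrime q)
          (f.map (algebraMap S (Localization.AtPrime q)))) := by
  set I : Ideal S := Ideal.ofList f with hI
  set qb : Ideal (S ⧸ I) := q.map (Ideal.Quotient.mk I) with hqb
  haveI hqbp : qb.IsPrime :=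
    Ideal.map_isPrime_of_surjective Ideal.Quotient.mk_surjective (by rw [Ideal.mk_ker]; exact hIq)
  have hcomap : qb.comap (Ideal.Quotient.mk I) = q := by
    rw [hqb, Ideal.comap_map_of_surjective _ Ideal.Quotient.mk_surjective,
      ← RingHom.ker_eq_comap_bot, Ideal.mk_ker, sup_eq_left]
    exact hIq
  let R := Localization.AtPrime q
  set J : Ideal R := I.map (algebraMap S R) with hJ
  set xs : List R := f.map (algebraMap S R) with hxs
  have hof : Ideal.ofList xs = J := by
    rw [hxs, ← Ideal.map_ofList]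
  have hJm : J ≤ maximalIdeal R := by
    rw [← IsLocalization.AtPrime.map_eq_maximalIdeal q R]
    exact Ideal.map_mono hIq
  have hmem : ∀ y ∈ xs, y ∈ maximalIdeal R := by
    intro y hy
    apply hJm
    rw [← hof]
    exact Ideal.subset_span hy
  have e1 : Ideal.ofList xs • (⊤ : Submodule R R) = J := by
    rw [smul_eq_mul, Ideal.mul_top, hof]
  have hsub : Algebra.algebraMapSubmonoid (S ⧸ I) q.primeCompl = qb.primeCompl := by
    ext x
    constructor
    · rintro ⟨y, hy, rfl⟩
      intro hmemq
      apply hy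
      have : y ∈ qb.comap (Ideal.Quotient.mk I) := hmemq
      rwa [hcomap] at this
    · intro hx
      obtain ⟨y, rfl⟩ := Ideal.Quotient.mk_surjective x
      refine ⟨y, ?_, rfl⟩
      intro hy
      exact hx (Ideal.mem_map_of_mem _ hy)
  haveI hloc : IsLocalization.AtPrime (R ⧸ J) qb := by
    have h := (inferInstance : IsLocalization (Algebra.algebraMapSubmonoid (S ⧸ I) q.primeCompl)
      (R ⧸ I.map (algebraMap S R)))
    rwa [hsub] at h
  have h3 : ringKrullDim R = q.height := IsLocalization.AtPrime.ringKrullDim_eq_height q R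
  have h4 : ringKrullDim (R ⧸ J) = qb.height :=
    IsLocalization.AtPrime.ringKrullDim_eq_height qb (R ⧸ J)
  have hle := Groth.Agent.H29.supportDim_le_supportDim_quotient_add_length R xs R hmem
  rw [e1, Module.supportDim_self_eq_ringKrullDim, Module.supportDim_quotient_eq_ringKrullDim,
    h3, h4, hxs, List.length_map] at hle
  refine ⟨qb, hqbp, ⟨(DoubleQuot.quotQuotEquivQuotSup I q).trans
    (Ideal.quotEquivOfEq (sup_eq_right.mpr hIq))⟩, by exact_mod_cast hle, ?_⟩
  intro hCM heq
  have hCMR : LocCoh.IsCohenMacaulayModule R R := hCM.supportDim_eq_depth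
  have hreg : IsWeaklyRegular R xs := by
    apply Groth.Agent.H29.isWeaklyRegular_of_supportDim_quotient_add_length R _ R hCMR hmem
    rw [e1, Module.supportDim_self_eq_ringKrullDim, Module.supportDim_quotient_eq_ringKrullDim,
      h3, h4, hxs, List.length_map, ← heq]
    push_cast
    rfl
  exact IsRegular.of_isWeaklyRegular_of_mem_maximalIdeal R hmem hreg

/-- Let S be a Cohen–Macaulay finite type algebra over a field k, equidimensional of dimension d, and
f_1, …, f_i elements (i ≤ d) generating a proper ideal whose zero locus has dimension at most d − i.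
Then that dimension equals d − i and the f_j form a regular sequence in S_q for every prime q
containing them. (The published statement also allows the f_j to generate the unit ideal, where the
zero locus is empty and the equality fails, e.g. f_1 = 1 in k[x]; this row assumes the ideal is
proper.) -/
theorem result (k S : Type u) [Field k] [CommRing S] [Algebra k S]
    [Algebra.FiniteType k S] [LocCoh.IsCohenMacaulayRing S] (d : ℕ)
    (heq : ∀ p ∈ minimalPrimes S, ringKrullDim (S ⧸ p) = d) (f : List S) (hi : f.length ≤ d)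
    (hne : Ideal.ofList f ≠ ⊤)
    (hle : ringKrullDim (S ⧸ Ideal.ofList f) ≤ ((d - f.length : ℕ) : WithBot ℕ∞)) :
    ringKrullDim (S ⧸ Ideal.ofList f) = ((d - f.length : ℕ) : WithBot ℕ∞) ∧
      ∀ (q : Ideal S) [q.IsPrime], Ideal.ofList f ≤ q →
        RingTheory.Sequence.IsRegular (Localization.AtPrime q)
          (f.map (algebraMap S (Localization.AtPrime q))) := by

  haveI : IsNoetherianRing S := Algebra.FiniteType.isNoetherianRing k S
  set I : Ideal S := Ideal.ofList f with hI
  haveI : Nontrivial (S ⧸ I) := Ideal.Quotient.nontrivial_iff.mpr hne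
  have hD1 : ringKrullDim (S ⧸ I) ≠ ⊥ := by
    intro h
    have h0 : (0 : WithBot ℕ∞) ≤ ringKrullDim (S ⧸ I) := ringKrullDim_nonneg_of_nontrivial
    rw [h] at h0
    exact absurd (le_bot_iff.mp h0) (by simp)
  have hD2 : ringKrullDim (S ⧸ I) ≠ ⊤ := by
    intro h
    rw [h] at hle
    exact absurd hle (by
      intro h'
      have : ((⊤ : ℕ∞) : WithBot ℕ∞) ≤ (((d - f.length : ℕ) : ℕ∞) : WithBot ℕ∞) := h'
      rw [WithBot.coe_le_coe] at this
      simp at this)
  obtain ⟨D, hD⟩ := Groth.Agent.H29.withBot_exists_natCast hD1 hD2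
  rw [hD] at hle
  have hle' : D ≤ d - f.length := by exact_mod_cast hle
  -- numeric facts at a prime
  have key : ∀ (q : Ideal S) [q.IsPrime], I ≤ q →
      ∃ (a b c : ℕ) (qb : Ideal (S ⧸ I)) (_ : qb.IsPrime), qb.height = a ∧ q.height = c ∧
        a + b ≤ D ∧ d ≤ b + c ∧ c ≤ a + f.length ∧
        (qb.height + f.length = q.height →
          RingTheory.Sequence.IsRegular (Localization.AtPrime q)
            (f.map (algebraMap S (Localization.AtPrime q)))) := by
    intro q hq hIq
    obtain ⟨qb, hqbp, ⟨e⟩, h1, h2⟩ := local_facts S f q hIq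
    haveI := hqbp
    have h6 := Groth.Agent.H29.height_add_ringKrullDim_quotient_le (S ⧸ I) qb
    rw [ringKrullDim_eq_of_ringEquiv e, hD] at h6
    have h7 := d_le k S d heq q
    obtain ⟨a, ha⟩ := ENat.ne_top_iff_exists.mp (Ideal.height_ne_top_of_isPrime (I := qb))
    obtain ⟨c, hc⟩ := ENat.ne_top_iff_exists.mp (Ideal.height_ne_top_of_isPrime (I := q))
    have hb1 : ringKrullDim (S ⧸ q) ≠ ⊥ := Groth.Agent.H29.ringKrullDim_quotient_ne_bot _ q
    have hb2 : ringKrullDim (S ⧸ q) ≠ ⊤ := by
      intro h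
      rw [h, ← ha] at h6
      exact absurd h6 (by
        intro h'
        have : (((a : ℕ∞) + ⊤ : ℕ∞) : WithBot ℕ∞) ≤ (((D : ℕ) : ℕ∞) : WithBot ℕ∞) := h'
        rw [WithBot.coe_le_coe] at this
        simp at this)
    obtain ⟨b, hb⟩ := Groth.Agent.H29.withBot_exists_natCast hb1 hb2
    rw [hb, ← ha] at h6
    rw [hb, ← hc] at h7
    rw [← ha, ← hc] at h1
    refine ⟨a, b, c, qb, hqbp, ha.symm, hc.symm, ?_, ?_, ?_, ?_⟩
    · have : (((a + b : ℕ) : ℕ∞) : WithBot ℕ∞) ≤ (((D : ℕ) : ℕ∞) : WithBot ℕ∞) := by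
        push_cast
        exact h6
      exact_mod_cast this
    · have : (((d : ℕ) : ℕ∞) : WithBot ℕ∞) ≤ (((b + c : ℕ) : ℕ∞) : WithBot ℕ∞) := by
        push_cast
        exact h7
      exact_mod_cast this
    · exact_mod_cast h1
    · exact h2 (LocCoh.IsCohenMacaulayRing.isCohenMacaulayLocalRing_localization q)
  constructor
  · obtain ⟨m, hm, hIm⟩ := Ideal.exists_le_maximal I hne
    haveI : m.IsPrime := hm.isPrime
    obtain ⟨a, b, c, qb, hqbp, ha, hc, h1, h2, h3, _⟩ := key m hIm
    rw [hD]
    have : D = d - f.length := by omega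
    rw [this]
  · intro q hq hIq
    obtain ⟨a, b, c, qb, hqbp, ha, hc, h1, h2, h3, h4⟩ := key q hIq
    apply h4
    rw [ha, hc]
    have : a + f.length = c := by omega
    exact_mod_cast this


end Groth.Agent.S9154
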