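import Groth.Statements.S9157
import Mathlib

set_option autoImplicit false
universe u
open CAlg

namespace Groth.Agent.S9157

/-- If the localization S⁻¹M of an R-module M is finitely presented over S⁻¹R, then some finitely
presented R-module M' maps to M inducing an isomorphism S⁻¹M' → S⁻¹M. -/
theorem result (R : Type u) [CommRing R] (S : Submonoid R)
    (M : Type u) [AddCommGroup M] [Module R M]
    [Module.FinitePresentation (Localization S) (LocalizedModule S M)] :
    ∃ (M' : Type u) (_ : AddCommGroup M') (_ : Module R M') (φ : M' →ₗ[R] M),
      Module.FinitePresentation R M' ∧ Function.Bijective (LocalizedModule.map S φ) := by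
  classical
  obtain ⟨n, K, e, hK⟩ := Module.FinitePresentation.exists_fin (Localization S) (LocalizedModule S M)
  -- localization map on free modules
  let ι : (Fin n → R) →ₗ[R] (Fin n → Localization S) :=
    LinearMap.pi fun i => (Algebra.linearMap R (Localization S)) ∘ₗ LinearMap.proj i
  have hι : IsLocalizedModule S ι := IsLocalizedModule.pi S fun _ => Algebra.linearMap R (Localization S)
  obtain ⟨T, hT⟩ := hK
  -- choose numerators
  have hsurj : ∀ k : Fin n → Localization S, ∃ (v : Fin n → R) (s : S), s • k = ι v := by
    intro k
    obtain ⟨⟨v, s⟩, hvs⟩ := IsLocalizedModule.surj S ι k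
    exact ⟨v, s, hvs⟩
  choose v s hvs using hsurj
  let N₀ : Submodule R (Fin n → R) := Submodule.span R (v '' (T : Set (Fin n → Localization S)))
  have hN₀ : N₀.FG := Submodule.fg_span ((Finset.finite_toSet T).image v)
  have hloc : N₀.localized' (Localization S) S ι = K := by
    rw [Submodule.localized'_span, ← hT]
    apply le_antisymm
    · rw [Submodule.span_le]
      rintro _ ⟨_, ⟨k, hk, rfl⟩, rfl⟩
      rw [← hvs k]
      rw [Submonoid.smul_def, ← algebraMap_smul (Localization S) (s k : R) k]
      exact Submodule.smul_mem _ _ (Submodule.subset_span hk)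
    · rw [Submodule.span_le]
      intro k hk
      have h1 : ι (v k) ∈ Submodule.span (Localization S) (ι '' (v '' (T : Set (Fin n → Localization S)))) :=
        Submodule.subset_span ⟨_, ⟨k, hk, rfl⟩, rfl⟩
      have h2 := Submodule.smul_mem _ (IsLocalization.mk' (Localization S) (1 : R) (s k)) h1
      rw [← hvs k, Submonoid.smul_def, ← algebraMap_smul (Localization S) (s k : R) k, ← mul_smul,
        IsLocalization.mk'_spec, map_one, one_smul] at h2
      exact h2
  subst hloc
  -- the finitely presented module
  let P := (Fin n → R) ⧸ N₀
  have hP : Module.FinitePresentation R P :=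
    Module.finitePresentation_of_surjective N₀.mkQ N₀.mkQ_surjective (by rwa [Submodule.ker_mkQ])
  let ρ₀ : P →ₗ[R] (Fin n → Localization S) ⧸ N₀.localized' (Localization S) S ι :=
    N₀.toLocalizedQuotient' (Localization S) S ι
  have hρ₀ : IsLocalizedModule S ρ₀ := IsLocalizedModule.toLocalizedQuotient' _ _ _ _
  let e' : ((Fin n → Localization S) ⧸ N₀.localized' (Localization S) S ι) ≃ₗ[R] LocalizedModule S M :=
    (e.symm.restrictScalars R)
  let ρ : P →ₗ[R] LocalizedModule S M := e'.toLinearMap ∘ₗ ρ₀
  have hρ : IsLocalizedModule S ρ := IsLocalizedModule.of_linearEquiv S ρ₀ e'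
  obtain ⟨h, t, ht⟩ := Module.FinitePresentation.exists_lift_of_isLocalizedModule S
    (LocalizedModule.mkLinearMap S M) ρ
  refine ⟨P, inferInstance, inferInstance, h, hP, ?_⟩
  have key : ∀ x, LocalizedModule.map S h x = t • (IsLocalizedModule.iso S ρ x) := by
    intro x
    induction x using LocalizedModule.induction_on with
    | h p s' =>
      have e1 : IsLocalizedModule.iso S ρ (LocalizedModule.mk p s') = IsLocalizedModule.mk' ρ p s' := rfl
      rw [LocalizedModule.map_mk, e1]
      apply IsLocalizedModule.smul_injective (LocalizedModule.mkLinearMap S M) s'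
      show s' • LocalizedModule.mk (h p) s' = s' • t • _
      rw [smul_comm s' t, IsLocalizedModule.mk'_cancel']
      have := LinearMap.congr_fun ht p
      simp only [LinearMap.coe_comp, Function.comp_apply, LinearMap.smul_apply,
        LocalizedModule.mkLinearMap_apply] at this
      rw [← this, Submonoid.smul_def, LocalizedModule.smul'_mk, ← Submonoid.smul_def,
        LocalizedModule.mk_cancel]
  have hbij : Function.Bijective (fun x : LocalizedModule S M => t • x) :=
    (Module.End.isUnit_iff _).mp (IsLocalizedModule.map_units (LocalizedModule.mkLinearMap S M) t)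
  have : (LocalizedModule.map S h : LocalizedModule S P → LocalizedModule S M) =
      (fun x : LocalizedModule S M => t • x) ∘ (IsLocalizedModule.iso S ρ) := by
    funext x
    exact key x
  rw [this]
  exact hbij.comp (IsLocalizedModule.iso S ρ).bijective

end Groth.Agent.S9157
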