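import Groth.Statements.S9159
import Mathlib
import Groth.Agent.H29.GCILib
import Groth.Agent.H29.DimLocalHom
import Groth.Agent.Helper1.Miracle
import Groth.Agent.S9129
import Groth.Agent.S2141

set_option autoImplicit false
universe u
open CAlg

namespace Groth.Agent.S9159


set_option linter.style.haveILetI false
set_option linter.unusedSectionVars false

open IsLocalRing

/-- trdeg of the residue field of a prime of a finite type algebra over a field is a natural
number, namely the dimension of the quotient. -/
theorem trdeg_residueField (k S : Type u) [Field k] [CommRing S] [Algebra k S]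
    [Algebra.FiniteType k S] (q : Ideal S) [q.IsPrime] :
    ∃ t : ℕ, ringKrullDim (S ⧸ q) = t ∧ Algebra.trdeg k q.ResidueField = t := by
  obtain ⟨t, hd, htr⟩ := Groth.Agent.Helper7.GlobCI.dim_eq_trdeg k (S ⧸ q)
  refine ⟨t, hd, ?_⟩
  haveI : FaithfulSMul (S ⧸ q) q.ResidueField :=
    (faithfulSMul_iff_algebraMap_injective _ _).mpr q.injective_algebraMap_quotient_residueField
  haveI : FaithfulSMul k (S ⧸ q) :=
    (faithfulSMul_iff_algebraMap_injective _ _).mpr (algebraMap k (S ⧸ q)).injective
  haveI : Algebra.IsAlgebraic (S ⧸ q) q.ResidueField :=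
    IsLocalization.isAlgebraic _ (nonZeroDivisors (S ⧸ q))
  have h1 := trdeg_add_eq k (S ⧸ q) (A := q.ResidueField)
  rw [trdeg_eq_zero (R := S ⧸ q) (A := q.ResidueField), add_zero, htr] at h1
  exact h1.symm

/-- The closed fibre of `P_p → S_q` has dimension zero for a quasi-finite algebra. -/
theorem fibre_dim_zero (P S : Type u) [CommRing P] [CommRing S] [Algebra P S]
    [Algebra.QuasiFinite P S] (p : Ideal P) [p.IsPrime] (q : Ideal S) [q.IsPrime] [q.LiesOver p]
    [Algebra (Localization.AtPrime p) (Localization.AtPrime q)]
    [Localization.AtPrime.IsLiesOverAlgebra p q] :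
    ringKrullDim (Localization.AtPrime q ⧸ (maximalIdeal (Localization.AtPrime p)).map
      (algebraMap (Localization.AtPrime p) (Localization.AtPrime q))) = 0 := by
  set J : Ideal (Localization.AtPrime q) := (maximalIdeal (Localization.AtPrime p)).map
      (algebraMap (Localization.AtPrime p) (Localization.AtPrime q)) with hJ
  have hJle : J ≤ maximalIdeal (Localization.AtPrime q) := by
    rw [hJ, Ideal.map_le_iff_le_comap]
    intro x hx
    exact _root_.map_nonunit
      (algebraMap (Localization.AtPrime p) (Localization.AtPrime q)) x hx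
  haveI : Nontrivial (Localization.AtPrime q ⧸ J) :=
    Ideal.Quotient.nontrivial_iff.mpr (fun h =>
      (maximalIdeal.isMaximal (Localization.AtPrime q)).ne_top (top_le_iff.mp (h ▸ hJle)))
  have key : ∀ 𝔮 : Ideal (Localization.AtPrime q), 𝔮.IsPrime → J ≤ 𝔮 →
      𝔮 = maximalIdeal (Localization.AtPrime q) := by
    intro 𝔮 h𝔮 hJ𝔮
    haveI := h𝔮
    have hQ'q : 𝔮.under S ≤ q := by
      have h1 : 𝔮 ≤ maximalIdeal (Localization.AtPrime q) := IsLocalRing.le_maximalIdeal h𝔮.ne_top
      have h2 := Ideal.comap_mono (f := algebraMap S (Localization.AtPrime q)) h1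
      have h3 : (maximalIdeal (Localization.AtPrime q)).comap
          (algebraMap S (Localization.AtPrime q)) = q :=
        Localization.AtPrime.under_maximalIdeal
      rwa [h3] at h2
    have hunder : (𝔮.under S).under P = q.under P := by
      apply le_antisymm
      · exact Ideal.comap_mono hQ'q
      · rw [← Ideal.LiesOver.over (p := p) (P := q)]
        intro x hx
        show algebraMap S (Localization.AtPrime q) (algebraMap P S x) ∈ 𝔮
        rw [← IsScalarTower.algebraMap_apply P S (Localization.AtPrime q),
          IsScalarTower.algebraMap_apply P (Localization.AtPrime p) (Localization.AtPrime q)]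
        apply hJ𝔮
        apply Ideal.mem_map_of_mem
        exact (IsLocalization.AtPrime.to_map_mem_maximal_iff (Localization.AtPrime p) p x).mpr hx
    have hQq : 𝔮.under S = q :=
      Algebra.QuasiFinite.eq_of_le_of_under_eq (R := P) (𝔮.under S) q hQ'q hunder
    rw [← IsLocalization.map_under q.primeCompl (Localization.AtPrime q) 𝔮, hQq]
    exact Localization.AtPrime.map_eq_maximalIdeal
  haveI : Ring.KrullDimLE 0 (Localization.AtPrime q ⧸ J) := by
    rw [Ring.krullDimLE_zero_iff]
    intro 𝔮' h𝔮'
    haveI := h𝔮'
    have h1 := key (𝔮'.comap (Ideal.Quotient.mk J)) (Ideal.comap_isPrime _ _) (by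
      intro x hx
      rw [Ideal.mem_comap, Ideal.Quotient.eq_zero_iff_mem.mpr hx]
      exact 𝔮'.zero_mem)
    have h2 : 𝔮' = (maximalIdeal (Localization.AtPrime q)).map (Ideal.Quotient.mk J) := by
      rw [← h1, Ideal.map_comap_of_surjective _ Ideal.Quotient.mk_surjective]
    rw [h2]
    exact Ideal.IsMaximal.map_of_surjective_of_ker_le Ideal.Quotient.mk_surjective
      (by rw [Ideal.mk_ker]; exact hJle)
  have hle : ringKrullDim (Localization.AtPrime q ⧸ J) ≤ ((0 : ℕ) : WithBot ℕ∞) :=
    Ring.krullDimLE_iff.mp inferInstance
  exact le_antisymm (by simpa using hle) ringKrullDim_nonneg_of_nontrivial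

/-- Fix a field k, a k-algebra S of finite type, and a quasi-finite map of k-algebras k[y_1, …, y_d] →
S. A prime q of S has S_q flat over k[y_1, …, y_d] exactly when S_q is Cohen–Macaulay and Spec S has
local dimension d at q. -/
theorem result (k S : Type u) [Field k] [CommRing S]
    [Algebra k S] [Algebra.FiniteType k S] (d : ℕ) [Algebra (MvPolynomial (Fin d) k) S]
    [IsScalarTower k (MvPolynomial (Fin d) k) S] [Algebra.QuasiFinite (MvPolynomial (Fin d) k) S]
    (q : Ideal S) [q.IsPrime] :
    Module.Flat (MvPolynomial (Fin d) k) (Localization.AtPrime q) ↔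
      (LocCoh.IsCohenMacaulayLocalRing (Localization.AtPrime q) ∧
        FlatMor.localDim (PrimeSpectrum S) ⟨q, inferInstance⟩ = (d : WithBot ℕ∞)) := by

  classical
  haveI : IsNoetherianRing S := Algebra.FiniteType.isNoetherianRing k S
  haveI hlo : q.LiesOver (q.under (MvPolynomial (Fin d) k)) := ⟨rfl⟩
  letI : Algebra (Localization.AtPrime (q.under (MvPolynomial (Fin d) k)))
      (Localization.AtPrime q) :=
    Localization.AtPrime.algebraOfLiesOver (q.under (MvPolynomial (Fin d) k)) q
  haveI : IsLocalHom (algebraMap (Localization.AtPrime (q.under (MvPolynomial (Fin d) k)))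
      (Localization.AtPrime q)) :=
    Localization.isLocalHom_localRingHom _ _ _ Ideal.LiesOver.over
  haveI : IsRegularLocalRing (Localization.AtPrime (q.under (MvPolynomial (Fin d) k))) :=
    IsRegularRing.isRegularLocalRing_localization (q.under (MvPolynomial (Fin d) k))
  haveI : LocCoh.IsCohenMacaulayLocalRing
      (Localization.AtPrime (q.under (MvPolynomial (Fin d) k))) :=
    { supportDim_eq_depth := Groth.Agent.H29.isCohenMacaulayModule_self_of_isRegularLocalRing _ }
  have hF1 : ringKrullDim (Localization.AtPrime q ⧸
      (maximalIdeal (Localization.AtPrime (q.under (MvPolynomial (Fin d) k)))).map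
        (algebraMap (Localization.AtPrime (q.under (MvPolynomial (Fin d) k)))
          (Localization.AtPrime q))) = 0 :=
    fibre_dim_zero (MvPolynomial (Fin d) k) S (q.under (MvPolynomial (Fin d) k)) q
  have hA : ringKrullDim (Localization.AtPrime q) ≤
      ringKrullDim (Localization.AtPrime (q.under (MvPolynomial (Fin d) k))) := by
    have := Groth.Agent.H29.ringKrullDim_le_add_fibre
      (algebraMap (Localization.AtPrime (q.under (MvPolynomial (Fin d) k)))
        (Localization.AtPrime q))
    rw [hF1, add_zero] at this
    exact this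
  have hB : ∃ t : ℕ, FlatMor.localDim (PrimeSpectrum S) ⟨q, inferInstance⟩ =
        ringKrullDim (Localization.AtPrime q) + (t : WithBot ℕ∞) ∧
      (d : WithBot ℕ∞) =
        ringKrullDim (Localization.AtPrime (q.under (MvPolynomial (Fin d) k))) +
          (t : WithBot ℕ∞) := by
    obtain ⟨t, hdq, htq⟩ := trdeg_residueField k S q
    obtain ⟨t', hdp, htp⟩ := trdeg_residueField k (MvPolynomial (Fin d) k)
      (q.under (MvPolynomial (Fin d) k))
    have htt : t = t' := by
      haveI : FaithfulSMul k (q.under (MvPolynomial (Fin d) k)).ResidueField :=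
        (faithfulSMul_iff_algebraMap_injective _ _).mpr (algebraMap k _).injective
      haveI : FaithfulSMul (q.under (MvPolynomial (Fin d) k)).ResidueField q.ResidueField :=
        (faithfulSMul_iff_algebraMap_injective _ _).mpr
          (algebraMap (q.under (MvPolynomial (Fin d) k)).ResidueField q.ResidueField).injective
      haveI : Module.Finite (q.under (MvPolynomial (Fin d) k)).ResidueField q.ResidueField :=
        inferInstance
      haveI : Algebra.IsAlgebraic (q.under (MvPolynomial (Fin d) k)).ResidueField
          q.ResidueField := Algebra.IsAlgebraic.of_finite _ _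
      have h1 := trdeg_add_eq k (q.under (MvPolynomial (Fin d) k)).ResidueField
        (A := q.ResidueField)
      rw [trdeg_eq_zero (R := (q.under (MvPolynomial (Fin d) k)).ResidueField)
        (A := q.ResidueField), add_zero, htp, htq] at h1
      exact_mod_cast h1.symm
    refine ⟨t, Groth.Agent.S2141.result q t htq, ?_⟩
    have h3 := Groth.Agent.H29.GCI.mvPolynomial_height_add_dim k d
      (q.under (MvPolynomial (Fin d) k))
    rw [hdp] at h3
    rw [IsLocalization.AtPrime.ringKrullDim_eq_height (q.under (MvPolynomial (Fin d) k))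
      (Localization.AtPrime (q.under (MvPolynomial (Fin d) k))), htt]
    exact h3.symm
  have hflat : Module.Flat (MvPolynomial (Fin d) k) (Localization.AtPrime q) ↔
      Module.Flat (Localization.AtPrime (q.under (MvPolynomial (Fin d) k)))
        (Localization.AtPrime q) :=
    (Module.flat_iff_of_isLocalization
      (Localization.AtPrime (q.under (MvPolynomial (Fin d) k)))
      (q.under (MvPolynomial (Fin d) k)).primeCompl (Localization.AtPrime q)).symm
  rw [hflat]
  obtain ⟨t, h1, h2⟩ := hB
  constructor
  · intro hfl
    haveI := hfl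
    obtain ⟨hCM, hdim⟩ := Groth.Agent.S9129.result
      (Localization.AtPrime (q.under (MvPolynomial (Fin d) k))) (Localization.AtPrime q)
      (Or.inr hA)
    refine ⟨hCM, ?_⟩
    rw [h1, h2, hdim]
  · rintro ⟨hCM, hloc⟩
    haveI := hCM
    apply Groth.Agent.Helper1.Miracle.main_ring
    rw [hF1, add_zero]
    rw [h1, h2] at hloc
    have hfin1 : ringKrullDim (Localization.AtPrime q) ≠ ⊤ := ringKrullDim_lt_top.ne
    have hfin2 : ringKrullDim (Localization.AtPrime (q.under (MvPolynomial (Fin d) k))) ≠ ⊤ :=
      ringKrullDim_lt_top.ne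
    have hbot1 : ringKrullDim (Localization.AtPrime q) ≠ ⊥ := ringKrullDim_ne_bot
    have hbot2 : ringKrullDim (Localization.AtPrime (q.under (MvPolynomial (Fin d) k))) ≠ ⊥ :=
      ringKrullDim_ne_bot
    obtain ⟨a, ha⟩ := Groth.Agent.H29.withBot_exists_natCast hbot1 hfin1
    obtain ⟨b, hb⟩ := Groth.Agent.H29.withBot_exists_natCast hbot2 hfin2
    rw [ha, hb] at hloc ⊢
    have : a + t = b + t := by exact_mod_cast hloc
    have : a = b := by omega
    rw [this]


end Groth.Agent.S9159
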