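import Groth.Statements.S9160
import Mathlib

set_option autoImplicit false
universe u
open CAlg

namespace Groth.Agent.S9160

/-- In a semi-local Noetherian ring of dimension one, for nonzerodivisors a and b the length of R/(ab)
is the sum of the lengths of R/(a) and R/(b), and these lengths are finite. -/
theorem result (R : Type u) [CommRing R] [IsNoetherianRing R]
    (hsemi : Finite (MaximalSpectrum R)) (hdim : ringKrullDim R = 1) (a b : R) (ha : IsRegular a)
    (hb : IsRegular b) :
    Module.length R (R ⧸ Ideal.span ({a * b} : Set R)) =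
        Module.length R (R ⧸ Ideal.span ({a} : Set R)) + Module.length R (R ⧸ Ideal.span ({b} : Set R)) ∧
      Module.length R (R ⧸ Ideal.span ({a} : Set R)) ≠ ⊤ ∧
      Module.length R (R ⧸ Ideal.span ({b} : Set R)) ≠ ⊤ := by
  classical
  have key : ∀ c : R, IsRegular c → Module.length R (R ⧸ Ideal.span ({c} : Set R)) ≠ ⊤ := by
    intro c hc
    have hc' : c ∈ nonZeroDivisors R := hc.mem_nonZeroDivisors
    have h1 := ringKrullDim_quotient_succ_le_of_nonZeroDivisor hc'
    rw [hdim] at h1
    have h2 : ringKrullDim (R ⧸ Ideal.span {c}) ≤ 0 := by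
      generalize ringKrullDim (R ⧸ Ideal.span {c}) = x at h1
      induction x using WithBot.recBotCoe with
      | bot => exact bot_le
      | coe n =>
        have : ((n + 1 : ℕ∞) : WithBot ℕ∞) ≤ ((1 : ℕ∞) : WithBot ℕ∞) := by exact_mod_cast h1
        rw [WithBot.coe_le_coe] at this
        have hn : n = 0 := by
          induction n using ENat.recTopCoe with
          | top => simp at this
          | coe m =>
            have : m + 1 ≤ 1 := by exact_mod_cast this
            have : m = 0 := by omega
            simp [this]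
        rw [hn]
        rfl
    haveI : Ring.KrullDimLE 0 (R ⧸ Ideal.span {c}) := Ring.krullDimLE_iff.mpr (by simpa using h2)
    haveI : IsArtinianRing (R ⧸ Ideal.span {c}) := isArtinianRing_iff_krullDimLE_zero.mpr inferInstance
    haveI : IsArtinian R (R ⧸ Ideal.span {c}) :=
      isArtinian_of_surjective_algebraMap (R := R ⧸ Ideal.span {c}) (S := R)
        Ideal.Quotient.mk_surjective
    exact Module.length_ne_top
  refine ⟨?_, key a ha, key b hb⟩
  -- the exact sequence
  have hmap : Ideal.span ({b} : Set R) ≤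
      Submodule.comap (LinearMap.mulLeft R a) (Ideal.span ({a * b} : Set R)) := by
    intro x hx
    rw [Ideal.mem_span_singleton'] at hx
    obtain ⟨y, rfl⟩ := hx
    rw [Submodule.mem_comap, LinearMap.mulLeft_apply, Ideal.mem_span_singleton']
    exact ⟨y, by ring⟩
  let f : (R ⧸ Ideal.span ({b} : Set R)) →ₗ[R] (R ⧸ Ideal.span ({a * b} : Set R)) :=
    Submodule.mapQ _ _ (LinearMap.mulLeft R a) hmap
  have hle : Ideal.span ({a * b} : Set R) ≤ Ideal.span ({a} : Set R) := by
    rw [Ideal.span_singleton_le_iff_mem]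
    exact Ideal.mul_mem_right _ _ (Ideal.mem_span_singleton_self a)
  let g : (R ⧸ Ideal.span ({a * b} : Set R)) →ₗ[R] (R ⧸ Ideal.span ({a} : Set R)) :=
    Submodule.mapQ _ _ LinearMap.id hle
  have hf : ∀ x : R, f (Ideal.Quotient.mk _ x) = Ideal.Quotient.mk _ (a * x) := fun x => rfl
  have hg : ∀ x : R, g (Ideal.Quotient.mk _ x) = Ideal.Quotient.mk _ x := fun x => rfl
  have hfinj : Function.Injective f := by
    rw [← LinearMap.ker_eq_bot, LinearMap.ker_eq_bot']
    intro x hx
    obtain ⟨x, rfl⟩ := Ideal.Quotient.mk_surjective x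
    rw [hf, Ideal.Quotient.eq_zero_iff_mem, Ideal.mem_span_singleton'] at hx
    obtain ⟨y, hy⟩ := hx
    rw [Ideal.Quotient.eq_zero_iff_mem, Ideal.mem_span_singleton']
    refine ⟨y, ha.left ?_⟩
    show a * (y * b) = a * x
    rw [← hy]; ring
  have hgsurj : Function.Surjective g := by
    intro y
    obtain ⟨y, rfl⟩ := Ideal.Quotient.mk_surjective y
    exact ⟨Ideal.Quotient.mk _ y, hg y⟩
  have hex : Function.Exact f g := by
    intro y
    obtain ⟨y, rfl⟩ := Ideal.Quotient.mk_surjective y
    rw [hg, Ideal.Quotient.eq_zero_iff_mem, Ideal.mem_span_singleton']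
    constructor
    · rintro ⟨z, rfl⟩
      exact ⟨Ideal.Quotient.mk _ z, by rw [hf, mul_comm a z]⟩
    · rintro ⟨z, hz⟩
      obtain ⟨z, rfl⟩ := Ideal.Quotient.mk_surjective z
      rw [hf, Ideal.Quotient.eq, Ideal.mem_span_singleton'] at hz
      obtain ⟨w, hw⟩ := hz
      refine ⟨z - w * b, ?_⟩
      have : y = a * z - w * (a * b) := by rw [hw]; ring
      rw [this]; ring
  rw [Module.length_eq_add_of_exact f g hfinj hgsurj hex, add_comm]

end Groth.Agent.S9160
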