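import Groth.Statements.S9162
import Mathlib
import Groth.Agent.Lib.Helper24.CotangentStable

set_option autoImplicit false
universe u
open CAlg

namespace Groth.Agent.S9162

open Algebra Algebra.Extension in
/-- A hom of extensions between two polynomial presentations. -/
theorem exists_hom {R S : Type u} [CommRing R] [CommRing S] [Algebra R S] {n : ℕ}
    {P' : Type u} [CommRing P'] [Algebra R P']
    (α : MvPolynomial (Fin n) R →ₐ[R] S) (hα : Function.Surjective α)
    (β : P' →ₐ[R] S) (hβ : Function.Surjective β) :
    Nonempty ((Extension.ofSurjective α hα).Hom (Extension.ofSurjective β hβ)) := by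
  choose v hv using fun i : Fin n => hβ (α (MvPolynomial.X i))
  let f : MvPolynomial (Fin n) R →ₐ[R] P' := MvPolynomial.aeval v
  have hf : β.comp f = α := by
    apply MvPolynomial.algHom_ext
    intro i
    simp [f, hv]
  refine ⟨{ toRingHom := f.toRingHom, toRingHom_algebraMap := ?_, algebraMap_toRingHom := ?_ }⟩
  · intro x
    exact f.commutes x
  · intro x
    exact DFunLike.congr_fun hf x

open Algebra Algebra.Extension in
/-- The cotangent space of a polynomial presentation is free. -/
noncomputable def cotangentSpaceEquiv {R S : Type u} [CommRing R] [CommRing S] [Algebra R S] {n : ℕ}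
    (α : MvPolynomial (Fin n) R →ₐ[R] S) (hα : Function.Surjective α) :
    (Extension.ofSurjective α hα).CotangentSpace ≃ₗ[S] (Fin n → S) :=
  letI : Algebra (MvPolynomial (Fin n) R) S := α.toAlgebra
  ((KaehlerDifferential.mvPolynomialBasis R (Fin n)).baseChange S).equivFun


/-- Let S be an R-algebra and α : R[x_1, …, x_n] → S, β : R[y_1, …, y_m] → S surjective R-algebra maps
(presentations by polynomial rings in finitely many variables; the kernels I and J need not be
finitely generated). Then I/I² ⊕ S^m and J/J² ⊕ S^n are isomorphic S-modules. -/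
theorem result (R S : Type u) [CommRing R] [CommRing S]
    [Algebra R S] (n m : ℕ) (α : MvPolynomial (Fin n) R →ₐ[R] S) (hα : Function.Surjective α)
    (β : MvPolynomial (Fin m) R →ₐ[R] S) (hβ : Function.Surjective β) :
    Nonempty (((Algebra.Extension.ofSurjective α hα).Cotangent × (Fin m → S)) ≃ₗ[S]
      ((Algebra.Extension.ofSurjective β hβ).Cotangent × (Fin n → S))) := by
  obtain ⟨f⟩ := exists_hom α hα β hβ
  obtain ⟨g⟩ := exists_hom β hβ α hα
  obtain ⟨e⟩ := Groth.Agent.Helper24.nonempty_cotangent_prod_equiv _ _ f g
  exact ⟨(LinearEquiv.prodCongr (LinearEquiv.refl _ _) (cotangentSpaceEquiv β hβ).symm) ≪≫ₗ e ≪≫ₗ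
    (LinearEquiv.prodCongr (LinearEquiv.refl _ _) (cotangentSpaceEquiv α hα))⟩

end Groth.Agent.S9162
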