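import Groth.Statements.S9163
import Mathlib

set_option autoImplicit false
universe u
open CAlg

namespace Groth.Agent.S9163

/-- If S is integral over R, then any finitely many elements of R and of S lie in a pair R₀ ⊆ R, S₀ ⊆ S
with R₀ a finite type ℤ-subalgebra, S₀ an R₀-subalgebra of S, and S₀ finite as an R₀-module; so R →
S is the directed colimit of finite maps between finite type ℤ-algebras. -/
theorem result (R S : Type u) [CommRing R] [CommRing S] [Algebra R S]
    [Algebra.IsIntegral R S] (E : Finset R) (F : Finset S) :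
    ∃ (R₀ : Subalgebra ℤ R) (S₀ : Subalgebra R₀ S), Algebra.FiniteType ℤ R₀ ∧ (E : Set R) ⊆ R₀ ∧
      (F : Set S) ⊆ S₀ ∧ Module.Finite R₀ S₀ := by
  classical
  have hint : ∀ y : S, ∃ p : Polynomial R, p.Monic ∧ Polynomial.eval₂ (algebraMap R S) y p = 0 :=
    fun y => Algebra.IsIntegral.isIntegral y
  choose p hpm hp0 using hint
  let G : Finset R := E ∪ F.biUnion (fun y => (p y).coeffs)
  let R₀ : Subalgebra ℤ R := Algebra.adjoin ℤ (G : Set R)
  have hGsub : (G : Set R) ⊆ R₀ := Algebra.subset_adjoin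
  have hFT : Algebra.FiniteType ℤ R₀ := by
    rw [← Subalgebra.fg_iff_finiteType]
    exact ⟨G, rfl⟩
  have hE : (E : Set R) ⊆ R₀ := by
    intro x hx
    apply hGsub
    simp only [G, Finset.coe_union, Set.mem_union]
    exact Or.inl hx
  have hcoef : ∀ y ∈ F, ((p y).coeffs : Set R) ⊆ R₀.toSubring := by
    intro y hy c hc
    apply hGsub
    simp only [G, Finset.coe_union, Set.mem_union, Finset.coe_biUnion, Set.mem_iUnion]
    exact Or.inr ⟨y, hy, hc⟩
  have hintF : ∀ y ∈ (F : Set S), IsIntegral R₀ y := by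
    intro y hy
    refine ⟨(p y).toSubring R₀.toSubring (hcoef y hy), ?_, ?_⟩
    · exact (Polynomial.monic_toSubring _ _ _).mpr (hpm y)
    · have h1 : algebraMap R₀ S = (algebraMap R S).comp (Subring.subtype R₀.toSubring) := rfl
      rw [h1, ← Polynomial.eval₂_map, Polynomial.map_toSubring]
      exact hp0 y
  let S₀ : Subalgebra R₀ S := Algebra.adjoin R₀ (F : Set S)
  refine ⟨R₀, S₀, hFT, hE, Algebra.subset_adjoin, ?_⟩
  have hfg : S₀.toSubmodule.FG := fg_adjoin_of_finite F.finite_toSet hintF
  exact Module.Finite.iff_fg.mpr hfg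

end Groth.Agent.S9163
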