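import Groth.Statements.S9164
import Mathlib

set_option autoImplicit false
universe u
open CAlg

namespace Groth.Agent.S9164

/-- Let R be a one-dimensional Noetherian local domain with fraction field K and V a finite-dimensional
K-vector space; a lattice is a finitely generated R-submodule of V spanning V over K. (1) For a
lattice M and an R-submodule M' ⊇ M: M' is a lattice iff M'/M has finite length over R iff M' is
finitely generated. (2) For a lattice M and M' ⊆ M: M' is a lattice iff M/M' has finite length. (3)
The intersection of two lattices is a lattice. (The published statement also asserts that the sum M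
+ M' of two lattices is a lattice and two identities between lengths of quotients of nested
lattices; this row states (1), (2) and the intersection half of (3).) -/
theorem result (R K V : Type u) [CommRing R] [IsDomain R]
    [IsNoetherianRing R] [IsLocalRing R] (hdim : ringKrullDim R = 1) [Field K] [Algebra R K]
    [IsFractionRing R K] [AddCommGroup V] [Module K V] [Module R V] [IsScalarTower R K V]
    [FiniteDimensional K V] (M : Submodule R V) [Submodule.IsLattice K M] :
    (∀ M' : Submodule R V, M ≤ M' →
        (Submodule.IsLattice K M' ↔ Module.length R (M' ⧸ Submodule.comap M'.subtype M) ≠ ⊤) ∧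
          (Submodule.IsLattice K M' ↔ M'.FG)) ∧
      (∀ M' : Submodule R V, M' ≤ M →
        (Submodule.IsLattice K M' ↔ Module.length R (M ⧸ Submodule.comap M.subtype M') ≠ ⊤)) ∧
      ∀ M' : Submodule R V, Submodule.IsLattice K M' → Submodule.IsLattice K (M ⊓ M') := by
  classical
  -- L1 : clearing denominators
  have L1 : ∀ (N : Submodule R V), Submodule.span K (N : Set V) = ⊤ →
      ∀ x : V, ∃ r : R, r ≠ 0 ∧ r • x ∈ N := by
    intro N hN x
    have hx : x ∈ Submodule.span K (N : Set V) := by rw [hN]; trivial
    refine Submodule.span_induction (p := fun x _ => ∃ r : R, r ≠ 0 ∧ r • x ∈ N) ?_ ?_ ?_ ?_ hx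
    · intro y hy
      exact ⟨1, one_ne_zero, by simpa using hy⟩
    · exact ⟨1, one_ne_zero, by simp⟩
    · rintro y z _ _ ⟨r, hr, hry⟩ ⟨s, hs, hsz⟩
      refine ⟨r * s, mul_ne_zero hr hs, ?_⟩
      rw [smul_add]
      refine add_mem ?_ ?_
      · rw [mul_comm, mul_smul]; exact N.smul_mem _ hry
      · rw [mul_smul]; exact N.smul_mem _ hsz
    · rintro k y _ ⟨r, hr, hry⟩
      obtain ⟨⟨a, s⟩, hs⟩ := IsLocalization.surj (nonZeroDivisors R) k
      refine ⟨(s : R) * r, mul_ne_zero (nonZeroDivisors.ne_zero s.2) hr, ?_⟩
      have : ((s : R) * r) • (k • y) = a • (r • y) := by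
        rw [← algebraMap_smul K ((s : R) * r), ← algebraMap_smul K a, ← algebraMap_smul K r,
          ← mul_smul, ← mul_smul, map_mul]
        congr 1
        have hs' : k * algebraMap R K (s : R) = algebraMap R K a := hs
        rw [← hs']; ring
      rw [this]
      exact N.smul_mem _ hry
  -- L2 : simultaneous clearing for finitely generated submodules
  have L2 : ∀ (N : Submodule R V), Submodule.span K (N : Set V) = ⊤ →
      ∀ N' : Submodule R V, N'.FG → ∃ r : R, r ≠ 0 ∧ ∀ x ∈ N', r • x ∈ N := by
    intro N hN N' hN'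
    refine Submodule.fg_induction (motive := fun N' _ => ∃ r : R, r ≠ 0 ∧ ∀ x ∈ N', r • x ∈ N) ?_ ?_ N' hN'
    · intro x
      obtain ⟨r, hr, hrx⟩ := L1 N hN x
      refine ⟨r, hr, fun y hy => ?_⟩
      obtain ⟨c, rfl⟩ := Submodule.mem_span_singleton.mp hy
      rw [smul_comm]
      exact N.smul_mem _ hrx
    · rintro M₁ M₂ _ _ ⟨r₁, hr₁, h₁⟩ ⟨r₂, hr₂, h₂⟩
      refine ⟨r₁ * r₂, mul_ne_zero hr₁ hr₂, fun y hy => ?_⟩
      obtain ⟨y₁, hy₁, y₂, hy₂, rfl⟩ := Submodule.mem_sup.mp hy
      rw [smul_add]
      refine add_mem ?_ ?_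
      · rw [mul_comm, mul_smul]; exact N.smul_mem _ (h₁ _ hy₁)
      · rw [mul_smul]; exact N.smul_mem _ (h₂ _ hy₂)
  -- L3 : finitely generated torsion modules have finite length
  have L3 : ∀ (T : Type u) [AddCommGroup T] [Module R T] [Module.Finite R T] (r : R), r ≠ 0 →
      (∀ t : T, r • t = 0) → Module.length R T ≠ ⊤ := by
    intro T _ _ _ r hr hrt
    have htors : Module.IsTorsionBySet R T (Ideal.span ({r} : Set R) : Set R) := by
      rintro x ⟨a, ha⟩
      obtain ⟨c, rfl⟩ := Ideal.mem_span_singleton'.mp ha
      show (c * r) • x = 0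
      rw [mul_smul, hrt, smul_zero]
    letI := htors.module
    haveI : IsScalarTower R (R ⧸ Ideal.span ({r} : Set R)) T := htors.isScalarTower
    have hc' : r ∈ nonZeroDivisors R := mem_nonZeroDivisors_of_ne_zero hr
    have h1 := ringKrullDim_quotient_succ_le_of_nonZeroDivisor hc'
    rw [hdim] at h1
    have h2 : ringKrullDim (R ⧸ Ideal.span {r}) ≤ 0 := by
      generalize ringKrullDim (R ⧸ Ideal.span {r}) = x at h1
      induction x using WithBot.recBotCoe with
      | bot => exact bot_le
      | coe n =>
        have : ((n + 1 : ℕ∞) : WithBot ℕ∞) ≤ ((1 : ℕ∞) : WithBot ℕ∞) := by exact_mod_cast h1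
        rw [WithBot.coe_le_coe] at this
        have hn : n = 0 := by
          induction n using ENat.recTopCoe with
          | top => simp at this
          | coe m =>
            have : m + 1 ≤ 1 := by exact_mod_cast this
            have : m = 0 := by omega
            simp [this]
        rw [hn]
        rfl
    haveI : Ring.KrullDimLE 0 (R ⧸ Ideal.span {r}) := Ring.krullDimLE_iff.mpr (by simpa using h2)
    haveI : IsArtinianRing (R ⧸ Ideal.span {r}) := isArtinianRing_iff_krullDimLE_zero.mpr inferInstance
    haveI : Module.Finite (R ⧸ Ideal.span ({r} : Set R)) T :=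
      Module.Finite.of_restrictScalars_finite R (R ⧸ Ideal.span ({r} : Set R)) T
    haveI : IsArtinian (R ⧸ Ideal.span ({r} : Set R)) T := inferInstance
    haveI : IsArtinian R T :=
      isArtinian_of_surjective_algebraMap (R := R ⧸ Ideal.span ({r} : Set R)) (S := R)
        Ideal.Quotient.mk_surjective
    exact Module.length_ne_top
  -- L4 : finite length modules are torsion
  have L4 : ∀ (T : Type u) [AddCommGroup T] [Module R T], Module.length R T ≠ ⊤ →
      ∀ t : T, ∃ r : R, r ≠ 0 ∧ r • t = 0 := by
    intro T _ _ hT t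
    by_contra hcon
    push_neg at hcon
    have hinj : Function.Injective (LinearMap.toSpanSingleton R T t) := by
      rw [← LinearMap.ker_eq_bot, LinearMap.ker_eq_bot']
      intro r hr
      by_contra hr0
      exact hcon r hr0 hr
    have hfl : IsFiniteLength R R := (Module.length_ne_top_iff.mp hT).of_injective hinj
    obtain ⟨-, hart⟩ := isFiniteLength_iff_isNoetherian_isArtinian.mp hfl
    haveI : IsArtinianRing R := hart
    have hk : Ring.KrullDimLE 0 R := isArtinianRing_iff_krullDimLE_zero.mp inferInstance
    have := Ring.krullDimLE_iff.mp hk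
    rw [hdim] at this
    exact absurd this (by decide)
  -- G1 : quotient by a spanning submodule has finite length
  have G1 : ∀ N N' : Submodule R V, Submodule.span K (N : Set V) = ⊤ → N'.FG →
      Module.length R (N' ⧸ Submodule.comap N'.subtype N) ≠ ⊤ := by
    intro N N' hN hN'
    obtain ⟨r, hr, hrN⟩ := L2 N hN N' hN'
    haveI : Module.Finite R N' := Module.Finite.iff_fg.mpr hN'
    refine L3 _ r hr ?_
    intro t
    obtain ⟨x, rfl⟩ := Submodule.Quotient.mk_surjective _ t
    rw [← Submodule.Quotient.mk_smul, Submodule.Quotient.mk_eq_zero, Submodule.mem_comap]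
    exact hrN _ x.2
  -- G2 : spanning passes to submodules containing multiples
  have G2 : ∀ N N' : Submodule R V, Submodule.span K (N : Set V) = ⊤ →
      (∀ x ∈ N, ∃ r : R, r ≠ 0 ∧ r • x ∈ N') → Submodule.span K (N' : Set V) = ⊤ := by
    intro N N' hN h
    rw [eq_top_iff, ← hN, Submodule.span_le]
    intro x hx
    obtain ⟨r, hr, hrx⟩ := h x hx
    have hr' : algebraMap R K r ≠ 0 := by
      rw [Ne, map_eq_zero_iff _ (IsFractionRing.injective R K)]
      exact hr
    have : x = (algebraMap R K r)⁻¹ • (r • x) := by
      rw [← algebraMap_smul K r x, ← mul_smul, inv_mul_cancel₀ hr', one_smul]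
    rw [this]
    exact Submodule.smul_mem _ _ (Submodule.subset_span hrx)
  have hMspan : Submodule.span K (M : Set V) = ⊤ := Submodule.IsLattice.span_eq_top
  have hMfg : M.FG := Submodule.IsLattice.fg
  haveI hMnoeth : IsNoetherian R M := isNoetherian_of_fg_of_noetherian M hMfg
  refine ⟨?_, ?_, ?_⟩
  · intro M' hle
    have hb : Submodule.IsLattice K M' ↔ M'.FG :=
      ⟨fun h => h.fg, fun h => Submodule.IsLattice.of_le_of_isLattice_of_fg K hle h⟩
    refine ⟨⟨fun h => G1 M M' hMspan h.fg, fun h => ?_⟩, hb⟩
    rw [hb]
    -- M' is finitely generated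
    have hfl := Module.length_ne_top_iff.mp h
    obtain ⟨hnoeth, -⟩ := isFiniteLength_iff_isNoetherian_isArtinian.mp hfl
    haveI : Module.Finite R (M' ⧸ Submodule.comap M'.subtype M) := inferInstance
    haveI : Module.Finite R (Submodule.comap M'.subtype M) :=
      Module.Finite.equiv (Submodule.comapSubtypeEquivOfLe hle).symm
    haveI : Module.Finite R M' := Module.Finite.of_submodule_quotient (Submodule.comap M'.subtype M)
    exact Module.Finite.iff_fg.mp inferInstance
  · intro M' hle
    constructor
    · intro h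
      exact G1 M' M h.span_eq_top hMfg
    · intro h
      haveI : IsNoetherian R M' := isNoetherian_of_le hle
      refine ⟨Module.Finite.iff_fg.mp inferInstance, ?_⟩
      refine G2 M M' hMspan ?_
      intro x hx
      obtain ⟨r, hr, hrx⟩ := L4 _ h (Submodule.Quotient.mk ⟨x, hx⟩)
      refine ⟨r, hr, ?_⟩
      rw [← Submodule.Quotient.mk_smul, Submodule.Quotient.mk_eq_zero, Submodule.mem_comap] at hrx
      exact hrx
  · intro M' hM'
    haveI : IsNoetherian R (M ⊓ M' : Submodule R V) := isNoetherian_of_le inf_le_left
    refine ⟨Module.Finite.iff_fg.mp inferInstance, ?_⟩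
    refine G2 M (M ⊓ M') hMspan ?_
    intro x hx
    obtain ⟨r, hr, hrx⟩ := L1 M' hM'.span_eq_top x
    exact ⟨r, hr, M.smul_mem _ hx, hrx⟩

end Groth.Agent.S9164
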