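import Groth.Statements.S9166
import Mathlib

set_option autoImplicit false
universe u
open CAlg

namespace Groth.Agent.S9166

/-- Let I be an ideal of a ring R, S → S' a surjective homomorphism of R-algebras with S of finite type
and S' of finite presentation over R, and q a prime of S containing IS. Assume S'_q is flat over R
and that S_q/IS_q → S'_q/IS'_q is an isomorphism, which for a surjection says: every element of the
kernel of S → S' maps into I·S_q. Then for some g ∉ q the localized map S_g → S'_g is bijective. -/
theorem result (R S S' : Type u) [CommRing R] [CommRing S]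
    [CommRing S'] [Algebra R S] [Algebra R S'] [Algebra.FiniteType R S] [Algebra.FinitePresentation R S']
    (I : Ideal R) (f : S →ₐ[R] S') (hf : Function.Surjective f) (q : Ideal S) [q.IsPrime]
    (hq : I.map (algebraMap R S) ≤ q)
    (hker : ∀ j : S, f j = 0 →
      algebraMap S (Localization.AtPrime q) j ∈ I.map (algebraMap R (Localization.AtPrime q)))
    (hflat : letI : Module S S' := f.toRingHom.toModule
      Module.Flat R (LocalizedModule q.primeCompl S')) :
    ∃ g : S, g ∉ q ∧ Function.Bijective (Localization.awayMap f.toRingHom g) := by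
  classical
  letI instMod : Module S S' := f.toRingHom.toModule
  -- Step A: the kernel is finitely generated
  have hJfg : (RingHom.ker f.toRingHom).FG := by
    obtain ⟨n, p, hp⟩ := (Algebra.FiniteType.iff_quotient_mvPolynomial'' (R := R) (S := S)).mp inferInstance
    have h1 := Algebra.FinitePresentation.ker_fG_of_surjective (f.comp p) (hf.comp hp)
    have h2 : RingHom.ker f.toRingHom = (RingHom.ker (f.comp p).toRingHom).map p.toRingHom := by
      apply le_antisymm
      · intro x hx
        obtain ⟨y, rfl⟩ := hp x
        have hy : y ∈ RingHom.ker (f.comp p).toRingHom := hx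
        exact Ideal.mem_map_of_mem p.toRingHom hy
      · rw [Ideal.map_le_iff_le_comap]
        intro y hy
        exact hy
    rw [h2]
    exact h1.map _
  -- notation
  let fS : S →ₗ[S] S' :=
    { toFun := f
      map_add' := map_add f
      map_smul' := fun s x => by
        show f (s * x) = f s * f x
        exact map_mul f s x }
  let π : (Localization.AtPrime q) →ₗ[S] (LocalizedModule q.primeCompl S') := IsLocalizedModule.map q.primeCompl (Algebra.linearMap S (Localization.AtPrime q))
    (LocalizedModule.mkLinearMap q.primeCompl S') fS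
  have hπsurj : Function.Surjective π :=
    IsLocalizedModule.map_surjective _ _ _ fS hf
  have hπker : ∀ z : (Localization.AtPrime q), π z = 0 → z ∈ (RingHom.ker f.toRingHom).map (algebraMap S (Localization.AtPrime q)) := by
    intro z hz
    have hz' : z ∈ LinearMap.ker π := hz
    rw [LinearMap.ker_localizedMap_eq_localized₀_ker] at hz'
    obtain ⟨j, hj, s, rfl⟩ := hz'
    have hj' : j ∈ RingHom.ker f.toRingHom := hj
    have : IsLocalizedModule.mk' (Algebra.linearMap S (Localization.AtPrime q)) j s =
        IsLocalization.mk' (Localization.AtPrime q) (1 : S) s * algebraMap S (Localization.AtPrime q) j := by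
      rw [IsLocalizedModule.mk'_eq_iff, Algebra.linearMap_apply, Submonoid.smul_def,
        Algebra.smul_def, ← mul_assoc, IsLocalization.mk'_spec', map_one, one_mul]
    rw [this]
    exact Ideal.mul_mem_left _ _ (Ideal.mem_map_of_mem _ hj')
  let πR : (Localization.AtPrime q) →ₗ[R] (LocalizedModule q.primeCompl S') := π.restrictScalars R
  have hπR : ∀ z, πR z = π z := fun z => rfl
  have hπalg : ∀ x : S, π (algebraMap S (Localization.AtPrime q) x) = LocalizedModule.mkLinearMap q.primeCompl S' (f x) := by
    intro x
    exact IsLocalizedModule.map_apply _ _ _ fS x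
  -- key : J_q ≤ m • J_q
  have hIm : ∀ a ∈ I, algebraMap R (Localization.AtPrime q) a ∈ IsLocalRing.maximalIdeal (Localization.AtPrime q) := by
    intro a ha
    rw [IsScalarTower.algebraMap_apply R S (Localization.AtPrime q)]
    have : algebraMap R S a ∈ q := hq (Ideal.mem_map_of_mem _ ha)
    rw [← Localization.AtPrime.map_eq_maximalIdeal]
    exact Ideal.mem_map_of_mem _ this
  have hkey : ∀ j ∈ RingHom.ker f.toRingHom, algebraMap S (Localization.AtPrime q) j ∈
      IsLocalRing.maximalIdeal (Localization.AtPrime q) • (RingHom.ker f.toRingHom).map (algebraMap S (Localization.AtPrime q)) := by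
    intro j hj
    have h1 := hker j hj
    rw [Ideal.map, Ideal.span, Finsupp.mem_span_image_iff_linearCombination] at h1
    obtain ⟨l, hl, hlsum⟩ := h1
    -- relation in (LocalizedModule q.primeCompl S')
    have hrel : ∑ i : l.support, (i : R) • πR (l i) = 0 := by
      have : πR (algebraMap S (Localization.AtPrime q) j) = 0 := by
        rw [hπR, hπalg]
        have : f j = 0 := hj
        rw [this, map_zero]
      rw [Finset.sum_coe_sort l.support (fun i => i • πR (l i)), ← this, ← hlsum,
        Finsupp.linearCombination_apply, Finsupp.sum, map_sum]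
      refine Finset.sum_congr rfl fun i _ => ?_
      rw [← map_smul]
      congr 1
      rw [smul_eq_mul, Algebra.smul_def, mul_comm]
    obtain ⟨k, b, y, hy, hb⟩ := Module.Flat.isTrivialRelation_of_sum_smul_eq_zero (R := R)
      (M := LocalizedModule q.primeCompl S') hrel
    choose yt hyt using fun κ => hπsurj (y κ)
    have hn : ∀ i : l.support, (l i - ∑ κ, b i κ • yt κ) ∈
        (RingHom.ker f.toRingHom).map (algebraMap S (Localization.AtPrime q)) := by
      intro i
      apply hπker
      rw [← hπR, map_sub, map_sum, sub_eq_zero]
      refine (hy i).trans ?_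
      refine Finset.sum_congr rfl fun κ _ => ?_
      rw [map_smul, hπR, hyt]
    have hsum : algebraMap S (Localization.AtPrime q) j = ∑ i : l.support, (i : R) • (l i - ∑ κ, b i κ • yt κ) := by
      have e1 : algebraMap S (Localization.AtPrime q) j = ∑ i : l.support, (i : R) • l i := by
        rw [Finset.sum_coe_sort l.support (fun i => i • l i), ← hlsum,
          Finsupp.linearCombination_apply, Finsupp.sum]
        refine Finset.sum_congr rfl fun i _ => ?_
        rw [smul_eq_mul, Algebra.smul_def, mul_comm]
      have e2 : ∑ i : l.support, (i : R) • ∑ κ, b i κ • yt κ = 0 := by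
        simp_rw [Finset.smul_sum, smul_smul]
        rw [Finset.sum_comm]
        refine Finset.sum_eq_zero fun κ _ => ?_
        rw [← Finset.sum_smul, hb κ, zero_smul]
      simp_rw [smul_sub]
      rw [Finset.sum_sub_distrib, e2, sub_zero, e1]
    rw [hsum]
    refine Ideal.sum_mem _ fun i _ => ?_
    rw [Algebra.smul_def]
    have hiI : (i : R) ∈ I := hl i.2
    exact Submodule.smul_mem_smul (hIm _ hiI) (hn i)
  -- Nakayama
  have hJq : (RingHom.ker f.toRingHom).map (algebraMap S (Localization.AtPrime q)) = ⊥ := by
    refine Submodule.eq_bot_of_le_smul_of_le_jacobson_bot (IsLocalRing.maximalIdeal (Localization.AtPrime q)) _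
      (hJfg.map _) ?_ (IsLocalRing.maximalIdeal_le_jacobson ⊥)
    rw [Ideal.map_le_iff_le_comap]
    intro j hj
    exact hkey j hj
  -- each element of the kernel is killed by an element outside q
  have hkill : ∀ j ∈ RingHom.ker f.toRingHom, ∃ t : S, t ∉ q ∧ t * j = 0 := by
    intro j hj
    have : algebraMap S (Localization.AtPrime q) j = 0 := by
      have := Ideal.mem_map_of_mem (algebraMap S (Localization.AtPrime q)) hj
      rw [hJq] at this
      exact this
    obtain ⟨t, ht⟩ := (IsLocalization.map_eq_zero_iff q.primeCompl (Localization.AtPrime q) j).mp this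
    exact ⟨t, t.2, ht⟩
  -- common multiplier
  have hcommon : ∃ g : S, g ∉ q ∧ ∀ j ∈ RingHom.ker f.toRingHom, g * j = 0 := by
    obtain ⟨T, hT⟩ := hJfg
    have hT' : ∀ j ∈ T, j ∈ RingHom.ker f.toRingHom := by
      intro j hj
      rw [← hT]; exact Ideal.subset_span hj
    choose! t ht using hkill
    refine ⟨∏ j ∈ T, t j, ?_, ?_⟩
    · intro hmem
      obtain ⟨j, hjT, hjq⟩ := (Ideal.IsPrime.prod_mem_iff).mp hmem
      exact (ht j (hT' j hjT)).1 hjq
    · intro j hj
      rw [← hT] at hj
      refine Submodule.span_induction (p := fun j _ => (∏ j ∈ T, t j) * j = 0) ?_ ?_ ?_ ?_ hj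
      · intro x hx
        rw [← Finset.prod_erase_mul _ _ hx, mul_assoc, (ht x (hT' x hx)).2, mul_zero]
      · exact mul_zero _
      · intro x y _ _ hx hy
        rw [mul_add, hx, hy, add_zero]
      · intro a x _ hx
        rw [smul_eq_mul, mul_left_comm, hx, mul_zero]
  obtain ⟨g, hgq, hg⟩ := hcommon
  refine ⟨g, hgq, ?_, ?_⟩
  · rw [Localization.awayMap_injective_iff]
    intro a ha
    exact ⟨1, by rw [pow_one]; exact hg a ha⟩
  · rw [Localization.awayMap_surjective_iff]
    intro a
    obtain ⟨b, rfl⟩ := hf a
    exact ⟨b, 0, by simp⟩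

end Groth.Agent.S9166
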