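import Groth.Statements.S9167
import Mathlib
import Groth.Agent.Lib.Helper24.FPDescend

set_option autoImplicit false
universe u
open CAlg

namespace Groth.Agent.S9167

/-- With R' = S⁻¹(R/I), every finitely presented R'-module is of the form S⁻¹(M/IM) for some finitely
presented R-module M. -/
theorem result (R : Type u) [CommRing R] (I : Ideal R)
    (S : Submonoid R) (M' : Type u) [AddCommGroup M']
    [Module (Localization (S.map (Ideal.Quotient.mk I))) M']
    [Module.FinitePresentation (Localization (S.map (Ideal.Quotient.mk I))) M'] :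
    ∃ (M : Type u) (_ : AddCommGroup M) (_ : Module R M), Module.FinitePresentation R M ∧
      Nonempty (LocalizedModule (S.map (Ideal.Quotient.mk I)) (M ⧸ (I • ⊤ : Submodule R M))
        ≃ₗ[Localization (S.map (Ideal.Quotient.mk I))] M') := by
  classical
  -- R/I-module structure on M'
  letI instMod : Module (R ⧸ I) M' :=
    Module.compHom M' (algebraMap (R ⧸ I) (Localization (S.map (Ideal.Quotient.mk I))))
  haveI : IsScalarTower (R ⧸ I) (Localization (S.map (Ideal.Quotient.mk I))) M' :=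
    ⟨fun r a m => by
      rw [Algebra.smul_def, mul_smul]; rfl⟩
  obtain ⟨n, Tb, ρ, hρ⟩ := Groth.Agent.Helper24.exists_isLocalizedModule_quotient_span
    (S.map (Ideal.Quotient.mk I)) (Localization (S.map (Ideal.Quotient.mk I))) M'
  -- reduction map on free modules
  let π : (Fin n → R) →ₗ[R] (Fin n → R ⧸ I) := (Algebra.linearMap R (R ⧸ I)).compLeft (Fin n)
  have hπ : ∀ v i, π v i = Ideal.Quotient.mk I (v i) := fun v i => rfl
  have hπsurj : Function.Surjective π := by
    intro w
    choose v hv using fun i => Ideal.Quotient.mk_surjective (w i)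
    exact ⟨v, funext fun i => by rw [hπ, hv]⟩
  choose lift hlift using hπsurj
  let T : Finset (Fin n → R) := Tb.image lift
  let N : Submodule R (Fin n → R) := Submodule.span R (T : Set (Fin n → R))
  let Nb : Submodule (R ⧸ I) (Fin n → R ⧸ I) := Submodule.span (R ⧸ I) (Tb : Set (Fin n → R ⧸ I))
  have hM : Module.FinitePresentation R ((Fin n → R) ⧸ N) :=
    Module.finitePresentation_of_surjective N.mkQ N.mkQ_surjective
      (by rw [Submodule.ker_mkQ]; exact Submodule.fg_span (Finset.finite_toSet T))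
  -- the comparison map
  let θ : (Fin n → R) →ₗ[R] ((Fin n → R ⧸ I) ⧸ Nb) := (Nb.mkQ.restrictScalars R) ∘ₗ π
  have hθN : N ≤ LinearMap.ker θ := by
    rw [Submodule.span_le]
    intro t ht
    simp only [T, Finset.coe_image, Set.mem_image, Finset.mem_coe] at ht
    obtain ⟨w, hw, rfl⟩ := ht
    simp only [SetLike.mem_coe, LinearMap.mem_ker, θ, LinearMap.coe_comp,
      LinearMap.coe_restrictScalars, Function.comp_apply, hlift, Submodule.mkQ_apply,
      Submodule.Quotient.mk_eq_zero]
    exact Submodule.subset_span hw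
  let θ' : ((Fin n → R) ⧸ N) →ₗ[R] ((Fin n → R ⧸ I) ⧸ Nb) := N.liftQ θ hθN
  have hθ'surj : Function.Surjective θ' := by
    intro y
    obtain ⟨w, rfl⟩ := Nb.mkQ_surjective y
    exact ⟨N.mkQ (lift w), by simp [θ', θ, hlift]⟩
  have hspan : ∀ y ∈ Nb, ∃ u ∈ N, π u = y := by
    intro y hy
    refine Submodule.span_induction (p := fun y _ => ∃ u ∈ N, π u = y) ?_ ?_ ?_ ?_ hy
    · intro w hw
      exact ⟨lift w, Submodule.subset_span (by simp only [T, Finset.coe_image]; exact ⟨w, hw, rfl⟩),
        hlift w⟩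
    · exact ⟨0, zero_mem _, map_zero _⟩
    · rintro a b _ _ ⟨u, hu, rfl⟩ ⟨u', hu', rfl⟩
      exact ⟨u + u', add_mem hu hu', map_add _ _ _⟩
    · rintro c a _ ⟨u, hu, rfl⟩
      obtain ⟨c, rfl⟩ := Ideal.Quotient.mk_surjective c
      refine ⟨c • u, Submodule.smul_mem _ _ hu, ?_⟩
      rw [map_smul]
      funext i
      simp [hπ, Algebra.smul_def]
  have hker : LinearMap.ker θ' = (I • ⊤ : Submodule R ((Fin n → R) ⧸ N)) := by
    apply le_antisymm
    · intro x hx
      obtain ⟨v, rfl⟩ := N.mkQ_surjective x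
      have hv : π v ∈ Nb := by
        have : θ' (N.mkQ v) = Nb.mkQ (π v) := rfl
        rw [LinearMap.mem_ker, this, Submodule.mkQ_apply, Submodule.Quotient.mk_eq_zero] at hx
        exact hx
      obtain ⟨u, hu, huv⟩ := hspan _ hv
      have hd : ∀ i, (v - u) i ∈ I := by
        intro i
        rw [← Ideal.Quotient.eq_zero_iff_mem, ← hπ, map_sub, huv, sub_self]
        rfl
      have h1 : N.mkQ v = N.mkQ (v - u) := by
        rw [map_sub, Submodule.mkQ_apply _ u, (Submodule.Quotient.mk_eq_zero N).mpr hu, sub_zero]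
      rw [h1, pi_eq_sum_univ (v - u), map_sum]
      refine Submodule.sum_mem _ fun i _ => ?_
      rw [map_smul]
      exact Submodule.smul_mem_smul (hd i) Submodule.mem_top
    · rw [Submodule.smul_le]
      intro r hr x _
      rw [LinearMap.mem_ker, map_smul, ← algebraMap_smul (R ⧸ I) r (θ' x)]
      have : algebraMap R (R ⧸ I) r = 0 := Ideal.Quotient.eq_zero_iff_mem.mpr hr
      rw [this, zero_smul]
  let E : (((Fin n → R) ⧸ N) ⧸ (I • ⊤ : Submodule R ((Fin n → R) ⧸ N))) ≃ₗ[R]
      ((Fin n → R ⧸ I) ⧸ Nb) :=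
    (Submodule.quotEquivOfEq _ _ hker.symm) ≪≫ₗ θ'.quotKerEquivOfSurjective hθ'surj
  let E' : (((Fin n → R) ⧸ N) ⧸ (I • ⊤ : Submodule R ((Fin n → R) ⧸ N))) ≃ₗ[R ⧸ I]
      ((Fin n → R ⧸ I) ⧸ Nb) :=
    E.extendScalarsOfSurjective Ideal.Quotient.mk_surjective
  haveI := hρ
  have hρ' : IsLocalizedModule (S.map (Ideal.Quotient.mk I)) (ρ ∘ₗ E'.toLinearMap) :=
    IsLocalizedModule.of_linearEquiv_right _ ρ E'
  refine ⟨(Fin n → R) ⧸ N, inferInstance, inferInstance, hM, ⟨?_⟩⟩
  exact (IsLocalizedModule.iso (S.map (Ideal.Quotient.mk I))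
    (ρ ∘ₗ E'.toLinearMap)).extendScalarsOfIsLocalization (S.map (Ideal.Quotient.mk I))
      (Localization (S.map (Ideal.Quotient.mk I)))

end Groth.Agent.S9167
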