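import Groth.Statements.S9168
import Mathlib

set_option autoImplicit false
universe u
open CAlg

namespace Groth.Agent.S9168

/-- Inside a local ring `T`, the subring generated by the image of `g` and a finite set can be
enlarged to a local subring, local in `T`, essentially of finite type over the source. -/
theorem exists_local_subring_essFiniteType {P : Type*} {T : Type*} [CommRing P] [CommRing T]
    [IsLocalRing T] (g : P →+* T) (F : Finset T) :
    ∃ (T₀ : Subring T) (hg : ∀ x, g x ∈ T₀), (F : Set T) ⊆ T₀ ∧ ∃ (_ : IsLocalRing T₀),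
      IsLocalHom T₀.subtype ∧ (g.codRestrict T₀ hg).EssFiniteType := by
  classical
  letI := g.toAlgebra
  let T₁ : Subalgebra P T := Algebra.adjoin P (F : Set T)
  haveI hft : Algebra.FiniteType P T₁ :=
    (Subalgebra.fg_iff_finiteType _).mp (Subalgebra.fg_adjoin_finset _)
  let p : Ideal T₁ := (IsLocalRing.maximalIdeal T).comap (algebraMap T₁ T)
  haveI : p.IsPrime := Ideal.comap_isPrime _ _
  have hunit : ∀ y : p.primeCompl, IsUnit (algebraMap T₁ T y) := fun y => by
    have : (y : T₁) ∉ p := y.2
    rw [Ideal.mem_comap] at this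
    exact IsLocalRing.notMem_maximalIdeal.mp this
  let φ : Localization.AtPrime p →+* T := IsLocalization.lift hunit
  have hφ : ∀ x : T₁, φ (algebraMap T₁ _ x) = x := fun x => IsLocalization.lift_eq _ _
  have hg : ∀ x, g x ∈ φ.range := fun x =>
    ⟨algebraMap T₁ _ (algebraMap P T₁ x), by rw [hφ]; rfl⟩
  refine ⟨φ.range, hg, fun x hx => ⟨algebraMap T₁ _ ⟨x, Algebra.subset_adjoin hx⟩, hφ _⟩, ?_⟩
  haveI : IsLocalRing φ.range :=
    IsLocalRing.of_surjective' φ.rangeRestrict φ.rangeRestrict_surjective
  refine ⟨inferInstance, ⟨?_⟩, ?_⟩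
  · rintro ⟨_, z, rfl⟩ hx
    have hx' : IsUnit (φ z) := hx
    obtain ⟨a, s, rfl⟩ := IsLocalization.exists_mk'_eq p.primeCompl z
    have h1 : φ (IsLocalization.mk' _ a s) * φ (algebraMap T₁ _ (s : T₁)) = φ (algebraMap T₁ _ a) := by
      rw [← map_mul, IsLocalization.mk'_spec]
    rw [hφ, hφ] at h1
    have ha : IsUnit (a : T) := by
      rw [← h1]
      exact hx'.mul (hunit s)
    have hap : a ∈ p.primeCompl := by
      show a ∉ p
      rw [Ideal.mem_comap]
      exact IsLocalRing.notMem_maximalIdeal.mpr ha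
    have hz : IsUnit (IsLocalization.mk' (Localization.AtPrime p) a s) :=
      (IsLocalization.AtPrime.isUnit_mk'_iff (Localization.AtPrime p) p a s).mpr hap
    exact hz.map φ.rangeRestrict
  · have heq : g.codRestrict φ.range hg =
        (φ.rangeRestrict.comp (algebraMap T₁ (Localization.AtPrime p))).comp (algebraMap P T₁) := by
      ext x
      simp only [RingHom.codRestrict_apply, RingHom.coe_comp, Function.comp_apply,
        RingHom.coe_rangeRestrict, hφ]
      rfl
    rw [heq]
    refine RingHom.EssFiniteType.comp ?_ (RingHom.EssFiniteType.comp ?_ ?_)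
    · exact RingHom.essFiniteType_algebraMap.mpr inferInstance
    · exact RingHom.essFiniteType_algebraMap.mpr
        (Algebra.EssFiniteType.of_isLocalization _ p.primeCompl)
    · exact (RingHom.FiniteType.of_surjective _ φ.rangeRestrict_surjective).essFiniteType


/-- For a local homomorphism of local rings R → S and finite subsets E ⊆ R, F ⊆ S there are local
subrings R₀ ⊆ R and S₀ ⊆ S containing E and F, with R → S mapping R₀ into S₀, such that the
inclusions and the induced map R₀ → S₀ are local homomorphisms, R₀ is essentially of finite type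
over ℤ and S₀ is essentially of finite type over R₀. (So R → S is the directed colimit of such R₀ →
S₀.) -/
theorem result (R S : Type u) [CommRing R] [CommRing S] [IsLocalRing R]
    [IsLocalRing S] [Algebra R S] [IsLocalHom (algebraMap R S)] (E : Finset R) (F : Finset S) :
    ∃ (R₀ : Subring R) (S₀ : Subring S) (h : ∀ x ∈ R₀, algebraMap R S x ∈ S₀),
      (E : Set R) ⊆ R₀ ∧ (F : Set S) ⊆ S₀ ∧ ∃ (_ : IsLocalRing R₀) (_ : IsLocalRing S₀),
        IsLocalHom R₀.subtype ∧ IsLocalHom S₀.subtype ∧
          IsLocalHom ((algebraMap R S).restrict R₀ S₀ h) ∧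
          (algebraMap ℤ R₀).EssFiniteType ∧ ((algebraMap R S).restrict R₀ S₀ h).EssFiniteType := by
  classical
  obtain ⟨R₀, hgR, hE, hlocR, hlocHomR, hessR⟩ :=
    exists_local_subring_essFiniteType (algebraMap ℤ R) E
  obtain ⟨S₀, hgS, hF, hlocS, hlocHomS, hessS⟩ :=
    exists_local_subring_essFiniteType ((algebraMap R S).comp R₀.subtype) F
  refine ⟨R₀, S₀, fun x hx => hgS ⟨x, hx⟩, hE, hF, hlocR, hlocS, hlocHomR, hlocHomS, ?_, ?_, ?_⟩
  · refine ⟨fun x hx => ?_⟩
    have h1 : IsUnit (S₀.subtype ((algebraMap R S).restrict R₀ S₀ (fun x hx => hgS ⟨x, hx⟩) x)) :=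
      hx.map S₀.subtype
    have h2 : IsUnit (algebraMap R S (x : R)) := h1
    have h3 : IsUnit (x : R) := isUnit_of_map_unit (algebraMap R S) _ h2
    exact isUnit_of_map_unit R₀.subtype x h3
  · have : algebraMap ℤ R₀ = (algebraMap ℤ R).codRestrict R₀ hgR := Subsingleton.elim _ _
    rw [this]
    exact hessR
  · exact hessS

end Groth.Agent.S9168
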