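import Groth.Statements.S9177
import Mathlib

set_option autoImplicit false
universe u
open CAlg

namespace Groth.Agent.S9177

open TensorProduct

section Setup

variable {ι : Type u} [Preorder ι] [Nonempty ι] [IsDirectedOrder ι] (G : ι → Type u)
  [∀ i, CommRing (G i)] (f : ∀ i j, i ≤ j → G i →+* G j)
  [DirectedSystem G (fun i j h => f i j h)] (A : Type u) [CommRing A] [∀ i, Algebra A (G i)]
  (hf : ∀ i j (h : i ≤ j), (f i j h).comp (algebraMap A (G i)) = algebraMap A (G j)) (l : ι)

/-- The `A`-algebra structure on the direct limit through stage `l`. -/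
@[reducible] noncomputable def algR : Algebra A (Ring.DirectLimit G (fun i j h => f i j h)) :=
  ((Ring.DirectLimit.of G (fun i j h => f i j h) l).comp (algebraMap A (G l))).toAlgebra

include hf in
theorem hf_apply (i j : ι) (h : i ≤ j) (a : A) :
    f i j h (algebraMap A (G i) a) = algebraMap A (G j) a :=
  RingHom.congr_fun (hf i j h) a

/-- Transition maps as algebra homomorphisms. -/
noncomputable def fA (i j : ι) (h : i ≤ j) : G i →ₐ[A] G j :=
  { f i j h with commutes' := fun a => hf_apply G f A hf i j h a }

@[simp] theorem fA_apply (i j : ι) (h : i ≤ j) (x : G i) : fA G f A hf i j h x = f i j h x := rfl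

include hf in
theorem of_algebraMap (i : ι) (a : A) :
    Ring.DirectLimit.of G (fun i j h => f i j h) i (algebraMap A (G i) a) =
      Ring.DirectLimit.of G (fun i j h => f i j h) l (algebraMap A (G l) a) := by
  obtain ⟨k, hik, hlk⟩ := exists_ge_ge i l
  rw [← Ring.DirectLimit.of_f hik, ← Ring.DirectLimit.of_f hlk]
  show Ring.DirectLimit.of G (fun i j h => f i j h) k (f i k hik _) =
    Ring.DirectLimit.of G (fun i j h => f i j h) k (f l k hlk _)
  rw [hf_apply G f A hf, hf_apply G f A hf]

/-- The canonical maps to the direct limit as algebra homomorphisms. -/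
noncomputable def ofA (i : ι) :
    letI := algR G f A l
    G i →ₐ[A] Ring.DirectLimit G (fun i j h => f i j h) :=
  letI := algR G f A l
  { Ring.DirectLimit.of G (fun i j h => f i j h) i with
    commutes' := fun a => of_algebraMap G f A hf l i a }

theorem ofA_apply (i : ι) (x : G i) :
    letI := algR G f A l
    ofA G f A hf l i x = Ring.DirectLimit.of G (fun i j h => f i j h) i x := rfl

theorem ofA_fA (i j : ι) (h : i ≤ j) (x : G i) :
    letI := algR G f A l
    ofA G f A hf l j (fA G f A hf i j h x) = ofA G f A hf l i x :=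
  Ring.DirectLimit.of_f h x

variable (C : Type u) [CommRing C] [Algebra A C]

/-- Transition maps of the tensored system. -/
noncomputable def f' (i j : ι) (h : i ≤ j) : (G i ⊗[A] C) →+* (G j ⊗[A] C) :=
  (Algebra.TensorProduct.map (fA G f A hf i j h) (AlgHom.id A C)).toRingHom

theorem f'_tmul (i j : ι) (h : i ≤ j) (g : G i) (c : C) :
    f' G f A hf C i j h (g ⊗ₜ c) = f i j h g ⊗ₜ c := rfl

instance directedSystem' :
    DirectedSystem (fun i => G i ⊗[A] C) (fun i j h => f' G f A hf C i j h) where
  map_self i x := by
    induction x using TensorProduct.induction_on with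
    | zero => exact map_zero _
    | tmul g c =>
      rw [f'_tmul]
      congr 1
      exact DirectedSystem.map_self (f := fun i j h => f i j h) g
    | add x y hx hy => rw [map_add, hx, hy]
  map_map k j i hij hjk x := by
    induction x using TensorProduct.induction_on with
    | zero => simp
    | tmul g c =>
      rw [f'_tmul, f'_tmul, f'_tmul]
      congr 1
      exact DirectedSystem.map_map (f := fun i j h => f i j h) hij hjk g
    | add x y hx hy => rw [map_add, map_add, map_add, hx, hy]

/-- The direct limit of the tensored system. -/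
abbrev R' : Type u := Ring.DirectLimit (fun i => G i ⊗[A] C) (fun i j h => f' G f A hf C i j h)

/-- The canonical maps. -/
noncomputable abbrev of' (i : ι) : (G i ⊗[A] C) →+* R' G f A hf C :=
  Ring.DirectLimit.of (fun i => G i ⊗[A] C) (fun i j h => f' G f A hf C i j h) i

theorem of'_f (i j : ι) (h : i ≤ j) (x : G i ⊗[A] C) :
    of' G f A hf C j (f' G f A hf C i j h x) = of' G f A hf C i x :=
  Ring.DirectLimit.of_f (f := fun i j h => f' G f A hf C i j h) h x

/-- algebra structure on `R'` -/
@[reducible] noncomputable def algR' : Algebra A (R' G f A hf C) :=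
  ((of' G f A hf C l).comp (algebraMap A (G l ⊗[A] C))).toAlgebra

/-- the comparison map on the first factor -/
noncomputable def ψ : Ring.DirectLimit G (fun i j h => f i j h) →+* R' G f A hf C :=
  Ring.DirectLimit.lift G (fun i j h => f i j h) (R' G f A hf C)
    (fun i => (of' G f A hf C i).comp (Algebra.TensorProduct.includeLeftRingHom))
    (fun i j h x => by
      show of' G f A hf C j (f i j h x ⊗ₜ (1 : C)) = of' G f A hf C i (x ⊗ₜ (1 : C))
      rw [← of'_f G f A hf C i j h, f'_tmul])

theorem hψ (i : ι) (g : G i) :
    ψ G f A hf C (Ring.DirectLimit.of G (fun i j h => f i j h) i g) =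
      of' G f A hf C i (g ⊗ₜ (1 : C)) :=
  (Ring.DirectLimit.lift_of _ _ _ _ _).trans rfl

/-- `ψ` as algebra hom -/
noncomputable def ψA :
    letI := algR G f A l
    letI := algR' G f A hf l C
    Ring.DirectLimit G (fun i j h => f i j h) →ₐ[A] R' G f A hf C :=
  letI := algR G f A l
  letI := algR' G f A hf l C
  { ψ G f A hf C with
    commutes' := fun a => by
      show ψ G f A hf C (Ring.DirectLimit.of G (fun i j h => f i j h) l (algebraMap A (G l) a)) =
        of' G f A hf C l (algebraMap A (G l ⊗[A] C) a)
      rw [hψ]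
      rfl }

/-- the comparison map on the second factor -/
noncomputable def χ :
    letI := algR' G f A hf l C
    C →ₐ[A] R' G f A hf C :=
  letI := algR' G f A hf l C
  { (of' G f A hf C l).comp
      (Algebra.TensorProduct.includeRight (R := A) (A := G l) (B := C)).toRingHom with
    commutes' := fun a => by
      show of' G f A hf C l ((1 : G l) ⊗ₜ[A] (algebraMap A C a)) =
        of' G f A hf C l (algebraMap A (G l ⊗[A] C) a)
      congr 1
      exact (Algebra.TensorProduct.includeRight (R := A) (A := G l) (B := C)).commutes a }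

theorem hχ (c : C) :
    letI := algR' G f A hf l C
    χ G f A hf l C c = of' G f A hf C l ((1 : G l) ⊗ₜ c) := rfl

/-- The key vanishing statement: tensor products commute with direct limits. -/
theorem key (i : ι) (z : G i ⊗[A] C)
    (hz : letI := algR G f A l
      Algebra.TensorProduct.map (ofA G f A hf l i) (AlgHom.id A C) z = 0) :
    ∃ (j : ι) (h : i ≤ j),
      Algebra.TensorProduct.map (fA G f A hf i j h) (AlgHom.id A C) z = 0 := by
  letI := algR G f A l
  letI := algR' G f A hf l C
  let Φ : (Ring.DirectLimit G (fun i j h => f i j h)) ⊗[A] C →ₐ[A] R' G f A hf C :=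
    Algebra.TensorProduct.lift (ψA G f A hf l C) (χ G f A hf l C) (fun _ _ => Commute.all _ _)
  have hΦ : ∀ i (z : G i ⊗[A] C),
      Φ (Algebra.TensorProduct.map (ofA G f A hf l i) (AlgHom.id A C) z) = of' G f A hf C i z := by
    intro i z
    induction z using TensorProduct.induction_on with
    | zero => simp
    | tmul g c =>
      rw [Algebra.TensorProduct.map_tmul, Algebra.TensorProduct.lift_tmul]
      show ψ G f A hf C (Ring.DirectLimit.of G (fun i j h => f i j h) i g) * χ G f A hf l C c = _
      rw [hψ, hχ]
      obtain ⟨k, hik, hlk⟩ := exists_ge_ge i l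
      rw [← of'_f G f A hf C i k hik, ← of'_f G f A hf C l k hlk,
        ← of'_f G f A hf C i k hik (g ⊗ₜ c), f'_tmul, f'_tmul, f'_tmul,
        ← map_mul, Algebra.TensorProduct.tmul_mul_tmul, map_one, mul_one, one_mul]
    | add x y hx hy => rw [map_add, map_add, map_add, hx, hy]
  have h0 : of' G f A hf C i z = 0 := by rw [← hΦ, hz, map_zero]
  obtain ⟨j, hij, hj⟩ := Ring.DirectLimit.of.zero_exact h0
  exact ⟨j, hij, hj⟩


variable (B : Type u) [CommRing B] [Algebra A B]

theorem map_ofA_fA (i k : ι) (h : i ≤ k) (x : G i ⊗[A] B) :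
    letI := algR G f A l
    Algebra.TensorProduct.map (ofA G f A hf l k) (AlgHom.id A B)
      (Algebra.TensorProduct.map (fA G f A hf i k h) (AlgHom.id A B) x) =
    Algebra.TensorProduct.map (ofA G f A hf l i) (AlgHom.id A B) x := by
  letI := algR G f A l
  induction x using TensorProduct.induction_on with
  | zero => simp
  | tmul g b =>
    rw [Algebra.TensorProduct.map_tmul, Algebra.TensorProduct.map_tmul,
      Algebra.TensorProduct.map_tmul, ofA_fA]
    rfl
  | add x y hx hy => rw [map_add, map_add, map_add, hx, hy]

theorem map_fA_fA (i j k : ι) (h : i ≤ j) (h' : j ≤ k) (x : G i ⊗[A] B) :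
    Algebra.TensorProduct.map (fA G f A hf j k h') (AlgHom.id A B)
      (Algebra.TensorProduct.map (fA G f A hf i j h) (AlgHom.id A B) x) =
    Algebra.TensorProduct.map (fA G f A hf i k (h.trans h')) (AlgHom.id A B) x := by
  induction x using TensorProduct.induction_on with
  | zero => simp
  | tmul g b =>
    rw [Algebra.TensorProduct.map_tmul, Algebra.TensorProduct.map_tmul,
      Algebra.TensorProduct.map_tmul]
    congr 1
    exact DirectedSystem.map_map (f := fun i j h => f i j h) h h' g
  | add x y hx hy => rw [map_add, map_add, map_add, hx, hy]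

/-- every element of the tensor product with the limit comes from a finite stage -/
theorem exists_stage :
    letI := algR G f A l
    ∀ (w : (Ring.DirectLimit G (fun i j h => f i j h)) ⊗[A] B), ∃ (i : ι) (w' : G i ⊗[A] B),
      Algebra.TensorProduct.map (ofA G f A hf l i) (AlgHom.id A B) w' = w := by
  letI := algR G f A l
  intro w
  induction w using TensorProduct.induction_on with
  | zero => exact ⟨l, 0, map_zero _⟩
  | tmul r b =>
    obtain ⟨i, g, rfl⟩ := Ring.DirectLimit.exists_of r
    exact ⟨i, g ⊗ₜ b, rfl⟩
  | add x y hx hy =>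
    obtain ⟨i, x', rfl⟩ := hx
    obtain ⟨j, y', rfl⟩ := hy
    obtain ⟨k, hik, hjk⟩ := exists_ge_ge i j
    refine ⟨k, Algebra.TensorProduct.map (fA G f A hf i k hik) (AlgHom.id A B) x' +
      Algebra.TensorProduct.map (fA G f A hf j k hjk) (AlgHom.id A B) y', ?_⟩
    rw [map_add, map_ofA_fA, map_ofA_fA]

variable {B C}

theorem map_comm_of (i : ι) (u : B →ₐ[A] C) (x : G i ⊗[A] B) :
    letI := algR G f A l
    Algebra.TensorProduct.map (ofA G f A hf l i) (AlgHom.id A C)
      (Algebra.TensorProduct.map (AlgHom.id A (G i)) u x) =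
    Algebra.TensorProduct.map (AlgHom.id A (Ring.DirectLimit G (fun i j h => f i j h))) u
      (Algebra.TensorProduct.map (ofA G f A hf l i) (AlgHom.id A B) x) := by
  letI := algR G f A l
  induction x using TensorProduct.induction_on with
  | zero => simp
  | tmul g b => simp only [Algebra.TensorProduct.map_tmul, AlgHom.coe_id, id_eq]
  | add x y hx hy => rw [map_add, map_add, map_add, map_add, hx, hy]

theorem map_comm_f (i j : ι) (h : i ≤ j) (u : B →ₐ[A] C) (x : G i ⊗[A] B) :
    Algebra.TensorProduct.map (fA G f A hf i j h) (AlgHom.id A C)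
      (Algebra.TensorProduct.map (AlgHom.id A (G i)) u x) =
    Algebra.TensorProduct.map (AlgHom.id A (G j)) u
      (Algebra.TensorProduct.map (fA G f A hf i j h) (AlgHom.id A B) x) := by
  induction x using TensorProduct.induction_on with
  | zero => simp
  | tmul g b => simp only [Algebra.TensorProduct.map_tmul, AlgHom.coe_id, id_eq]
  | add x y hx hy => rw [map_add, map_add, map_add, map_add, hx, hy]

include hf in
theorem part1 (hB : Algebra.FiniteType A B) (u u' : B →ₐ[A] C)
    (huu' : letI := algR G f A l
      Algebra.TensorProduct.map (AlgHom.id A (Ring.DirectLimit G (fun i j h => f i j h))) u =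
        Algebra.TensorProduct.map (AlgHom.id A (Ring.DirectLimit G (fun i j h => f i j h))) u') :
    ∃ i : ι, Algebra.TensorProduct.map (AlgHom.id A (G i)) u =
      Algebra.TensorProduct.map (AlgHom.id A (G i)) u' := by
  classical
  letI := algR G f A l
  obtain ⟨s, hs⟩ := hB.out
  have hz : ∀ b : B, Algebra.TensorProduct.map (ofA G f A hf l l) (AlgHom.id A C)
      ((1 : G l) ⊗ₜ[A] u b - (1 : G l) ⊗ₜ[A] u' b) = 0 := by
    intro b
    have := DFunLike.congr_fun huu' ((1 : Ring.DirectLimit G (fun i j h => f i j h)) ⊗ₜ[A] b)
    simp only [Algebra.TensorProduct.map_tmul, AlgHom.coe_id, id_eq] at this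
    rw [map_sub, Algebra.TensorProduct.map_tmul, Algebra.TensorProduct.map_tmul, map_one,
      AlgHom.coe_id, id_eq, id_eq, this, sub_self]
  have hk := fun b => key G f A hf l C l _ (hz b)
  choose j hj hjz using hk
  obtain ⟨i, hi⟩ := (s.image j).exists_le
  refine ⟨i, ?_⟩
  have hb : ∀ b ∈ s, (1 : G i) ⊗ₜ[A] u b = (1 : G i) ⊗ₜ[A] u' b := by
    intro b hbs
    have hji : j b ≤ i := hi _ (Finset.mem_image_of_mem j hbs)
    have := congrArg (Algebra.TensorProduct.map (fA G f A hf (j b) i hji) (AlgHom.id A C)) (hjz b)
    rw [map_zero, map_fA_fA, map_sub, Algebra.TensorProduct.map_tmul,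
      Algebra.TensorProduct.map_tmul, map_one, AlgHom.coe_id, id_eq, id_eq, sub_eq_zero] at this
    exact this
  apply Algebra.TensorProduct.ext
  · ext g
    simp
  · apply AlgHom.ext_of_adjoin_eq_top hs
    intro b hbs
    simp only [AlgHom.coe_comp, AlgHom.coe_restrictScalars', Function.comp_apply,
      Algebra.TensorProduct.includeRight_apply, Algebra.TensorProduct.map_tmul, map_one]
    exact hb b hbs

include hf in
theorem part2 (hC : Algebra.FiniteType A C) (u : B →ₐ[A] C)
    (hsurj : letI := algR G f A l
      Function.Surjective (Algebra.TensorProduct.map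
        (AlgHom.id A (Ring.DirectLimit G (fun i j h => f i j h))) u)) :
    ∃ i : ι, Function.Surjective (Algebra.TensorProduct.map (AlgHom.id A (G i)) u) := by
  classical
  letI := algR G f A l
  obtain ⟨s, hs⟩ := hC.out
  have h1 : ∀ c : C, ∃ (j : ι) (v : G j ⊗[A] B),
      Algebra.TensorProduct.map (AlgHom.id A (G j)) u v = (1 : G j) ⊗ₜ[A] c := by
    intro c
    obtain ⟨w, hw⟩ := hsurj ((1 : Ring.DirectLimit G (fun i j h => f i j h)) ⊗ₜ[A] c)
    obtain ⟨i, w', rfl⟩ := exists_stage G f A hf l B w
    have hy : Algebra.TensorProduct.map (ofA G f A hf l i) (AlgHom.id A C)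
        (Algebra.TensorProduct.map (AlgHom.id A (G i)) u w' - (1 : G i) ⊗ₜ[A] c) = 0 := by
      rw [map_sub, map_comm_of, hw, Algebra.TensorProduct.map_tmul, map_one, AlgHom.coe_id, id_eq,
        sub_self]
    obtain ⟨j, hij, hj⟩ := key G f A hf l C i _ hy
    refine ⟨j, Algebra.TensorProduct.map (fA G f A hf i j hij) (AlgHom.id A B) w', ?_⟩
    rw [map_sub, map_comm_f, Algebra.TensorProduct.map_tmul, map_one, AlgHom.coe_id, id_eq,
      sub_eq_zero] at hj
    exact hj
  choose j v hv using h1
  obtain ⟨i, hi⟩ := (s.image j).exists_le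
  refine ⟨i, ?_⟩
  have hrange : ∀ c ∈ s, (1 : G i) ⊗ₜ[A] c ∈
      (Algebra.TensorProduct.map (AlgHom.id A (G i)) u).range := by
    intro c hcs
    have hji : j c ≤ i := hi _ (Finset.mem_image_of_mem j hcs)
    refine ⟨Algebra.TensorProduct.map (fA G f A hf (j c) i hji) (AlgHom.id A B) (v c), ?_⟩
    show Algebra.TensorProduct.map (AlgHom.id A (G i)) u _ = _
    rw [← map_comm_f, hv, Algebra.TensorProduct.map_tmul, map_one, AlgHom.coe_id, id_eq]
  have htop : ∀ c : C, (1 : G i) ⊗ₜ[A] c ∈
      (Algebra.TensorProduct.map (AlgHom.id A (G i)) u).range := by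
    intro c
    have hle : Algebra.adjoin A (s : Set C) ≤
        ((Algebra.TensorProduct.map (AlgHom.id A (G i)) u).range).comap
          (Algebra.TensorProduct.includeRight (R := A) (A := G i) (B := C)) := by
      rw [Algebra.adjoin_le_iff]
      intro c hc
      exact hrange c hc
    have : c ∈ Algebra.adjoin A (s : Set C) := by rw [hs]; trivial
    exact hle this
  intro y
  rw [← AlgHom.mem_range]
  induction y using TensorProduct.induction_on with
  | zero => exact zero_mem _
  | tmul g c =>
    have : g ⊗ₜ[A] c = (g ⊗ₜ[A] (1 : C)) * ((1 : G i) ⊗ₜ[A] c) := by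
      rw [Algebra.TensorProduct.tmul_mul_tmul, mul_one, one_mul]
    rw [this]
    refine mul_mem ⟨g ⊗ₜ[A] (1 : B), ?_⟩ (htop c)
    simp
  | add x y hx hy => exact add_mem hx hy

end Setup


open TensorProduct in
/-- Let R = colim R_i be a directed colimit of A-algebras (compatible transition maps), B and C
A-algebras. (1) If B is of finite type over A, two A-algebra maps B → C whose base changes to R
coincide already have equal base changes to some R_i. (2) If C is of finite type over A and u : B →
C has surjective base change to R, then its base change to some R_i is surjective. (The A-algebra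
structure on R is through any stage R_l; it does not depend on l.) -/
theorem result {ι : Type u} [Preorder ι]
    [Nonempty ι] [IsDirectedOrder ι] (G : ι → Type u) [∀ i, CommRing (G i)]
    (f : ∀ i j, i ≤ j → G i →+* G j) [DirectedSystem G (fun i j h => f i j h)]
    (A : Type u) [CommRing A] [∀ i, Algebra A (G i)]
    (hf : ∀ i j (h : i ≤ j), (f i j h).comp (algebraMap A (G i)) = algebraMap A (G j)) (l : ι)
    (B C : Type u) [CommRing B] [CommRing C] [Algebra A B] [Algebra A C] :
    letI : Algebra A (Ring.DirectLimit G (fun i j h => f i j h)) :=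
      ((Ring.DirectLimit.of G (fun i j h => f i j h) l).comp (algebraMap A (G l))).toAlgebra
    (Algebra.FiniteType A B → ∀ u u' : B →ₐ[A] C,
        Algebra.TensorProduct.map (AlgHom.id A (Ring.DirectLimit G (fun i j h => f i j h))) u =
            Algebra.TensorProduct.map (AlgHom.id A (Ring.DirectLimit G (fun i j h => f i j h))) u' →
          ∃ i : ι, Algebra.TensorProduct.map (AlgHom.id A (G i)) u =
            Algebra.TensorProduct.map (AlgHom.id A (G i)) u') ∧
      (Algebra.FiniteType A C → ∀ u : B →ₐ[A] C,
        Function.Surjective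
            (Algebra.TensorProduct.map (AlgHom.id A (Ring.DirectLimit G (fun i j h => f i j h))) u) →
          ∃ i : ι, Function.Surjective (Algebra.TensorProduct.map (AlgHom.id A (G i)) u)) := by
  exact ⟨fun hB u u' h => part1 G f A hf l hB u u' h, fun hC u h => part2 G f A hf l hC u h⟩

end Groth.Agent.S9177
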