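import Groth.Statements.S9178
import Mathlib

set_option autoImplicit false
universe u
open CAlg

namespace Groth.Agent.S9178

/-- For ring maps A → B → C with A → C surjective, writing I = ker(A → C) and J = ker(B → C), the
sequence I/I² → J/J² → C ⊗_B Ω_{B/A} → 0 is exact. Stated: the image of I/I² in J/J² is exactly the
kernel of J/J² → C ⊗_B Ω_{B/A} (surjectivity of the latter map is the standard conormal sequence for
the surjection B → C). -/
theorem result (A B C : Type u) [CommRing A] [CommRing B]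
    [CommRing C] [Algebra A B] [Algebra B C] [Algebra A C] [IsScalarTower A B C]
    (hAC : Function.Surjective (algebraMap A C))
    (h : RingHom.ker (algebraMap A C) ≤ (RingHom.ker (algebraMap B C)).comap (Algebra.ofId A B)) :
    Function.Exact
      (Ideal.mapCotangent (RingHom.ker (algebraMap A C)) (RingHom.ker (algebraMap B C)) (Algebra.ofId A B) h)
      (KaehlerDifferential.kerCotangentToTensor A B C) := by
  classical
  intro y
  constructor
  · -- kernel ⊆ range
    intro hy
    obtain ⟨⟨x, hx⟩, rfl⟩ := Ideal.toCotangent_surjective _ y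
    rw [KaehlerDifferential.kerCotangentToTensor_toCotangent] at hy
    -- notation
    let Q : Ideal B := (RingHom.ker (algebraMap A C)).map (algebraMap A B) ⊔ (RingHom.ker (algebraMap B C)) ^ 2
    let Jq : Ideal (B ⧸ Q) := (RingHom.ker (algebraMap B C)).map (Ideal.Quotient.mk Q)
    have hJq : Jq ^ 2 = ⊥ := by
      rw [← Ideal.map_pow, Ideal.map_eq_bot_iff_le_ker, Ideal.mk_ker]
      exact le_sup_right
    have hker : RingHom.ker (algebraMap A C) ≤ RingHom.ker (algebraMap A (B ⧸ Q)) := by
      intro a ha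
      rw [RingHom.mem_ker, IsScalarTower.algebraMap_apply A B (B ⧸ Q), Ideal.Quotient.algebraMap_eq,
        Ideal.Quotient.eq_zero_iff_mem]
      exact Ideal.mem_sup_left (Ideal.mem_map_of_mem _ ha)
    let σ' : C →+* (B ⧸ Q) := RingHom.liftOfSurjective (algebraMap A C) hAC ⟨algebraMap A (B ⧸ Q), hker⟩
    have hσ' : ∀ a, σ' (algebraMap A C a) = algebraMap A (B ⧸ Q) a := fun a =>
      RingHom.liftOfRightInverse_comp_apply _ _ _ ⟨algebraMap A (B ⧸ Q), hker⟩ a
    let σ : C →ₐ[A] (B ⧸ Q) := { σ' with commutes' := hσ' }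
    let f : B →ₐ[A] (B ⧸ Q) := σ.comp (IsScalarTower.toAlgHom A B C)
    have hfmem : ∀ b : B, f b - Ideal.Quotient.mk Q b ∈ Jq := by
      intro b
      obtain ⟨a, ha⟩ := hAC (algebraMap B C b)
      have : f b = Ideal.Quotient.mk Q (algebraMap A B a) := by
        show σ' (algebraMap B C b) = _
        rw [← ha, hσ', IsScalarTower.algebraMap_apply A B (B ⧸ Q), Ideal.Quotient.algebraMap_eq]
      rw [this, ← map_sub]
      apply Ideal.mem_map_of_mem
      rw [RingHom.mem_ker, map_sub, ← IsScalarTower.algebraMap_apply, ha, sub_self]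
    have e : (Ideal.Quotient.mkₐ A Jq).comp f = IsScalarTower.toAlgHom A B ((B ⧸ Q) ⧸ Jq) := by
      ext b
      show Ideal.Quotient.mk Jq (f b) = Ideal.Quotient.mk Jq (Ideal.Quotient.mk Q b)
      rw [Ideal.Quotient.eq]
      exact hfmem b
    let Dv : Derivation A B Jq := derivationToSquareZeroOfLift Jq hJq f e
    have hDv : ∀ b, ((Dv b : Jq) : B ⧸ Q) = f b - Ideal.Quotient.mk Q b := fun b => rfl
    -- C-module structure on Jq through σ
    letI instC : Module C Jq := Module.compHom Jq σ'
    have hsmulC : ∀ (c : C) (y : Jq), ((c • y : Jq) : B ⧸ Q) = σ' c * (y : B ⧸ Q) := fun c y => rfl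
    have hsmulB : ∀ (b : B) (y : Jq), ((b • y : Jq) : B ⧸ Q) = Ideal.Quotient.mk Q b * (y : B ⧸ Q) :=
      fun b y => rfl
    have hmulzero : ∀ u v : B ⧸ Q, u ∈ Jq → v ∈ Jq → u * v = 0 := by
      intro u v hu hv
      rw [← Ideal.mem_bot, ← hJq, pow_two]
      exact Ideal.mul_mem_mul hu hv
    haveI : IsScalarTower B C Jq := by
      refine ⟨fun b c y => ?_⟩
      apply Subtype.ext
      rw [hsmulC, hsmulB, hsmulC, Algebra.smul_def, map_mul, mul_assoc]
      have h1 : σ' (algebraMap B C b) - Ideal.Quotient.mk Q b ∈ Jq := hfmem b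
      have h2 : σ' c * (y : B ⧸ Q) ∈ Jq := Ideal.mul_mem_left _ _ y.2
      have := hmulzero _ _ h1 h2
      rw [sub_mul, sub_eq_zero] at this
      exact this
    let L : TensorProduct B C (Ω[B⁄A]) →ₗ[C] Jq := LinearMap.liftBaseChange C Dv.liftKaehlerDifferential
    have hL : L ((1 : C) ⊗ₜ[B] KaehlerDifferential.D A B x) = Dv x := by
      rw [LinearMap.liftBaseChange_tmul, Derivation.liftKaehlerDifferential_comp_D, one_smul]
    rw [hy, map_zero] at hL
    have hxQ : x ∈ Q := by
      have h0 : ((Dv x : Jq) : B ⧸ Q) = 0 := by rw [← hL]; rfl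
      rw [hDv] at h0
      have hfx : f x = 0 := by
        show σ' (algebraMap B C x) = 0
        rw [RingHom.mem_ker.mp hx, map_zero]
      rw [hfx, zero_sub, neg_eq_zero, Ideal.Quotient.eq_zero_iff_mem] at h0
      exact h0
    -- the range is stable under the B-action
    have hstab : ∀ (b : B) (m : (RingHom.ker (algebraMap B C)).Cotangent),
        m ∈ LinearMap.range (Ideal.mapCotangent (RingHom.ker (algebraMap A C))
          (RingHom.ker (algebraMap B C)) (Algebra.ofId A B) h) →
        b • m ∈ LinearMap.range (Ideal.mapCotangent (RingHom.ker (algebraMap A C))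
          (RingHom.ker (algebraMap B C)) (Algebra.ofId A B) h) := by
      intro b m hm
      obtain ⟨a, ha⟩ := hAC (algebraMap B C b)
      have hb : b - algebraMap A B a ∈ RingHom.ker (algebraMap B C) := by
        rw [RingHom.mem_ker, map_sub, ← IsScalarTower.algebraMap_apply, ha, sub_self]
      have : b • m = a • m := by
        have h1 := Ideal.Cotangent.smul_eq_zero_of_mem hb m
        rw [sub_smul, sub_eq_zero, algebraMap_smul] at h1
        exact h1
      rw [this]
      exact Submodule.smul_mem _ _ hm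
    have hJle : (RingHom.ker (algebraMap A C)).map (algebraMap A B) ≤ RingHom.ker (algebraMap B C) :=
      Ideal.map_le_iff_le_comap.mpr h
    have hmapmem : ∀ u ∈ (RingHom.ker (algebraMap A C)).map (algebraMap A B),
        ∃ hu : u ∈ RingHom.ker (algebraMap B C),
          (RingHom.ker (algebraMap B C)).toCotangent ⟨u, hu⟩ ∈
            LinearMap.range (Ideal.mapCotangent (RingHom.ker (algebraMap A C))
              (RingHom.ker (algebraMap B C)) (Algebra.ofId A B) h) := by
      intro u hu
      refine Submodule.span_induction (p := fun u _ => ∃ hu : u ∈ RingHom.ker (algebraMap B C),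
          (RingHom.ker (algebraMap B C)).toCotangent ⟨u, hu⟩ ∈
            LinearMap.range (Ideal.mapCotangent (RingHom.ker (algebraMap A C))
              (RingHom.ker (algebraMap B C)) (Algebra.ofId A B) h)) ?_ ?_ ?_ ?_ hu
      · rintro _ ⟨a, ha, rfl⟩
        exact ⟨h ha, ⟨(RingHom.ker (algebraMap A C)).toCotangent ⟨a, ha⟩, rfl⟩⟩
      · refine ⟨zero_mem _, ?_⟩
        have : (⟨0, zero_mem _⟩ : RingHom.ker (algebraMap B C)) = 0 := rfl
        rw [this, map_zero]
        exact zero_mem _
      · rintro u v _ _ ⟨hu, hu'⟩ ⟨hv, hv'⟩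
        refine ⟨add_mem hu hv, ?_⟩
        have : (⟨u + v, add_mem hu hv⟩ : RingHom.ker (algebraMap B C)) = ⟨u, hu⟩ + ⟨v, hv⟩ := rfl
        rw [this, map_add]
        exact add_mem hu' hv'
      · rintro b u _ ⟨hu, hu'⟩
        refine ⟨Ideal.mul_mem_left _ _ hu, ?_⟩
        have : (⟨b • u, Ideal.mul_mem_left _ _ hu⟩ : RingHom.ker (algebraMap B C)) = b • ⟨u, hu⟩ := rfl
        rw [this, map_smul]
        exact hstab b _ hu'
    obtain ⟨u, hu, w, hw, rfl⟩ := Submodule.mem_sup.mp hxQ
    obtain ⟨huJ, hu'⟩ := hmapmem u hu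
    have hwJ : w ∈ RingHom.ker (algebraMap B C) := Ideal.pow_le_self two_ne_zero hw
    have : (⟨u + w, hx⟩ : RingHom.ker (algebraMap B C)) = ⟨u, huJ⟩ + ⟨w, hwJ⟩ := rfl
    rw [this, map_add, (Ideal.toCotangent_eq_zero _ ⟨w, hwJ⟩).mpr hw, add_zero]
    exact hu'
  · rintro ⟨z, rfl⟩
    obtain ⟨⟨a, ha⟩, rfl⟩ := Ideal.toCotangent_surjective _ z
    rw [Ideal.mapCotangent_toCotangent, KaehlerDifferential.kerCotangentToTensor_toCotangent]
    simp

end Groth.Agent.S9178
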