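import Groth.Statements.S9179
import Mathlib
import Groth.Agent.Lib.Helper24.FilteredColimAlg

set_option autoImplicit false
universe u
open CategoryTheory CategoryTheory.Limits
open CAlg

namespace Groth.Agent.S9179

open CategoryTheory Limits

section Construction

variable {R A : Type u} [CommRing R] [CommRing A] [Algebra R A]
  {P : Type u} [CommRing P] [Algebra R P] (p : P →ₐ[R] A)

/-- The ideal generated by a finite set of elements of the kernel. -/
def J (s : Finset (RingHom.ker p.toRingHom)) : Ideal P :=
  Ideal.span ((fun k : RingHom.ker p.toRingHom => (k : P)) '' (s : Set (RingHom.ker p.toRingHom)))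

theorem J_mono {s t : Finset (RingHom.ker p.toRingHom)} (h : s ≤ t) : J p s ≤ J p t :=
  Ideal.span_mono (Set.image_mono (Finset.coe_subset.mpr h))

theorem J_le_ker (s : Finset (RingHom.ker p.toRingHom)) : J p s ≤ RingHom.ker p.toRingHom := by
  rw [J, Ideal.span_le]
  rintro _ ⟨k, -, rfl⟩
  exact k.2

theorem J_fg (s : Finset (RingHom.ker p.toRingHom)) : (J p s).FG := by
  classical
  refine ⟨s.image (fun k : RingHom.ker p.toRingHom => (k : P)), ?_⟩
  rw [J, Finset.coe_image]

/-- The diagram of finitely presented quotients. -/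
noncomputable def Dg : Finset (RingHom.ker p.toRingHom) ⥤ Under (CommRingCat.of R) where
  obj s := CommRingCat.mkUnder (CommRingCat.of R) (P ⧸ J p s)
  map {s t} h := (Ideal.Quotient.factorₐ R (J_mono p (leOfHom h))).toUnder
  map_id s := by
    ext a
    obtain ⟨a, rfl⟩ := Ideal.Quotient.mk_surjective a
    rfl
  map_comp {s t v} h h' := by
    ext a
    obtain ⟨a, rfl⟩ := Ideal.Quotient.mk_surjective a
    rfl

/-- The cocone with vertex `A`. -/
noncomputable def cc : Cocone (Dg p) where
  pt := CommRingCat.mkUnder (CommRingCat.of R) A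
  ι :=
    { app := fun s => (Ideal.Quotient.liftₐ (J p s) p (fun a ha => J_le_ker p s ha)).toUnder
      naturality := fun s t h => by
        ext a
        obtain ⟨a, rfl⟩ := Ideal.Quotient.mk_surjective a
        rfl }

theorem cc_app_mk (s : Finset (RingHom.ker p.toRingHom)) (x : P) :
    ((cc p).ι.app s).right.hom (Ideal.Quotient.mk (J p s) x) = p x := rfl

theorem Dg_map_mk {s t : Finset (RingHom.ker p.toRingHom)} (h : s ⟶ t) (x : P) :
    ((Dg p).map h).right.hom (Ideal.Quotient.mk (J p s) x) = Ideal.Quotient.mk (J p t) x := rfl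

theorem Dg_map_mk_eq_zero {s t : Finset (RingHom.ker p.toRingHom)} (h : s ⟶ t) (x : P)
    (hx : x ∈ J p t) :
    ((Dg p).map h).right.hom (Ideal.Quotient.mk (J p s) x) = 0 :=
  (Dg_map_mk p h x).trans (Ideal.Quotient.eq_zero_iff_mem.mpr hx)

theorem h1_aux (hp : Function.Surjective p) (a : (cc p).pt.right) :
    ∃ (s : Finset (RingHom.ker p.toRingHom)) (b : ((Dg p).obj s).right),
      ((cc p).ι.app s).right.hom b = a := by
  obtain ⟨x, hx⟩ := hp a
  exact ⟨∅, Ideal.Quotient.mk (J p ∅) x, (cc_app_mk p ∅ x).trans hx⟩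

theorem h2_aux (s : Finset (RingHom.ker p.toRingHom)) (b : ((Dg p).obj s).right)
    (hb : ((cc p).ι.app s).right.hom b = 0) :
    ∃ (t : Finset (RingHom.ker p.toRingHom)) (h : s ⟶ t), ((Dg p).map h).right.hom b = 0 := by
  classical
  obtain ⟨x, rfl⟩ : ∃ x : P, Ideal.Quotient.mk (J p s) x = b := Ideal.Quotient.mk_surjective b
  have hx : x ∈ RingHom.ker p.toRingHom := by
    have := (cc_app_mk p s x).symm.trans hb
    exact this
  have hmem : x ∈ J p (insert ⟨x, hx⟩ s) := by
    apply Ideal.subset_span
    refine ⟨⟨x, hx⟩, ?_, rfl⟩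
    rw [Finset.mem_coe]
    exact Finset.mem_insert_self _ _
  have := Dg_map_mk_eq_zero p
    (homOfLE (Finset.subset_insert (⟨x, hx⟩ : RingHom.ker p.toRingHom) s)) x hmem
  exact ⟨_, _, this⟩

end Construction


/-- An R-algebra of finite type is the colimit of a filtered system of finitely presented R-algebras
whose transition maps are all surjective. -/
theorem result (R A : Type u) [CommRing R] [CommRing A]
    [Algebra R A] [Algebra.FiniteType R A] :
    ∃ (I : Type u) (_ : SmallCategory I) (_ : IsFiltered I) (D : I ⥤ Under (CommRingCat.of R))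
      (c : Cocone D) (_ : IsColimit c),
      (∀ i, (D.obj i).hom.hom.FinitePresentation) ∧
      (∀ (i j : I) (φ : i ⟶ j), Function.Surjective (D.map φ).right.hom) ∧
      Nonempty (c.pt ≅ Under.mk (CommRingCat.ofHom (algebraMap R A))) := by
  classical
  obtain ⟨n, p, hp⟩ := (Algebra.FiniteType.iff_quotient_mvPolynomial'' (R := R) (S := A)).mp inferInstance
  have hcolim : Nonempty (IsColimit (cc p)) := by
    exact Groth.Agent.Helper24.nonempty_isColimit_under (Dg p) (cc p) (h1_aux p hp) (h2_aux p)
  obtain ⟨hc⟩ := hcolim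
  refine ⟨Finset (RingHom.ker p.toRingHom), inferInstance, inferInstance, Dg p, cc p, hc, ?_, ?_, ⟨Iso.refl _⟩⟩
  · intro s
    show (algebraMap R (MvPolynomial (Fin n) R ⧸ J p s)).FinitePresentation
    rw [RingHom.finitePresentation_algebraMap]
    exact Algebra.FinitePresentation.quotient (J_fg p s)
  · intro s t φ
    show Function.Surjective (Ideal.Quotient.factor (J_mono p (leOfHom φ)))
    exact Ideal.Quotient.factor_surjective _

end Groth.Agent.S9179
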