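import Groth.Statements.S9183
import Mathlib
import Groth.Agent.Lib.Helper24.FilteredColimAlg

set_option autoImplicit false
universe u
open CategoryTheory CategoryTheory.Limits
open CAlg

namespace Groth.Agent.S9183

open CategoryTheory Limits

section Construction

variable (R A : Type u) [CommRing R] [CommRing A] [Algebra R A]

/-- The tautological presentation `R[X_a : a ∈ A] → A`. -/
noncomputable abbrev pp : MvPolynomial A R →ₐ[R] A := MvPolynomial.aeval (fun a : A => a)

/-- Index: a finite set of variables and a finite set of relations in these variables. -/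
structure Idx where
  t : Finset A
  s : Finset (MvPolynomial A R)
  hs : ∀ x ∈ s, x ∈ MvPolynomial.supported R (t : Set A) ∧ pp R A x = 0

variable {R A}

instance : Preorder (Idx R A) := Preorder.lift (fun i => (i.t, i.s))

theorem Idx.le_def {i j : Idx R A} : i ≤ j ↔ i.t ⊆ j.t ∧ i.s ⊆ j.s := Iff.rfl

instance : Nonempty (Idx R A) := ⟨⟨∅, ∅, by simp⟩⟩

instance : IsDirected (Idx R A) (· ≤ ·) := by
  classical
  refine ⟨fun i j => ⟨⟨i.t ∪ j.t, i.s ∪ j.s, ?_⟩, ?_, ?_⟩⟩
  · intro x hx
    rcases Finset.mem_union.mp hx with h | h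
    · exact ⟨MvPolynomial.supported_mono (by simp) (i.hs x h).1, (i.hs x h).2⟩
    · exact ⟨MvPolynomial.supported_mono (by simp) (j.hs x h).1, (j.hs x h).2⟩
  · exact ⟨Finset.subset_union_left, Finset.subset_union_left⟩
  · exact ⟨Finset.subset_union_right, Finset.subset_union_right⟩

/-- the polynomial subalgebra in the variables `i.t` -/
noncomputable abbrev Sup (i : Idx R A) : Subalgebra R (MvPolynomial A R) :=
  MvPolynomial.supported R (i.t : Set A)

/-- the ideal of relations -/
noncomputable def JJ (i : Idx R A) : Ideal (Sup i) :=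
  Ideal.span {x : Sup i | (x : MvPolynomial A R) ∈ i.s}

theorem Sup_mono {i j : Idx R A} (h : i ≤ j) : Sup i ≤ Sup j :=
  MvPolynomial.supported_mono (Finset.coe_subset.mpr h.1)

theorem JJ_le_comap {i j : Idx R A} (h : i ≤ j) :
    JJ i ≤ (JJ j).comap (Subalgebra.inclusion (Sup_mono h)) := by
  rw [JJ, Ideal.span_le]
  intro x hx
  have hx' : (x : MvPolynomial A R) ∈ i.s := hx
  rw [SetLike.mem_coe, Ideal.mem_comap]
  apply Ideal.subset_span
  rw [Set.mem_ofPred_eq, Subalgebra.coe_inclusion]
  exact h.2 hx'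

theorem JJ_fg (i : Idx R A) : (JJ i).FG := by
  apply Submodule.fg_span
  have : {x : Sup i | (x : MvPolynomial A R) ∈ i.s} =
      (Subtype.val : Sup i → MvPolynomial A R) ⁻¹' (i.s : Set (MvPolynomial A R)) := rfl
  rw [this]
  exact (Finset.finite_toSet i.s).preimage Subtype.val_injective.injOn

/-- the structure map to `A` -/
noncomputable def qq (i : Idx R A) : (Sup i ⧸ JJ i) →ₐ[R] A :=
  Ideal.Quotient.liftₐ (JJ i) ((pp R A).comp (Sup i).val) (by
    intro a ha
    have hle : JJ i ≤ RingHom.ker ((pp R A).comp (Sup i).val).toRingHom := by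
      rw [JJ, Ideal.span_le]
      intro x hx
      exact (i.hs _ hx).2
    exact hle ha)

theorem qq_mk (i : Idx R A) (x : Sup i) :
    qq i (Ideal.Quotient.mk (JJ i) x) = pp R A (x : MvPolynomial A R) := rfl

/-- transition maps -/
noncomputable def gg {i j : Idx R A} (h : i ≤ j) : (Sup i ⧸ JJ i) →ₐ[R] (Sup j ⧸ JJ j) :=
  Ideal.quotientMapₐ (JJ j) (Subalgebra.inclusion (Sup_mono h)) (JJ_le_comap h)

theorem gg_mk {i j : Idx R A} (h : i ≤ j) (x : Sup i) :
    gg h (Ideal.Quotient.mk (JJ i) x) =
      Ideal.Quotient.mk (JJ j) (Subalgebra.inclusion (Sup_mono h) x) := rfl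

/-- The diagram. -/
noncomputable def Dg : Idx R A ⥤ Under (CommRingCat.of R) where
  obj i := CommRingCat.mkUnder (CommRingCat.of R) (Sup i ⧸ JJ i)
  map {i j} h := (gg (leOfHom h)).toUnder
  map_id i := by
    ext a
    obtain ⟨a, rfl⟩ := Ideal.Quotient.mk_surjective a
    rfl
  map_comp {i j k} h h' := by
    ext a
    obtain ⟨a, rfl⟩ := Ideal.Quotient.mk_surjective a
    rfl

/-- The cocone with vertex `A`. -/
noncomputable def cc : Cocone (Dg (R := R) (A := A)) where
  pt := CommRingCat.mkUnder (CommRingCat.of R) A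
  ι :=
    { app := fun i => (qq i).toUnder
      naturality := fun i j h => by
        ext a
        obtain ⟨a, rfl⟩ := Ideal.Quotient.mk_surjective a
        rfl }

theorem cc_app_mk (i : Idx R A) (x : Sup i) :
    ((cc (R := R) (A := A)).ι.app i).right.hom (Ideal.Quotient.mk (JJ i) x) =
      pp R A (x : MvPolynomial A R) := rfl

theorem Dg_map_mk {i j : Idx R A} (h : i ⟶ j) (x : Sup i) :
    ((Dg (R := R) (A := A)).map h).right.hom (Ideal.Quotient.mk (JJ i) x) =
      Ideal.Quotient.mk (JJ j) (Subalgebra.inclusion (Sup_mono (leOfHom h)) x) := rfl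

theorem h1_aux (a : (cc (R := R) (A := A)).pt.right) :
    ∃ (i : Idx R A) (b : ((Dg (R := R) (A := A)).obj i).right),
      ((cc (R := R) (A := A)).ι.app i).right.hom b = a := by
  classical
  obtain ⟨a', rfl⟩ : ∃ a' : A, a' = a := ⟨a, rfl⟩
  let i : Idx R A := ⟨{a'}, ∅, by simp⟩
  have hX : (MvPolynomial.X a' : MvPolynomial A R) ∈ Sup i := by
    apply Algebra.subset_adjoin
    exact ⟨a', by simp [i], rfl⟩
  refine ⟨i, Ideal.Quotient.mk (JJ i) ⟨MvPolynomial.X a', hX⟩, ?_⟩
  rw [cc_app_mk]
  simp

theorem h2_aux (i : Idx R A) (b : ((Dg (R := R) (A := A)).obj i).right)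
    (hb : ((cc (R := R) (A := A)).ι.app i).right.hom b = 0) :
    ∃ (j : Idx R A) (h : i ⟶ j), ((Dg (R := R) (A := A)).map h).right.hom b = 0 := by
  classical
  obtain ⟨x, rfl⟩ : ∃ x : Sup i, Ideal.Quotient.mk (JJ i) x = b := Ideal.Quotient.mk_surjective b
  have hx : pp R A (x : MvPolynomial A R) = 0 := (cc_app_mk i x).symm.trans hb
  let j : Idx R A := ⟨i.t, insert (x : MvPolynomial A R) i.s, by
    intro y hy
    rcases Finset.mem_insert.mp hy with rfl | h
    · exact ⟨x.2, hx⟩
    · exact i.hs y h⟩
  have hij : i ≤ j := ⟨subset_rfl, Finset.subset_insert _ _⟩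
  have hmem : Subalgebra.inclusion (Sup_mono hij) x ∈ JJ j := by
    apply Ideal.subset_span
    rw [Set.mem_ofPred_eq, Subalgebra.coe_inclusion]
    exact Finset.mem_insert_self _ _
  refine ⟨j, homOfLE hij, ?_⟩
  exact (Dg_map_mk (homOfLE hij) x).trans (Ideal.Quotient.eq_zero_iff_mem.mpr hmem)

theorem fp_aux (i : Idx R A) : Algebra.FinitePresentation R (Sup i ⧸ JJ i) := by
  haveI : Algebra.FinitePresentation R (Sup i) :=
    Algebra.FinitePresentation.equiv
      (MvPolynomial.supportedEquivMvPolynomial (R := R) (i.t : Set A)).symm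
  exact Algebra.FinitePresentation.quotient (JJ_fg i)

end Construction


/-- Every R-algebra A, with no finiteness assumption, is the colimit of a filtered system of finitely
presented R-algebras. (The published statement asserts that the category of all finitely presented
R-algebras with a map to A is filtered with colimit A; this row states that some small filtered
system of finitely presented R-algebras has colimit A.) -/
theorem result (R A : Type u) [CommRing R] [CommRing A] [Algebra R A] :
    ∃ (I : Type u) (_ : SmallCategory I) (_ : IsFiltered I) (D : I ⥤ Under (CommRingCat.of R))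
      (c : Cocone D) (_ : IsColimit c),
      (∀ i, (D.obj i).hom.hom.FinitePresentation) ∧
      Nonempty (c.pt ≅ Under.mk (CommRingCat.ofHom (algebraMap R A))) := by
  obtain ⟨hc⟩ := Groth.Agent.Helper24.nonempty_isColimit_under (Dg (R := R) (A := A)) cc
    h1_aux h2_aux
  refine ⟨Idx R A, inferInstance, inferInstance, Dg, cc, hc, ?_, ⟨Iso.refl _⟩⟩
  intro i
  exact (RingHom.finitePresentation_algebraMap (A := R) (B := Sup i ⧸ JJ i)).mpr (fp_aux i)

end Groth.Agent.S9183
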