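import Groth.Statements.S9185
import Mathlib

set_option autoImplicit false
universe u
open Diff16

namespace Groth.Agent.S9185

section aux

variable {R S : Type u} [CommRing R] [CommRing S] [Algebra R S]
  {M F N : Type u} [AddCommGroup M] [Module S M] [Module R M] [IsScalarTower R S M]
  [AddCommGroup F] [Module S F] [Module R F] [IsScalarTower R S F]
  [AddCommGroup N] [Module S N] [Module R N] [IsScalarTower R S N]

theorem comm_comp (L : F →ₗ[S] N) (E : M →ₗ[R] F) (b : S) :
    Diff16.commutator R S M N (L.restrictScalars R ∘ₗ E) b =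
      L.restrictScalars R ∘ₗ Diff16.commutator R S M F E b := by
  ext m
  simp [Diff16.commutator]

theorem isDiffOpLE_comp (k : ℕ) : ∀ (E : M →ₗ[R] F) (L : F →ₗ[S] N),
    Diff16.IsDiffOpLE R S M F k E → Diff16.IsDiffOpLE R S M N k (L.restrictScalars R ∘ₗ E) := by
  induction k with
  | zero =>
    intro E L h b m
    have h' : E (b • m) = b • E m := h b m
    simp [h']
  | succ n ih =>
    intro E L h b
    rw [comm_comp]
    exact ih _ L (h b)

variable (S) in
/-- the submodule killed by all linearisations of differential operators of order `≤ k` -/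
def Kk (k : ℕ) (E : M →ₗ[R] F) : Submodule S F where
  carrier := {x | ∀ (N : Type u) [AddCommGroup N] [Module S N] [Module R N] [IsScalarTower R S N]
    (L : F →ₗ[S] N), Diff16.IsDiffOpLE R S M N k (L.restrictScalars R ∘ₗ E) → L x = 0}
  zero_mem' := by intro N _ _ _ _ L _; exact map_zero L
  add_mem' := by intro x y hx hy N _ _ _ _ L h; rw [map_add, hx N L h, hy N L h, add_zero]
  smul_mem' := by intro c x hx N _ _ _ _ L h; rw [map_smul, hx N L h, smul_zero]

theorem isDiffOpLE_mkQ (k : ℕ) : ∀ (E : M →ₗ[R] F),
    Diff16.IsDiffOpLE R S M (F ⧸ Kk S k E) k ((Kk S k E).mkQ.restrictScalars R ∘ₗ E) := by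
  induction k with
  | zero =>
    intro E b m
    show (Kk S 0 E).mkQ (E (b • m)) = b • (Kk S 0 E).mkQ (E m)
    have h0 : (Kk S 0 E).mkQ (E (b • m) - b • E m) = 0 := by
      rw [Submodule.mkQ_apply, Submodule.Quotient.mk_eq_zero]
      intro N _ _ _ _ L h
      have h' : L (E (b • m)) = b • L (E m) := h b m
      rw [map_sub, h', map_smul L b (E m), sub_self]
    rw [map_sub, map_smul (Kk S 0 E).mkQ b (E m), sub_eq_zero] at h0
    exact h0
  | succ n ih =>
    intro E b
    rw [comm_comp]
    have hle : Kk S n (Diff16.commutator R S M F E b) ≤ Kk S (n + 1) E := by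
      intro x hx N _ _ _ _ L h
      apply hx N L
      have h2 := h b
      rwa [comm_comp] at h2
    let q' : (F ⧸ Kk S n (Diff16.commutator R S M F E b)) →ₗ[S] (F ⧸ Kk S (n + 1) E) :=
      (Kk S n (Diff16.commutator R S M F E b)).liftQ (Kk S (n + 1) E).mkQ
        (by rwa [Submodule.ker_mkQ])
    have e : (Kk S (n + 1) E).mkQ.restrictScalars R ∘ₗ Diff16.commutator R S M F E b =
        q'.restrictScalars R ∘ₗ ((Kk S n (Diff16.commutator R S M F E b)).mkQ.restrictScalars R ∘ₗ
          Diff16.commutator R S M F E b) := by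
      ext m; simp [q']
    rw [e]
    exact isDiffOpLE_comp n _ q' (ih _)

end aux

open TensorProduct in
theorem aux (R S : Type u) [CommRing R] [CommRing S] [Algebra R S] (M : Type u)
    [AddCommGroup M] [Module S M] [Module R M] [IsScalarTower R S M] (k : ℕ) :
    ∃ (P : Type u) (_ : AddCommGroup P) (_ : Module S P) (_ : Module R P) (_ : IsScalarTower R S P)
      (D : M →ₗ[R] P), Diff16.IsDiffOpLE R S M P k D ∧
        ∀ (N : Type u) [AddCommGroup N] [Module S N] [Module R N] [IsScalarTower R S N]
          (D' : M →ₗ[R] N),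
          Diff16.IsDiffOpLE R S M N k D' → ∃! α : P →ₗ[S] N, α.restrictScalars R ∘ₗ D = D' := by
  let d₀ : M →ₗ[R] S ⊗[R] M := TensorProduct.mk R S M 1
  refine ⟨(S ⊗[R] M) ⧸ Kk S k d₀, inferInstance, inferInstance, inferInstance, inferInstance,
    (Kk S k d₀).mkQ.restrictScalars R ∘ₗ d₀, isDiffOpLE_mkQ k d₀, ?_⟩
  intro N _ _ _ _ D' hD'
  let L : S ⊗[R] M →ₗ[S] N := LinearMap.liftBaseChange S D'
  have hL : L.restrictScalars R ∘ₗ d₀ = D' := by ext m; simp [L, d₀]
  have hK : Kk S k d₀ ≤ LinearMap.ker L := fun x hx => hx N L (by rw [hL]; exact hD')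
  refine ⟨(Kk S k d₀).liftQ L hK, ?_, ?_⟩
  · ext m
    have := DFunLike.congr_fun hL m
    simpa using this
  · intro α' hα'
    apply Submodule.linearMap_qext
    rw [Submodule.liftQ_mkQ]
    apply TensorProduct.AlgebraTensorModule.ext
    intro s m
    have e1 : s ⊗ₜ[R] m = s • ((1 : S) ⊗ₜ[R] m) := by rw [TensorProduct.smul_tmul', smul_eq_mul, mul_one]
    have e2 : α' ((Kk S k d₀).mkQ ((1 : S) ⊗ₜ[R] m)) = D' m := DFunLike.congr_fun hα' m
    rw [LinearMap.comp_apply, e1, map_smul, map_smul, e2]
    simp [L]


/-- For a ring map R → S, an S-module M and k ≥ 0 there is an S-module P together with a differential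
operator D : M → P of order at most k (relative to R → S) such that every differential operator of
order at most k from M to an S-module N is α ∘ D for a unique S-linear map α : P → N; that is,
differential operators of order ≤ k out of M are represented by P. (Target modules N are taken in
the same universe.) -/
theorem result (R S : Type u) [CommRing R] [CommRing S] [Algebra R S] (M : Type u)
    [AddCommGroup M] [Module S M] [Module R M] [IsScalarTower R S M] (k : ℕ) :
    ∃ (P : Type u) (_ : AddCommGroup P) (_ : Module S P) (_ : Module R P) (_ : IsScalarTower R S P)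
      (D : M →ₗ[R] P), Diff16.IsDiffOpLE R S M P k D ∧
        ∀ (N : Type u) [AddCommGroup N] [Module S N] [Module R N] [IsScalarTower R S N] (D' : M →ₗ[R] N),
          Diff16.IsDiffOpLE R S M N k D' → ∃! α : P →ₗ[S] N, α.restrictScalars R ∘ₗ D = D' := by
  exact aux R S M k

end Groth.Agent.S9185
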