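import Groth.Statements.S9187
import Mathlib
import Groth.Agent.S9189
import Groth.Agent.Lib.Helper9.Lim8

set_option autoImplicit false
universe u
open CategoryTheory AlgebraicGeometry
open Lim

namespace Groth.Agent.S9187

theorem ring_fin2 {A₀ B₀ A B : Type u} [CommRing A₀] [CommRing B₀] [CommRing A] [CommRing B]
    (σ₀ : A₀ →+* B₀) (α : A₀ →+* A) (θ : B₀ →+* B) (σ : A →+* B)
    (hcomm : θ.comp σ₀ = σ.comp α)
    (hgen : Subring.closure (Set.range θ ∪ Set.range σ) = ⊤) (hσft : σ.FiniteType)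
    (G : Finset B₀)
    (hG : ∀ R : Subring B₀, (∀ a, σ₀ a ∈ R) → (∀ b ∈ G, b ∈ R) → ∀ b, b ∈ R)
    (hint : ∀ b ∈ G, σ.IsIntegralElem (θ b)) : σ.Finite := by
  letI := σ.toAlgebra
  have h1 : ∀ b, θ b ∈ integralClosure A B := by
    have := hG ((integralClosure A B).toSubring.comap θ) (fun a => ?_) (fun b hb => ?_)
    · exact fun b => this b
    · show θ (σ₀ a) ∈ integralClosure A B
      rw [← RingHom.comp_apply, hcomm]
      exact (integralClosure A B).algebraMap_mem (α a)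
    · exact hint b hb
  have h2 : Subring.closure (Set.range θ ∪ Set.range σ) ≤ (integralClosure A B).toSubring := by
    rw [Subring.closure_le]
    rintro _ (⟨b, rfl⟩ | ⟨a, rfl⟩)
    · exact h1 b
    · exact (integralClosure A B).algebraMap_mem a
  rw [hgen] at h2
  have h3 : σ.IsIntegral := fun y => h2 (Subring.mem_top y)
  exact h3.to_finite hσft

set_option backward.defeqAttrib.useBackward true in
set_option backward.isDefEq.respectTransparency false in
open AlgebraicGeometry CategoryTheory Limits Groth.Agent.Helper9.Lim8 Groth.Agent.S9189 in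
theorem ci_fin2 {J : Type u} [SmallCategory J] [IsCofiltered J] (E : J ⥤ Scheme.{u})
    (cE : Cone E) (hcE : IsLimit cE) [∀ j, IsAffine (E.obj j)] [IsAffine cE.pt] (j₀ : J)
    {T : Scheme.{u}} [IsAffine T] (x : T ⟶ E.obj j₀) [LocallyOfFiniteType x]
    [IsFinite (pullback.fst (cE.π.app j₀) x)] :
    ∃ k : Over j₀, ∀ (l : Over j₀) (_ : l ⟶ k),
      IsFinite (pullback.fst (E.map l.hom) x) := by
  classical
  haveI hP' : ∀ l : Over j₀, IsAffine (pullback (E.map l.hom) x) := fun l => inferInstance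
  haveI hP : ∀ l : Over j₀, IsAffine ((bcDiagram E x).obj l) := fun l => hP' l
  haveI : IsAffine (((Functor.const J).obj cE.pt).obj j₀) := ‹IsAffine cE.pt›
  haveI : IsAffine (pullback (cE.π.app j₀) x) := inferInstance
  have hint_lim : RingHom.IsIntegral (pullback.fst (cE.π.app j₀) x).appTop.hom :=
    (((HasAffineProperty.iff_of_isAffine (P := @IsFinite)).mp inferInstance).2).to_isIntegral
  have hft : RingHom.FiniteType x.appTop.hom :=
    (HasRingHomProperty.iff_of_isAffine (P := @LocallyOfFiniteType)).mp inferInstance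
  have hftl : ∀ l : Over j₀, RingHom.FiniteType (pullback.fst (E.map l.hom) x).appTop.hom :=
    fun l => (HasRingHomProperty.iff_of_isAffine (P := @LocallyOfFiniteType)).mp inferInstance
  have hzero : ∀ {l' l : Over j₀} (ψ : l' ⟶ l) (b : Γ(T, ⊤))
      (q : Polynomial Γ(E.obj l.left, ⊤)),
      ((bcDiagram E x).map ψ).appTop.hom (Polynomial.eval₂
        (pullback.fst (E.map l.hom) x).appTop.hom
        ((pullback.snd (E.map l.hom) x).appTop.hom b) q) = 0 →
      Polynomial.eval₂ (pullback.fst (E.map l'.hom) x).appTop.hom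
        ((pullback.snd (E.map l'.hom) x).appTop.hom b)
        (q.map (E.map ψ.left).appTop.hom) = 0 := by
    intro l' l ψ b q h0
    rw [Polynomial.eval₂_map]
    have e1 := Polynomial.hom_eval₂ q (pullback.fst (E.map l.hom) x).appTop.hom
      ((bcDiagram E x).map ψ).appTop.hom ((pullback.snd (E.map l.hom) x).appTop.hom b)
    have e2 : Polynomial.eval₂ ((pullback.fst (E.map l'.hom) x).appTop.hom.comp
        (E.map ψ.left).appTop.hom) ((pullback.snd (E.map l'.hom) x).appTop.hom b) q =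
        Polynomial.eval₂ (((bcDiagram E x).map ψ).appTop.hom.comp
          (pullback.fst (E.map l.hom) x).appTop.hom)
          (((bcDiagram E x).map ψ).appTop.hom ((pullback.snd (E.map l.hom) x).appTop.hom b)) q :=
      Polynomial.eval₂_congr
        (RingHom.ext fun a => (appTop_eq_of_eq (bcDiagram_map_fst E x ψ) a).symm)
        (appTop_eq_of_eq' (bcDiagram_map_snd E x ψ) b).symm rfl
    exact e2.trans (e1.symm.trans h0)
  have hpers : ∀ {l' l : Over j₀} (ψ : l' ⟶ l) (b : Γ(T, ⊤)),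
      (pullback.fst (E.map l.hom) x).appTop.hom.IsIntegralElem
        ((pullback.snd (E.map l.hom) x).appTop.hom b) →
      (pullback.fst (E.map l'.hom) x).appTop.hom.IsIntegralElem
        ((pullback.snd (E.map l'.hom) x).appTop.hom b) := by
    rintro l' l ψ b ⟨p, hp, hp0⟩
    exact ⟨p.map (E.map ψ.left).appTop.hom, hp.map _, hzero ψ b p
      ((congrArg ((bcDiagram E x).map ψ).appTop.hom hp0).trans (map_zero _))⟩
  have hmono : ∀ {l' l : Over j₀} (ψ : l' ⟶ l) (a : Γ(E.obj l.left, ⊤)),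
      (cE.π.app l'.left).appTop.hom ((E.map ψ.left).appTop.hom a) =
        (cE.π.app l.left).appTop.hom a := fun ψ a => appTop_eq_of_eq' (cE.w ψ.left) a
  have hfinS : ∀ F : Finset Γ(cE.pt, ⊤), ∃ l : Over j₀, ∀ s ∈ F,
      s ∈ Set.range (cE.π.app l.left).appTop.hom := by
    intro F
    induction F using Finset.induction_on with
    | empty => exact ⟨Over.mk (𝟙 j₀), by simp⟩
    | insert s F hs ih =>
      obtain ⟨l, hl⟩ := ih
      obtain ⟨k, t, ht⟩ := exists_appTop_π_eq_of_isAffine_of_isLimit E cE hcE s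
      obtain ⟨ls, hls⟩ : ∃ ls : Over j₀, s ∈ Set.range (cE.π.app ls.left).appTop.hom :=
        ⟨Over.mk (IsCofiltered.minToRight k j₀),
          (E.map (IsCofiltered.minToLeft k j₀)).appTop.hom t,
          (appTop_eq_of_eq' (cE.w (IsCofiltered.minToLeft k j₀)) t).trans ht⟩
      refine ⟨IsCofiltered.min l ls, ?_⟩
      intro s' hs''
      rcases Finset.mem_insert.mp hs'' with rfl | hs''
      · obtain ⟨a, ha⟩ := hls
        exact ⟨_, (hmono (IsCofiltered.minToRight l ls) a).trans ha⟩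
      · obtain ⟨a, ha⟩ := hl s' hs''
        exact ⟨_, (hmono (IsCofiltered.minToLeft l ls) a).trans ha⟩
  have hlift : ∀ p : Polynomial Γ(cE.pt, ⊤), p.Monic →
      ∃ (l : Over j₀) (q : Polynomial Γ(E.obj l.left, ⊤)), q.Monic ∧
        q.map (cE.π.app l.left).appTop.hom = p := by
    intro p hp
    obtain ⟨l, hl⟩ := hfinS p.coeffs
    have hmem : p ∈ Polynomial.lifts (cE.π.app l.left).appTop.hom := by
      rw [Polynomial.lifts_iff_coeffs_subset_range]
      intro s hs
      exact hl s (Finset.mem_coe.mp hs)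
    obtain ⟨q, hq1, -, hq3⟩ := Polynomial.lifts_and_natDegree_eq_and_monic hmem hp
    exact ⟨l, q, hq3, hq1⟩
  have hrep : ∀ b : Γ(T, ⊤), ∃ l : Over j₀,
      (pullback.fst (E.map l.hom) x).appTop.hom.IsIntegralElem
        ((pullback.snd (E.map l.hom) x).appTop.hom b) := by
    intro b
    obtain ⟨p, hp, hp0⟩ := hint_lim ((pullback.snd (cE.π.app j₀) x).appTop.hom b)
    obtain ⟨l₁, q, hq, hqp⟩ := hlift p hp
    have hd : ((bcCone E cE x).π.app l₁).appTop.hom (Polynomial.eval₂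
        (pullback.fst (E.map l₁.hom) x).appTop.hom
        ((pullback.snd (E.map l₁.hom) x).appTop.hom b) q) = 0 := by
      have e1 := Polynomial.hom_eval₂ q (pullback.fst (E.map l₁.hom) x).appTop.hom
        ((bcCone E cE x).π.app l₁).appTop.hom ((pullback.snd (E.map l₁.hom) x).appTop.hom b)
      have e2 : Polynomial.eval₂ (((bcCone E cE x).π.app l₁).appTop.hom.comp
          (pullback.fst (E.map l₁.hom) x).appTop.hom)
          (((bcCone E cE x).π.app l₁).appTop.hom
            ((pullback.snd (E.map l₁.hom) x).appTop.hom b)) q =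
          Polynomial.eval₂ ((pullback.fst (cE.π.app j₀) x).appTop.hom.comp
            (cE.π.app l₁.left).appTop.hom) ((pullback.snd (cE.π.app j₀) x).appTop.hom b) q :=
        Polynomial.eval₂_congr
          (RingHom.ext fun a => appTop_eq_of_eq (bcCone_π_fst E cE x l₁) a)
          (appTop_eq_of_eq' (bcCone_π_snd E cE x l₁) b) rfl
      have e3 : Polynomial.eval₂ ((pullback.fst (cE.π.app j₀) x).appTop.hom.comp
            (cE.π.app l₁.left).appTop.hom) ((pullback.snd (cE.π.app j₀) x).appTop.hom b) q =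
          Polynomial.eval₂ (pullback.fst (cE.π.app j₀) x).appTop.hom
            ((pullback.snd (cE.π.app j₀) x).appTop.hom b)
            (q.map (cE.π.app l₁.left).appTop.hom) := by
        rw [Polynomial.eval₂_map]
      rw [hqp] at e3
      exact e1.trans (e2.trans (e3.trans hp0))
    obtain ⟨l₂, ψ, hψ⟩ := exists_appTop_map_eq_zero_of_isAffine_of_isLimit (bcDiagram E x)
      (bcCone E cE x) (bcIsLimit E cE hcE x) l₁ _ hd
    exact ⟨l₂, q.map (E.map ψ.left).appTop.hom, hq.map _, hzero ψ b q hψ⟩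
  have hfin : ∀ G : Finset Γ(T, ⊤), ∃ l : Over j₀, ∀ b ∈ G,
      (pullback.fst (E.map l.hom) x).appTop.hom.IsIntegralElem
        ((pullback.snd (E.map l.hom) x).appTop.hom b) := by
    intro G
    induction G using Finset.induction_on with
    | empty => exact ⟨Over.mk (𝟙 j₀), by simp⟩
    | insert b G hb ih =>
      obtain ⟨l, hl⟩ := ih
      obtain ⟨lb, hab⟩ := hrep b
      refine ⟨IsCofiltered.min l lb, ?_⟩
      intro b' hb'
      rcases Finset.mem_insert.mp hb' with rfl | hb'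
      · exact hpers (IsCofiltered.minToRight l lb) b' hab
      · exact hpers (IsCofiltered.minToLeft l lb) b' (hl b' hb')
  obtain ⟨G, hG⟩ := Groth.Agent.S2076.ft_gen _ hft
  obtain ⟨k, hk⟩ := hfin G
  refine ⟨k, fun l ψ => ?_⟩
  rw [HasAffineProperty.iff_of_isAffine (P := @IsFinite)]
  refine ⟨inferInstance, ?_⟩
  have hgen := CommRingCat.closure_range_union_range_eq_top_of_isPushout
    (isPushout_appTop_of_isPullback (IsPullback.of_hasPullback (E.map l.hom) x))
  refine ring_fin2 x.appTop.hom (E.map l.hom).appTop.hom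
    (pullback.snd (E.map l.hom) x).appTop.hom (pullback.fst (E.map l.hom) x).appTop.hom
    ?_ ?_ (hftl l) G hG ?_
  · ext a
    exact (appTop_eq_of_eq (pullback.condition (f := E.map l.hom) (g := x)) a).symm
  · rw [Set.union_comm]; exact hgen
  · intro b hb
    exact hpers ψ b (hk b hb)

set_option backward.defeqAttrib.useBackward true in
set_option backward.isDefEq.respectTransparency false in
open AlgebraicGeometry CategoryTheory Limits Groth.Agent.Helper9.Lim8 Groth.Agent.S9189 in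
theorem perW2F {I : Type u} [SmallCategory I] [IsCofiltered I]
    (D : I ⥤ Scheme.{u}) (c : Cone D) (hc : IsLimit c)
    [hD : ∀ {i j : I} (f : i ⟶ j), IsAffineHom (D.map f)] (i : I)
    {Xi : Scheme.{u}} (x : Xi ⟶ D.obj i) [IsAffineHom x] [LocallyOfFiniteType x]
    [IsFinite (pullback.fst (c.π.app i) x)] (W : (D.obj i).Opens)
    (hW : IsAffineOpen W) :
    ∃ k : Over i, ∀ (l : Over i) (_ : l ⟶ k),
      IsFinite (pullback.fst (D.map l.hom) x ∣_ (D.map l.hom ⁻¹ᵁ W)) := by
  haveI : IsAffineHom (c.π.app i) := isAffineHom_π_app D c hc i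
  haveI hEaff : ∀ j : Over i, IsAffine ((opensDiagram D i W).obj j) := fun j =>
    (hW.preimage (D.map j.hom) : IsAffineOpen (D.map j.hom ⁻¹ᵁ W))
  haveI hEaff' : ∀ j : Over i,
      IsAffine ((D.map j.hom ⁻¹ᵁ W : (D.obj j.left).Opens) : Scheme.{u}) := fun j => hEaff j
  haveI : IsAffine (opensCone D c i W).pt :=
    (hW.preimage (c.π.app i) : IsAffineOpen (c.π.app i ⁻¹ᵁ W))
  obtain ⟨j₀⟩ : Nonempty (Over i) := ⟨Over.mk (𝟙 i)⟩
  have hEι : ∀ {k j : Over i} (φ : k ⟶ j), (opensDiagram D i W).map φ ≫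
      (D.map j.hom ⁻¹ᵁ W).ι = (D.map k.hom ⁻¹ᵁ W).ι ≫ D.map φ.left := by
    intro k j φ
    rw [opensDiagram_map]
    exact Scheme.Hom.resLE_comp_ι _ _
  have hconeι : ∀ k : Over i, (opensCone D c i W).π.app k ≫ (D.map k.hom ⁻¹ᵁ W).ι =
      (c.π.app i ⁻¹ᵁ W).ι ≫ c.π.app k.left := fun k => by
    rw [opensCone_π_app]; exact Scheme.Hom.resLE_comp_ι _ _
  obtain ⟨y₀, hy₀⟩ : ∃ y₀ : (opensDiagram D i W).obj j₀ ⟶ D.obj i,
      y₀ = (D.map j₀.hom ⁻¹ᵁ W).ι ≫ D.map j₀.hom := ⟨_, rfl⟩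
  haveI : IsAffine (pullback y₀ x) := inferInstance
  haveI : IsFinite (pullback.fst ((opensCone D c i W).π.app j₀)
      (pullback.fst y₀ x)) := by
    refine bc_transfer @IsFinite x (pullback.fst (c.π.app i) x)
      (pullback.snd (c.π.app i) x) (c.π.app i) (IsPullback.of_hasPullback (c.π.app i) x).flip
      inferInstance y₀ ((opensCone D c i W).π.app j₀) (c.π.app i ⁻¹ᵁ W).ι ?_
    rw [hy₀, reassoc_of% (hconeι j₀), c.w]
  obtain ⟨k₂, hk₂⟩ := ci_fin2 (opensDiagram D i W) (opensCone D c i W)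
    (isLimitOpensCone D c hc i W) j₀ (pullback.fst y₀ x)
  refine ⟨k₂.left, fun l ψ => ?_⟩
  obtain ⟨h, hh⟩ : ∃ h : l ⟶ j₀, h = ψ ≫ k₂.hom := ⟨_, rfl⟩
  have hcl : IsFinite (pullback.fst ((opensDiagram D i W).map h) (pullback.fst y₀ x)) :=
    hk₂ (Over.mk h) (Over.homMk ψ hh.symm)
  have sqB := (IsPullback.of_hasPullback ((opensDiagram D i W).map h)
    (pullback.fst y₀ x)).flip.paste_horiz (IsPullback.of_hasPullback y₀ x).flip
  have hbottom : (opensDiagram D i W).map h ≫ y₀ = (D.map l.hom ⁻¹ᵁ W).ι ≫ D.map l.hom := by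
    rw [hy₀, reassoc_of% (hEι h), ← D.map_comp, Over.w h]
  rw [hbottom] at sqB
  have sqA := (isPullback_morphismRestrict (pullback.fst (D.map l.hom) x)
    (D.map l.hom ⁻¹ᵁ W)).flip.paste_horiz (IsPullback.of_hasPullback (D.map l.hom) x).flip
  exact of_two_pullbacks @IsFinite sqB sqA hcl

set_option backward.defeqAttrib.useBackward true in
set_option backward.isDefEq.respectTransparency false in
open AlgebraicGeometry CategoryTheory Limits Groth.Agent.Helper9.Lim8 Groth.Agent.S9189 in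
theorem core_fin_aff {I : Type u} [SmallCategory I] [IsCofiltered I]
    (D : I ⥤ Scheme.{u}) (c : Cone D) (hc : IsLimit c)
    [hD : ∀ {i j : I} (f : i ⟶ j), IsAffineHom (D.map f)] (i : I) [CompactSpace (D.obj i)]
    {Xi : Scheme.{u}} (x : Xi ⟶ D.obj i) [IsAffineHom x] [LocallyOfFiniteType x]
    [IsFinite (pullback.fst (c.π.app i) x)] :
    ∃ k : Over i, ∀ (l : Over i) (_ : l ⟶ k),
      IsFinite (pullback.fst (D.map l.hom) x) := by
  classical
  let 𝒰 := (D.obj i).affineCover.finiteSubcover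
  have hWa : ∀ a : 𝒰.I₀, IsAffineOpen (𝒰.f a).opensRange := fun a =>
    isAffineOpen_opensRange (𝒰.f a)
  choose j hj using fun a : 𝒰.I₀ => perW2F D c hc i x (𝒰.f a).opensRange (hWa a)
  obtain ⟨k, hk⟩ := IsCofiltered.inf_objs_exists (Finset.univ.image j)
  refine ⟨k, fun l φ => ?_⟩
  have hsup : ⨆ a : 𝒰.I₀, D.map l.hom ⁻¹ᵁ (𝒰.f a).opensRange = ⊤ := by
    rw [eq_top_iff]
    intro p _
    have hp : (D.map l.hom) p ∈ (⊤ : (D.obj i).Opens) := trivial
    rw [← 𝒰.iSup_opensRange, TopologicalSpace.Opens.mem_iSup] at hp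
    obtain ⟨a, ha⟩ := hp
    exact TopologicalSpace.Opens.mem_iSup.mpr ⟨a, ha⟩
  apply IsZariskiLocalAtTarget.of_iSup_eq_top (P := @IsFinite)
    (fun a : 𝒰.I₀ => D.map l.hom ⁻¹ᵁ (𝒰.f a).opensRange) hsup ?_
  intro a
  obtain ⟨ψ⟩ := hk (Finset.mem_image_of_mem j (Finset.mem_univ a))
  exact hj a l (φ ≫ ψ)

set_option backward.defeqAttrib.useBackward true in
set_option backward.isDefEq.respectTransparency false in
open AlgebraicGeometry CategoryTheory Limits Groth.Agent.Helper9.Lim8 Groth.Agent.S9189 in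
theorem mainF {I : Type u} [SmallCategory I] [IsCofiltered I]
    (D : I ⥤ Scheme.{u}) (c : Limits.Cone D) (hc : Limits.IsLimit c)
    [hD : ∀ (i j : I) (f : i ⟶ j), IsAffineHom (D.map f)] (i₀ : I) [CompactSpace (D.obj i₀)]
    [QuasiSeparatedSpace (D.obj i₀)] {X₀ Y₀ : Scheme.{u}} (f₀ : X₀ ⟶ Y₀) (g₀ : Y₀ ⟶ D.obj i₀)
    [CompactSpace X₀] [QuasiSeparatedSpace X₀] [CompactSpace Y₀] [QuasiSeparatedSpace Y₀]
    [LocallyOfFiniteType f₀]
    {X Y : Scheme.{u}} (f : X ⟶ Y) (g : Y ⟶ c.pt) (qY : Y ⟶ Y₀) (qX : X ⟶ X₀)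
    (hY : IsPullback qY g g₀ (c.π.app i₀)) (hX : IsPullback qX f f₀ qY)
    [IsFinite f] :
    ∃ (i : I) (φ : i ⟶ i₀) (Xi Yi : Scheme.{u}) (fi : Xi ⟶ Yi) (gi : Yi ⟶ D.obj i) (pY : Yi ⟶ Y₀)
      (pX : Xi ⟶ X₀), IsPullback pY gi g₀ (D.map φ) ∧ IsPullback pX fi f₀ pY ∧
        IsFinite fi := by
  haveI hD' : ∀ {i j : I} (a : i ⟶ j), IsAffineHom (D.map a) := fun a => hD _ _ a
  haveI hYc' : ∀ m : Over i₀, CompactSpace ↥(pullback (D.map m.hom) g₀) := fun m => by
    infer_instance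
  haveI hYc : ∀ m : Over i₀, CompactSpace ((bcDiagram D g₀).obj m) := fun m => hYc' m
  haveI : IsAffineHom f := inferInstance
  obtain ⟨i, φ, Xi, Yi, fi, gi, pY, pX, h1, h2, hfi⟩ :=
    Groth.Agent.S9186.main D c hc i₀ f₀ g₀ f g qY qX hY hX
  obtain ⟨j₁, hj₁⟩ : ∃ j₁ : Over i₀,
      IsAffineHom (pullback.fst (pullback.snd (D.map j₁.hom) g₀) f₀) :=
    ⟨Over.mk φ, bc_transfer0 @IsAffineHom f₀ fi pX pY h2 hfi (pullback.snd (D.map φ) g₀)
      h1.flip.isoPullback.inv (IsPullback.isoPullback_inv_snd _)⟩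
  haveI := hj₁
  haveI : IsFinite (pullback.fst ((bcCone D c g₀).π.app j₁)
      (pullback.fst (pullback.snd (D.map j₁.hom) g₀) f₀)) :=
    bc_transfer @IsFinite f₀ f qX qY hX inferInstance (pullback.snd (D.map j₁.hom) g₀)
      ((bcCone D c g₀).π.app j₁) hY.flip.isoPullback.inv
      (by rw [IsPullback.isoPullback_inv_snd, bcCone_π_snd])
  obtain ⟨k, hk⟩ := core_fin_aff (bcDiagram D g₀) (bcCone D c g₀) (bcIsLimit D c hc g₀) j₁
    (pullback.fst (pullback.snd (D.map j₁.hom) g₀) f₀)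
  have hk' := hk k (𝟙 k)
  refine ⟨k.left.left, k.left.hom,
    pullback ((bcDiagram D g₀).map k.hom) (pullback.fst (pullback.snd (D.map j₁.hom) g₀) f₀),
    pullback (D.map k.left.hom) g₀,
    pullback.fst ((bcDiagram D g₀).map k.hom) (pullback.fst (pullback.snd (D.map j₁.hom) g₀) f₀),
    pullback.fst (D.map k.left.hom) g₀, pullback.snd (D.map k.left.hom) g₀,
    pullback.snd ((bcDiagram D g₀).map k.hom)
        (pullback.fst (pullback.snd (D.map j₁.hom) g₀) f₀) ≫
      pullback.snd (pullback.snd (D.map j₁.hom) g₀) f₀,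
    (IsPullback.of_hasPullback (D.map k.left.hom) g₀).flip, ?_, hk'⟩
  have left := (IsPullback.of_hasPullback ((bcDiagram D g₀).map k.hom)
    (pullback.fst (pullback.snd (D.map j₁.hom) g₀) f₀)).flip
  have right := (IsPullback.of_hasPullback (pullback.snd (D.map j₁.hom) g₀) f₀).flip
  have big := left.paste_horiz right
  rw [bcDiagram_map_snd] at big
  exact big


/-- Let S = lim S_i be a cofiltered limit of schemes with affine transition morphisms, S_{i₀} a
quasi-compact quasi-separated stage, f₀ : X₀ → Y₀ a morphism of quasi-compact quasi-separated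
schemes over S_{i₀}, and f : X → Y its base change along S → S_{i₀} (base changes expressed by
pullback squares). If f₀ is locally of finite type and f is finite, then for some index i over i₀
the base change f_i : X_i → Y_i of f₀ along S_i → S_{i₀} is finite. -/
theorem result {I : Type u} [SmallCategory I] [IsCofiltered I]
    (D : I ⥤ Scheme.{u}) (c : Limits.Cone D) (hc : Limits.IsLimit c)
    [∀ (i j : I) (f : i ⟶ j), IsAffineHom (D.map f)] (i₀ : I) [CompactSpace (D.obj i₀)]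
    [QuasiSeparatedSpace (D.obj i₀)] {X₀ Y₀ : Scheme.{u}} (f₀ : X₀ ⟶ Y₀) (g₀ : Y₀ ⟶ D.obj i₀)
    [CompactSpace X₀] [QuasiSeparatedSpace X₀] [CompactSpace Y₀] [QuasiSeparatedSpace Y₀]
    [LocallyOfFiniteType f₀]
    {X Y : Scheme.{u}} (f : X ⟶ Y) (g : Y ⟶ c.pt) (qY : Y ⟶ Y₀) (qX : X ⟶ X₀)
    (hY : IsPullback qY g g₀ (c.π.app i₀)) (hX : IsPullback qX f f₀ qY) [IsFinite f] :
    ∃ (i : I) (φ : i ⟶ i₀) (Xi Yi : Scheme.{u}) (fi : Xi ⟶ Yi) (gi : Yi ⟶ D.obj i) (pY : Yi ⟶ Y₀)
      (pX : Xi ⟶ X₀), IsPullback pY gi g₀ (D.map φ) ∧ IsPullback pX fi f₀ pY ∧ IsFinite fi := by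
  exact mainF D c hc i₀ f₀ g₀ f g qY qX hY hX

end Groth.Agent.S9187
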