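import Groth.Statements.S9188
import Mathlib
import Groth.Agent.S9190
import Groth.Agent.S2580
import Groth.Agent.S4599

set_option autoImplicit false
universe u
open CategoryTheory AlgebraicGeometry
open Lim

namespace Groth.Agent.S9188

set_option backward.defeqAttrib.useBackward true in
set_option backward.isDefEq.respectTransparency false in
open AlgebraicGeometry CategoryTheory Limits Groth.Agent.S9189 Groth.Agent.S9190 in
theorem mainU {I : Type u} [SmallCategory I] [IsCofiltered I]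
    (D : I ⥤ Scheme.{u}) (c : Limits.Cone D) (hc : Limits.IsLimit c)
    [hD : ∀ (i j : I) (f : i ⟶ j), IsAffineHom (D.map f)] (i₀ : I) [CompactSpace (D.obj i₀)]
    [QuasiSeparatedSpace (D.obj i₀)] {X₀ Y₀ : Scheme.{u}} (f₀ : X₀ ⟶ Y₀) (g₀ : Y₀ ⟶ D.obj i₀)
    [CompactSpace X₀] [QuasiSeparatedSpace X₀] [CompactSpace Y₀] [QuasiSeparatedSpace Y₀]
    [LocallyOfFiniteType f₀]
    {X Y : Scheme.{u}} (f : X ⟶ Y) (g : Y ⟶ c.pt) (qY : Y ⟶ Y₀) (qX : X ⟶ X₀)
    (hY : IsPullback qY g g₀ (c.π.app i₀)) (hX : IsPullback qX f f₀ qY)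
    [FormallyUnramified f] :
    ∃ (i : I) (φ : i ⟶ i₀) (Xi Yi : Scheme.{u}) (fi : Xi ⟶ Yi) (gi : Yi ⟶ D.obj i) (pY : Yi ⟶ Y₀)
      (pX : Xi ⟶ X₀), IsPullback pY gi g₀ (D.map φ) ∧ IsPullback pX fi f₀ pY ∧
        FormallyUnramified fi := by
  haveI hf₀qc : QuasiCompact f₀ := by infer_instance
  haveI hf₀qs : QuasiSeparated f₀ := by infer_instance
  haveI : CompactSpace ↥(pullback f₀ f₀) :=
    QuasiCompact.compactSpace_of_compactSpace (pullback.fst f₀ f₀)
  haveI : QuasiSeparatedSpace ↥(pullback f₀ f₀) :=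
    quasiSeparatedSpace_of_quasiSeparated (pullback.fst f₀ f₀)
  haveI : LocallyOfFinitePresentation (pullback.diagonal f₀) := Groth.Agent.S4599.result f₀
  haveI : QuasiCompact (pullback.diagonal f₀) := by infer_instance
  haveI : QuasiSeparated (pullback.diagonal f₀) := by infer_instance
  haveI : LocallyOfFiniteType f :=
    MorphismProperty.of_isPullback (P := @LocallyOfFiniteType) hX inferInstance
  obtain ⟨μ, hi, hss⟩ := diag_sq hX
  have hY' := hi.paste_vert hY
  haveI : IsOpenImmersion (pullback.diagonal f) := by infer_instance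
  obtain ⟨i, φ, Xi, Yi, fi, gi, pY, pX, h1, h2, hfi⟩ :=
    Groth.Agent.S2580.main D c hc i₀ (pullback.diagonal f₀)
      ((pullback.fst f₀ f₀ ≫ f₀) ≫ g₀) (pullback.diagonal f) ((pullback.fst f f ≫ f) ≫ g) μ qX
      hY' hss
  refine ⟨i, φ, pullback (pullback.snd (D.map φ) g₀) f₀, pullback (D.map φ) g₀,
    pullback.fst (pullback.snd (D.map φ) g₀) f₀, pullback.fst (D.map φ) g₀,
    pullback.snd (D.map φ) g₀, pullback.snd (pullback.snd (D.map φ) g₀) f₀,
    (IsPullback.of_hasPullback (D.map φ) g₀).flip,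
    (IsPullback.of_hasPullback (pullback.snd (D.map φ) g₀) f₀).flip, ?_⟩
  obtain ⟨μ', hi', hss'⟩ := diag_sq (IsPullback.of_hasPullback (pullback.snd (D.map φ) g₀) f₀).flip
  have hcomp : μ' ≫ (pullback.fst f₀ f₀ ≫ f₀) ≫ g₀ =
      ((pullback.fst (pullback.fst (pullback.snd (D.map φ) g₀) f₀)
          (pullback.fst (pullback.snd (D.map φ) g₀) f₀) ≫
        pullback.fst (pullback.snd (D.map φ) g₀) f₀) ≫ pullback.fst (D.map φ) g₀) ≫ D.map φ := by
    rw [← Category.assoc μ', hi'.w]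
    simp only [Category.assoc]
    rw [pullback.condition]
  have hcl : IsOpenImmersion (pullback.fst μ' (pullback.diagonal f₀)) :=
    bc_transfer0 @IsOpenImmersion (pullback.diagonal f₀) fi pX pY h2 hfi μ'
      (h1.lift μ' _ hcomp) (h1.lift_fst _ _ _)
  haveI hΔ : IsOpenImmersion (pullback.diagonal (pullback.fst (pullback.snd (D.map φ) g₀) f₀)) :=
    of_two_pullbacks @IsOpenImmersion (IsPullback.of_hasPullback μ' (pullback.diagonal f₀)).flip
      hss' hcl
  infer_instance


/-- Let S = lim S_i be a cofiltered limit of schemes with affine transition morphisms, S_{i₀} a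
quasi-compact quasi-separated stage, f₀ : X₀ → Y₀ a morphism of quasi-compact quasi-separated
schemes over S_{i₀}, and f : X → Y its base change along S → S_{i₀} (base changes expressed by
pullback squares). If f₀ is locally of finite type and f is unramified (formally unramified; it is
locally of finite type as a base change of f₀), then for some index i over i₀ the base change f_i :
X_i → Y_i of f₀ along S_i → S_{i₀} is unramified, i.e. formally unramified (and locally of finite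
type). -/
theorem result {I : Type u} [SmallCategory I] [IsCofiltered I]
    (D : I ⥤ Scheme.{u}) (c : Limits.Cone D) (hc : Limits.IsLimit c)
    [∀ (i j : I) (f : i ⟶ j), IsAffineHom (D.map f)] (i₀ : I) [CompactSpace (D.obj i₀)]
    [QuasiSeparatedSpace (D.obj i₀)] {X₀ Y₀ : Scheme.{u}} (f₀ : X₀ ⟶ Y₀) (g₀ : Y₀ ⟶ D.obj i₀)
    [CompactSpace X₀] [QuasiSeparatedSpace X₀] [CompactSpace Y₀] [QuasiSeparatedSpace Y₀]
    [LocallyOfFiniteType f₀]
    {X Y : Scheme.{u}} (f : X ⟶ Y) (g : Y ⟶ c.pt) (qY : Y ⟶ Y₀) (qX : X ⟶ X₀)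
    (hY : IsPullback qY g g₀ (c.π.app i₀)) (hX : IsPullback qX f f₀ qY) [FormallyUnramified f] :
    ∃ (i : I) (φ : i ⟶ i₀) (Xi Yi : Scheme.{u}) (fi : Xi ⟶ Yi) (gi : Yi ⟶ D.obj i) (pY : Yi ⟶ Y₀)
      (pX : Xi ⟶ X₀), IsPullback pY gi g₀ (D.map φ) ∧ IsPullback pX fi f₀ pY ∧ FormallyUnramified fi := by
  exact mainU D c hc i₀ f₀ g₀ f g qY qX hY hX

end Groth.Agent.S9188
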