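import Groth.Statements.S9201
import Mathlib
import Groth.Agent.S0594
import Groth.Agent.S9193
import Groth.Agent.Lib.Helper9.Lim8

set_option autoImplicit false
universe u
open CategoryTheory AlgebraicGeometry
open Lim

namespace Groth.Agent.S9201

set_option backward.defeqAttrib.useBackward true in
set_option backward.isDefEq.respectTransparency false in
open AlgebraicGeometry CategoryTheory Limits Groth.Agent.Helper9.Lim8 in
theorem mainI {I : Type u} [SmallCategory I] [IsCofiltered I] (S : Scheme.{u})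
    [QuasiSeparatedSpace S]
    (D : I ⥤ Scheme.{u}) (t : ∀ i, D.obj i ⟶ S)
    (hnat : ∀ {i j : I} (a : i ⟶ j), D.map a ≫ t j = t i) (c : Limits.Cone D)
    (hc : Limits.IsLimit c) [hD : ∀ (i j : I) (f : i ⟶ j), IsClosedImmersion (D.map f)]
    [hDc : ∀ i, CompactSpace (D.obj i)] [hDq : ∀ i, QuasiSeparatedSpace (D.obj i)]
    [hft : ∀ i, LocallyOfFiniteType (t i)] (i₀ : I) [IsImmersion (c.π.app i₀ ≫ t i₀)] :
    ∃ i₁ : I, ∀ (i : I) (_ : i ⟶ i₁), IsImmersion (t i) := by
  haveI hD' : ∀ {i j : I} (f : i ⟶ j), IsAffineHom (D.map f) := fun f => by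
    haveI := hD _ _ f
    infer_instance
  haveI : IsAffineHom (c.π.app i₀) := isAffineHom_π_app D c hc i₀
  haveI : CompactSpace c.pt := QuasiCompact.compactSpace_of_compactSpace (c.π.app i₀)
  obtain ⟨F, hF⟩ : ∃ F : c.pt ⟶ S, F = c.π.app i₀ ≫ t i₀ := ⟨_, rfl⟩
  haveI : IsImmersion F := by rw [hF]; infer_instance
  have hsub0 : Set.range F ⊆ (F.coborderRange : Set S) := by
    rintro _ ⟨p, rfl⟩
    have h1 : F p = (F.coborderRange.ι) (F.liftCoborder p) := by
      rw [← Scheme.Hom.comp_apply, Scheme.Hom.liftCoborder_ι]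
    rw [h1]
    exact (F.liftCoborder p).2
  obtain ⟨U, hUc, hFU, hUU₀⟩ := exists_isCompact_open_between S
    (isCompact_range F.continuous) F.coborderRange.2 hsub0
  have hUcons : Topology.IsConstructible (U : Set S) := hUc.isConstructible U.2
  obtain ⟨E, hEdef⟩ : ∃ E : Set (D.obj i₀), E = ⇑(t i₀) ⁻¹' ((U : Set S)ᶜ) := ⟨_, rfl⟩
  have hE : Topology.IsConstructible E := by
    rw [hEdef]
    exact Scheme.Hom.isConstructible_preimage _ hUcons.compl
  have hempty : ⇑(c.π.app i₀) ⁻¹' E = ∅ := by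
    rw [hEdef]
    ext p
    simp only [Set.mem_preimage, Set.mem_compl_iff, Set.mem_empty_iff_false, iff_false,
      not_not]
    have hp : F p ∈ U := hFU ⟨p, rfl⟩
    have e : F p = (t i₀) ((c.π.app i₀) p) := by rw [hF]; rfl
    exact e ▸ hp
  obtain ⟨j, φ, hφ⟩ := exists_preimage_eq_empty D c hc hE hempty
  have hmem : ∀ (k : Over j) (p : D.obj k.left), (t k.left) p ∈ U := by
    intro k p
    by_contra hp
    have h1 : (D.map k.hom) p ∈ ⇑(D.map φ) ⁻¹' E := by
      rw [hEdef]
      show (t i₀) ((D.map φ) ((D.map k.hom) p)) ∉ (U : Set S)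
      have e : (t i₀) ((D.map φ) ((D.map k.hom) p)) = (t k.left) p := by
        rw [← Scheme.Hom.comp_apply, ← Scheme.Hom.comp_apply, hnat, hnat]
      rw [e]
      exact hp
    rw [hφ] at h1
    exact h1
  have hsubk : ∀ k : Over j, Set.range (t k.left) ⊆ Set.range U.ι := fun k => by
    rw [Scheme.Opens.range_ι]
    rintro _ ⟨p, rfl⟩
    exact hmem k p
  have hex : ∀ k : Over j, ∃ t' : D.obj k.left ⟶ (U : Scheme.{u}), t' ≫ U.ι = t k.left :=
    fun k => ⟨IsOpenImmersion.lift U.ι (t k.left) (hsubk k), IsOpenImmersion.lift_fac _ _ _⟩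
  choose t' ht' using hex
  have hnat' : ∀ {k l : Over j} (a : k ⟶ l), (Over.forget j ⋙ D).map a ≫ t' l = t' k := by
    intro k l a
    rw [← cancel_mono U.ι, Category.assoc, ht', ht']
    exact hnat a.left
  haveI : CompactSpace ↥(U : Scheme.{u}) := isCompact_iff_compactSpace.mp hUc
  haveI : QuasiSeparatedSpace ↥(U : Scheme.{u}) := quasiSeparatedSpace_of_quasiSeparated U.ι
  haveI hD'' : ∀ (k l : Over j) (a : k ⟶ l), IsClosedImmersion ((Over.forget j ⋙ D).map a) :=
    fun k l a => hD _ _ a.left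
  haveI : ∀ k : Over j, CompactSpace ((Over.forget j ⋙ D).obj k) := fun k => hDc k.left
  haveI : ∀ k : Over j, QuasiSeparatedSpace ((Over.forget j ⋙ D).obj k) := fun k => hDq k.left
  haveI : ∀ k : Over j, LocallyOfFiniteType (t' k) := fun k => by
    haveI : LocallyOfFiniteType (t' k ≫ U.ι) := by rw [ht']; infer_instance
    exact locallyOfFiniteType_of_comp (t' k) U.ι
  haveI : IsConnected (Over j) := IsCofiltered.isConnected _
  have hc' : IsLimit (c.whisker (Over.forget j)) :=
    (Functor.Initial.isLimitWhiskerEquiv (Over.forget j) c).symm hc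
  obtain ⟨k₀⟩ : Nonempty (Over j) := ⟨Over.mk (𝟙 j)⟩
  have hr : (c.π.app k₀.left ≫ t' k₀) ≫ U.ι = F := by
    rw [Category.assoc, ht', hF, ← hnat (k₀.hom ≫ φ), ← Category.assoc, c.w]
  haveI : IsClosedImmersion ((c.whisker (Over.forget j)).π.app k₀ ≫ t' k₀) := by
    show IsClosedImmersion (c.π.app k₀.left ≫ t' k₀)
    exact Groth.Agent.S9193.ci_lift F U hUU₀ _ hr
  obtain ⟨k, hk⟩ := Groth.Agent.S0594.main (U : Scheme.{u}) (Over.forget j ⋙ D) t' hnat'
    (c.whisker (Over.forget j)) hc' k₀
  refine ⟨k.left, fun i a => ?_⟩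
  haveI := hD _ _ a
  rw [← hnat a, ← ht' k]
  infer_instance


/-- Let S be a quasi-separated scheme and X = lim X_i a cofiltered limit of S-schemes X_i (a diagram
with a compatible family of structure maps to S) whose transition morphisms are closed immersions,
every X_i quasi-compact, quasi-separated and locally of finite type over S; the structure map X → S
is the composite X → X_{i₀} → S for any index i₀. If X → S is an immersion, then X_i → S is an
immersion for all i beyond some index i₁. -/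
theorem result {I : Type u} [SmallCategory I] [IsCofiltered I] (S : Scheme.{u}) [QuasiSeparatedSpace S]
    (D : I ⥤ Scheme.{u}) (t : D ⟶ (Functor.const I).obj S) (c : Limits.Cone D) (hc : Limits.IsLimit c)
    [∀ (i j : I) (a : i ⟶ j), IsClosedImmersion (D.map a)]
    [∀ i, CompactSpace (D.obj i)] [∀ i, QuasiSeparatedSpace (D.obj i)]
    [∀ i, LocallyOfFiniteType (t.app i)] (i₀ : I)
    [IsImmersion (c.π.app i₀ ≫ t.app i₀)] :
    ∃ i₁ : I, ∀ (i : I) (_ : i ⟶ i₁), IsImmersion (t.app i) := by
  refine mainI S D (fun i => t.app i) (fun {i j} a => ?_) c hc i₀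
  have := t.naturality a
  simp only [Functor.const_obj_obj, Functor.const_obj_map, Category.comp_id] at this
  exact this

end Groth.Agent.S9201
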