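import Groth.Statements.S9206
import Mathlib

set_option autoImplicit false
universe u
open CategoryTheory AlgebraicGeometry
open Lim

namespace Groth.Agent.S9206

open AlgebraicGeometry CategoryTheory Limits in
/-- The projection of a cone, with syntactic source `c.pt`. -/
abbrev pr {I : Type u} [SmallCategory I] {D : I ⥤ Scheme.{u}} (c : Limits.Cone D) (j : I) :
    c.pt ⟶ D.obj j := c.π.app j

open AlgebraicGeometry CategoryTheory Limits in
theorem stepA (X : Scheme.{u}) (V : X.Opens) (hV : IsAffineOpen V) (s : X) (hsV : s ∈ V)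
    (a : X.residueField s) :
    ∃ (x y : Γ(X, V)), s ∈ X.basicOpen y ∧
      a * (X.evaluation V s hsV) y = (X.evaluation V s hsV) x := by
  obtain ⟨s', rfl⟩ : ∃ s' : V, (s' : X) = s := ⟨⟨s, hsV⟩, rfl⟩
  obtain ⟨z, rfl⟩ := X.residue_surjective _ a
  haveI := hV.isLocalization_stalk s'
  obtain ⟨⟨x, y⟩, hxy⟩ :=
    IsLocalization.surj (hV.primeIdealOf s').asIdeal.primeCompl z
  refine ⟨x, y, ?_, ?_⟩
  · rw [Scheme.mem_basicOpen _ _ _ hsV]
    exact IsLocalization.map_units (M := (hV.primeIdealOf s').asIdeal.primeCompl) _ y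
  · have := congrArg (X.residue _) hxy
    rw [map_mul] at this
    exact this

open AlgebraicGeometry CategoryTheory Limits in
theorem stepB (X : Scheme.{u}) (V V' : X.Opens) (hle : V' ≤ V) (x y : Γ(X, V))
    (hbo : V' ≤ X.basicOpen y) (s : X) (hsV' : s ∈ V') (a : X.residueField s)
    (hxy : a * (X.evaluation V s (hle hsV')) y = (X.evaluation V s (hle hsV')) x) :
    ∃ w : Γ(X, V'), a = (X.evaluation V' s hsV') w := by
  have hy : s ∈ X.basicOpen y := hbo hsV'
  have hunit : IsUnit (X.presheaf.map (homOfLE hle).op y) := by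
    have h1 := X.toRingedSpace.isUnit_res_basicOpen y
    have h2 := h1.map (X.presheaf.map (homOfLE hbo).op).hom
    have h3 : X.presheaf.map (homOfLE (X.basicOpen_le y)).op ≫ X.presheaf.map (homOfLE hbo).op =
        X.presheaf.map (homOfLE hle).op := by
      rw [← Functor.map_comp]; rfl
    rw [← h3]
    exact h2
  obtain ⟨u, hu⟩ := hunit
  have hev : ∀ r : Γ(X, V),
      (X.evaluation V' s hsV') (X.presheaf.map (homOfLE hle).op r) =
        (X.evaluation V s (hle hsV')) r := by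
    intro r
    show X.residue s (X.presheaf.germ _ s hsV' (X.presheaf.map (homOfLE hle).op r)) =
      X.residue s (X.presheaf.germ _ s (hle hsV') r)
    rw [TopCat.Presheaf.germ_res_apply]
  have hne : (X.evaluation V s (hle hsV')) y ≠ 0 :=
    (Scheme.evaluation_ne_zero_iff_mem_basicOpen _ s (hle hsV') y).mpr hy
  have hw : (X.presheaf.map (homOfLE hle).op x * ↑u⁻¹) * X.presheaf.map (homOfLE hle).op y =
      X.presheaf.map (homOfLE hle).op x := by
    rw [← hu, mul_assoc, Units.inv_mul, mul_one]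
  refine ⟨X.presheaf.map (homOfLE hle).op x * ↑u⁻¹, ?_⟩
  have h3 := congrArg (X.evaluation V' s hsV') hw
  rw [map_mul, hev, hev] at h3
  exact mul_right_cancel₀ hne (hxy.trans h3.symm)

set_option backward.defeqAttrib.useBackward true in
set_option backward.isDefEq.respectTransparency false in
open AlgebraicGeometry CategoryTheory Limits in
theorem sections_from_stage {I : Type u} [SmallCategory I] [IsCofiltered I]
    (D : I ⥤ Scheme.{u}) (c : Limits.Cone D) (hc : Limits.IsLimit c)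
    [hD : ∀ {i j : I} (f : i ⟶ j), IsAffineHom (D.map f)] (i : I) (U : (D.obj i).Opens)
    (hU : IsAffineOpen U) (σ : Γ(c.pt, pr c i ⁻¹ᵁ U)) :
    ∃ (j : I) (φ : j ⟶ i) (τ : Γ(D.obj j, D.map φ ⁻¹ᵁ U)),
      (pr c j).appLE (D.map φ ⁻¹ᵁ U) (pr c i ⁻¹ᵁ U)
        (by rw [← Scheme.Hom.comp_preimage]; exact le_of_eq (by rw [pr, pr, c.w])) τ = σ := by
  have (j : Over i) : IsAffine ((opensDiagram D i U).obj j) := hU.preimage (D.map _)
  have hV : (c.π.app i ⁻¹ᵁ U).ι ''ᵁ ⊤ = c.π.app i ⁻¹ᵁ U := by simp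
  obtain ⟨j, t, hj⟩ := exists_appTop_π_eq_of_isAffine_of_isLimit _ _
      (isLimitOpensCone D c hc i U)
      (c.pt.presheaf.map (homOfLE hV.le).op σ)
  have hW : (D.map j.hom ⁻¹ᵁ U).ι ''ᵁ ⊤ = D.map j.hom ⁻¹ᵁ U := by simp
  refine ⟨j.left, j.hom, (D.obj j.left).presheaf.map (homOfLE hW.ge).op t, ?_⟩
  have claim : (D.obj j.left).presheaf.map (homOfLE hW.ge).op ≫
      (c.π.app j.left).appLE (D.map j.hom ⁻¹ᵁ U) (c.π.app i ⁻¹ᵁ U)
        (by rw [← Scheme.Hom.comp_preimage, c.w]) =
      ((opensCone D c i U).π.app j).appTop ≫ c.pt.presheaf.map (homOfLE hV.ge).op := by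
    simp [Scheme.Hom.appTop, Scheme.Hom.app_eq_appLE, Scheme.Hom.resLE_appLE,
      Scheme.Hom.map_appLE, Scheme.Hom.appLE_map]
  have h2 := congr(($claim).hom t)
  simp only [CommRingCat.hom_comp, RingHom.coe_comp, Function.comp_apply] at h2
  refine h2.trans ?_
  have h3 : c.pt.presheaf.map (homOfLE hV.le).op ≫ c.pt.presheaf.map (homOfLE hV.ge).op =
      𝟙 _ := by
    rw [← Functor.map_comp,
      Subsingleton.elim ((homOfLE hV.le).op ≫ (homOfLE hV.ge).op) (𝟙 _),
      CategoryTheory.Functor.map_id]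
  have h4 := congr(($h3).hom σ)
  exact (congrArg _ hj).trans h4

set_option backward.defeqAttrib.useBackward true in
set_option backward.isDefEq.respectTransparency false in
open AlgebraicGeometry CategoryTheory Limits in
theorem main {I : Type u} [SmallCategory I] [IsCofiltered I]
    (D : I ⥤ Scheme.{u}) (c : Limits.Cone D) (hc : Limits.IsLimit c)
    [hD : ∀ (i j : I) (f : i ⟶ j), IsAffineHom (D.map f)] (s : c.pt)
    (a : c.pt.residueField s) :
    ∃ (i : I) (b : (D.obj i).residueField ((pr c i) s)),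
      ((pr c i).residueFieldMap s).hom b = a := by
  haveI hD' : ∀ {i j : I} (f : i ⟶ j), IsAffineHom (D.map f) := fun f => hD _ _ f
  obtain ⟨i⟩ := IsCofiltered.nonempty (C := I)
  obtain ⟨_, ⟨U, hU : IsAffineOpen U, rfl⟩, hsU, -⟩ :=
    (D.obj i).isBasis_affineOpens.exists_subset_of_mem_open
      (Set.mem_univ ((pr c i) s)) isOpen_univ
  haveI hπ : ∀ i, IsAffineHom (pr c i) := isAffineHom_π_app D c hc
  have hw : ∀ {j k : I} (ψ : k ⟶ j), pr c k ≫ D.map ψ = pr c j := fun ψ => c.w ψ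
  have hV : IsAffineOpen (pr c i ⁻¹ᵁ U) := hU.preimage (pr c i)
  have hsV : s ∈ pr c i ⁻¹ᵁ U := hsU
  obtain ⟨x, y, hy, hxy⟩ := stepA c.pt (pr c i ⁻¹ᵁ U) hV s hsV a
  obtain ⟨j, φ, yj, hyj⟩ := sections_from_stage D c hc i U hU y
  have hWj : IsAffineOpen (D.map φ ⁻¹ᵁ U) := hU.preimage (D.map φ)
  have hU' : IsAffineOpen ((D.obj j).basicOpen yj) := hWj.basicOpen yj
  have hVV : pr c j ⁻¹ᵁ (D.map φ ⁻¹ᵁ U) = pr c i ⁻¹ᵁ U := by
    rw [← Scheme.Hom.comp_preimage, hw]
  have hbo : c.pt.basicOpen y = pr c j ⁻¹ᵁ ((D.obj j).basicOpen yj) := by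
    rw [← hyj, Scheme.basicOpen_appLE]
    apply inf_eq_right.mpr
    rw [← hVV]
    exact Scheme.Hom.preimage_mono _ ((D.obj j).basicOpen_le yj)
  have hsV' : s ∈ pr c j ⁻¹ᵁ ((D.obj j).basicOpen yj) := hbo ▸ hy
  have hle : pr c j ⁻¹ᵁ ((D.obj j).basicOpen yj) ≤ pr c i ⁻¹ᵁ U := by
    rw [← hbo]; exact c.pt.basicOpen_le y
  obtain ⟨w, ha⟩ := stepB c.pt _ _ hle x y hbo.ge s hsV' a hxy
  obtain ⟨k, ψ, wk, hwk⟩ := sections_from_stage D c hc j _ hU' w
  have hsk : (pr c k) s ∈ D.map ψ ⁻¹ᵁ (D.obj j).basicOpen yj := by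
    show (pr c k ≫ D.map ψ) s ∈ (D.obj j).basicOpen yj
    rw [hw]
    exact hsV'
  refine ⟨k, ((D.obj k).evaluation _ ((pr c k) s) hsk) wk, ?_⟩
  rw [ha]
  refine (Scheme.evaluation_naturality_apply (pr c k) s hsk wk).trans ?_
  rw [← hwk]
  show _ = c.pt.residue s (c.pt.presheaf.germ _ s hsV'
    (c.pt.presheaf.map (homOfLE _).op ((pr c k).app _ wk)))
  rw [TopCat.Presheaf.germ_res_apply]
  rfl

/-- Let S = lim S_i be a cofiltered limit of schemes with affine transition morphisms and let s be a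
point of S with images s_i in S_i. Then the residue field κ(s) is the colimit of the residue fields
κ(s_i): every element of κ(s) is the image of an element of κ(s_i) for some i under the map of
residue fields induced by S → S_i (the maps κ(s_i) → κ(s) being injective, this says that the
canonical map from the colimit is an isomorphism). -/
theorem result {I : Type u} [SmallCategory I] [IsCofiltered I]
    (D : I ⥤ Scheme.{u}) (c : Limits.Cone D) (hc : Limits.IsLimit c)
    [∀ (i j : I) (f : i ⟶ j), IsAffineHom (D.map f)] (s : c.pt) (a : c.pt.residueField s) :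
    ∃ (i : I) (b : (D.obj i).residueField ((c.π.app i).base s)), ((c.π.app i).residueFieldMap s).hom b = a := by
  exact main D c hc s a

end Groth.Agent.S9206
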