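import Groth.Statements.S9207
import Mathlib

set_option autoImplicit false
universe u
open CategoryTheory CategoryTheory.Limits AlgebraicGeometry
open Lim

namespace Groth.Agent.S9207

set_option backward.defeqAttrib.useBackward true in
set_option backward.isDefEq.respectTransparency false in
open AlgebraicGeometry CategoryTheory Limits in
theorem main {I : Type u} [SmallCategory I] [IsCofiltered I]
    (D : I ⥤ Scheme.{u}) (c : Limits.Cone D) (hc : Limits.IsLimit c)
    [hD : ∀ (i j : I) (f : i ⟶ j), IsAffineHom (D.map f)] [∀ i, CompactSpace (D.obj i)]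
    [∀ i, QuasiSeparatedSpace (D.obj i)] (i : I) {T : Scheme.{u}} (a : T ⟶ D.obj i)
    [CompactSpace T]
    (h : IsEmpty ↥(pullback a (c.π.app i))) :
    ∃ (i' : I) (φ : i' ⟶ i), IsEmpty ↥(pullback a (D.map φ)) := by
  by_contra H
  simp only [not_exists, not_isEmpty_iff] at H
  haveI : IsConnected (Over i) := IsCofiltered.isConnected _
  let D' : Over i ⥤ Scheme := Over.post D ⋙ Over.pullback a ⋙ Over.forget _
  let c' : Cone D' := (Over.pullback a ⋙ Over.forget _).mapCone ((Over.conePost _ _).obj c)
  have hc' : IsLimit c' := by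
    refine isLimitOfPreserves (Over.pullback a ⋙ Over.forget _) ?_
    apply isLimitOfReflects (Over.forget (D.obj i))
    exact (Functor.Initial.isLimitWhiskerEquiv (Over.forget i) c).symm hc
  haveI hAff : ∀ {j k : Over i} (f : j ⟶ k), IsAffineHom (D'.map f) := by
    intro j k f
    haveI hk : IsAffineHom (D.map k.hom) := hD _ _ k.hom
    haveI hj : IsAffineHom (D.map j.hom) := hD _ _ j.hom
    haveI : IsAffineHom (pullback.snd (D.map k.hom) a) := MorphismProperty.pullback_snd _ _ hk
    haveI : IsAffineHom (pullback.snd (D.map j.hom) a) := MorphismProperty.pullback_snd _ _ hj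
    have e : D'.map f ≫ pullback.snd (D.map k.hom) a = pullback.snd (D.map j.hom) a := by
      simp [D']
    haveI : IsAffineHom (D'.map f ≫ pullback.snd (D.map k.hom) a) := by
      rw [e]; infer_instance
    exact IsAffineHom.of_comp _ (pullback.snd (D.map k.hom) a)
  haveI hCpt : ∀ j : Over i, CompactSpace (D'.obj j) := by
    intro j
    haveI hj : IsAffineHom (D.map j.hom) := hD _ _ j.hom
    show CompactSpace ↥(pullback (D.map j.hom) a)
    infer_instance
  haveI hNe : ∀ j : Over i, Nonempty (D'.obj j) := by
    intro j
    obtain ⟨x⟩ := H j.left j.hom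
    exact ⟨(pullbackSymmetry a (D.map j.hom)).hom x⟩
  obtain ⟨x⟩ := Scheme.nonempty_of_isLimit D' c' hc'
  exact h.false ((pullbackSymmetry (c.π.app i) a).hom x)

/-- Let S = lim S_i be a cofiltered limit of quasi-compact quasi-separated schemes with affine
transition morphisms, let i be an index and T → S_i a morphism of schemes with T quasi-compact. If
the fibre product T ×_{S_i} S is empty, then T ×_{S_i} S_{i'} is empty for some index i' over i (and
then for every index over i'). -/
theorem result {I : Type u} [SmallCategory I] [IsCofiltered I]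
    (D : I ⥤ Scheme.{u}) (c : Limits.Cone D) (hc : Limits.IsLimit c)
    [∀ (i j : I) (f : i ⟶ j), IsAffineHom (D.map f)] [∀ i, CompactSpace (D.obj i)]
    [∀ i, QuasiSeparatedSpace (D.obj i)] (i : I) {T : Scheme.{u}} (a : T ⟶ D.obj i) [CompactSpace T]
    (h : IsEmpty ↥(pullback a (c.π.app i))) :
    ∃ (i' : I) (φ : i' ⟶ i), IsEmpty ↥(pullback a (D.map φ)) := by
  exact main D c hc i a h

end Groth.Agent.S9207
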