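import Mathlib
import Groth.Statements.S9210
import Groth.Agent.S4450
import Groth.Agent.Lib.Helper9.QcClosure
-- import your own Groth.Agent.* helpers here

set_option autoImplicit false
universe u
open CategoryTheory CategoryTheory.Limits AlgebraicGeometry
open Lim

namespace Groth.Agent.S9210


/-- Let S be a locally Noetherian scheme, f : X → S a morphism locally of finite type and h : U → X a
morphism of finite type whose image is dense in X. Suppose that for every discrete valuation ring A
with fraction field K and every commutative square formed by a morphism Spec K → U → X and a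
morphism Spec A → S, there is at most one morphism Spec A → X making the resulting diagram commute.
Then f is separated. -/
theorem result {X S U : Scheme.{u}} [IsLocallyNoetherian S] (f : X ⟶ S)
    [LocallyOfFiniteType f] (h : U ⟶ X) [LocallyOfFiniteType h] [QuasiCompact h] (hd : DenseRange h.base)
    (H : ∀ (A : Type u) [CommRing A] [IsDomain A] [IsDiscreteValuationRing A]
      (u : Spec (CommRingCat.of (FractionRing A)) ⟶ U) (y : Spec (CommRingCat.of A) ⟶ S),
      u ≫ h ≫ f = Spec.map (CommRingCat.ofHom (algebraMap A (FractionRing A))) ≫ y →
        ∀ l₁ l₂ : Spec (CommRingCat.of A) ⟶ X, l₁ ≫ f = y → Spec.map (CommRingCat.ofHom (algebraMap A (FractionRing A))) ≫ l₁ = u ≫ h →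
          l₂ ≫ f = y → Spec.map (CommRingCat.ofHom (algebraMap A (FractionRing A))) ≫ l₂ = u ≫ h → l₁ = l₂) :
    IsSeparated f := by
  haveI : IsLocallyNoetherian X := LocallyOfFiniteType.isLocallyNoetherian f
  haveI : QuasiSeparated f := QuasiSeparated.of_quasiSeparatedSpace f
  haveI : LocallyOfFiniteType (pullback.fst f f) := MorphismProperty.pullback_fst _ _ inferInstance
  haveI : IsLocallyNoetherian (pullback f f) :=
    LocallyOfFiniteType.isLocallyNoetherian (pullback.fst f f)
  haveI : LocallyOfFiniteType (pullback.diagonal f ≫ pullback.fst f f) := by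
    rw [pullback.diagonal_fst]; infer_instance
  haveI : LocallyOfFiniteType (pullback.diagonal f) :=
    locallyOfFiniteType_of_comp (pullback.diagonal f) (pullback.fst f f)
  have hemb : Topology.IsEmbedding (pullback.diagonal f) := (pullback.diagonal f).isEmbedding
  have hspec : SpecializingMap (pullback.diagonal f) := by
    intro x z' hz
    obtain ⟨u₀, hu₀⟩ := Groth.Agent.Helper9.QcClosure.exists_specializes_of_mem_closure_range h x
      (by rw [hd.closure_range]; trivial)
    have hηz : (h ≫ pullback.diagonal f) u₀ ⤳ z' := by
      rw [Scheme.Hom.comp_apply]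
      exact (hu₀.map (pullback.diagonal f).continuous).trans hz
    obtain ⟨a, ha⟩ : ∃ a, (pullback.diagonal f) a = z' := by
      by_cases hzη : z' = (h ≫ pullback.diagonal f) u₀
      · exact ⟨h u₀, by rw [hzη, Scheme.Hom.comp_apply]⟩
      obtain ⟨A, hh, hA, hcl, hgen⟩ :=
        Groth.Agent.S4450.result (h ≫ pullback.diagonal f) u₀ z' hηz hzη
      haveI := hA
      let g₁ := hh ≫ pullback.fst f f
      let g₂ := hh ≫ pullback.snd f f
      have h1 : g₁ ≫ f = g₂ ≫ f := by
        simp only [g₁, g₂, Category.assoc, pullback.condition]
      have h2 : Spec.map (CommRingCat.ofHom A.subtype) ≫ g₁ =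
          U.fromSpecResidueField u₀ ≫ h := by
        simp only [g₁, ← Category.assoc, hgen]
        simp only [Category.assoc, pullback.diagonal_fst, Category.comp_id]
      have h2' : Spec.map (CommRingCat.ofHom A.subtype) ≫ g₂ =
          U.fromSpecResidueField u₀ ≫ h := by
        simp only [g₂, ← Category.assoc, hgen]
        simp only [Category.assoc, pullback.diagonal_snd, Category.comp_id]
      have h2r := reassoc_of% h2
      let e : FractionRing A ≃ₐ[A] (U.residueField u₀) := FractionRing.algEquiv A _
      have hι : CommRingCat.ofHom (algebraMap A (FractionRing A)) =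
          CommRingCat.ofHom A.subtype ≫
            CommRingCat.ofHom (e.symm : U.residueField u₀ →+* FractionRing A) := by
        apply CommRingCat.hom_ext
        apply RingHom.ext
        intro a
        exact (e.symm.commutes a).symm
      have h3 : g₁ = g₂ := by
        refine H A (Spec.map (CommRingCat.ofHom (e.symm : U.residueField u₀ →+* FractionRing A)) ≫
          U.fromSpecResidueField u₀) (g₁ ≫ f) ?_ g₁ g₂ rfl ?_ h1.symm ?_
        · simp only [hι, Spec.map_comp, Category.assoc, h2r]
        · simp only [hι, Spec.map_comp, Category.assoc, h2]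
        · simp only [hι, Spec.map_comp, Category.assoc, h2']
      have h4 : hh = g₁ ≫ pullback.diagonal f := by
        apply pullback.hom_ext
        · simp only [g₁, Category.assoc, pullback.diagonal_fst, Category.comp_id]
        · rw [Category.assoc, pullback.diagonal_snd, Category.comp_id, h3]
      refine ⟨g₁ (IsLocalRing.closedPoint A), ?_⟩
      rw [← Scheme.Hom.comp_apply, ← h4, hcl]
    refine ⟨a, ?_, ha⟩
    rw [← ha] at hz
    exact hemb.isInducing.specializes_iff.mp hz
  have hclosed : IsClosedMap (pullback.diagonal f) :=
    (isClosedMap_iff_specializingMap (pullback.diagonal f)).mpr hspec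
  exact ⟨IsClosedImmersion.of_isPreimmersion _ hclosed.isClosed_range⟩

end Groth.Agent.S9210
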