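import Mathlib
import Groth.Statements.S9211
import Groth.Agent.S4450
-- import your own Groth.Agent.* helpers here

set_option autoImplicit false
universe u
open CategoryTheory CategoryTheory.Limits AlgebraicGeometry
open Lim

namespace Groth.Agent.S9211


/-- Let S be a locally Noetherian scheme and f : X → S a morphism locally of finite type. Then f is
separated if and only if the following uniqueness holds: for every generic point η of an irreducible
component of X, every discrete valuation ring A contained in the residue field κ(η) with fraction
field κ(η) (a valuation subring of κ(η) which is a discrete valuation ring), and every pair of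
morphisms Spec A → X with the same composite to S and both restricting on Spec κ(η) to the canonical
morphism Spec κ(η) → X, the two morphisms coincide. -/
theorem result {X S : Scheme.{u}} [IsLocallyNoetherian S] (f : X ⟶ S)
    [LocallyOfFiniteType f] :
    IsSeparated f ↔ ∀ (η : X), closure {η} ∈ irreducibleComponents (X : Type u) →
      ∀ (A : ValuationSubring (X.residueField η)), IsDiscreteValuationRing A →
        ∀ l₁ l₂ : Spec (CommRingCat.of A) ⟶ X, l₁ ≫ f = l₂ ≫ f →
          Spec.map (CommRingCat.ofHom A.subtype) ≫ l₁ = X.fromSpecResidueField η →
          Spec.map (CommRingCat.ofHom A.subtype) ≫ l₂ = X.fromSpecResidueField η → l₁ = l₂ := by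
  constructor
  · intro hsep η _ A hA l₁ l₂ h1 h2 h3
    haveI := hA
    have hU := IsSeparated.valuativeCriterion f
    let S : ValuativeCommSq f :=
      { R := A, K := X.residueField η
        i₁ := X.fromSpecResidueField η
        i₂ := l₁ ≫ f
        commSq := ⟨by rw [← Category.assoc]; exact congrArg (· ≫ f) h2.symm⟩ }
    have hsub : Subsingleton S.commSq.LiftStruct := hU S
    let L₁ : S.commSq.LiftStruct := ⟨l₁, h2, rfl⟩
    let L₂ : S.commSq.LiftStruct := ⟨l₂, h3, h1.symm⟩
    exact congrArg CommSq.LiftStruct.l (Subsingleton.elim L₁ L₂)
  · intro H
    haveI : IsLocallyNoetherian X := LocallyOfFiniteType.isLocallyNoetherian f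
    haveI : QuasiSeparated f := QuasiSeparated.of_quasiSeparatedSpace f
    haveI : LocallyOfFiniteType (pullback.fst f f) := MorphismProperty.pullback_fst _ _ inferInstance
    haveI : IsLocallyNoetherian (pullback f f) :=
      LocallyOfFiniteType.isLocallyNoetherian (pullback.fst f f)
    haveI : LocallyOfFiniteType (pullback.diagonal f ≫ pullback.fst f f) := by
      rw [pullback.diagonal_fst]; infer_instance
    haveI : LocallyOfFiniteType (pullback.diagonal f) :=
      locallyOfFiniteType_of_comp (pullback.diagonal f) (pullback.fst f f)
    have hemb : Topology.IsEmbedding (pullback.diagonal f) := (pullback.diagonal f).isEmbedding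
    have hspec : SpecializingMap (pullback.diagonal f) := by
      intro x z' hz
      have hirr : IsIrreducible (irreducibleComponent x) := isIrreducible_irreducibleComponent
      have hηcl : closure {hirr.genericPoint} = irreducibleComponent x :=
        hirr.closure_genericPoint isClosed_irreducibleComponent
      have hηx : hirr.genericPoint ⤳ x := by
        rw [specializes_iff_mem_closure, hηcl]; exact mem_irreducibleComponent
      have hηz : (pullback.diagonal f) hirr.genericPoint ⤳ z' :=
        (hηx.map (pullback.diagonal f).continuous).trans hz
      have hcomp : closure {hirr.genericPoint} ∈ irreducibleComponents (X : Type u) :=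
        hηcl.symm ▸ irreducibleComponent_mem_irreducibleComponents x
      obtain ⟨a, ha⟩ : ∃ a, (pullback.diagonal f) a = z' := by
        by_cases hzη : z' = (pullback.diagonal f) hirr.genericPoint
        · exact ⟨_, hzη.symm⟩
        obtain ⟨A, h, hA, hcl, hgen⟩ :=
          Groth.Agent.S4450.result (pullback.diagonal f) hirr.genericPoint z' hηz hzη
        haveI := hA
        let g₁ := h ≫ pullback.fst f f
        let g₂ := h ≫ pullback.snd f f
        have h1 : g₁ ≫ f = g₂ ≫ f := by
          simp only [g₁, g₂, Category.assoc, pullback.condition]
        have h2 : Spec.map (CommRingCat.ofHom A.subtype) ≫ g₁ =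
            X.fromSpecResidueField hirr.genericPoint := by
          simp only [g₁, ← Category.assoc, hgen]
          simp only [Category.assoc, pullback.diagonal_fst, Category.comp_id]
        have h2' : Spec.map (CommRingCat.ofHom A.subtype) ≫ g₂ =
            X.fromSpecResidueField hirr.genericPoint := by
          simp only [g₂, ← Category.assoc, hgen]
          simp only [Category.assoc, pullback.diagonal_snd, Category.comp_id]
        have h3 := H _ hcomp A hA g₁ g₂ h1 h2 h2'
        have h4 : h = g₁ ≫ pullback.diagonal f := by
          apply pullback.hom_ext
          · simp only [g₁, Category.assoc, pullback.diagonal_fst, Category.comp_id]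
          · rw [Category.assoc, pullback.diagonal_snd, Category.comp_id, h3]
        refine ⟨g₁ (IsLocalRing.closedPoint A), ?_⟩
        rw [← Scheme.Hom.comp_apply, ← h4, hcl]
      refine ⟨a, ?_, ha⟩
      rw [← ha] at hz
      exact hemb.isInducing.specializes_iff.mp hz
    have hclosed : IsClosedMap (pullback.diagonal f) :=
      (isClosedMap_iff_specializingMap (pullback.diagonal f)).mpr hspec
    exact ⟨IsClosedImmersion.of_isPreimmersion _ hclosed.isClosed_range⟩

end Groth.Agent.S9211
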