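import Groth.Statements.S9219
import Mathlib
import Groth.Agent.Lib.Helper9.Lim8

set_option autoImplicit false
universe u
open CategoryTheory CategoryTheory.Limits AlgebraicGeometry
open Lim

namespace Groth.Agent.S9219

set_option backward.defeqAttrib.useBackward true in
set_option backward.isDefEq.respectTransparency false in
open AlgebraicGeometry CategoryTheory Limits Groth.Agent.Helper9.Lim8 in
theorem main {I : Type u} [SmallCategory I] [IsCofiltered I]
    (D : I ⥤ Scheme.{u}) (c : Limits.Cone D) (hc : Limits.IsLimit c)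
    [hD : ∀ (i j : I) (f : i ⟶ j), IsAffineHom (D.map f)] (i : I)
    {Xi Yi : Scheme.{u}} (xi : Xi ⟶ D.obj i) (yi : Yi ⟶ D.obj i)
    [CompactSpace Xi] [LocallyOfFiniteType yi]
    {X : Scheme.{u}} (qX : X ⟶ Xi) (pX : X ⟶ c.pt) (hX : IsPullback qX pX xi (c.π.app i))
    (fi gi : Xi ⟶ Yi) (hfi : fi ≫ yi = xi) (hgi : gi ≫ yi = xi) (h : qX ≫ fi = qX ≫ gi) :
    ∃ (j : I) (φ : j ⟶ i), pullback.fst xi (D.map φ) ≫ fi = pullback.fst xi (D.map φ) ≫ gi := by
  haveI hD' : ∀ {i j : I} (a : i ⟶ j), IsAffineHom (D.map a) := fun a => hD _ _ a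
  haveI : ∀ j : Over i, CompactSpace ((bcDiagram D xi).obj j) := fun j => by
    show CompactSpace ↥(pullback (D.map j.hom) xi)
    infer_instance
  let t : bcDiagram D xi ⟶ (Functor.const (Over i)).obj (D.obj i) :=
    { app := fun j => pullback.snd (D.map j.hom) xi ≫ xi
      naturality := fun j k φ => by
        simp only [Functor.const_obj_obj, Functor.const_obj_map, Category.comp_id]
        rw [← Category.assoc, bcDiagram_map_snd D xi φ] }
  obtain ⟨ρ, hρ1, hρ2⟩ : ∃ ρ : pullback (c.π.app i) xi ⟶ X,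
      ρ ≫ qX = pullback.snd (c.π.app i) xi ∧ ρ ≫ pX = pullback.fst (c.π.app i) xi :=
    ⟨hX.lift (pullback.snd (c.π.app i) xi) (pullback.fst (c.π.app i) xi)
      pullback.condition.symm, hX.lift_fst _ _ _, hX.lift_snd _ _ _⟩
  have hlim : pullback.snd (c.π.app i) xi ≫ fi = pullback.snd (c.π.app i) xi ≫ gi := by
    rw [← hρ1, Category.assoc, Category.assoc, h]
  have ha : t.app (Over.mk (𝟙 i)) =
      (pullback.snd (D.map (Over.mk (𝟙 i)).hom) xi ≫ fi) ≫ yi := by
    show pullback.snd (D.map (Over.mk (𝟙 i)).hom) xi ≫ xi = _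
    rw [Category.assoc, hfi]
  have hb : t.app (Over.mk (𝟙 i)) =
      (pullback.snd (D.map (Over.mk (𝟙 i)).hom) xi ≫ gi) ≫ yi := by
    show pullback.snd (D.map (Over.mk (𝟙 i)).hom) xi ≫ xi = _
    rw [Category.assoc, hgi]
  have hab : (bcCone D c xi).π.app (Over.mk (𝟙 i)) ≫
      (pullback.snd (D.map (Over.mk (𝟙 i)).hom) xi ≫ fi) =
      (bcCone D c xi).π.app (Over.mk (𝟙 i)) ≫
      (pullback.snd (D.map (Over.mk (𝟙 i)).hom) xi ≫ gi) := by
    rw [← Category.assoc, ← Category.assoc, bcCone_π_snd]
    exact hlim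
  obtain ⟨k, ψ, hk⟩ := Scheme.exists_hom_comp_eq_comp_of_locallyOfFiniteType
    (bcDiagram D xi) t yi (bcCone D c xi) (bcIsLimit D c hc xi) _ _ ha hb hab
  refine ⟨k.left, k.hom, ?_⟩
  rw [← Category.assoc, ← Category.assoc, bcDiagram_map_snd D xi ψ] at hk
  rw [← pullbackSymmetry_hom_comp_snd, Category.assoc, Category.assoc, hk]

/-- Let S = lim S_i be a cofiltered limit of schemes with affine transition morphisms (the S_i are not
assumed quasi-compact or quasi-separated), i an index, and X_i → S_i, Y_i → S_i morphisms locally of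
finite presentation with X_i, Y_i quasi-compact and quasi-separated; let X be the base change of X_i
to S (a pullback square). If two S_i-morphisms f_i, g_i : X_i → Y_i have the same base change to S
(equivalently, the same composite with X → X_i), then for some index j over i their base changes to
S_j agree, i.e. they have the same composite with X_i ×_{S_i} S_j → X_i. This is the faithfulness
part of the equivalence between the colimit of the categories of quasi-compact quasi-separated
schemes locally of finite presentation over the S_i and the corresponding category over S. -/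
theorem result {I : Type u} [SmallCategory I] [IsCofiltered I]
    (D : I ⥤ Scheme.{u}) (c : Limits.Cone D) (hc : Limits.IsLimit c)
    [∀ (i j : I) (f : i ⟶ j), IsAffineHom (D.map f)] (i : I)
    {Xi Yi : Scheme.{u}} (xi : Xi ⟶ D.obj i) (yi : Yi ⟶ D.obj i)
    [CompactSpace Xi] [QuasiSeparatedSpace Xi] [LocallyOfFinitePresentation xi]
    [CompactSpace Yi] [QuasiSeparatedSpace Yi] [LocallyOfFinitePresentation yi]
    {X : Scheme.{u}} (qX : X ⟶ Xi) (pX : X ⟶ c.pt) (hX : IsPullback qX pX xi (c.π.app i))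
    (fi gi : Xi ⟶ Yi) (hfi : fi ≫ yi = xi) (hgi : gi ≫ yi = xi) (h : qX ≫ fi = qX ≫ gi) :
    ∃ (j : I) (φ : j ⟶ i), pullback.fst xi (D.map φ) ≫ fi = pullback.fst xi (D.map φ) ≫ gi := by
  exact main D c hc i xi yi qX pX hX fi gi hfi hgi h

end Groth.Agent.S9219
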