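import Groth.Statements.S9227
import Mathlib
import Groth.Agent.Lib.Helper24.RegDer

set_option autoImplicit false
universe u
open CAlg

namespace Groth.Agent.S9227

/-- Let R be a regular ring, f an element of R and D a derivation of R with D(f) a unit of R. Then for
every polynomial p with integer coefficients the ring R[z]/(p(z) - f) is regular; in particular
R[z]/(z^n - f) is regular for every n ≥ 1. -/
theorem result (R : Type u) [CommRing R]
    [IsRegularRing R] (f : R) (D : Derivation ℤ R R) (hD : IsUnit (D f)) (p : Polynomial ℤ) :
    IsRegularRing (Polynomial R ⧸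
      Ideal.span ({Polynomial.map (Int.castRingHom R) p - Polynomial.C f} : Set (Polynomial R))) := by
  classical
  let D' : Derivation ℤ (Polynomial R) (Polynomial R) :=
    (PolynomialModule.equivPolynomialSelf (R := R)).toLinearMap.compDer D.mapCoeffs
  have hC : ∀ a : R, D' (Polynomial.C a) = Polynomial.C (D a) := by
    intro a
    show PolynomialModule.equivPolynomialSelf (D.mapCoeffs (Polynomial.C a)) = _
    rw [Derivation.mapCoeffs_C, PolynomialModule.equivPolynomialSelf_apply_eq,
      PolynomialModule.equivPolynomial_single, Polynomial.monomial_zero_left]
  have hX : D' Polynomial.X = 0 := by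
    show PolynomialModule.equivPolynomialSelf (D.mapCoeffs Polynomial.X) = _
    rw [Derivation.mapCoeffs_X, map_zero]
  have hp : D' (Polynomial.map (Int.castRingHom R) p) = 0 := by
    induction p using Polynomial.induction_on' with
    | add p q hp hq => rw [Polynomial.map_add, map_add, hp, hq, add_zero]
    | monomial n a =>
      rw [Polynomial.map_monomial, ← Polynomial.C_mul_X_pow_eq_monomial, Derivation.leibniz,
        Derivation.leibniz_pow, hX, hC]
      simp
  have hf' : D' (Polynomial.map (Int.castRingHom R) p - Polynomial.C f) = - Polynomial.C (D f) := by
    rw [map_sub, hp, hC, zero_sub]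
  have hunit : IsUnit (Ideal.Quotient.mk
      (Ideal.span ({Polynomial.map (Int.castRingHom R) p - Polynomial.C f} : Set (Polynomial R)))
      (D' (Polynomial.map (Int.castRingHom R) p - Polynomial.C f))) := by
    rw [hf']
    exact ((hD.map Polynomial.C).neg).map _
  exact Groth.Agent.Helper24.RegDer.isRegularRing_quotient_of_derivation _ D' hunit

end Groth.Agent.S9227
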