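import Groth.Statements.S9231
import Mathlib
import Groth.Agent.Lib.Helper8.LocalCrit
import Groth.Agent.S19474

set_option autoImplicit false
universe u
open CAlg

namespace Groth.Agent.S9231

/-- For a local ring map A → B between Noetherian local rings, let ψ be the induced map from the
completion of A at its maximal ideal to that of B (here: a ring map of the completions whose
composite with A → A^ is the composite A → B → B^; since A is Noetherian such a map is unique, hence
is the canonical one). Then ψ is flat exactly when A → B is flat. -/
theorem result (A B : Type u) [CommRing A] [CommRing B] [IsLocalRing A]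
    [IsLocalRing B] [IsNoetherianRing A] [IsNoetherianRing B] [Algebra A B]
    [IsLocalHom (algebraMap A B)]
    (ψ : AdicCompletion (IsLocalRing.maximalIdeal A) A →+* AdicCompletion (IsLocalRing.maximalIdeal B) B)
    (hψ : ψ.comp (algebraMap A (AdicCompletion (IsLocalRing.maximalIdeal A) A)) =
      (algebraMap B (AdicCompletion (IsLocalRing.maximalIdeal B) B)).comp (algebraMap A B)) :
    ψ.Flat ↔ (algebraMap A B).Flat := by
  open IsLocalRing TensorProduct in
  haveI : IsNoetherianRing (AdicCompletion (maximalIdeal A) A) :=
    Groth.Agent.S19474.isNoetherianRing_adicCompletion A (maximalIdeal A)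
  haveI : IsNoetherianRing (AdicCompletion (maximalIdeal B) B) :=
    Groth.Agent.S19474.isNoetherianRing_adicCompletion B (maximalIdeal B)
  have hιA : (algebraMap A (AdicCompletion (maximalIdeal A) A)).Flat :=
    RingHom.flat_algebraMap_iff.2 inferInstance
  have hιB : (algebraMap B (AdicCompletion (maximalIdeal B) B)).Flat :=
    RingHom.flat_algebraMap_iff.2 inferInstance
  constructor
  · intro hψf
    have h1 : ((algebraMap B (AdicCompletion (maximalIdeal B) B)).comp (algebraMap A B)).Flat := by
      rw [← hψ]
      exact hιA.comp hψf
    haveI : Module.Flat A (AdicCompletion (maximalIdeal B) B) := by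
      apply RingHom.flat_algebraMap_iff.1
      rw [IsScalarTower.algebraMap_eq A B (AdicCompletion (maximalIdeal B) B)]
      exact h1
    haveI : Module.FaithfullyFlat B (AdicCompletion (maximalIdeal B) B) :=
      Module.FaithfullyFlat.of_flat_of_isLocalHom
    exact RingHom.flat_algebraMap_iff.2
      (Groth.Agent.Helper8.LocalCrit.flat_of_faithfullyFlat_module (R := A) (S := B)
        (M := AdicCompletion (maximalIdeal B) B))
  · intro hφ
    have h1 : (ψ.comp (algebraMap A (AdicCompletion (maximalIdeal A) A))).Flat := by
      rw [hψ]
      exact hφ.comp hιB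
    letI : Algebra (AdicCompletion (maximalIdeal A) A) (AdicCompletion (maximalIdeal B) B) :=
      ψ.toAlgebra
    haveI : IsScalarTower A (AdicCompletion (maximalIdeal A) A)
        (AdicCompletion (maximalIdeal B) B) :=
      IsScalarTower.of_algebraMap_eq (fun x => by
        rw [IsScalarTower.algebraMap_apply A B (AdicCompletion (maximalIdeal B) B)]
        exact (RingHom.congr_fun hψ x).symm)
    haveI : Module.Flat A (AdicCompletion (maximalIdeal B) B) := by
      apply RingHom.flat_algebraMap_iff.1
      rw [IsScalarTower.algebraMap_eq A B (AdicCompletion (maximalIdeal B) B), ← hψ]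
      exact h1
    have hinj := Groth.Agent.Helper8.LocalCrit.rTensor_map_injective_of_flat (R := A)
      (S := AdicCompletion (maximalIdeal A) A) (M := AdicCompletion (maximalIdeal B) B)
      (maximalIdeal A)
    rw [← AdicCompletion.maximalIdeal_eq_map] at hinj
    have h2 : Module.Flat
        (AdicCompletion (maximalIdeal A) A ⧸ maximalIdeal (AdicCompletion (maximalIdeal A) A))
        ((AdicCompletion (maximalIdeal A) A ⧸ maximalIdeal (AdicCompletion (maximalIdeal A) A))
          ⊗[AdicCompletion (maximalIdeal A) A] (AdicCompletion (maximalIdeal B) B)) := by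
      letI := Ideal.Quotient.field (maximalIdeal (AdicCompletion (maximalIdeal A) A))
      haveI : Module.Free
        (AdicCompletion (maximalIdeal A) A ⧸ maximalIdeal (AdicCompletion (maximalIdeal A) A))
        ((AdicCompletion (maximalIdeal A) A ⧸ maximalIdeal (AdicCompletion (maximalIdeal A) A))
          ⊗[AdicCompletion (maximalIdeal A) A] (AdicCompletion (maximalIdeal B) B)) :=
        Module.Free.of_divisionRing _ _
      exact Module.Flat.of_free
    have hIS : (maximalIdeal (AdicCompletion (maximalIdeal A) A)).map
        (algebraMap (AdicCompletion (maximalIdeal A) A) (AdicCompletion (maximalIdeal B) B))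
        ≤ Ideal.jacobson ⊥ := by
      rw [IsLocalRing.jacobson_eq_maximalIdeal ⊥ bot_ne_top,
        AdicCompletion.maximalIdeal_eq_map (R := A), Ideal.map_map]
      show Ideal.map (ψ.comp (algebraMap A (AdicCompletion (maximalIdeal A) A))) (maximalIdeal A) ≤ _
      rw [hψ, ← Ideal.map_map, AdicCompletion.maximalIdeal_eq_map (R := B)]
      exact Ideal.map_mono
        (IsLocalRing.map_maximalIdeal_le (algebraMap A B))
    exact Groth.Agent.Helper8.LocalCrit.flat_of_rTensor_injective_of_flat_quotient
      (R := AdicCompletion (maximalIdeal A) A) (S := AdicCompletion (maximalIdeal B) B)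
      (M := AdicCompletion (maximalIdeal B) B)
      (maximalIdeal (AdicCompletion (maximalIdeal A) A)) hIS hinj h2

end Groth.Agent.S9231
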