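import Groth.Statements.S9249
import Mathlib
import Groth.Agent.H29.DepthFlat
import Groth.Agent.H29.DepthLib
import Groth.Agent.S19474

set_option autoImplicit false
universe u
open CAlg

namespace Groth.Agent.S9249

/-- A Noetherian local ring is Cohen-Macaulay if and only if its completion is. -/
theorem result (A : Type u) [CommRing A] [IsLocalRing A]
    [IsNoetherianRing A] :
    LocCoh.IsCohenMacaulayLocalRing A ↔
      LocCoh.IsCohenMacaulayLocalRing (AdicCompletion (IsLocalRing.maximalIdeal A) A) := by
  open Groth.Agent.H29 IsLocalRing in
  haveI : IsNoetherianRing (AdicCompletion (maximalIdeal A) A) :=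
    Groth.Agent.S19474.isNoetherianRing_adicCompletion A (maximalIdeal A)
  haveI : Module.FaithfullyFlat A (AdicCompletion (maximalIdeal A) A) :=
    Module.FaithfullyFlat.of_flat_of_isLocalHom
  have h1 := idealDepth_tensor_eq A (AdicCompletion (maximalIdeal A) A) (maximalIdeal A) A
  rw [← AdicCompletion.maximalIdeal_eq_map] at h1
  have h2 : LocCoh.idealDepth (maximalIdeal (AdicCompletion (maximalIdeal A) A))
      (TensorProduct A (AdicCompletion (maximalIdeal A) A) A) =
      LocCoh.idealDepth (maximalIdeal (AdicCompletion (maximalIdeal A) A))
        (AdicCompletion (maximalIdeal A) A) :=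
    idealDepth_congr _ (TensorProduct.AlgebraTensorModule.rid A (AdicCompletion (maximalIdeal A) A)
      (AdicCompletion (maximalIdeal A) A))
  have hdepth : LocCoh.depth (AdicCompletion (maximalIdeal A) A) (AdicCompletion (maximalIdeal A) A) =
      LocCoh.depth A A := by
    show LocCoh.idealDepth (maximalIdeal (AdicCompletion (maximalIdeal A) A))
      (AdicCompletion (maximalIdeal A) A) = LocCoh.idealDepth (maximalIdeal A) A
    rw [← h2, h1]
  have hdim : ringKrullDim (AdicCompletion (maximalIdeal A) A) = ringKrullDim A :=
    Groth.Agent.S19474.ringKrullDim_adicCompletion A (maximalIdeal A) Ideal.IsPrime.ne_top'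
  constructor
  · intro h
    refine { supportDim_eq_depth := ?_ }
    rw [Module.supportDim_self_eq_ringKrullDim, hdim, hdepth]
    have := h.supportDim_eq_depth
    rwa [Module.supportDim_self_eq_ringKrullDim] at this
  · intro h
    refine { supportDim_eq_depth := ?_ }
    have := h.supportDim_eq_depth
    rw [Module.supportDim_self_eq_ringKrullDim, hdim, hdepth] at this
    rw [Module.supportDim_self_eq_ringKrullDim]
    exact this

end Groth.Agent.S9249
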