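import Groth.Statements.S9255
import Groth.Agent.S0389
import Groth.Agent.H29.FFDescent

set_option autoImplicit false
universe u
open EGA4

namespace Groth.Agent.S9255

/-- Let R be a Noetherian domain and R → S an injective ring map of finite type with S a domain. If the
regular locus of Spec S contains a nonempty open subset, then the regular locus of Spec R contains a
nonempty open subset. -/
theorem result (R S : Type u) [CommRing R]
    [IsDomain R] [IsNoetherianRing R] [CommRing S] [IsDomain S] [Algebra R S] [Algebra.FiniteType R S]
    (hinj : Function.Injective (algebraMap R S))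
    (hS : ∃ U : Set (PrimeSpectrum S), IsOpen U ∧ U.Nonempty ∧ U ⊆ EGA4.regLocus S) :
    ∃ U : Set (PrimeSpectrum R), IsOpen U ∧ U.Nonempty ∧ U ⊆ EGA4.regLocus R := by
  classical
  obtain ⟨U, hUo, hUne, hUreg⟩ := hS
  obtain ⟨f, hf, -, hfree, hfp, -⟩ := Groth.Agent.S0389.result (R := R) (S := S) (M := S)
  letI : Algebra S (TensorProduct R (Localization.Away f) S) := Algebra.TensorProduct.rightAlgebra
  haveI hloc : IsLocalization.Away (algebraMap R S f) (TensorProduct R (Localization.Away f) S) := by
    have h := IsLocalization.tensorRight (S := S) (A := Localization.Away f) (Submonoid.powers f)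
    rwa [Algebra.algebraMapSubmonoid, Submonoid.map_powers] at h
  haveI : Module.Flat R (TensorProduct R (Localization.Away f) S) :=
    Module.Flat.trans R (Localization.Away f) _
  haveI : Algebra.FinitePresentation R (Localization.Away f) :=
    IsLocalization.Away.finitePresentation f
  haveI : Algebra.FinitePresentation R (TensorProduct R (Localization.Away f) S) :=
    Algebra.FinitePresentation.trans R (Localization.Away f) _
  have hopen : IsOpenMap (PrimeSpectrum.comap (algebraMap R (TensorProduct R (Localization.Away f) S))) :=
    PrimeSpectrum.isOpenMap_comap_of_hasGoingDown_of_finitePresentation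
  -- the generic point of `Spec S` lies in `U` and in `D(f)`
  obtain ⟨x, hx⟩ := hUne
  have hbotU : (⟨⊥, Ideal.isPrime_bot⟩ : PrimeSpectrum S) ∈ U := by
    have hsp : (⟨⊥, Ideal.isPrime_bot⟩ : PrimeSpectrum S) ⤳ x :=
      (PrimeSpectrum.le_iff_specializes _ _).mp bot_le
    exact hsp.mem_open hUo hx
  have hbotD : (⟨⊥, Ideal.isPrime_bot⟩ : PrimeSpectrum S) ∈
      Set.range (PrimeSpectrum.comap (algebraMap S (TensorProduct R (Localization.Away f) S))) := by
    rw [PrimeSpectrum.localization_away_comap_range _ (algebraMap R S f)]
    show algebraMap R S f ∉ (⊥ : Ideal S)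
    rw [Ideal.mem_bot]
    intro h0
    exact hf (hinj (by rw [h0, map_zero]))
  obtain ⟨P0, hP0⟩ := hbotD
  refine ⟨PrimeSpectrum.comap (algebraMap R (TensorProduct R (Localization.Away f) S)) ''
      (PrimeSpectrum.comap (algebraMap S (TensorProduct R (Localization.Away f) S)) ⁻¹' U),
    hopen _ (hUo.preimage (PrimeSpectrum.continuous_comap _)), ⟨_, ⟨P0, ?_, rfl⟩⟩, ?_⟩
  · show PrimeSpectrum.comap _ P0 ∈ U
    rw [hP0]; exact hbotU
  · rintro _ ⟨P, hPU, rfl⟩
    have hq : IsRegularLocalRing (Localization.AtPrime
        (P.asIdeal.comap (algebraMap S (TensorProduct R (Localization.Away f) S)))) := hUreg hPU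
    haveI hPloc := IsLocalization.isLocalization_isLocalization_atPrime_isLocalization
      (Submonoid.powers (algebraMap R S f)) (Localization.AtPrime P.asIdeal) P.asIdeal
    have e := IsLocalization.algEquiv
      (P.asIdeal.comap (algebraMap S (TensorProduct R (Localization.Away f) S))).primeCompl
      (Localization.AtPrime
        (P.asIdeal.comap (algebraMap S (TensorProduct R (Localization.Away f) S))))
      (Localization.AtPrime P.asIdeal)
    haveI hP : IsRegularLocalRing (Localization.AtPrime P.asIdeal) :=
      IsRegularLocalRing.of_ringEquiv e.toRingEquiv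
    show IsRegularLocalRing (Localization.AtPrime
      (P.asIdeal.comap (algebraMap R (TensorProduct R (Localization.Away f) S))))
    exact Groth.Agent.H29.FFDescent.isRegularLocalRing_comap_of_flat P.asIdeal hP

end Groth.Agent.S9255
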