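import Groth.Statements.S9256
import Mathlib
import Groth.Agent.H29.RegLocal2

set_option autoImplicit false
set_option linter.style.haveILetI false
universe u
open CAlg

namespace Groth.Agent.S9256


open TensorProduct

/-- A regular ring is reduced. -/
theorem isReduced_of_isRegularRing (T : Type u) [CommRing T] [IsRegularRing T] : IsReduced T := by
  apply isReduced_ofLocalizationMaximal
  intro J hJ
  haveI : IsDomain (Localization.AtPrime J) :=
    Groth.Agent.H29.isDomain_of_isRegularLocalRing _
  infer_instance

/-- A reduced artinian ring is regular. -/
theorem isRegularRing_of_isArtinianRing_of_isReduced (T : Type u) [CommRing T] [IsArtinianRing T]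
    [IsReduced T] : IsRegularRing T := by
  rw [isRegularRing_iff]
  intro p hp
  have hf : IsField (Localization.AtPrime p) :=
    IsArtinianRing.isField_of_isReduced_of_isLocalRing _
  haveI : IsDomain (Localization.AtPrime p) := hf.isDomain
  haveI : IsPrincipalIdealRing (Localization.AtPrime p) := hf.isPrincipalIdealRing
  infer_instance

/-- For a field extension K of k, the ring map k → K is regular exactly when K is separable over k, that
is, geometrically reduced over k. -/
theorem result (k K : Type u) [Field k] [Field K]
    [Algebra k K] : CAlg.IsRegularHom k K ↔ Algebra.IsGeometricallyReduced k K := by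
  constructor
  · rintro ⟨-, h⟩
    obtain ⟨-, hreg⟩ := h ⊥
    rw [Algebra.isGeometricallyReduced_field_iff]
    have key : IsReduced (K ⊗[k] AlgebraicClosure k) := by
      apply IsReduced.tensorProduct_of_flat_of_forall_fg
      intro B hB
      haveI : Algebra.FiniteType k B := (Subalgebra.fg_iff_finiteType B).mp hB
      haveI : Algebra.IsAlgebraic k B :=
        Algebra.IsAlgebraic.of_injective B.val Subtype.val_injective
      haveI : Algebra.IsIntegral k B := Algebra.IsAlgebraic.isIntegral
      haveI : Module.Finite k B := Algebra.IsIntegral.finite
      have hBf : IsField B := Subalgebra.isField_of_algebraic B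
      letI : Field B := hBf.toField
      let e : k ≃ₐ[k] (⊥ : Ideal k).ResidueField := Ideal.algEquivResidueFieldOfField ⊥
      letI : Algebra (⊥ : Ideal k).ResidueField B :=
        ((algebraMap k B).comp (e.symm : (⊥ : Ideal k).ResidueField →+* k)).toAlgebra
      haveI : IsScalarTower k (⊥ : Ideal k).ResidueField B :=
        IsScalarTower.of_algebraMap_eq fun x => by
          show algebraMap k B x = algebraMap k B (e.symm (algebraMap k _ x))
          rw [← Ideal.algEquivResidueFieldOfField_apply, AlgEquiv.symm_apply_apply]
      haveI : Module.Finite (⊥ : Ideal k).ResidueField B :=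
        Module.Finite.of_restrictScalars_finite k _ B
      have hR : IsRegularRing (B ⊗[(⊥ : Ideal k).ResidueField] ((⊥ : Ideal k).Fiber K)) :=
        hreg B inferInstance
      haveI := isReduced_of_isRegularRing (B ⊗[(⊥ : Ideal k).ResidueField] ((⊥ : Ideal k).Fiber K))
      let e1 := Algebra.TensorProduct.cancelBaseChange k (⊥ : Ideal k).ResidueField
        (⊥ : Ideal k).ResidueField B K
      exact isReduced_of_injective
        ((Algebra.TensorProduct.comm k K B).toRingEquiv.trans e1.symm.toRingEquiv).toRingHom
        (RingEquiv.injective _)
    exact isReduced_of_injective (Algebra.TensorProduct.comm k (AlgebraicClosure k) K).toRingHom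
      (AlgEquiv.injective _)
  · intro hK
    refine ⟨inferInstance, fun p hp => ?_⟩
    let e : k ≃ₐ[k] p.ResidueField := p.algEquivResidueFieldOfField
    let eF : p.Fiber K ≃ₐ[k] K :=
      (Algebra.TensorProduct.congr e.symm AlgEquiv.refl).trans (Algebra.TensorProduct.lid k K)
    refine ⟨isNoetherianRing_of_ringEquiv K eF.symm.toRingEquiv, ?_⟩
    intro k' _ _ hfin
    letI : Algebra k k' := ((algebraMap p.ResidueField k').comp (algebraMap k p.ResidueField)).toAlgebra
    haveI : IsScalarTower k p.ResidueField k' := IsScalarTower.of_algebraMap_eq fun _ => rfl
    haveI : Module.Finite k p.ResidueField :=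
      Module.Finite.of_surjective e.toLinearMap e.surjective
    haveI : Module.Finite k k' := Module.Finite.trans p.ResidueField k'
    haveI : Algebra.IsAlgebraic k k' := Algebra.IsAlgebraic.of_finite k k'
    haveI : IsReduced (k' ⊗[k] K) := inferInstance
    haveI : IsReduced (K ⊗[k] k') :=
      isReduced_of_injective (Algebra.TensorProduct.comm k K k').toRingHom (AlgEquiv.injective _)
    haveI : IsArtinianRing (K ⊗[k] k') := IsArtinianRing.of_finite K _
    haveI : IsRegularRing (K ⊗[k] k') := isRegularRing_of_isArtinianRing_of_isReduced _
    let e1 := Algebra.TensorProduct.cancelBaseChange k p.ResidueField p.ResidueField k' K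
    exact IsRegularRing.of_ringEquiv
      ((Algebra.TensorProduct.comm k K k').toRingEquiv.trans e1.symm.toRingEquiv)

end Groth.Agent.S9256
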