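import Groth.Statements.S9258
import Mathlib
import Groth.Agent.Lib.Helper8.TwoIdealComplete

set_option autoImplicit false
universe u
open CAlg

namespace Groth.Agent.S9258

theorem tsz_mul {R : Type u} [CommRing R] (a b u v : R) :
    ((TrivSqZeroExt.inl a + TrivSqZeroExt.inr u : TrivSqZeroExt R R) *
      (TrivSqZeroExt.inl b + TrivSqZeroExt.inr v)) =
      TrivSqZeroExt.inl (a * b) + TrivSqZeroExt.inr (a * v + b * u) := by
  ext
  · simp
  · simp [mul_comm]

structure IsDDer {A B : Type u} [CommRing A] [CommRing B] [Algebra A B] (D : Derivation ℤ A A)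
    (I : Ideal B) (d : B → B ⧸ I) : Prop where
  add : ∀ x y, d (x + y) = d x + d y
  mul : ∀ x y, d (x * y) = Ideal.Quotient.mk I x * d y + Ideal.Quotient.mk I y * d x
  ext : ∀ a, d (algebraMap A B a) = Ideal.Quotient.mk I (algebraMap A B (D a))

section
variable {A B : Type u} [CommRing A] [CommRing B] [Algebra A B] {D : Derivation ℤ A A}

theorem dder_one {I : Ideal B} {d : B → B ⧸ I} (h : IsDDer D I d) : d 1 = 0 := by
  have h1 := h.mul 1 1
  rw [mul_one, map_one, one_mul] at h1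
  exact add_eq_left.mp h1.symm

theorem dder_zero {I : Ideal B} {d : B → B ⧸ I} (h : IsDDer D I d) : d 0 = 0 := by
  have h1 := h.add 0 0
  rw [add_zero] at h1
  exact add_eq_left.mp h1.symm

theorem dder_pow {I : Ideal B} {d : B → B ⧸ I} (h : IsDDer D I d) (𝔫 : Ideal B) :
    ∀ j : ℕ, ∀ x ∈ 𝔫 ^ (j + 1), d x ∈ (𝔫 ^ j).map (Ideal.Quotient.mk I) := by
  intro j
  induction j with
  | zero =>
    intro x _
    rw [pow_zero, Ideal.one_eq_top, Ideal.map_top]
    exact Submodule.mem_top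
  | succ j ih =>
    intro x hx
    rw [pow_succ] at hx
    refine Submodule.mul_induction_on hx ?_ ?_
    · intro m hm n hn
      rw [h.mul]
      refine Ideal.add_mem _ (Ideal.mul_mem_right _ _ (Ideal.mem_map_of_mem _ hm)) ?_
      rw [pow_succ', Ideal.map_mul]
      exact Ideal.mul_mem_mul (Ideal.mem_map_of_mem _ hn) (ih m hm)
    · intro x y hx hy
      rw [h.add]
      exact Ideal.add_mem _ hx hy

variable (D)

noncomputable def phiFun (I' : Ideal B) (a : A) : TrivSqZeroExt (B ⧸ I') (B ⧸ I') :=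
  TrivSqZeroExt.inl (Ideal.Quotient.mk I' (algebraMap A B a)) +
    TrivSqZeroExt.inr (Ideal.Quotient.mk I' (algebraMap A B (D a)))

theorem phiFun_one (I' : Ideal B) : phiFun D I' 1 = 1 := by
  simp [phiFun, Derivation.map_one_eq_zero]

theorem phiFun_zero (I' : Ideal B) : phiFun D I' 0 = 0 := by
  simp [phiFun]

theorem phiFun_add (I' : Ideal B) (a b : A) : phiFun D I' (a + b) = phiFun D I' a + phiFun D I' b := by
  simp only [phiFun, map_add, TrivSqZeroExt.inl_add, TrivSqZeroExt.inr_add]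
  abel

theorem phiFun_mul (I' : Ideal B) (a b : A) : phiFun D I' (a * b) = phiFun D I' a * phiFun D I' b := by
  unfold phiFun
  rw [tsz_mul]
  simp only [Derivation.leibniz, smul_eq_mul, map_mul, map_add]

noncomputable def phiD (I' : Ideal B) : A →+* TrivSqZeroExt (B ⧸ I') (B ⧸ I') where
  toFun := phiFun D I'
  map_one' := phiFun_one D I'
  map_mul' := phiFun_mul D I'
  map_zero' := phiFun_zero D I'
  map_add' := phiFun_add D I'

variable {D}

def JJ {I' I : Ideal B} (hle : I' ≤ I) : Ideal (TrivSqZeroExt (B ⧸ I') (B ⧸ I')) where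
  carrier := {x | x.fst = 0 ∧ Ideal.Quotient.factor hle x.snd = 0}
  add_mem' := by
    rintro x y ⟨hx1, hx2⟩ ⟨hy1, hy2⟩
    exact ⟨by simp [hx1, hy1], by simp [hx2, hy2]⟩
  zero_mem' := ⟨by simp, by simp⟩
  smul_mem' := by
    rintro c x ⟨hx1, hx2⟩
    exact ⟨by simp [hx1], by simp [hx1, hx2]⟩

theorem mem_JJ {I' I : Ideal B} (hle : I' ≤ I) {x : TrivSqZeroExt (B ⧸ I') (B ⧸ I')} :
    x ∈ JJ hle ↔ x.fst = 0 ∧ Ideal.Quotient.factor hle x.snd = 0 := Iff.rfl

theorem JJ_sq {I' I : Ideal B} (hle : I' ≤ I) : (JJ hle) ^ 2 = ⊥ := by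
  rw [pow_two, eq_bot_iff, Ideal.mul_le]
  intro x hx y hy
  rw [mem_JJ] at hx hy
  rw [Ideal.mem_bot]
  ext
  · simp [hx.1]
  · simp [hx.1, hy.1]

theorem mk_eq {I' I : Ideal B} (hle : I' ≤ I) (x y y' : B ⧸ I')
    (h : Ideal.Quotient.factor hle y = Ideal.Quotient.factor hle y') :
    Ideal.Quotient.mk (JJ hle) (TrivSqZeroExt.inl x + TrivSqZeroExt.inr y) =
      Ideal.Quotient.mk (JJ hle) (TrivSqZeroExt.inl x + TrivSqZeroExt.inr y') := by
  rw [Ideal.Quotient.eq, mem_JJ]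
  refine ⟨by simp, ?_⟩
  simp [h]

theorem step (𝔫 : Ideal B) (hfs : CAlgX.IsAdicFormallySmooth A B 𝔫) (I' I : Ideal B) (hle : I' ≤ I)
    (d : B → B ⧸ I) (hd : IsDDer D I d) (hk : ∃ k : ℕ, ∀ x ∈ 𝔫 ^ k, x ∈ I' ∧ d x = 0) :
    ∃ d' : B → B ⧸ I', IsDDer D I' d' ∧ ∀ x, Ideal.Quotient.factor hle (d' x) = d x := by
  classical
  letI : Algebra A (TrivSqZeroExt (B ⧸ I') (B ⧸ I')) := (phiD D I').toAlgebra
  have halg : ∀ a, algebraMap A (TrivSqZeroExt (B ⧸ I') (B ⧸ I')) a = phiFun D I' a := fun a => rfl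
  have hsurj := Ideal.Quotient.factor_surjective hle
  let dt : B → B ⧸ I' := fun b => Function.surjInv hsurj (d b)
  have hdt : ∀ b, Ideal.Quotient.factor hle (dt b) = d b := fun b => Function.surjInv_eq hsurj (d b)
  let f : B → TrivSqZeroExt (B ⧸ I') (B ⧸ I') ⧸ JJ hle := fun b =>
    Ideal.Quotient.mk (JJ hle)
      (TrivSqZeroExt.inl (Ideal.Quotient.mk I' b) + TrivSqZeroExt.inr (dt b))
  have f1 : f 1 = 1 := by
    show Ideal.Quotient.mk _ _ = _
    rw [mk_eq hle _ (dt 1) 0 (by rw [hdt, dder_one hd, map_zero])]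
    simp
  have f0 : f 0 = 0 := by
    show Ideal.Quotient.mk _ _ = _
    rw [mk_eq hle _ (dt 0) 0 (by rw [hdt, dder_zero hd, map_zero])]
    simp
  have fmul : ∀ x y, f (x * y) = f x * f y := by
    intro x y
    show Ideal.Quotient.mk _ _ = Ideal.Quotient.mk _ _ * Ideal.Quotient.mk _ _
    rw [← map_mul, tsz_mul, ← map_mul]
    apply mk_eq
    simp only [hdt, hd.mul, map_add, map_mul, Ideal.Quotient.factor_mk]
  have fadd : ∀ x y, f (x + y) = f x + f y := by
    intro x y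
    show Ideal.Quotient.mk _ _ = Ideal.Quotient.mk _ _ + Ideal.Quotient.mk _ _
    rw [← map_add]
    have e : (TrivSqZeroExt.inl (Ideal.Quotient.mk I' x) + TrivSqZeroExt.inr (dt x) :
        TrivSqZeroExt (B ⧸ I') (B ⧸ I')) +
        (TrivSqZeroExt.inl (Ideal.Quotient.mk I' y) + TrivSqZeroExt.inr (dt y)) =
        TrivSqZeroExt.inl (Ideal.Quotient.mk I' (x + y)) + TrivSqZeroExt.inr (dt x + dt y) := by
      simp only [map_add, TrivSqZeroExt.inl_add, TrivSqZeroExt.inr_add]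
      abel
    rw [e]
    apply mk_eq
    simp only [hdt, hd.add, map_add]
  have fcomm : ∀ a, f (algebraMap A B a) = Ideal.Quotient.mk (JJ hle) (phiFun D I' a) := by
    intro a
    show Ideal.Quotient.mk _ _ = Ideal.Quotient.mk _ (phiFun D I' a)
    unfold phiFun
    apply mk_eq
    rw [hdt, hd.ext, Ideal.Quotient.factor_mk]
  let ψ : B →ₐ[A] (TrivSqZeroExt (B ⧸ I') (B ⧸ I') ⧸ JJ hle) :=
    { toFun := f, map_one' := f1, map_mul' := fmul, map_zero' := f0, map_add' := fadd,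
      commutes' := fcomm }
  obtain ⟨k, hk⟩ := hk
  have hψk : ∃ k : ℕ, ∀ x ∈ 𝔫 ^ k, ψ x = 0 := by
    refine ⟨k, fun x hx => ?_⟩
    obtain ⟨h1, h2⟩ := hk x hx
    show Ideal.Quotient.mk _ _ = 0
    rw [Ideal.Quotient.eq_zero_iff_mem, mem_JJ]
    refine ⟨?_, ?_⟩
    · simp [Ideal.Quotient.eq_zero_iff_mem.mpr h1]
    · simp [hdt, h2]
  obtain ⟨χ, hχ⟩ := hfs (TrivSqZeroExt (B ⧸ I') (B ⧸ I')) (JJ hle) (JJ_sq hle) ψ hψk
  have hχb : ∀ b, (χ b).fst = Ideal.Quotient.mk I' b ∧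
      Ideal.Quotient.factor hle (χ b).snd = d b := by
    intro b
    have h1 : Ideal.Quotient.mk (JJ hle) (χ b) = Ideal.Quotient.mk (JJ hle)
        (TrivSqZeroExt.inl (Ideal.Quotient.mk I' b) + TrivSqZeroExt.inr (dt b)) :=
      AlgHom.congr_fun hχ b
    rw [Ideal.Quotient.eq, mem_JJ] at h1
    obtain ⟨h2, h3⟩ := h1
    constructor
    · simpa [sub_eq_zero] using h2
    · have h4 : Ideal.Quotient.factor hle (χ b).snd = Ideal.Quotient.factor hle (dt b) := by
        simpa [sub_eq_zero] using h3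
      rw [h4, hdt]
  refine ⟨fun b => (χ b).snd, ⟨?_, ?_, ?_⟩, fun x => (hχb x).2⟩
  · intro x y
    show (χ (x + y)).snd = (χ x).snd + (χ y).snd
    rw [map_add, TrivSqZeroExt.snd_add]
  · intro x y
    show (χ (x * y)).snd = Ideal.Quotient.mk I' x * (χ y).snd + Ideal.Quotient.mk I' y * (χ x).snd
    rw [map_mul, TrivSqZeroExt.snd_mul, (hχb x).1, (hχb y).1]
    simp only [smul_eq_mul, MulOpposite.smul_eq_mul_unop, MulOpposite.unop_op]
    ring
  · intro a
    show (χ (algebraMap A B a)).snd = _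
    rw [AlgHom.commutes, halg]
    simp only [phiFun, TrivSqZeroExt.snd_add, TrivSqZeroExt.snd_inl, TrivSqZeroExt.snd_inr, zero_add]

theorem main_aux (𝔫 : Ideal B) [IsAdicComplete 𝔫 B] (hfs : CAlgX.IsAdicFormallySmooth A B 𝔫)
    (D : Derivation ℤ A A) :
    ∃ D' : Derivation ℤ B B, ∀ a : A, D' (algebraMap A B a) = algebraMap A B (D a) := by
  classical
  have hle : ∀ n : ℕ, 𝔫 ^ (n + 1) ≤ 𝔫 ^ n := fun n => Ideal.pow_le_pow_right (Nat.le_succ n)
  have hstep : ∀ (n : ℕ) (d : {d : B → B ⧸ 𝔫 ^ n // IsDDer D (𝔫 ^ n) d}),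
      ∃ d' : {d : B → B ⧸ 𝔫 ^ (n + 1) // IsDDer D (𝔫 ^ (n + 1)) d},
        ∀ x, Ideal.Quotient.factor (hle n) (d'.1 x) = d.1 x := by
    rintro n ⟨d, hd⟩
    have hk : ∃ k : ℕ, ∀ x ∈ 𝔫 ^ k, x ∈ 𝔫 ^ (n + 1) ∧ d x = 0 := by
      refine ⟨n + 1, fun x hx => ⟨hx, ?_⟩⟩
      have h1 := dder_pow hd 𝔫 n x hx
      rwa [Ideal.map_quotient_self, Ideal.mem_bot] at h1
    obtain ⟨d', hd', hc⟩ := step 𝔫 hfs (𝔫 ^ (n + 1)) (𝔫 ^ n) (hle n) d hd hk
    exact ⟨⟨d', hd'⟩, hc⟩
  have d0 : {d : B → B ⧸ 𝔫 ^ 0 // IsDDer D (𝔫 ^ 0) d} := by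
    haveI : Subsingleton (B ⧸ 𝔫 ^ 0) := Ideal.Quotient.subsingleton_iff.mpr (by simp)
    exact ⟨fun _ => 0, ⟨fun _ _ => Subsingleton.elim _ _, fun _ _ => Subsingleton.elim _ _,
      fun _ => Subsingleton.elim _ _⟩⟩
  choose F hF using hstep
  let dn : ∀ n : ℕ, {d : B → B ⧸ 𝔫 ^ n // IsDDer D (𝔫 ^ n) d} := fun n =>
    Nat.rec (motive := fun n => {d : B → B ⧸ 𝔫 ^ n // IsDDer D (𝔫 ^ n) d}) d0
      (fun n d => F n d) n
  have hdn : ∀ n x, Ideal.Quotient.factor (hle n) ((dn (n + 1)).1 x) = (dn n).1 x :=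
    fun n x => hF n (dn n) x
  have hlim : ∀ x : B, ∃ L : B, ∀ n, Ideal.Quotient.mk (𝔫 ^ n) L = (dn n).1 x := by
    intro x
    have hs : ∀ n, ∃ r : B, Ideal.Quotient.mk (𝔫 ^ n) r = (dn n).1 x :=
      fun n => Ideal.Quotient.mk_surjective _
    choose r hr using hs
    have hcauchy : ∀ n, r (n + 1) - r n ∈ (𝔫 ^ n • ⊤ : Submodule B B) := by
      intro n
      rw [smul_eq_mul, Ideal.mul_top, ← Ideal.Quotient.eq, hr n, ← hdn n x, ← hr (n + 1),
        Ideal.Quotient.factor_mk]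
    obtain ⟨L, hL⟩ := Groth.Agent.Helper8.TwoIdealComplete.exists_limit 𝔫 r hcauchy
    refine ⟨L, fun n => ?_⟩
    have h1 := hL n
    rw [smul_eq_mul, Ideal.mul_top, ← Ideal.Quotient.eq] at h1
    rw [← h1, hr n]
  choose D' hD' using hlim
  have haus : ∀ u v : B,
      (∀ n, Ideal.Quotient.mk (𝔫 ^ n) u = Ideal.Quotient.mk (𝔫 ^ n) v) → u = v := by
    intro u v h
    have h1 := IsHausdorff.haus' (I := 𝔫) (u - v) (fun n => by
      rw [SModEq.zero, smul_eq_mul, Ideal.mul_top]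
      exact Ideal.Quotient.eq.mp (h n))
    exact sub_eq_zero.mp h1
  have hadd : ∀ x y, D' (x + y) = D' x + D' y := by
    intro x y
    apply haus
    intro n
    simp only [map_add, hD', (dn n).2.add]
  have hmul : ∀ x y, D' (x * y) = x * D' y + y * D' x := by
    intro x y
    apply haus
    intro n
    simp only [map_add, map_mul, hD', (dn n).2.mul]
  have hext : ∀ a, D' (algebraMap A B a) = algebraMap A B (D a) := by
    intro a
    apply haus
    intro n
    rw [hD', (dn n).2.ext]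
  have hone : D' 1 = 0 := by
    apply haus
    intro n
    rw [hD', dder_one (dn n).2, map_zero]
  refine ⟨{ toLinearMap := (AddMonoidHom.mk' D' hadd).toIntLinearMap
            map_one_eq_zero' := hone
            leibniz' := fun a b => by
              show D' (a * b) = a • D' b + b • D' a
              rw [smul_eq_mul, smul_eq_mul]
              exact hmul a b }, hext⟩

end


/-- Suppose A → B is a local map of Noetherian local rings, B is complete, and A → B is formally smooth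
for the adic topology of the maximal ideal of B. Then each derivation D of A extends to a derivation
D' of B, in the sense that D' restricted along A → B equals D followed by A → B. -/
theorem result (A B : Type u) [CommRing A]
    [CommRing B] [IsLocalRing A] [IsLocalRing B] [IsNoetherianRing A] [IsNoetherianRing B]
    [Algebra A B] [IsLocalHom (algebraMap A B)]
    [IsAdicComplete (IsLocalRing.maximalIdeal B) B]
    (hfs : CAlgX.IsAdicFormallySmooth A B (IsLocalRing.maximalIdeal B)) (D : Derivation ℤ A A) :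
    ∃ D' : Derivation ℤ B B, ∀ a : A, D' (algebraMap A B a) = algebraMap A B (D a) := by
  exact main_aux (IsLocalRing.maximalIdeal B) hfs D

end Groth.Agent.S9258
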