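import Groth.Statements.S9261
import Mathlib

set_option autoImplicit false
universe u
open CAlg

namespace Groth.Agent.S9261

/-- Let G be a finite group acting on a ring R, S = R^G its ring of invariants (here: S → R injective
with image the invariants) and A a flat S-algebra. Then the map A → A ⊗_S R is injective with image
the invariants of G acting on A ⊗_S R through the second factor; that is, A → (A ⊗_S R)^G is an
isomorphism. -/
theorem result (S R A G : Type u) [CommRing S] [CommRing R] [Algebra S R]
    [FaithfulSMul S R] [Group G] [Finite G] [MulSemiringAction G R] [SMulCommClass G S R]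
    [Algebra.IsInvariant S R G] [CommRing A] [Algebra S A] [Module.Flat S A] :
    Function.Injective (algebraMap A (TensorProduct S A R)) ∧
      ∀ x : TensorProduct S A R,
        (∀ σ : G, Algebra.TensorProduct.map (AlgHom.id S A) (MulSemiringAction.toAlgHom S R σ) x = x) →
          x ∈ Set.range (algebraMap A (TensorProduct S A R)) := by
  classical
  have : Fintype G := Fintype.ofFinite G
  -- the exact sequence `S → R → (G → R)`
  let f : S →ₗ[S] R := Algebra.linearMap S R
  let d : R →ₗ[S] (G → R) :=
    LinearMap.pi (fun σ => (MulSemiringAction.toAlgHom S R σ).toLinearMap - LinearMap.id)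
  have hd : ∀ r : R, ∀ σ : G, d r σ = σ • r - r := fun r σ => rfl
  have hexact : Function.Exact f d := by
    intro r
    constructor
    · intro h
      have h1 : ∀ σ : G, σ • r = r := by
        intro σ
        have := congrFun h σ
        rw [hd, Pi.zero_apply, sub_eq_zero] at this
        exact this
      obtain ⟨s, hs⟩ := Algebra.IsInvariant.isInvariant (A := S) (G := G) r h1
      exact ⟨s, hs⟩
    · rintro ⟨s, rfl⟩
      funext σ
      rw [hd, Pi.zero_apply, sub_eq_zero]
      change σ • algebraMap S R s = algebraMap S R s
      rw [Algebra.algebraMap_eq_smul_one, smul_comm, smul_one]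
  have hfinj : Function.Injective f := FaithfulSMul.algebraMap_injective S R
  have hexactA : Function.Exact (f.lTensor A) (d.lTensor A) := Module.Flat.lTensor_exact A hexact
  have hinjA : Function.Injective (f.lTensor A) :=
    Module.Flat.lTensor_preserves_injective_linearMap f hfinj
  have hcomp : ∀ a : A, algebraMap A (TensorProduct S A R) a =
      f.lTensor A ((TensorProduct.rid S A).symm a) := by
    intro a
    rw [TensorProduct.rid_symm_apply, LinearMap.lTensor_tmul, Algebra.TensorProduct.algebraMap_apply]
    simp [f]
  refine ⟨?_, ?_⟩
  · intro a b hab
    rw [hcomp, hcomp] at hab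
    exact (TensorProduct.rid S A).symm.injective (hinjA hab)
  · intro x hx
    have hx0 : d.lTensor A x = 0 := by
      apply (TensorProduct.piRight S S A (fun _ : G => R)).injective
      rw [map_zero]
      funext σ
      have key : ∀ y : TensorProduct S A R,
          (TensorProduct.piRight S S A (fun _ : G => R)) (d.lTensor A y) σ =
          Algebra.TensorProduct.map (AlgHom.id S A) (MulSemiringAction.toAlgHom S R σ) y - y := by
        intro y
        induction y using TensorProduct.induction_on with
        | zero => simp
        | tmul a r =>
          rw [LinearMap.lTensor_tmul, TensorProduct.piRight_apply, TensorProduct.piRightHom_tmul]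
          change a ⊗ₜ[S] d r σ = _
          rw [hd, TensorProduct.tmul_sub, Algebra.TensorProduct.map_tmul]
          rfl
        | add y z hy hz =>
          rw [map_add, map_add, Pi.add_apply, hy, hz, map_add]
          abel
      rw [key, hx σ, sub_self]
      rfl
    obtain ⟨y, hy⟩ := (hexactA x).mp hx0
    refine ⟨TensorProduct.rid S A y, ?_⟩
    rw [hcomp, LinearEquiv.symm_apply_apply, hy]

end Groth.Agent.S9261
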