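import Mathlib
import Groth.Agent.H11.HCDvr
import Groth.Agent.S0507
import Groth.Agent.S0509
import Groth.Agent.S0511
import Groth.Agent.S0515
import Groth.Agent.S0538
import Groth.Agent.S0539
import Groth.Agent.S0540
import Groth.Agent.S2748
import Groth.Statements.S9262

set_option autoImplicit false
universe u
open Hensel

namespace Groth.Agent.S9262

/-- Let R be a Noetherian local ring with henselization S and strict henselization T. Then R is a
discrete valuation ring exactly when S is one, and exactly when T is one. -/
theorem result (R S T : Type u)
    [CommRing R] [IsLocalRing R] [IsNoetherianRing R] [CommRing S] [IsLocalRing S] [Algebra R S]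
    [IsLocalHom (algebraMap R S)] [Hensel.IsHenselization R S] [CommRing T] [IsLocalRing T]
    [Algebra R T] [IsLocalHom (algebraMap R T)] [Hensel.IsStrictHenselization R T] :
    ((∃ _ : IsDomain R, IsDiscreteValuationRing R) ↔ (∃ _ : IsDomain S, IsDiscreteValuationRing S)) ∧
      ((∃ _ : IsDomain R, IsDiscreteValuationRing R) ↔
        (∃ _ : IsDomain T, IsDiscreteValuationRing T)) := by
  constructor
  · haveI : Module.FaithfullyFlat R S := Groth.Agent.S0509.result R S
    haveI : IsNoetherianRing S := (Groth.Agent.S0511.result R S).1 inferInstance
    exact Groth.Agent.H11.HC.dvr_iff_of_flat R S (Groth.Agent.S0507.result R S)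
      (Groth.Agent.S0515.result R S).1
  · haveI : Module.FaithfullyFlat R T := Groth.Agent.S0539.result R T
    haveI : IsNoetherianRing T := (Groth.Agent.S0540.result R T).1 inferInstance
    exact Groth.Agent.H11.HC.dvr_iff_of_flat R T (Groth.Agent.S0538.result R T)
      (Groth.Agent.S2748.result R T).2

end Groth.Agent.S9262
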