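import Groth.Statements.S9263
import Mathlib

set_option autoImplicit false
universe u
attribute [local instance] HasDerivedCategory.standard
open CategoryTheory
open DerCA

namespace Groth.Agent.S9263


section helpers
open CategoryTheory CategoryTheory.Limits

variable {R : Type u} [CommRing R]

lemma cocone_contractible {K L : CochainComplex (ModuleCat.{u} R) ℤ} (φ : K ⟶ L)
    (h : IsIso ((HomotopyCategory.quotient _ _).map φ)) :
    Nonempty (Homotopy (𝟙 (CochainComplex.mappingCocone φ)) 0) := by
  have hz : IsZero ((HomotopyCategory.quotient _ _).obj (CochainComplex.mappingCone φ)) :=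
    (CategoryTheory.Pretriangulated.Triangle.isZero₃_iff_isIso₁ _
      (HomotopyCategory.mappingCone_triangleh_distinguished φ)).2 h
  obtain ⟨H⟩ := (HomotopyCategory.isZero_quotient_obj_iff _).1 hz
  have H' := H.shift (-1)
  refine ⟨(Homotopy.ofEq ?_).trans (H'.trans (Homotopy.ofEq ?_))⟩
  · exact (CategoryTheory.Functor.map_id _ _).symm
  · exact CategoryTheory.Functor.map_zero _ _ _

lemma mk_bijective (S : Submonoid R) (hS : ∀ s ∈ S, IsUnit s) (M : ModuleCat.{u} R) :
    Function.Bijective (LocalizedModule.mkLinearMap S M) := by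
  constructor
  · intro m m' h
    rw [LocalizedModule.mkLinearMap_apply, LocalizedModule.mkLinearMap_apply,
      LocalizedModule.mk_eq] at h
    obtain ⟨w, hw⟩ := h
    rw [one_smul, one_smul, Submonoid.smul_def, Submonoid.smul_def] at hw
    exact (hS w w.2).smul_left_cancel.1 hw
  · intro x
    induction x using LocalizedModule.induction_on with
    | h m s =>
      obtain ⟨v, hv⟩ := hS s s.2
      refine ⟨((v⁻¹ : Rˣ) : R) • m, ?_⟩
      rw [LocalizedModule.mkLinearMap_apply, LocalizedModule.mk_eq]
      refine ⟨1, ?_⟩
      simp only [one_smul]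
      rw [Submonoid.smul_def, ← hv, smul_smul, Units.mul_inv, one_smul]

lemma locUnit_isIso (S : Submonoid R) (hS : ∀ s ∈ S, IsUnit s) (M : ModuleCat.{u} R) :
    IsIso ((DerCA.locUnit S).app M) := by
  rw [ConcreteCategory.isIso_iff_bijective]
  exact mk_bijective S hS M

lemma locCxUnit_isIso (S : Submonoid R) (hS : ∀ s ∈ S, IsUnit s) (K : DRing.Cx R) :
    IsIso (DerCA.locCxUnit S K) := by
  haveI : ∀ i, IsIso ((DerCA.locCxUnit S K).f i) := fun i => locUnit_isIso S hS (K.X i)
  exact HomologicalComplex.Hom.isIso_of_components _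

end helpers

/-- Let R be a ring, f_1, ..., f_r elements of R such that some f_i is a unit, and M an R-module. Then
the extended alternating Cech complex of M with respect to f_1, ..., f_r is homotopy equivalent to
zero: its identity map is null-homotopic. -/
theorem result (R : Type u) [CommRing R] (fs : List R)
    (hf : ∃ f ∈ fs, IsUnit f) (M : ModuleCat.{u} R) :
    Nonempty (Homotopy (𝟙 (DerCA.extCech M fs)) 0) := by
  induction fs with
  | nil =>
    obtain ⟨f, hf', _⟩ := hf
    simp at hf'
  | cons g gs ih =>
    show Nonempty (Homotopy (𝟙 (CochainComplex.mappingCocone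
      (DerCA.locCxUnit (Submonoid.powers g) (DerCA.extCech M gs)))) 0)
    apply cocone_contractible
    by_cases hg : IsUnit g
    · haveI : IsIso (DerCA.locCxUnit (Submonoid.powers g) (DerCA.extCech M gs)) :=
        locCxUnit_isIso _ (fun s hs => by
          obtain ⟨n, rfl⟩ := hs
          exact hg.pow n) _
      infer_instance
    · have hex : ∃ f ∈ gs, IsUnit f := by
        obtain ⟨f, hf', hu⟩ := hf
        rcases List.mem_cons.1 hf' with rfl | h
        · exact absurd hu hg
        · exact ⟨f, h, hu⟩
      obtain ⟨H⟩ := ih hex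
      have z1 : Limits.IsZero ((HomotopyCategory.quotient _ _).obj (DerCA.extCech M gs)) :=
        (HomotopyCategory.isZero_quotient_obj_iff _).2 ⟨H⟩
      have z2 : Limits.IsZero ((HomotopyCategory.quotient _ _).obj
          ((DerCA.locCx (Submonoid.powers g)).obj (DerCA.extCech M gs))) := by
        rw [HomotopyCategory.isZero_quotient_obj_iff]
        have H2 := (DerCA.locFunctor (Submonoid.powers g)).mapHomotopy H
        exact ⟨(Homotopy.ofEq (by simp)).trans (H2.trans (Homotopy.ofEq (by simp)))⟩
      exact ⟨⟨0, z1.eq_of_src _ _, z2.eq_of_src _ _⟩⟩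

end Groth.Agent.S9263
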