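import Groth.Statements.S9264
import Mathlib

set_option autoImplicit false
universe u
attribute [local instance] HasDerivedCategory.standard
open CategoryTheory
open DerCA

namespace Groth.Agent.S9264

open CategoryTheory.Limits in
lemma isZero_extCech_X {R : Type u} [CommRing R] (M : ModuleCat.{u} R) :
    ∀ (fs : List R) (n : ℤ), (n < 0 ∨ (fs.length : ℤ) < n) →
      Limits.IsZero ((DerCA.extCech M fs).X n)
  | [], n, h => by
    have hn : n ≠ 0 := by
      rcases h with h | h
      · omega
      · simp at h
        omega
    exact HomologicalComplex.isZero_single_obj_X (ComplexShape.up ℤ) 0 M n hn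
  | f :: fs, n, h => by
    have hlen : ((f :: fs).length : ℤ) = (fs.length : ℤ) + 1 := by simp
    rw [hlen] at h
    have h1 : IsZero ((DerCA.extCech M fs).X n) := isZero_extCech_X M fs n (by omega)
    have h2 : IsZero ((DerCA.extCech M fs).X (n - 1)) := isZero_extCech_X M fs (n - 1) (by omega)
    have h3 : IsZero (((DerCA.locCx (Submonoid.powers f)).obj (DerCA.extCech M fs)).X (n - 1)) :=
      (DerCA.locFunctor (Submonoid.powers f)).map_isZero h2
    exact ((DerCA.mappingCoconeXIso
      (DerCA.locCxUnit (Submonoid.powers f) (DerCA.extCech M fs)) n).isZero_iff).mpr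
      ((biprod_isZero_iff _ _).mpr ⟨h1, h3⟩)

/-- The cohomology of the extended alternating Cech complex of a module M with respect to f_1, ..., f_r
vanishes in degrees outside [0, r]. -/
theorem result (R : Type u) [CommRing R] (fs : List R)
    (M : ModuleCat.{u} R) (q : ℤ) (hq : q < 0 ∨ (fs.length : ℤ) < q) :
    Limits.IsZero (DerCA.extCechH fs M q) := by
  exact (HomologicalComplex.exactAt_iff_isZero_homology _ _).mp
    (HomologicalComplex.ExactAt.of_isZero (isZero_extCech_X M fs q hq))

end Groth.Agent.S9264
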