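import Groth.Statements.S9275
import Mathlib

set_option autoImplicit false
universe u
open EtAlg

namespace Groth.Agent.S9275

/-- if `B_h` is étale over `A`, then so is `(B_g)_h`. -/
private theorem etale_away_away (A B : Type u) [CommRing A] [CommRing B] [Algebra A B] (g h : B)
    (hh : Algebra.Etale A (Localization.Away h)) :
    Algebra.Etale A (Localization.Away (algebraMap B (Localization.Away g) h)) := by
  let Bg := Localization.Away g
  let Bh := Localization.Away h
  let T := Localization.Away (algebraMap B Bg h)
  have hunit : IsUnit (algebraMap B T h) := by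
    rw [IsScalarTower.algebraMap_apply B Bg T]
    exact IsLocalization.Away.algebraMap_isUnit _
  letI : Algebra Bh T := (IsLocalization.Away.lift (S := Bh) h hunit).toAlgebra
  haveI : IsScalarTower B Bh T := IsScalarTower.of_algebraMap_eq fun x => by
    show algebraMap B T x = (IsLocalization.Away.lift (S := Bh) h hunit) (algebraMap B Bh x)
    rw [IsLocalization.Away.lift_eq]
  haveI : IsScalarTower A Bh T := IsScalarTower.of_algebraMap_eq fun x => by
    rw [IsScalarTower.algebraMap_apply A B Bh, ← IsScalarTower.algebraMap_apply B Bh T,
      ← IsScalarTower.algebraMap_apply A B T]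
  haveI : IsLocalization.Away (algebraMap B Bh g) T :=
    IsLocalization.Away.commutes Bh Bg T h g
  haveI : Algebra.Etale Bh T := Algebra.Etale.of_isLocalizationAway (algebraMap B Bh g)
  exact Algebra.Etale.comp A Bh T

/-- Let A → B be a ring map and J an ideal of B such that A → B is étale at every prime of V(J), in the
sense that every prime q ⊇ J has some h ∉ q with A → B_h étale. Then there is g ∈ B mapping to a
unit of B/J such that A → B_g is étale. -/
theorem result (A B : Type u) [CommRing A] [CommRing B]
    [Algebra A B] (J : Ideal B)
    (h : ∀ (q : Ideal B) [q.IsPrime], J ≤ q → ∃ h : B, h ∉ q ∧ Algebra.Etale A (Localization.Away h)) :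
    ∃ g : B, IsUnit (Ideal.Quotient.mk J g) ∧ Algebra.Etale A (Localization.Away g) := by
  let T : Set B := {h : B | Algebra.Etale A (Localization.Away h)}
  have htop : J ⊔ Ideal.span T = ⊤ := by
    by_contra hne
    obtain ⟨q, hq, hle⟩ := Ideal.exists_le_maximal _ hne
    haveI := hq.isPrime
    obtain ⟨h', hh'q, hh'⟩ := h q (le_sup_left.trans hle)
    exact hh'q (hle (Ideal.mem_sup_right (Ideal.subset_span hh')))
  have h1 : (1 : B) ∈ J ⊔ Ideal.span T := by rw [htop]; trivial
  obtain ⟨j, hj, g, hg, hjg⟩ := Submodule.mem_sup.mp h1
  refine ⟨g, ?_, ?_⟩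
  · have : Ideal.Quotient.mk J g = 1 := by
      rw [← map_one (Ideal.Quotient.mk J), ← hjg, map_add, Ideal.Quotient.eq_zero_iff_mem.mpr hj,
        zero_add]
    rw [this]; exact isUnit_one
  · rw [← RingHom.etale_algebraMap]
    apply RingHom.Etale.ofLocalizationSpanTarget (algebraMap A (Localization.Away g))
      (algebraMap B (Localization.Away g) '' T)
    · rw [← Ideal.map_span, Ideal.eq_top_iff_one]
      have hgu : IsUnit (algebraMap B (Localization.Away g) g) :=
        IsLocalization.Away.algebraMap_isUnit g
      have hmem : algebraMap B (Localization.Away g) g ∈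
          Ideal.map (algebraMap B (Localization.Away g)) (Ideal.span T) :=
        Ideal.mem_map_of_mem _ hg
      exact (Ideal.eq_top_of_isUnit_mem _ hmem hgu) ▸ Submodule.mem_top
    · rintro ⟨_, h', hh', rfl⟩
      have := etale_away_away A B g h' hh'
      rw [← RingHom.etale_algebraMap] at this
      convert this using 1
      exact (IsScalarTower.algebraMap_eq A (Localization.Away g) _).symm

end Groth.Agent.S9275
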