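import Groth.Statements.S9283
import Mathlib

set_option autoImplicit false
universe u
open CAlg

namespace Groth.Agent.S9283

/-- Let R be an auto-associated ring, that is, a local ring whose maximal ideal is weakly associated to
R: some nonzero x ∈ R is killed by a power of every element of the maximal ideal. Then every proper
finitely generated ideal of R has a nonzero annihilator. -/
theorem result (R : Type u) [CommRing R] [IsLocalRing R]
    (h : ∃ x : R, x ≠ 0 ∧ ∀ f ∈ IsLocalRing.maximalIdeal R, ∃ n : ℕ, f ^ n * x = 0)
    (I : Ideal R) (hI : I.FG) (hI' : I ≠ ⊤) : I.annihilator ≠ ⊥ := by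
  classical
  obtain ⟨x, hx0, hx⟩ := h
  have hIm : I ≤ IsLocalRing.maximalIdeal R := IsLocalRing.le_maximalIdeal hI'
  obtain ⟨s, hs⟩ := hI
  have key : ∀ t : Finset R, (∀ f ∈ t, f ∈ IsLocalRing.maximalIdeal R) →
      ∃ y : R, y ≠ 0 ∧ (∀ f ∈ t, f * y = 0) ∧
        ∀ f ∈ IsLocalRing.maximalIdeal R, ∃ n : ℕ, f ^ n * y = 0 := by
    intro t
    induction t using Finset.induction_on with
    | empty => intro _; exact ⟨x, hx0, by simp, hx⟩
    | insert g t hgt ih =>
      intro ht
      obtain ⟨y, hy0, hyt, hym⟩ := ih (fun f hf => ht f (Finset.mem_insert_of_mem hf))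
      have hg : g ∈ IsLocalRing.maximalIdeal R := ht g (Finset.mem_insert_self g t)
      have hex := hym g hg
      have hn0 : Nat.find hex ≠ 0 := by
        intro h0
        have := Nat.find_spec hex
        rw [h0] at this
        simp at this
        exact hy0 this
      obtain ⟨k, hk⟩ := Nat.exists_eq_succ_of_ne_zero hn0
      refine ⟨g ^ k * y, ?_, ?_, ?_⟩
      · intro h0
        have := Nat.find_min' hex h0
        omega
      · intro f hf
        rcases Finset.mem_insert.mp hf with rfl | hf
        · have := Nat.find_spec hex
          rw [hk, pow_succ] at this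
          rw [← this]; ring
        · have := hyt f hf
          calc f * (g ^ k * y) = g ^ k * (f * y) := by ring
            _ = 0 := by rw [this, mul_zero]
      · intro f hf
        obtain ⟨n, hn⟩ := hym f hf
        refine ⟨n, ?_⟩
        calc f ^ n * (g ^ k * y) = g ^ k * (f ^ n * y) := by ring
          _ = 0 := by rw [hn, mul_zero]
  obtain ⟨y, hy0, hys, -⟩ := key s (fun f hf => hIm (hs ▸ Submodule.subset_span hf))
  intro hann
  have : y ∈ I.annihilator := by
    rw [← hs, Submodule.mem_annihilator_span]
    rintro ⟨f, hf⟩
    simpa [mul_comm] using hys f hf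
  rw [hann] at this
  exact hy0 (by simpa using this)

end Groth.Agent.S9283
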