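import Groth.Statements.S9284
import Groth.Agent.Lib.Helper12.UnivInjP

set_option autoImplicit false
universe u
open CAlgX

namespace Groth.Agent.S9284

/-- Let R be a ring such that every proper finitely generated ideal of R has a nonzero annihilator, and
let u : N → M be an R-linear map between projective R-modules. Then u stays injective after
tensoring with every R-module exactly when u is injective. -/
theorem result (R : Type u) [CommRing R]
    (hP : (∀ I : Ideal R, I.FG → I ≠ ⊤ → I.annihilator ≠ ⊥))
    (N M : Type u) [AddCommGroup N] [Module R N] [Module.Projective R N] [AddCommGroup M]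
    [Module R M] [Module.Projective R M] (u : N →ₗ[R] M) :
    CAlgX.UniversallyInjective R u ↔ Function.Injective u := by
  constructor
  · intro h
    have hR := h R
    rw [injective_iff_map_eq_zero]
    intro n hn
    have h1 : (u.rTensor R) (n ⊗ₜ[R] (1 : R)) = 0 := by
      rw [LinearMap.rTensor_tmul, hn, TensorProduct.zero_tmul]
    have h2 : n ⊗ₜ[R] (1 : R) = 0 := hR (h1.trans (map_zero _).symm)
    have h3 := congrArg (TensorProduct.rid R N) h2
    rw [TensorProduct.rid_tmul, one_smul, map_zero] at h3
    exact h3
  · intro hu Q _ _
    exact Groth.Agent.Helper12.rTensor_injective_of_projective hP u hu Q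

end Groth.Agent.S9284
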