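import Groth.Statements.S9292
import Mathlib
import Groth.Agent.Lib.Helper26.EtaleSection

set_option autoImplicit false
universe u
open EtAlg

namespace Groth.Agent.S9292

set_option linter.style.haveILetI false

/-- Let A be a ring, I an ideal, and e_1, ..., e_n a complete system of orthogonal idempotents of A/I
(equivalently a finite disjoint open covering of Spec(A/I)). Then one can find an A-algebra A' that
is étale over A, such that the induced map A/I → A'/IA' is bijective, together with a complete
system of orthogonal idempotents of A' lifting the e_j. -/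
theorem result (A : Type u) [CommRing A] (I : Ideal A)
    (n : ℕ) (e : Fin n → A ⧸ I) (he : CompleteOrthogonalIdempotents e) :
    ∃ (A' : Type u) (_ : CommRing A') (_ : Algebra A A'), Algebra.Etale A A' ∧
      Function.Bijective (Ideal.quotientMap (Ideal.map (algebraMap A A') I) (algebraMap A A')
        Ideal.le_comap_map) ∧
      ∃ e' : Fin n → A', CompleteOrthogonalIdempotents e' ∧
        ∀ j, Ideal.Quotient.mk (Ideal.map (algebraMap A A') I) (e' j) =
          Ideal.quotientMap (Ideal.map (algebraMap A A') I) (algebraMap A A') Ideal.le_comap_map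
            (e j) := by
  classical
  -- the `A`-algebra map `Aⁿ → A ⧸ I`, `a ↦ ∑ aⱼ eⱼ`
  let φ : (Fin n → A) →ₗ[A] A ⧸ I :=
    { toFun := fun a => ∑ j, Ideal.Quotient.mk I (a j) * e j
      map_add' := fun a b => by
        simp only [Pi.add_apply, map_add, add_mul, Finset.sum_add_distrib]
      map_smul' := fun c a => by
        simp only [Pi.smul_apply, smul_eq_mul, map_mul, RingHom.id_apply, Algebra.smul_def,
          Ideal.Quotient.algebraMap_eq, Finset.mul_sum, mul_assoc] }
  have hφ : ∀ a, φ a = ∑ j, Ideal.Quotient.mk I (a j) * e j := fun a => rfl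
  have hone : φ 1 = 1 := by
    rw [hφ]
    simp only [Pi.one_apply, map_one, one_mul]
    exact he.complete
  have hmul : ∀ x y : Fin n → A, φ (x * y) = φ x * φ y := by
    intro x y
    rw [hφ, hφ, hφ, Finset.sum_mul_sum]
    refine Finset.sum_congr rfl fun j _ => ?_
    rw [Finset.sum_eq_single j]
    · rw [Pi.mul_apply, map_mul, mul_mul_mul_comm, (he.idem j).eq]
    · intro k _ hkj
      rw [mul_mul_mul_comm, he.ortho (Ne.symm hkj), mul_zero]
    · intro h; exact absurd (Finset.mem_univ j) h
  let σ : (Fin n → A) →ₐ[A] A ⧸ I := AlgHom.ofLinearMap φ hone hmul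
  have hσ : ∀ j, σ (Pi.single j 1) = e j := by
    intro j
    change φ (Pi.single j 1) = e j
    rw [hφ, Finset.sum_eq_single j]
    · rw [Pi.single_eq_same, map_one, one_mul]
    · intro k _ hkj
      rw [Pi.single_eq_of_ne hkj, map_zero, zero_mul]
    · intro h; exact absurd (Finset.mem_univ j) h
  obtain ⟨A', _, _, hA', hbij, γ, hγ⟩ :=
    Groth.Agent.Helper26.EtaleSection.exists_etale_of_section I σ
  refine ⟨A', inferInstance, inferInstance, hA', hbij, fun j => γ (Pi.single j 1), ?_, ?_⟩
  · exact (CompleteOrthogonalIdempotents.single (fun _ : Fin n => A)).map (γ : (Fin n → A) →+* A')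
  · intro j
    rw [hγ, hσ]
    rfl

end Groth.Agent.S9292
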