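import Groth.Statements.S9295
import Groth.Agent.H29.FFDescent

set_option autoImplicit false
universe u
open CAlg

namespace Groth.Agent.S9295

/-- For ring maps A → B → C, if the composite A → C is a regular map and C is flat over B with every
prime of B lying under a prime of C (that is, B → C is faithfully flat), then A → B is a regular
map. -/
theorem result (A B C : Type u) [CommRing A] [CommRing B] [CommRing C]
    [Algebra A B] [Algebra B C] [Algebra A C] [IsScalarTower A B C]
    (hAC : CAlg.IsRegularHom A C) [Module.Flat B C]
    (hsurj : Function.Surjective (PrimeSpectrum.comap (algebraMap B C))) :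
    CAlg.IsRegularHom A B := by
  haveI : Module.FaithfullyFlat B C := Module.FaithfullyFlat.of_comap_surjective hsurj
  obtain ⟨hflat, hfib⟩ := hAC
  haveI := hflat
  refine ⟨Groth.Agent.H29.flat_of_faithfullyFlat_of_flat_comp A B C, fun p hp => ?_⟩
  obtain ⟨hN, hG⟩ := hfib p
  refine ⟨?_, fun K _ _ hfin => ?_⟩
  · have e1 := (Algebra.TensorProduct.comm A p.ResidueField C).toRingEquiv
    haveI h1 := isNoetherianRing_of_ringEquiv _
      (e1.trans (Groth.Agent.H29.FFDescent.tensorIso₂ A B C p.ResidueField).symm)
    haveI h2 := Groth.Agent.H29.FFDescent.isNoetherianRing_descent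
      (TensorProduct A B p.ResidueField)
      (TensorProduct B (TensorProduct A B p.ResidueField) C)
    exact isNoetherianRing_of_ringEquiv _
      (Algebra.TensorProduct.comm A B p.ResidueField).toRingEquiv
  · letI : Algebra A K :=
      ((algebraMap p.ResidueField K).comp (algebraMap A p.ResidueField)).toAlgebra
    haveI : IsScalarTower A p.ResidueField K := IsScalarTower.of_algebraMap_eq' rfl
    haveI hC := hG K hfin
    haveI h1 : IsRegularRing (TensorProduct B (TensorProduct A B K) C) :=
      IsRegularRing.of_ringEquiv
        ((Groth.Agent.H29.FFDescent.tensorIso₁ A C K p.ResidueField).trans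
          (Groth.Agent.H29.FFDescent.tensorIso₂ A B C K).symm)
    haveI h2 : IsRegularRing (TensorProduct A B K) :=
      Groth.Agent.H29.FFDescent.isRegularRing_descent _
        (TensorProduct B (TensorProduct A B K) C)
    exact IsRegularRing.of_ringEquiv
      (Groth.Agent.H29.FFDescent.tensorIso₁ A B K p.ResidueField).symm

end Groth.Agent.S9295
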