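import Groth.Statements.S9297
import Groth.Agent.S9128
import Groth.Agent.Lib.Helper8.CatDim
import Groth.Agent.H29.MinPrimeDim
import Groth.Agent.H29.RegLocal3

set_option autoImplicit false
universe u
open EGA4

namespace Groth.Agent.S9297

/-- Let A → B be a flat local homomorphism of Noetherian local rings with B catenary and Spec(B)
equidimensional. Then Spec(B/pB) is equidimensional for every prime p of A. -/
theorem result (A B : Type u) [CommRing A] [CommRing B]
    [IsNoetherianRing A] [IsNoetherianRing B] [IsLocalRing A] [IsLocalRing B] [Algebra A B]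
    [IsLocalHom (algebraMap A B)] [Module.Flat A B] (hcat : CAlg.IsCatenary B) (heq : EGA4.IsEquidim B)
    (p : Ideal A) [p.IsPrime] : EGA4.IsEquidim (B ⧸ Ideal.map (algebraMap A B) p) := by
  classical
  have hloc : (IsLocalRing.maximalIdeal A).map (algebraMap A B) ≤ IsLocalRing.maximalIdeal B :=
    ((IsLocalRing.local_hom_TFAE (algebraMap A B)).out 0 2).mp (inferInstance : IsLocalHom (algebraMap A B))
  have hIm : Ideal.map (algebraMap A B) p ≤ IsLocalRing.maximalIdeal B :=
    (Ideal.map_mono (IsLocalRing.le_maximalIdeal (Ideal.IsPrime.ne_top'))).trans hloc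
  have hIne : Ideal.map (algebraMap A B) p ≠ ⊤ := fun h =>
    (IsLocalRing.maximalIdeal.isMaximal B).ne_top (top_le_iff.mp (h ▸ hIm))
  have hnt : Nontrivial (B ⧸ Ideal.map (algebraMap A B) p) := Ideal.Quotient.nontrivial_iff.mpr hIne
  obtain ⟨d, hd⟩ := Groth.Agent.H29.ringKrullDim_eq_natCast_of_isLocalRing B
  have hd' : ringKrullDim B = (((d : ℕ) : ℕ∞) : WithBot ℕ∞) := hd.trans rfl
  have hpfin : p.height ≠ ⊤ := (Ideal.height_lt_top Ideal.IsPrime.ne_top').ne
  obtain ⟨n, hn⟩ := ENat.ne_top_iff_exists.mp hpfin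
  have key : ∀ (Q : Ideal B) (hQ : Q.IsPrime), Q ∈ (Ideal.map (algebraMap A B) p).minimalPrimes →
      (n : ℕ∞) + Order.coheight (⟨Q, hQ⟩ : PrimeSpectrum B) = d := by
    intro Q hQ hQmin
    have hover : Q.LiesOver p := by
      have hle : p ≤ Q.under A := by
        rw [Ideal.under_def]
        exact Ideal.map_le_iff_le_comap.mp hQmin.1.2
      have h1 : Q.LiesOver (Q.under A) := ⟨rfl⟩
      obtain ⟨P, hPQ, hPp, hPover⟩ :=
        Ideal.exists_ideal_le_liesOver_of_le (p := p) (q := Q.under A) Q hle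
      have hIP : Ideal.map (algebraMap A B) p ≤ P := by
        rw [Ideal.map_le_iff_le_comap]
        exact (hPover.over).le
      have h2 : Q ≤ P := hQmin.2 ⟨hPp, hIP⟩ hPQ
      have hPQ' : P = Q := le_antisymm hPQ h2
      rw [← hPQ']
      exact hPover
    have hht := Ideal.height_eq_height_add_of_liesOver_of_hasGoingDown p Q
    have hzero : (Q.map (Ideal.Quotient.mk (Ideal.map (algebraMap A B) p))).height = 0 := by
      have h := hQmin
      rw [Ideal.minimalPrimes_eq_comap] at h
      obtain ⟨q, hq, hqQ⟩ := h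
      rw [← hqQ, Ideal.map_comap_of_surjective _ Ideal.Quotient.mk_surjective]
      have := hq.1.1
      exact Ideal.height_eq_zero_iff.mpr hq
    rw [hzero, add_zero] at hht
    have h1 := Groth.Agent.Helper8.CatDim.dim_le_height_add_coheight B heq hcat d hd' n ⟨Q, hQ⟩
      (show Q.height = n by rw [hht, hn])
    have h2 := Groth.Agent.Helper8.CatDim.height_add_coheight_le B ⟨Q, hQ⟩ d hd'
    have h4 : Order.height (⟨Q, hQ⟩ : PrimeSpectrum B) = Q.height :=
      (PrimeSpectrum.height_eq_orderHeight (⟨Q, hQ⟩ : PrimeSpectrum B)).symm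
    rw [h4, hht, ← hn] at h2
    exact le_antisymm h2 h1
  have dimq : ∀ (q : Ideal (B ⧸ Ideal.map (algebraMap A B) p)),
      q ∈ minimalPrimes (B ⧸ Ideal.map (algebraMap A B) p) →
      ∃ hQ : (q.comap (Ideal.Quotient.mk (Ideal.map (algebraMap A B) p))).IsPrime,
        ringKrullDim ((B ⧸ Ideal.map (algebraMap A B) p) ⧸ q) =
          ((Order.coheight (⟨q.comap (Ideal.Quotient.mk (Ideal.map (algebraMap A B) p)), hQ⟩ :
            PrimeSpectrum B) : ℕ∞) : WithBot ℕ∞) ∧
        q.comap (Ideal.Quotient.mk (Ideal.map (algebraMap A B) p)) ∈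
          (Ideal.map (algebraMap A B) p).minimalPrimes := by
    intro q hq
    have hqp : q.IsPrime := hq.1.1
    have hQ : (q.comap (Ideal.Quotient.mk (Ideal.map (algebraMap A B) p))).IsPrime :=
      Ideal.comap_isPrime _ q
    refine ⟨hQ, ?_, ?_⟩
    · have hle : Ideal.map (algebraMap A B) p ≤
          q.comap (Ideal.Quotient.mk (Ideal.map (algebraMap A B) p)) := by
        intro x hx
        rw [Ideal.mem_comap, Ideal.Quotient.eq_zero_iff_mem.mpr hx]
        exact q.zero_mem
      have hmap : (q.comap (Ideal.Quotient.mk (Ideal.map (algebraMap A B) p))).map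
          (Ideal.Quotient.mk (Ideal.map (algebraMap A B) p)) = q :=
        Ideal.map_comap_of_surjective _ Ideal.Quotient.mk_surjective q
      rw [ringKrullDim_eq_of_ringEquiv (Ideal.quotEquivOfEq hmap.symm),
        ringKrullDim_eq_of_ringEquiv (DoubleQuot.quotQuotEquivQuotOfLE hle)]
      exact Groth.Agent.S9128.dim_quot B ⟨_, hQ⟩
    · rw [Ideal.minimalPrimes_eq_comap]
      exact ⟨q, hq, rfl⟩
  intro q hq
  obtain ⟨q₀, hq₀, hq₀dim⟩ := Groth.Agent.H29.exists_minimalPrimes_ringKrullDim_quotient_eq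
    (B ⧸ Ideal.map (algebraMap A B) p)
  obtain ⟨hQ, hdq, hQmin⟩ := dimq q hq
  obtain ⟨hQ₀, hdq₀, hQ₀min⟩ := dimq q₀ hq₀
  have k1 := key _ hQ hQmin
  have k2 := key _ hQ₀ hQ₀min
  have hco := WithTop.add_left_cancel (ENat.natCast_ne_top n) (k1.trans k2.symm)
  rw [hdq, ← hq₀dim, hdq₀, hco]

end Groth.Agent.S9297
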