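import Groth.Statements.S9300
import Mathlib

set_option autoImplicit false
universe u
open CAlg

namespace Groth.Agent.S9300

/-- Let A and B be domains and A → B a ring map for which the generic point of Spec(A) has a unique
preimage in Spec(B). Then every nonzero ideal of B has nonzero preimage in A. -/
theorem result (A B : Type u) [CommRing A] [IsDomain A]
    [CommRing B] [IsDomain B] (φ : A →+* B)
    (h : ∃! q : PrimeSpectrum B, Ideal.comap φ q.asIdeal = ⊥) (J : Ideal B) (hJ : J ≠ ⊥) :
    Ideal.comap φ J ≠ ⊥ := by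
  obtain ⟨q₀, hq₀, huniq⟩ := h
  -- φ is injective
  have hinj : Function.Injective φ := by
    rw [injective_iff_map_eq_zero]
    intro a ha
    have : a ∈ Ideal.comap φ q₀.asIdeal := by
      rw [Ideal.mem_comap, ha]; exact zero_mem _
    rw [hq₀] at this
    simpa using this
  -- the zero ideal is the unique prime over zero
  have hbot : ∀ q : PrimeSpectrum B, Ideal.comap φ q.asIdeal = ⊥ → q.asIdeal = ⊥ := by
    intro q hq
    have h1 := huniq q hq
    have h2 := huniq ⟨⊥, Ideal.isPrime_bot⟩ (by
      show Ideal.comap φ ⊥ = ⊥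
      rw [eq_bot_iff]
      intro a ha
      rw [Ideal.mem_comap] at ha
      have : φ a = 0 := by simpa using ha
      have : a = 0 := hinj (by rw [this, map_zero])
      simp [this])
    rw [h1, ← h2]
  obtain ⟨b, hbJ, hb0⟩ := Submodule.exists_mem_ne_zero_of_ne_bot hJ
  -- the multiplicative set of images of nonzero elements
  let T : Submonoid B := (nonZeroDivisors A).map φ
  by_contra hcontra
  have hdisj : Disjoint ((Ideal.span {b} : Ideal B) : Set B) (T : Set B) := by
    rw [Set.disjoint_left]
    rintro _ hx ⟨a, ha, rfl⟩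
    have haJ : a ∈ Ideal.comap φ J := by
      rw [Ideal.mem_comap]
      exact ((Ideal.span_singleton_le_iff_mem J).mpr hbJ) hx
    rw [hcontra] at haJ
    have : a = 0 := by simpa using haJ
    exact (nonZeroDivisors.ne_zero ha) this
  obtain ⟨p, hp, hle, hpdisj⟩ := Ideal.exists_le_prime_disjoint _ T hdisj
  have hp0 : Ideal.comap φ p = ⊥ := by
    rw [eq_bot_iff]
    intro a ha
    by_contra ha0
    have ha0' : a ≠ 0 := by simpa using ha0
    have : φ a ∈ (T : Set B) := ⟨a, mem_nonZeroDivisors_of_ne_zero ha0', rfl⟩
    exact (Set.disjoint_left.mp hpdisj) (Ideal.mem_comap.mp ha) this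
  have := hbot ⟨p, hp⟩ hp0
  have hbp : b ∈ p := hle (Ideal.mem_span_singleton_self b)
  rw [show p = ⊥ from this] at hbp
  exact hb0 (by simpa using hbp)

end Groth.Agent.S9300
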