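import Groth.Statements.S9301
import Mathlib
-- import your own Groth.Agent.* helpers here

set_option autoImplicit false
universe u
open CAlg

namespace Groth.Agent.S9301

/-- Let A and B be domains and A → B a flat ring map which is the localization of a quasi-finite ring
map A → B₀ (of finite type with finite fibres). Then every nonzero ideal of B has nonzero preimage
in A. -/
theorem result (A B₀ B : Type u) [CommRing A] [IsDomain A]
    [CommRing B₀] [CommRing B] [IsDomain B] [Algebra A B₀] [Algebra.FiniteType A B₀]
    [Algebra.QuasiFinite A B₀] (S : Submonoid B₀) [Algebra B₀ B] [IsLocalization S B] [Algebra A B]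
    [IsScalarTower A B₀ B] [Module.Flat A B] (J : Ideal B) (hJ : J ≠ ⊥) :
    Ideal.comap (algebraMap A B) J ≠ ⊥ := by
  classical
  have hinj : Function.Injective (algebraMap A B) := by
    rw [injective_iff_map_eq_zero]
    intro a ha
    by_contra hne
    have hreg : IsSMulRegular B a :=
      Module.Flat.isSMulRegular_of_nonZeroDivisors (mem_nonZeroDivisors_of_ne_zero hne)
    have : a • (1 : B) = a • (0 : B) := by rw [Algebra.smul_def, mul_one, ha, smul_zero]
    exact one_ne_zero (hreg this)
  haveI : FaithfulSMul A B := (faithfulSMul_iff_algebraMap_injective A B).mpr hinj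
  haveI : FaithfulSMul A (FractionRing B) := by
    rw [faithfulSMul_iff_algebraMap_injective, IsScalarTower.algebraMap_eq A B (FractionRing B)]
    exact (IsFractionRing.injective B (FractionRing B)).comp hinj
  letI := FractionRing.liftAlgebra A (FractionRing B)
  haveI := FractionRing.isScalarTower_liftAlgebra A (FractionRing B)
  haveI q1 : Algebra.QuasiFinite A B := Algebra.QuasiFinite.of_isLocalization (R := A) (S := B₀) (T := B) S
  haveI q2 : Algebra.QuasiFinite A (FractionRing B) :=
    Algebra.QuasiFinite.of_isLocalization (R := A) (S := B) (T := FractionRing B) (nonZeroDivisors B)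
  haveI q3 : Algebra.QuasiFinite (FractionRing A) (FractionRing B) :=
    Algebra.QuasiFinite.of_restrictScalars A (FractionRing A) (FractionRing B)
  haveI : Module.Finite (FractionRing A) (FractionRing B) := Module.Finite.of_quasiFinite
  haveI : Algebra.IsAlgebraic (FractionRing A) (FractionRing B) := Algebra.IsAlgebraic.of_finite _ _
  obtain ⟨b, hbJ, hb0⟩ := Submodule.exists_mem_ne_zero_of_ne_bot hJ
  have halg : IsAlgebraic A b := by
    have h1 : IsAlgebraic (FractionRing A) (algebraMap B (FractionRing B) b) :=
      Algebra.IsAlgebraic.isAlgebraic _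
    have h2 : IsAlgebraic A (algebraMap B (FractionRing B) b) :=
      (IsFractionRing.isAlgebraic_iff A (FractionRing A) (FractionRing B)).mpr h1
    exact (isAlgebraic_algebraMap_iff (IsFractionRing.injective B (FractionRing B))).mp h2
  exact Ideal.comap_ne_bot_of_algebraic_mem hb0 hbJ halg

end Groth.Agent.S9301
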