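import Groth.Statements.S9302
import Mathlib
-- import your own Groth.Agent.* helpers here

set_option autoImplicit false
universe u
open CategoryTheory
open EtAlg

namespace Groth.Agent.S9302


open CategoryTheory Limits Polynomial in
theorem glue (J : Type u) [Preorder J] (F : J ⥤ CommRingCat.{u})
    (x : ∀ j, F.obj j) (hx : ∀ (i j : J) (φ : i ⟶ j), (F.map φ).hom (x i) = x j) :
    ∃ a : ((limit F : CommRingCat.{u}) : Type u), ∀ j, (limit.π F j).hom a = x j := by
  let t : IsLimit ((forget CommRingCat).mapCone (limit.cone F)) :=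
    isLimitOfPreserves (forget CommRingCat) (limit.isLimit F)
  let s : (F ⋙ forget CommRingCat).sections := ⟨fun j => x j, fun {i j} φ => hx i j φ⟩
  refine ⟨(Types.isLimitEquivSections t).symm s, fun j => ?_⟩
  exact Types.isLimitEquivSections_symm_apply t s j

open CategoryTheory Limits Polynomial in
theorem lim_ext (J : Type u) [Preorder J] (F : J ⥤ CommRingCat.{u})
    (a b : ((limit F : CommRingCat.{u}) : Type u))
    (h : ∀ j, (limit.π F j).hom a = (limit.π F j).hom b) : a = b := by
  apply Concrete.limit_ext F a b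
  intro j
  exact h j

open Polynomial in
theorem root_unique {R : Type u} [CommRing R] {I : Ideal R} (hjac : I ≤ Ideal.jacobson ⊥)
    (f : R[X]) (a₀ a a' : R) (hu : IsUnit (Ideal.Quotient.mk I (f.derivative.eval a₀)))
    (ha : f.IsRoot a) (ha' : f.IsRoot a') (h : a - a₀ ∈ I) (h' : a' - a₀ ∈ I) : a = a' := by
  obtain ⟨c, hc⟩ := f.binomExpansion a (a' - a)
  have hy : a' - a ∈ I := by
    have : a' - a = (a' - a₀) - (a - a₀) := by ring
    rw [this]; exact I.sub_mem h' h
  have e1 : a + (a' - a) = a' := by ring
  rw [e1, ha.eq_zero, ha'.eq_zero] at hc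
  set w := f.derivative.eval a + c * (a' - a) with hw
  have hyw : (a' - a) * w = 0 := by
    rw [hw]; linear_combination -hc
  have hmk : Ideal.Quotient.mk I w = Ideal.Quotient.mk I (f.derivative.eval a₀) := by
    rw [Ideal.Quotient.eq]
    obtain ⟨t, ht⟩ := Polynomial.sub_dvd_eval_sub a a₀ f.derivative
    have : w - f.derivative.eval a₀ = (a - a₀) * t + c * (a' - a) := by
      rw [hw, ← ht]; ring
    rw [this]
    exact I.add_mem (I.mul_mem_right _ h) (I.mul_mem_left _ hy)
  have hwu : IsUnit w := by
    haveI := isLocalHom_of_le_jacobson_bot I hjac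
    apply IsUnit.of_map (Ideal.Quotient.mk I)
    rw [hmk]; exact hu
  have : a' - a = 0 := by
    have := congrArg (fun z => z * (hwu.unit⁻¹ : Rˣ).1) hyw
    simpa [mul_assoc] using this
  exact (sub_eq_zero.mp this).symm

/-- Henselian pairs are preserved under limits: for an inverse system (A_j, I_j) of henselian pairs over
a preordered set J, the limit A = lim A_j with the ideal I = lim I_j (elements all of whose
projections lie in the I_j) is a henselian pair. -/
theorem result (J : Type u) [Preorder J] (F : J ⥤ CommRingCat.{u})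
    (I : ∀ j : J, Ideal (F.obj j))
    (hI : ∀ (i j : J) (φ : i ⟶ j), Ideal.map (F.map φ).hom (I i) ≤ I j)
    (h : ∀ j : J, HenselianRing (F.obj j) (I j)) :
    HenselianRing ((Limits.limit F : CommRingCat.{u}) : Type u)
      (⨅ j : J, Ideal.comap (Limits.limit.π F j).hom (I j)) := by
  classical
  have hw : ∀ {i j : J} (φ : i ⟶ j) (x : ((Limits.limit F : CommRingCat.{u}) : Type u)),
      (F.map φ).hom ((Limits.limit.π F i).hom x) = (Limits.limit.π F j).hom x := by
    intro i j φ x
    have := Limits.limit.w F φ
    rw [← this]; rfl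
  constructor
  · -- jacobson
    intro x hx
    rw [Ideal.mem_jacobson_bot]
    intro y
    have hxj : ∀ j, (Limits.limit.π F j).hom x ∈ I j := by
      intro j
      have := (Ideal.mem_iInf.mp hx) j
      exact this
    have hunit : ∀ j, IsUnit ((Limits.limit.π F j).hom (x * y + 1)) := by
      intro j
      have := (Ideal.mem_jacobson_bot.mp ((h j).jac (hxj j))) ((Limits.limit.π F j).hom y)
      simpa using this
    choose v hv using fun j => (isUnit_iff_exists_inv.mp (hunit j))
    have hvc : ∀ (i j : J) (φ : i ⟶ j), (F.map φ).hom (v i) = v j := by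
      intro i j φ
      have h1 : (Limits.limit.π F j).hom (x * y + 1) * (F.map φ).hom (v i) = 1 := by
        rw [← hw φ, ← map_mul, hv i, map_one]
      calc (F.map φ).hom (v i) = (v j * (Limits.limit.π F j).hom (x * y + 1)) * (F.map φ).hom (v i) := by
            rw [mul_comm (v j), hv j, one_mul]
        _ = v j := by rw [mul_assoc, h1, mul_one]
    obtain ⟨u', hu'⟩ := glue J F v hvc
    rw [isUnit_iff_exists_inv]
    refine ⟨u', lim_ext J F _ _ fun j => ?_⟩
    rw [map_mul, hu' j, hv j, map_one]
  · intro f hf a₀ h₁ h₂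
    -- componentwise data
    have hfj : ∀ j, (f.map (Limits.limit.π F j).hom).Monic := fun j => hf.map _
    have h₁j : ∀ j, (f.map (Limits.limit.π F j).hom).eval ((Limits.limit.π F j).hom a₀) ∈ I j := by
      intro j
      rw [Polynomial.eval_map_apply]
      exact (Ideal.mem_iInf.mp h₁) j
    have h₂j : ∀ j, IsUnit (Ideal.Quotient.mk (I j)
        ((f.map (Limits.limit.π F j).hom).derivative.eval ((Limits.limit.π F j).hom a₀))) := by
      intro j
      rw [Polynomial.derivative_map, Polynomial.eval_map_apply]
      obtain ⟨b, hb⟩ := isUnit_iff_exists_inv.mp h₂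
      obtain ⟨b, rfl⟩ := Ideal.Quotient.mk_surjective b
      rw [← map_mul, ← map_one (Ideal.Quotient.mk _), Ideal.Quotient.eq] at hb
      rw [isUnit_iff_exists_inv]
      refine ⟨Ideal.Quotient.mk (I j) ((Limits.limit.π F j).hom b), ?_⟩
      rw [← map_mul, ← map_one (Ideal.Quotient.mk _), Ideal.Quotient.eq, ← map_mul, ← map_one (Limits.limit.π F j).hom, ← map_sub]
      exact (Ideal.mem_iInf.mp hb) j
    choose r hr using fun j => (h j).is_henselian _ (hfj j) _ (h₁j j) (h₂j j)
    have hrc : ∀ (i j : J) (φ : i ⟶ j), (F.map φ).hom (r i) = r j := by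
      intro i j φ
      have hmapf : (f.map (Limits.limit.π F i).hom).map (F.map φ).hom = f.map (Limits.limit.π F j).hom := by
        rw [Polynomial.map_map]
        congr 1
        ext x
        exact hw φ x
      apply root_unique (h j).jac (f.map (Limits.limit.π F j).hom) ((Limits.limit.π F j).hom a₀) _ _ (h₂j j)
      · rw [← hmapf, Polynomial.IsRoot.def, Polynomial.eval_map_apply, (hr i).1.eq_zero, map_zero]
      · exact (hr j).1
      · rw [← hw φ a₀, ← map_sub]
        exact hI i j φ (Ideal.mem_map_of_mem _ (hr i).2)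
      · exact (hr j).2
    obtain ⟨a, ha⟩ := glue J F r hrc
    refine ⟨a, ?_, ?_⟩
    · rw [Polynomial.IsRoot.def]
      apply lim_ext J F _ _ fun j => ?_
      rw [map_zero, ← Polynomial.eval_map_apply, ha j]
      exact (hr j).1
    · rw [Ideal.mem_iInf]
      intro j
      rw [Ideal.mem_comap, map_sub, ha j]
      exact (hr j).2

end Groth.Agent.S9302
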