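import Groth.Statements.S9303
import Mathlib

set_option autoImplicit false
universe u
open CAlg

namespace Groth.Agent.S9303

section Helpers

theorem mem_ams {R S : Type*} [CommSemiring R] [CommSemiring S] [Algebra R S] (f : R) (x : S)
    (hx : x ∈ Algebra.algebraMapSubmonoid S (Submonoid.powers f)) :
    ∃ n : ℕ, algebraMap R S (f ^ n) = x := by
  obtain ⟨y, ⟨n, rfl⟩, rfl⟩ := Submonoid.mem_map.mp hx
  exact ⟨n, rfl⟩

/-- The ideal `K`. -/
def Kideal {A : Type u} [CommRing A] (I : Ideal A) (C : Type u) [CommRing C] [Algebra A C] :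
    Ideal A where
  carrier := {x | ∀ g ∈ I, ∀ j : A, algebraMap A C j = 0 → ∃ n : ℕ, g ^ n * (x * j) = 0}
  zero_mem' := fun g _ j _ => ⟨0, by simp⟩
  add_mem' := by
    intro x y hx hy g hg j hj
    obtain ⟨n, hn⟩ := hx g hg j hj
    obtain ⟨m, hm⟩ := hy g hg j hj
    exact ⟨n + m, by linear_combination g ^ m * hn + g ^ n * hm⟩
  smul_mem' := by
    intro c x hx g hg j hj
    obtain ⟨n, hn⟩ := hx g hg j hj
    exact ⟨n, by rw [smul_eq_mul]; linear_combination c * hn⟩

theorem data {A C : Type u} [CommRing A] [CommRing C] [Algebra A C] (f : A)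
    (Af Cf : Type u) [CommRing Af] [CommRing Cf] [Algebra A Af] [IsLocalization.Away f Af]
    [Algebra C Cf] [IsLocalization (Algebra.algebraMapSubmonoid C (Submonoid.powers f)) Cf]
    [Algebra Af Cf] [Algebra A Cf] [IsScalarTower A Af Cf] [IsScalarTower A C Cf]
    (e : Af) (he : IsIdempotentElem e) [IsLocalization.Away e Cf] :
    ∃ (a a' : A) (k : ℕ), a + a' = f ^ k ∧
      (∃ n : ℕ, algebraMap A C (f ^ n * a') = 0) ∧
      (∀ b, algebraMap A C b = 0 → ∃ m : ℕ, f ^ m * (a * b) = 0) ∧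
      (∀ c : C, ∃ (b : A) (n m : ℕ),
        algebraMap A C (f ^ m * b) = algebraMap A C (f ^ (m + n)) * c) := by
  obtain ⟨a, y, hae⟩ := IsLocalization.exists_mk'_eq (Submonoid.powers f) e
  obtain ⟨k, hk⟩ := (Submonoid.mem_powers_iff _ _).mp y.2
  have h1 : e * algebraMap A Af (f ^ k) = algebraMap A Af a := by
    rw [← hae, hk]; exact IsLocalization.mk'_spec Af a y
  have hψe : algebraMap Af Cf e = 1 := by
    have hu : IsUnit (algebraMap Af Cf e) :=
      IsLocalization.map_units Cf (⟨e, Submonoid.mem_powers e⟩ : Submonoid.powers e)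
    have hi : algebraMap Af Cf e * algebraMap Af Cf e = algebraMap Af Cf e := by
      rw [← map_mul, he.eq]
    exact (hu.mul_right_inj).mp (by rw [hi, mul_one])
  have hzeroC : ∀ b : A, algebraMap A Cf b = 0 → ∃ n : ℕ, algebraMap A C (f ^ n * b) = 0 := by
    intro b hb
    rw [IsScalarTower.algebraMap_apply A C Cf,
      IsLocalization.map_eq_zero_iff (Algebra.algebraMapSubmonoid C (Submonoid.powers f)) Cf] at hb
    obtain ⟨mm, hmm⟩ := hb
    obtain ⟨n, hn⟩ := mem_ams f (mm : C) mm.2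
    exact ⟨n, by rw [map_mul, hn]; exact hmm⟩
  refine ⟨a, f ^ k - a, k, by ring, ?_, ?_, ?_⟩
  · have : algebraMap A Cf (f ^ k - a) = 0 := by
      rw [IsScalarTower.algebraMap_apply A Af Cf, map_sub, ← h1, map_sub, map_mul, hψe, one_mul,
        sub_self]
    exact hzeroC _ this
  · intro b hb
    have hb' : algebraMap Af Cf (algebraMap A Af b) = 0 := by
      rw [← IsScalarTower.algebraMap_apply, IsScalarTower.algebraMap_apply A C Cf, hb, map_zero]
    rw [IsLocalization.map_eq_zero_iff (Submonoid.powers e) Cf] at hb'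
    obtain ⟨mm, hmm⟩ := hb'
    obtain ⟨n, hn⟩ := (Submonoid.mem_powers_iff _ _).mp mm.2
    have he_b : e * algebraMap A Af b = 0 := by
      rw [← hn] at hmm
      cases n with
      | zero => rw [pow_zero, one_mul] at hmm; rw [hmm, mul_zero]
      | succ n => rw [he.pow_succ_eq] at hmm; exact hmm
    have h0 : algebraMap A Af (a * b) = 0 := by
      rw [map_mul, ← h1]; linear_combination (algebraMap A Af (f ^ k)) * he_b
    rw [IsLocalization.map_eq_zero_iff (Submonoid.powers f) Af] at h0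
    obtain ⟨mm', hmm'⟩ := h0
    obtain ⟨m, hm⟩ := (Submonoid.mem_powers_iff _ _).mp mm'.2
    exact ⟨m, by rw [hm]; exact hmm'⟩
  · intro c
    obtain ⟨z, yy, hz⟩ := IsLocalization.exists_mk'_eq (Submonoid.powers e) (algebraMap C Cf c)
    obtain ⟨l, hl⟩ := (Submonoid.mem_powers_iff _ _).mp yy.2
    have hz' : algebraMap Af Cf z = algebraMap C Cf c := by
      have := IsLocalization.mk'_spec Cf z yy
      rw [hz, ← hl, map_pow, hψe, one_pow, mul_one] at this
      exact this.symm
    obtain ⟨b, y2, hbz⟩ := IsLocalization.exists_mk'_eq (Submonoid.powers f) z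
    obtain ⟨n, hn⟩ := (Submonoid.mem_powers_iff _ _).mp y2.2
    have h2 : z * algebraMap A Af (f ^ n) = algebraMap A Af b := by
      rw [← hbz, hn]; exact IsLocalization.mk'_spec Af b y2
    have h3 : algebraMap C Cf (c * algebraMap A C (f ^ n)) = algebraMap C Cf (algebraMap A C b) := by
      rw [map_mul, ← hz', ← IsScalarTower.algebraMap_apply A C Cf,
        ← IsScalarTower.algebraMap_apply A C Cf, IsScalarTower.algebraMap_apply A Af Cf (f ^ n),
        IsScalarTower.algebraMap_apply A Af Cf b, ← map_mul, h2]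
    rw [IsLocalization.eq_iff_exists (Algebra.algebraMapSubmonoid C (Submonoid.powers f)) Cf] at h3
    obtain ⟨mm, hmm⟩ := h3
    obtain ⟨m, hm⟩ := mem_ams f (mm : C) mm.2
    refine ⟨b, n, m, ?_⟩
    rw [← hm] at hmm
    rw [map_mul, pow_add, map_mul, ← hmm]; ring

theorem final {A C : Type u} [CommRing A] [CommRing C] [Algebra A C] (K : Ideal A) (f : A)
    (Af Lf : Type u) [CommRing Af] [CommRing Lf] [Algebra A Af] [IsLocalization.Away f Af]
    [Algebra (C × A ⧸ K) Lf]
    [IsLocalization (Algebra.algebraMapSubmonoid (C × A ⧸ K) (Submonoid.powers f)) Lf]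
    [Algebra Af Lf] [Algebra A Lf] [IsScalarTower A Af Lf] [IsScalarTower A (C × A ⧸ K) Lf]
    (G1 : ∀ (x : A) (n : ℕ), algebraMap A C (f ^ n * x) = 0 → f ^ n * x ∈ K →
      ∃ N : ℕ, f ^ N * x = 0)
    (G2 : ∀ (c : C) (a₀ : A), ∃ (x : A) (n m : ℕ),
      algebraMap A C (f ^ m * x) = algebraMap A C (f ^ (m + n)) * c ∧
        f ^ m * x - f ^ (m + n) * a₀ ∈ K) :
    Function.Bijective (algebraMap Af Lf) := by
  have hunit : ∀ n : ℕ, IsUnit (algebraMap A Lf (f ^ n)) := fun n =>
    IsLocalization.map_units_map_submonoid (C × A ⧸ K) Lf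
      (⟨f ^ n, n, rfl⟩ : Submonoid.powers f)
  constructor
  · rw [injective_iff_map_eq_zero]
    intro z hz
    obtain ⟨x, y, rfl⟩ := IsLocalization.exists_mk'_eq (Submonoid.powers f) z
    have h0 : algebraMap A Lf x = 0 := by
      rw [IsScalarTower.algebraMap_apply A Af Lf, ← IsLocalization.mk'_spec Af x y, map_mul, hz,
        zero_mul]
    rw [IsScalarTower.algebraMap_apply A (C × A ⧸ K) Lf,
      IsLocalization.map_eq_zero_iff
        (Algebra.algebraMapSubmonoid (C × A ⧸ K) (Submonoid.powers f)) Lf] at h0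
    obtain ⟨mm, hmm⟩ := h0
    obtain ⟨p, hp⟩ := mem_ams f (mm : C × A ⧸ K) mm.2
    rw [← hp, ← map_mul] at hmm
    have hc : algebraMap A C (f ^ p * x) = 0 := by
      have := congrArg Prod.fst hmm
      simpa using this
    have hk : f ^ p * x ∈ K := by
      have h' : Ideal.Quotient.mk K (f ^ p * x) = 0 := congrArg Prod.snd hmm
      exact Ideal.Quotient.eq_zero_iff_mem.mp h'
    obtain ⟨N, hN⟩ := G1 x p hc hk
    exact (IsLocalization.mk'_eq_zero_iff x y).mpr ⟨⟨f ^ N, N, rfl⟩, hN⟩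
  · intro t
    obtain ⟨s, y, rfl⟩ := IsLocalization.exists_mk'_eq
      (Algebra.algebraMapSubmonoid (C × A ⧸ K) (Submonoid.powers f)) t
    obtain ⟨p, hp⟩ := mem_ams f (y : C × A ⧸ K) y.2
    obtain ⟨c, abar⟩ := s
    obtain ⟨a₀, rfl⟩ := Ideal.Quotient.mk_surjective abar
    obtain ⟨x, n, m, h1, h2⟩ := G2 c a₀
    -- the element z₀
    have hz₀ : algebraMap Af Lf (IsLocalization.mk' Af x (⟨f ^ n, n, rfl⟩ : Submonoid.powers f))
        = algebraMap (C × A ⧸ K) Lf (c, Ideal.Quotient.mk K a₀) := by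
      apply (hunit n).mul_left_injective
      show algebraMap Af Lf (IsLocalization.mk' Af x (⟨f ^ n, n, rfl⟩ : Submonoid.powers f))
          * algebraMap A Lf (f ^ n)
        = algebraMap (C × A ⧸ K) Lf (c, Ideal.Quotient.mk K a₀) * algebraMap A Lf (f ^ n)
      have e1 : algebraMap Af Lf (IsLocalization.mk' Af x (⟨f ^ n, n, rfl⟩ : Submonoid.powers f))
          * algebraMap A Lf (f ^ n) = algebraMap A Lf x := by
        rw [IsScalarTower.algebraMap_apply A Af Lf (f ^ n), ← map_mul,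
          IsScalarTower.algebraMap_apply A Af Lf x]
        congr 1
        exact IsLocalization.mk'_spec Af x (⟨f ^ n, n, rfl⟩ : Submonoid.powers f)
      rw [e1, IsScalarTower.algebraMap_apply A (C × A ⧸ K) Lf x,
        IsScalarTower.algebraMap_apply A (C × A ⧸ K) Lf (f ^ n), ← map_mul]
      symm
      rw [IsLocalization.eq_iff_exists
        (Algebra.algebraMapSubmonoid (C × A ⧸ K) (Submonoid.powers f)) Lf]
      refine ⟨⟨algebraMap A (C × A ⧸ K) (f ^ m),
        Algebra.mem_algebraMapSubmonoid_of_mem (⟨f ^ m, m, rfl⟩ : Submonoid.powers f)⟩, ?_⟩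
      apply Prod.ext
      · show algebraMap A C (f ^ m) * (c * algebraMap A C (f ^ n))
          = algebraMap A C (f ^ m) * algebraMap A C x
        rw [← map_mul (algebraMap A C) (f ^ m) x, h1, pow_add, map_mul]; ring
      · show Ideal.Quotient.mk K (f ^ m) * (Ideal.Quotient.mk K a₀ * Ideal.Quotient.mk K (f ^ n))
          = Ideal.Quotient.mk K (f ^ m) * Ideal.Quotient.mk K x
        rw [← map_mul, ← map_mul, ← map_mul, Ideal.Quotient.eq]
        have : f ^ m * (a₀ * f ^ n) - f ^ m * x = -(f ^ m * x - f ^ (m + n) * a₀) := by ring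
        rw [this]; exact K.neg_mem h2
    refine ⟨IsLocalization.mk' Af x (⟨f ^ n, n, rfl⟩ : Submonoid.powers f)
      * IsLocalization.mk' Af 1 (⟨f ^ p, p, rfl⟩ : Submonoid.powers f), ?_⟩
    rw [IsLocalization.eq_mk'_iff_mul_eq, map_mul, hz₀, ← hp,
      ← IsScalarTower.algebraMap_apply A (C × A ⧸ K) Lf (f ^ p),
      IsScalarTower.algebraMap_apply A Af Lf (f ^ p), mul_assoc, ← map_mul,
      IsLocalization.mk'_spec Af 1 (⟨f ^ p, p, rfl⟩ : Submonoid.powers f), map_one, map_one, mul_one]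

end Helpers


/-- Let A be a ring, I a finitely generated ideal and A → C a ring map such that for every f ∈ I the map
A_f → C_f is the localization of A_f at an idempotent. Then there is a surjection A → C' (C' = A/K
for an ideal K) such that A_f → (C × C')_f is an isomorphism for every f ∈ I. -/
theorem result (A : Type u) [CommRing A]
    (I : Ideal A) (hI : I.FG) (C : Type u) [CommRing C] [Algebra A C]
    (h : ∀ f ∈ I, ∃ e : Localization.Away f, IsIdempotentElem e ∧
      IsLocalization.Away e (Localization (Algebra.algebraMapSubmonoid C (Submonoid.powers f)))) :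
    ∃ K : Ideal A, ∀ f ∈ I, Function.Bijective
      (algebraMap (Localization.Away f)
        (Localization (Algebra.algebraMapSubmonoid (C × (A ⧸ K)) (Submonoid.powers f)))) := by
  classical
  obtain ⟨r, g, hg⟩ := Submodule.fg_iff_exists_fin_generating_family.mp hI
  have hg' : Ideal.span (Set.range g) = I := hg
  have hgI : ∀ i, g i ∈ I := fun i => by rw [← hg']; exact Ideal.subset_span ⟨i, rfl⟩
  have hdata : ∀ f ∈ I, ∃ (a a' : A) (k : ℕ), a + a' = f ^ k ∧
      (∃ n : ℕ, algebraMap A C (f ^ n * a') = 0) ∧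
      (∀ b, algebraMap A C b = 0 → ∃ m : ℕ, f ^ m * (a * b) = 0) ∧
      (∀ c : C, ∃ (b : A) (n m : ℕ),
        algebraMap A C (f ^ m * b) = algebraMap A C (f ^ (m + n)) * c) := by
    intro f hf
    obtain ⟨e, he, hloc⟩ := h f hf
    exact data f (Localization.Away f)
      (Localization (Algebra.algebraMapSubmonoid C (Submonoid.powers f))) e he
  have hd := fun i => hdata (g i) (hgI i)
  choose ga ga' gk gsum gF2 gF3 gF4 using hd
  choose gn hgn using gF2
  refine ⟨Kideal I C, fun f hf => ?_⟩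
  obtain ⟨a, a', k, hsum, ⟨n₂, hF2⟩, hF3, hF4⟩ := hdata f hf
  have hstar : ∃ N : ℕ, f ^ N * a ∈ Kideal I C := by
    have hm : ∀ i, ∃ m : ℕ, f ^ m * (a * (g i ^ gn i * ga' i)) = 0 := fun i => hF3 _ (hgn i)
    choose m hm using hm
    refine ⟨∑ i, m i, ?_⟩
    intro g' hg'' j hj
    have hrad : I ≤ Ideal.radical
        (LinearMap.ker (LinearMap.toSpanSingleton A A ((f ^ (∑ i, m i) * a) * j))) := by
      rw [← hg', Ideal.span_le]
      rintro _ ⟨i, rfl⟩
      obtain ⟨mi, hmi⟩ := gF3 i j hj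
      rw [SetLike.mem_coe, Ideal.mem_radical_iff]
      refine ⟨mi + gn i + gk i, ?_⟩
      rw [LinearMap.mem_ker, LinearMap.toSpanSingleton_apply, smul_eq_mul]
      have hN : f ^ (∑ i, m i) * (a * (g i ^ gn i * ga' i)) = 0 := by
        have : ∑ i, m i = (∑ i, m i - m i) + m i :=
          (Nat.sub_add_cancel (Finset.single_le_sum (fun _ _ => Nat.zero_le _)
            (Finset.mem_univ i))).symm
        rw [this, pow_add, mul_assoc, hm i, mul_zero]
      linear_combination (g i ^ gn i * f ^ (∑ i, m i) * a) * hmi + (g i ^ mi * j) * hN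
        - (g i ^ (mi + gn i) * (f ^ (∑ i, m i) * a * j)) * gsum i
    obtain ⟨n, hn⟩ := Ideal.mem_radical_iff.mp (hrad hg'')
    rw [LinearMap.mem_ker, LinearMap.toSpanSingleton_apply, smul_eq_mul] at hn
    exact ⟨n, hn⟩
  have G1 : ∀ (x : A) (n : ℕ), algebraMap A C (f ^ n * x) = 0 → f ^ n * x ∈ Kideal I C →
      ∃ N : ℕ, f ^ N * x = 0 := by
    intro x n hx1 hx2
    obtain ⟨m, hm⟩ := hF3 (f ^ n * x) hx1
    obtain ⟨n₃, hn₃⟩ := hx2 f hf (f ^ n₂ * a') hF2
    refine ⟨m + n₃ + n₂ + k + n, ?_⟩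
    linear_combination f ^ (n₃ + n₂) * hm + f ^ m * hn₃
      - (f ^ (m + n₃ + n₂) * (f ^ n * x)) * hsum
  have G2 : ∀ (c : C) (a₀ : A), ∃ (x : A) (n m : ℕ),
      algebraMap A C (f ^ m * x) = algebraMap A C (f ^ (m + n)) * c ∧
        f ^ m * x - f ^ (m + n) * a₀ ∈ Kideal I C := by
    intro c a₀
    obtain ⟨N, hN⟩ := hstar
    obtain ⟨b, n₁, m₁, hb⟩ := hF4 c
    refine ⟨a * b + f ^ n₁ * a' * a₀, k + n₁, m₁ + n₂ + N, ?_, ?_⟩
    · have e1 : f ^ (m₁ + n₂ + N) * (a * b + f ^ n₁ * a' * a₀)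
          = f ^ (n₂ + N + k) * (f ^ m₁ * b) - f ^ (m₁ + N) * b * (f ^ n₂ * a')
            + f ^ (m₁ + N + n₁) * a₀ * (f ^ n₂ * a') := by
        linear_combination (f ^ (m₁ + n₂ + N) * b) * hsum
      rw [e1, map_add, map_sub, map_mul, map_mul (algebraMap A C) (f ^ (m₁ + N) * b),
        map_mul (algebraMap A C) (f ^ (m₁ + N + n₁) * a₀), hF2, mul_zero, mul_zero, sub_zero,
        add_zero, hb, ← mul_assoc, ← map_mul]
      congr 2
      ring
    · have e2 : f ^ (m₁ + n₂ + N) * (a * b + f ^ n₁ * a' * a₀)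
          - f ^ (m₁ + n₂ + N + (k + n₁)) * a₀
          = (f ^ N * a) * (f ^ (m₁ + n₂) * (b - f ^ n₁ * a₀)) := by
        linear_combination (f ^ (m₁ + n₂ + N + n₁) * a₀) * hsum
      rw [e2]; exact Ideal.mul_mem_right _ _ hN
  exact final (Kideal I C) f (Localization.Away f)
    (Localization (Algebra.algebraMapSubmonoid (C × A ⧸ Kideal I C) (Submonoid.powers f))) G1 G2

end Groth.Agent.S9303
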