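import Groth.Statements.S9317
import Mathlib
import Groth.Agent.Lib.Helper4.FSAdicCompl

set_option autoImplicit false
universe u
open CAlg

namespace Groth.Agent.S9317

theorem ringHom_ext_of_kills {B : Type u} [CommRing B] (I : Ideal B) (fg : I.FG) {T : Type u}
    [CommRing T] (w w' : AdicCompletion I B →+* T) (m : ℕ)
    (hw : ∀ x ∈ (I ^ m).map (algebraMap B (AdicCompletion I B)), w x = 0)
    (hw' : ∀ x ∈ (I ^ m).map (algebraMap B (AdicCompletion I B)), w' x = 0)
    (h : ∀ b : B, w (algebraMap B _ b) = w' (algebraMap B _ b)) : w = w' := by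
  ext x
  obtain ⟨b, hb⟩ := Ideal.Quotient.mk_surjective (AdicCompletion.evalₐ I m x)
  have h1 : AdicCompletion.evalₐ I m (x - algebraMap B _ b) = 0 := by
    rw [map_sub, AdicCompletion.algebraMap_apply, Algebra.algebraMap_self, RingHom.id_apply,
      AdicCompletion.evalₐ_of, hb, sub_self]
  have h2 := Groth.Agent.Helper4.mem_map_of_evalₐ_eq_zero I fg m _ h1
  have h3 := hw _ h2
  have h4 := hw' _ h2
  rw [map_sub, sub_eq_zero] at h3 h4
  rw [h3, h4, h]

noncomputable def extendRing {B : Type u} [CommRing B] (I : Ideal B) {T : Type u} [CommRing T]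
    (u : B →+* T) (k : ℕ) (hu : ∀ x ∈ I ^ k, u x = 0) : AdicCompletion I B →+* T :=
  (Ideal.Quotient.lift (I ^ k) u hu).comp (AdicCompletion.evalₐ I k).toRingHom

theorem extendRing_of {B : Type u} [CommRing B] (I : Ideal B) {T : Type u} [CommRing T]
    (u : B →+* T) (k : ℕ) (hu : ∀ x ∈ I ^ k, u x = 0) (b : B) :
    extendRing I u k hu (algebraMap B (AdicCompletion I B) b) = u b := by
  change Ideal.Quotient.lift (I ^ k) u hu (AdicCompletion.evalₐ I k (algebraMap B _ b)) = u b
  rw [AdicCompletion.algebraMap_apply, Algebra.algebraMap_self, RingHom.id_apply,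
    AdicCompletion.evalₐ_of]
  rfl

theorem extendRing_kills {B : Type u} [CommRing B] (I : Ideal B) {T : Type u} [CommRing T]
    (u : B →+* T) (k : ℕ) (hu : ∀ x ∈ I ^ k, u x = 0) :
    ∀ x ∈ (I ^ k).map (algebraMap B (AdicCompletion I B)), extendRing I u k hu x = 0 := by
  have h1 : (I ^ k).map (algebraMap B (AdicCompletion I B)) ≤
      RingHom.ker (extendRing I u k hu) := by
    rw [Ideal.map_le_iff_le_comap]
    intro x hx
    rw [Ideal.mem_comap, RingHom.mem_ker, extendRing_of, hu x hx]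
  exact fun x hx => h1 hx

theorem kills_double {B A : Type u} [CommRing B] [CommRing A] (I : Ideal B) (J : Ideal A)
    (hJ : J ^ 2 = ⊥) (g : B →+* A) (h : ∀ x ∈ I, g x ∈ J) : ∀ x ∈ I * I, g x = 0 := by
  have h1 : (I * I).map g ≤ ⊥ := by
    rw [Ideal.map_mul]
    have h2 : I.map g ≤ J := Ideal.map_le_iff_le_comap.mpr h
    exact (Ideal.mul_mono h2 h2).trans (by rw [← pow_two, hJ])
  intro x hx
  have h3 := h1 (Ideal.mem_map_of_mem g hx)
  rwa [Ideal.mem_bot] at h3

theorem psi_maps {R S : Type u} [CommRing R] [CommRing S] [Algebra R S] (𝔪 : Ideal R)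
    (𝔫 : Ideal S) (c : ℕ) (hc : (𝔪 ^ c).map (algebraMap R S) ≤ 𝔫)
    (ψ : AdicCompletion 𝔪 R →+* AdicCompletion 𝔫 S)
    (hψ : ψ.comp (algebraMap R (AdicCompletion 𝔪 R)) =
      (algebraMap S (AdicCompletion 𝔫 S)).comp (algebraMap R S)) (j : ℕ) :
    ∀ x ∈ (𝔪 ^ (c * j)).map (algebraMap R (AdicCompletion 𝔪 R)),
      ψ x ∈ (𝔫 ^ j).map (algebraMap S (AdicCompletion 𝔫 S)) := by
  have h1 : (𝔪 ^ (c * j)).map (algebraMap R (AdicCompletion 𝔪 R)) ≤
      ((𝔫 ^ j).map (algebraMap S (AdicCompletion 𝔫 S))).comap ψ := by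
    rw [Ideal.map_le_iff_le_comap]
    intro r hr
    rw [Ideal.mem_comap, Ideal.mem_comap]
    have h2 : ψ (algebraMap R _ r) = algebraMap S _ (algebraMap R S r) := RingHom.congr_fun hψ r
    rw [h2]
    apply Ideal.mem_map_of_mem
    have h3 : algebraMap R S r ∈ ((𝔪 ^ c).map (algebraMap R S)) ^ j := by
      rw [← Ideal.map_pow, ← pow_mul]
      exact Ideal.mem_map_of_mem _ hr
    exact Ideal.pow_right_mono hc j h3
  exact fun x hx => h1 hx


/-- Let `R → S` be a ring map, let `𝔪 ⊆ R` and `𝔫 ⊆ S` be finitely generated ideals such that some power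
of `𝔪` maps into `𝔫`, and let `R^`, `S^` be the `𝔪`-adic and `𝔫`-adic completions. Let `ψ : R^ → S^`
be a ring map whose composite with `R → R^` is the composite `R → S → S^` (there is exactly one such
map, the canonical one, since any such map is continuous for the adic topologies). Then `R → S` is
formally smooth for the `𝔫`-adic topology if and only if `R^ → S^`, i.e. `S^` viewed as an
`R^`-algebra through `ψ`, is formally smooth for the adic topology of the extension of `𝔫` to `S^`. -/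
theorem result {R S : Type u} [CommRing R] [CommRing S]
    [Algebra R S] (𝔪 : Ideal R) (𝔫 : Ideal S) (h𝔪 : 𝔪.FG) (h𝔫 : 𝔫.FG)
    (hc : ∃ c : ℕ, (𝔪 ^ c).map (algebraMap R S) ≤ 𝔫)
    (ψ : AdicCompletion 𝔪 R →+* AdicCompletion 𝔫 S)
    (hψ : ψ.comp (algebraMap R (AdicCompletion 𝔪 R)) =
      (algebraMap S (AdicCompletion 𝔫 S)).comp (algebraMap R S)) :
    CAlgX.IsAdicFormallySmooth R S 𝔫 ↔
      letI : Algebra (AdicCompletion 𝔪 R) (AdicCompletion 𝔫 S) := ψ.toAlgebra
      CAlgX.IsAdicFormallySmooth (AdicCompletion 𝔪 R) (AdicCompletion 𝔫 S)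
        (𝔫.map (algebraMap S (AdicCompletion 𝔫 S))) := by
  obtain ⟨c, hc⟩ := hc
  letI algψ : Algebra (AdicCompletion 𝔪 R) (AdicCompletion 𝔫 S) := ψ.toAlgebra
  have hψalg : ∀ x, algebraMap (AdicCompletion 𝔪 R) (AdicCompletion 𝔫 S) x = ψ x := fun x => rfl
  have hψof : ∀ r : R, ψ (algebraMap R (AdicCompletion 𝔪 R) r) =
      algebraMap S (AdicCompletion 𝔫 S) (algebraMap R S r) := fun r => RingHom.congr_fun hψ r
  have F1 := psi_maps 𝔪 𝔫 c hc ψ hψ
  constructor
  · intro h A _ _ J hJ φ hφ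
    obtain ⟨k, hk⟩ := hφ
    letI algRA : Algebra R A :=
      ((algebraMap (AdicCompletion 𝔪 R) A).comp (algebraMap R (AdicCompletion 𝔪 R))).toAlgebra
    let φ₀ : S →ₐ[R] A ⧸ J :=
      { (φ.toRingHom.comp (algebraMap S (AdicCompletion 𝔫 S))) with
        commutes' := fun r => by
          show φ (algebraMap S _ (algebraMap R S r)) = _
          rw [← hψof, ← hψalg, φ.commutes]
          rfl }
    have hφ₀ : ∀ s, φ₀ s = φ (algebraMap S _ s) := fun s => rfl
    have hk₀ : ∀ x ∈ 𝔫 ^ k, φ₀ x = 0 := by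
      intro x hx
      rw [hφ₀]
      apply hk
      rw [← Ideal.map_pow]
      exact Ideal.mem_map_of_mem _ hx
    obtain ⟨χ₀, hχ₀⟩ := h A J hJ φ₀ ⟨k, hk₀⟩
    have hχ₀' : ∀ s, Ideal.Quotient.mk J (χ₀ s) = φ₀ s := fun s => congrArg (fun g => g s) hχ₀
    have hχJ : ∀ x ∈ 𝔫 ^ k, χ₀.toRingHom x ∈ J := by
      intro x hx
      rw [← Ideal.Quotient.eq_zero_iff_mem]
      exact (hχ₀' x).trans (hk₀ x hx)
    have hχ0 : ∀ x ∈ 𝔫 ^ (k + k), χ₀.toRingHom x = 0 := by
      rw [pow_add]
      exact kills_double (𝔫 ^ k) J hJ χ₀.toRingHom hχJ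
    let χh : AdicCompletion 𝔫 S →+* A := extendRing 𝔫 χ₀.toRingHom (k + k) hχ0
    have hχh_of : ∀ s, χh (algebraMap S _ s) = χ₀ s := fun s => extendRing_of 𝔫 _ _ hχ0 s
    have hχh_k := extendRing_kills 𝔫 χ₀.toRingHom (k + k) hχ0
    have hmk : (Ideal.Quotient.mk J).comp χh = φ.toRingHom := by
      apply ringHom_ext_of_kills 𝔫 h𝔫 _ _ (k + k)
      · intro x hx
        rw [RingHom.comp_apply, hχh_k x hx, map_zero]
      · intro x hx
        apply hk
        rw [← Ideal.map_pow]
        exact Ideal.map_mono (Ideal.pow_le_pow_right (Nat.le_add_right k k)) hx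
      · intro s
        rw [RingHom.comp_apply, hχh_of, hχ₀']
        rfl
    have halgJ : ∀ x ∈ (𝔪 ^ (c * k)).map (algebraMap R (AdicCompletion 𝔪 R)),
        algebraMap (AdicCompletion 𝔪 R) A x ∈ J := by
      intro x hx
      rw [← Ideal.Quotient.eq_zero_iff_mem]
      have h1 : Ideal.Quotient.mk J (algebraMap (AdicCompletion 𝔪 R) A x) =
          φ (algebraMap (AdicCompletion 𝔪 R) (AdicCompletion 𝔫 S) x) := (φ.commutes x).symm
      rw [h1, hψalg]
      apply hk
      rw [← Ideal.map_pow]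
      exact F1 k x hx
    have halg0 : ∀ x ∈ (𝔪 ^ (c * k + c * k)).map (algebraMap R (AdicCompletion 𝔪 R)),
        algebraMap (AdicCompletion 𝔪 R) A x = 0 := by
      rw [pow_add, Ideal.map_mul]
      exact kills_double _ J hJ (algebraMap (AdicCompletion 𝔪 R) A) halgJ
    have hcomm : χh.comp ψ = algebraMap (AdicCompletion 𝔪 R) A := by
      apply ringHom_ext_of_kills 𝔪 h𝔪 _ _ (c * k + c * k)
      · intro x hx
        rw [RingHom.comp_apply]
        apply hχh_k
        exact F1 (k + k) x (by rwa [mul_add])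
      · exact halg0
      · intro r
        rw [RingHom.comp_apply, hψof, hχh_of, χ₀.commutes]
        rfl
    refine ⟨{ χh with
              commutes' := fun x => by
                show χh (algebraMap _ _ x) = _
                rw [hψalg]
                exact RingHom.congr_fun hcomm x }, ?_⟩
    ext x
    exact RingHom.congr_fun hmk x
  · intro h A _ _ J hJ φ hφ
    obtain ⟨k, hk⟩ := hφ
    have hRJ : ∀ r ∈ 𝔪 ^ (c * k), algebraMap R A r ∈ J := by
      intro r hr
      rw [← Ideal.Quotient.eq_zero_iff_mem]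
      have h1 : Ideal.Quotient.mk J (algebraMap R A r) = φ (algebraMap R S r) :=
        (φ.commutes r).symm
      rw [h1]
      apply hk
      have h3 : algebraMap R S r ∈ ((𝔪 ^ c).map (algebraMap R S)) ^ k := by
        rw [← Ideal.map_pow, ← pow_mul]
        exact Ideal.mem_map_of_mem _ hr
      exact Ideal.pow_right_mono hc k h3
    have hR0 : ∀ r ∈ 𝔪 ^ (c * k + c * k), algebraMap R A r = 0 := by
      rw [pow_add]
      exact kills_double _ J hJ (algebraMap R A) hRJ
    let ah : AdicCompletion 𝔪 R →+* A := extendRing 𝔪 (algebraMap R A) (c * k + c * k) hR0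
    have hah_of : ∀ r, ah (algebraMap R _ r) = algebraMap R A r :=
      fun r => extendRing_of 𝔪 _ _ hR0 r
    have hah_k := extendRing_kills 𝔪 (algebraMap R A) (c * k + c * k) hR0
    letI algA : Algebra (AdicCompletion 𝔪 R) A := ah.toAlgebra
    have hahalg : ∀ x, algebraMap (AdicCompletion 𝔪 R) A x = ah x := fun x => rfl
    have hk' : ∀ x ∈ 𝔫 ^ k, φ.toRingHom x = 0 := hk
    let φh : AdicCompletion 𝔫 S →+* A ⧸ J := extendRing 𝔫 φ.toRingHom k hk'
    have hφh_of : ∀ s, φh (algebraMap S _ s) = φ s := fun s => extendRing_of 𝔫 _ _ hk' s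
    have hφh_k := extendRing_kills 𝔫 φ.toRingHom k hk'
    have hcomm : φh.comp ψ = (Ideal.Quotient.mk J).comp ah := by
      apply ringHom_ext_of_kills 𝔪 h𝔪 _ _ (c * k + c * k)
      · intro x hx
        rw [RingHom.comp_apply]
        apply hφh_k
        apply F1 k x
        exact Ideal.map_mono (Ideal.pow_le_pow_right (Nat.le_add_right _ _)) hx
      · intro x hx
        rw [RingHom.comp_apply, hah_k x hx, map_zero]
      · intro r
        rw [RingHom.comp_apply, RingHom.comp_apply, hψof, hφh_of, hah_of, φ.commutes]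
        rfl
    let φa : AdicCompletion 𝔫 S →ₐ[AdicCompletion 𝔪 R] A ⧸ J :=
      { φh with
        commutes' := fun x => by
          show φh (algebraMap _ _ x) = _
          rw [hψalg]
          exact RingHom.congr_fun hcomm x }
    have hφa : ∀ x, φa x = φh x := fun x => rfl
    have hka : ∀ x ∈ (𝔫.map (algebraMap S (AdicCompletion 𝔫 S))) ^ k, φa x = 0 := by
      intro x hx
      rw [hφa]
      apply hφh_k
      rwa [Ideal.map_pow]
    obtain ⟨χa, hχa⟩ := h A J hJ φa ⟨k, hka⟩
    have hχa' : ∀ x, Ideal.Quotient.mk J (χa x) = φa x := fun x => congrArg (fun g => g x) hχa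
    refine ⟨{ (χa.toRingHom.comp (algebraMap S (AdicCompletion 𝔫 S))) with
              commutes' := fun r => by
                show χa (algebraMap S _ (algebraMap R S r)) = _
                rw [← hψof, ← hψalg, χa.commutes, hahalg, hah_of] }, ?_⟩
    ext s
    show Ideal.Quotient.mk J (χa (algebraMap S _ s)) = φ s
    rw [hχa', hφa, hφh_of]

end Groth.Agent.S9317
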