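import Groth.Statements.S9455
import Mathlib
import Groth.Agent.H27.FieldSmooth
import Groth.Agent.H27.FlatQuot

set_option autoImplicit false
universe u
open CAlg

namespace Groth.Agent.S9455

theorem base_case (p : ℕ) (hp : p.Prime) (N : ℕ) (hN : N = p) (S : Type u) [CommRing S]
    (hS : IsField S) (f : ZMod N →+* S) : f.FormallySmooth := by
  subst hN
  haveI : Fact N.Prime := ⟨hp⟩
  letI := hS.toField
  letI : Algebra (ZMod N) S := f.toAlgebra
  have : Algebra.FormallySmooth (ZMod N) S := Groth.Agent.H27.FieldSmooth.formallySmooth_zmod N S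
  exact this

theorem ker_cast (p : ℕ) (hp : p.Prime) (m : ℕ) (x : ZMod (p ^ (m + 1)))
    (hx : ZMod.castHom (pow_dvd_pow p (Nat.le_succ m)) (ZMod (p ^ m)) x = 0) :
    ∃ b : ZMod (p ^ (m + 1)), x = (p : ZMod (p ^ (m + 1))) ^ m * b := by
  haveI : NeZero (p ^ (m + 1)) := ⟨pow_ne_zero _ hp.ne_zero⟩
  obtain ⟨a, rfl⟩ : ∃ a : ℕ, x = (a : ZMod (p ^ (m + 1))) := ⟨x.val, (ZMod.natCast_zmod_val x).symm⟩
  rw [map_natCast, ZMod.natCast_eq_zero_iff] at hx
  obtain ⟨c, rfl⟩ := hx
  exact ⟨(c : ZMod (p ^ (m + 1))), by rw [Nat.cast_mul, Nat.cast_pow]⟩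



/-- If Λ is a Cohen ring (a complete discrete valuation ring with maximal ideal generated by a prime
number p) then Λ/p^nΛ is formally smooth over ℤ/p^nℤ for every n ≥ 1; the ℤ/p^nℤ-algebra structure
on Λ/p^nΛ is the unique one and is taken as a hypothesis. -/
theorem result (Λ : Type u) [CommRing Λ] [IsDomain Λ]
    [IsDiscreteValuationRing Λ] [IsAdicComplete (IsLocalRing.maximalIdeal Λ) Λ] (p : ℕ)
    (hp : p.Prime) (hm : IsLocalRing.maximalIdeal Λ = Ideal.span {(p : Λ)}) (n : ℕ) (hn : 1 ≤ n)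
    [Algebra (ZMod (p ^ n)) (Λ ⧸ Ideal.span {((p : Λ) ^ n)})] :
    Algebra.FormallySmooth (ZMod (p ^ n)) (Λ ⧸ Ideal.span {((p : Λ) ^ n)}) := by
  classical
  have hp0 : (p : Λ) ≠ 0 := by
    intro h
    apply IsDiscreteValuationRing.not_a_field Λ
    rw [hm, h, Ideal.span_singleton_eq_bot]
  haveI : CharZero Λ := by
    obtain ⟨q, hq⟩ := CharP.exists Λ
    rcases CharP.char_is_prime_or_zero Λ q with hqp | rfl
    · exfalso
      have h1 : (q : IsLocalRing.ResidueField Λ) = 0 := by
        rw [← map_natCast (IsLocalRing.residue Λ), CharP.cast_eq_zero Λ q, map_zero]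
      have h2 : (p : IsLocalRing.ResidueField Λ) = 0 := by
        rw [← map_natCast (IsLocalRing.residue Λ), IsLocalRing.residue_eq_zero_iff, hm]
        exact Ideal.mem_span_singleton_self _
      haveI : CharP (IsLocalRing.ResidueField Λ) p :=
        Groth.Agent.H27.CoeffField.charP_of_prime_cast_zero hp h2
      have h3 : p ∣ q := (CharP.cast_eq_zero_iff (IsLocalRing.ResidueField Λ) p q).mp h1
      have h4 : p = q := (Nat.prime_dvd_prime_iff_eq hp hqp).mp h3
      apply hp0
      rw [h4]; exact CharP.cast_eq_zero Λ q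
    · exact CharP.charP_to_charZero Λ
  have main : ∀ m : ℕ, 1 ≤ m → ∀ f : ZMod (p ^ m) →+* Λ ⧸ Ideal.span {(p : Λ) ^ m},
      f.FormallySmooth := by
    intro m hm1
    induction m, hm1 using Nat.le_induction with
    | base =>
      intro f
      have hmax : (Ideal.span {(p : Λ) ^ 1}).IsMaximal := by rw [pow_one, ← hm]; infer_instance
      have hS : IsField (Λ ⧸ Ideal.span {(p : Λ) ^ 1}) :=
        (Ideal.Quotient.maximal_ideal_iff_isField_quotient _).mp hmax
      exact base_case p hp (p ^ 1) (pow_one p) _ hS f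
    | succ m hm1 ih =>
      intro f
      have hle : Ideal.span {(p : Λ) ^ (m + 1)} ≤ Ideal.span {(p : Λ) ^ m} := by
        rw [Ideal.span_singleton_le_span_singleton]
        exact pow_dvd_pow _ (Nat.le_succ m)
      let qR : ZMod (p ^ (m + 1)) →+* ZMod (p ^ m) :=
        ZMod.castHom (pow_dvd_pow p (Nat.le_succ m)) (ZMod (p ^ m))
      let qS : (Λ ⧸ Ideal.span {(p : Λ) ^ (m + 1)}) →+* (Λ ⧸ Ideal.span {(p : Λ) ^ m}) :=
        Ideal.Quotient.factor hle
      have hpm : ((p : Λ ⧸ Ideal.span {(p : Λ) ^ m})) ^ m = 0 := by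
        rw [← map_natCast (Ideal.Quotient.mk _), ← map_pow, Ideal.Quotient.eq_zero_iff_mem]
        exact Ideal.mem_span_singleton_self _
      have hkerle : RingHom.ker qR ≤ RingHom.ker (qS.comp f) := by
        intro x hx
        obtain ⟨b, rfl⟩ := ker_cast p hp m x ((RingHom.mem_ker).mp hx)
        rw [RingHom.mem_ker, RingHom.comp_apply, map_mul, map_mul, map_pow, map_pow, map_natCast,
          map_natCast, hpm, zero_mul]
      let g : ZMod (p ^ m) →+* Λ ⧸ Ideal.span {(p : Λ) ^ m} :=
        RingHom.liftOfSurjective qR (ZMod.castHom_surjective _) ⟨qS.comp f, hkerle⟩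
      have comm : qS.comp f = g.comp qR :=
        (RingHom.liftOfSurjective_comp qR (ZMod.castHom_surjective _) ⟨qS.comp f, hkerle⟩).symm
      have hpR : ((p : ZMod (p ^ (m + 1)))) ^ (m + 1) = 0 := by
        rw [← Nat.cast_pow]; exact ZMod.natCast_self _
      have hpmker : ((p : ZMod (p ^ (m + 1)))) ^ m ∈ RingHom.ker qR := by
        rw [RingHom.mem_ker, map_pow, map_natCast, ← Nat.cast_pow]; exact ZMod.natCast_self _
      refine RingHom.FormallySmooth.of_flat_of_ker_eq_map_of_square_zero f ?_ qR qS g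
        (ZMod.castHom_surjective _) (Ideal.Quotient.factor_surjective hle) comm ?_ ?_ (ih g)
      · letI : Algebra (ZMod (p ^ (m + 1))) (Λ ⧸ Ideal.span {(p : Λ) ^ (m + 1)}) := f.toAlgebra
        show Module.Flat (ZMod (p ^ (m + 1))) (Λ ⧸ Ideal.span {(p : Λ) ^ (m + 1)})
        refine Groth.Agent.H27.FlatQuot.flat_of_surjective (A := ℤ) (B := Λ)
          (by rw [algebraMap_int_eq]; exact ZMod.intCast_surjective)
          Ideal.Quotient.mk_surjective ?_
        rw [Ideal.Quotient.algebraMap_eq, Ideal.mk_ker, algebraMap_int_eq, algebraMap_int_eq,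
          ZMod.ker_intCastRingHom, Ideal.map_span, Set.image_singleton]
        congr 2
        simp
      · rw [eq_bot_iff, pow_two, Ideal.mul_le]
        intro x hx y hy
        obtain ⟨b, rfl⟩ := ker_cast p hp m x ((RingHom.mem_ker).mp hx)
        obtain ⟨b', rfl⟩ := ker_cast p hp m y ((RingHom.mem_ker).mp hy)
        have e : m + m = (m + 1) + (m - 1) := by omega
        have : (p : ZMod (p ^ (m + 1))) ^ m * b * ((p : ZMod (p ^ (m + 1))) ^ m * b') =
            (p : ZMod (p ^ (m + 1))) ^ (m + 1) *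
              ((p : ZMod (p ^ (m + 1))) ^ (m - 1) * b * b') := by
          calc (p : ZMod (p ^ (m + 1))) ^ m * b * ((p : ZMod (p ^ (m + 1))) ^ m * b')
              = (p : ZMod (p ^ (m + 1))) ^ (m + m) * (b * b') := by
                rw [pow_add (p : ZMod (p ^ (m + 1))) m m]; ring
            _ = _ := by
                rw [e, pow_add (p : ZMod (p ^ (m + 1))) (m + 1) (m - 1)]; ring
        rw [this, hpR, zero_mul]
        exact Submodule.zero_mem _
      · apply le_antisymm
        · intro y hy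
          obtain ⟨a, rfl⟩ := Ideal.Quotient.mk_surjective y
          have h1 : Ideal.Quotient.mk (Ideal.span {(p : Λ) ^ m}) a = 0 :=
            (Ideal.Quotient.factor_mk hle a).symm.trans ((RingHom.mem_ker).mp hy)
          rw [Ideal.Quotient.eq_zero_iff_mem, Ideal.mem_span_singleton] at h1
          obtain ⟨b, rfl⟩ := h1
          have h2 : Ideal.Quotient.mk (Ideal.span {(p : Λ) ^ (m + 1)}) ((p : Λ) ^ m * b) =
              f ((p : ZMod (p ^ (m + 1))) ^ m) * Ideal.Quotient.mk _ b := by
            rw [map_mul, map_pow, map_pow, map_natCast, map_natCast]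
          rw [h2]
          exact Ideal.mul_mem_right _ _ (Ideal.mem_map_of_mem f hpmker)
        · rw [Ideal.map_le_iff_le_comap]
          intro x hx
          rw [Ideal.mem_comap, RingHom.mem_ker]
          have h : qS (f x) = g (qR x) := RingHom.congr_fun comm x
          rw [h, (RingHom.mem_ker).mp hx, map_zero]
  exact RingHom.formallySmooth_algebraMap.mp (main n hn (algebraMap _ _))

end Groth.Agent.S9455
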