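import Groth.Statements.S9323
import Mathlib
import Groth.Agent.H27.PSSmooth
import Groth.Agent.S9455

set_option autoImplicit false
open CAlg

namespace Groth.Agent.S9323

noncomputable def zmodHom (N : ℕ) (B : Type*) [CommRing B] (h : (N : B) = 0) : ZMod N →+* B :=
  (Ideal.Quotient.lift (Ideal.span {(N : ℤ)}) (Int.castRingHom B) (by
    intro a ha
    obtain ⟨b, rfl⟩ := Ideal.mem_span_singleton.mp ha
    rw [map_mul, map_natCast, h, zero_mul])).comp (Int.quotientSpanNatEquivZMod N).symm.toRingHom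



/-- Let `Λ` be a Cohen ring (a complete discrete valuation ring whose maximal ideal is generated by a
prime number) and `n ≥ 0`. Then `ℤ → Λ[[x_1, …, x_n]]` is formally smooth for the adic topology of
the maximal ideal of the power series ring. (`Λ` is taken in the lowest universe, where `ℤ` lives.) -/
theorem result (Λ : Type) [CommRing Λ] [IsLocalRing Λ]
    (hΛ : CAlg.IsCohenRing Λ) (n : ℕ) :
    CAlgX.IsAdicFormallySmooth ℤ (MvPowerSeries (Fin n) Λ)
      (IsLocalRing.maximalIdeal (MvPowerSeries (Fin n) Λ)) := by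
  classical
  obtain ⟨hdom, hdvr, hcomp, p, hp, hm⟩ := hΛ
  haveI := hdom
  haveI := hdvr
  haveI := hcomp
  intro A _ _ J hJ ψ hψ
  obtain ⟨k, hk⟩ := hψ
  have hpΛ : ¬ IsUnit (p : Λ) := by
    rw [← mem_nonunits_iff, ← IsLocalRing.mem_maximalIdeal, hm]
    exact Ideal.mem_span_singleton_self _
  have hCp : (MvPowerSeries.C (p : Λ) : MvPowerSeries (Fin n) Λ) ∈
      IsLocalRing.maximalIdeal (MvPowerSeries (Fin n) Λ) := by
    rw [IsLocalRing.mem_maximalIdeal, mem_nonunits_iff, MvPowerSeries.isUnit_iff_constantCoeff,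
      MvPowerSeries.constantCoeff_C]
    exact hpΛ
  have hX : ∀ i, (MvPowerSeries.X i : MvPowerSeries (Fin n) Λ) ∈
      IsLocalRing.maximalIdeal (MvPowerSeries (Fin n) Λ) := by
    intro i
    rw [IsLocalRing.mem_maximalIdeal, mem_nonunits_iff, MvPowerSeries.isUnit_iff_constantCoeff,
      MvPowerSeries.constantCoeff_X]
    exact not_isUnit_zero
  have hψp : ψ (MvPowerSeries.C (p : Λ)) ^ (k + 1) = 0 := by
    rw [← map_pow]
    apply hk
    apply Ideal.pow_le_pow_right (Nat.le_succ k)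
    exact Ideal.pow_mem_pow hCp _
  have hψC : ψ (MvPowerSeries.C (p : Λ)) = Ideal.Quotient.mk J (p : A) := by
    have h1 : (MvPowerSeries.C (p : Λ) : MvPowerSeries (Fin n) Λ) =
        algebraMap ℤ (MvPowerSeries (Fin n) Λ) (p : ℤ) := by
      rw [MvPowerSeries.algebraMap_apply, map_natCast (algebraMap ℤ Λ)]
    rw [h1, ψ.commutes, map_natCast, map_natCast]
  have hpJ : (p : A) ^ (k + 1) ∈ J := by
    rw [← Ideal.Quotient.eq_zero_iff_mem, map_pow, ← hψC]; exact hψp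
  obtain ⟨c, hc⟩ : ∃ c : ℕ, c = (k + 1) + (k + 1) := ⟨_, rfl⟩
  have hc1 : 1 ≤ c := by omega
  have hpA : ((p ^ c : ℕ) : A) = 0 := by
    have h2 : (p : A) ^ c ∈ J ^ 2 := by
      rw [hc, pow_add, pow_two]; exact Ideal.mul_mem_mul hpJ hpJ
    rw [hJ] at h2
    rw [Nat.cast_pow]; simpa using h2
  have hpΛc : ((p ^ c : ℕ) : Λ ⧸ Ideal.span {(p : Λ) ^ c}) = 0 := by
    rw [Nat.cast_pow, ← map_natCast (Ideal.Quotient.mk _), ← map_pow,
      Ideal.Quotient.eq_zero_iff_mem]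
    exact Ideal.mem_span_singleton_self _
  letI : Algebra (ZMod (p ^ c)) A := (zmodHom (p ^ c) A hpA).toAlgebra
  letI : Algebra (ZMod (p ^ c)) (Λ ⧸ Ideal.span {(p : Λ) ^ c}) :=
    (zmodHom (p ^ c) _ hpΛc).toAlgebra
  haveI : Algebra.FormallySmooth (ZMod (p ^ c)) (Λ ⧸ Ideal.span {(p : Λ) ^ c}) :=
    Groth.Agent.S9455.result Λ p hp hm c hc1
  let ρ : MvPowerSeries (Fin n) Λ →+* MvPowerSeries (Fin n) (Λ ⧸ Ideal.span {(p : Λ) ^ c}) :=
    MvPowerSeries.map (Ideal.Quotient.mk _)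
  have hρs : Function.Surjective ρ := by
    intro g
    refine ⟨fun m => (Ideal.Quotient.mk_surjective (MvPowerSeries.coeff m g)).choose, ?_⟩
    ext m
    show MvPowerSeries.coeff m (MvPowerSeries.map (Ideal.Quotient.mk _) _) = _
    rw [MvPowerSeries.coeff_map]
    exact (Ideal.Quotient.mk_surjective (MvPowerSeries.coeff m g)).choose_spec
  have hψpc : ψ (MvPowerSeries.C ((p : Λ) ^ c)) = 0 := by
    rw [map_pow, map_pow, hc, pow_add, hψp, zero_mul]
  have hρk : RingHom.ker ρ ≤ RingHom.ker ψ.toRingHom := by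
    intro f hf
    have hf0 : MvPowerSeries.map (Ideal.Quotient.mk (Ideal.span {(p : Λ) ^ c})) f = 0 := hf
    have hf' : ∀ m, MvPowerSeries.coeff m f ∈ Ideal.span {(p : Λ) ^ c} := by
      intro m
      rw [← Ideal.Quotient.eq_zero_iff_mem, ← MvPowerSeries.coeff_map, hf0, map_zero]
    let hh : MvPowerSeries (Fin n) Λ := fun m => (Ideal.mem_span_singleton.mp (hf' m)).choose
    have hfac : f = MvPowerSeries.C ((p : Λ) ^ c) * hh := by
      ext m
      rw [MvPowerSeries.coeff_C_mul]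
      exact (Ideal.mem_span_singleton.mp (hf' m)).choose_spec
    rw [RingHom.mem_ker]
    show ψ f = 0
    rw [hfac, map_mul, hψpc, zero_mul]
  let ψ'r : MvPowerSeries (Fin n) (Λ ⧸ Ideal.span {(p : Λ) ^ c}) →+* A ⧸ J :=
    RingHom.liftOfSurjective ρ hρs ⟨ψ.toRingHom, hρk⟩
  have hψ'r : ∀ f, ψ'r (ρ f) = ψ f := fun f =>
    RingHom.congr_fun (RingHom.liftOfSurjective_comp ρ hρs ⟨ψ.toRingHom, hρk⟩) f
  let ψ' : MvPowerSeries (Fin n) (Λ ⧸ Ideal.span {(p : Λ) ^ c}) →ₐ[ZMod (p ^ c)] A ⧸ J :=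
    { toRingHom := ψ'r
      commutes' := fun z => RingHom.congr_fun
        (Subsingleton.elim (ψ'r.comp (algebraMap (ZMod (p ^ c)) _))
          (algebraMap (ZMod (p ^ c)) (A ⧸ J))) z }
  have hX' : ∀ i, (MvPowerSeries.X i : MvPowerSeries (Fin n) (Λ ⧸ Ideal.span {(p : Λ) ^ c})) ∈
      (IsLocalRing.maximalIdeal (MvPowerSeries (Fin n) Λ)).map ρ := by
    intro i
    have h1 : ρ (MvPowerSeries.X i) = MvPowerSeries.X i := MvPowerSeries.map_X _ i
    rw [← h1]
    exact Ideal.mem_map_of_mem ρ (hX i)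
  obtain ⟨χ', hχ'⟩ := Groth.Agent.H27.PSSmooth.adicSmooth_mvPowerSeries n _ hX' A J hJ ψ' ⟨k, by
    intro y hy
    rw [← Ideal.map_pow] at hy
    obtain ⟨x, hx, rfl⟩ := (Ideal.mem_map_iff_of_surjective ρ hρs).mp hy
    show ψ'r (ρ x) = 0
    rw [hψ'r]; exact hk x hx⟩
  have hcomm : ∀ r : ℤ, (χ'.toRingHom.comp ρ) (algebraMap ℤ (MvPowerSeries (Fin n) Λ) r) =
      algebraMap ℤ A r := fun r => RingHom.congr_fun (Subsingleton.elim
        ((χ'.toRingHom.comp ρ).comp (algebraMap ℤ (MvPowerSeries (Fin n) Λ))) (algebraMap ℤ A)) r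
  refine ⟨{ toRingHom := χ'.toRingHom.comp ρ, commutes' := hcomm }, ?_⟩
  apply AlgHom.ext
  intro f
  show Ideal.Quotient.mk J (χ' (ρ f)) = ψ f
  have h2 := AlgHom.congr_fun hχ' (ρ f)
  rw [← hψ'r]; exact h2

end Groth.Agent.S9323
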