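import Mathlib
import Groth.Agent.H11.PairIntegral
import Groth.Statements.S9324

set_option autoImplicit false
universe u
open Hensel

namespace Groth.Agent.S9324

open TensorProduct in
/-- Let `(A, I) → (B, J)` be a map of pairs, i.e. `I B ⊆ J`, such that `J` and `I B` have the same
radical, and suppose `A → B` is integral. Let `A^h` be a henselization of the pair `(A, I)`, `B^h` a
henselization of the pair `(B, J)`, and `φ : A^h → B^h` an `A`-algebra homomorphism (there is
exactly one, by the universal property of `A^h`). Then the induced map `A^h ⊗_A B → B^h` is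
bijective: henselization commutes with integral base change. -/
theorem result {A B Ah Bh : Type u} [CommRing A]
    [CommRing B] [CommRing Ah] [CommRing Bh] [Algebra A B] (I : Ideal A) (J : Ideal B)
    (hIJ : I.map (algebraMap A B) ≤ J) (hrad : J.radical = (I.map (algebraMap A B)).radical)
    [Algebra.IsIntegral A B] [Algebra A Ah] (hA : Hens2.IsPairHenselization A I Ah)
    [Algebra B Bh] [Algebra A Bh] [IsScalarTower A B Bh] (hB : Hens2.IsPairHenselization B J Bh)
    (φ : Ah →ₐ[A] Bh) :
    Function.Bijective (Algebra.TensorProduct.productMap φ (IsScalarTower.toAlgHom A B Bh)) := by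
  letI := Groth.Agent.H11.PH.rightAlg A Ah B
  have hT := Groth.Agent.H11.PH.isPairHenselization_tensor_of_isIntegral (A := A) (I := I)
    (B := B) (Ah := Ah) J hIJ hrad hA
  have := Groth.Agent.H11.PH.bijective_of_isPairHenselization hT hB
    (Algebra.TensorProduct.productMap φ (IsScalarTower.toAlgHom A B Bh)).toRingHom (by
      ext b
      show Algebra.TensorProduct.productMap φ (IsScalarTower.toAlgHom A B Bh)
        (TensorProduct.tmul A (1 : Ah) b) = algebraMap B Bh b
      rw [Algebra.TensorProduct.productMap_apply_tmul, map_one, one_mul]
      rfl)
  exact this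

end Groth.Agent.S9324
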