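import Groth.Statements.S9326
import Groth.Agent.H2.OpenMapDich

set_option autoImplicit false
universe u
open CAlg

namespace Groth.Agent.S9326

/-- Let `u : N → M` be a continuous homomorphism of topological abelian groups. Assume `M` is Hausdorff
and `N` is Hausdorff and complete, linearly topologized (every neighbourhood of zero contains an
open subgroup) and first countable (zero has a countable basis of neighbourhoods). Then exactly one
of two things holds: `u` is an open map; or there is an open subgroup of `N` whose image is nowhere
dense in `M`. -/
theorem result {N M : Type u} [AddCommGroup N]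
    [AddCommGroup M] [UniformSpace N] [IsUniformAddGroup N] [TopologicalSpace M]
    [IsTopologicalAddGroup M] [T2Space M] [T2Space N] [CompleteSpace N] [NonarchimedeanAddGroup N]
    [FirstCountableTopology N] (u : N →+ M) (hu : Continuous u) :
    Xor (IsOpenMap u) (∃ V : OpenAddSubgroup N, IsNowhereDense (u '' (V : Set N))) := by
  unfold Xor
  by_cases h : ∃ V : OpenAddSubgroup N, IsNowhereDense (u '' (V : Set N))
  · right
    refine ⟨h, fun hopen => ?_⟩
    obtain ⟨V, hV⟩ := h
    have h0 : (0 : M) ∈ u '' (V : Set N) := ⟨0, zero_mem _, map_zero u⟩
    have h1 := (hopen _ V.isOpen).subset_interior_closure h0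
    rw [show interior (closure (u '' (V : Set N))) = ∅ from hV] at h1
    exact h1
  · left
    refine ⟨?_, h⟩
    apply Groth.Agent.H2.OpenMapDich.isOpenMap_of u hu
    intro V
    rw [Set.nonempty_iff_ne_empty]
    intro hV
    exact h ⟨V, hV⟩

end Groth.Agent.S9326
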