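import Groth.Statements.S9331
import Mathlib

set_option autoImplicit false
universe u
open QFin

namespace Groth.Agent.S9331

open AlgebraicGeometry CategoryTheory in
/-- Let f : X → S be a morphism of schemes, x ∈ X, s = f x. If κ(x) is algebraic over κ(s) (through the
residue field map of f at x), then x is a closed point of the fibre X_s, and if in addition s is
closed in S then x is closed in X. -/
theorem result {X S : Scheme.{u}} (f : X ⟶ S) (x : X)
    (halg : @Algebra.IsAlgebraic (S.residueField (f.base x)) (X.residueField x) _ _ (f.residueFieldMap x).hom.toAlgebra) :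
    IsClosed ({f.asFiber x} : Set ↑(f.fiber (f.base x))) ∧
      (IsClosed ({f.base x} : Set ↑S) → IsClosed ({x} : Set ↑X)) := by
  have hint : (f.residueFieldMap x).hom.IsIntegral := by
    letI := (f.residueFieldMap x).hom.toAlgebra
    haveI := halg
    intro a
    exact Algebra.IsIntegral.isIntegral (R := S.residueField (f.base x)) a
  haveI hInt : IsIntegralHom (Spec.map (f.residueFieldMap x)) := IsIntegralHom.SpecMap_iff.mpr hint
  have hclz : IsClosed ({f.asFiber x} : Set ↑(f.fiber (f.base x))) := by
    apply closure_subset_iff_isClosed.mp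
    intro z' hz'
    have hsp : f.asFiber x ⤳ z' := specializes_iff_mem_closure.mpr hz'
    obtain ⟨U, hU, hz'U⟩ : ∃ U : (f.fiber (f.base x)).Opens, IsAffineOpen U ∧ z' ∈ U := by
      obtain ⟨_, ⟨U, hU, rfl⟩, hxU, -⟩ :=
        (f.fiber (f.base x)).isBasis_affineOpens.exists_subset_of_mem_open
          (Set.mem_univ z') isOpen_univ
      exact ⟨U, hU, hxU⟩
    have hzU : f.asFiber x ∈ U := hsp.mem_open U.2 hz'U
    have hrange : Set.range (f.asFiberHom x) ⊆ Set.range U.ι := by
      rw [Scheme.Hom.range_asFiberHom, Scheme.Opens.range_ι]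
      exact Set.singleton_subset_iff.mpr hzU
    let h' := IsOpenImmersion.lift U.ι (f.asFiberHom x) hrange
    have hfac : h' ≫ U.ι = f.asFiberHom x := IsOpenImmersion.lift_fac _ _ _
    haveI : IsAffine (U : Scheme) := hU
    haveI : IsIntegralHom (h' ≫ (U.ι ≫ f.fiberToSpecResidueField (f.base x))) := by
      rw [← Category.assoc, hfac, Scheme.Hom.asFiberHom_fiberToSpecResidueField]
      exact hInt
    haveI : IsIntegralHom h' :=
      IsIntegralHom.of_comp h' (U.ι ≫ f.fiberToSpecResidueField (f.base x))
    have hcr : IsClosed (Set.range h') := h'.isClosedMap.isClosed_range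
    let y0 : Spec (X.residueField x) := IsLocalRing.closedPoint _
    have hu : U.ι (h' y0) = f.asFiber x := by
      rw [← Scheme.Hom.comp_apply, hfac, Scheme.Hom.asFiberHom_apply]
    have hsp' : h' y0 ⤳ (⟨z', hz'U⟩ : U) := by
      rw [← U.ι.isEmbedding.isInducing.specializes_iff, hu]
      exact hsp
    have hmem : (⟨z', hz'U⟩ : U) ∈ Set.range h' := by
      have h1 : closure {h' y0} ⊆ Set.range h' :=
        closure_minimal (Set.singleton_subset_iff.mpr ⟨y0, rfl⟩) hcr
      exact h1 (specializes_iff_mem_closure.mp hsp')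
    obtain ⟨y1, hy1⟩ := hmem
    have h2 : U.ι (h' y1) = f.asFiber x := by
      rw [← Scheme.Hom.comp_apply, hfac, Scheme.Hom.asFiberHom_apply]
    rw [hy1] at h2
    exact h2
  refine ⟨hclz, fun hs => ?_⟩
  have hemb : Topology.IsClosedEmbedding (f.fiberι (f.base x)) := by
    refine ⟨(f.fiberι (f.base x)).isEmbedding, ?_⟩
    rw [Scheme.Hom.range_fiberι]
    exact hs.preimage f.continuous
  have := hemb.isClosedMap _ hclz
  rwa [Set.image_singleton, Scheme.Hom.fiberι_asFiber] at this

end Groth.Agent.S9331
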