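import Groth.Statements.S9332
import Groth.Agent.Lib.Lead.FtPts
-- import your own Groth.Agent.* helpers here

set_option autoImplicit false
universe u
open QFin

namespace Groth.Agent.S9332

open AlgebraicGeometry CategoryTheory in
/-- Let f : X → S be locally of finite type and x ∈ X. Then x is closed in its fibre X_{f x} if and only
if κ(x) is a finite extension of κ(f x) (via the residue field map of f at x). -/
theorem result {X S : Scheme.{u}} (f : X ⟶ S) [LocallyOfFiniteType f] (x : X) :
    IsClosed ({f.asFiber x} : Set ↑(f.fiber (f.base x))) ↔ (f.residueFieldMap x).hom.Finite := by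
  haveI : LocallyOfFiniteType (f.fiberToSpecResidueField (f.base x)) :=
    MorphismProperty.pullback_snd _ _ inferInstance
  constructor
  · intro hc
    haveI : IsClosedImmersion (f.asFiberHom x) :=
      IsClosedImmersion.of_isPreimmersion _ (by rw [Scheme.Hom.range_asFiberHom]; exact hc)
    haveI : LocallyOfFiniteType (Spec.map (f.residueFieldMap x)) := by
      rw [← Scheme.Hom.asFiberHom_fiberToSpecResidueField]; infer_instance
    have hft : (f.residueFieldMap x).hom.FiniteType :=
      (HasRingHomProperty.Spec_iff (P := @LocallyOfFiniteType)).mp inferInstance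
    exact RingHom.finite_iff_finiteType_of_isJacobsonRing.mpr hft
  · intro hfin
    haveI : LocallyOfFiniteType (Spec.map (f.residueFieldMap x)) :=
      (HasRingHomProperty.Spec_iff (P := @LocallyOfFiniteType)).mpr
        (RingHom.FiniteType.of_finite hfin)
    haveI : LocallyOfFiniteType (f.asFiberHom x ≫ f.fiberToSpecResidueField (f.base x)) := by
      rw [Scheme.Hom.asFiberHom_fiberToSpecResidueField]; infer_instance
    haveI : LocallyOfFiniteType (f.asFiberHom x) :=
      locallyOfFiniteType_of_comp _ (f.fiberToSpecResidueField (f.base x))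
    obtain ⟨U, hU, hu, hc⟩ := Groth.Agent.Lead.exists_affine_isClosed_of_locallyOfFiniteType'
      (X.residueField x) (Field.toIsField _) (f.asFiberHom x) (IsLocalRing.closedPoint _)
      (f.asFiber x) (Scheme.Hom.asFiberHom_apply f x _)
    apply isClosed_singleton_of_isLocallyClosed_singleton
    obtain ⟨C, hC, hCeq⟩ := isClosed_induced_iff.mp hc
    refine ⟨U, C, U.isOpen, hC, ?_⟩
    ext y
    constructor
    · intro hy
      rw [Set.mem_singleton_iff] at hy
      subst hy
      refine ⟨hu, ?_⟩
      have : (⟨f.asFiber x, hu⟩ : ↥U) ∈ Subtype.val ⁻¹' C := by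
        rw [hCeq]; exact Set.mem_singleton _
      exact this
    · rintro ⟨hyU, hyC⟩
      have : (⟨y, hyU⟩ : ↥U) ∈ Subtype.val ⁻¹' C := hyC
      rw [hCeq] at this
      exact congrArg Subtype.val this

end Groth.Agent.S9332
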