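import Groth.Statements.S9333
import Mathlib

set_option autoImplicit false
universe u
open QFin

namespace Groth.Agent.S9333

section Helpers
open AlgebraicGeometry CategoryTheory CategoryTheory.Limits

lemma discrete_of_finite9333 {P : Scheme.{u}} (K : CommRingCat.{u}) [IsArtinianRing K]
    (q : P ⟶ Spec K) [IsFinite q] : DiscreteTopology P := by
  haveI : IsAffine P := isAffine_of_isAffineHom q
  haveI h0 : IsArtinianRing Γ(Spec K, ⊤) :=
    (Scheme.ΓSpecIso K).symm.commRingCatIsoToRingEquiv.surjective.isArtinianRing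
  have hfin : q.appTop.hom.Finite := q.finite_appTop
  letI := q.appTop.hom.toAlgebra
  haveI : Module.Finite Γ(Spec K, ⊤) Γ(P, ⊤) := hfin
  haveI : IsArtinianRing Γ(P, ⊤) := IsArtinianRing.of_finite Γ(Spec K, ⊤) Γ(P, ⊤)
  haveI : DiscreteTopology (Spec Γ(P, ⊤)) := inferInstanceAs (DiscreteTopology (PrimeSpectrum _))
  exact P.isoSpec.hom.homeomorph.symm.discreteTopology

set_option backward.isDefEq.respectTransparency false in
lemma main9333 {X S X' S' : Scheme.{u}} (f : X ⟶ S) [LocallyOfFiniteType f] (g : S' ⟶ S)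
    (g' : X' ⟶ X) (f' : X' ⟶ S') (hsq : IsPullback g' f' f g) (x' : X')
    (hx : IsClosed ({f.asFiber (g' x')} : Set ↑(f.fiber (f (g' x'))))) :
    IsClosed ({f'.asFiber x'} : Set ↑(f'.fiber (f' x'))) := by
  have key : ∀ (s : S) (_ : f (g' x') = s), IsClosed ((f.fiberι s) ⁻¹' {g' x'}) := by
    intro s hs; subst hs
    convert hx using 1
    ext w
    simp only [Set.mem_preimage, Set.mem_singleton_iff]
    constructor
    · intro h
      apply (f.fiberι _).isEmbedding.injective
      rw [h, Scheme.Hom.fiberι_asFiber]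
    · rintro rfl
      exact Scheme.Hom.fiberι_asFiber ..
  have hss : f (g' x') = g (f' x') := by
    have := congr($(hsq.w) x')
    simpa using this
  have hcl := key (g (f' x')) hss
  have hmem : g' x' ∈ Set.range (f.fiberι (g (f' x'))) := by
    rw [f.range_fiberι]; exact hss
  obtain ⟨z, hz⟩ := hmem
  have hzcl : IsClosed ({z} : Set ↑(f.fiber (g (f' x')))) := by
    convert hcl using 1
    ext w
    simp only [Set.mem_preimage, Set.mem_singleton_iff]
    constructor
    · rintro rfl; exact hz
    · intro h; exact (f.fiberι _).isEmbedding.injective (h.trans hz.symm)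
  obtain ⟨Φ, pb, hΦι⟩ : ∃ Φ : f'.fiber (f' x') ⟶ f.fiber (g (f' x')),
      IsPullback Φ (f'.fiberToSpecResidueField (f' x'))
        (f.fiberToSpecResidueField (g (f' x'))) (Spec.map (g.residueFieldMap (f' x'))) ∧
      Φ ≫ f.fiberι (g (f' x')) = f'.fiberι (f' x') ≫ g' := by
    refine ⟨_, isPullback_fiberToSpecResidueField_of_isPullback hsq (f' x'), ?_⟩
    simp [Scheme.Hom.fiberι]
  have hΦz : Φ (f'.asFiber x') = z := by
    apply (f.fiberι (g (f' x'))).isEmbedding.injective
    rw [hz]
    show (Φ ≫ f.fiberι (g (f' x'))) (f'.asFiber x') = _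
    rw [hΦι]
    show g' (f'.fiberι (f' x') (f'.asFiber x')) = _
    rw [Scheme.Hom.fiberι_asFiber]
  haveI hci : IsClosedImmersion ((f.fiber (g (f' x'))).fromSpecResidueField z) :=
    isClosed_singleton_iff_isClosedImmersion.mp hzcl
  let ιz := (f.fiber (g (f' x'))).fromSpecResidueField z
  haveI : IsClosedImmersion ιz := hci
  haveI : LocallyOfFiniteType (f.fiberToSpecResidueField (g (f' x'))) := by
    delta Scheme.Hom.fiberToSpecResidueField; infer_instance
  haveI : LocallyOfFiniteType (ιz ≫ f.fiberToSpecResidueField (g (f' x'))) := inferInstance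
  haveI hfin : IsFinite (ιz ≫ f.fiberToSpecResidueField (g (f' x'))) :=
    isFinite_iff_locallyOfFiniteType_of_jacobsonSpace.mpr inferInstance
  have pasted := (IsPullback.of_hasPullback ιz Φ).paste_vert pb
  haveI : IsFinite (pullback.snd ιz Φ ≫ f'.fiberToSpecResidueField (f' x')) :=
    MorphismProperty.of_isPullback (P := @IsFinite) pasted hfin
  haveI : DiscreteTopology ↥(pullback ιz Φ) :=
    discrete_of_finite9333 _ (pullback.snd ιz Φ ≫ f'.fiberToSpecResidueField (f' x'))
  have hr : f'.asFiber x' ∈ Set.range (pullback.snd ιz Φ) := by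
    rw [Scheme.Pullback.range_snd]
    show Φ (f'.asFiber x') ∈ Set.range ιz
    rw [hΦz, Scheme.range_fromSpecResidueField]; rfl
  obtain ⟨p, hp⟩ := hr
  have := (pullback.snd ιz Φ).isClosedEmbedding.isClosedMap {p} (isClosed_discrete _)
  rwa [Set.image_singleton, hp] at this

end Helpers

open AlgebraicGeometry CategoryTheory in
/-- Let f : X → S be locally of finite type, g : S' → S any morphism and X' = X ×_S S' with projections
g' : X' → X and f' : X' → S'. If x' ∈ X' maps to x ∈ X and x is closed in the fibre X_{f x}, then x'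
is closed in the fibre X'_{f' x'}. -/
theorem result {X S X' S' : Scheme.{u}} (f : X ⟶ S) [LocallyOfFiniteType f] (g : S' ⟶ S)
    (g' : X' ⟶ X) (f' : X' ⟶ S') (hsq : IsPullback g' f' f g) (x' : X')
    (hx : IsClosed ({f.asFiber (g'.base x')} : Set ↑(f.fiber (f.base (g'.base x'))))) :
    IsClosed ({f'.asFiber x'} : Set ↑(f'.fiber (f'.base x'))) := by
  exact main9333 f g g' f' hsq x' hx

end Groth.Agent.S9333
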