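import Groth.Statements.S9335
import Mathlib
-- import your own Groth.Agent.* helpers here

set_option autoImplicit false
universe u
open QFin

namespace Groth.Agent.S9335

open AlgebraicGeometry CategoryTheory in
/-- If f : X → S is of finite type and s ∈ S, then f is quasi-finite at only finitely many points of the
fibre over s. -/
theorem result {X S : Scheme.{u}} (f : X ⟶ S) [LocallyOfFiniteType f] [QuasiCompact f] (s : S) :
    {x : ↑X | f.base x = s ∧ f.QuasiFiniteAt x}.Finite := by
  have h1 : LocallyOfFiniteType (f.fiberToSpecResidueField s) :=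
    MorphismProperty.pullback_snd _ _ inferInstance
  have h2 : IsLocallyNoetherian (f.fiber s) :=
    LocallyOfFiniteType.isLocallyNoetherian (f.fiberToSpecResidueField s)
  have h3 : IsNoetherian (f.fiber s) := {}
  have hN : TopologicalSpace.NoetherianSpace (f.fiber s) := inferInstance
  have hT' : {z : f.fiber s | IsOpen ({z} : Set (f.fiber s))}.Finite := by
    apply IsCompact.finite (TopologicalSpace.NoetherianSpace.isCompact _)
    rw [isDiscrete_iff_forall_mem_exists_isOpen]
    intro z hz
    refine ⟨{z}, hz, ?_⟩
    ext w
    simp only [Set.mem_inter_iff, Set.mem_singleton_iff, Set.mem_setOf_eq, and_iff_left_iff_imp]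
    rintro rfl
    exact hz
  apply (hT'.image (f.fiberι s).base).subset
  rintro x ⟨rfl, hx⟩
  exact ⟨f.asFiber x, Scheme.Hom.quasiFiniteAt_iff_isOpen_singleton_asFiber.mp hx,
    f.fiberι_asFiber x⟩

end Groth.Agent.S9335
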