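import Groth.Statements.S9336
import Groth.Agent.Lib.Lead.FiberTop
import Groth.Agent.S9332
-- import your own Groth.Agent.* helpers here

set_option autoImplicit false
universe u
open QFin

namespace Groth.Agent.S9336

open AlgebraicGeometry CategoryTheory in
/-- Let f : X → Y be surjective and g : Y → S locally of finite type. If g ∘ f is locally quasi-finite
(and locally of finite type), then g is locally quasi-finite. -/
theorem result {X Y S : Scheme.{u}} (f : X ⟶ Y) (g : Y ⟶ S) [Surjective f]
    [LocallyQuasiFinite (f ≫ g)] [LocallyOfFiniteType (f ≫ g)] [LocallyOfFiniteType g] :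
    LocallyQuasiFinite g := by
  have step1 : ∀ y : Y, IsClosed ({g.asFiber y} : Set ↑(g.fiber (g.base y))) := by
    intro y
    obtain ⟨x, rfl⟩ := f.surjective y
    refine (Groth.Agent.S9332.result g _).mpr ?_
    have hq : (f ≫ g).QuasiFiniteAt x := (f ≫ g).quasiFiniteAt x
    have hcl : IsClosed ({(f ≫ g).asFiber x} : Set ↑((f ≫ g).fiber ((f ≫ g).base x))) :=
      hq.isClopen_singleton_asFiber.1
    have hfin : ((f ≫ g).residueFieldMap x).hom.Finite :=
      (Groth.Agent.S9332.result (f ≫ g) x).mp hcl
    rw [Scheme.residueFieldMap_comp] at hfin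
    exact Groth.Agent.Lead.finite_of_comp_finite_of_field (g.residueFieldMap (f.base x)).hom
      (f.residueFieldMap x).hom hfin
  rw [locallyQuasiFinite_iff_isDiscrete_preimage_singleton]
  intro s
  have hclosed : ∀ (y : Y) (s : S) (hs : g.base y = s) (z : g.fiber s)
      (hz : (g.fiberι s).base z = y), IsClosed ({z} : Set (g.fiber s)) := by
    intro y s hs z hz
    subst hs
    have : z = g.asFiber y :=
      (g.fiberι _).isEmbedding.injective (hz.trans (g.fiberι_asFiber y).symm)
    rw [this]
    exact step1 y
  have hall : ∀ z : g.fiber s, IsClosed ({z} : Set (g.fiber s)) := by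
    intro z
    refine hclosed ((g.fiberι s).base z) s ?_ z rfl
    have := (g.fiberHomeo s z).2
    exact this
  haveI : LocallyOfFiniteType (g.fiberToSpecResidueField s) :=
    MorphismProperty.pullback_snd _ _ inferInstance
  haveI : DiscreteTopology (g.fiber s) := by
    rw [discreteTopology_iff_isOpen_singleton]
    intro z
    exact Groth.Agent.Lead.isOpen_singleton_of_isClosed_of_forall_specializes
      (S.residueField s) (g.fiberToSpecResidueField s) z (hall z)
      (fun x' hx' => (Set.mem_singleton_iff.mp (hx'.mem_closed (hall x') rfl)).symm)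
  exact ⟨(g.fiberHomeo s).discreteTopology⟩

end Groth.Agent.S9336
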