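import Groth.Statements.S9337
import Groth.Agent.Lib.Lead.FtPts
-- import your own Groth.Agent.* helpers here

set_option autoImplicit false
universe u
open FtPts

namespace Groth.Agent.S9337

open AlgebraicGeometry CategoryTheory in
/-- Let k be a field and f : Spec k → S a morphism of schemes with image point u. Then f is locally of
finite type if and only if some affine open U ∋ u of S has u as a closed point and the residue field
of Spec k (that is, k) is finite over κ(u). -/
theorem result (S : Scheme.{u}) (k : Type u) [Field k] (f : Spec (CommRingCat.of k) ⟶ S) :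
    LocallyOfFiniteType f ↔
      ∃ U : S.Opens, IsAffineOpen U ∧ ∃ hu : f.base (IsLocalRing.closedPoint k) ∈ U,
        IsClosed ({⟨f.base (IsLocalRing.closedPoint k), hu⟩} : Set ↥U) ∧
          (f.residueFieldMap (IsLocalRing.closedPoint k)).hom.Finite := by
  constructor
  · intro h
    haveI := h
    obtain ⟨U, hU, hu, hc⟩ := Groth.Agent.Lead.exists_affine_isClosed_of_locallyOfFiniteType
      (CommRingCat.of k) (Field.toIsField k) f (IsLocalRing.closedPoint k)
    refine ⟨U, hU, hu, hc, ?_⟩
    have hnat := Scheme.Hom.SpecMap_residueFieldMap_fromSpecResidueField f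
      (IsLocalRing.closedPoint k)
    haveI : IsClosedImmersion
        ((Spec (CommRingCat.of k)).fromSpecResidueField (IsLocalRing.closedPoint k)) :=
      isClosed_singleton_iff_isClosedImmersion.mp (IsLocalRing.isClosed_singleton_closedPoint k)
    haveI : LocallyOfFiniteType (Spec.map (f.residueFieldMap (IsLocalRing.closedPoint k)) ≫
        S.fromSpecResidueField (f.base (IsLocalRing.closedPoint k))) := by
      rw [hnat]; infer_instance
    haveI : LocallyOfFiniteType (Spec.map (f.residueFieldMap (IsLocalRing.closedPoint k))) :=
      locallyOfFiniteType_of_comp _ (S.fromSpecResidueField (f.base (IsLocalRing.closedPoint k)))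
    have hft : (f.residueFieldMap (IsLocalRing.closedPoint k)).hom.FiniteType :=
      (HasRingHomProperty.Spec_iff (P := @LocallyOfFiniteType)).mp inferInstance
    exact RingHom.finite_iff_finiteType_of_isJacobsonRing.mpr hft
  · rintro ⟨U, hU, hu, hc, hfin⟩
    haveI := Groth.Agent.Lead.locallyOfFiniteType_of_isClosed_in_opens U _ hu hc
    have hnat := Scheme.Hom.SpecMap_residueFieldMap_fromSpecResidueField f
      (IsLocalRing.closedPoint k)
    haveI : IsClosedImmersion
        ((Spec (CommRingCat.of k)).fromSpecResidueField (IsLocalRing.closedPoint k)) :=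
      isClosed_singleton_iff_isClosedImmersion.mp (IsLocalRing.isClosed_singleton_closedPoint k)
    haveI : Surjective
        ((Spec (CommRingCat.of k)).fromSpecResidueField (IsLocalRing.closedPoint k)) :=
      ⟨fun y => ⟨IsLocalRing.closedPoint _, Subsingleton.elim _ _⟩⟩
    haveI : IsIso ((Spec (CommRingCat.of k)).fromSpecResidueField (IsLocalRing.closedPoint k)) :=
      isIso_of_isClosedImmersion_of_surjective _
    haveI : LocallyOfFiniteType (Spec.map (f.residueFieldMap (IsLocalRing.closedPoint k))) :=
      (HasRingHomProperty.Spec_iff (P := @LocallyOfFiniteType)).mpr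
        (RingHom.FiniteType.of_finite hfin)
    have hf : f = inv ((Spec (CommRingCat.of k)).fromSpecResidueField (IsLocalRing.closedPoint k)) ≫
        Spec.map (f.residueFieldMap (IsLocalRing.closedPoint k)) ≫
        S.fromSpecResidueField (f.base (IsLocalRing.closedPoint k)) := by
      rw [hnat, IsIso.inv_hom_id_assoc]
    rw [hf]
    infer_instance

end Groth.Agent.S9337
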