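import Groth.Statements.S9338
import Mathlib
-- import your own Groth.Agent.* helpers here

set_option autoImplicit false
universe u
open FtPts

namespace Groth.Agent.S9338


theorem AL2 {R A K : Type*} [CommRing R] [CommRing A] [CommRing K]
    (ρ : R →+* A) (r : A →+* K) (hr : Function.Surjective r) (hker : RingHom.ker r ≤ nilradical A)
    (hfg : (RingHom.ker r).FG) (h : (r.comp ρ).FiniteType) : ρ.FiniteType := by
  classical
  algebraize [ρ, r, r.comp ρ]
  obtain ⟨t, ht⟩ := (Algebra.FiniteType.out : (⊤ : Subalgebra R K).FG)
  let t' : Finset A := t.image (Function.surjInv hr)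
  obtain ⟨B, hB⟩ : ∃ B : Subalgebra R A, B = Algebra.adjoin R (t' : Set A) := ⟨_, rfl⟩
  haveI : Algebra.FiniteType R B := (Subalgebra.fg_iff_finiteType B).mp ⟨t', hB.symm⟩
  have hsurj : Function.Surjective (algebraMap B K) := by
    intro k
    have hk : k ∈ Algebra.adjoin R (t : Set K) := by rw [ht]; trivial
    have hmap : Algebra.adjoin R (t : Set K) =
        (Algebra.adjoin R (t' : Set A)).map (IsScalarTower.toAlgHom R A K) := by
      rw [AlgHom.map_adjoin]
      congr 1
      ext z
      simp only [t', Finset.coe_image, Set.mem_image, Finset.mem_coe]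
      constructor
      · intro hz
        exact ⟨Function.surjInv hr z, ⟨z, hz, rfl⟩, Function.surjInv_eq hr z⟩
      · rintro ⟨_, ⟨w, hw, rfl⟩, rfl⟩
        have : (IsScalarTower.toAlgHom R A K) (Function.surjInv hr w) = w :=
          Function.surjInv_eq hr w
        rw [this]; exact hw
    rw [hmap, ← hB] at hk
    obtain ⟨b, hb, rfl⟩ := hk
    exact ⟨⟨b, hb⟩, rfl⟩
  haveI : Module.Finite B K := Module.Finite.of_surjective (Algebra.linearMap B K) hsurj
  have hfin : Module.Finite B A :=
    Module.finite_of_surjective_of_ker_le_nilradical (IsScalarTower.toAlgHom B A K) hr hker hfg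
  haveI := hfin
  haveI : Algebra.FiniteType B A := inferInstance
  exact Algebra.FiniteType.trans (R := R) (S := B) (A := A) inferInstance inferInstance

open AlgebraicGeometry CategoryTheory in
/-- For an Artinian local ring A with residue field κ, a morphism f : Spec A → S is (locally) of finite
type exactly when the composite Spec κ → Spec A → S is. -/
theorem result (S : Scheme.{u}) (A : Type u) [CommRing A] [IsArtinianRing A] [IsLocalRing A]
    (f : Spec (CommRingCat.of A) ⟶ S) :
    LocallyOfFiniteType f ↔
      LocallyOfFiniteType (Spec.map (CommRingCat.ofHom (IsLocalRing.residue A)) ≫ f) := by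
  constructor
  · intro h
    haveI := h
    haveI : LocallyOfFiniteType (Spec.map (CommRingCat.ofHom (IsLocalRing.residue A))) :=
      (HasRingHomProperty.Spec_iff (P := @LocallyOfFiniteType)).mpr
        (RingHom.FiniteType.of_surjective _ Ideal.Quotient.mk_surjective)
    infer_instance
  · intro h
    haveI := h
    have hpt : ∀ q : Spec (CommRingCat.of A), q = IsLocalRing.closedPoint A := by
      intro q
      exact @Subsingleton.elim (PrimeSpectrum A) inferInstance q (IsLocalRing.closedPoint A)
    obtain ⟨U, hU, huU⟩ : ∃ U : S.Opens, IsAffineOpen U ∧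
        f.base (IsLocalRing.closedPoint A) ∈ U := by
      obtain ⟨U, hU, huU, -⟩ := TopologicalSpace.Opens.isBasis_iff_nbhd.mp S.isBasis_affineOpens
        (show f.base (IsLocalRing.closedPoint A) ∈ (⊤ : S.Opens) from trivial)
      exact ⟨U, hU, huU⟩
    have hrange : Set.range f.base ⊆ Set.range U.ι.base := by
      rintro _ ⟨q, rfl⟩
      rw [hpt q, Scheme.Opens.range_ι]
      exact huU
    have hf' : IsOpenImmersion.lift U.ι f hrange ≫ U.ι = f := IsOpenImmersion.lift_fac _ _ _
    haveI : IsAffine U.toScheme := hU
    haveI : LocallyOfFiniteType ((Spec.map (CommRingCat.ofHom (IsLocalRing.residue A)) ≫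
        IsOpenImmersion.lift U.ι f hrange) ≫ U.ι) := by
      rw [Category.assoc, hf']; exact h
    haveI : LocallyOfFiniteType (Spec.map (CommRingCat.ofHom (IsLocalRing.residue A)) ≫
        IsOpenImmersion.lift U.ι f hrange) := locallyOfFiniteType_of_comp _ U.ι
    have h1 : ((Spec.map (CommRingCat.ofHom (IsLocalRing.residue A)) ≫
        IsOpenImmersion.lift U.ι f hrange).appTop).hom.FiniteType :=
      (HasRingHomProperty.iff_of_isAffine (P := @LocallyOfFiniteType)).mp inferInstance
    rw [Scheme.Hom.comp_appTop, CommRingCat.hom_comp] at h1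
    -- naturality
    have hnat : ∀ x : Γ(Spec (CommRingCat.of A), ⊤),
        (Scheme.ΓSpecIso (CommRingCat.of (IsLocalRing.ResidueField A))).hom.hom
          ((Spec.map (CommRingCat.ofHom (IsLocalRing.residue A))).appTop.hom x) =
        IsLocalRing.residue A ((Scheme.ΓSpecIso (CommRingCat.of A)).hom.hom x) := by
      intro x
      exact congrArg (fun g => g.hom x)
        (Scheme.ΓSpecIso_naturality (CommRingCat.ofHom (IsLocalRing.residue A)))
    let eA := (Scheme.ΓSpecIso (CommRingCat.of A)).commRingCatIsoToRingEquiv
    let eκ := (Scheme.ΓSpecIso (CommRingCat.of (IsLocalRing.ResidueField A))).commRingCatIsoToRingEquiv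
    have hnat' : ∀ x, eκ ((Spec.map (CommRingCat.ofHom (IsLocalRing.residue A))).appTop.hom x) =
        IsLocalRing.residue A (eA x) := hnat
    have hsurj : Function.Surjective
        ((Spec.map (CommRingCat.ofHom (IsLocalRing.residue A))).appTop.hom) := by
      intro z
      obtain ⟨a, ha⟩ := IsLocalRing.residue_surjective (eκ z)
      refine ⟨eA.symm a, eκ.injective ?_⟩
      rw [hnat', RingEquiv.apply_symm_apply, ha]
    have hnil : RingHom.ker ((Spec.map (CommRingCat.ofHom (IsLocalRing.residue A))).appTop.hom) ≤
        nilradical _ := by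
      intro x hx
      rw [RingHom.mem_ker] at hx
      have h3 : IsLocalRing.residue A (eA x) = 0 := by rw [← hnat', hx, map_zero]
      have h4 : eA x ∈ IsLocalRing.maximalIdeal A := (IsLocalRing.residue_eq_zero_iff _).mp h3
      rw [← IsLocalRing.jacobson_eq_maximalIdeal ⊥ bot_ne_top,
        IsArtinianRing.jacobson_eq_radical, Ideal.mem_radical_iff] at h4
      obtain ⟨n, hn⟩ := h4
      rw [Ideal.mem_bot] at hn
      rw [mem_nilradical]
      refine ⟨n, ?_⟩
      apply eA.injective
      rw [map_pow, hn, map_zero]
    haveI : IsNoetherianRing Γ(Spec (CommRingCat.of A), ⊤) :=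
      isNoetherianRing_of_ringEquiv A eA.symm
    have hfg : (RingHom.ker
        ((Spec.map (CommRingCat.ofHom (IsLocalRing.residue A))).appTop.hom)).FG :=
      IsNoetherian.noetherian _
    have h2 : ((IsOpenImmersion.lift U.ι f hrange).appTop).hom.FiniteType :=
      AL2 _ _ hsurj hnil hfg h1
    haveI : LocallyOfFiniteType (IsOpenImmersion.lift U.ι f hrange) :=
      (HasRingHomProperty.iff_of_isAffine (P := @LocallyOfFiniteType)).mpr h2
    rw [← hf']
    infer_instance

end Groth.Agent.S9338
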