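import Groth.Statements.S9340
import Groth.Agent.Lib.Lead.FtPts
-- import your own Groth.Agent.* helpers here

set_option autoImplicit false
universe u
open FtPts

namespace Groth.Agent.S9340

open AlgebraicGeometry CategoryTheory in
/-- A surjective morphism locally of finite type maps the set of finite type points of the source onto
the set of finite type points of the target. -/
theorem result {T S : Scheme.{u}} (f : T ⟶ S) [LocallyOfFiniteType f] [Surjective f] :
    f.base '' {t : ↑T | LocallyOfFiniteType (T.fromSpecResidueField t)} =
      {s : ↑S | LocallyOfFiniteType (S.fromSpecResidueField s)} := by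
  apply Set.Subset.antisymm
  · rintro _ ⟨t, ht, rfl⟩
    exact Groth.Agent.Lead.ftpt_image f t ht
  · intro s hs
    obtain ⟨t, ht, hts⟩ := Groth.Agent.Lead.ftpt_exists_preimage f s hs
    exact ⟨t, ht, hts⟩

end Groth.Agent.S9340
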