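import Groth.Statements.S9343
import Groth.Agent.Lib.Lead.QcClosure
-- import your own Groth.Agent.* helpers here

set_option autoImplicit false
universe u
open Dom

namespace Groth.Agent.S9343

open AlgebraicGeometry CategoryTheory in
/-- The base change of a quasi-compact dominant morphism f : X → S along a morphism g : S' → S along
which generalizations lift is dominant. -/
theorem result {X S X' S' : Scheme.{u}} (f : X ⟶ S) [QuasiCompact f] [IsDominant f]
    (g : S' ⟶ S) (g' : X' ⟶ X) (f' : X' ⟶ S') (hsq : IsPullback g' f' f g) (hg : GeneralizingMap g.base) :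
    IsDominant f' := by
  constructor
  have h1 : Set.range f'.base = g.base ⁻¹' Set.range f.base := by
    have := Scheme.image_preimage_eq_of_isPullback hsq Set.univ
    simpa [Set.image_univ] using this
  show Dense (Set.range f'.base)
  rw [h1]
  intro s'
  have hs : g.base s' ∈ closure (Set.range f.base) := f.denseRange (g.base s')
  obtain ⟨x, hx⟩ := Groth.Agent.Lead.exists_specializes_of_mem_closure_range f _ hs
  obtain ⟨t', ht', hgt⟩ := hg hx
  have hmem : t' ∈ g.base ⁻¹' Set.range f.base := ⟨x, hgt.symm⟩
  exact closure_mono (Set.singleton_subset_iff.mpr hmem) (specializes_iff_mem_closure.mp ht')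

end Groth.Agent.S9343
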