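import Groth.Statements.S9345
import Mathlib
-- import your own Groth.Agent.* helpers here

set_option autoImplicit false
universe u
open Dom

namespace Groth.Agent.S9345

open AlgebraicGeometry CategoryTheory in
/-- For a morphism f : X → S whose source has only finitely many irreducible components, the image of f
is dense exactly when it contains the generic point of each irreducible component of S, and then S
too has finitely many. -/
theorem result {X S : Scheme.{u}} (f : X ⟶ S)
    (hX : (irreducibleComponents (↑X : Type u)).Finite) :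
    (IsDominant f ↔ ∀ s : ↑S, closure {s} ∈ irreducibleComponents (↑S : Type u) → s ∈ Set.range f.base) ∧
      (IsDominant f → (irreducibleComponents (↑S : Type u)).Finite) := by
  classical
  have hXcov : ∀ x : X, ∃ Z ∈ irreducibleComponents X, x ∈ Z := fun x =>
    ⟨irreducibleComponent x, irreducibleComponent_mem_irreducibleComponents x,
      mem_irreducibleComponent⟩
  set T : Set (Set S) := (fun Z => closure (f.base '' Z)) '' irreducibleComponents X with hT
  have hTfin : T.Finite := hX.image _
  have hTcl : ∀ W ∈ T, IsClosed W := by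
    rintro _ ⟨Z, _, rfl⟩; exact isClosed_closure
  have hTirr : ∀ W ∈ T, IsIrreducible W := by
    rintro _ ⟨Z, hZ, rfl⟩
    exact (hZ.1.image f.base f.base.hom.continuous.continuousOn).closure
  have hTrange : ∀ W ∈ T, ∃ x : X, closure {f.base x} = W := by
    rintro _ ⟨Z, hZ, rfl⟩
    have hZc := isClosed_of_mem_irreducibleComponents Z hZ
    have hξ : IsGenericPoint hZ.1.genericPoint Z := hZ.1.isGenericPoint_genericPoint hZc
    exact ⟨hZ.1.genericPoint, (hξ.image f.base.hom.continuous).def⟩
  have hclosure : closure (Set.range f.base) = ⋃₀ T := by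
    apply subset_antisymm
    · apply closure_minimal
      · rintro _ ⟨x, rfl⟩
        obtain ⟨Z, hZ, hxZ⟩ := hXcov x
        exact ⟨_, ⟨Z, hZ, rfl⟩, subset_closure ⟨x, hxZ, rfl⟩⟩
      · rw [Set.sUnion_eq_biUnion]; exact hTfin.isClosed_biUnion hTcl
    · rintro s ⟨_, ⟨Z, hZ, rfl⟩, hs⟩
      exact closure_mono (Set.image_subset_range _ _) hs
  have huniv : IsDominant f → ⋃₀ T = Set.univ := by
    intro hdom
    rw [← hclosure]
    exact hdom.denseRange.closure_eq
  have hsel : IsDominant f → ∀ Z : Set S, IsIrreducible Z → ∃ W ∈ T, Z ⊆ W := by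
    intro hdom Z hZ
    obtain ⟨W, hWT, hZW⟩ := isIrreducible_iff_sUnion_isClosed.mp hZ hTfin.toFinset
      (fun W hW => hTcl W (hTfin.mem_toFinset.mp hW))
      (by rw [hTfin.coe_toFinset, huniv hdom]; exact Set.subset_univ _)
    exact ⟨W, hTfin.mem_toFinset.mp hWT, hZW⟩
  have key1 : IsDominant f → ∀ s : S, closure {s} ∈ irreducibleComponents S →
      s ∈ Set.range f.base := by
    intro hdom s hs
    obtain ⟨W, hWT, hsW⟩ := hsel hdom _ hs.1
    have hWeq : W = closure {s} := Set.Subset.antisymm (hs.2 (hTirr W hWT) hsW) hsW
    obtain ⟨x, hx⟩ := hTrange W hWT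
    have h1 : IsGenericPoint (f.base x) (closure {s}) := by
      rw [← hWeq]; exact hx
    exact ⟨x, h1.eq isGenericPoint_closure⟩
  refine ⟨⟨key1, ?_⟩, ?_⟩
  · intro h
    constructor
    show Dense (Set.range f.base)
    intro s
    have hZ := irreducibleComponent_mem_irreducibleComponents s
    have hZc : IsClosed (irreducibleComponent s) := isClosed_irreducibleComponent
    have hη : IsGenericPoint hZ.1.genericPoint (irreducibleComponent s) :=
      hZ.1.isGenericPoint_genericPoint hZc
    have hmem : hZ.1.genericPoint ∈ Set.range f.base := h _ (by rw [hη.def]; exact hZ)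
    have : s ∈ closure {hZ.1.genericPoint} := by rw [hη.def]; exact mem_irreducibleComponent
    exact closure_mono (Set.singleton_subset_iff.mpr hmem) this
  · intro hdom
    apply hTfin.subset
    intro Z hZ
    obtain ⟨W, hWT, hZW⟩ := hsel hdom Z hZ.1
    rw [Set.Subset.antisymm hZW (hZ.2 (hTirr W hWT) hZW)]
    exact hWT

end Groth.Agent.S9345
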