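import Groth.Statements.S9346
import Mathlib
import Groth.Agent.S10887

set_option autoImplicit false
universe u
open Dom

namespace Groth.Agent.S9346

open AlgebraicGeometry CategoryTheory Limits in
lemma isUnit_of_generic {Y : Scheme.{u}} [IsIntegral Y] (y : Y) (hy : y = genericPoint Y)
    (b : Y.presheaf.stalk y) (hb : b ≠ 0) : IsUnit b := by
  subst hy
  exact (show (b : Y.functionField) ≠ 0 from hb).isUnit

open AlgebraicGeometry CategoryTheory in
/-- For a morphism f : X → Y between integral schemes, these six conditions coincide: (1) f is dominant;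
(2) f sends the generic point of X to that of Y; (3) there exist affine opens U ⊆ X, V ⊆ Y with U
nonempty and U ⊆ f⁻¹V such that the induced ring map on sections is injective; (4) the same for all
such pairs; (5) for some x ∈ X the map of local rings O_{Y,f x} → O_{X,x} is injective; (6) the same
for all x. -/
theorem result {X Y : Scheme.{u}} [AlgebraicGeometry.IsIntegral X] [AlgebraicGeometry.IsIntegral Y] (f : X ⟶ Y) :
    [IsDominant f,
      f.base (genericPoint ↑X) = genericPoint ↑Y,
      ∃ (U : X.Opens) (V : Y.Opens) (hUV : U ≤ f ⁻¹ᵁ V), IsAffineOpen U ∧ IsAffineOpen V ∧ (U : Set ↑X).Nonempty ∧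
        Function.Injective (f.appLE V U hUV),
      ∀ (U : X.Opens) (V : Y.Opens) (hUV : U ≤ f ⁻¹ᵁ V), IsAffineOpen U → IsAffineOpen V → (U : Set ↑X).Nonempty →
        Function.Injective (f.appLE V U hUV),
      ∃ x : ↑X, Function.Injective (f.stalkMap x),
      ∀ x : ↑X, Function.Injective (f.stalkMap x)].TFAE := by
  have hηX : ∀ x : X, genericPoint X ⤳ x :=
    fun x => (genericPoint_spec X).specializes (Set.mem_univ x)
  have hηY : ∀ y : Y, genericPoint Y ⤳ y :=
    fun y => (genericPoint_spec Y).specializes (Set.mem_univ y)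
  have hzero : ∀ c : X.presheaf.stalk (genericPoint X), ¬ IsUnit c → c = 0 := by
    intro c hc
    by_contra h0
    exact hc (isUnit_of_generic _ rfl c h0)
  have hspinj : ∀ x : X, Function.Injective (X.presheaf.stalkSpecializes (hηX x)).hom := by
    intro x
    have e : (X.presheaf.stalkSpecializes (hηX x)).hom =
        algebraMap (X.presheaf.stalk x) X.functionField := rfl
    rw [e]; exact IsFractionRing.injective _ _
  have hgerm : ∀ (U : X.Opens) (V : Y.Opens) (hUV : U ≤ f ⁻¹ᵁ V) (hηU : genericPoint X ∈ U)
      (s : Γ(Y, V)),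
      f.stalkMap (genericPoint X) (Y.presheaf.germ V (f (genericPoint X)) (hUV hηU) s) =
        X.presheaf.germ U (genericPoint X) hηU (f.appLE V U hUV s) := by
    intro U V hUV hηU s
    rw [Scheme.Hom.germ_stalkMap_apply, Scheme.Hom.appLE, CommRingCat.comp_apply,
      TopCat.Presheaf.germ_res_apply]
  have hmemgen : ∀ (U : X.Opens), (U : Set X).Nonempty → genericPoint X ∈ U := by
    intro U hne
    exact ((genericPoint_spec X).mem_open_set_iff U.2).mpr (by simpa using hne)
  tfae_have 1 ↔ 2 := by
    constructor
    · intro h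
      have hd : DenseRange f.base := h.denseRange
      have h1 : Set.range f.base ⊆ closure {f.base (genericPoint X)} := by
        rintro _ ⟨x, rfl⟩
        exact specializes_iff_mem_closure.mp ((hηX x).map f.continuous)
      have h2 : closure {f.base (genericPoint X)} = Set.univ := by
        apply Set.eq_univ_of_univ_subset
        rw [← hd.closure_range]
        exact closure_minimal h1 isClosed_closure
      have h3 : IsGenericPoint (f.base (genericPoint X)) (Set.univ : Set Y) := h2
      have h4 : IsGenericPoint (genericPoint Y) (Set.univ : Set Y) := genericPoint_spec Y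
      exact h3.eq h4
    · intro h
      refine ⟨?_⟩
      have hd : Dense ({genericPoint Y} : Set Y) :=
        dense_iff_closure_eq.mpr (genericPoint_spec Y).def
      exact hd.mono (Set.singleton_subset_iff.mpr ⟨genericPoint X, h⟩)
  tfae_have 2 → 6 := by
    intro h x
    show Function.Injective (f.stalkMap x).hom
    rw [injective_iff_map_eq_zero]
    intro a ha
    by_contra ha0
    have h1 : IsUnit ((Y.presheaf.stalkSpecializes
        (f.base.hom.map_specializes (hηX x))).hom a) :=
      Groth.Agent.S10887.isUnit_stalkSpecializes (f x) (f (genericPoint X)) h _ a ha0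
    have h2 : (f.stalkMap (genericPoint X)).hom ((Y.presheaf.stalkSpecializes
        (f.base.hom.map_specializes (hηX x))).hom a) =
        (X.presheaf.stalkSpecializes (hηX x)).hom ((f.stalkMap x).hom a) :=
      Scheme.Hom.stalkSpecializes_stalkMap_apply f (genericPoint X) x (hηX x) a
    have h3 := h1.map (f.stalkMap (genericPoint X)).hom
    rw [h2, ha, map_zero] at h3
    exact not_isUnit_zero h3
  tfae_have 6 → 5 := fun h => ⟨genericPoint X, h _⟩
  tfae_have 5 → 2 := by
    rintro ⟨x, hinj⟩
    have hinj' : Function.Injective (f.stalkMap x).hom := hinj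
    have hsp0 : f (genericPoint X) ⤳ f x := f.base.hom.map_specializes (hηX x)
    obtain ⟨q, hq⟩ : ∃ q, (Y.fromSpecStalk (f x)) q = f (genericPoint X) := by
      have : f (genericPoint X) ∈ Set.range (Y.fromSpecStalk (f x)) := by
        rw [Scheme.range_fromSpecStalk]; exact hsp0
      exact this
    obtain ⟨q', hq'⟩ : ∃ q', (Y.fromSpecStalk (f x)) q' = genericPoint Y := by
      have : genericPoint Y ∈ Set.range (Y.fromSpecStalk (f x)) := by
        rw [Scheme.range_fromSpecStalk]; exact hηY _
      exact this
    have hq0 : q.asIdeal = ⊥ := by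
      rw [eq_bot_iff]
      intro a ha
      rw [Groth.Agent.S2852.mem_asIdeal_iff hsp0 q hq a] at ha
      have h1 : ¬ IsUnit ((f.stalkMap (genericPoint X)).hom
          ((Y.presheaf.stalkSpecializes hsp0).hom a)) := by
        intro hu
        exact ha (isUnit_of_map_unit (f.stalkMap (genericPoint X)).hom _ hu)
      have h2 := hzero _ h1
      have h3 : (f.stalkMap (genericPoint X)).hom ((Y.presheaf.stalkSpecializes hsp0).hom a) =
          (X.presheaf.stalkSpecializes (hηX x)).hom ((f.stalkMap x).hom a) :=
        Scheme.Hom.stalkSpecializes_stalkMap_apply f (genericPoint X) x (hηX x) a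
      rw [h3] at h2
      have h4 : (f.stalkMap x).hom a = 0 := hspinj x (by rw [h2, map_zero])
      rw [Ideal.mem_bot]
      exact hinj' (by rw [h4, map_zero])
    have hle : q ⤳ q' := (PrimeSpectrum.le_iff_specializes q q').mp
      (show q.asIdeal ≤ q'.asIdeal by rw [hq0]; exact bot_le)
    have h5 : f (genericPoint X) ⤳ genericPoint Y := by
      have := hle.map (Y.fromSpecStalk (f x)).continuous
      rwa [hq, hq'] at this
    exact (h5.antisymm (hηY _)).eq
  tfae_have 2 → 4 := by
    intro h U V hUV hU hV hne
    show Function.Injective (f.appLE V U hUV).hom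
    rw [injective_iff_map_eq_zero]
    intro s hs
    have hηU : genericPoint X ∈ U := hmemgen U hne
    have h1 : (f.stalkMap (genericPoint X)).hom
        ((Y.presheaf.germ V (f (genericPoint X)) (hUV hηU)).hom s) =
        (X.presheaf.germ U (genericPoint X) hηU).hom ((f.appLE V U hUV).hom s) :=
      hgerm U V hUV hηU s
    rw [hs, map_zero] at h1
    have h2 : (Y.presheaf.germ V (f (genericPoint X)) (hUV hηU)).hom s = 0 := by
      by_contra h0
      have h3 := (isUnit_of_generic _ h _ h0).map (f.stalkMap (genericPoint X)).hom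
      rw [h1] at h3
      exact not_isUnit_zero h3
    exact germ_injective_of_isIntegral Y _ (hUV hηU) (by rw [h2, map_zero])
  tfae_have 4 → 3 := by
    intro h
    obtain ⟨V, hV, hxV⟩ : ∃ V : Y.Opens, IsAffineOpen V ∧ f (genericPoint X) ∈ V := by
      obtain ⟨_, ⟨V, hV, rfl⟩, hxV, -⟩ := Y.isBasis_affineOpens.exists_subset_of_mem_open
        (Set.mem_univ (f (genericPoint X))) isOpen_univ
      exact ⟨V, hV, hxV⟩
    obtain ⟨U, hU, hxU, hsub⟩ :=
      exists_isAffineOpen_mem_and_subset (x := genericPoint X) (U := f ⁻¹ᵁ V) hxV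
    have hUV : U ≤ f ⁻¹ᵁ V := hsub
    exact ⟨U, V, hUV, hU, hV, ⟨_, hxU⟩, h U V hUV hU hV ⟨_, hxU⟩⟩
  tfae_have 3 → 2 := by
    rintro ⟨U, V, hUV, hU, hV, hne, hinj⟩
    have hinj' : Function.Injective (f.appLE V U hUV).hom := hinj
    have hηU : genericPoint X ∈ U := hmemgen U hne
    have hηV : f (genericPoint X) ∈ V := hUV hηU
    have hηYV : genericPoint Y ∈ V :=
      ((genericPoint_spec Y).mem_open_set_iff V.2).mpr ⟨_, trivial, hηV⟩
    have hq : hV.fromSpec (hV.primeIdealOf ⟨f (genericPoint X), hηV⟩) = f (genericPoint X) :=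
      hV.fromSpec_primeIdealOf ⟨f (genericPoint X), hηV⟩
    have hq' : hV.fromSpec (hV.primeIdealOf ⟨genericPoint Y, hηYV⟩) = genericPoint Y :=
      hV.fromSpec_primeIdealOf ⟨genericPoint Y, hηYV⟩
    have hq0 : (hV.primeIdealOf ⟨f (genericPoint X), hηV⟩).asIdeal = ⊥ := by
      rw [eq_bot_iff]
      intro s hs
      rw [hV.primeIdealOf_eq_map_closedPoint] at hs
      have hs' : ¬ IsUnit ((Y.presheaf.germ V (f (genericPoint X)) hηV).hom s) := by
        have h0 : (Y.presheaf.germ V (f (genericPoint X)) hηV).hom s ∈
            IsLocalRing.maximalIdeal (Y.presheaf.stalk (f (genericPoint X))) := hs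
        rwa [IsLocalRing.mem_maximalIdeal, mem_nonunits_iff] at h0
      have h1 : ¬ IsUnit ((f.stalkMap (genericPoint X)).hom
          ((Y.presheaf.germ V (f (genericPoint X)) hηV).hom s)) := by
        intro hu
        exact hs' (isUnit_of_map_unit (f.stalkMap (genericPoint X)).hom _ hu)
      have h2 := hzero _ h1
      have h3 : (f.stalkMap (genericPoint X)).hom
          ((Y.presheaf.germ V (f (genericPoint X)) hηV).hom s) =
          (X.presheaf.germ U (genericPoint X) hηU).hom ((f.appLE V U hUV).hom s) :=
        hgerm U V hUV hηU s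
      rw [h3] at h2
      have h4 : (f.appLE V U hUV).hom s = 0 :=
        germ_injective_of_isIntegral X _ hηU (by rw [h2, map_zero])
      rw [Ideal.mem_bot]
      exact hinj' (by rw [h4, map_zero])
    have hle : hV.primeIdealOf ⟨f (genericPoint X), hηV⟩ ⤳ hV.primeIdealOf ⟨genericPoint Y, hηYV⟩ :=
      (PrimeSpectrum.le_iff_specializes _ _).mp
        (show (hV.primeIdealOf ⟨f (genericPoint X), hηV⟩).asIdeal ≤
          (hV.primeIdealOf ⟨genericPoint Y, hηYV⟩).asIdeal by rw [hq0]; exact bot_le)
    have h5 : f (genericPoint X) ⤳ genericPoint Y := by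
      have := hle.map hV.fromSpec.continuous
      rwa [hq, hq'] at this
    exact (h5.antisymm (hηY _)).eq
  tfae_finish

end Groth.Agent.S9346
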