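import Groth.Statements.S9348
import Mathlib
-- import your own Groth.Agent.* helpers here

set_option autoImplicit false
universe u
open Dom

namespace Groth.Agent.S9348

open AlgebraicGeometry CategoryTheory in
/-- Let f : X → Y be a morphism and g : Y' → Y open and surjective. If the base change f' : X ×_Y Y' →
Y' of f is quasi-compact, then so is f. -/
theorem result {X Y X' Y' : Scheme.{u}} (f : X ⟶ Y) (g : Y' ⟶ Y) [Surjective g]
    (hg : IsOpenMap g.base) (g' : X' ⟶ X) (f' : X' ⟶ Y') (hsq : IsPullback g' f' f g) [QuasiCompact f'] :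
    QuasiCompact f := by
  constructor
  intro U hUo hUc
  have hex : ∀ y' : Y', g.base y' ∈ U → ∃ W : Y'.Opens, IsCompact (W : Set Y') ∧ y' ∈ W ∧
      (W : Set Y') ⊆ g.base ⁻¹' U := by
    intro y' hy'
    obtain ⟨W, hW, hyW, hWU⟩ := TopologicalSpace.Opens.isBasis_iff_nbhd.mp Y'.isBasis_affineOpens
      (U := ⟨g.base ⁻¹' U, hUo.preimage g.base.hom.continuous⟩) hy'
    exact ⟨W, (show IsAffineOpen W from hW).isCompact, hyW, hWU⟩
  choose! W hWc hWm hWs using hex
  obtain ⟨t, ht⟩ := hUc.elim_finite_subcover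
    (fun y' : {y' : Y' // g.base y' ∈ U} => g.base '' (W y'.1 : Set Y'))
    (fun y' => hg _ (W y'.1).2) (by
      intro u hu
      obtain ⟨y', rfl⟩ := g.surjective u
      exact Set.mem_iUnion.mpr ⟨⟨y', hu⟩, ⟨y', hWm y' hu, rfl⟩⟩)
  set K : Set Y' := ⋃ y' ∈ t, (W y'.1 : Set Y') with hKdef
  have hK : IsCompact K := t.finite_toSet.isCompact_biUnion (fun y' _ => hWc y'.1 y'.2)
  have hKo : IsOpen K := isOpen_biUnion (fun y' _ => (W y'.1).2)
  have hgK : g.base '' K = U := by
    apply subset_antisymm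
    · rintro _ ⟨k, hk, rfl⟩
      simp only [hKdef, Set.mem_iUnion] at hk
      obtain ⟨y', _, hk⟩ := hk
      exact hWs y'.1 y'.2 hk
    · intro u hu
      have := ht hu
      simp only [Set.mem_iUnion] at this
      obtain ⟨y', hy't, k, hk, rfl⟩ := this
      exact ⟨k, Set.mem_biUnion hy't hk, rfl⟩
  have hc : IsCompact (f'.base ⁻¹' K) := QuasiCompact.isCompact_preimage K hKo hK
  have := Scheme.image_preimage_eq_of_isPullback hsq.flip K
  rw [hgK] at this
  rw [← this]
  exact hc.image g'.base.hom.continuous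

end Groth.Agent.S9348
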