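import Groth.Statements.S9356
import Mathlib

set_option autoImplicit false
universe u
open FibDim

namespace Groth.Agent.S9356

section Helpers
open AlgebraicGeometry CategoryTheory

theorem main {X S : Scheme.{u}} (f : X ⟶ S) [LocallyOfFiniteType f] (s : S)
    (x x' : ↑(f.fiber s)) (hsp : x ⤳ x') (hne : x ≠ x') :
    FlatMor.localDim ↑(f.fiber s) x ≤ FlatMor.localDim ↑(f.fiber s) x' ∧
      ringKrullDim ((f.fiber s).presheaf.stalk x) <
        ringKrullDim ((f.fiber s).presheaf.stalk x') := by
  constructor
  · unfold FlatMor.localDim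
    apply le_iInf
    intro U
    exact iInf_le (fun U : {U : TopologicalSpace.Opens ↑(f.fiber s) // x ∈ U} =>
      topologicalKrullDim (U.1 : Set ↑(f.fiber s))) ⟨U.1, hsp.mem_open U.1.isOpen U.2⟩
  · haveI : LocallyOfFiniteType (f.fiberToSpecResidueField s) :=
      MorphismProperty.pullback_snd _ _ inferInstance
    haveI : IsLocallyNoetherian (f.fiber s) :=
      LocallyOfFiniteType.isLocallyNoetherian (f.fiberToSpecResidueField s)
    have hfin : ringKrullDim ((f.fiber s).presheaf.stalk x) ≠ ⊤ := ringKrullDim_ne_top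
    rw [ringKrullDim_stalk_eq_coheight] at hfin ⊢
    rw [ringKrullDim_stalk_eq_coheight]
    have hlt : x' < x := by
      rw [lt_iff_le_not_ge]
      exact ⟨hsp, fun h => hne (hsp.antisymm h).eq⟩
    have h1 := Order.coheight_add_one_le hlt
    have h2 : Order.coheight x ≠ ⊤ := fun h => hfin (by rw [h]; rfl)
    exact WithBot.coe_lt_coe.mpr ((ENat.add_one_le_iff h2).mp h1)

end Helpers

open AlgebraicGeometry CategoryTheory in
/-- Let f : X → S be locally of finite type and x ⤳ x' a nontrivial specialization of points of the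
fibre X_s. Then dim_x(X_s) ≤ dim_{x'}(X_s) and dim O_{X_s,x} < dim O_{X_s,x'}. (The assertion on
transcendence degrees of residue fields is a separate statement.) -/
theorem result {X S : Scheme.{u}} (f : X ⟶ S) [LocallyOfFiniteType f] (s : S)
    (x x' : ↑(f.fiber s)) (hsp : x ⤳ x') (hne : x ≠ x') :
    FlatMor.localDim ↑(f.fiber s) x ≤ FlatMor.localDim ↑(f.fiber s) x' ∧
      ringKrullDim ((f.fiber s).presheaf.stalk x) < ringKrullDim ((f.fiber s).presheaf.stalk x') := by
  exact main f s x x' hsp hne

end Groth.Agent.S9356
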