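import Groth.Statements.S9360
import Mathlib

set_option autoImplicit false
universe u
open SchDense

namespace Groth.Agent.S9360

open AlgebraicGeometry CategoryTheory TopologicalSpace in
theorem vanishing_le_ker (X : Scheme.{u}) (U : X.Opens) [IsReduced (↑U : Scheme.{u})] :
    Scheme.IdealSheafData.vanishingIdeal (⟨closure (U : Set X), isClosed_closure⟩ : Closeds X) ≤
      U.ι.ker := by
  apply Scheme.IdealSheafData.le_ofIdeals_iff.mpr
  intro V s hs
  rw [Scheme.IdealSheafData.vanishingIdeal_ideal] at hs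
  rw [RingHom.mem_ker]
  apply AlgebraicGeometry.eq_zero_of_basicOpen_eq_bot
  rw [← Scheme.preimage_basicOpen]
  ext u
  simp only [Scheme.Hom.mem_preimage, Opens.coe_bot, Set.mem_empty_iff_false, iff_false,
    SetLike.mem_coe]
  intro hu
  have hxV : U.ι u ∈ V.1 := X.basicOpen_le s hu
  have hfs : V.2.fromSpec (V.2.primeIdealOf ⟨U.ι u, hxV⟩) = U.ι u := V.2.fromSpec_primeIdealOf ⟨_, hxV⟩
  have hp : V.2.primeIdealOf ⟨U.ι u, hxV⟩ ∈ V.2.fromSpec ⁻¹'
      ((⟨closure (U : Set X), isClosed_closure⟩ : Closeds X) : Set X) := by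
    show V.2.fromSpec (V.2.primeIdealOf ⟨U.ι u, hxV⟩) ∈ closure (U : Set X)
    rw [hfs]
    exact subset_closure u.2
  have h1 : s ∈ (V.2.primeIdealOf ⟨U.ι u, hxV⟩).asIdeal :=
    (PrimeSpectrum.mem_vanishingIdeal _ _).mp hs _ hp
  have h2 : V.2.primeIdealOf ⟨U.ι u, hxV⟩ ∈ V.2.fromSpec ⁻¹ᵁ X.basicOpen s := by
    change V.2.fromSpec _ ∈ X.basicOpen s
    rw [hfs]; exact hu
  rw [V.2.fromSpec_preimage_basicOpen] at h2
  exact h2 h1

open AlgebraicGeometry CategoryTheory in
/-- Let U ⊆ X be a reduced open subscheme. Then the scheme-theoretic closure of U in X is X if and only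
if U is scheme-theoretically dense in X (for every open W the scheme-theoretic closure of U ∩ W in W
is W); and in that case X is reduced. -/
theorem result (X : Scheme.{u}) (U : X.Opens) [IsReduced (↑U : Scheme.{u})] :
    (IsSchemeTheoreticallyDominant U.ι ↔
        ∀ W : X.Opens, IsSchemeTheoreticallyDominant (X.homOfLE (inf_le_right : U ⊓ W ≤ W))) ∧
      (IsSchemeTheoreticallyDominant U.ι → IsReduced X) := by
  have hB : IsSchemeTheoreticallyDominant U.ι → IsReduced X ∧ Dense (U : Set X) := by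
    intro hstd
    have hI : Scheme.IdealSheafData.vanishingIdeal
        (⟨closure (U : Set X), isClosed_closure⟩ : TopologicalSpace.Closeds X) = ⊥ := by
      rw [← le_bot_iff, ← hstd.ker_eq_bot]
      exact vanishing_le_ker X U
    constructor
    · have hnil : X.nilradical = ⊥ := by
        rw [← le_bot_iff, ← hI, ← Scheme.IdealSheafData.vanishingIdeal_top]
        exact Scheme.IdealSheafData.vanishingIdeal_antimono le_top
      have hred : ∀ V : X.affineOpens, _root_.IsReduced Γ(X, V.1) := by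
        intro V
        rw [← nilradical_eq_bot_iff]
        have := congrArg (fun I => I.ideal V) hnil
        simpa [Scheme.nilradical, nilradical] using this
      haveI : ∀ x : X, _root_.IsReduced (X.presheaf.stalk x) := by
        intro x
        obtain ⟨_, ⟨V, hV, rfl⟩, hxV, -⟩ :=
          X.isBasis_affineOpens.exists_subset_of_mem_open (Set.mem_univ x) isOpen_univ
        letI := X.presheaf.algebra_section_stalk (U := V) ⟨x, hxV⟩
        haveI := hV.isLocalization_stalk ⟨x, hxV⟩
        haveI := hred ⟨V, hV⟩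
        exact isReduced_localizationPreserves (hV.primeIdealOf ⟨x, hxV⟩).asIdeal.primeCompl
          (X.presheaf.stalk x) inferInstance
      exact isReduced_of_isReduced_stalk X
    · have h1 := congrArg (fun I => (I.support : Set X)) hI
      simp only [Scheme.IdealSheafData.coe_support_vanishingIdeal,
        Scheme.IdealSheafData.support_bot, TopologicalSpace.Closeds.coe_top] at h1
      exact dense_iff_closure_eq.mpr h1
  refine ⟨⟨fun hstd W => ?_, fun hW => ?_⟩, fun hstd => (hB hstd).1⟩
  · obtain ⟨hred, hdense⟩ := hB hstd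
    haveI : IsDominant (X.homOfLE (inf_le_right : U ⊓ W ≤ W)) := by
      rw [isDominant_iff, DenseRange, dense_iff_inter_open]
      intro O hO hOne
      obtain ⟨O', hO', rfl⟩ := isOpen_induced_iff.mp hO
      obtain ⟨⟨w, hwW⟩, hwO⟩ := hOne
      obtain ⟨u, ⟨huO', huW⟩, huU⟩ :=
        hdense.inter_open_nonempty (O' ∩ W) (hO'.inter W.2) ⟨w, hwO, hwW⟩
      refine ⟨⟨u, huW⟩, huO', ⟨⟨u, ⟨huU, huW⟩⟩, ?_⟩⟩
      apply Subtype.ext
      exact Scheme.homOfLE_apply _ _
    exact IsSchemeTheoreticallyDominant.of_isDominant _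
  · have h1 : IsSchemeTheoreticallyDominant ((U ⊓ ⊤ : X.Opens).ι) := by
      haveI := hW ⊤
      haveI : IsIso (⊤ : X.Opens).ι := X.topIso.isIso_hom
      rw [← X.homOfLE_ι (inf_le_right : U ⊓ ⊤ ≤ ⊤)]
      infer_instance
    have h2 : (U ⊓ ⊤ : X.Opens).ι = X.homOfLE (inf_le_left : U ⊓ ⊤ ≤ U) ≫ U.ι :=
      (X.homOfLE_ι _).symm
    refine ⟨?_⟩
    rw [← le_bot_iff, ← h1.ker_eq_bot, h2]
    exact Scheme.Hom.le_ker_comp _ _

end Groth.Agent.S9360
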