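import Groth.Statements.S9361
import Mathlib
import Groth.Agent.S8850

set_option autoImplicit false
universe u
open SchImage

namespace Groth.Agent.S9361


open AlgebraicGeometry CategoryTheory in
/-- Let f : X → Y be separated, V ⊆ Y a retrocompact open and s : V → X a section of f over V. If Y' ⊆ X
is the scheme-theoretic image of s, then Y' → Y is an isomorphism over V. -/
theorem result {X Y : Scheme.{u}} (f : X ⟶ Y) [IsSeparated f] (V : Y.Opens) [QuasiCompact V.ι]
    (s : (↑V : Scheme.{u}) ⟶ X) (hs : s ≫ f = V.ι) :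
    IsIso ((s.imageι ≫ f) ∣_ V) := by
  haveI : QuasiCompact (s ≫ f) := by rw [hs]; infer_instance
  haveI : QuasiCompact s := QuasiCompact.of_comp s f
  haveI : IsSchemeTheoreticallyDominant s.toImage := ⟨Groth.Agent.S8850.ker_toImage s⟩
  haveI : IsSeparated (s.imageι ≫ f) := inferInstance
  have hp : s.toImage ≫ (s.imageι ≫ f) = V.ι := by
    rw [← Category.assoc, Scheme.Hom.toImage_imageι, hs]
  exact (Groth.Agent.S8850.aux (Y := Y) V (s.imageι ≫ f) s.toImage hp).1

end Groth.Agent.S9361
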