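import Groth.Statements.S9366
import Groth.Agent.S2143
import Groth.Agent.H29.GCILoc
import Groth.Agent.H29.FibreLocal
import Groth.Agent.H29.RelGCIFibre

set_option autoImplicit false
universe u
open Synt

namespace Groth.Agent.S9366


open TensorProduct in
/-- The spectrum of a nonzero global complete intersection of dimension `n - c` over a field has
local dimension `n - c` at every point. -/
theorem localDim_of_gci (K B : Type u) [Field K] [CommRing B] [Algebra K B] {n c : ℕ}
    (hcn : c ≤ n) (φ : MvPolynomial (Fin n) K →ₐ[K] B) (r : Fin c → MvPolynomial (Fin n) K)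
    (hφ : Function.Surjective φ) (hker : RingHom.ker φ.toRingHom = Ideal.span (Set.range r))
    (hdim : ringKrullDim B = ((n - c : ℕ) : WithBot ℕ∞)) (q : PrimeSpectrum B) :
    FlatMor.localDim (PrimeSpectrum B) q = ((n - c : ℕ) : WithBot ℕ∞) := by
  haveI : Algebra.FiniteType K B := Algebra.FiniteType.of_surjective φ hφ
  have h := Groth.Agent.S2143.result (k := K) (S := B) q.asIdeal
  have hq : (⟨q.asIdeal, inferInstance⟩ : PrimeSpectrum B) = q := rfl
  rw [hq] at h
  rw [h]
  obtain ⟨m, hm, hqm⟩ := Ideal.exists_le_maximal q.asIdeal q.2.ne_top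
  haveI : Nonempty {m : Ideal B // m.IsMaximal ∧ q.asIdeal ≤ m} := ⟨⟨m, hm, hqm⟩⟩
  refine Eq.trans (iInf_congr fun m => ?_) ciInf_const
  haveI := m.2.1
  haveI : m.1.IsPrime := m.2.1.isPrime
  rw [IsLocalization.AtPrime.ringKrullDim_eq_height m.1]
  rw [Groth.Agent.H29.GCI.gci_maximal_height (k := K) hcn φ r hφ hker hdim m.1]
  rfl

open AlgebraicGeometry CategoryTheory in
/-- For a relative global complete intersection R → A = R[x_1, …, x_n]/(F_1, …, F_c) and f : Spec A →
Spec R, the function x ↦ dim_x(X_{f x}) is constant with value n − c. -/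
theorem result (R : Type u) [CommRing R] (n c : ℕ) (F : Fin c → MvPolynomial (Fin n) R)
    (hF : Synt.IsRelGCI R n c F) (x : ↑(Spec (CommRingCat.of (Synt.RelGCIRing R n c F)))) :
    FlatMor.fibreDimAt (Spec.map (CommRingCat.ofHom (algebraMap R (Synt.RelGCIRing R n c F)))) x =
      ((n - c : ℕ) : WithBot ℕ∞) := by
  rw [Groth.Agent.H29.FibreLocal.fibreDimAt_eq_localDim_preimage]
  let p : PrimeSpectrum R :=
    PrimeSpectrum.comap (algebraMap R (Synt.RelGCIRing R n c F)) x
  let h := PrimeSpectrum.preimageHomeomorphFiber R (Synt.RelGCIRing R n c F) p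
  have hx : (x : PrimeSpectrum (Synt.RelGCIRing R n c F)) ∈
      PrimeSpectrum.comap (algebraMap R (Synt.RelGCIRing R n c F)) ⁻¹' {p} := rfl
  have h1 := Groth.Agent.H29.FibreLocal.localDim_of_isOpenEmbedding h h.isOpenEmbedding ⟨x, hx⟩
  have hfun : ∀ y : PrimeSpectrum (Synt.RelGCIRing R n c F),
      (Spec.map (CommRingCat.ofHom (algebraMap R (Synt.RelGCIRing R n c F)))) y =
        PrimeSpectrum.comap (algebraMap R (Synt.RelGCIRing R n c F)) y := fun y => rfl
  have hset : ((Spec.map (CommRingCat.ofHom (algebraMap R (Synt.RelGCIRing R n c F)))) ⁻¹'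
      {(Spec.map (CommRingCat.ofHom (algebraMap R (Synt.RelGCIRing R n c F)))) x} :
        Set (PrimeSpectrum (Synt.RelGCIRing R n c F))) =
      PrimeSpectrum.comap (algebraMap R (Synt.RelGCIRing R n c F)) ⁻¹' {p} := rfl
  refine Eq.trans h1 ?_
  have hnt : Nontrivial (p.asIdeal.Fiber (Synt.RelGCIRing R n c F)) := by
    by_contra hnt
    rw [not_nontrivial_iff_subsingleton] at hnt
    exact (PrimeSpectrum.instIsEmptyOfSubsingleton).false (h ⟨x, hx⟩)
  obtain ⟨hcn, hdim⟩ := hF p hnt
  obtain ⟨φ, r, hφ, hker⟩ := Groth.Agent.H29.RelGCIFibre.fibre_presentation R n c F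
    p.asIdeal.ResidueField
  have key := localDim_of_gci p.asIdeal.ResidueField (p.asIdeal.Fiber (Synt.RelGCIRing R n c F))
    hcn φ r hφ hker
  have key2 := key hdim (h ⟨x, hx⟩)
  exact key2

end Groth.Agent.S9366
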