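import Groth.Statements.S9373
import Mathlib
-- import your own Groth.Agent.* helpers here

set_option autoImplicit false
universe u
open QCohSub

namespace Groth.Agent.S9373


section
open CategoryTheory CategoryTheory.Limits AlgebraicGeometry Opposite TopologicalSpace
theorem subsingleton_of_iso {A B : Ab.{u}} (e : A ≅ B) (hB : Subsingleton B) : Subsingleton A :=
  ⟨fun a b => by
    have ha : e.inv (e.hom a) = a := by simp
    have hb : e.inv (e.hom b) = b := by simp
    rw [← ha, ← hb, Subsingleton.elim (e.hom a) (e.hom b)]⟩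

theorem affine_case (R : CommRingCat.{u}) (G : (Spec R).Modules) [G.IsQuasicoherent]
    {x y : PrimeSpectrum.Top R} (h : x ⤳ y) (hy : Subsingleton (G.presheaf.stalk y)) :
    Subsingleton (G.presheaf.stalk x) := by
  let M : ModuleCat R := (modulesSpecToSheaf.obj G).presheaf.obj (.op ⊤)
  haveI : IsIso G.fromTildeΓ := Scheme.Modules.isIso_fromTildeΓ_of_isQuasicoherent G
  let e : tilde M ≅ G := asIso G.fromTildeΓ
  let eP : (tilde M).presheaf ≅ G.presheaf := (Scheme.Modules.toPresheaf _).mapIso e
  have key : ∀ z : PrimeSpectrum.Top R, Subsingleton (G.presheaf.stalk z) ↔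
      Subsingleton ((tilde M).presheaf.stalk z) := by
    intro z
    let ez := (TopCat.Presheaf.stalkFunctor Ab z).mapIso eP
    exact ⟨fun hh => subsingleton_of_iso ez hh, fun hh => subsingleton_of_iso ez.symm hh⟩
  rw [key] at hy ⊢
  haveI hxp : x.asIdeal.IsPrime := x.2
  haveI hyp : y.asIdeal.IsPrime := y.2
  have hle : x.asIdeal ≤ y.asIdeal := (PrimeSpectrum.le_iff_specializes x y).mpr h
  have h0 : ∀ m : M, (tilde.toStalk M x).hom m = 0 := by
    intro m
    have : (tilde.toStalk M y).hom m = 0 := Subsingleton.elim _ _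
    obtain ⟨s, hs⟩ :=
      (IsLocalizedModule.eq_zero_iff y.asIdeal.primeCompl (tilde.toStalk M y).hom).mp this
    exact (IsLocalizedModule.eq_zero_iff x.asIdeal.primeCompl (tilde.toStalk M x).hom).mpr
      ⟨⟨s.1, fun hx => s.2 (hle hx)⟩, hs⟩
  have hz : ∀ t : (tilde M).presheaf.stalk x, t = 0 := by
    intro t
    obtain ⟨⟨m, s⟩, hms⟩ :=
      IsLocalizedModule.surj x.asIdeal.primeCompl (tilde.toStalk M x).hom t
    rw [h0 m] at hms
    exact IsLocalizedModule.smul_injective (tilde.toStalk M x).hom s (by simpa using hms)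
  exact ⟨fun a b => by rw [hz a, hz b]⟩

theorem aux {X : Scheme.{u}} (F : X.Modules) [F.IsQuasicoherent] {x y : X} (h : x ⤳ y)
    (hy : Subsingleton (F.presheaf.stalk y)) : Subsingleton (F.presheaf.stalk x) := by
  obtain ⟨_, ⟨U, hU, rfl⟩, hyU, -⟩ :=
    X.isBasis_affineOpens.exists_subset_of_mem_open (Set.mem_univ y) isOpen_univ
  have hU' : IsAffineOpen U := hU
  have hxU : x ∈ U := h.mem_open U.isOpen hyU
  have hr : Set.range hU'.fromSpec = U := hU'.range_fromSpec
  obtain ⟨x', rfl⟩ : x ∈ Set.range hU'.fromSpec := by rw [hr]; exact hxU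
  obtain ⟨y', rfl⟩ : y ∈ Set.range hU'.fromSpec := by rw [hr]; exact hyU
  have h' : x' ⤳ y' := hU'.fromSpec.isOpenEmbedding.isInducing.specializes_iff.mp h
  have key : ∀ z, Subsingleton ((F.restrict hU'.fromSpec).presheaf.stalk z) ↔
      Subsingleton (F.presheaf.stalk (hU'.fromSpec z)) := by
    intro z
    let P : PresheafedSpace Ab.{u} := ⟨X.toTopCat, F.presheaf⟩
    let ez : ((F.restrict hU'.fromSpec).presheaf).stalk z ≅ F.presheaf.stalk (hU'.fromSpec z) :=
      P.restrictStalkIso hU'.fromSpec.isOpenEmbedding z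
    exact ⟨fun hh => subsingleton_of_iso ez.symm hh, fun hh => subsingleton_of_iso ez hh⟩
  rw [← key] at hy ⊢
  exact affine_case _ (F.restrict hU'.fromSpec) h' hy
end

open AlgebraicGeometry CategoryTheory in
/-- The support of a quasi-coherent O_X-module is closed under specialization. -/
theorem result (X : Scheme.{u}) (F : X.Modules) (hF : Coh.IsQCoh F) :
    StableUnderSpecialization (CohB1.support F) := by
  intro x y hxy hx
  have : F.IsQuasicoherent := hF
  intro hy
  exact hx (aux F hxy hy)

end Groth.Agent.S9373
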