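import Groth.Statements.S9382
import Mathlib

set_option autoImplicit false
universe u
open QCohSub

namespace Groth.Agent.S9382


open AlgebraicGeometry CategoryTheory in
/-- For closed subschemes Z, Y ⊆ X with ideal sheaves I, J, the scheme-theoretic intersection (ideal
sheaf I ⊔ J) together with its inclusions into Z and Y forms a cartesian square over X. -/
theorem result (X : Scheme.{u}) (I J : X.IdealSheafData) :
    IsPullback (Scheme.IdealSheafData.inclusion (le_sup_left : I ≤ I ⊔ J))
      (Scheme.IdealSheafData.inclusion (le_sup_right : J ≤ I ⊔ J)) I.subschemeι J.subschemeι := by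
  have hker : ∀ s : CategoryTheory.Limits.PullbackCone I.subschemeι J.subschemeι,
      (I ⊔ J).subschemeι.ker ≤ (s.fst ≫ I.subschemeι).ker := by
    intro s
    rw [Scheme.IdealSheafData.ker_subschemeι]
    apply sup_le
    · have := Scheme.Hom.le_ker_comp s.fst I.subschemeι
      rwa [Scheme.IdealSheafData.ker_subschemeι] at this
    · rw [s.condition]
      have := Scheme.Hom.le_ker_comp s.snd J.subschemeι
      rwa [Scheme.IdealSheafData.ker_subschemeι] at this
  refine ⟨⟨by rw [Scheme.IdealSheafData.inclusion_subschemeι,
    Scheme.IdealSheafData.inclusion_subschemeι]⟩,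
    ⟨CategoryTheory.Limits.PullbackCone.IsLimit.mk _
      (fun s => IsClosedImmersion.lift (I ⊔ J).subschemeι (s.fst ≫ I.subschemeι) (hker s))
      ?_ ?_ ?_⟩⟩
  · intro s
    rw [← CategoryTheory.cancel_mono I.subschemeι, CategoryTheory.Category.assoc,
      Scheme.IdealSheafData.inclusion_subschemeι, IsClosedImmersion.lift_fac]
  · intro s
    rw [← CategoryTheory.cancel_mono J.subschemeι, CategoryTheory.Category.assoc,
      Scheme.IdealSheafData.inclusion_subschemeι, IsClosedImmersion.lift_fac, s.condition]
  · intro s m hm1 hm2
    rw [← CategoryTheory.cancel_mono (I ⊔ J).subschemeι, IsClosedImmersion.lift_fac, ← hm1,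
      CategoryTheory.Category.assoc, Scheme.IdealSheafData.inclusion_subschemeι]

end Groth.Agent.S9382
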