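import Groth.Statements.S9385
import Mathlib
import Groth.Agent.S8850

set_option autoImplicit false
universe u
open SchDense

namespace Groth.Agent.S9385

open CategoryTheory CategoryTheory.Limits AlgebraicGeometry TopologicalSpace in
theorem ker_eq_vanishing {Z X : Scheme.{u}} (h : Z ⟶ X) [IsReduced Z] :
    h.ker = Scheme.IdealSheafData.vanishingIdeal ⟨closure (Set.range h), isClosed_closure⟩ := by
  apply le_antisymm
  · rw [← Scheme.IdealSheafData.le_support_iff_le_vanishingIdeal]
    show closure (Set.range h) ⊆ (h.ker.support : Set X)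
    exact closure_minimal h.range_subset_ker_support h.ker.support.isClosed
  · rw [Scheme.Hom.ker, Scheme.IdealSheafData.le_ofIdeals_iff]
    intro U a ha
    rw [Scheme.IdealSheafData.vanishingIdeal_ideal, PrimeSpectrum.mem_vanishingIdeal] at ha
    rw [RingHom.mem_ker, ← AlgebraicGeometry.basicOpen_eq_bot_iff, ← Scheme.preimage_basicOpen]
    rw [eq_bot_iff]
    intro z hz
    exfalso
    have hzU : h z ∈ U.1 := X.basicOpen_le a hz
    have e : U.2.fromSpec (U.2.primeIdealOf ⟨h z, hzU⟩) = h z :=
      U.2.fromSpec_primeIdealOf ⟨h z, hzU⟩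
    have h1 := ha (U.2.primeIdealOf ⟨h z, hzU⟩) (by
      show U.2.fromSpec (U.2.primeIdealOf ⟨h z, hzU⟩) ∈ closure (Set.range h)
      rw [e]
      exact subset_closure ⟨z, rfl⟩)
    have h2 : U.2.primeIdealOf ⟨h z, hzU⟩ ∈ U.2.fromSpec ⁻¹ᵁ X.basicOpen a := by
      show U.2.fromSpec (U.2.primeIdealOf ⟨h z, hzU⟩) ∈ X.basicOpen a
      rw [e]
      exact hz
    rw [U.2.fromSpec_preimage_basicOpen] at h2
    exact h2 h1

open CategoryTheory CategoryTheory.Limits AlgebraicGeometry TopologicalSpace in
theorem isReduced_image {Z X : Scheme.{u}} (h : Z ⟶ X) [IsReduced Z] : IsReduced h.image := by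
  haveI : ∀ U : h.ker.subschemeCover.openCover.I₀, IsReduced (h.ker.subschemeCover.openCover.X U) := by
    intro U'
    obtain ⟨U, rfl⟩ : ∃ U : X.affineOpens, U = U' := ⟨U', rfl⟩
    show IsReduced (Spec (.of (Γ(X, U) ⧸ h.ker.ideal U)))
    haveI : _root_.IsReduced (Γ(X, U) ⧸ h.ker.ideal U) := by
      rw [← Ideal.isRadical_iff_quotient_reduced, ker_eq_vanishing,
        Scheme.IdealSheafData.vanishingIdeal_ideal]
      exact PrimeSpectrum.isRadical_vanishingIdeal _
    infer_instance
  exact IsReduced.of_openCover _ h.ker.subschemeCover.openCover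

open CategoryTheory CategoryTheory.Limits AlgebraicGeometry TopologicalSpace in
theorem denseRange_toImage {Z X : Scheme.{u}} (h : Z ⟶ X) [IsReduced Z] :
    DenseRange h.toImage := by
  have hsupp : (h.ker.support : Set X) = closure (Set.range h) := by
    rw [ker_eq_vanishing, Scheme.IdealSheafData.coe_support_vanishingIdeal]
    rfl
  rw [denseRange_iff_closure_range, h.imageι.isEmbedding.closure_eq_preimage_closure_image,
    ← Set.univ_subset_iff, ← Set.image_subset_iff, Set.image_univ,
    Scheme.IdealSheafData.range_subschemeι, hsupp, ← Set.range_comp,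
    ← TopCat.coe_comp, ← Scheme.Hom.comp_base, h.toImage_imageι]

open CategoryTheory CategoryTheory.Limits AlgebraicGeometry TopologicalSpace in
theorem isOpenImmersion_of_dense {Z T : Scheme.{u}} (j : Z ⟶ T) [IsImmersion j] [IsReduced T]
    (hd : DenseRange j) : IsOpenImmersion j := by
  have hcl : closure (Set.range j.liftCoborder) = Set.univ := by
    rw [j.coborderRange.ι.isEmbedding.closure_eq_preimage_closure_image, ← Set.range_comp,
      ← TopCat.coe_comp, ← Scheme.Hom.comp_base, j.liftCoborder_ι, hd.closure_range,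
      Set.preimage_univ]
  haveI : Surjective j.liftCoborder := ⟨by
    rw [← Set.range_eq_univ, ← j.liftCoborder.isClosedEmbedding.isClosed_range.closure_eq]
    exact hcl⟩
  haveI : IsIso j.liftCoborder := isIso_of_isClosedImmersion_of_surjective _
  rw [← j.liftCoborder_ι]
  infer_instance

open CategoryTheory CategoryTheory.Limits AlgebraicGeometry TopologicalSpace in
theorem dominant_qc {Z T : Scheme.{u}} (j : Z ⟶ T) [IsOpenImmersion j] [QuasiCompact j]
    [IsSchemeTheoreticallyDominant j] (W : T.Opens) :
    IsSchemeTheoreticallyDominant (T.homOfLE (inf_le_right : j.opensRange ⊓ W ≤ W)) := by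
  haveI : IsSchemeTheoreticallyDominant j.opensRange.ι := by
    rw [← j.isoOpensRange_inv_comp]; infer_instance
  haveI : QuasiCompact j.opensRange.ι := by
    rw [← j.isoOpensRange_inv_comp]; infer_instance
  exact IsSchemeTheoreticallyDominant.of_isPullback (isPullback_opens_inf j.opensRange W)

open CategoryTheory CategoryTheory.Limits AlgebraicGeometry TopologicalSpace in
theorem dominant_red {T : Scheme.{u}} [IsReduced T] (R W : T.Opens)
    (hR : Dense (R : Set T)) :
    IsSchemeTheoreticallyDominant (T.homOfLE (inf_le_right : R ⊓ W ≤ W)) := by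
  haveI : IsDominant (T.homOfLE (inf_le_right : R ⊓ W ≤ W)) := by
    constructor
    rw [DenseRange, dense_iff_inter_open]
    intro O hO hne
    obtain ⟨w, hw⟩ := hne
    -- O is open in W; its image in T is open
    have hO' : IsOpen (W.ι '' O) := W.ι.isOpenEmbedding.isOpenMap O hO
    obtain ⟨t, ht1, ht2⟩ := hR.inter_open_nonempty _ hO' ⟨W.ι w, w, hw, rfl⟩
    obtain ⟨w', hw', rfl⟩ := ht1
    refine ⟨w', hw', ⟨⟨w'.1, ⟨ht2, w'.2⟩⟩, ?_⟩⟩
    apply Subtype.ext
    rw [Scheme.homOfLE_apply]
  exact IsSchemeTheoreticallyDominant.of_isDominant _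

open AlgebraicGeometry CategoryTheory in
/-- Let h : Z → X be an immersion, and suppose that either Z is reduced or h is quasi-compact. Write Z̄
⊆ X for the scheme-theoretic image of h. Then Z → Z̄ is an open immersion identifying Z with a
scheme-theoretically dense (in the for-every-open sense) and topologically dense open subscheme of
Z̄. -/
theorem result {Z X : Scheme.{u}} (h : Z ⟶ X) [IsImmersion h]
    (hyp : QuasiCompact h ∨ IsReduced Z) :
    ∃ hI : IsOpenImmersion h.toImage,
      (∀ W : h.image.Opens, IsSchemeTheoreticallyDominant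
          (h.image.homOfLE (inf_le_right : @Scheme.Hom.opensRange _ _ h.toImage hI ⊓ W ≤ W))) ∧
        DenseRange h.toImage.base := by
  rcases hyp with hqc | hred
  · haveI := hqc
    haveI : IsSchemeTheoreticallyDominant h.toImage := ⟨Groth.Agent.S8850.ker_toImage h⟩
    refine ⟨inferInstance, fun W => dominant_qc h.toImage W,
      (inferInstance : IsDominant h.toImage).denseRange⟩
  · haveI := hred
    haveI := isReduced_image h
    have hd := denseRange_toImage h
    have hI := isOpenImmersion_of_dense h.toImage hd
    refine ⟨hI, fun W => dominant_red _ W ?_, hd⟩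
    have : ((@Scheme.Hom.opensRange _ _ h.toImage hI : h.image.Opens) : Set h.image)
        = Set.range h.toImage := rfl
    rw [this]
    exact hd

end Groth.Agent.S9385
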