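import Groth.Statements.S9389
import Mathlib

set_option autoImplicit false
universe u
open QFin

namespace Groth.Agent.S9389

section Helpers
open AlgebraicGeometry CategoryTheory CategoryTheory.Limits TopologicalSpace

set_option backward.isDefEq.respectTransparency false in
theorem isOpen_transport9389 {X S : Scheme.{u}} (f : X ⟶ S) {s₁ s₂ : S} (e : s₁ = s₂)
    (z₁ : f.fiber s₁) (z₂ : f.fiber s₂) (h : f.fiberι s₁ z₁ = f.fiberι s₂ z₂) :
    IsOpen {z₁} ↔ IsOpen {z₂} := by
  subst e
  have : z₁ = z₂ := (f.fiberι s₁).isEmbedding.injective h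
  rw [this]

set_option backward.isDefEq.respectTransparency false in
theorem qfa_of_isOpen9389 {X S : Scheme.{u}} (f : X ⟶ S) [LocallyOfFiniteType f] (s : S)
    (z : f.fiber s) (hz : IsOpen {z}) : f.QuasiFiniteAt (f.fiberι s z) := by
  have hs : f (f.fiberι s z) = s := by
    have := Set.mem_range_self (f := f.fiberι s) z
    rw [f.range_fiberι] at this
    exact this
  rw [Scheme.Hom.quasiFiniteAt_iff_isOpen_singleton_asFiber]
  exact (isOpen_transport9389 f hs.symm z (f.asFiber (f.fiberι s z))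
    (f.fiberι_asFiber _).symm).mp hz

set_option backward.isDefEq.respectTransparency false in
theorem main9389 {X S X' S' : Scheme.{u}} (f : X ⟶ S) [LocallyOfFiniteType f] (g : S' ⟶ S)
    (g' : X' ⟶ X) (f' : X' ⟶ S') (hsq : IsPullback g' f' f g) :
    {x' : ↑X' | f'.QuasiFiniteAt x'} = g'.base ⁻¹' {x : ↑X | f.QuasiFiniteAt x} := by
  haveI : LocallyOfFiniteType f' :=
    MorphismProperty.of_isPullback (P := @LocallyOfFiniteType) hsq ‹_›
  ext x'
  constructor
  · intro hx'
    show f.QuasiFiniteAt (g' x')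
    have hx'' : f'.QuasiFiniteAt x' := hx'
    rw [Scheme.Hom.quasiFiniteAt_iff_isOpen_singleton_asFiber] at hx''
    obtain ⟨ρ, hρ1, hpb⟩ : ∃ ρ : f'.fiber (f' x') ⟶ f.fiber (g (f' x')),
        ρ ≫ f.fiberι _ = f'.fiberι _ ≫ g' ∧
        IsPullback ρ (f'.fiberToSpecResidueField (f' x'))
          (f.fiberToSpecResidueField (g (f' x'))) (Spec.map (g.residueFieldMap (f' x'))) :=
      ⟨_, pullback.lift_fst _ _ _,
        isPullback_fiberToSpecResidueField_of_isPullback hsq (f' x')⟩
    haveI : Subsingleton ↥(Spec (S.residueField (g (f' x')))) :=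
      inferInstanceAs (Subsingleton (PrimeSpectrum (S.residueField (g (f' x')))))
    haveI : UniversallyOpen (Spec.map (g.residueFieldMap (f' x'))) := inferInstance
    haveI : UniversallyOpen ρ :=
      MorphismProperty.of_isPullback (P := @UniversallyOpen) hpb.flip inferInstance
    have hopen : IsOpen (ρ '' {f'.asFiber x'}) := ρ.isOpenMap _ hx''
    rw [Set.image_singleton] at hopen
    have h4 := qfa_of_isOpen9389 f (g (f' x')) (ρ (f'.asFiber x')) hopen
    have e1 : f.fiberι (g (f' x')) (ρ (f'.asFiber x')) = g' x' := by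
      rw [← Scheme.Hom.comp_apply, hρ1, Scheme.Hom.comp_apply, f'.fiberι_asFiber]
    rwa [e1] at h4
  · intro hx
    have hx : f.QuasiFiniteAt (g' x') := hx
    have hxU : g' x' ∈ f.quasiFiniteLocus := hx
    have h1 : IsPullback (g' ∣_ f.quasiFiniteLocus) (g' ⁻¹ᵁ f.quasiFiniteLocus).ι
        f.quasiFiniteLocus.ι g' := isPullback_morphismRestrict g' f.quasiFiniteLocus
    have h2 : IsPullback (g' ∣_ f.quasiFiniteLocus) ((g' ⁻¹ᵁ f.quasiFiniteLocus).ι ≫ f')
        (f.quasiFiniteLocus.ι ≫ f) g := h1.paste_vert hsq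
    haveI : LocallyQuasiFinite ((g' ⁻¹ᵁ f.quasiFiniteLocus).ι ≫ f') :=
      MorphismProperty.of_isPullback (P := @LocallyQuasiFinite) h2
        (inferInstance : LocallyQuasiFinite (f.quasiFiniteLocus.ι ≫ f))
    have h3 := ((g' ⁻¹ᵁ f.quasiFiniteLocus).ι ≫ f').quasiFiniteAt ⟨x', hxU⟩
    rw [Scheme.Hom.quasiFiniteAt_comp_iff_of_isOpenImmersion] at h3
    exact h3

end Helpers

open AlgebraicGeometry CategoryTheory in
/-- For f : X → S locally of finite type and a cartesian square with base change f' : X' → S', g' : X' →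
X, the quasi-finite locus of f' is the inverse image under g' of the quasi-finite locus of f. -/
theorem result {X S X' S' : Scheme.{u}} (f : X ⟶ S) [LocallyOfFiniteType f] (g : S' ⟶ S)
    (g' : X' ⟶ X) (f' : X' ⟶ S') (hsq : IsPullback g' f' f g) :
    {x' : ↑X' | f'.QuasiFiniteAt x'} = g'.base ⁻¹' {x : ↑X | f.QuasiFiniteAt x} := by
  exact main9389 f g g' f' hsq

end Groth.Agent.S9389
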