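import Groth.Statements.S9397
import Groth.Agent.H14Lib.Japanese

set_option autoImplicit false
universe u
open CAlg

namespace Groth.Agent.S9397


/-- A ring R is universally Japanese provided that each R-algebra of finite type which is a domain is
N-1. -/
theorem result (R : Type u) [CommRing R]
    (h : ∀ (S : Type u) [CommRing S] [IsDomain S] [Algebra R S], Algebra.FiniteType R S → CAlg.IsN1 S) :
    CAlg.IsUniversallyJapanese R := by
  intro S _ _ _ hft L _ _ _ _ hfin
  apply Groth.Agent.H14Lib.finite_integralClosure_of_forall_isN1 S (FractionRing S) L
  intro S' hfg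
  letI : Algebra R S' := ((algebraMap S S').comp (algebraMap R S)).toAlgebra
  haveI : IsScalarTower R S S' := IsScalarTower.of_algebraMap_eq (fun _ => rfl)
  haveI : Module.Finite S S' := Module.Finite.iff_fg.2 hfg
  haveI : Algebra.FiniteType S S' := inferInstance
  exact h S' (Algebra.FiniteType.trans hft inferInstance)

end Groth.Agent.S9397
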