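import Groth.Statements.S9403
import Mathlib

set_option autoImplicit false
universe u
open CAlg

namespace Groth.Agent.S9403

/-- Let R → S be a ring map with S a Noetherian local ring which is an algebra over the rationals, and f
∈ S such that some S-linear form on the module of differentials of S over R sends df to 1 (df spans
a free direct summand of rank one). Then f is a nonzerodivisor of S. (The published statement asks
only that S·df be a direct summand of the module of differentials, which also holds for the
rationals with a square-zero element adjoined, where f is a zero divisor; this row asks for an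
S-linear form on the differentials sending df to 1, as the published proof uses.) -/
theorem result (R : Type u) [CommRing R]
    (S : Type u) [CommRing S] [IsLocalRing S] [IsNoetherianRing S] [Algebra R S] [Algebra ℚ S]
    (f : S) (θ : Ω[S⁄R] →ₗ[S] S) (hθ : θ (KaehlerDifferential.D R S f) = 1) : f ∈ nonZeroDivisors S := by
  by_cases hfu : IsUnit f
  · exact hfu.mem_nonZeroDivisors
  have hunit : ∀ n : ℕ, IsUnit ((n + 1 : ℕ) : S) := by
    intro n
    have h1 : IsUnit ((n + 1 : ℕ) : ℚ) := by
      rw [isUnit_iff_ne_zero]; exact_mod_cast Nat.succ_ne_zero n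
    have := h1.map (algebraMap ℚ S)
    simpa using this
  -- P(n)
  have P : ∀ (n : ℕ) (h : S), f ^ n * h = 0 → h ∈ Ideal.span {f} := by
    intro n
    induction n with
    | zero =>
      intro h hh
      rw [pow_zero, one_mul] at hh
      rw [hh]; exact Ideal.zero_mem _
    | succ n ih =>
      intro h hh
      have h1 : KaehlerDifferential.D R S (f ^ (n + 1) * h) = 0 := by rw [hh, map_zero]
      rw [Derivation.leibniz, Derivation.leibniz_pow] at h1
      have h2 := congrArg θ h1
      rw [map_zero, map_add, map_smul, map_smul, map_nsmul, map_smul, hθ, Nat.add_sub_cancel] at h2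
      simp only [smul_eq_mul, mul_one, nsmul_eq_mul] at h2
      have h3 : f ^ n * (f * θ (KaehlerDifferential.D R S h) + ((n + 1 : ℕ) : S) * h) = 0 := by
        rw [← h2]; ring
      have h4 := ih _ h3
      have h5 : ((n + 1 : ℕ) : S) * h ∈ Ideal.span {f} := by
        have : ((n + 1 : ℕ) : S) * h =
            (f * θ (KaehlerDifferential.D R S h) + ((n + 1 : ℕ) : S) * h) -
              f * θ (KaehlerDifferential.D R S h) := by ring
        rw [this]
        exact Ideal.sub_mem _ h4 (Ideal.mul_mem_right _ _ (Ideal.mem_span_singleton_self f))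
      obtain ⟨v, hv⟩ := hunit n
      have : h = (↑v⁻¹ : S) * (((n + 1 : ℕ) : S) * h) := by
        rw [← mul_assoc, ← hv, Units.inv_mul, one_mul]
      rw [this]
      exact Ideal.mul_mem_left _ _ h5
  rw [mem_nonZeroDivisors_iff_right]
  intro g hg
  have Q : ∀ k : ℕ, ∃ gk : S, g = f ^ k * gk ∧ f ^ (k + 1) * gk = 0 := by
    intro k
    induction k with
    | zero => exact ⟨g, by simp, by simpa [mul_comm] using hg⟩
    | succ k ih =>
      obtain ⟨gk, h1, h2⟩ := ih
      obtain ⟨gk', rfl⟩ := Ideal.mem_span_singleton'.1 (P (k + 1) gk h2)
      refine ⟨gk', ?_, ?_⟩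
      · rw [h1]; ring
      · rw [← h2]; ring
  have hmem : g ∈ ⨅ i, (Ideal.span {f}) ^ i := by
    rw [Ideal.mem_iInf]
    intro k
    obtain ⟨gk, h1, -⟩ := Q k
    rw [h1, Ideal.span_singleton_pow]
    exact Ideal.mul_mem_right _ _ (Ideal.mem_span_singleton_self _)
  rw [Ideal.iInf_pow_eq_bot_of_isLocalRing] at hmem
  · simpa using hmem
  · rw [Ne, Ideal.span_singleton_eq_top]
    exact hfu


end Groth.Agent.S9403
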