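import Groth.Statements.S9404
import Mathlib

set_option autoImplicit false
set_option linter.style.haveILetI false
universe u
open CAlg

namespace Groth.Agent.S9404

section aux

open TensorProduct

lemma isUnit_or_isNilpotent_of_right {A K L : Type*} [CommRing A] [Field K] [Field L]
    [Algebra A K] [Algebra A L] (q : ℕ) [ExpChar K q] [Nontrivial (K ⊗[A] L)]
    (hL : ∀ c : L, ∃ (n : ℕ) (a : A), c ^ q ^ n = algebraMap A L a) (e : K ⊗[A] L) :
    IsUnit e ∨ IsNilpotent e := by
  haveI : ExpChar (K ⊗[A] L) q :=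
    expChar_of_injective_algebraMap (algebraMap K (K ⊗[A] L)).injective q
  have key : ∀ e : K ⊗[A] L, ∃ (n : ℕ) (b : K), e ^ q ^ n = b ⊗ₜ[A] (1 : L) := by
    intro e
    induction e using TensorProduct.induction_on with
    | zero => exact ⟨0, 0, by simp⟩
    | tmul b c =>
      obtain ⟨n, a, ha⟩ := hL c
      refine ⟨n, a • b ^ q ^ n, ?_⟩
      rw [Algebra.TensorProduct.tmul_pow, ha, Algebra.algebraMap_eq_smul_one,
        TensorProduct.tmul_smul, TensorProduct.smul_tmul']
    | add x y hx hy =>
      obtain ⟨n₁, b₁, h₁⟩ := hx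
      obtain ⟨n₂, b₂, h₂⟩ := hy
      refine ⟨n₁ + n₂, b₁ ^ q ^ n₂ + b₂ ^ q ^ n₁, ?_⟩
      have hx' : x ^ q ^ (n₁ + n₂) = (b₁ ^ q ^ n₂) ⊗ₜ[A] (1 : L) := by
        rw [pow_add, pow_mul, h₁, Algebra.TensorProduct.tmul_pow, one_pow]
      have hy' : y ^ q ^ (n₁ + n₂) = (b₂ ^ q ^ n₁) ⊗ₜ[A] (1 : L) := by
        rw [add_comm, pow_add, pow_mul, h₂, Algebra.TensorProduct.tmul_pow, one_pow]
      rw [add_pow_expChar_pow, hx', hy', TensorProduct.add_tmul]
  obtain ⟨n, b, hb⟩ := key e
  by_cases hb0 : b = 0
  · right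
    exact ⟨q ^ n, by rw [hb, hb0, TensorProduct.zero_tmul]⟩
  · left
    have h1 : IsUnit (b ⊗ₜ[A] (1 : L)) :=
      (IsUnit.mk0 b hb0).map (Algebra.TensorProduct.includeLeft : K →ₐ[A] K ⊗[A] L)
    rw [← hb] at h1
    exact (isUnit_pow_iff (pow_ne_zero n (expChar_pos K q).ne')).mp h1

lemma isUnit_or_isNilpotent_of_left {A K L : Type*} [CommRing A] [Field K] [Field L]
    [Algebra A K] [Algebra A L] (q : ℕ) [ExpChar L q] [Nontrivial (K ⊗[A] L)]
    (hK : ∀ b : K, ∃ (n : ℕ) (a : A), b ^ q ^ n = algebraMap A K a) (e : K ⊗[A] L) :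
    IsUnit e ∨ IsNilpotent e := by
  let σ : K ⊗[A] L ≃ₐ[A] L ⊗[A] K := Algebra.TensorProduct.comm A K L
  haveI : Nontrivial (L ⊗[A] K) := σ.symm.toAlgHom.toRingHom.domain_nontrivial
  rcases isUnit_or_isNilpotent_of_right (A := A) (K := L) (L := K) q hK (σ e) with h | h
  · left
    have := h.map σ.symm
    simpa using this
  · right
    have := h.map σ.symm
    simpa using this

end aux

open TensorProduct in
/-- For local homomorphisms of local rings A → B and A → C with A → C integral, if the residue field of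
C or that of B is purely inseparable over the residue field of A, then B ⊗_A C is local and both
structure maps into it are local. -/
theorem result (A : Type u) [CommRing A]
    [IsLocalRing A] (B : Type u) [CommRing B] [IsLocalRing B] [Algebra A B]
    [IsLocalHom (algebraMap A B)] (C : Type u) [CommRing C] [IsLocalRing C] [Algebra A C]
    [IsLocalHom (algebraMap A C)] [Algebra.IsIntegral A C]
    (h : IsPurelyInseparable (IsLocalRing.ResidueField A) (IsLocalRing.ResidueField C) ∨
      IsPurelyInseparable (IsLocalRing.ResidueField A) (IsLocalRing.ResidueField B)) :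
    IsLocalRing (B ⊗[A] C) ∧
      IsLocalHom (Algebra.TensorProduct.includeLeft : B →ₐ[A] B ⊗[A] C).toRingHom ∧
      IsLocalHom (Algebra.TensorProduct.includeRight : C →ₐ[A] B ⊗[A] C).toRingHom := by
  classical
  let fB : B →ₐ[A] IsLocalRing.ResidueField B := IsScalarTower.toAlgHom A B _
  let fC : C →ₐ[A] IsLocalRing.ResidueField C := IsScalarTower.toAlgHom A C _
  have hfB : Function.Surjective fB := IsLocalRing.residue_surjective
  have hfC : Function.Surjective fC := IsLocalRing.residue_surjective
  have hkerB : RingHom.ker fB = IsLocalRing.maximalIdeal B := IsLocalRing.ker_residue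
  have hkerC : RingHom.ker fC = IsLocalRing.maximalIdeal C := IsLocalRing.ker_residue
  let ψ : B ⊗[A] C →ₐ[A] IsLocalRing.ResidueField B ⊗[A] IsLocalRing.ResidueField C :=
    Algebra.TensorProduct.map fB fC
  have hψsurj : Function.Surjective ψ := Algebra.TensorProduct.map_surjective fB fC hfB hfC
  have hψker : RingHom.ker ψ =
      (RingHom.ker fB).map (Algebra.TensorProduct.includeLeft : B →ₐ[A] B ⊗[A] C) ⊔
        (RingHom.ker fC).map (Algebra.TensorProduct.includeRight : C →ₐ[A] B ⊗[A] C) :=
    Algebra.TensorProduct.map_ker fB fC hfB hfC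
  -- nontriviality of the target
  haveI hint : Algebra.IsIntegral (IsLocalRing.ResidueField A) (IsLocalRing.ResidueField C) :=
    ⟨fun x => by
      obtain ⟨c, rfl⟩ := IsLocalRing.residue_surjective x
      exact (Algebra.IsIntegral.isIntegral (R := A) c).map_of_comp_eq (IsLocalRing.residue A)
        (IsLocalRing.residue C) (by ext a; rfl)⟩
  have hnt : Nontrivial (IsLocalRing.ResidueField B ⊗[A] IsLocalRing.ResidueField C) := by
    let gC : IsLocalRing.ResidueField C →ₐ[IsLocalRing.ResidueField A]
        AlgebraicClosure (IsLocalRing.ResidueField B) := IsAlgClosed.lift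
    let F : IsLocalRing.ResidueField B ⊗[A] IsLocalRing.ResidueField C →ₐ[A]
        AlgebraicClosure (IsLocalRing.ResidueField B) :=
      Algebra.TensorProduct.lift (IsScalarTower.toAlgHom A _ _) (gC.restrictScalars A)
        (fun _ _ => Commute.all _ _)
    exact F.toRingHom.domain_nontrivial
  -- every element of the target is a unit or nilpotent
  have hlocE : ∀ e : IsLocalRing.ResidueField B ⊗[A] IsLocalRing.ResidueField C,
      IsUnit e ∨ IsNilpotent e := by
    haveI : ExpChar (IsLocalRing.ResidueField A) (ringExpChar (IsLocalRing.ResidueField A)) :=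
      ringExpChar.expChar _
    rcases h with h | h
    · intro e
      haveI : ExpChar (IsLocalRing.ResidueField B) (ringExpChar (IsLocalRing.ResidueField A)) :=
        expChar_of_injective_algebraMap
          (algebraMap (IsLocalRing.ResidueField A) (IsLocalRing.ResidueField B)).injective _
      refine isUnit_or_isNilpotent_of_right (A := A)
        (ringExpChar (IsLocalRing.ResidueField A)) (fun c => ?_) e
      obtain ⟨n, abar, ha⟩ := IsPurelyInseparable.pow_mem (IsLocalRing.ResidueField A)
        (ringExpChar (IsLocalRing.ResidueField A)) c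
      obtain ⟨a, rfl⟩ := IsLocalRing.residue_surjective abar
      exact ⟨n, a, ha.symm⟩
    · intro e
      haveI : ExpChar (IsLocalRing.ResidueField C) (ringExpChar (IsLocalRing.ResidueField A)) :=
        expChar_of_injective_algebraMap
          (algebraMap (IsLocalRing.ResidueField A) (IsLocalRing.ResidueField C)).injective _
      refine isUnit_or_isNilpotent_of_left (A := A)
        (ringExpChar (IsLocalRing.ResidueField A)) (fun c => ?_) e
      obtain ⟨n, abar, ha⟩ := IsPurelyInseparable.pow_mem (IsLocalRing.ResidueField A)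
        (ringExpChar (IsLocalRing.ResidueField A)) c
      obtain ⟨a, rfl⟩ := IsLocalRing.residue_surjective abar
      exact ⟨n, a, ha.symm⟩
  -- the kernel lies in every maximal ideal
  have hkerle : ∀ M : Ideal (B ⊗[A] C), M.IsMaximal → RingHom.ker ψ ≤ M := by
    intro M hM
    have h1 : M.comap (algebraMap B (B ⊗[A] C)) = IsLocalRing.maximalIdeal B :=
      IsLocalRing.eq_maximalIdeal (Ideal.isMaximal_comap_of_isIntegral_of_isMaximal (R := B) M)
    rw [hψker]
    apply sup_le
    · rw [Ideal.map_le_iff_le_comap, hkerB, ← h1]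
      exact le_rfl
    · rw [Ideal.map_le_iff_le_comap, hkerC]
      set 𝔮 := M.comap (Algebra.TensorProduct.includeRight : C →ₐ[A] B ⊗[A] C) with h𝔮
      haveI : M.IsPrime := hM.isPrime
      haveI : 𝔮.IsPrime := Ideal.comap_isPrime _ M
      have h3 : 𝔮.comap (algebraMap A C) = IsLocalRing.maximalIdeal A := by
        ext a
        have e1 : (Algebra.TensorProduct.includeRight : C →ₐ[A] B ⊗[A] C) (algebraMap A C a) =
            algebraMap B (B ⊗[A] C) (algebraMap A B a) := by
          rw [AlgHom.commutes, ← IsScalarTower.algebraMap_apply]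
        rw [Ideal.mem_comap, h𝔮, Ideal.mem_comap, e1, ← Ideal.mem_comap, h1, ← Ideal.mem_comap,
          ← Ideal.under_def, ← Ideal.over_def (IsLocalRing.maximalIdeal B)
            (IsLocalRing.maximalIdeal A)]
      have h4 : 𝔮.IsMaximal :=
        Ideal.isMaximal_of_isIntegral_of_isMaximal_comap (R := A) 𝔮 (h3 ▸ inferInstance)
      rw [← IsLocalRing.eq_maximalIdeal h4]
  have hψunit : ∀ d : B ⊗[A] C, IsUnit (ψ d) → IsUnit d := by
    intro d hd
    obtain ⟨e', he'⟩ := hd.exists_right_inv
    obtain ⟨d', rfl⟩ := hψsurj e'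
    have hmem : d * d' - 1 ∈ RingHom.ker ψ := by
      rw [RingHom.mem_ker, map_sub, map_mul, he', map_one, sub_self]
    have hu : IsUnit (d * d') := by
      by_contra hnu
      obtain ⟨M, hM, hdM⟩ := exists_max_ideal_of_mem_nonunits hnu
      have h1 := hkerle M hM hmem
      have h2 : (1 : B ⊗[A] C) ∈ M := by
        have := M.sub_mem hdM h1
        simpa using this
      exact hM.ne_top ((Ideal.eq_top_iff_one M).mpr h2)
    exact isUnit_of_mul_isUnit_left hu
  haveI : Nontrivial (B ⊗[A] C) := ψ.toRingHom.domain_nontrivial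
  have hD : IsLocalRing (B ⊗[A] C) := by
    refine IsLocalRing.of_isUnit_or_isUnit_one_sub_self fun d => ?_
    rcases hlocE (ψ d) with hu | hn
    · exact Or.inl (hψunit d hu)
    · right
      apply hψunit
      rw [map_sub, map_one]
      exact hn.isUnit_one_sub
  refine ⟨hD, ⟨fun b hb => ?_⟩, ⟨fun c hc => ?_⟩⟩
  · by_contra hnb
    have hbm : b ∈ IsLocalRing.maximalIdeal B := (IsLocalRing.mem_maximalIdeal b).mpr hnb
    have h0 : ψ (b ⊗ₜ[A] (1 : C)) = 0 := by
      rw [Algebra.TensorProduct.map_tmul]
      have : fB b = 0 := (IsLocalRing.residue_eq_zero_iff b).mpr hbm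
      rw [this, TensorProduct.zero_tmul]
    have hu : IsUnit (ψ (b ⊗ₜ[A] (1 : C))) := hb.map ψ
    rw [h0] at hu
    exact not_isUnit_zero hu
  · by_contra hnc
    have hcm : c ∈ IsLocalRing.maximalIdeal C := (IsLocalRing.mem_maximalIdeal c).mpr hnc
    have h0 : ψ ((1 : B) ⊗ₜ[A] c) = 0 := by
      rw [Algebra.TensorProduct.map_tmul]
      have : fC c = 0 := (IsLocalRing.residue_eq_zero_iff c).mpr hcm
      rw [this, TensorProduct.tmul_zero]
    have hu : IsUnit (ψ ((1 : B) ⊗ₜ[A] c)) := hc.map ψ
    rw [h0] at hu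
    exact not_isUnit_zero hu

end Groth.Agent.S9404
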