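import Groth.Statements.S9405
import Mathlib
import Groth.Agent.Lib.Helper26.CompleteFinite

set_option autoImplicit false
set_option linter.style.haveILetI false
universe u
open CAlg

namespace Groth.Agent.S9405

/-- A module-finite algebra S over a complete Noetherian local ring R is a finite product of complete
Noetherian local rings; precisely, S has finitely many maximal ideals, S maps bijectively onto the
product of its localizations at them, and each of these localizations is Noetherian and complete for
its maximal ideal. -/
theorem result (R : Type u) [CommRing R]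
    [IsLocalRing R] [IsNoetherianRing R] [IsAdicComplete (IsLocalRing.maximalIdeal R) R]
    (S : Type u) [CommRing S] [Algebra R S] [Module.Finite R S] :
    Finite (MaximalSpectrum S) ∧
      Function.Bijective
        (algebraMap S ((m : MaximalSpectrum S) → Localization.AtPrime m.asIdeal)) ∧
      ∀ m : MaximalSpectrum S, IsNoetherianRing (Localization.AtPrime m.asIdeal) ∧
        IsAdicComplete (IsLocalRing.maximalIdeal (Localization.AtPrime m.asIdeal))
          (Localization.AtPrime m.asIdeal) := by
  classical
  have hSN : IsNoetherianRing S := Algebra.FiniteType.isNoetherianRing R S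
  -- every maximal ideal of `S` lies over the maximal ideal of `R`
  have hover : ∀ m : MaximalSpectrum S,
      IsLocalRing.maximalIdeal R = m.asIdeal.comap (algebraMap R S) := fun m => by
    haveI := m.isMaximal
    exact (IsLocalRing.eq_maximalIdeal
      (Ideal.isMaximal_comap_of_isIntegral_of_isMaximal (R := R) m.asIdeal)).symm
  have hfin : Finite (MaximalSpectrum S) := by
    have h := Algebra.QuasiFinite.finite_primesOver (R := R) (S := S) (IsLocalRing.maximalIdeal R)
    haveI : Finite ((IsLocalRing.maximalIdeal R).primesOver S) := h.to_subtype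
    refine Finite.of_injective (fun m : MaximalSpectrum S =>
      (⟨m.asIdeal, m.isMaximal.isPrime, ⟨hover m⟩⟩ : (IsLocalRing.maximalIdeal R).primesOver S)) ?_
    intro m m' h
    exact MaximalSpectrum.ext (congrArg Subtype.val h)
  haveI : Fintype (MaximalSpectrum S) := Fintype.ofFinite _
  set rad : Ideal S := Ideal.jacobson (⊥ : Ideal S) with hrad
  have hradle : ∀ m : MaximalSpectrum S, rad ≤ m.asIdeal := fun m =>
    sInf_le ⟨bot_le, m.isMaximal⟩
  have hmemrad : ∀ x : S, (∀ m : MaximalSpectrum S, x ∈ m.asIdeal) → x ∈ rad := fun x hx => by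
    rw [hrad, Ideal.jacobson, Ideal.mem_sInf]
    rintro M ⟨-, hM⟩
    exact hx ⟨M, hM⟩
  haveI hcomplS : IsAdicComplete rad S := H26.isAdicComplete_jacobson_of_finite R S
  -- Hausdorffness of each localization and of the product
  have hHm : ∀ m : MaximalSpectrum S, IsHausdorff rad (Localization.AtPrime m.asIdeal) := fun m => by
    haveI := m.isMaximal
    haveI : IsNoetherianRing (Localization.AtPrime m.asIdeal) :=
      IsLocalization.isNoetherianRing m.asIdeal.primeCompl _ hSN
    rw [← IsHausdorff.map_algebraMap_iff (S := Localization.AtPrime m.asIdeal)]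
    refine IsHausdorff.of_isLocalRing _ _ ?_
    intro htop
    have h1 : rad.map (algebraMap S (Localization.AtPrime m.asIdeal)) ≤
        IsLocalRing.maximalIdeal (Localization.AtPrime m.asIdeal) := by
      rw [← Localization.AtPrime.map_eq_maximalIdeal]
      exact Ideal.map_mono (hradle m)
    rw [htop] at h1
    exact (IsLocalRing.maximalIdeal.isMaximal _).ne_top (top_le_iff.mp h1)
  have hsingle : ∀ (m : MaximalSpectrum S) (z : Localization.AtPrime m.asIdeal),
      z ∈ (rad • ⊤ : Submodule S (Localization.AtPrime m.asIdeal)) →
      (Pi.single m z : (m : MaximalSpectrum S) → Localization.AtPrime m.asIdeal) ∈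
        (rad • ⊤ : Submodule S ((m : MaximalSpectrum S) → Localization.AtPrime m.asIdeal)) := by
    intro m z hz
    have := Submodule.mem_map_of_mem
      (f := LinearMap.single S (fun m : MaximalSpectrum S => Localization.AtPrime m.asIdeal) m) hz
    rw [Submodule.map_smul''] at this
    exact Submodule.smul_mono le_rfl le_top this
  haveI hHN : IsHausdorff rad ((m : MaximalSpectrum S) → Localization.AtPrime m.asIdeal) := by
    refine ⟨fun x hx => funext fun m => ?_⟩
    refine (hHm m).haus _ fun n => ?_
    have h1 := hx n
    rw [SModEq.zero] at h1 ⊢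
    have := Submodule.mem_map_of_mem
      (f := LinearMap.proj (R := S) (φ := fun m : MaximalSpectrum S =>
        Localization.AtPrime m.asIdeal) m) h1
    rw [Submodule.map_smul''] at this
    exact Submodule.smul_mono le_rfl le_top this
  -- pairwise coprimality
  have hcop : Pairwise (Function.onFun IsCoprime fun m : MaximalSpectrum S => m.asIdeal) := by
    intro m m' hne
    haveI := m.isMaximal
    haveI := m'.isMaximal
    exact Ideal.isCoprime_of_isMaximal fun h => hne (MaximalSpectrum.ext h)
  -- separating elements
  have hsep : ∀ m : MaximalSpectrum S, ∃ c : S, c ∉ m.asIdeal ∧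
      ∀ m' : MaximalSpectrum S, m' ≠ m → c ∈ m'.asIdeal := by
    intro m
    obtain ⟨c, hc⟩ := Ideal.pi_quotient_surjective hcop
      (Pi.single m (1 : S ⧸ m.asIdeal))
    refine ⟨c, fun hcm => ?_, fun m' hne => ?_⟩
    · have h1 := hc m
      rw [Pi.single_eq_same, Ideal.Quotient.eq_zero_iff_mem.mpr hcm] at h1
      haveI := m.isMaximal
      exact zero_ne_one h1
    · have h1 := hc m'
      rw [Pi.single_eq_of_ne hne] at h1
      exact Ideal.Quotient.eq_zero_iff_mem.mp h1
  choose c hc1 hc2 using hsep
  -- surjectivity
  have hsurj : Function.Surjective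
      (Algebra.linearMap S ((m : MaximalSpectrum S) → Localization.AtPrime m.asIdeal)) := by
    apply surjective_of_mkQ_comp_surjective (I := rad)
    intro y
    obtain ⟨y', rfl⟩ := Submodule.mkQ_surjective _ y
    have hrep : ∀ m : MaximalSpectrum S, ∃ (a : S) (t : m.asIdeal.primeCompl),
        IsLocalization.mk' (Localization.AtPrime m.asIdeal) a t = y' m := fun m =>
      IsLocalization.exists_mk'_eq m.asIdeal.primeCompl (y' m)
    choose a t hat using hrep
    have hw : ∀ m : MaximalSpectrum S, ∃ w : S, (t m : S) * w - 1 ∈ m.asIdeal := by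
      intro m
      obtain ⟨w, i, hi, hwi⟩ := m.isMaximal.exists_inv (t m).2
      refine ⟨w, ?_⟩
      have : (t m : S) * w - 1 = - i := by
        rw [← hwi]; ring
      rw [this]
      exact neg_mem hi
    choose w hw using hw
    obtain ⟨s, hs⟩ := Ideal.pi_quotient_surjective hcop
      (fun m : MaximalSpectrum S => Ideal.Quotient.mk m.asIdeal (a m * w m))
    have hs' : ∀ m : MaximalSpectrum S, s - a m * w m ∈ m.asIdeal := fun m =>
      Ideal.Quotient.eq.mp (hs m)
    refine ⟨s, ?_⟩
    rw [LinearMap.comp_apply, Submodule.mkQ_apply, Submodule.mkQ_apply, Submodule.Quotient.eq]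
    have key : ∀ m : MaximalSpectrum S,
        algebraMap S (Localization.AtPrime m.asIdeal) s - y' m ∈
          (rad • ⊤ : Submodule S (Localization.AtPrime m.asIdeal)) := by
      intro m
      have hr : ((t m : S) * s - a m) * c m ∈ rad := by
        refine hmemrad _ fun m' => ?_
        by_cases h : m' = m
        · subst h
          refine Ideal.mul_mem_right _ _ ?_
          have : (t m' : S) * s - a m' = (t m' : S) * (s - a m' * w m') +
              a m' * ((t m' : S) * w m' - 1) := by ring
          rw [this]
          exact add_mem (Ideal.mul_mem_left _ _ (hs' m')) (Ideal.mul_mem_left _ _ (hw m'))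
        · exact Ideal.mul_mem_left _ _ (hc2 m m' h)
      have hunit : IsUnit (algebraMap S (Localization.AtPrime m.asIdeal) ((t m : S) * c m)) := by
        refine IsLocalization.map_units (M := m.asIdeal.primeCompl) _
          (⟨(t m : S) * c m, ?_⟩ : m.asIdeal.primeCompl)
        haveI := m.isMaximal
        exact (m.asIdeal.primeCompl).mul_mem (t m).2 (hc1 m)
      obtain ⟨u, hu⟩ := hunit
      have heq : algebraMap S (Localization.AtPrime m.asIdeal) s - y' m =
          (((t m : S) * s - a m) * c m) • ((u⁻¹ : (Localization.AtPrime m.asIdeal)ˣ) :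
            Localization.AtPrime m.asIdeal) := by
        rw [Algebra.smul_def, Units.eq_mul_inv_iff_mul_eq, hu, ← hat m]
        have h3 := IsLocalization.mk'_spec (Localization.AtPrime m.asIdeal) (a m) (t m)
        simp only [map_mul, map_sub]
        rw [sub_mul, ← mul_assoc (IsLocalization.mk' _ (a m) (t m)), h3]
        ring
      rw [heq]
      exact Submodule.smul_mem_smul hr Submodule.mem_top
    have hsum : (Algebra.linearMap S ((m : MaximalSpectrum S) →
        Localization.AtPrime m.asIdeal)) s - y' =
        ∑ m : MaximalSpectrum S, Pi.single m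
          (algebraMap S (Localization.AtPrime m.asIdeal) s - y' m) := by
      rw [Finset.univ_sum_single]
      rfl
    rw [hsum]
    exact Submodule.sum_mem _ fun m _ => hsingle m _ (key m)
  refine ⟨hfin, ⟨MaximalSpectrum.toPiLocalization_injective S, hsurj⟩, fun m => ?_⟩
  haveI := m.isMaximal
  have hNm : IsNoetherianRing (Localization.AtPrime m.asIdeal) :=
    IsLocalization.isNoetherianRing m.asIdeal.primeCompl _ hSN
  refine ⟨hNm, ?_⟩
  have hsurjm : Function.Surjective (algebraMap S (Localization.AtPrime m.asIdeal)) := by
    intro z
    obtain ⟨s, hs⟩ := hsurj (Pi.single m z)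
    refine ⟨s, ?_⟩
    have := congrFun hs m
    rw [Pi.single_eq_same] at this
    exact this
  haveI : Module.Finite R (Localization.AtPrime m.asIdeal) :=
    Module.Finite.of_surjective
      (IsScalarTower.toAlgHom R S (Localization.AtPrime m.asIdeal)).toLinearMap hsurjm
  have := H26.isAdicComplete_jacobson_of_finite R (Localization.AtPrime m.asIdeal)
  rwa [IsLocalRing.jacobson_eq_maximalIdeal ⊥ bot_ne_top] at this

end Groth.Agent.S9405
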