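import Groth.Statements.S9407
import Mathlib

set_option autoImplicit false
universe u
open CAlg

namespace Groth.Agent.S9407

/-- Reducedness ascends along smooth ring maps: if R is reduced and S is smooth over R then S is
reduced. -/
theorem result (R : Type u) [CommRing R] (S : Type u) [CommRing S]
    [Algebra R S] [Algebra.Smooth R S] [IsReduced R] : IsReduced S := by
  classical
  -- Step 1: over a reduced ring, polynomials integral over the base are constant
  have hconst : ∀ p : Polynomial R, IsIntegral R p → ∀ n, n ≠ 0 → p.coeff n = 0 := by
    intro p hp n hn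
    have hnil : IsNilpotent (p.coeff n) := by
      rw [nilpotent_iff_mem_prime]
      intro J hJ
      have hint : IsIntegral (R ⧸ J) (Polynomial.map (Ideal.Quotient.mk J) p) := by
        have := IsIntegral.map_of_comp_eq (Ideal.Quotient.mk J)
          (Polynomial.mapRingHom (Ideal.Quotient.mk J)) (by
            ext r
            simp) hp
        simpa using this
      have hdeg : (Polynomial.map (Ideal.Quotient.mk J) p).natDegree = 0 := by
        by_contra hne
        have hlc : (Polynomial.map (Ideal.Quotient.mk J) p).leadingCoeff ∈
            nonZeroDivisors (R ⧸ J) := by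
          apply mem_nonZeroDivisors_of_ne_zero
          intro h0
          rw [Polynomial.leadingCoeff_eq_zero] at h0
          rw [h0] at hne
          exact hne Polynomial.natDegree_zero
        exact Polynomial.transcendental _ hne hlc hint.isAlgebraic
      have h1 : (Polynomial.map (Ideal.Quotient.mk J) p).coeff n = 0 :=
        Polynomial.coeff_eq_zero_of_natDegree_lt (by rw [hdeg]; exact Nat.pos_of_ne_zero hn)
      rw [Polynomial.coeff_map] at h1
      exact Ideal.Quotient.eq_zero_iff_mem.mp h1
    exact hnil.eq_zero
  -- Step 2: use smooth base change of integral closures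
  refine ⟨fun s hs => ?_⟩
  have hint : IsIntegral S (s ⊗ₜ[R] (Polynomial.X : Polynomial R)) := by
    obtain ⟨n, hn⟩ := hs
    refine ⟨Polynomial.X ^ n, Polynomial.monic_X_pow n, ?_⟩
    rw [Polynomial.eval₂_pow, Polynomial.eval₂_X, Algebra.TensorProduct.tmul_pow, hn,
      TensorProduct.zero_tmul]
  obtain ⟨y, hy⟩ := (TensorProduct.toIntegralClosure_bijective_of_smooth (R := R) (S := S)
    (B := Polynomial R)).2 ⟨s ⊗ₜ Polynomial.X, hint⟩
  have hy' : (Algebra.TensorProduct.map (AlgHom.id S S) (integralClosure R (Polynomial R)).val) y
      = s ⊗ₜ[R] (Polynomial.X : Polynomial R) := congrArg Subtype.val hy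
  have hzero : ∀ y : TensorProduct R S (integralClosure R (Polynomial R)),
      LinearMap.lTensor S (Polynomial.lcoeff R 1)
        ((Algebra.TensorProduct.map (AlgHom.id S S) (integralClosure R (Polynomial R)).val) y)
        = 0 := by
    intro y
    induction y using TensorProduct.induction_on with
    | zero => simp
    | tmul s' b =>
      rw [Algebra.TensorProduct.map_tmul, LinearMap.lTensor_tmul]
      have : Polynomial.lcoeff R 1 ((integralClosure R (Polynomial R)).val b) = 0 :=
        hconst b.1 b.2 1 one_ne_zero
      rw [this, TensorProduct.tmul_zero]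
    | add a b ha hb => rw [map_add, map_add, ha, hb, add_zero]
  have h1 := hzero y
  rw [hy', LinearMap.lTensor_tmul] at h1
  have h2 : Polynomial.lcoeff R 1 (Polynomial.X : Polynomial R) = 1 := by simp
  rw [h2] at h1
  have h3 := congrArg (TensorProduct.rid R S) h1
  rw [TensorProduct.rid_tmul, one_smul, map_zero] at h3
  exact h3

end Groth.Agent.S9407
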