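import Groth.Statements.S9412
import Mathlib

set_option autoImplicit false
universe u
open CAlg TensorProduct

namespace Groth.Agent.S9412

section aux

/-- a localization of a normal ring is normal -/
lemma isNormalRing_of_isLocalization {R S : Type u} [CommRing R] [CommRing S] [Algebra R S]
    (M : Submonoid R) [IsLocalization M S] (h : EGA4.IsNormalRing R) : EGA4.IsNormalRing S := by
  intro p hp
  have : IsLocalization.AtPrime (Localization.AtPrime p) (p.comap (algebraMap R S)) :=
    IsLocalization.isLocalization_isLocalization_atPrime_isLocalization M (Localization.AtPrime p) p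
  let e : Localization.AtPrime (p.comap (algebraMap R S)) ≃ₐ[R] Localization.AtPrime p :=
    IsLocalization.algEquiv (p.comap (algebraMap R S)).primeCompl _ _
  obtain ⟨h1, h2⟩ := h (p.comap (algebraMap R S))
  exact ⟨(e.symm.toRingEquiv.toMulEquiv).isDomain (Localization.AtPrime (p.comap (algebraMap R S))),
    IsIntegrallyClosed.of_equiv e.toRingEquiv⟩

/-- normality is invariant under ring isomorphisms -/
lemma isNormalRing_of_ringEquiv {R S : Type u} [CommRing R] [CommRing S] (e : R ≃+* S)
    (h : EGA4.IsNormalRing R) : EGA4.IsNormalRing S := by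
  letI : Algebra R S := e.toRingHom.toAlgebra
  have : IsLocalization (⊥ : Submonoid R) S := by
    apply IsLocalization.of_le_isUnit_of_bijective
    · rintro _ ⟨x, hx, rfl⟩
      rw [SetLike.mem_coe, Submonoid.mem_bot] at hx
      subst hx
      simp [IsUnit.mem_submonoid_iff]
    · exact e.bijective
  exact isNormalRing_of_isLocalization (⊥ : Submonoid R) h

end aux

/-- A localization of a geometrically normal algebra over a field k is geometrically normal over k. -/
theorem result (k : Type u) [Field k] (A : Type u) [CommRing A]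
    [Algebra k A] (M : Submonoid A) (B : Type u) [CommRing B] [Algebra A B] [IsLocalization M B]
    [Algebra k B] [IsScalarTower k A B] (h : EGA4.IsGeomNormal k A) :
    EGA4.IsGeomNormal k B := by
  intro k' _ _ hfin
  have hA : EGA4.IsNormalRing (k' ⊗[k] A) := h k' hfin
  have hA' : EGA4.IsNormalRing (A ⊗[k] k') :=
    isNormalRing_of_ringEquiv (Algebra.TensorProduct.comm k k' A).toRingEquiv hA
  let φ : A ⊗[k] k' →ₐ[k] B ⊗[k] k' :=
    Algebra.TensorProduct.map (IsScalarTower.toAlgHom k A B) (AlgHom.id k k')
  letI : Algebra (A ⊗[k] k') (B ⊗[k] k') := φ.toRingHom.toAlgebra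
  have hφ : ∀ x, algebraMap (A ⊗[k] k') (B ⊗[k] k') x = φ x := fun x => rfl
  have : IsScalarTower A (A ⊗[k] k') (B ⊗[k] k') := IsScalarTower.of_algebraMap_eq (fun a => by
    rw [hφ, Algebra.TensorProduct.algebraMap_apply, Algebra.TensorProduct.algebraMap_apply]
    simp [φ])
  have hpush : Algebra.IsPushout A B (A ⊗[k] k') (B ⊗[k] k') :=
    Algebra.IsPushout.tensorProduct_tensorProduct k k' A B (by
      ext x
      simp [hφ, φ])
  have hloc : IsLocalization (Algebra.algebraMapSubmonoid (A ⊗[k] k') M) (B ⊗[k] k') :=
    (Algebra.isLocalization_iff_isPushout M B).mpr hpush.symm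
  have hB' : EGA4.IsNormalRing (B ⊗[k] k') :=
    isNormalRing_of_isLocalization (Algebra.algebraMapSubmonoid (A ⊗[k] k') M) hA'
  exact isNormalRing_of_ringEquiv (Algebra.TensorProduct.comm k B k').toRingEquiv hB'

end Groth.Agent.S9412
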