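import Groth.Statements.S9414
import Mathlib

set_option autoImplicit false
universe u
open CAlg

namespace Groth.Agent.S9414

open TensorProduct in
/-- For an algebraically closed field k, a finite type k-algebra S and a maximal ideal m of S with
residue field κ = S/m, the κ-vector spaces κ ⊗_S Ω_{S/k} and m/m² have the same dimension. -/
theorem result (k : Type u) [Field k]
    [IsAlgClosed k] (S : Type u) [CommRing S] [Algebra k S] [Algebra.FiniteType k S]
    (m : Ideal S) [m.IsMaximal] :
    Module.finrank (S ⧸ m) ((S ⧸ m) ⊗[S] Ω[S⁄k]) = Module.finrank (S ⧸ m) m.Cotangent := by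
  classical
  letI : Field (S ⧸ m) := Ideal.Quotient.field m
  -- k → S/m is bijective
  haveI : Algebra.FiniteType k (S ⧸ m) :=
    Algebra.FiniteType.of_surjective (Ideal.Quotient.mkₐ k m) Ideal.Quotient.mk_surjective
  haveI : Module.Finite k (S ⧸ m) := finite_of_finite_type_of_isJacobsonRing k (S ⧸ m)
  have hbij : Function.Bijective (algebraMap k (S ⧸ m)) :=
    IsAlgClosed.algebraMap_bijective_of_isIntegral
  have hf : Function.Surjective (algebraMap S (S ⧸ m)) := Ideal.Quotient.mk_surjective
  -- the section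
  let e : k ≃ₐ[k] (S ⧸ m) := AlgEquiv.ofBijective (Algebra.ofId k (S ⧸ m)) hbij
  let g : (S ⧸ m) →ₐ[k] S ⧸ (RingHom.ker (IsScalarTower.toAlgHom k S (S ⧸ m)).toRingHom ^ 2) :=
    (Algebra.ofId k _).comp e.symm.toAlgHom
  have hg : (IsScalarTower.toAlgHom k S (S ⧸ m)).kerSquareLift.comp g = AlgHom.id k (S ⧸ m) := by
    ext c
    obtain ⟨a, rfl⟩ := e.surjective c
    have h1 : g (e a) = algebraMap k _ a := by
      simp only [g, AlgHom.comp_apply, AlgEquiv.coe_toAlgHom, AlgEquiv.symm_apply_apply]
      rfl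
    have h2 : e a = algebraMap k (S ⧸ m) a := rfl
    show (IsScalarTower.toAlgHom k S (S ⧸ m)).kerSquareLift (g (e a)) = e a
    rw [h1, AlgHom.commutes, h2]
  obtain ⟨l, hl⟩ := (retractionKerCotangentToTensorEquivSection (R := k) hf).symm ⟨g, hg⟩
  have hinj : Function.Injective (KaehlerDifferential.kerCotangentToTensor k S (S ⧸ m)) := by
    intro x y hxy
    have := congrArg l hxy
    rwa [← LinearMap.comp_apply, ← LinearMap.comp_apply, hl] at this
  have hsub : Subsingleton Ω[(S ⧸ m)⁄k] := KaehlerDifferential.subsingleton_of_surjective k (S ⧸ m) hbij.2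
  have hsurj : Function.Surjective (KaehlerDifferential.kerCotangentToTensor k S (S ⧸ m)) := by
    intro x
    exact (KaehlerDifferential.exact_kerCotangentToTensor_mapBaseChange k S (S ⧸ m) hf x).1
      (Subsingleton.elim _ _)
  -- identify the kernel with m
  have hK : RingHom.ker (algebraMap S (S ⧸ m)) = m := by
    rw [Ideal.Quotient.algebraMap_eq, Ideal.mk_ker]
  let e1 : m.Cotangent →ₗ[S] (RingHom.ker (algebraMap S (S ⧸ m))).Cotangent :=
    Ideal.mapCotangent m (RingHom.ker (algebraMap S (S ⧸ m))) (AlgHom.id S S) (by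
      rw [hK]; exact fun x hx => hx)
  have he1 : Function.Bijective e1 := by
    constructor
    · rw [injective_iff_map_eq_zero]
      intro x hx
      obtain ⟨⟨x', hx'⟩, rfl⟩ := Ideal.toCotangent_surjective _ x
      rw [Ideal.mapCotangent_toCotangent, Ideal.toCotangent_eq_zero] at hx
      rw [Ideal.toCotangent_eq_zero]
      simpa [hK] using hx
    · intro y
      obtain ⟨⟨y', hy'⟩, rfl⟩ := Ideal.toCotangent_surjective _ y
      refine ⟨m.toCotangent ⟨y', hK ▸ hy'⟩, ?_⟩
      rw [Ideal.mapCotangent_toCotangent]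
      rfl
  let φ : m.Cotangent ≃ₗ[S] (S ⧸ m) ⊗[S] Ω[S⁄k] :=
    LinearEquiv.ofBijective ((KaehlerDifferential.kerCotangentToTensor k S (S ⧸ m)).comp e1)
      ⟨hinj.comp he1.1, hsurj.comp he1.2⟩
  exact (LinearEquiv.finrank_eq (LinearEquiv.extendScalarsOfSurjective hf φ)).symm


end Groth.Agent.S9414
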