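import Groth.Statements.S9415
import Mathlib

set_option autoImplicit false
universe u
open CAlg

namespace Groth.Agent.S9415

open TensorProduct in
theorem linIndep_pow {k K : Type u} [Field k] [Field K] [Algebra k K]
    [Algebra.IsGeometricallyReduced k K] (p : ℕ) (hp : p.Prime) [ExpChar k p]
    (s : Finset K) (hs : LinearIndepOn k _root_.id (s : Set K)) :
    LinearIndepOn k (· ^ p) (s : Set K) := by
  let Ω := AlgebraicClosure k
  haveI : ExpChar Ω p := expChar_of_injective_algebraMap (algebraMap k Ω).injective p
  haveI : IsReduced (Ω ⊗[k] K) := inferInstance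
  haveI : Nontrivial (Ω ⊗[k] K) := inferInstance
  haveI : ExpChar (Ω ⊗[k] K) p :=
    expChar_of_injective_algebraMap (algebraMap Ω (Ω ⊗[k] K)).injective p
  have h1 : LinearIndependent Ω (fun x : (s : Set K) => (1 : Ω) ⊗ₜ[k] (x : K)) :=
    Module.Flat.linearIndependent_one_tmul (S := Ω) hs
  have h2 := h1.map_of_injective_injective (R' := Ω) (M' := Ω ⊗[k] K)
    (frobeniusEquiv Ω p).symm (frobenius (Ω ⊗[k] K) p).toAddMonoidHom
    (by simp)
    (by
      intro m hm
      exact IsReduced.eq_zero _ ⟨p, hm⟩)
    (by
      intro r m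
      simp [frobenius, Algebra.smul_def, mul_pow, ← map_pow, frobeniusEquiv_symm_pow])
  have h3 := h2.restrict_scalars' k
  have hfun : ((Algebra.TensorProduct.includeRight (R := k) (A := Ω) (B := K)).toLinearMap ∘
      fun x : (s : Set K) => ((x : K)) ^ p) =
      (⇑(frobenius (Ω ⊗[k] K) p).toAddMonoidHom ∘
        fun x : (s : Set K) => (1 : Ω) ⊗ₜ[k] (x : K)) := by
    ext x
    simp [frobenius, Algebra.TensorProduct.tmul_pow]
  have h4 : LinearIndependent k
      ((Algebra.TensorProduct.includeRight (R := k) (A := Ω) (B := K)).toLinearMap ∘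
        fun x : (s : Set K) => ((x : K)) ^ p) := by
    rw [hfun]; exact h3
  exact LinearIndependent.of_comp _ h4

theorem formallySmooth_of_geomReduced (k K : Type u) [Field k] [Field K] [Algebra k K]
    [Algebra.EssFiniteType k K] [Algebra.IsGeometricallyReduced k K] :
    Algebra.FormallySmooth k K := by
  obtain _ | ⟨p, hp, hpk⟩ := CharP.exists' k
  · infer_instance
  · haveI : ExpChar k p := .prime hp.out
    obtain ⟨s, hs, H⟩ :=
      exists_isTranscendenceBasis_and_isSeparable_of_linearIndepOn_pow_of_essFiniteType
        (k := k) (K := K) p hp.out (fun s hs => linIndep_pow p hp.out s hs)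
    have : Algebra.IsSeparable (↥(IntermediateField.adjoin k (Set.range ((↑) : s → K)))) K := by
      convert! H <;> simp
    exact .of_algebraicIndependent_of_isSeparable hs.1

theorem exists_section {k P S : Type u} [CommRing k] [CommRing P] [CommRing S] [Algebra k P]
    [Algebra k S] [Algebra.FormallySmooth k S] (f : P →ₐ[k] S) (hf : Function.Surjective f) :
    ∃ g : S →ₐ[k] P ⧸ RingHom.ker f.toRingHom ^ 2, f.kerSquareLift.comp g = AlgHom.id k S := by
  have hsurj : Function.Surjective f.kerSquareLift := fun x => by
    obtain ⟨y, rfl⟩ := hf x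
    exact ⟨Ideal.Quotient.mk _ y, rfl⟩
  have hnil : IsNilpotent (RingHom.ker
      (f.kerSquareLift : (P ⧸ RingHom.ker f.toRingHom ^ 2) →+* S)) := by
    refine ⟨2, ?_⟩
    rw [Ideal.zero_eq_bot]
    erw [AlgHom.ker_kerSquareLift]
    exact Ideal.cotangentIdeal_square _
  exact ⟨Algebra.FormallySmooth.liftOfSurjective (AlgHom.id k S) f.kerSquareLift hsurj hnil,
    Algebra.FormallySmooth.comp_liftOfSurjective _ _ hsurj hnil⟩


/-- Let R be a Noetherian local algebra over a field k whose residue field κ is a finitely generated,
separable (that is, geometrically reduced) field extension of k. Then the map from m/m² (m the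
maximal ideal, realised as the kernel of R → κ) to κ ⊗_R Ω_{R/k} sending the class of x to 1 ⊗ dx is
injective. -/
theorem result (k : Type u) [Field k] (R : Type u)
    [CommRing R] [IsLocalRing R] [IsNoetherianRing R] [Algebra k R]
    [Algebra.EssFiniteType k (IsLocalRing.ResidueField R)]
    [Algebra.IsGeometricallyReduced k (IsLocalRing.ResidueField R)] :
    Function.Injective
      (KaehlerDifferential.kerCotangentToTensor k R (IsLocalRing.ResidueField R)) := by
  haveI : Algebra.FormallySmooth k (IsLocalRing.ResidueField R) :=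
    formallySmooth_of_geomReduced k _
  have hf : Function.Surjective (algebraMap R (IsLocalRing.ResidueField R)) :=
    IsLocalRing.residue_surjective
  obtain ⟨g, hg⟩ := exists_section (IsScalarTower.toAlgHom k R (IsLocalRing.ResidueField R)) hf
  obtain ⟨l, hl⟩ := (retractionKerCotangentToTensorEquivSection
    (R := k) hf).symm ⟨g, hg⟩
  exact Function.LeftInverse.injective (g := l) (fun x => LinearMap.congr_fun hl x)

end Groth.Agent.S9415
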