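import Groth.Statements.S9425
import Mathlib
import Groth.Agent.S9424

set_option autoImplicit false
universe u
open CAlg

namespace Groth.Agent.S9425

/-- A directed colimit of formally étale R-algebras is formally étale over R. The colimit is encoded by
compatible R-algebra maps S_i → S which are jointly surjective and whose kernels die further along
the system. -/
theorem result {ι : Type u} [Preorder ι] [IsDirected ι (· ≤ ·)] [Nonempty ι]
    (R : Type u) [CommRing R] (G : ι → Type u) [∀ i, CommRing (G i)] [∀ i, Algebra R (G i)]
    (f : ∀ i j, i ≤ j → (G i →ₐ[R] G j)) (S : Type u) [CommRing S] [Algebra R S]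
    (g : ∀ i, G i →ₐ[R] S) (hg : ∀ i j (h : i ≤ j), (g j).comp (f i j h) = g i)
    (hsurj : ∀ s : S, ∃ i, ∃ x : G i, g i x = s)
    (hker : ∀ i (x : G i), g i x = 0 → ∃ j, ∃ h : i ≤ j, f i j h x = 0)
    (h : ∀ i, Algebra.FormallyEtale R (G i)) : Algebra.FormallyEtale R S := by
  have hunr : Algebra.FormallyUnramified R S :=
    Groth.Agent.S9424.result R G f S g hg hsurj hker (fun i => inferInstance)
  have hsm : Algebra.FormallySmooth R S := by
    refine Algebra.FormallySmooth.of_comp_surjective ?_
    intro B _ _ I hI φ
    -- the unique lifts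
    have hbij : ∀ i, Function.Bijective
        ((Ideal.Quotient.mkₐ R I).comp : (G i →ₐ[R] B) → G i →ₐ[R] B ⧸ I) :=
      fun i => Algebra.FormallyEtale.comp_bijective R (G i) I hI
    choose ψ hψ using fun i => (hbij i).2 (φ.comp (g i))
    have hcompat : ∀ i j (hij : i ≤ j), (ψ j).comp (f i j hij) = ψ i := by
      intro i j hij
      apply (hbij i).1
      show (Ideal.Quotient.mkₐ R I).comp ((ψ j).comp (f i j hij)) = (Ideal.Quotient.mkₐ R I).comp (ψ i)
      rw [hψ i, ← AlgHom.comp_assoc, hψ j, AlgHom.comp_assoc, hg]
    have hcompat' : ∀ i j (hij : i ≤ j) (x : G i), ψ j (f i j hij x) = ψ i x :=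
      fun i j hij x => DFunLike.congr_fun (hcompat i j hij) x
    have hg' : ∀ i j (hij : i ≤ j) (x : G i), g j (f i j hij x) = g i x :=
      fun i j hij x => DFunLike.congr_fun (hg i j hij) x
    -- well-definedness
    have hwd : ∀ i j (x : G i) (y : G j), g i x = g j y → ψ i x = ψ j y := by
      intro i j x y hxy
      obtain ⟨k, hik, hjk⟩ := exists_ge_ge i j
      have h0 : g k (f i k hik x - f j k hjk y) = 0 := by
        rw [map_sub, hg', hg', hxy, sub_self]
      obtain ⟨l, hkl, hl⟩ := hker k _ h0
      have h1 : ψ l (f k l hkl (f i k hik x - f j k hjk y)) = 0 := by rw [hl, map_zero]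
      rw [map_sub, map_sub, hcompat', hcompat', hcompat', hcompat', sub_eq_zero] at h1
      exact h1
    choose idx rep hrep using hsurj
    have hstar : ∀ i (x : G i), ψ (idx (g i x)) (rep (g i x)) = ψ i x :=
      fun i x => hwd _ _ _ _ (hrep (g i x))
    let Ψ : S →ₐ[R] B :=
      { toFun := fun s => ψ (idx s) (rep s)
        map_one' := by
          obtain ⟨i⟩ := ‹Nonempty ι›
          have : (1 : S) = g i 1 := (map_one _).symm
          rw [this, hstar, map_one]
        map_mul' := by
          intro s t
          obtain ⟨k, hik, hjk⟩ := exists_ge_ge (idx s) (idx t)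
          have hs : s = g k (f _ k hik (rep s)) := by rw [hg', hrep]
          have ht : t = g k (f _ k hjk (rep t)) := by rw [hg', hrep]
          have hst : s * t = g k (f _ k hik (rep s) * f _ k hjk (rep t)) := by
            rw [map_mul, ← hs, ← ht]
          rw [hst, hstar, map_mul, hcompat', hcompat']
        map_zero' := by
          obtain ⟨i⟩ := ‹Nonempty ι›
          have : (0 : S) = g i 0 := (map_zero _).symm
          rw [this, hstar, map_zero]
        map_add' := by
          intro s t
          obtain ⟨k, hik, hjk⟩ := exists_ge_ge (idx s) (idx t)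
          have hs : s = g k (f _ k hik (rep s)) := by rw [hg', hrep]
          have ht : t = g k (f _ k hjk (rep t)) := by rw [hg', hrep]
          have hst : s + t = g k (f _ k hik (rep s) + f _ k hjk (rep t)) := by
            rw [map_add, ← hs, ← ht]
          rw [hst, hstar, map_add, hcompat', hcompat']
        commutes' := by
          intro r
          obtain ⟨i⟩ := ‹Nonempty ι›
          have : algebraMap R S r = g i (algebraMap R (G i) r) := (AlgHom.commutes _ _).symm
          rw [this]
          show ψ (idx (g i _)) (rep (g i _)) = _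
          rw [hstar, AlgHom.commutes] }
    refine ⟨Ψ, ?_⟩
    ext s
    show Ideal.Quotient.mk I (ψ (idx s) (rep s)) = φ s
    have := DFunLike.congr_fun (hψ (idx s)) (rep s)
    simp only [AlgHom.comp_apply, Ideal.Quotient.mkₐ_eq_mk] at this
    rw [this, hrep]
  exact Algebra.FormallyEtale.of_formallyUnramified_and_formallySmooth

end Groth.Agent.S9425
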