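import Groth.Statements.S9428
import Mathlib

set_option autoImplicit false
universe u
open CAlg

namespace Groth.Agent.S9428

/-- If R → S is formally étale and J ⊆ S is an ideal with R → S/J surjective, I ⊆ R its kernel (the
preimage of J), then R/I^n → S/J^n is bijective for all n. (The published statement adds that the
associated graded rings are then isomorphic, which follows from these bijections.) -/
theorem result (R : Type u) [CommRing R] (S : Type u)
    [CommRing S] [Algebra R S] [Algebra.FormallyEtale R S] (J : Ideal S)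
    (hJ : Function.Surjective (algebraMap R (S ⧸ J))) (n : ℕ) :
    Function.Bijective (Ideal.quotientMap (J ^ n) (algebraMap R S)
      (le_of_le_of_eq (Ideal.le_comap_pow (algebraMap R S) n) rfl :
        (J.comap (algebraMap R S)) ^ n ≤ (J ^ n).comap (algebraMap R S))) := by
  classical
  rcases Nat.eq_zero_or_pos n with rfl | hn
  · -- both sides are trivial rings
    have h1 : Subsingleton (R ⧸ (J.comap (algebraMap R S)) ^ 0) := by
      rw [pow_zero, Ideal.one_eq_top]; infer_instance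
    have h2 : Subsingleton (S ⧸ J ^ 0) := by
      rw [pow_zero, Ideal.one_eq_top]; infer_instance
    exact ⟨fun a b _ => Subsingleton.elim a b, fun b => ⟨0, Subsingleton.elim _ _⟩⟩
  set I : Ideal R := J.comap (algebraMap R S) with hI
  -- the map R/I^n → S/J
  have hIJ : ∀ a ∈ I ^ n, Algebra.ofId R (S ⧸ J) a = 0 := by
    intro a ha
    have ha' : a ∈ I := Ideal.pow_le_self (Nat.pos_iff_ne_zero.1 hn) ha
    show algebraMap R (S ⧸ J) a = 0
    rw [IsScalarTower.algebraMap_apply R S (S ⧸ J), Ideal.Quotient.algebraMap_eq,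
      Ideal.Quotient.eq_zero_iff_mem]
    exact ha'
  let gR : (R ⧸ I ^ n) →ₐ[R] (S ⧸ J) := Ideal.Quotient.liftₐ (I ^ n) (Algebra.ofId R (S ⧸ J)) hIJ
  have hgR_mk : ∀ r : R, gR (Ideal.Quotient.mk (I ^ n) r) = algebraMap R (S ⧸ J) r := fun r => rfl
  have hgR_surj : Function.Surjective gR := by
    intro y
    obtain ⟨r, rfl⟩ := hJ y
    exact ⟨Ideal.Quotient.mk _ r, rfl⟩
  have hker_le : RingHom.ker (gR : (R ⧸ I ^ n) →+* (S ⧸ J)) ≤ I.map (Ideal.Quotient.mk (I ^ n)) := by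
    intro x hx
    obtain ⟨r, rfl⟩ := Ideal.Quotient.mk_surjective x
    rw [RingHom.mem_ker] at hx
    have hx' : algebraMap R (S ⧸ J) r = 0 := hx
    rw [IsScalarTower.algebraMap_apply R S (S ⧸ J), Ideal.Quotient.algebraMap_eq,
      Ideal.Quotient.eq_zero_iff_mem] at hx'
    exact Ideal.mem_map_of_mem _ hx'
  have hker_pow : RingHom.ker (gR : (R ⧸ I ^ n) →+* (S ⧸ J)) ^ n = ⊥ := by
    rw [eq_bot_iff]
    calc RingHom.ker (gR : (R ⧸ I ^ n) →+* (S ⧸ J)) ^ n
        ≤ (I.map (Ideal.Quotient.mk (I ^ n))) ^ n := Ideal.pow_right_mono hker_le n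
      _ = (I ^ n).map (Ideal.Quotient.mk (I ^ n)) := (Ideal.map_pow _ _ _).symm
      _ = ⊥ := Ideal.map_quotient_self _
  have hnil : IsNilpotent (RingHom.ker (gR : (R ⧸ I ^ n) →+* (S ⧸ J))) := ⟨n, hker_pow⟩
  let σ : S →ₐ[R] (R ⧸ I ^ n) :=
    Algebra.FormallySmooth.liftOfSurjective (Ideal.Quotient.mkₐ R J) gR hgR_surj hnil
  have hσ : ∀ s : S, gR (σ s) = Ideal.Quotient.mk J s := fun s =>
    Algebra.FormallySmooth.liftOfSurjective_apply (Ideal.Quotient.mkₐ R J) gR hgR_surj hnil s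
  have hσJ : J ≤ (RingHom.ker (gR : (R ⧸ I ^ n) →+* (S ⧸ J))).comap (σ : S →+* (R ⧸ I ^ n)) := by
    intro s hs
    rw [Ideal.mem_comap, RingHom.mem_ker]
    show gR (σ s) = 0
    rw [hσ, Ideal.Quotient.eq_zero_iff_mem]
    exact hs
  have hσJn : ∀ s ∈ J ^ n, σ s = 0 := by
    intro s hs
    have h1 : J ^ n ≤ ((RingHom.ker (gR : (R ⧸ I ^ n) →+* (S ⧸ J))) ^ n).comap
        (σ : S →+* (R ⧸ I ^ n)) :=
      (Ideal.pow_right_mono hσJ n).trans (Ideal.le_comap_pow _ n)
    have h2 := h1 hs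
    rw [hker_pow, Ideal.mem_comap, Ideal.mem_bot] at h2
    exact h2
  let σb : (S ⧸ J ^ n) →ₐ[R] (R ⧸ I ^ n) := Ideal.Quotient.liftₐ (J ^ n) σ hσJn
  have hσb_mk : ∀ s : S, σb (Ideal.Quotient.mk (J ^ n) s) = σ s := fun s => rfl
  -- the quotient map as an algebra hom
  let qa : (R ⧸ I ^ n) →ₐ[R] (S ⧸ J ^ n) :=
    Ideal.quotientMapₐ (J ^ n) (Algebra.ofId R S) (Ideal.le_comap_pow (algebraMap R S) n)
  have hq_mk : ∀ r : R, qa (Ideal.Quotient.mk (I ^ n) r) = Ideal.Quotient.mk (J ^ n) (algebraMap R S r) :=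
    fun r => rfl
  have hq_eq : ∀ x, Ideal.quotientMap (J ^ n) (algebraMap R S)
      (le_of_le_of_eq (Ideal.le_comap_pow (algebraMap R S) n) rfl :
        (J.comap (algebraMap R S)) ^ n ≤ (J ^ n).comap (algebraMap R S)) x = qa x := by
    intro x
    obtain ⟨r, rfl⟩ := Ideal.Quotient.mk_surjective x
    rfl
  have hleft : ∀ x, σb (qa x) = x := by
    intro x
    obtain ⟨r, rfl⟩ := Ideal.Quotient.mk_surjective x
    rw [hq_mk, hσb_mk, AlgHom.commutes]
    rfl
  -- the factor map S/J^n → S/J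
  have hJn_le : J ^ n ≤ J := Ideal.pow_le_self (Nat.pos_iff_ne_zero.1 hn)
  let π : (S ⧸ J ^ n) →+* (S ⧸ J) := Ideal.Quotient.factor hJn_le
  have hπ_mk : ∀ s : S, π (Ideal.Quotient.mk (J ^ n) s) = Ideal.Quotient.mk J s := fun s => rfl
  have hπker : IsNilpotent (RingHom.ker π) := by
    refine ⟨n, ?_⟩
    have hle : RingHom.ker π ≤ J.map (Ideal.Quotient.mk (J ^ n)) := by
      intro x hx
      obtain ⟨s, rfl⟩ := Ideal.Quotient.mk_surjective x
      rw [RingHom.mem_ker, hπ_mk, Ideal.Quotient.eq_zero_iff_mem] at hx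
      exact Ideal.mem_map_of_mem _ hx
    rw [Ideal.zero_eq_bot, eq_bot_iff]
    calc RingHom.ker π ^ n ≤ (J.map (Ideal.Quotient.mk (J ^ n))) ^ n := Ideal.pow_right_mono hle n
      _ = (J ^ n).map (Ideal.Quotient.mk (J ^ n)) := (Ideal.map_pow _ _ _).symm
      _ = ⊥ := Ideal.map_quotient_self _
  have hab : Ideal.Quotient.mkₐ R (J ^ n) = qa.comp σ := by
    refine Algebra.FormallyUnramified.ext' π hπker _ _ ?_
    intro s
    show π (Ideal.Quotient.mk (J ^ n) s) = π (qa (σ s))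
    rw [hπ_mk]
    obtain ⟨r, hr⟩ := Ideal.Quotient.mk_surjective (σ s)
    rw [← hr, hq_mk, hπ_mk, ← hσ s, ← hr, hgR_mk, IsScalarTower.algebraMap_apply R S (S ⧸ J),
      Ideal.Quotient.algebraMap_eq]
  have hright : ∀ y, qa (σb y) = y := by
    intro y
    obtain ⟨s, rfl⟩ := Ideal.Quotient.mk_surjective y
    rw [hσb_mk]
    exact (DFunLike.congr_fun hab s).symm
  constructor
  · intro x y hxy
    rw [hq_eq, hq_eq] at hxy
    rw [← hleft x, ← hleft y, hxy]
  · intro y
    exact ⟨σb y, by rw [hq_eq, hright]⟩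


end Groth.Agent.S9428
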