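import Groth.Statements.S9431
import Mathlib

set_option autoImplicit false
set_option linter.style.haveILetI false
universe u
open CAlg

namespace Groth.Agent.S9431

open TensorProduct in
/-- Mac Lane: over a geometrically reduced field extension, `p`-th powers of linearly independent
elements stay linearly independent. -/
lemma linearIndepOn_pow {k L : Type*} [Field k] [Field L] [Algebra k L]
    [Algebra.IsGeometricallyReduced k L] (p : ℕ) [hp : Fact p.Prime] [CharP k p] (s : Finset L)
    (hs : LinearIndepOn k _root_.id (s : Set L)) : LinearIndepOn k (· ^ p) (s : Set L) := by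
  classical
  haveI : IsReduced (AlgebraicClosure k ⊗[k] L) := inferInstance
  haveI : Nontrivial (AlgebraicClosure k ⊗[k] L) :=
    Algebra.TensorProduct.nontrivial_of_algebraMap_injective_of_flat_left (R := k)
      (A := AlgebraicClosure k) (B := L) (algebraMap k L).injective
  haveI : CharP (AlgebraicClosure k ⊗[k] L) p :=
    charP_of_injective_algebraMap (algebraMap k (AlgebraicClosure k ⊗[k] L)).injective p
  haveI : ExpChar (AlgebraicClosure k ⊗[k] L) p := ExpChar.prime hp.out
  rw [LinearIndepOn, Fintype.linearIndependent_iff]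
  intro g hg i
  choose d hd using fun i : (s : Set L) =>
    IsAlgClosed.exists_pow_nat_eq (algebraMap k (AlgebraicClosure k) (g i)) hp.out.pos
  have hz : (∑ i : (s : Set L), d i ⊗ₜ[k] (i : L)) ^ p = 0 := by
    rw [sum_pow_char p]
    have h1 : ∀ i : (s : Set L), (d i ⊗ₜ[k] (i : L)) ^ p =
        (1 : AlgebraicClosure k) ⊗ₜ[k] (g i • (i : L) ^ p) := by
      intro i
      rw [Algebra.TensorProduct.tmul_pow, hd, Algebra.algebraMap_eq_smul_one,
        TensorProduct.smul_tmul]
    simp_rw [h1, ← TensorProduct.tmul_sum]
    have hg' : ∑ i : (s : Set L), g i • (i : L) ^ p = 0 := hg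
    rw [hg', TensorProduct.tmul_zero]
  have hz0 : (∑ i : (s : Set L), d i ⊗ₜ[k] (i : L)) = 0 := (show IsNilpotent _ from ⟨p, hz⟩).eq_zero
  have hli : LinearIndependent (AlgebraicClosure k)
      (fun i : (s : Set L) => (1 : AlgebraicClosure k) ⊗ₜ[k] (i : L)) :=
    Module.Flat.linearIndependent_one_tmul hs
  have hd0 := Fintype.linearIndependent_iff.mp hli d (by
    rw [← hz0]
    refine Finset.sum_congr rfl fun i _ => ?_
    rw [TensorProduct.smul_tmul', smul_eq_mul, mul_one])
  have hgi : algebraMap k (AlgebraicClosure k) (g i) = 0 := by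
    rw [← hd i, hd0 i, zero_pow hp.out.ne_zero]
  exact (map_eq_zero _).mp hgi

/-- A finitely generated, geometrically reduced field extension is formally smooth. -/
lemma formallySmooth_of_geomReduced {k L : Type*} [Field k] [Field L] [Algebra k L]
    [Algebra.IsGeometricallyReduced k L] [Algebra.EssFiniteType k L] :
    Algebra.FormallySmooth k L := by
  obtain _ | ⟨p, hp, hpk⟩ := CharP.exists' k
  · infer_instance
  · haveI : ExpChar k p := .prime hp.out
    obtain ⟨s, hs, hsep⟩ :=
      exists_isTranscendenceBasis_and_isSeparable_of_linearIndepOn_pow_of_essFiniteType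
        (k := k) (K := L) p hp.out (fun s hs => linearIndepOn_pow p s hs)
    have : Algebra.IsSeparable (↥(IntermediateField.adjoin k (Set.range ((↑) : s → L)))) L := by
      convert! hsep <;> simp
    exact .of_algebraicIndependent_of_isSeparable hs.1


open scoped IntermediateField.algebraAdjoinAdjoin in
/-- For a separable (geometrically reduced) field extension K/k, every finite subset of K lies in a
k-subalgebra of K which is smooth over k; in particular K is a filtered colimit of smooth
k-algebras. -/
theorem result (k : Type u) [Field k]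
    (K : Type u) [Field K] [Algebra k K] [Algebra.IsGeometricallyReduced k K] (E : Finset K) :
    ∃ A : Subalgebra k K, (↑E : Set K) ⊆ (A : Set K) ∧ Algebra.Smooth k A := by
  classical
  let A₀ : Subalgebra k K := Algebra.adjoin k (E : Set K)
  let L : IntermediateField k K := IntermediateField.adjoin k (E : Set K)
  haveI : Algebra.FiniteType k A₀ := Algebra.FiniteType.adjoin_of_finite E.finite_toSet
  haveI : Algebra.FinitePresentation k A₀ := Algebra.FinitePresentation.of_finiteType.mp inferInstance
  haveI : Algebra.EssFiniteType k L := IntermediateField.essFiniteType_iff.mpr ⟨E, rfl⟩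
  haveI : Algebra.IsGeometricallyReduced k L :=
    Algebra.IsGeometricallyReduced.of_injective L.val Subtype.val_injective
  haveI hL : Algebra.FormallySmooth k L := formallySmooth_of_geomReduced
  haveI : IsFractionRing A₀ (Localization.AtPrime (⊥ : Ideal A₀)) := by
    simpa [Ideal.primeCompl_bot] using Localization.isLocalization (M := (⊥ : Ideal A₀).primeCompl)
  let e : Localization.AtPrime (⊥ : Ideal A₀) ≃ₐ[A₀] L :=
    IsLocalization.algEquiv (nonZeroDivisors A₀) _ _
  haveI : Algebra.IsSmoothAt k (⊥ : Ideal A₀) :=
    Algebra.FormallySmooth.of_equiv (e.symm.restrictScalars k)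
  obtain ⟨g, hg, hsm⟩ := Algebra.IsSmoothAt.exists_notMem_smooth k (⊥ : Ideal A₀)
  have hg0 : (g : K) ≠ 0 := by
    intro h; apply hg
    rw [Ideal.mem_bot]; exact Subtype.ext h
  have hunit : ∀ y : Submonoid.powers g, IsUnit (A₀.val (y : A₀)) := by
    rintro ⟨_, n, rfl⟩
    rw [map_pow]
    exact (isUnit_iff_ne_zero.mpr hg0).pow n
  let ψ : Localization.Away g →ₐ[k] K := IsLocalization.liftAlgHom (M := Submonoid.powers g) hunit
  have hψinj : Function.Injective ψ := by
    rw [injective_iff_map_eq_zero]
    intro x hx
    obtain ⟨a, t, rfl⟩ := IsLocalization.exists_mk'_eq (Submonoid.powers g) x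
    rw [IsLocalization.coe_liftAlgHom, IsLocalization.lift_mk'_spec, mul_zero] at hx
    have ha : a = 0 := Subtype.ext hx
    rw [ha, IsLocalization.mk'_zero]
  refine ⟨ψ.range, ?_, Algebra.Smooth.of_equiv (AlgEquiv.ofInjective ψ hψinj)⟩
  intro x hx
  refine ⟨algebraMap A₀ (Localization.Away g) ⟨x, Algebra.subset_adjoin hx⟩, ?_⟩
  show (IsLocalization.lift hunit) (algebraMap A₀ (Localization.Away g) _) = x
  rw [IsLocalization.lift_eq]
  rfl

end Groth.Agent.S9431
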