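import Groth.Statements.S9433
import Mathlib

set_option autoImplicit false
set_option linter.style.haveILetI false
universe u
open CAlg

namespace Groth.Agent.S9433

/-- Let R → S be a local homomorphism of local rings with S the localization of an étale R-algebra at a
prime, inducing an isomorphism of residue fields. Then for some t in the maximal ideal of R the maps
R/t^nR → S/t^nS are bijective for all n ≥ 1. -/
theorem result (R : Type u) [CommRing R] [IsLocalRing R] (T : Type u) [CommRing T] [Algebra R T]
    [Algebra.Etale R T] (q : Ideal T) [q.IsPrime] (S : Type u) [CommRing S] [IsLocalRing S]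
    [Algebra T S] [IsLocalization.AtPrime S q] [Algebra R S] [IsScalarTower R T S]
    [IsLocalHom (algebraMap R S)]
    (hres : Function.Bijective (IsLocalRing.ResidueField.map (algebraMap R S))) :
    ∃ t ∈ IsLocalRing.maximalIdeal R, ∀ n : ℕ, 1 ≤ n →
      Function.Bijective (Ideal.quotientMap ((Ideal.span {t ^ n}).map (algebraMap R S))
        (algebraMap R S) Ideal.le_comap_map) := by
  classical
  -- faithful flatness
  haveI : Module.Flat T S := IsLocalization.flat S q.primeCompl
  haveI : Module.Flat R S := Module.Flat.trans R T S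
  haveI : Module.FaithfullyFlat R S := Module.FaithfullyFlat.of_flat_of_isLocalHom
  have hinj : ∀ I : Ideal R, Function.Injective (Ideal.quotientMap (I.map (algebraMap R S))
      (algebraMap R S) Ideal.le_comap_map) := fun I =>
    Ideal.quotientMap_injective' (le_of_eq (Ideal.comap_map_eq_self_of_faithfullyFlat I))
  -- the key element
  obtain ⟨t, ht, hsurj1⟩ : ∃ t ∈ IsLocalRing.maximalIdeal R, ∀ s : S, ∃ r : R,
      s - algebraMap R S r ∈ Ideal.span {algebraMap R S t} := by
    haveI : Algebra.FormallyEtale R (Localization.AtPrime q) :=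
      Algebra.FormallyEtale.comp R T (Localization.AtPrime q)
    obtain ⟨f₀, hf₀, hstd⟩ := Algebra.IsEtaleAt.exists_isStandardEtale (R := R) q
    obtain ⟨Pr⟩ := hstd.nonempty_standardEtalePresentation
    have hu : IsUnit (algebraMap T S f₀) :=
      IsLocalization.map_units S (⟨f₀, hf₀⟩ : q.primeCompl)
    let lam : Localization.Away f₀ →+* S := IsLocalization.Away.lift f₀ hu
    have hlam : ∀ τ : T, lam (algebraMap T (Localization.Away f₀) τ) = algebraMap T S τ :=
      fun τ => IsLocalization.Away.lift_eq f₀ hu τ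
    let φ : Localization.Away f₀ →ₐ[R] S :=
      { lam with
        commutes' := fun r => by
          show lam (algebraMap R (Localization.Away f₀) r) = algebraMap R S r
          rw [IsScalarTower.algebraMap_apply R T (Localization.Away f₀), hlam,
            ← IsScalarTower.algebraMap_apply] }
    have hφ : ∀ τ : T, φ (algebraMap T (Localization.Away f₀) τ) = algebraMap T S τ := hlam
    set x : S := φ Pr.x with hx
    have hmapx : Pr.P.HasMap x := Pr.hasMap.map φ
    -- the residue class of x comes from R
    obtain ⟨abar, habar⟩ := hres.2 (IsLocalRing.residue S x)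
    obtain ⟨a, rfl⟩ := IsLocalRing.residue_surjective abar
    set x₀ : S := algebraMap R S a with hx₀
    have hxa : x - x₀ ∈ IsLocalRing.maximalIdeal S := by
      have h : IsLocalRing.residue S (x - x₀) = 0 := by
        rw [map_sub, ← habar, IsLocalRing.ResidueField.map_residue, sub_self]
      exact (IsLocalRing.residue_eq_zero_iff _).mp h
    have hxa' : x₀ - x ∈ IsLocalRing.maximalIdeal S := by
      rw [← neg_sub]; exact neg_mem hxa
    -- Taylor expansion
    obtain ⟨k, hk⟩ := Polynomial.binomExpansion (Pr.f.map (algebraMap R S)) x (x₀ - x)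
    rw [add_sub_cancel, Polynomial.derivative_map, Polynomial.eval_map_algebraMap,
      Polynomial.eval_map_algebraMap, Polynomial.eval_map_algebraMap, hmapx.1, zero_add,
      hx₀, Polynomial.aeval_algebraMap_apply, Polynomial.coe_aeval_eq_eval, ← hx₀] at hk
    set t : R := Pr.f.eval a with htdef
    set v : S := Polynomial.aeval x (Polynomial.derivative Pr.f) + k * (x₀ - x) with hv
    have htv : algebraMap R S t = (x₀ - x) * v := by rw [hk, hv]; ring
    have hvunit : IsUnit v := by
      rw [← IsLocalRing.notMem_maximalIdeal]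
      intro hvm
      have h1 : Polynomial.aeval x (Polynomial.derivative Pr.f) ∈ IsLocalRing.maximalIdeal S := by
        have : Polynomial.aeval x (Polynomial.derivative Pr.f) = v - k * (x₀ - x) := by
          rw [hv]; ring
        rw [this]
        exact sub_mem hvm (Ideal.mul_mem_left _ _ hxa')
      exact (IsLocalRing.mem_maximalIdeal _).mp h1 hmapx.isUnit_derivative_f
    have htS : algebraMap R S t ∈ IsLocalRing.maximalIdeal S := by
      rw [htv]; exact Ideal.mul_mem_right _ _ hxa'
    have htm : t ∈ IsLocalRing.maximalIdeal R := by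
      rw [IsLocalRing.mem_maximalIdeal]
      intro hunit
      exact (IsLocalRing.mem_maximalIdeal _).mp htS (hunit.map (algebraMap R S))
    have hJle : Ideal.span {algebraMap R S t} ≤ IsLocalRing.maximalIdeal S := by
      rw [Ideal.span_le, Set.singleton_subset_iff]; exact htS
    have hxx₀ : x - x₀ ∈ Ideal.span {algebraMap R S t} := by
      obtain ⟨w, hw⟩ := hvunit
      have : x - x₀ = -(algebraMap R S t * ((w⁻¹ : Sˣ) : S)) := by
        rw [htv, ← hw, mul_assoc, Units.mul_inv, mul_one]; ring
      rw [this]
      exact neg_mem (Ideal.mul_mem_right _ _ (Ideal.mem_span_singleton_self _))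
    -- g(a) is a unit
    have hga : IsUnit (Pr.g.eval a) := by
      have h1 : (Pr.g.map (algebraMap R S)).eval x - (Pr.g.map (algebraMap R S)).eval x₀ ∈
          IsLocalRing.maximalIdeal S :=
        Ideal.mem_of_dvd _ (Polynomial.sub_dvd_eval_sub x x₀ _) hxa
      rw [Polynomial.eval_map_algebraMap, Polynomial.eval_map_algebraMap, hx₀,
        Polynomial.aeval_algebraMap_apply, Polynomial.coe_aeval_eq_eval] at h1
      have h2 : algebraMap R S (Pr.g.eval a) ∉ IsLocalRing.maximalIdeal S := by
        intro h3
        have h4 : Polynomial.aeval x Pr.g ∈ IsLocalRing.maximalIdeal S := by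
          have := add_mem h1 h3
          rwa [sub_add_cancel] at this
        exact (IsLocalRing.mem_maximalIdeal _).mp h4 hmapx.2
      rw [IsLocalRing.notMem_maximalIdeal] at h2
      exact isUnit_of_map_unit (algebraMap R S) _ h2
    -- the map to R/t
    have hmapa : Pr.P.HasMap (algebraMap R (R ⧸ Ideal.span {t}) a) := by
      constructor
      · rw [Polynomial.aeval_algebraMap_apply, Polynomial.coe_aeval_eq_eval,
          Ideal.Quotient.algebraMap_eq, Ideal.Quotient.eq_zero_iff_mem]
        exact Ideal.mem_span_singleton_self t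
      · rw [Polynomial.aeval_algebraMap_apply, Polynomial.coe_aeval_eq_eval]
        exact hga.map _
    let χ : Localization.Away f₀ →ₐ[R] R ⧸ Ideal.span {t} :=
      (Pr.P.lift _ hmapa).comp Pr.equivRing.toAlgHom
    have hχ : χ Pr.x = algebraMap R (R ⧸ Ideal.span {t}) a := by
      simp [χ, StandardEtalePair.lift_X]
    have hle : Ideal.span {t} ≤ (Ideal.span {algebraMap R S t}).comap (Algebra.ofId R S) := by
      rw [Ideal.span_le, Set.singleton_subset_iff]
      exact Ideal.mem_span_singleton_self _
    let ψ₁ : Localization.Away f₀ →ₐ[R] S ⧸ Ideal.span {algebraMap R S t} :=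
      (Ideal.Quotient.mkₐ R _).comp φ
    let ψ₂ : Localization.Away f₀ →ₐ[R] S ⧸ Ideal.span {algebraMap R S t} :=
      (Ideal.quotientMapₐ (Ideal.span {algebraMap R S t}) (Algebra.ofId R S) hle).comp χ
    have hψ : ψ₁ = ψ₂ := by
      apply Pr.hom_ext
      show Ideal.Quotient.mk _ x = Ideal.quotientMapₐ (Ideal.span {algebraMap R S t})
        (Algebra.ofId R S) hle (χ Pr.x)
      rw [hχ, Ideal.Quotient.algebraMap_eq, Ideal.quotientMapₐ, ]
      exact Ideal.Quotient.eq.mpr hxx₀
    have hrange : ∀ α : Localization.Away f₀, ∃ r : R,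
        φ α - algebraMap R S r ∈ Ideal.span {algebraMap R S t} := by
      intro α
      obtain ⟨r, hr⟩ := Ideal.Quotient.mk_surjective (χ α)
      refine ⟨r, Ideal.Quotient.eq.mp ?_⟩
      have h1 : ψ₁ α = ψ₂ α := by rw [hψ]
      show Ideal.Quotient.mk _ (φ α) = Ideal.Quotient.mk _ (algebraMap R S r)
      have h2 : ψ₂ α = Ideal.Quotient.mk _ (algebraMap R S r) := by
        show Ideal.quotientMapₐ (Ideal.span {algebraMap R S t}) (Algebra.ofId R S) hle (χ α) = _
        rw [← hr]
        rfl
      rw [← h2, ← h1]
      rfl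
    refine ⟨t, htm, fun s => ?_⟩
    obtain ⟨τ, σ, hs⟩ := IsLocalization.exists_mk'_eq q.primeCompl s
    have hspec : s * algebraMap T S σ = algebraMap T S τ := by
      rw [← hs]; exact IsLocalization.mk'_spec S τ σ
    obtain ⟨rτ, hrτ⟩ := hrange (algebraMap T _ τ)
    obtain ⟨rσ, hrσ⟩ := hrange (algebraMap T _ (σ : T))
    rw [hφ] at hrτ hrσ
    have hσunit : IsUnit (algebraMap T S σ) := IsLocalization.map_units S σ
    have hrσS : IsUnit (algebraMap R S rσ) := by
      rw [← IsLocalRing.notMem_maximalIdeal]
      intro h3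
      have h4 : algebraMap T S σ ∈ IsLocalRing.maximalIdeal S := by
        have := add_mem (hJle hrσ) h3
        rwa [sub_add_cancel] at this
      exact (IsLocalRing.mem_maximalIdeal _).mp h4 hσunit
    have hrσR : IsUnit rσ := isUnit_of_map_unit (algebraMap R S) _ hrσS
    obtain ⟨uσ, huσ⟩ := hrσR
    refine ⟨rτ * ((uσ⁻¹ : Rˣ) : R), ?_⟩
    have hmul : (s - algebraMap R S (rτ * ((uσ⁻¹ : Rˣ) : R))) * algebraMap R S rσ ∈
        Ideal.span {algebraMap R S t} := by
      have : (s - algebraMap R S (rτ * ((uσ⁻¹ : Rˣ) : R))) * algebraMap R S rσ =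
          -(s * (algebraMap T S σ - algebraMap R S rσ)) +
            (algebraMap T S τ - algebraMap R S rτ) := by
        have e1 : algebraMap R S (rτ * ((uσ⁻¹ : Rˣ) : R)) * algebraMap R S rσ =
            algebraMap R S rτ := by
          rw [← map_mul, mul_assoc, ← huσ, Units.inv_mul, mul_one]
        rw [sub_mul, e1, ← hspec]; ring
      rw [this]
      exact add_mem (neg_mem (Ideal.mul_mem_left _ _ hrσ)) hrτ
    obtain ⟨wσ, hwσ⟩ := hrσS
    have : s - algebraMap R S (rτ * ((uσ⁻¹ : Rˣ) : R)) =
        (s - algebraMap R S (rτ * ((uσ⁻¹ : Rˣ) : R))) * algebraMap R S rσ *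
          ((wσ⁻¹ : Sˣ) : S) := by
      rw [mul_assoc, ← hwσ, Units.mul_inv, mul_one]
    rw [this]
    exact Ideal.mul_mem_right _ _ hmul
  refine ⟨t, ht, fun n hn => ⟨hinj _, ?_⟩⟩
  have hP : ∀ n : ℕ, 1 ≤ n → ∀ s : S, ∃ r : R,
      s - algebraMap R S r ∈ Ideal.span {algebraMap R S t ^ n} := by
    intro n hn
    induction n, hn using Nat.le_induction with
    | base => simpa using hsurj1
    | succ n hn ih =>
      intro s
      obtain ⟨r₀, hr₀⟩ := hsurj1 s
      obtain ⟨s', hs'⟩ := Ideal.mem_span_singleton'.mp hr₀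
      obtain ⟨r₁, hr₁⟩ := ih s'
      obtain ⟨s'', hs''⟩ := Ideal.mem_span_singleton'.mp hr₁
      refine ⟨r₀ + t * r₁, Ideal.mem_span_singleton'.mpr ⟨s'', ?_⟩⟩
      rw [map_add, map_mul]
      linear_combination hs' + algebraMap R S t * hs''
  intro y
  obtain ⟨s, rfl⟩ := Ideal.Quotient.mk_surjective y
  obtain ⟨r, hr⟩ := hP n hn s
  refine ⟨Ideal.Quotient.mk _ r, ?_⟩
  rw [Ideal.quotientMap_mk]
  refine (Ideal.Quotient.eq.mpr ?_).symm
  rw [Ideal.map_span, Set.image_singleton, map_pow]
  exact hr

end Groth.Agent.S9433
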