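import Groth.Statements.S9434
import Mathlib
import Groth.Agent.Lib.Helper26.SplitAlg

set_option autoImplicit false
set_option linter.style.haveILetI false
universe u
open CAlg

namespace Groth.Agent.S9434

/-- Let R → S be a local homomorphism of local rings with S the localization of an étale R-algebra at a
prime. Then there is a finite, finitely presented, faithfully flat R-algebra S' such that for every
maximal ideal m' of S' the structure map R → S'_{m'} factors through some R-algebra map S → S'_{m'}. -/
theorem result (R : Type u) [CommRing R] [IsLocalRing R] (T : Type u) [CommRing T] [Algebra R T]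
    [Algebra.Etale R T] (q : Ideal T) [q.IsPrime] (S : Type u) [CommRing S] [IsLocalRing S]
    [Algebra T S] [IsLocalization.AtPrime S q] [Algebra R S] [IsScalarTower R T S]
    [IsLocalHom (algebraMap R S)] :
    ∃ (S' : Type u) (_ : CommRing S') (_ : Algebra R S'),
      Module.Finite R S' ∧ Algebra.FinitePresentation R S' ∧ Module.FaithfullyFlat R S' ∧
        ∀ (m' : Ideal S') [m'.IsMaximal], Nonempty (S →ₐ[R] Localization.AtPrime m') := by
  classical
  haveI : Algebra.FormallyEtale R (Localization.AtPrime q) :=
    Algebra.FormallyEtale.comp R T (Localization.AtPrime q)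
  obtain ⟨f₀, hf₀, hstd⟩ := Algebra.IsEtaleAt.exists_isStandardEtale (R := R) q
  obtain ⟨Pr⟩ := hstd.nonempty_standardEtalePresentation
  have hu : IsUnit (algebraMap T S f₀) :=
    IsLocalization.map_units S (⟨f₀, hf₀⟩ : q.primeCompl)
  let lam : Localization.Away f₀ →+* S := IsLocalization.Away.lift f₀ hu
  have hlam : ∀ τ : T, lam (algebraMap T (Localization.Away f₀) τ) = algebraMap T S τ :=
    fun τ => IsLocalization.Away.lift_eq f₀ hu τ
  let φ : Localization.Away f₀ →ₐ[R] S :=
    { lam with
      commutes' := fun r => by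
        show lam (algebraMap R (Localization.Away f₀) r) = algebraMap R S r
        rw [IsScalarTower.algebraMap_apply R T (Localization.Away f₀), hlam,
          ← IsScalarTower.algebraMap_apply] }
  let σ₁ : Localization.Away f₀ →ₐ[R] IsLocalRing.ResidueField S :=
    (IsScalarTower.toAlgHom R S (IsLocalRing.ResidueField S)).comp φ
  have hσ₁τ : ∀ τ : T, σ₁ (algebraMap T _ τ) = IsLocalRing.residue S (algebraMap T S τ) :=
    fun τ => by
      show IsLocalRing.residue S (lam (algebraMap T _ τ)) = _
      rw [hlam]
  set xbar := σ₁ Pr.x with hxbar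
  have hmapx : Pr.P.HasMap xbar := Pr.hasMap.map σ₁
  have hint : IsIntegral (IsLocalRing.ResidueField R) xbar := by
    refine ⟨Pr.f.map (algebraMap R (IsLocalRing.ResidueField R)), Pr.monic_f.map _, ?_⟩
    rw [← Polynomial.aeval_def, Polynomial.aeval_map_algebraMap]
    exact hmapx.1
  set h := minpoly (IsLocalRing.ResidueField R) xbar with hh
  haveI : Fact (Irreducible h) := ⟨minpoly.irreducible hint⟩
  have hdvd : h ∣ Pr.f.map (algebraMap R (IsLocalRing.ResidueField R)) := by
    apply minpoly.dvd
    rw [Polynomial.aeval_map_algebraMap]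
    exact hmapx.1
  let ι₁ : AdjoinRoot h →ₐ[R] IsLocalRing.ResidueField S :=
    AdjoinRoot.liftAlgHom h (IsScalarTower.toAlgHom R (IsLocalRing.ResidueField R)
      (IsLocalRing.ResidueField S)) xbar (by
        show Polynomial.eval₂ (algebraMap _ _) xbar h = 0
        rw [← Polynomial.aeval_def]
        exact minpoly.aeval _ _)
  have hι₁ : ι₁ (AdjoinRoot.root h) = xbar := AdjoinRoot.liftAlgHom_root ..
  have hι₁inj : Function.Injective ι₁ := fun x y hxy =>
    ι₁.toRingHom.injective hxy
  have hmapE : Pr.P.HasMap (AdjoinRoot.root h) := by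
    constructor
    · rw [← Polynomial.aeval_map_algebraMap (IsLocalRing.ResidueField R)]
      obtain ⟨c, hc⟩ := hdvd
      rw [hc, map_mul, AdjoinRoot.aeval_eq, AdjoinRoot.mk_self, zero_mul]
    · rw [isUnit_iff_ne_zero]
      intro h0
      have h1 : ι₁ (Polynomial.aeval (AdjoinRoot.root h) Pr.g) = 0 := by rw [h0, map_zero]
      rw [← Polynomial.aeval_algHom_apply, hι₁] at h1
      exact hmapx.2.ne_zero h1
  let σ₁' : Localization.Away f₀ →ₐ[R] AdjoinRoot h :=
    (Pr.P.lift _ hmapE).comp Pr.equivRing.toAlgHom
  have hσ₁'x : σ₁' Pr.x = AdjoinRoot.root h := by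
    simp [σ₁', StandardEtalePair.lift_X]
  have hσ₁ : ι₁.comp σ₁' = σ₁ := Pr.hom_ext (by rw [AlgHom.comp_apply, hσ₁'x, hι₁])
  -- splitting algebra
  obtain ⟨B, _, _, hfree, hfin, hnt, s, hs⟩ := H26.exists_splitting _ R Pr.f Pr.monic_f rfl
  haveI : Nontrivial B := hnt inferInstance
  haveI := hfree
  haveI := hfin
  haveI : Module.FinitePresentation R B := Module.finitePresentation_of_projective R B
  refine ⟨B, inferInstance, inferInstance, hfin, inferInstance, inferInstance, ?_⟩
  intro m' hm'
  have hover : IsLocalRing.maximalIdeal R = m'.comap (algebraMap R B) :=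
    (IsLocalRing.eq_maximalIdeal
      (Ideal.isMaximal_comap_of_isIntegral_of_isMaximal (R := R) m')).symm
  haveI hloc : IsLocalHom (algebraMap R (Localization.AtPrime m')) := by
    refine ⟨fun a ha => ?_⟩
    by_contra hna
    have h1 : a ∈ IsLocalRing.maximalIdeal R := (IsLocalRing.mem_maximalIdeal a).mpr hna
    rw [hover, Ideal.mem_comap] at h1
    have h2 : algebraMap B (Localization.AtPrime m') (algebraMap R B a) ∈
        IsLocalRing.maximalIdeal (Localization.AtPrime m') :=
      (IsLocalization.AtPrime.to_map_mem_maximal_iff (Localization.AtPrime m') m' _).mpr h1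
    rw [← IsScalarTower.algebraMap_apply] at h2
    exact (IsLocalRing.mem_maximalIdeal _).mp h2 ha
  let ω : B →ₐ[R] IsLocalRing.ResidueField (Localization.AtPrime m') :=
    (IsScalarTower.toAlgHom R (Localization.AtPrime m')
      (IsLocalRing.ResidueField (Localization.AtPrime m'))).comp
      (IsScalarTower.toAlgHom R B (Localization.AtPrime m'))
  have hfΩ : (Pr.f.map (algebraMap R (IsLocalRing.ResidueField R))).map
      (algebraMap (IsLocalRing.ResidueField R)
        (IsLocalRing.ResidueField (Localization.AtPrime m'))) =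
      ((s.map ω).map fun a => Polynomial.X - Polynomial.C a).prod := by
    rw [Polynomial.map_map, ← IsScalarTower.algebraMap_eq R (IsLocalRing.ResidueField R)
      (IsLocalRing.ResidueField (Localization.AtPrime m'))]
    have : algebraMap R (IsLocalRing.ResidueField (Localization.AtPrime m')) =
        (ω : B →+* _).comp (algebraMap R B) := by
      ext r; exact (ω.commutes r).symm
    rw [this, ← Polynomial.map_map, hs, Polynomial.map_multiset_prod, Multiset.map_map,
      Multiset.map_map]
    congr 1
    apply Multiset.map_congr rfl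
    intro b _
    simp
  have hdvdΩ : h.map (algebraMap (IsLocalRing.ResidueField R)
      (IsLocalRing.ResidueField (Localization.AtPrime m'))) ∣
      ((s.map ω).map fun a => Polynomial.X - Polynomial.C a).prod := by
    rw [← hfΩ]; exact Polynomial.map_dvd _ hdvd
  have hdegΩ : (h.map (algebraMap (IsLocalRing.ResidueField R)
      (IsLocalRing.ResidueField (Localization.AtPrime m')))).natDegree ≠ 0 := by
    rw [Polynomial.natDegree_map]; exact (minpoly.natDegree_pos hint).ne'
  obtain ⟨a, ha, hroot⟩ := H26.exists_root_of_dvd_prod _ hdegΩ _ hdvdΩ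
  obtain ⟨b, hb, rfl⟩ := Multiset.mem_map.mp ha
  let ι₂ : AdjoinRoot h →ₐ[R] IsLocalRing.ResidueField (Localization.AtPrime m') :=
    AdjoinRoot.liftAlgHom h (IsScalarTower.toAlgHom R (IsLocalRing.ResidueField R)
      (IsLocalRing.ResidueField (Localization.AtPrime m'))) (ω b) (by
        rw [Polynomial.eval_map] at hroot; exact hroot)
  have hι₂ : ι₂ (AdjoinRoot.root h) = ω b := AdjoinRoot.liftAlgHom_root ..
  have hι₂inj : Function.Injective ι₂ := fun x y hxy =>
    ι₂.toRingHom.injective hxy
  have hmapL : Pr.P.HasMap (algebraMap B (Localization.AtPrime m') b) := by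
    constructor
    · rw [Polynomial.aeval_algebraMap_apply]
      have : Polynomial.aeval b Pr.f = 0 := by
        rw [← Polynomial.eval_map_algebraMap, hs, Polynomial.eval_multiset_prod]
        apply Multiset.prod_eq_zero
        rw [Multiset.mem_map]
        exact ⟨Polynomial.X - Polynomial.C b, Multiset.mem_map.mpr ⟨b, hb, rfl⟩, by simp⟩
      rw [this, map_zero]
    · rw [← IsLocalRing.residue_ne_zero_iff_isUnit]
      intro h0
      have h1 : Polynomial.aeval (ω b) Pr.g = 0 := by
        have := Polynomial.aeval_algHom_apply (IsScalarTower.toAlgHom R (Localization.AtPrime m')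
          (IsLocalRing.ResidueField (Localization.AtPrime m')))
          (algebraMap B (Localization.AtPrime m') b) Pr.g
        rw [show ω b = (IsScalarTower.toAlgHom R (Localization.AtPrime m')
          (IsLocalRing.ResidueField (Localization.AtPrime m')))
          (algebraMap B (Localization.AtPrime m') b) from rfl, this]
        exact h0
      rw [← hι₂, Polynomial.aeval_algHom_apply] at h1
      exact hmapE.2.ne_zero (hι₂inj (by rw [h1, map_zero]))
  let θ : Localization.Away f₀ →ₐ[R] Localization.AtPrime m' :=
    (Pr.P.lift _ hmapL).comp Pr.equivRing.toAlgHom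
  have hθx : θ Pr.x = algebraMap B (Localization.AtPrime m') b := by
    simp [θ, StandardEtalePair.lift_X]
  let σ₂ : Localization.Away f₀ →ₐ[R] IsLocalRing.ResidueField (Localization.AtPrime m') :=
    (IsScalarTower.toAlgHom R (Localization.AtPrime m')
      (IsLocalRing.ResidueField (Localization.AtPrime m'))).comp θ
  have hσ₂ : ι₂.comp σ₁' = σ₂ := Pr.hom_ext (by
    rw [AlgHom.comp_apply, hσ₁'x, hι₂]
    show ω b = (IsScalarTower.toAlgHom R (Localization.AtPrime m')
      (IsLocalRing.ResidueField (Localization.AtPrime m'))) (θ Pr.x)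
    rw [hθx]; rfl)
  have hunits : ∀ τ : q.primeCompl, IsUnit (((θ : Localization.Away f₀ →+*
      Localization.AtPrime m').comp (algebraMap T (Localization.Away f₀))) τ) := by
    intro τ
    rw [← IsLocalRing.residue_ne_zero_iff_isUnit]
    intro h0
    have h1 : σ₂ (algebraMap T _ (τ : T)) = 0 := h0
    rw [← hσ₂, AlgHom.comp_apply] at h1
    have h2 : σ₁' (algebraMap T _ (τ : T)) = 0 := hι₂inj (by rw [h1, map_zero])
    have h3 : σ₁ (algebraMap T _ (τ : T)) = 0 := by
      rw [← hσ₁, AlgHom.comp_apply, h2, map_zero]
    rw [hσ₁τ] at h3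
    exact (IsLocalRing.residue_ne_zero_iff_isUnit _).mpr (IsLocalization.map_units S τ) h3
  let ψ : S →+* Localization.AtPrime m' := IsLocalization.lift (M := q.primeCompl) hunits
  refine ⟨{ ψ with commutes' := fun r => ?_ }⟩
  show ψ (algebraMap R S r) = algebraMap R (Localization.AtPrime m') r
  rw [IsScalarTower.algebraMap_apply R T S, IsLocalization.lift_eq]
  show θ (algebraMap T (Localization.Away f₀) (algebraMap R T r)) = _
  rw [← IsScalarTower.algebraMap_apply R T (Localization.Away f₀), θ.commutes]

end Groth.Agent.S9434
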