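import Groth.Statements.S9435
import Mathlib

set_option autoImplicit false
universe u
open CAlg

namespace Groth.Agent.S9435

open Polynomial in
/-- The derivative of `scaleRoots`. -/
theorem C_mul_derivative_scaleRoots_comp {K : Type*} [CommRing K] (m : K[X]) (s : K) :
    C s * (derivative (m.scaleRoots s)).comp (C s * X) = C (s ^ m.natDegree) * derivative m := by
  ext i
  rw [coeff_C_mul, comp_C_mul_X_coeff, coeff_derivative, coeff_scaleRoots, coeff_C_mul,
    coeff_derivative]
  by_cases hi : i + 1 ≤ m.natDegree
  · have h1 : s ^ m.natDegree = s * s ^ (m.natDegree - (i + 1)) * s ^ i := by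
      rw [← pow_succ', ← pow_add]
      congr 1
      omega
    rw [h1]
    ring
  · have h0 : m.coeff (i + 1) = 0 := coeff_eq_zero_of_natDegree_lt (by omega)
    rw [h0]
    ring


/-- Given a prime p of a ring R and a finite separable extension L of κ(p), there is an étale R-algebra
R' with a prime p' over p whose residue field is κ(p)-isomorphic to L. Stated through an R-algebra
map ψ : R' → L whose image generates the field L: its kernel is such a prime p' and the induced
κ(p') → L is then an isomorphism over κ(p). -/
theorem result (R : Type u) [CommRing R]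
    (p : Ideal R) [p.IsPrime] (L : Type u) [Field L] [Algebra p.ResidueField L] [Algebra R L]
    [IsScalarTower R p.ResidueField L] [Module.Finite p.ResidueField L]
    [Algebra.IsSeparable p.ResidueField L] :
    ∃ (R' : Type u) (_ : CommRing R') (_ : Algebra R R') (_ : Algebra.Etale R R') (ψ : R' →ₐ[R] L),
      Subfield.closure (Set.range ψ) = ⊤ := by
  classical
  obtain ⟨α, hα⟩ := Field.exists_primitive_element p.ResidueField L
  have hαint : IsIntegral p.ResidueField α := Algebra.IsIntegral.isIntegral α
  have hm_monic : (minpoly p.ResidueField α).Monic := minpoly.monic hαint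
  have hm_sep : (minpoly p.ResidueField α).Separable :=
    Algebra.IsSeparable.isSeparable p.ResidueField α
  -- common denominator
  let bM := IsLocalization.commonDenom (nonZeroDivisors (R ⧸ p))
    (minpoly p.ResidueField α).support (minpoly p.ResidueField α).coeff
  let s : p.ResidueField := algebraMap (R ⧸ p) p.ResidueField bM
  have hs : s ≠ 0 :=
    map_ne_zero_of_mem_nonZeroDivisors _ p.injective_algebraMap_quotient_residueField bM.2
  have hm'_lifts : (minpoly p.ResidueField α).scaleRoots s ∈
      Polynomial.lifts (algebraMap (R ⧸ p) p.ResidueField) :=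
    IsLocalization.scaleRoots_commonDenom_mem_lifts (nonZeroDivisors (R ⧸ p)) _
      (by rw [hm_monic.leadingCoeff]; exact ⟨1, map_one _⟩)
  have hm'_monic : ((minpoly p.ResidueField α).scaleRoots s).Monic :=
    (Polynomial.monic_scaleRoots_iff s).mpr hm_monic
  obtain ⟨fbar, hfbar1, -, hfbarm⟩ :=
    Polynomial.lifts_and_natDegree_eq_and_monic hm'_lifts hm'_monic
  have hfbar_lifts : fbar ∈ Polynomial.lifts (Ideal.Quotient.mk p) := by
    rw [Polynomial.lifts_iff_coeff_lifts]
    intro n
    exact Ideal.Quotient.mk_surjective _
  obtain ⟨f, hf1, -, hfm⟩ := Polynomial.lifts_and_natDegree_eq_and_monic hfbar_lifts hfbarm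
  have hfK : f.map (algebraMap R p.ResidueField) =
      (minpoly p.ResidueField α).scaleRoots s := by
    rw [← hfbar1, ← hf1, Polynomial.map_map]
    rfl
  -- the scaled primitive element
  let β : L := algebraMap p.ResidueField L s * α
  have hβ : Polynomial.aeval β ((minpoly p.ResidueField α).scaleRoots s) = 0 :=
    Polynomial.scaleRoots_aeval_eq_zero (minpoly.aeval p.ResidueField α)
  have hfβ : Polynomial.aeval β f = 0 := by
    rw [← Polynomial.aeval_map_algebraMap p.ResidueField, hfK]
    exact hβ
  have hder : Polynomial.aeval β (Polynomial.derivative f) ≠ 0 := by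
    have h1 : Polynomial.aeval β (Polynomial.derivative f) =
        Polynomial.aeval β (Polynomial.derivative ((minpoly p.ResidueField α).scaleRoots s)) := by
      rw [← hfK, Polynomial.derivative_map, Polynomial.aeval_map_algebraMap]
    rw [h1]
    have h2 := congrArg (Polynomial.aeval α)
      (C_mul_derivative_scaleRoots_comp (minpoly p.ResidueField α) s)
    rw [map_mul, map_mul, Polynomial.aeval_comp, Polynomial.aeval_C, Polynomial.aeval_C, map_mul,
      Polynomial.aeval_C, Polynomial.aeval_X] at h2
    intro h0
    change Polynomial.aeval (algebraMap p.ResidueField L s * α) _ = 0 at h0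
    rw [h0, mul_zero] at h2
    have h3 : Polynomial.aeval α (Polynomial.derivative (minpoly p.ResidueField α)) ≠ 0 :=
      hm_sep.aeval_derivative_ne_zero (minpoly.aeval _ _)
    have h4 : algebraMap p.ResidueField L (s ^ (minpoly p.ResidueField α).natDegree) ≠ 0 := by
      rw [map_ne_zero_iff _ (algebraMap p.ResidueField L).injective]
      exact pow_ne_zero _ hs
    exact mul_ne_zero h4 h3 h2.symm
  -- the standard etale algebra
  let P : StandardEtalePair R := ⟨f, hfm, Polynomial.derivative f, ⟨1, 0, 1, by simp⟩⟩
  have hmap : P.HasMap β := ⟨hfβ, isUnit_iff_ne_zero.mpr hder⟩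
  refine ⟨P.Ring, inferInstance, inferInstance, inferInstance, P.lift β hmap, ?_⟩
  -- the image generates `L`
  set F := Subfield.closure (Set.range (P.lift β hmap)) with hF
  have hR : ∀ r : R, algebraMap R L r ∈ F := fun r =>
    Subfield.subset_closure ⟨algebraMap R P.Ring r, AlgHom.commutes _ r⟩
  have hK : ∀ k : p.ResidueField, algebraMap p.ResidueField L k ∈ F := by
    intro k
    obtain ⟨a, t, -, rfl⟩ := IsFractionRing.div_surjective (A := R ⧸ p) k
    obtain ⟨a', rfl⟩ := Ideal.Quotient.mk_surjective a
    obtain ⟨t', rfl⟩ := Ideal.Quotient.mk_surjective t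
    rw [map_div₀, Ideal.algebraMap_quotient_residueField_mk,
      Ideal.algebraMap_quotient_residueField_mk,
      ← IsScalarTower.algebraMap_apply R p.ResidueField L,
      ← IsScalarTower.algebraMap_apply R p.ResidueField L]
    exact F.div_mem (hR a') (hR t')
  have hβF : β ∈ F := Subfield.subset_closure ⟨P.X, P.lift_X β hmap⟩
  have hαF : α ∈ F := by
    have : α = β / algebraMap p.ResidueField L s := by
      simp only [β]
      rw [mul_div_cancel_left₀]
      rw [map_ne_zero_iff _ (algebraMap p.ResidueField L).injective]
      exact hs
    rw [this]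
    exact F.div_mem hβF (hK s)
  let F' : IntermediateField p.ResidueField L := F.toIntermediateField hK
  have hle : IntermediateField.adjoin p.ResidueField {α} ≤ F' :=
    IntermediateField.adjoin_simple_le_iff.mpr hαF
  rw [hα] at hle
  rw [eq_top_iff]
  intro x _
  exact hle (IntermediateField.mem_top)

end Groth.Agent.S9435
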