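import Groth.Statements.S9437
import Mathlib
import Groth.Agent.H29.DepthFlat
import Groth.Agent.H29.RegPow

set_option autoImplicit false
set_option linter.style.haveILetI false
universe u v
open CAlg

namespace Groth.Agent.S9437

open IsLocalRing Groth.Agent.H29 RingTheory.Sequence

/-- The depth only depends on the radical of the ideal (the non-trivial inequality). -/
lemma idealDepth_le_of_le_radical {R : Type u} [CommRing R] (I J : Ideal R) (hJI : J ≤ I)
    (hIJ : I ≤ J.radical) (M : Type v) [AddCommGroup M] [Module R M]
    (hI : I • (⊤ : Submodule R M) ≠ ⊤) :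
    LocCoh.idealDepth I M ≤ LocCoh.idealDepth J M := by
  have hJ : J • (⊤ : Submodule R M) ≠ ⊤ := by
    intro h
    have := Submodule.smul_mono_left (N := (⊤ : Submodule R M)) hJI
    rw [h] at this
    exact hI (top_le_iff.mp this)
  refine ENat.forall_natCast_le_iff_le.mp fun n hn => ?_
  obtain ⟨rs, hlen, hreg, hmem⟩ := (le_idealDepth_iff I M hI n).mp hn
  subst hlen
  have hex : ∀ i : Fin rs.length, ∃ k : ℕ, 1 ≤ k ∧ (rs.get i) ^ k ∈ J := by
    intro i
    obtain ⟨k, hk⟩ := Ideal.mem_radical_iff.mp (hIJ (hmem _ (List.get_mem rs i)))
    exact ⟨k + 1, by omega, by rw [pow_succ]; exact J.mul_mem_right _ hk⟩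
  choose v hv1 hvJ using hex
  have hreg' : IsWeaklyRegular M (List.ofFn fun i => rs.get i ^ v i) :=
    isWeaklyRegular_ofFn_pow rs.length (fun i => rs.get i) v hv1
      (by rw [List.ofFn_get]; exact hreg)
  refine (le_idealDepth_iff J M hJ _).mpr ⟨_, by simp, hreg', ?_⟩
  intro r hr
  obtain ⟨i, rfl⟩ := List.mem_ofFn.mp hr
  exact hvJ i


/-- Serre's condition (S_k) descends along faithfully flat ring maps: if S is faithfully flat over R,
Noetherian and (S_k), then R is Noetherian and (S_k). -/
theorem result (k : ℕ) (R : Type u) [CommRing R] (S : Type u) [CommRing S]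
    [Algebra R S] [Module.FaithfullyFlat R S] [IsNoetherianRing S] (hS : LocCoh.HasSk k S S) :
    IsNoetherianRing R ∧ LocCoh.HasSk k R R := by
  have hRnoeth : IsNoetherianRing R := by
    rw [isNoetherianRing_iff, isNoetherian_iff']
    haveI : WellFoundedGT (Ideal S) := (isNoetherian_iff' (R := S) (M := S)).mp inferInstance
    exact StrictMono.wellFoundedGT (f := Ideal.map (algebraMap R S))
      (Monotone.strictMono_of_injective (fun _ _ h => Ideal.map_mono h)
        Ideal.map_injective_of_faithfullyFlat)
  refine ⟨hRnoeth, ?_⟩
  intro p hp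
  obtain ⟨q₀, hq₀prime, hq₀over⟩ := Ideal.exists_isPrime_liesOver_of_faithfullyFlat (B := S) p
  have hle : p.map (algebraMap R S) ≤ q₀ := by
    rw [Ideal.map_le_iff_le_comap]; exact hq₀over.over.le
  obtain ⟨q, hqmin, hqq₀⟩ := Ideal.exists_minimalPrimes_le hle
  haveI hqprime : q.IsPrime := hqmin.1.1
  haveI hqover : q.LiesOver p := ⟨le_antisymm (Ideal.map_le_iff_le_comap.mp hqmin.1.2)
    (by rw [hq₀over.over]; exact Ideal.comap_mono hqq₀)⟩
  letI := Localization.AtPrime.algebraOfLiesOver p q
  haveI : IsNoetherianRing (Localization.AtPrime p) :=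
    IsLocalization.isNoetherianRing p.primeCompl _ hRnoeth
  haveI : IsNoetherianRing (Localization.AtPrime q) :=
    IsLocalization.isNoetherianRing q.primeCompl _ inferInstance
  haveI : IsLocalHom (algebraMap (Localization.AtPrime p) (Localization.AtPrime q)) :=
    Localization.isLocalHom_localRingHom p q (algebraMap R S) Ideal.LiesOver.over
  haveI : Module.FaithfullyFlat (Localization.AtPrime p) (Localization.AtPrime q) :=
    Module.FaithfullyFlat.of_flat_of_isLocalHom
  have eA : LocalizedModule p.primeCompl R ≃ₗ[Localization.AtPrime p] Localization.AtPrime p :=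
    (IsLocalizedModule.iso p.primeCompl
      (Algebra.linearMap R (Localization.AtPrime p))).extendScalarsOfIsLocalization
        p.primeCompl (Localization.AtPrime p)
  have eB : LocalizedModule q.primeCompl S ≃ₗ[Localization.AtPrime q] Localization.AtPrime q :=
    (IsLocalizedModule.iso q.primeCompl
      (Algebra.linearMap S (Localization.AtPrime q))).extendScalarsOfIsLocalization
        q.primeCompl (Localization.AtPrime q)
  have hdimA : Module.supportDim (Localization.AtPrime p) (LocalizedModule p.primeCompl R) =
      p.height := by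
    rw [Module.supportDim_eq_of_equiv eA, Module.supportDim_self_eq_ringKrullDim,
      IsLocalization.AtPrime.ringKrullDim_eq_height p]
  have hht : q.height = p.height := by
    rw [Ideal.height_eq_height_add_of_liesOver_of_hasGoingDown p q]
    have h0 : (q.map (Ideal.Quotient.mk (p.map (algebraMap R S)))).height = 0 := by
      haveI : (q.map (Ideal.Quotient.mk (p.map (algebraMap R S)))).IsPrime :=
        Ideal.map_isPrime_of_surjective Ideal.Quotient.mk_surjective
          (by rw [Ideal.mk_ker]; exact hqmin.1.2)
      rw [Ideal.height_eq_zero_iff]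
      have hqmin' := hqmin
      rw [Ideal.minimalPrimes_eq_comap] at hqmin'
      obtain ⟨P, hP, hPq⟩ := hqmin'
      rw [← hPq, Ideal.map_comap_of_surjective _ Ideal.Quotient.mk_surjective]
      exact hP
    rw [h0, add_zero]
  have hdepth : LocCoh.depth (Localization.AtPrime q) (Localization.AtPrime q) ≤
      LocCoh.depth (Localization.AtPrime p) (Localization.AtPrime p) := by
    unfold LocCoh.depth
    have h1 := idealDepth_tensor_eq (Localization.AtPrime p) (Localization.AtPrime q)
      (maximalIdeal (Localization.AtPrime p)) (Localization.AtPrime p)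
    rw [idealDepth_congr _ (TensorProduct.AlgebraTensorModule.rid (Localization.AtPrime p)
      (Localization.AtPrime q) (Localization.AtPrime q))] at h1
    rw [← h1]
    apply idealDepth_le_of_le_radical
    · exact ((local_hom_TFAE (algebraMap (Localization.AtPrime p)
        (Localization.AtPrime q))).out 0 2 rfl rfl).mp inferInstance
    · have h2 : (maximalIdeal (Localization.AtPrime p)).map
          (algebraMap _ (Localization.AtPrime q)) =
          (p.map (algebraMap R S)).map (algebraMap S (Localization.AtPrime q)) := by
        rw [← Localization.AtPrime.map_eq_maximalIdeal, Ideal.map_map, Ideal.map_map,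
          ← IsScalarTower.algebraMap_eq R (Localization.AtPrime p) (Localization.AtPrime q),
          ← IsScalarTower.algebraMap_eq R S (Localization.AtPrime q)]
      have h3 : ((maximalIdeal (Localization.AtPrime p)).map
          (algebraMap _ (Localization.AtPrime q))).radical = maximalIdeal _ := by
        rw [h2, IsLocalization.AtPrime.radical_map_of_mem_minimalPrimes
          (Localization.AtPrime q) q _ hqmin, Localization.AtPrime.map_eq_maximalIdeal]
      exact h3.ge
    · exact maximalIdeal_smul_top_ne_top _ _
  have hS' := hS q
  rw [Module.supportDim_eq_of_equiv eB, Module.supportDim_self_eq_ringKrullDim,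
    IsLocalization.AtPrime.ringKrullDim_eq_height q, hht] at hS'
  have hdB : LocCoh.depth (Localization.AtPrime q) (LocalizedModule q.primeCompl S) =
      LocCoh.depth (Localization.AtPrime q) (Localization.AtPrime q) := idealDepth_congr _ eB
  have hdA : LocCoh.depth (Localization.AtPrime p) (LocalizedModule p.primeCompl R) =
      LocCoh.depth (Localization.AtPrime p) (Localization.AtPrime p) := idealDepth_congr _ eA
  rw [hdB] at hS'
  rw [hdimA, hdA]
  exact hS'.trans (WithBot.coe_le_coe.mpr hdepth)

end Groth.Agent.S9437
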