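import Groth.Statements.S9438
import Mathlib
import Groth.Agent.S0565

set_option autoImplicit false
universe u
open CAlg

namespace Groth.Agent.S9438

theorem height_le_of_minimal {R S : Type*} [CommRing R] [CommRing S] [IsNoetherianRing R]
    [IsNoetherianRing S] [Algebra R S] (p : Ideal R) [p.IsPrime] (P : Ideal S) [P.IsPrime]
    [P.LiesOver p] (hP : P ∈ (p.map (algebraMap R S)).minimalPrimes) : P.height ≤ p.height := by
  have h := Ideal.height_le_height_add_of_liesOver p P
  rw [Ideal.minimalPrimes_eq_comap] at hP
  obtain ⟨Q, hQ, hQP⟩ := hP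
  haveI : Q.IsPrime := hQ.1.1
  rw [← hQP, Ideal.map_comap_of_surjective _ Ideal.Quotient.mk_surjective,
    Ideal.height_eq_zero_iff.mpr hQ, add_zero, hQP] at h
  exact h


/-- The condition (R_k) descends along faithfully flat ring maps: if S is faithfully flat over R,
Noetherian and (R_k), then R is Noetherian and (R_k). -/
theorem result (k : ℕ) (R : Type u) [CommRing R] (S : Type u) [CommRing S]
    [Algebra R S] [Module.FaithfullyFlat R S] [IsNoetherianRing S] (hS : LocCoh.HasRk k S) :
    IsNoetherianRing R ∧ LocCoh.HasRk k R := by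
  have hR : IsNoetherianRing R := by
    have e : TensorProduct R S R ≃ₗ[S] S := TensorProduct.AlgebraTensorModule.rid R S S
    have h1 : IsNoetherian S (TensorProduct R S R) := isNoetherian_of_linearEquiv e.symm
    exact Submodule.IsNoetherian.of_isNoetherian_tensorProduct_of_faithfullyFlat (A := S) h1
  refine ⟨hR, ?_⟩
  intro p hp hpk
  obtain ⟨P₀, hP₀, hP₀p⟩ := Ideal.exists_isPrime_liesOver_of_faithfullyFlat (B := S) p
  have hle : p.map (algebraMap R S) ≤ P₀ := by
    rw [Ideal.map_le_iff_le_comap]
    exact le_of_eq hP₀p.over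
  obtain ⟨P, hPmin, hPle⟩ := Ideal.exists_minimalPrimes_le hle
  haveI : P.IsPrime := hPmin.1.1
  haveI : P.LiesOver p := ⟨by
    apply le_antisymm
    · exact Ideal.map_le_iff_le_comap.mp hPmin.1.2
    · calc P.under R ≤ P₀.under R := Ideal.comap_mono hPle
        _ = p := hP₀p.over.symm⟩
  have hht : P.height ≤ k := (height_le_of_minimal p P hPmin).trans hpk
  haveI : IsRegularLocalRing (Localization.AtPrime P) := hS P hht
  letI := Localization.AtPrime.algebraOfLiesOver p P
  have : IsLocalHom (algebraMap (Localization.AtPrime p) (Localization.AtPrime P)) := by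
    rw [Localization.AtPrime.IsLiesOverAlgebra.algebraMap_eq]
    exact Localization.isLocalHom_localRingHom _ _ _ _
  exact Groth.Agent.S0565.result (Localization.AtPrime p) (Localization.AtPrime P)

end Groth.Agent.S9438
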