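import Groth.Statements.S9443
import Mathlib

set_option autoImplicit false
set_option linter.style.haveILetI false
universe u
open CAlg

namespace Groth.Agent.S9443

open MvPowerSeries in
/-- power series with zero constant coefficient lie in the ideal generated by the variables -/
lemma mem_span_X {k : Type*} [CommRing k] {n : ℕ} (f : MvPowerSeries (Fin n) k)
    (hf : constantCoeff f = 0) :
    f ∈ Ideal.span (Set.range (X : Fin n → MvPowerSeries (Fin n) k)) := by
  classical
  let F : Fin n → MvPowerSeries (Fin n) k := fun i d => if (∀ j, j < i → d j = 0) then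
      coeff (d + Finsupp.single i 1) f else 0
  have key : f = ∑ i, X i * F i := by
    ext e
    rw [map_sum]
    by_cases he : e = 0
    · subst he
      rw [coeff_zero_eq_constantCoeff_apply, hf]
      symm
      refine Finset.sum_eq_zero fun i _ => ?_
      exact coeff_zero_X_mul _ _
    · have hne : e.support.Nonempty := Finsupp.support_nonempty_iff.mpr he
      obtain ⟨i₀, hi₀⟩ : ∃ i₀, i₀ = e.support.min' hne := ⟨_, rfl⟩
      have hi₀mem : e i₀ ≠ 0 := by
        rw [hi₀]; exact Finsupp.mem_support_iff.mp (Finset.min'_mem _ hne)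
      have hmin : ∀ j, e j ≠ 0 → i₀ ≤ j := by
        intro j hj
        rw [hi₀]; exact Finset.min'_le e.support j (Finsupp.mem_support_iff.mpr hj)
      have hlt : ∀ j, j < i₀ → e j = 0 := by
        intro j hj
        by_contra hc
        exact absurd hj (not_lt.mpr (hmin j hc))
      rw [Finset.sum_eq_single i₀]
      · have hle : Finsupp.single i₀ 1 ≤ e := by
          rw [Finsupp.single_le_iff]; omega
        show coeff e f = coeff e (monomial (Finsupp.single i₀ 1) 1 * _)
        rw [coeff_monomial_mul, if_pos hle, one_mul]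
        show coeff e f = if (∀ j, j < i₀ → (e - Finsupp.single i₀ 1 : Fin n →₀ ℕ) j = 0) then
          coeff (e - Finsupp.single i₀ 1 + Finsupp.single i₀ 1) f else 0
        rw [if_pos, tsub_add_cancel_of_le hle]
        intro j hj
        rw [Finsupp.tsub_apply, hlt j hj, zero_tsub]
      · intro i _ hi
        show coeff e (monomial (Finsupp.single i 1) 1 * _) = 0
        rw [coeff_monomial_mul]
        split_ifs with hle
        · rw [one_mul]
          show (if (∀ j, j < i → (e - Finsupp.single i 1 : Fin n →₀ ℕ) j = 0) then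
            coeff (e - Finsupp.single i 1 + Finsupp.single i 1) f else 0) = 0
          rw [if_neg]
          intro hall
          have hei : e i ≠ 0 := by
            rw [Finsupp.single_le_iff] at hle; omega
          have hlt' : i₀ < i := lt_of_le_of_ne (hmin i hei) (Ne.symm hi)
          have := hall i₀ hlt'
          rw [Finsupp.tsub_apply, Finsupp.single_apply, if_neg (ne_of_gt hlt'), tsub_zero] at this
          exact hi₀mem this
        · rfl
      · intro h; exact absurd (Finset.mem_univ _) h
  rw [key]
  exact Ideal.sum_mem _ fun i _ => Ideal.mul_mem_right _ _ (Ideal.subset_span ⟨i, rfl⟩)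

open MvPowerSeries IsLocalRing in
lemma maximalIdeal_eq_span_X {k : Type*} [Field k] {n : ℕ} :
    maximalIdeal (MvPowerSeries (Fin n) k) =
      Ideal.span (Set.range (X : Fin n → MvPowerSeries (Fin n) k)) := by
  apply le_antisymm
  · intro f hf
    apply mem_span_X
    rw [mem_maximalIdeal, mem_nonunits_iff, MvPowerSeries.isUnit_iff_constantCoeff,
      isUnit_iff_ne_zero, not_not] at hf
    exact hf
  · rw [Ideal.span_le]
    rintro _ ⟨i, rfl⟩
    rw [SetLike.mem_coe, mem_maximalIdeal, mem_nonunits_iff,
      MvPowerSeries.isUnit_iff_constantCoeff, constantCoeff_X]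
    exact not_isUnit_zero


open IsLocalRing in
/-- A complete regular local ring R with a coefficient field k (a subfield mapping isomorphically onto
the residue field) is k-isomorphic to a power series ring over k in finitely many variables
(existence of an isomorphism only; the number of variables is then the dimension of R). -/
theorem result (R : Type u)
    [CommRing R] [IsRegularLocalRing R] [IsAdicComplete (IsLocalRing.maximalIdeal R) R]
    (k : Type u) [Field k] [Algebra k R]
    (hk : Function.Bijective (algebraMap k (IsLocalRing.ResidueField R))) :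
    ∃ d : ℕ, Nonempty (R ≃ₐ[k] MvPowerSeries (Fin d) k) := by
  classical
  have hfg : (maximalIdeal R).FG := IsNoetherian.noetherian _
  obtain ⟨s, hs₁, hs₂⟩ := Submodule.FG.exists_span_finset_card_eq_spanFinrank hfg
  obtain ⟨d, hd⟩ : ∃ d, d = s.card := ⟨_, rfl⟩
  let x : Fin d → R := fun i => ((s.equivFin.symm (Fin.cast hd i) : s) : R)
  have hx : Ideal.span (Set.range x) = maximalIdeal R := by
    have : Set.range x = (s : Set R) := by
      ext r; constructor
      · rintro ⟨i, rfl⟩; exact (s.equivFin.symm (Fin.cast hd i)).2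
      · intro hr
        refine ⟨Fin.cast hd.symm (s.equivFin ⟨r, hr⟩), ?_⟩
        simp [x]
    rw [this]; exact hs₂
  have hdim : ringKrullDim R = (d : WithBot ℕ∞) := by
    rw [← IsRegularLocalRing.spanFinrank_maximalIdeal, ← hs₁, hd]
  refine ⟨d, ?_⟩
  let ψ : MvPolynomial (Fin d) k →ₐ[k] R := MvPolynomial.aeval x
  have hψ : ∀ n, (MvPolynomial.idealOfVars (Fin d) k) ^ n ≤
      Ideal.comap ψ ((maximalIdeal R) ^ n) := by
    intro n
    rw [← Ideal.map_le_iff_le_comap, Ideal.map_pow]
    apply Ideal.pow_right_mono
    rw [Ideal.map_span, Ideal.span_le]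
    rintro _ ⟨_, ⟨i, rfl⟩, rfl⟩
    rw [← hx]; apply Ideal.subset_span; exact ⟨i, by simp [ψ]⟩
  let g : (n : ℕ) → MvPowerSeries (Fin d) k →ₐ[k] R ⧸ (maximalIdeal R) ^ n := fun n =>
    (Ideal.quotientMapₐ ((maximalIdeal R) ^ n) ψ (hψ n)).comp
      ((MvPowerSeries.truncTotalAlgHom (Fin d) k n).restrictScalars k)
  have hg : ∀ n p, g n p = Ideal.Quotient.mk _ (ψ (MvPowerSeries.truncTotal n p)) := by
    intro n p; rfl
  have compat : ∀ {m n : ℕ} (hle : m ≤ n),
      (Ideal.Quotient.factorₐ k (Ideal.pow_le_pow_right hle)).comp (g n) = g m := by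
    intro m n hle
    ext p
    rw [AlgHom.comp_apply, hg, hg]
    show Ideal.Quotient.mk _ (ψ (MvPowerSeries.truncTotal n p)) = _
    rw [Ideal.Quotient.mk_eq_mk_iff_sub_mem, ← map_sub]
    exact hψ m (MvPowerSeries.truncTotal_sub_truncTotal_mem_pow_idealOfVars hle le_rfl p)
  let φ : MvPowerSeries (Fin d) k →ₐ[k] R := IsAdicComplete.liftAlgHom (maximalIdeal R) g compat
  have hφ : ∀ n p, Ideal.Quotient.mk ((maximalIdeal R) ^ n) (φ p) = g n p := fun n p =>
    IsAdicComplete.mk_liftAlgHom (maximalIdeal R) g compat n p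
  have hφX : ∀ i, φ (MvPowerSeries.X i) = x i := by
    intro i
    have h0 : φ (MvPowerSeries.X i) - x i ∈ (⨅ n : ℕ, (maximalIdeal R) ^ n : Ideal R) := by
      rw [Ideal.mem_iInf]; intro n
      rw [← Ideal.Quotient.mk_eq_mk_iff_sub_mem, hφ]
      have h1 := (MvPowerSeries.truncTotalAlgHom (Fin d) k n).commutes (MvPolynomial.X i)
      have h2 : algebraMap (MvPolynomial (Fin d) k) (MvPowerSeries (Fin d) k) (MvPolynomial.X i) =
          MvPowerSeries.X i := by
        rw [MvPowerSeries.algebraMap_apply', Algebra.algebraMap_self, MvPowerSeries.map_id,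
          RingHom.id_apply, MvPolynomial.coe_X]
      rw [h2] at h1
      show (Ideal.quotientMapₐ ((maximalIdeal R) ^ n) ψ (hψ n))
        (MvPowerSeries.truncTotalAlgHom (Fin d) k n (MvPowerSeries.X i)) = _
      rw [h1]
      show Ideal.Quotient.mk _ (ψ (MvPolynomial.X i)) = _
      simp [ψ]
    rw [Ideal.iInf_pow_eq_bot_of_isLocalRing _ Ideal.IsPrime.ne_top'] at h0
    exact sub_eq_zero.mp h0
  have hmap : Ideal.map φ.toRingHom
      (Ideal.span (Set.range (MvPowerSeries.X : Fin d → MvPowerSeries (Fin d) k))) =
      maximalIdeal R := by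
    rw [Ideal.map_span, ← hx]
    congr 1
    ext r; constructor
    · rintro ⟨_, ⟨i, rfl⟩, rfl⟩; exact ⟨i, (hφX i).symm⟩
    · rintro ⟨i, rfl⟩; exact ⟨_, ⟨i, rfl⟩, hφX i⟩
  have hsurj : Function.Surjective φ := by
    haveI : IsHausdorff (Ideal.map φ.toRingHom
      (Ideal.span (Set.range (MvPowerSeries.X : Fin d → MvPowerSeries (Fin d) k)))) R := by
      rw [hmap]; infer_instance
    have := surjective_of_mk_map_comp_surjective φ.toRingHom
      (I := Ideal.span (Set.range (MvPowerSeries.X : Fin d → MvPowerSeries (Fin d) k))) ?_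
    · exact this
    · intro y
      obtain ⟨r, rfl⟩ := Ideal.Quotient.mk_surjective y
      obtain ⟨c, hc⟩ := hk.2 (IsLocalRing.residue R r)
      refine ⟨MvPowerSeries.C c, ?_⟩
      rw [RingHom.comp_apply]
      have h3 : φ.toRingHom (MvPowerSeries.C c) = algebraMap k R c := by
        have := φ.commutes c
        rwa [MvPowerSeries.algebraMap_apply, Algebra.algebraMap_self, RingHom.id_apply] at this
      rw [h3, Ideal.Quotient.mk_eq_mk_iff_sub_mem, hmap]
      rw [IsScalarTower.algebraMap_apply k R (ResidueField R)] at hc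
      rw [← Ideal.Quotient.mk_eq_mk_iff_sub_mem]
      exact hc
  have hinj : Function.Injective φ := by
    rw [injective_iff_map_eq_zero]
    intro f hf
    by_contra hne
    have hnzd : f ∈ nonZeroDivisors (MvPowerSeries (Fin d) k) := mem_nonZeroDivisors_of_ne_zero hne
    have h1 : ringKrullDim R + 1 ≤ ringKrullDim (MvPowerSeries (Fin d) k) :=
      ringKrullDim_succ_le_of_surjective φ.toRingHom hsurj hnzd hf
    have h3 : ringKrullDim (MvPowerSeries (Fin d) k) ≤ (d : WithBot ℕ∞) := by
      refine (ringKrullDim_le_spanFinrank_maximalIdeal _).trans ?_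
      rw [maximalIdeal_eq_span_X]
      have h4 := Submodule.spanFinrank_span_le_ncard_of_finite (R := MvPowerSeries (Fin d) k)
        (Set.finite_range (MvPowerSeries.X : Fin d → MvPowerSeries (Fin d) k))
      have h5 : (Set.range (MvPowerSeries.X : Fin d → MvPowerSeries (Fin d) k)).ncard ≤ d := by
        calc _ ≤ Nat.card (Fin d) := by
              rw [← Set.image_univ]
              refine (Set.ncard_image_le Set.finite_univ).trans ?_
              rw [Set.ncard_univ]
          _ = d := by simp
      exact_mod_cast h4.trans h5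
    rw [hdim] at h1
    have h6 : ((d + 1 : ℕ) : WithBot ℕ∞) ≤ (d : ℕ) := by
      push_cast
      exact h1.trans h3
    have h7 : d + 1 ≤ d := by exact_mod_cast h6
    omega
  exact ⟨(AlgEquiv.ofBijective φ ⟨hinj, hsurj⟩).symm⟩

end Groth.Agent.S9443
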