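import Groth.Statements.S9444
import Mathlib
import Groth.Agent.H27.CoeffSection
import Groth.Agent.H3.MvPSDim

set_option autoImplicit false
universe u
open CAlg

namespace Groth.Agent.S9444

/-- A complete regular local ring containing a field (that is, containing the prime field F_p or ℚ) is
isomorphic to a power series ring in finitely many variables over its residue field (existence of an
isomorphism only). -/
theorem result (R : Type u)
    [CommRing R] [IsRegularLocalRing R] [IsAdicComplete (IsLocalRing.maximalIdeal R) R]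
    (k₀ : Type u) [Field k₀] [Algebra k₀ R] :
    ∃ d : ℕ, Nonempty (R ≃+* MvPowerSeries (Fin d) (IsLocalRing.ResidueField R)) := by
  classical
  obtain ⟨σ, hσ⟩ := Groth.Agent.H27.CoeffSection.exists_section R k₀
  have hfg : (IsLocalRing.maximalIdeal R).FG := IsNoetherian.noetherian _
  obtain ⟨t, htc, hts⟩ := Submodule.FG.exists_span_finset_card_eq_spanFinrank hfg
  obtain ⟨d, hd⟩ : ∃ d, d = (IsLocalRing.maximalIdeal R).spanFinrank := ⟨_, rfl⟩
  let e : t ≃ Fin d := Finset.equivFinOfCardEq (htc.trans hd.symm)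
  let x : Fin d → R := fun i => (e.symm i : R)
  have hx : Ideal.span (Set.range x) = IsLocalRing.maximalIdeal R := by
    have h1 : Set.range x = (t : Set R) := by
      ext y
      constructor
      · rintro ⟨i, rfl⟩
        exact (e.symm i).2
      · intro hy
        refine ⟨e ⟨y, hy⟩, ?_⟩
        show ((e.symm (e ⟨y, hy⟩) : t) : R) = y
        rw [Equiv.symm_apply_apply]
    rw [h1]
    exact hts
  obtain ⟨u, huC, huX, husurj⟩ := Groth.Agent.H27.CoeffSection.exists_ps_surjection σ hσ x hx
  refine ⟨d, ⟨(RingEquiv.ofBijective u ⟨?_, husurj⟩).symm⟩⟩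
  rw [RingHom.injective_iff_ker_eq_bot]
  by_contra hne
  obtain ⟨f, hf, hf0⟩ := Submodule.exists_mem_ne_zero_of_ne_bot hne
  have hfnz : f ∈ nonZeroDivisors (MvPowerSeries (Fin d) (IsLocalRing.ResidueField R)) :=
    mem_nonZeroDivisors_of_ne_zero hf0
  have h1 := ringKrullDim_quotient_succ_le_of_nonZeroDivisor hfnz
  let v : (MvPowerSeries (Fin d) (IsLocalRing.ResidueField R) ⧸ Ideal.span {f}) →+* R :=
    Ideal.Quotient.lift (Ideal.span {f}) u (fun a ha => by
      have hle : Ideal.span {f} ≤ RingHom.ker u := (Ideal.span_singleton_le_iff_mem _).2 hf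
      exact hle ha)
  have hv : Function.Surjective v := fun y => by
    obtain ⟨g, rfl⟩ := husurj y
    exact ⟨Ideal.Quotient.mk _ g, rfl⟩
  have h2 := ringKrullDim_le_of_surjective v hv
  have h3 := Groth.Agent.H3.MvPSDim.dim_le (IsLocalRing.ResidueField R) d
  have h4 : ((d : ℕ) : WithBot ℕ∞) = ringKrullDim R := by
    rw [hd]
    exact IsRegularLocalRing.spanFinrank_maximalIdeal
  have h5 : ((d : ℕ) : WithBot ℕ∞) + 1 ≤ ((d : ℕ) : WithBot ℕ∞) := by
    calc ((d : ℕ) : WithBot ℕ∞) + 1
        ≤ ringKrullDim (MvPowerSeries (Fin d) (IsLocalRing.ResidueField R) ⧸ Ideal.span {f}) + 1 := by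
          rw [h4]
          gcongr
      _ ≤ ringKrullDim (MvPowerSeries (Fin d) (IsLocalRing.ResidueField R)) := h1
      _ ≤ _ := h3
  have h6 : d + 1 ≤ d := by exact_mod_cast h5
  omega

end Groth.Agent.S9444
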