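import Groth.Statements.S9445
import Mathlib

set_option autoImplicit false
universe u
open CAlg

namespace Groth.Agent.S9445

open TensorProduct in
/-- For ring maps R → S → S' with S → S' formally étale and k ≥ 0, let J' ⊆ S' ⊗_R S' be the kernel of
multiplication and I ⊆ S' ⊗_R S its preimage under the map induced by S → S' (I is the kernel of S'
⊗_R S → S', and (S' ⊗_R S)/I^{k+1} is S' ⊗_S P^k_{S/R}); then (S' ⊗_R S)/I^{k+1} → (S' ⊗_R
S')/J'^{k+1} is bijective. (The consequence S' ⊗_S Ω_{S/R} ≅ Ω_{S'/R} is Mathlib's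
KaehlerDifferential.isBaseChange_of_formallyEtale.) -/
theorem result (R : Type u) [CommRing R]
    (S : Type u) [CommRing S] [Algebra R S] (S' : Type u) [CommRing S'] [Algebra R S']
    [Algebra S S'] [IsScalarTower R S S'] [Algebra.FormallyEtale S S'] (k : ℕ) :
    Function.Bijective (Ideal.quotientMap (KaehlerDifferential.ideal R S' ^ (k + 1))
      (Algebra.TensorProduct.map (AlgHom.id S' S') (IsScalarTower.toAlgHom R S S')).toRingHom
      (Ideal.le_comap_pow
        (Algebra.TensorProduct.map (AlgHom.id S' S') (IsScalarTower.toAlgHom R S S')).toRingHom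
        (K := KaehlerDifferential.ideal R S') (k + 1))) := by
  classical
  have hn0 : k + 1 ≠ 0 := Nat.succ_ne_zero k
  let T := S' ⊗[R] S
  let T' := S' ⊗[R] S'
  let f : T →ₐ[S'] T' :=
    Algebra.TensorProduct.map (AlgHom.id S' S') (IsScalarTower.toAlgHom R S S')
  let J' : Ideal T' := KaehlerDifferential.ideal R S'
  let I : Ideal T := J'.comap f.toRingHom
  let μ' : T' →+* S' := (Algebra.TensorProduct.lmul' R : S' ⊗[R] S' →ₐ[R] S').toRingHom
  have hf_tmul : ∀ (a : S') (s : S), f (a ⊗ₜ[R] s) = a ⊗ₜ[R] algebraMap S S' s := fun a s =>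
    Algebra.TensorProduct.map_tmul _ _ a s
  have hμ'_tmul : ∀ a b : S', μ' (a ⊗ₜ[R] b) = a * b := fun a b =>
    Algebra.TensorProduct.lmul'_apply_tmul a b
  have hJ'mem : ∀ x : T', x ∈ J' ↔ μ' x = 0 := fun x => Iff.rfl
  have hImem : ∀ t : T, t ∈ I ↔ μ' (f t) = 0 := fun t => Iff.rfl
  have hIn_le : I ^ (k + 1) ≤ I := Ideal.pow_le_self hn0
  have hJn_le : J' ^ (k + 1) ≤ J' := Ideal.pow_le_self hn0
  let A := T ⧸ I ^ (k + 1)
  let A' := T' ⧸ J' ^ (k + 1)
  let q : A →+* A' :=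
    Ideal.quotientMap (J' ^ (k + 1)) f.toRingHom (Ideal.le_comap_pow f.toRingHom (k + 1))
  have hq_mk : ∀ t : T, q (Ideal.Quotient.mk (I ^ (k + 1)) t) =
      Ideal.Quotient.mk (J' ^ (k + 1)) (f t) := fun t => rfl
  -- S-algebra structures
  let algSA : Algebra S A := ((Ideal.Quotient.mk (I ^ (k + 1))).comp
    (Algebra.TensorProduct.includeRight : S →ₐ[R] T).toRingHom).toAlgebra
  have halgSA : ∀ s : S, algebraMap S A s =
      Ideal.Quotient.mk (I ^ (k + 1)) ((1 : S') ⊗ₜ[R] s) := fun s => rfl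
  let algSA' : Algebra S A' := (q.comp (algebraMap S A)).toAlgebra
  have halgSA' : ∀ s : S, algebraMap S A' s =
      Ideal.Quotient.mk (J' ^ (k + 1)) ((1 : S') ⊗ₜ[R] algebraMap S S' s) := fun s => by
    show q (algebraMap S A s) = _
    rw [halgSA, hq_mk, hf_tmul]
  -- p : A → S'
  let p₀ : A →+* S' := Ideal.Quotient.lift (I ^ (k + 1)) (μ'.comp f.toRingHom)
    (fun t ht => (hImem t).mp (hIn_le ht))
  have hp₀_mk : ∀ t : T, p₀ (Ideal.Quotient.mk (I ^ (k + 1)) t) = μ' (f t) := fun t => rfl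
  let p : A →ₐ[S] S' :=
    { p₀ with
      commutes' := fun s => by
        show p₀ (algebraMap S A s) = algebraMap S S' s
        rw [halgSA, hp₀_mk, hf_tmul, hμ'_tmul, one_mul] }
  have hp_mk : ∀ t : T, p (Ideal.Quotient.mk (I ^ (k + 1)) t) = μ' (f t) := fun t => rfl
  have hp_surj : Function.Surjective p := by
    intro b
    refine ⟨Ideal.Quotient.mk (I ^ (k + 1)) (b ⊗ₜ[R] (1 : S)), ?_⟩
    rw [hp_mk, hf_tmul, map_one, hμ'_tmul, mul_one]
  have hp_ker_le : RingHom.ker (p : A →+* S') ≤ I.map (Ideal.Quotient.mk (I ^ (k + 1))) := by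
    intro x hx
    obtain ⟨t, rfl⟩ := Ideal.Quotient.mk_surjective x
    rw [RingHom.mem_ker] at hx
    exact Ideal.mem_map_of_mem _ ((hImem t).mpr hx)
  have hp_ker_pow : RingHom.ker (p : A →+* S') ^ (k + 1) = ⊥ := by
    rw [eq_bot_iff]
    calc RingHom.ker (p : A →+* S') ^ (k + 1)
        ≤ (I.map (Ideal.Quotient.mk (I ^ (k + 1)))) ^ (k + 1) :=
          Ideal.pow_right_mono hp_ker_le (k + 1)
      _ = (I ^ (k + 1)).map (Ideal.Quotient.mk (I ^ (k + 1))) := (Ideal.map_pow _ _ _).symm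
      _ = ⊥ := Ideal.map_quotient_self _
  have hp_nil : IsNilpotent (RingHom.ker (p : A →+* S')) := ⟨k + 1, hp_ker_pow⟩
  let σ₂ : S' →ₐ[S] A :=
    Algebra.FormallySmooth.liftOfSurjective (AlgHom.id S S') p hp_surj hp_nil
  have hσ₂ : ∀ b : S', p (σ₂ b) = b := fun b =>
    Algebra.FormallySmooth.liftOfSurjective_apply (AlgHom.id S S') p hp_surj hp_nil b
  let g₁ : S' →ₐ[R] A := (Ideal.Quotient.mkₐ R (I ^ (k + 1))).comp
    ((Algebra.TensorProduct.includeLeft : S' →ₐ[S'] T).restrictScalars R)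
  have hg₁ : ∀ a : S', g₁ a = Ideal.Quotient.mk (I ^ (k + 1)) (a ⊗ₜ[R] (1 : S)) := fun a => rfl
  let g₂ : S' →ₐ[R] A :=
    { σ₂.toRingHom with
      commutes' := fun r => by
        show σ₂ (algebraMap R S' r) = algebraMap R A r
        rw [IsScalarTower.algebraMap_apply R S S', σ₂.commutes, halgSA]
        show _ = Ideal.Quotient.mk (I ^ (k + 1)) (algebraMap R T r)
        rw [← (Algebra.TensorProduct.includeRight : S →ₐ[R] T).commutes r]
        rfl }
  have hg₂ : ∀ b : S', g₂ b = σ₂ b := fun b => rfl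
  let σ : T' →ₐ[R] A := Algebra.TensorProduct.productMap g₁ g₂
  have hσ_tmul : ∀ a b : S', σ (a ⊗ₜ[R] b) =
      Ideal.Quotient.mk (I ^ (k + 1)) (a ⊗ₜ[R] (1 : S)) * σ₂ b := fun a b =>
    Algebra.TensorProduct.productMap_apply_tmul g₁ g₂ a b
  have hpσ : ∀ x : T', p (σ x) = μ' x := by
    intro x
    induction x using TensorProduct.induction_on with
    | zero => simp
    | tmul a b =>
      rw [hσ_tmul, map_mul, hp_mk, hσ₂, hf_tmul, map_one, hμ'_tmul, mul_one, hμ'_tmul]
    | add x y hx hy => rw [map_add, map_add, hx, hy, map_add]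
  have hσJ : J' ≤ (RingHom.ker (p : A →+* S')).comap (σ : T' →+* A) := by
    intro x hx
    rw [Ideal.mem_comap, RingHom.mem_ker]
    show p (σ x) = 0
    rw [hpσ]
    exact (hJ'mem x).mp hx
  have hσ_kill : ∀ x ∈ J' ^ (k + 1), (σ : T' →+* A) x = 0 := by
    intro x hx
    have h1 : J' ^ (k + 1) ≤ ((RingHom.ker (p : A →+* S')) ^ (k + 1)).comap (σ : T' →+* A) :=
      (Ideal.pow_right_mono hσJ (k + 1)).trans (Ideal.le_comap_pow _ (k + 1))
    have h2 := h1 hx
    rw [hp_ker_pow, Ideal.mem_comap, Ideal.mem_bot] at h2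
    exact h2
  let σb : A' →+* A := Ideal.Quotient.lift (J' ^ (k + 1)) (σ : T' →+* A) hσ_kill
  have hσb_mk : ∀ x : T', σb (Ideal.Quotient.mk (J' ^ (k + 1)) x) = σ x := fun x => rfl
  have hleft : ∀ t : T, σ (f t) = Ideal.Quotient.mk (I ^ (k + 1)) t := by
    intro t
    induction t using TensorProduct.induction_on with
    | zero => simp
    | tmul a s =>
      rw [hf_tmul, hσ_tmul, σ₂.commutes, halgSA, ← map_mul,
        Algebra.TensorProduct.tmul_mul_tmul, mul_one, one_mul]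
    | add x y hx hy => rw [map_add, map_add, hx, hy, map_add]
  -- π : A' → S'
  let π : A' →+* S' := Ideal.Quotient.lift (J' ^ (k + 1)) μ'
    (fun x hx => (hJ'mem x).mp (hJn_le hx))
  have hπ_mk : ∀ x : T', π (Ideal.Quotient.mk (J' ^ (k + 1)) x) = μ' x := fun x => rfl
  have hπq : ∀ x : A, π (q x) = p x := by
    intro x
    obtain ⟨t, rfl⟩ := Ideal.Quotient.mk_surjective x
    rfl
  have hπnil : IsNilpotent (RingHom.ker π) := by
    refine ⟨k + 1, ?_⟩
    have hle : RingHom.ker π ≤ J'.map (Ideal.Quotient.mk (J' ^ (k + 1))) := by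
      intro x hx
      obtain ⟨s, rfl⟩ := Ideal.Quotient.mk_surjective x
      rw [RingHom.mem_ker, hπ_mk] at hx
      exact Ideal.mem_map_of_mem _ ((hJ'mem s).mpr hx)
    rw [Ideal.zero_eq_bot, eq_bot_iff]
    calc RingHom.ker π ^ (k + 1) ≤ (J'.map (Ideal.Quotient.mk (J' ^ (k + 1)))) ^ (k + 1) :=
          Ideal.pow_right_mono hle (k + 1)
      _ = (J' ^ (k + 1)).map (Ideal.Quotient.mk (J' ^ (k + 1))) := (Ideal.map_pow _ _ _).symm
      _ = ⊥ := Ideal.map_quotient_self _
  let h₁ : S' →ₐ[S] A' :=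
    { q.comp σ₂.toRingHom with
      commutes' := fun s => by
        show q (σ₂ (algebraMap S S' s)) = algebraMap S A' s
        rw [σ₂.commutes]
        rfl }
  let h₂ : S' →ₐ[S] A' :=
    { (Ideal.Quotient.mk (J' ^ (k + 1))).comp
        (Algebra.TensorProduct.includeRight : S' →ₐ[R] T').toRingHom with
      commutes' := fun s => by
        show Ideal.Quotient.mk (J' ^ (k + 1)) ((1 : S') ⊗ₜ[R] algebraMap S S' s) =
          algebraMap S A' s
        rw [halgSA'] }
  have heq : h₁ = h₂ := by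
    refine Algebra.FormallyUnramified.ext' π hπnil h₁ h₂ ?_
    intro b
    show π (q (σ₂ b)) = π (Ideal.Quotient.mk (J' ^ (k + 1)) ((1 : S') ⊗ₜ[R] b))
    rw [hπq, hσ₂, hπ_mk, hμ'_tmul, one_mul]
  have hright : ∀ t' : T', q (σ t') = Ideal.Quotient.mk (J' ^ (k + 1)) t' := by
    intro t'
    induction t' using TensorProduct.induction_on with
    | zero => simp
    | tmul a b =>
      have hb : q (σ₂ b) = Ideal.Quotient.mk (J' ^ (k + 1)) ((1 : S') ⊗ₜ[R] b) :=
        DFunLike.congr_fun heq b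
      rw [hσ_tmul, map_mul, hq_mk, hf_tmul, map_one, hb, ← map_mul,
        Algebra.TensorProduct.tmul_mul_tmul, mul_one, one_mul]
    | add x y hx hy => rw [map_add, map_add, hx, hy, map_add]
  show Function.Bijective q
  constructor
  · intro x y hxy
    obtain ⟨t, rfl⟩ := Ideal.Quotient.mk_surjective x
    obtain ⟨t₂, rfl⟩ := Ideal.Quotient.mk_surjective y
    rw [← hleft t, ← hleft t₂, ← hσb_mk, ← hσb_mk, ← hq_mk, ← hq_mk, hxy]
  · intro y
    obtain ⟨t', rfl⟩ := Ideal.Quotient.mk_surjective y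
    exact ⟨σ t', hright t'⟩

end Groth.Agent.S9445
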