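import Groth.Statements.S9446
import Mathlib
import Groth.Agent.Lib.Helper26.ColimDescent

set_option autoImplicit false
universe u
open CAlg

namespace Groth.Agent.S9446

open TensorProduct in
/-- Ind-smooth algebras are flat. -/
theorem flat_of_indSmooth (R : Type u) [CommRing R] (S : Type u)
    [CommRing S] [Algebra R S] (hS : Smoothing.IndSmooth R S) : Module.Flat R S := by
  classical
  rw [Module.Flat.iff_forall_isTrivialRelation]
  intro l f x hfx
  let rel : MvPolynomial (Fin l) R := ∑ i, MvPolynomial.C (f i) * MvPolynomial.X i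
  let I : Ideal (MvPolynomial (Fin l) R) := Ideal.span {rel}
  have hfp : Algebra.FinitePresentation R (MvPolynomial (Fin l) R ⧸ I) :=
    Algebra.FinitePresentation.quotient (Submodule.fg_span_singleton _)
  have hrel : MvPolynomial.aeval x rel = 0 := by
    simp only [rel, map_sum, map_mul, MvPolynomial.aeval_C, MvPolynomial.aeval_X]
    rw [← hfx]
    exact Finset.sum_congr rfl fun i _ => (Algebra.smul_def _ _).symm
  let a : MvPolynomial (Fin l) R ⧸ I →ₐ[R] S :=
    Ideal.Quotient.liftₐ I (MvPolynomial.aeval x) (by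
      intro p hp
      obtain ⟨c, rfl⟩ := Ideal.mem_span_singleton'.mp hp
      rw [map_mul, hrel, mul_zero])
  obtain ⟨B', _, _, hsm, g, h, hgh⟩ := hS _ hfp a
  have hB : ∑ i, f i • g (Ideal.Quotient.mk I (MvPolynomial.X i)) = 0 := by
    have h1 : Ideal.Quotient.mk I rel = 0 :=
      Ideal.Quotient.eq_zero_iff_mem.mpr (Ideal.subset_span rfl)
    have h2 := congrArg g h1
    rw [map_zero] at h2
    rw [← h2]
    simp only [rel, map_sum, map_mul]
    refine Finset.sum_congr rfl fun i _ => ?_
    rw [Algebra.smul_def]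
    congr 1
    have : Ideal.Quotient.mk I (MvPolynomial.C (f i)) =
        algebraMap R (MvPolynomial (Fin l) R ⧸ I) (f i) := rfl
    rw [this, AlgHom.commutes]
  have hflat : Module.Flat R B' := inferInstance
  obtain ⟨k, c, y, hy1, hy2⟩ := Module.Flat.iff_forall_isTrivialRelation.mp hflat hB
  refine ⟨k, c, fun j => h (y j), ?_, hy2⟩
  intro i
  have h3 : x i = h (g (Ideal.Quotient.mk I (MvPolynomial.X i))) := by
    have := DFunLike.congr_fun hgh (Ideal.Quotient.mk I (MvPolynomial.X i))
    rw [AlgHom.comp_apply] at this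
    rw [this]
    simp [a]
  have h4 : g (Ideal.Quotient.mk I (MvPolynomial.X i)) = ∑ j, c i j • y j := hy1 i
  rw [h3, h4, map_sum]
  exact Finset.sum_congr rfl fun j _ => map_smul h _ _

/-- Finitely presented `R`-algebras over `S`. -/
structure FPOver (R : Type u) [CommRing R] (S : Type u) [CommRing S] [Algebra R S] :
    Type (u + 1) where
  A : Type u
  [ring : CommRing A]
  [alg : Algebra R A]
  fp : Algebra.FinitePresentation R A
  a : A →ₐ[R] S

attribute [instance] FPOver.ring FPOver.alg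

section FP

open TensorProduct Groth.Agent.Helper26

variable {R : Type u} [CommRing R] {S : Type u} [CommRing S] [Algebra R S]

instance : Preorder (FPOver R S) where
  le i j := ∃ φ : i.A →ₐ[R] j.A, j.a.comp φ = i.a
  le_refl i := ⟨AlgHom.id R i.A, AlgHom.comp_id _⟩
  le_trans i j k := by
    rintro ⟨φ, hφ⟩ ⟨φ', hφ'⟩
    exact ⟨φ'.comp φ, by rw [← AlgHom.comp_assoc, hφ', hφ]⟩

instance : IsDirected (FPOver R S) (· ≤ ·) := ⟨fun i j => by
  haveI := i.fp
  haveI := j.fp
  have hfp : Algebra.FinitePresentation R (i.A ⊗[R] j.A) :=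
    Algebra.FinitePresentation.trans R i.A (i.A ⊗[R] j.A)
  refine ⟨⟨i.A ⊗[R] j.A, hfp, Algebra.TensorProduct.lift i.a j.a (fun _ _ => Commute.all _ _)⟩,
    ⟨Algebra.TensorProduct.includeLeft, ?_⟩, ⟨Algebra.TensorProduct.includeRight, ?_⟩⟩
  · ext x; simp
  · ext x; simp⟩

instance : Nonempty (FPOver R S) := ⟨⟨R, inferInstance, Algebra.ofId R S⟩⟩

/-- The transition class. -/
def TFP (i k : FPOver R S) (ψ : i.A →ₗ[R] k.A) : Prop :=
  ∃ φ : i.A →ₐ[R] k.A, k.a.comp φ = i.a ∧ ψ = φ.toLinearMap

theorem sysFP : WeakDirSys (fun i : FPOver R S => i.A) (fun i => i.a.toLinearMap) TFP where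
  id i := ⟨AlgHom.id R i.A, AlgHom.comp_id _, rfl⟩
  comp := by
    rintro i j k _ _ ⟨φ, hφ, rfl⟩ ⟨φ', hφ', rfl⟩
    exact ⟨φ'.comp φ, by rw [← AlgHom.comp_assoc, hφ', hφ], rfl⟩
  compat := by
    rintro i k _ ⟨φ, hφ, rfl⟩
    ext x
    exact DFunLike.congr_fun hφ x
  le i k hik := by
    obtain ⟨φ, hφ⟩ := hik
    exact ⟨_, φ, hφ, rfl⟩
  surj s := by
    refine ⟨⟨Polynomial R, inferInstance, Polynomial.aeval s⟩, Polynomial.X, ?_⟩
    simp
  ker i x hx := by
    haveI := i.fp
    have hfp : Algebra.FinitePresentation R (i.A ⧸ Ideal.span {x}) :=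
      Algebra.FinitePresentation.quotient (Submodule.fg_span_singleton _)
    refine ⟨⟨i.A ⧸ Ideal.span {x}, hfp, Ideal.Quotient.liftₐ (Ideal.span {x}) i.a ?_⟩, _,
      ⟨Ideal.Quotient.mkₐ R _, ?_, rfl⟩, ?_⟩
    · intro p hp
      obtain ⟨c, rfl⟩ := Ideal.mem_span_singleton'.mp hp
      rw [map_mul]
      have : i.a x = 0 := hx
      rw [this, mul_zero]
    · ext y; simp
    · exact Ideal.Quotient.eq_zero_iff_mem.mpr (Ideal.subset_span rfl)

theorem map_eval₂ {B : Type u} [CommRing B] [Algebra R B]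
    {X Y : Type u} [CommRing X] [Algebra R X] [CommRing Y] [Algebra R Y]
    (θ : X →ₐ[R] Y) (w : X ⊗[R] B) (Q : Polynomial X) :
    Algebra.TensorProduct.map θ (AlgHom.id R B)
      (Polynomial.eval₂ (algebraMap X (X ⊗[R] B)) w Q) =
    Polynomial.eval₂ (algebraMap Y (Y ⊗[R] B)) (Algebra.TensorProduct.map θ (AlgHom.id R B) w)
      (Q.map θ.toRingHom) := by
  rw [← AlgHom.coe_toRingHom, Polynomial.hom_eval₂, Polynomial.eval₂_map]
  have hF : ((Algebra.TensorProduct.map θ (AlgHom.id R B) : _ →ₐ[R] _) : _ →+* _).comp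
      (algebraMap X (X ⊗[R] B)) = (algebraMap Y (Y ⊗[R] B)).comp θ.toRingHom :=
    RingHom.ext fun r => by simp [Algebra.TensorProduct.algebraMap_apply]
  rw [hF]

theorem map_eq_rTensor {B : Type u} [CommRing B] [Algebra R B]
    {X Y : Type u} [CommRing X] [Algebra R X] [CommRing Y] [Algebra R Y]
    (θ : X →ₐ[R] Y) (w : X ⊗[R] B) :
    Algebra.TensorProduct.map θ (AlgHom.id R B) w = θ.toLinearMap.rTensor B w := by
  induction w using TensorProduct.induction_on with
  | zero => simp
  | tmul a b => rfl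
  | add a b ha hb => simp only [map_add, ha, hb]

theorem map_map {B : Type u} [CommRing B] [Algebra R B]
    {X Y Z : Type u} [CommRing X] [Algebra R X] [CommRing Y] [Algebra R Y]
    [CommRing Z] [Algebra R Z]
    (θ' : Y →ₐ[R] Z) (θ : X →ₐ[R] Y) (w : X ⊗[R] B) :
    Algebra.TensorProduct.map θ' (AlgHom.id R B) (Algebra.TensorProduct.map θ (AlgHom.id R B) w) =
      Algebra.TensorProduct.map (θ'.comp θ) (AlgHom.id R B) w := by
  induction w using TensorProduct.induction_on with
  | zero => simp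
  | tmul a b => rfl
  | add a b ha hb => simp only [map_add, ha, hb]

end FP

/-- If S is ind-smooth over R (every R-algebra map into S from a finitely presented R-algebra factors
through a smooth R-algebra) then for every R-algebra B the canonical map S ⊗_R A → A', from the base
change of the integral closure A of R in B to the integral closure A' of S in S ⊗_R B, is bijective. -/
theorem result (R : Type u) [CommRing R] (S : Type u)
    [CommRing S] [Algebra R S] (hS : Smoothing.IndSmooth R S) (B : Type u) [CommRing B]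
    [Algebra R B] : Function.Bijective (TensorProduct.toIntegralClosure R S B) := by
  classical
  haveI : Module.Flat R S := flat_of_indSmooth R S hS
  refine ⟨TensorProduct.toIntegralClosure_injective_of_flat, ?_⟩
  rintro ⟨x, hx⟩
  obtain ⟨P, hPm, hPx⟩ := id hx
  have sys := sysFP (R := R) (S := S)
  obtain ⟨i₁, hi₁⟩ := sys.lift_finset P.coeffs
  obtain ⟨i₂, x₂, hx₂⟩ := (sys.rTensor B).surj x
  obtain ⟨i, _, _, ⟨φ₁, hφ₁, rfl⟩, ⟨φ₂, hφ₂, rfl⟩⟩ := sys.directed i₁ i₂
  have hlift : P ∈ Polynomial.lifts i.a.toRingHom := by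
    rw [Polynomial.lifts_iff_coeffs_subset_range]
    intro c hc
    obtain ⟨y, hy⟩ := hi₁ c hc
    refine ⟨φ₁ y, ?_⟩
    change i.a (φ₁ y) = c
    rw [← hy]
    exact DFunLike.congr_fun hφ₁ y
  obtain ⟨Q, hQ1, -, hQ2⟩ := Polynomial.lifts_and_natDegree_eq_and_monic hlift hPm
  let xi : TensorProduct R i.A B := Algebra.TensorProduct.map φ₂ (AlgHom.id R B) x₂
  have hxi : Algebra.TensorProduct.map i.a (AlgHom.id R B) xi = x := by
    simp only [xi]
    rw [map_map, hφ₂, map_eq_rTensor]
    exact hx₂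
  let z : TensorProduct R i.A B :=
    Polynomial.eval₂ (algebraMap i.A (TensorProduct R i.A B)) xi Q
  have hz : (i.a.toLinearMap).rTensor B z = 0 := by
    rw [← map_eq_rTensor]
    simp only [z]
    rw [map_eval₂, hxi, hQ1]
    exact hPx
  obtain ⟨j, _, ⟨φ, hφ, rfl⟩, hj⟩ := sys.ker_rTensor B z hz
  obtain ⟨B', _, _, hsm, g, h, hgh⟩ := hS j.A j.fp j.a
  let Φ : i.A →ₐ[R] B' := g.comp φ
  have hΦ : h.comp Φ = i.a := by
    simp only [Φ]
    rw [← AlgHom.comp_assoc, hgh, hφ]
  let xB : TensorProduct R B' B := Algebra.TensorProduct.map Φ (AlgHom.id R B) xi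
  have hxB : IsIntegral B' xB := by
    refine ⟨Q.map Φ.toRingHom, hQ2.map _, ?_⟩
    simp only [xB]
    rw [← map_eval₂, ← map_map, map_eq_rTensor φ]
    change Algebra.TensorProduct.map g (AlgHom.id R B) (φ.toLinearMap.rTensor B z) = 0
    rw [hj, map_zero]
  obtain ⟨y', hy'⟩ := (TensorProduct.toIntegralClosure_bijective_of_smooth (R := R) (S := B')
    (B := B)).2 ⟨xB, hxB⟩
  have hy'' : Algebra.TensorProduct.map (AlgHom.id B' B') (integralClosure R B).val y' = xB :=
    congrArg Subtype.val hy'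
  refine ⟨Algebra.TensorProduct.map h (AlgHom.id R _) y', Subtype.ext ?_⟩
  change Algebra.TensorProduct.map (AlgHom.id S S) (integralClosure R B).val
    (Algebra.TensorProduct.map h (AlgHom.id R _) y') = x
  have hnat : ∀ w : TensorProduct R B' (integralClosure R B),
      Algebra.TensorProduct.map (AlgHom.id S S) (integralClosure R B).val
        (Algebra.TensorProduct.map h (AlgHom.id R _) w) =
      Algebra.TensorProduct.map h (AlgHom.id R B)
        (Algebra.TensorProduct.map (AlgHom.id B' B') (integralClosure R B).val w) := by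
    intro w
    induction w using TensorProduct.induction_on with
    | zero => simp
    | tmul a b => rfl
    | add a b ha hb => simp only [map_add, ha, hb]
  rw [hnat, hy'']
  simp only [xB]
  rw [map_map, hΦ, hxi]

end Groth.Agent.S9446
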