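import Groth.Statements.S9447
import Mathlib
import Groth.Agent.Lib.Helper12.ProjDescent

set_option autoImplicit false
universe u
open CAlg

namespace Groth.Agent.S9447

open TensorProduct in
/-- Formal smoothness descends along faithfully flat base change: for R → S arbitrary and R → R'
faithfully flat, the R-algebra S is formally smooth exactly when the R'-algebra R' ⊗_R S is formally
smooth. No finiteness hypothesis on S. -/
theorem result (R : Type u) [CommRing R]
    (S : Type u) [CommRing S] [Algebra R S] (R' : Type u) [CommRing R'] [Algebra R R']
    [Module.FaithfullyFlat R R'] :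
    Algebra.FormallySmooth R S ↔ Algebra.FormallySmooth R' (R' ⊗[R] S) := by
  constructor
  · intro h
    infer_instance
  · intro h
    rw [Algebra.formallySmooth_iff]
    constructor
    · let _ : Algebra R' (TensorProduct R S R') := Algebra.TensorProduct.rightAlgebra
      let e : TensorProduct R S R' ≃ₐ[R'] TensorProduct R R' S :=
        .ofRingEquiv (f := Algebra.TensorProduct.comm R S R') <| by
          simp [RingHom.algebraMap_toAlgebra]
      have h1 : Algebra.FormallySmooth R' (TensorProduct R S R') := .of_equiv e.symm
      let e' : TensorProduct S (TensorProduct R S R') Ω[S⁄R] ≃ₗ[TensorProduct R S R']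
          Ω[TensorProduct R S R'⁄R'] :=
        KaehlerDifferential.tensorKaehlerEquiv R R' S (TensorProduct R S R')
      have h2 : Module.Projective (TensorProduct R S R')
          (TensorProduct S (TensorProduct R S R') Ω[S⁄R]) :=
        Module.Projective.of_equiv' e'.symm
      exact Groth.Agent.Helper12.ProjDescent.main S (TensorProduct R S R') Ω[S⁄R]
    · have h3 : Subsingleton (TensorProduct R R' (Algebra.H1Cotangent R S)) :=
        (Algebra.tensorH1CotangentOfFlat R S R').subsingleton
      exact Module.FaithfullyFlat.lTensor_reflects_triviality R R' (Algebra.H1Cotangent R S)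

end Groth.Agent.S9447
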