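import Groth.Statements.S9448
import Mathlib
import Groth.Agent.H29.SmoothGCI
import Groth.Agent.H29.RegLocal3
import Groth.Agent.Helper1.Miracle

set_option autoImplicit false
universe u
open Unram

namespace Groth.Agent.S9448

open IsLocalRing KaehlerDifferential TensorProduct

/-- If the differentials of the coordinates span `Ω_{A/k}`, then `A` is unramified over `k[x]`. -/
theorem unram (k : Type u) [Field k] (n : ℕ) (A : Type u) [CommRing A] [Algebra k A]
    [Algebra (MvPolynomial (Fin n) k) A] [IsScalarTower k (MvPolynomial (Fin n) k) A]
    (hspan : Submodule.span A (Set.range fun i : Fin n =>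
        KaehlerDifferential.D k A (algebraMap (MvPolynomial (Fin n) k) A (MvPolynomial.X i))) = ⊤) :
    Algebra.FormallyUnramified (MvPolynomial (Fin n) k) A := by
  have h0 : KaehlerDifferential.map k (MvPolynomial (Fin n) k) A A = 0 := by
    apply LinearMap.ext_on hspan
    rintro _ ⟨i, rfl⟩
    rw [KaehlerDifferential.map_D, LinearMap.zero_apply, Algebra.algebraMap_self, RingHom.id_apply]
    exact Derivation.map_algebraMap _ _
  refine ⟨⟨fun x y => ?_⟩⟩
  obtain ⟨x', rfl⟩ := KaehlerDifferential.map_surjective k (MvPolynomial (Fin n) k) A x
  obtain ⟨y', rfl⟩ := KaehlerDifferential.map_surjective k (MvPolynomial (Fin n) k) A y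
  rw [h0]; rfl

/-- Local flatness from unramifiedness and equality of dimensions over a regular base. -/
theorem flat_loc_gen {P A : Type u} [CommRing P] [CommRing A] [Algebra P A]
    [IsRegularRing P] [Algebra.FiniteType P A] [Algebra.FormallyUnramified P A]
    (n : ℕ) (q : Ideal P) [q.IsPrime] (m : Ideal A) [m.IsPrime] [m.LiesOver q]
    (hq : ringKrullDim (Localization.AtPrime q) = n)
    (hdim : ringKrullDim (Localization.AtPrime m) = n) :
    Module.Flat P (Localization.AtPrime m) := by
  haveI : IsNoetherianRing A := Algebra.FiniteType.isNoetherianRing P A
  letI : Algebra (Localization.AtPrime q) (Localization.AtPrime m) :=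
    Localization.AtPrime.algebraOfLiesOver q m
  haveI : IsScalarTower P (Localization.AtPrime q) (Localization.AtPrime m) := inferInstance
  haveI : IsLocalHom (algebraMap (Localization.AtPrime q) (Localization.AtPrime m)) :=
    inferInstance
  haveI : IsRegularLocalRing (Localization.AtPrime q) := inferInstance
  haveI : Algebra.FormallyUnramified A (Localization.AtPrime m) :=
    Algebra.FormallyUnramified.of_isLocalization m.primeCompl
  haveI : Algebra.FormallyUnramified P (Localization.AtPrime m) :=
    Algebra.FormallyUnramified.comp P A _
  haveI : Algebra.FormallyUnramified (Localization.AtPrime q) (Localization.AtPrime m) :=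
    Algebra.FormallyUnramified.of_restrictScalars P _ _
  haveI : Algebra.EssFiniteType P (Localization.AtPrime m) := inferInstance
  haveI : Algebra.EssFiniteType (Localization.AtPrime q) (Localization.AtPrime m) :=
    Algebra.EssFiniteType.of_comp P _ _
  have hmax : (maximalIdeal (Localization.AtPrime q)).map
      (algebraMap (Localization.AtPrime q) (Localization.AtPrime m)) =
      maximalIdeal (Localization.AtPrime m) :=
    Algebra.FormallyUnramified.map_maximalIdeal
  haveI : IsRegularLocalRing (Localization.AtPrime m) := by
    apply IsRegularLocalRing.of_spanFinrank_maximalIdeal_le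
    have hfg : (maximalIdeal (Localization.AtPrime q)).FG := IsNoetherian.noetherian _
    obtain ⟨s, hs1, hs2⟩ := Submodule.FG.exists_span_finset_card_eq_spanFinrank hfg
    have h1 : (maximalIdeal (Localization.AtPrime q)).spanFinrank = n := by
      have := IsRegularLocalRing.spanFinrank_maximalIdeal (R := Localization.AtPrime q)
      rw [hq] at this
      exact_mod_cast this
    have hs2' : Ideal.span (s : Set (Localization.AtPrime q)) =
        maximalIdeal (Localization.AtPrime q) := hs2
    rw [← hmax, ← hs2', hdim, Ideal.map_span]
    have h2 := Submodule.spanFinrank_span_le_ncard_of_finite (R := Localization.AtPrime m)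
      (s := algebraMap (Localization.AtPrime q) (Localization.AtPrime m) ''
        (s : Set (Localization.AtPrime q))) (s.finite_toSet.image _)
    have h3 : (algebraMap (Localization.AtPrime q) (Localization.AtPrime m) ''
        (s : Set (Localization.AtPrime q))).ncard ≤ n := by
      calc _ ≤ (s : Set (Localization.AtPrime q)).ncard := Set.ncard_image_le s.finite_toSet
        _ = s.card := Set.ncard_coe_finset s
        _ = n := by rw [hs1, h1]
    exact_mod_cast h2.trans h3
  haveI := Groth.Agent.H29.isCohenMacaulayLocalRing_of_isRegularLocalRing (Localization.AtPrime m)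
  have hflat : Module.Flat (Localization.AtPrime q) (Localization.AtPrime m) := by
    apply Groth.Agent.Helper1.Miracle.main_ring
    rw [hmax, hdim, hq, ringKrullDim_eq_zero_of_isField
      ((Ideal.Quotient.maximal_ideal_iff_isField_quotient _).mp (maximalIdeal.isMaximal _)),
      add_zero]
  exact Module.Flat.trans P (Localization.AtPrime q) (Localization.AtPrime m)


/-- For a field k and a finite type algebra A over the polynomial ring k[x_1, …, x_n] (the variables
mapping to a_1, …, a_n), the structure map is étale if and only if (a) the local rings of A at all
maximal ideals have dimension n and (b) da_1, …, da_n generate the module of differentials of A over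
k. -/
theorem result (k : Type u) [Field k] (n : ℕ)
    (A : Type u) [CommRing A] [Algebra k A] [Algebra (MvPolynomial (Fin n) k) A]
    [IsScalarTower k (MvPolynomial (Fin n) k) A] [Algebra.FiniteType (MvPolynomial (Fin n) k) A] :
    Algebra.Etale (MvPolynomial (Fin n) k) A ↔
      (∀ (m : Ideal A) [m.IsMaximal], ringKrullDim (Localization.AtPrime m) = n) ∧
        Submodule.span A (Set.range fun i : Fin n =>
          KaehlerDifferential.D k A (algebraMap (MvPolynomial (Fin n) k) A (MvPolynomial.X i))) = ⊤ := by
  haveI : IsNoetherianRing A := Algebra.FiniteType.isNoetherianRing (MvPolynomial (Fin n) k) A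
  constructor
  · intro hE
    haveI := hE
    refine ⟨?_, ?_⟩
    · intro m hm
      haveI : Module.Flat (MvPolynomial (Fin n) k) A := inferInstance
      haveI : Algebra.QuasiFinite (MvPolynomial (Fin n) k) A := inferInstance
      haveI hqmax : (m.under (MvPolynomial (Fin n) k)).IsMaximal :=
        Groth.Agent.H29.SmoothGCI.under_isMaximal (MvPolynomial (Fin n) k) A m
      haveI : m.LiesOver (m.under (MvPolynomial (Fin n) k)) := ⟨rfl⟩
      have h := Ideal.height_eq_height_add_of_liesOver_of_hasGoingDown
        (m.under (MvPolynomial (Fin n) k)) m
      rw [Groth.Agent.H29.SmoothGCI.height_maximal_mvPolynomial k n,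
        Groth.Agent.H29.SmoothGCI.height_map_quotient_eq_zero, add_zero] at h
      rw [IsLocalization.AtPrime.ringKrullDim_eq_height m (Localization.AtPrime m), h]
      rfl
    · have key : ∀ t : A ⊗[MvPolynomial (Fin n) k] Ω[MvPolynomial (Fin n) k⁄k],
          KaehlerDifferential.mapBaseChange k (MvPolynomial (Fin n) k) A t ∈
            Submodule.span A (Set.range fun i : Fin n =>
              KaehlerDifferential.D k A
                (algebraMap (MvPolynomial (Fin n) k) A (MvPolynomial.X i))) := by
        intro t
        induction t using TensorProduct.induction_on with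
        | zero => rw [map_zero]; exact Submodule.zero_mem _
        | add a b ha hb => rw [map_add]; exact Submodule.add_mem _ ha hb
        | tmul a ω =>
          rw [KaehlerDifferential.mapBaseChange_tmul]
          apply Submodule.smul_mem
          have hω : ω ∈ Submodule.span (MvPolynomial (Fin n) k)
              (Set.range (KaehlerDifferential.mvPolynomialBasis k (Fin n))) := by
            rw [(KaehlerDifferential.mvPolynomialBasis k (Fin n)).span_eq]; trivial
          refine Submodule.span_induction
            (p := fun ω _ => KaehlerDifferential.map k k (MvPolynomial (Fin n) k) A ω ∈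
              Submodule.span A (Set.range fun i : Fin n =>
                KaehlerDifferential.D k A
                  (algebraMap (MvPolynomial (Fin n) k) A (MvPolynomial.X i))))
            ?_ ?_ ?_ ?_ hω
          · rintro _ ⟨i, rfl⟩
            rw [KaehlerDifferential.mvPolynomialBasis_apply, KaehlerDifferential.map_D]
            exact Submodule.subset_span ⟨i, rfl⟩
          · rw [map_zero]; exact Submodule.zero_mem _
          · intro x y _ _ hx hy
            rw [map_add]; exact Submodule.add_mem _ hx hy
          · intro p x _ hx
            rw [map_smul, ← algebraMap_smul A p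
              (KaehlerDifferential.map k k (MvPolynomial (Fin n) k) A x)]
            exact Submodule.smul_mem _ _ hx
      rw [eq_top_iff]
      intro y _
      have hy : (KaehlerDifferential.map k (MvPolynomial (Fin n) k) A A) y = 0 :=
        Subsingleton.elim _ _
      obtain ⟨t, rfl⟩ :=
        ((KaehlerDifferential.exact_mapBaseChange_map k (MvPolynomial (Fin n) k) A) y).mp hy
      exact key t
  · rintro ⟨hdim, hspan⟩
    haveI := unram k n A hspan
    haveI : Algebra.FinitePresentation (MvPolynomial (Fin n) k) A :=
      Algebra.FinitePresentation.of_finiteType.mp inferInstance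
    haveI : Module.Flat (MvPolynomial (Fin n) k) A := by
      refine Module.flat_of_isLocalized_maximal (R := MvPolynomial (Fin n) k) (S := A) A
        (fun m _ => Localization.AtPrime m)
        (fun m _ => Algebra.linearMap A (Localization.AtPrime m)) ?_
      intro m hm
      haveI hqmax : (m.under (MvPolynomial (Fin n) k)).IsMaximal :=
        Groth.Agent.H29.SmoothGCI.under_isMaximal (MvPolynomial (Fin n) k) A m
      haveI : m.LiesOver (m.under (MvPolynomial (Fin n) k)) := ⟨rfl⟩
      refine flat_loc_gen n (m.under (MvPolynomial (Fin n) k)) m ?_ (hdim m)
      rw [IsLocalization.AtPrime.ringKrullDim_eq_height (m.under (MvPolynomial (Fin n) k))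
        (Localization.AtPrime (m.under (MvPolynomial (Fin n) k))),
        Groth.Agent.H29.SmoothGCI.height_maximal_mvPolynomial k n]
      rfl
    exact Algebra.Etale.of_formallyUnramified_of_flat

end Groth.Agent.S9448
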