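import Groth.Statements.S9449
import Mathlib
import Groth.Agent.Lib.Helper26.UnramDecomp

set_option linter.style.haveILetI false

set_option autoImplicit false
universe u
open Unram

namespace Groth.Agent.S9449

open TensorProduct in
/-- For an unramified ring map R → S and a prime p of R there exist an étale R-algebra R', a prime p' of
R' lying over p and a decomposition R' ⊗_R S ≅ A_1 × ⋯ × A_n × B of R'-algebras with every R' → A_i
surjective, p'A_i a prime ideal of A_i whose preimage in R' is p', and no prime of B lying over p'. -/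
theorem result (R : Type u) [CommRing R]
    (S : Type u) [CommRing S] [Algebra R S] [Algebra.Unramified R S] (p : Ideal R) [p.IsPrime] :
    ∃ (R' : Type u) (_ : CommRing R') (_ : Algebra R R') (_ : Algebra.Etale R R') (p' : Ideal R')
      (_ : p'.IsPrime) (_ : p'.LiesOver p) (n : ℕ) (A : Fin n → Type u) (_ : ∀ i, CommRing (A i))
      (_ : ∀ i, Algebra R' (A i)) (B : Type u) (_ : CommRing B) (_ : Algebra R' B),
      Nonempty ((R' ⊗[R] S) ≃ₐ[R'] ((∀ i, A i) × B)) ∧
        (∀ i, Function.Surjective (algebraMap R' (A i)) ∧
          (p'.map (algebraMap R' (A i))).IsPrime ∧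
          (p'.map (algebraMap R' (A i))).comap (algebraMap R' (A i)) = p') ∧
        ∀ (q : Ideal B) [q.IsPrime], q.comap (algebraMap R' B) ≠ p' := by
  obtain ⟨R', _, _, _, p', _, _, n, I, B, _, _, hI, he, hB⟩ :=
    Groth.Agent.Helper26.UnramDecomp.aux _ R S p rfl
  refine ⟨R', inferInstance, inferInstance, inferInstance, p', inferInstance, inferInstance, n,
    fun i => R' ⧸ I i, fun _ => inferInstance, fun _ => inferInstance, B, inferInstance,
    inferInstance, he, fun i => ?_, hB⟩
  have hsurj : Function.Surjective (algebraMap R' (R' ⧸ I i)) := Ideal.Quotient.mk_surjective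
  have hker : RingHom.ker (algebraMap R' (R' ⧸ I i)) = I i := by
    rw [Ideal.Quotient.algebraMap_eq, Ideal.mk_ker]
  refine ⟨hsurj, ?_, ?_⟩
  · exact Ideal.map_isPrime_of_surjective hsurj (by rw [hker]; exact hI i)
  · rw [Ideal.comap_map_of_surjective _ hsurj, ← RingHom.ker_eq_comap_bot, hker,
      sup_eq_left.mpr (hI i)]

end Groth.Agent.S9449
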