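import Groth.Statements.S9450
import Mathlib

set_option autoImplicit false
universe u
open CAlg TensorProduct

namespace Groth.Agent.S9450

section aux

/-- For surjective `B → C` with kernel `J`, `1 ⊗ ω = 0` in `C ⊗[B] M` forces `ω ∈ J • ⊤`. -/
lemma mem_smul_top_of_one_tmul_eq_zero {B C M : Type u} [CommRing B] [CommRing C] [Algebra B C]
    [AddCommGroup M] [Module B M] (hBC : Function.Surjective (algebraMap B C)) (ω : M)
    (h : (1 : C) ⊗ₜ[B] ω = 0) : ω ∈ (RingHom.ker (algebraMap B C) • ⊤ : Submodule B M) := by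
  have hsurj : Function.Surjective (Algebra.ofId B C) := hBC
  let eC : (B ⧸ RingHom.ker (Algebra.ofId B C)) ≃ₐ[B] C :=
    Ideal.quotientKerAlgEquivOfSurjective hsurj
  let T : (B ⧸ RingHom.ker (Algebra.ofId B C)) ⊗[B] M ≃ₗ[B] C ⊗[B] M :=
    TensorProduct.congr eC.toLinearEquiv (LinearEquiv.refl B M)
  have h1 : T ((1 : B ⧸ RingHom.ker (Algebra.ofId B C)) ⊗ₜ[B] ω) = 0 := by
    simp only [T, TensorProduct.congr_tmul, AlgEquiv.toLinearEquiv_apply, map_one,
      LinearEquiv.refl_apply]
    exact h
  have h2 : (1 : B ⧸ RingHom.ker (Algebra.ofId B C)) ⊗ₜ[B] ω = 0 := by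
    rw [← T.map_eq_zero_iff]; exact h1
  have h3 : ω ∈ LinearMap.ker (TensorProduct.mk B (B ⧸ RingHom.ker (Algebra.ofId B C)) M 1) := h2
  rw [LinearMap.ker_tensorProductMk] at h3
  exact h3

end aux

/-- For ring maps A → B → C with A → C surjective and A → B formally smooth, writing I = ker(A → C) and
J = ker(B → C), the sequence 0 → I/I² → J/J² → C ⊗_B Ω_{B/A} → 0 is split exact: the first map is
injective and admits an A-linear retraction, its range is the kernel of the second map (class of x ↦
1 ⊗ dx), and the second map is surjective. -/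
theorem result (A : Type u) [CommRing A]
    (B : Type u) [CommRing B] [Algebra A B] [Algebra.FormallySmooth A B] (C : Type u) [CommRing C]
    [Algebra B C] [Algebra A C] [IsScalarTower A B C] (hC : Function.Surjective (algebraMap A C)) :
    Function.Injective (Ideal.mapCotangent (RingHom.ker (algebraMap A C))
        (RingHom.ker (algebraMap B C)) (Algebra.ofId A B)
        (le_of_eq (congrArg RingHom.ker (IsScalarTower.algebraMap_eq A B C)))) ∧
      (∃ r : (RingHom.ker (algebraMap B C)).Cotangent →ₗ[A] (RingHom.ker (algebraMap A C)).Cotangent,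
        r ∘ₗ (Ideal.mapCotangent (RingHom.ker (algebraMap A C)) (RingHom.ker (algebraMap B C))
          (Algebra.ofId A B)
          (le_of_eq (congrArg RingHom.ker (IsScalarTower.algebraMap_eq A B C)))) = LinearMap.id) ∧
      LinearMap.range (Ideal.mapCotangent (RingHom.ker (algebraMap A C))
          (RingHom.ker (algebraMap B C)) (Algebra.ofId A B)
          (le_of_eq (congrArg RingHom.ker (IsScalarTower.algebraMap_eq A B C)))) =
        LinearMap.ker ((KaehlerDifferential.kerCotangentToTensor A B C).restrictScalars A) ∧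
      Function.Surjective (KaehlerDifferential.kerCotangentToTensor A B C) := by
  classical
  have hIJ : RingHom.ker (algebraMap A C) ≤
      (RingHom.ker (algebraMap B C)).comap (Algebra.ofId A B) :=
    le_of_eq (congrArg RingHom.ker (IsScalarTower.algebraMap_eq A B C))
  set I : Ideal A := RingHom.ker (algebraMap A C) with hI
  set J : Ideal B := RingHom.ker (algebraMap B C) with hJ
  set ι : I.Cotangent →ₗ[A] J.Cotangent := Ideal.mapCotangent I J (Algebra.ofId A B) hIJ with hι
  have hι_to : ∀ a : I, ι (I.toCotangent a) =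
      J.toCotangent ⟨algebraMap A B a, hIJ a.2⟩ := fun a => rfl
  have hBC : Function.Surjective (algebraMap B C) := by
    intro c
    obtain ⟨a, rfl⟩ := hC c
    exact ⟨algebraMap A B a, (IsScalarTower.algebraMap_apply A B C a).symm⟩
  -- (4)
  have h4 : Function.Surjective (KaehlerDifferential.kerCotangentToTensor A B C) := by
    have hex := KaehlerDifferential.exact_kerCotangentToTensor_mapBaseChange A B C hBC
    have : Subsingleton (KaehlerDifferential A C) :=
      KaehlerDifferential.subsingleton_of_surjective A C hC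
    intro y
    exact (hex y).mp (Subsingleton.elim _ _)
  -- the lift τ
  have hI2 : ∀ a ∈ I ^ 2, Algebra.ofId A C a = 0 := fun a ha =>
    (Ideal.pow_le_self two_ne_zero ha : a ∈ I)
  let g : A ⧸ I ^ 2 →ₐ[A] C := Ideal.Quotient.liftₐ (I ^ 2) (Algebra.ofId A C) hI2
  have hg_mk : ∀ a, g (Ideal.Quotient.mk (I ^ 2) a) = algebraMap A C a := fun a => rfl
  have hg_surj : Function.Surjective g := fun c => by
    obtain ⟨a, rfl⟩ := hC c
    exact ⟨Ideal.Quotient.mk _ a, rfl⟩
  have hg_ker : RingHom.ker (g : A ⧸ I ^ 2 →+* C) = I.cotangentIdeal := by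
    ext y
    obtain ⟨a, rfl⟩ := Ideal.Quotient.mk_surjective y
    rw [RingHom.mem_ker, Ideal.mk_mem_cotangentIdeal]
    exact Iff.rfl
  have hg_nil : IsNilpotent (RingHom.ker (g : A ⧸ I ^ 2 →+* C)) :=
    ⟨2, by rw [hg_ker, Ideal.cotangentIdeal_square]; rfl⟩
  let τ : B →ₐ[A] A ⧸ I ^ 2 :=
    Algebra.FormallySmooth.liftOfSurjective (IsScalarTower.toAlgHom A B C) g hg_surj hg_nil
  have hτ : ∀ b, g (τ b) = algebraMap B C b := fun b =>
    Algebra.FormallySmooth.liftOfSurjective_apply (IsScalarTower.toAlgHom A B C) g hg_surj hg_nil b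
  have hτJ : ∀ x : J, τ x ∈ I.cotangentIdeal := by
    intro x
    rw [← hg_ker, RingHom.mem_ker]
    show g (τ x) = 0
    rw [hτ]
    exact x.2
  -- the injections into the square-zero quotients
  let jI : I.Cotangent →ₗ[A] A ⧸ I ^ 2 := I.cotangentToQuotientSquare
  have hjI : Function.Injective jI := I.cotangentToQuotientSquare_injective
  have hjI_to : ∀ a : I, jI (I.toCotangent a) = Ideal.Quotient.mk (I ^ 2) (a : A) := fun a => rfl
  let jJ : J.Cotangent →ₗ[B] B ⧸ J ^ 2 := J.cotangentToQuotientSquare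
  have hjJ : Function.Injective jJ := J.cotangentToQuotientSquare_injective
  have hjJ_to : ∀ x : J, jJ (J.toCotangent x) = Ideal.Quotient.mk (J ^ 2) (x : B) := fun x => rfl
  -- φ
  let ψ : J →ₗ[A] A ⧸ I ^ 2 := τ.toLinearMap ∘ₗ (J.subtype.restrictScalars A)
  have hψ : ∀ x : J, ψ x ∈ LinearMap.range jI := by
    intro x
    rw [Ideal.range_cotangentToQuotientSquare, Submodule.restrictScalars_mem]
    exact hτJ x
  let φ : J →ₗ[A] I.Cotangent :=
    (LinearEquiv.ofInjective jI hjI).symm.toLinearMap ∘ₗ (ψ.codRestrict (LinearMap.range jI) hψ)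
  have hφ : ∀ x : J, jI (φ x) = τ x := by
    intro x
    have := congrArg Subtype.val
      ((LinearEquiv.ofInjective jI hjI).apply_symm_apply (ψ.codRestrict (LinearMap.range jI) hψ x))
    exact this
  have hφ0 : ∀ x y : J, φ (x * y) = 0 := by
    intro x y
    apply hjI
    rw [hφ, map_zero]
    have h1 : τ ((x * y : J) : B) = τ x * τ y := by
      rw [← map_mul]; rfl
    rw [h1]
    have h2 : τ x * τ y ∈ I.cotangentIdeal * I.cotangentIdeal :=
      Ideal.mul_mem_mul (hτJ x) (hτJ y)
    have h3 : I.cotangentIdeal * I.cotangentIdeal = ⊥ := by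
      rw [← pow_two]; exact I.cotangentIdeal_square
    rw [h3, Ideal.mem_bot] at h2
    exact h2
  let r : J.Cotangent →ₗ[A] I.Cotangent := Ideal.Cotangent.lift φ hφ0
  have hr : ∀ x : J, jI (r (J.toCotangent x)) = τ x := fun x => hφ x
  have h2 : r ∘ₗ ι = LinearMap.id := by
    apply LinearMap.ext
    intro z
    obtain ⟨a, rfl⟩ := I.toCotangent_surjective z
    apply hjI
    rw [LinearMap.comp_apply, hι_to, hr, LinearMap.id_apply, hjI_to]
    exact τ.commutes a
  have h1 : Function.Injective ι := by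
    intro a b hab
    have := congrArg r hab
    rwa [← LinearMap.comp_apply, ← LinearMap.comp_apply, h2] at this
  refine ⟨h1, ⟨r, h2⟩, ?_, h4⟩
  -- the derivation
  let E := B ⧸ J ^ 2
  let K : Ideal E := J.cotangentIdeal
  have hK : K ^ 2 = ⊥ := J.cotangentIdeal_square
  have hle2 : I ^ 2 ≤ (J ^ 2).comap (Algebra.ofId A B) :=
    (Ideal.pow_right_mono hIJ 2).trans (Ideal.le_comap_pow _ 2)
  let sA : A ⧸ I ^ 2 →ₐ[A] E := Ideal.quotientMapₐ (J ^ 2) (Algebra.ofId A B) hle2
  have hsA_mk : ∀ a : A, sA (Ideal.Quotient.mk (I ^ 2) a) =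
      Ideal.Quotient.mk (J ^ 2) (algebraMap A B a) := fun a => rfl
  have hnat : ∀ w : I.Cotangent, sA (jI w) = jJ (ι w) := by
    intro w
    obtain ⟨a, rfl⟩ := I.toCotangent_surjective w
    rfl
  let π' : B →ₐ[A] E := sA.comp τ
  have e : (Ideal.Quotient.mkₐ A K).comp π' = IsScalarTower.toAlgHom A B (E ⧸ K) := by
    apply AlgHom.ext
    intro b
    show Ideal.Quotient.mk K (sA (τ b)) = Ideal.Quotient.mk K (Ideal.Quotient.mk (J ^ 2) b)
    rw [Ideal.Quotient.eq]
    obtain ⟨a, ha⟩ := Ideal.Quotient.mk_surjective (τ b)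
    rw [← ha, hsA_mk, ← map_sub, Ideal.mk_mem_cotangentIdeal, hJ, RingHom.mem_ker, map_sub,
      ← IsScalarTower.algebraMap_apply A B C, ← hg_mk, ha, hτ, sub_self]
  let d : Derivation A B K := derivationToSquareZeroOfLift K hK π' e
  have hd : ∀ b : B, ((d b : K) : E) = π' b - algebraMap B E b := fun b => rfl
  let l : KaehlerDifferential A B →ₗ[B] K := d.liftKaehlerDifferential
  have hlD : ∀ b : B, l (KaehlerDifferential.D A B b) = d b := fun b =>
    Derivation.liftKaehlerDifferential_comp_D d b
  have hl : ∀ ω ∈ (J • ⊤ : Submodule B (KaehlerDifferential A B)), l ω = 0 := by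
    intro ω hω
    refine Submodule.smul_induction_on hω ?_ ?_
    · intro j hj ω' _
      rw [map_smul]
      apply Subtype.ext
      rw [Submodule.coe_smul_of_tower, Algebra.smul_def]
      have h1 : algebraMap B E j * ((l ω' : K) : E) ∈ K * K :=
        Ideal.mul_mem_mul (Ideal.mk_mem_cotangentIdeal.mpr hj) (l ω').2
      have h3 : K * K = ⊥ := by
        rw [← pow_two]; exact hK
      rw [h3, Ideal.mem_bot] at h1
      exact h1
    · intro x y hx hy
      rw [map_add, hx, hy, add_zero]
  -- (3)
  apply le_antisymm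
  · rintro _ ⟨w, rfl⟩
    obtain ⟨a, rfl⟩ := I.toCotangent_surjective w
    rw [LinearMap.mem_ker, LinearMap.restrictScalars_apply, hι_to,
      KaehlerDifferential.kerCotangentToTensor_toCotangent]
    simp
  · intro z hz
    obtain ⟨x, rfl⟩ := J.toCotangent_surjective z
    rw [LinearMap.mem_ker, LinearMap.restrictScalars_apply,
      KaehlerDifferential.kerCotangentToTensor_toCotangent] at hz
    have hDx : KaehlerDifferential.D A B (x : B) ∈
        (J • ⊤ : Submodule B (KaehlerDifferential A B)) :=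
      mem_smul_top_of_one_tmul_eq_zero hBC _ hz
    have hdx : d (x : B) = 0 := by rw [← hlD]; exact hl _ hDx
    have hmk : Ideal.Quotient.mk (J ^ 2) (x : B) = sA (τ x) := by
      have := hd (x : B)
      rw [hdx] at this
      have h0 : π' (x : B) - algebraMap B E (x : B) = 0 := this.symm
      rw [sub_eq_zero] at h0
      exact h0.symm
    refine ⟨r (J.toCotangent x), ?_⟩
    apply hjJ
    rw [← hnat, hr, hjJ_to, hmk]

end Groth.Agent.S9450
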