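import Mathlib
import Mathlib
import Groth.Agent.H11.HensQF
import Groth.Statements.S9458

set_option autoImplicit false
universe u
open Hensel

namespace Groth.Agent.S9458

/-- Let R → S be of finite type and quasi-finite at a prime q lying over p, and let R_p^h, S_q^h be
henselizations of the local rings, S_q^h carrying the compatible R_p^h-algebra structure (the
canonical local map R_p^h → S_q^h). Then S_q^h is finite over R_p^h. (The published statement also
identifies S_q^h with a localization of R_p^h ⊗_{R_p} S_q; this row states only that S_q^h is finite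
over R_p^h.) -/
theorem result (R : Type u) [CommRing R] (S : Type u)
    [CommRing S] [Algebra R S] [Algebra.FiniteType R S] (p : Ideal R) [p.IsPrime] (q : Ideal S)
    [q.IsPrime] [q.LiesOver p] [Algebra.QuasiFiniteAt R q]
    (Rh : Type u) [CommRing Rh] [IsLocalRing Rh] [Algebra (Localization.AtPrime p) Rh]
    [IsLocalHom (algebraMap (Localization.AtPrime p) Rh)]
    [Hensel.IsHenselization (Localization.AtPrime p) Rh]
    (Sh : Type u) [CommRing Sh] [IsLocalRing Sh] [Algebra (Localization.AtPrime q) Sh]
    [IsLocalHom (algebraMap (Localization.AtPrime q) Sh)]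
    [Hensel.IsHenselization (Localization.AtPrime q) Sh]
    [Algebra (Localization.AtPrime p) (Localization.AtPrime q)]
    [IsScalarTower R (Localization.AtPrime p) (Localization.AtPrime q)]
    [Algebra Rh Sh] [Algebra (Localization.AtPrime p) Sh]
    [IsScalarTower (Localization.AtPrime p) Rh Sh]
    [IsScalarTower (Localization.AtPrime p) (Localization.AtPrime q) Sh] :
    Module.Finite Rh Sh := by

  classical
  letI aRRh : Algebra R Rh := ((algebraMap (Localization.AtPrime p) Rh).comp
    (algebraMap R (Localization.AtPrime p))).toAlgebra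
  haveI tRRpRh : IsScalarTower R (Localization.AtPrime p) Rh :=
    IsScalarTower.of_algebraMap_eq (fun _ => rfl)
  letI aSSh : Algebra S Sh := ((algebraMap (Localization.AtPrime q) Sh).comp
    (algebraMap S (Localization.AtPrime q))).toAlgebra
  haveI tSSqSh : IsScalarTower S (Localization.AtPrime q) Sh :=
    IsScalarTower.of_algebraMap_eq (fun _ => rfl)
  letI aRSh : Algebra R Sh := ((algebraMap (Localization.AtPrime p) Sh).comp
    (algebraMap R (Localization.AtPrime p))).toAlgebra
  haveI tRRpSh : IsScalarTower R (Localization.AtPrime p) Sh :=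
    IsScalarTower.of_algebraMap_eq (fun _ => rfl)
  haveI tRRhSh : IsScalarTower R Rh Sh := IsScalarTower.of_algebraMap_eq (fun x => by
    show algebraMap (Localization.AtPrime p) Sh (algebraMap R _ x) =
      algebraMap Rh Sh (algebraMap (Localization.AtPrime p) Rh (algebraMap R _ x))
    rw [← IsScalarTower.algebraMap_apply (Localization.AtPrime p) Rh Sh])
  haveI tRSSh : IsScalarTower R S Sh := IsScalarTower.of_algebraMap_eq (fun x => by
    show algebraMap (Localization.AtPrime p) Sh (algebraMap R _ x) =
      algebraMap (Localization.AtPrime q) Sh (algebraMap S _ (algebraMap R S x))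
    rw [IsScalarTower.algebraMap_apply (Localization.AtPrime p) (Localization.AtPrime q) Sh,
      ← IsScalarTower.algebraMap_apply R (Localization.AtPrime p) (Localization.AtPrime q),
      ← IsScalarTower.algebraMap_apply R S (Localization.AtPrime q)])
  haveI hRh : HenselianLocalRing Rh := Hensel.IsHenselization.henselian (R := Localization.AtPrime p)
  -- `Rh → Sh` is local
  have hpmem : ∀ x ∈ p, algebraMap R Sh x ∈ IsLocalRing.maximalIdeal Sh := by
    intro x hx
    rw [IsScalarTower.algebraMap_apply R S Sh, Groth.Agent.H11.HensQF.mem_q_iff S q Sh]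
    have : x ∈ q.under R := by rw [← Ideal.LiesOver.over (p := p) (P := q)]; exact hx
    exact this
  have hmle : IsLocalRing.maximalIdeal Rh ≤ (IsLocalRing.maximalIdeal Sh).comap (algebraMap Rh Sh) := by
    rw [← Groth.Agent.H11.map_maximalIdeal_eq (Localization.AtPrime p) Rh,
      ← Localization.AtPrime.map_eq_maximalIdeal, Ideal.map_map, Ideal.map_le_iff_le_comap]
    intro x hx
    rw [Ideal.mem_comap, Ideal.mem_comap]
    have := hpmem x hx
    rw [IsScalarTower.algebraMap_apply R Rh Sh] at this
    exact this
  have hmeq : (IsLocalRing.maximalIdeal Sh).comap (algebraMap Rh Sh) = IsLocalRing.maximalIdeal Rh := by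
    refine ((IsLocalRing.maximalIdeal.isMaximal Rh).eq_of_le ?_ hmle).symm
    exact (Ideal.comap_isPrime (algebraMap Rh Sh) _).ne_top
  exact Groth.Agent.H11.HensQF.finite_henselization R S q Rh Sh hmeq

end Groth.Agent.S9458
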