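import Groth.Statements.S9462
import Mathlib
import Groth.Agent.S6000
-- import your own Groth.Agent.* helpers here

set_option autoImplicit false
universe u
open CAlg

namespace Groth.Agent.S9462


open TensorProduct

section aux
variable (A' : Type u) [CommRing A'] (A : Type u) [CommRing A] [Algebra A' A]
  (B' : Type u) [CommRing B'] [Algebra A' B'] (B : Type u) [CommRing B] [Algebra B' B]
  [Algebra A B] [Algebra A' B] [IsScalarTower A' A B] [IsScalarTower A' B' B]

theorem flat_aux (hA : Function.Surjective (algebraMap A' A))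
    (hI : RingHom.ker (algebraMap A' A) ^ 2 = ⊥)
    (hB : Function.Surjective (algebraMap B' B)) [Module.Flat A B]
    (hJI : RingHom.ker (algebraMap B' B) = (RingHom.ker (algebraMap A' A)).map (algebraMap A' B'))
    (hinj : Function.Injective ((RingHom.ker (algebraMap A' A)).subtype.baseChange B')) :
    Module.Flat A' B' := by
  set I := RingHom.ker (algebraMap A' A) with hIdef
  have hnil : IsNilpotent I := ⟨2, by rw [hI, Ideal.zero_eq_bot]⟩
  rw [Groth.Agent.S6000.result A' I hnil B']
  refine ⟨?_, ?_⟩
  · letI algQA : Algebra (A' ⧸ I) A :=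
      (Ideal.Quotient.lift I (algebraMap A' A) (fun a ha => ha)).toAlgebra
    have hQA : ∀ a : A', algebraMap (A' ⧸ I) A (Ideal.Quotient.mk I a) = algebraMap A' A a :=
      fun a => rfl
    haveI : IsScalarTower A' (A' ⧸ I) A := IsScalarTower.of_algebraMap_eq (fun a => (hQA a).symm)
    letI algQB : Algebra (A' ⧸ I) B := ((algebraMap A B).comp (algebraMap (A' ⧸ I) A)).toAlgebra
    haveI : IsScalarTower (A' ⧸ I) A B := IsScalarTower.of_algebraMap_eq (fun a => rfl)
    haveI : IsScalarTower A' (A' ⧸ I) B := IsScalarTower.of_algebraMap_eq (fun a => by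
      show algebraMap A' B a = algebraMap A B (algebraMap (A' ⧸ I) A (algebraMap A' (A' ⧸ I) a))
      rw [IsScalarTower.algebraMap_apply A' A B]; rfl)
    have hbij : Function.Bijective (algebraMap (A' ⧸ I) A) := by
      constructor
      · rw [injective_iff_map_eq_zero]
        intro q hq
        obtain ⟨a, rfl⟩ := Ideal.Quotient.mk_surjective q
        rw [hQA] at hq
        exact Ideal.Quotient.eq_zero_iff_mem.2 hq
      · intro x
        obtain ⟨a, rfl⟩ := hA x
        exact ⟨Ideal.Quotient.mk I a, hQA a⟩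
    haveI : Module.Flat (A' ⧸ I) A :=
      Module.Flat.of_linearEquiv (LinearEquiv.ofBijective (Algebra.linearMap (A' ⧸ I) A) hbij).symm
    haveI : Module.Flat (A' ⧸ I) B := Module.Flat.trans (A' ⧸ I) A B
    let g : B' →ₗ[A'] B := (IsScalarTower.toAlgHom A' B' B).toLinearMap
    let ψ : (A' ⧸ I) ⊗[A'] B' →ₗ[A' ⧸ I] B := LinearMap.liftBaseChange (A' ⧸ I) g
    have hψ : ∀ (q : A' ⧸ I) (b : B'), ψ (q ⊗ₜ b) = q • algebraMap B' B b := fun q b => by
      simp [ψ, g]
    have hrep : ∀ z : (A' ⧸ I) ⊗[A'] B', ∃ b : B', z = 1 ⊗ₜ b := by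
      intro z
      induction z using TensorProduct.induction_on with
      | zero => exact ⟨0, (TensorProduct.tmul_zero _ _).symm⟩
      | tmul q b =>
        obtain ⟨a, rfl⟩ := Ideal.Quotient.mk_surjective q
        refine ⟨a • b, ?_⟩
        rw [TensorProduct.tmul_smul, TensorProduct.smul_tmul', Algebra.smul_def, mul_one]; rfl
      | add x y hx hy =>
        obtain ⟨b1, rfl⟩ := hx
        obtain ⟨b2, rfl⟩ := hy
        exact ⟨b1 + b2, (TensorProduct.tmul_add _ _ _).symm⟩
    have hker : ∀ x ∈ Ideal.map (algebraMap A' B') I, ((1 : A' ⧸ I) ⊗ₜ[A'] x) = 0 := by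
      intro x hx
      refine Submodule.span_induction (p := fun x _ => ((1 : A' ⧸ I) ⊗ₜ[A'] x) = 0) ?_ ?_ ?_ ?_ hx
      · rintro _ ⟨a, ha, rfl⟩
        rw [Algebra.algebraMap_eq_smul_one, TensorProduct.tmul_smul, TensorProduct.smul_tmul',
          Algebra.smul_def, mul_one]
        have : algebraMap A' (A' ⧸ I) a = 0 := Ideal.Quotient.eq_zero_iff_mem.2 ha
        rw [this, TensorProduct.zero_tmul]
      · exact TensorProduct.tmul_zero _ _
      · intro x y _ _ hx hy
        rw [TensorProduct.tmul_add, hx, hy, add_zero]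
      · intro b x _ hx
        have : ((1 : A' ⧸ I) ⊗ₜ[A'] (b • x)) =
            ((1 : A' ⧸ I) ⊗ₜ[A'] b) * ((1 : A' ⧸ I) ⊗ₜ[A'] x) := by
          rw [Algebra.TensorProduct.tmul_mul_tmul, one_mul, smul_eq_mul]
        rw [this, hx, mul_zero]
    have hψbij : Function.Bijective ψ := by
      constructor
      · rw [injective_iff_map_eq_zero]
        intro z hz
        obtain ⟨b, rfl⟩ := hrep z
        rw [hψ, one_smul] at hz
        have : b ∈ RingHom.ker (algebraMap B' B) := hz
        rw [hJI] at this
        exact hker b this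
      · intro y
        obtain ⟨b, rfl⟩ := hB y
        exact ⟨1 ⊗ₜ b, by rw [hψ, one_smul]⟩
    exact Module.Flat.of_linearEquiv (LinearEquiv.ofBijective ψ hψbij)
  · have h1 : Function.Injective (I.subtype.lTensor B') := by
      have : ⇑(I.subtype.baseChange B') = ⇑(I.subtype.lTensor B') :=
        LinearMap.baseChange_eq_ltensor _
      rw [← this]; exact hinj
    exact (LinearMap.lTensor_inj_iff_rTensor_inj B' I.subtype).1 h1

theorem ft_aux (hA : Function.Surjective (algebraMap A' A))
    (hB : Function.Surjective (algebraMap B' B)) (hJ : RingHom.ker (algebraMap B' B) ^ 2 = ⊥)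
    [Algebra.FiniteType A B]
    (hJI : RingHom.ker (algebraMap B' B) = (RingHom.ker (algebraMap A' A)).map (algebraMap A' B')) :
    Algebra.FiniteType A' B' := by
  classical
  haveI : Algebra.FiniteType A' A := Algebra.FiniteType.of_surjective (Algebra.ofId A' A) hA
  haveI : Algebra.FiniteType A' B :=
    Algebra.FiniteType.trans (inferInstance : Algebra.FiniteType A' A) inferInstance
  obtain ⟨s, hs⟩ := (inferInstance : Algebra.FiniteType A' B).out
  let π : B' →ₐ[A'] B := IsScalarTower.toAlgHom A' B' B
  let t : Finset B' := s.image (Function.surjInv hB)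
  let C : Subalgebra A' B' := Algebra.adjoin A' (t : Set B')
  have hπt : π '' (t : Set B') = s := by
    ext y
    simp only [t, Finset.coe_image, Set.mem_image, Finset.mem_coe, exists_exists_and_eq_and]
    constructor
    · rintro ⟨x, hx, rfl⟩
      have : π (Function.surjInv hB x) = x := Function.surjInv_eq hB x
      rwa [this]
    · intro hy
      exact ⟨y, hy, Function.surjInv_eq hB y⟩
  have hCmap : C.map π = ⊤ := by
    rw [← hs, ← hπt]; exact AlgHom.map_adjoin π _
  set J := RingHom.ker (algebraMap B' B) with hJdef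
  have hdec : ∀ b : B', ∃ c ∈ C, b - c ∈ J := by
    intro b
    have : π b ∈ C.map π := by rw [hCmap]; trivial
    obtain ⟨c, hc, hcb⟩ := this
    refine ⟨c, hc, ?_⟩
    rw [hJdef, RingHom.mem_ker, map_sub]
    exact sub_eq_zero.2 hcb.symm
  have hJC : ∀ x ∈ J, x ∈ C := by
    intro x hx
    have hx' := hx
    rw [hJI] at hx'
    refine Submodule.span_induction (p := fun x _ => x ∈ C) ?_ ?_ ?_ ?_ hx'
    · rintro _ ⟨a, _, rfl⟩; exact C.algebraMap_mem a
    · exact C.zero_mem
    · intro x y _ _ hx hy; exact C.add_mem hx hy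
    · intro b x hxs hx
      obtain ⟨c, hc, hbc⟩ := hdec b
      have hxJ : x ∈ J := by rw [hJI]; exact hxs
      have h0 : (b - c) * x = 0 := by
        have : (b - c) * x ∈ J ^ 2 := by rw [pow_two]; exact Ideal.mul_mem_mul hbc hxJ
        rw [hJ] at this; exact this
      have : b • x = c * x := by rw [smul_eq_mul]; linear_combination h0
      rw [this]; exact C.mul_mem hc hx
  refine ⟨⟨t, ?_⟩⟩
  rw [eq_top_iff]
  intro b _
  obtain ⟨c, hc, hbc⟩ := hdec b
  have := C.add_mem hc (hJC _ hbc)
  rwa [add_sub_cancel] at this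

theorem fp_aux (hA : Function.Surjective (algebraMap A' A))
    (hI : RingHom.ker (algebraMap A' A) ^ 2 = ⊥)
    (hB : Function.Surjective (algebraMap B' B))
    [Algebra.FinitePresentation A B] [Algebra.FiniteType A' B'] [Module.Flat A' B']
    (hJI : RingHom.ker (algebraMap B' B) = (RingHom.ker (algebraMap A' A)).map (algebraMap A' B')) :
    Algebra.FinitePresentation A' B' := by
  classical
  obtain ⟨n, f, hf⟩ :=
    Algebra.FiniteType.iff_quotient_mvPolynomial''.1 (inferInstance : Algebra.FiniteType A' B')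
  set I := RingHom.ker (algebraMap A' A) with hIdef
  let φ : MvPolynomial (Fin n) A' →+* MvPolynomial (Fin n) A := MvPolynomial.map (algebraMap A' A)
  have hφ : Function.Surjective φ := MvPolynomial.map_surjective _ hA
  let gA : MvPolynomial (Fin n) A →ₐ[A] B :=
    MvPolynomial.aeval (fun i => algebraMap B' B (f (MvPolynomial.X i)))
  have hgφ : ∀ p, gA (φ p) = algebraMap B' B (f p) := by
    intro p
    induction p using MvPolynomial.induction_on with
    | C a =>
      simp only [φ, gA, MvPolynomial.map_C, MvPolynomial.aeval_C]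
      rw [← MvPolynomial.algebraMap_eq, AlgHom.commutes, ← IsScalarTower.algebraMap_apply,
        ← IsScalarTower.algebraMap_apply]
    | add p q hp hq => simp only [map_add, hp, hq]
    | mul_X p i hp =>
      simp only [map_mul, hp]
      simp [φ, gA]
  have hgA : Function.Surjective gA := by
    intro y
    obtain ⟨b, rfl⟩ := hB y
    obtain ⟨p, rfl⟩ := hf b
    exact ⟨φ p, hgφ p⟩
  have hkerfg : (RingHom.ker gA.toRingHom).FG :=
    Algebra.FinitePresentation.ker_fG_of_surjective gA hgA
  set K : Ideal (MvPolynomial (Fin n) A') := RingHom.ker f.toRingHom with hK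
  set Ibar : Ideal (MvPolynomial (Fin n) A') := I.map MvPolynomial.C with hIbar
  have hkerφ : RingHom.ker φ = Ibar := MvPolynomial.ker_map _
  have hIbar2 : Ibar * Ibar = ⊥ := by
    rw [hIbar, ← Ideal.map_mul, ← pow_two, hI, Ideal.map_bot]
  have hKmem : ∀ p, p ∈ K ↔ f p = 0 := fun p => Iff.rfl
  have hKmap : K.map φ = RingHom.ker gA.toRingHom := by
    apply le_antisymm
    · rw [Ideal.map_le_iff_le_comap]
      intro p hp
      show gA (φ p) = 0
      rw [hgφ, (hKmem p).1 hp, map_zero]
    · intro q hq
      obtain ⟨p, rfl⟩ := hφ q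
      have h1 : f p ∈ RingHom.ker (algebraMap B' B) := by
        have : gA (φ p) = 0 := hq
        rwa [hgφ] at this
      rw [hJI] at h1
      have h2 : I.map (algebraMap A' B') = Ibar.map f.toRingHom := by
        rw [hIbar, Ideal.map_map]
        congr 1
        ext a
        simp
      rw [h2] at h1
      obtain ⟨r, hr, hrp⟩ := (Ideal.mem_map_iff_of_surjective f.toRingHom hf).1 h1
      have h3 : p - r ∈ K := by
        rw [hKmem, map_sub]
        have : f r = f p := hrp
        rw [this, sub_self]
      have h4 : φ (p - r) = φ p := by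
        have : φ r = 0 := by rw [← RingHom.mem_ker, hkerφ]; exact hr
        rw [map_sub, this, sub_zero]
      rw [← h4]; exact Ideal.mem_map_of_mem φ h3
  obtain ⟨s, hs⟩ := hkerfg
  have hs' : ∀ q ∈ s, ∃ k ∈ K, φ k = q := by
    intro q hq
    have : q ∈ K.map φ := by rw [hKmap, ← hs]; exact Ideal.subset_span hq
    exact (Ideal.mem_map_iff_of_surjective φ hφ).1 this
  choose! k hkK hkq using hs'
  let K0 : Ideal (MvPolynomial (Fin n) A') := Ideal.span (s.image k : Set _)
  have hK0K : K0 ≤ K := by
    rw [Ideal.span_le]; intro x hx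
    simp only [Finset.coe_image, Set.mem_image, Finset.mem_coe] at hx
    obtain ⟨q, hq, rfl⟩ := hx; exact hkK q hq
  have hK0fg : K0.FG := ⟨s.image k, rfl⟩
  have hK0map : K.map φ ≤ K0.map φ := by
    rw [hKmap, ← hs, Ideal.span_le]
    intro q hq
    rw [← hkq q hq]
    refine Ideal.mem_map_of_mem φ (Ideal.subset_span ?_)
    simp only [Finset.coe_image, Set.mem_image, Finset.mem_coe]
    exact ⟨q, hq, rfl⟩
  have h1 : K ≤ K0 ⊔ Ibar := by
    calc K ≤ (K.map φ).comap φ := Ideal.le_comap_map
      _ ≤ (K0.map φ).comap φ := Ideal.comap_mono hK0map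
      _ = K0 ⊔ Ibar := by rw [Ideal.comap_map_of_surjective' φ hφ, hkerφ]
  have h2 : K ⊓ Ibar ≤ Ibar * K := by
    let μP : I ⊗[A'] (MvPolynomial (Fin n) A') →ₗ[A'] MvPolynomial (Fin n) A' :=
      (TensorProduct.lid A' _).toLinearMap ∘ₗ (I.subtype.rTensor _)
    let μB : I ⊗[A'] B' →ₗ[A'] B' :=
      (TensorProduct.lid A' B').toLinearMap ∘ₗ (I.subtype.rTensor B')
    have hμB : Function.Injective μB :=
      (TensorProduct.lid A' B').injective.comp
        (Module.Flat.rTensor_preserves_injective_linearMap I.subtype I.injective_subtype)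
    have hnat : ∀ t, f (μP t) = μB (f.toLinearMap.lTensor I t) := by
      intro t
      induction t using TensorProduct.induction_on with
      | zero => simp
      | tmul a p => simp [μP, μB]
      | add x y hx hy => simp only [map_add, hx, hy]
    let κ : K →ₗ[A'] MvPolynomial (Fin n) A' := K.subtype.restrictScalars A'
    have hex : Function.Exact κ f.toLinearMap := by
      intro p
      constructor
      · intro hp; exact ⟨⟨p, hp⟩, rfl⟩
      · rintro ⟨k, rfl⟩; exact k.2
    have hex2 := lTensor_exact I hex hf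
    have hIK : ∀ w : I ⊗[A'] K, μP (κ.lTensor I w) ∈ Ibar * K := by
      intro w
      induction w using TensorProduct.induction_on with
      | zero => simp
      | tmul a k =>
        have : μP (κ.lTensor I (a ⊗ₜ k)) = MvPolynomial.C (a : A') * (k : MvPolynomial (Fin n) A') := by
          simp [μP, κ, MvPolynomial.smul_eq_C_mul]
        rw [this]; exact Ideal.mul_mem_mul (Ideal.mem_map_of_mem _ a.2) k.2
      | add x y hx hy => rw [map_add, map_add]; exact Ideal.add_mem _ hx hy
    have hrep : ∀ x ∈ Ibar, ∃ t, μP t = x := by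
      intro x hx
      have hx' : x ∈ (I • ⊤ : Submodule A' (MvPolynomial (Fin n) A')) := by
        rw [Ideal.smul_top_eq_map]; exact hx
      refine Submodule.smul_induction_on hx' ?_ ?_
      · intro a ha p _
        exact ⟨⟨a, ha⟩ ⊗ₜ p, by simp [μP]⟩
      · rintro x y ⟨t1, rfl⟩ ⟨t2, rfl⟩; exact ⟨t1 + t2, map_add _ _ _⟩
    rintro x ⟨hxK, hxI⟩
    obtain ⟨t, rfl⟩ := hrep x hxI
    have : f.toLinearMap.lTensor I t = 0 := by
      apply hμB; rw [← hnat, map_zero]; exact hxK
    obtain ⟨w, rfl⟩ := (hex2 t).1 this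
    exact hIK w
  have h3 : K ≤ K0 ⊔ Ibar * K := by
    intro x hx
    obtain ⟨y, hy, z, hz, rfl⟩ := Submodule.mem_sup.1 (h1 hx)
    have hzK : z ∈ K := by
      have := K.sub_mem hx (hK0K hy); rwa [add_sub_cancel_left] at this
    exact Submodule.mem_sup.2 ⟨y, hy, z, h2 ⟨hzK, hz⟩, rfl⟩
  have h4 : Ibar * K ≤ K0 := by
    calc Ibar * K ≤ Ibar * (K0 ⊔ Ibar * K) := Ideal.mul_mono_right h3
      _ = Ibar * K0 ⊔ Ibar * (Ibar * K) := Ideal.mul_sup _ _ _
      _ = Ibar * K0 := by rw [← mul_assoc, hIbar2, Ideal.bot_mul, sup_bot_eq]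
      _ ≤ K0 := Ideal.mul_le_right
  have h5 : K = K0 := le_antisymm (h3.trans (sup_le le_rfl h4)) hK0K
  exact Algebra.FinitePresentation.of_surjective hf (by rw [← hK, h5]; exact hK0fg)

theorem unram_aux (hA : Function.Surjective (algebraMap A' A))
    (hB : Function.Surjective (algebraMap B' B)) (hJ : RingHom.ker (algebraMap B' B) ^ 2 = ⊥)
    [Algebra.FormallyUnramified A B]
    (hJI : RingHom.ker (algebraMap B' B) = (RingHom.ker (algebraMap A' A)).map (algebraMap A' B')) :
    Algebra.FormallyUnramified A' B' := by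
  haveI : Algebra.FormallyUnramified A' A :=
    Algebra.FormallyUnramified.of_surjective (Algebra.ofId A' A) hA
  haveI : Algebra.FormallyUnramified A' B := Algebra.FormallyUnramified.comp A' A B
  set J := RingHom.ker (algebraMap B' B) with hJdef
  have hD : ∀ x ∈ J, ((1 : B) ⊗ₜ[B'] KaehlerDifferential.D A' B' x) = 0 := by
    intro x hx
    have hx' := hx
    rw [hJI] at hx'
    refine Submodule.span_induction
      (p := fun x _ => ((1 : B) ⊗ₜ[B'] KaehlerDifferential.D A' B' x) = 0) ?_ ?_ ?_ ?_ hx'
    · rintro _ ⟨a, _, rfl⟩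
      rw [Derivation.map_algebraMap, TensorProduct.tmul_zero]
    · rw [map_zero, TensorProduct.tmul_zero]
    · intro x y _ _ hx hy
      rw [map_add, TensorProduct.tmul_add, hx, hy, add_zero]
    · intro b x hxs hx
      have hxJ : algebraMap B' B x = 0 := by
        have : x ∈ J := by rw [hJI]; exact hxs
        exact this
      rw [smul_eq_mul, Derivation.leibniz, TensorProduct.tmul_add, TensorProduct.tmul_smul,
        TensorProduct.tmul_smul, hx, smul_zero, zero_add, TensorProduct.smul_tmul',
        Algebra.smul_def, hxJ, zero_mul, TensorProduct.zero_tmul]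
  have hzero : ∀ z : B ⊗[B'] Ω[B'⁄A'], z = 0 := by
    intro z
    have hex := KaehlerDifferential.exact_kerCotangentToTensor_mapBaseChange A' B' B hB
    have : KaehlerDifferential.mapBaseChange A' B' B z = 0 := Subsingleton.elim _ _
    obtain ⟨c, rfl⟩ := (hex z).1 this
    obtain ⟨j, rfl⟩ := Ideal.toCotangent_surjective _ c
    rw [KaehlerDifferential.kerCotangentToTensor_toCotangent]
    exact hD j.1 j.2
  have htop : (J • ⊤ : Submodule B' Ω[B'⁄A']) = ⊤ := by
    rw [eq_top_iff]
    intro ω _
    let e := RingHom.quotientKerEquivOfSurjective hB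
    let ψ : B →ₗ[B'] (B' ⧸ J) :=
      { toFun := e.symm
        map_add' := map_add e.symm
        map_smul' := fun b y => by
          have h1 : e.symm (algebraMap B' B b) = Ideal.Quotient.mk J b := by
            rw [RingEquiv.symm_apply_eq]; rfl
          simp only [RingHom.id_apply]
          rw [Algebra.smul_def, map_mul, h1, Algebra.smul_def]; rfl }
    have h1 : ((1 : B' ⧸ J) ⊗ₜ[B'] ω) = 0 := by
      have := congrArg (ψ.rTensor _) (hzero ((1 : B) ⊗ₜ[B'] ω))
      rw [LinearMap.rTensor_tmul, map_zero] at this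
      have h1 : ψ 1 = 1 := map_one e.symm
      rwa [h1] at this
    have h2 := TensorProduct.quotTensorEquivQuotSMul_mk_tmul (M := Ω[B'⁄A']) J 1 ω
    rw [map_one, h1, map_zero, one_smul] at h2
    exact (Submodule.Quotient.mk_eq_zero _).1 h2.symm
  constructor
  have hbot : (⊤ : Submodule B' Ω[B'⁄A']) = ⊥ := by
    calc (⊤ : Submodule B' Ω[B'⁄A']) = J • (J • ⊤) := by rw [htop, htop]
      _ = (J * J) • ⊤ := by rw [Submodule.mul_smul]
      _ = ⊥ := by rw [← pow_two, hJ, Submodule.bot_smul]
  exact subsingleton_of_forall_eq 0 (fun ω => by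
    have : ω ∈ (⊤ : Submodule B' Ω[B'⁄A']) := trivial
    rw [hbot] at this; exact this)

end aux

open TensorProduct in
/-- Consider surjections A' → A and B' → B with square-zero kernels I and J and a commutative square A'
→ B', A → B. If A → B is étale and J = I ⊗_A B — that is, J = IB' and the multiplication map B'
⊗_{A'} I → B' is injective — then A' → B' is étale. -/
theorem result (A' : Type u) [CommRing A'] (A : Type u) [CommRing A]
    [Algebra A' A] (hA : Function.Surjective (algebraMap A' A))
    (hI : RingHom.ker (algebraMap A' A) ^ 2 = ⊥)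
    (B' : Type u) [CommRing B'] [Algebra A' B'] (B : Type u) [CommRing B] [Algebra B' B]
    [Algebra A B] [Algebra A' B] [IsScalarTower A' A B] [IsScalarTower A' B' B]
    (hB : Function.Surjective (algebraMap B' B)) (hJ : RingHom.ker (algebraMap B' B) ^ 2 = ⊥)
    [Algebra.Etale A B]
    (hJI : RingHom.ker (algebraMap B' B) = (RingHom.ker (algebraMap A' A)).map (algebraMap A' B'))
    (hinj : Function.Injective ((RingHom.ker (algebraMap A' A)).subtype.baseChange B')) :
    Algebra.Etale A' B' := by
  haveI : Module.Flat A' B' := flat_aux A' A B' B hA hI hB hJI hinj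
  haveI : Algebra.FiniteType A' B' := ft_aux A' A B' B hA hB hJ hJI
  haveI : Algebra.FinitePresentation A' B' := fp_aux A' A B' B hA hI hB hJI
  haveI : Algebra.FormallyUnramified A' B' := unram_aux A' A B' B hA hB hJ hJI
  exact Algebra.Etale.of_formallyUnramified_of_flat

end Groth.Agent.S9462
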