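import Groth.Statements.S9468
import Mathlib
import Groth.Agent.Lib.Helper26.ResiduePairs

set_option autoImplicit false
universe u
open Hensel

namespace Groth.Agent.S9468

set_option linter.style.haveILetI false

open TensorProduct Groth.Agent.Helper26.ResiduePairs

/-- Let R be a ring and p a prime of R. Consider pairs (S, q) with S an étale R-algebra and q a prime of
S lying over p such that κ(p) → κ(q) is bijective; a morphism of pairs is an R-algebra map pulling
the second prime back to the first. Then any two pairs admit morphisms of pairs to a common third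
pair. -/
theorem result (R : Type u) [CommRing R]
    (p : Ideal R) [p.IsPrime] (S₁ : Type u) [CommRing S₁] [Algebra R S₁] [Algebra.Etale R S₁] (q₁ : Ideal S₁) [q₁.IsPrime] (hq₁ : p = q₁.comap (algebraMap R S₁))
    (hq₁κ : Function.Bijective (Ideal.ResidueField.map p q₁ (algebraMap R S₁) hq₁))
    (S₂ : Type u) [CommRing S₂] [Algebra R S₂] [Algebra.Etale R S₂] (q₂ : Ideal S₂) [q₂.IsPrime] (hq₂ : p = q₂.comap (algebraMap R S₂))
    (hq₂κ : Function.Bijective (Ideal.ResidueField.map p q₂ (algebraMap R S₂) hq₂)) :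
    ∃ (S₃ : Type u) (_ : CommRing S₃) (_ : Algebra R S₃) (_ : Algebra.Etale R S₃) (q₃ : Ideal S₃)
      (_ : q₃.IsPrime) (hq₃ : p = q₃.comap (algebraMap R S₃)),
      Function.Bijective (Ideal.ResidueField.map p q₃ (algebraMap R S₃) hq₃) ∧
        ∃ (φ₁ : S₁ →ₐ[R] S₃) (φ₂ : S₂ →ₐ[R] S₃),
          q₃.comap φ₁.toRingHom = q₁ ∧ q₃.comap φ₂.toRingHom = q₂ := by
  obtain ⟨ι₁, hι₁⟩ := exists_toResidue p q₁ hq₁ hq₁κ
  obtain ⟨ι₂, hι₂⟩ := exists_toResidue p q₂ hq₂ hq₂κ
  let χ : S₁ ⊗[R] S₂ →ₐ[R] p.ResidueField :=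
    Algebra.TensorProduct.lift ι₁ ι₂ (fun _ _ => Commute.all _ _)
  obtain ⟨h₁, hq₃, hbij⟩ := ker_residue_bijective p χ
  have hetale : Algebra.Etale R (S₁ ⊗[R] S₂) := Algebra.Etale.comp R S₁ (S₁ ⊗[R] S₂)
  refine ⟨S₁ ⊗[R] S₂, inferInstance, inferInstance, hetale, RingHom.ker χ, h₁, hq₃, hbij,
    Algebra.TensorProduct.includeLeft, Algebra.TensorProduct.includeRight, ?_, ?_⟩
  · ext x
    rw [Ideal.mem_comap, RingHom.mem_ker, ← hι₁, RingHom.mem_ker]
    change χ (x ⊗ₜ[R] (1 : S₂)) = 0 ↔ ι₁ x = 0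
    rw [Algebra.TensorProduct.lift_tmul, map_one, mul_one]
  · ext x
    rw [Ideal.mem_comap, RingHom.mem_ker, ← hι₂, RingHom.mem_ker]
    change χ ((1 : S₁) ⊗ₜ[R] x) = 0 ↔ ι₂ x = 0
    rw [Algebra.TensorProduct.lift_tmul, map_one, one_mul]

end Groth.Agent.S9468
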