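import Groth.Statements.S9469
import Mathlib
import Groth.Agent.Lib.Helper26.ResiduePairs

set_option autoImplicit false
universe u
open Hensel

namespace Groth.Agent.S9469

set_option linter.style.haveILetI false

open Groth.Agent.Helper26.ResiduePairs

/-- Let R be a ring and p a prime of R. Consider pairs (S, q) with S an étale R-algebra and q a prime of
S lying over p such that κ(p) → κ(q) is bijective; a morphism of pairs is an R-algebra map pulling
the second prime back to the first. Then any two parallel morphisms of pairs φ, ψ : (S₁, q₁) → (S₂,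
q₂) are coequalized by a morphism of pairs (S₂, q₂) → (S₃, q₃). -/
theorem result (R : Type u) [CommRing R]
    (p : Ideal R) [p.IsPrime] (S₁ : Type u) [CommRing S₁] [Algebra R S₁] [Algebra.Etale R S₁] (q₁ : Ideal S₁) [q₁.IsPrime] (hq₁ : p = q₁.comap (algebraMap R S₁))
    (hq₁κ : Function.Bijective (Ideal.ResidueField.map p q₁ (algebraMap R S₁) hq₁))
    (S₂ : Type u) [CommRing S₂] [Algebra R S₂] [Algebra.Etale R S₂] (q₂ : Ideal S₂) [q₂.IsPrime] (hq₂ : p = q₂.comap (algebraMap R S₂))
    (hq₂κ : Function.Bijective (Ideal.ResidueField.map p q₂ (algebraMap R S₂) hq₂))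
    (φ ψ : S₁ →ₐ[R] S₂) (hφ : q₂.comap φ.toRingHom = q₁) (hψ : q₂.comap ψ.toRingHom = q₁) :
    ∃ (S₃ : Type u) (_ : CommRing S₃) (_ : Algebra R S₃) (_ : Algebra.Etale R S₃) (q₃ : Ideal S₃)
      (_ : q₃.IsPrime) (hq₃ : p = q₃.comap (algebraMap R S₃)),
      Function.Bijective (Ideal.ResidueField.map p q₃ (algebraMap R S₃) hq₃) ∧
        ∃ χ : S₂ →ₐ[R] S₃, q₃.comap χ.toRingHom = q₂ ∧ χ.comp φ = χ.comp ψ := by
  classical
  let I : Ideal S₂ := Ideal.span (Set.range fun x : S₁ => φ x - ψ x)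
  have hmemI : ∀ x, φ x - ψ x ∈ I := fun x => Ideal.subset_span ⟨x, rfl⟩
  -- finite generation of `I`
  obtain ⟨t, ht⟩ := (Algebra.FiniteType.out : (⊤ : Subalgebra R S₁).FG)
  let I₀ : Ideal S₂ := Ideal.span ((fun x : S₁ => φ x - ψ x) '' (t : Set S₁))
  have hI₀ : ∀ x : S₁, φ x - ψ x ∈ I₀ := by
    intro x
    have hx : x ∈ Algebra.adjoin R (t : Set S₁) := by rw [ht]; trivial
    induction hx using Algebra.adjoin_induction with
    | mem x hx => exact Ideal.subset_span ⟨x, hx, rfl⟩
    | algebraMap r => rw [AlgHom.commutes, AlgHom.commutes, sub_self]; exact I₀.zero_mem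
    | add x y _ _ hx hy =>
      have : φ (x + y) - ψ (x + y) = (φ x - ψ x) + (φ y - ψ y) := by
        rw [map_add, map_add]; ring
      rw [this]; exact I₀.add_mem hx hy
    | mul x y _ _ hx hy =>
      have : φ (x * y) - ψ (x * y) = φ x * (φ y - ψ y) + (φ x - ψ x) * ψ y := by
        rw [map_mul, map_mul]; ring
      rw [this]; exact I₀.add_mem (I₀.mul_mem_left _ hy) (I₀.mul_mem_right _ hx)
  have hII₀ : I = I₀ :=
    le_antisymm (Ideal.span_le.mpr (by rintro _ ⟨x, rfl⟩; exact hI₀ x))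
      (Ideal.span_mono (by rintro _ ⟨x, _, rfl⟩; exact ⟨x, rfl⟩))
  have hfg : I.FG := by
    rw [hII₀]
    exact ⟨t.image fun x => φ x - ψ x, by simp [I₀]⟩
  -- `I` is idempotent since `S₁` is unramified over `R`
  have hsq : I ≤ I ^ 2 := by
    let N : Ideal (S₂ ⧸ I ^ 2) := I.map (Ideal.Quotient.mk (I ^ 2))
    have hN : IsNilpotent N :=
      ⟨2, by rw [← Ideal.map_pow, Ideal.zero_eq_bot, Ideal.map_eq_bot_iff_le_ker, Ideal.mk_ker]⟩
    have key : (Ideal.Quotient.mkₐ R (I ^ 2)).comp φ = (Ideal.Quotient.mkₐ R (I ^ 2)).comp ψ := by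
      refine Algebra.FormallyUnramified.ext N hN fun x => ?_
      rw [← sub_eq_zero, ← map_sub, Ideal.Quotient.eq_zero_iff_mem]
      have : ((Ideal.Quotient.mkₐ R (I ^ 2)).comp φ) x - ((Ideal.Quotient.mkₐ R (I ^ 2)).comp ψ) x
          = Ideal.Quotient.mk (I ^ 2) (φ x - ψ x) := by rw [map_sub]; rfl
      rw [this]
      exact Ideal.mem_map_of_mem _ (hmemI x)
    refine Ideal.span_le.mpr ?_
    rintro _ ⟨x, rfl⟩
    have h := AlgHom.congr_fun key x
    change φ x - ψ x ∈ I ^ 2
    rw [← Ideal.Quotient.eq_zero_iff_mem, map_sub, sub_eq_zero]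
    exact h
  have hidem : IsIdempotentElem I := by
    change I * I = I
    rw [← pow_two]
    exact le_antisymm (Ideal.pow_le_self two_ne_zero) hsq
  obtain ⟨e, he, hIe⟩ := (Ideal.isIdempotentElem_iff_of_fg I hfg).mp hidem
  have hIe' : I = Ideal.span {e} := hIe
  -- `I ≤ q₂` by triviality of the residue field extension
  have hIq₂ : I ≤ q₂ := by
    refine Ideal.span_le.mpr ?_
    rintro _ ⟨x, rfl⟩
    change φ x - ψ x ∈ q₂
    rw [← Ideal.algebraMap_residueField_eq_zero, map_sub, sub_eq_zero]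
    have h1 : (Ideal.ResidueField.map q₁ q₂ φ.toRingHom hφ.symm).comp
        (Ideal.ResidueField.map p q₁ (algebraMap R S₁) hq₁) =
        (Ideal.ResidueField.map q₁ q₂ ψ.toRingHom hψ.symm).comp
        (Ideal.ResidueField.map p q₁ (algebraMap R S₁) hq₁) := by
      refine Ideal.ResidueField.ringHom_ext (RingHom.ext fun r => ?_)
      simp only [RingHom.comp_apply]
      rw [Ideal.ResidueField.map_algebraMap, Ideal.ResidueField.map_algebraMap,
        Ideal.ResidueField.map_algebraMap]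
      change algebraMap S₂ _ (φ (algebraMap R S₁ r)) = algebraMap S₂ _ (ψ (algebraMap R S₁ r))
      rw [AlgHom.commutes, AlgHom.commutes]
    obtain ⟨z, hz⟩ := hq₁κ.2 (algebraMap S₁ q₁.ResidueField x)
    have h2 : Ideal.ResidueField.map q₁ q₂ φ.toRingHom hφ.symm (algebraMap S₁ _ x) =
        Ideal.ResidueField.map q₁ q₂ ψ.toRingHom hψ.symm (algebraMap S₁ _ x) := by
      rw [← hz]
      exact RingHom.congr_fun h1 z
    rw [Ideal.ResidueField.map_algebraMap, Ideal.ResidueField.map_algebraMap] at h2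
    exact h2
  have he_mem : e ∈ q₂ := hIq₂ (by rw [hIe']; exact Ideal.mem_span_singleton_self e)
  have he_q₂ : (1 - e) ∉ q₂ := by
    intro h
    exact (Ideal.IsPrime.ne_top ‹q₂.IsPrime›)
      ((Ideal.eq_top_iff_one _).mpr (by simpa using q₂.add_mem h he_mem))
  obtain ⟨ι₂, hι₂⟩ := exists_toResidue p q₂ hq₂ hq₂κ
  have hu : IsUnit (ι₂ (1 - e)) := by
    rw [isUnit_iff_ne_zero]
    intro h
    apply he_q₂
    rw [← hι₂]
    exact RingHom.mem_ker.mpr h
  let χ' : Localization.Away (1 - e) →ₐ[R] p.ResidueField :=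
    IsLocalization.Away.liftAlgHom (1 - e) hu
  obtain ⟨h₁, hq₃, hbij⟩ := ker_residue_bijective p χ'
  refine ⟨Localization.Away (1 - e), inferInstance, inferInstance, inferInstance,
    RingHom.ker χ', h₁, hq₃, hbij, IsScalarTower.toAlgHom R S₂ _, ?_, ?_⟩
  · ext x
    rw [Ideal.mem_comap, RingHom.mem_ker, ← hι₂, RingHom.mem_ker]
    change χ' (algebraMap S₂ _ x) = 0 ↔ ι₂ x = 0
    simp [χ']
  · ext x
    change algebraMap S₂ (Localization.Away (1 - e)) (φ x) =
      algebraMap S₂ (Localization.Away (1 - e)) (ψ x)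
    rw [← sub_eq_zero, ← map_sub]
    have hxe : φ x - ψ x ∈ Ideal.span {e} := by rw [← hIe']; exact hmemI x
    obtain ⟨b, hb⟩ := Ideal.mem_span_singleton'.mp hxe
    have hzero : (1 - e) * (φ x - ψ x) = 0 := by
      rw [← hb]
      have hee : e * e = e := he
      linear_combination (-b) * hee
    have hunit : IsUnit (algebraMap S₂ (Localization.Away (1 - e)) (1 - e)) :=
      IsLocalization.Away.algebraMap_isUnit _
    have h3 := congrArg (algebraMap S₂ (Localization.Away (1 - e))) hzero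
    rw [map_mul, map_zero] at h3
    exact (hunit.mul_right_eq_zero).mp h3

end Groth.Agent.S9469
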