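import Groth.Statements.S9474
import Mathlib

set_option linter.style.haveILetI false

set_option autoImplicit false
universe u
open CAlg

namespace Groth.Agent.S9474

section Aux

open TensorProduct MvPolynomial

/-- For a surjection `π : R[X₁..Xₙ] → S` onto a formally unramified algebra there are polynomials
`uᵢ ≡ Xᵢ` modulo `ker π` all of whose partial derivatives lie in `ker π`. -/
theorem exists_rel {R S : Type u} [CommRing R] [CommRing S] [Algebra R S]
    [Algebra.FormallyUnramified R S] (n : ℕ)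
    (π : MvPolynomial (Fin n) R →ₐ[R] S) (hπ : Function.Surjective π) :
    ∃ u : Fin n → MvPolynomial (Fin n) R, (∀ i, π (u i) = π (X i)) ∧
      ∀ i k, π (pderiv k (u i)) = 0 := by
  classical
  letI : Algebra (MvPolynomial (Fin n) R) S := π.toRingHom.toAlgebra
  haveI : IsScalarTower R (MvPolynomial (Fin n) R) S :=
    IsScalarTower.of_algebraMap_eq' π.comp_algebraMap.symm
  have hsurj : Function.Surjective (algebraMap (MvPolynomial (Fin n) R) S) := hπ
  have hex := KaehlerDifferential.exact_kerCotangentToTensor_mapBaseChange R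
    (MvPolynomial (Fin n) R) S hsurj
  have key : ∀ i : Fin n, ∃ f : MvPolynomial (Fin n) R, π f = 0 ∧
      ∀ k, π (pderiv k f) = π (pderiv k (X i)) := by
    intro i
    have h0 : KaehlerDifferential.mapBaseChange R (MvPolynomial (Fin n) R) S
        ((1 : S) ⊗ₜ KaehlerDifferential.D R (MvPolynomial (Fin n) R) (X i)) = 0 :=
      Subsingleton.elim _ _
    obtain ⟨c, hc⟩ := (hex _).mp h0
    obtain ⟨⟨f, hf⟩, rfl⟩ := Ideal.toCotangent_surjective _ c
    rw [KaehlerDifferential.kerCotangentToTensor_toCotangent] at hc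
    refine ⟨f, RingHom.mem_ker.mp hf, fun k => ?_⟩
    have := congrArg (fun z => ((KaehlerDifferential.mvPolynomialBasis R (Fin n)).baseChange S).repr
      z k) hc
    simp only [Module.Basis.baseChange_repr_tmul,
      KaehlerDifferential.mvPolynomialBasis_repr_apply] at this
    have h3 : algebraMap (MvPolynomial (Fin n) R) S (pderiv k f) =
        algebraMap (MvPolynomial (Fin n) R) S (pderiv k (X i)) := by
      simpa [Algebra.smul_def] using this
    exact h3
  choose f hf0 hfk using key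
  exact ⟨fun i => X i - f i, fun i => by rw [map_sub, hf0, sub_zero],
    fun i k => by rw [map_sub, map_sub, hfk, sub_self]⟩

/-- A quotient of a polynomial ring by an ideal containing `Xᵢ - vᵢ` and all partial derivatives
of the `vᵢ` is formally unramified. -/
theorem unram_quot {R₀ : Type u} [CommRing R₀] (n : ℕ) (v : Fin n → MvPolynomial (Fin n) R₀)
    (J₀ : Ideal (MvPolynomial (Fin n) R₀)) (h1 : ∀ i, X i - v i ∈ J₀)
    (h2 : ∀ i k, pderiv k (v i) ∈ J₀) :
    Algebra.FormallyUnramified R₀ (MvPolynomial (Fin n) R₀ ⧸ J₀) := by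
  classical
  have chain : ∀ p : MvPolynomial (Fin n) R₀,
      KaehlerDifferential.D R₀ (MvPolynomial (Fin n) R₀ ⧸ J₀) (Ideal.Quotient.mk J₀ p) =
        ∑ k, pderiv k p • KaehlerDifferential.D R₀ (MvPolynomial (Fin n) R₀ ⧸ J₀)
          (Ideal.Quotient.mk J₀ (X k)) := by
    intro p
    have e1 := (KaehlerDifferential.mvPolynomialBasis R₀ (Fin n)).sum_repr
      (KaehlerDifferential.D R₀ _ p)
    simp only [KaehlerDifferential.mvPolynomialBasis_repr_apply,
      KaehlerDifferential.mvPolynomialBasis_apply] at e1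
    have e2 := congrArg (KaehlerDifferential.map R₀ R₀ (MvPolynomial (Fin n) R₀)
      (MvPolynomial (Fin n) R₀ ⧸ J₀)) e1
    rw [map_sum] at e2
    simp only [map_smul, KaehlerDifferential.map_D, Ideal.Quotient.algebraMap_eq] at e2
    exact e2.symm
  have hkill : ∀ (x : MvPolynomial (Fin n) R₀) (ω : Ω[(MvPolynomial (Fin n) R₀ ⧸ J₀)⁄R₀]),
      x ∈ J₀ → x • ω = 0 := by
    intro x ω hx
    have h : x • ω = (Ideal.Quotient.mk J₀ x) • ω :=
      (algebraMap_smul (MvPolynomial (Fin n) R₀ ⧸ J₀) x ω).symm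
    rw [h, Ideal.Quotient.eq_zero_iff_mem.mpr hx]
    exact zero_smul (MvPolynomial (Fin n) R₀ ⧸ J₀) ω
  have hX : ∀ i, KaehlerDifferential.D R₀ (MvPolynomial (Fin n) R₀ ⧸ J₀)
      (Ideal.Quotient.mk J₀ (X i)) = 0 := by
    intro i
    have : Ideal.Quotient.mk J₀ (X i) = Ideal.Quotient.mk J₀ (v i) :=
      Ideal.Quotient.eq.mpr (h1 i)
    rw [this, chain]
    apply Finset.sum_eq_zero
    intro k _
    exact hkill _ _ (h2 i k)
  have hD : ∀ s, KaehlerDifferential.D R₀ (MvPolynomial (Fin n) R₀ ⧸ J₀) s = 0 := by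
    intro s
    obtain ⟨p, rfl⟩ := Ideal.Quotient.mk_surjective s
    rw [chain]
    apply Finset.sum_eq_zero
    intro k _
    rw [hX, smul_zero]
  have htop : (⊤ : Submodule (MvPolynomial (Fin n) R₀ ⧸ J₀)
      (Ω[(MvPolynomial (Fin n) R₀ ⧸ J₀)⁄R₀])) = ⊥ := by
    rw [← KaehlerDifferential.span_range_derivation, Submodule.span_eq_bot]
    rintro _ ⟨s, rfl⟩
    exact hD s
  refine ⟨⟨fun a b => ?_⟩⟩
  have ha : a ∈ (⊤ : Submodule (MvPolynomial (Fin n) R₀ ⧸ J₀)
      (Ω[(MvPolynomial (Fin n) R₀ ⧸ J₀)⁄R₀])) := trivial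
  have hb : b ∈ (⊤ : Submodule (MvPolynomial (Fin n) R₀ ⧸ J₀)
      (Ω[(MvPolynomial (Fin n) R₀ ⧸ J₀)⁄R₀])) := trivial
  rw [htop, Submodule.mem_bot] at ha hb
  rw [ha, hb]

end Aux

open TensorProduct in
/-- If R → S is unramified (of finite type with vanishing module of differentials), then there are a
finite type ℤ-algebra R₀, an unramified R₀-algebra S₀, a ring map R₀ → R, and a surjective R-algebra
map from R ⊗_{R₀} S₀ onto S. -/
theorem result (R : Type u) [CommRing R] (S : Type u)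
    [CommRing S] [Algebra R S] [Algebra.Unramified R S] :
    ∃ (R₀ : Type u) (_ : CommRing R₀) (_ : Algebra.FiniteType ℤ R₀) (S₀ : Type u) (_ : CommRing S₀)
      (_ : Algebra R₀ S₀) (_ : Algebra.Unramified R₀ S₀) (_ : Algebra R₀ R)
      (ψ : R ⊗[R₀] S₀ →ₐ[R] S), Function.Surjective ψ := by
  classical
  obtain ⟨n, π, hπ⟩ := Algebra.FiniteType.iff_quotient_mvPolynomial''.mp
    (inferInstance : Algebra.FiniteType R S)
  obtain ⟨u, hu1, hu2⟩ := exists_rel n π hπ
  obtain ⟨s, hsdef⟩ : ∃ s : Set R, s = ⋃ i, ((u i).coeffs : Set R) := ⟨_, rfl⟩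
  have hsfin : s.Finite := by
    rw [hsdef]; exact Set.finite_iUnion fun _ => Finset.finite_toSet _
  obtain ⟨R₀, hR₀⟩ : ∃ R₀ : Subalgebra ℤ R, R₀ = Algebra.adjoin ℤ s := ⟨_, rfl⟩
  haveI : Algebra.FiniteType ℤ R₀ := by
    rw [hR₀]; exact Algebra.FiniteType.adjoin_of_finite hsfin
  have hu0 : ∀ i, ∃ v : MvPolynomial (Fin n) R₀, MvPolynomial.map (algebraMap R₀ R) v = u i := by
    intro i
    have : u i ∈ Set.range (MvPolynomial.map (algebraMap R₀ R)) := by
      rw [MvPolynomial.mem_range_map_iff_coeffs_subset]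
      intro c hc
      have hcs : c ∈ s := by rw [hsdef]; exact Set.mem_iUnion.mpr ⟨i, hc⟩
      have hcR : c ∈ R₀ := by rw [hR₀]; exact Algebra.subset_adjoin hcs
      exact ⟨⟨c, hcR⟩, rfl⟩
    exact this
  choose v hv using hu0
  obtain ⟨J₀, hJ₀def⟩ : ∃ J₀ : Ideal (MvPolynomial (Fin n) R₀), J₀ =
      Ideal.span (Set.range (fun i => MvPolynomial.X i - v i) ∪
        Set.range (fun ik : Fin n × Fin n => MvPolynomial.pderiv ik.2 (v ik.1))) := ⟨_, rfl⟩
  have hJ1 : ∀ i, MvPolynomial.X i - v i ∈ J₀ := fun i => by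
    rw [hJ₀def]; exact Ideal.subset_span (Or.inl ⟨i, rfl⟩)
  have hJ2 : ∀ i k, MvPolynomial.pderiv k (v i) ∈ J₀ := fun i k => by
    rw [hJ₀def]; exact Ideal.subset_span (Or.inr ⟨(i, k), rfl⟩)
  haveI hunr : Algebra.FormallyUnramified R₀ (MvPolynomial (Fin n) R₀ ⧸ J₀) :=
    unram_quot n v J₀ hJ1 hJ2
  haveI hft : Algebra.FiniteType R₀ (MvPolynomial (Fin n) R₀ ⧸ J₀) :=
    Algebra.FiniteType.of_surjective (Ideal.Quotient.mkₐ R₀ J₀)
      (Ideal.Quotient.mkₐ_surjective R₀ J₀)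
  let π₀ : MvPolynomial (Fin n) R₀ →ₐ[R₀] S := MvPolynomial.aeval (fun i => π (MvPolynomial.X i))
  have hπ₀ : ∀ p, π₀ p = π (MvPolynomial.map (algebraMap R₀ R) p) := by
    intro p
    have h1 : ∀ q, π q = MvPolynomial.aeval (fun i => π (MvPolynomial.X i)) q :=
      fun q => AlgHom.congr_fun (MvPolynomial.aeval_unique π) q
    rw [h1, MvPolynomial.aeval_map_algebraMap]
  have hJ₀ : ∀ a ∈ J₀, π₀ a = 0 := by
    intro a ha
    have hle : J₀ ≤ RingHom.ker (π₀ : MvPolynomial (Fin n) R₀ →+* S) := by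
      rw [hJ₀def, Ideal.span_le]
      rintro _ (⟨i, rfl⟩ | ⟨⟨i, k⟩, rfl⟩)
      · rw [SetLike.mem_coe, RingHom.mem_ker]
        show π₀ (MvPolynomial.X i - v i) = 0
        rw [hπ₀, map_sub, MvPolynomial.map_X, hv, map_sub, hu1, sub_self]
      · rw [SetLike.mem_coe, RingHom.mem_ker]
        show π₀ (MvPolynomial.pderiv k (v i)) = 0
        rw [hπ₀, ← MvPolynomial.pderiv_map, hv, hu2]
    exact hle ha
  let ψ₀ : (MvPolynomial (Fin n) R₀ ⧸ J₀) →ₐ[R₀] S := Ideal.Quotient.liftₐ J₀ π₀ hJ₀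
  let ψ : R ⊗[R₀] (MvPolynomial (Fin n) R₀ ⧸ J₀) →ₐ[R] S :=
    Algebra.TensorProduct.lift (Algebra.ofId R S) ψ₀ (fun _ _ => Commute.all _ _)
  have hX : ∀ i, ψ ((1 : R) ⊗ₜ[R₀] (Ideal.Quotient.mk J₀ (MvPolynomial.X i))) =
      π (MvPolynomial.X i) := by
    intro i
    simp [ψ, ψ₀, π₀, Algebra.TensorProduct.lift_tmul]
  refine ⟨R₀, inferInstance, inferInstance, MvPolynomial (Fin n) R₀ ⧸ J₀, inferInstance,
    inferInstance, { formallyUnramified := hunr, finiteType := hft }, inferInstance, ψ, ?_⟩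
  intro y
  obtain ⟨p, rfl⟩ := hπ y
  have hmem : π p ∈ ψ.range := by
    induction p using MvPolynomial.induction_on with
    | C a =>
      rw [← MvPolynomial.algebraMap_eq, π.commutes]
      exact Subalgebra.algebraMap_mem _ a
    | add p q hp hq => rw [map_add]; exact add_mem hp hq
    | mul_X p i hp => rw [map_mul]; exact mul_mem hp ⟨_, hX i⟩
  exact hmem

end Groth.Agent.S9474
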