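import Groth.Statements.S9495

set_option autoImplicit false
universe u
open SchMor

namespace Groth.Agent.S9495

open AlgebraicGeometry CategoryTheory

theorem result
    {X S : Scheme.{u}} (f : X ⟶ S) [QuasiCompact f] :
    IsClosed (Set.range f) ↔ StableUnderSpecialization (Set.range f) := by
  refine ⟨fun h => h.stableUnderSpecialization, fun H => ?_⟩
  rw [← closure_subset_iff_isClosed]
  intro s hs
  -- affine open neighbourhood of s
  obtain ⟨_, ⟨U, hU : IsAffineOpen U, rfl⟩, hsU, -⟩ :=
    S.isBasis_affineOpens.exists_subset_of_mem_open (Set.mem_univ s) isOpen_univ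
  have hc : IsCompact ((f ⁻¹ᵁ U : X.Opens) : Set X) :=
    QuasiCompact.isCompact_preimage (f := f) _ U.isOpen hU.isCompact
  obtain ⟨A, g, hg⟩ := isCompact_iff_exists.mp hc
  have hrange : Set.range (g ≫ f) ⊆ Set.range hU.fromSpec := by
    rw [hU.range_fromSpec]
    rintro _ ⟨a, rfl⟩
    have : g a ∈ ((f ⁻¹ᵁ U : X.Opens) : Set X) := hg ▸ Set.mem_range_self a
    simpa using this
  let h : Spec A ⟶ Spec Γ(S, U) := IsOpenImmersion.lift hU.fromSpec (g ≫ f) hrange
  have hfac : h ≫ hU.fromSpec = g ≫ f := IsOpenImmersion.lift_fac _ _ _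
  have hinj : Function.Injective hU.fromSpec := hU.fromSpec.isOpenEmbedding.injective
  -- range of h is the preimage of range f
  have hrh : Set.range h = hU.fromSpec ⁻¹' (Set.range f) := by
    ext y
    constructor
    · rintro ⟨a, rfl⟩
      refine ⟨g a, ?_⟩
      rw [← Scheme.Hom.comp_apply, ← hfac, Scheme.Hom.comp_apply]
    · rintro ⟨x, hx⟩
      have hxU : x ∈ ((f ⁻¹ᵁ U : X.Opens) : Set X) := by
        have : hU.fromSpec y ∈ (U : Set S) := hU.range_fromSpec ▸ Set.mem_range_self y
        simpa [hx] using this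
      rw [← hg] at hxU
      obtain ⟨a, rfl⟩ := hxU
      refine ⟨a, hinj ?_⟩
      rw [← Scheme.Hom.comp_apply, hfac, Scheme.Hom.comp_apply, hx]
  have hstab : StableUnderSpecialization (Set.range h) := by
    rw [hrh]
    intro y y' hyy' hy
    exact H (hyy'.map hU.fromSpec.continuous) hy
  obtain ⟨φ, hφ⟩ := Spec.map_surjective h
  have hcl : IsClosed (Set.range h) := by
    rw [← hφ] at hstab ⊢
    exact PrimeSpectrum.isClosed_range_of_stableUnderSpecialization φ.hom hstab
  -- conclude
  have hsU' : s ∈ Set.range hU.fromSpec := by rw [hU.range_fromSpec]; exact hsU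
  obtain ⟨s', rfl⟩ := hsU'
  have h1 : s' ∈ closure (hU.fromSpec ⁻¹' (Set.range f)) := by
    rw [← hU.fromSpec.isOpenEmbedding.isOpenMap.preimage_closure_eq_closure_preimage
      hU.fromSpec.continuous]
    exact hs
  rw [← hrh, hcl.closure_eq, hrh] at h1
  exact h1
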