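import Groth.Statements.S9497
import Mathlib
-- import your own Groth.Agent.* helpers here

set_option autoImplicit false
universe u
open AffSch

namespace Groth.Agent.S9497


section
open CategoryTheory CategoryTheory.Limits AlgebraicGeometry Opposite TopologicalSpace
theorem aux (R : CommRingCat.{u}) {J : Type u} [SmallCategory J]
    (F : J ⥤ (Spec R).Modules) (hF : ∀ j, (F.obj j).IsQuasicoherent) :
    (colimit F).IsQuasicoherent := by
  let T := tilde.functor R
  let Γ := moduleSpecΓFunctor (R := R)
  let α : (F ⋙ Γ) ⋙ T ⟶ F := Functor.whiskerLeft F (Scheme.Modules.fromTildeΓNatTrans (R := R))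
  haveI : ∀ j, IsIso (α.app j) := fun j => by
    haveI := hF j
    change IsIso (Scheme.Modules.fromTildeΓ (F.obj j))
    exact Scheme.Modules.isIso_fromTildeΓ_of_isQuasicoherent (F.obj j)
  haveI : IsIso α := NatIso.isIso_of_isIso_app α
  let e : (F ⋙ Γ) ⋙ T ≅ F := asIso α
  let i1 : colimit ((F ⋙ Γ) ⋙ T) ≅ colimit F := HasColimit.isoOfNatIso e
  let i2 : T.obj (colimit (F ⋙ Γ)) ≅ colimit ((F ⋙ Γ) ⋙ T) := preservesColimitIso T (F ⋙ Γ)
  exact (SheafOfModules.isQuasicoherent (Spec R).ringCatSheaf).prop_of_iso (i2 ≪≫ i1) (by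
    change ((tilde.functor R).obj _).IsQuasicoherent
    infer_instance)
end

open AlgebraicGeometry in
open CategoryTheory Limits in
/-- Let X = Spec A be an affine scheme and F : J → Mod(O_X) a small diagram of quasi-coherent
O_X-modules. Then the colimit of F, computed in the category of all O_X-modules, is quasi-coherent
(this contains the case of arbitrary direct sums). -/
theorem result
    (A : Type u) [CommRing A] {J : Type u} [SmallCategory J]
    (F : J ⥤ (Spec (CommRingCat.of A)).Modules) (hF : ∀ j, Coh.IsQCoh (F.obj j)) :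
    Coh.IsQCoh (colimit F) := by
  exact aux (CommRingCat.of A) F hF

end Groth.Agent.S9497
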