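import Groth.Statements.S9500
import Mathlib
import Groth.Agent.Lib.Helper9.MonoRes

set_option autoImplicit false
universe u
open SchMor

namespace Groth.Agent.S9500

section Helpers
open CategoryTheory CategoryTheory.Limits AlgebraicGeometry Opposite TopologicalSpace

/-- A monomorphism with nonempty source into the spectrum of a field is an isomorphism. -/
theorem isIso_of_mono_field9500 {K : Type u} [Field K] {Z : Scheme.{u}}
    (p : Z ⟶ Spec (CommRingCat.of K)) [Mono p] [hZ : Nonempty Z] : IsIso p := by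
  obtain ⟨z⟩ := hZ
  obtain ⟨t', ht'⟩ := Groth.Agent.Helper9.MonoRes.exists_lift_of_bijective p z
    (Groth.Agent.Helper9.MonoRes.residueFieldMap_bijective p z) K (𝟙 _)
    (@Subsingleton.elim (PrimeSpectrum K) _ _ _)
  have h2 : p ≫ t' = 𝟙 Z := by
    rw [← cancel_mono p, Category.assoc, ht', Category.comp_id, Category.id_comp]
  exact ⟨⟨t', h2, ht'⟩⟩

set_option backward.isDefEq.respectTransparency false in
theorem main9500 {ι : Type u} (g : ι → Scheme.{u})
    (hmono : ∀ (i : ι) (Z : Scheme.{u}) (p : Z ⟶ g i), Mono p → Nonempty Z → IsIso p)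
    {Y : Scheme.{u}} (f : Y ⟶ ∐ g) [Mono f] :
    ∃ (J : Set ι) (e : Y ≅ ∐ fun j : J => g j.1),
      e.hom ≫ Sigma.desc (fun j : J => Sigma.ι g j.1) = f := by
  let J : Set ι := {i | Nonempty ↥(pullback f (Sigma.ι g i))}
  have hiso : ∀ j : J, IsIso (pullback.snd f (Sigma.ι g j.1)) := fun j =>
    hmono j.1 _ (pullback.snd f (Sigma.ι g j.1)) inferInstance j.2
  let φ : ∀ j : J, g j.1 ⟶ Y := fun j =>
    (haveI := hiso j; inv (pullback.snd f (Sigma.ι g j.1))) ≫ pullback.fst f (Sigma.ι g j.1)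
  have hφo : ∀ j, IsOpenImmersion (φ j) := fun j => by
    haveI := hiso j
    dsimp only [φ]; infer_instance
  have hφf : ∀ j : J, φ j ≫ f = Sigma.ι g j.1 := fun j => by
    haveI := hiso j
    dsimp only [φ]
    rw [Category.assoc, pullback.condition, IsIso.inv_hom_id_assoc]
  have hrange : ∀ j : J, Set.range (φ j) = f ⁻¹' Set.range (Sigma.ι g j.1) := fun j => by
    haveI := hiso j
    ext y
    constructor
    · rintro ⟨s, rfl⟩
      refine ⟨s, ?_⟩
      rw [← hφf j]; rfl
    · intro hy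
      rw [← Scheme.Pullback.range_fst] at hy
      obtain ⟨w, rfl⟩ := hy
      refine ⟨pullback.snd f (Sigma.ι g j.1) w, ?_⟩
      rw [← Scheme.Hom.comp_apply]
      dsimp only [φ]
      rw [IsIso.hom_inv_id_assoc]
  have hcov : ⨆ j, (φ j).opensRange = ⊤ := by
    rw [eq_top_iff]
    intro y _
    obtain ⟨⟨i, s⟩, hs⟩ := (sigmaMk g).surjective (f y)
    rw [sigmaMk_mk] at hs
    have hy : y ∈ f ⁻¹' Set.range (Sigma.ι g i) := ⟨s, hs⟩
    have hy' := hy
    rw [← Scheme.Pullback.range_fst] at hy'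
    obtain ⟨w, hw⟩ := hy'
    have hi : i ∈ J := ⟨w⟩
    refine Opens.mem_iSup.mpr ⟨⟨i, hi⟩, ?_⟩
    show y ∈ Set.range (φ ⟨i, hi⟩)
    rw [hrange]; exact hy
  have hdisj : Pairwise (Function.onFun Disjoint (fun j => (φ j).opensRange)) := by
    intro j j' hne
    show Disjoint (φ j).opensRange (φ j').opensRange
    rw [disjoint_iff_inf_le]
    rintro y ⟨h1, h2⟩
    have h1' : y ∈ Set.range (φ j) := h1
    have h2' : y ∈ Set.range (φ j') := h2
    rw [hrange] at h1' h2'
    have hd := disjoint_opensRange_sigmaι g j.1 j'.1 (fun e => hne (Subtype.ext e))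
    exact False.elim (Set.notMem_empty _ (hd.le_bot ⟨h1', h2'⟩))
  obtain ⟨hc⟩ := nonempty_isColimit_cofanMk_of φ hcov hdisj
  let e : Y ≅ ∐ fun j : J => g j.1 := hc.coconePointUniqueUpToIso (colimit.isColimit _)
  refine ⟨J, e, ?_⟩
  refine Cofan.IsColimit.hom_ext hc _ _ fun j => ?_
  have h1 : φ j ≫ e.hom = Sigma.ι (fun j : J => g j.1) j :=
    hc.comp_coconePointUniqueUpToIso_hom (colimit.isColimit _) ⟨j⟩
  show φ j ≫ e.hom ≫ _ = φ j ≫ f
  rw [← Category.assoc, h1, hφf]
  exact Sigma.ι_desc _ _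

end Helpers

open AlgebraicGeometry in
open CategoryTheory Limits in
/-- Let (k_i)_{i ∈ ι} be a family of fields, X = ∐_i Spec(k_i) the disjoint union, and f : Y → X a
monomorphism of schemes. Then there are a subset J of ι and an isomorphism Y ≅ ∐_{j ∈ J} Spec(k_j)
over X, where ∐_{j ∈ J} Spec(k_j) maps to X by the coproduct inclusions. -/
theorem result
    {ι : Type u} (k : ι → Type u) [∀ i, Field (k i)]
    {Y : Scheme.{u}} (f : Y ⟶ ∐ fun i => Spec (CommRingCat.of (k i))) [Mono f] :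
    ∃ (J : Set ι) (e : Y ≅ ∐ fun j : J => Spec (CommRingCat.of (k j.1))),
      e.hom ≫ Sigma.desc (fun j : J => Sigma.ι (fun i => Spec (CommRingCat.of (k i))) j.1) = f := by
  exact main9500 (fun i => Spec (CommRingCat.of (k i)))
    (fun i Z p hp hZ => isIso_of_mono_field9500 (K := k i) p) f

end Groth.Agent.S9500
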