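import Groth.Statements.S9501
import Mathlib

set_option autoImplicit false
universe u
open SchMor

namespace Groth.Agent.S9501

section Helpers
open CategoryTheory CategoryTheory.Limits AlgebraicGeometry TopologicalSpace IsLocalRing

set_option backward.isDefEq.respectTransparency false in
lemma isField_stalk9501 {S : Scheme.{u}} (s : S) (q : Spec (S.residueField s)) :
    IsField ((Spec (S.residueField s)).presheaf.stalk q) := by
  obtain rfl : q = closedPoint (S.residueField s) :=
    Subsingleton.elim (α := PrimeSpectrum (S.residueField s)) _ _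
  exact MulEquiv.isField (Field.toIsField (S.residueField s))
    (stalkClosedPointIso (S.residueField s)).commRingCatIsoToRingEquiv.toMulEquiv

set_option backward.isDefEq.respectTransparency false in
lemma iso_unit9501 {A B : CommRingCat.{u}} (e : A ≅ B) (t : A) (h : IsUnit (e.hom.hom t)) :
    IsUnit t := by
  have h4 := h.map e.inv.hom
  have h5 : e.inv.hom (e.hom.hom t) = t := by
    have := congrArg (fun φ => φ.hom t) e.hom_inv_id
    simpa using this
  rwa [h5] at h4

set_option backward.isDefEq.respectTransparency false in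
lemma kills_max9501 {P X S Q : Scheme.{u}} (a : P ⟶ X) (b : X ⟶ S) (c : P ⟶ Q) (d : Q ⟶ S)
    (w : a ≫ b = c ≫ d) (p : P) (hQ : IsField (Q.presheaf.stalk (c p)))
    (t : S.presheaf.stalk (b (a p))) (ht : t ∈ maximalIdeal (S.presheaf.stalk (b (a p)))) :
    (a.stalkMap p).hom ((b.stalkMap (a p)).hom t) = 0 := by
  have h1 : (a ≫ b).stalkMap p = b.stalkMap (a p) ≫ a.stalkMap p :=
    Scheme.Hom.stalkMap_comp a b p
  have h2 := Scheme.Hom.stalkMap_congr_hom _ _ w p
  have h3 : (c ≫ d).stalkMap p = d.stalkMap (c p) ≫ c.stalkMap p :=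
    Scheme.Hom.stalkMap_comp c d p
  rw [h1, h3] at h2
  generalize_proofs pf at h2
  set e := S.presheaf.stalkCongr pf with he
  have e1 := congrArg (fun φ => φ.hom t) h2
  simp only [CommRingCat.hom_comp, RingHom.comp_apply] at e1
  have key : (d.stalkMap (c p)).hom (e.hom.hom t) = 0 := by
    by_contra hne
    have hu : IsUnit ((d.stalkMap (c p)).hom (e.hom.hom t)) := by
      obtain ⟨v, hv⟩ := hQ.mul_inv_cancel hne
      exact IsUnit.of_mul_eq_one v hv
    have hu2 : IsUnit (e.hom.hom t) := (isUnit_map_iff (d.stalkMap (c p)).hom _).mp hu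
    exact (IsLocalRing.mem_maximalIdeal _).mp ht (iso_unit9501 e t hu2)
  exact e1.trans ((congrArg (c.stalkMap p).hom key).trans (map_zero _))

set_option backward.isDefEq.respectTransparency false in
lemma main9501 {X S : Scheme.{u}} (f : X ⟶ S) (s : S) (y : ↥(f.fiber s)) :
    Function.Surjective ((f.fiberι s).stalkMap y).hom ∧
      RingHom.ker ((f.fiberι s).stalkMap y).hom =
        Ideal.map (f.stalkMap ((f.fiberι s) y)).hom
          (maximalIdeal (S.presheaf.stalk (f ((f.fiberι s) y)))) := by
  refine ⟨(f.fiberι s).stalkMap_surjective y, le_antisymm ?_ ?_⟩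
  · -- ker ≤ J
    set x : X := (f.fiberι s) y with hx
    set J : Ideal (X.presheaf.stalk x) :=
      Ideal.map (f.stalkMap x).hom (maximalIdeal (S.presheaf.stalk (f x))) with hJ
    have hJle : J ≤ maximalIdeal (X.presheaf.stalk x) := by
      rw [hJ]
      have hl : IsLocalHom (f.stalkMap x).hom := inferInstance
      exact ((IsLocalRing.local_hom_TFAE (f.stalkMap x).hom).out 0 2).mp hl
    have hJne : J ≠ ⊤ := fun h =>
      (IsLocalRing.maximalIdeal.isMaximal (X.presheaf.stalk x)).ne_top (top_le_iff.mp (h ▸ hJle))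
    haveI : Nontrivial (X.presheaf.stalk x ⧸ J) := Ideal.Quotient.nontrivial_iff.mpr hJne
    haveI : IsLocalRing (X.presheaf.stalk x ⧸ J) :=
      IsLocalRing.of_surjective' (Ideal.Quotient.mk J) Ideal.Quotient.mk_surjective
    haveI hloc : IsLocalHom (Ideal.Quotient.mk J) :=
      IsLocalHom.of_surjective _ Ideal.Quotient.mk_surjective
    let Q : CommRingCat.{u} := CommRingCat.of (X.presheaf.stalk x ⧸ J)
    haveI : IsLocalRing Q := inferInstanceAs (IsLocalRing (X.presheaf.stalk x ⧸ J))
    let π : X.presheaf.stalk x ⟶ Q := CommRingCat.ofHom (Ideal.Quotient.mk J)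
    haveI : IsLocalHom π.hom := hloc
    have hs : f x = s := by
      have h0 : x ∈ Set.range (f.fiberι s) := ⟨y, hx.symm⟩
      rw [f.range_fiberι] at h0
      exact h0
    have hsp : f x ⤳ s := specializes_of_eq hs
    let E : S.presheaf.stalk s ≅ S.presheaf.stalk (f x) :=
      S.presheaf.stalkCongr (.of_eq hs.symm)
    have hE : E.hom = S.presheaf.stalkSpecializes hsp := rfl
    obtain ⟨ρ₀, hρ₀def⟩ : ∃ r : S.presheaf.stalk s ⟶ Q, r = E.hom ≫ f.stalkMap x ≫ π :=
      ⟨_, rfl⟩
    have hρ₀ : ∀ t ∈ maximalIdeal (S.presheaf.stalk s), ρ₀.hom t = 0 := by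
      intro t ht
      have h1 : E.hom.hom t ∈ maximalIdeal (S.presheaf.stalk (f x)) := by
        rw [IsLocalRing.mem_maximalIdeal]
        intro hu
        exact (IsLocalRing.mem_maximalIdeal _).mp ht (iso_unit9501 E t hu)
      have h2 : (f.stalkMap x).hom (E.hom.hom t) ∈ J := by
        rw [hJ]; exact Ideal.mem_map_of_mem _ h1
      rw [hρ₀def]
      show (Ideal.Quotient.mk J) ((f.stalkMap x).hom (E.hom.hom t)) = 0
      exact Ideal.Quotient.eq_zero_iff_mem.mpr h2
    let ρ : S.residueField s ⟶ Q :=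
      CommRingCat.ofHom (Ideal.Quotient.lift (maximalIdeal (S.presheaf.stalk s)) ρ₀.hom hρ₀)
    have hρ : S.residue s ≫ ρ = ρ₀ := by
      ext t
      exact Ideal.Quotient.lift_mk (maximalIdeal (S.presheaf.stalk s)) ρ₀.hom hρ₀
    obtain ⟨σ, hσ⟩ : ∃ σ : Spec Q ⟶ X, σ = Spec.map π ≫ X.fromSpecStalk x := ⟨_, rfl⟩
    have w : σ ≫ f = Spec.map ρ ≫ S.fromSpecResidueField s := by
      calc σ ≫ f = Spec.map π ≫ (X.fromSpecStalk x ≫ f) := by rw [hσ, Category.assoc]
        _ = Spec.map π ≫ (Spec.map (f.stalkMap x) ≫ S.fromSpecStalk (f x)) := by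
            rw [Scheme.SpecMap_stalkMap_fromSpecStalk]
        _ = Spec.map π ≫ (Spec.map (f.stalkMap x) ≫ (Spec.map E.hom ≫ S.fromSpecStalk s)) := by
            rw [hE, Scheme.SpecMap_stalkSpecializes_fromSpecStalk]
        _ = Spec.map ρ₀ ≫ S.fromSpecStalk s := by
            simp only [hρ₀def, Spec.map_comp, Category.assoc]
        _ = Spec.map (S.residue s ≫ ρ) ≫ S.fromSpecStalk s := by rw [hρ]
        _ = Spec.map ρ ≫ S.fromSpecResidueField s := by
            rw [Spec.map_comp, Category.assoc]; rfl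
    obtain ⟨τ, hτ⟩ : ∃ τ : Spec Q ⟶ f.fiber s, τ ≫ f.fiberι s = σ :=
      ⟨pullback.lift σ (Spec.map ρ) w, pullback.lift_fst _ _ _⟩
    have hσc : σ (closedPoint Q) = x := by
      rw [hσ, Scheme.Hom.comp_apply, Spec_closedPoint, Scheme.fromSpecStalk_closedPoint]
    have hτc : τ (closedPoint Q) = y := by
      apply (f.fiberι s).isEmbedding.injective
      rw [← Scheme.Hom.comp_apply, hτ, hσc, hx]
    intro z hz
    rw [RingHom.mem_ker] at hz
    obtain ⟨U, hxU, b, rfl⟩ := X.presheaf.exists_germ_eq z
    have transport : ∀ (p : f.fiber s) (hp : y = p) (hpU : (f.fiberι s) p ∈ U),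
        ((f.fiberι s).stalkMap p).hom (X.presheaf.germ U _ hpU b) = 0 := by
      rintro p rfl hpU
      exact hz
    have gen : ∀ (m : Spec Q ⟶ X) (hm : m = τ ≫ f.fiberι s) (hU : m (closedPoint Q) ∈ U),
        (Scheme.stalkClosedPointTo m).hom (X.presheaf.germ U _ hU b) = 0 := by
      rintro m rfl hU
      rw [Scheme.stalkClosedPointTo_comp]
      show (Scheme.stalkClosedPointTo τ).hom
        (((f.fiberι s).stalkMap (τ (closedPoint Q))).hom (X.presheaf.germ U _ hU b)) = 0
      exact (congrArg (Scheme.stalkClosedPointTo τ).hom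
        (transport (τ (closedPoint Q)) hτc.symm hU)).trans (map_zero _)
    have hU : (Spec.map π ≫ X.fromSpecStalk x) (closedPoint Q) ∈ U := by
      rw [← hσ, hσc]; exact hxU
    have h6 := congrArg (fun φ => φ.hom b)
      (Scheme.germ_stalkClosedPointTo_Spec_fromSpecStalk π U hU)
    simp only [CommRingCat.hom_comp, RingHom.comp_apply] at h6
    rw [gen (Spec.map π ≫ X.fromSpecStalk x) (hσ ▸ hτ.symm) hU] at h6
    exact Ideal.Quotient.eq_zero_iff_mem.mp h6.symm
  · -- J ≤ ker
    rw [Ideal.map_le_iff_le_comap]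
    intro t ht
    rw [Ideal.mem_comap, RingHom.mem_ker]
    exact kills_max9501 (f.fiberι s) f (f.fiberToSpecResidueField s) (S.fromSpecResidueField s)
      (f.fiber_fac s) y (isField_stalk9501 s _) t ht

end Helpers

open AlgebraicGeometry in
open CategoryTheory in
/-- Let f : X → S be a morphism of schemes, s a point of S and y a point of the fibre X_s = X ×_S Spec
κ(s), mapping to the point x of X (so that f(x) = s). Then the homomorphism of local rings O_{X,x} →
O_{X_s,y} induced by the projection X_s → X is surjective, with kernel the ideal generated by the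
image of the maximal ideal of O_{S,f(x)}; in other words O_{X_s,y} is identified with O_{X,x}/m_s
O_{X,x} = O_{X,x} ⊗_{O_{S,s}} κ(s). -/
theorem result
    {X S : Scheme.{u}} (f : X ⟶ S) (s : S) (y : ↥(f.fiber s)) :
    Function.Surjective ((f.fiberι s).stalkMap y).hom ∧
      RingHom.ker ((f.fiberι s).stalkMap y).hom =
        Ideal.map (f.stalkMap ((f.fiberι s).base y)).hom
          (IsLocalRing.maximalIdeal (S.presheaf.stalk (f.base ((f.fiberι s).base y)))) := by
  exact main9501 f s y

end Groth.Agent.S9501
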