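import Groth.Statements.S9502
import Mathlib

set_option autoImplicit false
universe u
open SchMor

namespace Groth.Agent.S9502

open AlgebraicGeometry in
open CategoryTheory in
/-- Let f : X → Y be a morphism of schemes such that (1) the underlying continuous map of f is a
homeomorphism onto a closed subset of Y and (2) the map of sheaves of rings O_Y → f_*O_X is
surjective (locally surjective on sections). Then f is a closed immersion in the sense of locally
ringed spaces: (1) and (2) hold and (3) the kernel of O_Y → f_*O_X is locally generated by sections,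
i.e. around every point of Y there are sections of O_Y killed in f_*O_X whose germs generate the
kernel of the stalk map O_{Y,y} → (f_*O_X)_y at every nearby point y. (For a morphism of schemes (1)
and (2) alone already give surjective stalk maps; the content of this row is condition (3).) -/
theorem result
    {X Y : Scheme.{u}} (f : X ⟶ Y) (h1 : Topology.IsClosedEmbedding f)
    (h2 : TopCat.Presheaf.IsLocallySurjective f.c) :
    LRSImm.IsClosedImmersion f.toLRSHom := by
  refine ⟨h1, h2, ?_⟩
  intro y
  obtain ⟨U, hU, hyU, -⟩ := exists_isAffineOpen_mem_and_subset (x := y) (U := ⊤) trivial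
  refine ⟨U, hyU, ↥(RingHom.ker (f.app U).hom), fun s => s.1, ?_, ?_⟩
  · intro j
    exact RingHom.mem_ker.mp j.2
  · intro x' hx'
    obtain ⟨x'', rfl⟩ : ∃ x'' : U, (x'' : Y) = x' := ⟨⟨x', hx'⟩, rfl⟩
    apply le_antisymm
    · rw [Ideal.span_le]
      rintro _ ⟨j, rfl⟩
      show _ ∈ RingHom.ker _
      rw [RingHom.mem_ker]
      have e := TopCat.Presheaf.stalkFunctor_map_germ_apply U x''.1 hx' f.c j.1
      have e0 : (f.c.app (Opposite.op U)) j.1 = 0 := RingHom.mem_ker.mp j.2
      rw [e0, map_zero] at e
      exact e
    · intro t ht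
      let σ : Y.presheaf.stalk x''.1 →+* (f.base _* X.presheaf).stalk x''.1 :=
        ((TopCat.Presheaf.stalkFunctor CommRingCat x''.1).map f.c).hom
      have hσt : σ t = 0 := RingHom.mem_ker.mp ht
      haveI := hU.isLocalization_stalk x''
      obtain ⟨⟨b, h⟩, hb⟩ :=
        IsLocalization.surj (hU.primeIdealOf x'').asIdeal.primeCompl t
      have hb' : t * (Y.presheaf.germ U x''.1 hx').hom h.1 = (Y.presheaf.germ U x''.1 hx').hom b := hb
      have hhu : IsUnit ((Y.presheaf.germ U x''.1 hx').hom h.1) :=
        IsLocalization.map_units (M := (hU.primeIdealOf x'').asIdeal.primeCompl)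
          (Y.presheaf.stalk x''.1) h
      -- the image of `b` dies in the stalk of the pushforward
      have e := TopCat.Presheaf.stalkFunctor_map_germ_apply U x''.1 hx' f.c b
      have e1 : σ ((Y.presheaf.germ U x''.1 hx').hom b) = 0 := by
        rw [← hb', map_mul, hσt, zero_mul]
      have e2 : ((f.base _* X.presheaf).germ U x''.1 hx') ((f.c.app (Opposite.op U)) b) =
          ((f.base _* X.presheaf).germ U x''.1 hx') 0 := by
        rw [map_zero]
        exact e.symm.trans e1
      obtain ⟨W, hx'W, iU, iV, e3⟩ := TopCat.Presheaf.germ_eq (f.base _* X.presheaf) x''.1 hx' hx'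
        ((f.c.app (Opposite.op U)) b) 0 e2
      obtain ⟨h', hh'W, hx'h'⟩ := hU.exists_basicOpen_le (V := W) ⟨x''.1, hx'W⟩ hx'
      have hle' : X.basicOpen ((f.app U).hom h') ≤ f ⁻¹ᵁ W := by
        have := Scheme.preimage_basicOpen f h'
        rw [← this]
        exact f.preimage_mono hh'W
      have hleU : f ⁻¹ᵁ W ≤ f ⁻¹ᵁ U := f.preimage_mono iU.le
      have e4 : (X.presheaf.map (homOfLE hleU).op).hom ((f.app U).hom b) = 0 := by
        have := e3
        rw [map_zero] at this
        exact this
      have e5 : (X.presheaf.map (homOfLE (X.basicOpen_le ((f.app U).hom h'))).op).hom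
          ((f.app U).hom b) = 0 := by
        have hcomp : X.presheaf.map (homOfLE (X.basicOpen_le ((f.app U).hom h'))).op =
            X.presheaf.map (homOfLE hleU).op ≫ X.presheaf.map (homOfLE hle').op := by
          rw [← Functor.map_comp]
          rfl
        rw [hcomp, CommRingCat.comp_apply]
        show (X.presheaf.map (homOfLE hle').op).hom _ = 0
        rw [e4, map_zero]
      have hcpt : IsCompact (f ⁻¹ᵁ U).1 := h1.isCompact_preimage hU.isCompact
      obtain ⟨N, hN⟩ := exists_pow_mul_eq_zero_of_res_basicOpen_eq_zero_of_isCompact X hcpt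
        ((f.app U).hom b) ((f.app U).hom h') e5
      have hmem : h' ^ N * b ∈ RingHom.ker (f.app U).hom := by
        rw [RingHom.mem_ker, map_mul, map_pow]
        exact hN
      have hh'u : IsUnit ((Y.presheaf.germ U x''.1 hx').hom h') :=
        (Y.mem_basicOpen h' x''.1 hx').mp hx'h'
      obtain ⟨u, hu⟩ := hhu.mul (hh'u.pow N)
      have ht' : t = (Y.presheaf.germ U x''.1 hx').hom (h' ^ N * b) * ↑u⁻¹ := by
        rw [Units.eq_mul_inv_iff_mul_eq, hu, map_mul, map_pow, ← hb']
        ring
      rw [ht']
      exact Ideal.mul_mem_right _ _ (Ideal.subset_span ⟨⟨h' ^ N * b, hmem⟩, rfl⟩)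

end Groth.Agent.S9502
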