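import Groth.Statements.S9509
import Mathlib
-- import your own Groth.Agent.* helpers here

set_option autoImplicit false
universe u
open SchMor

namespace Groth.Agent.S9509

open AlgebraicGeometry in
open CategoryTheory in
/-- (3) ⇒ (1): Let f : X → S be a morphism of schemes. Suppose S is covered by affine opens W_i, each
preimage f⁻¹(W_i) is covered by affine opens V_{i,j}, and any two V_{i,j}, V_{i,j'} with the same
index i meet in a quasi-compact open (one covered by finitely many affine opens). Then f is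
quasi-separated. -/
theorem result
    {X S : Scheme.{u}} (f : X ⟶ S) {ι : Type u} (W : ι → S.affineOpens)
    (hW : ⨆ i, (W i : S.Opens) = ⊤) {κ : ι → Type u} (V : ∀ i, κ i → X.affineOpens)
    (hV : ∀ i, ⨆ j, (V i j : X.Opens) = f ⁻¹ᵁ (W i : S.Opens))
    (hVV : ∀ i (j j' : κ i), IsCompact ((V i j : Set X) ∩ (V i j' : Set X))) :
    QuasiSeparated f := by
  rw [HasAffineProperty.iff_of_iSup_eq_top (P := @QuasiSeparated) W hW]
  intro i
  show QuasiSeparatedSpace ↥(f ⁻¹ᵁ (W i : S.Opens))
  set T : X.Opens := f ⁻¹ᵁ (W i : S.Opens) with hT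
  have hVT : ∀ j, (V i j : X.Opens) ≤ T := fun j => by
    rw [hT, ← hV i]; exact le_iSup (fun j => (V i j : X.Opens)) j
  refine Scheme.quasiSeparatedSpace_of_isOpenCover (X := T.toScheme)
    (fun j => T.ι ⁻¹ᵁ (V i j : X.Opens)) ?_ ?_ ?_
  · show (⨆ j, T.ι ⁻¹ᵁ (V i j : X.Opens)) = ⊤
    rw [← Scheme.Hom.preimage_iSup, hV i]
    exact Scheme.Opens.ι_preimage_self T
  · intro j
    rw [← Scheme.Hom.isAffineOpen_iff_of_isOpenImmersion T.ι,
      Scheme.Hom.image_preimage_eq_opensRange_inf, Scheme.Opens.opensRange_ι,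
      inf_eq_right.mpr (hVT j)]
    exact (V i j).2
  · intro j j'
    rw [T.ι.isOpenEmbedding.isCompact_iff]
    have h1 : ((T.ι ⁻¹ᵁ (V i j : X.Opens) : T.toScheme.Opens) : Set T.toScheme) ∩
        ((T.ι ⁻¹ᵁ (V i j' : X.Opens) : T.toScheme.Opens) : Set T.toScheme) =
        T.ι ⁻¹' ((V i j : Set X) ∩ (V i j' : Set X)) := rfl
    rw [h1, Set.image_preimage_eq_inter_range, Scheme.Opens.range_ι,
      Set.inter_eq_left.mpr (Set.inter_subset_left.trans (SetLike.coe_subset_coe.mpr (hVT j)))]
    exact hVV i j j'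

end Groth.Agent.S9509
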