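import Groth.Statements.S9510
-- import your own Groth.Agent.* helpers here

set_option autoImplicit false
universe u
open SchMor

namespace Groth.Agent.S9510

open AlgebraicGeometry in
open CategoryTheory in
/-- Let X be a scheme, X = ⋃ U_i an affine open covering and V ⊆ X an affine open. Then there is a
standard open covering V = D(f_1) ∪ … ∪ D(f_m), with f_1, …, f_m sections of O_X over V, such that
each D(f_j) is also a standard open D(g) of one of the U_i (g a section over that U_i). -/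
theorem result
    (X : Scheme.{u}) {ι : Type u} (U : ι → X.affineOpens) (hU : ⨆ i, (U i : X.Opens) = ⊤)
    (V : X.affineOpens) :
    ∃ s : Finset Γ(X, (V : X.Opens)),
      (⨆ f ∈ s, X.basicOpen f) = (V : X.Opens) ∧
        ∀ f ∈ s, ∃ (i : ι) (g : Γ(X, (U i : X.Opens))), X.basicOpen f = X.basicOpen g := by
  classical
  have hx : ∀ x : (V : X.Opens), ∃ (f : Γ(X, (V : X.Opens))),
      x.1 ∈ X.basicOpen f ∧ ∃ (i : ι) (g : Γ(X, (U i : X.Opens))), X.basicOpen f = X.basicOpen g := by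
    intro ⟨x, hxV⟩
    obtain ⟨i, hi⟩ := TopologicalSpace.Opens.mem_iSup.mp (hU.ge (Set.mem_univ x))
    obtain ⟨f, g, hfg, hxf⟩ := exists_basicOpen_le_affine_inter V.2 (U i).2 x ⟨hxV, hi⟩
    exact ⟨f, hxf, i, g, hfg⟩
  choose F hF1 hF2 using hx
  have hspan : Ideal.span (Set.range F) = ⊤ := by
    rw [← V.2.self_le_iSup_basicOpen_iff]
    intro x hxV
    exact TopologicalSpace.Opens.mem_iSup.mpr ⟨⟨F ⟨x, hxV⟩, ⟨_, rfl⟩⟩, hF1 ⟨x, hxV⟩⟩
  obtain ⟨s, hs, hs'⟩ := (Ideal.span_eq_top_iff_finite _).mp hspan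
  refine ⟨s, iSup_basicOpen_of_span_eq_top _ _ hs', fun f hf => ?_⟩
  obtain ⟨x, rfl⟩ := hs hf
  exact hF2 x

end Groth.Agent.S9510
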