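import Groth.Statements.S9511
import Mathlib

set_option autoImplicit false
universe u
open LRSImm

namespace Groth.Agent.S9511

open AlgebraicGeometry in
open CategoryTheory TopologicalSpace in
/-- Let X be a locally ringed space and U, V ⊆ X open with X = U ⊔ V (they cover X and are disjoint),
such that the open subspaces X|_U and X|_V are affine schemes. Then X is an affine scheme: the
canonical morphism X → Spec Γ(X, O_X) is an isomorphism of locally ringed spaces. -/
theorem result
    (X : LocallyRingedSpace.{u}) (U V : Opens X.toTopCat) (hUV : IsCompl U V)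
    (A B : CommRingCat.{u})
    (eU : X.restrict U.isOpenEmbedding ≅ (Spec A).toLocallyRingedSpace)
    (eV : X.restrict V.isOpenEmbedding ≅ (Spec B).toLocallyRingedSpace) :
    IsIso X.toΓSpec := by
  have hla : ∀ x : X, ∃ (W : TopologicalSpace.OpenNhds x) (R : CommRingCat.{u}),
      Nonempty (X.restrict W.isOpenEmbedding ≅
        AlgebraicGeometry.Spec.toLocallyRingedSpace.obj (Opposite.op R)) := by
    intro x
    have hx : x ∈ U ∨ x ∈ V := by
      have h : x ∈ (U ⊔ V : TopologicalSpace.Opens X.toTopCat) := by
        rw [hUV.sup_eq_top]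
        trivial
      exact h
    rcases hx with hx | hx
    · exact ⟨⟨U, hx⟩, A, ⟨eU⟩⟩
    · exact ⟨⟨V, hx⟩, B, ⟨eV⟩⟩
  let X' : AlgebraicGeometry.Scheme.{u} := { toLocallyRingedSpace := X, local_affine := hla }
  let ιU : AlgebraicGeometry.Spec A ⟶ X' := ⟨eU.inv ≫ X.ofRestrict U.isOpenEmbedding⟩
  let ιV : AlgebraicGeometry.Spec B ⟶ X' := ⟨eV.inv ≫ X.ofRestrict V.isOpenEmbedding⟩
  have hoU : AlgebraicGeometry.IsOpenImmersion ιU := by
    show AlgebraicGeometry.LocallyRingedSpace.IsOpenImmersion
      (eU.inv ≫ X.ofRestrict U.isOpenEmbedding)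
    infer_instance
  have hoV : AlgebraicGeometry.IsOpenImmersion ιV := by
    show AlgebraicGeometry.LocallyRingedSpace.IsOpenImmersion
      (eV.inv ≫ X.ofRestrict V.isOpenEmbedding)
    infer_instance
  have hrange : ∀ (W : TopologicalSpace.Opens X.toTopCat) (C : CommRingCat.{u})
      (e : X.restrict W.isOpenEmbedding ≅ (AlgebraicGeometry.Spec C).toLocallyRingedSpace),
      Set.range (e.inv ≫ X.ofRestrict W.isOpenEmbedding).base = (W : Set X) := by
    intro W C e
    have hs : Function.Surjective e.inv.base := by
      have : IsIso (AlgebraicGeometry.LocallyRingedSpace.forgetToTop.map e.inv) := inferInstance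
      exact (TopCat.homeoOfIso
        (asIso (AlgebraicGeometry.LocallyRingedSpace.forgetToTop.map e.inv))).surjective
    rw [AlgebraicGeometry.LocallyRingedSpace.comp_base, TopCat.coe_comp, hs.range_comp]
    exact TopologicalSpace.Opens.set_range_inclusion' W
  have hrU : ιU.opensRange = U := TopologicalSpace.Opens.ext (hrange U A eU)
  have hrV : ιV.opensRange = V := TopologicalSpace.Opens.ext (hrange V B eV)
  have hc : IsCompl ιU.opensRange ιV.opensRange := by
    rw [hrU, hrV]
    exact hUV
  obtain ⟨hcol⟩ := AlgebraicGeometry.nonempty_isColimit_binaryCofanMk_of_isCompl ιU ιV hc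
  let e : X' ≅ AlgebraicGeometry.Spec A ⨿ AlgebraicGeometry.Spec B :=
    hcol.coconePointUniqueUpToIso (Limits.colimit.isColimit _)
  have : AlgebraicGeometry.IsAffine X' := AlgebraicGeometry.IsAffine.of_isIso e.hom
  have h2 : IsIso (AlgebraicGeometry.Scheme.forgetToLocallyRingedSpace.map X'.toSpecΓ) :=
    inferInstance
  exact h2

end Groth.Agent.S9511
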