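import Groth.Statements.S9512
import Mathlib

set_option autoImplicit false
universe u
open LRSImm

namespace Groth.Agent.S9512

open AlgebraicGeometry in
open CategoryTheory Opposite in
/-- Let X be a locally ringed space, Y = Spec R an affine scheme and f : X → Y a morphism of locally
ringed spaces. Given a point x of X, the image f(x) is the prime of R obtained as the inverse image
of the maximal ideal of O_{X,x} under the composite R = Γ(Y, O_Y) → Γ(X, O_X) → O_{X,x}. -/
theorem result
    (X : LocallyRingedSpace.{u}) (R : CommRingCat.{u})
    (f : X ⟶ (Spec R).toLocallyRingedSpace) (x : X.toTopCat) :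
    f.base x = PrimeSpectrum.comap
      ((Scheme.ΓSpecIso R).inv ≫ f.c.app (op ⊤) ≫ X.presheaf.germ ⊤ x trivial).hom
      (IsLocalRing.closedPoint (X.presheaf.stalk x)) := by
  classical
  let Y : AlgebraicGeometry.LocallyRingedSpace.{u} := (AlgebraicGeometry.Spec R).toLocallyRingedSpace
  have key : PrimeSpectrum.comap (f.c.app (op ⊤)).hom (X.toΓSpecFun x) = Y.toΓSpecFun (f.base x) := by
    set_option backward.isDefEq.respectTransparency false in
    dsimp [AlgebraicGeometry.LocallyRingedSpace.toΓSpecFun]
    set_option backward.isDefEq.respectTransparency false in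
    rw [← IsLocalRing.comap_closedPoint (f.stalkMap x).hom, ←
      PrimeSpectrum.comap_comp_apply, ← PrimeSpectrum.comap_comp_apply,
      ← CommRingCat.hom_comp, ← CommRingCat.hom_comp]
    set_option backward.isDefEq.respectTransparency false in
    congr 2
    set_option backward.isDefEq.respectTransparency false in
    exact (AlgebraicGeometry.PresheafedSpace.stalkMap_germ f.1 ⊤ x trivial).symm
  have rt : PrimeSpectrum.comap (AlgebraicGeometry.Scheme.ΓSpecIso R).inv.hom (Y.toΓSpecFun (f.base x)) = f.base x := by
    have rt := AlgebraicGeometry.ΓSpec.right_triangle R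
    exact congrArg (fun φ : Y ⟶ Y => φ.base (f.base x)) rt
  rw [CommRingCat.hom_comp, CommRingCat.hom_comp, PrimeSpectrum.comap_comp_apply,
    PrimeSpectrum.comap_comp_apply]
  exact (rt.symm.trans (congrArg _ key.symm))

end Groth.Agent.S9512
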