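import Groth.Statements.S9526
import Groth.Agent.S16485
import Groth.Agent.Lead.FinType3
import Groth.Agent.Lead.FinPres
-- import your own Groth.Agent.* helpers here

set_option autoImplicit false
universe u
open Coherent

namespace Groth.Agent.S9526


section
open Opposite TopologicalSpace CategoryTheory CategoryTheory.Limits AlgebraicGeometry

variable {X : Scheme.{u}}

set_option backward.isDefEq.respectTransparency false in
/-- sections of a sheaf of modules with equal germs are equal -/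
theorem section_ext' (F : X.Modules) (O : X.Opens) (s t : Γ(F, O))
    (h : ∀ y (hy : y ∈ O), F.presheaf.germ O y hy s = F.presheaf.germ O y hy t) : s = t :=
  TopCat.Presheaf.section_ext ((SheafOfModules.toSheaf _).obj F) O s t h

set_option backward.isDefEq.respectTransparency false in
theorem exists_locMap (G F : X.Modules) {W : X.Opens} (g : Γ(RefHull.homSh G F, W))
    (O : X.Opens) (hO : O ≤ W) (m : Γ(G, O)) :
    ∃ n : Γ(F, O), ∀ y (hy : y ∈ O),
      F.presheaf.germ O y hy n = g.1 ⟨y, hO hy⟩ (G.presheaf.germ O y hy m) := by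
  have hloc := RefHull.isLocSect_of_mem (U := W) g O (homOfLE hO) m
  choose Wy hyW j ny hny using hloc
  have hcompat : TopCat.Presheaf.IsCompatible ((SheafOfModules.toSheaf _).obj F).1 Wy ny := by
    intro a b
    show F.presheaf.map (Opens.infLELeft (Wy a) (Wy b)).op (ny a) =
      F.presheaf.map (Opens.infLERight (Wy a) (Wy b)).op (ny b)
    refine section_ext' F _ _ _ fun z hz => ?_
    rw [TopCat.Presheaf.germ_res_apply, TopCat.Presheaf.germ_res_apply]
    exact (hny a ⟨z, hz.1⟩).symm.trans (hny b ⟨z, hz.2⟩)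
  have hcover : O ≤ iSup Wy := fun y hy => Opens.mem_iSup.mpr ⟨⟨y, hy⟩, hyW ⟨y, hy⟩⟩
  obtain ⟨n, hn, -⟩ := TopCat.Sheaf.existsUnique_gluing' ((SheafOfModules.toSheaf _).obj F) Wy O
    (fun y => j y) hcover ny hcompat
  refine ⟨n, fun y hy => ?_⟩
  have h1 : F.presheaf.map (j ⟨y, hy⟩).op n = ny ⟨y, hy⟩ := hn ⟨y, hy⟩
  rw [← TopCat.Presheaf.germ_res_apply F.presheaf (j ⟨y, hy⟩) y (hyW ⟨y, hy⟩) n, h1]
  exact (hny ⟨y, hy⟩ ⟨y, hyW ⟨y, hy⟩⟩).symm

/-- the chosen local map -/
noncomputable def locFun (G F : X.Modules) {W : X.Opens} (g : Γ(RefHull.homSh G F, W))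
    (O : X.Opens) (hO : O ≤ W) (m : Γ(G, O)) : Γ(F, O) :=
  (exists_locMap G F g O hO m).choose

theorem locFun_germ (G F : X.Modules) {W : X.Opens} (g : Γ(RefHull.homSh G F, W))
    (O : X.Opens) (hO : O ≤ W) (m : Γ(G, O)) (y : X) (hy : y ∈ O) :
    F.presheaf.germ O y hy (locFun G F g O hO m) =
      g.1 ⟨y, hO hy⟩ (G.presheaf.germ O y hy m) :=
  (exists_locMap G F g O hO m).choose_spec y hy

set_option backward.isDefEq.respectTransparency false in
theorem locFun_zero (G F : X.Modules) {W : X.Opens} (g : Γ(RefHull.homSh G F, W))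
    (O : X.Opens) (hO : O ≤ W) : locFun G F g O hO 0 = 0 := by
  refine section_ext' F O _ _ fun y hy => ?_
  rw [locFun_germ, map_zero, map_zero, map_zero]

set_option backward.isDefEq.respectTransparency false in
theorem locFun_add (G F : X.Modules) {W : X.Opens} (g : Γ(RefHull.homSh G F, W))
    (O : X.Opens) (hO : O ≤ W) (m m' : Γ(G, O)) :
    locFun G F g O hO (m + m') = locFun G F g O hO m + locFun G F g O hO m' := by
  refine section_ext' F O _ _ fun y hy => ?_
  simp only [map_add, locFun_germ]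

set_option backward.isDefEq.respectTransparency false in
theorem locFun_smul (G F : X.Modules) {W : X.Opens} (g : Γ(RefHull.homSh G F, W))
    (O : X.Opens) (hO : O ≤ W) (a : Γ(X, O)) (m : Γ(G, O)) :
    locFun G F g O hO (a • m) = a • locFun G F g O hO m := by
  refine section_ext' F O _ _ fun y hy => ?_
  rw [Mero.germ_smul, locFun_germ, locFun_germ, Mero.germ_smul, map_smul]

set_option backward.isDefEq.respectTransparency false in
theorem locFun_res (G F : X.Modules) {W : X.Opens} (g : Γ(RefHull.homSh G F, W))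
    (O O' : X.Opens) (i : O' ⟶ O) (hO : O ≤ W) (hO' : O' ≤ W) (m : Γ(G, O)) :
    F.presheaf.map i.op (locFun G F g O hO m) =
      locFun G F g O' hO' (G.presheaf.map i.op m) := by
  refine section_ext' F O' _ _ fun y hy => ?_
  rw [TopCat.Presheaf.germ_res_apply, locFun_germ, locFun_germ, TopCat.Presheaf.germ_res_apply]

/-- the additive local map -/
noncomputable def locAdd (G F : X.Modules) {W : X.Opens} (g : Γ(RefHull.homSh G F, W))
    (O : X.Opens) (hO : O ≤ W) : Γ(G, O) →+ Γ(F, O) where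
  toFun := locFun G F g O hO
  map_zero' := locFun_zero G F g O hO
  map_add' := locFun_add G F g O hO

set_option backward.isDefEq.respectTransparency false in
/-- the morphism of restricted modules defined by a section of the sheaf Hom -/
noncomputable def locHom (G F : X.Modules) {W : X.Opens} (g : Γ(RefHull.homSh G F, W)) :
    (Scheme.Modules.restrictFunctor W.ι).obj G ⟶ (Scheme.Modules.restrictFunctor W.ι).obj F :=
  ⟨PresheafOfModules.homMk
    { app := fun V' => AddCommGrpCat.ofHom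
        (locAdd G F g (W.ι ''ᵁ V'.unop) (W.ι_image_le V'.unop))
      naturality := fun {V1 V2} i => by
        ext m
        exact (locFun_res G F g (W.ι ''ᵁ V1.unop) (W.ι ''ᵁ V2.unop)
          (W.ι.opensFunctor.map i.unop) (W.ι_image_le _) (W.ι_image_le _) m).symm }
    (fun V' r m => by
      have hb : (W.ι.appIso V'.unop).hom ((W.ι.appIso V'.unop).inv r) = r := by
        first | rfl | (simp; rfl)
      have e1 := Groth.Agent.Lead.FinType.restrict_smul G W V'.unop
        ((W.ι.appIso V'.unop).inv r) m m rfl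
      have e2 := Groth.Agent.Lead.FinType.restrict_smul F W V'.unop
        ((W.ι.appIso V'.unop).inv r)
        (locFun G F g (W.ι ''ᵁ V'.unop) (W.ι_image_le V'.unop) m)
        (locFun G F g (W.ι ''ᵁ V'.unop) (W.ι_image_le V'.unop) m) rfl
      rw [hb] at e1 e2
      exact (congrArg (locFun G F g (W.ι ''ᵁ V'.unop) (W.ι_image_le V'.unop)) e1).trans
        ((locFun_smul G F g (W.ι ''ᵁ V'.unop) (W.ι_image_le V'.unop)
          ((W.ι.appIso V'.unop).inv r) m).trans e2.symm))⟩

set_option backward.isDefEq.respectTransparency false in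
theorem locHom_app (G F : X.Modules) {W : X.Opens} (g : Γ(RefHull.homSh G F, W))
    (V' : (W : Scheme.{u}).Opens) (s : Γ(G, W.ι ''ᵁ V')) :
    (ConcreteCategory.hom ((locHom G F g).app V')) s =
      locFun G F g (W.ι ''ᵁ V') (W.ι_image_le V') s := rfl

set_option backward.isDefEq.respectTransparency false in
theorem inv_germ (M : X.Modules) (W : X.Opens) (x : X) (hxW : x ∈ W)
    (V' : (W : Scheme.{u}).Opens) (hz : (⟨x, hxW⟩ : W) ∈ V') (h' : x ∈ W.ι ''ᵁ V')
    (s : Γ(M, W.ι ''ᵁ V')) :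
    (ConcreteCategory.hom ((Scheme.Modules.restrictStalkNatIso W.ι (⟨x, hxW⟩ : W)).inv.app M))
      (M.presheaf.germ (W.ι ''ᵁ V') x h' s) =
    ((Scheme.Modules.restrictFunctor W.ι).obj M).presheaf.germ V' (⟨x, hxW⟩ : W) hz s :=
  ConcreteCategory.congr_hom
    (Scheme.Modules.germ_restrictStalkNatIso_inv_app W.ι (⟨x, hxW⟩ : W) M hz) s

set_option backward.isDefEq.respectTransparency false in
theorem hom_germ (M : X.Modules) (W : X.Opens) (x : X) (hxW : x ∈ W)
    (V' : (W : Scheme.{u}).Opens) (hz : (⟨x, hxW⟩ : W) ∈ V') (h' : x ∈ W.ι ''ᵁ V')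
    (s : Γ(M, W.ι ''ᵁ V')) :
    (ConcreteCategory.hom ((Scheme.Modules.restrictStalkNatIso W.ι (⟨x, hxW⟩ : W)).hom.app M))
      (((Scheme.Modules.restrictFunctor W.ι).obj M).presheaf.germ V' (⟨x, hxW⟩ : W) hz s) =
    M.presheaf.germ (W.ι ''ᵁ V') x h' s :=
  ConcreteCategory.congr_hom
    (Scheme.Modules.germ_restrictStalkNatIso_hom_app W.ι (⟨x, hxW⟩ : W) M hz) s

set_option backward.isDefEq.respectTransparency false in
theorem main (X : Scheme.{u}) [IsLocallyNoetherian X]
    (F G : X.Modules) (hF : Coh.IsCoh F) (hG : Coh.IsCoh G) (x : X)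
    (ψ : ↑(G.presheaf.stalk x) →ₗ[X.presheaf.stalk x] ↑(F.presheaf.stalk x)) :
    ∃ (U : X.Opens) (hx : x ∈ U)
      (φ : (Scheme.Modules.restrictFunctor U.ι).obj G ⟶ (Scheme.Modules.restrictFunctor U.ι).obj F),
      (Scheme.Modules.restrictStalkNatIso U.ι (⟨x, hx⟩ : U)).inv.app G ≫
          (TopCat.Presheaf.stalkFunctor _ (⟨x, hx⟩ : U)).map φ.mapPresheaf ≫
            (Scheme.Modules.restrictStalkNatIso U.ι (⟨x, hx⟩ : U)).hom.app F =
        AddCommGrpCat.ofHom ψ.toAddMonoidHom := by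
  haveI : G.IsQuasicoherent := hG.1
  haveI : SheafOfModules.IsFiniteType.{u, u, u} (R := X.ringCatSheaf) G := hG.2
  haveI : SheafOfModules.IsFinitePresentation.{u, u, u} (R := X.ringCatSheaf) G :=
    Groth.Agent.Lead.FinPres.isFinitePresentation_of_coh G
  obtain ⟨θ, hθ⟩ := (Groth.Agent.S16485.main X G F x).2 ψ
  obtain ⟨W, hxW, g, rfl⟩ : ∃ (W : X.Opens) (h : x ∈ W) (g : Γ(RefHull.homSh G F, W)),
      (RefHull.homSh G F).presheaf.germ W x h g = θ :=
    TopCat.Presheaf.exists_germ_eq _ θ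
  rw [RefHull.evalStalk_germ] at hθ
  refine ⟨W, hxW, locHom G F g, ?_⟩
  ext v
  obtain ⟨O, hxO, s, rfl⟩ : ∃ (O : X.Opens) (h : x ∈ O) (s : Γ(G, O)),
      G.presheaf.germ O x h s = v :=
    TopCat.Presheaf.exists_germ_eq G.presheaf v
  have hz : (⟨x, hxW⟩ : W) ∈ W.ι ⁻¹ᵁ O := hxO
  have h' : x ∈ W.ι ''ᵁ (W.ι ⁻¹ᵁ O) := ⟨⟨x, hxW⟩, hz, rfl⟩
  have e0 : G.presheaf.germ O x hxO s = G.presheaf.germ (W.ι ''ᵁ (W.ι ⁻¹ᵁ O)) x h'
      (G.presheaf.map (homOfLE (W.ι.image_preimage_le O)).op s) :=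
    (TopCat.Presheaf.germ_res_apply G.presheaf (homOfLE (W.ι.image_preimage_le O)) x h' s).symm
  have h1 := inv_germ G W x hxW (W.ι ⁻¹ᵁ O) hz h'
    (G.presheaf.map (homOfLE (W.ι.image_preimage_le O)).op s)
  have h2 : (ConcreteCategory.hom ((TopCat.Presheaf.stalkFunctor _ (⟨x, hxW⟩ : W)).map
        (locHom G F g).mapPresheaf))
      (((Scheme.Modules.restrictFunctor W.ι).obj G).presheaf.germ (W.ι ⁻¹ᵁ O) (⟨x, hxW⟩ : W) hz
        (G.presheaf.map (homOfLE (W.ι.image_preimage_le O)).op s)) =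
      ((Scheme.Modules.restrictFunctor W.ι).obj F).presheaf.germ (W.ι ⁻¹ᵁ O) (⟨x, hxW⟩ : W) hz
        (locFun G F g (W.ι ''ᵁ (W.ι ⁻¹ᵁ O)) (W.ι_image_le _)
          (G.presheaf.map (homOfLE (W.ι.image_preimage_le O)).op s)) :=
    TopCat.Presheaf.stalkFunctor_map_germ_apply (W.ι ⁻¹ᵁ O) (⟨x, hxW⟩ : W) hz
      (locHom G F g).mapPresheaf (G.presheaf.map (homOfLE (W.ι.image_preimage_le O)).op s)
  have h3 := hom_germ F W x hxW (W.ι ⁻¹ᵁ O) hz h'
    (locFun G F g (W.ι ''ᵁ (W.ι ⁻¹ᵁ O)) (W.ι_image_le _)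
      (G.presheaf.map (homOfLE (W.ι.image_preimage_le O)).op s))
  have h4 := locFun_germ G F g (W.ι ''ᵁ (W.ι ⁻¹ᵁ O)) (W.ι_image_le _)
    (G.presheaf.map (homOfLE (W.ι.image_preimage_le O)).op s) x h'
  show (ConcreteCategory.hom ((Scheme.Modules.restrictStalkNatIso W.ι (⟨x, hxW⟩ : W)).hom.app F))
    ((ConcreteCategory.hom ((TopCat.Presheaf.stalkFunctor _ (⟨x, hxW⟩ : W)).map
        (locHom G F g).mapPresheaf))
      ((ConcreteCategory.hom ((Scheme.Modules.restrictStalkNatIso W.ι (⟨x, hxW⟩ : W)).inv.app G))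
        (G.presheaf.germ O x hxO s))) = ψ (G.presheaf.germ O x hxO s)
  rw [e0, h1, h2, h3, h4, hθ]
end

open CategoryTheory CategoryTheory.Limits AlgebraicGeometry in
/-- Let X be a locally Noetherian scheme, F and G coherent O_X-modules, x ∈ X and ψ : G_x → F_x an
O_{X,x}-linear map. Then there are an open neighbourhood U of x and a morphism φ : G|_U → F|_U with
φ_x = ψ (the stalk map of φ at x, composed with the canonical identifications of the stalks of G|_U
and F|_U at x with G_x and F_x, is ψ). -/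
theorem result (X : Scheme.{u}) [IsLocallyNoetherian X]
    (F G : X.Modules) (hF : Coh.IsCoh F) (hG : Coh.IsCoh G) (x : X)
    (ψ : ↑(G.presheaf.stalk x) →ₗ[X.presheaf.stalk x] ↑(F.presheaf.stalk x)) :
    ∃ (U : X.Opens) (hx : x ∈ U)
      (φ : (Scheme.Modules.restrictFunctor U.ι).obj G ⟶ (Scheme.Modules.restrictFunctor U.ι).obj F),
      (Scheme.Modules.restrictStalkNatIso U.ι (⟨x, hx⟩ : U)).inv.app G ≫
          (TopCat.Presheaf.stalkFunctor _ (⟨x, hx⟩ : U)).map φ.mapPresheaf ≫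
            (Scheme.Modules.restrictStalkNatIso U.ι (⟨x, hx⟩ : U)).hom.app F =
        AddCommGrpCat.ofHom ψ.toAddMonoidHom := by
  exact main X F G hF hG x ψ

end Groth.Agent.S9526
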