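import Groth.Statements.S9560
import Mathlib

set_option autoImplicit false
universe u
open EtLocal

namespace Groth.Agent.S9560

open Algebra TensorProduct IsLocalRing

private lemma flat_of_etaleAt (A B : Type u) [CommRing A] [CommRing B]
    [Algebra A B] [Algebra.FinitePresentation A B]
    (p : Ideal A) [p.IsPrime] (q : Ideal B) [q.IsPrime] [q.LiesOver p]
    [Algebra (Localization.AtPrime p) (Localization.AtPrime q)]
    [Localization.AtPrime.IsLiesOverAlgebra p q] [Algebra.IsEtaleAt A q] :
    Module.Flat (Localization.AtPrime p) (Localization.AtPrime q) := by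
  obtain ⟨f, hfq, hEtf⟩ := Algebra.exists_etale_of_isEtaleAt (R := A) q
  haveI := hEtf
  haveI : Module.Flat A (Localization.Away f) := inferInstance
  have hunit : IsUnit (algebraMap B (Localization.AtPrime q) f) :=
    IsLocalization.map_units (M := q.primeCompl) _ ⟨f, hfq⟩
  let g : Localization.Away f →+* Localization.AtPrime q := IsLocalization.Away.lift f hunit
  algebraize [g]
  haveI : IsScalarTower B (Localization.Away f) (Localization.AtPrime q) :=
    IsScalarTower.of_algebraMap_eq' (IsLocalization.Away.lift_comp f hunit).symm
  haveI : IsScalarTower A (Localization.Away f) (Localization.AtPrime q) :=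
    IsScalarTower.to₁₃₄ A B _ _
  haveI : IsLocalization ((q.primeCompl).map (algebraMap B (Localization.Away f)))
      (Localization.AtPrime q) :=
    IsLocalization.isLocalization_of_submonoid_le _ _ (Submonoid.powers f) q.primeCompl
      (Submonoid.powers_le.mpr hfq)
  haveI : Module.Flat (Localization.Away f) (Localization.AtPrime q) :=
    IsLocalization.flat _ ((q.primeCompl).map (algebraMap B (Localization.Away f)))
  haveI : Module.Flat A (Localization.AtPrime q) := Module.Flat.trans A (Localization.Away f) _
  exact (Module.flat_iff_of_isLocalization (Localization.AtPrime p) p.primeCompl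
    (Localization.AtPrime q)).mpr inferInstance

private lemma smooth_of_flat_unram (A B : Type u) [CommRing A] [CommRing B]
    [Algebra A B] [Algebra.FinitePresentation A B]
    (p : Ideal A) [p.IsPrime] (q : Ideal B) [q.IsPrime] [q.LiesOver p]
    [Algebra (Localization.AtPrime p) (Localization.AtPrime q)]
    [Localization.AtPrime.IsLiesOverAlgebra p q]
    (hflat : Module.Flat (Localization.AtPrime p) (Localization.AtPrime q))
    (hU : Algebra.IsUnramifiedAt A q) :
    Algebra.FormallySmooth A (Localization.AtPrime q) := by
  let Rp := Localization.AtPrime p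
  let Sp := Localization (algebraMapSubmonoid B p.primeCompl)
  let Sq := Localization.AtPrime q
  let f : Sp →ₐ[B] Sq := IsLocalization.liftAlgHom (M := algebraMapSubmonoid B p.primeCompl)
        (f := Algebra.ofId _ _) (by
      rintro ⟨_, x, hx, rfl⟩
      simpa using! IsLocalization.map_units (M := q.primeCompl) Sq ⟨algebraMap _ _ x,
        by simp_all [q.over_def p]⟩)
  algebraize [f.toRingHom]
  have : IsScalarTower A Sp Sq := .to₁₃₄ _ B _ _
  have : IsScalarTower Rp Sp Sq := .of_algebraMap_eq' <| by
    apply IsLocalization.ringHom_ext p.primeCompl
    simp only [RingHom.comp_assoc, ← IsScalarTower.algebraMap_eq]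
  have : IsLocalization (algebraMapSubmonoid Sp q.primeCompl) Sq :=
    .isLocalization_of_submonoid_le _ _ (algebraMapSubmonoid B p.primeCompl) _
    (by rintro _ ⟨x, hx, rfl⟩; simp_all [q.over_def p])
  have : FinitePresentation Rp Sp := by
    have : Algebra.IsPushout A Rp B Sp :=
      .symm <| Algebra.isPushout_of_isLocalization p.primeCompl _ _ _
    exact .equiv (Algebra.IsPushout.equiv A Rp B Sp)
  haveI : IsLocalHom (algebraMap Rp Sq) := by
    rw [Localization.AtPrime.IsLiesOverAlgebra.algebraMap_eq]
    infer_instance
  haveI : Module.Flat Rp Sq := hflat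
  haveI : Algebra.FormallyUnramified A Sq := hU
  haveI : Algebra.FormallyUnramified Rp Sq := .of_restrictScalars A _ _
  haveI : Algebra.EssFiniteType Rp Sq := .of_comp A _ _
  haveI : Algebra.FormallyEtale (ResidueField Rp) (ResidueField Rp ⊗[Rp] Sq) :=
    Algebra.FormallyEtale.of_formallyUnramified_of_field _ _
  haveI : Algebra.FormallySmooth (ResidueField Rp) (ResidueField Rp ⊗[Rp] Sq) := inferInstance
  have hsm : Algebra.FormallySmooth Rp Sq :=
    FormallySmooth.of_formallySmooth_residueField_tensor
      (R := Rp) (S := Sq) (P := Sp) (algebraMapSubmonoid _ q.primeCompl)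
  exact .comp A Rp Sq

/-- Suppose A is a Noetherian ring and B is a finite-type A-algebra, and consider a prime q of B lying
over the prime p of A, where B_q carries its A_p-algebra structure. Then B is étale at q over A (the
local ring B_q is formally étale over A) if and only if the local homomorphism A_p → B_q is étale,
which means three things: B_q is A_p-flat, the ideal p B_q equals the maximal ideal of B_q, and the
residue field of q is a finite separable extension of the residue field of p (that B_q is
essentially of finite type over A_p holds automatically). -/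
theorem result (A B : Type u) [CommRing A] [CommRing B]
    [Algebra A B] [IsNoetherianRing A] [Algebra.FiniteType A B]
    (p : Ideal A) [p.IsPrime] (q : Ideal B) [q.IsPrime] [q.LiesOver p]
    [Algebra (Localization.AtPrime p) (Localization.AtPrime q)]
    [Localization.AtPrime.IsLiesOverAlgebra p q] :
    Algebra.IsEtaleAt A q ↔
      Module.Flat (Localization.AtPrime p) (Localization.AtPrime q) ∧
        p.map (algebraMap A (Localization.AtPrime q)) = IsLocalRing.maximalIdeal (Localization.AtPrime q) ∧
        Module.Finite p.ResidueField q.ResidueField ∧
        Algebra.IsSeparable p.ResidueField q.ResidueField := by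
  haveI : Algebra.FinitePresentation A B := Algebra.FinitePresentation.of_finiteType.mp inferInstance
  constructor
  · intro hEt
    haveI : Algebra.IsEtaleAt A q := hEt
    haveI : Algebra.IsUnramifiedAt A q :=
      inferInstanceAs (Algebra.FormallyUnramified A (Localization.AtPrime q))
    have hU := (Algebra.isUnramifiedAt_iff_map_eq A p q).mp inferInstance
    refine ⟨?_, hU.2, inferInstance, hU.1⟩
    exact flat_of_etaleAt A B p q
  · rintro ⟨hflat, hmap, hfin, hsep⟩
    have hU : Algebra.IsUnramifiedAt A q :=
      (Algebra.isUnramifiedAt_iff_map_eq A p q).mpr ⟨hsep, hmap⟩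
    have hS := smooth_of_flat_unram A B p q hflat hU
    exact Algebra.FormallyEtale.iff_formallyUnramified_and_formallySmooth.mpr ⟨hU, hS⟩

end Groth.Agent.S9560
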