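import Groth.Statements.S9563
import Mathlib

set_option autoImplicit false
universe u
open EtLocal

namespace Groth.Agent.S9563

private lemma core (A B : Type u) [CommRing A] [CommRing B] [IsLocalRing B] [Algebra A B]
    (S : Subalgebra A B)
    (hloc : IsLocalization ((IsUnit.submonoid B).comap (algebraMap S B)) B)
    (f : S) (hfu : IsUnit ((IsScalarTower.toAlgHom A S B) f))
    (P : StandardEtalePair A) (φ : P.Ring ≃ₐ[A] Localization.Away f) :
    ∃ (𝔮 : Ideal P.Ring) (_ : 𝔮.IsPrime), Nonempty (B ≃ₐ[A] Localization.AtPrime 𝔮) := by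
  classical
  let ψ : Localization.Away f →ₐ[A] B :=
    IsLocalization.Away.liftAlgHom (A := A) (R := S) (S := Localization.Away f) (P := B) f
      (f := IsScalarTower.toAlgHom A S B) hfu
  have hψ : ∀ s : S, ψ (algebraMap S (Localization.Away f) s) = algebraMap S B s := by
    intro s
    simp [ψ]
  have hψinj : ∀ z : Localization.Away f, ψ z = 0 → z = 0 := by
    intro z hz
    obtain ⟨s, y, rfl⟩ := IsLocalization.exists_mk'_eq (Submonoid.powers f) z
    have h3 : IsLocalization.mk' (Localization.Away f) s y *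
        algebraMap S (Localization.Away f) y = algebraMap S _ s :=
      IsLocalization.mk'_spec _ s y
    have h4 : ψ (algebraMap S (Localization.Away f) s) = 0 := by
      rw [← h3, map_mul, hz, zero_mul]
    rw [hψ] at h4
    have hs : s = 0 := Subtype.ext h4
    rw [hs, IsLocalization.mk'_zero]
  let θ : P.Ring →ₐ[A] B := ψ.comp φ.toAlgHom
  have hθinj : ∀ x : P.Ring, θ x = 0 → x = 0 := by
    intro x hx
    have : φ x = 0 := hψinj _ hx
    exact (map_eq_zero_iff φ φ.injective).mp this
  have hθS : ∀ s : S, ∃ p : P.Ring, θ p = algebraMap S B s := by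
    intro s
    obtain ⟨p, hp⟩ := φ.surjective (algebraMap S (Localization.Away f) s)
    refine ⟨p, ?_⟩
    show ψ (φ p) = _
    rw [hp, hψ]
  obtain ⟨𝔮, h𝔮⟩ : ∃ 𝔮 : Ideal P.Ring, 𝔮 = (IsLocalRing.maximalIdeal B).comap θ := ⟨_, rfl⟩
  haveI h𝔮p : 𝔮.IsPrime := by rw [h𝔮]; exact Ideal.comap_isPrime _ _
  have hmem𝔮 : ∀ x : P.Ring, x ∈ 𝔮 ↔ ¬ IsUnit (θ x) := by
    intro x; rw [h𝔮, Ideal.mem_comap, IsLocalRing.mem_maximalIdeal, mem_nonunits_iff]
  have hunit : ∀ y : 𝔮.primeCompl, IsUnit (θ y) := by
    intro y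
    have := y.2
    rw [Ideal.mem_primeCompl_iff, hmem𝔮, not_not] at this
    exact this
  let Θ : Localization.AtPrime 𝔮 →ₐ[A] B :=
    IsLocalization.liftAlgHom (A := A) (R := P.Ring) (M := 𝔮.primeCompl)
      (S := Localization.AtPrime 𝔮) (f := θ) hunit
  have hΘ : ∀ x : P.Ring, Θ (algebraMap P.Ring (Localization.AtPrime 𝔮) x) = θ x := by
    intro x; simp [Θ]
  have hsurj : Function.Surjective Θ := by
    intro b
    obtain ⟨⟨s, t⟩, hst⟩ := IsLocalization.surj ((IsUnit.submonoid B).comap (algebraMap S B)) b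
    have hst' : b * algebraMap S B t = algebraMap S B s := hst
    obtain ⟨ps, hps⟩ := hθS s
    obtain ⟨pt, hpt⟩ := hθS t
    have htu : IsUnit (algebraMap S B t) := t.2
    have hpt𝔮 : pt ∈ 𝔮.primeCompl := by
      rw [Ideal.mem_primeCompl_iff, hmem𝔮, not_not, hpt]; exact htu
    refine ⟨IsLocalization.mk' (Localization.AtPrime 𝔮) ps ⟨pt, hpt𝔮⟩, ?_⟩
    apply htu.mul_right_cancel
    rw [hst', ← hpt, ← hΘ pt, ← map_mul]
    have h3 : IsLocalization.mk' (Localization.AtPrime 𝔮) ps ⟨pt, hpt𝔮⟩ *
        algebraMap P.Ring _ pt = algebraMap _ _ ps :=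
      IsLocalization.mk'_spec _ ps ⟨pt, hpt𝔮⟩
    rw [h3, hΘ, hps]
  have hinj : Function.Injective Θ := by
    rw [injective_iff_map_eq_zero]
    intro w hw
    obtain ⟨x, y, rfl⟩ := IsLocalization.exists_mk'_eq 𝔮.primeCompl w
    have h3 : IsLocalization.mk' (Localization.AtPrime 𝔮) x y *
        algebraMap P.Ring _ y = algebraMap _ _ x :=
      IsLocalization.mk'_spec _ x y
    have h4 : Θ (algebraMap P.Ring (Localization.AtPrime 𝔮) x) = 0 := by
      rw [← h3, map_mul, hw, zero_mul]
    rw [hΘ] at h4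
    rw [hθinj x h4, IsLocalization.mk'_zero]
  exact ⟨𝔮, h𝔮p, ⟨(AlgEquiv.ofBijective Θ ⟨hinj, hsurj⟩).symm⟩⟩

private lemma core2 (A B : Type u) [CommRing A] [CommRing B] [IsLocalRing B] [Algebra A B]
    [Algebra.FormallyEtale A B]
    (S : Subalgebra A B) [Algebra.FinitePresentation A S]
    (hloc : IsLocalization ((IsUnit.submonoid B).comap (algebraMap S B)) B) :
    ∃ (P : StandardEtalePair A) (𝔮 : Ideal P.Ring) (_ : 𝔮.IsPrime),
      Nonempty (B ≃ₐ[A] Localization.AtPrime 𝔮) := by
  classical
  obtain ⟨Q, hQ⟩ : ∃ Q : Ideal S, Q = (IsLocalRing.maximalIdeal B).comap (algebraMap S B) :=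
    ⟨_, rfl⟩
  haveI hQp : Q.IsPrime := by rw [hQ]; exact Ideal.comap_isPrime _ _
  have hmem : ∀ x : S, x ∈ Q ↔ ¬ IsUnit (algebraMap S B x) := by
    intro x; rw [hQ, Ideal.mem_comap, IsLocalRing.mem_maximalIdeal, mem_nonunits_iff]
  have hMQ : (IsUnit.submonoid B).comap (algebraMap S B) = Q.primeCompl := by
    ext x
    have h1 : x ∈ (IsUnit.submonoid B).comap (algebraMap S B) ↔ IsUnit (algebraMap S B x) :=
      Iff.rfl
    rw [h1, Ideal.mem_primeCompl_iff, hmem, not_not]
  haveI hlocQ : IsLocalization.AtPrime B Q := by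
    show IsLocalization Q.primeCompl B
    rw [← hMQ]; exact hloc
  let e : Localization.AtPrime Q ≃ₐ[S] B := IsLocalization.algEquiv Q.primeCompl _ _
  haveI : Algebra.IsEtaleAt A Q :=
    Algebra.FormallyEtale.of_equiv (e.restrictScalars A).symm
  obtain ⟨f, hfQ, hstd⟩ := Algebra.IsEtaleAt.exists_isStandardEtale (R := A) Q
  have hfu : IsUnit ((IsScalarTower.toAlgHom A S B) f) := by
    have := (hmem f).not.mp hfQ
    exact not_not.mp this
  obtain ⟨Pres⟩ := hstd.nonempty_standardEtalePresentation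
  obtain ⟨𝔮, h𝔮, hne⟩ := core A B S hloc f hfu Pres.P Pres.equivRing.symm
  exact ⟨Pres.P, 𝔮, h𝔮, hne⟩

/-- Let A → B be an étale homomorphism of Noetherian local rings, i.e. a local homomorphism with B
essentially of finite type and flat over A, m_A B = m_B, and residue field of B finite separable
over that of A. Then there are a standard étale A-algebra B' = A[t]_g/(f) (f monic and f' invertible
in B') and a prime 𝔮 of B' such that B is isomorphic as an A-algebra to the localization of B' at 𝔮
(existence of an isomorphism). -/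
theorem result (A B : Type u) [CommRing A] [CommRing B]
    [IsLocalRing A] [IsLocalRing B] [IsNoetherianRing A] [IsNoetherianRing B] [Algebra A B]
    [IsLocalHom (algebraMap A B)] [Algebra.EssFiniteType A B] [Module.Flat A B]
    (hm : (IsLocalRing.maximalIdeal A).map (algebraMap A B) = IsLocalRing.maximalIdeal B)
    [Module.Finite (IsLocalRing.ResidueField A) (IsLocalRing.ResidueField B)]
    [Algebra.IsSeparable (IsLocalRing.ResidueField A) (IsLocalRing.ResidueField B)] :
    ∃ (P : StandardEtalePair A) (𝔮 : Ideal P.Ring) (_ : 𝔮.IsPrime),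
      Nonempty (B ≃ₐ[A] Localization.AtPrime 𝔮) := by
  classical
  haveI hFU : Algebra.FormallyUnramified A B :=
    Algebra.FormallyUnramified.of_map_maximalIdeal hm
  haveI hFEk : Algebra.FormallyEtale (IsLocalRing.ResidueField A)
      (TensorProduct A (IsLocalRing.ResidueField A) B) :=
    Algebra.FormallyEtale.of_formallyUnramified_of_field _ _
  haveI hFSk : Algebra.FormallySmooth (IsLocalRing.ResidueField A)
      (TensorProduct A (IsLocalRing.ResidueField A) B) := inferInstance
  haveI hFP : Algebra.FinitePresentation A (Algebra.EssFiniteType.subalgebra A B) :=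
    Algebra.FinitePresentation.of_finiteType.mp inferInstance
  haveI hFS : Algebra.FormallySmooth A B :=
    Algebra.FormallySmooth.of_formallySmooth_residueField_tensor (R := A) (S := B)
      (P := Algebra.EssFiniteType.subalgebra A B) (Algebra.EssFiniteType.submonoid A B)
  haveI hFE : Algebra.FormallyEtale A B :=
    Algebra.FormallyEtale.iff_formallyUnramified_and_formallySmooth.mpr ⟨hFU, hFS⟩
  exact core2 A B (Algebra.EssFiniteType.subalgebra A B)
    (Algebra.EssFiniteType.isLocalization (R := A) (S := B))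


end Groth.Agent.S9563
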