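import Groth.Statements.S9564
import Mathlib

set_option autoImplicit false
universe u
open EtLocal

namespace Groth.Agent.S9564

private lemma core (A B : Type u) [CommRing A] [CommRing B] [IsLocalRing B] [Algebra A B]
    [Algebra.FormallyUnramified A B]
    (S : Subalgebra A B) [Algebra.FiniteType A S]
    (hloc : IsLocalization ((IsUnit.submonoid B).comap (algebraMap S B)) B) :
    ∃ (P : StandardEtalePair A) (𝔮 : Ideal P.Ring) (_ : 𝔮.IsPrime)
      (I : Ideal (Localization.AtPrime 𝔮)),
      Nonempty (B ≃ₐ[A] (Localization.AtPrime 𝔮 ⧸ I)) := by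
  classical
  obtain ⟨Q, hQ⟩ : ∃ Q : Ideal S, Q = (IsLocalRing.maximalIdeal B).comap (algebraMap S B) :=
    ⟨_, rfl⟩
  haveI hQp : Q.IsPrime := by rw [hQ]; exact Ideal.comap_isPrime _ _
  have hmem : ∀ x : S, x ∈ Q ↔ ¬ IsUnit (algebraMap S B x) := by
    intro x; rw [hQ, Ideal.mem_comap, IsLocalRing.mem_maximalIdeal, mem_nonunits_iff]
  have hMQ : (IsUnit.submonoid B).comap (algebraMap S B) = Q.primeCompl := by
    ext x
    have h1 : x ∈ (IsUnit.submonoid B).comap (algebraMap S B) ↔ IsUnit (algebraMap S B x) :=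
      Iff.rfl
    rw [h1, Ideal.mem_primeCompl_iff, hmem, not_not]
  haveI hlocQ : IsLocalization.AtPrime B Q := by
    show IsLocalization Q.primeCompl B
    rw [← hMQ]; exact hloc
  let e : Localization.AtPrime Q ≃ₐ[S] B := IsLocalization.algEquiv Q.primeCompl _ _
  haveI : Algebra.IsUnramifiedAt A Q :=
    Algebra.FormallyUnramified.of_equiv (e.restrictScalars A).symm
  obtain ⟨f, hfQ, P, φ, hφ⟩ :=
    Algebra.IsUnramifiedAt.exists_hasStandardEtaleSurjectionOn (R := A) Q
  have hfu : IsUnit ((IsScalarTower.toAlgHom A S B) f) := by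
    have := (hmem f).not.mp hfQ
    exact not_not.mp this
  let ψ : Localization.Away f →ₐ[A] B :=
    IsLocalization.Away.liftAlgHom (A := A) (R := S) (S := Localization.Away f) (P := B) f
      (f := IsScalarTower.toAlgHom A S B) hfu
  have hψ : ∀ s : S, ψ (algebraMap S (Localization.Away f) s) = algebraMap S B s := by
    intro s
    simp [ψ]
  let θ : P.Ring →ₐ[A] B := ψ.comp φ
  have hθS : ∀ s : S, ∃ p : P.Ring, θ p = algebraMap S B s := by
    intro s
    obtain ⟨p, hp⟩ := hφ (algebraMap S (Localization.Away f) s)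
    exact ⟨p, by simp only [θ, AlgHom.comp_apply, hp, hψ]⟩
  obtain ⟨𝔮, h𝔮⟩ : ∃ 𝔮 : Ideal P.Ring, 𝔮 = (IsLocalRing.maximalIdeal B).comap θ := ⟨_, rfl⟩
  haveI h𝔮p : 𝔮.IsPrime := by rw [h𝔮]; exact Ideal.comap_isPrime _ _
  have hmem𝔮 : ∀ x : P.Ring, x ∈ 𝔮 ↔ ¬ IsUnit (θ x) := by
    intro x; rw [h𝔮, Ideal.mem_comap, IsLocalRing.mem_maximalIdeal, mem_nonunits_iff]
  have hunit : ∀ y : 𝔮.primeCompl, IsUnit (θ y) := by
    intro y
    have := y.2
    rw [Ideal.mem_primeCompl_iff, hmem𝔮, not_not] at this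
    exact this
  let Θ : Localization.AtPrime 𝔮 →ₐ[A] B :=
    IsLocalization.liftAlgHom (A := A) (R := P.Ring) (M := 𝔮.primeCompl)
      (S := Localization.AtPrime 𝔮) (f := θ) hunit
  have hΘ : ∀ x : P.Ring, Θ (algebraMap P.Ring (Localization.AtPrime 𝔮) x) = θ x := by
    intro x; simp [Θ]
  have hsurj : Function.Surjective Θ := by
    intro b
    obtain ⟨⟨s, t⟩, hst⟩ := IsLocalization.surj ((IsUnit.submonoid B).comap (algebraMap S B)) b
    have hst' : b * algebraMap S B t = algebraMap S B s := hst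
    obtain ⟨ps, hps⟩ := hθS s
    obtain ⟨pt, hpt⟩ := hθS t
    have htu : IsUnit (algebraMap S B t) := t.2
    have hpt𝔮 : pt ∈ 𝔮.primeCompl := by
      rw [Ideal.mem_primeCompl_iff, hmem𝔮, not_not, hpt]; exact htu
    refine ⟨IsLocalization.mk' (Localization.AtPrime 𝔮) ps ⟨pt, hpt𝔮⟩, ?_⟩
    apply htu.mul_right_cancel
    rw [hst', ← hpt, ← hΘ pt, ← map_mul]
    have h3 : IsLocalization.mk' (Localization.AtPrime 𝔮) ps ⟨pt, hpt𝔮⟩ *
        algebraMap P.Ring _ pt = algebraMap _ _ ps :=
      IsLocalization.mk'_spec _ ps ⟨pt, hpt𝔮⟩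
    rw [h3, hΘ, hps]
  exact ⟨P, 𝔮, h𝔮p, RingHom.ker Θ, ⟨(Ideal.quotientKerAlgEquivOfSurjective hsurj).symm⟩⟩

/-- Let A → B be an unramified homomorphism of Noetherian local rings, i.e. a local homomorphism with B
essentially of finite type over A, m_A B = m_B, and residue field of B finite separable over that of
A. Then there are a standard étale A-algebra B' = A[t]_g/(f) (f monic and f' invertible in B'), a
prime 𝔮 of B' and an ideal I of the localization of B' at 𝔮 such that B is isomorphic as an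
A-algebra to the quotient of that localization by I (existence of an isomorphism). -/
theorem result (A B : Type u) [CommRing A] [CommRing B]
    [IsLocalRing A] [IsLocalRing B] [IsNoetherianRing A] [IsNoetherianRing B] [Algebra A B]
    [IsLocalHom (algebraMap A B)] [Algebra.EssFiniteType A B]
    (hm : (IsLocalRing.maximalIdeal A).map (algebraMap A B) = IsLocalRing.maximalIdeal B)
    [Module.Finite (IsLocalRing.ResidueField A) (IsLocalRing.ResidueField B)]
    [Algebra.IsSeparable (IsLocalRing.ResidueField A) (IsLocalRing.ResidueField B)] :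
    ∃ (P : StandardEtalePair A) (𝔮 : Ideal P.Ring) (_ : 𝔮.IsPrime) (I : Ideal (Localization.AtPrime 𝔮)),
      Nonempty (B ≃ₐ[A] (Localization.AtPrime 𝔮 ⧸ I)) := by
  classical
  haveI hFU : Algebra.FormallyUnramified A B :=
    Algebra.FormallyUnramified.of_map_maximalIdeal hm
  exact core A B (Algebra.EssFiniteType.subalgebra A B)
    (Algebra.EssFiniteType.isLocalization (R := A) (S := B))


end Groth.Agent.S9564
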