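import Groth.Statements.S9567
import Mathlib

set_option autoImplicit false
universe u
open EtLocal

namespace Groth.Agent.S9567

section Helpers
open AlgebraicGeometry CategoryTheory Limits TopologicalSpace Polynomial

theorem etale_appLE_of_etale_ι_comp {X S : Scheme.{u}} (f : X ⟶ S) {W : S.Opens}
    (hW : IsAffineOpen W) {D : X.Opens} (hD : IsAffineOpen D) (e : D ≤ f ⁻¹ᵁ W)
    (h : Etale (D.ι ≫ f)) : (f.appLE W D e).hom.Etale := by
  haveI : IsAffine D.toScheme := hD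
  haveI : IsAffine W.toScheme := hW
  haveI : Etale (f.resLE W D e ≫ W.ι) := by rw [Scheme.Hom.resLE_comp_ι f e]; exact h
  have h2 : Etale (f.resLE W D e) := Etale.of_comp _ W.ι
  rw [HasRingHomProperty.iff_of_isAffine (P := @Etale)] at h2
  exact (RingHom.Etale.respectsIso.arrow_mk_iso_iff (arrowResLEAppIso f W D e)).mp h2

set_option backward.isDefEq.respectTransparency false in
theorem exists_monic_standard (R C : Type u) [CommRing R] [CommRing C] [Algebra R C]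
    [Algebra.IsStandardEtale R C] :
    ∃ (p : R[X]) (_ : p.Monic)
      (ψ : Localization.Away (AdjoinRoot.mk p (derivative p)) →+* C),
      IsOpenImmersion (Spec.map (CommRingCat.ofHom ψ)) ∧
      ψ.comp (algebraMap R (Localization.Away (AdjoinRoot.mk p (derivative p)))) =
        algebraMap R C := by
  obtain ⟨𝓟⟩ := Algebra.IsStandardEtale.nonempty_standardEtalePresentation (R := R) (S := C)
  have hunit : IsUnit (algebraMap (AdjoinRoot 𝓟.f) (Localization.Away (AdjoinRoot.mk 𝓟.f 𝓟.g))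
      (AdjoinRoot.mk 𝓟.f (derivative 𝓟.f))) := by
    obtain ⟨p₁, p₂, n, hc⟩ := 𝓟.cond
    have h1 : AdjoinRoot.mk 𝓟.f (derivative 𝓟.f) * AdjoinRoot.mk 𝓟.f p₁ =
        AdjoinRoot.mk 𝓟.f 𝓟.g ^ n := by
      have h0 := congrArg (AdjoinRoot.mk 𝓟.f) hc
      simp only [map_add, map_mul, map_pow, AdjoinRoot.mk_self, zero_mul, add_zero] at h0
      exact h0
    have h2 : IsUnit (algebraMap (AdjoinRoot 𝓟.f) (Localization.Away (AdjoinRoot.mk 𝓟.f 𝓟.g))
        (AdjoinRoot.mk 𝓟.f (derivative 𝓟.f) * AdjoinRoot.mk 𝓟.f p₁)) := by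
      rw [h1, map_pow]
      exact (IsLocalization.Away.algebraMap_isUnit (AdjoinRoot.mk 𝓟.f 𝓟.g)).pow n
    rw [map_mul] at h2
    exact isUnit_of_mul_isUnit_left h2
  haveI h' : IsLocalization.Away (AdjoinRoot.mk 𝓟.f (derivative 𝓟.f) * AdjoinRoot.mk 𝓟.f 𝓟.g)
      (Localization.Away (AdjoinRoot.mk 𝓟.f 𝓟.g)) :=
    IsLocalization.Away.mul_of_isUnit' _ _ hunit
  haveI h'' : IsLocalization.Away (AdjoinRoot.mk 𝓟.f (derivative 𝓟.f) * AdjoinRoot.mk 𝓟.f 𝓟.g)
      (Localization.Away (algebraMap (AdjoinRoot 𝓟.f)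
        (Localization.Away (AdjoinRoot.mk 𝓟.f (derivative 𝓟.f))) (AdjoinRoot.mk 𝓟.f 𝓟.g))) :=
    IsLocalization.Away.mul' (Localization.Away (AdjoinRoot.mk 𝓟.f (derivative 𝓟.f))) _ _ _
  let e₃ : Localization.Away (AdjoinRoot.mk 𝓟.f 𝓟.g) ≃ₐ[AdjoinRoot 𝓟.f]
      Localization.Away (algebraMap (AdjoinRoot 𝓟.f)
        (Localization.Away (AdjoinRoot.mk 𝓟.f (derivative 𝓟.f))) (AdjoinRoot.mk 𝓟.f 𝓟.g)) :=
    IsLocalization.algEquiv (Submonoid.powers
      (AdjoinRoot.mk 𝓟.f (derivative 𝓟.f) * AdjoinRoot.mk 𝓟.f 𝓟.g)) _ _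
  let E : C ≃ₐ[R] Localization.Away (algebraMap (AdjoinRoot 𝓟.f)
        (Localization.Away (AdjoinRoot.mk 𝓟.f (derivative 𝓟.f))) (AdjoinRoot.mk 𝓟.f 𝓟.g)) :=
    𝓟.equivRing.trans (𝓟.P.equivAwayAdjoinRoot.trans (e₃.restrictScalars R))
  refine ⟨𝓟.f, 𝓟.monic_f, (E.symm.toRingEquiv.toRingHom).comp (algebraMap _ _), ?_, ?_⟩
  · rw [CommRingCat.ofHom_comp, Spec.map_comp]
    haveI : IsIso (CommRingCat.ofHom E.symm.toRingEquiv.toRingHom) :=
      inferInstanceAs (IsIso (E.symm.toRingEquiv.toCommRingCatIso).hom)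
    haveI : IsOpenImmersion (Spec.map (CommRingCat.ofHom
        (algebraMap (Localization.Away (AdjoinRoot.mk 𝓟.f (derivative 𝓟.f)))
          (Localization.Away (algebraMap (AdjoinRoot 𝓟.f)
            (Localization.Away (AdjoinRoot.mk 𝓟.f (derivative 𝓟.f)))
            (AdjoinRoot.mk 𝓟.f 𝓟.g)))))) :=
      IsOpenImmersion.of_isLocalization (algebraMap (AdjoinRoot 𝓟.f)
        (Localization.Away (AdjoinRoot.mk 𝓟.f (derivative 𝓟.f))) (AdjoinRoot.mk 𝓟.f 𝓟.g))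
    infer_instance
  · ext r
    show E.symm (algebraMap _ _ (algebraMap R _ r)) = algebraMap R C r
    rw [← IsScalarTower.algebraMap_apply R
      (Localization.Away (AdjoinRoot.mk 𝓟.f (derivative 𝓟.f)))]
    exact E.symm.commutes r

set_option backward.isDefEq.respectTransparency false in
theorem main9567 {X Y : Scheme.{u}} (φ : X ⟶ Y) (x : X)
    (V : Y.Opens) (hV : IsAffineOpen V) (hxV : φ.base x ∈ V)
    (hφ : ∃ W : X.Opens, x ∈ W ∧ Etale (W.ι ≫ φ)) :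
    ∃ (U : X.Opens) (hU : IsAffineOpen U) (_ : x ∈ U) (e : U ≤ φ ⁻¹ᵁ V)
      (p : Polynomial Γ(Y, V)) (_ : p.Monic)
      (j : U.toScheme ⟶ Spec (CommRingCat.of
        (Localization.Away (AdjoinRoot.mk p (Polynomial.derivative p))))),
      IsOpenImmersion j ∧
        j ≫ Spec.map (CommRingCat.ofHom
            (algebraMap Γ(Y, V)
              (Localization.Away (AdjoinRoot.mk p (Polynomial.derivative p))))) =
          hU.isoSpec.hom ≫ Spec.map (φ.appLE V U e) := by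
  obtain ⟨W, hxW, hW⟩ := hφ
  obtain ⟨U₀, hU₀, hxU₀, eU₀⟩ : ∃ U₀ : X.Opens, IsAffineOpen U₀ ∧ x ∈ U₀ ∧
      U₀ ≤ W ⊓ φ ⁻¹ᵁ V := by
    obtain ⟨U₀, hU₀, hxU₀, eU₀⟩ := Opens.isBasis_iff_nbhd.mp X.isBasis_affineOpens
      (show x ∈ W ⊓ φ ⁻¹ᵁ V from ⟨hxW, hxV⟩)
    exact ⟨U₀, hU₀, hxU₀, eU₀⟩
  have hU₀W : U₀ ≤ W := eU₀.trans inf_le_left
  have e₀ : U₀ ≤ φ ⁻¹ᵁ V := eU₀.trans inf_le_right
  have het₀ : Etale (U₀.ι ≫ φ) := by
    rw [← X.homOfLE_ι hU₀W, Category.assoc]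
    infer_instance
  have hring : (φ.appLE V U₀ e₀).hom.Etale := etale_appLE_of_etale_ι_comp φ hV hU₀ e₀ het₀
  letI algRA : Algebra Γ(Y, V) Γ(X, U₀) := (φ.appLE V U₀ e₀).hom.toAlgebra
  haveI hEt : Algebra.Etale Γ(Y, V) Γ(X, U₀) := hring
  haveI : Algebra.FormallyEtale Γ(Y, V) Γ(X, U₀) := hEt.formallyEtale
  haveI : Algebra.FinitePresentation Γ(Y, V) Γ(X, U₀) := hEt.finitePresentation
  let 𝔮 := hU₀.primeIdealOf ⟨x, hxU₀⟩
  have hfs : hU₀.fromSpec 𝔮 = x := hU₀.fromSpec_primeIdealOf ⟨x, hxU₀⟩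
  haveI : Algebra.IsEtaleAt Γ(Y, V) 𝔮.asIdeal :=
    inferInstanceAs (Algebra.FormallyEtale Γ(Y, V) (Localization 𝔮.asIdeal.primeCompl))
  obtain ⟨f, hf, hstd⟩ := Algebra.IsEtaleAt.exists_isStandardEtale (R := Γ(Y, V)) 𝔮.asIdeal
  have hDU : X.basicOpen f ≤ U₀ := X.basicOpen_le f
  have eU : X.basicOpen f ≤ φ ⁻¹ᵁ V := hDU.trans e₀
  have hU : IsAffineOpen (X.basicOpen f) := hU₀.basicOpen f
  have hxU : x ∈ X.basicOpen f := by
    have h3 : 𝔮 ∈ (PrimeSpectrum.basicOpen f) := hf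
    rw [← hU₀.fromSpec_preimage_basicOpen] at h3
    have h4 : hU₀.fromSpec 𝔮 ∈ X.basicOpen f := h3
    rwa [hfs] at h4
  letI algRC : Algebra Γ(Y, V) Γ(X, X.basicOpen f) :=
    (φ.appLE V (X.basicOpen f) eU).hom.toAlgebra
  haveI : IsLocalization.Away f Γ(X, X.basicOpen f) := hU₀.isLocalization_basicOpen f
  haveI : IsScalarTower Γ(Y, V) Γ(X, U₀) Γ(X, X.basicOpen f) :=
    IsScalarTower.of_algebraMap_eq' (by
      show (φ.appLE V (X.basicOpen f) eU).hom =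
        (X.presheaf.map (homOfLE hDU).op).hom.comp (φ.appLE V U₀ e₀).hom
      rw [← φ.appLE_map e₀ (homOfLE hDU).op]; rfl)
  let e₁ : Localization.Away f ≃ₐ[Γ(X, U₀)] Γ(X, X.basicOpen f) :=
    IsLocalization.algEquiv (Submonoid.powers f) _ _
  haveI : Algebra.IsStandardEtale Γ(Y, V) Γ(X, X.basicOpen f) :=
    Algebra.IsStandardEtale.of_equiv (e₁.restrictScalars Γ(Y, V))
  obtain ⟨p, hp, ψ, hψ, hcomp⟩ := exists_monic_standard Γ(Y, V) Γ(X, X.basicOpen f)
  refine ⟨X.basicOpen f, hU, hxU, eU, p, hp,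
    hU.isoSpec.hom ≫ Spec.map (CommRingCat.ofHom ψ), ?_, ?_⟩
  · haveI := hψ
    infer_instance
  · rw [Category.assoc, ← Spec.map_comp]
    congr 2
    ext r
    exact DFunLike.congr_fun hcomp r

end Helpers

open AlgebraicGeometry CategoryTheory in
/-- Let φ : X ⟶ Y be any morphism of schemes, x a point of X and V an affine open neighbourhood of φ(x),
with ring R = Γ(Y, V). If φ is étale on some open neighbourhood of x, then there are an affine open
neighbourhood U of x with φ(U) ⊆ V, a monic polynomial p over R and an open immersion j of U into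
Spec of (R[t]/(p))[1/p′] (the localization of R[t]/(p) away from the image of the derivative of p)
such that j followed by the projection to Spec R is the morphism U → Spec R induced by φ. -/
theorem result {X Y : Scheme.{u}} (φ : X ⟶ Y) (x : X)
    (V : Y.Opens) (hV : IsAffineOpen V) (hxV : φ.base x ∈ V)
    (hφ : ∃ W : X.Opens, x ∈ W ∧ Etale (W.ι ≫ φ)) :
    ∃ (U : X.Opens) (hU : IsAffineOpen U) (_ : x ∈ U) (e : U ≤ φ ⁻¹ᵁ V)
      (p : Polynomial Γ(Y, V)) (_ : p.Monic)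
      (j : U.toScheme ⟶ Spec (CommRingCat.of (Localization.Away (AdjoinRoot.mk p (Polynomial.derivative p))))),
      IsOpenImmersion j ∧
        j ≫ Spec.map (CommRingCat.ofHom
            (algebraMap Γ(Y, V) (Localization.Away (AdjoinRoot.mk p (Polynomial.derivative p))))) =
          hU.isoSpec.hom ≫ Spec.map (φ.appLE V U e) := by
  exact main9567 φ x V hV hxV hφ

end Groth.Agent.S9567
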