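import Groth.Statements.S9568
import Mathlib

set_option autoImplicit false
universe u
open EtLocal

namespace Groth.Agent.S9568

open scoped TensorProduct

private lemma tmul_zero_mem {P B X : Type u} [CommRing P] [CommRing B] [Algebra P B]
    [AddCommGroup X] [Module P X]
    (h : Function.Surjective (algebraMap P B)) (z : X) (hz : (1 : B) ⊗ₜ[P] z = 0) :
    z ∈ (RingHom.ker (algebraMap P B)) • (⊤ : Submodule P X) := by
  obtain ⟨J, hJ⟩ : ∃ J : Ideal P, J = RingHom.ker (algebraMap P B) := ⟨_, rfl⟩
  rw [← hJ]
  have hex : Function.Exact J.subtype (Algebra.linearMap P B) := by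
    intro x
    constructor
    · intro hx
      have hx' : algebraMap P B x = 0 := hx
      exact ⟨⟨x, hJ.ge (RingHom.mem_ker.mpr hx')⟩, rfl⟩
    · rintro ⟨y, rfl⟩
      have hy' : algebraMap P B (y : P) = 0 := RingHom.mem_ker.mp (hJ.le y.2)
      exact hy' 
  have hex2 := rTensor_exact X hex h
  have h1 : LinearMap.rTensor X (Algebra.linearMap P B) ((1 : P) ⊗ₜ[P] z) = 0 := by
    rw [LinearMap.rTensor_tmul, Algebra.linearMap_apply, map_one, hz]
  obtain ⟨w, hw⟩ := (hex2 _).mp h1
  have key : ∀ w : J ⊗[P] X,
      TensorProduct.lid P X (LinearMap.rTensor X J.subtype w) ∈ J • (⊤ : Submodule P X) := by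
    intro w
    induction w using TensorProduct.induction_on with
    | zero => simp
    | tmul j x =>
      rw [LinearMap.rTensor_tmul, TensorProduct.lid_tmul]
      exact Submodule.smul_mem_smul j.2 trivial
    | add a b ha hb => rw [map_add, map_add]; exact add_mem ha hb
  have h2 := key w
  rw [hw, TensorProduct.lid_tmul, one_smul] at h2
  exact h2

private lemma ker_map_le {A P B : Type u} [CommRing A] [CommRing P] [CommRing B] [Algebra A P]
    [Algebra A B] [Algebra P B] [IsScalarTower A P B]
    (h : Function.Surjective (algebraMap P B)) (ω : KaehlerDifferential A P)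
    (hω : KaehlerDifferential.map A A P B ω = 0) :
    ω ∈ (RingHom.ker (algebraMap P B)) • (⊤ : Submodule P (KaehlerDifferential A P)) ⊔
      Submodule.span P ((KaehlerDifferential.D A P) ''
        (RingHom.ker (algebraMap P B) : Set P)) := by
  have h1 : KaehlerDifferential.mapBaseChange A P B (1 ⊗ₜ ω) = 0 := by
    rw [KaehlerDifferential.mapBaseChange_tmul, hω, smul_zero]
  obtain ⟨y, hy⟩ :=
    (KaehlerDifferential.exact_kerCotangentToTensor_mapBaseChange A P B h (1 ⊗ₜ ω)).mp h1
  obtain ⟨⟨g, hg⟩, rfl⟩ := Ideal.toCotangent_surjective _ y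
  rw [KaehlerDifferential.kerCotangentToTensor_toCotangent] at hy
  have h2 : (1 : B) ⊗ₜ[P] (ω - KaehlerDifferential.D A P g) = 0 := by
    rw [TensorProduct.tmul_sub, ← hy, sub_self]
  have h3 := tmul_zero_mem h _ h2
  have h4 : KaehlerDifferential.D A P g ∈ Submodule.span P ((KaehlerDifferential.D A P) ''
      (RingHom.ker (algebraMap P B) : Set P)) := Submodule.subset_span ⟨g, hg, rfl⟩
  have h5 : ω = (ω - KaehlerDifferential.D A P g) + KaehlerDifferential.D A P g := by abel
  rw [h5]
  exact Submodule.add_mem_sup h3 h4

private lemma core (A P B : Type u) [CommRing A] [CommRing P] [CommRing B] [Algebra A P]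
    [Algebra A B] [Algebra P B] [IsScalarTower A P B] [Module.Finite P (KaehlerDifferential A P)]
    (h : Function.Surjective (algebraMap P B)) (q : Ideal B) [q.IsPrime]
    (𝔮 : Ideal P) [𝔮.IsPrime] (h𝔮 : ∀ x, x ∈ 𝔮 ↔ algebraMap P B x ∈ q)
    (R' : Type u) [CommRing R'] [Algebra P R'] [IsLocalization.AtPrime R' 𝔮]
    (M' : Type u) [AddCommGroup M'] [Module P M'] [Module R' M'] [IsScalarTower P R' M']
    (f : KaehlerDifferential A P →ₗ[P] M') [IsLocalizedModule 𝔮.primeCompl f] :
    Subsingleton (LocalizedModule q.primeCompl (KaehlerDifferential A B)) ↔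
      Submodule.span R' (f '' ((KaehlerDifferential.D A P) ''
        (RingHom.ker (algebraMap P B) : Set P))) = ⊤ := by
  classical
  haveI : IsLocalRing R' := IsLocalization.AtPrime.isLocalRing R' 𝔮
  haveI : Module.Finite R' M' := Module.Finite.of_isLocalizedModule 𝔮.primeCompl f
  have hI𝔮 : ∀ g ∈ RingHom.ker (algebraMap P B), g ∈ 𝔮 := by
    intro g hg
    rw [h𝔮, RingHom.mem_ker.mp hg]; exact q.zero_mem
  rw [LocalizedModule.subsingleton_iff]
  obtain ⟨K₀, hK₀⟩ : ∃ K₀ : Submodule P (KaehlerDifferential A P),
      K₀ = Submodule.span P ((KaehlerDifferential.D A P) ''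
        (RingHom.ker (algebraMap P B) : Set P)) := ⟨_, rfl⟩
  have hN : Submodule.span R' (f '' ((KaehlerDifferential.D A P) ''
        (RingHom.ker (algebraMap P B) : Set P))) = K₀.localized' R' 𝔮.primeCompl f := by
    rw [hK₀, Submodule.localized'_span]
  rw [hN]
  have hmapK₀ : ∀ ω ∈ K₀, KaehlerDifferential.map A A P B ω = 0 := by
    intro ω hω
    rw [hK₀] at hω
    induction hω using Submodule.span_induction with
    | mem x hx =>
      obtain ⟨g, hg, rfl⟩ := hx
      rw [KaehlerDifferential.map_D, RingHom.mem_ker.mp hg, map_zero]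
    | zero => exact map_zero _
    | add x y _ _ hx hy => rw [map_add, hx, hy, add_zero]
    | smul a x _ hx => rw [map_smul, hx, smul_zero]
  constructor
  · intro hloc
    rw [eq_top_iff]
    have hclaim : ∀ x : P, f (KaehlerDifferential.D A P x) ∈
        K₀.localized' R' 𝔮.primeCompl f ⊔
          IsLocalRing.maximalIdeal R' • (⊤ : Submodule R' M') := by
      intro x
      obtain ⟨r, hr, hrx⟩ := hloc (KaehlerDifferential.D A B (algebraMap P B x))
      obtain ⟨s₀, rfl⟩ := h r
      have hs₀ : s₀ ∈ 𝔮.primeCompl := by
        rw [Ideal.mem_primeCompl_iff]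
        intro hmem
        exact (Ideal.mem_primeCompl_iff.mp hr) ((h𝔮 s₀).mp hmem)
      have hmap0 : KaehlerDifferential.map A A P B (s₀ • KaehlerDifferential.D A P x) = 0 := by
        rw [map_smul, KaehlerDifferential.map_D, ← algebraMap_smul B s₀, hrx]
      have hmem := ker_map_le h _ hmap0
      rw [← hK₀] at hmem
      obtain ⟨a, ha, b, hb, hab⟩ := Submodule.mem_sup.mp hmem
      have hfa : f a ∈ IsLocalRing.maximalIdeal R' • (⊤ : Submodule R' M') := by
        refine Submodule.smul_induction_on
          (p := fun a => f a ∈ IsLocalRing.maximalIdeal R' • (⊤ : Submodule R' M')) ha ?_ ?_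
        · intro g hg ω _
          show f (g • ω) ∈ _
          rw [map_smul, ← algebraMap_smul R' g (f ω)]
          refine Submodule.smul_mem_smul ?_ trivial
          exact (IsLocalization.AtPrime.to_map_mem_maximal_iff R' 𝔮 g).mpr (hI𝔮 g hg)
        · intro y z hy hz
          show f (y + z) ∈ _
          rw [map_add]; exact add_mem hy hz
      have hfb : f b ∈ K₀.localized' R' 𝔮.primeCompl f :=
        ⟨b, hb, 1, IsLocalizedModule.mk'_one 𝔮.primeCompl f b⟩
      have hsum : algebraMap P R' s₀ • f (KaehlerDifferential.D A P x) ∈
          K₀.localized' R' 𝔮.primeCompl f ⊔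
            IsLocalRing.maximalIdeal R' • (⊤ : Submodule R' M') := by
        rw [algebraMap_smul, ← f.map_smul, ← hab, map_add, add_comm]
        exact Submodule.add_mem_sup hfb hfa
      have hu : IsUnit (algebraMap P R' s₀) :=
        IsLocalization.map_units R' (⟨s₀, hs₀⟩ : 𝔮.primeCompl)
      exact (Submodule.smul_mem_iff_of_isUnit _ hu).mp hsum
    have hall : ∀ ω : KaehlerDifferential A P, f ω ∈
        K₀.localized' R' 𝔮.primeCompl f ⊔
          IsLocalRing.maximalIdeal R' • (⊤ : Submodule R' M') := by
      intro ω
      have hω : ω ∈ Submodule.span P (Set.range (KaehlerDifferential.D A P)) := by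
        rw [KaehlerDifferential.span_range_derivation]; trivial
      induction hω using Submodule.span_induction with
      | mem y hy => obtain ⟨x, rfl⟩ := hy; exact hclaim x
      | zero => rw [map_zero]; exact zero_mem _
      | add y z _ _ hy hz => rw [map_add]; exact add_mem hy hz
      | smul c y _ hy =>
        rw [map_smul, ← algebraMap_smul R' c (f y)]
        exact Submodule.smul_mem _ _ hy
    apply Submodule.le_of_le_smul_of_le_jacobson_bot (I := IsLocalRing.maximalIdeal R')
      (N' := ⊤)
    · exact Module.Finite.fg_top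
    · exact (IsLocalRing.jacobson_eq_maximalIdeal ⊥ bot_ne_top).ge
    · intro y _
      obtain ⟨⟨ω, s⟩, rfl⟩ := IsLocalizedModule.mk'_surjective 𝔮.primeCompl f y
      have hmk : IsLocalization.mk' R' (1 : P) s • f ω = IsLocalizedModule.mk' f ω s := by
        have := IsLocalizedModule.mk'_smul_mk' R' f (1 : P) ω s 1
        simp only [IsLocalizedModule.mk'_one, one_smul, mul_one] at this
        exact this
      show IsLocalizedModule.mk' f ω s ∈ _
      rw [← hmk]
      exact Submodule.smul_mem _ _ (hall ω)
  · intro htop ω
    have hgen : ∀ x : P, ∃ r ∈ q.primeCompl,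
        r • KaehlerDifferential.D A B (algebraMap P B x) = 0 := by
      intro x
      have hx : f (KaehlerDifferential.D A P x) ∈ K₀.localized' R' 𝔮.primeCompl f := by
        rw [htop]; trivial
      obtain ⟨m, hm, s, hms⟩ := hx
      have h1 : f m = f ((s : P) • KaehlerDifferential.D A P x) := by
        rw [map_smul, ← hms, ← Submonoid.smul_def, IsLocalizedModule.mk'_cancel']
      obtain ⟨u, hu⟩ := (IsLocalizedModule.eq_iff_exists 𝔮.primeCompl f).mp h1
      rw [Submonoid.smul_def, Submonoid.smul_def] at hu
      refine ⟨algebraMap P B ((u : P) * (s : P)), ?_, ?_⟩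
      · rw [Ideal.mem_primeCompl_iff]
        intro hmem
        have := (h𝔮 _).mpr hmem
        exact (Ideal.mem_primeCompl_iff.mp (u * s).2) this
      · have h2 : KaehlerDifferential.map A A P B ((u : P) • m) = 0 := by
          rw [map_smul, hmapK₀ m hm, smul_zero]
        rw [hu, map_smul, map_smul, KaehlerDifferential.map_D] at h2
        rw [map_mul, mul_smul, algebraMap_smul, algebraMap_smul]
        exact h2
    have hω : ω ∈ Submodule.span B (Set.range (KaehlerDifferential.D A B)) := by
      rw [KaehlerDifferential.span_range_derivation]; trivial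
    induction hω using Submodule.span_induction with
    | mem y hy =>
      obtain ⟨b, rfl⟩ := hy
      obtain ⟨x, rfl⟩ := h b
      exact hgen x
    | zero => exact ⟨1, Submonoid.one_mem _, by simp⟩
    | add y z _ _ hy hz =>
      obtain ⟨r, hr, hry⟩ := hy
      obtain ⟨t, ht, htz⟩ := hz
      refine ⟨r * t, Submonoid.mul_mem _ hr ht, ?_⟩
      have e1 : (r * t) • y = 0 := by rw [mul_comm, mul_smul, hry, smul_zero]
      have e2 : (r * t) • z = 0 := by rw [mul_smul, htz, smul_zero]
      rw [smul_add, e1, e2, add_zero]
    | smul a y _ hy =>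
      obtain ⟨r, hr, hry⟩ := hy
      exact ⟨r, hr, by rw [smul_comm, hry, smul_zero]⟩

/-- Let A be a ring, φ a surjection from the polynomial ring P = A[x_1, …, x_n] onto an A-algebra B with
kernel I, q a prime of B and 𝔮 its preimage in P. Then the localization at q of the module of
differentials Ω_{B/A} vanishes if and only if the images of the differentials dg, g ∈ I, span the
localization of Ω_{P/A} at 𝔮 over P_𝔮. (Geometrically: for f locally of finite type, the stalk of
Ω_{X/Y} at x vanishes iff near x the scheme X is a closed subscheme of an affine space over the base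
cut out by an ideal whose germs at the point have differentials generating the stalk of Ω of the
affine space; the published statement also lists the equivalence with f being unramified at x and
with the diagonal being a local isomorphism at x, which this row does not restate. The published
statement asks for one such presentation near the point; this row states the equivalence for every
presentation, which is what the published proof shows and which implies the existential form.) -/
theorem result {A B : Type u} [CommRing A] [CommRing B]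
    [Algebra A B] (n : ℕ) (φ : MvPolynomial (Fin n) A →ₐ[A] B) (hφ : Function.Surjective φ)
    (q : Ideal B) [q.IsPrime] :
    Subsingleton (LocalizedModule q.primeCompl (KaehlerDifferential A B)) ↔
      Submodule.span (Localization.AtPrime (q.comap φ.toRingHom))
        ((LocalizedModule.mkLinearMap (q.comap φ.toRingHom).primeCompl
            (KaehlerDifferential A (MvPolynomial (Fin n) A))) ''
          ((KaehlerDifferential.D A (MvPolynomial (Fin n) A)) '' (RingHom.ker φ.toRingHom : Set (MvPolynomial (Fin n) A)))) = ⊤ := by
  classical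
  letI : Algebra (MvPolynomial (Fin n) A) B := φ.toRingHom.toAlgebra
  haveI : IsScalarTower A (MvPolynomial (Fin n) A) B :=
    IsScalarTower.of_algebraMap_eq (fun x => (φ.commutes x).symm)
  exact core A (MvPolynomial (Fin n) A) B hφ q (q.comap φ.toRingHom) (fun x => Iff.rfl)
    (Localization.AtPrime (q.comap φ.toRingHom))
    (LocalizedModule (q.comap φ.toRingHom).primeCompl
      (KaehlerDifferential A (MvPolynomial (Fin n) A)))
    (LocalizedModule.mkLinearMap (q.comap φ.toRingHom).primeCompl
      (KaehlerDifferential A (MvPolynomial (Fin n) A)))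


end Groth.Agent.S9568
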