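import Groth.Statements.S9571
import Mathlib

set_option autoImplicit false
universe u
open CategoryTheory CategoryTheory.Limits AlgebraicGeometry TopologicalSpace Opposite
open Constr

namespace Groth.Agent.S9571

/-- Let S be a graded ring, X = Proj S and d ≥ 1; let W_d be the union of the opens D_+(ab) over pairs
of homogeneous a, b with deg a = deg b + d (the open over which the twisting sheaves O_X(nd) are
invertible with compatible multiplications). For n ≥ 1 and f homogeneous of degree nd, with s the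
section of O_X(nd) over W_d defined by f, the non-vanishing locus (W_d)_s equals D_+(f) ∩ W_d.
Pointwise: for p in some D_+(ab) as above, p ∈ D_+(f) if and only if the value f/1 of s at p
generates the module of degree-nd fractions at p (the span of the fractions c/t with t ∉ p and deg c
= deg t + nd, over the degree-zero local ring at p). -/
theorem result {R A : Type u} [CommRing R] [CommRing A] [Algebra R A] (𝒜 : ℕ → Submodule R A) [GradedAlgebra 𝒜]
    {d : ℕ} (hd : 0 < d) {i j : ℕ} {a b : A} (ha : a ∈ 𝒜 i) (hb : b ∈ 𝒜 j) (hij : i = j + d)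
    (p : ProjectiveSpectrum 𝒜) (hp : p ∈ ProjectiveSpectrum.basicOpen 𝒜 (a * b))
    {n : ℕ} (hn : 0 < n) (f : 𝒜 (n * d)) :
    p ∈ ProjectiveSpectrum.basicOpen 𝒜 (f : A) ↔
      Submodule.span (Twist.A0 𝒜 p) {(Twist.globalOf 𝒜 f).1 ⟨p, trivial⟩} = ⊤ := by
  have hp' : a * b ∉ p.asHomogeneousIdeal := hp
  have hprime : p.asHomogeneousIdeal.toIdeal.IsPrime := p.isPrime
  obtain ⟨g₀, hg₀⟩ : ∃ g₀ : Twist.twistAt 𝒜 ((n * d : ℕ) : ℤ) p,
      g₀ = (Twist.globalOf 𝒜 f).1 ⟨p, trivial⟩ := ⟨_, rfl⟩
  have hg₀val : (g₀ : Twist.Loc 𝒜 p) = Localization.mk (f : A) 1 := by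
    rw [hg₀]; rfl
  rw [← hg₀]
  constructor
  · intro hf
    have hf' : (f : A) ∉ p.asHomogeneousIdeal := hf
    rw [eq_top_iff]
    rintro ⟨q, hq⟩ -
    have key : ∀ (q : Twist.Loc 𝒜 p) (hq : q ∈ Twist.twistAt 𝒜 ((n * d : ℕ) : ℤ) p),
        (⟨q, hq⟩ : Twist.twistAt 𝒜 ((n * d : ℕ) : ℤ) p) ∈
          Submodule.span (Twist.A0 𝒜 p) {g₀} := by
      intro q hq
      induction hq using Submodule.span_induction with
      | mem q hq =>
        obtain ⟨i', j', a', s, hs, hdeg, rfl⟩ := hq
        have hdeg' : j' + n * d = i' := by exact_mod_cast hdeg.symm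
        have hsf : (s : A) * (f : A) ∈ 𝒜 i' := hdeg' ▸ SetLike.mul_mem_graded s.2 f.2
        have hsfp : (s : A) * (f : A) ∈ p.asHomogeneousIdeal.toIdeal.primeCompl := by
          intro h
          rcases hprime.mem_or_mem h with h1 | h1
          · exact hs h1
          · exact hf' h1
        rw [Submodule.mem_span_singleton]
        refine ⟨HomogeneousLocalization.mk ⟨i', a', ⟨(s : A) * (f : A), hsf⟩, hsfp⟩, ?_⟩
        apply Subtype.ext
        rw [Twist.coe_smul_val, HomogeneousLocalization.val_mk, hg₀val, Localization.mk_mul,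
          Localization.mk_eq_mk_iff, Localization.r_iff_exists]
        refine ⟨1, ?_⟩
        show (1 : A) * ((s : A) * ((a' : A) * (f : A))) = 1 * (((s : A) * (f : A) * 1) * (a' : A))
        ring
      | zero => exact Submodule.zero_mem _
      | add x y hx hy ihx ihy => exact Submodule.add_mem _ ihx ihy
      | smul c x hx ih => exact Submodule.smul_mem _ c ih
    exact key q hq
  · intro htop hf
    have hfp : (f : A) ∈ p.asHomogeneousIdeal.toIdeal := hf
    have han : a ^ n ∈ 𝒜 (n * i) := by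
      have h0 := SetLike.pow_mem_graded n ha
      rwa [smul_eq_mul] at h0
    have hbn : b ^ n ∈ 𝒜 (n * j) := by
      have h0 := SetLike.pow_mem_graded n hb
      rwa [smul_eq_mul] at h0
    have hbp : b ^ n ∈ p.asHomogeneousIdeal.toIdeal.primeCompl := by
      intro h
      have hb' : b ∈ p.asHomogeneousIdeal.toIdeal := hprime.mem_of_pow_mem n h
      exact hp' (Ideal.mul_mem_left _ a hb')
    have hy₀ : Localization.mk (a ^ n) ⟨b ^ n, hbp⟩ ∈ Twist.twistAt 𝒜 ((n * d : ℕ) : ℤ) p := by
      refine Submodule.subset_span ⟨n * i, n * j, ⟨a ^ n, han⟩, ⟨b ^ n, hbn⟩, hbp, ?_, rfl⟩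
      subst hij
      push_cast
      ring
    have hmem : (⟨_, hy₀⟩ : Twist.twistAt 𝒜 ((n * d : ℕ) : ℤ) p) ∈
        Submodule.span (Twist.A0 𝒜 p) {g₀} := by
      rw [htop]; trivial
    rw [Submodule.mem_span_singleton] at hmem
    obtain ⟨c, hc⟩ := hmem
    have hc' := congrArg Subtype.val hc
    rw [Twist.coe_smul_val, hg₀val] at hc'
    have h1 : Localization.mk (f : A) (1 : p.asHomogeneousIdeal.toIdeal.primeCompl) ∈
        IsLocalRing.maximalIdeal (Localization.AtPrime p.asHomogeneousIdeal.toIdeal) := by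
      rw [Localization.mk_eq_mk'_apply]
      exact (IsLocalization.AtPrime.mk'_mem_maximal_iff _ p.asHomogeneousIdeal.toIdeal _ _).mpr hfp
    have h2 : Localization.mk (a ^ n) ⟨b ^ n, hbp⟩ ∈
        IsLocalRing.maximalIdeal (Localization.AtPrime p.asHomogeneousIdeal.toIdeal) := by
      have h3 : (Localization.mk (a ^ n) ⟨b ^ n, hbp⟩ :
          Localization.AtPrime p.asHomogeneousIdeal.toIdeal) = c.val * Localization.mk (f : A) 1 :=
        hc'.symm
      rw [h3]
      exact Ideal.mul_mem_left _ _ h1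
    rw [Localization.mk_eq_mk'_apply] at h2
    have h4 : a ^ n ∈ p.asHomogeneousIdeal.toIdeal :=
      (IsLocalization.AtPrime.mk'_mem_maximal_iff _ p.asHomogeneousIdeal.toIdeal _ _).mp h2
    have h5 : a ∈ p.asHomogeneousIdeal.toIdeal := hprime.mem_of_pow_mem n h4
    exact hp' (Ideal.mul_mem_right _ _ h5)

end Groth.Agent.S9571
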