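import Groth.Statements.S9572
import Groth.Agent.Lib.Helper22.RelProjTN

set_option autoImplicit false
universe u
open CategoryTheory CategoryTheory.Limits AlgebraicGeometry TopologicalSpace Opposite
open Constr

namespace Groth.Agent.S9572

/-- Let ψ : A → B be a homomorphism of graded rings such that A_d → B_d is bijective for all d ≥ d₀. Let
U(ψ) ⊆ Proj B be the union of the opens D_+(ψ f) over homogeneous f of positive degree, and r_ψ :
U(ψ) → Proj A the morphism whose restriction to each chart Spec B_(ψ f) is Spec of the induced map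
A_(f) → B_(ψ f) followed by the chart of Proj A. Then U(ψ) = Proj B and r_ψ is an isomorphism. (Here
r_ψ is any morphism with that chart description; it is unique.) -/
theorem result {R A : Type u} [CommRing R] [CommRing A] [Algebra R A] (𝒜 : ℕ → Submodule R A) [GradedAlgebra 𝒜]
    {B : Type u} [CommRing B] [Algebra R B] (ℬ : ℕ → Submodule R B) [GradedAlgebra ℬ] (ψ : 𝒜 →+*ᵍ ℬ)
    (d₀ : ℕ) (hbij : ∀ d : ℕ, d₀ ≤ d → Set.BijOn ψ (𝒜 d) (ℬ d))
    (r : (PCone.dom ψ : Scheme.{u}) ⟶ Proj 𝒜)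
    (hr : ∀ (d : ℕ) (f : A) (hd : 0 < d) (hf : f ∈ 𝒜 d),
      PCone.chart ψ hf hd ≫ r =
        Spec.map (CommRingCat.ofHom (HomogeneousLocalization.Away.map ψ f)) ≫ Proj.awayι 𝒜 f hf hd) :
    PCone.dom ψ = ⊤ ∧ IsIso r := by
  have hsurj : ∀ k, d₀ ≤ k → ∀ y ∈ ℬ k, ∃ x ∈ 𝒜 k, ψ x = y :=
    fun k hk y hy => (hbij k hk).surjOn hy
  have hinj : ∀ k, d₀ ≤ k → ∀ x ∈ 𝒜 k, ψ x = 0 → x = 0 := fun k hk x hx h0 =>
    (hbij k hk).injOn hx (zero_mem _) (by rw [h0, map_zero])
  have hdom : ∀ z : Proj ℬ, ∃ (e : ℕ) (_ : 0 < e) (a : A) (_ : a ∈ 𝒜 e),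
      z ∈ Proj.basicOpen ℬ (ψ a) :=
    fun z => Groth.Agent.Helper22.RelProjTN.exists_of_TN ψ d₀ hsurj z
  have htop : PCone.dom ψ = ⊤ := by
    rw [eq_top_iff]
    rintro z -
    obtain ⟨e, he, a, ha, hz⟩ := hdom z
    exact Opens.mem_iSup.mpr ⟨⟨a, e, he, ha⟩, hz⟩
  refine ⟨htop, ?_⟩
  have hchι : ∀ {d : ℕ} {f : A} (hf : f ∈ 𝒜 d) (hd : 0 < d),
      PCone.chart ψ hf hd ≫ (PCone.dom ψ).ι =
        Proj.awayι ℬ (ψ f) (GradedFunLike.map_mem ψ hf) hd :=
    fun hf hd => IsOpenImmersion.lift_fac _ _ _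
  have hchpt : ∀ {d : ℕ} {f : A} (hf : f ∈ 𝒜 d) (hd : 0 < d)
      (z' : Spec (CommRingCat.of (HomogeneousLocalization.Away ℬ (ψ f))))
      (x : (PCone.dom ψ : Scheme.{u})),
      (Proj.awayι ℬ (ψ f) (GradedFunLike.map_mem ψ hf) hd).base z' = (PCone.dom ψ).ι.base x →
        (PCone.chart ψ hf hd).base z' = x := by
    intro d f hf hd z' x hx
    apply (PCone.dom ψ).ι.isOpenEmbedding.injective
    have h1 : (PCone.dom ψ).ι.base ((PCone.chart ψ hf hd).base z') =
        (Proj.awayι ℬ (ψ f) (GradedFunLike.map_mem ψ hf) hd).base z' :=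
      congrArg (fun t => t.base z') (hchι hf hd)
    rw [h1]
    exact hx
  have hchimm : ∀ {d : ℕ} {f : A} (hf : f ∈ 𝒜 d) (hd : 0 < d),
      IsOpenImmersion (PCone.chart ψ hf hd) := by
    intro d f hf hd
    have : IsOpenImmersion (PCone.chart ψ hf hd ≫ (PCone.dom ψ).ι) := by
      rw [hchι hf hd]
      infer_instance
    exact IsOpenImmersion.of_comp _ (PCone.dom ψ).ι
  show MorphismProperty.isomorphisms Scheme.{u} r
  apply IsZariskiLocalAtTarget.of_forall_exists_morphismRestrict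
  intro w
  obtain ⟨f, d, hd, hf, hw0⟩ := Groth.Agent.Helper22.ProjIrr.exists_mem_basicOpen 𝒜 w
  have hwW : w ∈ (Proj.awayι 𝒜 f hf hd).opensRange :=
    (Proj.opensRange_awayι 𝒜 f hf hd).ge hw0
  refine ⟨(Proj.awayι 𝒜 f hf hd).opensRange, hwW, ?_⟩
  haveI := hchimm hf hd
  have hpre : r ⁻¹ᵁ (Proj.awayι 𝒜 f hf hd).opensRange = (PCone.chart ψ hf hd).opensRange := by
    apply le_antisymm
    · intro x hx
      have hxf : r.base x ∈ Proj.basicOpen 𝒜 f := (Proj.opensRange_awayι 𝒜 f hf hd).le hx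
      obtain ⟨e, he, a, ha, hza⟩ := hdom ((PCone.dom ψ).ι.base x)
      obtain ⟨z', hz'⟩ := (Proj.opensRange_awayι ℬ _ (GradedFunLike.map_mem ψ ha) he).ge hza
      have hxl := hchpt ha he z' x hz'
      have hx2 : r.base x = (Proj.awayι 𝒜 a ha he).base
          ((Spec.map (CommRingCat.ofHom (HomogeneousLocalization.Away.map ψ a))).base z') := by
        have := congrArg (fun t => t.base z') (hr e a he ha)
        rw [← hxl]
        exact this
      rw [hx2] at hxf
      have hzf : (PCone.dom ψ).ι.base x ∈ Proj.basicOpen ℬ (ψ f) := by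
        rw [← hz']
        exact (Groth.Agent.Helper22.RelProjTN.awayι_map_mem_basicOpen_iff ψ he hd ha hf z').mp hxf
      obtain ⟨z'', hz''⟩ := (Proj.opensRange_awayι ℬ _ (GradedFunLike.map_mem ψ hf) hd).ge hzf
      exact ⟨z'', hchpt hf hd z'' x hz''⟩
    · rintro _ ⟨z', rfl⟩
      have := congrArg (fun t => t.base z') (hr d f hd hf)
      exact ⟨(Spec.map (CommRingCat.ofHom (HomogeneousLocalization.Away.map ψ f))).base z',
        this.symm⟩
  let e1 := IsOpenImmersion.isoOfRangeEq (PCone.chart ψ hf hd)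
    (r ⁻¹ᵁ (Proj.awayι 𝒜 f hf hd).opensRange).ι (by rw [Scheme.Opens.range_ι, hpre]; rfl)
  let e2 := (Proj.awayι 𝒜 f hf hd).isoOpensRange
  have hsq : e1.hom ≫ (r ∣_ (Proj.awayι 𝒜 f hf hd).opensRange) =
      Spec.map (CommRingCat.ofHom (HomogeneousLocalization.Away.map ψ f)) ≫ e2.hom := by
    rw [← cancel_mono (Scheme.Opens.ι _), Category.assoc, Category.assoc, morphismRestrict_ι,
      ← Category.assoc e1.hom, IsOpenImmersion.isoOfRangeEq_hom_fac,
      Scheme.Hom.isoOpensRange_hom_ι, hr d f hd hf]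
  have hrr : (r ∣_ (Proj.awayι 𝒜 f hf hd).opensRange) =
      e1.inv ≫ Spec.map (CommRingCat.ofHom (HomogeneousLocalization.Away.map ψ f)) ≫ e2.hom := by
    rw [Iso.eq_inv_comp]
    exact hsq
  rw [hrr, (MorphismProperty.isomorphisms Scheme.{u}).cancel_left_of_respectsIso,
    (MorphismProperty.isomorphisms Scheme.{u}).cancel_right_of_respectsIso]
  have hbij' : Function.Bijective (HomogeneousLocalization.Away.map ψ f) :=
    ⟨Groth.Agent.Helper22.RelProjTN.away_map_injective ψ d₀ hinj hd hf,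
      Groth.Agent.Helper22.RelProjTN.away_map_surjective ψ d₀ hsurj hd hf⟩
  haveI : IsIso (CommRingCat.ofHom (HomogeneousLocalization.Away.map ψ f)) :=
    (ConcreteCategory.isIso_iff_bijective _).mpr hbij'
  show IsIso (Spec.map (CommRingCat.ofHom (HomogeneousLocalization.Away.map ψ f)))
  infer_instance

end Groth.Agent.S9572
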