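import Groth.Statements.S9576
import Mathlib

set_option autoImplicit false
universe u
open CategoryTheory CategoryTheory.Limits AlgebraicGeometry TopologicalSpace Opposite
open Constr

namespace Groth.Agent.S9576

open MvPolynomial

private lemma adjoin_X (n : ℕ) (R : Type u) [CommRing R] :
    Algebra.adjoin (CohB1.polyGrading n R 0)
      (Set.range (fun i : Fin (n + 1) => (X i : MvPolynomial (Fin (n + 1)) R))) = ⊤ := by
  rw [eq_top_iff]
  rintro p -
  induction p using MvPolynomial.induction_on with
  | C a =>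
    have : (C a : MvPolynomial (Fin (n + 1)) R) =
        algebraMap (CohB1.polyGrading n R 0) (MvPolynomial (Fin (n + 1)) R)
          ⟨C a, isHomogeneous_C _ a⟩ := rfl
    rw [this]
    exact Subalgebra.algebraMap_mem _ _
  | add p q hp hq => exact add_mem hp hq
  | mul_X p i hp => exact mul_mem hp (Algebra.subset_adjoin ⟨i, rfl⟩)

private noncomputable def ev (n : ℕ) (R : Type u) [CommRing R] (i : Fin (n + 1)) :
    MvPolynomial (Fin (n + 1)) R →+* MvPolynomial {j : Fin (n + 1) // j ≠ i} R :=
  MvPolynomial.eval₂Hom MvPolynomial.C (fun j => if h : j = i then 1 else X ⟨j, h⟩)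

private lemma ev_C (n : ℕ) (R : Type u) [CommRing R] (i : Fin (n + 1)) (r : R) :
    ev n R i (C r) = C r := MvPolynomial.eval₂Hom_C _ _ r

private lemma ev_X_self (n : ℕ) (R : Type u) [CommRing R] (i : Fin (n + 1)) :
    ev n R i (X i) = 1 := by
  unfold ev
  rw [MvPolynomial.eval₂Hom_X', dif_pos rfl]

private lemma ev_X_ne (n : ℕ) (R : Type u) [CommRing R] (i j : Fin (n + 1)) (h : j ≠ i) :
    ev n R i (X j) = X ⟨j, h⟩ := by
  unfold ev
  rw [MvPolynomial.eval₂Hom_X', dif_neg h]

private lemma bij (n : ℕ) (R : Type u) [CommRing R] (i : Fin (n + 1))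
    (Φ : MvPolynomial {j : Fin (n + 1) // j ≠ i} R →+*
      HomogeneousLocalization.Away (CohB1.polyGrading n R)
        (X i : MvPolynomial (Fin (n + 1)) R))
    (hΦC : ∀ r, Φ (C r) = HomogeneousLocalization.fromZeroRingHom (CohB1.polyGrading n R)
      (Submonoid.powers (X i)) (algebraMap R (CohB1.polyGrading n R 0) r))
    (hΦX : ∀ j : {j : Fin (n + 1) // j ≠ i}, Φ (X j) =
      (HomogeneousLocalization.mk ⟨1, ⟨X j.1, isHomogeneous_X R j.1⟩,
        ⟨X i, isHomogeneous_X R i⟩, ⟨1, pow_one _⟩⟩ :
        HomogeneousLocalization.Away (CohB1.polyGrading n R)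
          (X i : MvPolynomial (Fin (n + 1)) R))) :
    Function.Bijective Φ := by
  classical
  have hvC : ∀ r, (Φ (C r)).val =
      algebraMap (MvPolynomial (Fin (n + 1)) R)
        (Localization (Submonoid.powers (X i : MvPolynomial (Fin (n + 1)) R))) (C r) := by
    intro r
    rw [hΦC, ← Localization.mk_one_eq_algebraMap]
    rfl
  have hvX : ∀ j : {j : Fin (n + 1) // j ≠ i}, (Φ (X j)).val =
      Localization.mk (X j.1 : MvPolynomial (Fin (n + 1)) R)
        (⟨X i, ⟨1, pow_one _⟩⟩ : Submonoid.powers (X i : MvPolynomial (Fin (n + 1)) R)) := by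
    intro j
    rw [hΦX]
    rfl
  have hspec : ∀ j : Fin (n + 1),
      Localization.mk (X j : MvPolynomial (Fin (n + 1)) R)
        (⟨X i, ⟨1, pow_one _⟩⟩ : Submonoid.powers (X i : MvPolynomial (Fin (n + 1)) R)) *
        algebraMap (MvPolynomial (Fin (n + 1)) R)
          (Localization (Submonoid.powers (X i : MvPolynomial (Fin (n + 1)) R))) (X i) =
      algebraMap (MvPolynomial (Fin (n + 1)) R)
          (Localization (Submonoid.powers (X i : MvPolynomial (Fin (n + 1)) R))) (X j) := by
    intro j
    rw [Localization.mk_eq_mk'_apply]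
    exact IsLocalization.mk'_spec _ _ _
  have hunit : IsUnit (ev n R i (X i)) := by rw [ev_X_self]; exact isUnit_one
  obtain ⟨Ψ₀, hΨ₀⟩ : ∃ Ψ₀ : Localization (Submonoid.powers (X i : MvPolynomial (Fin (n + 1)) R))
      →+* MvPolynomial {j : Fin (n + 1) // j ≠ i} R,
      ∀ a, Ψ₀ (algebraMap _ _ a) = ev n R i a :=
    ⟨IsLocalization.Away.lift (X i) hunit, fun a => IsLocalization.Away.lift_eq _ _ a⟩
  constructor
  · -- injective
    have hΨΦ : ∀ p, Ψ₀ ((Φ p).val) = p := by
      intro p
      have h1 : (Ψ₀.comp ((algebraMap (HomogeneousLocalization.Away (CohB1.polyGrading n R)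
          (X i : MvPolynomial (Fin (n + 1)) R)) _).comp Φ)) = RingHom.id _ := by
        apply MvPolynomial.ringHom_ext
        · intro r
          show Ψ₀ ((Φ (C r)).val) = C r
          rw [hvC, hΨ₀, ev_C]
        · intro j
          show Ψ₀ ((Φ (X j)).val) = X j
          rw [hvX]
          have := congrArg Ψ₀ (hspec j.1)
          rw [map_mul, hΨ₀, hΨ₀, ev_X_self, mul_one, ev_X_ne n R i j.1 j.2] at this
          exact this
      exact RingHom.congr_fun h1 p
    intro p q hpq
    rw [← hΨΦ p, ← hΨΦ q, hpq]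
  · -- surjective
    have hspan := HomogeneousLocalization.Away.span_mk_prod_pow_eq_top
      (𝒜 := CohB1.polyGrading n R) (f := (X i : MvPolynomial (Fin (n + 1)) R)) (d := 1)
      (isHomogeneous_X R i)
      (fun j : Fin (n + 1) => (X j : MvPolynomial (Fin (n + 1)) R)) (adjoin_X n R)
      (fun _ => 1) (fun j => isHomogeneous_X R j)
    intro x
    have hx : x ∈ (⊤ : Submodule (CohB1.polyGrading n R 0)
        (HomogeneousLocalization.Away (CohB1.polyGrading n R)
          (X i : MvPolynomial (Fin (n + 1)) R))) := trivial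
    rw [← hspan] at hx
    induction hx using Submodule.span_induction with
    | mem y hy =>
      obtain ⟨a, ai, hai, rfl⟩ := hy
      refine ⟨∏ j : {j : Fin (n + 1) // j ≠ i}, X j ^ ai j.1, ?_⟩
      apply HomogeneousLocalization.val_injective
      have hsum : ∑ j, ai j = a := by simpa using hai
      have hsum' : a = ai i + ∑ j : {j : Fin (n + 1) // j ≠ i}, ai j.1 := by
        rw [← hsum, Fintype.sum_eq_add_sum_subtype_ne ai i]
      obtain ⟨u, hu⟩ : ∃ u : Localization (Submonoid.powers
          (X i : MvPolynomial (Fin (n + 1)) R)), u = algebraMap (MvPolynomial (Fin (n + 1)) R)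
            (Localization (Submonoid.powers (X i : MvPolynomial (Fin (n + 1)) R))) (X i) :=
        ⟨_, rfl⟩
      have hm : ∀ j : {j : Fin (n + 1) // j ≠ i}, (Φ (X j)).val * u =
          algebraMap (MvPolynomial (Fin (n + 1)) R)
            (Localization (Submonoid.powers (X i : MvPolynomial (Fin (n + 1)) R))) (X j.1) := by
        intro j; rw [hvX, hu]; exact hspec j.1
      have hL : (Φ (∏ j : {j : Fin (n + 1) // j ≠ i}, X j ^ ai j.1)).val =
          ∏ j : {j : Fin (n + 1) // j ≠ i}, ((Φ (X j)).val) ^ ai j.1 := by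
        have := map_prod ((algebraMap (HomogeneousLocalization.Away (CohB1.polyGrading n R)
          (X i : MvPolynomial (Fin (n + 1)) R))
          (Localization (Submonoid.powers (X i : MvPolynomial (Fin (n + 1)) R)))).comp Φ)
          (fun j : {j : Fin (n + 1) // j ≠ i} =>
            (X j : MvPolynomial {j : Fin (n + 1) // j ≠ i} R) ^ ai j.1) Finset.univ
        simp only [RingHom.comp_apply, map_pow, HomogeneousLocalization.algebraMap_apply] at this
        exact this
      rw [hL, HomogeneousLocalization.Away.val_mk, Localization.mk_eq_mk'_apply,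
        IsLocalization.eq_mk'_iff_mul_eq]
      show (∏ j : {j : Fin (n + 1) // j ≠ i}, ((Φ (X j)).val) ^ ai j.1) *
          algebraMap _ _ (X i ^ a) = algebraMap _ _ (∏ j, X j ^ ai j)
      rw [map_pow, ← hu]
      calc (∏ j : {j : Fin (n + 1) // j ≠ i}, ((Φ (X j)).val) ^ ai j.1) * u ^ a
          = (∏ j : {j : Fin (n + 1) // j ≠ i}, ((Φ (X j)).val) ^ ai j.1) *
              (u ^ ai i * ∏ j : {j : Fin (n + 1) // j ≠ i}, u ^ ai j.1) := by
            rw [Finset.prod_pow_eq_pow_sum, ← pow_add, ← hsum']
        _ = u ^ ai i * ∏ j : {j : Fin (n + 1) // j ≠ i}, ((Φ (X j)).val * u) ^ ai j.1 := by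
            simp only [mul_pow, Finset.prod_mul_distrib]; ring
        _ = u ^ ai i * ∏ j : {j : Fin (n + 1) // j ≠ i},
              (algebraMap (MvPolynomial (Fin (n + 1)) R)
                (Localization (Submonoid.powers (X i : MvPolynomial (Fin (n + 1)) R)))
                (X j.1)) ^ ai j.1 := by
            simp only [hm]
        _ = algebraMap _ _ (∏ j, X j ^ ai j) := by
            rw [map_prod, Fintype.prod_eq_mul_prod_subtype_ne _ i]
            simp only [map_pow, hu]
    | zero => exact ⟨0, map_zero _⟩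
    | add y z _ _ hy hz =>
      obtain ⟨p, rfl⟩ := hy
      obtain ⟨q, rfl⟩ := hz
      exact ⟨p + q, map_add _ _ _⟩
    | smul c y _ hy =>
      obtain ⟨p, rfl⟩ := hy
      have hc : (c : MvPolynomial (Fin (n + 1)) R) ∈
          (1 : Submodule R (MvPolynomial (Fin (n + 1)) R)) := by
        rw [← MvPolynomial.homogeneousSubmodule_zero]; exact c.2
      obtain ⟨r, hr⟩ := Submodule.mem_one.mp hc
      refine ⟨C r * p, ?_⟩
      rw [map_mul, hΦC, Algebra.smul_def, HomogeneousLocalization.algebraMap_eq]
      congr 2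
      exact Subtype.ext hr

/-- For a ring R and n ≥ 0, projective n-space Proj R[T_0, …, T_n] is covered by the n + 1 standard
opens D_+(T_i), and each D_+(T_i) = Spec R[T_0, …, T_n]_(T_i) is an affine n-space: the ring
homomorphism from the polynomial ring over R in the variables T_j, j ≠ i, to the degree-zero
localization R[T_0, …, T_n]_(T_i), sending T_j to T_j/T_i and a constant r to r/1, is bijective.
(The published statement is over ℤ; this row is over any ring R.) -/
theorem result (n : ℕ) (R : Type u) [CommRing R] :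
    (⨆ i : Fin (n + 1), Proj.basicOpen (CohB1.polyGrading n R) (MvPolynomial.X i)) = ⊤ ∧
      ∀ i : Fin (n + 1), Function.Bijective
        (MvPolynomial.eval₂Hom
          ((HomogeneousLocalization.fromZeroRingHom (CohB1.polyGrading n R) (Submonoid.powers (MvPolynomial.X i))).comp
            (algebraMap R (CohB1.polyGrading n R 0)))
          (fun j : {j : Fin (n + 1) // j ≠ i} =>
            (HomogeneousLocalization.mk ⟨1, ⟨MvPolynomial.X j.1, MvPolynomial.isHomogeneous_X R j.1⟩,
              ⟨MvPolynomial.X i, MvPolynomial.isHomogeneous_X R i⟩, ⟨1, pow_one _⟩⟩ :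
              HomogeneousLocalization.Away (CohB1.polyGrading n R) (MvPolynomial.X i)))) := by
  refine ⟨?_, fun i => ?_⟩
  · exact Proj.iSup_basicOpen_eq_top' (CohB1.polyGrading n R)
      (fun i : Fin (n + 1) => (MvPolynomial.X i : MvPolynomial (Fin (n + 1)) R))
      (fun i => ⟨1, MvPolynomial.isHomogeneous_X R i⟩) (adjoin_X n R)
  · exact bij n R i _ (fun r => MvPolynomial.eval₂Hom_C _ _ r)
      (fun j => MvPolynomial.eval₂Hom_X' _ _ j)


end Groth.Agent.S9576
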