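import Groth.Statements.S9578
import Mathlib
import Groth.Agent.S12453
import Groth.Agent.S4400

set_option autoImplicit false
universe u
open CategoryTheory CategoryTheory.Limits AlgebraicGeometry TopologicalSpace Opposite
open Constr

namespace Groth.Agent.S9578


open CategoryTheory CategoryTheory.Limits AlgebraicGeometry TopologicalSpace Opposite TensorProduct
open Groth.Agent.S9575 (gsec)

section Aux

theorem RL {X : Scheme.{u}} (P : X.PresheafOfModules) (G : X.Modules) (μ : P ⟶ G.val)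
    (W : X.Opens)
    (hLI : Presheaf.IsLocallyInjective (Opens.grothendieckTopology W)
      (Functor.whiskerLeft W.ι.opensFunctor.op ((PresheafOfModules.toPresheaf _).map μ)))
    (hLS : Presheaf.IsLocallySurjective (Opens.grothendieckTopology W)
      (Functor.whiskerLeft W.ι.opensFunctor.op ((PresheafOfModules.toPresheaf _).map μ))) :
    Nonempty (((CohB1.sheafifyMod X).obj P).restrict W.ι ≅ G.restrict W.ι) := by
  let adj := PresheafOfModules.sheafificationAdjunction.{u, u, u, u} (R := X.ringCatSheaf)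
    (𝟙 X.ringCatSheaf.obj)
  let φ : (CohB1.sheafifyMod X).obj P ⟶ G := (adj.homEquiv P G).symm μ
  have hfac : adj.unit.app P ≫ (SheafOfModules.forget _).map φ = μ := by
    have := (adj.homEquiv P G).apply_symm_apply μ
    rwa [Adjunction.homEquiv_unit] at this
  let η' := (PresheafOfModules.toPresheaf _).map (adj.unit.app P)
  let φ' := (PresheafOfModules.toPresheaf _).map ((SheafOfModules.forget _).map φ)
  have hfac' : η' ≫ φ' = (PresheafOfModules.toPresheaf _).map μ :=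
    ((PresheafOfModules.toPresheaf _).map_comp (adj.unit.app P)
      ((SheafOfModules.forget _).map φ)).symm.trans
      (congrArg (fun m => (PresheafOfModules.toPresheaf _).map m) hfac)
  haveI h1 : Presheaf.IsLocallySurjective (Opens.grothendieckTopology X) η' :=
    (inferInstance : Presheaf.IsLocallySurjective (Opens.grothendieckTopology X)
      (CategoryTheory.toSheafify (Opens.grothendieckTopology X) P.presheaf))
  haveI h3 := Presheaf.isLocallySurjective_whisker (Opens.grothendieckTopology W)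
    (Opens.grothendieckTopology X) W.ι.opensFunctor η'
  have hfacW : Functor.whiskerLeft W.ι.opensFunctor.op η' ≫
      Functor.whiskerLeft W.ι.opensFunctor.op φ' =
      Functor.whiskerLeft W.ι.opensFunctor.op ((PresheafOfModules.toPresheaf _).map μ) :=
    (Functor.whiskerLeft_comp _ _ _).symm.trans
      (congrArg (fun m => Functor.whiskerLeft W.ι.opensFunctor.op m) hfac')
  have hLS' : Presheaf.IsLocallySurjective (Opens.grothendieckTopology W)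
      (Functor.whiskerLeft W.ι.opensFunctor.op η' ≫
        Functor.whiskerLeft W.ι.opensFunctor.op φ') := by
    rw [hfacW]; exact hLS
  have hLI' : Presheaf.IsLocallyInjective (Opens.grothendieckTopology W)
      (Functor.whiskerLeft W.ι.opensFunctor.op η' ≫
        Functor.whiskerLeft W.ι.opensFunctor.op φ') := by
    rw [hfacW]; exact hLI
  haveI := hLS'
  haveI := hLI'
  have h5 : Presheaf.IsLocallySurjective (Opens.grothendieckTopology W)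
      (Functor.whiskerLeft W.ι.opensFunctor.op φ') :=
    Presheaf.isLocallySurjective_of_isLocallySurjective _
      (Functor.whiskerLeft W.ι.opensFunctor.op η') (Functor.whiskerLeft W.ι.opensFunctor.op φ')
  have h6 : Presheaf.IsLocallyInjective (Opens.grothendieckTopology W)
      (Functor.whiskerLeft W.ι.opensFunctor.op φ') :=
    Presheaf.isLocallyInjective_of_isLocallyInjective_of_isLocallySurjective _
      (Functor.whiskerLeft W.ι.opensFunctor.op η') (Functor.whiskerLeft W.ι.opensFunctor.op φ')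
  let ψ := (SheafOfModules.toSheaf.{u} W.toScheme.ringCatSheaf).map
    ((Scheme.Modules.restrictFunctor W.ι).map φ)
  have h7 : IsIso ψ := (Sheaf.isLocallyBijective_iff_isIso ψ).mp ⟨h6, h5⟩
  have h8 : IsIso ((Scheme.Modules.toPresheaf W.toScheme).map
      ((Scheme.Modules.restrictFunctor W.ι).map φ)) :=
    (inferInstance : IsIso ((sheafToPresheaf _ _).map ψ))
  have h9 : IsIso ((Scheme.Modules.restrictFunctor W.ι).map φ) :=
    isIso_of_reflects_iso _ (Scheme.Modules.toPresheaf W.toScheme)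
  exact ⟨asIso ((Scheme.Modules.restrictFunctor W.ι).map φ)⟩

variable {R A : Type u} [CommRing R] [CommRing A] [Algebra R A]
  (𝒜 : ℕ → Submodule R A) [GradedAlgebra 𝒜]
  {M : Type u} [AddCommGroup M] [Module R M] [Module A M] (ℳ : ℕ → Submodule R M)
  [SetLike.GradedSMul 𝒜 ℳ]

theorem mulG_bij3 (n : ℤ) (i j : ℕ) (u v : A) (hu : u ∈ 𝒜 i) (hv : v ∈ 𝒜 j)
    (hm : (i : ℤ) = j + n) (V : Opens (ProjectiveSpectrum.top 𝒜))
    (hV : ∀ x : V, u ∉ x.1.asHomogeneousIdeal ∧ v ∉ x.1.asHomogeneousIdeal) :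
    Function.Bijective (fun σ : GrTilde.sect 𝒜 ℳ 0 (op V) =>
      Groth.Agent.S4400.smulSec 𝒜 ℳ n 0 n (add_zero n).symm (op V)
        (gsec 𝒜 n i j u v hu hv hm V hV) σ) := by
  have hm' : (j : ℤ) = i + (-n) := by linarith
  have hV' : ∀ x : V, v ∉ x.1.asHomogeneousIdeal ∧ u ∉ x.1.asHomogeneousIdeal :=
    fun x => ⟨(hV x).2, (hV x).1⟩
  have h1 : ∀ x : V, ((gsec 𝒜 (-n) j i v u hv hu hm' V hV').1 x).1 *
      ((gsec 𝒜 n i j u v hu hv hm V hV).1 x).1 = 1 := fun x =>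
    Groth.Agent.S1614.mk_mul_mk_swap _ ⟨v, (hV x).2⟩ ⟨u, (hV x).1⟩
  refine Function.bijective_iff_has_inverse.mpr
    ⟨fun τ => Groth.Agent.S4400.smulSec 𝒜 ℳ (-n) n 0 (neg_add_cancel n).symm (op V)
      (gsec 𝒜 (-n) j i v u hv hu hm' V hV') τ, ?_, ?_⟩
  · intro σ
    refine Subtype.ext (funext fun x => Subtype.ext ?_)
    show ((gsec 𝒜 (-n) j i v u hv hu hm' V hV').1 x).1 •
      (((gsec 𝒜 n i j u v hu hv hm V hV).1 x).1 • (σ.1 x).1) = (σ.1 x).1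
    rw [← mul_smul, h1 x, one_smul]
  · intro τ
    refine Subtype.ext (funext fun x => Subtype.ext ?_)
    show ((gsec 𝒜 n i j u v hu hv hm V hV).1 x).1 •
      (((gsec 𝒜 (-n) j i v u hv hu hm' V hV').1 x).1 • (τ.1 x).1) = (τ.1 x).1
    rw [← mul_smul, mul_comm, h1 x, one_smul]

theorem tform4 (n : ℤ) (i j : ℕ) (u v : A) (hu : u ∈ 𝒜 i) (hv : v ∈ 𝒜 j)
    (hm : (i : ℤ) = j + n) (V : Opens (ProjectiveSpectrum.top 𝒜))
    (hV : ∀ x : V, u ∉ x.1.asHomogeneousIdeal ∧ v ∉ x.1.asHomogeneousIdeal)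
    (z : TensorProduct (Twist.O (𝒜 := 𝒜) (op V)) (GrTilde.sect 𝒜 ℳ 0 (op V))
      (Twist.sectN (𝒜 := 𝒜) n (op V))) : ∃ σ : GrTilde.sect 𝒜 ℳ 0 (op V),
      z = σ ⊗ₜ[Twist.O (𝒜 := 𝒜) (op V)] (gsec 𝒜 n i j u v hu hv hm V hV) := by
  induction z using TensorProduct.induction_on with
  | zero => exact ⟨0, (TensorProduct.zero_tmul _ _).symm⟩
  | tmul σ t =>
    obtain ⟨r, hr⟩ := (Groth.Agent.S9575.bij_core 𝒜 n i j u v hu hv hm V hV).2 t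
    have hr' : r • gsec 𝒜 n i j u v hu hv hm V hV = t := hr
    refine ⟨r • σ, ?_⟩
    rw [← hr']
    exact (TensorProduct.smul_tmul r σ _).symm
  | add z z' hz hz' =>
    obtain ⟨σ, rfl⟩ := hz
    obtain ⟨σ', rfl⟩ := hz'
    exact ⟨σ + σ', (TensorProduct.add_tmul σ σ' _).symm⟩

theorem mulLin2_inj4 (n : ℤ) (i j : ℕ) (u v : A) (hu : u ∈ 𝒜 i) (hv : v ∈ 𝒜 j)
    (hm : (i : ℤ) = j + n) (V : Opens (ProjectiveSpectrum.top 𝒜))
    (hV : ∀ x : V, u ∉ x.1.asHomogeneousIdeal ∧ v ∉ x.1.asHomogeneousIdeal) :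
    Function.Injective (Groth.Agent.S4400.mulLin2 𝒜 ℳ n (op V)) := by
  intro z z' h
  obtain ⟨σ, hσ⟩ := tform4 𝒜 ℳ n i j u v hu hv hm V hV z
  obtain ⟨σ', hσ'⟩ := tform4 𝒜 ℳ n i j u v hu hv hm V hV z'
  have h' : Groth.Agent.S4400.smulSec 𝒜 ℳ n 0 n (add_zero n).symm (op V)
      (gsec 𝒜 n i j u v hu hv hm V hV) σ =
      Groth.Agent.S4400.smulSec 𝒜 ℳ n 0 n (add_zero n).symm (op V)
        (gsec 𝒜 n i j u v hu hv hm V hV) σ' :=
    (Groth.Agent.S4400.mulLin2_tmul 𝒜 ℳ n (op V) σ _).symm.trans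
      ((congrArg (Groth.Agent.S4400.mulLin2 𝒜 ℳ n (op V)) hσ.symm).trans
        (h.trans ((congrArg (Groth.Agent.S4400.mulLin2 𝒜 ℳ n (op V)) hσ').trans
          (Groth.Agent.S4400.mulLin2_tmul 𝒜 ℳ n (op V) σ' _))))
  have hσσ : σ = σ' := (mulG_bij3 𝒜 ℳ n i j u v hu hv hm V hV).1 h'
  subst hσσ
  exact hσ.trans hσ'.symm

theorem mulLin2_surj4 (n : ℤ) (i j : ℕ) (u v : A) (hu : u ∈ 𝒜 i) (hv : v ∈ 𝒜 j)
    (hm : (i : ℤ) = j + n) (V : Opens (ProjectiveSpectrum.top 𝒜))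
    (hV : ∀ x : V, u ∉ x.1.asHomogeneousIdeal ∧ v ∉ x.1.asHomogeneousIdeal) :
    Function.Surjective (Groth.Agent.S4400.mulLin2 𝒜 ℳ n (op V)) := by
  intro τ
  obtain ⟨σ, hσ⟩ := (mulG_bij3 𝒜 ℳ n i j u v hu hv hm V hV).2 τ
  exact ⟨σ ⊗ₜ[Twist.O (𝒜 := 𝒜) (op V)] (gsec 𝒜 n i j u v hu hv hm V hV),
    (Groth.Agent.S4400.mulLin2_tmul 𝒜 ℳ n (op V) σ _).trans hσ⟩

theorem wLocSurj (n : ℤ) (W : (Proj 𝒜).Opens)
    (hcov : ∀ y : Proj 𝒜, y ∈ W → ∃ (i j : ℕ) (u v : A), u ∈ 𝒜 i ∧ v ∈ 𝒜 j ∧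
      (i : ℤ) = j + n ∧ u ∉ y.asHomogeneousIdeal ∧ v ∉ y.asHomogeneousIdeal) :
    Presheaf.IsLocallySurjective (Opens.grothendieckTopology W)
      (Functor.whiskerLeft W.ι.opensFunctor.op
        ((PresheafOfModules.toPresheaf _).map (Groth.Agent.S4400.mu2' 𝒜 ℳ n))) := by
  constructor
  intro V s
  rw [Opens.mem_grothendieckTopology]
  intro x hxV
  have hxW : (W.ι x) ∈ W := x.2
  obtain ⟨i, j, u, v, hu, hv, hm, hux, hvx⟩ := hcov (W.ι x) hxW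
  have hle : W.ι ⁻¹ᵁ ((W.ι ''ᵁ V) ⊓ (Proj.basicOpen 𝒜 u ⊓ Proj.basicOpen 𝒜 v)) ≤ V := by
    intro y hy
    obtain ⟨y', hy'V, hy'⟩ := (show W.ι y ∈ (W.ι ''ᵁ V) ⊓ (Proj.basicOpen 𝒜 u ⊓ Proj.basicOpen 𝒜 v) from hy).1
    have hyy : y' = y := W.ι.isOpenEmbedding.injective hy'
    rw [← hyy]; exact hy'V
  have hle2 : W.ι ''ᵁ (W.ι ⁻¹ᵁ ((W.ι ''ᵁ V) ⊓ (Proj.basicOpen 𝒜 u ⊓ Proj.basicOpen 𝒜 v))) ≤ W.ι ''ᵁ V := by
    rintro _ ⟨y', hy', rfl⟩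
    exact (show W.ι y' ∈ (W.ι ''ᵁ V) ⊓ (Proj.basicOpen 𝒜 u ⊓ Proj.basicOpen 𝒜 v) from hy').1
  have hV : ∀ y : (W.ι ''ᵁ (W.ι ⁻¹ᵁ ((W.ι ''ᵁ V) ⊓ (Proj.basicOpen 𝒜 u ⊓ Proj.basicOpen 𝒜 v))) : (Proj 𝒜).Opens),
      u ∉ y.1.asHomogeneousIdeal ∧ v ∉ y.1.asHomogeneousIdeal := by
    rintro ⟨_, y', hy', rfl⟩
    exact ⟨(Proj.mem_basicOpen 𝒜 u _).mp (show W.ι y' ∈ (W.ι ''ᵁ V) ⊓ (Proj.basicOpen 𝒜 u ⊓ Proj.basicOpen 𝒜 v) from hy').2.1,
      (Proj.mem_basicOpen 𝒜 v _).mp (show W.ι y' ∈ (W.ι ''ᵁ V) ⊓ (Proj.basicOpen 𝒜 u ⊓ Proj.basicOpen 𝒜 v) from hy').2.2⟩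
  refine ⟨W.ι ⁻¹ᵁ ((W.ι ''ᵁ V) ⊓ (Proj.basicOpen 𝒜 u ⊓ Proj.basicOpen 𝒜 v)), homOfLE hle, ?_,
    (show W.ι x ∈ (W.ι ''ᵁ V) ⊓ (Proj.basicOpen 𝒜 u ⊓ Proj.basicOpen 𝒜 v) from ⟨⟨x, hxV, rfl⟩, ⟨(Proj.mem_basicOpen 𝒜 u _).mpr hux,
      (Proj.mem_basicOpen 𝒜 v _).mpr hvx⟩⟩)⟩
  obtain ⟨z, hz⟩ := mulLin2_surj4 𝒜 ℳ n i j u v hu hv hm (W.ι ''ᵁ (W.ι ⁻¹ᵁ ((W.ι ''ᵁ V) ⊓ (Proj.basicOpen 𝒜 u ⊓ Proj.basicOpen 𝒜 v)))) hV
    ((GrTilde.tilde 𝒜 ℳ n).presheaf.map (homOfLE hle2).op s)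
  exact ⟨z, hz⟩

theorem wLocInj (n : ℤ) (W : (Proj 𝒜).Opens)
    (hcov : ∀ y : Proj 𝒜, y ∈ W → ∃ (i j : ℕ) (u v : A), u ∈ 𝒜 i ∧ v ∈ 𝒜 j ∧
      (i : ℤ) = j + n ∧ u ∉ y.asHomogeneousIdeal ∧ v ∉ y.asHomogeneousIdeal) :
    Presheaf.IsLocallyInjective (Opens.grothendieckTopology W)
      (Functor.whiskerLeft W.ι.opensFunctor.op
        ((PresheafOfModules.toPresheaf _).map (Groth.Agent.S4400.mu2' 𝒜 ℳ n))) := by
  constructor
  intro V' z z' h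
  rw [Opens.mem_grothendieckTopology]
  intro x hxV
  have hxW : (W.ι x) ∈ W := x.2
  obtain ⟨i, j, u, v, hu, hv, hm, hux, hvx⟩ := hcov (W.ι x) hxW
  have hle : W.ι ⁻¹ᵁ ((W.ι ''ᵁ V'.unop) ⊓ (Proj.basicOpen 𝒜 u ⊓ Proj.basicOpen 𝒜 v)) ≤ V'.unop := by
    intro y hy
    obtain ⟨y', hy'V, hy'⟩ := (show W.ι y ∈ (W.ι ''ᵁ V'.unop) ⊓ (Proj.basicOpen 𝒜 u ⊓ Proj.basicOpen 𝒜 v) from hy).1
    have hyy : y' = y := W.ι.isOpenEmbedding.injective hy'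
    rw [← hyy]; exact hy'V
  have hle2 : W.ι ''ᵁ (W.ι ⁻¹ᵁ ((W.ι ''ᵁ V'.unop) ⊓ (Proj.basicOpen 𝒜 u ⊓ Proj.basicOpen 𝒜 v))) ≤ W.ι ''ᵁ V'.unop := by
    rintro _ ⟨y', hy', rfl⟩
    exact (show W.ι y' ∈ (W.ι ''ᵁ V'.unop) ⊓ (Proj.basicOpen 𝒜 u ⊓ Proj.basicOpen 𝒜 v) from hy').1
  have hV : ∀ y : (W.ι ''ᵁ (W.ι ⁻¹ᵁ ((W.ι ''ᵁ V'.unop) ⊓ (Proj.basicOpen 𝒜 u ⊓ Proj.basicOpen 𝒜 v))) : (Proj 𝒜).Opens),
      u ∉ y.1.asHomogeneousIdeal ∧ v ∉ y.1.asHomogeneousIdeal := by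
    rintro ⟨_, y', hy', rfl⟩
    exact ⟨(Proj.mem_basicOpen 𝒜 u _).mp (show W.ι y' ∈ (W.ι ''ᵁ V'.unop) ⊓ (Proj.basicOpen 𝒜 u ⊓ Proj.basicOpen 𝒜 v) from hy').2.1,
      (Proj.mem_basicOpen 𝒜 v _).mp (show W.ι y' ∈ (W.ι ''ᵁ V'.unop) ⊓ (Proj.basicOpen 𝒜 u ⊓ Proj.basicOpen 𝒜 v) from hy').2.2⟩
  refine ⟨W.ι ⁻¹ᵁ ((W.ι ''ᵁ V'.unop) ⊓ (Proj.basicOpen 𝒜 u ⊓ Proj.basicOpen 𝒜 v)), homOfLE hle, ?_,
    (show W.ι x ∈ (W.ι ''ᵁ V'.unop) ⊓ (Proj.basicOpen 𝒜 u ⊓ Proj.basicOpen 𝒜 v) from ⟨⟨x, hxV, rfl⟩, ⟨(Proj.mem_basicOpen 𝒜 u _).mpr hux,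
      (Proj.mem_basicOpen 𝒜 v _).mpr hvx⟩⟩)⟩
  apply mulLin2_inj4 𝒜 ℳ n i j u v hu hv hm (W.ι ''ᵁ (W.ι ⁻¹ᵁ ((W.ι ''ᵁ V'.unop) ⊓ (Proj.basicOpen 𝒜 u ⊓ Proj.basicOpen 𝒜 v)))) hV
  have nat := fun w => ConcreteCategory.congr_hom
    (((PresheafOfModules.toPresheaf _).map (Groth.Agent.S4400.mu2' 𝒜 ℳ n)).naturality
      (homOfLE hle2).op) w
  have e3 := congrArg (fun w => ((GrTilde.tilde 𝒜 ℳ n).presheaf.map (homOfLE hle2).op) w) h
  exact (nat z).trans (e3.trans (nat z').symm)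

end Aux


/-- Let S be a graded ring, M a graded S-module (graded in non-negative degrees here), X = Proj S and d
≥ 1; let W_d ⊆ X be the union of the standard opens D_+(ab) over the pairs of homogeneous elements
a, b with deg a = deg b + d (the open over which the twisting sheaves O_X(nd) are invertible with
compatible multiplications). Then for every integer n the restrictions to W_d of M~(nd) = M~ ⊗
O_X(nd) and of M(nd)~, the module attached to the shifted module, are isomorphic. (Existence of an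
isomorphism only; in the published statement it is the canonical multiplication map M~ ⊗ O_X(nd) →
M(nd)~ that restricts to an isomorphism over W_d. That W_d is the largest open over which the
O_X(nd) are invertible with compatible multiplications is not stated here.) -/
theorem result {R A : Type u} [CommRing R] [CommRing A] [Algebra R A] (𝒜 : ℕ → Submodule R A) [GradedAlgebra 𝒜]
    {M : Type u} [AddCommGroup M] [Module R M] [Module A M] [IsScalarTower R A M] (ℳ : ℕ → Submodule R M)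
    [DirectSum.Decomposition ℳ] [SetLike.GradedSMul 𝒜 ℳ]
    {d : ℕ} (hd : 0 < d) (n : ℤ) :
    Nonempty ((Twist.twistBy 𝒜 (GrTilde.tilde 𝒜 ℳ 0) (n * d)).restrict
        (⨆ (j : ℕ) (a : 𝒜 (j + d)) (b : 𝒜 j), Proj.basicOpen 𝒜 ((a : A) * b)).ι ≅
      (GrTilde.tilde 𝒜 ℳ (n * d)).restrict
        (⨆ (j : ℕ) (a : 𝒜 (j + d)) (b : 𝒜 j), Proj.basicOpen 𝒜 ((a : A) * b)).ι) := by
  classical
  have hcov : ∀ y : Proj 𝒜,
      y ∈ (⨆ (j : ℕ) (a : 𝒜 (j + d)) (b : 𝒜 j), Proj.basicOpen 𝒜 ((a : A) * b)) →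
      ∃ (i j : ℕ) (u v : A), u ∈ 𝒜 i ∧ v ∈ 𝒜 j ∧
      (i : ℤ) = j + n * d ∧ u ∉ y.asHomogeneousIdeal ∧ v ∉ y.asHomogeneousIdeal := by
    intro y hy
    obtain ⟨j, hj⟩ := Opens.mem_iSup.mp hy
    obtain ⟨a, ha⟩ := Opens.mem_iSup.mp hj
    obtain ⟨b, hb⟩ := Opens.mem_iSup.mp ha
    have hab : (a : A) * b ∉ y.asHomogeneousIdeal := (Proj.mem_basicOpen 𝒜 _ y).mp hb
    have hay : (a : A) ∉ y.asHomogeneousIdeal := fun h =>
      hab (Ideal.mul_mem_right (b : A) y.asHomogeneousIdeal.toIdeal h)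
    have hby : (b : A) ∉ y.asHomogeneousIdeal := fun h =>
      hab (Ideal.mul_mem_left y.asHomogeneousIdeal.toIdeal (a : A) h)
    refine ⟨n.toNat * (j + d) + (-n).toNat * j, (-n).toNat * (j + d) + n.toNat * j,
      (a : A) ^ n.toNat * (b : A) ^ (-n).toNat, (a : A) ^ (-n).toNat * (b : A) ^ n.toNat,
      SetLike.mul_mem_graded (Groth.Agent.S1614.pow_mem' 𝒜 (j + d) a a.2 _)
        (Groth.Agent.S1614.pow_mem' 𝒜 j b b.2 _),
      SetLike.mul_mem_graded (Groth.Agent.S1614.pow_mem' 𝒜 (j + d) a a.2 _)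
        (Groth.Agent.S1614.pow_mem' 𝒜 j b b.2 _), ?_,
      fun h => (y.isPrime.mem_or_mem h).elim (Groth.Agent.S1614.pow_nin 𝒜 a y hay _)
        (Groth.Agent.S1614.pow_nin 𝒜 b y hby _),
      fun h => (y.isPrime.mem_or_mem h).elim (Groth.Agent.S1614.pow_nin 𝒜 a y hay _)
        (Groth.Agent.S1614.pow_nin 𝒜 b y hby _)⟩
    have h := Groth.Agent.S12453.hk n
    push_cast
    linear_combination (d : ℤ) * h
  obtain ⟨e⟩ := RL
    (show (Proj 𝒜).PresheafOfModules from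
      CohB1.tensorPre (GrTilde.tilde 𝒜 ℳ 0) (Twist.twist 𝒜 (n * d)))
    (GrTilde.tilde 𝒜 ℳ (n * d)) (Groth.Agent.S4400.mu2' 𝒜 ℳ (n * d))
    (⨆ (j : ℕ) (a : 𝒜 (j + d)) (b : 𝒜 j), Proj.basicOpen 𝒜 ((a : A) * b))
    (wLocInj 𝒜 ℳ (n * d) _ hcov) (wLocSurj 𝒜 ℳ (n * d) _ hcov)
  exact ⟨e⟩

end Groth.Agent.S9578
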