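import Groth.Statements.S9580
import Mathlib
import Groth.Agent.S1614
import Groth.Agent.S3586

set_option autoImplicit false
universe u
open CategoryTheory CategoryTheory.Limits AlgebraicGeometry TopologicalSpace Opposite
open Constr

namespace Groth.Agent.S9580


open CategoryTheory AlgebraicGeometry TopologicalSpace Opposite


/-- Let S be a graded ring, X = Proj S and Y ⊆ X a quasi-compact open subscheme. Then there is an
integer d ≥ 1 such that Y is contained in the open W_d, the union of the standard opens D_+(ab) over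
homogeneous a, b with deg a = deg b + d, and such that the restriction O_Y(nd) of O_X(nd) to Y is
invertible for every integer n. (The remaining assertions — the multiplication maps among the
O_Y(nd) and M~(nd) are isomorphisms, D_+(f) ∩ Y = Y_s, and the loci Y_s form a basis — are not
stated here.) -/
theorem result {R A : Type u} [CommRing R] [CommRing A] [Algebra R A] (𝒜 : ℕ → Submodule R A) [GradedAlgebra 𝒜]
    (Y : (Proj 𝒜).Opens) (hY : IsCompact (Y : Set (Proj 𝒜))) :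
    ∃ d : ℕ, 0 < d ∧
      (∀ y : Proj 𝒜, y ∈ Y → ∃ (i j : ℕ) (a b : A), a ∈ 𝒜 i ∧ b ∈ 𝒜 j ∧ i = j + d ∧ y ∈ Proj.basicOpen 𝒜 (a * b)) ∧
      ∀ n : ℤ, PicF.IsInvertible ((Twist.twist 𝒜 (n * d)).restrict Y.ι) := by
  classical
  have hpt : ∀ x : ProjectiveSpectrum 𝒜, ∃ (c : ℕ) (h : A), 0 < c ∧ h ∈ 𝒜 c ∧
      h ∉ x.asHomogeneousIdeal.toIdeal := fun x => by
    obtain ⟨c, h, hc, hh, hx, -⟩ := Groth.Agent.S3586.basis 𝒜 x ⊤ trivial
    exact ⟨c, h, hc, hh, hx⟩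
  choose c h hc hh hx using hpt
  obtain ⟨t, ht⟩ := hY.elim_finite_subcover
    (fun x : ProjectiveSpectrum 𝒜 =>
      ((Proj.basicOpen 𝒜 (h x) : (Proj 𝒜).Opens) : Set (Proj 𝒜)))
    (fun x => (Proj.basicOpen 𝒜 (h x)).2)
    (fun y _ => Set.mem_iUnion.mpr ⟨y, (Proj.mem_basicOpen 𝒜 _ y).mpr (hx y)⟩)
  let d := ∏ x ∈ t, c x
  have hdpos : 0 < d := Finset.prod_pos fun x _ => hc x
  have key : ∀ y : Proj 𝒜, y ∈ Y → ∃ f : A, f ∈ 𝒜 d ∧ f ∉ y.asHomogeneousIdeal := by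
    intro y hy
    obtain ⟨x, hxt, hyx⟩ := Set.mem_iUnion₂.mp (ht hy)
    have hdvd : c x ∣ d := Finset.dvd_prod_of_mem c hxt
    obtain ⟨k, hk⟩ := hdvd
    refine ⟨h x ^ k, ?_, ?_⟩
    · have h0 := Groth.Agent.S1614.pow_mem' 𝒜 (c x) (h x) (hh x) k
      rwa [hk, mul_comm]
    · exact Groth.Agent.S1614.pow_nin 𝒜 (h x) y ((Proj.mem_basicOpen 𝒜 _ y).mp hyx) k
  refine ⟨d, hdpos, fun y hy => ?_, fun n => ?_⟩
  · obtain ⟨f, hf, hfy⟩ := key y hy
    refine ⟨d, 0, f, 1, hf, SetLike.GradedOne.one_mem, (zero_add d).symm, ?_⟩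
    rw [mul_one]
    exact (Proj.mem_basicOpen 𝒜 _ y).mpr hfy
  · intro y
    obtain ⟨f, hf, hfy⟩ := key (Y.ι y) (by rw [Scheme.Opens.ι_apply]; exact y.2)
    let U' : (Y : Scheme.{u}).Opens := Y.ι ⁻¹ᵁ Proj.basicOpen 𝒜 f
    have hyU : y ∈ U' := (Scheme.Hom.mem_preimage _).mpr ((Proj.mem_basicOpen 𝒜 _ _).mpr hfy)
    have hj : ∀ x : (U' : Scheme.{u}), (U'.ι ≫ Y.ι) x ∈ Proj.basicOpen 𝒜 f := by
      intro x
      rw [Scheme.Hom.comp_apply, Scheme.Opens.ι_apply]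
      exact (Scheme.Hom.mem_preimage _).mp x.2
    obtain ⟨e⟩ := Groth.Agent.S1614.triv 𝒜 d f hf n (U'.ι ≫ Y.ι) hj
    exact ⟨U', hyU, ⟨((Scheme.Modules.restrictFunctorComp U'.ι Y.ι).app _).symm ≪≫ e⟩⟩

end Groth.Agent.S9580
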