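import Groth.Statements.S9582
import Groth.Agent.Lib.Helper18.WeakAss

set_option autoImplicit false
universe u
open CAlg

namespace Groth.Agent.S9582

/-- For a reduced ring R, the primes weakly associated to the R-module R (primes minimal over the
annihilator of some element) are exactly the minimal primes of R. -/
theorem result {R : Type u} [CommRing R] [IsReduced R] :
    FlatCA.weakAss R R = minimalPrimes R := by
  ext p
  constructor
  · rintro ⟨x, hp⟩
    have hpp : p.IsPrime := hp.1.1
    have hann : ∀ r : R, r ∈ (Submodule.span R {x}).annihilator ↔ r * x = 0 := fun r => by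
      rw [Submodule.mem_annihilator_span_singleton, smul_eq_mul]
    have hxp : x ∉ p := by
      intro hx
      obtain ⟨s, hs, n, hsn⟩ := Groth.Agent.Helper18.exists_mul_pow_mem_of_mem_minimalPrimes hp hx
      rw [hann] at hsn
      have h1 : (s * x) ^ (n + 1) = 0 := by
        have : (s * x) ^ (n + 1) = s ^ n * (s * x ^ n * x) := by ring
        rw [this, hsn, mul_zero]
      have h2 : s * x = 0 := IsReduced.eq_zero _ ⟨_, h1⟩
      exact hs (hp.1.2 ((hann s).mpr h2))
    refine ⟨⟨hpp, bot_le⟩, ?_⟩
    rintro q ⟨hq, -⟩ hqp f hf
    obtain ⟨s, hs, n, hsn⟩ := Groth.Agent.Helper18.exists_mul_pow_mem_of_mem_minimalPrimes hp hf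
    rw [hann] at hsn
    have h1 : s * f ^ n * x ∈ q := by rw [hsn]; exact q.zero_mem
    have hsq : s ∉ q := fun h => hs (hqp h)
    have hxq : x ∉ q := fun h => hxp (hqp h)
    rcases hq.mem_or_mem h1 with h | h
    · rcases hq.mem_or_mem h with h' | h'
      · exact absurd h' hsq
      · exact hq.mem_of_pow_mem n h'
    · exact absurd h hxq
  · intro hp
    refine ⟨1, ?_⟩
    have : (Submodule.span R {(1 : R)}).annihilator = ⊥ := by
      ext r
      rw [Submodule.mem_annihilator_span_singleton, smul_eq_mul, mul_one, Ideal.mem_bot]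
    rw [this]
    exact hp

end Groth.Agent.S9582
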