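import Groth.Statements.S9583
import Groth.Agent.Lib.Helper18.WeakAss

set_option autoImplicit false
universe u
open CAlg

namespace Groth.Agent.S9583

/-- For a ring R and a short exact sequence 0 → M' → M → M'' → 0 of R-modules, every prime weakly
associated to M' is weakly associated to M, and every prime weakly associated to M is weakly
associated to M' or to M''. -/
theorem result {R : Type u} [CommRing R] {M' M M'' : Type u} [AddCommGroup M'] [Module R M'] [AddCommGroup M] [Module R M] [AddCommGroup M''] [Module R M''] (f : M' →ₗ[R] M) (g : M →ₗ[R] M'') (hf : Function.Injective f) (hg : Function.Surjective g) (hfg : Function.Exact f g) :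
    FlatCA.weakAss R M' ⊆ FlatCA.weakAss R M ∧ FlatCA.weakAss R M ⊆ FlatCA.weakAss R M' ∪ FlatCA.weakAss R M'' := by
  constructor
  · rintro p ⟨m', hp⟩
    refine ⟨f m', ?_⟩
    have : (Submodule.span R {f m'}).annihilator = (Submodule.span R {m'}).annihilator := by
      ext r
      rw [Submodule.mem_annihilator_span_singleton, Submodule.mem_annihilator_span_singleton,
        ← map_smul, ← map_zero f, hf.eq_iff]
    rw [this]
    exact hp
  · rintro p ⟨m, hp⟩
    have hpp : p.IsPrime := hp.1.1
    by_cases hle : (Submodule.span R {g m}).annihilator ≤ p
    · right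
      refine ⟨g m, Groth.Agent.Helper18.mem_minimalPrimes_of_le_of_le hp ?_ hle⟩
      intro r hr
      rw [Submodule.mem_annihilator_span_singleton] at hr ⊢
      rw [← map_smul, hr, map_zero]
    · left
      obtain ⟨a, ha, hap⟩ := SetLike.not_le_iff_exists.mp hle
      rw [Submodule.mem_annihilator_span_singleton, ← map_smul] at ha
      obtain ⟨m', hm'⟩ := (hfg (a • m)).mp ha
      refine ⟨m', ?_⟩
      have hann : (Submodule.span R {m'}).annihilator = (Submodule.span R {a • m}).annihilator := by
        ext r
        rw [Submodule.mem_annihilator_span_singleton, Submodule.mem_annihilator_span_singleton,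
          ← hm', ← map_smul, ← map_zero f, hf.eq_iff]
      rw [hann]
      refine Groth.Agent.Helper18.mem_minimalPrimes_of_le_of_le hp ?_ ?_
      · intro r hr
        rw [Submodule.mem_annihilator_span_singleton] at hr ⊢
        rw [smul_comm, hr, smul_zero]
      · intro r hr
        rw [Submodule.mem_annihilator_span_singleton, ← mul_smul] at hr
        have : r * a ∈ p := hp.1.2 (by rw [Submodule.mem_annihilator_span_singleton]; exact hr)
        exact (hpp.mem_or_mem this).resolve_right hap

end Groth.Agent.S9583
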