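import Groth.Statements.S9586
import Groth.Agent.Lib.Helper18.WeakAss

set_option autoImplicit false
universe u
open CAlg

namespace Groth.Agent.S9586

/-- For a ring R, an R-module M and a finitely generated prime ideal p of R, p is associated to M (equal
to the annihilator of an element) if and only if p is weakly associated to M (minimal over the
annihilator of an element). -/
theorem result {R : Type u} [CommRing R] (M : Type u) [AddCommGroup M] [Module R M] (p : Ideal R) [p.IsPrime] (hp : p.FG) :
    p ∈ FlatCA.ass R M ↔ p ∈ FlatCA.weakAss R M := by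
  constructor
  · rintro ⟨_, m, hm⟩
    refine ⟨m, ?_⟩
    rw [← hm, Ideal.minimalPrimes_eq_subsingleton_self]
    rfl
  · rintro ⟨m, hm⟩
    have hIp : (Submodule.span R {m}).annihilator ≤ p := hm.1.2
    -- the local annihilator ideal
    let J : Ideal R :=
      { carrier := {x | ∃ s : R, s ∉ p ∧ (s * x) • m = 0}
        add_mem' := by
          rintro x y ⟨s, hs, hx⟩ ⟨t, ht, hy⟩
          refine ⟨s * t, fun h => (‹p.IsPrime›.mem_or_mem h).elim hs ht, ?_⟩
          have e : s * t * (x + y) = t * (s * x) + s * (t * y) := by ring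
          rw [e, add_smul, mul_smul t (s * x), mul_smul s (t * y), hx, hy, smul_zero, smul_zero,
            add_zero]
        zero_mem' := ⟨1, fun h => ‹p.IsPrime›.ne_top ((Ideal.eq_top_iff_one _).mpr h), by simp⟩
        smul_mem' := by
          rintro c x ⟨s, hs, hx⟩
          refine ⟨s, hs, ?_⟩
          have e : s * (c • x) = c * (s * x) := by rw [smul_eq_mul]; ring
          rw [e, mul_smul, hx, smul_zero] }
    have hJ : ∀ x, x ∈ J ↔ ∃ s : R, s ∉ p ∧ (s * x) • m = 0 := fun x => Iff.rfl
    have h1J : (1 : R) ∉ J := by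
      rintro ⟨s, hs, h⟩
      apply hs
      apply hIp
      rw [Submodule.mem_annihilator_span_singleton]
      simpa using h
    have hrad : p ≤ J.radical := by
      intro x hx
      obtain ⟨s, hs, n, hsn⟩ := Groth.Agent.Helper18.exists_mul_pow_mem_of_mem_minimalPrimes hm hx
      refine ⟨n, (hJ _).mpr ⟨s, hs, ?_⟩⟩
      rwa [Submodule.mem_annihilator_span_singleton] at hsn
    have hex : ∃ n : ℕ, p ^ n ≤ J := Ideal.exists_pow_le_of_le_radical_of_fg hrad hp
    classical
    have hn0 : Nat.find hex ≠ 0 := by
      intro h0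
      have := Nat.find_spec hex
      rw [h0, pow_zero, Ideal.one_eq_top] at this
      exact h1J (this trivial)
    obtain ⟨k, hk⟩ := Nat.exists_eq_succ_of_ne_zero hn0
    have hk1 : p ^ (k + 1) ≤ J := by
      have := Nat.find_spec hex
      rwa [hk] at this
    have hk0 : ¬ p ^ k ≤ J := Nat.find_min hex (by omega)
    obtain ⟨b, hbk, hbJ⟩ := SetLike.not_le_iff_exists.mp hk0
    have key : ∀ x ∈ p, ∃ s : R, s ∉ p ∧ (s * (x * b)) • m = 0 := by
      intro x hx
      have : x * b ∈ p ^ (k + 1) := by
        rw [pow_succ, mul_comm x b]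
        exact Ideal.mul_mem_mul hbk hx
      exact (hJ _).mp (hk1 this)
    choose! f hf1 hf2 using key
    obtain ⟨S, hS⟩ := hp
    have hSp : ∀ x ∈ S, x ∈ p := by
      intro x hx
      rw [← hS]
      exact Ideal.subset_span hx
    have hs : (∏ x ∈ S, f x) ∉ p := by
      rw [Ideal.IsPrime.prod_mem_iff]
      push_neg
      intro x hx
      exact hf1 x (hSp x hx)
    refine ⟨inferInstance, ((∏ x ∈ S, f x) * b) • m, ?_⟩
    apply le_antisymm
    · rw [← hS, Ideal.span_le]
      intro x hx
      rw [SetLike.mem_coe, Submodule.mem_annihilator_span_singleton, ← mul_smul]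
      have e : x * ((∏ x ∈ S, f x) * b) = (∏ y ∈ S.erase x, f y) * (f x * (x * b)) := by
        rw [← Finset.mul_prod_erase S f hx]
        ring
      rw [e, mul_smul, hf2 x (hSp x hx), smul_zero]
    · intro a ha
      rw [Submodule.mem_annihilator_span_singleton, ← mul_smul] at ha
      by_contra hap
      apply hbJ
      refine (hJ _).mpr ⟨a * ∏ x ∈ S, f x, fun h => (‹p.IsPrime›.mem_or_mem h).elim hap hs, ?_⟩
      rw [← ha]
      congr 1
      ring

end Groth.Agent.S9586
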