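import Groth.Statements.S9591
import Groth.Agent.Lib.Helper18.WeakAss

set_option autoImplicit false
universe u
open CAlg

namespace Groth.Agent.S9591

/-- For a ring R and an R-module M, the map from M to the product of the localizations M_p over all
primes p weakly associated to M is injective: an element vanishing in every such M_p is zero. -/
theorem result {R : Type u} [CommRing R] {M : Type u} [AddCommGroup M] [Module R M] (x : M) (hx : ∀ (p : Ideal R) [p.IsPrime], p ∈ FlatCA.weakAss R M → LocalizedModule.mkLinearMap p.primeCompl M x = 0) :
    x = 0 := by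
  by_contra hne
  obtain ⟨p, hp, hpm⟩ := Groth.Agent.Helper18.exists_mem_weakAss_of_ne_zero (R := R) hne
  have hpp : p.IsPrime := hpm.1.1
  have h0 := hx p hp
  rw [LocalizedModule.mkLinearMap_apply, ← LocalizedModule.zero_mk (1 : p.primeCompl),
    LocalizedModule.mk_eq] at h0
  obtain ⟨u, hu⟩ := h0
  have hu'' : u • x = 0 := by simpa using hu
  have hu' : u.1 • x = 0 := hu''
  exact u.2 (hpm.1.2 (by rw [Submodule.mem_annihilator_span_singleton]; exact hu'))

end Groth.Agent.S9591
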