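import Groth.Statements.S9594
import Groth.Agent.Lib.Helper18.WeakAss

set_option autoImplicit false
universe u
open CAlg

namespace Groth.Agent.S9594

/-- For a ring R, an R-module M and a multiplicative subset S of R, (1) the primes of R associated to
the R-module S⁻¹M are the inverse images of the primes of S⁻¹R associated to S⁻¹M, and (2) a prime
of R associated to M which does not meet S is associated to the R-module S⁻¹M. Here a prime is
associated to a module when it equals the annihilator of some element. -/
theorem result {R : Type u} [CommRing R] (S : Submonoid R) (M : Type u) [AddCommGroup M] [Module R M] :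
    FlatCA.ass R (LocalizedModule S M) = Ideal.comap (algebraMap R (Localization S)) '' FlatCA.ass (Localization S) (LocalizedModule S M) ∧
      ∀ p ∈ FlatCA.ass R M, Disjoint (S : Set R) (p : Set R) → p ∈ FlatCA.ass R (LocalizedModule S M) := by
  constructor
  · ext p
    constructor
    · rintro ⟨hpp, y, rfl⟩
      -- q = annihilator of y over the localization
      have hcomap : Ideal.under R
          (Submodule.span (Localization S) {y}).annihilator = (Submodule.span R {y}).annihilator := by
        ext r
        rw [Ideal.under, Ideal.mem_comap, Submodule.mem_annihilator_span_singleton,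
          Submodule.mem_annihilator_span_singleton, algebraMap_smul]
      refine ⟨(Submodule.span (Localization S) {y}).annihilator, ⟨?_, y, rfl⟩, hcomap⟩
      rw [IsLocalization.isPrime_iff_isPrime_disjoint S (Localization S), hcomap]
      refine ⟨hpp, ?_⟩
      rw [Set.disjoint_left]
      intro s hs hsann
      rw [SetLike.mem_coe, Submodule.mem_annihilator_span_singleton] at hsann
      -- s acts invertibly, so y = 0, contradiction with primeness
      have hy : y = 0 := by
        induction y using LocalizedModule.induction_on with
        | h m t =>
          rw [LocalizedModule.smul'_mk, Groth.Agent.Helper18.localizedModule_mk_eq_zero_iff] at hsann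
          obtain ⟨u, hu⟩ := hsann
          rw [Groth.Agent.Helper18.localizedModule_mk_eq_zero_iff]
          exact ⟨u * ⟨s, hs⟩, by simpa [mul_smul] using hu⟩
      apply hpp.ne_top
      rw [Ideal.eq_top_iff_one, Submodule.mem_annihilator_span_singleton, hy, smul_zero]
    · rintro ⟨q, ⟨hq, y, rfl⟩, rfl⟩
      refine ⟨Ideal.comap_isPrime _ _, y, ?_⟩
      ext r
      rw [Ideal.mem_comap, Submodule.mem_annihilator_span_singleton,
        Submodule.mem_annihilator_span_singleton, algebraMap_smul]
  · rintro p ⟨hpp, m, rfl⟩ hdisj
    refine ⟨hpp, LocalizedModule.mk m 1, ?_⟩
    ext r
    rw [Groth.Agent.Helper18.mem_ann_localizedModule_mk_iff]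
    constructor
    · intro hr
      exact ⟨1, by
        rw [Submodule.mem_annihilator_span_singleton] at hr
        simpa using hr⟩
    · rintro ⟨u, hu⟩
      have h1 : (u : R) * r ∈ (Submodule.span R {m}).annihilator := by
        rw [Submodule.mem_annihilator_span_singleton]; exact hu
      rcases hpp.mem_or_mem h1 with h | h
      · exact absurd h (Set.disjoint_left.mp hdisj u.2)
      · exact h

end Groth.Agent.S9594
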