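import Groth.Statements.S9597
import Mathlib

set_option autoImplicit false
universe u
open CAlg

namespace Groth.Agent.S9597

theorem comap_mem {R : Type u} [CommRing R] [IsNoetherianRing R] (M : Type u) [AddCommGroup M]
    [Module R M] [Module.Finite R M]
    (q : Ideal (R ⧸ Module.annihilator R M))
    (hq : q ∈ associatedPrimes (R ⧸ Module.annihilator R M) (R ⧸ Module.annihilator R M)) :
    q.comap (Ideal.Quotient.mk (Module.annihilator R M)) ∈ associatedPrimes R M := by
  have hqprime : q.IsPrime := hq.isPrime
  obtain ⟨x, hx⟩ := ((isAssociatedPrime_iff).mp hq).2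
  obtain ⟨r, rfl⟩ := Ideal.Quotient.mk_surjective x
  -- N = r • M
  let N : Submodule R M := LinearMap.range (r • (LinearMap.id : M →ₗ[R] M))
  have hP : (q.comap (Ideal.Quotient.mk (Module.annihilator R M))).IsPrime := inferInstance
  have hann : Module.annihilator R N = q.comap (Ideal.Quotient.mk (Module.annihilator R M)) := by
    ext s
    rw [Ideal.mem_comap, hx, Submodule.mem_colon_singleton, Module.mem_annihilator]
    constructor
    · intro h
      rw [Submodule.mem_bot, smul_eq_mul, ← map_mul, Ideal.Quotient.eq_zero_iff_mem,
        Module.mem_annihilator]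
      intro m
      have := h ⟨r • m, ⟨m, by simp⟩⟩
      rw [mul_smul]
      simpa [Subtype.ext_iff] using this
    · intro h
      rw [Submodule.mem_bot, smul_eq_mul, ← map_mul, Ideal.Quotient.eq_zero_iff_mem,
        Module.mem_annihilator] at h
      rintro ⟨n, m, rfl⟩
      have := h m
      rw [mul_smul] at this
      simpa [Subtype.ext_iff] using this
  have hmin : q.comap (Ideal.Quotient.mk (Module.annihilator R M)) ∈
      (Module.annihilator R N).minimalPrimes := by
    rw [hann, Ideal.minimalPrimes_eq_subsingleton_self]
    rfl
  have h1 := Module.associatedPrimes.minimalPrimes_annihilator_subset_associatedPrimes R N hmin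
  exact associatedPrimes.subset_of_injective (f := N.subtype) Subtype.val_injective h1

/-- Let R be a Noetherian ring, M a finite R-module whose associated primes are pairwise incomparable
under inclusion (M has no embedded associated primes), and I the annihilator of M. Then the
associated primes of R/I, viewed as a module over itself, are again pairwise incomparable: R/I has
no embedded primes either. -/
theorem result {R : Type u} [CommRing R] [IsNoetherianRing R] (M : Type u) [AddCommGroup M] [Module R M] [Module.Finite R M] (hM : ∀ p ∈ associatedPrimes R M, ∀ q ∈ associatedPrimes R M, p ≤ q → p = q) :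
    ∀ p ∈ associatedPrimes (R ⧸ Module.annihilator R M) (R ⧸ Module.annihilator R M), ∀ q ∈ associatedPrimes (R ⧸ Module.annihilator R M) (R ⧸ Module.annihilator R M), p ≤ q → p = q := by
  intro p hp q hq hpq
  have h1 := comap_mem M p hp
  have h2 := comap_mem M q hq
  have h3 := hM _ h1 _ h2 (Ideal.comap_mono hpq)
  exact Ideal.comap_injective_of_surjective _ Ideal.Quotient.mk_surjective h3

end Groth.Agent.S9597
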