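import Groth.Statements.S9598
import Mathlib

set_option autoImplicit false
universe u
open CAlg

namespace Groth.Agent.S9598

/-- For a field k and a finite type k-algebra S with dim S > 0, some element of S is a nonzerodivisor
and a nonunit. -/
theorem result {k S : Type u} [Field k] [CommRing S] [Algebra k S] [Algebra.FiniteType k S] (hdim : 0 < ringKrullDim S) :
    ∃ f : S, f ∈ nonZeroDivisors S ∧ ¬ IsUnit f := by
  classical
  have hN : IsNoetherianRing S := Algebra.FiniteType.isNoetherianRing k S
  have hJ : IsJacobsonRing S := isJacobsonRing_of_finiteType (A := k)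
  by_contra hcon
  push_neg at hcon
  have hfin : (associatedPrimes S S).Finite := associatedPrimes.finite S S
  have hmax : ∀ m : Ideal S, m.IsMaximal → m ∈ associatedPrimes S S := by
    intro m hm
    have hsub : (m : Set S) ⊆ ⋃ p ∈ (hfin.toFinset : Set (Ideal S)), ((id p : Ideal S) : Set S) := by
      intro f hf
      have hnu : ¬ IsUnit f := fun hu => hm.ne_top (Ideal.eq_top_of_isUnit_mem _ hf hu)
      have h1 : f ∉ nonZeroDivisors S := fun h => hnu (hcon f h)
      have h2 : f ∈ (nonZeroDivisors S : Set S)ᶜ := h1
      rw [← biUnion_associatedPrimes_eq_compl_nonZeroDivisors] at h2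
      simpa using h2
    obtain ⟨p, hp, hmp⟩ := (Ideal.subset_union_prime (f := id) (s := hfin.toFinset) ⊥ ⊥
      (fun i hi _ _ => by
        have : i ∈ associatedPrimes S S := by simpa using hi
        exact this.isPrime)).mp hsub
    have hp' : p ∈ associatedPrimes S S := by simpa using hp
    have hpp : p.IsPrime := hp'.isPrime
    have : m = p := hm.eq_of_le hpp.ne_top hmp
    rw [this]; exact hp'
  have hdim : Ring.KrullDimLE 0 S := by
    rw [Ring.krullDimLE_zero_iff]
    intro P hP
    have hPj : P.jacobson = P := IsJacobsonRing.out' P hP.isRadical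
    -- P is the inf of the finitely many maximal ideals containing it
    let T : Finset (Ideal S) := hfin.toFinset.filter (fun m => m.IsMaximal ∧ P ≤ m)
    have hT : T.inf id = P := by
      apply le_antisymm
      · rw [← hPj]
        unfold Ideal.jacobson
        apply le_sInf
        rintro m ⟨hPm, hm⟩
        have : m ∈ T := by
          simp only [T, Finset.mem_filter, Set.Finite.mem_toFinset]
          exact ⟨hmax m hm, hm, hPm⟩
        exact Finset.inf_le (f := id) this
      · apply Finset.le_inf
        intro m hm
        simp only [T, Finset.mem_filter, Set.Finite.mem_toFinset] at hm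
        exact hm.2.2
    have hP' : (T.inf id).IsPrime := by rw [hT]; exact hP
    obtain ⟨m, hmT, hm⟩ := Ideal.eq_inf_of_isPrime_inf hP'
    simp only [T, Finset.mem_filter, Set.Finite.mem_toFinset] at hmT
    rw [← hT, ← hm]
    exact hmT.2.1
  have : ringKrullDim S ≤ 0 := by
    have := (Ring.krullDimLE_iff (n := 0) (R := S)).mp hdim
    simpa using this
  exact absurd hdim (by
    intro h
    exact (lt_irrefl _ (lt_of_lt_of_le ‹0 < ringKrullDim S› this)))

end Groth.Agent.S9598
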