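import Groth.Statements.S9600
import Groth.Agent.Lib.Helper18.AdicExact

set_option autoImplicit false
universe u
open CAlg

namespace Groth.Agent.S9600

/-- Let R be a ring, I an ideal of R and 0 → M → N → Q → 0 a short exact sequence of R-modules in which
Q is killed by some power I^c of I. Then on I-adic completions the map M^ → N^ is injective, N^ → Q^
is surjective with kernel equal to the image of M^, and the canonical map Q → Q^ is bijective; so 0
→ M^ → N^ → Q → 0 is again short exact. -/
theorem result {R : Type u} [CommRing R] (I : Ideal R) {M N Q : Type u} [AddCommGroup M] [Module R M] [AddCommGroup N] [Module R N] [AddCommGroup Q] [Module R Q] (i : M →ₗ[R] N) (g : N →ₗ[R] Q) (hi : Function.Injective i) (hg : Function.Surjective g) (hig : Function.Exact i g) (c : ℕ) (hc : ∀ x ∈ I ^ c, ∀ q : Q, x • q = 0) :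
    Function.Injective (AdicCompletion.map I i) ∧ Function.Exact (AdicCompletion.map I i) (AdicCompletion.map I g) ∧ Function.Surjective (AdicCompletion.map I g) ∧ Function.Bijective (AdicCompletion.of I Q) := by
  have hAR : ∀ n, (I ^ (n + c) • ⊤ : Submodule R N) ⊓ LinearMap.range i ≤
      Submodule.map i (I ^ n • ⊤ : Submodule R M) := by
    intro n
    refine inf_le_left.trans ?_
    have h1 : (I ^ c • ⊤ : Submodule R N) ≤ LinearMap.range i := by
      rw [Submodule.smul_le]
      intro r hr y _
      apply (hig _).mp
      rw [map_smul]
      exact hc r hr _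
    calc (I ^ (n + c) • ⊤ : Submodule R N) = I ^ n • (I ^ c • ⊤ : Submodule R N) := by
          rw [pow_add, mul_smul]
      _ ≤ I ^ n • LinearMap.range i := smul_mono_right _ h1
      _ = Submodule.map i (I ^ n • ⊤ : Submodule R M) := by
          rw [Submodule.map_smul'', Submodule.map_top]
  have hzero : ∀ n, c ≤ n → (I ^ n • ⊤ : Submodule R Q) = ⊥ := by
    intro n hn
    rw [eq_bot_iff, Submodule.smul_le]
    intro r hr q _
    rw [Submodule.mem_bot]
    exact hc r (Ideal.pow_le_pow_right hn hr) q
  have hcomplete : IsAdicComplete I Q := by
    refine { haus' := ?_, prec' := ?_ }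
    · intro x hx
      have := hx c
      rw [hzero c le_rfl] at this
      simpa [SModEq.bot] using this
    · intro f hf
      refine ⟨f c, fun n => ?_⟩
      rcases le_total n c with h | h
      · exact hf h
      · have := hf h
        rw [hzero c le_rfl, SModEq.bot] at this
        rw [this]
  exact ⟨Groth.Agent.Helper18.adicCompletion_map_injective_of_AR I i hi c hAR,
    Groth.Agent.Helper18.adicCompletion_map_exact_of_AR I i g hi hg hig c hAR,
    AdicCompletion.map_surjective I hg, AdicCompletion.of_bijective I Q⟩

end Groth.Agent.S9600
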