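import Groth.Statements.S9601
import Mathlib

set_option autoImplicit false
universe u
open CAlg

namespace Groth.Agent.S9601

theorem ker_step {R : Type u} [CommRing R] (I : Ideal R) (M : Type u) [AddCommGroup M] [Module R M]
    (m : ℕ) (x : AdicCompletion I M) (hx : x ∈ LinearMap.ker (AdicCompletion.eval I M m)) :
    ∃ y ∈ LinearMap.ker (AdicCompletion.eval I M (m+1)),
      x - y ∈ I ^ m • (⊤ : Submodule R (AdicCompletion I M)) := by
  obtain ⟨u, hu⟩ := Submodule.Quotient.mk_surjective _ (AdicCompletion.eval I M (m+1) x)
  have h1 : AdicCompletion.eval I M m x = Submodule.Quotient.mk u := by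
    have := AdicCompletion.transitionMap_comp_eval_apply (I := I) (M := M) (Nat.le_succ m) x
    rw [← AdicCompletion.eval_apply, ← AdicCompletion.eval_apply, ← hu] at this
    rw [← this]
    rfl
  have h2 : u ∈ I ^ m • (⊤ : Submodule R M) := by
    rw [LinearMap.mem_ker, h1, Submodule.Quotient.mk_eq_zero] at hx
    exact hx
  refine ⟨x - AdicCompletion.of I M u, ?_, ?_⟩
  · rw [LinearMap.mem_ker, map_sub, AdicCompletion.eval_of, ← hu]
    simp
  · rw [sub_sub_cancel]
    have : AdicCompletion.of I M u ∈ Submodule.map (AdicCompletion.of I M) (I ^ m • (⊤ : Submodule R M)) :=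
      Submodule.mem_map_of_mem h2
    rw [Submodule.map_smul''] at this
    exact Submodule.smul_mono le_rfl le_top this

theorem ker_anti {R : Type u} [CommRing R] (I : Ideal R) (M : Type u) [AddCommGroup M] [Module R M]
    {m n : ℕ} (hmn : m ≤ n) : LinearMap.ker (AdicCompletion.eval I M n) ≤ LinearMap.ker (AdicCompletion.eval I M m) := by
  intro x hx
  rw [LinearMap.mem_ker] at hx ⊢
  rw [← AdicCompletion.transitionMap_comp_eval (I := I) (M := M) hmn, LinearMap.comp_apply, hx, map_zero]

/-- For a ring R, an ideal I of R and an R-module M, let M^ be the I-adic completion and K_n the kernel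
of the projection M^ → M/IⁿM. The completion M^ is I-adically complete exactly when K_n = Iⁿ M^
holds for every n ≥ 1. -/
theorem result {R : Type u} [CommRing R] (I : Ideal R) (M : Type u) [AddCommGroup M] [Module R M] :
    IsAdicComplete I (AdicCompletion I M) ↔ ∀ n : ℕ, 1 ≤ n → LinearMap.ker (AdicCompletion.eval I M n) = I ^ n • (⊤ : Submodule R (AdicCompletion I M)) := by
  constructor
  · intro hc n _
    refine le_antisymm ?_ (AdicCompletion.pow_smul_top_le_ker_eval (I := I) (M := M) n)
    intro x hx
    -- choose steps
    have step : ∀ m, ∀ y : AdicCompletion I M, ∃ z : AdicCompletion I M,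
        y ∈ LinearMap.ker (AdicCompletion.eval I M m) →
        (z ∈ LinearMap.ker (AdicCompletion.eval I M (m+1)) ∧
          y - z ∈ I ^ m • (⊤ : Submodule R (AdicCompletion I M))) := by
      intro m y
      by_cases hy : y ∈ LinearMap.ker (AdicCompletion.eval I M m)
      · obtain ⟨z, hz, h⟩ := ker_step I M m y hy
        exact ⟨z, fun _ => ⟨hz, h⟩⟩
      · exact ⟨0, fun h => absurd h hy⟩
    choose σ hσ using step
    let g : ℕ → AdicCompletion I M := fun k => Nat.rec x (fun k y => σ (n + k) y) k
    have g0 : g 0 = x := rfl
    have gsucc : ∀ k, g (k+1) = σ (n + k) (g k) := fun k => rfl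
    have gmem : ∀ k, g k ∈ LinearMap.ker (AdicCompletion.eval I M (n + k)) := by
      intro k
      induction k with
      | zero => exact hx
      | succ k ih => rw [gsucc]; exact (hσ (n + k) (g k) ih).1
    have gs : ∀ k, (g k - g (k+1)) ∈ I ^ (n + k) • (⊤ : Submodule R (AdicCompletion I M)) :=
      fun k => (hσ (n + k) (g k) (gmem k)).2
    let s : ℕ → AdicCompletion I M := fun m => x - g (m - n)
    have hs1 : ∀ m, s (m + 1) - s m ∈ I ^ m • (⊤ : Submodule R (AdicCompletion I M)) := by
      intro m
      simp only [s]
      rw [sub_sub_sub_cancel_left]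
      by_cases hmn : m < n
      · have h1 : m + 1 - n = 0 := by omega
        have h2 : m - n = 0 := by omega
        rw [h1, h2, sub_self]
        exact zero_mem _
      · obtain ⟨k, rfl⟩ := Nat.exists_eq_add_of_le (not_lt.mp hmn)
        have h1 : n + k + 1 - n = k + 1 := by omega
        have h2 : n + k - n = k := by omega
        rw [h1, h2]
        exact gs k
    have hs : ∀ m m', m ≤ m' → s m ≡ s m' [SMOD (I ^ m • ⊤ : Submodule R (AdicCompletion I M))] := by
      intro m m' h
      induction m', h using Nat.le_induction with
      | base => rfl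
      | succ k hk ih =>
        refine ih.trans ?_
        rw [SModEq.sub_mem]
        have := hs1 k
        have h4 : s k - s (k+1) = -(s (k+1) - s k) := by abel
        rw [h4]
        exact neg_mem (Submodule.smul_mono_left (Ideal.pow_le_pow_right hk) this)
    obtain ⟨L, hL⟩ := hc.toIsPrecomplete.prec (fun {m m'} h => hs m m' h)
    have hxL : x = L := by
      rw [← sub_eq_zero]
      apply AdicCompletion.ext
      intro m
      rw [← AdicCompletion.eval_apply, ← AdicCompletion.eval_apply, map_zero, ← LinearMap.mem_ker]
      have hmm : ∀ m, n ≤ m → x - L ∈ LinearMap.ker (AdicCompletion.eval I M m) := by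
        intro m hm
        have h5 : x - L = g (m - n) + (s m - L) := by simp only [s]; abel
        rw [h5]
        refine add_mem ?_ ?_
        · obtain ⟨k, rfl⟩ := Nat.exists_eq_add_of_le hm
          have h2 : n + k - n = k := by omega
          rw [h2]
          exact gmem k
        · exact AdicCompletion.pow_smul_top_le_ker_eval (I := I) (M := M) m (SModEq.sub_mem.mp (hL m))
      by_cases hm : n ≤ m
      · exact hmm m hm
      · exact ker_anti I M (by omega : m ≤ n) (hmm n le_rfl)
    rw [hxL]
    have := hL n
    have hsn : s n = 0 := by simp only [s, Nat.sub_self, g0, sub_self]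
    rw [hsn] at this
    have := SModEq.sub_mem.mp this.symm
    simpa using this
  · intro h
    have hH : IsHausdorff I (AdicCompletion I M) := inferInstance
    refine { toIsHausdorff := hH, prec' := ?_ }
    intro f hf
    have hy : ∃ y : AdicCompletion I M, ∀ n, AdicCompletion.eval I M n y = AdicCompletion.eval I M n (f n) := by
      refine ⟨⟨fun n => AdicCompletion.eval I M n (f n), ?_⟩, fun n => rfl⟩
      intro m n hmn
      have h1 := AdicCompletion.transitionMap_comp_eval_apply (I := I) (M := M) hmn (f n)
      show AdicCompletion.transitionMap I M hmn ((f n).val n) = AdicCompletion.eval I M m (f m)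
      rw [h1, ← AdicCompletion.eval_apply, ← sub_eq_zero, ← map_sub, ← LinearMap.mem_ker]
      have := SModEq.sub_mem.mp (hf hmn)
      have := AdicCompletion.pow_smul_top_le_ker_eval (I := I) (M := M) m this
      rw [← neg_sub]
      exact neg_mem this
    obtain ⟨y, hy⟩ := hy
    refine ⟨y, ?_⟩
    · intro n
      rw [SModEq.sub_mem]
      by_cases hn : 1 ≤ n
      · rw [← h n hn, LinearMap.mem_ker, map_sub, sub_eq_zero, hy]
      · have : n = 0 := by omega
        subst this
        simp

end Groth.Agent.S9601
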