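import Groth.Statements.S9602
import Mathlib

set_option autoImplicit false
universe u
open CAlg

namespace Groth.Agent.S9602

theorem isUnit_of_evalOne {R : Type u} [CommRing R] (I : Ideal R) (x : AdicCompletion I R)
    (hx : IsUnit (AdicCompletion.evalOneₐ I x)) : IsUnit x := by
  obtain ⟨c, rfl⟩ := AdicCompletion.mk_surjective I R x
  have hc1 : IsUnit (Ideal.Quotient.mk I (c 1)) := by
    have : AdicCompletion.evalOneₐ I (AdicCompletion.mk I R c) = Ideal.Quotient.mk I (c 1) := by
      rw [← AdicCompletion.factorₐ_evalₐ_one, AdicCompletion.evalₐ_mk]; rfl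
    rwa [this] at hx
  have hmem : ∀ {m n}, m ≤ n → c m - c n ∈ I ^ m := by
    intro m n hmn
    have := c.property hmn
    rw [SModEq.sub_mem] at this
    simpa using this
  have hmod : ∀ {m n}, m ≤ n → Ideal.Quotient.mk (I^m) (c m) = Ideal.Quotient.mk (I^m) (c n) := by
    intro m n hmn
    rw [Ideal.Quotient.eq]
    exact hmem hmn
  have hunit : ∀ n, IsUnit (Ideal.Quotient.mk (I^n) (c n)) := by
    intro n
    rcases Nat.eq_zero_or_pos n with rfl | hn
    · have : Subsingleton (R ⧸ I^0) := by
        rw [pow_zero, Ideal.one_eq_top]; exact Ideal.Quotient.subsingleton_iff.mpr rfl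
      exact isUnit_of_subsingleton _
    · rw [Ideal.Quotient.isUnit_mk_pow_iff_isUnit_mk I hn.ne']
      have h1 : c 1 - c n ∈ I := by simpa using hmem (m := 1) (n := n) hn
      rw [← (Ideal.Quotient.eq.mpr h1)]; exact hc1
  choose d hd using fun n => Ideal.Quotient.mk_surjective (↑(hunit n).unit⁻¹ : R ⧸ I^n)
  have hcd : ∀ n, c n * d n - 1 ∈ I ^ n := by
    intro n
    rw [← Ideal.Quotient.eq, map_mul, hd, map_one, IsUnit.mul_val_inv]
  have hdC : ∀ {m n}, m ≤ n → d m - d n ∈ I ^ m := by
    intro m n hmn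
    have h1 : c n * d n - 1 ∈ I ^ m := Ideal.pow_le_pow_right hmn (hcd n)
    have h2 := hcd m
    have h3 := hmem hmn
    have : d m - d n = d m * (c n * d n - 1) * (-1) + d n * (c m * d m - 1) + d m * d n * (-(c m - c n)) := by
      ring
    rw [this]
    exact Ideal.add_mem _ (Ideal.add_mem _ (Ideal.mul_mem_right _ _ (Ideal.mul_mem_left _ _ h1))
      (Ideal.mul_mem_left _ _ h2)) (Ideal.mul_mem_left _ _ (neg_mem h3))
  let dC : AdicCompletion.AdicCauchySequence I R := ⟨d, by
    intro m n hmn
    rw [SModEq.sub_mem]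
    simpa using hdC hmn⟩
  refine IsUnit.of_mul_eq_one (AdicCompletion.mk I R dC) ?_
  apply AdicCompletion.ext_evalₐ
  intro n
  rw [map_mul, AdicCompletion.evalₐ_mk, AdicCompletion.evalₐ_mk, map_one, ← map_mul, ← map_one (Ideal.Quotient.mk (I ^ n)),
    Ideal.Quotient.eq]
  exact hcd n

/-- Let R be a ring, I an ideal of R and R^ = lim R/Iⁿ the I-adic completion. An element of R^ whose
image in R/I is invertible is itself invertible in R^; and the kernel of R^ → R/I as well as the
extended ideal I R^ both lie inside the Jacobson radical of R^. -/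
theorem result {R : Type u} [CommRing R] (I : Ideal R) :
    (∀ x : AdicCompletion I R, IsUnit (AdicCompletion.evalOneₐ I x) → IsUnit x) ∧
      RingHom.ker (AdicCompletion.evalOneₐ I).toRingHom ≤ (⊥ : Ideal (AdicCompletion I R)).jacobson ∧
      I.map (algebraMap R (AdicCompletion I R)) ≤ (⊥ : Ideal (AdicCompletion I R)).jacobson := by
  have h2 : RingHom.ker (AdicCompletion.evalOneₐ I).toRingHom ≤ (⊥ : Ideal (AdicCompletion I R)).jacobson := by
    intro x hx
    rw [Ideal.mem_jacobson_bot]
    intro y
    apply isUnit_of_evalOne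
    have : (AdicCompletion.evalOneₐ I) x = 0 := hx
    rw [map_add, map_mul, this, zero_mul, zero_add, map_one]
    exact isUnit_one
  refine ⟨isUnit_of_evalOne I, h2, le_trans ?_ h2⟩
  rw [Ideal.map_le_iff_le_comap]
  intro r hr
  rw [Ideal.mem_comap, RingHom.mem_ker]
  change (AdicCompletion.evalOneₐ I) (algebraMap R (AdicCompletion I R) r) = 0
  rw [AdicCompletion.algebraMap_apply]
  simp only [Algebra.algebraMap_self, RingHom.id_apply, AdicCompletion.evalOneₐ_of]
  exact Ideal.Quotient.eq_zero_iff_mem.mpr hr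

end Groth.Agent.S9602
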