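import Groth.Statements.S9603
import Mathlib

set_option autoImplicit false
universe u
open CAlg

namespace Groth.Agent.S9603

theorem isPrecomplete_sup {A : Type*} [CommRing A] (I J : Ideal A) (M : Type*) [AddCommGroup M] [Module A M]
    (hI : IsPrecomplete I M) (hJ : IsPrecomplete J M) : IsPrecomplete (I ⊔ J) M := by
  refine ⟨fun g hg => ?_⟩
  have hstep : ∀ n, ∃ a b : M, a ∈ I ^ n • (⊤ : Submodule A M) ∧ b ∈ J ^ n • (⊤ : Submodule A M) ∧
      a + b = g (2 * (n + 1)) - g (2 * n) := by
    intro n
    have h1 := SModEq.sub_mem.mp (hg (show 2 * n ≤ 2 * (n + 1) by omega))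
    have h2 : (I ⊔ J) ^ (2 * n) ≤ I ^ n ⊔ J ^ n := by
      rw [two_mul]; exact Ideal.sup_pow_add_le_pow_sup_pow
    have h3 := Submodule.smul_mono_left (N := (⊤ : Submodule A M)) h2 h1
    rw [Submodule.sup_smul, Submodule.mem_sup] at h3
    obtain ⟨a, ha, b, hb, hab⟩ := h3
    refine ⟨-a, -b, neg_mem ha, neg_mem hb, ?_⟩
    rw [← neg_add, hab, neg_sub]
  choose a b ha hb hab using hstep
  have hsum : ∀ (K : Ideal A) (c : ℕ → M), (∀ n, c n ∈ K ^ n • (⊤ : Submodule A M)) →
      ∀ {m n}, m ≤ n → (∑ k ∈ Finset.range m, c k) ≡ (∑ k ∈ Finset.range n, c k) [SMOD (K ^ m • ⊤ : Submodule A M)] := by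
    intro K c hc m n hmn
    induction n, hmn using Nat.le_induction with
    | base => rfl
    | succ k hk ih =>
      refine ih.trans ?_
      rw [Finset.sum_range_succ, SModEq.sub_mem]
      rw [sub_add_cancel_left]
      exact neg_mem (Submodule.smul_mono_left (Ideal.pow_le_pow_right hk) (hc k))
  obtain ⟨LA, hLA⟩ := hI.prec (hsum I a ha)
  obtain ⟨LB, hLB⟩ := hJ.prec (hsum J b hb)
  have hg2 : ∀ n, g (2 * n) = g 0 + ∑ k ∈ Finset.range n, a k + ∑ k ∈ Finset.range n, b k := by
    intro n
    induction n with
    | zero => simp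
    | succ n ih =>
      rw [Finset.sum_range_succ, Finset.sum_range_succ]
      have := hab n
      have h5 : g (2 * (n + 1)) = g (2 * n) + (a n + b n) := by rw [this]; abel
      rw [h5, ih]; abel
  refine ⟨g 0 + LA + LB, fun n => ?_⟩
  refine (hg (show n ≤ 2 * n by omega)).trans ?_
  rw [hg2 n, SModEq.sub_mem]
  have h6 : g 0 + ∑ k ∈ Finset.range n, a k + ∑ k ∈ Finset.range n, b k - (g 0 + LA + LB) =
    (∑ k ∈ Finset.range n, a k - LA) + (∑ k ∈ Finset.range n, b k - LB) := by abel
  rw [h6]
  refine add_mem ?_ ?_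
  · exact Submodule.smul_mono_left (Ideal.pow_right_mono le_sup_left n) (SModEq.sub_mem.mp (hLA n))
  · exact Submodule.smul_mono_left (Ideal.pow_right_mono le_sup_right n) (SModEq.sub_mem.mp (hLB n))

theorem isPrecomplete_span_range {A : Type*} [CommRing A] (M : Type*) [AddCommGroup M] [Module A M] :
    ∀ {r : ℕ} (f : Fin r → A), (∀ i, IsPrecomplete (Ideal.span {f i}) M) →
      IsPrecomplete (Ideal.span (Set.range f)) M := by
  intro r
  induction r with
  | zero =>
    intro f _
    have : Set.range f = ∅ := Set.range_eq_empty f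
    rw [this, Ideal.span_empty]
    infer_instance
  | succ r ih =>
    intro f hf
    have h1 : Set.range f = insert (f 0) (Set.range (Fin.tail f)) := by
      rw [Fin.range_fin_succ]
    rw [h1, Ideal.span_insert]
    exact isPrecomplete_sup _ _ M (hf 0) (ih (Fin.tail f) (fun i => hf i.succ))

/-- For a ring A, elements f_1, …, f_r generating an ideal I and an A-module M, if the canonical map
from M to its (f_i)-adic completion is surjective for every i, then the canonical map from M to its
I-adic completion is surjective. -/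
theorem result {A : Type u} [CommRing A] {r : ℕ} (f : Fin r → A) (M : Type u) [AddCommGroup M] [Module A M] (h : ∀ i, Function.Surjective (AdicCompletion.of (Ideal.span {f i}) M)) :
    Function.Surjective (AdicCompletion.of (Ideal.span (Set.range f)) M) := by
  rw [AdicCompletion.of_surjective_iff]
  exact isPrecomplete_span_range M f (fun i => AdicCompletion.of_surjective_iff.mp (h i))

end Groth.Agent.S9603
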