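import Groth.Statements.S9605
import Mathlib

set_option autoImplicit false
universe u
open CAlg

namespace Groth.Agent.S9605

/-- For a ring R, an ideal I of R, an I-adically complete R-module M and a submodule K of M, the
quotient M/K is I-adically complete if and only if K = ⋂ₙ (K + IⁿM). -/
theorem result {R : Type u} [CommRing R] (I : Ideal R) (M : Type u) [AddCommGroup M] [Module R M] [IsAdicComplete I M] (K : Submodule R M) :
    IsAdicComplete I (M ⧸ K) ↔ K = ⨅ n : ℕ, K ⊔ I ^ n • (⊤ : Submodule R M) := by
  have hpre : IsPrecomplete I (M ⧸ K) := by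
    rw [← AdicCompletion.of_surjective_iff]
    intro y
    obtain ⟨x, rfl⟩ := AdicCompletion.map_surjective I (f := K.mkQ) (Submodule.mkQ_surjective K) y
    obtain ⟨m, rfl⟩ := AdicCompletion.of_surjective I M x
    exact ⟨K.mkQ m, rfl⟩
  have hmem : ∀ (n : ℕ) (m : M), (K.mkQ m ∈ (I ^ n • ⊤ : Submodule R (M ⧸ K))) ↔
      m ∈ K ⊔ I ^ n • (⊤ : Submodule R M) := by
    intro n m
    have h1 : (I ^ n • ⊤ : Submodule R (M ⧸ K)) = Submodule.map K.mkQ (I ^ n • ⊤) := by
      rw [Submodule.map_smul'', Submodule.map_top, Submodule.range_mkQ]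
    rw [h1, ← Submodule.mem_comap, Submodule.comap_map_eq, Submodule.ker_mkQ, sup_comm]
  have hH : IsHausdorff I (M ⧸ K) ↔ (⨅ n : ℕ, K ⊔ I ^ n • (⊤ : Submodule R M)) ≤ K := by
    constructor
    · intro h m hm
      rw [Submodule.mem_iInf] at hm
      have : K.mkQ m = 0 := by
        apply h.haus
        intro n
        rw [SModEq.zero, hmem]
        exact hm n
      simpa using this
    · intro h
      constructor
      intro x hx
      obtain ⟨m, rfl⟩ := Submodule.mkQ_surjective K x
      rw [Submodule.mkQ_apply, Submodule.Quotient.mk_eq_zero]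
      apply h
      rw [Submodule.mem_iInf]
      intro n
      rw [← hmem]
      exact SModEq.zero.mp (hx n)
  constructor
  · intro h
    exact le_antisymm (le_iInf fun n => le_sup_left) (hH.mp h.toIsHausdorff)
  · intro h
    have := hH.mpr h.ge
    exact ⟨⟩

end Groth.Agent.S9605
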