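import Groth.Statements.S9606
import Mathlib

set_option autoImplicit false
universe u
open CAlg

namespace Groth.Agent.S9606

theorem key {R S : Type u} [CommRing R] [CommRing S] [Algebra R S]
    (hgen : Algebra.adjoin R {x : S | x ^ 2 ∈ Set.range (algebraMap R S) ∧ x ^ 3 ∈ Set.range (algebraMap R S)} = ⊤)
    (p : Ideal R) [p.IsPrime] (s : S) :
    ∃ r d : R, d ∉ p ∧ ∀ q : Ideal S, q.IsPrime → q.comap (algebraMap R S) = p →
      algebraMap R S d * s - algebraMap R S r ∈ q := by
  have hs : s ∈ Algebra.adjoin R {x : S | x ^ 2 ∈ Set.range (algebraMap R S) ∧ x ^ 3 ∈ Set.range (algebraMap R S)} := by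
    rw [hgen]; trivial
  induction hs using Algebra.adjoin_induction with
  | mem x hx =>
    obtain ⟨⟨a, ha⟩, ⟨b, hb⟩⟩ := hx
    by_cases hap : a ∈ p
    · refine ⟨0, 1, fun h => (Ideal.IsPrime.ne_top ‹_›) ((Ideal.eq_top_iff_one _).mpr h), fun q hq hqp => ?_⟩
      have : x ^ 2 ∈ q := by
        rw [← ha]
        have : a ∈ q.comap (algebraMap R S) := hqp ▸ hap
        exact this
      have hxq : x ∈ q := hq.mem_of_pow_mem 2 this
      simpa using hxq
    · refine ⟨b, a, hap, fun q hq hqp => ?_⟩
      rw [ha, hb]
      have : x ^ 2 * x - x ^ 3 = 0 := by ring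
      rw [this]
      exact q.zero_mem
  | algebraMap c =>
    refine ⟨c, 1, fun h => (Ideal.IsPrime.ne_top ‹_›) ((Ideal.eq_top_iff_one _).mpr h), fun q hq hqp => ?_⟩
    simp
  | add s1 s2 _ _ h1 h2 =>
    obtain ⟨r1, d1, hd1, h1⟩ := h1
    obtain ⟨r2, d2, hd2, h2⟩ := h2
    refine ⟨d2 * r1 + d1 * r2, d1 * d2, fun h => (Ideal.IsPrime.mem_or_mem ‹_› h).elim hd1 hd2, fun q hq hqp => ?_⟩
    have e : algebraMap R S (d1 * d2) * (s1 + s2) - algebraMap R S (d2 * r1 + d1 * r2) =
        algebraMap R S d2 * (algebraMap R S d1 * s1 - algebraMap R S r1) +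
        algebraMap R S d1 * (algebraMap R S d2 * s2 - algebraMap R S r2) := by
      simp only [map_mul, map_add]; ring
    rw [e]
    exact q.add_mem (q.mul_mem_left _ (h1 q hq hqp)) (q.mul_mem_left _ (h2 q hq hqp))
  | mul s1 s2 _ _ h1 h2 =>
    obtain ⟨r1, d1, hd1, h1⟩ := h1
    obtain ⟨r2, d2, hd2, h2⟩ := h2
    refine ⟨r1 * r2, d1 * d2, fun h => (Ideal.IsPrime.mem_or_mem ‹_› h).elim hd1 hd2, fun q hq hqp => ?_⟩
    have e : algebraMap R S (d1 * d2) * (s1 * s2) - algebraMap R S (r1 * r2) =
        (algebraMap R S d2 * s2) * (algebraMap R S d1 * s1 - algebraMap R S r1) +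
        algebraMap R S r1 * (algebraMap R S d2 * s2 - algebraMap R S r2) := by
      simp only [map_mul]; ring
    rw [e]
    exact q.add_mem (q.mul_mem_left _ (h1 q hq hqp)) (q.mul_mem_left _ (h2 q hq hqp))

/-- Let R → S be a ring map with locally nilpotent kernel such that S is generated over R by elements x
with x² and x³ in the image of R. Then the induced map on spectra is a homeomorphism and every
residue field map κ(p) → κ(q), for q a prime of S with inverse image p, is bijective. -/
theorem result {R S : Type u} [CommRing R] [CommRing S] [Algebra R S]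
    (hgen : Algebra.adjoin R {x : S | x ^ 2 ∈ Set.range (algebraMap R S) ∧ x ^ 3 ∈ Set.range (algebraMap R S)} = ⊤)
    (hker : ∀ r : R, algebraMap R S r = 0 → IsNilpotent r) :
    IsHomeomorph (PrimeSpectrum.comap (algebraMap R S)) ∧
      ∀ (q : Ideal S) [q.IsPrime], Function.Bijective (Ideal.ResidueField.map (q.comap (algebraMap R S)) q (algebraMap R S) rfl) := by
  have hint : Algebra.IsIntegral R S := by
    have hle : Algebra.adjoin R {x : S | x ^ 2 ∈ Set.range (algebraMap R S) ∧ x ^ 3 ∈ Set.range (algebraMap R S)} ≤ integralClosure R S := by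
      apply Algebra.adjoin_le
      rintro x ⟨⟨a, ha⟩, _⟩
      have : IsIntegral R (x ^ 2) := ha ▸ isIntegral_algebraMap
      exact IsIntegral.of_pow (by norm_num) this
    rw [hgen] at hle
    exact ⟨fun x => hle trivial⟩
  refine ⟨?_, ?_⟩
  · rw [isHomeomorph_iff_continuous_isClosedMap_bijective]
    refine ⟨PrimeSpectrum.continuous_comap _, PrimeSpectrum.isClosedMap_comap_of_isIntegral _ (algebraMap_isIntegral_iff.mpr hint), ?_, ?_⟩
    · intro q q' hqq
      have hcomap : q.asIdeal.comap (algebraMap R S) = q'.asIdeal.comap (algebraMap R S) :=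
        congrArg PrimeSpectrum.asIdeal hqq
      have hle : ∀ (q q' : PrimeSpectrum S), q.asIdeal.comap (algebraMap R S) = q'.asIdeal.comap (algebraMap R S) →
          q.asIdeal ≤ q'.asIdeal := by
        intro q q' hcomap s hs
        haveI : (q.asIdeal.comap (algebraMap R S)).IsPrime := Ideal.comap_isPrime _ _
        obtain ⟨r, d, hd, h⟩ := key hgen (q.asIdeal.comap (algebraMap R S)) s
        have h1 := h q.asIdeal q.isPrime rfl
        have h2 := h q'.asIdeal q'.isPrime hcomap.symm
        have hr : algebraMap R S r ∈ q.asIdeal := by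
          have := q.asIdeal.sub_mem (q.asIdeal.mul_mem_left (algebraMap R S d) hs) h1
          simpa using this
        have hr' : algebraMap R S r ∈ q'.asIdeal := by
          have : r ∈ q'.asIdeal.comap (algebraMap R S) := hcomap ▸ hr
          exact this
        have hds : algebraMap R S d * s ∈ q'.asIdeal := by
          have := q'.asIdeal.add_mem h2 hr'
          simpa using this
        rcases q'.isPrime.mem_or_mem hds with h3 | h3
        · exfalso
          apply hd
          rw [hcomap]
          exact h3
        · exact h3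
      exact PrimeSpectrum.ext (le_antisymm (hle q q' hcomap) (hle q' q hcomap.symm))
    · intro P
      obtain ⟨Q, _, hQ, hQP⟩ := Ideal.exists_ideal_over_prime_of_isIntegral P.asIdeal (⊥ : Ideal S) (by
        intro r hr
        have : algebraMap R S r = 0 := hr
        obtain ⟨n, hn⟩ := hker r this
        exact P.isPrime.mem_of_pow_mem n (hn ▸ P.asIdeal.zero_mem))
      exact ⟨⟨Q, hQ⟩, PrimeSpectrum.ext hQP⟩
  · intro q hq
    refine ⟨RingHom.injective _, ?_⟩
    intro z
    obtain ⟨s', t', ht', rfl⟩ := IsFractionRing.div_surjective (A := S ⧸ q) z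
    obtain ⟨s, rfl⟩ := Ideal.Quotient.mk_surjective s'
    obtain ⟨t, rfl⟩ := Ideal.Quotient.mk_surjective t'
    have htq : t ∉ q := by
      intro h
      have : Ideal.Quotient.mk q t = 0 := Ideal.Quotient.eq_zero_iff_mem.mpr h
      exact (mem_nonZeroDivisors_iff_ne_zero.mp ht') this
    obtain ⟨r1, d1, hd1, h1⟩ := key hgen (q.comap (algebraMap R S)) s
    obtain ⟨r2, d2, hd2, h2⟩ := key hgen (q.comap (algebraMap R S)) t
    have h1 := h1 q hq rfl
    have h2 := h2 q hq rfl
    rw [Ideal.algebraMap_quotient_residueField_mk, Ideal.algebraMap_quotient_residueField_mk]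
    have e1 : algebraMap S q.ResidueField (algebraMap R S d1) * algebraMap S q.ResidueField s =
        algebraMap S q.ResidueField (algebraMap R S r1) := by
      rw [← map_mul, ← sub_eq_zero, ← map_sub]
      exact Ideal.algebraMap_residueField_eq_zero.mpr h1
    have e2 : algebraMap S q.ResidueField (algebraMap R S d2) * algebraMap S q.ResidueField t =
        algebraMap S q.ResidueField (algebraMap R S r2) := by
      rw [← map_mul, ← sub_eq_zero, ← map_sub]
      exact Ideal.algebraMap_residueField_eq_zero.mpr h2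
    have hd1' : algebraMap S q.ResidueField (algebraMap R S d1) ≠ 0 := by
      rw [ne_eq, Ideal.algebraMap_residueField_eq_zero]
      exact hd1
    have hd2' : algebraMap S q.ResidueField (algebraMap R S d2) ≠ 0 := by
      rw [ne_eq, Ideal.algebraMap_residueField_eq_zero]
      exact hd2
    have ht0 : algebraMap S q.ResidueField t ≠ 0 := by
      rw [ne_eq, Ideal.algebraMap_residueField_eq_zero]
      exact htq
    have hr2 : algebraMap S q.ResidueField (algebraMap R S r2) ≠ 0 := by
      rw [← e2]
      exact mul_ne_zero hd2' ht0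
    refine ⟨(algebraMap R (q.comap (algebraMap R S)).ResidueField r1 * algebraMap R (q.comap (algebraMap R S)).ResidueField d2) /
      (algebraMap R (q.comap (algebraMap R S)).ResidueField d1 * algebraMap R (q.comap (algebraMap R S)).ResidueField r2), ?_⟩
    rw [map_div₀, map_mul, map_mul]
    simp only [Ideal.ResidueField.map_algebraMap]
    rw [← e1, ← e2]
    field_simp

end Groth.Agent.S9606
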