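import Groth.Statements.S9607
import Mathlib

set_option autoImplicit false
universe u
open CAlg

namespace Groth.Agent.S9607

/-- For a prime number p and integers n, m > 0 there exists an integer a such that (x + y)^(p^a) and p^a
(x + y) both belong to the subring ℤ[x^(p^n), p^n x, y^(p^m), p^m y] of the polynomial ring ℤ[x, y]. -/
theorem result (p : ℕ) (hp : p.Prime) (n m : ℕ) (hn : 0 < n) (hm : 0 < m) :
    ∃ a : ℕ, ((MvPolynomial.X 0 + MvPolynomial.X 1 : MvPolynomial (Fin 2) ℤ) ^ (p ^ a) ∈ Algebra.adjoin ℤ ({MvPolynomial.X 0 ^ (p ^ n), (p : MvPolynomial (Fin 2) ℤ) ^ n * MvPolynomial.X 0, MvPolynomial.X 1 ^ (p ^ m), (p : MvPolynomial (Fin 2) ℤ) ^ m * MvPolynomial.X 1} : Set (MvPolynomial (Fin 2) ℤ)) ∧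
      (p : MvPolynomial (Fin 2) ℤ) ^ a * (MvPolynomial.X 0 + MvPolynomial.X 1) ∈ Algebra.adjoin ℤ ({MvPolynomial.X 0 ^ (p ^ n), (p : MvPolynomial (Fin 2) ℤ) ^ n * MvPolynomial.X 0, MvPolynomial.X 1 ^ (p ^ m), (p : MvPolynomial (Fin 2) ℤ) ^ m * MvPolynomial.X 1} : Set (MvPolynomial (Fin 2) ℤ))) := by
  set B := Algebra.adjoin ℤ ({MvPolynomial.X 0 ^ (p ^ n), (p : MvPolynomial (Fin 2) ℤ) ^ n * MvPolynomial.X 0, MvPolynomial.X 1 ^ (p ^ m), (p : MvPolynomial (Fin 2) ℤ) ^ m * MvPolynomial.X 1} : Set (MvPolynomial (Fin 2) ℤ)) with hB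
  have h1 : (MvPolynomial.X 0 ^ (p ^ n) : MvPolynomial (Fin 2) ℤ) ∈ B :=
    Algebra.subset_adjoin (by simp)
  have h2 : ((p : MvPolynomial (Fin 2) ℤ) ^ n * MvPolynomial.X 0 : MvPolynomial (Fin 2) ℤ) ∈ B :=
    Algebra.subset_adjoin (by simp)
  have h3 : (MvPolynomial.X 1 ^ (p ^ m) : MvPolynomial (Fin 2) ℤ) ∈ B :=
    Algebra.subset_adjoin (by simp)
  have h4 : ((p : MvPolynomial (Fin 2) ℤ) ^ m * MvPolynomial.X 1 : MvPolynomial (Fin 2) ℤ) ∈ B :=
    Algebra.subset_adjoin (by simp)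
  have hpB : ∀ e : ℕ, ((p : MvPolynomial (Fin 2) ℤ)) ^ e ∈ B := fun e => pow_mem (natCast_mem B p) e
  -- monomial lemma
  have hmon : ∀ (t : MvPolynomial (Fin 2) ℤ) (c : ℕ), t ^ (p ^ c) ∈ B → (p : MvPolynomial (Fin 2) ℤ) ^ c * t ∈ B →
      ∀ i : ℕ, (p : MvPolynomial (Fin 2) ℤ) ^ (c * p ^ c) * t ^ i ∈ B := by
    intro t c ht1 ht2 i
    have hr : i % p ^ c < p ^ c := Nat.mod_lt _ (pow_pos hp.pos c)
    have hi : i = p ^ c * (i / p ^ c) + i % p ^ c := (Nat.div_add_mod i (p ^ c)).symm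
    have hexp : c * p ^ c = c * (p ^ c - i % p ^ c) + c * (i % p ^ c) := by
      rw [← Nat.mul_add, Nat.sub_add_cancel hr.le]
    have : (p : MvPolynomial (Fin 2) ℤ) ^ (c * p ^ c) * t ^ i =
        (p : MvPolynomial (Fin 2) ℤ) ^ (c * (p ^ c - i % p ^ c)) * ((p : MvPolynomial (Fin 2) ℤ) ^ c * t) ^ (i % p ^ c)
          * (t ^ (p ^ c)) ^ (i / p ^ c) := by
      conv_lhs => rw [hi, hexp]
      rw [pow_add, pow_add, mul_pow, ← pow_mul, ← pow_mul]
      ring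
    rw [this]
    exact mul_mem (mul_mem (hpB _) (pow_mem ht2 _)) (pow_mem ht1 _)
  set N := n * p ^ n + m * p ^ m with hN
  have hall : ∀ f : MvPolynomial (Fin 2) ℤ, (p : MvPolynomial (Fin 2) ℤ) ^ N * f ∈ B := by
    intro f
    induction f using MvPolynomial.induction_on' with
    | monomial u a =>
      have : MvPolynomial.monomial u a = MvPolynomial.C a * (MvPolynomial.X 0 ^ u 0 * MvPolynomial.X 1 ^ u 1) := by
        rw [MvPolynomial.monomial_eq, Finsupp.prod_fintype _ _ (fun i => pow_zero _), Fin.prod_univ_two]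
      rw [this]
      have h5 := hmon _ n h1 h2 (u 0)
      have h6 := hmon _ m h3 h4 (u 1)
      have : (p : MvPolynomial (Fin 2) ℤ) ^ N * (MvPolynomial.C a * (MvPolynomial.X 0 ^ u 0 * MvPolynomial.X 1 ^ u 1)) =
          MvPolynomial.C a * (((p : MvPolynomial (Fin 2) ℤ) ^ (n * p ^ n) * MvPolynomial.X 0 ^ u 0) *
            ((p : MvPolynomial (Fin 2) ℤ) ^ (m * p ^ m) * MvPolynomial.X 1 ^ u 1)) := by
        rw [hN, pow_add]; ring
      rw [this]
      exact mul_mem (B.algebraMap_mem a) (mul_mem h5 h6)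
    | add f g hf hg =>
      rw [mul_add]
      exact add_mem hf hg
  have hu : (MvPolynomial.X 0 ^ (p ^ (n + m)) + MvPolynomial.X 1 ^ (p ^ (n + m)) : MvPolynomial (Fin 2) ℤ) ∈ B := by
    refine add_mem ?_ ?_
    · rw [pow_add, pow_mul]; exact pow_mem h1 _
    · rw [pow_add, mul_comm, pow_mul]; exact pow_mem h3 _
  refine ⟨(n + m) + N, ?_, ?_⟩
  · obtain ⟨r, hr⟩ := exists_add_pow_prime_pow_eq hp (MvPolynomial.X 0 : MvPolynomial (Fin 2) ℤ) (MvPolynomial.X 1) (n + m)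
    have hdvd : (p : MvPolynomial (Fin 2) ℤ) ∣ (MvPolynomial.X 0 + MvPolynomial.X 1) ^ (p ^ (n + m)) -
        (MvPolynomial.X 0 ^ (p ^ (n + m)) + MvPolynomial.X 1 ^ (p ^ (n + m))) := by
      rw [hr]
      exact ⟨MvPolynomial.X 0 * MvPolynomial.X 1 * r, by ring⟩
    obtain ⟨g, hg⟩ := dvd_sub_pow_of_dvd_sub hdvd N
    rw [pow_add, pow_mul]
    rw [sub_eq_iff_eq_add] at hg
    rw [hg, pow_succ]
    refine add_mem ?_ (pow_mem hu _)
    have : (p : MvPolynomial (Fin 2) ℤ) ^ N * ↑p * g = (p : MvPolynomial (Fin 2) ℤ) * ((p : MvPolynomial (Fin 2) ℤ) ^ N * g) := by ring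
    rw [this]
    exact mul_mem (natCast_mem B p) (hall g)
  · rw [pow_add, mul_assoc]
    exact mul_mem (hpB _) (hall _)

end Groth.Agent.S9607
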