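import Groth.Statements.S9608
import Mathlib

set_option autoImplicit false
universe u
open CAlg

namespace Groth.Agent.S9608

/-- Let k'/k be a field extension and p a prime number. Then k' is generated over k by elements x for
which some n > 0 has x^(p^n) ∈ k and p^n x ∈ k, if and only if either k' = k, or k has
characteristic p and k'/k is purely inseparable. -/
theorem result {k k' : Type u} [Field k] [Field k'] [Algebra k k'] (p : ℕ) (hp : p.Prime) :
    IntermediateField.adjoin k {x : k' | ∃ n : ℕ, 0 < n ∧ x ^ (p ^ n) ∈ Set.range (algebraMap k k') ∧ (p : k') ^ n * x ∈ Set.range (algebraMap k k')} = ⊤ ↔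
      (Function.Surjective (algebraMap k k') ∨ (CharP k p ∧ IsPurelyInseparable k k')) := by
  constructor
  · intro h
    by_cases hchar : CharP k p
    · right
      refine ⟨hchar, ?_⟩
      have : ExpChar k p := ExpChar.prime hp
      have h1 : IsPurelyInseparable k (IntermediateField.adjoin k {x : k' | ∃ n : ℕ, 0 < n ∧ x ^ (p ^ n) ∈ Set.range (algebraMap k k') ∧ (p : k') ^ n * x ∈ Set.range (algebraMap k k')}) := by
        rw [IntermediateField.isPurelyInseparable_adjoin_iff_pow_mem k k' p]
        rintro x ⟨n, _, hx, _⟩
        exact ⟨n, by simpa using hx⟩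
      rw [h] at h1
      exact (IntermediateField.topEquiv (F := k) (E := k')).isPurelyInseparable
    · left
      have hp0 : (p : k) ≠ 0 := fun h0 => hchar ((CharP.charP_iff_prime_eq_zero hp).mpr h0)
      have hle : IntermediateField.adjoin k {x : k' | ∃ n : ℕ, 0 < n ∧ x ^ (p ^ n) ∈ Set.range (algebraMap k k') ∧ (p : k') ^ n * x ∈ Set.range (algebraMap k k')} ≤ ⊥ := by
        rw [IntermediateField.adjoin_le_iff]
        rintro x ⟨n, _, _, ⟨c, hc⟩⟩
        rw [SetLike.mem_coe, IntermediateField.mem_bot]
        refine ⟨c / (p : k) ^ n, ?_⟩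
        rw [map_div₀, hc, map_pow, map_natCast]
        have : (p : k') ≠ 0 := by
          rw [← map_natCast (algebraMap k k')]
          exact (map_ne_zero _).mpr hp0
        field_simp
      rw [h] at hle
      intro x
      have : x ∈ (⊥ : IntermediateField k k') := hle (IntermediateField.mem_top)
      exact IntermediateField.mem_bot.mp this
  · rintro (h | ⟨hchar, hpi⟩)
    · rw [eq_top_iff]
      intro x _
      obtain ⟨c, rfl⟩ := h x
      exact IntermediateField.algebraMap_mem _ c
    · rw [eq_top_iff]
      intro x _
      apply IntermediateField.subset_adjoin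
      have : ExpChar k p := ExpChar.prime hp
      obtain ⟨n, c, hc⟩ := IsPurelyInseparable.pow_mem k p x
      refine ⟨n + 1, Nat.succ_pos _, ⟨c ^ p, ?_⟩, ⟨0, ?_⟩⟩
      · rw [map_pow, hc, pow_succ, pow_mul]
      · haveI : CharP k' p := charP_of_injective_algebraMap (algebraMap k k').injective p
        rw [CharP.cast_eq_zero k' p, map_zero, zero_pow (Nat.succ_ne_zero _), zero_mul]

end Groth.Agent.S9608
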