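import Groth.Statements.S9609
import Mathlib

set_option autoImplicit false
universe u
open CAlg

namespace Groth.Agent.S9609

theorem radicial_of_hyp {R S : Type u} [CommRing R] [CommRing S] [Algebra R S]
    (hinj : Function.Injective (PrimeSpectrum.comap (algebraMap R S)))
    (hpi : ∀ (q : Ideal S) [q.IsPrime] (x : q.ResidueField), ∃ n : ℕ, x ^ (ringExpChar (q.comap (algebraMap R S)).ResidueField) ^ n ∈ Set.range (Ideal.ResidueField.map (q.comap (algebraMap R S)) q (algebraMap R S) rfl))
    (K : Type u) [Field K] (f g : S →+* K) (h : f.comp (algebraMap R S) = g.comp (algebraMap R S)) :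
    f = g := by
  have hkf : (RingHom.ker f).IsPrime := RingHom.ker_isPrime f
  have hkg : (RingHom.ker g).IsPrime := RingHom.ker_isPrime g
  have hker : RingHom.ker f = RingHom.ker g := by
    have h1 := @hinj ⟨RingHom.ker f, hkf⟩ ⟨RingHom.ker g, hkg⟩ (by
      apply PrimeSpectrum.ext
      change (RingHom.ker f).comap (algebraMap R S) = (RingHom.ker g).comap (algebraMap R S)
      rw [RingHom.comap_ker, RingHom.comap_ker, h])
    exact congrArg PrimeSpectrum.asIdeal h1
  obtain ⟨q, hq⟩ : ∃ q : Ideal S, q = RingHom.ker f := ⟨_, rfl⟩
  haveI : q.IsPrime := hq ▸ hkf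
  have hqg : q = RingHom.ker g := hq.trans hker
  let fbar : q.ResidueField →+* K := Ideal.ResidueField.lift q f hq.le (by
    intro x hx
    have : f x ≠ 0 := fun h0 => hx (hq ▸ (RingHom.mem_ker.mpr h0))
    exact isUnit_iff_ne_zero.mpr this)
  let gbar : q.ResidueField →+* K := Ideal.ResidueField.lift q g hqg.le (by
    intro x hx
    have : g x ≠ 0 := fun h0 => hx (hqg ▸ (RingHom.mem_ker.mpr h0))
    exact isUnit_iff_ne_zero.mpr this)
  letI : Algebra (q.comap (algebraMap R S)).ResidueField q.ResidueField :=
    (Ideal.ResidueField.map (q.comap (algebraMap R S)) q (algebraMap R S) rfl).toAlgebra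
  haveI : IsPurelyInseparable (q.comap (algebraMap R S)).ResidueField q.ResidueField := by
    rw [isPurelyInseparable_iff_pow_mem _ (ringExpChar (q.comap (algebraMap R S)).ResidueField)]
    intro x
    obtain ⟨n, hn⟩ := hpi q x
    exact ⟨n, hn⟩
  have hinj2 := IsPurelyInseparable.injective_comp_algebraMap
    (q.comap (algebraMap R S)).ResidueField q.ResidueField K
  have hbar : fbar = gbar := hinj2 (by
    apply Ideal.ResidueField.ringHom_ext
    ext r
    simp only [RingHom.comp_apply]
    change fbar (Ideal.ResidueField.map _ q (algebraMap R S) rfl (algebraMap R _ r)) =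
      gbar (Ideal.ResidueField.map _ q (algebraMap R S) rfl (algebraMap R _ r))
    rw [Ideal.ResidueField.map_algebraMap]
    have e1 : fbar (algebraMap S q.ResidueField (algebraMap R S r)) = f (algebraMap R S r) :=
      Ideal.ResidueField.lift_algebraMap q f _ _ _
    have e2 : gbar (algebraMap S q.ResidueField (algebraMap R S r)) = g (algebraMap R S r) :=
      Ideal.ResidueField.lift_algebraMap q g _ _ _
    rw [e1, e2]
    exact RingHom.congr_fun h r)
  ext s
  have h2 : fbar (algebraMap S q.ResidueField s) = gbar (algebraMap S q.ResidueField s) := by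
    rw [hbar]
  have e1 : fbar (algebraMap S q.ResidueField s) = f s :=
    Ideal.ResidueField.lift_algebraMap q f _ _ _
  have e2 : gbar (algebraMap S q.ResidueField s) = g s :=
    Ideal.ResidueField.lift_algebraMap q g _ _ _
  rw [← e1, ← e2, h2]

open TensorProduct in
theorem radicial_baseChange {R S R' : Type u} [CommRing R] [CommRing S] [CommRing R'] [Algebra R S] [Algebra R R']
    (hrad : ∀ (K : Type u) [Field K] (f g : S →+* K), f.comp (algebraMap R S) = g.comp (algebraMap R S) → f = g)
    (K : Type u) [Field K] (f g : (R' ⊗[R] S) →+* K)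
    (h : f.comp (algebraMap R' (R' ⊗[R] S)) = g.comp (algebraMap R' (R' ⊗[R] S))) : f = g := by
  have h2 : f.comp (Algebra.TensorProduct.includeRight (R := R) (A := R') (B := S)).toRingHom =
      g.comp (Algebra.TensorProduct.includeRight (R := R) (A := R') (B := S)).toRingHom := by
    apply hrad
    ext r
    simp only [RingHom.comp_apply, AlgHom.toRingHom_eq_coe, RingHom.coe_coe, AlgHom.commutes]
    have := RingHom.congr_fun h (algebraMap R R' r)
    simp only [RingHom.comp_apply] at this
    rw [← IsScalarTower.algebraMap_apply] at this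
    exact this
  refine RingHom.ext fun x => ?_
  induction x using TensorProduct.induction_on with
  | zero => simp
  | tmul a b =>
    have e : a ⊗ₜ[R] b = (algebraMap R' (R' ⊗[R] S) a) * (Algebra.TensorProduct.includeRight (R := R) (A := R') (B := S) b) := by
      simp [Algebra.TensorProduct.algebraMap_apply]
    rw [e, map_mul, map_mul]
    congr 1
    · exact RingHom.congr_fun h a
    · exact RingHom.congr_fun h2 b
  | add x y hx hy => rw [map_add, map_add, hx, hy]

theorem residue_pi_of_radicial {A T : Type u} [CommRing A] [CommRing T] [Algebra A T]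
    (hrad : ∀ (K : Type u) [Field K] (f g : T →+* K), f.comp (algebraMap A T) = g.comp (algebraMap A T) → f = g)
    (q : Ideal T) [q.IsPrime] (x : q.ResidueField) :
    ∃ n : ℕ, x ^ (ringExpChar (q.comap (algebraMap A T)).ResidueField) ^ n ∈ Set.range (Ideal.ResidueField.map (q.comap (algebraMap A T)) q (algebraMap A T) rfl) := by
  letI : Algebra (q.comap (algebraMap A T)).ResidueField q.ResidueField :=
    (Ideal.ResidueField.map (q.comap (algebraMap A T)) q (algebraMap A T) rfl).toAlgebra
  haveI : Nonempty (q.ResidueField →+* AlgebraicClosure q.ResidueField) := ⟨algebraMap _ _⟩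
  haveI : IsPurelyInseparable (q.comap (algebraMap A T)).ResidueField q.ResidueField := by
    refine IsPurelyInseparable.of_injective_comp_algebraMap _ _ (AlgebraicClosure q.ResidueField) ?_
    intro f g hfg
    apply Ideal.ResidueField.ringHom_ext
    apply hrad
    ext a
    have h1 := RingHom.congr_fun hfg (algebraMap A _ a)
    simp only [RingHom.comp_apply] at h1 ⊢
    change f (Ideal.ResidueField.map _ q (algebraMap A T) rfl (algebraMap A _ a)) =
      g (Ideal.ResidueField.map _ q (algebraMap A T) rfl (algebraMap A _ a)) at h1
    rw [Ideal.ResidueField.map_algebraMap] at h1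
    exact h1
  exact (isPurelyInseparable_iff_pow_mem _ (ringExpChar (q.comap (algebraMap A T)).ResidueField)).mp this x

theorem spec_injective_of_radicial {A T : Type u} [CommRing A] [CommRing T] [Algebra A T]
    (hrad : ∀ (K : Type u) [Field K] (f g : T →+* K), f.comp (algebraMap A T) = g.comp (algebraMap A T) → f = g) :
    Function.Injective (PrimeSpectrum.comap (algebraMap A T)) := by
  rintro ⟨q1, hq1⟩ ⟨q2, hq2⟩ h
  have hp : q1.comap (algebraMap A T) = q2.comap (algebraMap A T) := congrArg PrimeSpectrum.asIdeal h
  letI alg1 : Algebra (q1.comap (algebraMap A T)).ResidueField q1.ResidueField :=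
    (Ideal.ResidueField.map (q1.comap (algebraMap A T)) q1 (algebraMap A T) rfl).toAlgebra
  letI alg2 : Algebra (q1.comap (algebraMap A T)).ResidueField q2.ResidueField :=
    (Ideal.ResidueField.map (q1.comap (algebraMap A T)) q2 (algebraMap A T) hp).toAlgebra
  haveI : Nontrivial (TensorProduct (q1.comap (algebraMap A T)).ResidueField q1.ResidueField q2.ResidueField) :=
    inferInstance
  obtain ⟨m, hm⟩ := Ideal.exists_maximal
    (TensorProduct (q1.comap (algebraMap A T)).ResidueField q1.ResidueField q2.ResidueField)
  letI : Field (TensorProduct (q1.comap (algebraMap A T)).ResidueField q1.ResidueField q2.ResidueField ⧸ m) :=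
    Ideal.Quotient.field m
  let i1 : q1.ResidueField →+* (TensorProduct (q1.comap (algebraMap A T)).ResidueField q1.ResidueField q2.ResidueField ⧸ m) :=
    (Ideal.Quotient.mk m).comp (Algebra.TensorProduct.includeLeft (R := (q1.comap (algebraMap A T)).ResidueField) (S := (q1.comap (algebraMap A T)).ResidueField) (A := q1.ResidueField) (B := q2.ResidueField)).toRingHom
  let i2 : q2.ResidueField →+* (TensorProduct (q1.comap (algebraMap A T)).ResidueField q1.ResidueField q2.ResidueField ⧸ m) :=
    (Ideal.Quotient.mk m).comp (Algebra.TensorProduct.includeRight (R := (q1.comap (algebraMap A T)).ResidueField) (A := q1.ResidueField) (B := q2.ResidueField)).toRingHom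
  have hfg : i1.comp (algebraMap T q1.ResidueField) = i2.comp (algebraMap T q2.ResidueField) := by
    apply hrad
    ext a
    simp only [RingHom.comp_apply, i1, i2]
    congr 1
    have e1 : algebraMap T q1.ResidueField (algebraMap A T a) =
        algebraMap (q1.comap (algebraMap A T)).ResidueField q1.ResidueField (algebraMap A _ a) :=
      (Ideal.ResidueField.map_algebraMap _ q1 (algebraMap A T) rfl a).symm
    have e2 : algebraMap T q2.ResidueField (algebraMap A T a) =
        algebraMap (q1.comap (algebraMap A T)).ResidueField q2.ResidueField (algebraMap A _ a) :=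
      (Ideal.ResidueField.map_algebraMap _ q2 (algebraMap A T) hp a).symm
    rw [e1, e2]
    simp only [AlgHom.toRingHom_eq_coe, RingHom.coe_coe, AlgHom.commutes]
  have hk1 : RingHom.ker (i1.comp (algebraMap T q1.ResidueField)) = q1 := by
    rw [← RingHom.comap_ker, (RingHom.injective_iff_ker_eq_bot i1).mp i1.injective]
    rw [← RingHom.ker_eq_comap_bot, Ideal.ker_algebraMap_residueField]
  have hk2 : RingHom.ker (i2.comp (algebraMap T q2.ResidueField)) = q2 := by
    rw [← RingHom.comap_ker, (RingHom.injective_iff_ker_eq_bot i2).mp i2.injective]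
    rw [← RingHom.ker_eq_comap_bot, Ideal.ker_algebraMap_residueField]
  apply PrimeSpectrum.ext
  change q1 = q2
  calc q1 = RingHom.ker (i1.comp (algebraMap T q1.ResidueField)) := hk1.symm
    _ = RingHom.ker (i2.comp (algebraMap T q2.ResidueField)) := by rw [hfg]
    _ = q2 := hk2

open TensorProduct in
/-- Let R → S be a ring map which is injective on spectra and whose residue field extensions κ(p) → κ(q)
(q a prime of S with inverse image p) are purely inseparable: every element of κ(q) has a power with
exponent a power of the characteristic exponent lying in the image of κ(p). Then, given an arbitrary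
R-algebra R', the induced map R' → R' ⊗_R S is likewise injective on spectra and has purely
inseparable residue field extensions. -/
theorem result {R S R' : Type u} [CommRing R] [CommRing S] [CommRing R'] [Algebra R S] [Algebra R R']
    (hinj : Function.Injective (PrimeSpectrum.comap (algebraMap R S)))
    (hpi : ∀ (q : Ideal S) [q.IsPrime] (x : q.ResidueField), ∃ n : ℕ, x ^ (ringExpChar (q.comap (algebraMap R S)).ResidueField) ^ n ∈ Set.range (Ideal.ResidueField.map (q.comap (algebraMap R S)) q (algebraMap R S) rfl)) :
    Function.Injective (PrimeSpectrum.comap (algebraMap R' (R' ⊗[R] S))) ∧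
      ∀ (q' : Ideal (R' ⊗[R] S)) [q'.IsPrime] (x : q'.ResidueField), ∃ n : ℕ, x ^ (ringExpChar (q'.comap (algebraMap R' (R' ⊗[R] S))).ResidueField) ^ n ∈ Set.range (Ideal.ResidueField.map (q'.comap (algebraMap R' (R' ⊗[R] S))) q' (algebraMap R' (R' ⊗[R] S)) rfl) := by
  have hrad := radicial_baseChange (R := R) (S := S) (R' := R') (radicial_of_hyp hinj hpi)
  exact ⟨spec_injective_of_radicial hrad, fun q' _ x => residue_pi_of_radicial hrad q' x⟩

end Groth.Agent.S9609
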