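import Groth.Statements.S9610
import Mathlib

set_option autoImplicit false
universe u
open CAlg

namespace Groth.Agent.S9610

/-- Let k be a field and V a nonzero k-vector space with dim_k V < #k as cardinals. Then every k-linear
endomorphism T of V admits a monic polynomial P over k for which P(T) is not invertible. -/
theorem result {k V : Type u} [Field k] [AddCommGroup V] [Module k V] [Nontrivial V] (hV : Module.rank k V < Cardinal.mk k) (T : Module.End k V) :
    ∃ P : Polynomial k, P.Monic ∧ ¬ IsUnit (Polynomial.aeval T P) := by
  classical
  by_contra hcon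
  push Not at hcon
  obtain ⟨v, hv⟩ := exists_ne (0 : V)
  have hu : ∀ a : k, IsUnit (Polynomial.aeval T (Polynomial.X - Polynomial.C a)) :=
    fun a => hcon _ (Polynomial.monic_X_sub_C a)
  let w : k → V := fun a => ((hu a).unit⁻¹ : (Module.End k V)ˣ).val v
  have hw : ∀ a, Polynomial.aeval T (Polynomial.X - Polynomial.C a) (w a) = v := by
    intro a
    have h1 : (Polynomial.aeval T (Polynomial.X - Polynomial.C a)) * ((hu a).unit⁻¹ : (Module.End k V)ˣ).val = 1 :=
      (hu a).mul_val_inv
    have := LinearMap.congr_fun h1 v
    rw [Module.End.mul_apply, Module.End.one_apply] at this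
    exact this
  have hli : LinearIndependent k w := by
    refine linearIndependent_iff'.2 fun s m hm i hi => ?_
    let p : Polynomial k := s.sum fun i => Polynomial.C (m i) * (s.erase i).prod fun j => Polynomial.X - Polynomial.C j
    have hpv : Polynomial.aeval T p v = 0 := by
      have h1 : ∀ i ∈ s, Polynomial.aeval T (Polynomial.C (m i) * (s.erase i).prod fun j => Polynomial.X - Polynomial.C j) v
          = Polynomial.aeval T (s.prod fun j => Polynomial.X - Polynomial.C j) (m i • w i) := by
        intro i hi
        rw [← Finset.prod_erase_mul _ _ hi, map_mul, map_mul, Module.End.mul_apply, Module.End.mul_apply,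
          map_smul, hw i, Polynomial.aeval_C, Module.algebraMap_end_apply, map_smul]
      simp only [p, map_sum, LinearMap.sum_apply]
      rw [Finset.sum_congr rfl h1, ← map_sum, hm, map_zero]
    have hp0 : p = 0 := by
      by_contra hp
      have hq := Polynomial.monic_mul_leadingCoeff_inv hp
      have hqu := hcon _ hq
      have h2 : Polynomial.aeval T (p * Polynomial.C p.leadingCoeff⁻¹) v = 0 := by
        rw [mul_comm, map_mul, Module.End.mul_apply, hpv, map_zero]
      have hinj : Function.Injective (Polynomial.aeval T (p * Polynomial.C p.leadingCoeff⁻¹)) :=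
        ((Module.End.isUnit_iff _).mp hqu).injective
      exact hv (hinj (h2.trans (map_zero _).symm))
    have hm' := congrArg (Polynomial.eval i) hp0
    have h2 : ∀ j ∈ s.erase i, m j * ((s.erase j).prod fun x => i - x) = 0 := fun j hj => by
      have := Finset.mem_erase_of_ne_of_mem (Finset.ne_of_mem_erase hj).symm hi
      simp_rw [← (s.erase j).prod_erase_mul _ this, sub_self, mul_zero]
    simp_rw [p, Polynomial.eval_finsetSum, Polynomial.eval_mul, Polynomial.eval_prod, Polynomial.eval_sub,
      Polynomial.eval_X, Polynomial.eval_C, Polynomial.eval_zero, ← s.sum_erase_add _ hi,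
      Finset.sum_eq_zero h2, zero_add] at hm'
    exact eq_zero_of_ne_zero_of_mul_right_eq_zero (Finset.prod_ne_zero_iff.2 fun j hj =>
      sub_ne_zero.2 (Finset.ne_of_mem_erase hj).symm) hm'
  have := hli.cardinal_lift_le_rank
  simp only [Cardinal.lift_id] at this
  exact absurd hV (not_lt.mpr this)

end Groth.Agent.S9610
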