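import Groth.Statements.S9611
import Mathlib

set_option autoImplicit false
universe u
open CAlg

namespace Groth.Agent.S9611

/-- Let R be a Jacobson ring, p a prime ideal of R which is not maximal, and f an element of R not in p.
Then the set of primes of R containing p and not containing f is infinite. -/
theorem result {R : Type u} [CommRing R] [IsJacobsonRing R] (p : Ideal R) [p.IsPrime] (hp : ¬ p.IsMaximal) (f : R) (hf : f ∉ p) :
    {q : PrimeSpectrum R | p ≤ q.asIdeal ∧ f ∉ q.asIdeal}.Infinite := by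
  intro hfin
  have hjac : p.jacobson = p := by
    have := Ideal.radical_eq_jacobson p
    rw [← this, Ideal.IsPrime.radical ‹_›]
  have : ∀ q : PrimeSpectrum R, ∃ g : R, g ∉ p ∧ (q.asIdeal.IsMaximal → p ≤ q.asIdeal → g ∈ q.asIdeal) := by
    intro q
    by_cases h : q.asIdeal.IsMaximal ∧ p ≤ q.asIdeal
    · have hne : p ≠ q.asIdeal := fun e => hp (e ▸ h.1)
      have hlt : p < q.asIdeal := lt_of_le_of_ne h.2 hne
      obtain ⟨g, hgq, hgp⟩ := Set.exists_of_ssubset hlt
      exact ⟨g, hgp, fun _ _ => hgq⟩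
    · exact ⟨1, fun h1 => (‹p.IsPrime›.ne_top ((Ideal.eq_top_iff_one _).mpr h1)).elim,
        fun h1 h2 => (h ⟨h1, h2⟩).elim⟩
  choose g hgp hgq using this
  have hF : f * ∏ q ∈ hfin.toFinset, g q ∉ p := by
    intro h
    rcases (‹p.IsPrime›.mem_or_mem h) with h | h
    · exact hf h
    · rw [Ideal.IsPrime.prod_mem_iff] at h
      obtain ⟨q, _, hq⟩ := h
      exact hgp q hq
  apply hF
  have hmem : f * ∏ q ∈ hfin.toFinset, g q ∈ p.jacobson := by
    rw [Ideal.jacobson, Ideal.mem_sInf]
    rintro m ⟨hpm, hm⟩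
    by_cases hfm : f ∈ m
    · exact m.mul_mem_right _ hfm
    · apply m.mul_mem_left
      let q : PrimeSpectrum R := ⟨m, hm.isPrime⟩
      have hq : q ∈ hfin.toFinset := by
        simp only [Set.Finite.mem_toFinset, Set.mem_ofPred_eq]
        exact ⟨hpm, hfm⟩
      exact Ideal.prod_mem m hq (hgq q hm hpm)
  rwa [hjac] at hmem

end Groth.Agent.S9611
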