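import Groth.Statements.S9613
import Mathlib

set_option autoImplicit false
universe u
open CAlg

namespace Groth.Agent.S9613

/-- Let R → K be an injective ring map into a field K which makes K an R-algebra of finite type. Then
for some nonzero f ∈ R the localization R_f is a field over which K is finite; here R_f is realised
as the R-subalgebra of K that is a localization of R away from f. -/
theorem result {R K : Type u} [CommRing R] [Field K] [Algebra R K] (hinj : Function.Injective (algebraMap R K)) [Algebra.FiniteType R K] :
    ∃ f : R, f ≠ 0 ∧ ∃ Rf : Subalgebra R K, IsLocalization.Away f Rf ∧ IsField Rf ∧ Module.Finite Rf K := by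
  classical
  have hdom : IsDomain R := hinj.isDomain _
  have halg : ∀ x : K, IsAlgebraic R x := by
    let L := FractionRing R
    letI : Algebra L K := (IsFractionRing.lift hinj).toAlgebra
    haveI : IsScalarTower R L K := IsScalarTower.of_algebraMap_eq
      (fun x => (IsFractionRing.lift_algebraMap hinj x).symm)
    haveI : Algebra.FiniteType L K := Algebra.FiniteType.of_restrictScalars_finiteType R L K
    haveI : Module.Finite L K := finite_of_finite_type_of_isJacobsonRing L K
    exact fun x => (IsFractionRing.isAlgebraic_iff R L K).mpr (Algebra.IsAlgebraic.isAlgebraic x)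
  obtain ⟨s, hs⟩ := (inferInstance : Algebra.FiniteType R K).out
  choose g hg0 hgint using fun x : K => (halg x).exists_integral_multiple
  let f := ∏ x ∈ s, g x
  have hf0 : f ≠ 0 := Finset.prod_ne_zero_iff.mpr (fun x _ => hg0 x)
  have hunit : ∀ y : Submonoid.powers f, IsUnit (Algebra.ofId R K y) := by
    rintro ⟨_, n, rfl⟩
    apply IsUnit.mk0
    simp only [Algebra.ofId_apply, map_pow]
    exact pow_ne_zero _ (fun h => hf0 (hinj (h.trans (map_zero _).symm)))
  let φ : Localization.Away f →ₐ[R] K :=
    IsLocalization.liftAlgHom (M := Submonoid.powers f) (f := Algebra.ofId R K) hunit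
  have hφinj : Function.Injective φ := by
    rw [IsLocalization.coe_liftAlgHom, IsLocalization.lift_injective_iff]
    intro x y
    have h1 : Function.Injective (algebraMap R (Localization.Away f)) :=
      IsLocalization.injective _ (powers_le_nonZeroDivisors_of_noZeroDivisors hf0)
    constructor
    · intro h; rw [h1 h]
    · intro h
      have : x = y := hinj h
      rw [this]
  let Rf : Subalgebra R K := φ.range
  let e : Localization.Away f ≃ₐ[R] Rf := AlgEquiv.ofInjective φ hφinj
  have hloc : IsLocalization.Away f Rf := IsLocalization.isLocalization_of_algEquiv (Submonoid.powers f) e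
  have hfu : IsUnit (algebraMap R Rf f) := IsLocalization.map_units Rf (⟨f, Submonoid.mem_powers f⟩ : Submonoid.powers f)
  have hint : ∀ x ∈ s, IsIntegral Rf x := by
    intro x hx
    have hdvd : g x ∣ f := Finset.dvd_prod_of_mem g hx
    obtain ⟨u, hu⟩ := isUnit_of_dvd_unit (map_dvd (algebraMap R Rf) hdvd) hfu
    have h1 : IsIntegral Rf (g x • x) := (hgint x).tower_top
    have h2 : x = algebraMap Rf K (↑u⁻¹ : Rf) * (g x • x) := by
      rw [Algebra.smul_def, IsScalarTower.algebraMap_apply R Rf K, ← hu, ← mul_assoc, ← map_mul]
      simp
    rw [h2]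
    exact isIntegral_algebraMap.mul h1
  have hall : ∀ y : K, IsIntegral Rf y := by
    intro y
    have hy : y ∈ Algebra.adjoin R (s : Set K) := hs ▸ Algebra.mem_top
    induction hy using Algebra.adjoin_induction with
    | mem x hx => exact hint x hx
    | algebraMap r =>
      rw [IsScalarTower.algebraMap_apply R Rf K]
      exact isIntegral_algebraMap
    | add x y _ _ hx hy => exact hx.add hy
    | mul x y _ _ hx hy => exact hx.mul hy
  haveI : Algebra.IsIntegral Rf K := ⟨hall⟩
  refine ⟨f, hf0, Rf, hloc, ?_, ?_⟩
  · exact isField_of_isIntegral_of_isField (R := Rf) (S := K) Subtype.val_injective (Field.toIsField K)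
  · haveI : Algebra.FiniteType Rf K := Algebra.FiniteType.of_restrictScalars_finiteType R Rf K
    exact Algebra.IsIntegral.finite

end Groth.Agent.S9613
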