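import Groth.Statements.S9614
import Mathlib

set_option autoImplicit false
universe u
open CAlg

namespace Groth.Agent.S9614

theorem decompose_smul_mem_of_forall {R S : Type*} [CommRing R] [CommRing S] [Algebra R S]
    (𝒜 : ℕ → Submodule R S) [GradedAlgebra 𝒜]
    {M : Type*} [AddCommGroup M] [Module R M] [Module S M] [IsScalarTower R S M]
    (ℳ : ℕ → Submodule R M) [DirectSum.Decomposition ℳ] [SetLike.GradedSMul 𝒜 ℳ]
    (N : Submodule S M) (s : S) (m : M) (d : ℕ)
    (h : ∀ a b, a + b = d → ((DirectSum.decompose 𝒜 s a : S) • (DirectSum.decompose ℳ m b : M)) ∈ N) :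
    ((DirectSum.decompose ℳ (s • m) d : ℳ d) : M) ∈ N := by
  classical
  have hs := DirectSum.sum_support_decompose 𝒜 s
  have hm := DirectSum.sum_support_decompose ℳ m
  have hsm : s • m = ∑ a ∈ (DirectSum.decompose 𝒜 s).support, ∑ b ∈ (DirectSum.decompose ℳ m).support,
      ((DirectSum.decompose 𝒜 s a : S) • (DirectSum.decompose ℳ m b : M)) := by
    conv_lhs => rw [← hs, ← hm]
    rw [Finset.sum_smul_sum]
  rw [hsm, DirectSum.decompose_sum, DFinsupp.finsetSum_apply, AddSubmonoidClass.coe_finsetSum]
  refine N.sum_mem fun a _ => ?_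
  rw [DirectSum.decompose_sum, DFinsupp.finsetSum_apply, AddSubmonoidClass.coe_finsetSum]
  refine N.sum_mem fun b _ => ?_
  have hmem : ((DirectSum.decompose 𝒜 s a : S) • (DirectSum.decompose ℳ m b : M)) ∈ ℳ (a + b) := by
    have := SetLike.GradedSMul.smul_mem (A := 𝒜) (B := ℳ) (SetLike.coe_mem (DirectSum.decompose 𝒜 s a))
      (SetLike.coe_mem (DirectSum.decompose ℳ m b))
    simpa using this
  by_cases hab : a + b = d
  · subst hab
    rw [DirectSum.decompose_of_mem_same ℳ hmem]
    exact h a b rfl
  · rw [DirectSum.decompose_of_mem_ne ℳ hmem hab]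
    exact N.zero_mem

/-- Let S be an ℕ-graded ring and M a finitely generated graded S-module, graded in nonnegative degrees
(the source allows all integer degrees). If x_1, …, x_n are homogeneous elements of M which generate
M modulo S₊ M (S₊ the irrelevant ideal), then x_1, …, x_n generate M. -/
theorem result {R S : Type u} [CommRing R] [CommRing S] [Algebra R S] (𝒜 : ℕ → Submodule R S) [GradedAlgebra 𝒜]
    (M : Type u) [AddCommGroup M] [Module R M] [Module S M] [IsScalarTower R S M] [Module.Finite S M] (ℳ : ℕ → Submodule R M) [DirectSum.Decomposition ℳ] [SetLike.GradedSMul 𝒜 ℳ]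
    {n : ℕ} (x : Fin n → M) (hx : ∀ i, SetLike.IsHomogeneousElem ℳ (x i))
    (h : Submodule.span S (Set.range x) ⊔ (HomogeneousIdeal.irrelevant 𝒜).toIdeal • (⊤ : Submodule S M) = ⊤) :
    Submodule.span S (Set.range x) = ⊤ := by
  classical
  have hNhom : ∀ m ∈ Submodule.span S (Set.range x), ∀ d,
      ((DirectSum.decompose ℳ m d : ℳ d) : M) ∈ Submodule.span S (Set.range x) := by
    intro m hm
    induction hm using Submodule.span_induction with
    | mem y hy =>
      obtain ⟨i, rfl⟩ := hy
      obtain ⟨e, he⟩ := hx i
      intro d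
      by_cases hed : e = d
      · subst hed
        rw [DirectSum.decompose_of_mem_same ℳ he]
        exact Submodule.subset_span ⟨i, rfl⟩
      · rw [DirectSum.decompose_of_mem_ne ℳ he hed]
        exact Submodule.zero_mem _
    | zero => intro d; simp
    | add y z _ _ hy hz =>
      intro d
      rw [DirectSum.decompose_add, DirectSum.add_apply, Submodule.coe_add]
      exact Submodule.add_mem _ (hy d) (hz d)
    | smul s y _ hy =>
      intro d
      exact decompose_smul_mem_of_forall 𝒜 ℳ _ s y d (fun a b _ => Submodule.smul_mem _ _ (hy b))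
  have hmain : ∀ d, ∀ m ∈ ℳ d, m ∈ Submodule.span S (Set.range x) := by
    intro d
    induction d using Nat.strong_induction_on with
    | _ d ih =>
    intro m hm
    have hmtop : m ∈ Submodule.span S (Set.range x) ⊔ (HomogeneousIdeal.irrelevant 𝒜).toIdeal • (⊤ : Submodule S M) :=
      by rw [h]; exact Submodule.mem_top
    obtain ⟨n', hn', t, ht, rfl⟩ := Submodule.mem_sup.mp hmtop
    have hdec : ((DirectSum.decompose ℳ (n' + t) d : ℳ d) : M) = n' + t :=
      DirectSum.decompose_of_mem_same ℳ hm
    rw [← hdec, DirectSum.decompose_add, DirectSum.add_apply, Submodule.coe_add]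
    refine Submodule.add_mem _ (hNhom n' hn' d) ?_
    clear hdec hm hmtop
    refine Submodule.smul_induction_on (p := fun t => ((DirectSum.decompose ℳ t d : ℳ d) : M) ∈ Submodule.span S (Set.range x)) ht ?_ ?_
    · intro s hs m' _
      apply decompose_smul_mem_of_forall 𝒜 ℳ _ s m' d
      intro a b hab
      rcases Nat.eq_zero_or_pos a with ha | ha
      · subst ha
        have : (DirectSum.decompose 𝒜 s 0 : S) = 0 := by
          have := (HomogeneousIdeal.mem_irrelevant_iff 𝒜 s).mp hs
          rwa [GradedRing.proj_apply] at this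
        rw [this, zero_smul]
        exact Submodule.zero_mem _
      · exact Submodule.smul_mem _ _ (ih b (by omega) _ (SetLike.coe_mem _))
    · intro y z hy hz
      simp only
      rw [DirectSum.decompose_add, DirectSum.add_apply, Submodule.coe_add]
      exact Submodule.add_mem _ hy hz
  rw [eq_top_iff]
  intro m _
  rw [← DirectSum.sum_support_decompose ℳ m]
  exact Submodule.sum_mem _ fun d _ => hmain d _ (SetLike.coe_mem _)

end Groth.Agent.S9614
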