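import Groth.Statements.S9615
import Mathlib

set_option autoImplicit false
universe u
open CAlg

namespace Groth.Agent.S9615

/-- The additive maps `Sᵢ → S[X]`, `s ↦ s Xⁱ`. -/
noncomputable def coactF {S : Type u} [CommRing S] (𝒮 : ℕ → AddSubgroup S) (i : ℕ) :
    𝒮 i →+ Polynomial S :=
  (Polynomial.monomial i : S →ₗ[S] Polynomial S).toAddMonoidHom.comp (𝒮 i).subtype

theorem coactF_apply {S : Type u} [CommRing S] (𝒮 : ℕ → AddSubgroup S) (i : ℕ) (x : 𝒮 i) :
    coactF 𝒮 i x = Polynomial.monomial i (x : S) := rfl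

theorem coactF_one {S : Type u} [CommRing S] (𝒮 : ℕ → AddSubgroup S) [GradedRing 𝒮] :
    coactF 𝒮 0 (GradedMonoid.GOne.one (A := fun i => 𝒮 i)) = 1 := by
  rw [coactF_apply]
  exact Polynomial.monomial_zero_one

theorem coactF_mul {S : Type u} [CommRing S] (𝒮 : ℕ → AddSubgroup S) [GradedRing 𝒮]
    {i j : ℕ} (ai : 𝒮 i) (aj : 𝒮 j) :
    coactF 𝒮 (i + j) (GradedMonoid.GMul.mul (A := fun i => 𝒮 i) ai aj) = coactF 𝒮 i ai * coactF 𝒮 j aj := by
  rw [coactF_apply, coactF_apply, coactF_apply, Polynomial.monomial_mul_monomial]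
  rfl

/-- The ring hom `⨁ Sᵢ → S[X]`, `(sᵢ) ↦ ∑ sᵢ Xⁱ` of an ℕ-graded ring. -/
noncomputable def coactDS {S : Type u} [CommRing S] (𝒮 : ℕ → AddSubgroup S) [GradedRing 𝒮] :
    (DirectSum ℕ fun i => 𝒮 i) →+* Polynomial S :=
  DirectSum.toSemiring (A := fun i => 𝒮 i) (coactF 𝒮) (coactF_one 𝒮) (coactF_mul 𝒮)

theorem coactDS_coeff {S : Type u} [CommRing S] (𝒮 : ℕ → AddSubgroup S) [GradedRing 𝒮]
    (x : DirectSum ℕ fun i => 𝒮 i) (n : ℕ) :
    (coactDS 𝒮 x).coeff n = ((x n : 𝒮 n) : S) := by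
  classical
  induction x using DirectSum.induction_on with
  | zero => simp
  | of i y =>
    unfold coactDS
    rw [DirectSum.toSemiring_of]
    rw [coactF_apply, Polynomial.coeff_monomial]
    by_cases h : i = n
    · subst h; simp
    · rw [if_neg h, DirectSum.of_eq_of_ne _ _ _ (Ne.symm h)]; simp
  | add x y hx hy =>
    rw [map_add, Polynomial.coeff_add, hx, hy]
    simp

/-- The "coaction" ring hom `S → S[X]`, `s ↦ ∑ sᵢ Xⁱ` of an ℕ-graded ring. -/
noncomputable def coact {S : Type u} [CommRing S] (𝒮 : ℕ → AddSubgroup S) [GradedRing 𝒮] :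
    S →+* Polynomial S :=
  (coactDS 𝒮).comp (DirectSum.decomposeRingEquiv 𝒮).toRingHom

theorem coact_coeff {S : Type u} [CommRing S] (𝒮 : ℕ → AddSubgroup S) [GradedRing 𝒮] (s : S) (n : ℕ) :
    (coact 𝒮 s).coeff n = ((DirectSum.decompose 𝒮 s n : 𝒮 n) : S) := by
  unfold coact
  rw [RingHom.comp_apply, coactDS_coeff]
  rfl

/-- Let R → S be a homomorphism of ℕ-graded rings, i.e. the structure map carries each graded piece R_i
into S_i. If an element s of S is integral over R, then each homogeneous component of s is integral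
over R; so the integral closure of R in S is a graded subring of S. -/
theorem result {R S : Type u} [CommRing R] [CommRing S] [Algebra R S] (ℛ : ℕ → AddSubgroup R) [GradedRing ℛ] (𝒮 : ℕ → AddSubgroup S) [GradedRing 𝒮]
    (hmap : ∀ i : ℕ, ∀ r ∈ ℛ i, algebraMap R S r ∈ 𝒮 i) (s : S) (hs : IsIntegral R s) (i : ℕ) :
    IsIntegral R ((DirectSum.decompose 𝒮 s i : 𝒮 i) : S) := by
  classical
  have hdec : ∀ (r : R) (n : ℕ), ((DirectSum.decompose 𝒮 (algebraMap R S r) n : 𝒮 n) : S) =
      algebraMap R S ((DirectSum.decompose ℛ r n : ℛ n) : R) := by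
    intro r n
    conv_lhs => rw [← DirectSum.sum_support_decompose ℛ r, map_sum, DirectSum.decompose_sum]
    rw [DFinsupp.finsetSum_apply, AddSubmonoidClass.coe_finsetSum]
    rw [Finset.sum_eq_single n]
    · rw [DirectSum.decompose_of_mem_same]
      exact hmap n _ (SetLike.coe_mem _)
    · intro j _ hj
      rw [DirectSum.decompose_of_mem_ne 𝒮 (hmap j _ (SetLike.coe_mem _)) hj]
    · intro hn
      rw [DFinsupp.notMem_support_iff] at hn
      rw [hn]; simp
  let _ := Polynomial.algebra R S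
  have hcomp : (algebraMap (Polynomial R) (Polynomial S)).comp (coact ℛ) = (coact 𝒮).comp (algebraMap R S) := by
    ext r n
    simp only [RingHom.coe_comp, Function.comp_apply, Polynomial.algebraMap_def, Polynomial.coe_mapRingHom,
      Polynomial.coeff_map]
    rw [coact_coeff, coact_coeff, hdec]
  have h1 : IsIntegral (Polynomial R) (coact 𝒮 s) := IsIntegral.map_of_comp_eq (coact ℛ) (coact 𝒮) hcomp hs
  have h2 := h1.coeff i
  rwa [coact_coeff] at h2

end Groth.Agent.S9615
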