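import Groth.Statements.S9617
import Mathlib

set_option autoImplicit false
universe u
open CAlg

namespace Groth.Agent.S9617

theorem decompose_smul_mem_of_forall' {R S : Type*} [CommRing R] [CommRing S] [Algebra R S]
    (𝒜 : ℕ → Submodule R S) [GradedAlgebra 𝒜]
    {M : Type*} [AddCommGroup M] [Module R M] [Module S M] [IsScalarTower R S M]
    (ℳ : ℕ → Submodule R M) [DirectSum.Decomposition ℳ] [SetLike.GradedSMul 𝒜 ℳ]
    (N : AddSubmonoid M) (s : S) (m : M) (d : ℕ)
    (h : ∀ a b, a + b = d → ((DirectSum.decompose 𝒜 s a : S) • (DirectSum.decompose ℳ m b : M)) ∈ N) :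
    ((DirectSum.decompose ℳ (s • m) d : ℳ d) : M) ∈ N := by
  classical
  have hs := DirectSum.sum_support_decompose 𝒜 s
  have hm := DirectSum.sum_support_decompose ℳ m
  have hsm : s • m = ∑ a ∈ (DirectSum.decompose 𝒜 s).support, ∑ b ∈ (DirectSum.decompose ℳ m).support,
      ((DirectSum.decompose 𝒜 s a : S) • (DirectSum.decompose ℳ m b : M)) := by
    conv_lhs => rw [← hs, ← hm]
    rw [Finset.sum_smul_sum]
  rw [hsm, DirectSum.decompose_sum, DFinsupp.finsetSum_apply, AddSubmonoidClass.coe_finsetSum]
  refine N.sum_mem fun a _ => ?_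
  rw [DirectSum.decompose_sum, DFinsupp.finsetSum_apply, AddSubmonoidClass.coe_finsetSum]
  refine N.sum_mem fun b _ => ?_
  have hmem : ((DirectSum.decompose 𝒜 s a : S) • (DirectSum.decompose ℳ m b : M)) ∈ ℳ (a + b) := by
    have := SetLike.GradedSMul.smul_mem (A := 𝒜) (B := ℳ) (SetLike.coe_mem (DirectSum.decompose 𝒜 s a))
      (SetLike.coe_mem (DirectSum.decompose ℳ m b))
    simpa using this
  by_cases hab : a + b = d
  · subst hab
    rw [DirectSum.decompose_of_mem_same ℳ hmem]
    exact h a b rfl
  · rw [DirectSum.decompose_of_mem_ne ℳ hmem hab]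
    exact N.zero_mem

/-- homogeneous generating families -/
theorem exists_homogeneous_span {R S : Type*} [CommRing R] [CommRing S] [Algebra R S]
    {M : Type*} [AddCommGroup M] [Module R M] [Module S M] [IsScalarTower R S M]
    (ℳ : ℕ → Submodule R M) [DirectSum.Decomposition ℳ] (T0 : Finset M) :
    ∃ T : Finset (M × ℕ), (∀ q ∈ T, q.1 ∈ ℳ q.2) ∧
      ∀ m ∈ T0, m ∈ Submodule.span R ((fun q : M × ℕ => q.1) '' (T : Set (M × ℕ))) := by
  classical
  refine ⟨T0.biUnion fun m => (DirectSum.decompose ℳ m).support.image fun i =>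
    (((DirectSum.decompose ℳ m i : ℳ i) : M), i), ?_, ?_⟩
  · intro q hq
    simp only [Finset.mem_biUnion, Finset.mem_image] at hq
    obtain ⟨m, _, i, _, rfl⟩ := hq
    exact SetLike.coe_mem _
  · intro m hm
    rw [← DirectSum.sum_support_decompose ℳ m]
    refine Submodule.sum_mem _ fun i hi => Submodule.subset_span ?_
    refine ⟨(((DirectSum.decompose ℳ m i : ℳ i) : M), i), ?_, rfl⟩
    simp only [Finset.coe_biUnion, Finset.coe_image, Set.mem_iUnion, Set.mem_image, Finset.mem_coe]
    exact ⟨m, hm, i, hi, rfl⟩

/-- Let S be an ℕ-graded ring, presented as a graded algebra over a ring A mapping onto S₀, such that S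
is of finite type over A, i.e. over S₀. If M is a finitely generated graded S-module, graded in
nonnegative degrees (the source allows all integer degrees), then each graded piece M_n is a finite
module over A, i.e. over S₀. -/
theorem result {A S : Type u} [CommRing A] [CommRing S] [Algebra A S] (𝒜 : ℕ → Submodule A S) [GradedAlgebra 𝒜]
    (h0 : ∀ s ∈ 𝒜 0, s ∈ Set.range (algebraMap A S)) [Algebra.FiniteType A S]
    (M : Type u) [AddCommGroup M] [Module A M] [Module S M] [IsScalarTower A S M] [Module.Finite S M] (ℳ : ℕ → Submodule A M) [DirectSum.Decomposition ℳ] [SetLike.GradedSMul 𝒜 ℳ] (n : ℕ) :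
    Module.Finite A (ℳ n) := by
  classical
  -- homogeneous algebra generators
  obtain ⟨G0, hG0⟩ := (inferInstance : Algebra.FiniteType A S).out
  obtain ⟨G, hGhom, hGspan⟩ := exists_homogeneous_span (R := A) (S := S) 𝒜 G0
  have hGadj : Algebra.adjoin A ((fun q : S × ℕ => q.1) '' (G : Set (S × ℕ))) = ⊤ := by
    rw [eq_top_iff, ← hG0]
    apply Algebra.adjoin_le
    intro g hg
    have := hGspan g hg
    exact Algebra.span_le_adjoin A _ this
  let J : Ideal S := Ideal.span ((fun q : S × ℕ => q.1) '' {q : S × ℕ | q ∈ G ∧ 0 < q.2})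
  have hJ : ∀ (s : S) (k : ℕ), 0 < k → ((DirectSum.decompose 𝒜 s k : 𝒜 k) : S) ∈ J := by
    intro s
    have hs : s ∈ Algebra.adjoin A ((fun q : S × ℕ => q.1) '' (G : Set (S × ℕ))) := hGadj ▸ Algebra.mem_top
    induction hs using Algebra.adjoin_induction with
    | mem y hy =>
      obtain ⟨q, hq, rfl⟩ := hy
      intro k hk
      by_cases hqk : q.2 = k
      · rw [← hqk, DirectSum.decompose_of_mem_same 𝒜 (hGhom q hq)]
        exact Ideal.subset_span ⟨q, ⟨hq, hqk ▸ hk⟩, rfl⟩
      · rw [DirectSum.decompose_of_mem_ne 𝒜 (hGhom q hq) hqk]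
        exact J.zero_mem
    | algebraMap a =>
      intro k hk
      rw [DirectSum.decompose_of_mem_ne 𝒜 (SetLike.algebraMap_mem_graded 𝒜 a) hk.ne]
      exact J.zero_mem
    | add y z _ _ hy hz =>
      intro k hk
      rw [DirectSum.decompose_add, DirectSum.add_apply, Submodule.coe_add]
      exact J.add_mem (hy k hk) (hz k hk)
    | mul y z _ _ hy hz =>
      intro k hk
      have := decompose_smul_mem_of_forall' 𝒜 𝒜 J.toAddSubmonoid y z k (fun a b hab => by
        rcases Nat.eq_zero_or_pos a with ha | ha
        · have hb : 0 < b := by omega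
          exact J.mul_mem_left _ (hz b hb)
        · exact J.mul_mem_right _ (hy a ha))
      exact this
  -- finiteness of graded pieces of S
  have hSfg : ∀ k, (𝒜 k).FG := by
    intro k
    induction k using Nat.strong_induction_on with
    | _ k ih =>
    rcases Nat.eq_zero_or_pos k with hk | hk
    · subst hk
      have : 𝒜 0 = Submodule.span A {(1 : S)} := by
        apply le_antisymm
        · intro s hs
          obtain ⟨a, rfl⟩ := h0 s hs
          rw [Algebra.algebraMap_eq_smul_one]
          exact Submodule.smul_mem _ _ (Submodule.subset_span rfl)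
        · rw [Submodule.span_le]
          rintro _ rfl
          exact SetLike.GradedOne.one_mem
      rw [this]
      exact Submodule.fg_span_singleton _
    · have heq : 𝒜 k = ⨆ q ∈ G.filter (fun q => 0 < q.2 ∧ q.2 ≤ k),
          (𝒜 (k - q.2)).map (LinearMap.mulRight A q.1) := by
        apply le_antisymm
        · intro s hs
          have hsJ : s ∈ J := by
            have := hJ s k hk
            rwa [DirectSum.decompose_of_mem_same 𝒜 hs] at this
          have hP : ∀ c : S, ((DirectSum.decompose 𝒜 (c * s) k : 𝒜 k) : S) ∈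
              ⨆ q ∈ G.filter (fun q => 0 < q.2 ∧ q.2 ≤ k), (𝒜 (k - q.2)).map (LinearMap.mulRight A q.1) := by
            refine Submodule.span_induction (p := fun s _ => ∀ c : S, ((DirectSum.decompose 𝒜 (c * s) k : 𝒜 k) : S) ∈
              ⨆ q ∈ G.filter (fun q => 0 < q.2 ∧ q.2 ≤ k), (𝒜 (k - q.2)).map (LinearMap.mulRight A q.1)) ?_ ?_ ?_ ?_ hsJ
            · rintro _ ⟨q, ⟨hqG, hqpos⟩, rfl⟩ c
              refine decompose_smul_mem_of_forall' 𝒜 𝒜 (Submodule.toAddSubmonoid _) c q.1 k (fun a b hab => ?_)
              by_cases hqb : q.2 = b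
              · subst hqb
                rw [DirectSum.decompose_of_mem_same 𝒜 (hGhom q hqG)]
                refine Submodule.mem_iSup_of_mem q (Submodule.mem_iSup_of_mem
                  (Finset.mem_filter.mpr ⟨hqG, hqpos, by omega⟩) ?_)
                refine ⟨((DirectSum.decompose 𝒜 c a : 𝒜 a) : S), ?_, by simp⟩
                have : k - q.2 = a := by omega
                rw [this]
                exact SetLike.coe_mem _
              · rw [DirectSum.decompose_of_mem_ne 𝒜 (hGhom q hqG) hqb, smul_zero]
                exact Submodule.zero_mem _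
            · intro c; simp
            · intro y z _ _ hy hz c
              rw [mul_add, DirectSum.decompose_add, DirectSum.add_apply, Submodule.coe_add]
              exact Submodule.add_mem _ (hy c) (hz c)
            · intro c' y _ hy c
              rw [smul_eq_mul, ← mul_assoc]
              exact hy (c * c')
          have := hP 1
          rwa [one_mul, DirectSum.decompose_of_mem_same 𝒜 hs] at this
        · refine iSup₂_le fun q hq => ?_
          obtain ⟨hqG, hqpos, hqk⟩ := Finset.mem_filter.mp hq
          rintro _ ⟨c, hc, rfl⟩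
          have := SetLike.mul_mem_graded hc (hGhom q hqG)
          rw [Nat.sub_add_cancel hqk] at this
          exact this
      rw [heq]
      refine Submodule.fg_biSup _ _ (fun q hq => ?_)
      obtain ⟨hqG, hqpos, hqk⟩ := Finset.mem_filter.mp hq
      exact (ih (k - q.2) (by omega)).map _
  -- homogeneous module generators
  obtain ⟨T0, hT0⟩ := (inferInstance : Module.Finite S M).fg_top
  obtain ⟨T, hThom, hTspan⟩ := exists_homogeneous_span (R := A) (S := S) ℳ T0
  have hTtop : Submodule.span S ((fun q : M × ℕ => q.1) '' (T : Set (M × ℕ))) = ⊤ := by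
    rw [eq_top_iff, ← hT0, Submodule.span_le]
    intro m hm
    exact Submodule.span_le_restrictScalars A S _ (hTspan m hm)
  have heq : ℳ n = ⨆ q ∈ T.filter (fun q => q.2 ≤ n),
      (𝒜 (n - q.2)).map ((LinearMap.toSpanSingleton S M q.1).restrictScalars A) := by
    apply le_antisymm
    · intro m hm
      have hmtop : m ∈ Submodule.span S ((fun q : M × ℕ => q.1) '' (T : Set (M × ℕ))) := hTtop ▸ Submodule.mem_top
      have hP : ∀ c : S, ((DirectSum.decompose ℳ (c • m) n : ℳ n) : M) ∈
          ⨆ q ∈ T.filter (fun q => q.2 ≤ n), (𝒜 (n - q.2)).map ((LinearMap.toSpanSingleton S M q.1).restrictScalars A) := by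
        refine Submodule.span_induction (p := fun m _ => ∀ c : S, ((DirectSum.decompose ℳ (c • m) n : ℳ n) : M) ∈
          ⨆ q ∈ T.filter (fun q => q.2 ≤ n), (𝒜 (n - q.2)).map ((LinearMap.toSpanSingleton S M q.1).restrictScalars A)) ?_ ?_ ?_ ?_ hmtop
        · rintro _ ⟨q, hqT, rfl⟩ c
          refine decompose_smul_mem_of_forall' 𝒜 ℳ (Submodule.toAddSubmonoid _) c q.1 n (fun a b hab => ?_)
          by_cases hqb : q.2 = b
          · subst hqb
            rw [DirectSum.decompose_of_mem_same ℳ (hThom q hqT)]
            refine Submodule.mem_iSup_of_mem q (Submodule.mem_iSup_of_mem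
              (Finset.mem_filter.mpr ⟨hqT, by omega⟩) ?_)
            refine ⟨((DirectSum.decompose 𝒜 c a : 𝒜 a) : S), ?_, by simp⟩
            have : n - q.2 = a := by omega
            rw [this]
            exact SetLike.coe_mem _
          · rw [DirectSum.decompose_of_mem_ne ℳ (hThom q hqT) hqb, smul_zero]
            exact Submodule.zero_mem _
        · intro c; simp
        · intro y z _ _ hy hz c
          rw [smul_add, DirectSum.decompose_add, DirectSum.add_apply, Submodule.coe_add]
          exact Submodule.add_mem _ (hy c) (hz c)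
        · intro c' y _ hy c
          rw [← mul_smul]
          exact hy (c * c')
      have := hP 1
      rwa [one_smul, DirectSum.decompose_of_mem_same ℳ hm] at this
    · refine iSup₂_le fun q hq => ?_
      obtain ⟨hqT, hqn⟩ := Finset.mem_filter.mp hq
      rintro _ ⟨c, hc, rfl⟩
      have := SetLike.GradedSMul.smul_mem (A := 𝒜) (B := ℳ) hc (hThom q hqT)
      simp only [vadd_eq_add] at this
      rw [Nat.sub_add_cancel hqn] at this
      exact this
  rw [Module.Finite.iff_fg, heq]
  exact Submodule.fg_biSup _ _ (fun q _ => (hSfg _).map _)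

end Groth.Agent.S9617
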