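import Groth.Statements.S9618
import Mathlib
import Groth.Agent.H19.SpecIdem

set_option autoImplicit false
universe u
open CAlg

namespace Groth.Agent.S9618

/-- For a ring R and a subset T of Spec R the following are equivalent: (1) T is closed and contains the
connected component of each of its points; (2) T can be written as an intersection of subsets of
Spec R that are both open and closed; (3) T is the common zero locus of some set of idempotent
elements of R (equivalently, of the ideal they generate). -/
theorem result {R : Type u} [CommRing R] (T : Set (PrimeSpectrum R)) :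
    [IsClosed T ∧ ∀ x ∈ T, connectedComponent x ⊆ T,
      ∃ U : Set (Set (PrimeSpectrum R)), (∀ u ∈ U, IsClopen u) ∧ T = ⋂₀ U,
      ∃ E : Set R, (∀ e ∈ E, IsIdempotentElem e) ∧ T = PrimeSpectrum.zeroLocus E].TFAE := by
  tfae_have 3 → 2 := by
    rintro ⟨E, hE, rfl⟩
    refine ⟨(fun e => PrimeSpectrum.zeroLocus ({e} : Set R)) '' E, ?_, ?_⟩
    · rintro _ ⟨e, he, rfl⟩
      exact PrimeSpectrum.isClopen_iff_zeroLocus.mpr ⟨e, hE e he, rfl⟩
    · ext q
      simp only [PrimeSpectrum.mem_zeroLocus, Set.sInter_image, Set.mem_iInter,
        Set.singleton_subset_iff, SetLike.mem_coe]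
      rfl
  tfae_have 2 → 1 := by
    rintro ⟨U, hU, rfl⟩
    refine ⟨isClosed_sInter fun u hu => (hU u hu).1, fun x hx => ?_⟩
    apply Set.subset_sInter
    intro u hu
    exact (hU u hu).connectedComponent_subset (hx u hu)
  tfae_have 1 → 3 := by
    rintro ⟨hcl, hcc⟩
    refine ⟨{e : R | IsIdempotentElem e ∧ T ⊆ PrimeSpectrum.zeroLocus {e}}, fun e he => he.1, ?_⟩
    apply Set.Subset.antisymm
    · intro t ht
      rw [PrimeSpectrum.mem_zeroLocus]
      intro e he
      have := he.2 ht
      rw [PrimeSpectrum.mem_zeroLocus, Set.singleton_subset_iff] at this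
      exact this
    · intro q hq
      by_contra hqT
      -- T = zeroLocus J
      obtain ⟨J, hJ⟩ := (PrimeSpectrum.isClosed_iff_zeroLocus_ideal T).mp hcl
      -- the component of q is disjoint from T
      have hdisj : PrimeSpectrum.zeroLocus (Groth.Agent.H19.idemIn q) ∩ T = ∅ := by
        rw [← Groth.Agent.H19.connectedComponent_eq_zeroLocus]
        rw [Set.eq_empty_iff_forall_notMem]
        rintro t ⟨htq, htT⟩
        have := hcc t htT
        rw [← connectedComponent_eq htq] at this
        exact hqT (this mem_connectedComponent)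
      rw [hJ, ← PrimeSpectrum.zeroLocus_span, ← PrimeSpectrum.zeroLocus_sup,
        PrimeSpectrum.zeroLocus_empty_iff_eq_top] at hdisj
      have h1 : (1 : R) ∈ Ideal.span (Groth.Agent.H19.idemIn q) ⊔ J := by rw [hdisj]; trivial
      obtain ⟨a, ha, b, hb, hab⟩ := Submodule.mem_sup.mp h1
      obtain ⟨e, he, heS, hae⟩ := Groth.Agent.H19.exists_idem_of_mem_span (fun e he => he.1) ha
      have heq : e ∈ q.asIdeal := by
        have : Ideal.span (Groth.Agent.H19.idemIn q) ≤ q.asIdeal :=
          Ideal.span_le.mpr fun e he => he.2
        exact this heS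
      -- 1 - e = b * (1 - e) ∈ J
      have hfJ : 1 - e ∈ J := by
        have : 1 - e = b * (1 - e) := by
          have ha' : a = 1 - b := by rw [← hab]; ring
          have : (1 - b) * e = 1 - b := by rw [← ha']; exact hae
          have hee : e * e = e := he
          linear_combination (-1 : R) * this
        rw [this]; exact Ideal.mul_mem_right _ _ hb
      have hmem : (1 - e) ∈ {e : R | IsIdempotentElem e ∧ T ⊆ PrimeSpectrum.zeroLocus {e}} := by
        refine ⟨he.one_sub, ?_⟩
        rw [hJ]
        apply PrimeSpectrum.zeroLocus_anti_mono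
        rw [Set.singleton_subset_iff]; exact hfJ
      have := (PrimeSpectrum.mem_zeroLocus _ _).mp hq hmem
      have h1q : (1 : R) ∈ q.asIdeal := by
        have : (1 : R) = (1 - e) + e := by ring
        rw [this]; exact Ideal.add_mem _ ‹_› heq
      exact q.isPrime.ne_top ((Ideal.eq_top_iff_one _).mpr h1q)
  tfae_finish

end Groth.Agent.S9618
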