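import Groth.Statements.S9621
import Mathlib

set_option autoImplicit false
universe u
open CAlg

namespace Groth.Agent.S9621

/-- Let R be a ring, p a minimal prime of R and W a quasi-compact open subset of Spec R not containing
p. Then there is an f ∈ R, f ∉ p, whose basic open D(f) is disjoint from W. -/
theorem result {R : Type u} [CommRing R] (p : PrimeSpectrum R) (hp : p.asIdeal ∈ minimalPrimes R) (W : Set (PrimeSpectrum R)) (hWo : IsOpen W) (hWc : IsCompact W) (hpW : p ∉ W) :
    ∃ f : R, f ∉ p.asIdeal ∧ Disjoint (PrimeSpectrum.basicOpen f : Set (PrimeSpectrum R)) W := by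
  obtain ⟨t, rfl⟩ := PrimeSpectrum.isCompact_isOpen_iff.mp ⟨hWc, hWo⟩
  have htp : ∀ g ∈ t, g ∈ p.asIdeal := by
    intro g hg
    simp only [Set.mem_compl_iff, not_not, PrimeSpectrum.mem_zeroLocus] at hpW
    exact hpW hg
  have key : ∀ g ∈ p.asIdeal, ∃ s ∉ p.asIdeal, ∃ n : ℕ, s * g ^ n = 0 := by
    intro g hg
    have h1 := IsLocalization.AtPrime.radical_map_of_mem_minimalPrimes
      (A := Localization.AtPrime p.asIdeal) p.asIdeal ⊥ hp
    have h2 : algebraMap R (Localization.AtPrime p.asIdeal) g ∈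
        (Ideal.map (algebraMap R (Localization.AtPrime p.asIdeal)) ⊥).radical := by
      rw [h1]; exact Ideal.mem_map_of_mem _ hg
    rw [Ideal.map_bot] at h2
    obtain ⟨n, hn⟩ := h2
    rw [Ideal.mem_bot, ← map_pow, IsLocalization.map_eq_zero_iff p.asIdeal.primeCompl] at hn
    obtain ⟨s, hs⟩ := hn
    exact ⟨s.1, s.2, n, hs⟩
  choose! s hs n hsn using key
  refine ⟨∏ g ∈ t, s g, ?_, ?_⟩
  · rw [Ideal.IsPrime.prod_mem_iff]
    push Not
    intro g hg
    exact hs g (htp g hg)
  · rw [Set.disjoint_left]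
    intro P hP hPW
    simp only [SetLike.mem_coe, PrimeSpectrum.mem_basicOpen] at hP
    simp only [Set.mem_compl_iff, PrimeSpectrum.mem_zeroLocus] at hPW
    obtain ⟨g, hg, hgP⟩ := Set.not_subset.mp hPW
    have : s g * g ^ n g ∈ P.asIdeal := by rw [hsn g (htp g hg)]; exact zero_mem _
    rcases P.isPrime.mem_or_mem this with h | h
    · exact hP (Ideal.prod_mem _ hg h)
    · exact hgP (P.isPrime.mem_of_pow_mem _ h)

end Groth.Agent.S9621
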