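import Groth.Statements.S9622
import Mathlib

set_option autoImplicit false
universe u
open CAlg

namespace Groth.Agent.S9622

theorem finite_of_isFiniteLength {R S : Type*} [CommRing R] [CommRing S] [Algebra R S] [IsLocalRing S]
    (h : Module.Finite R (S ⧸ IsLocalRing.maximalIdeal S)) :
    ∀ (M : Type*) [AddCommGroup M] [Module S M], IsFiniteLength S M →
      ∀ [Module R M] [IsScalarTower R S M], Module.Finite R M := by
  intro M _ _ hM
  induction hM with
  | of_subsingleton => intro _ _; infer_instance
  | @of_simple_quotient M _ _ N hs hN ih =>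
    intro _ _
    have h1 : Module.Finite R N := ih
    obtain ⟨I, hI, ⟨e⟩⟩ := isSimpleModule_iff_quot_maximal.mp hs
    have hIm : I = IsLocalRing.maximalIdeal S := IsLocalRing.eq_maximalIdeal hI
    subst hIm
    have h2 : Module.Finite R (M ⧸ N) :=
      Module.Finite.equiv (e.symm.restrictScalars R)
    have hex : Function.Exact (N.subtype.restrictScalars R) (N.mkQ.restrictScalars R) :=
      LinearMap.exact_subtype_mkQ N
    exact Module.Finite.of_exact hex (Submodule.Quotient.mk_surjective N)

theorem finite_of_finite_residue {R S : Type*} [CommRing R] [CommRing S] [Algebra R S] [IsArtinianRing S] [IsLocalRing S]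
    (h : Module.Finite R (S ⧸ IsLocalRing.maximalIdeal S)) : Module.Finite R S := by
  have : IsFiniteLength S S := isFiniteLength_iff_isNoetherian_isArtinian.mpr ⟨inferInstance, inferInstance⟩
  exact finite_of_isFiniteLength h S this

/-- Let R → S be a ring map whose target S is a local Artinian ring, and write m for the maximal ideal
of S. Then S is a finite R-module exactly when S/m is, and S is an R-algebra of finite type exactly
when S/m is. -/
theorem result {R S : Type u} [CommRing R] [CommRing S] [Algebra R S] [IsArtinianRing S] [IsLocalRing S] :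
    (Module.Finite R S ↔ Module.Finite R (S ⧸ IsLocalRing.maximalIdeal S)) ∧
      (Algebra.FiniteType R S ↔ Algebra.FiniteType R (S ⧸ IsLocalRing.maximalIdeal S)) := by
  refine ⟨⟨fun h => inferInstance, finite_of_finite_residue⟩, ⟨fun h => inferInstance, fun h => ?_⟩⟩
  obtain ⟨t, ht⟩ := h.out
  classical
  let σ : S ⧸ IsLocalRing.maximalIdeal S → S := Function.surjInv Ideal.Quotient.mk_surjective
  have hσ : ∀ y, Ideal.Quotient.mk (IsLocalRing.maximalIdeal S) (σ y) = y :=
    Function.surjInv_eq Ideal.Quotient.mk_surjective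
  let s : Finset S := t.image σ
  let R' : Subalgebra R S := Algebra.adjoin R (s : Set S)
  have hmap : R'.map (Ideal.Quotient.mkₐ R (IsLocalRing.maximalIdeal S)) = ⊤ := by
    rw [AlgHom.map_adjoin, ← ht]
    congr 1
    ext y
    simp only [s, Finset.coe_image, Set.mem_image, Finset.mem_coe]
    constructor
    · rintro ⟨_, ⟨z, hz, rfl⟩, rfl⟩
      simpa [hσ] using hz
    · intro hy
      exact ⟨σ y, ⟨y, hy, rfl⟩, hσ y⟩
  have hsurj : Function.Surjective (algebraMap R' (S ⧸ IsLocalRing.maximalIdeal S)) := by
    intro y
    have : y ∈ R'.map (Ideal.Quotient.mkₐ R (IsLocalRing.maximalIdeal S)) := hmap ▸ Algebra.mem_top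
    obtain ⟨x, hx, rfl⟩ := this
    exact ⟨⟨x, hx⟩, rfl⟩
  have hfin : Module.Finite R' (S ⧸ IsLocalRing.maximalIdeal S) :=
    Module.Finite.of_surjective (Algebra.linearMap R' (S ⧸ IsLocalRing.maximalIdeal S)) hsurj
  have hfin2 : Module.Finite R' S := finite_of_finite_residue hfin
  have h1 : Algebra.FiniteType R R' := (Subalgebra.fg_iff_finiteType R').mp ⟨s, rfl⟩
  have h2 : Algebra.FiniteType R' S := inferInstance
  exact Algebra.FiniteType.trans h1 h2

end Groth.Agent.S9622
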