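import Groth.Statements.S9623
import Mathlib
import Groth.Agent.H19.GeomTensor

set_option autoImplicit false
universe u
open CAlg

namespace Groth.Agent.S9623

open TensorProduct in
/-- Over a separably closed field, base change to the algebraic closure keeps idempotents trivial. -/
theorem idem_trivial_baseChange_algClosure {k R : Type u} [Field k] [IsSepClosed k] [CommRing R] [Algebra k R]
    [ConnectedSpace (PrimeSpectrum R)] (e : AlgebraicClosure k ⊗[k] R) (he : IsIdempotentElem e) :
    e = 0 ∨ e = 1 := by
  have h1 := PrimeSpectrum.isHomeomorph_comap_of_isPurelyInseparable k (AlgebraicClosure k) R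
  haveI : ConnectedSpace (PrimeSpectrum (R ⊗[k] AlgebraicClosure k)) :=
    h1.homeomorph.symm.surjective.connectedSpace h1.homeomorph.symm.continuous
  haveI : ConnectedSpace (PrimeSpectrum (AlgebraicClosure k ⊗[k] R)) :=
    (PrimeSpectrum.homeomorphOfRingEquiv (Algebra.TensorProduct.comm k R (AlgebraicClosure k)).toRingEquiv).surjective.connectedSpace
      (PrimeSpectrum.homeomorphOfRingEquiv (Algebra.TensorProduct.comm k R (AlgebraicClosure k)).toRingEquiv).continuous
  exact Groth.Agent.H19.idem_trivial_of_preconnectedSpace e he

open TensorProduct in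
/-- Let k be a separably closed field and R, S two k-algebras with connected (nonempty) spectra. Then
Spec(R ⊗_k S) is connected. -/
theorem result {k R S : Type u} [Field k] [IsSepClosed k] [CommRing R] [CommRing S] [Algebra k R] [Algebra k S]
    [ConnectedSpace (PrimeSpectrum R)] [ConnectedSpace (PrimeSpectrum S)] :
    ConnectedSpace (PrimeSpectrum (R ⊗[k] S)) := by
  haveI : Nontrivial R := by
    obtain ⟨p⟩ := (inferInstance : Nonempty (PrimeSpectrum R))
    exact ⟨⟨0, 1, fun h01 => p.isPrime.ne_top ((Ideal.eq_top_iff_one _).mpr (h01 ▸ p.asIdeal.zero_mem))⟩⟩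
  haveI : Nontrivial S := by
    obtain ⟨p⟩ := (inferInstance : Nonempty (PrimeSpectrum S))
    exact ⟨⟨0, 1, fun h01 => p.isPrime.ne_top ((Ideal.eq_top_iff_one _).mpr (h01 ▸ p.asIdeal.zero_mem))⟩⟩
  haveI : Nontrivial (TensorProduct k R S) :=
    (Algebra.TensorProduct.includeLeft_injective (R := k) (S := k) (A := R) (B := S)
      (algebraMap k S).injective).nontrivial
  haveI : Nontrivial (TensorProduct k (AlgebraicClosure k) R) :=
    (Algebra.TensorProduct.includeRight_injective (R := k) (A := AlgebraicClosure k) (B := R)
      (algebraMap k (AlgebraicClosure k)).injective).nontrivial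
  -- idempotents of the big tensor product are trivial
  have hbig : ∀ e : TensorProduct (AlgebraicClosure k) (TensorProduct k (AlgebraicClosure k) R)
      (TensorProduct k (AlgebraicClosure k) S), IsIdempotentElem e → e = 0 ∨ e = 1 :=
    Groth.Agent.H19.idem_trivial_tensor_of_isAlgClosed (k := AlgebraicClosure k)
      (fun e he => idem_trivial_baseChange_algClosure e he)
      (fun e he => idem_trivial_baseChange_algClosure e he)
  let e1 := Algebra.TensorProduct.cancelBaseChange k (AlgebraicClosure k) (AlgebraicClosure k)
    (TensorProduct k (AlgebraicClosure k) R) S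
  let e2 := Algebra.TensorProduct.assoc k k (AlgebraicClosure k) (AlgebraicClosure k) R S
  let g : TensorProduct k R S →+* TensorProduct (AlgebraicClosure k) (TensorProduct k (AlgebraicClosure k) R)
      (TensorProduct k (AlgebraicClosure k) S) :=
    (e1.symm.toRingEquiv.toRingHom.comp e2.symm.toRingEquiv.toRingHom).comp
      (Algebra.TensorProduct.includeRight : TensorProduct k R S →ₐ[k] TensorProduct k (AlgebraicClosure k) (TensorProduct k R S)).toRingHom
  have hg : Function.Injective g := by
    refine (e1.symm.injective.comp e2.symm.injective).comp ?_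
    exact Algebra.TensorProduct.includeRight_injective (algebraMap k (AlgebraicClosure k)).injective
  have hpre : PreconnectedSpace (PrimeSpectrum (TensorProduct k R S)) := by
    apply Groth.Agent.H19.preconnectedSpace_of_idem_trivial
    intro e he
    rcases hbig (g e) (he.map g) with h | h
    · left; exact hg (by rw [h, map_zero])
    · right; exact hg (by rw [h, map_one])
  exact { toPreconnectedSpace := hpre, toNonempty := inferInstance }

end Groth.Agent.S9623
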