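import Groth.Statements.S9624
import Mathlib
import Groth.Agent.H19.GeomTensor

set_option autoImplicit false
universe u
open CAlg

namespace Groth.Agent.S9624

/-- Clopen sets descend along open surjections with connected fibres. -/
theorem exists_isClopen_preimage_eq {X Y : Type*} [TopologicalSpace X] [TopologicalSpace Y]
    (f : X → Y) (hopen : IsOpenMap f) (hfib : ∀ y, IsConnected (f ⁻¹' {y}))
    (V : Set X) (hV : IsClopen V) : ∃ U : Set Y, IsClopen U ∧ f ⁻¹' U = V := by
  have key : ∀ y, (f ⁻¹' {y} ∩ V).Nonempty → f ⁻¹' {y} ⊆ V := fun y hy =>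
    (hfib y).isPreconnected.subset_isClopen hV hy
  have hpre : f ⁻¹' (f '' V) = V := by
    apply Set.Subset.antisymm
    · rintro x ⟨x', hx'V, hx'⟩
      exact key (f x) ⟨x', hx', hx'V⟩ rfl
    · exact Set.subset_preimage_image f V
  have hcompl : (f '' V)ᶜ = f '' Vᶜ := by
    ext y
    constructor
    · intro hy
      obtain ⟨x, hx⟩ := (hfib y).nonempty
      refine ⟨x, fun hxV => hy ⟨x, hxV, hx⟩, hx⟩
    · rintro ⟨x, hxV, rfl⟩ ⟨x', hx'V, hx'⟩
      exact hxV (key (f x) ⟨x', hx', hx'V⟩ rfl)
  refine ⟨f '' V, ⟨?_, hopen V hV.isOpen⟩, hpre⟩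
  rw [← isOpen_compl_iff, hcompl]
  exact hopen _ hV.compl.isOpen

/-- Idempotents with the same basic open set are equal. -/
theorem idem_eq_of_basicOpen_eq {A : Type*} [CommRing A] {a b : A} (ha : IsIdempotentElem a)
    (hb : IsIdempotentElem b)
    (h : (PrimeSpectrum.basicOpen a : Set (PrimeSpectrum A)) = PrimeSpectrum.basicOpen b) : a = b := by
  have h1 : ∀ {a b : A}, IsIdempotentElem a → IsIdempotentElem b →
      (PrimeSpectrum.basicOpen a : Set (PrimeSpectrum A)) = PrimeSpectrum.basicOpen b → a * (1 - b) = 0 := by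
    intro a b ha hb h
    apply Groth.Agent.H19.eq_zero_of_isIdempotentElem_of_isNilpotent (ha.mul hb.one_sub)
    rw [← PrimeSpectrum.basicOpen_eq_bot_iff]
    apply TopologicalSpace.Opens.ext
    rw [PrimeSpectrum.basicOpen_mul, TopologicalSpace.Opens.coe_inf, h]
    ext p
    simp only [Set.mem_inter_iff, SetLike.mem_coe, PrimeSpectrum.mem_basicOpen,
      TopologicalSpace.Opens.coe_bot, Set.mem_empty_iff_false, iff_false, not_and, not_not]
    intro hbp
    have : b * (1 - b) ∈ p.asIdeal := by
      rw [mul_sub, mul_one, hb.eq, sub_self]; exact zero_mem _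
    exact (p.isPrime.mem_or_mem this).resolve_left hbp
  have e1 := h1 ha hb h
  have e2 := h1 hb ha h.symm
  rw [mul_sub, mul_one, sub_eq_zero] at e1 e2
  calc a = a * b := e1
    _ = b * a := mul_comm _ _
    _ = b := e2.symm

open TensorProduct in
/-- Let k be a field, S a geometrically connected k-algebra (the spectrum of k' ⊗_k S is connected for
every field extension k'/k) and R any k-algebra. Then the map R → R ⊗_k S induces a bijection on
idempotents: each idempotent of R ⊗_k S comes from exactly one idempotent of R. Here the test fields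
range over field extensions in the universe of k; this is equivalent to the unrestricted notion,
since an algebraic closure of k suffices as a test. -/
theorem result {k R S : Type u} [Field k] [CommRing R] [CommRing S] [Algebra k R] [Algebra k S]
    (hS : ∀ (k' : Type u) [Field k'] [Algebra k k'], ConnectedSpace (PrimeSpectrum (k' ⊗[k] S)))
    (x : R ⊗[k] S) (hx : IsIdempotentElem x) :
    ∃! e : R, IsIdempotentElem e ∧ algebraMap R (R ⊗[k] S) e = x := by
  have hkS : ConnectedSpace (PrimeSpectrum (TensorProduct k k S)) := hS k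
  haveI : Nontrivial (TensorProduct k k S) := by
    obtain ⟨p⟩ := hkS.toNonempty
    exact ⟨⟨0, 1, fun h01 => p.isPrime.ne_top ((Ideal.eq_top_iff_one _).mpr (h01 ▸ p.asIdeal.zero_mem))⟩⟩
  haveI : Nontrivial S := (Algebra.TensorProduct.lid k S).injective.nontrivial
  have hinj : Function.Injective (algebraMap R (TensorProduct k R S)) :=
    Algebra.TensorProduct.includeLeft_injective (R := k) (S := R) (A := R) (B := S) (algebraMap k S).injective
  have hfib : ∀ p : PrimeSpectrum R,
      IsConnected (PrimeSpectrum.comap (algebraMap R (TensorProduct k R S)) ⁻¹' {p}) := by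
    intro p
    rw [isConnected_iff_connectedSpace]
    let e2 : p.asIdeal.Fiber (TensorProduct k R S) ≃ₐ[R] TensorProduct k p.asIdeal.ResidueField S :=
      Algebra.TensorProduct.cancelBaseChange k R R p.asIdeal.ResidueField S
    haveI := hS p.asIdeal.ResidueField
    haveI : ConnectedSpace (PrimeSpectrum (p.asIdeal.Fiber (TensorProduct k R S))) :=
      (PrimeSpectrum.homeomorphOfRingEquiv e2.toRingEquiv).symm.surjective.connectedSpace
        (PrimeSpectrum.homeomorphOfRingEquiv e2.toRingEquiv).symm.continuous
    exact (PrimeSpectrum.preimageHomeomorphFiber R (TensorProduct k R S) p).symm.surjective.connectedSpace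
      (PrimeSpectrum.preimageHomeomorphFiber R (TensorProduct k R S) p).symm.continuous
  obtain ⟨U, hU, hUV⟩ := exists_isClopen_preimage_eq _
    (PrimeSpectrum.isOpenMap_comap_algebraMap_tensorProduct_of_field (K := k) (A := R) (B := S)) hfib
    (PrimeSpectrum.basicOpen x : Set (PrimeSpectrum (TensorProduct k R S)))
    (PrimeSpectrum.isClopen_iff.mpr ⟨x, hx, rfl⟩)
  obtain ⟨e, he, rfl⟩ := PrimeSpectrum.isClopen_iff.mp hU
  refine ⟨e, ⟨he, ?_⟩, ?_⟩
  · apply idem_eq_of_basicOpen_eq (he.map _) hx
    rw [← hUV]
    ext q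
    simp
  · rintro e' ⟨he', hx'⟩
    apply hinj
    rw [hx']
    apply idem_eq_of_basicOpen_eq hx (he.map _)
    rw [← hUV]
    ext q
    simp

end Groth.Agent.S9624
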