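import Groth.Statements.S9625
import Mathlib

set_option autoImplicit false
universe u
open CAlg

namespace Groth.Agent.S9625

open TensorProduct in
theorem tensor_subalgebra_injective {k S : Type u} [Field k] [CommRing S] [Algebra k S] (S' : Subalgebra k S)
    (k' : Type u) [Field k'] [Algebra k k'] :
    Function.Injective (Algebra.TensorProduct.map (AlgHom.id k k') S'.val) := by
  have := Module.Flat.lTensor_preserves_injective_linearMap (M := k') S'.val.toLinearMap
    Subtype.val_injective
  exact this

theorem irreducible_of_injective {A B : Type u} [CommRing A] [CommRing B] (f : A →+* B)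
    (hf : Function.Injective f) [h : IrreducibleSpace (PrimeSpectrum B)] :
    IrreducibleSpace (PrimeSpectrum A) := by
  rw [PrimeSpectrum.irreducibleSpace_iff_isPrime_nilradical] at h ⊢
  have : nilradical A = (nilradical B).comap f := by
    ext x
    simp only [mem_nilradical, Ideal.mem_comap]
    constructor
    · intro hx; exact hx.map f
    · rintro ⟨n, hn⟩
      refine ⟨n, hf ?_⟩
      rw [map_pow, hn, map_zero]
  rw [this]
  exact Ideal.comap_isPrime f _

open TensorProduct in
/-- Let k be a field and S a k-algebra such that Spec(k' ⊗_k S) is irreducible for every field extension
k'/k. Then every k-subalgebra of S has the same property. Here the test fields range over field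
extensions in the universe of k; this is equivalent to the unrestricted notion, since an algebraic
closure of k suffices as a test. -/
theorem result {k S : Type u} [Field k] [CommRing S] [Algebra k S]
    (hS : ∀ (k' : Type u) [Field k'] [Algebra k k'], IrreducibleSpace (PrimeSpectrum (k' ⊗[k] S))) (S' : Subalgebra k S) :
    ∀ (k' : Type u) [Field k'] [Algebra k k'], IrreducibleSpace (PrimeSpectrum (k' ⊗[k] S')) := by
  intro k' _ _
  haveI := hS k'
  exact irreducible_of_injective (Algebra.TensorProduct.map (AlgHom.id k k') S'.val).toRingHom
    (tensor_subalgebra_injective S' k')

end Groth.Agent.S9625
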