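import Groth.Statements.S9626
import Mathlib

set_option autoImplicit false
universe u
open CAlg

namespace Groth.Agent.S9626

/-- An irreducible prime spectrum has a least point. -/
theorem exists_least_of_irreducibleSpace {A : Type*} [CommRing A] [IrreducibleSpace (PrimeSpectrum A)] :
    ∃ η : PrimeSpectrum A, ∀ x, η ≤ x := by
  refine ⟨genericPoint (PrimeSpectrum A), fun x => ?_⟩
  rw [PrimeSpectrum.le_iff_specializes]
  exact (genericPoint_spec (PrimeSpectrum A)).specializes (Set.mem_univ x)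

open TensorProduct in
theorem exists_least_fibre {k R S : Type u} [Field k] [CommRing R] [CommRing S] [Algebra k R] [Algebra k S]
    (hS : ∀ (k' : Type u) [Field k'] [Algebra k k'], IrreducibleSpace (PrimeSpectrum (k' ⊗[k] S)))
    (p : PrimeSpectrum R) :
    ∃ q₀ : PrimeSpectrum (R ⊗[k] S), PrimeSpectrum.comap (algebraMap R (R ⊗[k] S)) q₀ = p ∧
      ∀ q, PrimeSpectrum.comap (algebraMap R (R ⊗[k] S)) q = p → q₀ ≤ q := by
  let e := PrimeSpectrum.preimageOrderIsoFiber R (R ⊗[k] S) p
  let e2 : p.asIdeal.Fiber (R ⊗[k] S) ≃ₐ[R] p.asIdeal.ResidueField ⊗[k] S :=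
    Algebra.TensorProduct.cancelBaseChange k R R p.asIdeal.ResidueField S
  haveI := hS p.asIdeal.ResidueField
  haveI : IrreducibleSpace (PrimeSpectrum (p.asIdeal.Fiber (R ⊗[k] S))) :=
    (PrimeSpectrum.homeomorphOfRingEquiv e2.toRingEquiv).irreducibleSpace_iff.mpr inferInstance
  obtain ⟨η, hη⟩ := exists_least_of_irreducibleSpace (A := p.asIdeal.Fiber (R ⊗[k] S))
  refine ⟨(e.symm η).1, (e.symm η).2, fun q hq => ?_⟩
  have : e.symm η ≤ ⟨q, hq⟩ := by
    rw [OrderIso.symm_apply_le]
    exact hη _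
  exact this

open TensorProduct in
/-- Let k be a field, S a k-algebra with Spec(k' ⊗_k S) irreducible for every field extension k'/k, and
R any k-algebra. Then Spec(R ⊗_k S) → Spec(R) induces a bijection on irreducible components: taking
inverse images along R → R ⊗_k S maps the set of minimal primes of R ⊗_k S bijectively onto the set
of minimal primes of R. Here the test fields range over field extensions in the universe of k; this
is equivalent to the unrestricted notion, since an algebraic closure of k suffices as a test. -/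
theorem result {k R S : Type u} [Field k] [CommRing R] [CommRing S] [Algebra k R] [Algebra k S]
    (hS : ∀ (k' : Type u) [Field k'] [Algebra k k'], IrreducibleSpace (PrimeSpectrum (k' ⊗[k] S))) :
    Set.BijOn (Ideal.comap (algebraMap R (R ⊗[k] S))) (minimalPrimes (R ⊗[k] S)) (minimalPrimes R) := by
  have hmin : ∀ {A : Type u} [CommRing A] (q : Ideal A), q ∈ minimalPrimes A ↔
      q.IsPrime ∧ ∀ q' : Ideal A, q'.IsPrime → q' ≤ q → q' = q := by
    intro A _ q
    rw [minimalPrimes_eq_minimals, Set.mem_ofPred_eq, minimal_iff]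
    constructor
    · rintro ⟨h1, h2⟩
      exact ⟨h1, fun q' hq' hle => (h2 hq' hle).symm⟩
    · rintro ⟨h1, h2⟩
      exact ⟨h1, fun q' hq' hle => (h2 q' hq' hle).symm⟩
  refine ⟨?_, ?_, ?_⟩
  · intro q hq
    rw [hmin] at hq ⊢
    obtain ⟨hqp, hqmin⟩ := hq
    haveI := hqp
    refine ⟨Ideal.comap_isPrime _ _, fun p' hp' hle => ?_⟩
    haveI := hp'
    haveI : (Ideal.comap (algebraMap R (TensorProduct k R S)) q).IsPrime := Ideal.comap_isPrime _ _
    haveI : q.LiesOver (Ideal.comap (algebraMap R (TensorProduct k R S)) q) := ⟨rfl⟩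
    obtain ⟨P, hPq, hP, hPlo⟩ := Ideal.exists_ideal_le_liesOver_of_le (p := p') q hle
    have := hqmin P hP hPq
    rw [hPlo.over, this]
  · intro q1 hq1 q2 hq2 h12
    have hq1' := (hmin q1).mp hq1
    have hq2' := (hmin q2).mp hq2
    obtain ⟨hq1p, hq1min⟩ := hq1'
    obtain ⟨hq2p, hq2min⟩ := hq2'
    haveI : (Ideal.comap (algebraMap R (TensorProduct k R S)) q1).IsPrime := Ideal.comap_isPrime _ _
    obtain ⟨q₀, hq₀, hleast⟩ := exists_least_fibre hS ⟨Ideal.comap (algebraMap R (TensorProduct k R S)) q1, inferInstance⟩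
    have h1 : q₀ ≤ ⟨q1, hq1p⟩ := hleast ⟨q1, hq1p⟩ rfl
    have h2 : q₀ ≤ ⟨q2, hq2p⟩ := hleast ⟨q2, hq2p⟩ (PrimeSpectrum.ext h12.symm)
    rw [← hq1min q₀.asIdeal q₀.isPrime h1, ← hq2min q₀.asIdeal q₀.isPrime h2]
  · intro p hp
    rw [hmin] at hp
    obtain ⟨hpp, hpmin⟩ := hp
    obtain ⟨q₀, hq₀, hleast⟩ := exists_least_fibre hS ⟨p, hpp⟩
    refine ⟨q₀.asIdeal, ?_, congrArg PrimeSpectrum.asIdeal hq₀⟩
    rw [hmin]
    refine ⟨q₀.isPrime, fun q' hq' hle => ?_⟩
    haveI := hq'
    have h1 : Ideal.comap (algebraMap R (TensorProduct k R S)) q' ≤ p := by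
      have := Ideal.comap_mono (f := algebraMap R (TensorProduct k R S)) hle
      rwa [show Ideal.comap (algebraMap R (TensorProduct k R S)) q₀.asIdeal = p from congrArg PrimeSpectrum.asIdeal hq₀] at this
    have h2 := hpmin _ (Ideal.comap_isPrime _ _) h1
    have h3 : q₀ ≤ ⟨q', hq'⟩ := hleast ⟨q', hq'⟩ (PrimeSpectrum.ext h2)
    exact le_antisymm hle h3

end Groth.Agent.S9626
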