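import Groth.Statements.S9642
import Mathlib

set_option autoImplicit false
universe u
open CAlg

namespace Groth.Agent.S9642

theorem irreducibleSpace_of_isOpenMap_of_dense_fibres {X Y : Type*} [TopologicalSpace X] [TopologicalSpace Y]
    (f : X → Y) (hopen : IsOpenMap f) [IrreducibleSpace Y] (D : Set Y) (hD : Dense D)
    (hfib : ∀ p ∈ D, IrreducibleSpace (f ⁻¹' {p})) : IrreducibleSpace X := by
  have hne : Nonempty X := by
    obtain ⟨p, hp⟩ := hD.nonempty
    obtain ⟨x⟩ := (hfib p hp).toNonempty
    exact ⟨x.1⟩
  have hpre : PreirreducibleSpace X := by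
    apply PreirreducibleSpace.of_forall_nonempty_inter
    intro U V hU hV hUne hVne
    have h1 : (f '' U ∩ f '' V).Nonempty :=
      nonempty_preirreducible_inter (hopen U hU) (hopen V hV) (hUne.image f) (hVne.image f)
    obtain ⟨p, hpUV, hpD⟩ := hD.inter_open_nonempty _ ((hopen U hU).inter (hopen V hV)) h1
    obtain ⟨⟨u, huU, hup⟩, ⟨v, hvV, hvp⟩⟩ := hpUV
    have := hfib p hpD
    have h2 : ((Subtype.val ⁻¹' U : Set (f ⁻¹' {p})) ∩ (Subtype.val ⁻¹' V)).Nonempty :=
      nonempty_preirreducible_inter (hU.preimage continuous_subtype_val)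
        (hV.preimage continuous_subtype_val) ⟨⟨u, hup⟩, huU⟩ ⟨⟨v, hvp⟩, hvV⟩
    obtain ⟨z, hzU, hzV⟩ := h2
    exact ⟨z.1, hzU, hzV⟩
  exact { toPreirreducibleSpace := hpre, toNonempty := hne }

/-- In the general form stated there: let R → S be a ring map inducing an open map Spec(S) → Spec(R),
with Spec(R) irreducible, such that for a dense set of primes p of R the fibre ring κ(p) ⊗_R S has
irreducible spectrum. Then Spec(S) is irreducible. The flat and finitely presented case is the
special case in which the map on spectra is open by fppf-openness. -/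
theorem result {R S : Type u} [CommRing R] [CommRing S] [Algebra R S]
    (hopen : IsOpenMap (PrimeSpectrum.comap (algebraMap R S))) [IrreducibleSpace (PrimeSpectrum R)]
    (D : Set (PrimeSpectrum R)) (hD : Dense D) (hfib : ∀ p ∈ D, IrreducibleSpace (PrimeSpectrum (p.asIdeal.Fiber S))) :
    IrreducibleSpace (PrimeSpectrum S) := by
  refine irreducibleSpace_of_isOpenMap_of_dense_fibres _ hopen D hD (fun p hp => ?_)
  have := hfib p hp
  exact (PrimeSpectrum.preimageHomeomorphFiber R S p).irreducibleSpace_iff.mpr this

end Groth.Agent.S9642
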