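import Groth.Statements.S9629
import Mathlib
import Groth.Agent.H19.GeomTensor

set_option autoImplicit false
universe u
open CAlg

namespace Groth.Agent.S9629

open TensorProduct in
/-- For a field k and a k-algebra S the following are equivalent: (1) S is geometrically integral, i.e.
k' ⊗_k S is an integral domain for every field extension k'/k; (2) k' ⊗_k S is an integral domain
for every finite field extension k'/k; (3) k̄ ⊗_k S is an integral domain for the algebraic closure
k̄ of k. Here the test fields range over field extensions in the universe of k; this is equivalent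
to the unrestricted notion, since an algebraic closure of k suffices as a test. -/
theorem result {k S : Type u} [Field k] [CommRing S] [Algebra k S] :
    [∀ (k' : Type u) [Field k'] [Algebra k k'], IsDomain (k' ⊗[k] S),
      ∀ (k' : Type u) [Field k'] [Algebra k k'] [Module.Finite k k'], IsDomain (k' ⊗[k] S),
      IsDomain (AlgebraicClosure k ⊗[k] S)].TFAE := by
  tfae_have 1 → 2 := fun h k' _ _ _ => h k'
  tfae_have 1 → 3 := fun h => h (AlgebraicClosure k)
  tfae_have 2 → 3 := by
    intro h
    haveI hS : IsDomain (TensorProduct k k S) := h k
    haveI : Nontrivial S :=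
      (Algebra.TensorProduct.lid k S).injective.nontrivial
    haveI : Nontrivial (TensorProduct k (AlgebraicClosure k) S) :=
      (Algebra.TensorProduct.includeRight_injective (R := k) (A := AlgebraicClosure k) (B := S)
        (algebraMap k (AlgebraicClosure k)).injective).nontrivial
    haveI : NoZeroDivisors (TensorProduct k (AlgebraicClosure k) S) := by
      refine ⟨fun {x y} hxy => ?_⟩
      obtain ⟨L1, h1, hx⟩ := Groth.Agent.H19.exists_finiteDimensional_mem_range x
      obtain ⟨L2, h2, hy⟩ := Groth.Agent.H19.exists_finiteDimensional_mem_range y
      obtain ⟨x', rfl⟩ := Groth.Agent.H19.range_map_val_mono (le_sup_left : L1 ≤ L1 ⊔ L2) hx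
      obtain ⟨y', rfl⟩ := Groth.Agent.H19.range_map_val_mono (le_sup_right : L2 ≤ L1 ⊔ L2) hy
      haveI : IsDomain (TensorProduct k (L1 ⊔ L2 : IntermediateField k (AlgebraicClosure k)) S) :=
        h (L1 ⊔ L2 : IntermediateField k (AlgebraicClosure k))
      have hinj := Groth.Agent.H19.map_val_injective (S := S) (L1 ⊔ L2)
      have hxy' : x' * y' = 0 := by
        apply hinj
        rw [map_mul, map_zero]
        exact hxy
      rcases mul_eq_zero.mp hxy' with h0 | h0
      · left; rw [h0, map_zero]
      · right; rw [h0, map_zero]
    exact NoZeroDivisors.to_isDomain _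
  tfae_have 3 → 1 := by
    intro h k' _ _
    let K := AlgebraicClosure k'
    let j : AlgebraicClosure k →ₐ[k] K := IsAlgClosed.lift
    letI : Algebra (AlgebraicClosure k) K := j.toRingHom.toAlgebra
    haveI : IsScalarTower k (AlgebraicClosure k) K := IsScalarTower.of_algebraMap_eq (fun x => (j.commutes x).symm)
    haveI := h
    haveI : IsDomain (TensorProduct (AlgebraicClosure k) K (TensorProduct k (AlgebraicClosure k) S)) :=
      Groth.Agent.H19.isDomain_tensor_of_isAlgClosed
    let e := Algebra.TensorProduct.cancelBaseChange k (AlgebraicClosure k) (AlgebraicClosure k) K S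
    haveI : IsDomain (TensorProduct k K S) := e.symm.injective.isDomain e.symm.toRingHom
    let f : TensorProduct k k' S →ₐ[k] TensorProduct k K S :=
      Algebra.TensorProduct.map (IsScalarTower.toAlgHom k k' K) (AlgHom.id k S)
    have hf : Function.Injective f :=
      Module.Flat.rTensor_preserves_injective_linearMap (M := S)
        (IsScalarTower.toAlgHom k k' K).toLinearMap (algebraMap k' K).injective
    exact hf.isDomain f.toRingHom
  tfae_finish

end Groth.Agent.S9629
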