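import Groth.Statements.S9630
import Mathlib
import Groth.Agent.H19.GeomTensor

set_option autoImplicit false
universe u
open CAlg

namespace Groth.Agent.S9630

open TensorProduct in
/-- For a field k and a k-algebra R the following are equivalent: (1) Spec(k' ⊗_k R) is irreducible for
every field extension k'/k; (2) the same for every finite separable extension k'/k; (3) Spec(k^sep
⊗_k R) is irreducible for the separable closure k^sep; (4) Spec(k̄ ⊗_k R) is irreducible for the
algebraic closure k̄. Here the test fields range over field extensions in the universe of k; this is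
equivalent to the unrestricted notion, since an algebraic closure of k suffices as a test. -/
theorem result {k R : Type u} [Field k] [CommRing R] [Algebra k R] :
    [∀ (k' : Type u) [Field k'] [Algebra k k'], IrreducibleSpace (PrimeSpectrum (k' ⊗[k] R)),
      ∀ (k' : Type u) [Field k'] [Algebra k k'] [Module.Finite k k'] [Algebra.IsSeparable k k'], IrreducibleSpace (PrimeSpectrum (k' ⊗[k] R)),
      IrreducibleSpace (PrimeSpectrum (SeparableClosure k ⊗[k] R)),
      IrreducibleSpace (PrimeSpectrum (AlgebraicClosure k ⊗[k] R))].TFAE := by
  tfae_have 1 → 2 := fun h k' _ _ _ _ => h k'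
  tfae_have 1 → 3 := fun h => h (SeparableClosure k)
  tfae_have 2 → 3 := by
    intro h
    have hkR : IrreducibleSpace (PrimeSpectrum (TensorProduct k k R)) := h k
    haveI : Nontrivial (TensorProduct k k R) := by
      obtain ⟨p⟩ := hkR.toNonempty
      exact ⟨⟨0, 1, fun h01 => p.isPrime.ne_top ((Ideal.eq_top_iff_one _).mpr (h01 ▸ p.asIdeal.zero_mem))⟩⟩
    haveI : Nontrivial R := (Algebra.TensorProduct.lid k R).injective.nontrivial
    exact Groth.Agent.H19.irreducibleSpace_tensor_of_forall_finite (fun L hL => h L)
  tfae_have 3 → 4 := by
    intro h
    have := PrimeSpectrum.isHomeomorph_comap_tensorProductMap_of_isPurelyInseparable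
      (SeparableClosure k) k R (AlgebraicClosure k)
    exact (this.homeomorph).irreducibleSpace_iff.mpr h
  tfae_have 4 → 1 := by
    intro h k' _ _
    let K := AlgebraicClosure k'
    let j : AlgebraicClosure k →ₐ[k] K := IsAlgClosed.lift
    letI : Algebra (AlgebraicClosure k) K := j.toRingHom.toAlgebra
    haveI : IsScalarTower k (AlgebraicClosure k) K := IsScalarTower.of_algebraMap_eq (fun x => (j.commutes x).symm)
    haveI := h
    have h1 : IrreducibleSpace (PrimeSpectrum (TensorProduct (AlgebraicClosure k) K (TensorProduct k (AlgebraicClosure k) R))) :=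
      Groth.Agent.H19.irreducibleSpace_tensor_of_isAlgClosed
    let e := Algebra.TensorProduct.cancelBaseChange k (AlgebraicClosure k) (AlgebraicClosure k) K R
    have h2 : IrreducibleSpace (PrimeSpectrum (TensorProduct k K R)) :=
      (PrimeSpectrum.homeomorphOfRingEquiv e.toRingEquiv).irreducibleSpace_iff.mp h1
    let f : TensorProduct k k' R →ₐ[k] TensorProduct k K R :=
      Algebra.TensorProduct.map (IsScalarTower.toAlgHom k k' K) (AlgHom.id k R)
    have hf : Function.Injective f :=
      Module.Flat.rTensor_preserves_injective_linearMap (M := R)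
        (IsScalarTower.toAlgHom k k' K).toLinearMap (algebraMap k' K).injective
    replace h2 := (Groth.Agent.H19.irreducibleSpace_iff_nilradical_isPrime (A := TensorProduct k K R)).mp h2
    refine (Groth.Agent.H19.irreducibleSpace_iff_nilradical_isPrime (A := TensorProduct k k' R)).mpr ?_
    exact Groth.Agent.H19.nilradical_isPrime_of_injective f.toRingHom hf h2
  tfae_finish

end Groth.Agent.S9630
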