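import Groth.Statements.S9632
import Mathlib

set_option autoImplicit false
universe u
open CAlg

namespace Groth.Agent.S9632

open TensorProduct in
/-- Let R → A be a ring map making A a finite free R-module of rank n, let f ∈ A and let P(T) = Tⁿ +
r_{n-1}Tⁿ⁻¹ + ⋯ + r_0 be the characteristic polynomial of multiplication by f on A. Then for a prime
p of R, f acts nilpotently on κ(p) ⊗_R A if and only if p contains r_0, …, r_{n-1}. -/
theorem result {R A : Type u} [CommRing R] [CommRing A] [Algebra R A] [Module.Free R A] [Module.Finite R A] (f : A) (p : Ideal R) [p.IsPrime] :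
    IsNilpotent ((1 : p.ResidueField) ⊗ₜ[R] f : p.ResidueField ⊗[R] A) ↔
      ∀ i : ℕ, i < Module.finrank R A → (LinearMap.mulLeft R f).charpoly.coeff i ∈ p := by
  have : Nontrivial R := (algebraMap R p.ResidueField).domain_nontrivial
  have hbc : LinearMap.mulLeft p.ResidueField ((1 : p.ResidueField) ⊗ₜ[R] f : TensorProduct R p.ResidueField A) =
      (LinearMap.mulLeft R f).baseChange p.ResidueField := by
    apply TensorProduct.AlgebraTensorModule.curry_injective
    ext x
    simp
  have hnil : IsNilpotent ((1 : p.ResidueField) ⊗ₜ[R] f : TensorProduct R p.ResidueField A) ↔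
      IsNilpotent (LinearMap.mulLeft p.ResidueField ((1 : p.ResidueField) ⊗ₜ[R] f : TensorProduct R p.ResidueField A)) := by
    constructor
    · rintro ⟨n, hn⟩
      refine ⟨n, ?_⟩
      rw [LinearMap.pow_mulLeft, hn, LinearMap.mulLeft_zero_eq_zero]
    · rintro ⟨n, hn⟩
      refine ⟨n, ?_⟩
      have := congrArg (fun φ => φ 1) hn
      simpa [LinearMap.pow_mulLeft] using this
  rw [hnil, LinearMap.isNilpotent_iff_charpoly, hbc, LinearMap.charpoly_baseChange,
    Module.finrank_baseChange]
  have hmonic := (LinearMap.mulLeft R f).charpoly_monic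
  have hdeg := (LinearMap.mulLeft R f).charpoly_natDegree
  constructor
  · intro h i hi
    have := congrArg (fun q => q.coeff i) h
    simp only [Polynomial.coeff_map, Polynomial.coeff_X_pow] at this
    rw [if_neg (by omega)] at this
    exact Ideal.algebraMap_residueField_eq_zero.mp this
  · intro h
    ext i
    simp only [Polynomial.coeff_map, Polynomial.coeff_X_pow]
    by_cases hi : i < Module.finrank R A
    · rw [if_neg (by omega)]
      exact Ideal.algebraMap_residueField_eq_zero.mpr (h i hi)
    · rcases Nat.eq_or_lt_of_le (not_lt.mp hi) with hi' | hi'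
      · rw [if_pos hi'.symm, ← hi', ← hdeg]
        rw [hmonic.coeff_natDegree, map_one]
      · rw [if_neg (by omega), Polynomial.coeff_eq_zero_of_natDegree_lt (by omega), map_zero]

end Groth.Agent.S9632
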