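import Groth.Statements.S9633
import Mathlib

set_option autoImplicit false
universe u
open CAlg

namespace Groth.Agent.S9633

/-- For a ring R with spectrum X the following are equivalent: (1) X is profinite, i.e. compact,
Hausdorff and totally disconnected; (2) X is Hausdorff; (3) X is totally disconnected; (4) every
quasi-compact open subset of X is closed; (5) there are no nontrivial inclusions among prime ideals
of R; (6) every prime ideal of R is maximal; (7) every prime ideal of R is a minimal prime; (8)
every standard open D(f) is closed. -/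
theorem result {R : Type u} [CommRing R] :
    [CompactSpace (PrimeSpectrum R) ∧ T2Space (PrimeSpectrum R) ∧ TotallyDisconnectedSpace (PrimeSpectrum R),
      T2Space (PrimeSpectrum R),
      TotallyDisconnectedSpace (PrimeSpectrum R),
      ∀ W : Set (PrimeSpectrum R), IsOpen W → IsCompact W → IsClosed W,
      ∀ p q : PrimeSpectrum R, p ≤ q → p = q,
      ∀ p : Ideal R, p.IsPrime → p.IsMaximal,
      ∀ p : Ideal R, p.IsPrime → p ∈ minimalPrimes R,
      ∀ f : R, IsClosed (PrimeSpectrum.basicOpen f : Set (PrimeSpectrum R))].TFAE := by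
  tfae_have 1 → 2 := fun h => h.2.1
  tfae_have 1 → 3 := fun h => h.2.2
  tfae_have 2 → 5 := by
    intro h p q hpq
    have h1 : p ⤳ q := (PrimeSpectrum.le_iff_specializes p q).mp hpq
    exact h1.eq
  tfae_have 3 → 5 := by
    intro h p q hpq
    have h1 : p ⤳ q := (PrimeSpectrum.le_iff_specializes p q).mp hpq
    have h2 : IsPreconnected (closure {p} : Set (PrimeSpectrum R)) :=
      (isPreconnected_singleton).closure
    have h3 := (isTotallyDisconnected_of_totallyDisconnectedSpace (closure {p} : Set (PrimeSpectrum R))) _ subset_rfl h2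
    exact h3 (subset_closure rfl) (h1.mem_closure)
  tfae_have 5 → 6 := by
    intro h p hp
    obtain ⟨m, hm, hpm⟩ := Ideal.exists_le_maximal p hp.ne_top
    have := h ⟨p, hp⟩ ⟨m, hm.isPrime⟩ hpm
    have h2 : p = m := congrArg PrimeSpectrum.asIdeal this
    exact h2 ▸ hm
  tfae_have 6 → 5 := by
    intro h p q hpq
    ext1
    exact (h p.asIdeal p.2).eq_of_le q.2.ne_top hpq
  tfae_have 5 → 7 := by
    intro h p hp
    obtain ⟨q, hq, hqp⟩ := Ideal.exists_minimalPrimes_le (I := ⊥) (J := p) bot_le
    have := h ⟨q, hq.1.1⟩ ⟨p, hp⟩ hqp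
    have h2 : q = p := congrArg PrimeSpectrum.asIdeal this
    exact h2 ▸ hq
  tfae_have 7 → 5 := by
    intro h p q hpq
    ext1
    have := h q.asIdeal q.2
    exact le_antisymm hpq (this.2 ⟨p.2, bot_le⟩ hpq)
  tfae_have 5 → 8 := by
    intro h f
    rw [← PrimeSpectrum.localization_away_comap_range (Localization.Away f) f]
    apply PrimeSpectrum.isClosed_range_of_stableUnderSpecialization
    intro x y hxy hx
    have := h x y ((PrimeSpectrum.le_iff_specializes x y).mpr hxy)
    exact this ▸ hx
  tfae_have 8 → 4 := by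
    intro h W hW hWc
    obtain ⟨t, rfl⟩ := PrimeSpectrum.isCompact_isOpen_iff.mp ⟨hWc, hW⟩
    have : (PrimeSpectrum.zeroLocus (t : Set R))ᶜ = ⋃ f ∈ t, (PrimeSpectrum.basicOpen f : Set (PrimeSpectrum R)) := by
      ext x
      simp [PrimeSpectrum.zeroLocus, Set.not_subset]
    rw [this]
    exact t.finite_toSet.isClosed_biUnion fun f _ => h f
  tfae_have 4 → 8 := by
    intro h f
    exact h _ (PrimeSpectrum.basicOpen f).2 (PrimeSpectrum.isCompact_basicOpen f)
  tfae_have 8 → 1 := by
    intro h
    have : TotallySeparatedSpace (PrimeSpectrum R) := by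
      rw [totallySeparatedSpace_iff_exists_isClopen]
      intro x y hxy
      have hne : x.asIdeal ≠ y.asIdeal := fun h => hxy (PrimeSpectrum.ext h)
      by_cases hle : x.asIdeal ≤ y.asIdeal
      · have : ¬ y.asIdeal ≤ x.asIdeal := fun h' => hne (le_antisymm hle h')
        obtain ⟨f, hfy, hfx⟩ := Set.not_subset.mp this
        exact ⟨PrimeSpectrum.basicOpen f, ⟨h f, (PrimeSpectrum.basicOpen f).2⟩, hfx, fun hy => hy hfy⟩
      · obtain ⟨f, hfx, hfy⟩ := Set.not_subset.mp hle
        refine ⟨(PrimeSpectrum.basicOpen f : Set (PrimeSpectrum R))ᶜ, ⟨(PrimeSpectrum.basicOpen f).2.isClosed_compl, (h f).isOpen_compl⟩, fun hx => hx hfx, ?_⟩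
        simpa using hfy
    exact ⟨inferInstance, inferInstance, inferInstance⟩
  tfae_finish

end Groth.Agent.S9633
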