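import Groth.Statements.S9634
import Mathlib
import Groth.Agent.H19.GeomTensor

set_option autoImplicit false
universe u
open CAlg

namespace Groth.Agent.S9634

open TensorProduct in
/-- (1) ⇔ (4) ⇔ (5): for a field k and a k-algebra S the following are equivalent: (1) the ring k' ⊗_k S
is reduced whenever k'/k is a finite purely inseparable field extension; (4) S is geometrically
reduced in Mathlib's sense, which over a field amounts to k̄ ⊗_k S being reduced for an algebraic
closure k̄; (5) K ⊗_k S is reduced for all field extensions K/k. In (1) and (5) the test fields
range over field extensions in the universe of k; this is equivalent to the unrestricted notion,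
since an algebraic closure of k suffices as a test. -/
theorem result {k S : Type u} [Field k] [CommRing S] [Algebra k S] :
    [∀ (k' : Type u) [Field k'] [Algebra k k'] [Module.Finite k k'] [IsPurelyInseparable k k'], IsReduced (k' ⊗[k] S),
      Algebra.IsGeometricallyReduced k S,
      ∀ (K : Type u) [Field K] [Algebra k K], IsReduced (K ⊗[k] S)].TFAE := by
  tfae_have 1 → 2 := by
    intro h
    rw [Algebra.isGeometricallyReduced_field_iff]
    have hPS : IsReduced (TensorProduct k (perfectClosure k (AlgebraicClosure k)) S) := by
      refine Groth.Agent.H19.isReduced_tensor_of_forall_finite (fun L hL => ?_)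
      haveI : IsPurelyInseparable k L := IsPurelyInseparable.tower_bot k L (perfectClosure k (AlgebraicClosure k))
      exact h L
    exact Groth.Agent.H19.isReduced_tensor_of_perfect_tower (P := perfectClosure k (AlgebraicClosure k)) hPS
  tfae_have 2 → 3 := by
    intro h K _ _
    rw [Algebra.isGeometricallyReduced_field_iff] at h
    let K' := AlgebraicClosure K
    let j : AlgebraicClosure k →ₐ[k] K' := IsAlgClosed.lift
    letI : Algebra (AlgebraicClosure k) K' := j.toRingHom.toAlgebra
    haveI : IsScalarTower k (AlgebraicClosure k) K' := IsScalarTower.of_algebraMap_eq (fun x => (j.commutes x).symm)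
    haveI := h
    haveI : IsReduced (TensorProduct (AlgebraicClosure k) K' (TensorProduct k (AlgebraicClosure k) S)) :=
      Groth.Agent.H19.isReduced_tensor_of_isAlgClosed
    let e := Algebra.TensorProduct.cancelBaseChange k (AlgebraicClosure k) (AlgebraicClosure k) K' S
    haveI : IsReduced (TensorProduct k K' S) := isReduced_of_injective e.symm (AlgEquiv.injective _)
    let f : TensorProduct k K S →ₐ[k] TensorProduct k K' S :=
      Algebra.TensorProduct.map (IsScalarTower.toAlgHom k K K') (AlgHom.id k S)
    have hf : Function.Injective f :=
      Module.Flat.rTensor_preserves_injective_linearMap (M := S)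
        (IsScalarTower.toAlgHom k K K').toLinearMap (algebraMap K K').injective
    exact isReduced_of_injective f hf
  tfae_have 3 → 1 := fun h k' _ _ _ _ => h k'
  tfae_finish

end Groth.Agent.S9634
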