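import Groth.Statements.S9635
import Mathlib
import Groth.Agent.H19.GeomTensor

set_option autoImplicit false
universe u
open CAlg

namespace Groth.Agent.S9635

open TensorProduct in
/-- Let k ⊆ k' be fields with k' separable algebraic over k, and A a k'-algebra. Then A is geometrically
reduced over k (K ⊗_k A reduced for all field extensions K/k) if and only if A is geometrically
reduced over k' (K ⊗_{k'} A reduced for all field extensions K/k'). Here the test fields K range
over field extensions (of k, respectively of k') in the common universe of k and k'; this is
equivalent to the unrestricted notions, since an algebraic closure of the base field suffices as a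
test. -/
theorem result {k k' A : Type u} [Field k] [Field k'] [Algebra k k'] [Algebra.IsSeparable k k'] [CommRing A] [Algebra k' A] [Algebra k A] [IsScalarTower k k' A] :
    (∀ (K : Type u) [Field K] [Algebra k K], IsReduced (K ⊗[k] A)) ↔
      ∀ (K : Type u) [Field K] [Algebra k' K], IsReduced (K ⊗[k'] A) := by
  constructor
  · intro h K _ _
    letI : Algebra k K := ((algebraMap k' K).comp (algebraMap k k')).toAlgebra
    haveI : IsScalarTower k k' K := IsScalarTower.of_algebraMap_eq (fun _ => rfl)
    exact Groth.Agent.H19.isReduced_tensor_of_isSeparable_tower (k := k) (k' := k') (h K)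
  · intro h K _ _
    -- `k' ⊗[k] K` is reduced
    haveI hB : IsReduced (TensorProduct k k' K) := by
      refine Groth.Agent.H19.isReduced_tensor_of_forall_finite (fun L hL => ?_)
      haveI : Algebra.IsSeparable k L := Algebra.isSeparable_tower_bot_of_isSeparable k L k'
      haveI : IsReduced (TensorProduct k K L) := Groth.Agent.H19.isReduced_tensor_of_isSeparable
      exact isReduced_of_injective (Algebra.TensorProduct.comm k L K) (AlgEquiv.injective _)
    haveI : IsReduced (TensorProduct k' (TensorProduct k k' K) A) := by
      refine Groth.Agent.H19.isReduced_tensor_of_family.{u, u, u, u} (fun b hb => ?_)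
      have hbn : b ∉ nilradical (TensorProduct k k' K) := by
        rw [mem_nilradical]
        exact fun hn => hb (IsReduced.eq_zero b hn)
      rw [nilradical_eq_sInf, Ideal.mem_sInf] at hbn
      push Not at hbn
      obtain ⟨p, hp, hbp⟩ := hbn
      haveI : p.IsPrime := hp
      refine ⟨p.ResidueField, inferInstance, inferInstance,
        IsScalarTower.toAlgHom k' (TensorProduct k k' K) p.ResidueField, ?_, h p.ResidueField⟩
      rw [IsScalarTower.coe_toAlgHom', ne_eq, Ideal.algebraMap_residueField_eq_zero]
      exact hbp
    haveI : IsReduced (TensorProduct k' A (TensorProduct k k' K)) :=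
      isReduced_of_injective (Algebra.TensorProduct.comm k' A (TensorProduct k k' K)) (AlgEquiv.injective _)
    haveI : IsReduced (TensorProduct k A K) :=
      isReduced_of_injective (Algebra.TensorProduct.cancelBaseChange k k' k' A K).symm (AlgEquiv.injective _)
    exact isReduced_of_injective (Algebra.TensorProduct.comm k K A) (AlgEquiv.injective _)

end Groth.Agent.S9635
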