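import Groth.Statements.S9636
import Mathlib

set_option autoImplicit false
universe u
open CAlg

namespace Groth.Agent.S9636

open TensorProduct in
theorem exists_kill_gen {k k' : Type*} [Field k] [Field k'] [Algebra k k'] [Algebra.IsSeparable k k']
    (a : k') : ∃ s : k' ⊗[k] k', Algebra.TensorProduct.lmul' (S := k') k s ≠ 0 ∧
      s * ((1 : k') ⊗ₜ[k] a - a ⊗ₜ[k] (1 : k')) = 0 := by
  let T := k' ⊗[k] k'
  let p : Polynomial k' := (minpoly k a).map (algebraMap k k')
  have hsep : p.Separable := Polynomial.Separable.map (f := algebraMap k k') (Algebra.IsSeparable.isSeparable k a)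
  have hroot : p.IsRoot a := by
    simp only [p, Polynomial.IsRoot.def, Polynomial.eval_map_algebraMap, minpoly.aeval]
  let g := p /ₘ (Polynomial.X - Polynomial.C a)
  have hpg : (Polynomial.X - Polynomial.C a) * g = p := Polynomial.mul_divByMonic_eq_iff_isRoot.mpr hroot
  have hga : g.eval a ≠ 0 := by
    intro h0
    have h1 : (Polynomial.X - Polynomial.C a) ∣ g := Polynomial.dvd_iff_isRoot.mpr h0
    have h2 : (Polynomial.X - Polynomial.C a) * (Polynomial.X - Polynomial.C a) ∣ p := by
      rw [← hpg]; exact mul_dvd_mul_left _ h1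
    exact Polynomial.not_isUnit_X_sub_C a (hsep.squarefree _ h2)
  let φ : Polynomial k' →+* T := Polynomial.eval₂RingHom
    (Algebra.TensorProduct.includeLeft : k' →ₐ[k] T).toRingHom ((1 : k') ⊗ₜ[k] a)
  have hφp : φ p = 0 := by
    simp only [φ, p, Polynomial.coe_eval₂RingHom, Polynomial.eval₂_map]
    have h1 : ((Algebra.TensorProduct.includeLeft : k' →ₐ[k] T).toRingHom).comp (algebraMap k k') = algebraMap k T := by
      ext c
      exact (Algebra.TensorProduct.algebraMap_apply c).symm
    rw [h1, ← Polynomial.aeval_def]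
    have h2 : ((1 : k') ⊗ₜ[k] a : T) = (Algebra.TensorProduct.includeRight : k' →ₐ[k] T) a := rfl
    rw [h2, Polynomial.aeval_algHom_apply, minpoly.aeval, map_zero]
  have hφX : φ (Polynomial.X - Polynomial.C a) = (1 : k') ⊗ₜ[k] a - a ⊗ₜ[k] (1 : k') := by
    simp [φ]
  refine ⟨φ g, ?_, ?_⟩
  · have h3 : ((Algebra.TensorProduct.lmul' (S := k') k).toRingHom.comp φ) = Polynomial.evalRingHom a := by
      apply Polynomial.ringHom_ext
      · intro c; simp [φ]
      · simp [φ]
    have h4 : Algebra.TensorProduct.lmul' (S := k') k (φ g) = g.eval a := by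
      have := RingHom.congr_fun h3 g
      simpa using this
    rw [h4]; exact hga
  · rw [← hφX, ← map_mul, mul_comm, hpg, hφp]

open TensorProduct in
/-- Let k'/k be a separable algebraic field extension. Then for some multiplicative subset S of k' ⊗_k
k' the multiplication map k' ⊗_k k' → k' is a localization at S: there is a ring isomorphism S⁻¹(k'
⊗_k k') ≅ k' carrying the localization map to the multiplication map. -/
theorem result {k k' : Type u} [Field k] [Field k'] [Algebra k k'] [Algebra.IsSeparable k k'] :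
    ∃ (S : Submonoid (k' ⊗[k] k')) (e : Localization S ≃+* k'), ∀ x : k' ⊗[k] k', e (algebraMap (k' ⊗[k] k') (Localization S) x) = Algebra.TensorProduct.lmul' (S := k') k x := by
  let μ : TensorProduct k k' k' →ₐ[k] k' := Algebra.TensorProduct.lmul' (S := k') k
  let I : Ideal (TensorProduct k k' k') := RingHom.ker μ
  have hI : I.IsPrime := RingHom.ker_isPrime μ
  have key' : ∀ x ∈ Ideal.span (Set.range fun s : k' => (1 : k') ⊗ₜ[k] s - s ⊗ₜ[k] (1 : k')),
      ∃ s : TensorProduct k k' k', s ∉ I ∧ s * x = 0 := by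
    intro x hx'
    induction hx' using Submodule.span_induction with
    | mem y hy =>
      obtain ⟨a, rfl⟩ := hy
      obtain ⟨s, hs1, hs2⟩ := exists_kill_gen (k := k) a
      exact ⟨s, fun h => hs1 ((RingHom.mem_ker).mp h), hs2⟩
    | zero => exact ⟨1, fun h => hI.ne_top ((Ideal.eq_top_iff_one _).mpr h), by simp⟩
    | add y z _ _ hy hz =>
      obtain ⟨s, hs1, hs2⟩ := hy
      obtain ⟨t, ht1, ht2⟩ := hz
      refine ⟨s * t, fun h => (hI.mem_or_mem h).elim hs1 ht1, ?_⟩
      rw [mul_add, mul_right_comm, hs2, zero_mul, mul_assoc, ht2, mul_zero, add_zero]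
    | smul r y _ hy =>
      obtain ⟨s, hs1, hs2⟩ := hy
      refine ⟨s, hs1, ?_⟩
      rw [smul_eq_mul, mul_left_comm, hs2, mul_zero]
  have key : ∀ x ∈ I, ∃ s : TensorProduct k k' k', s ∉ I ∧ s * x = 0 := by
    intro x hx
    apply key'
    rw [KaehlerDifferential.span_range_eq_ideal]; exact hx
  let _ : Algebra (TensorProduct k k' k') k' := μ.toRingHom.toAlgebra
  have hloc : IsLocalization I.primeCompl k' := by
    rw [isLocalization_iff]
    refine ⟨?_, ?_, ?_⟩
    · rintro ⟨y, hy⟩
      exact IsUnit.mk0 _ (fun h => hy ((RingHom.mem_ker).mpr h))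
    · intro z
      refine ⟨⟨z ⊗ₜ[k] (1 : k'), 1⟩, ?_⟩
      show z * μ 1 = μ (z ⊗ₜ[k] (1 : k'))
      simp [μ]
    · intro x y hxy
      have hxy' : x - y ∈ I := by
        rw [RingHom.mem_ker, map_sub, sub_eq_zero]; exact hxy
      obtain ⟨s, hs1, hs2⟩ := key _ hxy'
      exact ⟨⟨s, hs1⟩, by rw [mul_sub, sub_eq_zero] at hs2; exact hs2⟩
  refine ⟨I.primeCompl, (IsLocalization.algEquiv I.primeCompl (Localization I.primeCompl) k').toRingEquiv, ?_⟩
  intro x
  exact (IsLocalization.algEquiv I.primeCompl (Localization I.primeCompl) k').commutes x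

end Groth.Agent.S9636
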