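import Groth.Statements.S9638
import Mathlib

set_option autoImplicit false
universe u
open CAlg

namespace Groth.Agent.S9638

section
variable {S : Type u} [CommRing S] (T : Submonoid S) (N : Type u) [AddCommGroup N] [Module S N]

theorem ann_mk (hT : ∀ t ∈ T, IsSMulRegular N t) (m : N) (t : T) :
    (Submodule.span S {LocalizedModule.mk m t}).annihilator = (Submodule.span S {m}).annihilator := by
  ext s
  rw [Submodule.mem_annihilator_span_singleton, Submodule.mem_annihilator_span_singleton,
    LocalizedModule.smul'_mk, ← LocalizedModule.zero_mk t, LocalizedModule.mk_eq]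
  constructor
  · rintro ⟨u, hu⟩
    rw [smul_zero, smul_zero] at hu
    have h1 : (u : S) • ((t : S) • s • m) = 0 := hu
    have h2 := hT u u.2 (h1.trans (smul_zero (u : S)).symm)
    exact hT t t.2 (h2.trans (smul_zero (t : S)).symm)
  · intro h
    exact ⟨1, by rw [h]⟩

theorem comap_ann (x : LocalizedModule T N) :
    (Submodule.span (Localization T) {x}).annihilator.comap (algebraMap S (Localization T)) =
      (Submodule.span S {x}).annihilator := by
  ext s
  rw [Ideal.mem_comap, Submodule.mem_annihilator_span_singleton,
    Submodule.mem_annihilator_span_singleton, algebraMap_smul]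

theorem ass_eq (hT : ∀ t ∈ T, IsSMulRegular N t) :
    FlatCA.ass S N = FlatCA.ass S (LocalizedModule T N) := by
  ext p
  constructor
  · rintro ⟨hp, m, rfl⟩
    exact ⟨hp, LocalizedModule.mk m 1, (ann_mk T N hT m 1).symm⟩
  · rintro ⟨hp, x, rfl⟩
    induction x using LocalizedModule.induction_on with
    | h m t => exact ⟨hp, m, ann_mk T N hT m t⟩

theorem ass_eq_image (hT : ∀ t ∈ T, IsSMulRegular N t) :
    FlatCA.ass S N = Ideal.comap (algebraMap S (Localization T)) ''
      FlatCA.ass (Localization T) (LocalizedModule T N) := by
  ext p
  constructor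
  · rintro ⟨hp, m, rfl⟩
    set Q := (Submodule.span (Localization T) {LocalizedModule.mk m (1 : T)}).annihilator with hQ
    have hcomap : Q.comap (algebraMap S (Localization T)) = (Submodule.span S {m}).annihilator := by
      rw [hQ, comap_ann, ann_mk T N hT]
    have hdisj : Disjoint (T : Set S) ((Submodule.span S {m}).annihilator : Set S) := by
      rw [Set.disjoint_left]
      intro t ht htm
      have h1 : t • m = 0 := (Submodule.mem_annihilator_span_singleton _ _).mp htm
      have h2 : m = 0 := hT t ht (h1.trans (smul_zero t).symm)
      apply hp.ne_top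
      rw [Ideal.eq_top_iff_one, Submodule.mem_annihilator_span_singleton, h2, smul_zero]
    have hQmap : Q = Ideal.map (algebraMap S (Localization T)) (Submodule.span S {m}).annihilator := by
      rw [← hcomap]
      exact (IsLocalization.map_under T (Localization T) Q).symm
    refine ⟨Q, ⟨?_, LocalizedModule.mk m 1, rfl⟩, hcomap⟩
    rw [hQmap]
    exact IsLocalization.isPrime_of_isPrime_disjoint T (Localization T) _ hp hdisj
  · rintro ⟨Q, ⟨hQ, x, rfl⟩, rfl⟩
    rw [comap_ann]
    induction x using LocalizedModule.induction_on with
    | h m t =>
      refine ⟨?_, m, ann_mk T N hT m t⟩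
      rw [← comap_ann]
      exact Ideal.comap_isPrime _ _
end

/-- Let R → S be a ring map with R a domain with fraction field K, and N an S-module flat over R.
Writing T for the image in S of the nonzero elements of R, so that T⁻¹S = S ⊗_R K and T⁻¹N = N ⊗_R
K, the associated primes of N over S (primes equal to the annihilator of an element) coincide with
those of T⁻¹N over S, and these are exactly the inverse images in S of the associated primes of T⁻¹N
over T⁻¹S. -/
theorem result {R S : Type u} [CommRing R] [IsDomain R] [CommRing S] [Algebra R S] (N : Type u) [AddCommGroup N] [Module S N] [Module R N] [IsScalarTower R S N] [Module.Flat R N] :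
    FlatCA.ass S N = FlatCA.ass S (LocalizedModule (Algebra.algebraMapSubmonoid S (nonZeroDivisors R)) N) ∧
      FlatCA.ass S N = Ideal.comap (algebraMap S (Localization (Algebra.algebraMapSubmonoid S (nonZeroDivisors R)))) '' FlatCA.ass (Localization (Algebra.algebraMapSubmonoid S (nonZeroDivisors R))) (LocalizedModule (Algebra.algebraMapSubmonoid S (nonZeroDivisors R)) N) := by
  have hT : ∀ t ∈ Algebra.algebraMapSubmonoid S (nonZeroDivisors R), IsSMulRegular N t := by
    rintro _ ⟨r, hr, rfl⟩
    have h1 : IsSMulRegular N r := Module.Flat.isSMulRegular_of_nonZeroDivisors hr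
    intro a b hab
    apply h1
    change r • a = r • b
    have h2 : algebraMap R S r • a = algebraMap R S r • b := hab
    rwa [algebraMap_smul, algebraMap_smul] at h2
  exact ⟨Groth.Agent.S9638.ass_eq _ N hT, Groth.Agent.S9638.ass_eq_image _ N hT⟩

end Groth.Agent.S9638
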