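import Groth.Statements.S9639
import Mathlib

set_option autoImplicit false
universe u
open CAlg

namespace Groth.Agent.S9639

open TensorProduct in
theorem tensor_subalgebra_injective {k S : Type u} [Field k] [CommRing S] [Algebra k S] (S' : Subalgebra k S)
    (k' : Type u) [Field k'] [Algebra k k'] :
    Function.Injective (Algebra.TensorProduct.map (AlgHom.id k k') S'.val) := by
  have := Module.Flat.lTensor_preserves_injective_linearMap (M := k') S'.val.toLinearMap
    Subtype.val_injective
  exact this

theorem connected_of_injective {A B : Type u} [CommRing A] [CommRing B] (f : A →+* B)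
    (hf : Function.Injective f) [h : ConnectedSpace (PrimeSpectrum B)] :
    ConnectedSpace (PrimeSpectrum A) := by
  have hB : Nontrivial B := by
    obtain ⟨p⟩ := h.toNonempty
    exact ⟨0, 1, fun h01 => p.isPrime.ne_top ((Ideal.eq_top_iff_one _).mpr (h01 ▸ Ideal.zero_mem _))⟩
  have hA : Nontrivial A := f.domain_nontrivial
  have key : ∀ e : A, IsIdempotentElem e → (PrimeSpectrum.basicOpen (f e) : Set (PrimeSpectrum B)) = ∅ → e = 0 := by
    intro e he h0
    have h1 : IsNilpotent (f e) := by
      rw [← PrimeSpectrum.basicOpen_eq_bot_iff]
      exact TopologicalSpace.Opens.ext h0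
    obtain ⟨n, hn⟩ := h1
    rcases Nat.eq_zero_or_pos n with rfl | hpos
    · rw [pow_zero] at hn; exact (one_ne_zero hn).elim
    · rw [(he.map f).pow_eq hpos.ne'] at hn
      exact hf (by rw [hn, map_zero])
  refine @ConnectedSpace.mk _ _ (preconnectedSpace_iff_clopen.mpr ?_) inferInstance
  intro s hs
  obtain ⟨e, he, rfl⟩ := PrimeSpectrum.isClopen_iff.mp hs
  have hcl : IsClopen (PrimeSpectrum.comap f ⁻¹' (PrimeSpectrum.basicOpen e : Set (PrimeSpectrum A))) :=
    hs.preimage (PrimeSpectrum.continuous_comap f)
  rcases isClopen_iff.mp hcl with h0 | h1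
  · left
    rw [key e he (by rw [← h0]; rfl)]
    simp
  · right
    have : (PrimeSpectrum.basicOpen (f (1 - e)) : Set (PrimeSpectrum B)) = ∅ := by
      ext p
      have hp : p ∈ PrimeSpectrum.comap f ⁻¹' (PrimeSpectrum.basicOpen e : Set (PrimeSpectrum A)) := by
        rw [h1]; trivial
      simp only [Set.mem_preimage, SetLike.mem_coe, PrimeSpectrum.mem_basicOpen,
        PrimeSpectrum.comap_asIdeal, Ideal.mem_comap] at hp
      simp only [SetLike.mem_coe, PrimeSpectrum.mem_basicOpen, Set.mem_empty_iff_false, iff_false, not_not]
      have h3 : f e * f (1 - e) ∈ p.asIdeal := by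
        rw [← map_mul, mul_sub, mul_one, he.eq, sub_self, map_zero]; exact Ideal.zero_mem _
      exact (p.isPrime.mem_or_mem h3).resolve_left hp
    have h2 := key (1 - e) he.one_sub this
    have : e = 1 := by rw [sub_eq_zero] at h2; exact h2.symm
    rw [this]
    simp

open TensorProduct in
/-- Let k be a field and S a k-algebra such that Spec(k' ⊗_k S) is connected for every field extension
k'/k. Then every k-subalgebra of S has the same property. Here the test fields range over field
extensions in the universe of k; this is equivalent to the unrestricted notion, since an algebraic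
closure of k suffices as a test. -/
theorem result {k S : Type u} [Field k] [CommRing S] [Algebra k S]
    (hS : ∀ (k' : Type u) [Field k'] [Algebra k k'], ConnectedSpace (PrimeSpectrum (k' ⊗[k] S))) (S' : Subalgebra k S) :
    ∀ (k' : Type u) [Field k'] [Algebra k k'], ConnectedSpace (PrimeSpectrum (k' ⊗[k] S')) := by
  intro k' _ _
  haveI := hS k'
  exact connected_of_injective (Algebra.TensorProduct.map (AlgHom.id k k') S'.val).toRingHom
    (tensor_subalgebra_injective S' k')

end Groth.Agent.S9639
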