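import Groth.Statements.S9640
import Mathlib
import Groth.Agent.S9638

set_option autoImplicit false
universe u
open CAlg

namespace Groth.Agent.S9640

section
variable {S : Type u} [CommRing S] (T : Submonoid S) (N : Type u) [AddCommGroup N] [Module S N]

theorem weakAss_eq_image (hT : ∀ t ∈ T, IsSMulRegular N t) :
    FlatCA.weakAss S N = Ideal.comap (algebraMap S (Localization T)) ''
      FlatCA.weakAss (Localization T) (LocalizedModule T N) := by
  have key : ∀ (m : N) (t : T), (Submodule.span S {m}).annihilator.minimalPrimes =
      Ideal.comap (algebraMap S (Localization T)) ''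
        (Submodule.span (Localization T) {LocalizedModule.mk m t}).annihilator.minimalPrimes := by
    intro m t
    rw [← IsLocalization.minimalPrimes_comap T (Localization T), Groth.Agent.S9638.comap_ann,
      Groth.Agent.S9638.ann_mk T N hT]
  ext p
  constructor
  · rintro ⟨m, hm⟩
    rw [key m 1] at hm
    obtain ⟨Q, hQ, rfl⟩ := hm
    exact ⟨Q, ⟨LocalizedModule.mk m 1, hQ⟩, rfl⟩
  · rintro ⟨Q, ⟨x, hQ⟩, rfl⟩
    induction x using LocalizedModule.induction_on with
    | h m t =>
      refine ⟨m, ?_⟩
      rw [key m t]
      exact ⟨Q, hQ, rfl⟩
end

/-- Let R → S be a ring map with R a domain with fraction field K and N an S-module flat over R. Writing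
T for the image in S of the nonzero elements of R, so that T⁻¹S = S ⊗_R K and T⁻¹N = N ⊗_R K, the
primes of S weakly associated to N are exactly the inverse images in S of the primes of T⁻¹S weakly
associated to T⁻¹N. -/
theorem result {R S : Type u} [CommRing R] [IsDomain R] [CommRing S] [Algebra R S] (N : Type u) [AddCommGroup N] [Module S N] [Module R N] [IsScalarTower R S N] [Module.Flat R N] :
    FlatCA.weakAss S N = Ideal.comap (algebraMap S (Localization (Algebra.algebraMapSubmonoid S (nonZeroDivisors R)))) '' FlatCA.weakAss (Localization (Algebra.algebraMapSubmonoid S (nonZeroDivisors R))) (LocalizedModule (Algebra.algebraMapSubmonoid S (nonZeroDivisors R)) N) := by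
  have hT : ∀ t ∈ Algebra.algebraMapSubmonoid S (nonZeroDivisors R), IsSMulRegular N t := by
    rintro _ ⟨r, hr, rfl⟩
    have h1 : IsSMulRegular N r := Module.Flat.isSMulRegular_of_nonZeroDivisors hr
    intro a b hab
    apply h1
    change r • a = r • b
    have h2 : algebraMap R S r • a = algebraMap R S r • b := hab
    rwa [algebraMap_smul, algebraMap_smul] at h2
  exact Groth.Agent.S9640.weakAss_eq_image _ N hT

end Groth.Agent.S9640
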