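import Groth.Statements.S9641
import Mathlib

set_option autoImplicit false
universe u
open CAlg

namespace Groth.Agent.S9641

open TensorProduct in
/-- Let k be a field and R, S two k-algebras. If R ⊗_k S is not reduced then there are finitely
generated k-subalgebras R' ⊆ R and S' ⊆ S such that R' ⊗_k S' is not reduced. -/
theorem result {k R S : Type u} [Field k] [CommRing R] [CommRing S] [Algebra k R] [Algebra k S] (h : ¬ IsReduced (R ⊗[k] S)) :
    ∃ (R' : Subalgebra k R) (S' : Subalgebra k S), R'.FG ∧ S'.FG ∧ ¬ IsReduced (R' ⊗[k] S') := by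
  by_contra hc
  push Not at hc
  apply h
  have h1 : ∀ R' : Subalgebra k R, R'.FG → IsReduced (R' ⊗[k] S) := fun R' hR' =>
    IsReduced.tensorProduct_of_flat_of_forall_fg (fun S' hS' => hc R' S' hR' hS')
  have h2 : IsReduced (S ⊗[k] R) := IsReduced.tensorProduct_of_flat_of_forall_fg (fun R' hR' => by
    haveI := h1 R' hR'
    exact isReduced_of_injective (Algebra.TensorProduct.comm k S R') (AlgEquiv.injective _))
  exact isReduced_of_injective (Algebra.TensorProduct.comm k R S) (AlgEquiv.injective _)

end Groth.Agent.S9641
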