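import Groth.Statements.S9643
import Mathlib

set_option autoImplicit false
universe u
open CAlg

namespace Groth.Agent.S9643

/-- Let R be a Noetherian ring, M a finite R-module and 0 = M_0 ⊆ M_1 ⊆ ⋯ ⊆ M_n = M a chain of
submodules whose successive quotients M_i/M_{i-1} are isomorphic to R/p_i for prime ideals p_i. Then
the primes minimal among p_1, …, p_n are exactly the primes minimal in the support of M. -/
theorem result {R : Type u} [CommRing R] [IsNoetherianRing R] (M : Type u) [AddCommGroup M] [Module R M] [Module.Finite R M]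
    {n : ℕ} (N : Fin (n + 1) → Submodule R M) (hN : Monotone N) (h0 : N 0 = ⊥) (hlast : N (Fin.last n) = ⊤)
    (p : Fin n → PrimeSpectrum R)
    (hquot : ∀ i : Fin n, Nonempty ((↥(N i.succ) ⧸ Submodule.comap (N i.succ).subtype (N i.castSucc)) ≃ₗ[R] (R ⧸ (p i).asIdeal))) :
    {q : PrimeSpectrum R | Minimal (fun x => x ∈ Set.range p) q} = {q : PrimeSpectrum R | Minimal (fun x => x ∈ Module.support R M) q} := by
  have hstep : ∀ i : Fin n, Module.support R ↥(N i.succ) =
      Module.support R ↥(N i.castSucc) ∪ PrimeSpectrum.zeroLocus ((p i).asIdeal : Set R) := by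
    intro i
    have hle : N i.castSucc ≤ N i.succ := hN (Fin.castSucc_lt_succ (i := i)).le
    obtain ⟨e⟩ := hquot i
    have h1 := Module.support_of_exact
      (LinearMap.exact_subtype_mkQ (Submodule.comap (N i.succ).subtype (N i.castSucc)))
      (Submodule.injective_subtype _) (Submodule.mkQ_surjective _)
    rw [h1, (Submodule.comapSubtypeEquivOfLe hle).support_eq, e.support_eq,
      Module.support_eq_zeroLocus (M := R ⧸ (p i).asIdeal), Ideal.annihilator_quotient]
  have hind : ∀ i : Fin (n + 1), Module.support R ↥(N i) =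
      {q | ∃ j : Fin n, j.castSucc < i ∧ p j ≤ q} := by
    intro i
    induction i using Fin.induction with
    | zero =>
      rw [h0]
      have : Subsingleton ↥(⊥ : Submodule R M) := inferInstance
      rw [Module.support_eq_empty]
      ext q
      simp
    | succ i ih =>
      rw [hstep i, ih]
      ext q
      simp only [Set.mem_union, Set.mem_ofPred_eq, PrimeSpectrum.mem_zeroLocus, SetLike.coe_subset_coe]
      constructor
      · rintro (⟨j, hj, hjq⟩ | hq)
        · exact ⟨j, hj.trans (Fin.castSucc_lt_succ (i := i)), hjq⟩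
        · exact ⟨i, Fin.castSucc_lt_succ (i := i), hq⟩
      · rintro ⟨j, hj, hjq⟩
        rcases (Fin.le_castSucc_iff.mpr hj).lt_or_eq with h | h
        · exact Or.inl ⟨j, h, hjq⟩
        · have : j = i := Fin.castSucc_injective _ h
          subst this
          exact Or.inr hjq
  have hsupp : Module.support R M = {q | ∃ j : Fin n, p j ≤ q} := by
    have e : ↥(N (Fin.last n)) ≃ₗ[R] M := (LinearEquiv.ofEq _ _ hlast).trans Submodule.topEquiv
    rw [← e.support_eq, hind]
    ext q
    simp only [Set.mem_ofPred_eq]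
    exact ⟨fun ⟨j, _, h⟩ => ⟨j, h⟩, fun ⟨j, h⟩ => ⟨j, Fin.castSucc_lt_last j, h⟩⟩
  rw [hsupp]
  ext q
  simp only [Set.mem_ofPred_eq]
  constructor
  · rintro ⟨⟨i, rfl⟩, hmin⟩
    refine ⟨⟨i, le_rfl⟩, ?_⟩
    rintro q' ⟨j, hj⟩ hq'
    have := hmin ⟨j, rfl⟩ (hj.trans hq')
    exact this.trans hj
  · rintro ⟨⟨i, hi⟩, hmin⟩
    have h1 : q ≤ p i := hmin ⟨i, le_rfl⟩ hi
    have h2 : q = p i := le_antisymm h1 hi
    refine ⟨⟨i, h2.symm⟩, ?_⟩
    rintro _ ⟨j, rfl⟩ hj
    exact hmin ⟨j, le_rfl⟩ hj

end Groth.Agent.S9643
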