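import Groth.Statements.S9644
import Mathlib

set_option autoImplicit false
universe u
open CAlg

namespace Groth.Agent.S9644

/-- The submodule of elements killed, at each minimal prime of the annihilator, by something outside. -/
def Ksub {R : Type u} [CommRing R] (M : Type u) [AddCommGroup M] [Module R M] : Submodule R M where
  carrier := {m | ∀ p ∈ (Module.annihilator R M).minimalPrimes, ∃ s : R, s ∉ p ∧ s • m = 0}
  zero_mem' := fun p hp => ⟨1, fun h => hp.1.1.ne_top ((Ideal.eq_top_iff_one _).mpr h), by simp⟩
  add_mem' := by
    intro a b ha hb p hp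
    obtain ⟨s, hs, hsa⟩ := ha p hp
    obtain ⟨t, ht, htb⟩ := hb p hp
    haveI := hp.1.1
    refine ⟨s * t, fun h => ?_, ?_⟩
    · rcases (Ideal.IsPrime.mem_or_mem hp.1.1 h) with h | h
      · exact hs h
      · exact ht h
    · rw [smul_add, mul_smul s t b, htb, smul_zero, add_zero, mul_comm, mul_smul, hsa, smul_zero]
  smul_mem' := by
    intro c a ha p hp
    obtain ⟨s, hs, hsa⟩ := ha p hp
    exact ⟨s, hs, by rw [smul_comm, hsa, smul_zero]⟩

theorem mem_Ksub {R : Type u} [CommRing R] {M : Type u} [AddCommGroup M] [Module R M] (m : M) :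
    m ∈ Ksub (R := R) M ↔ ∀ p ∈ (Module.annihilator R M).minimalPrimes, ∃ s : R, s ∉ p ∧ s • m = 0 :=
  Iff.rfl

/-- L2: a submodule is contained in `Ksub` iff its support avoids all minimal primes. -/
theorem le_Ksub_iff {R : Type u} [CommRing R] {M : Type u} [AddCommGroup M] [Module R M]
    (K' : Submodule R M) :
    K' ≤ Ksub (R := R) M ↔ ∀ p (hp : p ∈ (Module.annihilator R M).minimalPrimes),
      (⟨p, hp.1.1⟩ : PrimeSpectrum R) ∉ Module.support R K' := by
  constructor
  · intro h p hp
    rw [Module.notMem_support_iff']
    intro m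
    obtain ⟨s, hs, hsm⟩ := h m.2 p hp
    exact ⟨s, hs, Subtype.ext (by simpa using hsm)⟩
  · intro h m hm p hp
    have := h p hp
    rw [Module.notMem_support_iff'] at this
    obtain ⟨s, hs, hsm⟩ := this ⟨m, hm⟩
    exact ⟨s, hs, by simpa using congrArg Subtype.val hsm⟩

/-- L1: the nowhere-density condition is equivalent to missing the minimal primes. -/
theorem nowhereDense_iff {R : Type u} [CommRing R] [IsNoetherianRing R] {M : Type u} [AddCommGroup M]
    [Module R M] [Module.Finite R M] (K' : Submodule R M) :
    (∀ U : Set (PrimeSpectrum R), IsOpen U → U ∩ Module.support R M ⊆ closure (Module.support R ↥K') →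
        U ∩ Module.support R M = ∅) ↔
      ∀ p (hp : p ∈ (Module.annihilator R M).minimalPrimes),
        (⟨p, hp.1.1⟩ : PrimeSpectrum R) ∉ Module.support R K' := by
  haveI : IsNoetherian R M := isNoetherian_of_isNoetherianRing_of_finite R M
  have hclosed : closure (Module.support R ↥K') = Module.support R ↥K' := by
    rw [Module.support_eq_zeroLocus]
    exact (PrimeSpectrum.isClosed_zeroLocus _).closure_eq
  have hfin : ((Module.annihilator R M).minimalPrimes).Finite :=
    Ideal.finite_minimalPrimes_of_isNoetherianRing R _
  constructor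
  · intro h p hp hmem
    let U : Set (PrimeSpectrum R) :=
      (⋃ q ∈ {q ∈ (Module.annihilator R M).minimalPrimes | q ≠ p}, PrimeSpectrum.zeroLocus (q : Set R))ᶜ
    have hUo : IsOpen U := by
      rw [isOpen_compl_iff]
      apply Set.Finite.isClosed_biUnion (hfin.subset (fun q hq => hq.1))
      intro q _
      exact PrimeSpectrum.isClosed_zeroLocus _
    have hsub : U ∩ Module.support R M ⊆ closure (Module.support R ↥K') := by
      rw [hclosed]
      rintro x ⟨hxU, hxM⟩
      rw [Module.support_eq_zeroLocus, PrimeSpectrum.mem_zeroLocus] at hxM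
      obtain ⟨q, hq, hqx⟩ := Ideal.exists_minimalPrimes_le (J := x.asIdeal) hxM
      have hqp : q = p := by
        by_contra hne
        apply hxU
        simp only [Set.mem_iUnion]
        exact ⟨q, ⟨hq, hne⟩, by simpa [PrimeSpectrum.mem_zeroLocus] using hqx⟩
      subst hqp
      exact Module.mem_support_mono (p := ⟨q, hp.1.1⟩) hqx hmem
    have hempty := h U hUo hsub
    have hpU : (⟨p, hp.1.1⟩ : PrimeSpectrum R) ∈ U ∩ Module.support R M := by
      refine ⟨?_, ?_⟩
      · intro hx
        simp only [Set.mem_iUnion] at hx
        obtain ⟨q, ⟨hq, hne⟩, hqx⟩ := hx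
        rw [PrimeSpectrum.mem_zeroLocus] at hqx
        have hqp : q ≤ p := hqx
        exact hne (le_antisymm hqp (hp.2 hq.1 hqp))
      · rw [Module.support_eq_zeroLocus, PrimeSpectrum.mem_zeroLocus]
        exact hp.1.2
    rw [hempty] at hpU
    exact hpU
  · intro h U hU hsub
    rw [hclosed] at hsub
    by_contra hne
    obtain ⟨x, hxU, hxM⟩ := Set.nonempty_iff_ne_empty.mpr hne
    have hxM' := hxM
    rw [Module.support_eq_zeroLocus, PrimeSpectrum.mem_zeroLocus] at hxM'
    obtain ⟨q, hq, hqx⟩ := Ideal.exists_minimalPrimes_le (J := x.asIdeal) hxM'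
    have hspec : (⟨q, hq.1.1⟩ : PrimeSpectrum R) ⤳ x := by
      rw [← PrimeSpectrum.le_iff_specializes]
      exact hqx
    have hqU : (⟨q, hq.1.1⟩ : PrimeSpectrum R) ∈ U := hspec.mem_open hU hxU
    have hqM : (⟨q, hq.1.1⟩ : PrimeSpectrum R) ∈ Module.support R M := by
      rw [Module.support_eq_zeroLocus, PrimeSpectrum.mem_zeroLocus]
      exact hq.1.2
    exact h q hq (hsub ⟨hqU, hqM⟩)

/-- Let R be a Noetherian ring and M a finite R-module. Among the submodules K' of M whose support is
nowhere dense inside Supp(M) there is a largest one, K. The quotient M' = M/K then satisfies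
Supp(M') = Supp(M), its associated primes are pairwise incomparable (no embedded ones), and whenever
f ∈ R belongs to every embedded associated prime of M the localized map M_f → M'_f is bijective. -/
theorem result {R : Type u} [CommRing R] [IsNoetherianRing R] (M : Type u) [AddCommGroup M] [Module R M] [Module.Finite R M] :
    ∃ K : Submodule R M,
      IsGreatest {K' : Submodule R M | ∀ U : Set (PrimeSpectrum R), IsOpen U → U ∩ Module.support R M ⊆ closure (Module.support R ↥K') → U ∩ Module.support R M = ∅} K ∧
      Module.support R (M ⧸ K) = Module.support R M ∧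
      (∀ p ∈ associatedPrimes R (M ⧸ K), ∀ q ∈ associatedPrimes R (M ⧸ K), p ≤ q → p = q) ∧
      ∀ f : R, (∀ p ∈ associatedPrimes R M, ¬ Minimal (fun x => x ∈ associatedPrimes R M) p → f ∈ p) →
        Function.Bijective (LocalizedModule.map (Submonoid.powers f) K.mkQ) := by
  classical
  haveI : IsNoetherian R M := isNoetherian_of_isNoetherianRing_of_finite R M
  refine ⟨Ksub (R := R) M, ⟨?_, ?_⟩, ?_, ?_, ?_⟩
  · show _ ∈ {K' : Submodule R M | _}
    rw [Set.mem_ofPred_eq, nowhereDense_iff, ← le_Ksub_iff]
  · intro K' hK'
    rw [Set.mem_ofPred_eq, nowhereDense_iff, ← le_Ksub_iff] at hK'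
    exact hK'
  · apply subset_antisymm
    · exact Module.support_subset_of_surjective _ (Submodule.mkQ_surjective _)
    · intro x hxM
      have hxM' := hxM
      rw [Module.support_eq_zeroLocus, PrimeSpectrum.mem_zeroLocus] at hxM'
      obtain ⟨q, hq, hqx⟩ := Ideal.exists_minimalPrimes_le (J := x.asIdeal) hxM'
      have hqM : (⟨q, hq.1.1⟩ : PrimeSpectrum R) ∈ Module.support R M := by
        rw [Module.support_eq_zeroLocus, PrimeSpectrum.mem_zeroLocus]
        exact hq.1.2
      have hex : Function.Exact (Ksub (R := R) M).subtype (Ksub (R := R) M).mkQ :=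
        LinearMap.exact_subtype_mkQ _
      rw [Module.support_of_exact hex (Submodule.injective_subtype _)
        (Submodule.mkQ_surjective _)] at hqM
      rcases hqM with h | h
      · exact absurd h ((le_Ksub_iff (Ksub (R := R) M)).mp le_rfl q hq)
      · exact Module.mem_support_mono (p := ⟨q, hq.1.1⟩) hqx h
  · -- associated primes of M/K are minimal primes of Ann M
    have key : ∀ P ∈ associatedPrimes R (M ⧸ Ksub (R := R) M),
        P ∈ (Module.annihilator R M).minimalPrimes := by
      intro P hP
      obtain ⟨hPprime, xbar, hPx⟩ := (isAssociatedPrime_iff).mp hP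
      obtain ⟨x, rfl⟩ := Submodule.mkQ_surjective _ xbar
      have hmemP : ∀ r : R, r ∈ P ↔ r • x ∈ Ksub (R := R) M := by
        intro r
        rw [hPx, Submodule.mem_colon_singleton, Submodule.mem_bot, ← map_smul,
          Submodule.mkQ_apply, Submodule.Quotient.mk_eq_zero]
      have hannP : Module.annihilator R M ≤ P := by
        intro r hr
        rw [hmemP, Module.mem_annihilator.mp hr x]
        exact Submodule.zero_mem _
      by_contra hnot
      have hx : x ∈ Ksub (R := R) M := by
        intro q hq
        have hPq : ¬ P ≤ q := by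
          intro hPq
          have : q ≤ P := hq.2 ⟨hPprime, hannP⟩ hPq
          exact hnot ((le_antisymm hPq this) ▸ hq)
        obtain ⟨t, htP, htq⟩ := SetLike.not_le_iff_exists.mp hPq
        obtain ⟨s, hs, hst⟩ := (hmemP t).mp htP q hq
        haveI := hq.1.1
        refine ⟨s * t, fun h => ?_, by rw [mul_smul, hst]⟩
        rcases Ideal.IsPrime.mem_or_mem hq.1.1 h with h | h
        · exact hs h
        · exact htq h
      apply hPprime.ne_top
      rw [Ideal.eq_top_iff_one, hmemP, one_smul]
      exact hx
    intro p hp q hq hpq
    exact le_antisymm hpq ((key q hq).2 (key p hp).1 hpq)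
  · intro f hf
    constructor
    · -- injective
      have hkill : ∀ m ∈ Ksub (R := R) M, ∃ k : ℕ, f ^ k • m = 0 := by
        intro m hm
        have hrad : f ∈ ((Submodule.span R {m}).annihilator).radical := by
          rw [← Ideal.sInf_minimalPrimes, Ideal.mem_sInf]
          intro P hP
          have hPass : P ∈ associatedPrimes R (Submodule.span R {m}) :=
            Module.associatedPrimes.minimalPrimes_annihilator_subset_associatedPrimes R _ hP
          have hPassM : P ∈ associatedPrimes R M :=
            associatedPrimes.subset_of_injective (f := (Submodule.span R {m}).subtype)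
              (Submodule.injective_subtype _) hPass
          apply hf P hPassM
          intro hmin
          -- P is then a minimal prime of Ann M
          have hannP : Module.annihilator R M ≤ P := by
            have := IsAssociatedPrime.annihilator_le hPassM
            rwa [Submodule.annihilator_top] at this
          haveI : P.IsPrime := hPassM.isPrime
          obtain ⟨q, hq, hqP⟩ := Ideal.exists_minimalPrimes_le (J := P) hannP
          have hqass : q ∈ associatedPrimes R M :=
            Module.associatedPrimes.minimalPrimes_annihilator_subset_associatedPrimes R M hq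
          have hPq : P ≤ q := hmin.2 hqass hqP
          have hPeq : P = q := le_antisymm hPq hqP
          obtain ⟨s, hs, hsm⟩ := hm q hq
          apply hs
          rw [← hPeq]
          apply hP.1.2
          rw [Submodule.mem_annihilator_span_singleton]
          exact hsm
        obtain ⟨k, hk⟩ := hrad
        exact ⟨k, (Submodule.mem_annihilator_span_singleton _ _).mp hk⟩
      rw [← LinearMap.ker_eq_bot, LinearMap.ker_eq_bot']
      intro z hz
      induction z using LocalizedModule.induction_on with
      | h m s =>
        rw [LocalizedModule.map_mk, ← LocalizedModule.zero_mk s, LocalizedModule.mk_eq] at hz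
        obtain ⟨u, hu⟩ := hz
        rw [smul_zero, smul_zero] at hu
        obtain ⟨c, hc⟩ := u
        obtain ⟨d, hd⟩ := s
        have : (c * d) • m ∈ Ksub (R := R) M := by
          rw [← Submodule.Quotient.mk_eq_zero, Submodule.Quotient.mk_smul, mul_smul]
          exact hu
        obtain ⟨k, hk⟩ := hkill _ this
        rw [← LocalizedModule.zero_mk ⟨d, hd⟩, LocalizedModule.mk_eq]
        refine ⟨⟨f ^ k * c, ?_⟩, ?_⟩
        · exact Submonoid.mul_mem _ ⟨k, rfl⟩ hc
        · rw [smul_zero, smul_zero]
          show (f ^ k * c) • (d • m) = 0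
          rw [smul_smul, mul_assoc, mul_smul]
          exact hk
    · exact LocalizedModule.map_surjective _ _ (Submodule.mkQ_surjective _)

end Groth.Agent.S9644
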