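import Groth.Statements.S9646
import Mathlib

set_option autoImplicit false
universe u
open CAlg

namespace Groth.Agent.S9646

/-- (2) ⇒ (1): let R → S be a ring map and x ∈ S. If for every prime ideal p of R the image of x in S_p
(the localization of S at the image of R ∖ p) is integral over R_p, then x is integral over R. Here
R_p and S_p are any rings satisfying the localization universal properties. -/
theorem result {R S : Type u} [CommRing R] [CommRing S] [Algebra R S] (x : S)
    (h : ∀ (p : Ideal R) [p.IsPrime] (Rp Sp : Type u) [CommRing Rp] [CommRing Sp] [Algebra R Rp] [Algebra S Sp] [Algebra Rp Sp] [Algebra R Sp] [IsScalarTower R S Sp] [IsScalarTower R Rp Sp] [IsLocalization.AtPrime Rp p] [IsLocalization (Algebra.algebraMapSubmonoid S p.primeCompl) Sp], IsIntegral Rp (algebraMap S Sp x)) :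
    IsIntegral R x := by
  change x ∈ (integralClosure R S).toSubmodule
  set s : Set R := {f : R | IsIntegral R (f • x)} with hs
  have hspan : Ideal.span s = ⊤ := by
    by_contra hne
    obtain ⟨P, hP, hsP⟩ := Ideal.exists_le_maximal _ hne
    haveI := hP.isPrime
    have h1 := h P (Localization.AtPrime P) (Localization (Algebra.algebraMapSubmonoid S P.primeCompl))
    obtain ⟨⟨m, hm⟩, hm2⟩ := IsIntegral.exists_multiple_integral_of_isLocalization P.primeCompl _ h1
    obtain ⟨m', hm', hm3⟩ := IsLocalization.exists_isIntegral_smul_of_isIntegral_map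
      (Sₘ := Localization (Algebra.algebraMapSubmonoid S P.primeCompl)) P.primeCompl (x := m • x) <| by
        simpa only [Submonoid.smul_def, Algebra.smul_def, map_mul, ← IsScalarTower.algebraMap_apply] using hm2
    have : m' * m ∈ s := by
      simp only [hs, Set.mem_ofPred_eq, mul_smul]
      exact hm3
    have h2 : m' * m ∈ P := hsP (Ideal.subset_span this)
    rcases hP.isPrime.mem_or_mem h2 with h3 | h3
    · exact hm' h3
    · exact hm h3
  apply Submodule.mem_of_span_eq_top_of_smul_pow_mem _ s hspan
  rintro ⟨t, ht⟩
  refine ⟨1, ?_⟩
  rw [pow_one]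
  exact ht

end Groth.Agent.S9646
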