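import Groth.Statements.S9647
import Mathlib
import Groth.Agent.H19.GeomTensor

set_option autoImplicit false
universe u
open CAlg

namespace Groth.Agent.S9647

open TensorProduct in
/-- The action of `Gal(E/k)` on `E ⊗[k] K` through the first factor, as a group hom. -/
noncomputable def galTensorHom (k E K : Type u) [Field k] [Field E] [Algebra k E] [CommRing K] [Algebra k K] :
    (E ≃ₐ[k] E) →* ((E ⊗[k] K) ≃ₐ[k] (E ⊗[k] K)) where
  toFun σ := Algebra.TensorProduct.congr σ AlgEquiv.refl
  map_one' := by
    apply AlgEquiv.ext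
    intro x
    induction x using TensorProduct.induction_on with
    | zero => simp
    | tmul a b => simp
    | add x y hx hy => rw [map_add, hx, hy]; simp
  map_mul' σ τ := by
    apply AlgEquiv.ext
    intro x
    induction x using TensorProduct.induction_on with
    | zero => simp
    | tmul a b => simp
    | add x y hx hy => rw [map_add, hx, hy]; simp

open TensorProduct in
theorem galTensorHom_tmul (k E K : Type u) [Field k] [Field E] [Algebra k E] [CommRing K] [Algebra k K]
    (σ : E ≃ₐ[k] E) (a : E) (b : K) : galTensorHom k E K σ (a ⊗ₜ b) = σ a ⊗ₜ b := by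
  simp [galTensorHom]

open TensorProduct in
theorem galTensorHom_apply (k E K : Type u) [Field k] [Field E] [Algebra k E] [CommRing K] [Algebra k K]
    (σ : E ≃ₐ[k] E) (x : E ⊗[k] K) :
    galTensorHom k E K σ x = Algebra.TensorProduct.map (σ : E →ₐ[k] E) (AlgHom.id k K) x := by
  induction x using TensorProduct.induction_on with
  | zero => simp
  | tmul a b => simp [galTensorHom_tmul]
  | add x y hx hy => rw [map_add, hx, hy, map_add]

section GalAct
variable (k E K : Type u) [Field k] [Field E] [Algebra k E] [Field K] [Algebra k K]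

attribute [local instance] Algebra.TensorProduct.rightAlgebra

theorem gal_smul_def (g : E ≃ₐ[k] E) (b : TensorProduct k E K) :
    g • b = galTensorHom k E K g b := by
  induction b using TensorProduct.induction_on with
  | zero => simp
  | tmul a c => rw [TensorProduct.smul_tmul', galTensorHom_tmul]; rfl
  | add x y hx hy => rw [smul_add, hx, hy, map_add]

/-- The action of `Gal(E/k)` on `E ⊗[k] K`. -/
noncomputable local instance galAction : MulSemiringAction (E ≃ₐ[k] E) (TensorProduct k E K) :=
  { (TensorProduct.leftDistribMulAction : DistribMulAction (E ≃ₐ[k] E) (TensorProduct k E K)) with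
    smul_one := fun g => by rw [gal_smul_def, map_one]
    smul_mul := fun g x y => by rw [gal_smul_def, gal_smul_def, gal_smul_def, map_mul] }

theorem algebraMap_right (c : K) : algebraMap K (TensorProduct k E K) c = (1 : E) ⊗ₜ[k] c := rfl

instance galSMulComm : SMulCommClass (E ≃ₐ[k] E) K (TensorProduct k E K) := by
  refine ⟨fun g c b => ?_⟩
  rw [Algebra.smul_def, Algebra.smul_def, gal_smul_def, gal_smul_def, map_mul, algebraMap_right,
    galTensorHom_tmul, map_one]

theorem gal_isInvariant [IsGalois k E] : Algebra.IsInvariant K (TensorProduct k E K) (E ≃ₐ[k] E) := by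
  refine ⟨fun b hb => ?_⟩
  let β := Module.Basis.ofVectorSpace k K
  let bE := Algebra.TensorProduct.basis E β
  have hfix : ∀ i, bE.repr b i ∈ Set.range (algebraMap k E) := by
    intro i
    rw [InfiniteGalois.mem_range_algebraMap_iff_fixed]
    intro g
    have h1 : galTensorHom k E K g b = b := hb g
    rw [galTensorHom_apply] at h1
    have h2 := Groth.Agent.H19.basis_repr_map β (g : E →ₐ[k] E) b
    rw [h1] at h2
    have h3 := DFunLike.congr_fun h2 i
    simp only [Finsupp.mapRange_apply] at h3
    exact h3.symm
  choose c hc using hfix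
  refine ⟨∑ i ∈ (bE.repr b).support, c i • β i, ?_⟩
  rw [algebraMap_right]
  conv_rhs => rw [← bE.linearCombination_repr b, Finsupp.linearCombination_apply, Finsupp.sum]
  rw [TensorProduct.tmul_sum]
  refine Finset.sum_congr rfl (fun i _ => ?_)
  rw [← hc i, Algebra.TensorProduct.basis_apply, TensorProduct.tmul_smul, algebraMap_smul]

theorem gal_stabilizer_isOpen [Algebra.IsIntegral k E] (b : TensorProduct k E K) :
    IsOpen (MulAction.stabilizer (E ≃ₐ[k] E) b : Set (E ≃ₐ[k] E)) := by
  induction b using TensorProduct.induction_on with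
  | zero =>
    have : MulAction.stabilizer (E ≃ₐ[k] E) (0 : TensorProduct k E K) = ⊤ := by
      ext g; simp
    rw [this]; exact isOpen_univ
  | tmul a c =>
    refine Subgroup.isOpen_mono (H₁ := MulAction.stabilizer (E ≃ₐ[k] E) a) ?_
      (stabilizer_isOpen_of_isIntegral a)
    intro g hg
    rw [MulAction.mem_stabilizer_iff] at hg ⊢
    rw [gal_smul_def, galTensorHom_tmul]
    have : g a = a := hg
    rw [this]
  | add x y hx hy =>
    refine Subgroup.isOpen_mono (H₁ := MulAction.stabilizer (E ≃ₐ[k] E) x ⊓
      MulAction.stabilizer (E ≃ₐ[k] E) y) ?_ (hx.inter hy)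
    intro g hg
    rw [Subgroup.mem_inf, MulAction.mem_stabilizer_iff, MulAction.mem_stabilizer_iff] at hg
    rw [MulAction.mem_stabilizer_iff, smul_add, hg.1, hg.2]

/-- Transitivity of the Galois action on primes of `E ⊗[k] K`. -/
theorem gal_transitive [IsGalois k E] (P Q : Ideal (TensorProduct k E K)) [P.IsPrime] [Q.IsPrime] :
    ∃ σ : E ≃ₐ[k] E, Q = P.comap (Algebra.TensorProduct.map (σ : E →ₐ[k] E) (AlgHom.id k K)) := by
  haveI := gal_isInvariant k E K
  letI : TopologicalSpace (TensorProduct k E K) := ⊥
  haveI : DiscreteTopology (TensorProduct k E K) := ⟨rfl⟩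
  haveI : ContinuousSMul (E ≃ₐ[k] E) (TensorProduct k E K) := by
    rw [continuousSMul_iff_stabilizer_isOpen]
    exact gal_stabilizer_isOpen k E K
  have hPQ : P.under K = Q.under K := by
    have h1 : P.under K = ⊥ := (Ideal.eq_bot_or_top _).resolve_right (Ideal.IsPrime.ne_top inferInstance)
    have h2 : Q.under K = ⊥ := (Ideal.eq_bot_or_top _).resolve_right (Ideal.IsPrime.ne_top inferInstance)
    rw [h1, h2]
  have inst1 : SMulCommClass (E ≃ₐ[k] E) K (TensorProduct k E K) := galSMulComm k E K
  obtain ⟨g, hg⟩ := @Algebra.IsInvariant.exists_smul_of_under_eq_of_profinite K (TensorProduct k E K) _ _ _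
    (E ≃ₐ[k] E) _ _ inst1 _ _ _ _ _ _ _ _ P Q _ _ hPQ
  refine ⟨g⁻¹, ?_⟩
  rw [hg, Ideal.pointwise_smul_eq_comap]
  ext x
  rw [Ideal.mem_comap, Ideal.mem_comap]
  have : (MulSemiringAction.toRingAut (E ≃ₐ[k] E) (TensorProduct k E K) g).symm x =
      Algebra.TensorProduct.map ((g⁻¹ : E ≃ₐ[k] E) : E →ₐ[k] E) (AlgHom.id k K) x := by
    rw [← galTensorHom_apply, ← gal_smul_def]
    rfl
  rw [this]

end GalAct

open TensorProduct in
/-- Let K/k be a field extension and k^sep a separable algebraic closure of k. Then the automorphism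
group of k^sep over k acts transitively on the primes of k^sep ⊗_k K: for any two primes P, Q there
is a k-automorphism σ of k^sep with Q the inverse image of P under σ ⊗ id_K. -/
theorem result {k K : Type u} [Field k] [Field K] [Algebra k K]
    (P Q : Ideal (SeparableClosure k ⊗[k] K)) [P.IsPrime] [Q.IsPrime] :
    ∃ σ : SeparableClosure k ≃ₐ[k] SeparableClosure k, Q = P.comap (Algebra.TensorProduct.map (σ : SeparableClosure k →ₐ[k] SeparableClosure k) (AlgHom.id k K)) := by
  exact gal_transitive k (SeparableClosure k) K P Q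

end Groth.Agent.S9647
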