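import Groth.Statements.S9648
import Mathlib

set_option autoImplicit false
universe u
open CAlg

namespace Groth.Agent.S9648

open TensorProduct

attribute [local instance] Algebra.TensorProduct.rightAlgebra

section
variable {R S : Type u} [CommRing R] [CommRing S] [Algebra R S] (M : Type u) [AddCommGroup M] [Module R M]
  (N : Type u) [AddCommGroup N] [Module S N] [Module R N] [IsScalarTower R S N]
  (p : Ideal R) [p.IsPrime]

/-- the iso -/
noncomputable def Φ : (p.Fiber S) ⊗[S] N ≃ₗ[p.ResidueField] p.ResidueField ⊗[R] N :=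
  Algebra.IsPushout.cancelBaseChange R p.ResidueField S (p.Fiber S) N

theorem Φ_symm_tmul (c : p.ResidueField) (n : N) :
    (Φ N p).symm (c ⊗ₜ n) = (algebraMap p.ResidueField (p.Fiber S) c) ⊗ₜ n :=
  Algebra.IsPushout.cancelBaseChange_symm_tmul R p.ResidueField S (p.Fiber S) N c n

theorem Φ_tmul (n : N) :
    (Φ (S := S) N p) (1 ⊗ₜ n) = 1 ⊗ₜ n :=
  Algebra.IsPushout.cancelBaseChange_tmul R p.ResidueField S (p.Fiber S) N n

theorem exists_smul_eq_one_tmul (ζ : p.ResidueField ⊗[R] N) :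
    ∃ r ∉ p, ∃ n : N, r • ζ = (1 : p.ResidueField) ⊗ₜ[R] n := by
  induction ζ using TensorProduct.induction_on with
  | zero => exact ⟨1, fun h => (Ideal.IsPrime.ne_top ‹_›) ((Ideal.eq_top_iff_one _).mpr h), 0, by simp⟩
  | tmul c n' =>
    obtain ⟨x, y, hy, hxy⟩ := IsFractionRing.div_surjective (A := R ⧸ p) c
    obtain ⟨a, rfl⟩ := Ideal.Quotient.mk_surjective x
    obtain ⟨b, rfl⟩ := Ideal.Quotient.mk_surjective y
    have hb : b ∉ p := by
      intro hb
      have : (Ideal.Quotient.mk p b) = 0 := Ideal.Quotient.eq_zero_iff_mem.mpr hb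
      rw [this] at hy
      exact zero_notMem_nonZeroDivisors hy
    have hb' : algebraMap (R ⧸ p) p.ResidueField (Ideal.Quotient.mk p b) ≠ 0 := by
      intro h0
      rw [← map_zero (algebraMap (R ⧸ p) p.ResidueField)] at h0
      have := IsFractionRing.injective (R ⧸ p) p.ResidueField h0
      exact hb (Ideal.Quotient.eq_zero_iff_mem.mp this)
    refine ⟨b, hb, a • n', ?_⟩
    rw [TensorProduct.smul_tmul', ← hxy, ← TensorProduct.smul_tmul]
    congr 1
    rw [Algebra.smul_def, Algebra.smul_def, mul_one,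
      IsScalarTower.algebraMap_apply R (R ⧸ p) p.ResidueField,
      IsScalarTower.algebraMap_apply R (R ⧸ p) p.ResidueField, Ideal.Quotient.algebraMap_eq]
    field_simp
  | add ζ₁ ζ₂ h₁ h₂ =>
    obtain ⟨r₁, hr₁, n₁, e₁⟩ := h₁
    obtain ⟨r₂, hr₂, n₂, e₂⟩ := h₂
    refine ⟨r₁ * r₂, fun h => (Ideal.IsPrime.mem_or_mem ‹_› h).elim hr₁ hr₂, r₂ • n₁ + r₁ • n₂, ?_⟩
    have h1 : (r₁ * r₂) • ζ₁ = r₂ • (r₁ • ζ₁) := by rw [smul_smul, mul_comm]
    have h2 : (r₁ * r₂) • ζ₂ = r₁ • (r₂ • ζ₂) := by rw [smul_smul]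
    rw [smul_add, h1, h2, e₁, e₂, TensorProduct.tmul_add, TensorProduct.tmul_smul,
      TensorProduct.tmul_smul]

/-- every annihilator of an element equals annihilator of `1 ⊗ n` -/
theorem exists_ann_eq (ξ : (p.Fiber S) ⊗[S] N) :
    ∃ n : N, (Submodule.span (p.Fiber S) {ξ}).annihilator =
      (Submodule.span (p.Fiber S) {(1 : p.Fiber S) ⊗ₜ[S] n}).annihilator := by
  obtain ⟨r, hr, n, hn⟩ := exists_smul_eq_one_tmul N p (Φ N p ξ)
  refine ⟨n, ?_⟩
  have hunit : IsUnit (algebraMap R p.ResidueField r) := by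
    rw [isUnit_iff_ne_zero]
    intro h0
    rw [Ideal.algebraMap_residueField_eq_zero] at h0
    exact hr h0
  have h1 : (algebraMap p.ResidueField (p.Fiber S) (algebraMap R p.ResidueField r)) • ξ =
      (1 : p.Fiber S) ⊗ₜ[S] n := by
    have h2 : (Φ N p).symm (r • (Φ N p ξ)) = (Φ (S := S) N p).symm (1 ⊗ₜ n) := by rw [hn]
    rw [Φ_symm_tmul, map_one] at h2
    rw [← h2, ← algebraMap_smul p.ResidueField r ((Φ N p) ξ), map_smul, LinearEquiv.symm_apply_apply,
      algebraMap_smul]
  have hunit' : IsUnit (algebraMap p.ResidueField (p.Fiber S) (algebraMap R p.ResidueField r)) :=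
    hunit.map _
  obtain ⟨u, hu⟩ := hunit'
  ext x
  rw [Submodule.mem_annihilator_span_singleton, Submodule.mem_annihilator_span_singleton, ← h1, ← hu,
    smul_comm]
  constructor
  · intro h; rw [h, smul_zero]
  · intro h
    have := congrArg (fun y => (↑u⁻¹ : p.Fiber S) • y) h
    simpa [smul_smul] using this

end

open TensorProduct in
/-- The inclusion, valid for any ring R: let R → S be a ring map, M an R-module and N an S-module which
is flat over R. For an associated prime p of M (a prime equal to the annihilator of an element) and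
an associated prime Q of the fibre module N ⊗_R κ(p) over the fibre ring S ⊗_R κ(p), the inverse
image of Q in S is an associated prime of N ⊗_R M. -/
theorem result {R S : Type u} [CommRing R] [CommRing S] [Algebra R S] (M : Type u) [AddCommGroup M] [Module R M] (N : Type u) [AddCommGroup N] [Module S N] [Module R N] [IsScalarTower R S N] [Module.Flat R N]
    (p : Ideal R) [p.IsPrime] (hp : p ∈ FlatCA.ass R M) (Q : Ideal (p.Fiber S)) (hQ : Q ∈ FlatCA.ass (p.Fiber S) (FlatCA.fiberMod p S N)) :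
    Q.comap (Algebra.TensorProduct.includeRight (R := R) (A := p.ResidueField) (B := S)).toRingHom ∈ FlatCA.ass S (N ⊗[R] M) := by
  classical
  obtain ⟨hpprime, m₀, hm₀⟩ := hp
  obtain ⟨hQprime, ξ, hξ⟩ := hQ
  obtain ⟨n, hn⟩ := Groth.Agent.S9648.exists_ann_eq N p (ξ : (p.Fiber S) ⊗[S] N)
  have hQn : Q = (Submodule.span (p.Fiber S) {(1 : p.Fiber S) ⊗ₜ[S] n}).annihilator := hξ.trans hn
  refine ⟨Ideal.comap_isPrime _ _, n ⊗ₜ[R] m₀, ?_⟩
  -- the two injections
  let ι : R ⧸ p →ₗ[R] p.ResidueField := (IsScalarTower.toAlgHom R (R ⧸ p) p.ResidueField).toLinearMap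
  have hι : Function.Injective ι := IsFractionRing.injective (R ⧸ p) p.ResidueField
  have hι1 : ι 1 = 1 := map_one (IsScalarTower.toAlgHom R (R ⧸ p) p.ResidueField)
  have hker : p ≤ LinearMap.ker (LinearMap.toSpanSingleton R M m₀) := by
    intro r hr
    rw [hm₀, Submodule.mem_annihilator_span_singleton] at hr
    rw [LinearMap.mem_ker, LinearMap.toSpanSingleton_apply, hr]
  let j : R ⧸ p →ₗ[R] M := Submodule.liftQ p (LinearMap.toSpanSingleton R M m₀) hker
  have hj : Function.Injective j := by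
    rw [← LinearMap.ker_eq_bot, Submodule.ker_liftQ_eq_bot']
    ext r
    rw [LinearMap.mem_ker, LinearMap.toSpanSingleton_apply]
    conv_lhs => rw [hm₀, Submodule.mem_annihilator_span_singleton]
  have hj1 : j 1 = m₀ := by
    change j (Submodule.Quotient.mk 1) = m₀
    rw [Submodule.liftQ_apply, LinearMap.toSpanSingleton_apply, one_smul]
  have hιN := Module.Flat.lTensor_preserves_injective_linearMap (M := N) ι hι
  have hjN := Module.Flat.lTensor_preserves_injective_linearMap (M := N) j hj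
  ext s
  rw [Ideal.mem_comap, hQn, Submodule.mem_annihilator_span_singleton,
    Submodule.mem_annihilator_span_singleton]
  have hL : (Algebra.TensorProduct.includeRight (R := R) (A := p.ResidueField) (B := S)).toRingHom s •
      ((1 : p.Fiber S) ⊗ₜ[S] n) = (1 : p.Fiber S) ⊗ₜ[S] (s • n) := by
    rw [TensorProduct.smul_tmul', ← TensorProduct.smul_tmul, smul_eq_mul, mul_one]
    congr 1
    rw [Algebra.smul_def, mul_one]
    rfl
  have hL2 : ((1 : p.Fiber S) ⊗ₜ[S] (s • n) = 0) ↔ ((s • n) ⊗ₜ[R] (1 : R ⧸ p) = 0) := by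
    rw [← (Groth.Agent.S9648.Φ (S := S) N p).map_eq_zero_iff, Groth.Agent.S9648.Φ_tmul]
    have e1 : (1 : p.ResidueField) ⊗ₜ[R] (s • n) =
        TensorProduct.comm R N p.ResidueField ((ι.lTensor N) ((s • n) ⊗ₜ[R] (1 : R ⧸ p))) := by
      rw [LinearMap.lTensor_tmul, TensorProduct.comm_tmul, hι1]
    rw [e1, LinearEquiv.map_eq_zero_iff, ← (ι.lTensor N).map_zero]
    exact hιN.eq_iff
  have hR : s • (n ⊗ₜ[R] m₀) = (j.lTensor N) ((s • n) ⊗ₜ[R] (1 : R ⧸ p)) := by
    rw [LinearMap.lTensor_tmul, hj1, TensorProduct.smul_tmul']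
  rw [hL, hL2, hR, ← (j.lTensor N).map_zero]
  exact hjN.eq_iff.symm

end Groth.Agent.S9648
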