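import Groth.Statements.S9649
import Mathlib
import Groth.Agent.H19.GeomTensor

set_option autoImplicit false
universe u
open CAlg

namespace Groth.Agent.S9649

open TensorProduct in
theorem linearIndepOn_pow_of_isReduced {k K : Type u} [Field k] [Field K] [Algebra k K] (p : ℕ)
    [hp : Fact p.Prime] [CharP k p]
    (hred : IsReduced (AlgebraicClosure k ⊗[k] K)) (s : Finset K)
    (hs : LinearIndepOn k id (s : Set K)) : LinearIndepOn k (· ^ p) (s : Set K) := by
  classical
  rw [linearIndepOn_finset_iff]
  intro c hc i hi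
  have hroot : ∀ a : k, ∃ d : AlgebraicClosure k, d ^ p = algebraMap k _ a :=
    fun a => IsAlgClosed.exists_pow_nat_eq _ hp.out.pos
  choose d hd using hroot
  haveI : Nontrivial (AlgebraicClosure k ⊗[k] K) :=
    (Algebra.TensorProduct.includeLeft_injective (R := k) (S := k) (A := AlgebraicClosure k) (B := K)
      (algebraMap k K).injective).nontrivial
  haveI : CharP (AlgebraicClosure k ⊗[k] K) p :=
    charP_of_injective_ringHom (algebraMap k (AlgebraicClosure k ⊗[k] K)).injective p
  have hz : (∑ j ∈ s, d (c j) ⊗ₜ[k] j) ^ p = (0 : AlgebraicClosure k ⊗[k] K) := by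
    rw [sum_pow_char]
    have : ∀ j ∈ s, (d (c j) ⊗ₜ[k] j) ^ p = (1 : AlgebraicClosure k) ⊗ₜ[k] (c j • j ^ p) := by
      intro j _
      rw [Algebra.TensorProduct.tmul_pow, hd, TensorProduct.tmul_smul, Algebra.algebraMap_eq_smul_one,
        TensorProduct.smul_tmul']
    rw [Finset.sum_congr rfl this, ← TensorProduct.tmul_sum, hc, TensorProduct.tmul_zero]
  have hz0 : (∑ j ∈ s, d (c j) ⊗ₜ[k] j) = (0 : AlgebraicClosure k ⊗[k] K) :=
    IsReduced.eq_zero _ ⟨p, hz⟩
  let b := Module.Basis.extend hs
  let bL := Algebra.TensorProduct.basis (AlgebraicClosure k) b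
  let f : {j // j ∈ s} → ↑(hs.extend (Set.subset_univ _)) := fun j => ⟨j.1, Module.Basis.subset_extend hs (Finset.mem_coe.mpr j.2)⟩
  have hf : Function.Injective f := fun x y hxy => Subtype.ext (congrArg (fun t : ↑(hs.extend (Set.subset_univ _)) => (t : K)) hxy)
  have hli : LinearIndependent (AlgebraicClosure k) (fun j : {j // j ∈ s} => (1 : AlgebraicClosure k) ⊗ₜ[k] (j : K)) := by
    have := bL.linearIndependent.comp f hf
    convert this using 1
    funext j
    simp only [Function.comp_apply, bL, Algebra.TensorProduct.basis_apply, b, Module.Basis.extend_apply_self, f]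
  have h2 := Fintype.linearIndependent_iff.mp hli (fun j => d (c j)) (by
    have e : ∀ j : {j // j ∈ s}, d (c j) • ((1 : AlgebraicClosure k) ⊗ₜ[k] (j : K)) = d (c j) ⊗ₜ[k] (j : K) := by
      intro j
      rw [TensorProduct.smul_tmul', smul_eq_mul, mul_one]
    simp only [e]
    rw [← hz0]
    exact Finset.sum_coe_sort s (fun j => d (c j) ⊗ₜ[k] j)) ⟨i, hi⟩
  have h3 : algebraMap k (AlgebraicClosure k) (c i) = 0 := by
    rw [← hd, h2, zero_pow hp.out.ne_zero]
  exact (map_eq_zero _).mp h3

open TensorProduct in
theorem isReduced_tensor_fractionRing {k A F L : Type*} [Field k] [CommRing A] [IsDomain A] [Field F]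
    [Algebra k A] [Algebra k F] [Algebra A F] [IsScalarTower k A F] [IsFractionRing A F]
    [CommRing L] [Algebra k L] (h : IsReduced (L ⊗[k] A)) : IsReduced (L ⊗[k] F) := by
  let φ : L ⊗[k] A →ₐ[L] L ⊗[k] F :=
    Algebra.TensorProduct.map (AlgHom.id L L) (IsScalarTower.toAlgHom k A F)
  have hφ : Function.Injective φ :=
    Module.Flat.lTensor_preserves_injective_linearMap (M := L)
      (IsScalarTower.toAlgHom k A F).toLinearMap (IsFractionRing.injective A F)
  have key : ∀ z : L ⊗[k] F, ∃ d : A, d ≠ 0 ∧
      ∃ w : L ⊗[k] A, φ w = ((1 : L) ⊗ₜ[k] algebraMap A F d) * z := by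
    intro z
    induction z using TensorProduct.induction_on with
    | zero => exact ⟨1, one_ne_zero, 0, by simp⟩
    | tmul l f =>
      obtain ⟨⟨a, d⟩, had⟩ := IsLocalization.surj (nonZeroDivisors A) f
      refine ⟨d, nonZeroDivisors.ne_zero d.2, ⟨l ⊗ₜ a, ?_⟩⟩
      simp only [φ, Algebra.TensorProduct.map_tmul, AlgHom.coe_id, id_eq, IsScalarTower.coe_toAlgHom',
        Algebra.TensorProduct.tmul_mul_tmul, one_mul]
      have had' : f * algebraMap A F d = algebraMap A F a := had
      rw [← had', mul_comm]
    | add x y hx hy =>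
      obtain ⟨d1, hd1, w1, hw1⟩ := hx
      obtain ⟨d2, hd2, w2, hw2⟩ := hy
      refine ⟨d1 * d2, mul_ne_zero hd1 hd2, ⟨((1 : L) ⊗ₜ[k] d2) * w1 + ((1 : L) ⊗ₜ[k] d1) * w2, ?_⟩⟩
      rw [map_add, map_mul, map_mul, hw1, hw2]
      simp only [φ, Algebra.TensorProduct.map_tmul, AlgHom.coe_id, id_eq, IsScalarTower.coe_toAlgHom',
        map_one, map_mul]
      have e : ((1 : L) ⊗ₜ[k] (algebraMap A F d1 * algebraMap A F d2) : L ⊗[k] F) =
          ((1 : L) ⊗ₜ[k] algebraMap A F d1) * ((1 : L) ⊗ₜ[k] algebraMap A F d2) := by
        rw [Algebra.TensorProduct.tmul_mul_tmul, one_mul]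
      rw [e]
      ring
  refine ⟨fun z hz => ?_⟩
  obtain ⟨d, hd, w, hw⟩ := key z
  obtain ⟨n, hn⟩ := hz
  have hw0 : w = 0 := by
    apply h.eq_zero
    refine ⟨n, hφ ?_⟩
    rw [map_pow, hw, mul_pow, hn, mul_zero, map_zero]
  rw [hw0, map_zero] at hw
  have hd' : algebraMap A F d ≠ 0 := by
    rw [ne_eq, map_eq_zero_iff _ (IsFractionRing.injective A F)]
    exact hd
  have : ((1 : L) ⊗ₜ[k] (algebraMap A F d)⁻¹) * (((1 : L) ⊗ₜ[k] algebraMap A F d) * z) = z := by
    rw [← mul_assoc, Algebra.TensorProduct.tmul_mul_tmul, one_mul, inv_mul_cancel₀ hd',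
      ← Algebra.TensorProduct.one_def, one_mul]
  rw [← this, ← hw, mul_zero]

open TensorProduct in
theorem isReduced_tensor_adjoin_of_algebraicIndependent {k K L : Type*} {ι : Type*} [Field k] [Field K]
    [Algebra k K] [Field L] [Algebra k L] {x : ι → K} (hx : AlgebraicIndependent k x) :
    IsReduced (L ⊗[k] Algebra.adjoin k (Set.range x)) := by
  let e1 : L ⊗[k] MvPolynomial ι k ≃ₐ[L] MvPolynomial ι L := MvPolynomial.algebraTensorAlgEquiv k L
  let e2 : L ⊗[k] MvPolynomial ι k ≃ₐ[L] L ⊗[k] Algebra.adjoin k (Set.range x) :=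
    Algebra.TensorProduct.congr AlgEquiv.refl hx.aevalEquiv
  exact isReduced_of_injective (e2.symm.trans e1) (AlgEquiv.injective _)

open TensorProduct in
open scoped IntermediateField.algebraAdjoinAdjoin in
theorem isReduced_tensor_fieldAdjoin_of_algebraicIndependent {k K L : Type*} {ι : Type*} [Field k] [Field K]
    [Algebra k K] [Field L] [Algebra k L] {x : ι → K} (hx : AlgebraicIndependent k x) :
    IsReduced (L ⊗[k] IntermediateField.adjoin k (Set.range x)) :=
  isReduced_tensor_fractionRing (A := Algebra.adjoin k (Set.range x))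
    (isReduced_tensor_adjoin_of_algebraicIndependent hx)

/-- If `E/P` is separable algebraic and `P ⊗ S` is reduced, then `E ⊗ S` is reduced. -/
theorem isReduced_tensor_of_separable_tower' {k P E S : Type*} [Field k] [Field P] [Field E]
    [CommRing S] [Algebra k P] [Algebra P E] [Algebra k E] [IsScalarTower k P E] [Algebra k S]
    [Algebra.IsSeparable P E] (h : IsReduced (TensorProduct k P S)) :
    IsReduced (TensorProduct k E S) := by
  haveI : IsReduced (TensorProduct P E (TensorProduct k P S)) := by
    refine Groth.Agent.H19.isReduced_tensor_of_forall_finite (fun L hL => ?_)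
    haveI : Algebra.IsSeparable P L := Algebra.isSeparable_tower_bot_of_isSeparable P L E
    haveI : IsReduced (TensorProduct P (TensorProduct k P S) L) := Groth.Agent.H19.isReduced_tensor_of_isSeparable
    exact isReduced_of_injective (Algebra.TensorProduct.comm P L (TensorProduct k P S)) (AlgEquiv.injective _)
  let e := Algebra.TensorProduct.cancelBaseChange k P P E S
  exact isReduced_of_injective e.symm (AlgEquiv.injective _)

/-- A separably generated field extension is separable. Precisely: let K/k be a field extension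
admitting a transcendence basis x over whose generated subfield k(x) the field K is separable
algebraic; then every finitely generated subextension K' of K/k also admits such a transcendence
basis. -/
theorem result {k K : Type u} [Field k] [Field K] [Algebra k K]
    (h : ∃ (ι : Type u) (x : ι → K), IsTranscendenceBasis k x ∧ Algebra.IsSeparable (IntermediateField.adjoin k (Set.range x)) K)
    (K' : IntermediateField k K) (hK' : ∃ s : Finset K, IntermediateField.adjoin k (s : Set K) = K') :
    ∃ (ι : Type u) (x : ι → K'), IsTranscendenceBasis k x ∧ Algebra.IsSeparable (IntermediateField.adjoin k (Set.range x)) K' := by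
  obtain ⟨ι, x, hx, hsep⟩ := h
  haveI : Algebra.EssFiniteType k K' := IntermediateField.essFiniteType_iff.mpr hK'
  have main : ∃ s : Finset K', IsTranscendenceBasis k ((↑) : s → K') ∧
      Algebra.IsSeparable (IntermediateField.adjoin k (s : Set K')) K' := by
    obtain _ | ⟨p, hp, hpk⟩ := CharP.exists' k
    · exact exists_isTranscendenceBasis_and_isSeparable_of_perfectField k K'
    · haveI := hp
      refine exists_isTranscendenceBasis_and_isSeparable_of_linearIndepOn_pow_of_essFiniteType p hp.out
        (fun s hs => ?_)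
      refine linearIndepOn_pow_of_isReduced p ?_ s hs
      have h1 : IsReduced (TensorProduct k (AlgebraicClosure k) (IntermediateField.adjoin k (Set.range x))) :=
        isReduced_tensor_fieldAdjoin_of_algebraicIndependent hx.1
      have h2 : IsReduced (TensorProduct k (IntermediateField.adjoin k (Set.range x)) (AlgebraicClosure k)) :=
        isReduced_of_injective (Algebra.TensorProduct.comm k _ _) (AlgEquiv.injective _)
      have h3 : IsReduced (TensorProduct k K (AlgebraicClosure k)) :=
        isReduced_tensor_of_separable_tower' (P := IntermediateField.adjoin k (Set.range x)) h2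
      have h4 : IsReduced (TensorProduct k K' (AlgebraicClosure k)) :=
        isReduced_of_injective (Algebra.TensorProduct.map K'.val (AlgHom.id k (AlgebraicClosure k)))
          (Groth.Agent.H19.map_val_injective K')
      exact isReduced_of_injective (Algebra.TensorProduct.comm k (AlgebraicClosure k) K') (AlgEquiv.injective _)
  obtain ⟨s, hs1, hs2⟩ := main
  refine ⟨↥s, (↑), hs1, ?_⟩
  convert hs2 <;> simp

end Groth.Agent.S9649
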