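import Groth.Statements.S9650
import Mathlib

set_option autoImplicit false
universe u
open CAlg

namespace Groth.Agent.S9650

/-- Let K/k be a finitely generated field extension that is separably generated, i.e. admits a
transcendence basis over whose generated subfield K is separable algebraic. Then K is generated over
k by finitely many elements x_1, …, x_r, y such that the x_i form a transcendence basis of K/k and y
is separable over the subfield k(x_1, …, x_r). -/
theorem result {k K : Type u} [Field k] [Field K] [Algebra k K]
    (hfg : ∃ s : Finset K, IntermediateField.adjoin k (s : Set K) = ⊤)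
    (hsep : ∃ (ι : Type u) (x : ι → K), IsTranscendenceBasis k x ∧ Algebra.IsSeparable (IntermediateField.adjoin k (Set.range x)) K) :
    ∃ (r : ℕ) (x : Fin r → K) (y : K), IsTranscendenceBasis k x ∧ IntermediateField.adjoin k (insert y (Set.range x)) = ⊤ ∧ IsSeparable (IntermediateField.adjoin k (Set.range x)) y := by
  obtain ⟨s, hs⟩ := hfg
  obtain ⟨ι, x, hx, hsepx⟩ := hsep
  have hess : Algebra.EssFiniteType k K := IntermediateField.fg_top_iff.mp ⟨s, hs⟩
  have hfin : Finite ι := finite_of_isTranscendenceBasis hx
  have : Fintype ι := Fintype.ofFinite ι
  let e := Fintype.equivFin ι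
  let x' : Fin (Fintype.card ι) → K := x ∘ e.symm
  have hrange : Set.range x' = Set.range x := by
    simp only [x']
    exact e.symm.surjective.range_comp x
  have hx' : IsTranscendenceBasis k x' := hx.comp_equiv e.symm
  -- finite dimensionality over L
  have hfinL : FiniteDimensional (IntermediateField.adjoin k (Set.range x)) K := by
    have h1 : IntermediateField.adjoin (IntermediateField.adjoin k (Set.range x)) (s : Set K) = ⊤ := by
      have := IntermediateField.adjoin_adjoin_left k (Set.range x) (s : Set K)
      rw [← IntermediateField.restrictScalars_eq_top_iff (K := k), this, eq_top_iff, ← hs]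
      exact IntermediateField.adjoin.mono _ _ _ Set.subset_union_right
    have h2 : FiniteDimensional (IntermediateField.adjoin k (Set.range x))
        (IntermediateField.adjoin (IntermediateField.adjoin k (Set.range x)) (s : Set K)) :=
      IntermediateField.finiteDimensional_adjoin (fun z _ => Algebra.IsIntegral.isIntegral z)
    rw [h1] at h2
    exact IntermediateField.topEquiv.toLinearEquiv.finiteDimensional
  obtain ⟨y, hy⟩ := Field.exists_primitive_element (IntermediateField.adjoin k (Set.range x)) K
  refine ⟨Fintype.card ι, x', y, hx', ?_, ?_⟩
  · rw [hrange]
    have := IntermediateField.adjoin_adjoin_left k (Set.range x) ({y} : Set K)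
    rw [hy, IntermediateField.restrictScalars_top, Set.union_singleton] at this
    exact this.symm
  · rw [hrange]
    exact Algebra.IsSeparable.isSeparable _ y

end Groth.Agent.S9650
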