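import Groth.Statements.S9651
import Mathlib
import Groth.Agent.Lib.Helper18.GenericImage

set_option autoImplicit false
universe u
open CAlg

namespace Groth.Agent.S9651

/-- Let R → S be a ring map of finite type, f : Spec(S) → Spec(R) the induced map and E ⊆ Spec(S) a
constructible subset. If ξ ∈ f(E) then f(E) ∩ cl{ξ} contains an open dense subset of the closure
cl{ξ}: some open U of Spec(R) has U ∩ cl{ξ} dense in cl{ξ} and contained in f(E). -/
theorem result {R S : Type u} [CommRing R] [CommRing S] [Algebra R S] [Algebra.FiniteType R S]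
    (E : Set (PrimeSpectrum S)) (hE : Topology.IsConstructible E) (ξ : PrimeSpectrum R) (hξ : ξ ∈ PrimeSpectrum.comap (algebraMap R S) '' E) :
    ∃ U : Set (PrimeSpectrum R), IsOpen U ∧ closure ({ξ} : Set (PrimeSpectrum R)) ⊆ closure (U ∩ closure {ξ}) ∧ U ∩ closure {ξ} ⊆ PrimeSpectrum.comap (algebraMap R S) '' E := by

  obtain ⟨q, hqE, rfl⟩ := hξ
  obtain ⟨D, rfl⟩ := PrimeSpectrum.exists_constructibleSetData_iff.2 hE
  have hqE' : ∃ C ∈ D, q ∈ C.toSet := by
    simpa [PrimeSpectrum.ConstructibleSetData.toSet] using hqE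
  obtain ⟨C, hCD, hqC⟩ := hqE'
  have hqg : Set.range C.g ⊆ (q.asIdeal : Set S) := hqC.1
  have hqf : C.f ∉ q.asIdeal := by
    intro h
    apply hqC.2
    rw [PrimeSpectrum.mem_zeroLocus]
    intro x hx
    rw [Set.mem_singleton_iff] at hx
    subst hx
    exact h
  obtain ⟨a, ha, hlift⟩ := Groth.Agent.Helper18.GenericImage.exists_notMem_lift' R S
    q.asIdeal C.f hqf
  refine ⟨(PrimeSpectrum.basicOpen a : Set (PrimeSpectrum R)), (PrimeSpectrum.basicOpen a).isOpen,
    ?_, ?_⟩
  · apply closure_mono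
    intro x hx
    rw [Set.mem_singleton_iff] at hx
    subst hx
    exact ⟨ha, subset_closure rfl⟩
  · rintro P ⟨hPa, hPcl⟩
    rw [PrimeSpectrum.closure_singleton, PrimeSpectrum.mem_zeroLocus] at hPcl
    have hPa' : a ∉ P.asIdeal := hPa
    obtain ⟨Q, hQprime, hqQ, hQover, hQf⟩ := hlift P.asIdeal P.isPrime hPcl hPa'
    refine ⟨⟨Q, hQprime⟩, ?_, PrimeSpectrum.ext hQover⟩
    have : (⟨Q, hQprime⟩ : PrimeSpectrum S) ∈ C.toSet := by
      refine ⟨?_, ?_⟩
      · rw [PrimeSpectrum.mem_zeroLocus]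
        exact fun x hx => hqQ (hqg hx)
      · intro h
        rw [PrimeSpectrum.mem_zeroLocus] at h
        exact hQf (h (Set.mem_singleton _))
    simp only [PrimeSpectrum.ConstructibleSetData.toSet, Set.mem_iUnion]
    exact ⟨C, hCD, this⟩


end Groth.Agent.S9651
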