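import Groth.Statements.S9652
import Mathlib

set_option autoImplicit false
universe u
open CAlg

namespace Groth.Agent.S9652

theorem nbhd_lemma {X : Type*} [TopologicalSpace X] (y : X) {s : Set X}
    (hs : Topology.IsConstructible s) :
    ∃ U : Set X, IsOpen U ∧ y ∈ U ∧ (U ∩ closure {y} ⊆ s ∨ U ∩ closure {y} ⊆ sᶜ) := by
  induction hs using Topology.IsConstructible.empty_union_induction with
  | open_retrocompact U hU _ =>
    by_cases hy : y ∈ U
    · exact ⟨U, hU, hy, Or.inl Set.inter_subset_left⟩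
    · refine ⟨Set.univ, isOpen_univ, Set.mem_univ _, Or.inr ?_⟩
      have h1 : closure {y} ⊆ Uᶜ :=
        (IsClosed.closure_subset_iff hU.isClosed_compl).2
          (Set.singleton_subset_iff.2 (Set.mem_compl hy))
      exact Set.inter_subset_right.trans h1
  | union s hs t ht hs' ht' =>
    obtain ⟨U1, hU1, hy1, h1⟩ := hs'
    obtain ⟨U2, hU2, hy2, h2⟩ := ht'
    refine ⟨U1 ∩ U2, hU1.inter hU2, ⟨hy1, hy2⟩, ?_⟩
    rcases h1 with h1 | h1
    · left
      intro z hz
      exact Set.mem_union_left t (h1 ⟨hz.1.1, hz.2⟩)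
    · rcases h2 with h2 | h2
      · left
        intro z hz
        exact Set.mem_union_right s (h2 ⟨hz.1.2, hz.2⟩)
      · right
        intro z hz
        apply Set.mem_compl
        intro hz'
        rcases (Set.mem_union z s t).1 hz' with hz' | hz'
        · exact Set.notMem_of_mem_compl (h1 ⟨hz.1.1, hz.2⟩) hz'
        · exact Set.notMem_of_mem_compl (h2 ⟨hz.1.2, hz.2⟩) hz'
  | compl s hs hs' =>
    obtain ⟨U, hU, hy, h⟩ := hs'
    refine ⟨U, hU, hy, ?_⟩
    rcases h with h | h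
    · right
      rw [compl_compl]
      exact h
    · left
      exact h

theorem nbhd_of_mem {X : Type*} [TopologicalSpace X] (y : X) {s : Set X}
    (hs : Topology.IsConstructible s) (hy : y ∈ s) :
    ∃ U : Set X, IsOpen U ∧ y ∈ U ∧ U ∩ closure {y} ⊆ s := by
  obtain ⟨U, hU, hyU, h⟩ := nbhd_lemma y hs
  refine ⟨U, hU, hyU, ?_⟩
  rcases h with h | h
  · exact h
  · exact absurd hy (Set.notMem_of_mem_compl (h ⟨hyU, subset_closure (Set.mem_singleton y)⟩))

theorem closed_map_pt {R S : Type u} [CommRing R] [CommRing S] [Algebra R S] [IsJacobsonRing R]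
    [Algebra.FiniteType R S]
    (y : PrimeSpectrum S) (hy : IsClosed ({y} : Set (PrimeSpectrum S))) :
    IsClosed ({PrimeSpectrum.comap (algebraMap R S) y} : Set (PrimeSpectrum R)) := by
  rw [PrimeSpectrum.isClosed_singleton_iff_isMaximal] at hy ⊢
  have hmax : y.asIdeal.IsMaximal := hy
  letI : Field (S ⧸ y.asIdeal) := Ideal.Quotient.field _
  have hft : Algebra.FiniteType R (S ⧸ y.asIdeal) :=
    Algebra.FiniteType.of_surjective (Ideal.Quotient.mkₐ R y.asIdeal)
      (Ideal.Quotient.mkₐ_surjective R _)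
  have hfin : Module.Finite R (S ⧸ y.asIdeal) := finite_of_finite_type_of_isJacobsonRing R _
  have hint : Algebra.IsIntegral R (S ⧸ y.asIdeal) := inferInstance
  have hbot : (⊥ : Ideal (S ⧸ y.asIdeal)).IsMaximal := Ideal.bot_isMaximal
  have h1 : ((⊥ : Ideal (S ⧸ y.asIdeal)).comap (algebraMap R (S ⧸ y.asIdeal))).IsMaximal :=
    Ideal.isMaximal_comap_of_isIntegral_of_isMaximal (R := R) (S := S ⧸ y.asIdeal) ⊥
  have h2 : (⊥ : Ideal (S ⧸ y.asIdeal)).comap (algebraMap R (S ⧸ y.asIdeal)) =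
      Ideal.comap (algebraMap R S) y.asIdeal := by
    rw [IsScalarTower.algebraMap_eq R S (S ⧸ y.asIdeal), ← Ideal.comap_comap,
      ← RingHom.ker_eq_comap_bot]
    congr 1
    exact Ideal.mk_ker
  rw [h2] at h1
  exact h1

/-- Let R and S be Jacobson rings, R → S a ring map of finite type with induced map f : Spec(S) →
Spec(R), and E ⊆ Spec(S) a constructible subset. Writing T₀ for the set of points of a subspace T
which are closed in T, one has f(E)₀ = f(E₀) = (Spec R)₀ ∩ f(E). -/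
theorem result {R S : Type u} [CommRing R] [CommRing S] [Algebra R S] [IsJacobsonRing R] [IsJacobsonRing S] [Algebra.FiniteType R S]
    (E : Set (PrimeSpectrum S)) (hE : Topology.IsConstructible E) :
    {x | x ∈ PrimeSpectrum.comap (algebraMap R S) '' E ∧ closure {x} ∩ PrimeSpectrum.comap (algebraMap R S) '' E = {x}} =
        PrimeSpectrum.comap (algebraMap R S) '' {y | y ∈ E ∧ closure {y} ∩ E = {y}} ∧
      PrimeSpectrum.comap (algebraMap R S) '' {y | y ∈ E ∧ closure {y} ∩ E = {y}} =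
        {x | IsClosed ({x} : Set (PrimeSpectrum R))} ∩ PrimeSpectrum.comap (algebraMap R S) '' E := by
  have hcont : Continuous (PrimeSpectrum.comap (algebraMap R S)) :=
    PrimeSpectrum.continuous_comap _
  obtain ⟨f, hf⟩ : ∃ f : PrimeSpectrum S → PrimeSpectrum R,
    f = PrimeSpectrum.comap (algebraMap R S) := ⟨_, rfl⟩
  rw [← hf] at hcont ⊢
  have hA : ∀ y, y ∈ E → closure {y} ∩ E = {y} → IsClosed ({y} : Set (PrimeSpectrum S)) := by
    intro y hy hyE
    obtain ⟨U, hU, hyU, hUE⟩ := nbhd_of_mem y hE hy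
    apply isClosed_singleton_of_isLocallyClosed_singleton
    have h1 : U ∩ closure {y} = {y} := by
      apply Set.Subset.antisymm
      · intro z hz
        rw [← hyE]
        exact ⟨hz.2, hUE hz⟩
      · intro z hz
        rw [Set.mem_singleton_iff] at hz
        rw [hz]
        exact ⟨hyU, subset_closure (Set.mem_singleton y)⟩
    rw [← h1]
    exact hU.isLocallyClosed.inter isClosed_closure.isLocallyClosed
  have hB : ∀ y, IsClosed ({y} : Set (PrimeSpectrum S)) → y ∈ E → closure {y} ∩ E = {y} := by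
    intro y hy hyE
    rw [hy.closure_eq]
    exact Set.inter_eq_left.2 (Set.singleton_subset_iff.2 hyE)
  have h12 : {x | x ∈ f '' E ∧ closure {x} ∩ f '' E = {x}} ⊆
      f '' {y | y ∈ E ∧ closure {y} ∩ E = {y}} := by
    rintro x ⟨⟨y₀, hy₀, rfl⟩, hx⟩
    obtain ⟨U, hU, hyU, hUE⟩ := nbhd_of_mem y₀ hE hy₀
    obtain ⟨y, ⟨hyU', hycl⟩, hyclosed⟩ := nonempty_inter_closedPoints (Z := U ∩ closure {y₀})
      ⟨y₀, hyU, subset_closure (Set.mem_singleton y₀)⟩
      (hU.isLocallyClosed.inter isClosed_closure.isLocallyClosed)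
    have hyE : y ∈ E := hUE ⟨hyU', hycl⟩
    have hyc : IsClosed ({y} : Set (PrimeSpectrum S)) := hyclosed
    have h1 : f y ∈ closure {f y₀} := by
      have h2 : f '' closure {y₀} ⊆ closure (f '' {y₀}) :=
        image_closure_subset_closure_image hcont
      rw [Set.image_singleton] at h2
      exact h2 ⟨y, hycl, rfl⟩
    have h3 : f y ∈ closure {f y₀} ∩ f '' E := ⟨h1, ⟨y, hyE, rfl⟩⟩
    rw [hx, Set.mem_singleton_iff] at h3
    exact ⟨y, ⟨hyE, hB y hyc hyE⟩, h3⟩
  have h23 : f '' {y | y ∈ E ∧ closure {y} ∩ E = {y}} ⊆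
      {x | IsClosed ({x} : Set (PrimeSpectrum R))} ∩ f '' E := by
    rintro x ⟨y, ⟨hyE, hy⟩, rfl⟩
    refine ⟨?_, ⟨y, hyE, rfl⟩⟩
    have := closed_map_pt (R := R) y (hA y hyE hy)
    rw [← hf] at this
    exact this
  have h31 : {x | IsClosed ({x} : Set (PrimeSpectrum R))} ∩ f '' E ⊆
      {x | x ∈ f '' E ∧ closure {x} ∩ f '' E = {x}} := by
    rintro x ⟨hx, hxE⟩
    refine ⟨hxE, ?_⟩
    have hx' : IsClosed ({x} : Set (PrimeSpectrum R)) := hx
    rw [hx'.closure_eq]
    exact Set.inter_eq_left.2 (Set.singleton_subset_iff.2 hxE)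
  exact ⟨Set.Subset.antisymm h12 (h23.trans h31), Set.Subset.antisymm h23 (h31.trans h12)⟩

end Groth.Agent.S9652
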