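import Groth.Statements.S9653
import Mathlib
import Groth.Agent.S9652

set_option autoImplicit false
universe u
open CAlg

namespace Groth.Agent.S9653

theorem lemmaK {R S : Type u} [CommRing R] [CommRing S] [Algebra R S]
    (ξ : PrimeSpectrum R) (C : PrimeSpectrum.BasicConstructibleSetData S)
    (h : ξ ∈ closure (closure {ξ} ∩ PrimeSpectrum.comap (algebraMap R S) '' C.toSet)) :
    ξ ∈ PrimeSpectrum.comap (algebraMap R S) '' C.toSet := by
  have hpp : ξ.asIdeal.IsPrime := ξ.isPrime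
  let M : Submonoid S :=
    { carrier := {s | ∃ n : ℕ, ∃ a : R, a ∉ ξ.asIdeal ∧ s = C.f ^ n * algebraMap R S a}
      one_mem' := ⟨0, 1, (Ideal.ne_top_iff_one _).1 hpp.ne_top, by simp⟩
      mul_mem' := by
        rintro _ _ ⟨n, a, ha, rfl⟩ ⟨m, b, hb, rfl⟩
        refine ⟨n + m, a * b, fun hab => ?_, ?_⟩
        · rcases hpp.mem_or_mem hab with h | h
          · exact ha h
          · exact hb h
        · rw [map_mul, pow_add]
          ring }
  have hM : ∀ s, s ∈ M ↔
      ∃ n : ℕ, ∃ a : R, a ∉ ξ.asIdeal ∧ s = C.f ^ n * algebraMap R S a := fun s => Iff.rfl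
  have hdisj : Disjoint
      ((Ideal.span (Set.range C.g) ⊔ ξ.asIdeal.map (algebraMap R S) : Ideal S) : Set S)
      (M : Set S) := by
    rw [Set.disjoint_left]
    intro s hs hsM
    obtain ⟨n, a, ha, rfl⟩ := (hM s).1 hsM
    have hξa : ξ ∈ (PrimeSpectrum.basicOpen a : Set (PrimeSpectrum R)) := ha
    obtain ⟨x, hxa, hxcl, y, hyC, rfl⟩ :=
      mem_closure_iff.mp h _ (PrimeSpectrum.basicOpen a).isOpen hξa
    have hyC' : y ∈ PrimeSpectrum.zeroLocus (Set.range C.g) \ PrimeSpectrum.zeroLocus {C.f} :=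
      hyC
    have h1 : ξ ≤ PrimeSpectrum.comap (algebraMap R S) y :=
      (PrimeSpectrum.le_iff_specializes _ _).2 (specializes_iff_mem_closure.2 hxcl)
    have h2 : ξ.asIdeal.map (algebraMap R S) ≤ y.asIdeal := Ideal.map_le_iff_le_comap.2 h1
    have h3 : Ideal.span (Set.range C.g) ≤ y.asIdeal :=
      Ideal.span_le.2 ((PrimeSpectrum.mem_zeroLocus _ _).1 hyC'.1)
    have h4 : C.f ∉ y.asIdeal := by
      intro hf
      apply hyC'.2
      rw [PrimeSpectrum.mem_zeroLocus, Set.singleton_subset_iff]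
      exact hf
    have h5 : algebraMap R S a ∉ y.asIdeal := hxa
    have h6 : C.f ^ n * algebraMap R S a ∈ y.asIdeal := (sup_le h3 h2) hs
    rcases y.isPrime.mem_or_mem h6 with h7 | h7
    · exact h4 (y.isPrime.mem_of_pow_mem n h7)
    · exact h5 h7
  obtain ⟨q, hq, hIq, hqM⟩ := Ideal.exists_le_prime_disjoint
    (I := Ideal.span (Set.range C.g) ⊔ ξ.asIdeal.map (algebraMap R S)) M hdisj
  have hyC : (⟨q, hq⟩ : PrimeSpectrum S) ∈
      PrimeSpectrum.zeroLocus (Set.range C.g) \ PrimeSpectrum.zeroLocus {C.f} := by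
    refine ⟨?_, ?_⟩
    · rw [PrimeSpectrum.mem_zeroLocus]
      exact fun s hs => hIq (Ideal.mem_sup_left (Ideal.subset_span hs))
    · intro hmem
      rw [PrimeSpectrum.mem_zeroLocus, Set.singleton_subset_iff] at hmem
      have hfM : C.f ∈ M :=
        (hM _).2 ⟨1, 1, (Ideal.ne_top_iff_one _).1 hpp.ne_top, by simp⟩
      exact Set.disjoint_left.1 hqM hmem hfM
  refine ⟨⟨q, hq⟩, hyC, ?_⟩
  apply PrimeSpectrum.ext
  apply le_antisymm
  · intro a ha
    by_contra hna
    have haM : algebraMap R S a ∈ M := (hM _).2 ⟨0, a, hna, by simp⟩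
    exact Set.disjoint_left.1 hqM ha haM
  · exact Ideal.map_le_iff_le_comap.1 (le_trans le_sup_right hIq)

/-- Let R and S be Jacobson rings, R → S a ring map of finite type with induced map f : Spec(S) →
Spec(R), E ⊆ Spec(S) constructible and E₀ the set of points of E closed in E. Then a point ξ of
Spec(R) lies in f(E) if and only if cl{ξ} ∩ f(E₀) is dense in the closure cl{ξ}. -/
theorem result {R S : Type u} [CommRing R] [CommRing S] [Algebra R S] [IsJacobsonRing R] [IsJacobsonRing S] [Algebra.FiniteType R S]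
    (E : Set (PrimeSpectrum S)) (hE : Topology.IsConstructible E) (ξ : PrimeSpectrum R) :
    ξ ∈ PrimeSpectrum.comap (algebraMap R S) '' E ↔
      closure ({ξ} : Set (PrimeSpectrum R)) ⊆ closure (closure {ξ} ∩ PrimeSpectrum.comap (algebraMap R S) '' {y | y ∈ E ∧ closure {y} ∩ E = {y}}) := by
  have hcont : Continuous (PrimeSpectrum.comap (algebraMap R S)) :=
    PrimeSpectrum.continuous_comap _
  constructor
  · rintro ⟨y₀, hy₀, rfl⟩
    obtain ⟨f, hf⟩ : ∃ f : PrimeSpectrum S → PrimeSpectrum R,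
      f = PrimeSpectrum.comap (algebraMap R S) := ⟨_, rfl⟩
    rw [← hf] at hcont ⊢
    have hmem : f y₀ ∈ closure (closure {f y₀} ∩
        f '' {y | y ∈ E ∧ closure {y} ∩ E = {y}}) := by
      rw [mem_closure_iff]
      intro V hV hξV
      obtain ⟨U, hU, hyU, hUE⟩ := Groth.Agent.S9652.nbhd_of_mem y₀ hE hy₀
      obtain ⟨y, ⟨⟨hyU', hyV⟩, hycl⟩, hyclosed⟩ :=
        nonempty_inter_closedPoints (Z := (U ∩ f ⁻¹' V) ∩ closure {y₀})
          ⟨y₀, ⟨hyU, hξV⟩, subset_closure (Set.mem_singleton y₀)⟩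
          ((hU.inter (hV.preimage hcont)).isLocallyClosed.inter
            isClosed_closure.isLocallyClosed)
      have hyE : y ∈ E := hUE ⟨hyU', hycl⟩
      have hyc : IsClosed ({y} : Set (PrimeSpectrum S)) := hyclosed
      have hyE0 : closure {y} ∩ E = {y} := by
        rw [hyc.closure_eq]
        exact Set.inter_eq_left.2 (Set.singleton_subset_iff.2 hyE)
      have h1 : f y ∈ closure {f y₀} := by
        have h2 : f '' closure {y₀} ⊆ closure (f '' {y₀}) :=
          image_closure_subset_closure_image hcont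
        rw [Set.image_singleton] at h2
        exact h2 ⟨y, hycl, rfl⟩
      exact ⟨f y, hyV, h1, ⟨y, ⟨hyE, hyE0⟩, rfl⟩⟩
    exact (IsClosed.closure_subset_iff isClosed_closure).2 (Set.singleton_subset_iff.2 hmem)
  · intro h
    have h1 : ξ ∈ closure (closure {ξ} ∩ PrimeSpectrum.comap (algebraMap R S) '' E) := by
      have h2 := h (subset_closure (Set.mem_singleton ξ))
      refine closure_mono ?_ h2
      exact Set.inter_subset_inter_right _ (Set.image_mono fun y hy => hy.1)
    obtain ⟨Sd, hSd⟩ := PrimeSpectrum.exists_constructibleSetData_iff.mpr hE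
    have h3 : closure {ξ} ∩ PrimeSpectrum.comap (algebraMap R S) '' E =
        ⋃ C ∈ Sd, (closure {ξ} ∩ PrimeSpectrum.comap (algebraMap R S) '' C.toSet) := by
      rw [← hSd, PrimeSpectrum.ConstructibleSetData.toSet, Set.image_iUnion₂,
        Set.inter_iUnion₂]
    rw [h3, Finset.closure_biUnion] at h1
    obtain ⟨C, hC, hξC⟩ := Set.mem_iUnion₂.mp h1
    obtain ⟨y, hy, rfl⟩ := lemmaK ξ C hξC
    exact ⟨y, by rw [← hSd]; exact Set.mem_biUnion hC hy, rfl⟩

end Groth.Agent.S9653
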