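import Groth.Statements.S9654
import Mathlib
import Groth.Agent.Lib.Helper4.UnitAdjoin

set_option autoImplicit false
universe u
open CAlg

namespace Groth.Agent.S9654

/-- Let R be a ring and x, y ∈ R nonzerodivisors. In the localization R_{xy} let a = x/y and b = y/x,
and let R[a], R[b], R[a, b] be the R-subalgebras they generate. If R is integrally closed in R_x or
in R_y, then the sequence 0 → R → R[a] ⊕ R[b] → R[a, b] → 0 (difference map, then sum map) is short
exact; equivalently R[a] ∩ R[b] is the image of R and R[a] + R[b] = R[a, b] inside R_{xy}. -/
theorem result {R : Type u} [CommRing R] (x y : R) (hx : x ∈ nonZeroDivisors R) (hy : y ∈ nonZeroDivisors R)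
    (hint : IsIntegrallyClosedIn R (Localization.Away x) ∨ IsIntegrallyClosedIn R (Localization.Away y)) :
    (Algebra.adjoin R {algebraMap R (Localization.Away (x * y)) (x * x) * IsLocalization.Away.invSelf (x * y)}).toSubmodule ⊓
        (Algebra.adjoin R {algebraMap R (Localization.Away (x * y)) (y * y) * IsLocalization.Away.invSelf (x * y)}).toSubmodule =
        (⊥ : Subalgebra R (Localization.Away (x * y))).toSubmodule ∧
      (Algebra.adjoin R {algebraMap R (Localization.Away (x * y)) (x * x) * IsLocalization.Away.invSelf (x * y)}).toSubmodule ⊔
        (Algebra.adjoin R {algebraMap R (Localization.Away (x * y)) (y * y) * IsLocalization.Away.invSelf (x * y)}).toSubmodule =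
        (Algebra.adjoin R {algebraMap R (Localization.Away (x * y)) (x * x) * IsLocalization.Away.invSelf (x * y), algebraMap R (Localization.Away (x * y)) (y * y) * IsLocalization.Away.invSelf (x * y)}).toSubmodule := by
  have hinv : algebraMap R (Localization.Away (x * y)) (x * y) *
      IsLocalization.Away.invSelf (x * y) = 1 := IsLocalization.Away.mul_invSelf _
  have hab : (algebraMap R (Localization.Away (x * y)) (x * x) *
        IsLocalization.Away.invSelf (x * y)) *
      (algebraMap R (Localization.Away (x * y)) (y * y) *
        IsLocalization.Away.invSelf (x * y)) = 1 := by
    have h1 : algebraMap R (Localization.Away (x * y)) (x * x) *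
        algebraMap R (Localization.Away (x * y)) (y * y) =
        algebraMap R (Localization.Away (x * y)) (x * y) *
          algebraMap R (Localization.Away (x * y)) (x * y) := by
      rw [← map_mul, ← map_mul]; congr 1; ring
    calc _ = (algebraMap R (Localization.Away (x * y)) (x * x) *
          algebraMap R (Localization.Away (x * y)) (y * y)) *
          (IsLocalization.Away.invSelf (x * y) * IsLocalization.Away.invSelf (x * y)) := by ring
      _ = (algebraMap R (Localization.Away (x * y)) (x * y) *
            IsLocalization.Away.invSelf (x * y)) *
          (algebraMap R (Localization.Away (x * y)) (x * y) *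
            IsLocalization.Away.invSelf (x * y)) := by rw [h1]; ring
      _ = 1 := by rw [hinv, one_mul]
  have hay : (algebraMap R (Localization.Away (x * y)) (x * x) *
        IsLocalization.Away.invSelf (x * y)) * algebraMap R (Localization.Away (x * y)) y =
      algebraMap R (Localization.Away (x * y)) x := by
    calc _ = algebraMap R (Localization.Away (x * y)) x *
          (algebraMap R (Localization.Away (x * y)) (x * y) *
            IsLocalization.Away.invSelf (x * y)) := by
          rw [map_mul, map_mul]; ring
      _ = algebraMap R (Localization.Away (x * y)) x := by rw [hinv, mul_one]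
  have hbx : (algebraMap R (Localization.Away (x * y)) (y * y) *
        IsLocalization.Away.invSelf (x * y)) * algebraMap R (Localization.Away (x * y)) x =
      algebraMap R (Localization.Away (x * y)) y := by
    calc _ = algebraMap R (Localization.Away (x * y)) y *
          (algebraMap R (Localization.Away (x * y)) (x * y) *
            IsLocalization.Away.invSelf (x * y)) := by
          rw [map_mul, map_mul]; ring
      _ = algebraMap R (Localization.Away (x * y)) y := by rw [hinv, mul_one]
  refine ⟨?_, Groth.Agent.Helper4.UnitAdjoin.sup_adjoin_eq hab⟩
  have hxyu : IsUnit (algebraMap R (Localization.Away (x * y)) (x * y)) :=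
    IsLocalization.map_units _ (⟨x * y, Submonoid.mem_powers _⟩ : Submonoid.powers (x * y))
  have hxu : IsUnit (algebraMap R (Localization.Away (x * y)) x) := by
    rw [map_mul] at hxyu; exact isUnit_of_mul_isUnit_left hxyu
  have hyu : IsUnit (algebraMap R (Localization.Away (x * y)) y) := by
    rw [map_mul] at hxyu; exact isUnit_of_mul_isUnit_right hxyu
  have hinjL : Function.Injective (algebraMap R (Localization.Away (x * y))) :=
    IsLocalization.injective _ (Submonoid.powers_le.mpr (mul_mem hx hy))
  rcases hint with hint | hint
  · have hunits : ∀ s : Submonoid.powers x,
        IsUnit ((Algebra.ofId R (Localization.Away (x * y))) s) := by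
      rintro ⟨_, k, rfl⟩
      show IsUnit (algebraMap R (Localization.Away (x * y)) (x ^ k))
      rw [map_pow]; exact hxu.pow k
    let ψ : Localization.Away x →ₐ[R] Localization.Away (x * y) :=
      IsLocalization.liftAlgHom (M := Submonoid.powers x)
        (f := Algebra.ofId R (Localization.Away (x * y))) hunits
    have hψinj : Function.Injective ψ := by
      show Function.Injective (IsLocalization.lift hunits)
      rw [IsLocalization.lift_injective_iff]
      intro r s
      have hinjx : Function.Injective (algebraMap R (Localization.Away x)) :=
        IsLocalization.injective _ (Submonoid.powers_le.mpr hx)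
      constructor
      · intro h; rw [hinjx h]
      · intro h
        have h' : algebraMap R (Localization.Away (x * y)) r =
            algebraMap R (Localization.Away (x * y)) s := h
        rw [hinjL h']
    have hbr : (algebraMap R (Localization.Away (x * y)) (y * y) *
        IsLocalization.Away.invSelf (x * y)) ∈ ψ.range := by
      refine ⟨IsLocalization.mk' _ y (⟨x, Submonoid.mem_powers x⟩ : Submonoid.powers x), ?_⟩
      show IsLocalization.lift hunits (IsLocalization.mk' _ y _) = _
      rw [IsLocalization.lift_mk'_spec]
      show algebraMap R (Localization.Away (x * y)) y =
        algebraMap R (Localization.Away (x * y)) x * _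
      exact ((mul_comm _ _).trans hbx).symm
    have := Groth.Agent.Helper4.UnitAdjoin.inf_adjoin_eq_bot ψ hψinj
      ((mul_comm _ _).trans hab) hbr
    rw [inf_comm]; exact this
  · have hunits : ∀ s : Submonoid.powers y,
        IsUnit ((Algebra.ofId R (Localization.Away (x * y))) s) := by
      rintro ⟨_, k, rfl⟩
      show IsUnit (algebraMap R (Localization.Away (x * y)) (y ^ k))
      rw [map_pow]; exact hyu.pow k
    let ψ : Localization.Away y →ₐ[R] Localization.Away (x * y) :=
      IsLocalization.liftAlgHom (M := Submonoid.powers y)
        (f := Algebra.ofId R (Localization.Away (x * y))) hunits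
    have hψinj : Function.Injective ψ := by
      show Function.Injective (IsLocalization.lift hunits)
      rw [IsLocalization.lift_injective_iff]
      intro r s
      have hinjy : Function.Injective (algebraMap R (Localization.Away y)) :=
        IsLocalization.injective _ (Submonoid.powers_le.mpr hy)
      constructor
      · intro h; rw [hinjy h]
      · intro h
        have h' : algebraMap R (Localization.Away (x * y)) r =
            algebraMap R (Localization.Away (x * y)) s := h
        rw [hinjL h']
    have har : (algebraMap R (Localization.Away (x * y)) (x * x) *
        IsLocalization.Away.invSelf (x * y)) ∈ ψ.range := by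
      refine ⟨IsLocalization.mk' _ x (⟨y, Submonoid.mem_powers y⟩ : Submonoid.powers y), ?_⟩
      show IsLocalization.lift hunits (IsLocalization.mk' _ x _) = _
      rw [IsLocalization.lift_mk'_spec]
      show algebraMap R (Localization.Away (x * y)) x =
        algebraMap R (Localization.Away (x * y)) y * _
      exact ((mul_comm _ _).trans hay).symm
    exact Groth.Agent.Helper4.UnitAdjoin.inf_adjoin_eq_bot ψ hψinj hab har

end Groth.Agent.S9654
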