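import Groth.Statements.S9655
import Mathlib

set_option autoImplicit false
universe u
open CAlg

namespace Groth.Agent.S9655

open IsLocalRing in
theorem main {R S : Type u} [CommRing R] [CommRing S] [Algebra R S] [IsLocalRing R] [IsLocalRing S]
    (σ : Finset S)
    (hσ : ∀ s : S, ∃ t ∈ Algebra.adjoin R (σ : Set S), IsUnit t ∧
      s * t ∈ Algebra.adjoin R (σ : Set S))
    (V : ValuationSubring (ResidueField S))
    (hV : ∀ r : R, residue S (algebraMap R S r) ∈ V)
    (hloc : ∀ r : R, r ∈ maximalIdeal R → ∀ w : ResidueField S, w ∈ V →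
      residue S (algebraMap R S r) * w ≠ 1) :
    ∃ (n : ℕ) (m : Ideal (MvPolynomial (Fin n) R)) (_ : m.IsMaximal),
      m.under R = IsLocalRing.maximalIdeal R ∧
      ∃ (φ : Localization.AtPrime m →ₐ[R] S) (T : Submonoid φ.range), IsLocalization T S := by
  classical
  have hunit_of : ∀ s : S, residue S s ∉ V → IsUnit s := by
    intro s h
    by_contra hn
    apply h
    have h0 : residue S s = 0 :=
      (residue_eq_zero_iff s).2 ((mem_maximalIdeal s).2 (mem_nonunits_iff.2 hn))
    rw [h0]; exact V.zero_mem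
  obtain ⟨tw, htwdef⟩ : ∃ tw : S → S,
      tw = fun s => if residue S s ∈ V then s else Ring.inverse s := ⟨_, rfl⟩
  have htw_pos : ∀ s, residue S s ∈ V → tw s = s := fun s h => by rw [htwdef]; exact if_pos h
  have htw_neg : ∀ s, residue S s ∉ V → tw s = Ring.inverse s :=
    fun s h => by rw [htwdef]; exact if_neg h
  have htw : ∀ s, residue S (tw s) ∈ V := by
    intro s
    by_cases h : residue S s ∈ V
    · rw [htw_pos s h]; exact h
    · rw [htw_neg s h]
      have hu := hunit_of s h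
      have h2 : residue S (Ring.inverse s) * residue S s = 1 := by
        rw [← map_mul, Ring.inverse_mul_cancel s hu, map_one]
      have h1 : residue S (Ring.inverse s) = (residue S s)⁻¹ := eq_inv_of_mul_eq_one_left h2
      rw [h1]
      exact (V.mem_or_inv_mem (residue S s)).resolve_left h
  obtain ⟨σ', hσ'⟩ : ∃ σ' : Finset S, σ' = σ.image tw := ⟨_, rfl⟩
  obtain ⟨A₁, hA₁⟩ : ∃ A₁ : Subalgebra R S, A₁ = Algebra.adjoin R (σ' : Set S) := ⟨_, rfl⟩
  have hgen : ∀ s ∈ σ, tw s ∈ A₁ := by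
    intro s hs
    rw [hA₁]
    apply Algebra.subset_adjoin
    rw [hσ']
    exact Finset.mem_coe.2 (Finset.mem_image_of_mem tw hs)
  have hA : ∀ a ∈ Algebra.adjoin R (σ : Set S), ∃ t ∈ A₁, IsUnit t ∧ a * t ∈ A₁ := by
    intro a ha
    refine Algebra.adjoin_induction ?_ ?_ ?_ ?_ ha
    · intro s hs
      have hs' : s ∈ σ := Finset.mem_coe.1 hs
      by_cases h : residue S s ∈ V
      · refine ⟨1, one_mem _, isUnit_one, ?_⟩
        have h1 := hgen s hs'
        rw [htw_pos s h] at h1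
        rw [mul_one]; exact h1
      · have hu := hunit_of s h
        have h1 := hgen s hs'
        rw [htw_neg s h] at h1
        refine ⟨Ring.inverse s, h1, hu.ringInverse, ?_⟩
        rw [Ring.mul_inverse_cancel s hu]; exact one_mem _
    · intro r
      exact ⟨1, one_mem _, isUnit_one, by rw [mul_one]; exact A₁.algebraMap_mem r⟩
    · rintro x y - - ⟨tx, htx, hux, hx⟩ ⟨ty, hty, huy, hy⟩
      refine ⟨tx * ty, mul_mem htx hty, hux.mul huy, ?_⟩
      have e : (x + y) * (tx * ty) = (x * tx) * ty + (y * ty) * tx := by ring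
      rw [e]
      exact add_mem (mul_mem hx hty) (mul_mem hy htx)
    · rintro x y - - ⟨tx, htx, hux, hx⟩ ⟨ty, hty, huy, hy⟩
      refine ⟨tx * ty, mul_mem htx hty, hux.mul huy, ?_⟩
      have e : (x * y) * (tx * ty) = (x * tx) * (y * ty) := by ring
      rw [e]
      exact mul_mem hx hy
  have hS : ∀ s : S, ∃ t ∈ A₁, IsUnit t ∧ s * t ∈ A₁ := by
    intro s
    obtain ⟨t₀, ht₀, hu₀, hst⟩ := hσ s
    obtain ⟨t₁, ht₁, hu₁, h1⟩ := hA t₀ ht₀
    obtain ⟨t₂, ht₂, hu₂, h2⟩ := hA (s * t₀) hst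
    refine ⟨(t₀ * t₁) * t₂, mul_mem h1 ht₂, (hu₀.mul hu₁).mul hu₂, ?_⟩
    have e : s * ((t₀ * t₁) * t₂) = (s * t₀ * t₂) * t₁ := by ring
    rw [e]
    exact mul_mem h2 ht₁
  -- the polynomial ring
  obtain ⟨g, hgdef⟩ : ∃ g : Fin σ'.card → S, g = fun i => ((σ'.equivFin.symm i : σ') : S) :=
    ⟨_, rfl⟩
  obtain ⟨ev, hevdef⟩ : ∃ ev : MvPolynomial (Fin σ'.card) R →ₐ[R] S, ev = MvPolynomial.aeval g :=
    ⟨_, rfl⟩
  have hevC : ∀ r, ev (MvPolynomial.C r) = algebraMap R S r := fun r => by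
    rw [hevdef, MvPolynomial.aeval_C]
  have hevX : ∀ i, ev (MvPolynomial.X i) = g i := fun i => by
    rw [hevdef, MvPolynomial.aeval_X]
  have hg_res : ∀ i, residue S (g i) ∈ V := by
    intro i
    have h : g i ∈ σ.image tw := by
      rw [← hσ', hgdef]; exact (σ'.equivFin.symm i).2
    obtain ⟨s, _, hs⟩ := Finset.mem_image.1 h
    rw [← hs]; exact htw s
  have hrange : ∀ a ∈ A₁, ∃ P, ev P = a := by
    intro a ha
    rw [hA₁] at ha
    have hle : Algebra.adjoin R (σ' : Set S) ≤ ev.range := by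
      apply Algebra.adjoin_le
      intro x hx
      refine (AlgHom.mem_range _).2 ⟨MvPolynomial.X (σ'.equivFin ⟨x, Finset.mem_coe.1 hx⟩), ?_⟩
      rw [hevX, hgdef]
      simp only [Equiv.symm_apply_apply]
    exact (AlgHom.mem_range _).1 (hle ha)
  have hψV : ∀ P : MvPolynomial (Fin σ'.card) R, residue S (ev P) ∈ V := by
    intro P
    induction P using MvPolynomial.induction_on with
    | C r => rw [hevC]; exact hV r
    | add p q hp hq => rw [map_add, map_add]; exact add_mem hp hq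
    | mul_X p i hp => rw [map_mul, map_mul, hevX]; exact mul_mem hp (hg_res i)
  obtain ⟨ψV, hψVdef⟩ : ∃ ψV : MvPolynomial (Fin σ'.card) R →+* V,
      ∀ P, ((ψV P : V) : ResidueField S) = residue S (ev P) :=
    ⟨((residue S).comp (ev : MvPolynomial (Fin σ'.card) R →+* S)).codRestrict V hψV,
      fun P => rfl⟩
  obtain ⟨𝔪₀, h𝔪₀⟩ : ∃ I : Ideal (MvPolynomial (Fin σ'.card) R),
      I = Ideal.comap ψV (maximalIdeal V) := ⟨_, rfl⟩
  have h2 : ∀ r ∈ maximalIdeal R, MvPolynomial.C r ∈ 𝔪₀ := by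
    intro r hr
    rw [h𝔪₀, Ideal.mem_comap, mem_maximalIdeal, mem_nonunits_iff]
    intro hu
    obtain ⟨w, hw⟩ := isUnit_iff_exists_inv.1 hu
    have h3 : ((ψV (MvPolynomial.C r) : V) : ResidueField S) * (w : ResidueField S) = 1 :=
      congrArg (fun c : V => (c : ResidueField S)) hw
    rw [hψVdef, hevC] at h3
    exact hloc r hr w.1 w.2 h3
  have h3 : ∀ P, ¬ IsUnit (ev P) → P ∈ 𝔪₀ := by
    intro P hP
    have h0 : residue S (ev P) = 0 :=
      (residue_eq_zero_iff _).2 ((mem_maximalIdeal _).2 (mem_nonunits_iff.2 hP))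
    have h1 : ψV P = 0 := Subtype.ext ((hψVdef P).trans h0)
    rw [h𝔪₀, Ideal.mem_comap, h1]
    exact Ideal.zero_mem _
  have hne : 𝔪₀ ≠ ⊤ := by
    rw [h𝔪₀]; exact Ideal.comap_ne_top ψV (maximalIdeal.isMaximal V).ne_top
  obtain ⟨m, hm, hle⟩ := Ideal.exists_le_maximal 𝔪₀ hne
  have := hm
  have hunder : m.under R = maximalIdeal R := by
    have h4 : maximalIdeal R ≤ m.under R := by
      intro r hr
      show algebraMap R (MvPolynomial (Fin σ'.card) R) r ∈ m
      rw [MvPolynomial.algebraMap_eq]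
      exact hle (h2 r hr)
    have h5 : m.under R ≠ ⊤ := Ideal.comap_ne_top _ hm.ne_top
    exact ((maximalIdeal.isMaximal R).eq_of_le h5 h4).symm
  have hunits : ∀ y : m.primeCompl, IsUnit (ev y) := by
    intro y
    by_contra hn
    exact y.2 (hle (h3 _ hn))
  obtain ⟨φ, hφdef⟩ : ∃ φ : Localization.AtPrime m →ₐ[R] S,
      φ = IsLocalization.liftAlgHom (M := m.primeCompl) (f := ev) hunits := ⟨_, rfl⟩
  have hφ : ∀ P, φ (algebraMap _ (Localization.AtPrime m) P) = ev P := by
    intro P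
    rw [hφdef, IsLocalization.liftAlgHom_apply]
    exact IsLocalization.lift_eq _ P
  have hA₁φ : ∀ a ∈ A₁, a ∈ φ.range := by
    intro a ha
    obtain ⟨P, hP⟩ := hrange a ha
    exact (AlgHom.mem_range _).2 ⟨algebraMap _ _ P, by rw [hφ, hP]⟩
  refine ⟨σ'.card, m, hm, hunder, φ, (IsUnit.submonoid S).comap (algebraMap φ.range S), ?_⟩
  refine (isLocalization_iff _ _).2 ⟨fun y => y.2, ?_, ?_⟩
  · intro s
    obtain ⟨t, ht, hu, hst⟩ := hS s
    exact ⟨(⟨s * t, hA₁φ _ hst⟩, ⟨⟨t, hA₁φ _ ht⟩, hu⟩), rfl⟩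
  · intro x y hxy
    exact ⟨1, by rw [Subtype.ext hxy]⟩

/-- Let R and S be local rings and R → S a ring map, not necessarily local, that is essentially of
finite type. Then for some n there is a maximal ideal m of the polynomial ring R[x_1, …, x_n] lying
over the maximal ideal of R, together with an R-algebra map φ : R[x_1, …, x_n]_m → S making S a
localization of the image of φ; thus S arises from R[x_1, …, x_n]_m by passing to a quotient and
then localizing. -/
theorem result {R S : Type u} [CommRing R] [CommRing S] [Algebra R S] [IsLocalRing R] [IsLocalRing S] [Algebra.EssFiniteType R S] :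
    ∃ (n : ℕ) (m : Ideal (MvPolynomial (Fin n) R)) (_ : m.IsMaximal), m.under R = IsLocalRing.maximalIdeal R ∧
      ∃ (φ : Localization.AtPrime m →ₐ[R] S) (T : Submonoid φ.range), IsLocalization T S := by
  classical
  obtain ⟨σ, hσ⟩ := (Algebra.essFiniteType_iff (R := R) (S := S)).1 inferInstance
  obtain ⟨V, hV, hloc⟩ := IsLocalRing.exists_factor_valuationRing
    ((IsLocalRing.residue S).comp (algebraMap R S))
  refine main σ hσ V (fun r => hV r) ?_
  intro r hr w hw h1
  have hu : IsUnit (((IsLocalRing.residue S).comp (algebraMap R S)).codRestrict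
      V.toSubring hV r) :=
    isUnit_iff_exists_inv.2 ⟨⟨w, hw⟩, Subtype.ext h1⟩
  exact (mem_nonunits_iff.1 ((IsLocalRing.mem_maximalIdeal r).1 hr)) (hloc.map_nonunit r hu)

end Groth.Agent.S9655
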