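import Groth.Statements.S9656
import Mathlib

set_option autoImplicit false
universe u
open CAlg

namespace Groth.Agent.S9656

/-- Let R_i → S_i be ring maps indexed by a finite type ι, with product map R = Π R_i → S = Π S_i. Then
an element (s_i) of S is integral over R exactly when s_i is integral over R_i for every i; so
integral closure in a finite product is computed factor by factor. -/
theorem result {ι : Type u} [Fintype ι] {R S : ι → Type u} [∀ i, CommRing (R i)] [∀ i, CommRing (S i)] (f : ∀ i, R i →+* S i) (s : ∀ i, S i) :
    (RingHom.pi fun i => (f i).comp (Pi.evalRingHom R i)).IsIntegralElem s ↔ ∀ i, (f i).IsIntegralElem (s i) := by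
  classical
  set F : (∀ i, R i) →+* (∀ i, S i) := RingHom.pi fun i => (f i).comp (Pi.evalRingHom R i) with hF
  have hcomp : ∀ i, (Pi.evalRingHom S i).comp F = (f i).comp (Pi.evalRingHom R i) := by
    intro i; ext x; simp [hF]
  have hcoord : ∀ (P : Polynomial (∀ i, R i)) (i : ι),
      (Polynomial.eval₂ F s P) i = Polynomial.eval₂ (f i) (s i) (P.map (Pi.evalRingHom R i)) := by
    intro P i
    rw [Polynomial.eval₂_map, ← hcomp i]
    exact Polynomial.hom_eval₂ P F (Pi.evalRingHom S i) s
  constructor
  · rintro ⟨P, hP, hPs⟩ i
    refine ⟨P.map (Pi.evalRingHom R i), hP.map _, ?_⟩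
    rw [← hcoord, hPs]; rfl
  · intro h
    choose p hp hps using h
    set N := Finset.univ.sup (fun i => (p i).natDegree) with hN
    set q : ∀ i, Polynomial (R i) := fun i => p i * Polynomial.X ^ (N - (p i).natDegree) with hq
    have hqm : ∀ i, (q i).Monic := fun i => (hp i).mul (Polynomial.monic_X_pow _)
    have hqs : ∀ i, Polynomial.eval₂ (f i) (s i) (q i) = 0 := by
      intro i
      rw [hq, Polynomial.eval₂_mul, hps i, zero_mul]
    set P : Polynomial (∀ i, R i) := Polynomial.X ^ N +
      ∑ n ∈ Finset.range N, Polynomial.C (fun i => (q i).coeff n) * Polynomial.X ^ n with hPdef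
    have hPm : P.Monic := by
      apply Polynomial.monic_X_pow_add
      refine lt_of_le_of_lt (Polynomial.degree_sum_le _ _) ?_
      refine (Finset.sup_lt_iff (WithBot.bot_lt_coe N)).2 ?_
      intro n hn
      refine lt_of_le_of_lt (Polynomial.degree_C_mul_X_pow_le _ _) ?_
      exact WithBot.coe_lt_coe.mpr (Finset.mem_range.mp hn)
    have hPmap : ∀ i, P.map (Pi.evalRingHom R i) = q i := by
      intro i
      rcases subsingleton_or_nontrivial (R i) with hsub | hnt
      · exact Subsingleton.elim _ _
      · have hqd : (q i).natDegree = N := by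
          rw [hq]
          simp only
          rw [(hp i).natDegree_mul (Polynomial.monic_X_pow _), Polynomial.natDegree_X_pow]
          have : (p i).natDegree ≤ N :=
            Finset.le_sup (f := fun i => (p i).natDegree) (Finset.mem_univ i)
          omega
        conv_rhs => rw [(hqm i).as_sum, hqd]
        simp [hPdef, Polynomial.map_sum]
    refine ⟨P, hPm, ?_⟩
    funext i
    rw [hcoord, hPmap, hqs]; rfl

end Groth.Agent.S9656
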