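import Groth.Statements.S9657
import Mathlib
import Groth.Agent.S2150

set_option autoImplicit false
universe u
open CAlg

namespace Groth.Agent.S9657

section Aux
open TensorProduct Polynomial Groth.Agent.S2112


theorem PN_localization {A B : Type u} [CommRing A] [CommRing B] [Algebra A B] (M : Submonoid A)
    [IsLocalization M B] [Nontrivial B] (hA : PN A) : PN B := by
  rw [PN_iff] at hA ⊢
  refine ⟨?_, ?_⟩
  · rintro ⟨n, hn⟩
    rw [one_pow] at hn
    exact one_ne_zero hn
  · intro x y hxy
    obtain ⟨⟨a, s⟩, hx⟩ := IsLocalization.surj M x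
    obtain ⟨⟨a', s'⟩, hy⟩ := IsLocalization.surj M y
    simp only at hx hy
    obtain ⟨n, hn⟩ := hxy
    have h1 : algebraMap A B ((a * a') ^ n) = 0 := by
      rw [map_pow, map_mul, ← hx, ← hy]
      calc (x * algebraMap A B s * (y * algebraMap A B s')) ^ n
          = (x * y) ^ n * (algebraMap A B s * algebraMap A B s') ^ n := by ring
        _ = 0 := by rw [hn, zero_mul]
    obtain ⟨u, hu⟩ := (IsLocalization.map_eq_zero_iff M B _).mp h1
    have h2 : IsNilpotent (((u : A) * a) * a') := by
      refine ⟨n + 1, ?_⟩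
      calc ((u : A) * a * a') ^ (n + 1) = (u : A) ^ n * (a * a') * (u * (a * a') ^ n) := by ring
        _ = 0 := by rw [hu, mul_zero]
    have hunit : ∀ m : M, IsUnit (algebraMap A B m) := IsLocalization.map_units B
    rcases hA.2 _ _ h2 with h3 | h3
    · left
      obtain ⟨m, hm⟩ := h3
      refine ⟨m, ?_⟩
      have h4 : (x * (algebraMap A B s * algebraMap A B u)) ^ m = 0 := by
        have : x * (algebraMap A B s * algebraMap A B u) = algebraMap A B ((u : A) * a) := by
          rw [map_mul, ← hx]; ring
        rw [this, ← map_pow, hm, map_zero]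
      rw [mul_pow] at h4
      exact (IsUnit.mul_left_eq_zero (((hunit s).mul (hunit u)).pow m)).mp h4
    · right
      obtain ⟨m, hm⟩ := h3
      refine ⟨m, ?_⟩
      have h4 : (y * algebraMap A B s') ^ m = 0 := by
        rw [hy, ← map_pow, hm, map_zero]
      rw [mul_pow] at h4
      exact (IsUnit.mul_left_eq_zero ((hunit s').pow m)).mp h4

theorem forward {k K : Type u} [Field k] [Field K] [Algebra k K]
    (kt Kt : Type u) [Field kt] [Field Kt] [Algebra (Polynomial k) kt]
    [IsFractionRing (Polynomial k) kt]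
    [Algebra (Polynomial K) Kt] [IsFractionRing (Polynomial K) Kt]
    [Algebra kt Kt] (hcompat : ∀ p : Polynomial k, algebraMap kt Kt (algebraMap (Polynomial k) kt p) =
      algebraMap (Polynomial K) Kt (Polynomial.map (algebraMap k K) p))
    (L : Type u) [Field L] [Algebra kt L] [Algebra k L]
    (hkL : ∀ c : k, algebraMap k L c = algebraMap kt L (algebraMap (Polynomial k) kt (C c)))
    (hA : PN (L ⊗[k] K)) : PN (L ⊗[kt] Kt) := by
  classical
  obtain ⟨j, hjdef⟩ : ∃ j : K →+* Kt, ∀ a, j a = algebraMap (Polynomial K) Kt (C a) :=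
    ⟨(algebraMap (Polynomial K) Kt).comp C, fun _ => rfl⟩
  obtain ⟨tL, htL⟩ : ∃ tL : L, tL = algebraMap kt L (algebraMap (Polynomial k) kt X) := ⟨_, rfl⟩
  obtain ⟨γ, hγC, hγX⟩ : ∃ γ : Polynomial K →+* L ⊗[k] K,
      (∀ a, γ (C a) = (1 : L) ⊗ₜ[k] a) ∧ γ X = tL ⊗ₜ[k] (1 : K) := by
    refine ⟨Polynomial.eval₂RingHom
      (Algebra.TensorProduct.includeRight : K →ₐ[k] L ⊗[k] K).toRingHom (tL ⊗ₜ[k] (1 : K)), ?_, ?_⟩
    · intro a; simp
    · simp
  let M : Submonoid (L ⊗[k] K) := Submonoid.map γ (nonZeroDivisors (Polynomial K))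
  have hj : ∀ c : k, j (algebraMap k K c) =
      algebraMap kt Kt (algebraMap (Polynomial k) kt (C c)) := by
    intro c
    rw [hcompat, Polynomial.map_C, hjdef]
  letI algkB : Algebra k (L ⊗[kt] Kt) :=
    ((Algebra.TensorProduct.includeLeftRingHom : L →+* L ⊗[kt] Kt).comp (algebraMap k L)).toAlgebra
  let f₁ : L →ₐ[k] L ⊗[kt] Kt :=
    { (Algebra.TensorProduct.includeLeftRingHom : L →+* L ⊗[kt] Kt) with
      commutes' := fun r => rfl }
  let f₂ : K →ₐ[k] L ⊗[kt] Kt :=
    { ((Algebra.TensorProduct.includeRight : Kt →ₐ[kt] L ⊗[kt] Kt).toRingHom.comp j) with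
      commutes' := fun c => by
        show (1 : L) ⊗ₜ[kt] j (algebraMap k K c) = (algebraMap k L c) ⊗ₜ[kt] (1 : Kt)
        rw [hj, hkL, Algebra.algebraMap_eq_smul_one,
          Algebra.algebraMap_eq_smul_one (A := L)]
        exact (TensorProduct.smul_tmul _ _ _).symm }
  obtain ⟨φ, hφ⟩ : ∃ φ : L ⊗[k] K →+* L ⊗[kt] Kt, ∀ (l : L) (a : K), φ (l ⊗ₜ[k] a) = l ⊗ₜ[kt] j a := by
    refine ⟨(Algebra.TensorProduct.productMap f₁ f₂).toRingHom, ?_⟩
    intro l a
    show (Algebra.TensorProduct.productMap f₁ f₂) (l ⊗ₜ[k] a) = _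
    rw [Algebra.TensorProduct.productMap_apply_tmul]
    show (l ⊗ₜ[kt] (1 : Kt)) * ((1 : L) ⊗ₜ[kt] j a) = _
    rw [Algebra.TensorProduct.tmul_mul_tmul, mul_one, one_mul]
  have hφγ : ∀ p : Polynomial K, φ (γ p) = (1 : L) ⊗ₜ[kt] algebraMap (Polynomial K) Kt p := by
    intro p
    have : (φ.comp γ) = (Algebra.TensorProduct.includeRight :
        Kt →ₐ[kt] L ⊗[kt] Kt).toRingHom.comp (algebraMap (Polynomial K) Kt) := by
      apply Polynomial.ringHom_ext
      · intro a
        show φ (γ (C a)) = (1 : L) ⊗ₜ[kt] algebraMap (Polynomial K) Kt (C a)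
        rw [hγC, hφ, hjdef]
      · show φ (γ X) = (1 : L) ⊗ₜ[kt] algebraMap (Polynomial K) Kt X
        rw [hγX, hφ, map_one]
        have h2 : algebraMap (Polynomial K) Kt X =
            algebraMap kt Kt (algebraMap (Polynomial k) kt X) := by
          rw [hcompat, Polynomial.map_X]
        rw [h2, htL, Algebra.algebraMap_eq_smul_one,
          Algebra.algebraMap_eq_smul_one (A := Kt)]
        exact TensorProduct.smul_tmul _ _ _
    exact RingHom.congr_fun this p
  have hunit : ∀ y : M, IsUnit (φ y) := by
    rintro ⟨y, p, hp, rfl⟩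
    show IsUnit (φ (γ p))
    rw [hφγ]
    have hp0 : algebraMap (Polynomial K) Kt p ≠ 0 := by
      intro h0
      have := (IsFractionRing.injective (Polynomial K) Kt) (h0.trans (map_zero _).symm)
      exact nonZeroDivisors.ne_zero hp this
    exact (IsUnit.mk0 _ hp0).map (Algebra.TensorProduct.includeRight : Kt →ₐ[kt] L ⊗[kt] Kt)
  let β : Localization M →+* L ⊗[kt] Kt := IsLocalization.lift (M := M) (S := Localization M) hunit
  have hβ : ∀ z : L ⊗[k] K, β (algebraMap _ (Localization M) z) = φ z :=
    fun z => IsLocalization.lift_eq hunit z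
  let lam : L →+* Localization M :=
    (algebraMap (L ⊗[k] K) (Localization M)).comp (Algebra.TensorProduct.includeLeftRingHom)
  have hψunit : ∀ y : nonZeroDivisors (Polynomial K),
      IsUnit (((algebraMap (L ⊗[k] K) (Localization M)).comp γ) y) := by
    intro y
    exact IsLocalization.map_units (Localization M)
      (⟨γ y, Submonoid.mem_map_of_mem γ y.2⟩ : M)
  let ψ : Kt →+* Localization M :=
    IsLocalization.lift (M := nonZeroDivisors (Polynomial K)) (S := Kt) hψunit
  have hψ : ∀ p : Polynomial K, ψ (algebraMap _ Kt p) = algebraMap _ (Localization M) (γ p) :=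
    fun p => IsLocalization.lift_eq hψunit p
  letI algB' : Algebra kt (Localization M) := (lam.comp (algebraMap kt L)).toAlgebra
  let lamA : L →ₐ[kt] Localization M := { lam with commutes' := fun r => rfl }
  have hγ : ∀ p : Polynomial k, γ (p.map (algebraMap k K)) =
      (algebraMap kt L (algebraMap (Polynomial k) kt p)) ⊗ₜ[k] (1 : K) := by
    intro p
    have : γ.comp (Polynomial.mapRingHom (algebraMap k K)) =
        (Algebra.TensorProduct.includeLeftRingHom : L →+* L ⊗[k] K).comp
          ((algebraMap kt L).comp (algebraMap (Polynomial k) kt)) := by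
      apply Polynomial.ringHom_ext
      · intro c
        show γ ((C c).map (algebraMap k K)) =
          (algebraMap kt L (algebraMap (Polynomial k) kt (C c))) ⊗ₜ[k] (1 : K)
        rw [Polynomial.map_C, ← hkL, hγC, Algebra.algebraMap_eq_smul_one,
          Algebra.algebraMap_eq_smul_one (A := L)]
        exact (TensorProduct.smul_tmul _ _ _).symm
      · show γ ((X : Polynomial k).map (algebraMap k K)) =
          (algebraMap kt L (algebraMap (Polynomial k) kt X)) ⊗ₜ[k] (1 : K)
        rw [Polynomial.map_X, hγX, htL]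
    exact RingHom.congr_fun this p
  have hcomm : ψ.comp (algebraMap kt Kt) = lam.comp (algebraMap kt L) := by
    apply IsLocalization.ringHom_ext (nonZeroDivisors (Polynomial k))
    apply RingHom.ext
    intro p
    show ψ (algebraMap kt Kt (algebraMap (Polynomial k) kt p)) =
      lam (algebraMap kt L (algebraMap (Polynomial k) kt p))
    rw [hcompat, hψ, hγ]; rfl
  let ψA : Kt →ₐ[kt] Localization M :=
    { ψ with commutes' := fun r => RingHom.congr_fun hcomm r }
  let α : L ⊗[kt] Kt →ₐ[kt] Localization M := Algebra.TensorProduct.productMap lamA ψA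
  have hβψ : ∀ x : Kt, β (ψ x) = (1 : L) ⊗ₜ[kt] x := by
    have : β.comp ψ = (Algebra.TensorProduct.includeRight : Kt →ₐ[kt] L ⊗[kt] Kt).toRingHom := by
      apply IsLocalization.ringHom_ext (nonZeroDivisors (Polynomial K))
      apply RingHom.ext
      intro p
      show β (ψ (algebraMap _ Kt p)) = (1 : L) ⊗ₜ[kt] algebraMap _ Kt p
      rw [hψ, hβ, hφγ]
    exact fun x => RingHom.congr_fun this x
  have hβα : ∀ z : L ⊗[kt] Kt, β (α z) = z := by
    intro z
    induction z using TensorProduct.induction_on with
    | zero => simp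
    | tmul l x =>
      have h1 : α (l ⊗ₜ[kt] x) = lam l * ψ x := by
        simp only [α, Algebra.TensorProduct.productMap_apply_tmul]; rfl
      have h2 : β (lam l) = l ⊗ₜ[kt] (1 : Kt) := by
        show β (algebraMap _ (Localization M) (l ⊗ₜ[k] (1 : K))) = _
        rw [hβ, hφ, map_one]
      rw [h1, map_mul, hβψ, h2, Algebra.TensorProduct.tmul_mul_tmul, mul_one, one_mul]
    | add a b ha hb => rw [map_add, map_add, ha, hb]
  have hinj : Function.Injective α.toRingHom := by
    intro a b hab
    have h1 : β (α a) = β (α b) := congrArg β hab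
    rwa [hβα, hβα] at h1
  haveI : Nontrivial (L ⊗[kt] Kt) :=
    Algebra.TensorProduct.nontrivial_of_algebraMap_injective_of_isDomain kt L Kt
      (algebraMap kt L).injective (algebraMap kt Kt).injective
  haveI : Nontrivial (Localization M) := β.domain_nontrivial
  have hB' : PN (Localization M) := PN_localization M hA
  exact PN_of_injective α.toRingHom hinj hB'

theorem backward {k K : Type u} [Field k] [Field K] [Algebra k K]
    (kt Kt : Type u) [Field kt] [Field Kt] [Algebra (Polynomial k) kt]
    [IsFractionRing (Polynomial k) kt]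
    [Algebra (Polynomial K) Kt] [IsFractionRing (Polynomial K) Kt]
    [Algebra kt Kt] (hcompat : ∀ p : Polynomial k, algebraMap kt Kt (algebraMap (Polynomial k) kt p) =
      algebraMap (Polynomial K) Kt (Polynomial.map (algebraMap k K) p))
    (hsc : ∀ b : Kt, IsSeparable kt b → b ∈ Set.range (algebraMap kt Kt))
    (α : K) (hα : IsSeparable k α) : α ∈ Set.range (algebraMap k K) := by
  obtain ⟨j, hjdef⟩ : ∃ j : K →+* Kt, ∀ a, j a = algebraMap (Polynomial K) Kt (C a) :=
    ⟨(algebraMap (Polynomial K) Kt).comp C, fun _ => rfl⟩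
  obtain ⟨ι, hιdef⟩ : ∃ ι : k →+* kt, ∀ a, ι a = algebraMap (Polynomial k) kt (C a) :=
    ⟨(algebraMap (Polynomial k) kt).comp C, fun _ => rfl⟩
  have hji : ∀ c : k, j (algebraMap k K c) = algebraMap kt Kt (ι c) := by
    intro c
    rw [hjdef, hιdef, hcompat, Polynomial.map_C]
  have hsep : IsSeparable kt (j α) := by
    have hf : (minpoly k α).Separable := hα
    have hg : ((minpoly k α).map ι).Separable := hf.map
    have hroot : Polynomial.aeval (j α) ((minpoly k α).map ι) = 0 := by
      rw [Polynomial.aeval_def, Polynomial.eval₂_map]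
      have : (algebraMap kt Kt).comp ι = j.comp (algebraMap k K) := by
        ext c; exact (hji c).symm
      rw [this, ← Polynomial.hom_eval₂, ← Polynomial.aeval_def, minpoly.aeval, map_zero]
    exact hg.of_dvd (minpoly.dvd kt (j α) hroot)
  obtain ⟨r, hr⟩ := hsc _ hsep
  obtain ⟨⟨p, q⟩, hpq⟩ := IsLocalization.surj (nonZeroDivisors (Polynomial k)) r
  simp only at hpq
  have hq0 : (q : Polynomial k) ≠ 0 := nonZeroDivisors.ne_zero q.2
  have h1 : algebraMap (Polynomial K) Kt (C α * (q : Polynomial k).map (algebraMap k K)) =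
      algebraMap (Polynomial K) Kt (p.map (algebraMap k K)) := by
    rw [map_mul, ← hcompat, ← hcompat, ← hpq, map_mul, hr, hjdef]
  have h2 := IsFractionRing.injective (Polynomial K) Kt h1
  have h3 := congrArg (fun f => f.coeff (q : Polynomial k).natDegree) h2
  simp only [Polynomial.coeff_C_mul, Polynomial.coeff_map] at h3
  have hlc : (q : Polynomial k).coeff (q : Polynomial k).natDegree ≠ 0 := by
    rw [Polynomial.coeff_natDegree]; exact Polynomial.leadingCoeff_ne_zero.mpr hq0
  refine ⟨p.coeff (q : Polynomial k).natDegree /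
    (q : Polynomial k).coeff (q : Polynomial k).natDegree, ?_⟩
  rw [map_div₀, ← h3, mul_div_assoc, div_self ((_root_.map_ne_zero _).mpr hlc), mul_one]

theorem main_aux {k K : Type u} [Field k] [Field K] [Algebra k K]
    (kt Kt : Type u) [Field kt] [Field Kt] [Algebra (Polynomial k) kt] [IsFractionRing (Polynomial k) kt] [Algebra (Polynomial K) Kt] [IsFractionRing (Polynomial K) Kt]
    [Algebra kt Kt] (hcompat : ∀ p : Polynomial k, algebraMap kt Kt (algebraMap (Polynomial k) kt p) = algebraMap (Polynomial K) Kt (Polynomial.map (algebraMap k K) p)) :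
    (∀ (k' : Type u) [Field k'] [Algebra k k'], IrreducibleSpace (PrimeSpectrum (k' ⊗[k] K))) ↔
      ∀ (L : Type u) [Field L] [Algebra kt L], IrreducibleSpace (PrimeSpectrum (L ⊗[kt] Kt)) := by
  refine Iff.trans (Groth.Agent.S2150.result (k := k) (K := K)) ?_
  constructor
  · intro hsc L _ _
    rw [PrimeSpectrum.irreducibleSpace_iff_isPrime_nilradical]
    letI : Algebra k L :=
      ((algebraMap kt L).comp ((algebraMap (Polynomial k) kt).comp C)).toAlgebra
    have hA : PN (L ⊗[k] K) := Groth.Agent.S2150.PN_of_sepClosedIn hsc L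
    exact forward kt Kt hcompat L (fun c => rfl) hA
  · intro H
    have H' := (Groth.Agent.S2150.result (k := kt) (K := Kt)).mp H
    exact fun α hα => backward kt Kt hcompat H' α hα

end Aux

open TensorProduct in
/-- Let K/k be a field extension and let k(t) ⊆ K(t) be the purely transcendental extensions in one
variable, realised as fraction fields of k[t] and K[t] compatibly with k[t] → K[t]. Then K is
geometrically irreducible over k (Spec(k' ⊗_k K) irreducible for every field extension k'/k) if and
only if K(t) is geometrically irreducible over k(t). Here the test fields range over field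
extensions of k, respectively of k(t), in the universe of k; this is equivalent to the unrestricted
notions, since an algebraic closure of the base field suffices as a test. -/
theorem result {k K : Type u} [Field k] [Field K] [Algebra k K]
    (kt Kt : Type u) [Field kt] [Field Kt] [Algebra (Polynomial k) kt] [IsFractionRing (Polynomial k) kt] [Algebra (Polynomial K) Kt] [IsFractionRing (Polynomial K) Kt]
    [Algebra kt Kt] (hcompat : ∀ p : Polynomial k, algebraMap kt Kt (algebraMap (Polynomial k) kt p) = algebraMap (Polynomial K) Kt (Polynomial.map (algebraMap k K) p)) :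
    (∀ (k' : Type u) [Field k'] [Algebra k k'], IrreducibleSpace (PrimeSpectrum (k' ⊗[k] K))) ↔
      ∀ (L : Type u) [Field L] [Algebra kt L], IrreducibleSpace (PrimeSpectrum (L ⊗[kt] Kt)) := by
  exact main_aux kt Kt hcompat

end Groth.Agent.S9657
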