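import Groth.Statements.S9658
import Mathlib

set_option autoImplicit false
universe u
open CAlg

namespace Groth.Agent.S9658

/-- Let R be a ring, f_1, …, f_n ∈ R generating the unit ideal and M an R-module. With M_i = M_{f_i},
M_ij = M_{f_i f_j} (any localizations, with the canonical compatible maps M → M_i → M_ij), the
sequence 0 → M → ⊕ M_i → ⊕ M_ij is exact: an element of M whose image vanishes in every M_i is zero,
and every family (m_i ∈ M_i) such that m_i and m_j have the same image in M_ij for all i, j is the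
image of an element of M. -/
theorem result {R : Type u} [CommRing R] {ι : Type u} [Fintype ι] (f : ι → R) (hf : Ideal.span (Set.range f) = ⊤)
    (M : Type u) [AddCommGroup M] [Module R M]
    (Mi : ι → Type u) [∀ i, AddCommGroup (Mi i)] [∀ i, Module R (Mi i)] (g : ∀ i, M →ₗ[R] Mi i) [∀ i, IsLocalizedModule (Submonoid.powers (f i)) (g i)]
    (Mij : ι → ι → Type u) [∀ i j, AddCommGroup (Mij i j)] [∀ i j, Module R (Mij i j)] (gij : ∀ i j, M →ₗ[R] Mij i j) [∀ i j, IsLocalizedModule (Submonoid.powers (f i * f j)) (gij i j)]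
    (ρ₁ : ∀ i j, Mi i →ₗ[R] Mij i j) (hρ₁ : ∀ i j, ρ₁ i j ∘ₗ g i = gij i j) (ρ₂ : ∀ i j, Mi j →ₗ[R] Mij i j) (hρ₂ : ∀ i j, ρ₂ i j ∘ₗ g j = gij i j) :
    (∀ m : M, (∀ i, g i m = 0) → m = 0) ∧
      ∀ s : ∀ i, Mi i, (∀ i j, ρ₁ i j (s i) = ρ₂ i j (s j)) → ∃ m : M, ∀ i, g i m = s i := by
  classical
  constructor
  · intro m hm
    have : m ∈ (⊥ : Submodule R M) := by
      apply Submodule.mem_of_span_eq_top_of_smul_pow_mem ⊥ (Set.range f) hf m
      rintro ⟨_, i, rfl⟩
      obtain ⟨⟨_, k, rfl⟩, hc⟩ :=
        (IsLocalizedModule.eq_zero_iff (Submonoid.powers (f i)) (g i)).mp (hm i)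
      refine ⟨k, ?_⟩
      rw [Submodule.mem_bot]
      exact hc
    simpa using this
  · intro s hs
    have h1 : ∀ i, ∃ (mi : M) (ni : ℕ), f i ^ ni • s i = g i mi := by
      intro i
      obtain ⟨⟨mi, ⟨_, ni, rfl⟩⟩, h⟩ :=
        IsLocalizedModule.surj (Submonoid.powers (f i)) (g i) (s i)
      exact ⟨mi, ni, h⟩
    choose mi ni hmi using h1
    have hni : ∀ i, ni i ≤ Finset.univ.sup ni := fun i => Finset.le_sup (Finset.mem_univ i)
    generalize Finset.univ.sup ni = n at hni
    have h1' : ∀ i, ∃ m'i : M, f i ^ n • s i = g i m'i := by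
      intro i
      refine ⟨f i ^ (n - ni i) • mi i, ?_⟩
      rw [map_smul, ← hmi i, smul_smul, ← pow_add, Nat.sub_add_cancel (hni i)]
    choose m' hm' using h1'
    have h2 : ∀ i j, ∃ N : ℕ, (f i * f j) ^ N • (f j ^ n • m' i - f i ^ n • m' j) = 0 := by
      intro i j
      have e1 : gij i j (m' i) = f i ^ n • ρ₁ i j (s i) := by
        rw [← hρ₁ i j, LinearMap.comp_apply, ← hm' i, map_smul]
      have e2 : gij i j (m' j) = f j ^ n • ρ₁ i j (s i) := by
        rw [← hρ₂ i j, LinearMap.comp_apply, ← hm' j, map_smul, hs i j]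
      have e : gij i j (f j ^ n • m' i - f i ^ n • m' j) = 0 := by
        rw [map_sub, map_smul, map_smul, e1, e2, smul_comm, sub_self]
      obtain ⟨⟨_, N, rfl⟩, hc⟩ :=
        (IsLocalizedModule.eq_zero_iff (Submonoid.powers (f i * f j)) (gij i j)).mp e
      exact ⟨N, hc⟩
    choose Nij hNij using h2
    have hNle : ∀ i j, Nij i j ≤
        Finset.univ.sup (fun i => Finset.univ.sup (fun j => Nij i j)) := fun i j =>
      (Finset.le_sup (f := fun j => Nij i j) (Finset.mem_univ j)).trans
        (Finset.le_sup (f := fun i => Finset.univ.sup (fun j => Nij i j)) (Finset.mem_univ i))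
    generalize Finset.univ.sup (fun i => Finset.univ.sup (fun j => Nij i j)) = N at hNle
    have h3 : ∀ i j, (f i * f j) ^ N • (f j ^ n • m' i) = (f i * f j) ^ N • (f i ^ n • m' j) := by
      intro i j
      have h' : (f i * f j) ^ N • (f j ^ n • m' i - f i ^ n • m' j) = 0 := by
        rw [← Nat.sub_add_cancel (hNle i j), pow_add, mul_smul, hNij i j, smul_zero]
      rwa [smul_sub, sub_eq_zero] at h'
    have hspan : Ideal.span (Set.range (fun i => f i ^ (n + N))) = ⊤ := by
      have := Ideal.span_pow_eq_top (Set.range f) hf (n + N)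
      rwa [← Set.range_comp] at this
    have hone : (1 : R) ∈ Ideal.span (Set.range (fun i => f i ^ (n + N))) := by
      rw [hspan]; exact Submodule.mem_top
    obtain ⟨a, ha⟩ := (Ideal.mem_span_range_iff_exists_fun).mp hone
    refine ⟨∑ i, a i • f i ^ N • m' i, fun j => ?_⟩
    have hsum : f j ^ (n + N) • (∑ i, a i • f i ^ N • m' i) = f j ^ N • m' j := by
      rw [Finset.smul_sum]
      have hterm : ∀ i, f j ^ (n + N) • a i • f i ^ N • m' i =
          (a i * f i ^ (n + N)) • f j ^ N • m' j := by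
        intro i
        calc f j ^ (n + N) • a i • f i ^ N • m' i
            = a i • ((f i * f j) ^ N • (f j ^ n • m' i)) := by
              simp only [smul_smul]; congr 1; ring
          _ = a i • ((f i * f j) ^ N • (f i ^ n • m' j)) := by rw [h3 i j]
          _ = (a i * f i ^ (n + N)) • f j ^ N • m' j := by
              simp only [smul_smul]; congr 1; ring
      simp_rw [hterm]
      rw [← Finset.sum_smul, ha, one_smul]
    have hinj := IsLocalizedModule.smul_injective (g j)
      (⟨f j ^ (n + N), n + N, rfl⟩ : Submonoid.powers (f j))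
    apply hinj
    show f j ^ (n + N) • g j (∑ i, a i • f i ^ N • m' i) = f j ^ (n + N) • s j
    rw [← map_smul, hsum, map_smul, ← hm' j, smul_smul, ← pow_add, Nat.add_comm]

end Groth.Agent.S9658
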