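import Groth.Statements.S9663
import Mathlib

set_option autoImplicit false
universe u
open CAlg

namespace Groth.Agent.S9663


section helpers
variable {R : Type*} [CommRing R]

lemma loc_ker {A B : Type*} [AddCommGroup A] [Module R A] [AddCommGroup B] [Module R B]
    (r : R) (gl : A →ₗ[R] B) [IsLocalizedModule (Submonoid.powers r) gl] (x : A) (hx : gl x = 0) :
    ∃ n : ℕ, r ^ n • x = 0 := by
  obtain ⟨⟨c, n, rfl⟩, hc⟩ := (IsLocalizedModule.eq_zero_iff (Submonoid.powers r) gl).1 hx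
  exact ⟨n, hc⟩

lemma loc_surj {A B : Type*} [AddCommGroup A] [Module R A] [AddCommGroup B] [Module R B]
    (r : R) (gl : A →ₗ[R] B) [IsLocalizedModule (Submonoid.powers r) gl] (y : B) :
    ∃ (x : A) (n : ℕ), r ^ n • y = gl x := by
  obtain ⟨⟨x, ⟨c, n, rfl⟩⟩, hx⟩ := IsLocalizedModule.surj (Submonoid.powers r) gl y
  exact ⟨x, n, hx⟩

lemma loc_smul_inj {A B : Type*} [AddCommGroup A] [Module R A] [AddCommGroup B] [Module R B]
    (r : R) (gl : A →ₗ[R] B) [IsLocalizedModule (Submonoid.powers r) gl] (n : ℕ) (y : B)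
    (hy : r ^ n • y = 0) : y = 0 := by
  have h := IsLocalizedModule.smul_injective gl (⟨r ^ n, n, rfl⟩ : Submonoid.powers r)
  apply h
  show r ^ n • y = r ^ n • (0 : B)
  rw [hy, smul_zero]

lemma loc_ker_comp {A B C : Type*} [AddCommGroup A] [Module R A] [AddCommGroup B] [Module R B]
    [AddCommGroup C] [Module R C]
    (r s : R) (gl : A →ₗ[R] B) [IsLocalizedModule (Submonoid.powers r) gl]
    (tl : A →ₗ[R] C) [IsLocalizedModule (Submonoid.powers (s * r)) tl]
    (h : B →ₗ[R] C) (hh : h ∘ₗ gl = tl) (x : B) (hx : h x = 0) : ∃ n : ℕ, s ^ n • x = 0 := by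
  obtain ⟨w, p, hw⟩ := loc_surj r gl x
  have h1 : tl w = 0 := by
    rw [← hh, LinearMap.comp_apply, ← hw, map_smul, hx, smul_zero]
  obtain ⟨q, hq⟩ := loc_ker (s * r) tl w h1
  refine ⟨q, ?_⟩
  apply loc_smul_inj r gl (q + p)
  calc r ^ (q + p) • (s ^ q • x) = (s * r) ^ q • (r ^ p • x) := by
        rw [smul_smul, smul_smul]; congr 1; ring
    _ = gl ((s * r) ^ q • w) := by rw [hw, map_smul]
    _ = 0 := by rw [hq, map_zero]

end helpers

/-- Let R be a ring and f_i, i in a finite index set, elements of R (no condition on the ideal they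
generate). Suppose given for each i an R-module M_i on which f_i acts invertibly, for each pair (i,
j) an R-linear isomorphism ψ_ij : (M_i)_{f_j} → (M_j)_{f_i}, and suppose the cocycle condition ψ_jk
∘ ψ_ij = ψ_ik holds as maps (M_i)_{f_j f_k} → (M_k)_{f_i f_j} for all triples (i, j, k). All
localizations are given through their universal properties: (M_i)_{f_j} with its map g from M_i;
(M_i)_{f_j f_k} with its map t from M_i and the compatible maps u from (M_i)_{f_j} and v from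
(M_i)_{f_k}; and the three localized isomorphisms Ψ₁ (ψ_ij on (M_i)_{f_j f_k}), Ψ₂ (ψ_jk on
(M_j)_{f_i f_k}) and Ψ₃ (ψ_ik on (M_i)_{f_j f_k}) are given as maps compatible with the ψ's. Let M ⊆
Π_i M_i be the submodule of families (m_i) with m_i/1 = ψ_ji(m_j/1) in (M_i)_{f_j} for all i, j.
Then for each i the projection M → M_i exhibits M_i as the localization of M at f_i. -/
theorem result {R : Type u} [CommRing R] {ι : Type u} [Finite ι] (f : ι → R)
    (Mi : ι → Type u) [∀ i, AddCommGroup (Mi i)] [∀ i, Module R (Mi i)]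
    (hMi : ∀ i, IsUnit (algebraMap R (Module.End R (Mi i)) (f i)))
    (Mij : ι → ι → Type u) [∀ i j, AddCommGroup (Mij i j)] [∀ i j, Module R (Mij i j)]
    (g : ∀ i j, Mi i →ₗ[R] Mij i j) [∀ i j, IsLocalizedModule (Submonoid.powers (f j)) (g i j)]
    (ψ : ∀ i j, Mij i j ≃ₗ[R] Mij j i)
    (T : ι → ι → ι → Type u) [∀ i j k, AddCommGroup (T i j k)] [∀ i j k, Module R (T i j k)]
    (t : ∀ i j k, Mi i →ₗ[R] T i j k) [∀ i j k, IsLocalizedModule (Submonoid.powers (f j * f k)) (t i j k)]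
    (u : ∀ i j k, Mij i j →ₗ[R] T i j k) (hu : ∀ i j k, u i j k ∘ₗ g i j = t i j k)
    (v : ∀ i j k, Mij i k →ₗ[R] T i j k) (hv : ∀ i j k, v i j k ∘ₗ g i k = t i j k)
    (Ψ₁ : ∀ i j k, T i j k →ₗ[R] T j i k) (hΨ₁ : ∀ i j k, Ψ₁ i j k ∘ₗ u i j k = u j i k ∘ₗ (ψ i j).toLinearMap)
    (Ψ₂ : ∀ i j k, T j i k →ₗ[R] T k i j) (hΨ₂ : ∀ i j k, Ψ₂ i j k ∘ₗ v j i k = v k i j ∘ₗ (ψ j k).toLinearMap)
    (Ψ₃ : ∀ i j k, T i j k →ₗ[R] T k i j) (hΨ₃ : ∀ i j k, Ψ₃ i j k ∘ₗ v i j k = u k i j ∘ₗ (ψ i k).toLinearMap)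
    (hcoc : ∀ i j k, Ψ₂ i j k ∘ₗ Ψ₁ i j k = Ψ₃ i j k)
    (M : Submodule R (∀ i, Mi i)) (hM : ∀ m : ∀ i, Mi i, m ∈ M ↔ ∀ i j, g i j (m i) = ψ j i (g j i (m j))) (i : ι) :
    IsLocalizedModule (Submonoid.powers (f i)) ((LinearMap.proj i).comp M.subtype : ↥M →ₗ[R] Mi i) := by
  classical
  cases nonempty_fintype ι
  have hinj : ∀ (j : ι) (n : ℕ) (x : Mi j), f j ^ n • x = 0 → x = 0 := by
    intro j n x hx
    have hu' : IsUnit (algebraMap R (Module.End R (Mi j)) (f j ^ n)) := by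
      rw [map_pow]; exact (hMi j).pow n
    have hb := (Module.End.isUnit_iff _).1 hu'
    apply hb.1
    rw [Module.algebraMap_end_apply, Module.algebraMap_end_apply, hx, smul_zero]
  -- ψ i i = id
  have hψii : ∀ x : Mij i i, ψ i i x = x := by
    intro x
    have gsurj : ∀ z : Mij i i, ∃ x' : Mi i, g i i x' = z := by
      intro z
      obtain ⟨x₀, n, hx₀⟩ := loc_surj (f i) (g i i) z
      have hu' : IsUnit (algebraMap R (Module.End R (Mi i)) (f i ^ n)) := by
        rw [map_pow]; exact (hMi i).pow n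
      obtain ⟨x', hx'⟩ := ((Module.End.isUnit_iff _).1 hu').2 x₀
      rw [Module.algebraMap_end_apply] at hx'
      refine ⟨x', ?_⟩
      have h0 : f i ^ n • (g i i x' - z) = 0 := by
        rw [smul_sub, ← map_smul, hx', hx₀, sub_self]
      exact sub_eq_zero.1 (loc_smul_inj (f i) (g i i) n _ h0)
    have hUV : ∀ z : Mij i i, u i i i z = v i i i z := by
      intro z
      obtain ⟨x', rfl⟩ := gsurj z
      have h1 := LinearMap.congr_fun (hu i i i) x'
      have h2 := LinearMap.congr_fun (hv i i i) x'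
      rw [LinearMap.comp_apply] at h1 h2
      rw [h1, h2]
    have hUinj : ∀ z : Mij i i, u i i i z = 0 → z = 0 := by
      intro z hz
      obtain ⟨x', rfl⟩ := gsurj z
      have h1 := LinearMap.congr_fun (hu i i i) x'
      rw [LinearMap.comp_apply] at h1
      rw [h1] at hz
      obtain ⟨n, hn⟩ := loc_ker (f i * f i) (t i i i) x' hz
      have h2 : f i ^ (2 * n) • x' = 0 := by
        rw [← hn]; congr 1; ring
      rw [hinj i (2 * n) x' h2, map_zero]
    have c1 : Ψ₂ i i i (Ψ₁ i i i (v i i i x)) = Ψ₃ i i i (v i i i x) :=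
      LinearMap.congr_fun (hcoc i i i) (v i i i x)
    have e1 : Ψ₁ i i i (u i i i x) = u i i i (ψ i i x) := LinearMap.congr_fun (hΨ₁ i i i) x
    have e2 : ∀ z, Ψ₂ i i i (v i i i z) = v i i i (ψ i i z) :=
      fun z => LinearMap.congr_fun (hΨ₂ i i i) z
    have e3 : Ψ₃ i i i (v i i i x) = u i i i (ψ i i x) := LinearMap.congr_fun (hΨ₃ i i i) x
    have key : u i i i (ψ i i (ψ i i x)) = u i i i (ψ i i x) := by
      calc u i i i (ψ i i (ψ i i x)) = v i i i (ψ i i (ψ i i x)) := hUV _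
        _ = Ψ₂ i i i (v i i i (ψ i i x)) := (e2 _).symm
        _ = Ψ₂ i i i (u i i i (ψ i i x)) := by rw [hUV]
        _ = Ψ₂ i i i (Ψ₁ i i i (u i i i x)) := by rw [e1]
        _ = Ψ₂ i i i (Ψ₁ i i i (v i i i x)) := by rw [hUV x]
        _ = Ψ₃ i i i (v i i i x) := c1
        _ = u i i i (ψ i i x) := e3
    have h3 : ψ i i (ψ i i x) = ψ i i x := by
      have h4 := hUinj (ψ i i (ψ i i x) - ψ i i x) (by rw [map_sub, key, sub_self])
      exact sub_eq_zero.1 h4
    exact (ψ i i).injective h3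
  have hker : ∀ m : M, (m : ∀ j, Mi j) i = 0 → ∃ N : ℕ, f i ^ N • m = 0 := by
    intro m hm
    have hmem := (hM m.1).1 m.2
    have h1 : ∀ j, ∃ n : ℕ, f i ^ n • (m.1 j) = 0 := by
      intro j
      have h2 := hmem j i
      rw [hm, map_zero, map_zero] at h2
      exact loc_ker (f i) (g j i) _ h2
    choose n hn using h1
    refine ⟨Finset.univ.sup n, ?_⟩
    apply Subtype.ext
    funext j
    show f i ^ (Finset.univ.sup n) • (m.1 j) = 0
    have hle : n j ≤ Finset.univ.sup n := Finset.le_sup (Finset.mem_univ j)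
    rw [← Nat.sub_add_cancel hle, pow_add, mul_smul, hn j, smul_zero]
  refine ⟨?_, ?_, ?_⟩
  · rintro ⟨s, n, rfl⟩
    show IsUnit (algebraMap R (Module.End R (Mi i)) (f i ^ n))
    rw [map_pow]; exact (hMi i).pow n
  · intro y
    have hA : ∀ j, ∃ (z : Mi j) (n : ℕ), f i ^ n • ψ i j (g i j y) = g j i z :=
      fun j => loc_surj (f i) (g j i) _
    choose z n hz using hA
    let N₁ := Finset.univ.sup n
    obtain ⟨z', hz'⟩ : ∃ z' : ∀ j, Mi j, ∀ j, f i ^ N₁ • ψ i j (g i j y) = g j i (z' j) := by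
      refine ⟨fun j => f i ^ (N₁ - n j) • z j, fun j => ?_⟩
      have hle : n j ≤ N₁ := Finset.le_sup (Finset.mem_univ j)
      show _ = g j i (f i ^ (N₁ - n j) • z j)
      rw [map_smul, ← hz j, smul_smul, ← pow_add, Nat.sub_add_cancel hle]
    have hB : ∀ j k, ∃ q : ℕ, f i ^ q • (g j k (z' j) - ψ k j (g k j (z' k))) = 0 := by
      intro j k
      apply loc_ker_comp (f k) (f i) (g j k) (t j i k) (v j i k) (hv j i k)
      rw [map_sub, sub_eq_zero]
      have L : v j i k (g j k (z' j)) = f i ^ N₁ • u j i k (ψ i j (g i j y)) := by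
        have h1 := LinearMap.congr_fun (hv j i k) (z' j)
        have h2 := LinearMap.congr_fun (hu j i k) (z' j)
        rw [LinearMap.comp_apply] at h1 h2
        rw [h1, ← h2, ← hz' j, map_smul]
      have Rr : v j i k (ψ k j (g k j (z' k))) =
          f i ^ N₁ • Ψ₂ i k j (Ψ₁ i k j (u i k j (g i k y))) := by
        have h0 : Ψ₂ i k j (v k i j (g k j (z' k))) = v j i k (ψ k j (g k j (z' k))) :=
          LinearMap.congr_fun (hΨ₂ i k j) _
        have h1 := LinearMap.congr_fun (hv k i j) (z' k)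
        have h2 := LinearMap.congr_fun (hu k i j) (z' k)
        rw [LinearMap.comp_apply] at h1 h2
        have h3 : Ψ₁ i k j (u i k j (g i k y)) = u k i j (ψ i k (g i k y)) :=
          LinearMap.congr_fun (hΨ₁ i k j) _
        rw [← h0, h1, ← h2, ← hz' k, map_smul, map_smul, h3]
      rw [L, Rr]
      congr 1
      have c : Ψ₂ i k j (Ψ₁ i k j (u i k j (g i k y))) = Ψ₃ i k j (u i k j (g i k y)) :=
        LinearMap.congr_fun (hcoc i k j) (u i k j (g i k y))
      have h4 : u i k j (g i k y) = v i k j (g i j y) := by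
        have h1 := LinearMap.congr_fun (hu i k j) y
        have h2 := LinearMap.congr_fun (hv i k j) y
        rw [LinearMap.comp_apply] at h1 h2
        rw [h1, h2]
      have h5 : Ψ₃ i k j (v i k j (g i j y)) = u j i k (ψ i j (g i j y)) :=
        LinearMap.congr_fun (hΨ₃ i k j) _
      rw [← h5, ← h4]
      exact c.symm
    choose q hq using hB
    let N₂ := Finset.univ.sup (fun j => Finset.univ.sup (fun k => q j k))
    let m : ∀ j, Mi j := fun j => f i ^ N₂ • z' j
    have hmM : m ∈ M := by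
      refine (hM m).2 (fun j k => ?_)
      show g j k (f i ^ N₂ • z' j) = ψ k j (g k j (f i ^ N₂ • z' k))
      rw [map_smul, map_smul, map_smul, ← sub_eq_zero, ← smul_sub]
      have hle : q j k ≤ N₂ :=
        le_trans (Finset.le_sup (f := fun k => q j k) (Finset.mem_univ k))
          (Finset.le_sup (f := fun j => Finset.univ.sup fun k => q j k) (Finset.mem_univ j))
      rw [← Nat.sub_add_cancel hle, pow_add, mul_smul, hq j k, smul_zero]
    have hzi : z' i = f i ^ N₁ • y := by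
      have h1 := hz' i
      rw [hψii] at h1
      have h2 : g i i (z' i - f i ^ N₁ • y) = 0 := by
        rw [map_sub, map_smul, h1, sub_self]
      obtain ⟨r, hr⟩ := loc_ker (f i) (g i i) _ h2
      exact sub_eq_zero.1 (hinj i r _ hr)
    refine ⟨(⟨m, hmM⟩, ⟨f i ^ (N₂ + N₁), N₂ + N₁, rfl⟩), ?_⟩
    show f i ^ (N₂ + N₁) • y = f i ^ N₂ • z' i
    rw [hzi, smul_smul, ← pow_add]
  · intro x₁ x₂ h
    obtain ⟨N, hN⟩ := hker (x₁ - x₂) (show x₁.1 i - x₂.1 i = 0 from sub_eq_zero.2 h)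
    refine ⟨⟨f i ^ N, N, rfl⟩, ?_⟩
    show f i ^ N • x₁ = f i ^ N • x₂
    rw [smul_sub, sub_eq_zero] at hN
    exact hN

end Groth.Agent.S9663
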