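import Groth.Statements.S9667
import Mathlib
import Groth.Agent.H20.TensorFG

set_option autoImplicit false
universe u
open CAlg

namespace Groth.Agent.S9667

open TensorProduct in
/-- Part (3): (B = B_fin): let R → S be a ring map with S Noetherian, N an S-module, M an R-module and q
a prime of S; an associated prime of a module is a prime ideal equal to the annihilator of some
element. If q is an associated prime of the S-module N ⊗_R M, then there is a finitely generated
R-submodule M' ⊆ M such that q is an associated prime of the S-module N ⊗_R M'. -/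
theorem result {R S : Type u} [CommRing R] [CommRing S] [Algebra R S] (N : Type u) [AddCommGroup N] [Module S N] [Module R N] [IsScalarTower R S N] [IsNoetherianRing S]
    (M : Type u) [AddCommGroup M] [Module R M] (q : Ideal S) [q.IsPrime] (h : q ∈ FlatCA.ass S (N ⊗[R] M)) :
    ∃ M' : Submodule R M, M'.FG ∧ q ∈ FlatCA.ass S (N ⊗[R] ↥M') := by
  obtain ⟨hqp, z, hz⟩ := h
  have key : ∀ I : Submodule S S, I.FG → I ≤ q →
      ∃ (M' : Submodule R M) (_ : M'.FG) (z' : N ⊗[R] ↥M'), M'.subtype.lTensor N z' = z ∧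
        ∀ a ∈ I, a • z' = 0 := by
    intro I hI
    refine Submodule.fg_induction (R := S) (M := S)
      (motive := fun I _ => I ≤ q →
        ∃ (M' : Submodule R M) (_ : M'.FG) (z' : N ⊗[R] ↥M'), M'.subtype.lTensor N z' = z ∧
          ∀ a ∈ I, a • z' = 0) ?_ ?_ I hI
    · intro a ha
      have haq : a ∈ q := ha (Submodule.mem_span_singleton_self a)
      have haz : a • z = 0 := by
        rw [hz] at haq
        exact (Submodule.mem_annihilator_span_singleton _ _).mp haq
      obtain ⟨M₀, hfin, hsub⟩ := TensorProduct.exists_finite_submodule_right_of_setFinite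
        ({z} : Set (N ⊗[R] M)) (Set.finite_singleton z)
      obtain ⟨z₀, hz₀⟩ := hsub (Set.mem_singleton z)
      have hM₀ : M₀.FG := Module.Finite.iff_fg.mp hfin
      have h0 : M₀.subtype.lTensor N (a • z₀) = 0 := by
        rw [Groth.Agent.H20.lTensor_smul_left, hz₀, haz]
      obtain ⟨Q, hPQ, hQ, hzero⟩ :=
        Groth.Agent.H20.lTensor_eq_zero_of_fg_of_subtype_eq_zero hM₀ h0
      refine ⟨Q, hQ, (Submodule.inclusion hPQ).lTensor N z₀, ?_, ?_⟩
      · rw [← LinearMap.comp_apply, ← LinearMap.lTensor_comp, Submodule.subtype_comp_inclusion,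
          hz₀]
      · intro b hb
        obtain ⟨c, rfl⟩ := Submodule.mem_span_singleton.mp hb
        rw [smul_eq_mul, mul_smul, ← Groth.Agent.H20.lTensor_smul_left, hzero, smul_zero]
    · intro I₁ I₂ _ _ h₁ h₂ hle
      obtain ⟨M₁, hM₁, z₁, hz₁, hI₁⟩ := h₁ (le_sup_left.trans hle)
      obtain ⟨M₂, hM₂, z₂, hz₂, hI₂⟩ := h₂ (le_sup_right.trans hle)
      have h12 : (M₁ ⊔ M₂).subtype.lTensor N
          ((Submodule.inclusion (le_sup_left : M₁ ≤ M₁ ⊔ M₂)).lTensor N z₁ -
            (Submodule.inclusion (le_sup_right : M₂ ≤ M₁ ⊔ M₂)).lTensor N z₂) = 0 := by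
        rw [map_sub, ← LinearMap.comp_apply, ← LinearMap.comp_apply, ← LinearMap.lTensor_comp,
          ← LinearMap.lTensor_comp, Submodule.subtype_comp_inclusion,
          Submodule.subtype_comp_inclusion, hz₁, hz₂, sub_self]
      obtain ⟨Q, hPQ, hQ, hzero⟩ :=
        Groth.Agent.H20.lTensor_eq_zero_of_fg_of_subtype_eq_zero (hM₁.sup hM₂) h12
      rw [map_sub, sub_eq_zero] at hzero
      refine ⟨Q, hQ, (Submodule.inclusion hPQ).lTensor N
        ((Submodule.inclusion (le_sup_left : M₁ ≤ M₁ ⊔ M₂)).lTensor N z₁), ?_, ?_⟩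
      · rw [← LinearMap.comp_apply, ← LinearMap.lTensor_comp, Submodule.subtype_comp_inclusion,
          ← LinearMap.comp_apply, ← LinearMap.lTensor_comp, Submodule.subtype_comp_inclusion, hz₁]
      · intro a ha
        obtain ⟨a₁, ha₁, a₂, ha₂, rfl⟩ := Submodule.mem_sup.mp ha
        rw [add_smul]
        have e1 : a₁ • (Submodule.inclusion hPQ).lTensor N
            ((Submodule.inclusion (le_sup_left : M₁ ≤ M₁ ⊔ M₂)).lTensor N z₁) = 0 := by
          rw [← Groth.Agent.H20.lTensor_smul_left, ← Groth.Agent.H20.lTensor_smul_left,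
            hI₁ a₁ ha₁, map_zero, map_zero]
        have e2 : a₂ • (Submodule.inclusion hPQ).lTensor N
            ((Submodule.inclusion (le_sup_left : M₁ ≤ M₁ ⊔ M₂)).lTensor N z₁) = 0 := by
          rw [hzero, ← Groth.Agent.H20.lTensor_smul_left, ← Groth.Agent.H20.lTensor_smul_left,
            hI₂ a₂ ha₂, map_zero, map_zero]
        rw [e1, e2, add_zero]
  obtain ⟨M', hM', z', hz', hann⟩ := key q (IsNoetherian.noetherian q) le_rfl
  refine ⟨M', hM', hqp, z', ?_⟩
  apply le_antisymm
  · intro a ha
    rw [Submodule.mem_annihilator_span_singleton]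
    exact hann a ha
  · intro a ha
    rw [Submodule.mem_annihilator_span_singleton] at ha
    rw [hz, Submodule.mem_annihilator_span_singleton, ← hz',
      ← Groth.Agent.H20.lTensor_smul_left, ha, map_zero]

end Groth.Agent.S9667
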