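import Groth.Statements.S9670
import Mathlib
import Groth.Agent.H20.FiberMod

set_option autoImplicit false
universe u
open CAlg

namespace Groth.Agent.S9670

section helpers

open TensorProduct

theorem ass_of_injective {S : Type*} [CommRing S] {X Y : Type*} [AddCommGroup X] [Module S X]
    [AddCommGroup Y] [Module S Y]
    (ψ : X → Y) (hψ : Function.Injective ψ) (h0 : ψ 0 = 0)
    (hs : ∀ (s : S) (x : X), ψ (s • x) = s • ψ x)
    (q : Ideal S) (h : q ∈ FlatCA.ass S X) : q ∈ FlatCA.ass S Y := by
  rw [Groth.Agent.H20.FiberMod.ass_iff] at h ⊢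
  obtain ⟨hp, x, hx⟩ := h
  refine ⟨hp, ψ x, fun s => ?_⟩
  rw [hx, ← hs]
  constructor
  · intro h1; rw [h1, h0]
  · intro h1; exact hψ (by rw [h1, h0])

theorem ass_of_exact {S : Type*} [CommRing S] {X₁ X₂ X₃ : Type*} [AddCommGroup X₁] [Module S X₁]
    [AddCommGroup X₂] [Module S X₂] [AddCommGroup X₃] [Module S X₃]
    (f : X₁ → X₂) (g : X₂ → X₃) (hf : Function.Injective f) (hf0 : f 0 = 0) (hg0 : g 0 = 0)
    (hfs : ∀ (s : S) x, f (s • x) = s • f x) (hgs : ∀ (s : S) x, g (s • x) = s • g x)
    (hex : ∀ y, g y = 0 → ∃ x, f x = y)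
    (q : Ideal S) (h : q ∈ FlatCA.ass S X₂) :
    q ∈ FlatCA.ass S X₁ ∨ q ∈ FlatCA.ass S X₃ := by
  rw [Groth.Agent.H20.FiberMod.ass_iff] at h
  obtain ⟨hp, x, hx⟩ := h
  by_cases hA : ∃ s, s ∉ q ∧ g (s • x) = 0
  · left
    obtain ⟨s, hsq, hs0⟩ := hA
    obtain ⟨y, hy⟩ := hex _ hs0
    rw [Groth.Agent.H20.FiberMod.ass_iff]
    refine ⟨hp, y, fun s' => ?_⟩
    have h1 : s' • y = 0 ↔ s' • (s • x) = 0 := by
      rw [← hy, ← hfs]
      constructor
      · intro h0; rw [h0, hf0]
      · intro h0; exact hf (by rw [h0, hf0])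
    rw [h1, smul_smul, ← hx]
    constructor
    · intro h2; exact q.mul_mem_right _ h2
    · intro h2
      rcases hp.mem_or_mem h2 with h3 | h3
      · exact h3
      · exact absurd h3 hsq
  · right
    have hA' : ∀ s, s ∉ q → g (s • x) ≠ 0 := fun s hs h0 => hA ⟨s, hs, h0⟩
    rw [Groth.Agent.H20.FiberMod.ass_iff]
    refine ⟨hp, g x, fun s => ?_⟩
    rw [← hgs]
    constructor
    · intro h1
      rw [(hx s).mp h1, hg0]
    · intro h1
      by_contra h2
      exact hA' s h2 h1

theorem lTensor_smul' {R S : Type*} [CommRing R] [CommRing S] [Algebra R S] {N : Type*}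
    [AddCommGroup N] [Module S N] [Module R N] [IsScalarTower R S N]
    {M M' : Type*} [AddCommGroup M] [Module R M] [AddCommGroup M'] [Module R M']
    (f : M →ₗ[R] M') (s : S) (z : N ⊗[R] M) :
    (f.lTensor N) (s • z) = s • (f.lTensor N) z := by
  induction z using TensorProduct.induction_on with
  | zero => rw [smul_zero, map_zero, smul_zero]
  | tmul n m =>
    rw [TensorProduct.smul_tmul', LinearMap.lTensor_tmul, LinearMap.lTensor_tmul,
      TensorProduct.smul_tmul']
  | add x y hx hy => rw [smul_add, map_add, map_add, smul_add, hx, hy]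

theorem key {R S : Type u} [CommRing R] [CommRing S] [Algebra R S] (N : Type u) [AddCommGroup N]
    [Module S N] [Module R N] [IsScalarTower R S N] [IsNoetherianRing R] [Module.Flat R N]
    (M : Type u) [AddCommGroup M] [Module R M] (hM : Module.Finite R M) :
    ∀ q : Ideal S, q.IsPrime → q ∈ FlatCA.ass S (N ⊗[R] M) →
      q ∈ FlatCA.ass S (N ⧸ ((q.comap (algebraMap R S)).map (algebraMap R S)) •
        (⊤ : Submodule S N)) := by
  induction hM using IsNoetherianRing.induction_on_isQuotientEquivQuotientPrime R with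
  | subsingleton M =>
    intro q hqp h
    exfalso
    have hall : ∀ x : N ⊗[R] M, x = 0 := by
      intro x
      induction x using TensorProduct.induction_on with
      | zero => rfl
      | tmul n m => rw [Subsingleton.elim m 0, TensorProduct.tmul_zero]
      | add x y hx1 hy1 => rw [hx1, hy1, add_zero]
    rw [Groth.Agent.H20.FiberMod.ass_iff] at h
    obtain ⟨hp, x, hx⟩ := h
    exact hp.ne_top ((Ideal.eq_top_iff_one q).mpr ((hx 1).mpr (by rw [hall x, smul_zero])))
  | quotient M p' e =>
    intro q hqp h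
    haveI : p'.asIdeal.IsPrime := p'.isPrime
    let J : Submodule S N := (p'.asIdeal.map (algebraMap R S)) • (⊤ : Submodule S N)
    have h3 : J.restrictScalars R = p'.asIdeal • (⊤ : Submodule R N) := by
      have := Ideal.smul_restrictScalars (R := R) (S := S) p'.asIdeal (⊤ : Submodule S N)
      rwa [Submodule.restrictScalars_top] at this
    let ψ : N ⊗[R] M ≃ₗ[R] N ⧸ J :=
      (TensorProduct.congr (LinearEquiv.refl R N) e) ≪≫ₗ
      (TensorProduct.tensorQuotEquivQuotSMul N p'.asIdeal) ≪≫ₗ
      (Submodule.quotEquivOfEq _ _ h3.symm) ≪≫ₗ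
      (Submodule.Quotient.restrictScalarsEquiv R J)
    have hψ : ∀ (n : N) (m : M) (r : R), e m = Ideal.Quotient.mk _ r →
        ψ (n ⊗ₜ m) = Submodule.Quotient.mk (r • n) := by
      intro n m r hr
      simp only [ψ, LinearEquiv.trans_apply, TensorProduct.congr_tmul, LinearEquiv.refl_apply, hr]
      rw [TensorProduct.tensorQuotEquivQuotSMul_tmul_mk, Submodule.quotEquivOfEq_mk,
        Submodule.Quotient.restrictScalarsEquiv_mk]
    have hψs : ∀ (s : S) (z : N ⊗[R] M), ψ (s • z) = s • ψ z := by
      intro s z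
      induction z using TensorProduct.induction_on with
      | zero => rw [smul_zero, map_zero, smul_zero]
      | tmul n m =>
        obtain ⟨r, hr⟩ := Ideal.Quotient.mk_surjective (e m)
        rw [TensorProduct.smul_tmul', hψ _ _ r hr.symm, hψ _ _ r hr.symm,
          ← Submodule.Quotient.mk_smul, smul_comm]
      | add x y hx hy => rw [smul_add, map_add, map_add, smul_add, hx, hy]
    have h1 : q ∈ FlatCA.ass S (N ⧸ J) := ass_of_injective ψ ψ.injective (map_zero ψ) hψs q h
    have h2 : q.comap (algebraMap R S) = p'.asIdeal :=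
      Groth.Agent.H20.FiberMod.comap_eq_of_ass_quot p'.asIdeal q h1
    rw [h2]
    exact h1
  | exact M₁ M₂ M₃ f g hf hg hex ih₁ ih₃ =>
    intro q hqp h
    have hfi : Function.Injective (f.lTensor N) :=
      Module.Flat.lTensor_preserves_injective_linearMap (M := N) f hf
    have hexN := lTensor_exact N hex hg
    rcases ass_of_exact (S := S) (f.lTensor N) (g.lTensor N) hfi (map_zero _) (map_zero _)
        (lTensor_smul' f) (lTensor_smul' g) (fun y hy => (hexN y).mp hy) q h with h1 | h1
    · exact ih₁ q hqp h1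
    · exact ih₃ q hqp h1

end helpers

open TensorProduct in
/-- Part (5): (B_fin ⊆ A_fin): let R → S be a ring map with R Noetherian, N an S-module flat over R, M a
finite R-module, q a prime of S and p the prime of R below q; an associated prime of a module is a
prime ideal equal to the annihilator of some element. If q is an associated prime of the S-module N
⊗_R M, then q is an associated prime of the S-module N/pN. -/
theorem result {R S : Type u} [CommRing R] [CommRing S] [Algebra R S] (N : Type u) [AddCommGroup N] [Module S N] [Module R N] [IsScalarTower R S N] [IsNoetherianRing R] [Module.Flat R N]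
    (M : Type u) [AddCommGroup M] [Module R M] [Module.Finite R M] (p : Ideal R) [p.IsPrime] (q : Ideal S) [q.IsPrime] (hq : q.comap (algebraMap R S) = p)
    (h : q ∈ FlatCA.ass S (N ⊗[R] M)) :
    q ∈ FlatCA.ass S (N ⧸ (p.map (algebraMap R S)) • (⊤ : Submodule S N)) := by
  have h1 := key N M inferInstance q inferInstance h
  rw [hq] at h1
  exact h1

end Groth.Agent.S9670
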