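import Groth.Statements.S9677
import Mathlib

set_option autoImplicit false
universe u
open CategoryTheory CategoryTheory.Limits AlgebraicGeometry
open Mor

namespace Groth.Agent.S9677

section helpers

open TopologicalSpace

theorem eq_of_specializes_of_mem_irreducibleComponents {α : Type*} [TopologicalSpace α] [T0Space α]
    {y y' : α} (hy : closure {y} ∈ irreducibleComponents α) (h : y' ⤳ y) : y' = y := by
  have h1 : closure {y} ⊆ closure {y'} := specializes_iff_closure_subset.mp h
  have h2 : closure {y'} ⊆ closure {y} := hy.2 (isIrreducible_singleton.closure) h1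
  exact (inseparable_iff_closure_eq.mpr (Set.Subset.antisymm h2 h1)).eq

theorem not_isUnit_of_bijective_comp {A B C : Type*} [CommRing A] [CommRing B] [CommRing C]
    [IsLocalRing B] [Nontrivial C]
    (φ : A →+* B) (sp : B →+* C) (hbij : Function.Bijective (sp.comp φ)) (b : B)
    (hb : ¬ IsUnit b) : ¬ IsUnit (sp b) := by
  intro hu
  obtain ⟨a, ha⟩ := hbij.2 (sp b)
  have hau : IsUnit a := by
    let e := RingEquiv.ofBijective (sp.comp φ) hbij
    have h1 : IsUnit (e a) := by
      show IsUnit ((sp.comp φ) a)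
      rw [ha]; exact hu
    exact (isUnit_map_iff e a).mp h1
  have h1 : IsUnit (φ a) := hau.map φ
  have h2 : IsUnit (φ a - b) := by
    by_contra h
    have h3 := IsLocalRing.nonunits_add (mem_nonunits_iff.mpr h) (mem_nonunits_iff.mpr hb)
    rw [sub_add_cancel] at h3
    exact (mem_nonunits_iff.mp h3) h1
  have h3 : sp (φ a - b) = 0 := by
    have h4 : sp (φ a) = sp b := ha
    rw [map_sub, h4, sub_self]
  have h4 : IsUnit (sp (φ a - b)) := h2.map sp
  rw [h3] at h4
  exact not_isUnit_zero h4

theorem eq_of_specializes_of_isIso_stalkMap {X Y : Scheme.{u}} (f : X ⟶ Y) (x₀ x : X)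
    (h : x₀ ⤳ x) (hfx : f.base x = f.base x₀) [IsIso (f.stalkMap x₀)] : x = x₀ := by
  by_contra hne
  have hns : ¬ x ⤳ x₀ := fun h' => hne ((h'.antisymm h).eq)
  simp only [specializes_iff_forall_open, not_forall, exists_prop] at hns
  obtain ⟨U, hUo, hx₀U, hxU⟩ := hns
  obtain ⟨W, hW, hxW, -⟩ := Opens.isBasis_iff_nbhd.mp X.isBasis_affineOpens (Opens.mem_top x)
  have hx₀W : x₀ ∈ W := h.mem_open W.isOpen hxW
  obtain ⟨b, hbU, hx₀b⟩ :=
    hW.exists_basicOpen_le (⟨x₀, hx₀U⟩ : (⟨U, hUo⟩ : X.Opens)) hx₀W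
  have hxb : x ∉ X.basicOpen b := fun hx => hxU (hbU hx)
  rw [X.mem_basicOpen b x hxW] at hxb
  rw [X.mem_basicOpen b x₀ hx₀W] at hx₀b
  have hcomm := Scheme.Hom.stalkSpecializes_stalkMap f x₀ x h
  haveI : IsIso (Y.presheaf.stalkSpecializes (f.base.hom.map_specializes h)) :=
    inferInstanceAs (IsIso (Y.presheaf.stalkCongr (Inseparable.of_eq hfx)).hom)
  have hbij : Function.Bijective
      ((X.presheaf.stalkSpecializes h).hom.comp (f.stalkMap x).hom) := by
    have : IsIso (f.stalkMap x ≫ X.presheaf.stalkSpecializes h) := by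
      rw [← hcomm]; infer_instance
    exact ConcreteCategory.bijective_of_isIso (f.stalkMap x ≫ X.presheaf.stalkSpecializes h)
  have hnu := not_isUnit_of_bijective_comp (f.stalkMap x).hom
    (X.presheaf.stalkSpecializes h).hom hbij _ hxb
  apply hnu
  have hg : (X.presheaf.stalkSpecializes h).hom (X.presheaf.germ W x hxW b) =
      X.presheaf.germ W x₀ hx₀W b :=
    TopCat.Presheaf.germ_stalkSpecializes_apply X.presheaf hxW h b
  rw [hg]
  exact hx₀b

theorem factor_transport {X Z : Scheme.{u}} (g : Z ⟶ X) (x x' : X) (h : x = x')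
    (ψ : Z ⟶ Spec (X.presheaf.stalk x)) (hg : g = ψ ≫ X.fromSpecStalk x) :
    ∃ ψ' : Z ⟶ Spec (X.presheaf.stalk x'), g = ψ' ≫ X.fromSpecStalk x' := by
  subst h
  exact ⟨ψ, hg⟩

end helpers

/-- Suppose X and Y have finitely many irreducible components and f : X ⟶ Y is birational, i.e. f
restricts to a bijection between the generic points of the irreducible components of X and those of
Y and induces an isomorphism of local rings at every generic point of an irreducible component of X.
Then for any generic point y of a component of Y, pulling f back along the canonical map Spec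
O_{Y,y} ⟶ Y gives an isomorphism onto Spec O_{Y,y}. -/
theorem result {X Y : Scheme.{u}} (f : X ⟶ Y)
    (hXfin : (irreducibleComponents ↥X).Finite) (hYfin : (irreducibleComponents ↥Y).Finite)
    (hbij : Set.BijOn (fun x : X => f.base x) {x : X | closure {x} ∈ irreducibleComponents ↥X}
      {y : Y | closure {y} ∈ irreducibleComponents ↥Y})
    (hiso : ∀ x : X, closure {x} ∈ irreducibleComponents ↥X → IsIso (f.stalkMap x))
    (y : Y) (hy : closure {y} ∈ irreducibleComponents ↥Y) :
    IsIso (pullback.snd f (Y.fromSpecStalk y)) := by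
  obtain ⟨x₀, hx₀, hfx₀⟩ := hbij.surjOn hy
  simp only at hfx₀
  subst hfx₀
  haveI : IsIso (f.stalkMap x₀) := hiso x₀ hx₀
  have hσ : (Spec.map (inv (f.stalkMap x₀)) ≫ X.fromSpecStalk x₀) ≫ f =
      Y.fromSpecStalk (f.base x₀) := by
    rw [Category.assoc, ← Scheme.SpecMap_stalkMap_fromSpecStalk, ← Spec.map_comp_assoc,
      IsIso.hom_inv_id, Spec.map_id, Category.id_comp]
  let s : Spec (Y.presheaf.stalk (f.base x₀)) ⟶ pullback f (Y.fromSpecStalk (f.base x₀)) :=
    pullback.lift (Spec.map (inv (f.stalkMap x₀)) ≫ X.fromSpecStalk x₀) (𝟙 _)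
      (by rw [hσ, Category.id_comp])
  have hs : s ≫ pullback.snd f (Y.fromSpecStalk (f.base x₀)) = 𝟙 _ := pullback.lift_snd _ _ _
  have hsfst : s ≫ pullback.fst f (Y.fromSpecStalk (f.base x₀)) =
      Spec.map (inv (f.stalkMap x₀)) ≫ X.fromSpecStalk x₀ := pullback.lift_fst _ _ _
  have hall : ∀ p : ↑(pullback f (Y.fromSpecStalk (f.base x₀))),
      (pullback.fst f (Y.fromSpecStalk (f.base x₀))).base p = x₀ := by
    intro p
    have hcond : f.base ((pullback.fst f (Y.fromSpecStalk (f.base x₀))).base p) =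
        (Y.fromSpecStalk (f.base x₀)).base
          ((pullback.snd f (Y.fromSpecStalk (f.base x₀))).base p) := by
      have := congrArg (fun g => g.base p)
        (pullback.condition (f := f) (g := Y.fromSpecStalk (f.base x₀)))
      simpa using this
    have hjt : (Y.fromSpecStalk (f.base x₀)).base
        ((pullback.snd f (Y.fromSpecStalk (f.base x₀))).base p) ⤳ f.base x₀ := by
      have : (Y.fromSpecStalk (f.base x₀)).base
          ((pullback.snd f (Y.fromSpecStalk (f.base x₀))).base p) ∈
          Set.range (Y.fromSpecStalk (f.base x₀)) := ⟨_, rfl⟩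
      rw [Scheme.range_fromSpecStalk] at this
      exact this
    have hfx : f.base ((pullback.fst f (Y.fromSpecStalk (f.base x₀))).base p) = f.base x₀ := by
      rw [hcond]
      exact eq_of_specializes_of_mem_irreducibleComponents hy hjt
    obtain ⟨ξ, hξ⟩ := QuasiSober.sober
      (isIrreducible_irreducibleComponent
        (x := (pullback.fst f (Y.fromSpecStalk (f.base x₀))).base p))
      isClosed_irreducibleComponent
    have hξcl : closure {ξ} =
        irreducibleComponent ((pullback.fst f (Y.fromSpecStalk (f.base x₀))).base p) := hξ.def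
    have hξmem : closure {ξ} ∈ irreducibleComponents ↥X := by
      rw [hξcl]; exact irreducibleComponent_mem_irreducibleComponents _
    have hξx : ξ ⤳ (pullback.fst f (Y.fromSpecStalk (f.base x₀))).base p := by
      rw [specializes_iff_mem_closure, hξcl]; exact mem_irreducibleComponent
    have hfξ : f.base ξ ⤳ f.base ((pullback.fst f (Y.fromSpecStalk (f.base x₀))).base p) :=
      f.base.hom.map_specializes hξx
    have hfξgen : closure {f.base ξ} ∈ irreducibleComponents ↥Y := hbij.mapsTo hξmem
    have hfξ_eq : f.base ξ = f.base x₀ := by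
      rw [hfx] at hfξ
      exact eq_of_specializes_of_mem_irreducibleComponents hy hfξ
    have hξ_eq : ξ = x₀ := hbij.injOn hξmem hx₀ hfξ_eq
    rw [hξ_eq] at hξx
    exact eq_of_specializes_of_isIso_stalkMap f x₀ _ hξx hfx
  have hinj : Function.Injective (pullback.fst f (Y.fromSpecStalk (f.base x₀))).base :=
    (pullback.fst f (Y.fromSpecStalk (f.base x₀))).isEmbedding.injective
  haveI : Subsingleton ↑(pullback f (Y.fromSpecStalk (f.base x₀))) :=
    ⟨fun p q => hinj ((hall p).trans (hall q).symm)⟩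
  let p₀ : ↑(pullback f (Y.fromSpecStalk (f.base x₀))) :=
    s.base (IsLocalRing.closedPoint (Y.presheaf.stalk (f.base x₀)))
  haveI : IsAffine (pullback f (Y.fromSpecStalk (f.base x₀))) := by
    obtain ⟨W, hW, hpW, -⟩ := TopologicalSpace.Opens.isBasis_iff_nbhd.mp
      (pullback f (Y.fromSpecStalk (f.base x₀))).isBasis_affineOpens (TopologicalSpace.Opens.mem_top p₀)
    have hWtop : W = ⊤ := by
      apply eq_top_iff.mpr
      intro q _
      rw [Subsingleton.elim q p₀]; exact hpW
    subst hWtop
    haveI : IsAffine ↑(⊤ : (pullback f (Y.fromSpecStalk (f.base x₀))).Opens) := hW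
    exact IsAffine.of_isIso (pullback f (Y.fromSpecStalk (f.base x₀))).topIso.inv
  have hinj' : Function.Injective
      (pullback f (Y.fromSpecStalk (f.base x₀))).isoSpec.inv.base := by
    intro q₁ q₂ hq
    have h1 := congrArg (fun g => g.base q₁)
      (pullback f (Y.fromSpecStalk (f.base x₀))).isoSpec.inv_hom_id
    have h2 := congrArg (fun g => g.base q₂)
      (pullback f (Y.fromSpecStalk (f.base x₀))).isoSpec.inv_hom_id
    simp only [Scheme.Hom.comp_base, TopCat.hom_comp, ContinuousMap.comp_apply,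
      Scheme.Hom.id_base, TopCat.hom_id, ContinuousMap.id_apply] at h1 h2
    rw [← h1, ← h2, hq]
  haveI hsub : Subsingleton (PrimeSpectrum Γ(pullback f (Y.fromSpecStalk (f.base x₀)), ⊤)) :=
    ⟨fun q₁ q₂ => hinj' (Subsingleton.elim _ _)⟩
  haveI : IsLocalRing Γ(pullback f (Y.fromSpecStalk (f.base x₀)), ⊤) := by
    let q₀ : PrimeSpectrum Γ(pullback f (Y.fromSpecStalk (f.base x₀)), ⊤) :=
      (pullback f (Y.fromSpecStalk (f.base x₀))).isoSpec.hom.base p₀
    haveI : Nontrivial Γ(pullback f (Y.fromSpecStalk (f.base x₀)), ⊤) :=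
      nontrivial_of_ne 0 1 (fun h => q₀.isPrime.ne_top
        ((Ideal.eq_top_iff_one _).mpr (h ▸ zero_mem _)))
    apply IsLocalRing.of_unique_max_ideal
    obtain ⟨m, hm⟩ := Ideal.exists_maximal Γ(pullback f (Y.fromSpecStalk (f.base x₀)), ⊤)
    refine ⟨m, hm, fun m' hm' => ?_⟩
    exact congrArg PrimeSpectrum.asIdeal (Subsingleton.elim
      (⟨m', hm'.isPrime⟩ : PrimeSpectrum Γ(pullback f (Y.fromSpecStalk (f.base x₀)), ⊤))
      ⟨m, hm.isPrime⟩)
  have hfac := Scheme.Spec_stalkClosedPointTo_fromSpecStalk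
    ((pullback f (Y.fromSpecStalk (f.base x₀))).isoSpec.inv ≫
      pullback.fst f (Y.fromSpecStalk (f.base x₀)))
  have hpt : ((pullback f (Y.fromSpecStalk (f.base x₀))).isoSpec.inv ≫
      pullback.fst f (Y.fromSpecStalk (f.base x₀))).base
      (IsLocalRing.closedPoint Γ(pullback f (Y.fromSpecStalk (f.base x₀)), ⊤)) = x₀ := by
    rw [Scheme.Hom.comp_base]
    exact hall _
  obtain ⟨ψ', hψ'⟩ := factor_transport _ _ x₀ hpt _ hfac.symm
  have hψ : pullback.fst f (Y.fromSpecStalk (f.base x₀)) =
      ((pullback f (Y.fromSpecStalk (f.base x₀))).isoSpec.hom ≫ ψ') ≫ X.fromSpecStalk x₀ := by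
    rw [Category.assoc, ← hψ', Iso.hom_inv_id_assoc]
  have hkey : ((pullback f (Y.fromSpecStalk (f.base x₀))).isoSpec.hom ≫ ψ') ≫
      Spec.map (f.stalkMap x₀) = pullback.snd f (Y.fromSpecStalk (f.base x₀)) := by
    rw [← cancel_mono (Y.fromSpecStalk (f.base x₀)), Category.assoc,
      Scheme.SpecMap_stalkMap_fromSpecStalk, ← Category.assoc, ← hψ, pullback.condition]
  have hsnd_s : pullback.snd f (Y.fromSpecStalk (f.base x₀)) ≫ s = 𝟙 _ := by
    apply pullback.hom_ext
    · rw [Category.assoc, hsfst, Category.id_comp, ← hkey, Category.assoc,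
        ← Spec.map_comp_assoc, IsIso.inv_hom_id, Spec.map_id, Category.id_comp]
      exact hψ.symm
    · rw [Category.assoc, hs, Category.comp_id, Category.id_comp]
  exact ⟨⟨s, hsnd_s, hs⟩⟩

end Groth.Agent.S9677
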