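import Groth.Statements.S9678
import Mathlib
import Groth.Agent.Lib.Helper5.BirDense

set_option autoImplicit false
universe u
open CategoryTheory CategoryTheory.Limits AlgebraicGeometry
open Mor

namespace Groth.Agent.S9678

open AlgebraicGeometry CategoryTheory Limits TopologicalSpace Groth.Agent.Helper5.BirDense in
/-- Core construction: dense opens `U`, `V` with `f : U ≅ V`, together with the extra information
that `U` is covered by opens on which `f` is an open immersion. -/
theorem core {X Y : Scheme.{u}} (f : X ⟶ Y)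
    (hXfin : (irreducibleComponents ↥X).Finite) (hYfin : (irreducibleComponents ↥Y).Finite)
    (hbij : Set.BijOn (fun x : X => f.base x) {x : X | closure {x} ∈ irreducibleComponents ↥X}
      {y : Y | closure {y} ∈ irreducibleComponents ↥Y})
    (hiso : ∀ x : X, closure {x} ∈ irreducibleComponents ↥X → IsIso (f.stalkMap x))
    (hf : (LocallyOfFiniteType f ∧ IsReduced Y) ∨ LocallyOfFinitePresentation f) :
    ∃ (U : X.Opens) (V : Y.Opens) (hUV : U ≤ f ⁻¹ᵁ V),
      (∀ x : X, closure {x} ∈ irreducibleComponents ↥X → x ∈ U) ∧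
      (∀ y : Y, closure {y} ∈ irreducibleComponents ↥Y → y ∈ V) ∧
      IsIso (f.resLE V U hUV) := by
  classical
  have hloc : ∀ x : X, closure {x} ∈ irreducibleComponents X →
      ∃ U : X.Opens, x ∈ U ∧ IsOpenImmersion (U.ι ≫ f) := by
    intro x hx
    have hy : closure {f x} ∈ irreducibleComponents Y := hbij.mapsTo hx
    rcases hf with ⟨hft, hred⟩ | hfp
    · haveI := hft
      haveI := hred
      haveI := isGermInjectiveAt_of_generic hYfin (f x) hy
      exact isLocalIsoAt_of_germInjective f x (hiso x hx)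
    · haveI := hfp
      exact isLocalIsoAt_of_lfp f x (hiso x hx)
  choose! W hW using hloc
  let G : Type u := {x : X // closure {x} ∈ irreducibleComponents X}
  let Ux : G → X.Opens := fun x =>
    (⟨onlyComp x.1, isOpen_onlyComp hXfin x.1⟩ ⊓ W x.1) ⊓
      f ⁻¹ᵁ ⟨onlyComp (f x.1), isOpen_onlyComp hYfin (f x.1)⟩
  have hUxW : ∀ x : G, Ux x ≤ W x.1 := fun x => inf_le_left.trans inf_le_right
  have hUxY : ∀ (x : G) (p : X), p ∈ Ux x → f p ∈ onlyComp (f x.1) := fun x p hp => hp.2
  have hxUx : ∀ x : G, x.1 ∈ Ux x := fun x =>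
    ⟨⟨mem_onlyComp x.1 x.2, (hW x.1 x.2).1⟩, mem_onlyComp (f x.1) (hbij.mapsTo x.2)⟩
  haveI hWimm : ∀ x : G, IsOpenImmersion ((W x.1).ι ≫ f) := fun x => (hW x.1 x.2).2
  let U : X.Opens := ⨆ x : G, Ux x
  have hmemU : ∀ p : X, p ∈ U ↔ ∃ x : G, p ∈ Ux x := fun p => Opens.mem_iSup
  have hopen : ∀ O : Set X, IsOpen O → O ⊆ U → IsOpen (f '' O) := by
    intro O hO hOU
    have h1 : f '' O = ⋃ x : G, f '' (O ∩ Ux x) := by
      ext q
      simp only [Set.mem_image, Set.mem_iUnion]
      constructor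
      · rintro ⟨p, hp, rfl⟩
        obtain ⟨x, hx⟩ := (hmemU p).mp (hOU hp)
        exact ⟨x, p, ⟨hp, hx⟩, rfl⟩
      · rintro ⟨x, p, ⟨hp, -⟩, rfl⟩
        exact ⟨p, hp, rfl⟩
    rw [h1]
    refine isOpen_iUnion fun x => ?_
    exact isOpen_image_of_le f (W x.1) _ (hO.inter (Ux x).isOpen)
      (fun p hp => hUxW x hp.2)
  let V : Y.Opens := ⟨f '' U, hopen U U.isOpen subset_rfl⟩
  have hUV : U ≤ f ⁻¹ᵁ V := fun p hp => ⟨p, hp, rfl⟩
  have hinj : ∀ p p' : X, p ∈ U → p' ∈ U → f p = f p' → p = p' := by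
    intro p p' hp hp' hpp'
    obtain ⟨x, hx⟩ := (hmemU p).mp hp
    obtain ⟨x', hx'⟩ := (hmemU p').mp hp'
    have h1 : f x.1 = f x'.1 :=
      eq_of_mem_onlyComp_inter (f x.1) (f x'.1) (f p) (hUxY x p hx) (hpp' ▸ hUxY x' p' hx')
    have h2 : x.1 = x'.1 := hbij.injOn x.2 x'.2 h1
    have h3 : x = x' := Subtype.ext h2
    subst h3
    have h4 : ((W x.1).ι ≫ f) ⟨p, hUxW x hx⟩ = ((W x.1).ι ≫ f) ⟨p', hUxW x hx'⟩ := hpp'
    have h5 := ((W x.1).ι ≫ f).isOpenEmbedding.injective h4
    exact congrArg Subtype.val h5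
  have hstalk : ∀ p : X, p ∈ U → IsIso (f.stalkMap p) := by
    intro p hp
    obtain ⟨x, hx⟩ := (hmemU p).mp hp
    exact Groth.Agent.S2254.stalk_iso_of_localIso f p ⟨W x.1, hUxW x hx, hWimm x⟩
  have hemb : Topology.IsOpenEmbedding (U.ι ≫ f) := by
    refine Topology.IsOpenEmbedding.of_continuous_injective_isOpenMap (U.ι ≫ f).continuous ?_ ?_
    · intro p p' hpp'
      exact Subtype.ext (hinj p.1 p'.1 p.2 p'.2 hpp')
    · intro O hO
      have h1 : (U.ι ≫ f) '' O = f '' (U.ι '' O) := by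
        rw [Set.image_image]
        rfl
      rw [h1]
      refine hopen _ (U.ι.isOpenEmbedding.isOpenMap O hO) ?_
      rintro _ ⟨p, -, rfl⟩
      exact p.2
  haveI : ∀ p : U.toScheme, IsIso ((U.ι ≫ f).stalkMap p) := by
    intro p
    rw [Scheme.Hom.stalkMap_comp]
    exact IsIso.comp_isIso' (hstalk (U.ι p) p.2) inferInstance
  haveI : IsOpenImmersion (U.ι ≫ f) := IsOpenImmersion.of_isIso_stalkMap _ hemb
  haveI : IsOpenImmersion (f.resLE V U hUV ≫ V.ι) := by
    rw [Scheme.Hom.resLE_comp_ι]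
    infer_instance
  haveI : IsOpenImmersion (f.resLE V U hUV) := IsOpenImmersion.of_comp _ V.ι
  haveI : Surjective (f.resLE V U hUV) := by
    refine ⟨fun q => ?_⟩
    obtain ⟨p, hp, hpq⟩ := q.2
    refine ⟨⟨p, hp⟩, Subtype.ext ?_⟩
    rw [Scheme.Hom.coe_resLE_apply]
    exact hpq
  refine ⟨U, V, hUV, fun x hx => (hmemU x).mpr ⟨⟨x, hx⟩, hxUx ⟨x, hx⟩⟩, fun y hy => ?_,
    (isIso_iff_isOpenImmersion_and_surjective _).mpr ⟨inferInstance, inferInstance⟩⟩
  obtain ⟨x, hx, rfl⟩ := hbij.surjOn hy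
  exact ⟨x, (hmemU x).mpr ⟨⟨x, hx⟩, hxUx ⟨x, hx⟩⟩, rfl⟩


/-- Suppose X and Y have finitely many irreducible components and f : X ⟶ Y is birational, i.e. f
restricts to a bijection between the generic points of the irreducible components of X and those of
Y and induces an isomorphism of local rings at every generic point of an irreducible component of X.
Suppose moreover that Y is reduced and f is locally of finite type, or alternatively that f is
locally finitely presented. Then there are dense opens U ⊆ X and V ⊆ Y with f(U) ⊆ V such that the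
restriction U ⟶ V of f is an isomorphism. -/
theorem result {X Y : Scheme.{u}} (f : X ⟶ Y)
    (hXfin : (irreducibleComponents ↥X).Finite) (hYfin : (irreducibleComponents ↥Y).Finite)
    (hbij : Set.BijOn (fun x : X => f.base x) {x : X | closure {x} ∈ irreducibleComponents ↥X}
      {y : Y | closure {y} ∈ irreducibleComponents ↥Y})
    (hiso : ∀ x : X, closure {x} ∈ irreducibleComponents ↥X → IsIso (f.stalkMap x))
    (hf : (LocallyOfFiniteType f ∧ IsReduced Y) ∨ LocallyOfFinitePresentation f) :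
    ∃ (U : X.Opens) (V : Y.Opens) (hUV : U ≤ f ⁻¹ᵁ V), Dense (U : Set ↥X) ∧ Dense (V : Set ↥Y) ∧
      IsIso (f.resLE V U hUV) := by
  obtain ⟨U, V, hUV, hU, hV, hiso'⟩ := core f hXfin hYfin hbij hiso hf
  exact ⟨U, V, hUV, Groth.Agent.Helper5.BirDense.dense_of_forall_generic_mem U hU,
    Groth.Agent.Helper5.BirDense.dense_of_forall_generic_mem V hV, hiso'⟩

end Groth.Agent.S9678
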