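import Groth.Statements.S9679
import Mathlib
import Groth.Agent.S9678
import Groth.Agent.Lib.Helper5.BirDense
import Groth.Agent.Lib.Helper9.QcClosure

set_option autoImplicit false
universe u
open CategoryTheory CategoryTheory.Limits AlgebraicGeometry
open Mor

namespace Groth.Agent.S9679

open AlgebraicGeometry CategoryTheory Limits in
/-- If `x ⤳ x'`, `f x = f x'` and the stalk map at `x` is an isomorphism, then the specialization
map `𝒪_{X,x'} ⟶ 𝒪_{X,x}` reflects units. -/
theorem isUnit_of_isUnit_stalkSpecializes {X Y : Scheme.{u}} (f : X ⟶ Y) (x x' : X) (h : x ⤳ x')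
    (hff : f x = f x') (hiso : IsIso (f.stalkMap x)) (α : X.presheaf.stalk x')
    (hα : IsUnit ((X.presheaf.stalkSpecializes h).hom α)) : IsUnit α := by
  by_contra hα'
  have hY' : f x' ⤳ f x := specializes_of_eq hff.symm
  have hinv : IsIso (Y.presheaf.stalkSpecializes (f.base.hom.map_specializes h)) := by
    refine ⟨Y.presheaf.stalkSpecializes hY', ?_, ?_⟩
    · rw [TopCat.Presheaf.stalkSpecializes_comp]
      exact TopCat.Presheaf.stalkSpecializes_refl _ _
    · rw [TopCat.Presheaf.stalkSpecializes_comp]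
      exact TopCat.Presheaf.stalkSpecializes_refl _ _
  have hθ : IsIso (f.stalkMap x' ≫ X.presheaf.stalkSpecializes h) := by
    rw [← Scheme.Hom.stalkSpecializes_stalkMap f x x' h]
    exact IsIso.comp_isIso' hinv hiso
  haveI := isLocalHom_of_isIso (f.stalkMap x' ≫ X.presheaf.stalkSpecializes h)
  obtain ⟨β, hβ⟩ := (ConcreteCategory.bijective_of_isIso
    (f.stalkMap x' ≫ X.presheaf.stalkSpecializes h)).2 ((X.presheaf.stalkSpecializes h).hom α)
  have hβ' : (X.presheaf.stalkSpecializes h).hom ((f.stalkMap x').hom β) =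
      (X.presheaf.stalkSpecializes h).hom α := hβ
  have hβu : IsUnit β := by
    refine isUnit_of_map_unit (f.stalkMap x' ≫ X.presheaf.stalkSpecializes h).hom β ?_
    have h1 : (f.stalkMap x' ≫ X.presheaf.stalkSpecializes h).hom β =
        (X.presheaf.stalkSpecializes h).hom α := hβ
    rw [h1]
    exact hα
  have hψ : IsUnit ((f.stalkMap x').hom β) := hβu.map (f.stalkMap x').hom
  have hc : ¬ IsUnit ((f.stalkMap x').hom β - α) := by
    intro hcu
    have h2 := hcu.map (X.presheaf.stalkSpecializes h).hom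
    rw [map_sub, hβ', sub_self] at h2
    exact not_isUnit_zero h2
  have hsum := IsLocalRing.nonunits_add (show α ∈ nonunits _ from hα')
    (show (f.stalkMap x').hom β - α ∈ nonunits _ from hc)
  rw [add_sub_cancel] at hsum
  exact hsum hψ

open AlgebraicGeometry CategoryTheory Limits in
/-- If `x ⤳ x'`, `f x = f x'` and the stalk map at `x` is an isomorphism, then `x' ⤳ x`. -/
theorem specializes_of_isIso_stalkMap {X Y : Scheme.{u}} (f : X ⟶ Y) (x x' : X) (h : x ⤳ x')
    (hff : f x = f x') (hiso : IsIso (f.stalkMap x)) : x' ⤳ x := by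
  rw [specializes_iff_forall_open]
  intro s hs hxs
  obtain ⟨W, hW, hx'W, -⟩ := exists_isAffineOpen_mem_and_subset (x := x') (U := ⊤) trivial
  have hxW : x ∈ W := h.mem_open W.isOpen hx'W
  obtain ⟨a, ha1, ha2⟩ := hW.exists_basicOpen_le (V := ⟨s, hs⟩ ⊓ W) ⟨x, ⟨hxs, hxW⟩⟩ hxW
  have h1 : IsUnit (X.presheaf.germ W x hxW a) := (X.mem_basicOpen a x hxW).mp ha2
  have h2 : (X.presheaf.stalkSpecializes h).hom ((X.presheaf.germ W x' hx'W).hom a) =
      (X.presheaf.germ W x hxW).hom a :=
    congrArg (fun φ => φ.hom a) (TopCat.Presheaf.germ_stalkSpecializes X.presheaf hx'W h)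
  have h3 : IsUnit ((X.presheaf.germ W x' hx'W).hom a) :=
    isUnit_of_isUnit_stalkSpecializes f x x' h hff hiso _ (h2 ▸ h1)
  exact (ha1 ((X.mem_basicOpen a x' hx'W).mpr h3)).1

open AlgebraicGeometry CategoryTheory Limits in
/-- Key lemma: a point lying over a generic point of an irreducible component of `Y` is a generic
point of an irreducible component of `X`. -/
theorem generic_of_map_generic {X Y : Scheme.{u}} (f : X ⟶ Y)
    (hmaps : ∀ x : X, closure {x} ∈ irreducibleComponents ↥X →
      closure {f x} ∈ irreducibleComponents ↥Y)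
    (hiso : ∀ x : X, closure {x} ∈ irreducibleComponents ↥X → IsIso (f.stalkMap x))
    (x' : X) (hx' : closure {f x'} ∈ irreducibleComponents ↥Y) :
    closure {x'} ∈ irreducibleComponents ↥X := by
  obtain ⟨Z, hZ, hZx'⟩ :=
    exists_mem_irreducibleComponents_subset_of_isIrreducible {x'} isIrreducible_singleton
  have hZ' : Maximal IsIrreducible Z := hZ
  obtain ⟨x, hx⟩ := QuasiSober.sober hZ'.1 (isClosed_of_mem_irreducibleComponents Z hZ)
  have hxZ : closure {x} = Z := hx.def
  have hxgen : closure {x} ∈ irreducibleComponents ↥X := hxZ ▸ hZ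
  have hsp : x ⤳ x' := by
    rw [specializes_iff_mem_closure, hxZ]
    exact hZx' rfl
  have hfsp : f x ⤳ f x' := hsp.map f.continuous
  have hfx : Maximal IsIrreducible (closure {f x}) := hmaps x hxgen
  have hx'' : Maximal IsIrreducible (closure {f x'}) := hx'
  have hff : f x = f x' := by
    have h1 : closure {f x'} ⊆ closure {f x} := specializes_iff_closure_subset.mp hfsp
    have h2 : closure {f x} ⊆ closure {f x'} := hx''.2 hfx.1 h1
    have h3 : f x' ⤳ f x := specializes_iff_closure_subset.mpr h2
    exact (hfsp.antisymm h3).eq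
  have hback : x' ⤳ x := specializes_of_isIso_stalkMap f x x' hsp hff (hiso x hxgen)
  have hxx : x = x' := (hsp.antisymm hback).eq
  exact hxx ▸ hxgen

/-- Suppose X and Y have finitely many irreducible components and f : X ⟶ Y is birational, i.e. f
restricts to a bijection between the generic points of the irreducible components of X and those of
Y and induces an isomorphism of local rings at every generic point of an irreducible component of X.
Assume that f is quasi-compact or separated, and moreover that f is locally of finite presentation,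
or else Y is reduced and f is locally of finite type. Under these hypotheses, some dense open V ⊆ Y
has the property that the restriction f⁻¹(V) ⟶ V of f is an isomorphism. -/
theorem result {X Y : Scheme.{u}} (f : X ⟶ Y)
    (hXfin : (irreducibleComponents ↥X).Finite) (hYfin : (irreducibleComponents ↥Y).Finite)
    (hbij : Set.BijOn (fun x : X => f.base x) {x : X | closure {x} ∈ irreducibleComponents ↥X}
      {y : Y | closure {y} ∈ irreducibleComponents ↥Y})
    (hiso : ∀ x : X, closure {x} ∈ irreducibleComponents ↥X → IsIso (f.stalkMap x))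
    (hf₁ : QuasiCompact f ∨ IsSeparated f)
    (hf₂ : (LocallyOfFiniteType f ∧ IsReduced Y) ∨ LocallyOfFinitePresentation f) :
    ∃ V : Y.Opens, Dense (V : Set ↥Y) ∧ IsIso (f ∣_ V) := by
  classical
  obtain ⟨U, V, hUV, hU, hV, hr⟩ := Groth.Agent.S9678.core f hXfin hYfin hbij hiso hf₂
  have KL : ∀ x' : X, closure {f x'} ∈ irreducibleComponents ↥Y →
      closure {x'} ∈ irreducibleComponents ↥X :=
    generic_of_map_generic f (fun x hx => hbij.mapsTo hx) hiso
  suffices H : ∃ V' : Y.Opens, V' ≤ V ∧ f ⁻¹ᵁ V' ≤ U ∧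
      (∀ y : Y, closure {y} ∈ irreducibleComponents ↥Y → y ∈ V') by
    obtain ⟨V', hV'V, hV'U, hV'gen⟩ := H
    refine ⟨V', Groth.Agent.Helper5.BirDense.dense_of_forall_generic_mem V' hV'gen, ?_⟩
    haveI : IsIso (f.resLE V U hUV) := hr
    have hcomp : (f ∣_ V') ≫ V'.ι = X.homOfLE hV'U ≫ f.resLE V U hUV ≫ V.ι := by
      rw [morphismRestrict_ι, Scheme.Hom.resLE_comp_ι, ← Category.assoc, Scheme.homOfLE_ι]
    haveI : IsOpenImmersion ((f ∣_ V') ≫ V'.ι) := by
      rw [hcomp]
      infer_instance
    haveI : IsOpenImmersion (f ∣_ V') := IsOpenImmersion.of_comp _ V'.ι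
    haveI : Surjective (f ∣_ V') := by
      refine ⟨fun q => ?_⟩
      obtain ⟨p, hp⟩ := (f.resLE V U hUV).surjective ⟨q.1, hV'V q.2⟩
      have hpq : f p.1 = q.1 := by
        have h1 := congrArg Subtype.val hp
        rwa [Scheme.Hom.coe_resLE_apply] at h1
      refine ⟨⟨p.1, show f p.1 ∈ V' from hpq ▸ q.2⟩, Subtype.ext ?_⟩
      exact (morphismRestrict_base_coe f V' _).trans hpq
    exact (isIso_iff_isOpenImmersion_and_surjective _).mpr ⟨inferInstance, inferInstance⟩
  rcases hf₁ with hqc | hsep
  · -- quasi-compact case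
    haveI := hqc
    let V' : Y.Opens := V ⊓ ⟨(closure (f '' {p : X | f p ∈ V ∧ p ∉ U}))ᶜ,
      isClosed_closure.isOpen_compl⟩
    refine ⟨V', inf_le_left, ?_, ?_⟩
    · intro p hp
      by_contra hpU
      exact hp.2 (subset_closure ⟨p, ⟨hp.1, hpU⟩, rfl⟩)
    · intro y hy
      refine ⟨hV y hy, ?_⟩
      intro hycl
      have hyV : y ∈ V := hV y hy
      have hT₁ : IsClosed {p : (f ⁻¹ᵁ V).toScheme | p.1 ∉ U} := by
        have h1 : IsOpen {p : (f ⁻¹ᵁ V).toScheme | p.1 ∈ U} :=
          U.isOpen.preimage continuous_subtype_val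
        exact h1.isClosed_compl
      let Z : TopologicalSpace.Closeds (f ⁻¹ᵁ V).toScheme := ⟨{p | p.1 ∉ U}, hT₁⟩
      let I := Scheme.IdealSheafData.vanishingIdeal Z
      let h := I.subschemeι ≫ (f ∣_ V)
      haveI : QuasiCompact h := inferInstance
      have hsub : f '' {p : X | f p ∈ V ∧ p ∉ U} ⊆ Subtype.val '' (Set.range h) := by
        rintro _ ⟨p, hp, rfl⟩
        have hpZ : (⟨p, hp.1⟩ : (f ⁻¹ᵁ V).toScheme) ∈ Set.range I.subschemeι := by
          rw [Scheme.IdealSheafData.range_subschemeι,
            Scheme.IdealSheafData.coe_support_vanishingIdeal]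
          exact hp.2
        obtain ⟨u, hu⟩ := hpZ
        refine ⟨h u, ⟨u, rfl⟩, ?_⟩
        show ((I.subschemeι ≫ (f ∣_ V)) u).1 = f p
        rw [Scheme.Hom.comp_apply, hu]
        exact morphismRestrict_base_coe f V _
      have hycl' : (⟨y, hyV⟩ : V.toScheme) ∈ closure (Set.range h) :=
        closure_subtype.mpr (closure_mono hsub hycl)
      obtain ⟨u, hu⟩ :=
        Groth.Agent.Helper9.QcClosure.exists_specializes_of_mem_closure_range h _ hycl'
      obtain ⟨t, ht⟩ : ∃ t, t = I.subschemeι u := ⟨_, rfl⟩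
      have htZ : t ∈ Set.range I.subschemeι := ⟨u, ht.symm⟩
      rw [Scheme.IdealSheafData.range_subschemeι,
        Scheme.IdealSheafData.coe_support_vanishingIdeal] at htZ
      have htU : t.1 ∉ U := htZ
      have hhu : h u = (f ∣_ V) t := by
        rw [ht]
        exact Scheme.Hom.comp_apply _ _ _
      have hft : f t.1 ⤳ y := by
        have h1 : ((f ∣_ V) t).1 ⤳ y := by
          rw [← hhu]
          exact hu.map continuous_subtype_val
        rwa [morphismRestrict_base_coe] at h1
      have hy' : Maximal IsIrreducible (closure {y}) := hy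
      have hfty : f t.1 = y := by
        have h1 : closure {y} ⊆ closure {f t.1} := specializes_iff_closure_subset.mp hft
        have h2 : closure {f t.1} ⊆ closure {y} := hy'.2 isIrreducible_singleton.closure h1
        exact (hft.antisymm (specializes_iff_closure_subset.mpr h2)).eq
      exact htU (hU t.1 (KL t.1 (hfty ▸ hy)))
  · -- separated case
    haveI := hsep
    refine ⟨V, le_rfl, ?_, hV⟩
    haveI : IsIso (f.resLE V U hUV) := hr
    have hjg : X.homOfLE hUV ≫ (f ∣_ V) = f.resLE V U hUV := rfl
    haveI : IsClosedImmersion (X.homOfLE hUV ≫ (f ∣_ V)) := by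
      rw [hjg]
      infer_instance
    haveI : IsClosedImmersion (X.homOfLE hUV) := IsClosedImmersion.of_comp _ (f ∣_ V)
    have hclosed : IsClosed (Set.range (X.homOfLE hUV)) :=
      (X.homOfLE hUV).isClosedEmbedding.isClosed_range
    have hrange : Set.range (X.homOfLE hUV) = {p | p.1 ∈ U} := by
      ext p
      constructor
      · rintro ⟨q, rfl⟩
        show ((X.homOfLE hUV) q).1 ∈ U
        rw [Scheme.homOfLE_apply]
        exact q.2
      · intro hp
        exact ⟨⟨p.1, hp⟩, Subtype.ext (Scheme.homOfLE_apply hUV _)⟩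
    have hopen : IsOpen {p : X | f p ∈ V ∧ p ∉ U} := by
      have h1 : IsOpen ((f ⁻¹ᵁ V).ι '' (Set.range (X.homOfLE hUV))ᶜ) :=
        (f ⁻¹ᵁ V).ι.isOpenEmbedding.isOpenMap _ hclosed.isOpen_compl
      convert h1 using 1
      ext p
      constructor
      · rintro ⟨hp1, hp2⟩
        refine ⟨⟨p, hp1⟩, ?_, rfl⟩
        rw [hrange]
        exact hp2
      · rintro ⟨q, hq, rfl⟩
        rw [hrange] at hq
        exact ⟨q.2, hq⟩
    intro p hp
    by_contra hpU
    have hdense := Groth.Agent.Helper5.BirDense.dense_of_forall_generic_mem U hU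
    obtain ⟨q, hq1, hq2⟩ := hdense.inter_open_nonempty _ hopen ⟨p, hp, hpU⟩
    exact hq1.2 hq2

end Groth.Agent.S9679
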