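import Groth.Statements.S9680
import Mathlib
import Groth.Agent.S4599
import Groth.Agent.Lib.Helper5.BirDense
import Groth.Agent.Lib.Helper24.SpreadLFP

set_option autoImplicit false
universe u
open CategoryTheory CategoryTheory.Limits AlgebraicGeometry
open Mor

namespace Groth.Agent.S9680

open AlgebraicGeometry CategoryTheory Limits in
lemma eqToHom_stalk {S : Scheme.{u}} {s t : S} (h : s = t) :
    eqToHom (congrArg S.presheaf.stalk h) = (S.presheaf.stalkCongr (.of_eq h)).hom := by
  subst h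
  simp

open AlgebraicGeometry CategoryTheory Limits in
lemma eqToHom_fromSpecStalk {S : Scheme.{u}} {s t : S} (h : s = t) :
    Spec.map (eqToHom (congrArg S.presheaf.stalk h)) ≫ S.fromSpecStalk s = S.fromSpecStalk t := by
  subst h
  simp

open AlgebraicGeometry CategoryTheory Limits in
lemma fwd_core {S X Y U : Scheme.{u}} (sX : X ⟶ S) (sY : Y ⟶ S) (a : U ⟶ X) (b : U ⟶ Y)
    [IsOpenImmersion a] [IsOpenImmersion b] (hab : b ≫ sY = a ≫ sX) (u : U) (x : X)
    (hx : a.base u = x) (y : Y) (hy : b.base u = y) :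
    ∃ (hs : sX.base x = sY.base y) (e : X.presheaf.stalk x ≅ Y.presheaf.stalk y),
      sX.stalkMap x ≫ e.hom = eqToHom (congrArg S.presheaf.stalk hs) ≫ sY.stalkMap y := by
  subst hx hy
  have hs : sX.base (a.base u) = sY.base (b.base u) := by
    have h1 : (a ≫ sX).base u = (b ≫ sY).base u := by rw [hab]
    exact h1
  refine ⟨hs, asIso (a.stalkMap u) ≪≫ (asIso (b.stalkMap u)).symm, ?_⟩
  rw [Iso.trans_hom, Iso.symm_hom, asIso_inv, asIso_hom, ← Category.assoc, IsIso.comp_inv_eq,
    Category.assoc, ← Scheme.Hom.stalkMap_comp, ← Scheme.Hom.stalkMap_comp,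
    Scheme.Hom.stalkMap_congr_hom _ _ hab.symm u, eqToHom_stalk hs]
  rfl

open AlgebraicGeometry CategoryTheory Limits in
lemma lemmaA {X : Scheme.{u}} {R : CommRingCat.{u}} [IsLocalRing R] (x : X)
    (α : X.presheaf.stalk x ⟶ R) [IsIso α] (ψ : Spec R ⟶ X)
    (hψ : ψ = Spec.map α ≫ X.fromSpecStalk x) :
    ψ (IsLocalRing.closedPoint R) = x ∧ IsIso (Scheme.stalkClosedPointTo ψ) := by
  subst hψ
  haveI : IsLocalHom α.hom := isLocalHom_of_isIso α
  have h := (SpecToEquivOfLocalRing X R).apply_symm_apply ⟨x, α, inferInstance⟩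
  obtain ⟨h1, h2⟩ := SpecToEquivOfLocalRing_eq_iff.mp h
  refine ⟨h1, ?_⟩
  have h2' : Scheme.stalkClosedPointTo (Spec.map α ≫ X.fromSpecStalk x) =
      (X.presheaf.stalkCongr _).hom ≫ α := h2
  rw [h2']
  infer_instance

set_option backward.isDefEq.respectTransparency false in
open AlgebraicGeometry CategoryTheory Limits in
lemma bwd_core {S X Y : Scheme.{u}} (sX : X ⟶ S) (sY : Y ⟶ S) [LocallyOfFinitePresentation sX]
    [LocallyOfFinitePresentation sY] (x : X) (y : Y)
    (hs : sX.base x = sY.base y) (e : X.presheaf.stalk x ≅ Y.presheaf.stalk y)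
    (he : sX.stalkMap x ≫ e.hom = eqToHom (congrArg S.presheaf.stalk hs) ≫ sY.stalkMap y) :
    ∃ (W : Scheme.{u}) (a : W ⟶ X) (b : W ⟶ Y), IsOpenImmersion a ∧ IsOpenImmersion b ∧
      b ≫ sY = a ≫ sX ∧ ∃ w : W, a.base w = x ∧ b.base w = y := by
  let φ : Spec (X.presheaf.stalk x) ⟶ Y := Spec.map e.inv ≫ Y.fromSpecStalk y
  have h1 : sY.stalkMap y ≫ e.inv =
      eqToHom (congrArg S.presheaf.stalk hs.symm) ≫ sX.stalkMap x := by
    rw [← cancel_mono e.hom, Category.assoc, Category.assoc, e.inv_hom_id, Category.comp_id, he,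
      ← Category.assoc, eqToHom_trans, eqToHom_refl, Category.id_comp]
  have hφ : φ ≫ sY = X.fromSpecStalk x ≫ sX := by
    show (Spec.map e.inv ≫ Y.fromSpecStalk y) ≫ sY = X.fromSpecStalk x ≫ sX
    rw [Category.assoc, ← Scheme.SpecMap_stalkMap_fromSpecStalk sY (x := y), ← Category.assoc,
      ← Spec.map_comp, h1, Spec.map_comp, Category.assoc, eqToHom_fromSpecStalk hs.symm,
      Scheme.SpecMap_stalkMap_fromSpecStalk]
  obtain ⟨U, hxU, f, hf1, hf2⟩ := Groth.Agent.Helper24.SpreadLFP.spread_out_of_lfp' sX sY φ hφ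
  haveI : LocallyOfFinitePresentation f := by
    have h2 : LocallyOfFinitePresentation (f ≫ sY) := by
      rw [hf2]
      infer_instance
    exact Groth.Agent.S4599.lfp_of_comp_of_lft h2 inferInstance
  let u : U.toScheme := ⟨x, hxU⟩
  obtain ⟨hp1, hi1⟩ := lemmaA u (inv (U.ι.stalkMap u)) (U.fromSpecStalkOfMem x hxU) rfl
  obtain ⟨hp2, hi2⟩ := lemmaA y e.inv (U.fromSpecStalkOfMem x hxU ≫ f) hf1.symm
  have hcomp := Scheme.stalkClosedPointTo_comp (U.fromSpecStalkOfMem x hxU) f
  have hi3 : IsIso (f.stalkMap ((U.fromSpecStalkOfMem x hxU) (IsLocalRing.closedPoint _))) := by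
    rw [hcomp] at hi2
    haveI := hi1
    haveI := hi2
    exact IsIso.of_isIso_comp_right (f.stalkMap _)
      (Scheme.stalkClosedPointTo (U.fromSpecStalkOfMem x hxU))
  have hi4 : IsIso (f.stalkMap u) := hp1 ▸ hi3
  have hfu : f u = y := by
    rw [← hp1]
    exact hp2
  obtain ⟨U', hu', himm⟩ := Groth.Agent.Helper5.BirDense.isLocalIsoAt_of_lfp f u hi4
  refine ⟨U'.toScheme, U'.ι ≫ U.ι, U'.ι ≫ f, inferInstance, himm, ?_, ⟨u, hu'⟩, rfl, hfu⟩
  rw [Category.assoc, Category.assoc, hf2]

/-- Suppose X and Y are irreducible S-schemes, each locally of finite presentation over S, with generic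
points x and y. Then X and Y are S-birational (they admit S-isomorphic nonempty opens) if and only
if x and y map to the same point s of S and the local rings of X at x and of Y at y are isomorphic
as algebras over the local ring of S at s. -/
theorem result {S X Y : Scheme.{u}}
    [IrreducibleSpace ↥X] [IrreducibleSpace ↥Y] (sX : X ⟶ S) (sY : Y ⟶ S)
    [LocallyOfFinitePresentation sX] [LocallyOfFinitePresentation sY] :
    Scheme.BirationalOver sX sY ↔
      ∃ (hs : sX.base (genericPoint ↥X) = sY.base (genericPoint ↥Y))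
        (e : X.presheaf.stalk (genericPoint ↥X) ≅ Y.presheaf.stalk (genericPoint ↥Y)),
        sX.stalkMap (genericPoint ↥X) ≫ e.hom =
          eqToHom (congrArg S.presheaf.stalk hs) ≫ sY.stalkMap (genericPoint ↥Y) := by
  constructor
  · rintro ⟨P, hP⟩
    have hne : (P.source : Set X).Nonempty := P.dense_source.nonempty
    have hxU : genericPoint ↥X ∈ P.source :=
      ((genericPoint_spec ↥X).mem_open_set_iff P.source.isOpen).mpr
        ⟨hne.some, trivial, hne.some_mem⟩
    have hne' : (P.target : Set Y).Nonempty := P.dense_target.nonempty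
    have hyV : genericPoint ↥Y ∈ P.target :=
      ((genericPoint_spec ↥Y).mem_open_set_iff P.target.isOpen).mpr
        ⟨hne'.some, trivial, hne'.some_mem⟩
    have hbu : (P.iso.hom ≫ P.target.ι).base ⟨genericPoint ↥X, hxU⟩ = genericPoint ↥Y := by
      obtain ⟨p, hp⟩ := P.iso.hom.surjective ⟨genericPoint ↥Y, hyV⟩
      have hp' : (P.iso.hom ≫ P.target.ι).base p = genericPoint ↥Y := by
        show P.target.ι.base (P.iso.hom.base p) = _
        rw [hp]
        rfl
      have h1 : (⟨genericPoint ↥X, hxU⟩ : P.source.toScheme) ⤳ p :=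
        (subtype_specializes_iff _ _).mpr ((genericPoint_spec ↥X).specializes (Set.mem_univ _))
      have h2 : (P.iso.hom ≫ P.target.ι).base ⟨genericPoint ↥X, hxU⟩ ⤳ genericPoint ↥Y :=
        hp' ▸ h1.map (P.iso.hom ≫ P.target.ι).continuous
      have h3 : genericPoint ↥Y ⤳ (P.iso.hom ≫ P.target.ι).base ⟨genericPoint ↥X, hxU⟩ :=
        (genericPoint_spec ↥Y).specializes (Set.mem_univ _)
      exact (h2.antisymm h3).eq
    exact fwd_core sX sY P.source.ι (P.iso.hom ≫ P.target.ι)
      (by rw [Category.assoc]; exact hP) ⟨genericPoint ↥X, hxU⟩ _ rfl _ hbu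
  · rintro ⟨hs, e, he⟩
    obtain ⟨W, a, b, ha, hb, hab, w, hwa, hwb⟩ :=
      bwd_core sX sY (genericPoint ↥X) (genericPoint ↥Y) hs e he
    haveI : IsDominant a := by
      refine ⟨?_⟩
      have h1 : Dense (Set.range a) :=
        a.isOpenEmbedding.isOpen_range.dense ⟨a w, w, rfl⟩
      exact h1
    haveI : IsDominant b := by
      refine ⟨?_⟩
      have h1 : Dense (Set.range b) :=
        b.isOpenEmbedding.isOpen_range.dense ⟨b w, w, rfl⟩
      exact h1
    have b1 : Scheme.BirationalOver (a ≫ sX) sX := Scheme.Hom.birationalOver a sX (a ≫ sX) rfl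
    have b2 : Scheme.BirationalOver (a ≫ sX) sY := Scheme.Hom.birationalOver b sY (a ≫ sX) hab
    exact b1.symm.trans b2

end Groth.Agent.S9680
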