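import Mathlib
import Groth.Statements.S9681
import Groth.Agent.Lib.Helper9.Birat2
-- import your own Groth.Agent.* helpers here

set_option autoImplicit false
universe u
open CategoryTheory CategoryTheory.Limits AlgebraicGeometry
open Mor

namespace Groth.Agent.S9681


/-- Suppose X and Y are integral S-schemes, each locally of finite type over S, with generic points x
and y. Then X and Y are S-birational (they admit S-isomorphic nonempty opens) if and only if x and y
map to the same point s of S and the residue fields of x and y are isomorphic as extensions of the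
residue field of s. -/
theorem result {S X Y : Scheme.{u}}
    [IsIntegral X] [IsIntegral Y] (sX : X ⟶ S) (sY : Y ⟶ S)
    [LocallyOfFiniteType sX] [LocallyOfFiniteType sY] :
    Scheme.BirationalOver sX sY ↔
      ∃ (hs : sX.base (genericPoint ↥X) = sY.base (genericPoint ↥Y))
        (e : X.residueField (genericPoint ↥X) ≅ Y.residueField (genericPoint ↥Y)),
        sX.residueFieldMap (genericPoint ↥X) ≫ e.hom =
          eqToHom (congrArg S.residueField hs) ≫ sY.residueFieldMap (genericPoint ↥Y) := by
  constructor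
  · rintro ⟨P, hP⟩
    haveI : Nonempty P.source.toScheme := by
      obtain ⟨x, hx⟩ := P.dense_source.nonempty
      exact ⟨⟨x, hx⟩⟩
    have h1 := genericPoint_eq_of_isOpenImmersion P.source.ι
    have h2 := genericPoint_eq_of_isOpenImmersion (P.iso.hom ≫ P.target.ι)
    exact Groth.Agent.Helper9.Birat.fwd_core sX sY P.source.ι (P.iso.hom ≫ P.target.ι)
      (by rw [Category.assoc]; exact hP) _ _ h1 _ h2
  · rintro ⟨hs, e, he⟩
    obtain ⟨U, hξU, f, hf₂, hpt⟩ := Groth.Agent.Helper9.Birat.bwd_core sX sY (genericPoint ↥X)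
      (Field.toIsField X.functionField) (genericPoint ↥Y) hs e he
    haveI : Nonempty U.toScheme := ⟨⟨_, hξU⟩⟩
    haveI : LocallyOfFiniteType (f ≫ sY) := by rw [hf₂]; infer_instance
    haveI : LocallyOfFiniteType f := locallyOfFiniteType_of_comp f sY
    obtain ⟨hy, hres⟩ := hpt (genericPoint ↥U.toScheme) (genericPoint_eq_of_isOpenImmersion U.ι)
    have hst := Groth.Agent.Helper9.Birat.stalkMap_surjective_of_residueFieldMap f
      (genericPoint ↥U.toScheme) (Field.toIsField U.toScheme.functionField) hres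
    obtain ⟨U₁, V₁, hUV, -, -, hξ₁, hη₁, hiso⟩ :=
      Groth.Agent.Helper9.Birat.exists_resLE_isIso f hy hst
    have hUd : Dense (U : Set X) := U.isOpen.dense ⟨_, hξU⟩
    have hU₁d : Dense (U₁ : Set U.toScheme) := U₁.isOpen.dense ⟨_, hξ₁⟩
    have hV₁d : Dense (V₁ : Set Y) := V₁.isOpen.dense ⟨_, hη₁⟩
    have b1 : Scheme.BirationalOver (U.ι ≫ sX) sX := U.birationalOver_of_dense sX hUd
    have b2 : Scheme.BirationalOver (U₁.ι ≫ U.ι ≫ sX) (U.ι ≫ sX) :=
      U₁.birationalOver_of_dense (U.ι ≫ sX) hU₁d
    have b3 : Scheme.BirationalOver (V₁.ι ≫ sY) sY := V₁.birationalOver_of_dense sY hV₁d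
    have b4 : Scheme.BirationalOver (U₁.ι ≫ U.ι ≫ sX) (V₁.ι ≫ sY) := by
      haveI := hiso
      exact Scheme.Hom.birationalOver (f.resLE V₁ U₁ hUV) (V₁.ι ≫ sY) (U₁.ι ≫ U.ι ≫ sX)
        (by rw [← Category.assoc, Scheme.Hom.resLE_comp_ι, Category.assoc, hf₂])
    exact b1.symm.trans (b2.symm.trans (b4.trans b3))

end Groth.Agent.S9681
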