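import Groth.Statements.S9683
import Mathlib

set_option autoImplicit false
universe u
open CategoryTheory CategoryTheory.Limits AlgebraicGeometry
open Mor

namespace Groth.Agent.S9683

section helpers
open CategoryTheory AlgebraicGeometry TopologicalSpace

theorem lift_chain {X Y : Type*} [PartialOrder X] [PartialOrder Y] (f : X → Y)
    (hf : ∀ (a : X) (b : Y), b ≤ f a → ∃ a', a' ≤ a ∧ f a' = b) :
    ∀ (n : ℕ) (p : LTSeries Y), p.length = n → ∀ x : X, f x = p.last →
      ∃ q : LTSeries X, q.length = n ∧ q.last = x := by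
  intro n
  induction n with
  | zero =>
    intro p hp x hx
    exact ⟨RelSeries.singleton _ x, rfl, by simp⟩
  | succ n ih =>
    intro p hp x hx
    have hne : p.length ≠ 0 := by omega
    have hlt : p.eraseLast.last < p.last := p.eraseLast_last_rel_last hne
    obtain ⟨x', hx'le, hx'⟩ := hf x p.eraseLast.last (by rw [hx]; exact hlt.le)
    have hx'lt : x' < x := by
      refine lt_of_le_of_ne hx'le (fun h => ?_)
      rw [h, hx] at hx'
      exact hlt.ne hx'.symm
    obtain ⟨q', hq'len, hq'last⟩ := ih p.eraseLast (by simp; omega) x' hx'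
    refine ⟨q'.snoc x (by rw [hq'last]; exact hx'lt), by simp [hq'len], by simp⟩

attribute [local instance] specializationOrder

theorem topDim_eq (T : Type*) [TopologicalSpace T] [QuasiSober T] [T0Space T] :
    topologicalKrullDim T = Order.krullDim T :=
  Order.krullDim_eq_of_orderIso irreducibleSetEquivPoints

theorem dim_le_of_inc {X Y : Type*} [TopologicalSpace X] [TopologicalSpace Y] [QuasiSober X]
    [T0Space X] [QuasiSober Y] [T0Space Y] (f : X → Y) (hf : Continuous f)
    (hinc : ∀ x x' : X, x' ⤳ x → f x' = f x → x' = x) :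
    topologicalKrullDim X ≤ topologicalKrullDim Y := by
  rw [topDim_eq, topDim_eq]
  apply Order.krullDim_le_of_strictMono f
  intro a b hab
  obtain ⟨h1', h2'⟩ := lt_iff_le_not_ge.1 hab
  have h1 : b ⤳ a := h1'
  have h2 : ¬ a ⤳ b := h2'
  refine lt_of_le_not_ge (h1.map hf) (fun h => h2 ?_)
  have h' : f a ⤳ f b := h
  have heq : f b = f a := ((h1.map hf).antisymm h').eq
  have hba := hinc a b h1 heq
  subst hba
  exact specializes_rfl

theorem dim_ge_of_closed_surj {X Y : Type*} [TopologicalSpace X] [TopologicalSpace Y]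
    [QuasiSober X] [T0Space X] [QuasiSober Y] [T0Space Y] (f : X → Y) (hf : IsClosedMap f)
    (hs : Function.Surjective f) :
    topologicalKrullDim Y ≤ topologicalKrullDim X := by
  rw [topDim_eq, topDim_eq]
  show Order.krullDim Y ≤ Order.krullDim X
  rw [Order.krullDim]
  apply iSup_le
  intro p
  obtain ⟨x, hx⟩ := hs p.last
  have hsp := hf.specializingMap
  obtain ⟨q, hq, -⟩ := lift_chain f (fun a b hb => hsp hb) p.length p rfl x hx
  rw [← hq]
  exact Order.LTSeries.length_le_krullDim q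

theorem mem_primeAt {X : Scheme.{u}} (U : X.Opens) (x : X) (hx : x ∈ U) (s : Γ(X, U)) :
    s ∈ Ideal.comap (X.presheaf.germ U x hx).hom
      (IsLocalRing.maximalIdeal (X.presheaf.stalk x)) ↔ x ∉ X.basicOpen s :=
  ⟨fun hs hmem => (mem_nonunits_iff.1 ((IsLocalRing.mem_maximalIdeal _).1
      (Ideal.mem_comap.1 hs))) ((Scheme.mem_basicOpen X s x hx).1 hmem),
    fun h => Ideal.mem_comap.2 ((IsLocalRing.mem_maximalIdeal _).2
      (mem_nonunits_iff.2 fun hu => h ((Scheme.mem_basicOpen X s x hx).2 hu)))⟩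

theorem inc {X Y : Scheme.{u}} (f : X ⟶ Y) [IsIntegralHom f] (x x' : X) (hsp : x' ⤳ x)
    (hfx : f x' = f x) : x' = x := by
  obtain ⟨V, hV, hxV, -⟩ := exists_isAffineOpen_mem_and_subset (x := f x) (U := ⊤) trivial
  have hU : IsAffineOpen (f ⁻¹ᵁ V) := hV.preimage f
  have hx : x ∈ f ⁻¹ᵁ V := hxV
  have hx' : x' ∈ f ⁻¹ᵁ V := by
    show f x' ∈ V
    rw [hfx]
    exact hxV
  have hφ : (f.app V).hom.IsIntegral := IsIntegralHom.isIntegral_app f V hV
  have hIJ : Ideal.comap (X.presheaf.germ (f ⁻¹ᵁ V) x' hx').hom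
      (IsLocalRing.maximalIdeal (X.presheaf.stalk x')) ≤
      Ideal.comap (X.presheaf.germ (f ⁻¹ᵁ V) x hx).hom
      (IsLocalRing.maximalIdeal (X.presheaf.stalk x)) := by
    intro s hs
    rw [mem_primeAt] at hs ⊢
    intro hmem
    exact hs (hsp.mem_open (X.basicOpen s).isOpen hmem)
  have hJI : Ideal.comap (X.presheaf.germ (f ⁻¹ᵁ V) x hx).hom
      (IsLocalRing.maximalIdeal (X.presheaf.stalk x)) ≤
      Ideal.comap (X.presheaf.germ (f ⁻¹ᵁ V) x' hx').hom
      (IsLocalRing.maximalIdeal (X.presheaf.stalk x')) := by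
    by_contra hne
    obtain ⟨s, hsJ, hsI⟩ := SetLike.not_le_iff_exists.1 hne
    obtain ⟨p, hmonic, hp⟩ := hφ s
    have hlt := Ideal.comap_lt_comap_of_root_mem_sdiff (f := (f.app V).hom) hIJ ⟨hsJ, hsI⟩
      (Polynomial.map_monic_ne_zero hmonic) (by rw [hp]; exact Ideal.zero_mem _)
    obtain ⟨-, t, htJ, htI⟩ := SetLike.lt_iff_le_and_exists.1 hlt
    have h1 : x ∉ X.basicOpen ((f.app V).hom t) := (mem_primeAt _ x hx _).1 htJ
    have h2 : x' ∈ X.basicOpen ((f.app V).hom t) := by
      by_contra h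
      exact htI ((mem_primeAt _ x' hx' _).2 h)
    have e := Scheme.preimage_basicOpen f t
    have h2' : x' ∈ f ⁻¹ᵁ Y.basicOpen t := by
      rw [e]
      exact h2
    apply h1
    have h1' : x ∈ f ⁻¹ᵁ Y.basicOpen t := by
      show f x ∈ Y.basicOpen t
      rw [← hfx]
      exact h2'
    rw [e] at h1'
    exact h1'
  have hsp' : x ⤳ x' := by
    rw [specializes_iff_forall_open]
    intro W hW hx'W
    obtain ⟨s, hsW, hxs⟩ := hU.exists_basicOpen_le (V := ⟨W, hW⟩) ⟨x', hx'W⟩ hx'
    have hsI : s ∉ Ideal.comap (X.presheaf.germ (f ⁻¹ᵁ V) x' hx').hom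
        (IsLocalRing.maximalIdeal (X.presheaf.stalk x')) :=
      fun h => ((mem_primeAt _ x' hx' s).1 h) hxs
    have hsJ : s ∉ Ideal.comap (X.presheaf.germ (f ⁻¹ᵁ V) x hx).hom
        (IsLocalRing.maximalIdeal (X.presheaf.stalk x)) := fun h => hsI (hJI h)
    have hmem : x ∈ X.basicOpen s := by
      by_contra h
      exact hsJ ((mem_primeAt _ x hx s).2 h)
    exact hsW hmem
  exact (hsp.antisymm hsp').eq

end helpers

/-- For any integral morphism of schemes f : X ⟶ Y, the dimension of X is at most that of Y, and if f is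
surjective then dim X = dim Y (dimensions of the underlying topological spaces). -/
theorem result {X Y : Scheme.{u}} (f : X ⟶ Y) [IsIntegralHom f] :
    topologicalKrullDim ↥X ≤ topologicalKrullDim ↥Y ∧
      (Surjective f → topologicalKrullDim ↥X = topologicalKrullDim ↥Y) := by
  have h1 : topologicalKrullDim ↥X ≤ topologicalKrullDim ↥Y :=
    dim_le_of_inc _ f.continuous (fun x x' h1 h2 => inc f x x' h1 h2)
  refine ⟨h1, fun hsurj => le_antisymm h1 ?_⟩
  exact dim_ge_of_closed_surj _ f.isClosedMap hsurj.surj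

end Groth.Agent.S9683
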