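import Groth.Statements.S9693
import Mathlib

set_option autoImplicit false
universe u
open CategoryTheory CategoryTheory.Limits AlgebraicGeometry
open Mor

namespace Groth.Agent.S9693

/-- A base change of an H-projective morphism (a closed immersion into some P^n over the base followed
by the projection) is H-projective. -/
theorem result {X S S' : Scheme.{u}} (f : X ⟶ S) (hf : RelProj.IsHProjective f)
    (g : S' ⟶ S) : RelProj.IsHProjective (pullback.snd f g) := by
  obtain ⟨n, i, hi, hif⟩ := hf
  -- notation
  let a := CohB1.ProjSpace.toSpec n (ULift.{u} ℤ)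
  let tS := AlgebraicGeometry.specULiftZIsTerminal.from S
  let tS' := AlgebraicGeometry.specULiftZIsTerminal.from S'
  have e : tS' = g ≫ tS := AlgebraicGeometry.specULiftZIsTerminal.hom_ext _ _
  have t1 : IsPullback (pullback.fst a tS) (pullback.snd a tS) a tS := IsPullback.of_hasPullback a tS
  have s1 : IsPullback (pullback.fst a tS') (pullback.snd a tS') a (g ≫ tS) := by
    rw [← e]; exact IsPullback.of_hasPullback a tS'
  have sq1 := IsPullback.of_right' s1 t1
  -- sq1 : IsPullback q (snd') (snd) g
  have t2 := sq1.flip
  have s2 : IsPullback (pullback.snd f g) (pullback.fst f g) g (i ≫ pullback.snd a tS) := by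
    have : i ≫ pullback.snd a tS = f := hif
    rw [this]; exact (IsPullback.of_hasPullback f g).flip
  have sq2 := IsPullback.of_right' s2 t2
  refine ⟨n, t2.lift (pullback.snd f g) (pullback.fst f g ≫ i) (by rw [s2.w, Category.assoc]; rfl), ?_, ?_⟩
  · exact MorphismProperty.of_isPullback (P := @IsClosedImmersion) sq2.flip hi
  · exact t2.lift_fst _ _ _

end Groth.Agent.S9693
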