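import Groth.Statements.S9696
import Mathlib
import Groth.Agent.H20.UnramLocus

set_option autoImplicit false
universe u
open CategoryTheory CategoryTheory.Limits AlgebraicGeometry
open Mor

namespace Groth.Agent.S9696

/-- Let f : X ⟶ S be flat and locally of finite presentation and g : S' ⟶ S any morphism, with base
change f' : X ×_S S' ⟶ S' and projection g' : X ×_S S' ⟶ X. Then the open set of points where f' is
etale is the inverse image under g' of the open set of points where f is etale. -/
theorem result {X S S' : Scheme.{u}} (f : X ⟶ S) [Flat f]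
    [LocallyOfFinitePresentation f] (g : S' ⟶ S) (x' : ↑(pullback f g)) :
    (∃ U' : (pullback f g).Opens, x' ∈ U' ∧ Etale (U'.ι ≫ pullback.snd f g)) ↔
      (∃ U : X.Opens, (pullback.fst f g).base x' ∈ U ∧ Etale (U.ι ≫ f)) := by
  have hE : ∀ {Y T : Scheme.{u}} (h : Y ⟶ T) [Flat h] [LocallyOfFinitePresentation h]
      (U : Y.Opens), Etale (U.ι ≫ h) ↔ FormallyUnramified (U.ι ≫ h) := by
    intro Y T h _ _ U
    rw [Etale.iff_flat_and_formallyUnramified]
    exact ⟨fun h => h.2.1, fun h => ⟨inferInstance, h, inferInstance⟩⟩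
  haveI : Flat (pullback.snd f g) := inferInstance
  haveI : LocallyOfFinitePresentation (pullback.snd f g) := inferInstance
  constructor
  · rintro ⟨U', hx, hEt⟩
    obtain ⟨U, hU1, hU2⟩ := Groth.Agent.H20.UnramLocus.fu_nbhd_of_pullback f g x'
      ⟨U', hx, (hE _ U').mp hEt⟩
    exact ⟨U, hU1, (hE _ U).mpr hU2⟩
  · rintro ⟨U, hx, hEt⟩
    obtain ⟨U', hU1, hU2⟩ := Groth.Agent.H20.UnramLocus.fu_nbhd_pullback_of f g x'
      ⟨U, hx, (hE _ U).mp hEt⟩
    exact ⟨U', hU1, (hE _ U').mpr hU2⟩

end Groth.Agent.S9696
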