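import Mathlib
import Groth.Statements.S9701
import Groth.Agent.Lib.Helper9.RatExt3
-- import your own Groth.Agent.* helpers here

set_option autoImplicit false
universe u
open CategoryTheory CategoryTheory.Limits AlgebraicGeometry
open Mor

namespace Groth.Agent.S9701


/-- Let p : X ⟶ S and q : Y ⟶ S with q proper, let x be a point of X whose local ring is a valuation
ring, U ⊆ X an open with x in the closure of U, and f : U ⟶ Y a morphism over S. Assume that X is
Noetherian, or else that X is reduced and has only finitely many irreducible components. Then there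
are an open U' of X containing U and x and a morphism f' : U' ⟶ Y over S extending f. -/
theorem result {X Y S : Scheme.{u}} (p : X ⟶ S) (q : Y ⟶ S)
    [IsProper q] (x : X) (U : X.Opens) (f : (U : Scheme.{u}) ⟶ Y) (hf : f ≫ q = U.ι ≫ p)
    (hx : x ∈ closure (U : Set ↥X))
    (hX : (IsReduced X ∧ (irreducibleComponents ↥X).Finite) ∨ IsNoetherian X)
    (hdom : IsDomain (X.presheaf.stalk x)) (hval : @ValuationRing (X.presheaf.stalk x) _ hdom) :
    ∃ (U' : X.Opens) (hUU' : U ≤ U'), x ∈ U' ∧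
      ∃ f' : (U' : Scheme.{u}) ⟶ Y, f' ≫ q = U'.ι ≫ p ∧ X.homOfLE hUU' ≫ f' = f := by
  haveI := hdom
  haveI : ValuationRing (X.presheaf.stalk x) := hval
  obtain ⟨W₀, hxW₀, hgi, hred, hstar⟩ : ∃ W₀ : X.Opens, x ∈ W₀ ∧ X.IsGermInjectiveAt x ∧
      IsReduced W₀.toScheme ∧
      ∀ (z : Spec (.of (FractionRing (X.presheaf.stalk x)))) (t : X),
      t ∈ W₀ → (Spec.map (CommRingCat.ofHom (algebraMap (X.presheaf.stalk x)
        (FractionRing (X.presheaf.stalk x)))) ≫ X.fromSpecStalk x) z ⤳ t := by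
    rcases hX with ⟨hred, hfin⟩ | hN
    · haveI := hred
      obtain ⟨W₀, h1, h2, h3⟩ := Groth.Agent.Helper9.RatExt.exists_nhd_of_reduced_finite hfin x
      exact ⟨W₀, h1, h2, inferInstance, h3⟩
    · haveI := hN
      obtain ⟨W₀, h1, h2, h3⟩ := Groth.Agent.Helper9.RatExt.exists_integral_nhd x
      exact ⟨W₀, h1, inferInstance, h2, h3⟩
  haveI := hgi
  haveI := hred
  obtain ⟨W, hxW, fW, hfW, hag⟩ :=
    Groth.Agent.Helper9.RatExt.local_ext' q p U f hf x hx W₀ hxW₀ hstar
  obtain ⟨U', hUU', hWU', F, hF, hF1, hF2⟩ :=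
    Groth.Agent.Helper9.RatExt.glue2 q p U W f fW hf hfW hag
  exact ⟨U', hUU', hWU' hxW, F, hF, hF1⟩

end Groth.Agent.S9701
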