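import Mathlib
import Groth.Statements.S9702
import Groth.Agent.Lib.Helper9.GenFin3
-- import your own Groth.Agent.* helpers here

set_option autoImplicit false
universe u
open CategoryTheory CategoryTheory.Limits AlgebraicGeometry
open Mor

namespace Groth.Agent.S9702

open Groth.Agent.Helper9

/-- Let X, Y be integral and f : X ⟶ Y dominant and locally of finite type, with ξ the generic point of
X (so f ξ is the generic point of Y). Then the following are equivalent: the residue field of ξ is
finite over that of f ξ; some nonempty affine opens U ⊆ X and V ⊆ Y with f(U) ⊆ V have U ⟶ V finite;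
every point of X that f sends to the generic point of Y equals ξ. Under the extra assumption that f
is quasi-compact or separated, these are also equivalent to: f⁻¹(V) ⟶ V is finite for some nonempty
affine open V ⊆ Y. (The published statement also lists transcendence degree 0 of the function field
extension, which for this finitely generated extension is equivalent to finiteness; this row omits
it.) -/
theorem result {X Y : Scheme.{u}} [IsIntegral X] [IsIntegral Y] (f : X ⟶ Y)
    [IsDominant f] [LocallyOfFiniteType f] :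
    let ξ := genericPoint ↥X
    let A := letI := (f.residueFieldMap ξ).hom.toAlgebra
      Module.Finite (Y.residueField (f.base ξ)) (X.residueField ξ)
    let B := ∃ (U : X.Opens) (V : Y.Opens) (hUV : U ≤ f ⁻¹ᵁ V), IsAffineOpen U ∧ IsAffineOpen V ∧
      Nonempty ↥U ∧ IsFinite (f.resLE V U hUV)
    let C := ∀ x : X, f.base x = genericPoint ↥Y → x = ξ
    let D := ∃ V : Y.Opens, IsAffineOpen V ∧ Nonempty ↥V ∧ IsFinite (f ∣_ V)
    (A ↔ B) ∧ (A ↔ C) ∧ (IsSeparated f ∨ QuasiCompact f → (A ↔ D)) := by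
  intro ξ A B C D
  have hy : f.base (genericPoint X) = genericPoint Y := GenStalk.map_genericPoint f
  have hX : IsField (X.presheaf.stalk (genericPoint X)) := Field.toIsField X.functionField
  have hY : IsField (Y.presheaf.stalk (f.base (genericPoint X))) := by
    rw [hy]; exact Field.toIsField Y.functionField
  have hAA' : A ↔ (f.stalkMap (genericPoint X)).hom.Finite :=
    GenFin.finite_residueFieldMap_iff f (genericPoint X) hX hY
  have hA'Q : (f.stalkMap (genericPoint X)).hom.Finite ↔ f.QuasiFiniteAt (genericPoint X) :=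
    (GenFin.quasiFiniteAt_iff_finite f (genericPoint X) hY).symm
  have hQC : f.QuasiFiniteAt (genericPoint X) ↔ C :=
    GenFin.quasiFiniteAt_genericPoint_iff f (genericPoint Y) hy
  have hAB : A ↔ B :=
    ⟨fun h => GenFin.exists_resLE_finite f (hAA'.mp h),
      fun ⟨U, V, hUV, hU, hV, hne, hfin⟩ =>
        hAA'.mpr (GenFin.finite_stalkMap_of_resLE f U V hUV hU hV hne hfin)⟩
  have hAC : A ↔ C := hAA'.trans (hA'Q.trans hQC)
  refine ⟨hAB, hAC, fun hsq => ⟨?_, ?_⟩⟩
  · intro hA
    obtain ⟨U₁, V₁, e, hU₁, hV₁, hne, hfin⟩ := hAB.mp hA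
    have hξU₁ : genericPoint X ∈ U₁ :=
      ((genericPoint_spec X).mem_open_set_iff U₁.isOpen).mpr ⟨hne.some.1, trivial, hne.some.2⟩
    have hηV₁ : genericPoint Y ∈ V₁ := hy ▸ e hξU₁
    haveI := hfin
    obtain ⟨V, hV, hηV, hVV₁, hle⟩ : ∃ V : Y.Opens, IsAffineOpen V ∧ genericPoint Y ∈ V ∧
        V ≤ V₁ ∧ f ⁻¹ᵁ V ≤ U₁ := by
      rcases hsq with hs | hq
      · haveI := hs
        exact ⟨V₁, hV₁, hηV₁, le_rfl, GenFin.preimage_le_of_isSeparated f U₁ V₁ e hξU₁⟩
      · haveI := hq
        obtain ⟨W, hηW, hW⟩ := GenFin.exists_open_preimage_le f (hAC.mp hA) U₁ hξU₁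
        obtain ⟨_, ⟨V, hV, rfl⟩, hηV, hVsub⟩ := Y.isBasis_affineOpens.exists_subset_of_mem_open
          (show genericPoint Y ∈ ((W ⊓ V₁ : Y.Opens) : Set Y) from ⟨hηW, hηV₁⟩) (W ⊓ V₁).isOpen
        exact ⟨V, hV, hηV, fun x hx => (hVsub hx).2, fun x hx => hW (hVsub hx).1⟩
    exact ⟨V, hV, ⟨⟨_, hηV⟩⟩, GenFin.isFinite_morphismRestrict_of_resLE f U₁ V₁ V e hVV₁ hle⟩
  · rintro ⟨V, hV, hne, hfin⟩
    haveI := hfin
    haveI : IsAffine (V : Scheme.{u}) := hV
    have hηV : genericPoint Y ∈ V :=
      ((genericPoint_spec Y).mem_open_set_iff V.isOpen).mpr ⟨hne.some.1, trivial, hne.some.2⟩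
    refine hAB.mpr ⟨f ⁻¹ᵁ V, V, le_rfl, ?_, hV, ⟨⟨genericPoint X, ?_⟩⟩, ?_⟩
    · exact isAffine_of_isAffineHom (f ∣_ V)
    · show f.base (genericPoint X) ∈ V
      rw [hy]; exact hηV
    · rw [Scheme.Hom.resLE_eq_morphismRestrict]; exact hfin

end Groth.Agent.S9702
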