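import Groth.Statements.S9705
import Mathlib
import Groth.Agent.S12049

set_option autoImplicit false
universe u
open CategoryTheory CategoryTheory.Limits AlgebraicGeometry
open Mor

namespace Groth.Agent.S9705

open AlgebraicGeometry CategoryTheory in
theorem isProper_toSpec (n : ℕ) (R : Type u) [CommRing R] :
    IsProper (CohB1.ProjSpace.toSpec n R) := by
  haveI := Groth.Agent.H19.WeilCohDim.finiteType_polyGrading n R
  haveI : IsClosedImmersion
      (Spec.map (CommRingCat.ofHom (algebraMap R (CohB1.polyGrading n R 0)))) :=
    IsClosedImmersion.spec_of_surjective _ (Groth.Agent.S12049.surj_algebraMap_zero n R)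
  change @IsProper (Proj (CohB1.polyGrading n R)) _
    (Proj.toSpecZero (CohB1.polyGrading n R) ≫ Spec.map _)
  infer_instance

open AlgebraicGeometry CategoryTheory CategoryTheory.Limits in
theorem isProper_toBase (n : ℕ) (S : Scheme.{u}) :
    IsProper (CohB1.ProjSpaceOver.toBase n S) := by
  haveI := isProper_toSpec n (ULift.{u} ℤ)
  change @IsProper (pullback (CohB1.ProjSpace.toSpec n (ULift.{u} ℤ))
    (specULiftZIsTerminal.from S)) _ (pullback.snd _ _)
  infer_instance

/-- Over a quasi-compact quasi-separated scheme S, a morphism f : X ⟶ S is H-projective if and only if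
it is H-quasi-projective and proper. -/
theorem result {X S : Scheme.{u}} [CompactSpace ↥S]
    [QuasiSeparatedSpace ↥S] (f : X ⟶ S) :
    RelProj.IsHProjective f ↔ RelProj.IsHQuasiProjective f ∧ IsProper f := by
  constructor
  · rintro ⟨n, i, hi, hcomp⟩
    refine ⟨⟨n, i, inferInstance, inferInstance, hcomp⟩, ?_⟩
    haveI := isProper_toBase n S
    rw [← hcomp]
    infer_instance
  · rintro ⟨⟨n, i, himm, hqc, hcomp⟩, hprop⟩
    refine ⟨n, i, ?_, hcomp⟩
    haveI := isProper_toBase n S
    haveI : IsProper (i ≫ CohB1.ProjSpaceOver.toBase n S) := by rw [hcomp]; exact hprop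
    haveI : IsProper i := IsProper.of_comp i (CohB1.ProjSpaceOver.toBase n S)
    exact IsClosedImmersion.of_isPreimmersion i i.isClosedMap.isClosed_range

end Groth.Agent.S9705
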