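import Groth.Statements.S9709
import Mathlib

set_option autoImplicit false
universe u
open CategoryTheory CategoryTheory.Limits AlgebraicGeometry
open Mor

namespace Groth.Agent.S9709

/-- Let f : X ⟶ S be an integral morphism. Then every point x of X is closed in its fibre: a point of
f⁻¹(f x) specialising from x equals x. -/
theorem result {X S : Scheme.{u}} (f : X ⟶ S) [IsIntegralHom f] (x : X) :
    closure {x} ∩ f.base ⁻¹' {f.base x} = {x} := by
  apply Set.Subset.antisymm
  · rintro y ⟨hy1, hy2⟩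
    rw [Set.mem_singleton_iff]
    have hy2' : f.base y = f.base x := hy2
    have hspec : x ⤳ y := specializes_iff_mem_closure.mpr hy1
    -- choose an affine open neighbourhood of f x
    obtain ⟨V, hV, hxV⟩ : ∃ V : S.Opens, IsAffineOpen V ∧ f.base x ∈ V := by
      obtain ⟨_, ⟨V, hV, rfl⟩, hxV, -⟩ :=
        (S.isBasis_affineOpens).exists_subset_of_mem_open (Set.mem_univ (f.base x)) isOpen_univ
      exact ⟨V, hV, hxV⟩
    have hU : IsAffineOpen (f ⁻¹ᵁ V) := hV.preimage f
    have hxU : x ∈ f ⁻¹ᵁ V := hxV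
    have hyU : y ∈ f ⁻¹ᵁ V := by
      change f.base y ∈ V
      rw [hy2']; exact hxV
    obtain ⟨px', hpx'⟩ : x ∈ Set.range hU.fromSpec := by rw [hU.range_fromSpec]; exact hxU
    obtain ⟨py', hpy'⟩ : y ∈ Set.range hU.fromSpec := by rw [hU.range_fromSpec]; exact hyU
    have hle : px' ⤳ py' := by
      have := hU.fromSpec.isOpenEmbedding.isInducing.specializes_iff (x := px') (y := py')
      rw [hpx', hpy'] at this
      exact this.mp hspec
    have hsq := IsAffineOpen.SpecMap_appLE_fromSpec f hV hU le_rfl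
    have hcomap : (Spec.map (f.appLE V (f ⁻¹ᵁ V) le_rfl)) px' = (Spec.map (f.appLE V (f ⁻¹ᵁ V) le_rfl)) py' := by
      apply hV.fromSpec.isOpenEmbedding.injective
      rw [← Scheme.Hom.comp_apply, ← Scheme.Hom.comp_apply, hsq, Scheme.Hom.comp_apply,
        Scheme.Hom.comp_apply, hpx', hpy', hy2']
    have hint : (f.appLE V (f ⁻¹ᵁ V) le_rfl).hom.IsIntegral := by
      rw [← Scheme.Hom.app_eq_appLE]
      exact IsIntegralHom.isIntegral_app f V hV
    -- now pass to prime spectra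
    obtain ⟨px, hpxe⟩ : ∃ px : PrimeSpectrum Γ(X, f ⁻¹ᵁ V), px = px' := ⟨px', rfl⟩
    obtain ⟨py, hpye⟩ : ∃ py : PrimeSpectrum Γ(X, f ⁻¹ᵁ V), py = py' := ⟨py', rfl⟩
    have hle' : px ≤ py := by
      rw [PrimeSpectrum.le_iff_specializes, hpxe, hpye]; exact hle
    have hcomap' : px.asIdeal.comap (f.appLE V (f ⁻¹ᵁ V) le_rfl).hom =
        py.asIdeal.comap (f.appLE V (f ⁻¹ᵁ V) le_rfl).hom := by
      rw [hpxe, hpye]
      exact congrArg PrimeSpectrum.asIdeal hcomap
    have hpxy : px = py := by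
      letI := (f.appLE V (f ⁻¹ᵁ V) le_rfl).hom.toAlgebra
      haveI : Algebra.IsIntegral Γ(S, V) Γ(X, f ⁻¹ᵁ V) := ⟨hint⟩
      by_contra hne
      have hlt : px.asIdeal < py.asIdeal := lt_of_le_of_ne hle' (fun h => hne (PrimeSpectrum.ext h))
      have := Ideal.IsIntegral.comap_lt_comap (R := Γ(S, V)) hlt
      have heq : px.asIdeal.comap (algebraMap Γ(S, V) Γ(X, f ⁻¹ᵁ V)) =
          py.asIdeal.comap (algebraMap Γ(S, V) Γ(X, f ⁻¹ᵁ V)) := hcomap'
      rw [heq] at this
      exact lt_irrefl _ this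
    rw [← hpx', ← hpy', ← hpxe, ← hpye, hpxy]
  · rintro y rfl
    exact ⟨subset_closure rfl, rfl⟩

end Groth.Agent.S9709
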