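import Groth.Statements.S9720
import Groth.Agent.H25.Unr3

set_option autoImplicit false
universe u
open CategoryTheory CategoryTheory.Limits AlgebraicGeometry
open Mor

namespace Groth.Agent.S9720

/-- Let f : X ⟶ S be locally of finite type such that for every point s of S the fibre X_s is isomorphic
over κ(s) to a coproduct of schemes Spec K_i, each K_i a finite separable extension field of κ(s).
In that case f is formally unramified (so unramified, being locally of finite type). -/
theorem result {X S : Scheme.{u}} (f : X ⟶ S) [LocallyOfFiniteType f]
    (H : ∀ s : S, ∃ (ι : Type u) (K : ι → Type u) (_ : ∀ i, Field (K i))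
      (_ : ∀ i, Algebra (S.residueField s) (K i)),
      (∀ i, FiniteDimensional (S.residueField s) (K i) ∧ Algebra.IsSeparable (S.residueField s) (K i)) ∧
        ∃ e : f.fiber s ≅ ∐ (fun i => Spec (CommRingCat.of (K i))),
          e.hom ≫ Sigma.desc (fun i => Spec.map (CommRingCat.ofHom (algebraMap (S.residueField s) (K i)))) =
            f.fiberToSpecResidueField s) :
    FormallyUnramified f := by
  have key : ∀ x : X, ∃ W : X.Opens, x ∈ W ∧ FormallyUnramified (W.ι ≫ f) := by
    intro x
    obtain ⟨ι, K, hK, hA, hKs, e, he⟩ := H (f x)
    have sq : IsPullback (f.fiberι (f x)) (f.fiberToSpecResidueField (f x)) f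
        (S.fromSpecResidueField (f x)) := IsPullback.of_hasPullback _ _
    have hfib : FormallyUnramified (f.fiberToSpecResidueField (f x)) := by
      rw [← he, MorphismProperty.cancel_left_of_respectsIso (P := @FormallyUnramified)]
      refine IsZariskiLocalAtSource.sigmaDesc (P := @FormallyUnramified) fun i => ?_
      rw [HasRingHomProperty.Spec_iff (P := @FormallyUnramified)]
      haveI := (hKs i).2
      exact (RingHom.formallyUnramified_algebraMap).2 (Algebra.FormallyUnramified.of_isSeparable _ _)
    have := Groth.Agent.H25.Unr.fu_near_of_isPullback sq (f.asFiber x) ⊤ trivial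
      (MorphismProperty.comp_mem _ _ _ (inferInstance : FormallyUnramified _) hfib)
    rwa [f.fiberι_asFiber] at this
  choose W hW hWf using key
  refine IsZariskiLocalAtSource.of_iSup_eq_top (P := @FormallyUnramified) W ?_ hWf
  exact top_le_iff.mp fun x _ => TopologicalSpace.Opens.mem_iSup.mpr ⟨x, hW x⟩


end Groth.Agent.S9720
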