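import Groth.Statements.S9738
import Mathlib
import Groth.Agent.Lib.Helper8.LocalCrit

set_option autoImplicit false
universe u
open FlatMor

namespace Groth.Agent.S9738

section Helpers
open TensorProduct AlgebraicGeometry CategoryTheory Limits

attribute [local instance] Algebra.TensorProduct.rightAlgebra in
noncomputable def commEquiv9738 (R B T : Type*) [CommRing R] [CommRing B] [CommRing T]
    [Algebra R B] [Algebra R T] : B ⊗[R] T ≃ₐ[T] T ⊗[R] B :=
  AlgEquiv.ofRingEquiv (f := (Algebra.TensorProduct.comm R B T).toRingEquiv) (by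
    intro r
    show (Algebra.TensorProduct.comm R B T) (algebraMap T (B ⊗[R] T) r) =
      algebraMap T (T ⊗[R] B) r
    rw [Algebra.TensorProduct.right_algebraMap_apply, Algebra.TensorProduct.comm_tmul,
      Algebra.TensorProduct.algebraMap_apply]
    rfl)

attribute [local instance] Algebra.TensorProduct.rightAlgebra in
theorem ring9738 (R B : Type u) [CommRing R] [CommRing B] [Algebra R B] [IsNoetherianRing R]
    [IsNoetherianRing B] (a : Ideal R)
    (hfl : ∀ n : ℕ, Module.Flat (R ⧸ a ^ (n + 1)) (B ⊗[R] (R ⧸ a ^ (n + 1))))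
    (q : Ideal B) [q.IsPrime] (ha : a ≤ q.comap (algebraMap R B)) :
    Module.Flat R (Localization.AtPrime q) := by
  have hflat : ∀ n : ℕ, 0 < n → Module.Flat (R ⧸ a ^ n) ((R ⧸ a ^ n) ⊗[R] B) := by
    intro n hn
    obtain ⟨m, rfl⟩ := Nat.exists_eq_succ_of_ne_zero hn.ne'
    haveI := hfl m
    exact Module.Flat.of_linearEquiv (commEquiv9738 R B (R ⧸ a ^ (m + 1))).symm.toLinearEquiv
  have hq : a.map (algebraMap R B) ≤ q := Ideal.map_le_iff_le_comap.mpr ha
  have hfl1 : Module.Flat R (LocalizedModule q.primeCompl B) :=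
    Groth.Agent.Helper8.LocalCrit.flat_localizedModule_of_flat_mod_pow a hflat q hq
  let e := IsLocalizedModule.iso q.primeCompl (Algebra.linearMap B (Localization.AtPrime q))
  exact Module.Flat.of_linearEquiv (e.restrictScalars R).symm

theorem flat_localRingHom9738 {R B : Type*} [CommRing R] [CommRing B] (φ : R →+* B)
    (p : Ideal R) [p.IsPrime] (q : Ideal B) [q.IsPrime] (hpq : p = q.comap φ)
    (h : letI := φ.toAlgebra; Module.Flat R (Localization.AtPrime q)) :
    (Localization.localRingHom p q φ hpq).Flat := by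
  subst hpq
  algebraize [φ, Localization.localRingHom (Ideal.comap φ q) q φ rfl]
  have : IsScalarTower R (Localization.AtPrime (Ideal.comap φ q)) (Localization.AtPrime q) :=
    .of_algebraMap_eq fun x ↦ (Localization.localRingHom_to_map _ _ _ rfl x).symm
  rw [RingHom.Flat, Module.flat_iff_of_isLocalization
    (S := (Localization.AtPrime (Ideal.comap φ q))) (p := (Ideal.comap φ q).primeCompl)]
  exact h

set_option backward.isDefEq.respectTransparency false in
theorem flatBC9738 {X S : Scheme.{u}} (f : X ⟶ S) (J : S.IdealSheafData)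
    (h : Flat (pullback.snd f J.subschemeι)) {V : S.Opens} (hV : IsAffineOpen V)
    {U : X.Opens} (hU : IsAffineOpen U) (e : U ≤ f ⁻¹ᵁ V) :
    letI := (f.appLE V U e).hom.toAlgebra
    letI := Algebra.TensorProduct.rightAlgebra (R := Γ(S, V)) (A := Γ(X, U))
      (B := Γ(S, V) ⧸ J.ideal ⟨V, hV⟩)
    Module.Flat (Γ(S, V) ⧸ J.ideal ⟨V, hV⟩)
      (Γ(X, U) ⊗[Γ(S, V)] (Γ(S, V) ⧸ J.ideal ⟨V, hV⟩)) := by
  letI := (f.appLE V U e).hom.toAlgebra
  have e₁ : Spec.map (CommRingCat.ofHom (algebraMap Γ(S, V) Γ(X, U))) ≫ hV.fromSpec =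
      hU.fromSpec ≫ f := IsAffineOpen.SpecMap_appLE_fromSpec f hV hU e
  have e₂ : Spec.map (CommRingCat.ofHom (algebraMap Γ(S, V) (Γ(S, V) ⧸ J.ideal ⟨V, hV⟩))) ≫
      hV.fromSpec = J.subschemeCover.f ⟨V, hV⟩ ≫ J.subschemeι := by
    rw [Scheme.IdealSheafData.subschemeCover_map_subschemeι,
      Scheme.IdealSheafData.glueDataObjι_ι]
    rfl
  haveI : IsOpenImmersion (J.subschemeCover.f ⟨V, hV⟩) := inferInstance
  let ρ : pullback (Spec.map (CommRingCat.ofHom (algebraMap Γ(S, V) Γ(X, U))))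
        (Spec.map (CommRingCat.ofHom (algebraMap Γ(S, V) (Γ(S, V) ⧸ J.ideal ⟨V, hV⟩)))) ⟶
      pullback f J.subschemeι :=
    pullback.map _ _ _ _ hU.fromSpec (J.subschemeCover.f ⟨V, hV⟩) hV.fromSpec e₁ e₂
  haveI : IsOpenImmersion ρ := Scheme.pullback_map_isOpenImmersion _ _ _ _ _ _ _ _ _
  have hρ : ρ ≫ pullback.snd f J.subschemeι =
      pullback.snd _ _ ≫ J.subschemeCover.f ⟨V, hV⟩ := by
    simp [ρ]
  have h1 : Flat (pullback.snd (Spec.map (CommRingCat.ofHom (algebraMap Γ(S, V) Γ(X, U))))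
      (Spec.map (CommRingCat.ofHom (algebraMap Γ(S, V) (Γ(S, V) ⧸ J.ideal ⟨V, hV⟩))))) := by
    refine MorphismProperty.of_postcomp (W := @Flat) (W' := @IsOpenImmersion) _
      (J.subschemeCover.f ⟨V, hV⟩) inferInstance ?_
    rw [← hρ]
    infer_instance
  have h2 : Flat ((pullbackSpecIso Γ(S, V) Γ(X, U) (Γ(S, V) ⧸ J.ideal ⟨V, hV⟩)).inv ≫
      pullback.snd _ _) := inferInstance
  rw [pullbackSpecIso_inv_snd] at h2
  exact (HasRingHomProperty.Spec_iff (P := @Flat)).mp h2

set_option backward.isDefEq.respectTransparency false in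
theorem main9738 {X S : Scheme.{u}} (f : X ⟶ S) [IsLocallyNoetherian X] [IsLocallyNoetherian S]
    (I : S.IdealSheafData) (h : ∀ n : ℕ, Flat (pullback.snd f (I ^ (n + 1)).subschemeι))
    (x : X) (hx : f x ∈ I.support) : (f.stalkMap x).hom.Flat := by
  obtain ⟨V, hV, hfxV, -⟩ :=
    exists_isAffineOpen_mem_and_subset (x := f x) (U := ⊤) trivial
  obtain ⟨U, hU, hxU, hUV⟩ :=
    exists_isAffineOpen_mem_and_subset (x := x) (U := f ⁻¹ᵁ V) hfxV
  have e : U ≤ f ⁻¹ᵁ V := hUV
  haveI : IsNoetherianRing Γ(S, V) := IsLocallyNoetherian.component_noetherian ⟨V, hV⟩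
  haveI : IsNoetherianRing Γ(X, U) := IsLocallyNoetherian.component_noetherian ⟨U, hU⟩
  refine (RingHom.Flat.respectsIso.arrow_mk_iso_iff
    (IsAffineOpen.arrowStalkMapIso f V hV U hU e hxU)).mpr ?_
  algebraize [(f.appLE V U e).hom]
  have hcomap : (hU.primeIdealOf ⟨x, hxU⟩).asIdeal.comap
      (algebraMap Γ(S, V) Γ(X, U)) = (hV.primeIdealOf ⟨f x, hfxV⟩).asIdeal :=
    congr($(IsAffineOpen.comap_primeIdealOf_appLE V hV U hU e hxU).1)
  have hflq : Module.Flat Γ(S, V) (Localization.AtPrime (hU.primeIdealOf ⟨x, hxU⟩).asIdeal) := by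
    refine ring9738 Γ(S, V) Γ(X, U) (I.ideal ⟨V, hV⟩) ?_ _ ?_
    · intro n
      exact flatBC9738 f (I ^ (n + 1)) (h n) hV hU e
    · intro r hr
      rw [hcomap]
      by_contra hr'
      have hz : f x ∈ S.zeroLocus (U := V) (I.ideal ⟨V, hV⟩) :=
        (Scheme.IdealSheafData.mem_support_iff_of_mem (U := ⟨V, hV⟩) hfxV).mp hx
      have hnb : f x ∉ S.basicOpen r := (Scheme.mem_zeroLocus_iff _ _ _).mp hz r hr
      apply hnb
      have h1 : hV.primeIdealOf ⟨f x, hfxV⟩ ∈
          (PrimeSpectrum.basicOpen r : Set (PrimeSpectrum Γ(S, V))) := hr'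
      have h2 : hV.primeIdealOf ⟨f x, hfxV⟩ ∈ hV.fromSpec ⁻¹ᵁ S.basicOpen r := by
        rw [hV.fromSpec_preimage_basicOpen]; exact h1
      have h3 : hV.fromSpec (hV.primeIdealOf ⟨f x, hfxV⟩) = f x :=
        hV.fromSpec_primeIdealOf ⟨f x, hfxV⟩
      rw [← h3]; exact h2
  exact flat_localRingHom9738 (f.appLE V U e).hom _ _ hcomap.symm hflq

end Helpers

open AlgebraicGeometry CategoryTheory Limits in
/-- For a morphism f : X ⟶ S between locally Noetherian schemes, an ideal sheaf I on S with closed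
subscheme Z, and Z_n the closed subscheme cut out by I^(n+1): if each base change X ×_S Z_n ⟶ Z_n is
flat, then f is flat at each point of X lying over Z. -/
theorem result {X S : Scheme.{u}} (f : X ⟶ S) [IsLocallyNoetherian X] [IsLocallyNoetherian S]
    (I : S.IdealSheafData) (h : ∀ n : ℕ, Flat (pullback.snd f (I ^ (n + 1)).subschemeι)) (x : X) (hx : f x ∈ I.support) :
    (f.stalkMap x).hom.Flat := by
  exact main9738 f I h x hx

end Groth.Agent.S9738
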