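import Groth.Statements.S9748
import Groth.Agent.Lead.FPSec
-- import your own Groth.Agent.* helpers here

set_option autoImplicit false
universe u
open Flatn

namespace Groth.Agent.S9748


section
open AlgebraicGeometry CategoryTheory CategoryTheory.Limits Opposite TopologicalSpace
open Groth.Agent.Lead.QCoh Groth.Agent.Lead.FinType Groth.Agent.Lead.AffSurj

theorem relFP_of_surjective {R S : Type u} [CommRing R] [CommRing S] [Algebra R S] {N N' : Type u}
    [AddCommGroup N] [Module S N] [AddCommGroup N'] [Module S N'] (l : N →ₗ[S] N')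
    (hl : Function.Surjective l) (hk : (LinearMap.ker l).FG)
    (h : FlatCA.RelFinitePresentation R S N) : FlatCA.RelFinitePresentation R S N' := by
  obtain ⟨n, φ, hφ, hfp⟩ := h
  refine ⟨n, φ, hφ, ?_⟩
  letI : Module (MvPolynomial (Fin n) R) N := Module.compHom N φ.toRingHom
  letI : Module (MvPolynomial (Fin n) R) N' := Module.compHom N' φ.toRingHom
  haveI : Module.FinitePresentation (MvPolynomial (Fin n) R) N := hfp
  let l' : N →ₗ[MvPolynomial (Fin n) R] N' :=
    { toFun := fun x => l x
      map_add' := fun a b => map_add l a b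
      map_smul' := fun p x => l.map_smul (φ p) x }
  have hsurj : Function.Surjective l' := hl
  obtain ⟨s, hs⟩ := hk
  have hfg : (LinearMap.ker l').FG := by
    refine ⟨s, ?_⟩
    apply le_antisymm
    · rw [Submodule.span_le]
      intro x hx
      have hx' : x ∈ LinearMap.ker l := by rw [← hs]; exact Submodule.subset_span hx
      exact hx'
    · intro x hx
      have hx' : x ∈ Submodule.span S (s : Set N) := by rw [hs]; exact hx
      have key : ∀ y, y ∈ Submodule.span S (s : Set N) →
          y ∈ Submodule.span (MvPolynomial (Fin n) R) (s : Set N) := by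
        intro y hy
        induction hy using Submodule.span_induction with
        | mem y hy => exact Submodule.subset_span hy
        | zero => exact Submodule.zero_mem _
        | add y z _ _ hy hz => exact Submodule.add_mem _ hy hz
        | smul c y _ hy =>
          obtain ⟨p, rfl⟩ := hφ c
          exact Submodule.smul_mem _ p hy
      exact key x hx'
  exact Module.finitePresentation_of_surjective l' hsurj hfg

set_option backward.isDefEq.respectTransparency false in
theorem relFPOn_quot {X S : Scheme.{u}} (f : X ⟶ S) (E : ShortComplex X.Modules)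
    (hE : E.ShortExact) [E.X₁.IsQuasicoherent] [E.X₂.IsQuasicoherent] [E.X₃.IsQuasicoherent]
    [SheafOfModules.IsFiniteType.{u, u, u} (R := X.ringCatSheaf) E.X₁]
    (U : X.affineOpens) (V : S.affineOpens)
    (h : (U : X.Opens) ≤ f ⁻¹ᵁ (V : S.Opens)) (hG : Flatn.RelFPOn f E.X₂ U V h) :
    Flatn.RelFPOn f E.X₃ U V h := by
  letI := (f.appLE (V : S.Opens) (U : X.Opens) h).hom.toAlgebra
  haveI : Epi E.g := hE.epi_g
  have hsurj : Function.Surjective (E.g.val.app (op (U : X.Opens))).hom :=
    app_surjective_of_isAffineOpen E.g U.2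
  haveI hfin : Module.Finite Γ(X, (U : X.Opens)) Γ(E.X₁, (U : X.Opens)) :=
    finite_sections_of_isFiniteType E.X₁ U.2
  haveI hfin' : Module.Finite Γ(X, (U : X.Opens)) (E.X₁.val.obj (op (U : X.Opens))) := hfin
  have hker : LinearMap.ker (E.g.val.app (op (U : X.Opens))).hom =
      LinearMap.range (E.f.val.app (op (U : X.Opens))).hom := by
    ext t
    constructor
    · intro ht
      obtain ⟨s, hs⟩ := app_exact E hE (U : X.Opens) t ht
      exact ⟨s, hs⟩
    · rintro ⟨s, rfl⟩
      show E.g.app (U : X.Opens) (E.f.app (U : X.Opens) s) = 0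
      have : (E.f ≫ E.g).app (U : X.Opens) s = 0 := by rw [E.zero]; rfl
      exact this
  have hfin'' : Module.Finite (X.ringCatSheaf.obj.obj (op (U : X.Opens)))
      (E.X₁.val.obj (op (U : X.Opens))) := hfin
  have hfg : (LinearMap.ker (E.g.val.app (op (U : X.Opens))).hom).FG := by
    rw [hker, LinearMap.range_eq_map]
    exact (hfin''.fg_top).map _
  exact relFP_of_surjective (R := Γ(S, (V : S.Opens))) (S := Γ(X, (U : X.Opens)))
    (E.g.val.app (op (U : X.Opens))).hom hsurj hfg hG

theorem main {X S : Scheme.{u}} (f : X ⟶ S) (E : ShortComplex X.Modules) (hE : E.ShortExact)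
    [E.X₁.IsQuasicoherent] [E.X₂.IsQuasicoherent] [E.X₃.IsQuasicoherent]
    [SheafOfModules.IsFiniteType.{u, u, u} (R := X.ringCatSheaf) E.X₁]
    (h₂ : Flatn.IsRelFP f E.X₂) : Flatn.IsRelFP f E.X₃ := by
  obtain ⟨𝒱, h𝒱, H⟩ := h₂
  refine ⟨𝒱, h𝒱, fun V hV => ?_⟩
  obtain ⟨𝒰, h𝒰, H'⟩ := H V hV
  exact ⟨𝒰, h𝒰, fun U hU hle => relFPOn_quot f E hE U V hle (H' U hU hle)⟩
end

open AlgebraicGeometry CategoryTheory Limits in
/-- Let f : X ⟶ S be locally of finite type and let 0 → F' → F → F'' → 0 be exact in quasi-coherent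
O_X-modules. Suppose the submodule F' is of finite type and F has finite presentation relative to
the base S. Then the quotient F'' also has finite presentation relative to S. -/
theorem result {X S : Scheme.{u}} (f : X ⟶ S) [LocallyOfFiniteType f] (E : ShortComplex X.Modules) (hE : E.ShortExact)
    [Coh.IsQCoh E.X₁] [Coh.IsQCoh E.X₂] [Coh.IsQCoh E.X₃] (h₁ : CohB1.IsFT E.X₁) (h₂ : Flatn.IsRelFP f E.X₂) :
    Flatn.IsRelFP f E.X₃ := by
  haveI : E.X₁.IsQuasicoherent := ‹Coh.IsQCoh E.X₁›
  haveI : E.X₂.IsQuasicoherent := ‹Coh.IsQCoh E.X₂›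
  haveI : E.X₃.IsQuasicoherent := ‹Coh.IsQCoh E.X₃›
  haveI : SheafOfModules.IsFiniteType.{u, u, u} (R := X.ringCatSheaf) E.X₁ := h₁
  exact main f E hE h₂

end Groth.Agent.S9748
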