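import Groth.Statements.S9749
import Mathlib.Algebra.Module.FinitePresentation
-- import your own Groth.Agent.* helpers here

set_option autoImplicit false
universe u
open Flatn

namespace Groth.Agent.S9749


section
open AlgebraicGeometry CategoryTheory CategoryTheory.Limits Opposite TopologicalSpace

theorem relFP_of_retract {R S : Type u} [CommRing R] [CommRing S] [Algebra R S] {N N' : Type u}
    [AddCommGroup N] [Module S N] [AddCommGroup N'] [Module S N'] (l : N →ₗ[S] N')
    (i : N' →ₗ[S] N) (hli : ∀ y, l (i y) = y)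
    (h : FlatCA.RelFinitePresentation R S N) : FlatCA.RelFinitePresentation R S N' := by
  obtain ⟨n, φ, hφ, hfp⟩ := h
  refine ⟨n, φ, hφ, ?_⟩
  letI : Module (MvPolynomial (Fin n) R) N := Module.compHom N φ.toRingHom
  letI : Module (MvPolynomial (Fin n) R) N' := Module.compHom N' φ.toRingHom
  haveI : Module.FinitePresentation (MvPolynomial (Fin n) R) N := hfp
  haveI : Module.Finite (MvPolynomial (Fin n) R) N := inferInstance
  let l' : N →ₗ[MvPolynomial (Fin n) R] N' :=
    { toFun := fun x => l x
      map_add' := fun a b => map_add l a b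
      map_smul' := fun p x => l.map_smul (φ p) x }
  let i' : N' →ₗ[MvPolynomial (Fin n) R] N :=
    { toFun := fun x => i x
      map_add' := fun a b => map_add i a b
      map_smul' := fun p x => i.map_smul (φ p) x }
  have hsurj : Function.Surjective l' := fun y => ⟨i y, hli y⟩
  have hker : LinearMap.ker l' = LinearMap.range (LinearMap.id - i' ∘ₗ l') := by
    ext x
    constructor
    · intro hx
      refine ⟨x, ?_⟩
      have hx' : l x = 0 := hx
      show x - i (l x) = x
      rw [hx', map_zero, sub_zero]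
    · rintro ⟨y, rfl⟩
      show l (y - i (l y)) = 0
      rw [map_sub, hli, sub_self]
  have hfg : (LinearMap.ker l').FG := by
    rw [hker, LinearMap.range_eq_map]
    exact (Module.Finite.fg_top).map _
  exact Module.finitePresentation_of_surjective l' hsurj hfg

set_option backward.isDefEq.respectTransparency false in
theorem relFPOn_of_retract {X S : Scheme.{u}} (f : X ⟶ S) (G F : X.Modules) (p : G ⟶ F) (j : F ⟶ G)
    (hjp : j ≫ p = 𝟙 F) (U : X.affineOpens) (V : S.affineOpens)
    (h : (U : X.Opens) ≤ f ⁻¹ᵁ (V : S.Opens)) (hG : Flatn.RelFPOn f G U V h) :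
    Flatn.RelFPOn f F U V h := by
  letI := (f.appLE (V : S.Opens) (U : X.Opens) h).hom.toAlgebra
  refine relFP_of_retract (R := Γ(S, (V : S.Opens))) (S := Γ(X, (U : X.Opens)))
    (p.val.app (op (U : X.Opens))).hom (j.val.app (op (U : X.Opens))).hom (fun y => ?_) hG
  have : (j ≫ p).val.app (op (U : X.Opens)) = 𝟙 _ := by rw [hjp]; rfl
  exact ConcreteCategory.congr_hom this y

theorem isRelFP_of_retract {X S : Scheme.{u}} (f : X ⟶ S) (G F : X.Modules) (p : G ⟶ F) (j : F ⟶ G)
    (hjp : j ≫ p = 𝟙 F) (hG : Flatn.IsRelFP f G) : Flatn.IsRelFP f F := by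
  obtain ⟨𝒱, h𝒱, H⟩ := hG
  refine ⟨𝒱, h𝒱, fun V hV => ?_⟩
  obtain ⟨𝒰, h𝒰, H'⟩ := H V hV
  exact ⟨𝒰, h𝒰, fun U hU hle => relFPOn_of_retract f G F p j hjp U V hle (H' U hU hle)⟩
end

open AlgebraicGeometry CategoryTheory Limits in
/-- For f : X ⟶ S locally of finite type and quasi-coherent O_X-modules F, F', relative finite
presentation over S of the biproduct F ⊞ F' implies the same property for each summand. -/
theorem result {X S : Scheme.{u}} (f : X ⟶ S) [LocallyOfFiniteType f] (F F' : X.Modules) [Coh.IsQCoh F] [Coh.IsQCoh F']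
    (h : Flatn.IsRelFP f (F ⊞ F')) : Flatn.IsRelFP f F ∧ Flatn.IsRelFP f F' := by
  exact ⟨isRelFP_of_retract f (F ⊞ F') F biprod.fst biprod.inl biprod.inl_fst h,
    isRelFP_of_retract f (F ⊞ F') F' biprod.snd biprod.inr biprod.inr_snd h⟩

end Groth.Agent.S9749
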