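import Groth.Statements.S9763
import Mathlib

set_option autoImplicit false
universe u
open FlatMor

namespace Groth.Agent.S9763

open AlgebraicGeometry CategoryTheory Limits in
/-- Let f : X ⟶ S be formally smooth (infinitesimal lifting against square-zero thickenings of affine
schemes), and let U be an open of X and V an open of S with U contained in the preimage of V under
f. Then the induced morphism U ⟶ V is formally smooth. -/
theorem result {X S : Scheme.{u}} (f : X ⟶ S) (hf : MoreMor.IsFormallySmoothHom f)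
    (U : X.Opens) (V : S.Opens) (h : U ≤ f ⁻¹ᵁ V) : MoreMor.IsFormallySmoothHom (f.resLE V U h) := by
  intro A _ I hI a b hab
  -- the thickening is surjective on points
  have hsurj : Function.Surjective (Spec.map (CommRingCat.ofHom (Ideal.Quotient.mk I))).base := by
    intro p
    have hp : p ∈ PrimeSpectrum.zeroLocus (I : Set A) := by
      intro x hx
      have hx2 : x ^ 2 ∈ I ^ 2 := Ideal.pow_mem_pow hx 2
      rw [hI] at hx2
      have : x ^ 2 ∈ p.asIdeal := by
        rw [Ideal.mem_bot.mp hx2]; exact zero_mem _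
      exact p.isPrime.mem_of_pow_mem 2 this
    have hr := range_comap_of_surjective _ (Ideal.Quotient.mk I)
      Ideal.Quotient.mk_surjective
    rw [Ideal.mk_ker] at hr
    rw [← hr] at hp
    obtain ⟨q, hq⟩ := hp
    exact ⟨q, hq⟩
  have hab' : Spec.map (CommRingCat.ofHom (Ideal.Quotient.mk I)) ≫ (b ≫ V.ι) = (a ≫ U.ι) ≫ f := by
    rw [← Category.assoc, hab, Category.assoc, Category.assoc, Scheme.Hom.resLE_comp_ι]
  obtain ⟨l', hl'1, hl'2⟩ := hf A I hI (a ≫ U.ι) (b ≫ V.ι) hab'
  have hrange : Set.range l'.base ⊆ Set.range U.ι.base := by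
    rintro _ ⟨p, rfl⟩
    obtain ⟨q, rfl⟩ := hsurj p
    have : l'.base ((Spec.map (CommRingCat.ofHom (Ideal.Quotient.mk I))).base q)
        = (Spec.map (CommRingCat.ofHom (Ideal.Quotient.mk I)) ≫ l').base q := by
      simp
    rw [this, hl'1]
    exact ⟨a.base q, by simp⟩
  refine ⟨IsOpenImmersion.lift U.ι l' hrange, ?_, ?_⟩
  · rw [← cancel_mono U.ι, Category.assoc, IsOpenImmersion.lift_fac, hl'1]
  · rw [← cancel_mono V.ι, Category.assoc, Scheme.Hom.resLE_comp_ι, ← Category.assoc,
      IsOpenImmersion.lift_fac, hl'2]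

end Groth.Agent.S9763
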