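import Groth.Statements.S9767
import Mathlib
import Groth.Agent.S9766
import Groth.Agent.S9768
import Groth.Agent.Lib.Helper8.LocalCrit

set_option autoImplicit false
universe u
open FlatMor

namespace Groth.Agent.S9767

section Helpers
open AlgebraicGeometry CategoryTheory Limits IsLocalRing TensorProduct
open Groth.Agent.S9766

/-- Ring-level decomposition. -/
theorem cm_decompose9767 (A B C : Type u) [CommRing A] [CommRing B] [CommRing C]
    [IsLocalRing A] [IsLocalRing B] [IsLocalRing C] [Algebra A B] [Algebra B C] [Algebra A C]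
    [IsScalarTower A B C] [IsLocalHom (algebraMap A B)] [IsLocalHom (algebraMap B C)]
    [Module.Flat B C] [Module.Flat A C]
    (hAC : LocCoh.IsCohenMacaulayLocalRing (C ⧸ (maximalIdeal A).map (algebraMap A C)))
    (hNB : IsNoetherianRing (B ⧸ (maximalIdeal A).map (algebraMap A B))) :
    Module.Flat A B ∧
      LocCoh.IsCohenMacaulayLocalRing (B ⧸ (maximalIdeal A).map (algebraMap A B)) ∧
      LocCoh.IsCohenMacaulayLocalRing (C ⧸ (maximalIdeal B).map (algebraMap B C)) := by
  haveI : Module.FaithfullyFlat B C := Module.FaithfullyFlat.of_flat_of_isLocalHom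
  haveI hAB : Module.Flat A B :=
    Groth.Agent.Helper8.LocalCrit.flat_of_faithfullyFlat_module (R := A) (S := B) (M := C)
  refine ⟨hAB, ?_⟩
  have hI : (maximalIdeal A).map (algebraMap A B) ≠ ⊤ := fun h =>
    (maximalIdeal.isMaximal B).ne_top
      (top_le_iff.mp (h.ge.trans (Groth.Agent.Helper1.CMAscent.map_le A B)))
  have hIC : ((maximalIdeal A).map (algebraMap A B)).map (algebraMap B C) =
      (maximalIdeal A).map (algebraMap A C) := by
    rw [Ideal.map_map, ← IsScalarTower.algebraMap_eq]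
  let eC : (C ⧸ ((maximalIdeal A).map (algebraMap A B)).map (algebraMap B C)) ≃+*
      (C ⧸ (maximalIdeal A).map (algebraMap A C)) := Ideal.quotEquivOfEq hIC
  have hCMC' : LocCoh.IsCohenMacaulayLocalRing
      (C ⧸ ((maximalIdeal A).map (algebraMap A B)).map (algebraMap B C)) :=
    Groth.Agent.H29.FibTransport.cmLocal_of_ringEquiv eC.symm hAC
  haveI : IsNoetherianRing (C ⧸ ((maximalIdeal A).map (algebraMap A B)).map (algebraMap B C)) :=
    inferInstance
  haveI : IsLocalRing (B ⧸ (maximalIdeal A).map (algebraMap A B)) := quot_local9766 B _ hI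
  haveI : IsLocalRing (C ⧸ ((maximalIdeal A).map (algebraMap A B)).map (algebraMap B C)) :=
    quot_local9766 C _ (relQuot_ne_top9766 B C _ hI)
  haveI := relQuot_isLocalHom9766 B C ((maximalIdeal A).map (algebraMap A B))
  haveI := relQuot_flat9766 B C ((maximalIdeal A).map (algebraMap A B))
  obtain ⟨h1, h2⟩ := Groth.Agent.S9768.cm_descent9768
    (B ⧸ (maximalIdeal A).map (algebraMap A B))
    (C ⧸ ((maximalIdeal A).map (algebraMap A B)).map (algebraMap B C)) hCMC'
  exact ⟨h1, Groth.Agent.H29.FibTransport.cmLocal_of_ringEquiv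
    (relQuot_fibre9766 B C ((maximalIdeal A).map (algebraMap A B)) hI) h2⟩

set_option backward.isDefEq.respectTransparency false in
theorem main9767 {X Y Z : Scheme.{u}} (f : X ⟶ Y) (g : Y ⟶ Z) (x : X)
    (hNg : IsLocallyNoetherian (g.fiber (g (f x))))
    (h : MoreMor.IsCMAt (f ≫ g) x) (hfl : (f.stalkMap x).hom.Flat) :
    MoreMor.IsCMAt f x ∧ MoreMor.IsCMAt g (f x) := by
  obtain ⟨h1, h2⟩ := h
  obtain ⟨ef⟩ := Groth.Agent.Helper24.FiberStalk.fiberStalkQuot f x
  obtain ⟨eg⟩ := Groth.Agent.Helper24.FiberStalk.fiberStalkQuot g (f x)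
  obtain ⟨efg⟩ := Groth.Agent.Helper24.FiberStalk.fiberStalkQuot (f ≫ g) x
  letI : Algebra (Z.presheaf.stalk (g (f x))) (Y.presheaf.stalk (f x)) :=
    (g.stalkMap (f x)).hom.toAlgebra
  letI : Algebra (Y.presheaf.stalk (f x)) (X.presheaf.stalk x) := (f.stalkMap x).hom.toAlgebra
  letI : Algebra (Z.presheaf.stalk (g (f x))) (X.presheaf.stalk x) :=
    ((f ≫ g).stalkMap x).hom.toAlgebra
  haveI : IsScalarTower (Z.presheaf.stalk (g (f x))) (Y.presheaf.stalk (f x))
      (X.presheaf.stalk x) := IsScalarTower.of_algebraMap_eq' (by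
    show ((f ≫ g).stalkMap x).hom = (f.stalkMap x).hom.comp (g.stalkMap (f x)).hom
    rw [Scheme.Hom.stalkMap_comp]; rfl)
  haveI : IsLocalHom (algebraMap (Z.presheaf.stalk (g (f x))) (Y.presheaf.stalk (f x))) :=
    inferInstanceAs (IsLocalHom (g.stalkMap (f x)).hom)
  haveI : IsLocalHom (algebraMap (Y.presheaf.stalk (f x)) (X.presheaf.stalk x)) :=
    inferInstanceAs (IsLocalHom (f.stalkMap x).hom)
  haveI : Module.Flat (Y.presheaf.stalk (f x)) (X.presheaf.stalk x) := hfl
  haveI : Module.Flat (Z.presheaf.stalk (g (f x))) (X.presheaf.stalk x) := h1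
  have hAC : LocCoh.IsCohenMacaulayLocalRing (X.presheaf.stalk x ⧸
      (maximalIdeal (Z.presheaf.stalk (g (f x)))).map
        (algebraMap (Z.presheaf.stalk (g (f x))) (X.presheaf.stalk x))) :=
    Groth.Agent.H29.FibTransport.cmLocal_of_ringEquiv efg h2
  haveI := hNg
  have hNst : IsNoetherianRing ((g.fiber (g (f x))).presheaf.stalk (g.asFiber (f x))) :=
    inferInstance
  have hNB : IsNoetherianRing (Y.presheaf.stalk (f x) ⧸
      (maximalIdeal (Z.presheaf.stalk (g (f x)))).map
        (algebraMap (Z.presheaf.stalk (g (f x))) (Y.presheaf.stalk (f x)))) :=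
    isNoetherianRing_of_ringEquiv _ eg
  obtain ⟨k1, k2, k3⟩ := cm_decompose9767 (Z.presheaf.stalk (g (f x)))
    (Y.presheaf.stalk (f x)) (X.presheaf.stalk x) hAC hNB
  exact ⟨⟨hfl, Groth.Agent.H29.FibTransport.cmLocal_of_ringEquiv ef.symm k3⟩,
    ⟨k1, Groth.Agent.H29.FibTransport.cmLocal_of_ringEquiv eg.symm k2⟩⟩

end Helpers

open AlgebraicGeometry CategoryTheory Limits in
/-- For f : X ⟶ Y, g : Y ⟶ Z and a point x of X such that the fibre of f through x and the fibre of g
through f x are locally Noetherian, suppose the stalk map of f at x is flat and f ≫ g is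
Cohen–Macaulay at x; then Cohen–Macaulayness passes to f at x and to g at the image point f x. The
published statement assumes all fibres of f, g and g ∘ f locally Noetherian; this row assumes only
the fibres of f and g through x and f x. -/
theorem result {X Y Z : Scheme.{u}} (f : X ⟶ Y) (g : Y ⟶ Z) (x : X)
    (hNf : IsLocallyNoetherian (f.fiber (f x))) (hNg : IsLocallyNoetherian (g.fiber (g (f x))))
    (h : MoreMor.IsCMAt (f ≫ g) x) (hfl : (f.stalkMap x).hom.Flat) : MoreMor.IsCMAt f x ∧ MoreMor.IsCMAt g (f x) := by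
  exact main9767 f g x hNg h hfl

end Groth.Agent.S9767
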