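import Groth.Statements.S9771
import Mathlib
import Groth.Agent.S1487

set_option autoImplicit false
universe u
open FlatMor

namespace Groth.Agent.S9771

section Helpers
open AlgebraicGeometry CategoryTheory Limits TensorProduct
open Groth.Agent.S1487

local notation "SM(" f ")" => Spec.map (CommRingCat.ofHom f)

/-- pointwise-local formal étaleness -/
def LocFE {X Y : Scheme.{u}} (f : X ⟶ Y) : Prop :=
  ∀ x : X, ∃ (U : X.Opens) (V : Y.Opens) (_ : IsAffineOpen U) (_ : IsAffineOpen V)
    (hUV : U ≤ f ⁻¹ᵁ V), x ∈ U ∧ @Algebra.FormallyEtale _ _ _ _ (f.appLE V U hUV).hom.toAlgebra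

set_option backward.isDefEq.respectTransparency false in
theorem uniq_aff' {X Y : Scheme.{u}} (f : X ⟶ Y)
    (H : LocFE f)
    {A : Type u} [CommRing A] (J : Ideal A) (hJ : J ^ 2 = ⊥)
    (l₁ l₂ : Spec (CommRingCat.of A) ⟶ X)
    (h1 : SM(Ideal.Quotient.mk J) ≫ l₁ = SM(Ideal.Quotient.mk J) ≫ l₂)
    (h2 : l₁ ≫ f = l₂ ≫ f) : l₁ = l₂ := by
  have key : ∀ p : PrimeSpectrum A, ∃ h : A, p ∈ PrimeSpectrum.basicOpen h ∧
      SM(algebraMap A (Localization.Away h)) ≫ l₁ =
        SM(algebraMap A (Localization.Away h)) ≫ l₂ := by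
    intro p
    obtain ⟨U, V, hU, hV, hUV', hpU, hfe⟩ := H (l₁ p)
    have hopen : IsOpen ((l₁ ⁻¹ᵁ U).carrier : Set (PrimeSpectrum A)) :=
      (l₁ ⁻¹ᵁ U).2
    have hmem : p ∈ ((l₁ ⁻¹ᵁ U).carrier : Set (PrimeSpectrum A)) := hpU
    obtain ⟨_, ⟨h, rfl⟩, hph, hhU⟩ :=
      PrimeSpectrum.isTopologicalBasis_basic_opens.exists_subset_of_mem_open hmem hopen
    refine ⟨h, hph, ?_⟩
    have hJ' : (J.map (algebraMap A (Localization.Away h))) ^ 2 = ⊥ := by
      rw [← Ideal.map_pow, hJ, Ideal.map_bot]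
    refine uniq_loc f hU hV hUV' hfe _ hJ' _ _ ?_ ?_ ?_
    · rw [transfer _ J _ Ideal.le_comap_map l₁ _ rfl, transfer _ J _ Ideal.le_comap_map l₂ _ rfl,
        h1]
    · rw [Category.assoc, Category.assoc, h2]
    · rintro _ ⟨q, rfl⟩
      rw [Scheme.Hom.comp_apply]
      have hq : SM(algebraMap A (Localization.Away h)) q ∈
          (PrimeSpectrum.basicOpen h : Set (PrimeSpectrum A)) := by
        have e := PrimeSpectrum.localization_away_comap_range (Localization.Away h) h
        rw [← e]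
        exact ⟨q, rfl⟩
      exact hhU hq
  choose h hp heq using key
  have hspan : Ideal.span (Set.range h) = ⊤ := by
    rw [← PrimeSpectrum.iSup_basicOpen_eq_top_iff]
    exact top_unique fun p _ => TopologicalSpace.Opens.mem_iSup.mpr ⟨p, hp p⟩
  exact (Scheme.affineOpenCoverOfSpanRangeEqTop (R := CommRingCat.of A) h hspan).openCover.hom_ext
    _ _ (fun p => heq p)


theorem compat_aux' {X Y : Scheme.{u}} (f : X ⟶ Y)
    (H : LocFE f)
    {A : Type u} [CommRing A] (I : Ideal A) (hI : I ^ 2 = ⊥)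
    (a : Spec (CommRingCat.of (A ⧸ I)) ⟶ X) (b : Spec (CommRingCat.of A) ⟶ Y)
    (S T : Type u) [CommRing S] [CommRing T] [Algebra A S] [Algebra A T]
    (lS : Spec (CommRingCat.of S) ⟶ X) (lT : Spec (CommRingCat.of T) ⟶ X)
    (hS1 : SM(Ideal.Quotient.mk (I.map (algebraMap A S))) ≫ lS =
      SM(Ideal.quotientMap (I.map (algebraMap A S)) (algebraMap A S) Ideal.le_comap_map) ≫ a)
    (hT1 : SM(Ideal.Quotient.mk (I.map (algebraMap A T))) ≫ lT =
      SM(Ideal.quotientMap (I.map (algebraMap A T)) (algebraMap A T) Ideal.le_comap_map) ≫ a)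
    (hS2 : lS ≫ f = SM(algebraMap A S) ≫ b) (hT2 : lT ≫ f = SM(algebraMap A T) ≫ b) :
    pullback.fst (SM(algebraMap A S)) (SM(algebraMap A T)) ≫ lS =
      pullback.snd (SM(algebraMap A S)) (SM(algebraMap A T)) ≫ lT := by
  rw [← cancel_epi (pullbackSpecIso A S T).inv, pullbackSpecIso_inv_fst_assoc,
    pullbackSpecIso_inv_snd_assoc]
  have hJ : (I.map (algebraMap A (S ⊗[A] T))) ^ 2 = ⊥ := by
    rw [← Ideal.map_pow, hI, Ideal.map_bot]
  have e4 : (Algebra.TensorProduct.includeLeftRingHom (R := A) (A := S) (B := T)).comp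
      (algebraMap A S) = (RingHomClass.toRingHom (Algebra.TensorProduct.includeRight
        (R := A) (A := S) (B := T))).comp (algebraMap A T) :=
    Algebra.TensorProduct.includeLeftRingHom_comp_algebraMap
  have hL : I.map (algebraMap A S) ≤ (I.map (algebraMap A (S ⊗[A] T))).comap
      (Algebra.TensorProduct.includeLeftRingHom (R := A) (A := S) (B := T)) := by
    rw [Ideal.map_le_iff_le_comap]
    intro x hx
    exact Ideal.mem_map_of_mem (algebraMap A (S ⊗[A] T)) hx
  have hR : I.map (algebraMap A T) ≤ (I.map (algebraMap A (S ⊗[A] T))).comap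
      (RingHomClass.toRingHom (Algebra.TensorProduct.includeRight
        (R := A) (A := S) (B := T))) := by
    rw [Ideal.map_le_iff_le_comap]
    intro x hx
    have h3 := Ideal.mem_map_of_mem (algebraMap A (S ⊗[A] T)) hx
    have e := RingHom.congr_fun e4 x
    rw [Ideal.mem_comap, Ideal.mem_comap]
    rw [RingHom.comp_apply, RingHom.comp_apply] at e
    rw [← e]
    exact h3
  have hq : (Ideal.quotientMap (I.map (algebraMap A (S ⊗[A] T)))
      (Algebra.TensorProduct.includeLeftRingHom (R := A) (A := S) (B := T)) hL).comp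
        (Ideal.quotientMap (I.map (algebraMap A S)) (algebraMap A S) Ideal.le_comap_map) =
      (Ideal.quotientMap (I.map (algebraMap A (S ⊗[A] T)))
        (RingHomClass.toRingHom (Algebra.TensorProduct.includeRight
          (R := A) (A := S) (B := T))) hR).comp
        (Ideal.quotientMap (I.map (algebraMap A T)) (algebraMap A T) Ideal.le_comap_map) := by
    apply Ideal.Quotient.ringHom_ext
    refine RingHom.ext fun x => ?_
    simp only [RingHom.comp_apply, Ideal.quotientMap_mk]
    have e := RingHom.congr_fun e4 x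
    rw [RingHom.comp_apply, RingHom.comp_apply] at e
    rw [e]
  refine uniq_aff' f H (I.map (algebraMap A (S ⊗[A] T))) hJ _ _ ?_ ?_
  · rw [transfer _ _ _ hL lS _ hS1, transfer _ _ _ hR lT _ hT1, sm_comp, sm_comp, hq]
  · rw [Category.assoc, Category.assoc, hS2, hT2, sm_comp, sm_comp, e4]


set_option backward.isDefEq.respectTransparency false in
theorem formallyEtaleHom_of_loc' {X Y : Scheme.{u}} (f : X ⟶ Y)
    (H : LocFE f) :
    MoreMor.IsFormallyEtaleHom f := by
  intro A _ I hI a b hab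
  have key : ∀ p : PrimeSpectrum A, ∃ h : A, p ∈ PrimeSpectrum.basicOpen h ∧
      ∃ l : Spec (CommRingCat.of (Localization.Away h)) ⟶ X,
        SM(Ideal.Quotient.mk (I.map (algebraMap A (Localization.Away h)))) ≫ l =
          SM(Ideal.quotientMap (I.map (algebraMap A (Localization.Away h)))
            (algebraMap A (Localization.Away h)) Ideal.le_comap_map) ≫ a ∧
        l ≫ f = SM(algebraMap A (Localization.Away h)) ≫ b := by
    intro p
    obtain ⟨p₀, hp₀⟩ := comapMk_surj I hI p
    have hxy : f (a p₀) = b p := by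
      rw [← Scheme.Hom.comp_apply, ← hab, Scheme.Hom.comp_apply]
      exact congrArg (fun z : PrimeSpectrum A => b z) hp₀
    obtain ⟨U, V, hU, hV, hUV', hpU, hfe⟩ := H (a p₀)
    have hpV : b p ∈ V := by
      rw [← hxy]
      exact hUV' hpU
    have hopen : IsOpen ((a ⁻¹ᵁ U).carrier : Set (PrimeSpectrum (A ⧸ I))) := (a ⁻¹ᵁ U).2
    have hmem : p₀ ∈ ((a ⁻¹ᵁ U).carrier : Set (PrimeSpectrum (A ⧸ I))) := hpU
    obtain ⟨_, ⟨g₀, rfl⟩, hg₀, hg₀U⟩ :=
      PrimeSpectrum.isTopologicalBasis_basic_opens.exists_subset_of_mem_open hmem hopen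
    obtain ⟨g, rfl⟩ := Ideal.Quotient.mk_surjective g₀
    have hopen' : IsOpen ((b ⁻¹ᵁ V).carrier : Set (PrimeSpectrum A)) :=
      (b ⁻¹ᵁ V).2
    have hmem' : p ∈ ((b ⁻¹ᵁ V).carrier : Set (PrimeSpectrum A)) := hpV
    obtain ⟨_, ⟨g', rfl⟩, hg', hg'V⟩ :=
      PrimeSpectrum.isTopologicalBasis_basic_opens.exists_subset_of_mem_open hmem' hopen'
    have hpg : g ∉ p.asIdeal := by
      rw [← hp₀]
      exact hg₀
    have hpg' : g' ∉ p.asIdeal := hg'
    refine ⟨g * g', ?_, ?_⟩
    · rw [PrimeSpectrum.mem_basicOpen]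
      intro hmem
      rcases p.isPrime.mem_or_mem hmem with h | h
      · exact hpg h
      · exact hpg' h
    · have hI' : (I.map (algebraMap A (Localization.Away (g * g')))) ^ 2 = ⊥ := by
        rw [← Ideal.map_pow, hI, Ideal.map_bot]
      have hu : IsUnit (algebraMap A (Localization.Away (g * g')) (g * g')) :=
        IsLocalization.Away.algebraMap_isUnit (g * g')
      rw [map_mul] at hu
      have hug : IsUnit (algebraMap A (Localization.Away (g * g')) g) :=
        isUnit_of_mul_isUnit_left hu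
      have hug' : IsUnit (algebraMap A (Localization.Away (g * g')) g') :=
        isUnit_of_mul_isUnit_right hu
      refine exists_loc f hU hV hUV' hfe _ hI' _ _ ?_ ?_ ?_
      · rw [Category.assoc]
        exact transfer _ I _ Ideal.le_comap_map b (a ≫ f) hab
      · rintro _ ⟨q, rfl⟩
        rw [Scheme.Hom.comp_apply]
        refine hg₀U (mem_basicOpen_of_isUnit _ (Ideal.Quotient.mk I g) ?_ q)
        rw [CommRingCat.hom_ofHom, Ideal.quotientMap_mk]
        exact hug.map _
      · rintro _ ⟨q, rfl⟩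
        rw [Scheme.Hom.comp_apply]
        exact hg'V (mem_basicOpen_of_isUnit _ g' hug' q)
  choose h hp l hl1 hl2 using key
  have hspan : Ideal.span (Set.range h) = ⊤ := by
    rw [← PrimeSpectrum.iSup_basicOpen_eq_top_iff]
    exact top_unique fun p _ => TopologicalSpace.Opens.mem_iSup.mpr ⟨p, hp p⟩
  let 𝒰 : (Spec (CommRingCat.of A)).OpenCover :=
    (Scheme.affineOpenCoverOfSpanRangeEqTop (R := CommRingCat.of A) h hspan).openCover
  have compat : ∀ p q : 𝒰.I₀,
      pullback.fst (𝒰.f p) (𝒰.f q) ≫ l p = pullback.snd (𝒰.f p) (𝒰.f q) ≫ l q :=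
    fun p q => compat_aux' f H I hI a b _ _ (l p) (l q) (hl1 p) (hl1 q) (hl2 p) (hl2 q)
  obtain ⟨L, hL⟩ : ∃ L : Spec (CommRingCat.of A) ⟶ X,
      ∀ p, SM(algebraMap A (Localization.Away (h p))) ≫ L = l p :=
    ⟨𝒰.glueMorphisms l compat, fun p => 𝒰.ι_glueMorphisms l compat p⟩
  have E2 : L ≫ f = b := by
    refine 𝒰.hom_ext _ _ fun p => ?_
    show SM(algebraMap A (Localization.Away (h p))) ≫ L ≫ f =
      SM(algebraMap A (Localization.Away (h p))) ≫ b
    rw [← Category.assoc, hL p, hl2 p]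
  have E1 : SM(Ideal.Quotient.mk I) ≫ L = a := by
    have hspan' : Ideal.span (Set.range fun p => Ideal.Quotient.mk I (h p)) = ⊤ := by
      have e : (Set.range fun p => Ideal.Quotient.mk I (h p)) =
          (Ideal.Quotient.mk I) '' (Set.range h) := by
        rw [← Set.range_comp]
        rfl
      rw [e, ← Ideal.map_span, hspan, Ideal.map_top]
    refine (Scheme.affineOpenCoverOfSpanRangeEqTop (R := CommRingCat.of (A ⧸ I))
      (fun p => Ideal.Quotient.mk I (h p)) hspan').openCover.hom_ext _ _ fun p => ?_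
    exact E1_aux I a (h p) (l p) L (hl1 p) (hL p)
  refine ⟨L, ⟨E1, E2⟩, ?_⟩
  rintro L' ⟨hL'1, hL'2⟩
  exact uniq_aff' f H I hI L' L (hL'1.trans E1.symm) (hL'2.trans E2.symm)


theorem formallyEtale_of_surj_of_flat {R S' T : Type u} [CommRing R] [CommRing S'] [CommRing T]
    [Algebra R S'] [Algebra R T] [Algebra.FormallyEtale R S'] [Algebra.EssFiniteType R S']
    (φ : S' →ₐ[R] T) (hφ : Function.Surjective φ) [Module.Flat R T] :
    Algebra.FormallyEtale R T := by
  letI : Algebra S' T := φ.toRingHom.toAlgebra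
  haveI : IsScalarTower R S' T := IsScalarTower.of_algebraMap_eq' φ.comp_algebraMap.symm
  haveI : Module.Flat S' T := Algebra.FormallyUnramified.flat_of_restrictScalars R S' T
  have hJ : IsIdempotentElem (RingHom.ker φ.toRingHom) := by
    let e : (S' ⧸ RingHom.ker φ.toRingHom) ≃ₗ[S'] T :=
      { RingHom.quotientKerEquivOfSurjective (f := φ.toRingHom) hφ with
        map_smul' := by
          intro r x
          obtain ⟨x, rfl⟩ := Ideal.Quotient.mk_surjective x
          show (RingHom.quotientKerEquivOfSurjective (f := φ.toRingHom) hφ)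
            (Ideal.Quotient.mk _ (r * x)) = r •
              (RingHom.quotientKerEquivOfSurjective (f := φ.toRingHom) hφ)
                (Ideal.Quotient.mk _ x)
          rw [RingHom.quotientKerEquivOfSurjective_apply_mk,
            RingHom.quotientKerEquivOfSurjective_apply_mk, map_mul, Algebra.smul_def]
          rfl }
    haveI : Module.Flat S' (S' ⧸ RingHom.ker φ.toRingHom) := Module.Flat.of_linearEquiv e
    exact Ideal.isIdempotentElem_of_pure _
  rw [Algebra.FormallyEtale.iff_comp_bijective]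
  intro B _ _ N hN
  constructor
  · intro g₁ g₂ h12
    have h1 : g₁.comp φ = g₂.comp φ := by
      apply Algebra.FormallyUnramified.comp_injective (R := R) (A := S') N hN
      rw [← AlgHom.comp_assoc, ← AlgHom.comp_assoc, h12]
    exact (AlgHom.cancel_right hφ).mp h1
  · intro g
    obtain ⟨ψ, hψ⟩ := Algebra.FormallySmooth.comp_surjective R S' N hN (g.comp φ)
    have hψJ : (RingHom.ker φ.toRingHom).map ψ.toRingHom ≤ N := by
      rw [Ideal.map_le_iff_le_comap]
      intro j hj
      rw [Ideal.mem_comap, ← Ideal.Quotient.eq_zero_iff_mem]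
      have e := congrArg (fun h => h j) hψ
      have hj0 : φ j = 0 := hj
      simp only [AlgHom.comp_apply, hj0, map_zero] at e
      exact e
    have hψ0 : (RingHom.ker φ.toRingHom).map ψ.toRingHom = ⊥ := by
      rw [← hJ.eq, Ideal.map_mul, eq_bot_iff, ← hN, pow_two]
      exact Ideal.mul_mono hψJ hψJ
    have hker : RingHom.ker φ.toRingHom ≤ RingHom.ker ψ.toRingHom := by
      intro j hj
      have : ψ.toRingHom j ∈ (RingHom.ker φ.toRingHom).map ψ.toRingHom :=
        Ideal.mem_map_of_mem _ hj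
      rw [hψ0] at this
      exact this
    let g' : T →+* B := RingHom.liftOfSurjective φ.toRingHom hφ ⟨ψ.toRingHom, hker⟩
    have hg' : ∀ s, g' (φ s) = ψ s := fun s =>
      RingHom.liftOfRightInverse_comp_apply _ _ _ ⟨ψ.toRingHom, hker⟩ s
    refine ⟨{ g' with commutes' := fun r => ?_ }, ?_⟩
    · show g' (algebraMap R T r) = algebraMap R B r
      rw [← φ.commutes r, hg', ψ.commutes]
    · apply AlgHom.ext
      intro t
      obtain ⟨s, rfl⟩ := hφ t
      show Ideal.Quotient.mk N (g' (φ s)) = g (φ s)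
      rw [hg']
      exact congrArg (fun h => h s) hψ

theorem locFE_of_flat_unramified {X S : Scheme.{u}} (f : X ⟶ S) [Flat f] [FormallyUnramified f]
    [LocallyOfFiniteType f] : LocFE f := by
  intro x
  obtain ⟨V, hV, hxV, -⟩ := exists_isAffineOpen_mem_and_subset
    (x := f x) (U := ⊤) (TopologicalSpace.Opens.mem_top _)
  obtain ⟨U₀, hU₀, hxU₀, hU₀V⟩ := exists_isAffineOpen_mem_and_subset
    (x := x) (U := f ⁻¹ᵁ V) hxV
  have hU₀V' : U₀ ≤ f ⁻¹ᵁ V := hU₀V
  letI algRS : Algebra Γ(S, V) Γ(X, U₀) := (f.appLE V U₀ hU₀V').hom.toAlgebra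
  haveI : Algebra.FiniteType Γ(S, V) Γ(X, U₀) :=
    LocallyOfFiniteType.finiteType_appLE f hV hU₀ hU₀V'
  haveI : Algebra.FormallyUnramified Γ(S, V) Γ(X, U₀) :=
    FormallyUnramified.formallyUnramified_appLE f hV hU₀ hU₀V'
  haveI : Module.Flat Γ(S, V) Γ(X, U₀) := Flat.flat_appLE f hV hU₀ hU₀V'
  obtain ⟨q, hq⟩ : ∃ q : PrimeSpectrum Γ(X, U₀), q = hU₀.primeIdealOf ⟨x, hxU₀⟩ := ⟨_, rfl⟩
  haveI := q.isPrime
  obtain ⟨g, hgq, P, φ, hφ⟩ :=
    Algebra.IsUnramifiedAt.exists_hasStandardEtaleSurjectionOn (R := Γ(S, V)) q.asIdeal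
  have hU : IsAffineOpen (X.basicOpen g) := hU₀.basicOpen g
  have hUU₀ : X.basicOpen g ≤ U₀ := X.basicOpen_le g
  have hUV : X.basicOpen g ≤ f ⁻¹ᵁ V := hUU₀.trans hU₀V'
  have hxg : x ∈ X.basicOpen g := by
    have h1 : q ∈ hU₀.fromSpec ⁻¹ᵁ X.basicOpen g := by
      rw [hU₀.fromSpec_preimage_basicOpen]
      exact hgq
    have h2 : hU₀.fromSpec q = x := by
      rw [hq]
      exact hU₀.fromSpec_primeIdealOf ⟨x, hxU₀⟩
    rw [← h2]
    exact h1
  refine ⟨X.basicOpen g, V, hU, hV, hUV, hxg, ?_⟩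
  haveI : Module.Flat Γ(S, V) (Localization.Away g) :=
    Module.Flat.trans Γ(S, V) Γ(X, U₀) (Localization.Away g)
  haveI : Algebra.FormallyEtale Γ(S, V) (Localization.Away g) :=
    formallyEtale_of_surj_of_flat φ hφ
  letI algRT : Algebra Γ(S, V) Γ(X, X.basicOpen g) :=
    (f.appLE V (X.basicOpen g) hUV).hom.toAlgebra
  haveI : IsLocalization.Away g Γ(X, X.basicOpen g) := hU₀.isLocalization_basicOpen g
  haveI : IsScalarTower Γ(S, V) Γ(X, U₀) Γ(X, X.basicOpen g) := by
    apply IsScalarTower.of_algebraMap_eq'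
    show (f.appLE V (X.basicOpen g) hUV).hom =
      (X.presheaf.map (homOfLE (X.basicOpen_le g)).op).hom.comp (f.appLE V U₀ hU₀V').hom
    rw [← CommRingCat.hom_comp, Scheme.Hom.appLE_map]
  exact Algebra.FormallyEtale.of_equiv
    ((IsLocalization.algEquiv (Submonoid.powers g) (Localization.Away g)
      Γ(X, X.basicOpen g)).restrictScalars Γ(S, V))

end Helpers

open AlgebraicGeometry CategoryTheory Limits in
/-- An unramified (formally unramified and locally of finite type) flat morphism of schemes is formally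
étale. (When the morphism is moreover locally of finite presentation this is the statement that flat
unramified morphisms are étale; the content here is the case without finite presentation.) -/
theorem result {X S : Scheme.{u}} (f : X ⟶ S)
    [Flat f] [FormallyUnramified f] [LocallyOfFiniteType f] : MoreMor.IsFormallyEtaleHom f := by
  exact formallyEtaleHom_of_loc' f (locFE_of_flat_unramified f)

end Groth.Agent.S9771
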