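import Groth.Statements.S9773
import Mathlib
import Groth.Agent.S15821

set_option autoImplicit false
universe u
open FlatMor

namespace Groth.Agent.S9773

open CategoryTheory AlgebraicGeometry in
theorem precomp_iso {Z' Z X : Scheme.{u}} (k : RegImm.Kind) (e : Z' ⟶ Z) [IsIso e] (i : Z ⟶ X)
    (hi : RegImm.IsRegularImmersion k i) : RegImm.IsRegularImmersion k (e ≫ i) := by
  obtain ⟨him, h⟩ := hi
  haveI := him
  refine ⟨inferInstance, fun z' => ?_⟩
  obtain ⟨U, hzU, hcl, rs, hseq, hker⟩ := h (e z')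
  refine ⟨U, ?_, ?_, rs, hseq, ?_⟩
  · simpa using hzU
  · haveI : IsIso (e ∣_ i ⁻¹ᵁ U.1) := inferInstance
    have hc : IsClosedImmersion (e ∣_ i ⁻¹ᵁ U.1 ≫ i ∣_ U.1) :=
      (MorphismProperty.cancel_left_of_respectsIso @IsClosedImmersion _ _).mpr hcl
    rw [morphismRestrict_comp]
    exact hc
  · rw [← hker]
    have hinj : Function.Injective (e.app (i ⁻¹ᵁ U.1)).hom :=
      (ConcreteCategory.bijective_of_isIso (e.app (i ⁻¹ᵁ U.1))).injective
    ext t
    rw [RingHom.mem_ker, RingHom.mem_ker]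
    constructor
    · intro h0
      have h1 : (e.app (i ⁻¹ᵁ U.1)).hom ((i.app U.1).hom t) = 0 := h0
      exact (map_eq_zero_iff _ hinj).mp h1
    · intro h0
      have h1 : (e.app (i ⁻¹ᵁ U.1)).hom ((i.app U.1).hom t) = 0 := by rw [h0, map_zero]
      exact h1

open AlgebraicGeometry CategoryTheory Limits in
/-- A regular immersion of schemes, and likewise a Koszul-regular immersion, is a local complete
intersection morphism (Koszul at every point). -/
theorem result {Z X : Scheme.{u}} (i : Z ⟶ X) (k : RegImm.Kind)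
    (hk : k = RegImm.Kind.regular ∨ k = RegImm.Kind.koszul) (hi : RegImm.IsRegularImmersion k i) (z : Z) :
    Synt.IsKoszulAt i z := by
  have hkos : RegImm.IsRegularImmersion RegImm.Kind.koszul i := by
    rcases hk with rfl | rfl
    · obtain ⟨him, h⟩ := hi
      refine ⟨him, fun z => ?_⟩
      obtain ⟨U, hzU, hcl, rs, hreg, hker⟩ := h z
      refine ⟨U, hzU, hcl, rs, ?_, hker⟩
      have hreg' : RingTheory.Sequence.IsRegular Γ(X, U.1) rs := hreg
      exact (Groth.Agent.S15821.result _ rs hreg'.toIsWeaklyRegular).1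
    · exact hi
  haveI := hkos.1
  haveI : IsIso (⊤ : Z.Opens).ι := by
    rw [← Scheme.topIso_hom]; infer_instance
  refine ⟨⊤, X, (⊤ : Z.Opens).ι ≫ i, 𝟙 X, trivial, inferInstance, ?_, inferInstance, by simp⟩
  exact precomp_iso RegImm.Kind.koszul _ i hkos

end Groth.Agent.S9773
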