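import Groth.Statements.S9778
import Groth.Agent.Lib.Helper18.EtLoc12

set_option autoImplicit false
universe u
open FlatMor

namespace Groth.Agent.S9778

open AlgebraicGeometry CategoryTheory Limits in
/-- Let f : X ⟶ S be separated and locally of finite type, s a point of S and x_1, …, x_n pairwise
distinct points of X over s at which f is quasi-finite (isolated points of the fibre). Then there
are an étale morphism g : U ⟶ S with a point u over s and finitely many pairwise disjoint open and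
closed subschemes V_{i,j} of X_U = X ×_S U, each finite over U and containing exactly one point
v_{i,j} over u, with v_{i,j} mapping to x_i and κ(v_{i,j}) purely inseparable over κ(u), such that
every point of X_U over u mapping to some x_i lies in one of the V_{i,j} (so the open and closed
complement W of their union has no point over u mapping to any x_i). -/
theorem result {X S : Scheme.{u}} (f : X ⟶ S) [LocallyOfFiniteType f] [IsSeparated f] (s : S)
    {ι : Type} [Finite ι] (x : ι → ↑X) (hinj : Function.Injective x) (hs : ∀ i, f (x i) = s) (hx : ∀ i, f.QuasiFiniteAt (x i)) :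
    ∃ (U : Scheme.{u}) (g : U ⟶ S) (u : U), Etale g ∧ g u = s ∧
      ∃ (J : ι → Type) (_ : ∀ i, Finite (J i)) (V : ∀ i, J i → (pullback f g).Opens) (v : ∀ i, J i → ↑(pullback f g)),
        (∀ i j, IsClopen ((V i j : Set ↑(pullback f g)))) ∧
        (∀ i j i' j', ((V i j : Set ↑(pullback f g)) ∩ (V i' j')).Nonempty → i = i' ∧ HEq j j') ∧
        (∀ i j, v i j ∈ V i j ∧ IsFinite ((V i j).ι ≫ pullback.snd f g) ∧ pullback.snd f g (v i j) = u ∧
          (∀ w : ↑(pullback f g), w ∈ V i j → pullback.snd f g w = u → w = v i j) ∧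
          (letI := ((pullback.snd f g).residueFieldMap (v i j)).hom.toAlgebra
           IsPurelyInseparable ↑(U.residueField (pullback.snd f g (v i j))) ↑((pullback f g).residueField (v i j))) ∧
          pullback.fst f g (v i j) = x i) ∧
        (∀ (w : ↑(pullback f g)) (i : ι), pullback.snd f g w = u → pullback.fst f g w = x i → ∃ j, w ∈ V i j) := by
  classical
  obtain ⟨U, g, u, het, hgu, n, V₀, v₀, H1, H2, H3⟩ :=
    Groth.Agent.Helper18.EtLoc.pi_core f s x hs hx
  have hinjv : ∀ k k' : (Σ i, Fin (n i)), v₀ k.1 k.2 = v₀ k'.1 k'.2 → k = k' := by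
    rintro ⟨i, j⟩ ⟨i', j'⟩ hv
    have hv' : v₀ i j = v₀ i' j' := hv
    have hii : i = i' := hinj (by
      rw [← (H1 i j).2.2.2.2.2, ← (H1 i' j').2.2.2.2.2, hv'])
    subst hii
    have := H2 i hv'
    subst this
    rfl
  have hclopen : ∀ k : (Σ i, Fin (n i)),
      IsClopen ((V₀ k.1 k.2 : (pullback f g).Opens) : Set ↑(pullback f g)) := by
    intro k
    refine ⟨?_, (V₀ k.1 k.2).2⟩
    haveI := (H1 k.1 k.2).2.1
    haveI : IsFinite (V₀ k.1 k.2).ι := IsFinite.of_comp _ (pullback.snd f g)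
    have := (V₀ k.1 k.2).ι.isClosedMap.isClosed_range
    rwa [Scheme.Opens.range_ι] at this
  let D : (Σ i, Fin (n i)) → Set ↑(pullback f g) := fun k =>
    (V₀ k.1 k.2 : Set ↑(pullback f g)) \
      ⋃ k' : {k' : (Σ i, Fin (n i)) // k' ≠ k}, (V₀ k'.1.1 k'.1.2 : Set ↑(pullback f g))
  have hD : ∀ k, IsClopen (D k) := fun k =>
    (hclopen k).diff (isClopen_iUnion_of_finite fun k' => hclopen k'.1)
  have hDsub : ∀ k, D k ⊆ (V₀ k.1 k.2 : Set ↑(pullback f g)) := fun k => Set.sdiff_subset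
  have hvD : ∀ k, v₀ k.1 k.2 ∈ D k := by
    intro k
    refine ⟨(H1 k.1 k.2).1, ?_⟩
    intro hmem
    obtain ⟨k', hk'⟩ := Set.mem_iUnion.mp hmem
    have h1 := (H1 k'.1.1 k'.1.2).2.2.2.1 _ hk' (H1 k.1 k.2).2.2.1
    exact k'.2 (hinjv _ _ h1).symm
  let VD : (Σ i, Fin (n i)) → (pullback f g).Opens := fun k => ⟨D k, (hD k).isOpen⟩
  refine ⟨U, g, u, het, hgu, fun i => Fin (n i), fun i => inferInstance,
    fun i j => VD ⟨i, j⟩, v₀, ?_, ?_, ?_, ?_⟩
  · intro i j
    exact hD ⟨i, j⟩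
  · intro i j i' j' hne
    obtain ⟨z, hz1, hz2⟩ := hne
    by_contra hcon
    have hkk : (⟨i, j⟩ : Σ i, Fin (n i)) ≠ ⟨i', j'⟩ := fun h => hcon (Sigma.mk.inj_iff.mp h)
    exact hz2.2 (Set.mem_iUnion.mpr ⟨⟨⟨i, j⟩, hkk⟩, hz1.1⟩)
  · intro i j
    obtain ⟨h1, h2, h3, h4, ⟨h5, h6⟩, h7⟩ := H1 i j
    refine ⟨hvD ⟨i, j⟩, ?_, h3, fun w hw hwu => h4 w (hDsub ⟨i, j⟩ hw) hwu, h6, h7⟩
    have hle : VD ⟨i, j⟩ ≤ V₀ i j := hDsub ⟨i, j⟩
    haveI : IsClosedImmersion (VD ⟨i, j⟩).ι :=
      IsClosedImmersion.of_isPreimmersion _ (by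
        rw [Scheme.Opens.range_ι]; exact (hD ⟨i, j⟩).isClosed)
    haveI : IsClosedImmersion ((pullback f g).homOfLE hle ≫ (V₀ i j).ι) := by
      rw [Scheme.homOfLE_ι]; infer_instance
    haveI : IsClosedImmersion ((pullback f g).homOfLE hle) :=
      IsClosedImmersion.of_comp _ (V₀ i j).ι
    haveI := h2
    rw [← Scheme.homOfLE_ι (pullback f g) hle, Category.assoc]
    infer_instance
  · intro w i hw1 hw2
    obtain ⟨j, rfl⟩ := H3 w i hw1 hw2
    exact ⟨j, hvD ⟨i, j⟩⟩

end Groth.Agent.S9778
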