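import Groth.Statements.S9793
import Mathlib.RingTheory.Ideal.KrullsHeightTheorem

set_option autoImplicit false
universe u
open CategoryTheory AlgebraicGeometry TopologicalSpace
open Props

namespace Groth.Agent.S9793

/-- Let S be a Noetherian scheme and T a set of points of S. Every point of T is a specialization of
some point of T which admits no non-trivial generization lying in T. -/
theorem result (S : Scheme.{u}) [IsNoetherian S]
    (T : Set S) (t : S) (ht : t ∈ T) :
    ∃ t₀ ∈ T, (∀ t' ∈ T, t' ⤳ t₀ → t' = t₀) ∧ t₀ ⤳ t := by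
  obtain ⟨_, ⟨U, hU, rfl⟩, htU, -⟩ :=
    S.isBasis_affineOpens.exists_subset_of_mem_open (Set.mem_univ t) isOpen_univ
  have : IsNoetherianRing Γ(S, U) := IsLocallyNoetherian.component_noetherian ⟨U, hU⟩
  have hU' : IsAffineOpen U := hU
  obtain ⟨pt, rfl⟩ : t ∈ Set.range hU'.fromSpec.base := by
    rw [hU'.range_fromSpec]; exact htU
  let P : Set (PrimeSpectrum Γ(S, U)) := {p | hU'.fromSpec.base p ∈ T ∧ p ⤳ pt}
  have hne : P.Nonempty := ⟨pt, ht, specializes_rfl⟩
  obtain ⟨p₀, hp₀P, hmin⟩ := WellFounded.has_min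
    (InvImage.wf (fun p : PrimeSpectrum Γ(S, U) => p.asIdeal.height) wellFounded_lt) P hne
  refine ⟨hU'.fromSpec.base p₀, hp₀P.1, ?_, hp₀P.2.map hU'.fromSpec.continuous⟩
  intro t' ht' hsp
  obtain ⟨p', rfl⟩ : t' ∈ Set.range hU'.fromSpec.base := by
    rw [hU'.range_fromSpec]
    refine U.2.stableUnderGeneralization hsp ?_
    have : hU'.fromSpec.base p₀ ∈ Set.range hU'.fromSpec.base := ⟨_, rfl⟩
    rwa [hU'.range_fromSpec] at this
  have hsp' : p' ⤳ p₀ := hU'.fromSpec.isOpenEmbedding.isInducing.specializes_iff.mp hsp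
  have hp'P : p' ∈ P := ⟨ht', hsp'.trans hp₀P.2⟩
  let q' : PrimeSpectrum Γ(S, U) := p'
  let q₀ : PrimeSpectrum Γ(S, U) := p₀
  have hle : q'.asIdeal ≤ q₀.asIdeal := (PrimeSpectrum.le_iff_specializes q' q₀).mpr hsp'
  by_contra hne'
  have hlt : q'.asIdeal < q₀.asIdeal :=
    lt_of_le_of_ne hle (fun h => hne' (congrArg _ (PrimeSpectrum.ext (x := q') (y := q₀) h)))
  have : q'.asIdeal.IsPrime := q'.isPrime
  have hh := Ideal.height_strict_mono_of_isPrime hlt
  exact hmin p' hp'P hh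

end Groth.Agent.S9793
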