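import Groth.Statements.S9792
import Groth.Agent.S9793
import Mathlib.Topology.NoetherianSpace

set_option autoImplicit false
universe u
open CategoryTheory AlgebraicGeometry TopologicalSpace
open Props

namespace Groth.Agent.S9792

/-- In a Noetherian scheme, every infinite set of points contains an infinite subset no two distinct
members of which are related by specialization. -/
theorem result (S : Scheme.{u}) [IsNoetherian S]
    (T : Set S) (hT : T.Infinite) :
    ∃ T' : Set S, T' ⊆ T ∧ T'.Infinite ∧ ∀ a ∈ T', ∀ b ∈ T', a ⤳ b → a = b := by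
  classical
  have hns : NoetherianSpace S := inferInstance
  let P : Set (Closeds S) := {Z | ((Z : Set S) ∩ T).Infinite}
  have hP : P.Nonempty := ⟨⊤, by simpa [P] using hT⟩
  have wf : WellFounded ((· < ·) : Closeds S → Closeds S → Prop) := wellFounded_lt
  obtain ⟨Z₀, hZ₀, hmin⟩ := wf.has_min P hP
  let T₁ : Set S := {t | t ∈ (Z₀ : Set S) ∩ T ∧ closure {t} ≠ (Z₀ : Set S)}
  have hfin : ∀ t ∈ T₁, (closure {t} ∩ T).Finite := by
    intro t ht
    by_contra hinf
    have hle : closure {t} ⊆ (Z₀ : Set S) :=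
      closure_minimal (Set.singleton_subset_iff.mpr ht.1.1) Z₀.isClosed
    let Z' : Closeds S := ⟨closure {t}, isClosed_closure⟩
    have hlt : Z' < Z₀ :=
      lt_of_le_of_ne hle (fun h => ht.2 (congrArg (fun Z : Closeds S => (Z : Set S)) h))
    exact hmin Z' hinf hlt
  have hT₁inf : T₁.Infinite := by
    have hsub : (((Z₀ : Set S) ∩ T) \ T₁).Subsingleton := by
      intro a ha b hb
      have ha' : closure {a} = (Z₀ : Set S) := by
        by_contra hne; exact ha.2 ⟨ha.1, hne⟩
      have hb' : closure {b} = (Z₀ : Set S) := by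
        by_contra hne; exact hb.2 ⟨hb.1, hne⟩
      have : Inseparable a b := inseparable_iff_closure_eq.mpr (ha'.trans hb'.symm)
      exact this.eq
    have hinf2 : (((Z₀ : Set S) ∩ T) \ (((Z₀ : Set S) ∩ T) \ T₁)).Infinite :=
      Set.Infinite.sdiff hZ₀ hsub.finite
    refine hinf2.mono ?_
    intro x hx
    by_contra hxT
    exact hx.2 ⟨hx.1, hxT⟩
  let M : Set S := {t₀ | t₀ ∈ T₁ ∧ ∀ t' ∈ T₁, t' ⤳ t₀ → t' = t₀}
  refine ⟨M, fun x hx => hx.1.1.2, ?_, ?_⟩
  · intro hMfin
    apply hT₁inf
    have hcov : T₁ ⊆ ⋃ m ∈ M, (closure {m} ∩ T) := by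
      intro t ht
      obtain ⟨t₀, ht₀, hmax, hspec⟩ := Groth.Agent.S9793.result S T₁ t ht
      refine Set.mem_biUnion (x := t₀) ⟨ht₀, hmax⟩ ⟨?_, ht.1.2⟩
      exact specializes_iff_mem_closure.mp hspec
    exact (hMfin.biUnion (fun m hm => hfin m hm.1)).subset hcov
  · intro a ha b hb hab
    exact hb.2 a ha.1 hab

end Groth.Agent.S9792
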