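import Groth.Statements.S9794
import Groth.Agent.S9793
import Groth.Agent.Lib.Helper22.NoethTop

set_option autoImplicit false
universe u
open CategoryTheory AlgebraicGeometry TopologicalSpace
open Props

namespace Groth.Agent.S9794

/-- In a Noetherian scheme, an infinite dense set of points contains a countable subset which is dense. -/
theorem result (S : Scheme.{u}) [IsNoetherian S]
    (T : Set S) (hT : T.Infinite) (hd : Dense T) :
    ∃ E : Set S, E ⊆ T ∧ E.Countable ∧ Dense E := by
  classical
  have hns : NoetherianSpace S := inferInstance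
  let T' : Set S := {x | ∃ E : Set S, E ⊆ T ∧ E.Countable ∧ closure E = closure {x}}
  have hTT' : T ⊆ T' := fun t ht =>
    ⟨{t}, Set.singleton_subset_iff.mpr ht, Set.countable_singleton t, rfl⟩
  choose! Ef hEfT hEfc hEfcl using (fun x (hx : x ∈ T') => hx)
  let M : Set S := {m | m ∈ T' ∧ ∀ t' ∈ T', t' ⤳ m → t' = m}
  have hMfin : M.Finite := by
    by_contra hMinf
    have hMinf : M.Infinite := hMinf
    obtain ⟨Z₀, hZcl, hZirr, hZinf, hZmin⟩ :=
      Groth.Agent.Helper22.exists_irreducible_closed_minimal_infinite M hMinf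
    obtain ⟨M₀, hM₀sub, hM₀c, hM₀inf⟩ := hZinf.exists_subset_countable_infinite
    have hclM₀ : closure M₀ = Z₀ := by
      refine hZmin _ isClosed_closure
        (closure_minimal (fun x hx => (hM₀sub hx).1) hZcl) ?_
      refine hM₀inf.mono ?_
      intro x hx
      exact ⟨subset_closure hx, (hM₀sub hx).2⟩
    let E' : Set S := ⋃ m ∈ M₀, Ef m
    have hE'T : E' ⊆ T := by
      intro x hx
      obtain ⟨m, hm, hxm⟩ := Set.mem_iUnion₂.mp hx
      exact hEfT m (hM₀sub hm).2.1 hxm
    have hE'c : E'.Countable := hM₀c.biUnion (fun m hm => hEfc m (hM₀sub hm).2.1)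
    have hE'cl : closure E' = Z₀ := by
      apply subset_antisymm
      · refine closure_minimal ?_ hZcl
        intro x hx
        obtain ⟨m, hm, hxm⟩ := Set.mem_iUnion₂.mp hx
        have h1 : x ∈ closure (Ef m) := subset_closure hxm
        rw [hEfcl m (hM₀sub hm).2.1] at h1
        exact closure_minimal (Set.singleton_subset_iff.mpr (hM₀sub hm).1) hZcl h1
      · rw [← hclM₀]
        refine closure_minimal ?_ isClosed_closure
        intro m hm
        have h1 : m ∈ closure ({m} : Set S) := subset_closure rfl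
        rw [← hEfcl m (hM₀sub hm).2.1] at h1
        exact closure_mono (Set.subset_biUnion_of_mem (u := fun m => Ef m) hm) h1
    obtain ⟨ζ, hζ⟩ := QuasiSober.sober hZirr hZcl
    have hζcl : closure {ζ} = Z₀ := hζ
    have hζT' : ζ ∈ T' := ⟨E', hE'T, hE'c, hE'cl.trans hζcl.symm⟩
    have hsub : M₀ ⊆ {ζ} := by
      intro m hm
      have hmZ : m ∈ closure ({ζ} : Set S) := by rw [hζcl]; exact (hM₀sub hm).1
      have hsp : ζ ⤳ m := specializes_iff_mem_closure.mpr hmZ
      exact ((hM₀sub hm).2.2 ζ hζT' hsp).symm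
    exact hM₀inf ((Set.finite_singleton ζ).subset hsub)
  refine ⟨⋃ m ∈ M, Ef m, ?_, ?_, ?_⟩
  · intro x hx
    obtain ⟨m, hm, hxm⟩ := Set.mem_iUnion₂.mp hx
    exact hEfT m hm.1 hxm
  · exact hMfin.countable.biUnion (fun m hm => hEfc m hm.1)
  · have hsubT : T ⊆ closure (⋃ m ∈ M, Ef m) := by
      intro t ht
      obtain ⟨m, hmT', hmax, hspec⟩ := Groth.Agent.S9793.result S T' t (hTT' ht)
      have hmM : m ∈ M := ⟨hmT', hmax⟩
      have h1 : t ∈ closure ({m} : Set S) := specializes_iff_mem_closure.mp hspec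
      rw [← hEfcl m hmT'] at h1
      exact closure_mono (Set.subset_biUnion_of_mem (u := fun m => Ef m) hmM) h1
    rw [dense_iff_closure_eq, Set.eq_univ_iff_forall]
    intro x
    have hx : x ∈ closure T := hd x
    exact closure_minimal hsubT isClosed_closure hx

end Groth.Agent.S9794
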