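import Groth.Statements.S9795
import Groth.Agent.Lib.Helper22.DimZero
import Mathlib.AlgebraicGeometry.ValuativeCriterion

set_option autoImplicit false
universe u
open CategoryTheory AlgebraicGeometry TopologicalSpace
open Props

namespace Groth.Agent.S9795

/-- A quasi-separated scheme of dimension at most zero is separated. -/
theorem result (X : Scheme.{u}) [QuasiSeparatedSpace X]
    (h : topologicalKrullDim X ≤ 0) : X.IsSeparated := by
  have hsp : ∀ x y : X, x ⤳ y → x = y := fun x y hxy =>
    Groth.Agent.Helper22.eq_of_specializes_of_dim_le_zero h hxy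
  refine ⟨IsSeparated.of_valuativeCriterion _ ?_⟩
  intro S
  refine ⟨fun l₁ l₂ => ?_⟩
  ext1
  let φ : Spec (.of S.K) ⟶ Spec (.of S.R) :=
    Spec.map (CommRingCat.ofHom (algebraMap S.R S.K))
  have hinj : Function.Injective (algebraMap S.R S.K) := IsFractionRing.injective S.R S.K
  have hdom : IsDominant φ := by
    constructor
    show DenseRange (PrimeSpectrum.comap (algebraMap S.R S.K))
    rw [PrimeSpectrum.denseRange_comap_iff_ker_le_nilRadical,
      (RingHom.injective_iff_ker_eq_bot _).mp hinj]
    exact bot_le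
  have key : ∀ (l : Spec (.of S.R) ⟶ X) (p q : Spec (.of S.R)), l p = l q := by
    intro l p q
    have hp : l (genericPoint _) = l p :=
      hsp _ _ ((genericPoint_specializes p).map l.continuous)
    have hq : l (genericPoint _) = l q :=
      hsp _ _ ((genericPoint_specializes q).map l.continuous)
    rw [← hp, ← hq]
  obtain ⟨pt⟩ : Nonempty (Spec (.of S.K)) := inferInstance
  set η : Spec (.of S.R) := genericPoint _ with hη
  obtain ⟨_, ⟨(U : X.Opens), hU, rfl⟩, hxU, -⟩ :=
    X.isBasis_affineOpens.exists_subset_of_mem_open (Set.mem_univ (l₁.l η)) isOpen_univ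
  have h12 : l₁.l (φ pt) = l₂.l (φ pt) := by
    have e1 : (φ ≫ l₁.l) pt = (φ ≫ l₂.l) pt := by
      rw [l₁.fac_left, l₂.fac_left]
    simpa using e1
  have H1 : Set.range l₁.l ⊆ Set.range U.ι := by
    rw [Scheme.Opens.range_ι]
    rintro _ ⟨p, rfl⟩
    rw [key l₁.l p η]; exact hxU
  have H2 : Set.range l₂.l ⊆ Set.range U.ι := by
    rw [Scheme.Opens.range_ι]
    rintro _ ⟨p, rfl⟩
    rw [key l₂.l p (φ pt), ← h12, key l₁.l (φ pt) η]; exact hxU
  rw [← IsOpenImmersion.lift_fac U.ι l₁.l H1, ← IsOpenImmersion.lift_fac U.ι l₂.l H2]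
  congr 1
  have : IsAffine U.toScheme := hU
  refine ext_of_isDominant φ ?_
  rw [← cancel_mono U.ι]
  simp only [Category.assoc, IsOpenImmersion.lift_fac]
  rw [l₁.fac_left, l₂.fac_left]

end Groth.Agent.S9795
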