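import Groth.Statements.S9796
import Groth.Agent.Lib.Helper22.DimZero

set_option autoImplicit false
universe u
open CategoryTheory AlgebraicGeometry TopologicalSpace
open Props

namespace Groth.Agent.S9796

/-- (2) implies (3) with the complement on connected components: a separated scheme of dimension at most
zero is Hausdorff and totally disconnected. -/
theorem result (X : Scheme.{u}) [X.IsSeparated]
    (h : topologicalKrullDim X ≤ 0) : T2Space X ∧ TotallyDisconnectedSpace X := by
  have hqs : QuasiSeparatedSpace X := inferInstance
  have hts := Groth.Agent.Helper22.totallySeparatedSpace_of_dim_le_zero X h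
  refine ⟨?_, inferInstance⟩
  rw [t2Space_iff]
  intro x y hxy
  obtain ⟨U, hU, hxU, hyU⟩ := (totallySeparatedSpace_iff_exists_isClopen.mp hts) hxy
  exact ⟨U, Uᶜ, hU.2, hU.1.isOpen_compl, hxU, hyU, disjoint_compl_right⟩

end Groth.Agent.S9796
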