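import Groth.Statements.S9798
import Mathlib

set_option autoImplicit false
universe u
open CategoryTheory AlgebraicGeometry TopologicalSpace
open Props

namespace Groth.Agent.S9798

section Helpers
open AlgebraicGeometry CategoryTheory

theorem main (X : Scheme.{u}) [IsLocallyNoetherian X] (x : X) :
    FlatMor.localDim X x = 0 ↔ IsOpen ({x} : Set X) := by
  have hnonneg : ∀ U : {U : TopologicalSpace.Opens X // x ∈ U},
      0 ≤ topologicalKrullDim (U.1 : Set X) := by
    intro U
    haveI : Nonempty (TopologicalSpace.IrreducibleCloseds (U.1 : Set X)) :=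
      ⟨⟨closure {⟨x, U.2⟩}, isIrreducible_singleton.closure, isClosed_closure⟩⟩
    exact Order.krullDim_nonneg
  constructor
  · intro h0
    haveI : Nonempty {U : TopologicalSpace.Opens X // x ∈ U} := ⟨⟨⊤, trivial⟩⟩
    obtain ⟨U, hU⟩ := ciInf_mem
      (fun U : {U : TopologicalSpace.Opens X // x ∈ U} => topologicalKrullDim (U.1 : Set X))
    have hU0 : topologicalKrullDim (U.1 : Set X) ≤ 0 := by
      have h1 : topologicalKrullDim (U.1 : Set X) = FlatMor.localDim X x := hU
      rw [h1, h0]
    haveI : IsLocallyArtinian (U.1 : Scheme.{u}) :=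
      IsLocallyArtinian.of_topologicalKrullDim_le_zero hU0
    haveI : DiscreteTopology U.1 := (inferInstance : DiscreteTopology ((U.1 : Scheme.{u})))
    have := (isOpen_discrete ({⟨x, U.2⟩} : Set U.1)).trans U.1.2
    have h2 : (Subtype.val '' ({⟨x, U.2⟩} : Set U.1) : Set X) = {x} := by
      ext y
      simp only [Set.mem_image, Set.mem_singleton_iff]
      constructor
      · rintro ⟨z, hz, rfl⟩
        rw [hz]
      · intro hy
        exact ⟨⟨x, U.2⟩, rfl, hy.symm⟩
    rw [← h2]
    exact this
  · intro hopen
    apply le_antisymm
    · let U0 : {U : TopologicalSpace.Opens X // x ∈ U} := ⟨⟨{x}, hopen⟩, Set.mem_singleton x⟩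
      refine (iInf_le _ U0).trans ?_
      haveI : Subsingleton ((U0.1 : Set X)) := by
        change Subsingleton (({x} : Set X))
        infer_instance
      exact topologicalKrullDim_zero_of_discreteTopology _
    · exact le_iInf hnonneg

end Helpers

/-- A point of a locally Noetherian scheme has local dimension zero exactly when it is isolated. -/
theorem result (X : Scheme.{u}) [IsLocallyNoetherian X] (x : X) :
    FlatMor.localDim X x = 0 ↔ IsOpen ({x} : Set X) := by
  exact main X x

end Groth.Agent.S9798
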