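import Groth.Statements.S9799
import Mathlib
import Groth.Agent.S2284

set_option autoImplicit false
universe u
open CategoryTheory AlgebraicGeometry TopologicalSpace
open Props

namespace Groth.Agent.S9799

section Helpers
open AlgebraicGeometry CategoryTheory TopologicalSpace

set_option backward.isDefEq.respectTransparency false in
theorem disjoint_components9799 (W : Scheme.{u})
    (hD : ∀ x : W, IsDomain (W.presheaf.stalk x)) :
    ∀ Z ∈ irreducibleComponents W, ∀ Z' ∈ irreducibleComponents W, Z ≠ Z' → Disjoint Z Z' := by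
  intro Z hZ Z' hZ' hne
  rw [Set.disjoint_left]
  intro x hxZ hxZ'
  apply hne
  haveI := hD x
  let t : W := (W.fromSpecStalk x) ⟨⊥, Ideal.bot_prime⟩
  have key : ∀ Z'' ∈ irreducibleComponents W, x ∈ Z'' → Z'' = closure {t} := by
    intro Z'' hZ'' hx
    let g := genericPoints.ofComponent ⟨Z'', hZ''⟩
    have hg : IsGenericPoint g.1 Z'' := genericPoints.isGenericPoint_ofComponent ⟨Z'', hZ''⟩
    have hgx : g.1 ⤳ x := hg.specializes hx
    have hmem : g.1 ∈ Set.range (W.fromSpecStalk x) := by
      rw [Scheme.range_fromSpecStalk]; exact hgx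
    obtain ⟨p, hp⟩ := hmem
    have h1 : (⟨⊥, Ideal.bot_prime⟩ : PrimeSpectrum (W.presheaf.stalk x)) ⤳ p := by
      rw [← PrimeSpectrum.le_iff_specializes]
      show (⊥ : Ideal (W.presheaf.stalk x)) ≤ p.asIdeal
      exact bot_le
    have h2 : t ⤳ g.1 := by
      rw [← hp]
      exact h1.map (W.fromSpecStalk x).continuous
    have h3 : g.1 ⤳ t :=
      (Groth.Agent.S2284.mem_irreducibleComponents_closure_iff g.1).mp g.2 t h2
    have h4 : g.1 = t := (h3.antisymm h2).eq
    rw [← hg.def, h4]
  rw [key Z hZ hxZ, key Z' hZ' hxZ']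

theorem isOpen_component9799 (W : Type*) [TopologicalSpace W]
    (hfin : (irreducibleComponents W).Finite)
    (hdisj : ∀ Z ∈ irreducibleComponents W, ∀ Z' ∈ irreducibleComponents W, Z ≠ Z' →
      Disjoint Z Z') (Z₀ : Set W) (hZ₀mem : Z₀ ∈ irreducibleComponents W) : IsOpen Z₀ := by
  let T : Set W := ⋃ Z ∈ (irreducibleComponents W \ {Z₀}), Z
  have hTclosed : IsClosed T :=
    Set.Finite.isClosed_biUnion (hfin.subset Set.diff_subset)
      fun Z hZ => isClosed_of_mem_irreducibleComponents Z hZ.1
  have hcompl : Z₀ = Tᶜ := by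
    ext w
    constructor
    · intro hw hwT
      obtain ⟨Z, hZ, hwZ⟩ := Set.mem_iUnion₂.mp hwT
      exact (Set.disjoint_left.mp (hdisj _ hZ₀mem Z hZ.1 (fun h => hZ.2 h.symm)) hw) hwZ
    · intro hw
      by_contra hwZ₀
      apply hw
      have h1 : irreducibleComponent w ∈ irreducibleComponents W :=
        irreducibleComponent_mem_irreducibleComponents w
      have h2 : irreducibleComponent w ≠ Z₀ :=
        fun h => hwZ₀ (h ▸ mem_irreducibleComponent)
      exact Set.mem_biUnion
        (⟨h1, h2⟩ : irreducibleComponent w ∈ irreducibleComponents W \ {Z₀})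
        mem_irreducibleComponent
  have := hTclosed.isOpen_compl
  rwa [← hcompl] at this

set_option backward.isDefEq.respectTransparency false in
theorem main9799 (X : Scheme.{u})
    (hfin : ∀ U : X.Opens, IsCompact (U : Set X) → (irreducibleComponents ↥U).Finite)
    (hN : Pi1.IsNormalScheme X) :
    (∀ Z ∈ irreducibleComponents X, IsOpen Z) ∧
      ∀ Z ∈ irreducibleComponents X, ∀ Z' ∈ irreducibleComponents X, Z ≠ Z' → Disjoint Z Z' := by
  have hD : ∀ x : X, IsDomain (X.presheaf.stalk x) := fun x => (hN x).1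
  have hdisjX := disjoint_components9799 X hD
  refine ⟨fun Z hZ => ?_, hdisjX⟩
  rw [isOpen_iff_forall_mem_open]
  intro x hxZ
  obtain ⟨U, hU, hxU, -⟩ := exists_isAffineOpen_mem_and_subset (x := x) (U := ⊤) trivial
  have hfinU : (irreducibleComponents ↥U).Finite := hfin U hU.isCompact
  have hDU : ∀ y : (U : Scheme.{u}), IsDomain ((U : Scheme.{u}).presheaf.stalk y) := by
    intro y
    haveI := hD (U.ι y)
    let e := (asIso (U.ι.stalkMap y)).commRingCatIsoToRingEquiv
    exact e.symm.toMulEquiv.isDomain _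
  have hdisjU : ∀ Z ∈ irreducibleComponents ↥U, ∀ Z' ∈ irreducibleComponents ↥U, Z ≠ Z' →
      Disjoint Z Z' := disjoint_components9799 (U : Scheme.{u}) hDU
  let xU : ↥U := ⟨x, hxU⟩
  have hCopen : IsOpen (irreducibleComponent xU) :=
    isOpen_component9799 _ hfinU hdisjU _ (irreducibleComponent_mem_irreducibleComponents xU)
  let V : Set X := Subtype.val '' (irreducibleComponent xU)
  have hVopen : IsOpen V := U.2.isOpenMap_subtype_val _ hCopen
  have hxV : x ∈ V := ⟨xU, mem_irreducibleComponent, rfl⟩
  have hVirr : IsIrreducible V :=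
    isIrreducible_irreducibleComponent.image _ continuous_subtype_val.continuousOn
  obtain ⟨Z₁, hZ₁pre, hVZ₁, hmax⟩ := exists_preirreducible V hVirr.isPreirreducible
  have hZ₁irr : IsIrreducible Z₁ := ⟨⟨x, hVZ₁ hxV⟩, hZ₁pre⟩
  have hZ₁mem : Z₁ ∈ irreducibleComponents X :=
    ⟨hZ₁irr, fun u hu htu => (hmax u hu.isPreirreducible htu).le⟩
  have hZZ₁ : Z₁ = Z := by
    by_contra hne
    exact Set.disjoint_left.mp (hdisjX Z₁ hZ₁mem Z hZ hne) (hVZ₁ hxV) hxZ
  exact ⟨V, hZZ₁ ▸ hVZ₁, hVopen, hxV⟩

end Helpers

/-- Let X be a normal scheme (all local rings are integrally closed domains) such that every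
quasi-compact open subset has finitely many irreducible components. Then the irreducible components
of X are open and pairwise disjoint; hence X is the disjoint union of its irreducible components,
each an open subscheme which is normal and integral. -/
theorem result (X : Scheme.{u})
    (hfin : ∀ U : X.Opens, IsCompact (U : Set X) → (irreducibleComponents ↥U).Finite)
    (hN : Pi1.IsNormalScheme X) :
    (∀ Z ∈ irreducibleComponents X, IsOpen Z) ∧
      ∀ Z ∈ irreducibleComponents X, ∀ Z' ∈ irreducibleComponents X, Z ≠ Z' → Disjoint Z Z' := by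
  exact main9799 X hfin hN

end Groth.Agent.S9799
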