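import Groth.Statements.S9800
import Mathlib
import Groth.Agent.S7830

set_option autoImplicit false
universe u
open CategoryTheory AlgebraicGeometry TopologicalSpace
open Props

namespace Groth.Agent.S9800

/-- A locally Noetherian normal scheme of dimension at most one is regular, that is, all of its local
rings are regular local rings. -/
theorem result (X : Scheme.{u})
    [IsLocallyNoetherian X] (hN : Pi1.IsNormalScheme X) (hd : topologicalKrullDim X ≤ 1) (x : X) :
    IsRegularLocalRing (X.presheaf.stalk x) := by
  obtain ⟨hdom, hic⟩ := hN x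
  haveI := hdom
  haveI := hic
  have hdim : ringKrullDim (X.presheaf.stalk x) ≤ 1 :=
    (Groth.Agent.S7830.ringKrullDim_stalk_le_topologicalKrullDim X x).trans hd
  have h1 : Ring.KrullDimLE 1 (X.presheaf.stalk x) := Ring.krullDimLE_iff.mpr (by simpa using hdim)
  have h2 := Ring.krullDimLE_one_iff_of_noZeroDivisors.mp h1
  have h3 : (IsIntegrallyClosed (X.presheaf.stalk x) ∧
      ∀ P : Ideal (X.presheaf.stalk x), P ≠ ⊥ → P.IsPrime →
        P = IsLocalRing.maximalIdeal (X.presheaf.stalk x)) ↔
      IsPrincipalIdealRing (X.presheaf.stalk x) :=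
    (tfae_of_isNoetherianRing_of_isLocalRing_of_isDomain (X.presheaf.stalk x)).out 3 0
  haveI : IsPrincipalIdealRing (X.presheaf.stalk x) :=
    h3.mp ⟨inferInstance, fun P hP hP' => IsLocalRing.eq_maximalIdeal (h2 P hP hP')⟩
  infer_instance

end Groth.Agent.S9800
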