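import Groth.Statements.S9801
import Mathlib
import Groth.Agent.S7830
import Groth.Agent.S0601
import Groth.Agent.H13.Serre

set_option autoImplicit false
universe u
open CategoryTheory AlgebraicGeometry TopologicalSpace
open Props

namespace Groth.Agent.S9801


open Groth.Agent.H29 IsLocalRing in
lemma cm_of_normal_dim_le_two (A : Type u) [CommRing A] [IsNoetherianRing A] [IsLocalRing A]
    [IsDomain A] [IsIntegrallyClosed A] (hd : ringKrullDim A ≤ 2) :
    LocCoh.IsCohenMacaulayLocalRing A := by
  have hloc : ∀ (p : Ideal A) [p.IsPrime], IsDomain (Localization.AtPrime p) ∧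
      IsIntegrallyClosed (Localization.AtPrime p) := by
    intro p _
    exact ⟨IsLocalization.isDomain_of_le_nonZeroDivisors (Localization.AtPrime p)
        p.primeCompl_le_nonZeroDivisors,
      isIntegrallyClosed_of_isLocalization (Localization.AtPrime p) p.primeCompl
        p.primeCompl_le_nonZeroDivisors⟩
  obtain ⟨-, hS2⟩ := (Groth.Agent.S0601.result A).1 hloc
  have h := hS2 (maximalIdeal A)
  rw [supportDim_localizedModule_self, depth_localizedModule_self] at h
  let e : A ≃ₐ[A] Localization.AtPrime (maximalIdeal A) :=
    IsLocalization.atUnits A (maximalIdeal A).primeCompl (by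
      intro x hx
      exact (IsLocalRing.notMem_maximalIdeal.1 hx))
  have hdepth : LocCoh.depth A A = LocCoh.depth (Localization.AtPrime (maximalIdeal A))
      (Localization.AtPrime (maximalIdeal A)) :=
    Groth.Agent.H13.Serre.depth_self_of_ringEquiv e.toRingEquiv
  have hdim : ringKrullDim A = ringKrullDim (Localization.AtPrime (maximalIdeal A)) :=
    ringKrullDim_eq_of_ringEquiv e.toRingEquiv
  rw [← hdepth, ← hdim] at h
  refine { supportDim_eq_depth := ?_ }
  rw [Module.supportDim_self_eq_ringKrullDim]
  apply le_antisymm
  · have h2 : min ((2 : ℕ) : WithBot ℕ∞) (ringKrullDim A) = ringKrullDim A :=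
      min_eq_right (by exact_mod_cast hd)
    rw [← h2]
    exact h
  · have := depth_le_supportDim A A
    rwa [Module.supportDim_self_eq_ringKrullDim] at this

/-- A locally Noetherian normal scheme of dimension at most two is Cohen-Macaulay, that is, all of its
local rings are Cohen-Macaulay local rings. -/
theorem result (X : Scheme.{u})
    [IsLocallyNoetherian X] (hN : Pi1.IsNormalScheme X) (hd : topologicalKrullDim X ≤ 2) (x : X) :
    LocCoh.IsCohenMacaulayLocalRing (X.presheaf.stalk x) := by
  obtain ⟨hdom, hic⟩ := hN x
  haveI := hdom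
  haveI := hic
  have hdim : ringKrullDim (X.presheaf.stalk x) ≤ 2 :=
    (Groth.Agent.S7830.ringKrullDim_stalk_le_topologicalKrullDim X x).trans hd
  exact cm_of_normal_dim_le_two _ hdim

end Groth.Agent.S9801
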