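import Groth.Statements.S9804
import Mathlib

set_option autoImplicit false
universe u
open CategoryTheory AlgebraicGeometry TopologicalSpace
open Props

namespace Groth.Agent.S9804

/-- For quasi-affine schemes U and V and an open immersion j : U → V, the scheme U is the fibre product
of the composite U → V → Spec Γ(V, O_V) and the morphism Spec Γ(U, O_U) → Spec Γ(V, O_V) induced by
restriction of sections along j: the square whose sides are the identity of U, the canonical
morphism U → Spec Γ(U, O_U), that composite and that induced morphism is cartesian. -/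
theorem result {U V : Scheme.{u}} (j : U ⟶ V)
    [IsOpenImmersion j] [U.IsQuasiAffine] [V.IsQuasiAffine] :
    IsPullback (𝟙 U) U.toSpecΓ (j ≫ V.toSpecΓ) (Spec.map j.appTop) := by
  have H : U.toSpecΓ ≫ Spec.map j.appTop = 𝟙 U ≫ (j ≫ V.toSpecΓ) := by
    rw [Category.id_comp, Scheme.toSpecΓ_naturality]
  refine IsOpenImmersion.isPullback (𝟙 U) U.toSpecΓ (j ≫ V.toSpecΓ) (Spec.map j.appTop) H ?_
  apply le_antisymm
  · intro p hp
    obtain ⟨u, hu⟩ := hp
    obtain ⟨_, ⟨_, ⟨r, hr, rfl⟩, rfl⟩, hur, hrj⟩ :=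
      (Scheme.IsQuasiAffine.isBasis_basicOpen V).exists_subset_of_mem_open
        (show j u ∈ Set.range j from ⟨u, rfl⟩) j.isOpenEmbedding.isOpen_range
    have hUaff : IsAffineOpen (U.basicOpen (j.appTop r)) := by
      rw [← Scheme.preimage_basicOpen_top]
      exact hr.preimage_of_isOpenImmersion j hrj
    have hpr : p ∈ PrimeSpectrum.basicOpen (j.appTop r) := by
      have h1 : (Spec.map j.appTop) p ∈ (PrimeSpectrum.basicOpen r : (Spec Γ(V, ⊤)).Opens) := by
        rw [← hu, Scheme.Hom.comp_apply]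
        have h2 : j u ∈ V.toSpecΓ ⁻¹ᵁ PrimeSpectrum.basicOpen r := by
          rw [Scheme.toSpecΓ_preimage_basicOpen]
          exact hur
        exact h2
      exact h1
    haveI := isLocalization_basicOpen_of_qcqs (X := U) (U := ⊤) isCompact_univ
      isQuasiSeparated_univ (j.appTop r)
    have hrange := PrimeSpectrum.localization_away_comap_range
      Γ(U, U.basicOpen (j.appTop r)) (j.appTop r)
    obtain ⟨q, hq⟩ : p ∈ Set.range (PrimeSpectrum.comap
        (algebraMap Γ(U, ⊤) Γ(U, U.basicOpen (j.appTop r)))) := by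
      rw [hrange]
      exact hpr
    have e1 : (U.basicOpen (j.appTop r)).toSpecΓ ≫
        Spec.map (U.presheaf.map (homOfLE le_top).op) =
        (U.basicOpen (j.appTop r)).ι ≫ U.toSpecΓ :=
      Scheme.Opens.toSpecΓ_SpecMap_presheaf_map_top _
    have e2 : (U.basicOpen (j.appTop r)).toSpecΓ (hUaff.isoSpec.inv q) = q := by
      show hUaff.isoSpec.hom (hUaff.isoSpec.inv q) = q
      rw [← Scheme.Hom.comp_apply, Iso.inv_hom_id]
      rfl
    refine ⟨(U.basicOpen (j.appTop r)).ι (hUaff.isoSpec.inv q), ?_⟩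
    calc U.toSpecΓ ((U.basicOpen (j.appTop r)).ι (hUaff.isoSpec.inv q))
        = ((U.basicOpen (j.appTop r)).ι ≫ U.toSpecΓ) (hUaff.isoSpec.inv q) :=
          (Scheme.Hom.comp_apply _ _ _).symm
      _ = ((U.basicOpen (j.appTop r)).toSpecΓ ≫
            Spec.map (U.presheaf.map (homOfLE le_top).op)) (hUaff.isoSpec.inv q) := by rw [e1]
      _ = Spec.map (U.presheaf.map (homOfLE le_top).op)
            ((U.basicOpen (j.appTop r)).toSpecΓ (hUaff.isoSpec.inv q)) :=
          Scheme.Hom.comp_apply _ _ _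
      _ = Spec.map (U.presheaf.map (homOfLE le_top).op) q := by rw [e2]
      _ = p := hq
  · rintro _ ⟨u, rfl⟩
    refine ⟨u, ?_⟩
    rw [Scheme.toSpecΓ_naturality, Scheme.Hom.comp_apply]

end Groth.Agent.S9804
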