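import Groth.Statements.S9807
import Mathlib
import Groth.Agent.H29.RegLocalization

set_option autoImplicit false
universe u
open CategoryTheory AlgebraicGeometry TopologicalSpace
open Props

namespace Groth.Agent.S9807

open AlgebraicGeometry TopologicalSpace

theorem dim_le_one_of_open_generic {D : Type u} [CommRing D] [IsDomain D] [IsNoetherianRing D]
    (f : D) (hf0 : f ≠ 0) (hf : ∀ P : Ideal D, P.IsPrime → P ≠ ⊥ → f ∈ P)
    (P' P'' : Ideal D) [hP' : P'.IsPrime] [hP'' : P''.IsPrime] (hne : P' ≠ ⊥) (hle : P' ≤ P'') :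
    P' = P'' := by
  classical
  by_contra hneq
  have hlt : P' < P'' := lt_of_le_of_ne hle hneq
  have hge : ∀ p : Ideal D, p.IsPrime → p ≠ ⊥ → 1 ≤ p.height := by
    intro p hp hpne
    rw [ENat.one_le_iff_ne_zero]
    intro h0
    rw [Ideal.height_eq_zero_iff, IsDomain.minimalPrimes_eq_singleton_bot] at h0
    exact hpne h0
  have h2 : ¬ (P''.height ≤ 1) := by
    intro h
    have h1 := Ideal.height_strict_mono_of_isPrime hlt
    exact absurd (lt_of_lt_of_le h1 h) (not_lt.mpr (hge P' hP' hne))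
  have hminfin := Ideal.finite_minimalPrimes_of_isNoetherianRing D (Ideal.span {f})
  let s : Finset (Ideal D) := insert ⊥ hminfin.toFinset
  have hp : ∀ i ∈ s, i ≠ ⊥ → i ≠ ⊥ → (id i : Ideal D).IsPrime := by
    intro i hi hia _
    rcases Finset.mem_insert.mp hi with h | h
    · exact absurd h hia
    · exact (hminfin.mem_toFinset.mp h).1.1
  have hnot : ¬ ∃ i ∈ s, P'' ≤ id i := by
    rintro ⟨i, his, hle'⟩
    rcases Finset.mem_insert.mp his with h | h
    · have h3 : P'' = ⊥ := le_bot_iff.mp (h ▸ hle')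
      exact hne (le_bot_iff.mp (h3 ▸ hle))
    · have hi := hminfin.mem_toFinset.mp h
      haveI := hi.1.1
      have h3 : i.height ≤ 1 :=
        Ideal.height_le_one_of_isPrincipal_of_mem_minimalPrimes _ i hi
      exact h2 ((Ideal.height_mono hle').trans h3)
  have havoid := (Ideal.subset_union_prime (f := id) (⊥ : Ideal D) ⊥ hp (I := P'')).not.mpr hnot
  obtain ⟨y, hyP, hy⟩ := Set.not_subset.mp havoid
  simp only [Set.mem_iUnion, not_exists] at hy
  have hy0 : y ≠ 0 := fun h => hy ⊥ (by simp [s]) (by simp [h])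
  obtain ⟨Q, hQmin, hQle⟩ := Ideal.exists_minimalPrimes_le (I := Ideal.span {y}) (J := P'')
    ((Ideal.span_singleton_le_iff_mem _).mpr hyP)
  haveI := hQmin.1.1
  have hyQ : y ∈ Q := hQmin.1.2 (Ideal.mem_span_singleton_self y)
  have hQne : Q ≠ ⊥ := by
    rintro rfl
    exact hy0 (by simpa using hyQ)
  have hQ1 : Q.height ≤ 1 := Ideal.height_le_one_of_isPrincipal_of_mem_minimalPrimes _ Q hQmin
  have hfQ : f ∈ Q := hf Q hQmin.1.1 hQne
  obtain ⟨t, htmin, htQ⟩ := Ideal.exists_minimalPrimes_le (I := Ideal.span {f}) (J := Q)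
    ((Ideal.span_singleton_le_iff_mem _).mpr hfQ)
  haveI := htmin.1.1
  have htne : t ≠ ⊥ := by
    rintro rfl
    exact hf0 (by simpa using htmin.1.2 (Ideal.mem_span_singleton_self f))
  have hteq : t = Q := by
    by_contra hne'
    have hlt' : t < Q := lt_of_le_of_ne htQ hne'
    have h1 := Ideal.height_strict_mono_of_isPrime hlt'
    exact absurd (lt_of_lt_of_le h1 hQ1) (not_lt.mpr (hge t htmin.1.1 htne))
  exact hy t (Finset.mem_coe.mpr (Finset.mem_insert_of_mem (hminfin.mem_toFinset.mpr htmin)))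
    (hteq ▸ hyQ)

theorem prime_chain_collapse {B : Type u} [CommRing B] [IsNoetherianRing B]
    (q : Ideal B) [hq : q.IsPrime] (f : B) (hfq : f ∉ q)
    (hf : ∀ r : Ideal B, r.IsPrime → q ≤ r → f ∉ r → r = q)
    (q' q'' : Ideal B) [hq' : q'.IsPrime] [hq'' : q''.IsPrime] (h1 : q ≤ q') (h1' : q' ≠ q)
    (h2 : q' ≤ q'') : q' = q'' := by
  let π := Ideal.Quotient.mk q
  have hπ : Function.Surjective π := Ideal.Quotient.mk_surjective
  have hker : RingHom.ker π = q := Ideal.mk_ker
  have hc0 : Ideal.comap π ⊥ = q := by rw [← RingHom.ker_eq_comap_bot, hker]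
  have hcm : ∀ I : Ideal B, q ≤ I → Ideal.comap π (Ideal.map π I) = I := by
    intro I hI
    rw [Ideal.comap_map_of_surjective π hπ, hc0, sup_eq_left.mpr hI]
  haveI : (Ideal.map π q').IsPrime :=
    Ideal.map_isPrime_of_surjective hπ (by rw [hker]; exact h1)
  haveI : (Ideal.map π q'').IsPrime :=
    Ideal.map_isPrime_of_surjective hπ (by rw [hker]; exact h1.trans h2)
  have key := dim_le_one_of_open_generic (D := B ⧸ q) (π f) ?_ ?_ (Ideal.map π q')
    (Ideal.map π q'') ?_ (Ideal.map_mono h2)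
  · rw [← hcm q' h1, ← hcm q'' (h1.trans h2), key]
  · intro h
    exact hfq (Ideal.Quotient.eq_zero_iff_mem.mp h)
  · intro P hP hPne
    by_contra hfP
    have hqP : q ≤ Ideal.comap π P := by
      have h4 : Ideal.comap π ⊥ ≤ Ideal.comap π P := Ideal.comap_mono bot_le
      rwa [hc0] at h4
    have h3 : Ideal.comap π P = q := hf _ (Ideal.comap_isPrime π P) hqP (fun h => hfP h)
    apply hPne
    rw [← Ideal.map_comap_of_surjective π hπ P, h3]
    exact Ideal.map_quotient_self q
  · intro h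
    apply h1'
    have h3 : q' ≤ q := by
      rw [← hker]
      exact (Ideal.map_eq_bot_iff_le_ker π).mp h
    exact le_antisymm h3 h1

/-- The two topological properties of an affine Noetherian patch we use. -/
def SpecProp (W : Type*) [TopologicalSpace W] : Prop :=
  (∀ (y₀ y₁ y₂ : W) (O : Set W), IsOpen O → y₀ ∈ O → (∀ z ∈ O, y₀ ⤳ z → z = y₀) →
      y₀ ⤳ y₁ → y₁ ⤳ y₂ → y₁ ≠ y₀ → y₂ = y₁) ∧
  (∀ x : W, ∃ y : W, x ⤳ y ∧ IsClosed ({y} : Set W))

theorem specProp_primeSpectrum (B : Type u) [CommRing B] [IsNoetherianRing B] :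
    SpecProp (PrimeSpectrum B) := by
  refine ⟨?_, ?_⟩
  · intro y₀ y₁ y₂ O hO hy₀ hloc h01 h12 hne
    obtain ⟨_, ⟨f, rfl⟩, hy₀f, hfO⟩ :=
      PrimeSpectrum.isTopologicalBasis_basic_opens.exists_subset_of_mem_open hy₀ hO
    have hfq : f ∉ y₀.asIdeal := by simpa using hy₀f
    have key := prime_chain_collapse y₀.asIdeal f hfq ?_ y₁.asIdeal y₂.asIdeal
      ((PrimeSpectrum.le_iff_specializes _ _).mpr h01) ?_
      ((PrimeSpectrum.le_iff_specializes _ _).mpr h12)
    · exact (PrimeSpectrum.ext key).symm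
    · intro r hr hqr hfr
      have h3 := hloc ⟨r, hr⟩ (hfO (by simpa using hfr))
        ((PrimeSpectrum.le_iff_specializes y₀ ⟨r, hr⟩).mp hqr)
      exact congrArg PrimeSpectrum.asIdeal h3
    · intro h
      exact hne (PrimeSpectrum.ext h)
  · intro x
    obtain ⟨m, hm, hxm⟩ := Ideal.exists_le_maximal x.asIdeal x.isPrime.ne_top
    exact ⟨⟨m, hm.isPrime⟩, (PrimeSpectrum.le_iff_specializes x ⟨m, hm.isPrime⟩).mp hxm,
      (PrimeSpectrum.isClosed_singleton_iff_isMaximal _).mpr hm⟩

theorem SpecProp.of_homeomorph {W W' : Type*} [TopologicalSpace W] [TopologicalSpace W']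
    (h : W ≃ₜ W') (hW' : SpecProp W') : SpecProp W := by
  refine ⟨?_, ?_⟩
  · intro y₀ y₁ y₂ O hO hy₀ hloc h01 h12 hne
    have h3 := hW'.1 (h y₀) (h y₁) (h y₂) (h '' O) (h.isOpen_image.mpr hO)
      (Set.mem_image_of_mem _ hy₀) ?_ (h01.map h.continuous) (h12.map h.continuous)
      (fun e => hne (h.injective e))
    · exact h.injective h3
    · rintro _ ⟨z, hz, rfl⟩ hs
      rw [hloc z hz (h.isInducing.specializes_iff.mp hs)]
  · intro x
    obtain ⟨y, hxy, hy⟩ := hW'.2 (h x)
    refine ⟨h.symm y, ?_, ?_⟩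
    · have h3 := hxy.map h.symm.continuous
      rwa [h.symm_apply_apply] at h3
    · have h3 : ({h.symm y} : Set W) = h ⁻¹' {y} := by
        ext z
        simp only [Set.mem_singleton_iff, Set.mem_preimage]
        constructor
        · rintro rfl
          exact h.apply_symm_apply y
        · intro hz
          rw [← hz]
          exact (h.symm_apply_apply z).symm
      rw [h3]
      exact hy.preimage h.continuous

theorem exists_closed_specialization {X : Type*} [TopologicalSpace X]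
    (hcov : ∀ x : X, ∃ V : Set X, IsOpen V ∧ x ∈ V ∧ SpecProp V) (x : X) :
    ∃ y : X, x ⤳ y ∧ IsClosed ({y} : Set X) := by
  obtain ⟨U, hUo, hxU, hU⟩ := hcov x
  obtain ⟨⟨y₀, hy₀U⟩, hxy₀, hy₀cl⟩ := hU.2 ⟨x, hxU⟩
  have hxy₀' : x ⤳ y₀ := (subtype_specializes_iff _ _).mp hxy₀
  have hloc : ∀ z ∈ U, y₀ ⤳ z → z = y₀ := by
    intro z hzU hz
    have h1 : (⟨y₀, hy₀U⟩ : U) ⤳ ⟨z, hzU⟩ := (subtype_specializes_iff _ _).mpr hz
    have h3 := h1.mem_closed hy₀cl (Set.mem_singleton _)
    exact congrArg Subtype.val (Set.mem_singleton_iff.mp h3)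
  by_cases hcl : IsClosed ({y₀} : Set X)
  · exact ⟨y₀, hxy₀', hcl⟩
  · have hex : ∃ y₁, y₀ ⤳ y₁ ∧ y₁ ≠ y₀ := by
      by_contra hcon
      push_neg at hcon
      apply hcl
      refine isClosed_of_closure_subset fun z hz => ?_
      exact Set.mem_singleton_iff.mpr (hcon z (specializes_iff_mem_closure.mpr hz))
    obtain ⟨y₁, h01, hne⟩ := hex
    refine ⟨y₁, hxy₀'.trans h01, isClosed_of_closure_subset fun y₂ hy₂ => ?_⟩
    have h12 : y₁ ⤳ y₂ := specializes_iff_mem_closure.mpr hy₂
    obtain ⟨V, hVo, hy₂V, hV⟩ := hcov y₂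
    have hy₁V : y₁ ∈ V := h12.mem_open hVo hy₂V
    have hy₀V : y₀ ∈ V := h01.mem_open hVo hy₁V
    have h3 := hV.1 ⟨y₀, hy₀V⟩ ⟨y₁, hy₁V⟩ ⟨y₂, hy₂V⟩ (Subtype.val ⁻¹' U)
      (hUo.preimage continuous_subtype_val) hy₀U ?_
      ((subtype_specializes_iff _ _).mpr h01) ((subtype_specializes_iff _ _).mpr h12)
      (fun e => hne (congrArg Subtype.val e))
    · exact Set.mem_singleton_iff.mpr (congrArg Subtype.val h3)
    · rintro ⟨z, hzV⟩ hzU hs
      exact Subtype.ext (hloc z hzU ((subtype_specializes_iff _ _).mp hs))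

theorem exists_closed_specialization_scheme (X : Scheme.{u}) [IsLocallyNoetherian X] (x : X) :
    ∃ y : X, x ⤳ y ∧ IsClosed ({y} : Set X) := by
  refine exists_closed_specialization (fun z => ?_) x
  obtain ⟨V, hV, hzV, -⟩ :=
    (Opens.isBasis_iff_nbhd.mp X.isBasis_affineOpens) (Opens.mem_top z)
  refine ⟨V, V.isOpen, hzV, ?_⟩
  haveI : IsNoetherianRing Γ(X, V) := IsLocallyNoetherian.component_noetherian ⟨V, hV⟩
  exact SpecProp.of_homeomorph (Scheme.homeoOfIso (IsAffineOpen.isoSpec hV))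
    (specProp_primeSpectrum _)

theorem regular_of_le {R : Type u} [CommRing R] (p q : Ideal R) [hp : p.IsPrime] [q.IsPrime]
    (hpq : p ≤ q) (A B : Type u) [CommRing A] [CommRing B] [Algebra R A] [Algebra R B]
    [IsLocalization.AtPrime A p] [IsLocalization.AtPrime B q] [IsRegularLocalRing B] :
    IsRegularLocalRing A := by
  let S := Localization.AtPrime q
  haveI : IsRegularLocalRing S :=
    IsRegularLocalRing.of_ringEquiv (IsLocalization.algEquiv q.primeCompl B S).toRingEquiv
  have hdisj : Disjoint (q.primeCompl : Set R) (p : Set R) := by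
    rw [Set.disjoint_left]
    intro a ha hap
    exact ha (hpq hap)
  let P : Ideal S := Ideal.map (algebraMap R S) p
  haveI hP : P.IsPrime := IsLocalization.isPrime_of_isPrime_disjoint q.primeCompl S p hp hdisj
  have hcomap : Ideal.comap (algebraMap R S) P = p :=
    IsLocalization.under_map_of_isPrime_disjoint q.primeCompl S hp hdisj
  haveI : IsRegularLocalRing (Localization.AtPrime P) :=
    H29.isRegularLocalRing_localization_atPrime S P
  have hloc : IsLocalization.AtPrime (Localization.AtPrime P)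
      (Ideal.comap (algebraMap R S) P) :=
    IsLocalization.isLocalization_isLocalization_atPrime_isLocalization q.primeCompl
      (Localization.AtPrime P) P
  have hM : (Ideal.comap (algebraMap R S) P).primeCompl = p.primeCompl := by
    ext a
    rw [Ideal.mem_primeCompl_iff, Ideal.mem_primeCompl_iff, hcomap]
  haveI hloc' : IsLocalization p.primeCompl (Localization.AtPrime P) := hM ▸ hloc
  exact IsRegularLocalRing.of_ringEquiv
    (IsLocalization.algEquiv p.primeCompl (Localization.AtPrime P) A).toRingEquiv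

theorem stalk_regular_of_specializes (X : Scheme.{u}) {x y : X} (hxy : x ⤳ y)
    [IsRegularLocalRing (X.presheaf.stalk y)] : IsRegularLocalRing (X.presheaf.stalk x) := by
  obtain ⟨U, hU, hyU, -⟩ :=
    (Opens.isBasis_iff_nbhd.mp X.isBasis_affineOpens) (Opens.mem_top y)
  have hU' : IsAffineOpen U := hU
  have hxU : x ∈ U := hxy.mem_open U.isOpen hyU
  letI algx : Algebra Γ(X, U) (X.presheaf.stalk x) :=
    TopCat.Presheaf.algebra_section_stalk X.presheaf (⟨x, hxU⟩ : U)
  letI algy : Algebra Γ(X, U) (X.presheaf.stalk y) :=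
    TopCat.Presheaf.algebra_section_stalk X.presheaf (⟨y, hyU⟩ : U)
  haveI : IsLocalization.AtPrime (X.presheaf.stalk x) (hU'.primeIdealOf ⟨x, hxU⟩).asIdeal :=
    hU'.isLocalization_stalk ⟨x, hxU⟩
  haveI : IsLocalization.AtPrime (X.presheaf.stalk y) (hU'.primeIdealOf ⟨y, hyU⟩).asIdeal :=
    hU'.isLocalization_stalk ⟨y, hyU⟩
  have hle : (hU'.primeIdealOf ⟨x, hxU⟩).asIdeal ≤ (hU'.primeIdealOf ⟨y, hyU⟩).asIdeal := by
    have h1 : (⟨x, hxU⟩ : U) ⤳ ⟨y, hyU⟩ := (subtype_specializes_iff _ _).mpr hxy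
    have h2 := h1.map (hU'.isoSpec.hom.continuous)
    exact (PrimeSpectrum.le_iff_specializes _ _).mpr h2
  exact regular_of_le (hU'.primeIdealOf ⟨x, hxU⟩).asIdeal (hU'.primeIdealOf ⟨y, hyU⟩).asIdeal
    hle (X.presheaf.stalk x) (X.presheaf.stalk y)

/-- A locally Noetherian scheme is regular (all local rings regular) as soon as its local rings at
closed points are regular, and conversely. -/
theorem result (X : Scheme.{u}) [IsLocallyNoetherian X] :
    (∀ x : X, IsRegularLocalRing (X.presheaf.stalk x)) ↔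
      ∀ x : X, IsClosed ({x} : Set X) → IsRegularLocalRing (X.presheaf.stalk x) := by
  constructor
  · intro h x _
    exact h x
  · intro h x
    obtain ⟨y, hxy, hy⟩ := exists_closed_specialization_scheme X x
    haveI hreg := h y hy
    exact stalk_regular_of_specializes X hxy

end Groth.Agent.S9807
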