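import Groth.Statements.S9808
import Mathlib
import Groth.Agent.S9807
import Groth.Agent.H29.CMLoc
import Groth.Agent.H29.FibTransport
import Groth.Agent.H29.ReducedR0S1
import Groth.Agent.H29.DepthLocal

set_option autoImplicit false
universe u
open CategoryTheory AlgebraicGeometry TopologicalSpace
open Props

namespace Groth.Agent.S9808


theorem cm_localization_atPrime (S : Type u) [CommRing S] [hS : LocCoh.IsCohenMacaulayLocalRing S]
    (P : Ideal S) [hP : P.IsPrime] :
    LocCoh.IsCohenMacaulayLocalRing (Localization.AtPrime P) := by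
  haveI : IsNoetherianRing S := inferInstance
  haveI : IsLocalRing S := inferInstance
  have hM : LocCoh.IsCohenMacaulayModule S S := hS.supportDim_eq_depth
  have hp : (⟨P, hP⟩ : PrimeSpectrum S) ∈ Module.support S S := by
    rw [Module.mem_support_iff_of_finite, Module.annihilator_eq_bot.mpr inferInstance]
    exact bot_le
  have h := (Groth.Agent.H29.isCohenMacaulayModule_localizedModule_and_dim S S hM ⟨P, hP⟩ hp).1
  haveI : IsNoetherianRing (Localization.AtPrime P) :=
    IsLocalization.isNoetherianRing P.primeCompl _ inferInstance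
  refine { supportDim_eq_depth := ?_ }
  have h' : Module.supportDim (Localization.AtPrime P) (LocalizedModule P.primeCompl S) =
      ((LocCoh.depth (Localization.AtPrime P) (LocalizedModule P.primeCompl S) : ℕ∞) :
        WithBot ℕ∞) := h
  rw [Groth.Agent.H29.supportDim_localizedModule_self,
    Groth.Agent.H29.depth_localizedModule_self] at h'
  rw [Module.supportDim_self_eq_ringKrullDim]
  exact h'

theorem cm_of_le {R : Type u} [CommRing R] (p q : Ideal R) [hp : p.IsPrime] [q.IsPrime]
    (hpq : p ≤ q) (A B : Type u) [CommRing A] [CommRing B] [Algebra R A] [Algebra R B]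
    [IsLocalization.AtPrime A p] [IsLocalization.AtPrime B q]
    [hB : LocCoh.IsCohenMacaulayLocalRing B] :
    LocCoh.IsCohenMacaulayLocalRing A := by
  let S := Localization.AtPrime q
  haveI : LocCoh.IsCohenMacaulayLocalRing S :=
    Groth.Agent.H29.FibTransport.cmLocal_of_ringEquiv
      (IsLocalization.algEquiv q.primeCompl B S).toRingEquiv hB
  have hdisj : Disjoint (q.primeCompl : Set R) (p : Set R) := by
    rw [Set.disjoint_left]
    intro a ha hap
    exact ha (hpq hap)
  let P : Ideal S := Ideal.map (algebraMap R S) p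
  haveI hP : P.IsPrime := IsLocalization.isPrime_of_isPrime_disjoint q.primeCompl S p hp hdisj
  have hcomap : Ideal.comap (algebraMap R S) P = p :=
    IsLocalization.under_map_of_isPrime_disjoint q.primeCompl S hp hdisj
  have hCM : LocCoh.IsCohenMacaulayLocalRing (Localization.AtPrime P) :=
    cm_localization_atPrime S P
  have hloc : IsLocalization.AtPrime (Localization.AtPrime P)
      (Ideal.comap (algebraMap R S) P) :=
    IsLocalization.isLocalization_isLocalization_atPrime_isLocalization q.primeCompl
      (Localization.AtPrime P) P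
  have hM : (Ideal.comap (algebraMap R S) P).primeCompl = p.primeCompl := by
    ext a
    rw [Ideal.mem_primeCompl_iff, Ideal.mem_primeCompl_iff, hcomap]
  haveI hloc' : IsLocalization p.primeCompl (Localization.AtPrime P) := hM ▸ hloc
  exact Groth.Agent.H29.FibTransport.cmLocal_of_ringEquiv
    (IsLocalization.algEquiv p.primeCompl (Localization.AtPrime P) A).toRingEquiv hCM

theorem stalk_cm_of_specializes (X : Scheme.{u}) {x y : X} (hxy : x ⤳ y)
    [LocCoh.IsCohenMacaulayLocalRing (X.presheaf.stalk y)] :
    LocCoh.IsCohenMacaulayLocalRing (X.presheaf.stalk x) := by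
  obtain ⟨U, hU, hyU, -⟩ :=
    (Opens.isBasis_iff_nbhd.mp X.isBasis_affineOpens) (Opens.mem_top y)
  have hU' : IsAffineOpen U := hU
  have hxU : x ∈ U := hxy.mem_open U.isOpen hyU
  letI algx : Algebra Γ(X, U) (X.presheaf.stalk x) :=
    TopCat.Presheaf.algebra_section_stalk X.presheaf (⟨x, hxU⟩ : U)
  letI algy : Algebra Γ(X, U) (X.presheaf.stalk y) :=
    TopCat.Presheaf.algebra_section_stalk X.presheaf (⟨y, hyU⟩ : U)
  haveI : IsLocalization.AtPrime (X.presheaf.stalk x) (hU'.primeIdealOf ⟨x, hxU⟩).asIdeal :=
    hU'.isLocalization_stalk ⟨x, hxU⟩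
  haveI : IsLocalization.AtPrime (X.presheaf.stalk y) (hU'.primeIdealOf ⟨y, hyU⟩).asIdeal :=
    hU'.isLocalization_stalk ⟨y, hyU⟩
  have hle : (hU'.primeIdealOf ⟨x, hxU⟩).asIdeal ≤ (hU'.primeIdealOf ⟨y, hyU⟩).asIdeal := by
    have h1 : (⟨x, hxU⟩ : U) ⤳ ⟨y, hyU⟩ := (subtype_specializes_iff _ _).mpr hxy
    have h2 := h1.map (hU'.isoSpec.hom.continuous)
    exact (PrimeSpectrum.le_iff_specializes _ _).mpr h2
  exact cm_of_le (hU'.primeIdealOf ⟨x, hxU⟩).asIdeal (hU'.primeIdealOf ⟨y, hyU⟩).asIdeal
    hle (X.presheaf.stalk x) (X.presheaf.stalk y)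

/-- A locally Noetherian scheme is Cohen-Macaulay (all local rings Cohen-Macaulay) as soon as its local
rings at closed points are Cohen-Macaulay, and conversely. -/
theorem result (X : Scheme.{u}) [IsLocallyNoetherian X] :
    (∀ x : X, LocCoh.IsCohenMacaulayLocalRing (X.presheaf.stalk x)) ↔
      ∀ x : X, IsClosed ({x} : Set X) → LocCoh.IsCohenMacaulayLocalRing (X.presheaf.stalk x) := by
  constructor
  · intro h x _
    exact h x
  · intro h x
    obtain ⟨y, hxy, hy⟩ := Groth.Agent.S9807.exists_closed_specialization_scheme X x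
    haveI hreg := h y hy
    exact stalk_cm_of_specializes X hxy

end Groth.Agent.S9808
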