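import Groth.Statements.S9812
import Mathlib

set_option autoImplicit false
set_option linter.style.haveILetI false
universe u
open CAlg2

namespace Groth.Agent.S9812

/-- At the level of the local ring: an integrally closed local domain is geometrically unibranch.
Consequently a normal scheme is geometrically unibranch. -/
theorem result (A : Type u) [CommRing A] [IsLocalRing A]
    [IsDomain A] [IsIntegrallyClosed A] : CAlg2.IsGeomUnibranch A := by
  have hnil : (⊥ : Ideal A) = nilradical A := (nilradical_eq_zero A).symm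
  let e : A ≃+* CAlg2.red A := (RingEquiv.quotientBot A).symm.trans (Ideal.quotEquivOfEq hnil)
  haveI hdom : IsDomain (CAlg2.red A) := MulEquiv.isDomain A e.symm.toMulEquiv
  haveI : IsIntegrallyClosed (CAlg2.red A) := IsIntegrallyClosed.of_equiv e
  have hbot : integralClosure (CAlg2.red A) (FractionRing (CAlg2.red A)) = ⊥ :=
    (IsIntegrallyClosed.integralClosure_eq_bot_iff (FractionRing (CAlg2.red A))).mpr inferInstance
  have hsurj : Function.Surjective (algebraMap (CAlg2.red A) (CAlg2.normRed A)) := by
    intro y
    have hy : (y : FractionRing (CAlg2.red A)) ∈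
        (⊥ : Subalgebra (CAlg2.red A) (FractionRing (CAlg2.red A))) := by
      rw [← hbot]
      exact y.2
    obtain ⟨r, hr⟩ := Algebra.mem_bot.mp hy
    exact ⟨r, Subtype.ext hr⟩
  have hsurj2 : Function.Surjective
      ((algebraMap (CAlg2.red A) (CAlg2.normRed A)).comp (Ideal.Quotient.mk (nilradical A))) :=
    hsurj.comp Ideal.Quotient.mk_surjective
  have hloc : IsLocalRing (CAlg2.normRed A) := IsLocalRing.of_surjective' _ hsurj2
  refine ⟨⟨hdom, hloc⟩, ?_⟩
  intro m' _ x
  refine ⟨0, ?_⟩
  rw [pow_zero, pow_one]
  obtain ⟨y, rfl⟩ := Ideal.Quotient.mk_surjective x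
  obtain ⟨a, rfl⟩ := hsurj2 y
  exact ⟨a, rfl⟩

end Groth.Agent.S9812
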