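import Groth.Statements.S9814
import Mathlib
import Groth.Agent.S2336
import Groth.Agent.S9578
import Groth.Agent.H28.ParaFAux
import Groth.Agent.Lib.Helper4.GenLocus

set_option autoImplicit false
universe u
open CategoryTheory CategoryTheory.Limits AlgebraicGeometry TopologicalSpace
open Props

namespace Groth.Agent.S9814


open CategoryTheory CategoryTheory.Limits AlgebraicGeometry TopologicalSpace Opposite MonoidalCategory

section Aux

/-- transpose of a local iso along the restriction/pushforward adjunction is a local iso -/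
theorem isIso_restrict_transpose {X : Scheme.{u}} (U : X.Opens) (A : X.Modules)
    (N : (U : Scheme.{u}).Modules) (e : A.restrict U.ι ≅ N) :
    IsIso ((Scheme.Modules.restrictFunctor U.ι).map
      (((Scheme.Modules.restrictAdjunction U.ι).homEquiv A N) e.hom)) := by
  have h := ((Scheme.Modules.restrictAdjunction U.ι).homEquiv A N).symm_apply_apply e.hom
  rw [Adjunction.homEquiv_counit] at h
  have h2 : (Scheme.Modules.restrictFunctor U.ι).map
      (((Scheme.Modules.restrictAdjunction U.ι).homEquiv A N) e.hom) =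
      e.hom ≫ inv ((Scheme.Modules.restrictAdjunction U.ι).counit.app N) :=
    (IsIso.eq_comp_inv _).mpr h
  rw [h2]
  infer_instance

theorem app_bij {X : Scheme.{u}} (U : X.Opens) {A A' : X.Modules} (α : A ⟶ A')
    (hα : IsIso ((Scheme.Modules.restrictFunctor U.ι).map α)) (V : (U : Scheme.{u}).Opens) :
    Function.Bijective (α.val.app (op (U.ι ''ᵁ V))) := by
  let i := @asIso _ _ _ _ _ hα
  let i2 := (SheafOfModules.forget _).mapIso i
  let i3 := (PresheafOfModules.evaluation _ (op V)).mapIso i2
  exact ConcreteCategory.bijective_of_isIso i3.hom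

/-- if `α : A ⟶ A'` restricts to an iso on `U`, then `A ⊗ B` and `A' ⊗ B` agree on `U` -/
theorem locL {X : Scheme.{u}} (U : X.Opens) {A A' : X.Modules} (α : A ⟶ A') (B : X.Modules)
    (hα : IsIso ((Scheme.Modules.restrictFunctor U.ι).map α)) :
    Nonempty ((CohB1.tensorMod A B).restrict U.ι ≅ (CohB1.tensorMod A' B).restrict U.ι) := by
  let adj := PresheafOfModules.sheafificationAdjunction.{u, u, u, u} (R := X.ringCatSheaf)
    (𝟙 X.ringCatSheaf.obj)
  let α0 : CohB1.toPMod A ⟶ CohB1.toPMod A' := (SheafOfModules.forget X.ringCatSheaf).map α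
  let w : CohB1.tensorPre A B ⟶ CohB1.tensorPre A' B := α0 ▷ CohB1.toPMod B
  let P : X.PresheafOfModules := CohB1.tensorPre A B
  let P' : X.PresheafOfModules := CohB1.tensorPre A' B
  let w' : P ⟶ P' := w
  let η : P' ⟶ (CohB1.tensorMod A' B).val := adj.unit.app P'
  let μ : P ⟶ (CohB1.tensorMod A' B).val := w' ≫ η
  let w₀ := (PresheafOfModules.toPresheaf _).map w'
  let η' := (PresheafOfModules.toPresheaf _).map η
  have hfac' : (PresheafOfModules.toPresheaf _).map μ = w₀ ≫ η' :=
    (PresheafOfModules.toPresheaf _).map_comp w' η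
  have hfac : Functor.whiskerLeft U.ι.opensFunctor.op ((PresheafOfModules.toPresheaf _).map μ) =
      Functor.whiskerLeft U.ι.opensFunctor.op w₀ ≫ Functor.whiskerLeft U.ι.opensFunctor.op η' :=
    (congrArg (fun m => Functor.whiskerLeft U.ι.opensFunctor.op m) hfac').trans
      (Functor.whiskerLeft_comp _ _ _)
  haveI hηs : Presheaf.IsLocallySurjective (Opens.grothendieckTopology X) η' :=
    (inferInstance : Presheaf.IsLocallySurjective (Opens.grothendieckTopology X)
      (CategoryTheory.toSheafify (Opens.grothendieckTopology X) P'.presheaf))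
  haveI hηi : Presheaf.IsLocallyInjective (Opens.grothendieckTopology X) η' :=
    (inferInstance : Presheaf.IsLocallyInjective (Opens.grothendieckTopology X)
      (CategoryTheory.toSheafify (Opens.grothendieckTopology X) P'.presheaf))
  haveI h3s := Presheaf.isLocallySurjective_whisker (Opens.grothendieckTopology U)
    (Opens.grothendieckTopology X) U.ι.opensFunctor η'
  haveI h3i := Presheaf.isLocallyInjective_whisker (Opens.grothendieckTopology U)
    (Opens.grothendieckTopology X) U.ι.opensFunctor η'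
  have hwapp : ∀ V, IsIso ((Functor.whiskerLeft U.ι.opensFunctor.op w₀).app V) := by
    intro V
    have hb := app_bij U α hα V.unop
    haveI hi : IsIso (α0.app (op (U.ι ''ᵁ V.unop))) :=
      (ConcreteCategory.isIso_iff_bijective _).mpr hb
    have hi2 : IsIso (w.app (op (U.ι ''ᵁ V.unop))) := by
      show IsIso (MonoidalCategory.whiskerRight (α0.app (op (U.ι ''ᵁ V.unop)))
        ((CohB1.toPMod B).obj (op (U.ι ''ᵁ V.unop))))
      infer_instance
    have hb2 : Function.Bijective (w.app (op (U.ι ''ᵁ V.unop))) :=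
      ConcreteCategory.bijective_of_isIso _
    exact (ConcreteCategory.isIso_iff_bijective _).mpr hb2
  haveI hw : IsIso (Functor.whiskerLeft U.ι.opensFunctor.op w₀) :=
    NatIso.isIso_of_isIso_app _
  refine Groth.Agent.S9578.RL P (CohB1.tensorMod A' B) μ U ?_ ?_
  · rw [hfac]; infer_instance
  · rw [hfac]; infer_instance

/-- invertibility is local for open immersions (after helper28's `ParaFCover.isInvertible_of_local`) -/
theorem isInvertible_of_local' {V : Scheme.{u}} (M : V.Modules)
    (h : ∀ y : V, ∃ (V' : Scheme.{u}) (k : V' ⟶ V) (_ : IsOpenImmersion k),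
      y ∈ Set.range k ∧ PicF.IsInvertible (M.restrict k)) : PicF.IsInvertible M := by
  intro y
  obtain ⟨V', k, hk, ⟨y', rfl⟩, hM⟩ := h y
  obtain ⟨W'', hy', ⟨e⟩⟩ := hM y'
  refine ⟨k ''ᵁ W'', ⟨y', hy', rfl⟩, ?_⟩
  let φ := k.isoImage W''
  have hφ : φ.hom ≫ (k ''ᵁ W'').ι = W''.ι ≫ k := k.isoImage_hom_ι W''
  have e2 : (Scheme.Modules.restrictFunctor φ.hom).obj (M.restrict (k ''ᵁ W'').ι) ≅
      (Scheme.Modules.restrictFunctor φ.hom).obj (Coh.structureModule _) :=
    Groth.Agent.H28.ParaFAux.restrictCompIso φ.hom (k ''ᵁ W'').ι M ≪≫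
      Groth.Agent.H28.ParaFAux.restrictCongrIso hφ M ≪≫
      (Groth.Agent.H28.ParaFAux.restrictCompIso W''.ι k M).symm ≪≫ e ≪≫
      (Scheme.Modules.restrictUnitIso φ.hom).symm
  have : (Scheme.Modules.restrictFunctor φ.hom).IsEquivalence :=
    (Groth.Agent.H28.ParaFAux.restrictEquivOfIso φ.hom).isEquivalence_functor
  exact ⟨(Scheme.Modules.restrictFunctor φ.hom).preimageIso e2⟩

theorem invT {X : Scheme.{u}} (A B : X.Modules) (hA : PicF.IsInvertible A)
    (hB : PicF.IsInvertible B) : PicF.IsInvertible (CohB1.tensorMod A B) := by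
  apply isInvertible_of_local'
  intro y
  obtain ⟨U, hyU, ⟨e⟩⟩ := hA y
  refine ⟨(U : Scheme.{u}), U.ι, inferInstance, ?_, ?_⟩
  · rw [Scheme.Opens.range_ι]; exact hyU
  · obtain ⟨i1⟩ := locL U
      (((Scheme.Modules.restrictAdjunction U.ι).homEquiv A
        (Coh.structureModule (U : Scheme.{u}))) e.hom) B
      (isIso_restrict_transpose U A _ e)
    obtain ⟨i2⟩ := locL U
      (((Scheme.Modules.restrictAdjunction U.ι).homEquiv (Coh.structureModule X)
        (Coh.structureModule (U : Scheme.{u}))) (Scheme.Modules.restrictUnitIso U.ι).hom) B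
      (isIso_restrict_transpose U _ _ (Scheme.Modules.restrictUnitIso U.ι))
    have i3 : (CohB1.tensorMod (Coh.structureModule X) B).restrict U.ι ≅ B.restrict U.ι :=
      (Scheme.Modules.restrictFunctor U.ι).mapIso (Groth.Agent.S3584.e1 B)
    exact Groth.Agent.H28.ParaFAux.isInvertible_of_iso (i1 ≪≫ i2.symm ≪≫ i3).symm
      (Groth.Agent.H28.ParaFAux.isInvertible_restrict U.ι B hB)

theorem invPow {X : Scheme.{u}} (L : X.Modules) (hL : PicF.IsInvertible L) :
    ∀ n : ℕ, PicF.IsInvertible (CohB1.tensorPow L n)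
  | 0 => Groth.Agent.S2336.invO X
  | n + 1 => invT _ _ (invPow L hL n) hL

end Aux


/-- Let L be an invertible module on a scheme X. If the opens X_s (s a global section of a positive
tensor power of L) form a basis for the topology, then so do the affine ones among them. -/
theorem result (X : Scheme.{u}) (L : X.Modules) (hL : PicF.IsInvertible L)
    (hB : Opens.IsBasis {U : X.Opens | ∃ (n : ℕ) (s : Coh.structureModule X ⟶ CohB1.tensorPow L (n + 1)),
      U = CohB1.genLocus _ s}) :
    Opens.IsBasis {U : X.Opens | IsAffineOpen U ∧ ∃ (n : ℕ) (s : Coh.structureModule X ⟶ CohB1.tensorPow L (n + 1)),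
      U = CohB1.genLocus _ s} := by
  rw [Opens.isBasis_iff_nbhd] at hB ⊢
  intro O x hxO
  obtain ⟨_, ⟨W, hW, rfl⟩, hxW, hWO⟩ :=
    X.isBasis_affineOpens.exists_subset_of_mem_open hxO O.isOpen
  have hW' : IsAffineOpen W := hW
  obtain ⟨G, ⟨n, s, rfl⟩, hxG, hGW⟩ := hB (U := W) hxW
  refine ⟨_, ⟨?_, n, s, rfl⟩, hxG, hGW.trans hWO⟩
  haveI haff := Groth.Agent.Helper4.GenLocus.main X _ (invPow L hL (n + 1)) s
  have h1 : IsAffineOpen ((CohB1.genLocus _ s).ι ⁻¹ᵁ W) := hW'.preimage (CohB1.genLocus _ s).ι
  rw [← (CohB1.genLocus _ s).ι.isAffineOpen_iff_of_isOpenImmersion,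
    Scheme.Hom.image_preimage_eq_opensRange_inf, Scheme.Opens.opensRange_ι,
    inf_eq_left.mpr hGW] at h1
  exact h1

end Groth.Agent.S9814
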