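import Groth.Statements.S9818
import Groth.Agent.Lead.QCoh10
-- import your own Groth.Agent.* helpers here

set_option autoImplicit false
universe u
open CategoryTheory CategoryTheory.Limits AlgebraicGeometry TopologicalSpace Opposite
open Props

namespace Groth.Agent.S9818


section
open CategoryTheory CategoryTheory.Limits AlgebraicGeometry Opposite TopologicalSpace
open Groth.Agent.Lead.QCoh

set_option backward.isDefEq.respectTransparency false in
theorem main {X : Scheme.{u}} (U : X.Opens) [QuasiCompact U.ι] (F : X.Modules) [F.IsQuasicoherent]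
    (G : (U : Scheme.{u}).Modules) [G.IsQuasicoherent] (φ : G ⟶ F.restrict U.ι) :
    ∃ (H : X.Modules) (ψ : H ⟶ F) (e : H.restrict U.ι ≅ G), H.IsQuasicoherent ∧
      e.hom ≫ φ = (Scheme.Modules.restrictFunctor U.ι).map ψ := by
  let adj := Scheme.Modules.restrictAdjunction U.ι
  let R := Scheme.Modules.restrictFunctor U.ι
  let P := Scheme.Modules.pushforward U.ι
  let a : P.obj G ⟶ P.obj (R.obj F) := P.map φ
  let b : F ⟶ P.obj (R.obj F) := adj.unit.app F
  haveI h1 : (P.obj G).IsQuasicoherent := isQuasicoherent_pushforward U.ι G
  haveI h2 : (R.obj F).IsQuasicoherent :=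
    inferInstanceAs ((Scheme.Modules.restrictFunctor U.ι).obj F).IsQuasicoherent
  haveI h3 : (P.obj (R.obj F)).IsQuasicoherent := isQuasicoherent_pushforward U.ι _
  have hH : (pullback a b).IsQuasicoherent := isQuasicoherent_pullback a b
  haveI := preservesFiniteLimits_restrictFunctor U.ι
  have hpb : IsPullback (R.map (pullback.fst a b)) (R.map (pullback.snd a b)) (R.map a)
      (R.map b) := (IsPullback.of_hasPullback a b).map R
  have htri : R.map b ≫ adj.counit.app (R.obj F) = 𝟙 _ := adj.left_triangle_components F
  haveI hb : IsIso (R.map b) := by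
    have : IsIso (R.map b ≫ adj.counit.app (R.obj F)) := by rw [htri]; infer_instance
    exact IsIso.of_isIso_comp_right (R.map b) (adj.counit.app (R.obj F))
  haveI hfst : IsIso (R.map (pullback.fst a b)) := hpb.isIso_fst_of_isIso
  haveI hc : IsIso (adj.counit.app G) := inferInstance
  let e : R.obj (pullback a b) ≅ G := asIso (R.map (pullback.fst a b)) ≪≫ asIso (adj.counit.app G)
  refine ⟨pullback a b, pullback.snd a b, e, hH, ?_⟩
  have hnat : adj.counit.app G ≫ φ = R.map (P.map φ) ≫ adj.counit.app (R.obj F) :=
    (adj.counit.naturality φ).symm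
  calc e.hom ≫ φ = R.map (pullback.fst a b) ≫ adj.counit.app G ≫ φ := by
        simp only [e, Iso.trans_hom, asIso_hom, Category.assoc]
    _ = R.map (pullback.fst a b) ≫ R.map a ≫ adj.counit.app (R.obj F) := by rw [hnat]
    _ = (R.map (pullback.snd a b) ≫ R.map b) ≫ adj.counit.app (R.obj F) := by
        rw [← Category.assoc, hpb.w]
    _ = R.map (pullback.snd a b) := by rw [Category.assoc, htri, Category.comp_id]
end

/-- For an open subscheme U of a scheme X with quasi-compact inclusion, a quasi-coherent module G on U
with a map to the restriction of a quasi-coherent module F on X extends to a quasi-coherent module H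
on X with a map to F restricting to the given one. Taking F = 0, every quasi-coherent module on U
extends to a quasi-coherent module on X. -/
theorem result {X : Scheme.{u}} (U : X.Opens) [QuasiCompact U.ι]
    (F : X.Modules) [Coh.IsQCoh F] (G : (U : Scheme.{u}).Modules) [Coh.IsQCoh G] (φ : G ⟶ F.restrict U.ι) :
    ∃ (H : X.Modules) (ψ : H ⟶ F) (e : H.restrict U.ι ≅ G), Coh.IsQCoh H ∧
      e.hom ≫ φ = (Scheme.Modules.restrictFunctor U.ι).map ψ := by
  exact main U F G φ

end Groth.Agent.S9818
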