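import Groth.Statements.S9819
import Groth.Agent.Lead.Extend
-- import your own Groth.Agent.* helpers here

set_option autoImplicit false
universe u
open CategoryTheory CategoryTheory.Limits AlgebraicGeometry TopologicalSpace Opposite
open Props

namespace Groth.Agent.S9819


section
open Groth.Agent.Lead.QCoh Groth.Agent.Lead.FinType Groth.Agent.Lead.FinPres Groth.Agent.Lead.Extend

set_option backward.isDefEq.respectTransparency false in
theorem main9819 {X : Scheme.{u}} [CompactSpace X] [QuasiSeparatedSpace X] (F : X.Modules)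
    [F.IsQuasicoherent] (U : X.affineOpens) (s : Γ(F, U.1)) :
    ∃ (G : X.Modules) (i : G ⟶ F), Mono i ∧ G.IsQuasicoherent ∧
      SheafOfModules.IsFiniteType.{u, u, u} (R := X.ringCatSheaf) G ∧
      ∃ g : Γ(G, U.1), i.app U.1 g = s := by
  classical
  haveI : IsAffine (U.1 : Scheme.{u}) := U.2
  let V : X.Opens := U.1
  have h : V.ι ''ᵁ ⊤ = V := V.ι_image_top
  let K : (V : Scheme.{u}).Modules := (Scheme.Modules.restrictFunctor V.ι).obj F
  haveI hK : K.IsQuasicoherent :=
    inferInstanceAs ((Scheme.Modules.restrictFunctor V.ι).obj F).IsQuasicoherent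
  let s' : Γ(K, (⊤ : (V : Scheme.{u}).Opens)) :=
    (show Γ(F, V.ι ''ᵁ ⊤) from F.presheaf.map (homOfLE h.le).op s)
  let I : Type u := PUnit.{u + 1}
  let σ : freeM (V : Scheme.{u}) I ⟶ K := K.freeHomEquiv.symm (fun _ => ofTop K s')
  have hσ : ∀ j, SheafOfModules.freeHomEquiv K σ j = ofTop K s' :=
    fun j => congrFun (K.freeHomEquiv.apply_symm_apply (fun _ => ofTop K s')) j
  haveI : (freeM (V : Scheme.{u}) I).IsQuasicoherent := inferInstance
  haveI hCq : (cokernel σ : (V : Scheme.{u}).Modules).IsQuasicoherent :=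
    (isQuasicoherent_kernel_cokernel σ).2
  haveI hTq : (kernel (cokernel.π σ) : (V : Scheme.{u}).Modules).IsQuasicoherent :=
    (isQuasicoherent_kernel_cokernel (cokernel.π σ)).1
  haveI : SheafOfModules.IsFiniteType.{u, u, u} (R := (V : Scheme.{u}).ringCatSheaf)
      (freeM (V : Scheme.{u}) I) :=
    Groth.Agent.Lead.UnitCoh.isFiniteType_free (V : Scheme.{u}) I
  have hTft : SheafOfModules.IsFiniteType.{u, u, u} (R := (V : Scheme.{u}).ringCatSheaf)
      (kernel (cokernel.π σ)) :=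
    Groth.Agent.S9514.isFiniteType_of_epi (Abelian.factorThruImage σ)
  obtain ⟨F0, i, e, hm, hq, hft, hcomp⟩ := Groth.Agent.Lead.Extend.main V U.2.isCompact F
    (kernel (cokernel.π σ)) hTft (kernel.ι (cokernel.π σ))
  refine ⟨F0, i, hm, hq, hft, ?_⟩
  -- the generator
  let e1 : Γ(freeM (V : Scheme.{u}) I, (⊤ : (V : Scheme.{u}).Opens)) :=
    (ιF PUnit.unit).app ⊤ (toUnit ⊤ 1)
  have hs1 : σ.app ⊤ e1 = s' := by
    show σ.app ⊤ ((ιF PUnit.unit).app ⊤ (toUnit ⊤ 1)) = s'
    rw [app_ι_one K σ PUnit.unit ⊤, hσ, secVal_ofTop]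
    have : (homOfLE (le_top : (⊤ : (V : Scheme.{u}).Opens) ≤ ⊤)) = 𝟙 _ := rfl
    rw [this]
    show (K.presheaf.map (𝟙 (op (⊤ : (V : Scheme.{u}).Opens)))) s' = s'
    rw [K.presheaf.map_id]; rfl
  let τ : Γ((kernel (cokernel.π σ) : (V : Scheme.{u}).Modules), (⊤ : (V : Scheme.{u}).Opens)) :=
    (Abelian.factorThruImage σ).app ⊤ e1
  have hτ : (kernel.ι (cokernel.π σ)).app ⊤ τ = s' := by
    have hfac : Abelian.factorThruImage σ ≫ kernel.ι (cokernel.π σ) = σ := Abelian.image.fac σ
    have : (Abelian.factorThruImage σ ≫ kernel.ι (cokernel.π σ)).app ⊤ e1 = s' := by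
      rw [hfac]; exact hs1
    exact this
  let g' : Γ(F0, V.ι ''ᵁ ⊤) := (show Γ(F0, V.ι ''ᵁ ⊤) from e.inv.app ⊤ τ)
  have hg' : i.app (V.ι ''ᵁ ⊤) g' = F.presheaf.map (homOfLE h.le).op s := by
    have h1 : ((Scheme.Modules.restrictFunctor V.ι).map i).app ⊤ (e.inv.app ⊤ τ) = s' := by
      rw [← hcomp]
      have : (e.inv ≫ e.hom ≫ kernel.ι (cokernel.π σ)).app ⊤ τ = s' := by
        rw [Iso.inv_hom_id_assoc]; exact hτ
      exact this
    exact h1
  refine ⟨F0.presheaf.map (homOfLE h.ge).op g', ?_⟩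
  rw [app_naturality, hg', map_map_apply F (homOfLE h.ge) (homOfLE h.le) (𝟙 _) s]
  show (F.presheaf.map (𝟙 (op V))) s = s
  rw [F.presheaf.map_id]; rfl
end

/-- On a quasi-compact quasi-separated scheme, every local section of a quasi-coherent module over an
affine open lies in some quasi-coherent submodule of finite type; hence the module is the directed
union of its quasi-coherent submodules of finite type. -/
theorem result {X : Scheme.{u}} [CompactSpace X]
    [QuasiSeparatedSpace X] (F : X.Modules) [Coh.IsQCoh F] (U : X.affineOpens)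
    (s : F.val.obj (op (U : X.Opens))) :
    ∃ (G : X.Modules) (i : G ⟶ F), Mono i ∧ Coh.IsQCoh G ∧ CohB1.IsFT G ∧
      ∃ g : G.val.obj (op (U : X.Opens)), (i.val.app (op (U : X.Opens))).hom g = s := by
  haveI hFq : F.IsQuasicoherent := ‹Coh.IsQCoh F›
  obtain ⟨G, i, h1, h2, h3, g, hg⟩ := main9819 F U s
  exact ⟨G, i, h1, h2, h3, g, hg⟩

end Groth.Agent.S9819
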