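import Groth.Statements.S9822
import Mathlib.AlgebraicGeometry.Limits

set_option autoImplicit false
universe u
open CategoryTheory CategoryTheory.Limits AlgebraicGeometry TopologicalSpace Opposite
open Props

namespace Groth.Agent.S9822

/-- A scheme is irreducible if and only if it is nonempty and every nonempty affine open subset is
irreducible. -/
theorem result (X : Scheme.{u}) :
    IrreducibleSpace X ↔ Nonempty X ∧ ∀ U : X.Opens, IsAffineOpen U → (U : Set X).Nonempty → IsIrreducible (U : Set X) := by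
  constructor
  · intro h
    refine ⟨inferInstance, fun U _ hne => ⟨hne, ?_⟩⟩
    exact (PreirreducibleSpace.isPreirreducible_univ (X := X)).open_subset U.2 (Set.subset_univ _)
  · rintro ⟨hne, h⟩
    have hpre : PreirreducibleSpace X := by
      refine ⟨?_⟩
      rintro U V hU hV ⟨x, -, hx⟩ ⟨y, -, hy⟩
      obtain ⟨_, ⟨W₁, hW₁, rfl⟩, hxW₁, hW₁U⟩ :=
        X.isBasis_affineOpens.exists_subset_of_mem_open hx hU
      obtain ⟨_, ⟨W₂, hW₂, rfl⟩, hyW₂, hW₂V⟩ :=
        X.isBasis_affineOpens.exists_subset_of_mem_open hy hV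
      by_cases hd : Disjoint W₁ W₂
      · have haff : IsAffineOpen (W₁ ⊔ W₂) := IsAffineOpen.sup_of_disjoint hW₁ hW₂ hd
        have hirr := h (W₁ ⊔ W₂) haff ⟨x, Or.inl hxW₁⟩
        obtain ⟨z, -, hz₁, hz₂⟩ := hirr.2 W₁ W₂ W₁.2 W₂.2 ⟨x, Or.inl hxW₁, hxW₁⟩
          ⟨y, Or.inr hyW₂, hyW₂⟩
        exact ⟨z, Set.mem_univ _, hW₁U hz₁, hW₂V hz₂⟩
      · rw [← TopologicalSpace.Opens.coe_disjoint, Set.not_disjoint_iff] at hd
        obtain ⟨z, hz₁, hz₂⟩ := hd
        exact ⟨z, Set.mem_univ _, hW₁U hz₁, hW₂V hz₂⟩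
    exact { toPreirreducibleSpace := hpre, toNonempty := hne }

end Groth.Agent.S9822
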