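import Groth.Statements.S9825
import Mathlib
import Groth.Agent.Lib.Helper4.FiberRank
import Groth.Agent.S9806

set_option autoImplicit false
universe u
open CategoryTheory CategoryTheory.Limits AlgebraicGeometry TopologicalSpace Opposite
open Props

namespace Groth.Agent.S9825

/-- A quasi-coherent module on a scheme is finite locally free if and only if it is of finite type with
free stalks and locally constant fibre rank. -/
theorem result (X : Scheme.{u}) (M : X.Modules) [Coh.IsQCoh M] :
    FlatMod.IsFinLocFree M ↔ CohB1.IsFT M ∧ (∀ x : X, Module.Free (X.presheaf.stalk x) (M.presheaf.stalk x)) ∧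
      IsLocallyConstant (fun x : X => Module.finrank (IsLocalRing.ResidueField (X.presheaf.stalk x))
          (TensorProduct (X.presheaf.stalk x) (IsLocalRing.ResidueField (X.presheaf.stalk x)) (M.presheaf.stalk x))) := by
  haveI : M.IsQuasicoherent := ‹Coh.IsQCoh M›
  constructor
  · intro h
    obtain ⟨hfp, hfree⟩ := (Groth.Agent.S9806.result X M ‹Coh.IsQCoh M›).mpr h
    haveI : SheafOfModules.IsFinitePresentation.{u, u, u} (R := X.ringCatSheaf) M := hfp
    have hft : SheafOfModules.IsFiniteType.{u, u, u} (R := X.ringCatSheaf) M := inferInstance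
    refine ⟨hft, hfree, ?_⟩
    rw [IsLocallyConstant.iff_exists_open]
    intro x
    obtain ⟨U, n, hxU, ⟨e⟩⟩ := h x
    refine ⟨U, U.isOpen, hxU, ?_⟩
    intro y hy
    obtain ⟨hfy, hry⟩ := Groth.Agent.Helper4.FiberRank.finrank_stalk_of_iso M U n e y hy
    obtain ⟨hfx, hrx⟩ := Groth.Agent.Helper4.FiberRank.finrank_stalk_of_iso M U n e x hxU
    show Module.finrank (IsLocalRing.ResidueField (X.presheaf.stalk y))
        (TensorProduct (X.presheaf.stalk y) (IsLocalRing.ResidueField (X.presheaf.stalk y))
          (M.presheaf.stalk y)) =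
      Module.finrank (IsLocalRing.ResidueField (X.presheaf.stalk x))
        (TensorProduct (X.presheaf.stalk x) (IsLocalRing.ResidueField (X.presheaf.stalk x))
          (M.presheaf.stalk x))
    rw [Groth.Agent.Helper4.FiberRank.fiberRank_eq M y, Groth.Agent.Helper4.FiberRank.fiberRank_eq M x,
      hry, hrx]
  · rintro ⟨hft, hfree, hlc⟩
    haveI : SheafOfModules.IsFiniteType (R := X.ringCatSheaf) M := hft
    have hfun : (fun x : X => Module.finrank (IsLocalRing.ResidueField (X.presheaf.stalk x))
          (TensorProduct (X.presheaf.stalk x) (IsLocalRing.ResidueField (X.presheaf.stalk x))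
            (M.presheaf.stalk x))) =
        fun x : X => Module.finrank (X.presheaf.stalk x) (M.presheaf.stalk x) := by
      funext x
      haveI := hfree x
      exact Groth.Agent.Helper4.FiberRank.fiberRank_eq M x
    rw [hfun] at hlc
    exact Groth.Agent.Helper4.FiberRank.isFinLocFree_of_free_stalks M hfree hlc

end Groth.Agent.S9825
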