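import Groth.Statements.S9832
import Mathlib
import Groth.Agent.H3.JacLemma

set_option autoImplicit false
universe u
open Props

namespace Groth.Agent.S9832

/-- For a Noetherian ring R and an ideal I inside the Jacobson radical of R, the complement of V(I) in
Spec R is a Jacobson topological space. -/
theorem result (R : Type u) [CommRing R] [IsNoetherianRing R]
    (I : Ideal R) (hI : I ≤ (⊥ : Ideal R).jacobson) :
    JacobsonSpace ↥((PrimeSpectrum.zeroLocus (I : Set R))ᶜ) := by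
  classical
  rw [jacobsonSpace_iff_locallyClosed]
  rintro Z ⟨z, hz⟩ ⟨W, C, hW, hC, rfl⟩
  obtain ⟨W', hW'open, rfl⟩ := isOpen_induced_iff.mp hW
  obtain ⟨C', hC'closed, rfl⟩ := isClosed_induced_iff.mp hC
  have hzU : z.1 ∈ (PrimeSpectrum.zeroLocus (I : Set R))ᶜ := z.2
  have hzW : z.1 ∈ W' := hz.1
  have hzC : z.1 ∈ C' := hz.2
  -- f ∈ I ∖ p
  obtain ⟨f, hfI, hfp⟩ : ∃ f, f ∈ I ∧ f ∉ z.1.asIdeal := by
    by_contra hcon
    push Not at hcon
    apply hzU
    rw [PrimeSpectrum.mem_zeroLocus]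
    exact fun x hx => hcon x hx
  -- basic open
  obtain ⟨v, ⟨g, rfl⟩, hzv, hvW⟩ :=
    PrimeSpectrum.isTopologicalBasis_basic_opens.exists_subset_of_mem_open hzW hW'open
  have hgp : g ∉ z.1.asIdeal := by
    simpa [PrimeSpectrum.mem_basicOpen] using hzv
  have hfg : f * g ∉ z.1.asIdeal := fun h => (z.1.isPrime.mem_or_mem h).elim hfp hgp
  obtain ⟨q, hq, hpq, hfgq, hqmax⟩ :=
    Groth.Agent.H3.JacLemma.exists_prime_above R z.1.asIdeal z.1.isPrime (f * g) hfg
  have hfq : f ∉ q := fun h => hfgq (q.mul_mem_right _ h)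
  have hgq : g ∉ q := fun h => hfgq (q.mul_mem_left _ h)
  have hqU : (⟨q, hq⟩ : PrimeSpectrum R) ∈ (PrimeSpectrum.zeroLocus (I : Set R))ᶜ := by
    intro hmem
    rw [PrimeSpectrum.mem_zeroLocus] at hmem
    exact hfq (hmem hfI)
  have hqW : (⟨q, hq⟩ : PrimeSpectrum R) ∈ W' := by
    apply hvW
    show (⟨q, hq⟩ : PrimeSpectrum R) ∈ (PrimeSpectrum.basicOpen g : Set (PrimeSpectrum R))
    simpa [PrimeSpectrum.mem_basicOpen] using hgq
  have hqC : (⟨q, hq⟩ : PrimeSpectrum R) ∈ C' := by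
    have hsub : closure ({z.1} : Set (PrimeSpectrum R)) ⊆ C' :=
      closure_minimal (Set.singleton_subset_iff.mpr hzC) hC'closed
    apply hsub
    rw [PrimeSpectrum.closure_singleton, PrimeSpectrum.mem_zeroLocus]
    exact hpq
  refine ⟨⟨⟨q, hq⟩, hqU⟩, ⟨hqW, hqC⟩, ?_⟩
  rw [mem_closedPoints_iff, isClosed_induced_iff]
  refine ⟨PrimeSpectrum.zeroLocus (q : Set R), PrimeSpectrum.isClosed_zeroLocus _, ?_⟩
  ext x
  simp only [Set.mem_preimage, PrimeSpectrum.mem_zeroLocus, Set.mem_singleton_iff]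
  constructor
  · intro hx
    by_contra hne
    have hlt : q < x.1.asIdeal := by
      refine lt_of_le_of_ne hx ?_
      intro heq
      apply hne
      apply Subtype.ext
      apply PrimeSpectrum.ext
      exact heq.symm
    have hmax := hqmax _ x.1.isPrime hlt
    apply x.2
    rw [PrimeSpectrum.mem_zeroLocus]
    intro y hy
    have hyj : y ∈ (⊥ : Ideal R).jacobson := hI hy
    rw [Ideal.jacobson, Ideal.mem_sInf] at hyj
    exact hyj ⟨bot_le, hmax⟩
  · rintro rfl
    exact le_rfl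

end Groth.Agent.S9832
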