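import Groth.Statements.S9839
import Groth.Agent.H28.FpqcFam

set_option autoImplicit false
open CategoryTheory CategoryTheory.Limits AlgebraicGeometry Opposite
universe u
open Desc

namespace Groth.Agent.S9839

/-- Let f i : T i ⟶ T be an fpqc covering family of a scheme T (a family in the fpqc precoverage) and W
i ⊆ T i open subsets such that for all i, j the inverse images of W i and W j under the two
projections of T i ×_T T j coincide. Then there is a unique open subset W ⊆ T with (f i)⁻¹(W) = W i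
for every i. -/
theorem result {ι : Type u} {T : Scheme.{u}} {Ti : ι → Scheme.{u}}
    (f : ∀ i, Ti i ⟶ T) (hf : Presieve.ofArrows Ti f ∈ Scheme.fpqcPrecoverage T)
    (W : ∀ i, (Ti i).Opens)
    (hW : ∀ i j, (pullback.fst (f i) (f j)) ⁻¹ᵁ (W i) = (pullback.snd (f i) (f j)) ⁻¹ᵁ (W j)) :
    ∃! V : T.Opens, ∀ i, (f i) ⁻¹ᵁ V = W i := by
  classical
  let Vset : Set T := ⋃ i, (f i) '' (W i : Set (Ti i))
  have claim1 : ∀ i, (f i) ⁻¹' Vset = (W i : Set (Ti i)) := by
    intro i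
    ext x
    constructor
    · intro hx
      obtain ⟨j, y, hy, hxy⟩ := Set.mem_iUnion.mp hx
      obtain ⟨z, hz1, hz2⟩ := Scheme.Pullback.exists_preimage_pullback x y hxy.symm
      have h1 : z ∈ ((pullback.snd (f i) (f j)) ⁻¹ᵁ (W j)) := by
        show pullback.snd (f i) (f j) z ∈ W j
        rw [hz2]
        exact hy
      rw [← hW i j] at h1
      have h2 : pullback.fst (f i) (f j) z ∈ W i := h1
      rwa [hz1] at h2
    · intro hx
      exact Set.mem_iUnion.mpr ⟨i, x, hx, rfl⟩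
  have key : ∀ (U : T.Opens), IsAffineOpen U →
      IsOpen (U.ι ⁻¹' Vset) ∧ ∀ y : U.toScheme, ∃ i x, f i x = U.ι y := by
    intro U hU
    obtain ⟨T₀, t, hfl, hsj, hqc, 𝒱, h𝒱⟩ := Groth.Agent.H28.FpqcFam.exists_single_cover hf U hU
    have hpre : ∀ j, IsOpen ((𝒱.f j) ⁻¹' (t ⁻¹' (U.ι ⁻¹' Vset))) := by
      intro j
      obtain ⟨Y, g, c, hg, hc⟩ := h𝒱 j
      obtain ⟨i⟩ := hg
      have h1 : (𝒱.f j) ⁻¹' (t ⁻¹' (U.ι ⁻¹' Vset)) = c ⁻¹' (W i : Set _) := by
        rw [← claim1 i]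
        ext w
        simp only [Set.mem_preimage]
        have h2 := congrArg (fun φ : (𝒱.X j ⟶ T) => φ w) hc
        simp only [Scheme.Hom.comp_apply] at h2
        rw [h2]
      rw [h1]
      exact (W i).isOpen.preimage c.continuous
    refine ⟨?_, ?_⟩
    · rw [← (Flat.isQuotientMap_of_surjective t).isOpen_preimage]
      have h3 : t ⁻¹' (U.ι ⁻¹' Vset) =
          ⋃ j, (𝒱.f j) '' ((𝒱.f j) ⁻¹' (t ⁻¹' (U.ι ⁻¹' Vset))) := by
        ext w
        constructor
        · intro hw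
          obtain ⟨v, hv⟩ := 𝒱.covers w
          refine Set.mem_iUnion.mpr ⟨𝒱.idx w, v, ?_, hv⟩
          show 𝒱.f (𝒱.idx w) v ∈ t ⁻¹' (U.ι ⁻¹' Vset)
          rw [hv]
          exact hw
        · intro hw
          obtain ⟨j, v, hv, rfl⟩ := Set.mem_iUnion.mp hw
          exact hv
      rw [h3]
      exact isOpen_iUnion fun j => (𝒱.f j).isOpenEmbedding.isOpenMap _ (hpre j)
    · intro y
      obtain ⟨z, rfl⟩ := t.surjective y
      obtain ⟨v, hv⟩ := 𝒱.covers z
      obtain ⟨Y, g, c, hg, hc⟩ := h𝒱 (𝒱.idx z)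
      obtain ⟨i⟩ := hg
      refine ⟨i, c v, ?_⟩
      have h2 := congrArg (fun φ : (𝒱.X (𝒱.idx z) ⟶ T) => φ v) hc
      simp only [Scheme.Hom.comp_apply] at h2
      rw [← h2, hv]
  have hnbhd : ∀ y : T, ∃ U : T.Opens, IsAffineOpen U ∧ ∃ z : U.toScheme, U.ι z = y := by
    intro y
    obtain ⟨_, ⟨U, hU, rfl⟩, hyU, -⟩ :=
      T.isBasis_affineOpens.exists_subset_of_mem_open (Set.mem_univ y) isOpen_univ
    have : y ∈ Set.range (Scheme.Opens.ι U) := by
      rw [Scheme.Opens.range_ι]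
      exact hyU
    obtain ⟨z, hz⟩ := this
    exact ⟨U, hU, z, hz⟩
  have hopen : IsOpen Vset := by
    have h4 : Vset = ⋃ U : T.affineOpens, U.1.ι '' (U.1.ι ⁻¹' Vset) := by
      ext y
      constructor
      · intro hy
        obtain ⟨U, hU, z, hz⟩ := hnbhd y
        refine Set.mem_iUnion.mpr ⟨⟨U, hU⟩, z, ?_, hz⟩
        show U.ι z ∈ Vset
        rw [hz]
        exact hy
      · intro hy
        obtain ⟨U, z, hz, rfl⟩ := Set.mem_iUnion.mp hy
        exact hz
    rw [h4]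
    exact isOpen_iUnion fun U => U.1.ι.isOpenEmbedding.isOpenMap _ (key U.1 U.2).1
  refine ⟨⟨Vset, hopen⟩, ?_, ?_⟩
  · intro i
    ext x
    exact Set.ext_iff.mp (claim1 i) x
  · intro V' hV'
    ext y
    obtain ⟨U, hU, z, hz⟩ := hnbhd y
    obtain ⟨i, x, hx⟩ := (key U hU).2 z
    rw [hz] at hx
    constructor
    · intro hy
      have h5 : x ∈ (f i) ⁻¹ᵁ V' := by
        show f i x ∈ V'
        rw [hx]
        exact hy
      rw [hV' i] at h5
      exact Set.mem_iUnion.mpr ⟨i, x, h5, hx⟩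
    · intro hy
      have h1 : x ∈ (f i) ⁻¹' Vset := by
        show f i x ∈ Vset
        rw [hx]
        exact hy
      rw [claim1 i] at h1
      have h2 : x ∈ (f i) ⁻¹ᵁ V' := by
        rw [hV' i]
        exact h1
      have h3 : f i x ∈ V' := h2
      rwa [hx] at h3


end Groth.Agent.S9839
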