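import Groth.Statements.S9842
import Mathlib.AlgebraicGeometry.Morphisms.UniversallyOpen
import Mathlib.AlgebraicGeometry.PullbackCarrier

set_option autoImplicit false
open CategoryTheory CategoryTheory.Limits AlgebraicGeometry Opposite
universe u
open Desc

namespace Groth.Agent.S9842

/-- Let E/k be a field extension, Y a scheme over k and f : X ⟶ Y a morphism. Writing Y_E = Y ×_k Spec
E, the morphism f is dominant if and only if its base change X ×_Y Y_E ⟶ Y_E is dominant. -/
theorem result {k E : Type u} [Field k] [Field E] [Algebra k E]
    {X Y : Scheme.{u}} (f : X ⟶ Y) (q : Y ⟶ Spec (.of k)) :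
    IsDominant f ↔
      IsDominant (pullback.snd f (pullback.fst q (Spec.map (CommRingCat.ofHom (algebraMap k E))))) := by
  set g := pullback.fst q (Spec.map (CommRingCat.ofHom (algebraMap k E))) with hg
  have : Surjective (Spec.map (CommRingCat.ofHom (algebraMap k E))) := by
    constructor
    intro x
    exact ⟨Classical.arbitrary _, Subsingleton.elim _ _⟩
  have : Surjective g := inferInstance
  have : UniversallyOpen (Spec.map (CommRingCat.ofHom (algebraMap k E))) := inferInstance
  have : UniversallyOpen g := inferInstance
  rw [isDominant_iff, isDominant_iff, DenseRange, DenseRange, Scheme.Pullback.range_snd]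
  constructor
  · intro h
    exact h.preimage g.isOpenMap
  · intro h
    have h2 : Dense (g '' (g ⁻¹' Set.range f)) :=
      g.surjective.denseRange.dense_image g.continuous h
    rwa [Set.image_preimage_eq _ g.surjective] at h2

end Groth.Agent.S9842
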