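import Groth.Statements.S9843
import Groth.Agent.H23.Precov
import Mathlib.AlgebraicGeometry.Morphisms.UniversallyOpen
import Mathlib.AlgebraicGeometry.PullbackCarrier

set_option autoImplicit false
open CategoryTheory CategoryTheory.Limits AlgebraicGeometry Opposite
universe u
open Desc

namespace Groth.Agent.S9843

/-- Being dominant is fppf local on the base: for every fppf covering family Y i ⟶ Y (flat, locally of
finite presentation, jointly surjective), a morphism X ⟶ Y is dominant if and only if all its base
changes X ×_Y Y i ⟶ Y i are. -/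
theorem result :
    MorphismProperty.IsLocalAtTarget (@IsDominant : MorphismProperty Scheme.{u}) Scheme.fppfPrecoverage := by
  haveI : MorphismProperty.RespectsIso (@IsDominant : MorphismProperty Scheme.{u}) := inferInstance
  refine { pullbackSnd := ?_, of_forall_pullbackSnd := ?_ }
  · intro X Y f R U g hR hg hf _
    have := Groth.Agent.H23.fppf_flat hR hg
    have := Groth.Agent.H23.fppf_lfp hR hg
    have hf' : DenseRange f := (isDominant_iff f).mp hf
    rw [isDominant_iff, DenseRange, Scheme.Pullback.range_snd]
    exact Dense.preimage hf' g.isOpenMap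
  · intro X Y f R hR h
    rw [isDominant_iff, DenseRange, dense_iff_inter_open]
    intro V hV ⟨x, hx⟩
    obtain ⟨U, g, hg, ⟨u, rfl⟩⟩ := Groth.Agent.H23.fppf_exists_mem_range hR x
    have := Groth.Agent.H23.fppf_flat hR hg
    have := Groth.Agent.H23.fppf_lfp hR hg
    have hd : IsDominant (pullback.snd f g) := h hg
    rw [isDominant_iff, DenseRange, Scheme.Pullback.range_snd, dense_iff_inter_open] at hd
    obtain ⟨u', hu'V, hu'⟩ := hd (g ⁻¹' V) (hV.preimage g.continuous) ⟨u, hx⟩
    exact ⟨g u', hu'V, hu'⟩

end Groth.Agent.S9843
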