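import Groth.Statements.S9845
import Groth.Agent.H23.Precov

set_option autoImplicit false
open CategoryTheory CategoryTheory.Limits AlgebraicGeometry Opposite
universe u
open Desc

namespace Groth.Agent.S9845

/-- Being an open morphism (open underlying map) is fppf local on the source: for every fppf covering
family g i : X i ⟶ X, a morphism f : X ⟶ Y has open underlying map if and only if every composite g
i ≫ f does. -/
theorem result :
    MorphismProperty.IsLocalAtSource (topologically (fun f => IsOpenMap f) : MorphismProperty Scheme.{u})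
      Scheme.fppfPrecoverage := by
  have : MorphismProperty.RespectsIso
      (topologically (fun f => IsOpenMap f) : MorphismProperty Scheme.{u}) := inferInstance
  refine { comp := ?_, of_forall_comp := ?_ }
  · intro X Y f R hR U g hg hf
    have := Groth.Agent.H23.fppf_flat hR hg
    have := Groth.Agent.H23.fppf_lfp hR hg
    change IsOpenMap (g ≫ f)
    have hf' : IsOpenMap f := hf
    have : ⇑(g ≫ f) = f ∘ g := by ext x; simp
    rw [this]
    exact hf'.comp g.isOpenMap
  · intro X Y f R hR h
    change IsOpenMap f
    intro V hV
    rw [isOpen_iff_forall_mem_open]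
    rintro _ ⟨x, hx, rfl⟩
    obtain ⟨U, g, hg, ⟨u, rfl⟩⟩ := Groth.Agent.H23.fppf_exists_mem_range hR x
    have hgf : IsOpenMap (g ≫ f) := h hg
    refine ⟨(g ≫ f) '' (g ⁻¹' V), ?_, hgf _ (hV.preimage g.continuous), ⟨u, hx, by simp⟩⟩
    rintro _ ⟨u', hu', rfl⟩
    exact ⟨g u', hu', by simp⟩

end Groth.Agent.S9845
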