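import Groth.Statements.S9846
import Groth.Agent.H23.Precov
import Mathlib.AlgebraicGeometry.PullbackCarrier

set_option autoImplicit false
open CategoryTheory CategoryTheory.Limits AlgebraicGeometry Opposite
universe u
open Desc

namespace Groth.Agent.S9846

/-- Being universally open is fppf local on the source: for every fppf covering family g i : X i ⟶ X, a
morphism f : X ⟶ Y is universally open if and only if every composite g i ≫ f is. -/
theorem result :
    MorphismProperty.IsLocalAtSource (@UniversallyOpen : MorphismProperty Scheme.{u}) Scheme.fppfPrecoverage := by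
  have : MorphismProperty.RespectsIso (@UniversallyOpen : MorphismProperty Scheme.{u}) :=
    inferInstance
  refine { comp := ?_, of_forall_comp := ?_ }
  · intro X Y f R hR U g hg hf
    have := Groth.Agent.H23.fppf_flat hR hg
    have := Groth.Agent.H23.fppf_lfp hR hg
    have : UniversallyOpen f := hf
    exact (inferInstance : UniversallyOpen (g ≫ f))
  · intro X Y f R hR h
    refine ⟨MorphismProperty.universally_mk' _ _ fun {T} t _ => ?_⟩
    change IsOpenMap (pullback.fst t f)
    intro V hV
    rw [isOpen_iff_forall_mem_open]
    rintro _ ⟨z, hz, rfl⟩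
    obtain ⟨U, g, hg, ⟨u, hu⟩⟩ :=
      Groth.Agent.H23.fppf_exists_mem_range hR (pullback.snd t f z)
    have hgf : UniversallyOpen (g ≫ f) := h hg
    have hpb : IsPullback (pullback.fst (pullback.snd t f) g ≫ pullback.fst t f)
        (pullback.snd (pullback.snd t f) g) t (g ≫ f) :=
      (IsPullback.of_hasPullback (pullback.snd t f) g).paste_horiz
        (IsPullback.of_hasPullback t f)
    have hopen : IsOpenMap (pullback.fst (pullback.snd t f) g ≫ pullback.fst t f) :=
      hgf.universally_isOpenMap _ _ _ hpb
    obtain ⟨w, hw₁, hw₂⟩ := Scheme.Pullback.exists_preimage_pullback (f := pullback.snd t f)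
      (g := g) z u hu.symm
    refine ⟨(pullback.fst (pullback.snd t f) g ≫ pullback.fst t f) ''
      ((pullback.fst (pullback.snd t f) g) ⁻¹' V), ?_,
      hopen _ (hV.preimage (pullback.fst (pullback.snd t f) g).continuous), ⟨w, ?_, ?_⟩⟩
    · rintro _ ⟨w', hw', rfl⟩
      exact ⟨pullback.fst (pullback.snd t f) g w', hw', by simp⟩
    · change pullback.fst (pullback.snd t f) g w ∈ V
      rw [hw₁]; exact hz
    · rw [Scheme.Hom.comp_apply, hw₁]

end Groth.Agent.S9846
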