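import Groth.Statements.S9847
import Mathlib
import Groth.Agent.H25.SrcLoc
import Groth.Agent.H23.Precov

set_option autoImplicit false
open CategoryTheory CategoryTheory.Limits AlgebraicGeometry Opposite
universe u
open Desc

namespace Groth.Agent.S9847

section Helpers
open AlgebraicGeometry CategoryTheory Limits MorphismProperty

theorem main : MorphismProperty.IsLocalAtSource (@Etale : MorphismProperty Scheme.{u})
    Scheme.etalePrecoverage := by
  have : MorphismProperty.RespectsIso (@Etale : MorphismProperty Scheme.{u}) := inferInstance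
  refine { comp := ?_, of_forall_comp := ?_ }
  · intro X Y f R hR U g hg hf
    have : Etale g := Groth.Agent.H23.precoverage_prop (P := @Etale) hR hg
    have : Etale f := hf
    exact (inferInstance : Etale (g ≫ f))
  · intro X Y f R hR h
    have hx : ∀ x : X, ∃ (U : Scheme.{u}) (g : U ⟶ X), R g ∧ x ∈ Set.range g :=
      fun x => Groth.Agent.H23.precoverage_exists_mem_range (P := @Etale) hR x
    choose U g hg hxg using hx
    have hge : ∀ x, Etale (g x) := fun x =>
      Groth.Agent.H23.precoverage_prop (P := @Etale) hR (hg x)
    have hV : ∀ x : X, ∃ V : X.Opens, (V : Set X) = Set.range (g x) := fun x =>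
      ⟨⟨Set.range (g x), (g x).isOpenMap.isOpen_range⟩, rfl⟩
    choose V hVeq using hV
    change Etale f
    rw [IsZariskiLocalAtSource.iff_of_iSup_eq_top (P := @Etale) V]
    · intro x
      have hsub : Set.range (g x) ⊆ Set.range (V x).ι := by
        rw [Scheme.Opens.range_ι, hVeq]
      obtain ⟨l, hl⟩ : ∃ l : U x ⟶ (V x), l ≫ (V x).ι = g x :=
        ⟨IsOpenImmersion.lift (V x).ι (g x) hsub, IsOpenImmersion.lift_fac _ _ _⟩
      have hle : Etale (l ≫ (V x).ι) := by rw [hl]; exact hge x
      have hlet : Etale l := Etale.of_comp (f := l) (g := (V x).ι)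
      have hlsurj : Surjective l := by
        refine ⟨fun y => ?_⟩
        have hy : (V x).ι y ∈ Set.range (g x) := by
          rw [← hVeq, ← Scheme.Opens.range_ι]; exact ⟨y, rfl⟩
        obtain ⟨a, ha⟩ := hy
        refine ⟨a, (V x).ι.isEmbedding.injective ?_⟩
        rw [← Scheme.Hom.comp_apply, hl, ha]
      have hcomp : Etale (l ≫ ((V x).ι ≫ f)) := by
        rw [← Category.assoc, hl]; exact h (hg x)
      exact Groth.Agent.H25.SrcLoc.etale_of_comp_etale_surjective l ((V x).ι ≫ f) hcomp
    · rw [eq_top_iff]
      rintro x -
      simp only [TopologicalSpace.Opens.mem_iSup]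
      refine ⟨x, ?_⟩
      change x ∈ (V x : Set X)
      rw [hVeq]; exact hxg x

end Helpers

/-- Being etale is etale local on the source: for every etale covering family g i : X i ⟶ X (etale,
jointly surjective), a morphism f : X ⟶ Y is etale if and only if every composite g i ≫ f is. -/
theorem result :
    MorphismProperty.IsLocalAtSource (@Etale : MorphismProperty Scheme.{u}) Scheme.etalePrecoverage := by
  exact main

end Groth.Agent.S9847
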