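import Groth.Statements.S9854
import Mathlib
import Groth.Agent.Lib.Helper24.DDFF

set_option autoImplicit false
open CategoryTheory CategoryTheory.Limits AlgebraicGeometry Opposite
universe u
open Desc

namespace Groth.Agent.S9854

/-- Let u i : U i ⟶ S and v j : V j ⟶ S be two families of morphisms with target S and (α, g) a morphism
of families over the identity of S, i.e. g i : U i ⟶ V (α i) with g i ≫ v (α i) = u i. Suppose that,
for each index j, the morphisms g i indexed by those i with α i = j together form an fpqc covering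
of V j. Under this hypothesis, pulling back descent data for schemes relative to (v j) to descent
data relative to (u i) gives a functor that is full and faithful. -/
theorem result {ι κ : Type u} {S : Scheme.{u}} {U : ι → Scheme.{u}} {V : κ → Scheme.{u}}
    (u : ∀ i, U i ⟶ S) (v : ∀ j, V j ⟶ S) (α : ι → κ) (g : ∀ i, U i ⟶ V (α i)) (w : ∀ i, g i ≫ v (α i) = u i)
    (hcov : ∀ j, Presieve.ofArrows (fun i : {i // α i = j} => U i.1)
      (fun i => g i.1 ≫ eqToHom (congrArg V i.2)) ∈ Scheme.fpqcPrecoverage (V j)) :
    (Desc.pullDDFam (f := v) (f' := u) (α := α) (p := 𝟙 S) (p' := g) (fun i => (w i).trans (Category.comp_id (u i)).symm)).Full ∧ (Desc.pullDDFam (f := v) (f' := u) (α := α) (p := 𝟙 S) (p' := g) (fun i => (w i).trans (Category.comp_id (u i)).symm)).Faithful := by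
  have hc : ∀ j, Groth.Agent.Helper24.DD.covSieve u v j ∈ Scheme.fpqcTopology (V j) := by
    intro j
    refine Scheme.fpqcTopology.superset_covering ?_
      (Precoverage.generate_mem_toGrothendieck (hcov j))
    rw [Sieve.generate_le_iff]
    rintro T _ ⟨⟨i, rfl⟩⟩
    exact ⟨i, 𝟙 _, by simp [w]⟩
  exact ⟨Groth.Agent.Helper24.DD.full_pull _ hc,
    Groth.Agent.Helper24.DD.faithful_pull _ (Groth.Agent.Helper24.DD.hsep_of_hcov hc)⟩

end Groth.Agent.S9854
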