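import Groth.Statements.S9859
import Groth.Agent.H28.MaxOpen

set_option autoImplicit false
open CategoryTheory CategoryTheory.Limits AlgebraicGeometry Opposite
universe u
open Desc

namespace Groth.Agent.S9859

/-- Case τ = fppf: let P be a property of morphisms of schemes which is fppf local on the base and f : X
⟶ Y a morphism. There is a largest open W of Y such that the restriction of f over W has P;
moreover, first, if g : Y' ⟶ Y is flat and locally of finite presentation and the base change of f
to Y' has P, then the image of g lies in W; and second, for such g the largest open of Y' over which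
the base change of f has P is exactly g⁻¹(W). -/
theorem result (P : MorphismProperty Scheme.{u})
    [MorphismProperty.IsLocalAtTarget P Scheme.fppfPrecoverage] {X Y : Scheme.{u}} (f : X ⟶ Y) :
    ∃ W : Y.Opens, P (f ∣_ W) ∧ (∀ W₀ : Y.Opens, P (f ∣_ W₀) → W₀ ≤ W) ∧
      (∀ (Y' : Scheme.{u}) (g : Y' ⟶ Y), Flat g → LocallyOfFinitePresentation g →
        P (pullback.snd f g) → Set.range g.base ⊆ (W : Set Y)) ∧
      (∀ (Y' : Scheme.{u}) (g : Y' ⟶ Y), Flat g → LocallyOfFinitePresentation g →
        ∀ W' : Y'.Opens, P (pullback.snd f g ∣_ W') → (∀ W₀ : Y'.Opens, P (pullback.snd f g ∣_ W₀) → W₀ ≤ W') →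
          W' = g ⁻¹ᵁ W) := by
  have hloc : P.IsLocalAtTarget (Scheme.precoverage (@Flat ⊓ @LocallyOfFinitePresentation)) := by
    have h := ‹MorphismProperty.IsLocalAtTarget P Scheme.fppfPrecoverage›
    rwa [Scheme.fppfPrecoverage] at h
  have : IsZariskiLocalAtTarget P :=
    MorphismProperty.IsLocalAtTarget.of_le Scheme.zariskiPrecoverage_le_fppfPrecoverage
  have hopen : ∀ {A B : Scheme.{u}} (k : A ⟶ B),
      (@Flat ⊓ @LocallyOfFinitePresentation : MorphismProperty Scheme.{u}) k →
        IsOpenMap k.base := by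
    intro A B k hk
    have : Flat k := hk.1
    have : LocallyOfFinitePresentation k := hk.2
    exact k.isOpenMap
  have hoi : ∀ {A B : Scheme.{u}} (k : A ⟶ B) [IsOpenImmersion k],
      (@Flat ⊓ @LocallyOfFinitePresentation : MorphismProperty Scheme.{u}) k :=
    fun k _ => ⟨inferInstance, inferInstance⟩
  obtain ⟨W, hW, hmax⟩ := Groth.Agent.H28.MaxOpen.exists_maxOpen P f
  refine ⟨W, hW, hmax, ?_, ?_⟩
  · intro Y' g hg1 hg2 h
    exact Groth.Agent.H28.MaxOpen.range_subset (Q := @Flat ⊓ @LocallyOfFinitePresentation)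
      hopen f W hmax g ⟨hg1, hg2⟩ h
  · intro Y' g hg1 hg2 W' hW' hmax'
    exact Groth.Agent.H28.MaxOpen.maxOpen_bc (Q := @Flat ⊓ @LocallyOfFinitePresentation)
      hopen hoi f W hW hmax g ⟨hg1, hg2⟩ W' hW' hmax' 

end Groth.Agent.S9859
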