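import Groth.Statements.S9860
import Mathlib

set_option autoImplicit false
open CategoryTheory CategoryTheory.Limits AlgebraicGeometry Opposite
universe u
open Desc

namespace Groth.Agent.S9860

section Helpers
open CategoryTheory CategoryTheory.Limits AlgebraicGeometry Opposite

theorem key9860 {Y W : Scheme.{u}} {T : Sieve Y}
    (x : Presieve.FamilyOfElements (yoneda.obj W) T.arrows) {U : Scheme.{u}} (j : U ⟶ Y)
    (y : U ⟶ W) (hy : (x.pullback j).IsAmalgamation y) {Z : Scheme.{u}} (k : Z ⟶ U)
    {c : Z ⟶ Y} (e : k ≫ j = c) (hc : T.arrows c) : k ≫ y = x c hc := by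
  subst e
  exact hy k hc

theorem sep9860 {X : Scheme.{u}} (S : Sieve X)
    (hA : ∀ (Y : Scheme.{u}) (g : Y ⟶ X), IsAffine Y → ∀ W : Scheme.{u},
      Presieve.IsSeparatedFor (yoneda.obj W) (S.pullback g).arrows)
    {Y : Scheme.{u}} (g : Y ⟶ X) (W : Scheme.{u}) :
    Presieve.IsSeparatedFor (yoneda.obj W) (S.pullback g).arrows := by
  intro x t₁ t₂ h₁ h₂
  refine Scheme.Cover.hom_ext Y.affineCover t₁ t₂ fun a => ?_
  have hs := hA _ (Y.affineCover.f a ≫ g) inferInstance W
  rw [Sieve.pullback_comp] at hs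
  refine hs (x.pullback (Y.affineCover.f a)) _ _ ?_ ?_
  · intro Z k hk
    show k ≫ Y.affineCover.f a ≫ t₁ = x (k ≫ Y.affineCover.f a) hk
    rw [← Category.assoc]; exact h₁ (k ≫ Y.affineCover.f a) hk
  · intro Z k hk
    show k ≫ Y.affineCover.f a ≫ t₂ = x (k ≫ Y.affineCover.f a) hk
    rw [← Category.assoc]; exact h₂ (k ≫ Y.affineCover.f a) hk

theorem sheaf9860 {X : Scheme.{u}} (S : Sieve X)
    (hA : ∀ (Y : Scheme.{u}) (g : Y ⟶ X), IsAffine Y → ∀ W : Scheme.{u},
      Presieve.IsSheafFor (yoneda.obj W) (S.pullback g).arrows)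
    {Y : Scheme.{u}} (g : Y ⟶ X) (W : Scheme.{u}) :
    Presieve.IsSheafFor (yoneda.obj W) (S.pullback g).arrows := by
  have hsep : ∀ {Y' : Scheme.{u}} (g' : Y' ⟶ X),
      Presieve.IsSeparatedFor (yoneda.obj W) (S.pullback g').arrows :=
    fun g' => sep9860 S (fun Y g hY W => (hA Y g hY W).isSeparatedFor) g' W
  rw [← Presieve.isSeparatedFor_and_exists_isAmalgamation_iff_isSheafFor]
  refine ⟨hsep g, fun x hx => ?_⟩
  have hloc : ∀ a, Presieve.IsSheafFor (yoneda.obj W)
      ((S.pullback g).pullback (Y.affineCover.f a)).arrows := by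
    intro a
    have := hA _ (Y.affineCover.f a ≫ g) inferInstance W
    rwa [Sieve.pullback_comp] at this
  let y : ∀ a, Y.affineCover.X a ⟶ W := fun a =>
    (hloc a).amalgamate (x.pullback (Y.affineCover.f a)) (hx.pullback (Y.affineCover.f a))
  have hy : ∀ a, (x.pullback (Y.affineCover.f a)).IsAmalgamation (y a) :=
    fun a => (hloc a).isAmalgamation _
  have hcompat : ∀ a b, pullback.fst (Y.affineCover.f a) (Y.affineCover.f b) ≫ y a =
      pullback.snd (Y.affineCover.f a) (Y.affineCover.f b) ≫ y b := by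
    intro a b
    have hs := hsep ((pullback.fst (Y.affineCover.f a) (Y.affineCover.f b) ≫
      Y.affineCover.f a) ≫ g)
    rw [Sieve.pullback_comp] at hs
    refine hs (x.pullback (pullback.fst (Y.affineCover.f a) (Y.affineCover.f b) ≫
      Y.affineCover.f a)) _ _ ?_ ?_
    · intro Z k hk
      show k ≫ pullback.fst (Y.affineCover.f a) (Y.affineCover.f b) ≫ y a =
        x (k ≫ pullback.fst (Y.affineCover.f a) (Y.affineCover.f b) ≫ Y.affineCover.f a) hk
      rw [← Category.assoc]
      exact key9860 x (Y.affineCover.f a) (y a) (hy a) _ (Category.assoc _ _ _) hk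
    · intro Z k hk
      show k ≫ pullback.snd (Y.affineCover.f a) (Y.affineCover.f b) ≫ y b =
        x (k ≫ pullback.fst (Y.affineCover.f a) (Y.affineCover.f b) ≫ Y.affineCover.f a) hk
      rw [← Category.assoc]
      refine key9860 x (Y.affineCover.f b) (y b) (hy b) _ ?_ hk
      rw [Category.assoc, ← pullback.condition]
  refine ⟨Scheme.Cover.glueMorphisms Y.affineCover y hcompat, fun Z h hh => ?_⟩
  show h ≫ Scheme.Cover.glueMorphisms Y.affineCover y hcompat = x h hh
  refine Scheme.Cover.hom_ext (Y.affineCover.pullback₁ h) _ _ fun a => ?_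
  have e1 : (Y.affineCover.pullback₁ h).f a ≫ h ≫
      Scheme.Cover.glueMorphisms Y.affineCover y hcompat =
      Y.affineCover.pullbackHom h a ≫ y a := by
    rw [← Category.assoc, ← Scheme.Cover.pullbackHom_map, Category.assoc,
      Scheme.Cover.ι_glueMorphisms]
  rw [e1]
  have e2 := key9860 x (Y.affineCover.f a) (y a) (hy a) (Y.affineCover.pullbackHom h a)
    (Scheme.Cover.pullbackHom_map Y.affineCover h a)
    ((S.pullback g).downward_closed hh ((Y.affineCover.pullback₁ h).f a))
  rw [e2]
  exact Presieve.FamilyOfElements.comp_of_compatible _ hx hh ((Y.affineCover.pullback₁ h).f a)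

end Helpers

/-- Consider morphisms of schemes f i : X i ⟶ X indexed by i. Suppose that, whenever Y is an affine
scheme and g : Y ⟶ X is a morphism, the sieve on Y obtained by pulling back along g (generated by
the base changes X i ×_X Y ⟶ Y) is effective epimorphic. Then the pulled-back sieve along every
morphism Y ⟶ X of schemes is effective epimorphic; in other words, within schemes the family forms a
universal effective epimorphism. -/
theorem result {ι : Type u} {X : Scheme.{u}} {Xi : ι → Scheme.{u}} (f : ∀ i, Xi i ⟶ X)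
    (h : ∀ (Y : Scheme.{u}) (g : Y ⟶ X), IsAffine Y → ((Sieve.ofArrows Xi f).pullback g).EffectiveEpimorphic)
    {Y : Scheme.{u}} (g : Y ⟶ X) : ((Sieve.ofArrows Xi f).pullback g).EffectiveEpimorphic := by
  rw [Sieve.EffectiveEpimorphic.iff_forall_isSheafFor_yoneda]
  intro W
  exact sheaf9860 (Sieve.ofArrows Xi f) (fun Y g hY W =>
    (Sieve.EffectiveEpimorphic.iff_forall_isSheafFor_yoneda _).mp (h Y g hY) W) g W

end Groth.Agent.S9860
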