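import Groth.Statements.S9867
import Mathlib
import Groth.Agent.S0084
set_option linter.style.haveILetI false

set_option autoImplicit false
open CategoryTheory CategoryTheory.Limits AlgebraicGeometry Opposite
universe u
open Desc

namespace Groth.Agent.S9867

section Aux

open CategoryTheory CategoryTheory.Limits AlgebraicGeometry MorphismProperty

theorem flat_codesc : RingHom.CodescendsAlong RingHom.Flat RingHom.FaithfullyFlat := by
  refine .mk _ RingHom.Flat.respectsIso fun R S T _ _ _ _ _ h h' ↦ ?_
  rw [RingHom.flat_algebraMap_iff] at h' ⊢
  rw [RingHom.faithfullyFlat_algebraMap_iff] at h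
  exact Module.Flat.of_flat_tensorProduct R T S

theorem flat_desc : DescendsAlong (@Flat : MorphismProperty Scheme.{u})
    (@Surjective ⊓ @Flat ⊓ @QuasiCompact : MorphismProperty Scheme.{u}) :=
  HasRingHomProperty.descendsAlong_flat flat_codesc

theorem flf_desc {A X Y Z : Scheme.{u}} {fst : A ⟶ X} {snd : A ⟶ Y} {f : X ⟶ Z} {g : Y ⟶ Z}
    (h : IsPullback fst snd f g)
    (hf : (@Surjective ⊓ @Flat ⊓ @QuasiCompact : MorphismProperty Scheme.{u}) f)
    (hfst : Mor2.IsFinLocFree fst) : Mor2.IsFinLocFree g := by
  obtain ⟨h1, h2, h3⟩ := hfst
  haveI := Groth.Agent.S0084.result.{u}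
  haveI := flat_desc.{u}
  exact ⟨of_isPullback_of_descendsAlong (P := @IsFinite) h hf h1,
    of_isPullback_of_descendsAlong (P := @Flat) h hf h2,
    of_isPullback_of_descendsAlong (P := @LocallyOfFinitePresentation) h hf h3⟩

end Aux

/-- Being finite locally free (finite, flat and locally of finite presentation), and being finite
locally free of a given degree d, are fpqc local on the base; the descent directions, stated as
descent along surjective flat quasi-compact morphisms: if the base change of f along such a morphism
is finite locally free then so is f, and if moreover that base change has constant rank d (Mathlib's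
rank function of a finite flat morphism) then f has constant rank d. (With Zariski-locality on the
target these give the statements for arbitrary fpqc coverings; stability under base change is the
other direction.) -/
theorem result :
    MorphismProperty.DescendsAlong (fun _ _ f => Mor2.IsFinLocFree f : MorphismProperty Scheme.{u})
      (@Surjective ⊓ @Flat ⊓ @QuasiCompact : MorphismProperty Scheme.{u}) ∧
    ∀ d : ℕ, MorphismProperty.DescendsAlong (fun _ _ f => Mor2.IsFinLocFreeOfDeg d f : MorphismProperty Scheme.{u})
      (@Surjective ⊓ @Flat ⊓ @QuasiCompact : MorphismProperty Scheme.{u}) := by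
  refine ⟨⟨fun h hf hfst => flf_desc h hf hfst⟩, fun d => ⟨fun {A X Y Z fst snd f g} h hf hfst => ?_⟩⟩
  obtain ⟨hflf, hdeg⟩ := hfst
  have hg : Mor2.IsFinLocFree g := flf_desc h hf hflf
  refine ⟨hg, fun z => ?_⟩
  obtain ⟨⟨hsurj, _⟩, _⟩ := hf
  haveI := hsurj
  obtain ⟨x, rfl⟩ := f.surjective z
  haveI : IsFinite g := hg.1
  haveI : Flat g := hg.2.1
  rw [← Scheme.Hom.finrank_of_isPullback snd fst g f h.flip x]
  exact hdeg x

end Groth.Agent.S9867
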