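import Groth.Statements.S9869
import Groth.Agent.H25.AlgSp119
import Groth.Agent.H25.Eff
import Groth.Agent.H25.FppfLocal
open Groth.Agent.H25 Groth.Agent.H25.AS

set_option autoImplicit false
universe u
open CategoryTheory CategoryTheory.Limits AlgebraicGeometry
open AlgSp

namespace Groth.Agent.S9869

/-- Let `s, t : R ⟶ U` be an etale equivalence relation on a scheme `U` over `S` and suppose that the
fppf quotient sheaf `U/R` is an algebraic space over `S`. Then the quotient map `h_U ⟶ U/R` is
representable etale and representable surjective, and `(U, R, h_U ⟶ U/R)` is a presentation of `U/R`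
(in particular `h_R`, with `h_t` and `h_s`, is the fibre product `h_U ×_{U/R} h_U`). The quotient
map is written on `h_U` through the canonical identification of `h_U` with the sheafified
representable presheaf. -/
theorem result (S : Scheme.{u}) {R U : Over S} (s t : R ⟶ U)
    (h : AlgSp.IsEtaleEqvRel s t) (hq : AlgSp.IsAlgSpace (QuotSh.quot Scheme.fppfPrecoverage s t)) :
    AlgSp.IsPresentation s t
      ((QuotSh.repIsoUliftYoneda Scheme.fppfPrecoverage U).inv ≫ QuotSh.quotπ Scheme.fppfPrecoverage s t) := by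

  let eU := QuotSh.repIsoUliftYoneda Scheme.fppfPrecoverage U
  let eR := QuotSh.repIsoUliftYoneda Scheme.fppfPrecoverage R
  have nat : ∀ {V W : Over S} (g : V ⟶ W), QuotSh.repMap Scheme.fppfPrecoverage g ≫
      (QuotSh.repIsoUliftYoneda Scheme.fppfPrecoverage W).hom =
      (QuotSh.repIsoUliftYoneda Scheme.fppfPrecoverage V).hom ≫ (AlgSp.yon S).map g := by
    intro V W g
    exact (sheafificationNatIso (AlgSp.J S) (Type (u + 1))).inv.naturality ((AlgSp.yon S).map g)
  have nt : (AlgSp.yon S).map t ≫ eU.inv = eR.inv ≫ QuotSh.repMap Scheme.fppfPrecoverage t := by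
    rw [Iso.comp_inv_eq, Category.assoc, nat t, Iso.inv_hom_id_assoc]
  have ns : (AlgSp.yon S).map s ≫ eU.inv = eR.inv ≫ QuotSh.repMap Scheme.fppfPrecoverage s := by
    rw [Iso.comp_inv_eq, Category.assoc, nat s, Iso.inv_hom_id_assoc]
  have w0 : (AlgSp.yon S).map t ≫ (eU.inv ≫ QuotSh.quotπ Scheme.fppfPrecoverage s t) =
      (AlgSp.yon S).map s ≫ (eU.inv ≫ QuotSh.quotπ Scheme.fppfPrecoverage s t) := by
    rw [← Category.assoc, nt, ← Category.assoc, ns, Category.assoc, Category.assoc,
      QuotSh.quot_condition]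
  have hcolim : IsColimit (Cofork.ofπ (eU.inv ≫ QuotSh.quotπ Scheme.fppfPrecoverage s t) w0) := by
    refine Cofork.IsColimit.mk _
      (fun c => coequalizer.desc (eU.hom ≫ c.π) ?_) (fun c => ?_) (fun c m hm => ?_)
    · rw [← Category.assoc, nat s, ← Category.assoc, nat t, Category.assoc, Category.assoc]
      congr 1
      exact c.condition.symm
    · change (eU.inv ≫ coequalizer.π _ _) ≫ coequalizer.desc (eU.hom ≫ c.π) _ = c.π
      rw [Category.assoc, coequalizer.π_desc, Iso.inv_hom_id_assoc]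
    · have hx : ∀ (k l : coequalizer (QuotSh.repMap Scheme.fppfPrecoverage s)
          (QuotSh.repMap Scheme.fppfPrecoverage t) ⟶ c.pt),
          coequalizer.π _ _ ≫ k = coequalizer.π _ _ ≫ l → k = l :=
        fun k l h => coequalizer.hom_ext h
      apply hx
      rw [coequalizer.π_desc]
      have hm' : (eU.inv ≫ coequalizer.π _ _) ≫ m = c.π := hm
      rw [← hm', Category.assoc, Iso.hom_inv_id_assoc]
  have hinj : ∀ (T : (Over S)ᵒᵖ) (r r' : ((AlgSp.yon S).obj R).obj.obj T),
      ((AlgSp.yon S).map t).hom.app T r = ((AlgSp.yon S).map t).hom.app T r' →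
      ((AlgSp.yon S).map s).hom.app T r = ((AlgSp.yon S).map s).hom.app T r' → r = r' := by
    intro T r r' h1 h2
    have := h.injective T.unop r.down r'.down (congrArg ULift.down h1) (congrArg ULift.down h2)
    exact ULift.ext _ _ this
  have heqv : ∀ T : (Over S)ᵒᵖ, Equivalence
      (Groth.Agent.H25.Eff.Rel ((AlgSp.yon S).map t) ((AlgSp.yon S).map s) T) := by
    intro T
    have E := h.equivalence T.unop
    refine ⟨fun x => ?_, fun {x y} hxy => ?_, fun {x y z} hxy hyz => ?_⟩
    · obtain ⟨r, h1, h2⟩ := E.refl x.down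
      exact ⟨⟨r⟩, ULift.ext _ _ h1, ULift.ext _ _ h2⟩
    · obtain ⟨r, h1, h2⟩ := hxy
      obtain ⟨r', h1', h2'⟩ := E.symm ⟨r.down, congrArg ULift.down h1, congrArg ULift.down h2⟩
      exact ⟨⟨r'⟩, ULift.ext _ _ h1', ULift.ext _ _ h2'⟩
    · obtain ⟨r, h1, h2⟩ := hxy
      obtain ⟨r₂, h3, h4⟩ := hyz
      obtain ⟨r', h1', h2'⟩ := E.trans ⟨r.down, congrArg ULift.down h1, congrArg ULift.down h2⟩
        ⟨r₂.down, congrArg ULift.down h3, congrArg ULift.down h4⟩
      exact ⟨⟨r'⟩, ULift.ext _ _ h1', ULift.ext _ _ h2'⟩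
  have sq : IsPullback ((AlgSp.yon S).map t) ((AlgSp.yon S).map s)
      (eU.inv ≫ QuotSh.quotπ Scheme.fppfPrecoverage s t)
      (eU.inv ≫ QuotSh.quotπ Scheme.fppfPrecoverage s t) :=
    Groth.Agent.H25.Eff.isPullback_of_eqv _ _ hinj heqv _ w0 hcolim
  have hepi : Epi (eU.inv ≫ QuotSh.quotπ Scheme.fppfPrecoverage s t) :=
    epi_of_isColimit_cofork hcolim
  have hls : Sheaf.IsLocallySurjective (eU.inv ≫ QuotSh.quotπ Scheme.fppfPrecoverage s t) :=
    (Sheaf.isLocallySurjective_iff_epi _).2 hepi
  have hrep : AlgSp.Representable (eU.inv ≫ QuotSh.quotπ Scheme.fppfPrecoverage s t) :=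
    hq.representable_from_yon _
  have hssurj : Surjective s.left := by
    obtain ⟨r, h1, h2⟩ := (h.equivalence U).refl (𝟙 U)
    refine ⟨fun x => ⟨r.left x, ?_⟩⟩
    rw [← Scheme.Hom.comp_apply, ← Over.comp_left, h2]
    rfl
  exact
    { eqvRel := h
      etale := repWith_of_isLocallySurjective_base _ hrep _ _ _ sq @Etale
        ((AlgSp.repWith_yon_map_iff _ s).2 h.etale_left)
      surjective := repWith_of_isLocallySurjective_base _ hrep _ _ _ sq @Surjective
        ((AlgSp.repWith_yon_map_iff _ s).2 hssurj)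
      isPullback := sq }


end Groth.Agent.S9869
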