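import Groth.Statements.S9871
import Groth.Agent.H25.AlgSp119
open Groth.Agent.H25 Groth.Agent.H25.AS

set_option autoImplicit false
universe u
open CategoryTheory CategoryTheory.Limits AlgebraicGeometry
open AlgSp

namespace Groth.Agent.S9871

/-- Let `s, t : R ⟶ U` be an etale equivalence relation on a scheme `U` over `S` and let `g : U' ⟶ U` be
an etale morphism over `S`. Let `s', t' : R' ⟶ U'` be the restriction to `U'`: `R'`, with `(t', s')`
and `R' ⟶ R`, is the fibre product of `U' ×_S U'` and `R` over `U ×_S U`. Then `s', t'` is again an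
etale equivalence relation. -/
theorem result (S : Scheme.{u}) {R U R' U' : Over S} (s t : R ⟶ U)
    (g : U' ⟶ U) (s' t' : R' ⟶ U') (r : R' ⟶ R)
    (hsq : IsPullback (prod.lift t' s') r (prod.map g g) (prod.lift t s))
    (h : AlgSp.IsEtaleEqvRel s t) [Etale g.left] :
    AlgSp.IsEtaleEqvRel s' t' := by

  have lf : ∀ {T A B : Over S} (a : T ⟶ A) (b : T ⟶ B), prod.lift a b ≫ Limits.prod.fst = a :=
    fun a b => prod.lift_fst a b
  have ls : ∀ {T A B : Over S} (a : T ⟶ A) (b : T ⟶ B), prod.lift a b ≫ Limits.prod.snd = b :=
    fun a b => prod.lift_snd a b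
  have mf : ∀ {A B A' B' : Over S} (a : A ⟶ A') (b : B ⟶ B'),
      prod.map a b ≫ Limits.prod.fst = Limits.prod.fst ≫ a := fun a b => prod.map_fst a b
  have ms : ∀ {A B A' B' : Over S} (a : A ⟶ A') (b : B ⟶ B'),
      prod.map a b ≫ Limits.prod.snd = Limits.prod.snd ≫ b := fun a b => prod.map_snd a b
  have w1 : t' ≫ g = r ≫ t := by
    have := congrArg (· ≫ Limits.prod.fst) hsq.w
    simp only [Category.assoc] at this
    rw [mf, ← Category.assoc, lf, lf] at this
    exact this
  have w2 : s' ≫ g = r ≫ s := by
    have := congrArg (· ≫ Limits.prod.snd) hsq.w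
    simp only [Category.assoc] at this
    rw [ms, ← Category.assoc, ls, ls] at this
    exact this
  -- étaleness of prod.map g g
  have hP1 : (MorphismProperty.inverseImage (@Etale) (Over.forget S)) (prod.map g (𝟙 U')) :=
    MorphismProperty.of_isPullback (P := MorphismProperty.inverseImage (@Etale) (Over.forget S))
      (IsPullback.of_prod_fst_with_id g U') (show Etale g.left from inferInstance)
  have sq2 : IsPullback (Limits.prod.snd : U ⨯ U' ⟶ U') (prod.map (𝟙 U) g) g Limits.prod.snd := by
    refine IsPullback.mk' (by rw [ms]) ?_ ?_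
    · intro T φ φ' h1 h2
      apply Limits.prod.hom_ext
      · have := congrArg (· ≫ Limits.prod.fst) h2
        simp only [Category.assoc] at this
        rw [mf, Category.comp_id] at this
        exact this
      · exact h1
    · intro T a b hab
      refine ⟨prod.lift (b ≫ Limits.prod.fst) a, ls _ _, ?_⟩
      apply Limits.prod.hom_ext
      · rw [Category.assoc, mf, Category.comp_id, lf]
      · rw [Category.assoc, ms, ← Category.assoc, ls, hab]
  have hP2 : (MorphismProperty.inverseImage (@Etale) (Over.forget S)) (prod.map (𝟙 U) g) :=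
    MorphismProperty.of_isPullback (P := MorphismProperty.inverseImage (@Etale) (Over.forget S))
      sq2 (show Etale g.left from inferInstance)
  have hpm : (MorphismProperty.inverseImage (@Etale) (Over.forget S)) (prod.map g g) := by
    have e : prod.map g g = prod.map g (𝟙 U') ≫ prod.map (𝟙 U) g := by
      apply Limits.prod.hom_ext
      · rw [Category.assoc, mf, mf, Category.comp_id, mf]
      · rw [Category.assoc, ms, ms, ← Category.assoc, ms, Category.comp_id]
    rw [e]
    exact MorphismProperty.comp_mem _ _ _ hP1 hP2
  have hr : Etale r.left :=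
    MorphismProperty.of_isPullback (P := MorphismProperty.inverseImage (@Etale) (Over.forget S)) hsq hpm
  have hs : Etale s.left := h.etale_left
  have ht : Etale t.left := h.etale_right
  have key : ∀ (T : Over S) (a b : T ⟶ U'),
      (∃ ρ : T ⟶ R', ρ ≫ t' = a ∧ ρ ≫ s' = b) ↔
      (∃ ρ : T ⟶ R, ρ ≫ t = a ≫ g ∧ ρ ≫ s = b ≫ g) := by
    intro T a b
    constructor
    · rintro ⟨ρ, rfl, rfl⟩
      exact ⟨ρ ≫ r, by rw [Category.assoc, ← w1, Category.assoc],
        by rw [Category.assoc, ← w2, Category.assoc]⟩
    · rintro ⟨ρ, h1, h2⟩
      have hw : prod.lift a b ≫ prod.map g g = ρ ≫ prod.lift t s := by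
        apply Limits.prod.hom_ext
        · rw [Category.assoc, mf, ← Category.assoc, lf, Category.assoc, lf, h1]
        · rw [Category.assoc, ms, ← Category.assoc, ls, Category.assoc, ls, h2]
      refine ⟨hsq.lift (prod.lift a b) ρ hw, ?_, ?_⟩
      · have := congrArg (· ≫ Limits.prod.fst) (hsq.lift_fst (prod.lift a b) ρ hw)
        simp only [Category.assoc] at this
        rw [lf, lf] at this
        exact this
      · have := congrArg (· ≫ Limits.prod.snd) (hsq.lift_fst (prod.lift a b) ρ hw)
        simp only [Category.assoc] at this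
        rw [ls, ls] at this
        exact this
  refine { injective := ?_, equivalence := ?_, etale_left := ?_, etale_right := ?_ }
  · intro T ρ ρ' h1 h2
    apply hsq.hom_ext
    · apply Limits.prod.hom_ext
      · rw [Category.assoc, Category.assoc, lf]; exact h1
      · rw [Category.assoc, Category.assoc, ls]; exact h2
    · apply h.injective
      · rw [Category.assoc, Category.assoc, ← w1, ← Category.assoc, ← Category.assoc, h1]
      · rw [Category.assoc, Category.assoc, ← w2, ← Category.assoc, ← Category.assoc, h2]
  · intro T
    have E := h.equivalence T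
    refine ⟨fun a => (key T a a).mpr (E.refl (a ≫ g)),
      fun {a b} hab => (key T b a).mpr (E.symm ((key T a b).mp hab)),
      fun {a b c} hab hbc => (key T a c).mpr (E.trans ((key T a b).mp hab) ((key T b c).mp hbc))⟩
  · refine MorphismProperty.of_postcomp (W := @Etale) (W' := @Etale) s'.left g.left inferInstance ?_
    rw [← Over.comp_left, w2, Over.comp_left]
    infer_instance
  · refine MorphismProperty.of_postcomp (W := @Etale) (W' := @Etale) t'.left g.left inferInstance ?_
    rw [← Over.comp_left, w1, Over.comp_left]
    infer_instance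


end Groth.Agent.S9871
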