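import Groth.Statements.S9872
import Groth.Agent.H25.AlgSp119
import Mathlib.CategoryTheory.Sites.RegularEpi
open Groth.Agent.H25 Groth.Agent.H25.AS

set_option autoImplicit false
universe u
open CategoryTheory CategoryTheory.Limits AlgebraicGeometry
open AlgSp

namespace Groth.Agent.S9872

/-- Let `F` be an algebraic space over `S`, `p : h_U ⟶ F` representable etale and representable
surjective with `U` a scheme over `S`, and let `s, t : R ⟶ U` over `S` be such that `h_R`, with
`h_t` and `h_s`, is the fibre product `h_U ×_F h_U`. Then `s, t` is an etale equivalence relation on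
`U` over `S`, and `p` exhibits `F` as the coequalizer of `h_t, h_s : h_R ⟶ h_U` in fppf sheaves of
sets over `S`. -/
theorem result (S : Scheme.{u}) (F : AlgSp.Sp S) (hF : AlgSp.IsAlgSpace F)
    {R U : Over S} (p : (AlgSp.yon S).obj U ⟶ F) (he : AlgSp.RepWith @Etale p)
    (hs : AlgSp.RepWith @Surjective p) (s t : R ⟶ U)
    (sq : IsPullback ((AlgSp.yon S).map t) ((AlgSp.yon S).map s) p p) :
    AlgSp.IsEtaleEqvRel s t ∧ Nonempty (IsColimit (Cofork.ofπ p sq.w)) := by

  have key : ∀ (T : Over S) (a b : T ⟶ U),
      (∃ ρ : T ⟶ R, ρ ≫ t = a ∧ ρ ≫ s = b) ↔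
      (AlgSp.yon S).map a ≫ p = (AlgSp.yon S).map b ≫ p := by
    intro T a b
    constructor
    · rintro ⟨ρ, rfl, rfl⟩
      rw [CategoryTheory.Functor.map_comp, CategoryTheory.Functor.map_comp, Category.assoc,
        Category.assoc, sq.w]
    · intro hab
      refine ⟨(AlgSp.yon S).preimage (sq.lift _ _ hab), ?_, ?_⟩
      · apply (AlgSp.yon S).map_injective
        rw [CategoryTheory.Functor.map_comp, Functor.map_preimage, sq.lift_fst]
      · apply (AlgSp.yon S).map_injective
        rw [CategoryTheory.Functor.map_comp, Functor.map_preimage, sq.lift_snd]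
  refine ⟨{ injective := ?_, equivalence := ?_, etale_left := ?_, etale_right := ?_ }, ?_⟩
  · intro T ρ ρ' h1 h2
    apply (AlgSp.yon S).map_injective
    apply sq.hom_ext
    · rw [← CategoryTheory.Functor.map_comp, ← CategoryTheory.Functor.map_comp, h1]
    · rw [← CategoryTheory.Functor.map_comp, ← CategoryTheory.Functor.map_comp, h2]
  · intro T
    refine ⟨fun a => (key T a a).mpr rfl,
      fun {a b} hab => (key T b a).mpr ((key T a b).mp hab).symm,
      fun {a b c} hab hbc => (key T a c).mpr (((key T a b).mp hab).trans ((key T b c).mp hbc))⟩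
  · exact he.property p ((AlgSp.yon S).map t) s sq
  · exact he.property p ((AlgSp.yon S).map s) t sq.flip
  · have : Epi p := epi_of_etale p he hs
    have : IsRegularEpi p := IsRegularEpiCategory.regularEpiOfEpi p
    exact ⟨IsKernelPair.toCoequalizer' sq⟩


end Groth.Agent.S9872
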