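import Groth.Statements.S9886
import Groth.Agent.H25.AlgSp119
open Groth.Agent.H25 Groth.Agent.H25.AS

set_option autoImplicit false
universe u
open CategoryTheory CategoryTheory.Limits AlgebraicGeometry
open AlgSp

namespace Groth.Agent.S9886

/-- Let `F` be an fppf sheaf of sets over `S` and `P` a property of morphisms of schemes stable under
base change. Assume that for all schemes `U`, `V` over `S` and all `a : h_U ⟶ F`, `b : h_V ⟶ F` the
fibre product `h_U ×_F h_V` is represented by some scheme `W` over `S` with its projections induced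
by morphisms `W ⟶ U`, `W ⟶ V`, and that for every such represented fibre product the morphism `W ⟶ U
×_S V` has `P`. Then the diagonal `F ⟶ F × F` is representable by schemes and has `P`. (The
published statement is for a presheaf of sets `F` and a property `P` that is also fppf local on the
base; this row takes `F` an fppf sheaf and `P` only stable under base change.) -/
theorem result (S : Scheme.{u}) (F : AlgSp.Sp S) (P : MorphismProperty Scheme.{u})
    [P.IsStableUnderBaseChange]
    (h₁ : ∀ ⦃U V : Over S⦄ (a : (AlgSp.yon S).obj U ⟶ F) (b : (AlgSp.yon S).obj V ⟶ F),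
      ∃ (W : Over S) (fst : W ⟶ U) (snd : W ⟶ V), IsPullback ((AlgSp.yon S).map fst) ((AlgSp.yon S).map snd) a b)
    (h₂ : ∀ ⦃U V W : Over S⦄ (a : (AlgSp.yon S).obj U ⟶ F) (b : (AlgSp.yon S).obj V ⟶ F) (fst : W ⟶ U)
      (snd : W ⟶ V), IsPullback ((AlgSp.yon S).map fst) ((AlgSp.yon S).map snd) a b → P (prod.lift fst snd).left) :
    AlgSp.RepWith P (Limits.diag F) := by
  have jm : ∀ {Z : AlgSp.Sp S} {T : Over S} (f g : Z ⟶ (AlgSp.yon S).obj (T ⨯ T)),
      f ≫ (AlgSp.yon S).map Limits.prod.fst = g ≫ (AlgSp.yon S).map Limits.prod.fst →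
      f ≫ (AlgSp.yon S).map Limits.prod.snd = g ≫ (AlgSp.yon S).map Limits.prod.snd → f = g := by
    intro Z T f g h1 h2
    rw [← cancel_mono (prodComparison (AlgSp.yon S) T T)]
    apply Limits.prod.hom_ext
    · simp only [Category.assoc, prodComparison_fst]; exact h1
    · simp only [Category.assoc, prodComparison_snd]; exact h2
  refine MorphismProperty.relative.of_exists (fun T c => ?_)
  obtain ⟨W, p₁, p₂, sq⟩ := h₁ (c ≫ Limits.prod.fst) (c ≫ Limits.prod.snd)
  have hP := h₂ (c ≫ Limits.prod.fst) (c ≫ Limits.prod.snd) p₁ p₂ sq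
  have sqE := IsPullback.of_hasPullback (prod.lift p₁ p₂) (Limits.diag T)
  have hPE : P (pullback.snd (prod.lift p₁ p₂) (Limits.diag T)).left :=
    MorphismProperty.of_isPullback (P := P.inverseImage (Over.forget S)) sqE hP
  have eW1 : pullback.fst (prod.lift p₁ p₂) (Limits.diag T) ≫ p₁ =
      pullback.snd (prod.lift p₁ p₂) (Limits.diag T) := by
    have := congrArg (· ≫ Limits.prod.fst) sqE.w
    simp only [Category.assoc, Limits.diag] at this
    erw [prod.lift_fst, prod.lift_fst] at this
    rw [Category.comp_id] at this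
    exact this
  have eW2 : pullback.fst (prod.lift p₁ p₂) (Limits.diag T) ≫ p₂ =
      pullback.snd (prod.lift p₁ p₂) (Limits.diag T) := by
    have := congrArg (· ≫ Limits.prod.snd) sqE.w
    simp only [Category.assoc, Limits.diag] at this
    erw [prod.lift_snd, prod.lift_snd] at this
    rw [Category.comp_id] at this
    exact this
  have sqEy := sqE.map (AlgSp.yon S)
  have hsnd12 : (AlgSp.yon S).map (pullback.snd (prod.lift p₁ p₂) (Limits.diag T)) ≫
      c ≫ Limits.prod.fst = (AlgSp.yon S).map (pullback.snd (prod.lift p₁ p₂) (Limits.diag T)) ≫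
      c ≫ Limits.prod.snd := by
    conv_lhs => rw [← eW1, Functor.map_comp, Category.assoc, sq.w]
    conv_rhs => rw [← eW2, Functor.map_comp, Category.assoc]
  have w : ((AlgSp.yon S).map (pullback.snd (prod.lift p₁ p₂) (Limits.diag T)) ≫
      c ≫ Limits.prod.fst) ≫ Limits.diag F =
      (AlgSp.yon S).map (pullback.snd (prod.lift p₁ p₂) (Limits.diag T)) ≫ c := by
    apply Limits.prod.hom_ext
    · simp only [Category.assoc, Limits.diag, prod.lift_fst, Category.comp_id]
    · simp only [Category.assoc, Limits.diag, prod.lift_snd, Category.comp_id]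
      exact hsnd12
  refine ⟨pullback (prod.lift p₁ p₂) (Limits.diag T),
    (AlgSp.yon S).map (pullback.snd (prod.lift p₁ p₂) (Limits.diag T)) ≫ c ≫ Limits.prod.fst,
    pullback.snd (prod.lift p₁ p₂) (Limits.diag T), ?_, hPE⟩
  have hs : ∀ (s : PullbackCone (Limits.diag F) c),
      s.snd ≫ c ≫ Limits.prod.fst = s.snd ≫ c ≫ Limits.prod.snd := by
    intro s
    have h1 := congrArg (· ≫ Limits.prod.fst) s.condition
    have h2 := congrArg (· ≫ Limits.prod.snd) s.condition
    simp only [Category.assoc, Limits.diag, prod.lift_fst, prod.lift_snd, Category.comp_id] at h1 h2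
    rw [← h1, ← h2]
  have hcond : ∀ (s : PullbackCone (Limits.diag F) c),
      sq.lift s.snd s.snd (hs s) ≫ (AlgSp.yon S).map (prod.lift p₁ p₂) =
        s.snd ≫ (AlgSp.yon S).map (Limits.diag T) := by
    intro s
    apply jm
    · rw [Category.assoc, Category.assoc, ← Functor.map_comp, ← Functor.map_comp,
        prod.lift_fst, sq.lift_fst]
      simp only [Limits.diag]
      erw [prod.lift_fst]
      rw [CategoryTheory.Functor.map_id, Category.comp_id]
    · rw [Category.assoc, Category.assoc, ← Functor.map_comp, ← Functor.map_comp,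
        prod.lift_snd, sq.lift_snd]
      simp only [Limits.diag]
      erw [prod.lift_snd]
      rw [CategoryTheory.Functor.map_id, Category.comp_id]
  refine ⟨⟨w⟩, ⟨PullbackCone.IsLimit.mk w
    (fun s => sqEy.lift (sq.lift s.snd s.snd (hs s)) s.snd (hcond s)) ?_ ?_ ?_⟩⟩
  · intro s
    rw [← Category.assoc, sqEy.lift_snd]
    have h1 := congrArg (· ≫ Limits.prod.fst) s.condition
    simp only [Category.assoc, Limits.diag, prod.lift_fst, Category.comp_id] at h1
    exact h1.symm
  · intro s
    exact sqEy.lift_snd _ _ _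
  · intro s m hm1 hm2
    apply sqEy.hom_ext
    · rw [sqEy.lift_fst]
      apply sq.hom_ext
      · rw [Category.assoc, ← Functor.map_comp, eW1, hm2, sq.lift_fst]
      · rw [Category.assoc, ← Functor.map_comp, eW2, hm2, sq.lift_snd]
    · rw [sqEy.lift_snd, hm2]


end Groth.Agent.S9886
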