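import Groth.Statements.S9892
import Mathlib
set_option linter.style.haveILetI false

set_option autoImplicit false
universe u
open CategoryTheory CategoryTheory.Limits AlgebraicGeometry
open AlgSp

namespace Groth.Agent.S9892

/-- Let `a : F ⟶ G` be a map of presheaves of sets on schemes over `S` which is representable by
schemes. If `G` is a sheaf for the fppf topology, then so is `F`. -/
theorem result (S : Scheme.{u}) (F G : AlgSp.PSp S) (a : F ⟶ G)
    (ha : (AlgSp.pyon S).relativelyRepresentable a) (hG : Presheaf.IsSheaf (AlgSp.J S) G) :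
    Presheaf.IsSheaf (AlgSp.J S) F := by
  rw [isSheaf_iff_isSheaf_of_type] at hG ⊢
  intro X R hR
  intro x hx
  obtain ⟨y, hy, hyu⟩ := hG R hR (x.map a) (hx.map a)
  obtain ⟨V, p, fst, sq⟩ := ha (uliftYonedaEquiv.symm y)
  have hV : Presieve.IsSheaf (AlgSp.J S) ((AlgSp.pyon S).obj V) :=
    (isSheaf_iff_isSheaf_of_type _ _).1 ((AlgSp.yon S).obj V).property
  have hX : Presieve.IsSheaf (AlgSp.J S) ((AlgSp.pyon S).obj X) :=
    (isSheaf_iff_isSheaf_of_type _ _).1 ((AlgSp.yon S).obj X).property
  have sqT : ∀ T : Over S, IsPullback (fst.app (Opposite.op T)) (((AlgSp.pyon S).map p).app (Opposite.op T))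
      (a.app (Opposite.op T)) ((uliftYonedaEquiv.symm y).app (Opposite.op T)) :=
    fun T => sq.map ((evaluation _ _).obj (Opposite.op T))
  have key : ∀ ⦃T : Over S⦄ (f : T ⟶ X) (hf : R.arrows f),
      ∃ v : ((AlgSp.pyon S).obj V).obj (Opposite.op T), fst.app (Opposite.op T) v = x f hf ∧
        ((AlgSp.pyon S).map p).app (Opposite.op T) v = ULift.up f := fun T f hf =>
    Limits.Types.exists_of_isPullback (sqT T) (x f hf) ⟨f⟩ (by
      rw [uliftYonedaEquiv_symm_apply_app]
      exact (hy f hf).symm)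
  choose v hv1 hv2 using key
  have hvc : Presieve.FamilyOfElements.Compatible (P := (AlgSp.pyon S).obj V) (R := R.arrows) v := by
    intro Y₁ Y₂ Z g₁ g₂ f₁ f₂ h₁ h₂ e
    apply Limits.Types.ext_of_isPullback (sqT Z)
    · rw [NatTrans.naturality_apply, NatTrans.naturality_apply, hv1, hv1]
      exact hx g₁ g₂ h₁ h₂ e
    · rw [NatTrans.naturality_apply, NatTrans.naturality_apply, hv2, hv2]
      apply ULift.ext
      exact e
  obtain ⟨w, hw, hwu⟩ := hV R hR v hvc
  refine ⟨fst.app (Opposite.op X) w, ?_, ?_⟩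
  · intro T f hf
    rw [← NatTrans.naturality_apply, hw f hf, hv1 f hf]
  · intro t' ht'
    have h1 : a.app (Opposite.op X) t' = y := hyu _ (fun T f hf => by
      rw [← NatTrans.naturality_apply, ht' f hf]
      rfl)
    obtain ⟨w', hw'1, hw'2⟩ := Limits.Types.exists_of_isPullback (sqT X) t' ⟨𝟙 X⟩ (by
      rw [uliftYonedaEquiv_symm_apply_app, h1]
      simp)
    have hww : w' = w := hwu w' (fun T f hf => by
      apply Limits.Types.ext_of_isPullback (sqT T)
      · rw [NatTrans.naturality_apply, hw'1, ht' f hf, hv1 f hf]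
      · rw [NatTrans.naturality_apply, hw'2, hv2 f hf]
        apply ULift.ext
        simp)
    rw [← hw'1, hww]

end Groth.Agent.S9892
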