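import Groth.Statements.S9911
import Groth.Agent.H25.AlgSp16

set_option autoImplicit false
universe u
open CategoryTheory CategoryTheory.Limits AlgebraicGeometry
open AlgSp

namespace Groth.Agent.S9911

/-- A morphism from an algebraic space to the spectrum of a field is universally open. -/
theorem result {S : Scheme.{u}} (X : AlgSp.Space S) {k : Type u} [Field k]
    (str : Spec (CommRingCat.of k) ⟶ S) (p : X ⟶ (AlgSp.ofScheme S).obj (Over.mk str)) :
    AlgSp.IsUnivOpenMor p.hom := by
  obtain ⟨U, a, hae, has⟩ := X.property.atlas
  have key : ∀ q : X.obj ⟶ (AlgSp.yon S).obj (Over.mk str), AlgSp.IsUnivOpenMor q := by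
    intro q
    refine Groth.Agent.H25.AS.isUnivOpenMor_of_comp a q has ?_
    obtain ⟨φ, hφ⟩ := (AlgSp.yon S).map_surjective (a ≫ q)
    rw [← hφ]
    refine (Groth.Agent.H25.AS.repWith_universallyOpen_iff _ (AlgSp.representable_yon_map φ)).1
      ((AlgSp.repWith_yon_map_iff _ _).2 ?_)
    have : IsIntegral (Over.mk str).left := by dsimp; infer_instance
    have : Subsingleton ↥(Over.mk str).left := by dsimp; infer_instance
    exact (inferInstance : UniversallyOpen φ.left)
  exact key p.hom


end Groth.Agent.S9911
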