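import Groth.Statements.S9944
import Groth.Agent.H25.AlgSp28

set_option autoImplicit false
universe u
open CategoryTheory CategoryTheory.Limits AlgebraicGeometry
open AlgSp

namespace Groth.Agent.S9944

/-- Let g : X -> Y be a morphism over a base algebraic space B with X affine over B. Then g is affine as
soon as the diagonal of Y over B is affine, and in particular as soon as Y is B-separated. (The
published lemma also has two versions with the absolute diagonal of Y; this row states the versions
over B.) -/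
theorem result {S : Scheme.{u}} {X Y B : AlgSp.Space S} (g : X ⟶ Y) (p : X ⟶ B)
    (q : Y ⟶ B) (comm : g ≫ q = p) (hp : AlgSp.IsAffineMor p.hom) :
    (AlgSp.IsAffineMor (pullback.diagonal q.hom) → AlgSp.IsAffineMor g.hom) ∧
    (AlgSp.IsSeparatedMor q.hom → AlgSp.IsAffineMor g.hom) := by
  subst comm
  have hp' : ∀ ⦃Z : Over S⦄, IsAffine Z.left → ∀ (k : (AlgSp.yon S).obj Z ⟶ B.obj),
      ∃ (W : Over S) (i : W ⟶ Z) (fst : (AlgSp.yon S).obj W ⟶ X.obj),
        IsPullback fst ((AlgSp.yon S).map i) (g.hom ≫ q.hom) k ∧ IsAffine W.left := hp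
  constructor
  · intro hd Z hZ k
    obtain ⟨W, i, fstW, sqW, hW⟩ := hp' hZ (k ≫ q.hom)
    obtain ⟨W', i', fst', sq', hW'⟩ := hd hW
      (pullback.lift (fstW ≫ g.hom) ((AlgSp.yon S).map i ≫ k) (by
        simp only [Category.assoc]; exact sqW.w))
    have sq := Groth.Agent.H25.AS.isPullback_of_comp_diagonal sqW sq'
    rw [← Functor.map_comp] at sq
    exact ⟨W', i' ≫ i, _, sq, hW'⟩
  · intro hs Z hZ k
    obtain ⟨W, i, fst, h1, h2, -⟩ := Groth.Agent.H25.AS.affine_base_change_cancel ⊤
      (fun _ _ => trivial) g.hom q.hom hs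
      (fun Z hZ k => by
        obtain ⟨W, i, fst, h1, h2⟩ := hp' hZ k
        exact ⟨W, i, fst, h1, h2, trivial⟩) hZ k
    exact ⟨W, i, fst, h1, h2⟩


end Groth.Agent.S9944
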