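import Groth.Statements.S9950
import Groth.Agent.H25.AlgSp31

set_option autoImplicit false
universe u
open CategoryTheory CategoryTheory.Limits AlgebraicGeometry
open AlgSp

namespace Groth.Agent.S9950

/-- (6) ⇒ (1): if f ∘ φ is locally of finite type for one surjective etale chart φ of the source, then f
is locally of finite type. -/
theorem result {S : Scheme.{u}} {X Y : AlgSp.Space S} (f : X ⟶ Y) (U : Over S)
    (φ : (AlgSp.yon S).obj U ⟶ X.obj) (hφ : AlgSp.RepWith @Etale φ) (hφs : AlgSp.RepWith @Surjective φ)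
    (h : AlgSp.LocP @LocallyOfFiniteType (φ ≫ f.hom)) : AlgSp.LocP @LocallyOfFiniteType f.hom := by
  refine Groth.Agent.H25.AS.locP_of_comp_etale_surjective Groth.Agent.H25.AS.etLoc_locallyOfFiniteType
    (IsAlgSpace.yon_obj U) X.property Y.property φ
    (Groth.Agent.H25.AS.locP_of_repWith (fun _ h => h) hφ) (Groth.Agent.H25.AS.isSurjectiveMor_of_repWith φ hφs) f.hom h


end Groth.Agent.S9950
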