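import Groth.Statements.S9954
import Groth.Agent.H25.AlgSp69
import Mathlib.AlgebraicGeometry.AlgClosed.Basic
open Groth.Agent.H25 Groth.Agent.H25.AS

set_option autoImplicit false
universe u
open CategoryTheory CategoryTheory.Limits AlgebraicGeometry
open AlgSp

namespace Groth.Agent.S9954

/-- A morphism locally of finite type is surjective if and only if it is surjective on k-valued points
for every algebraically closed field k over the base. -/
theorem result {S : Scheme.{u}} {X Y : AlgSp.Space S} (f : X ⟶ Y)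
    (hf : AlgSp.LocP @LocallyOfFiniteType f.hom) :
    AlgSp.IsSurjectiveMor f.hom ↔
      ∀ (k : Type u) [Field k] [IsAlgClosed k] (str : Spec (CommRingCat.of k) ⟶ S)
        (y : (AlgSp.yon S).obj (Over.mk str) ⟶ Y.obj),
        ∃ x : (AlgSp.yon S).obj (Over.mk str) ⟶ X.obj, x ≫ f.hom = y := by
  constructor
  · intro hs k _ _ str y
    have pb := IsPullback.of_hasPullback f.hom y
    have hP : AlgSp.IsAlgSpace (pullback f.hom y) :=
      AS.isAlgSpace_of_isPullback Y.property.diag X.property (AlgSp.IsAlgSpace.yon_obj _) pb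
    obtain ⟨x0, hx0⟩ := hs (AlgSp.Points.map y
      (AlgSp.Points.ofScheme (Over.mk str) (IsLocalRing.closedPoint k)))
    obtain ⟨p, -, -⟩ := AS.exists_of_isPullback pb x0 _ hx0
    obtain ⟨U, a, hae, has⟩ := hP.atlas
    obtain ⟨u, -⟩ := AS.ofPt_surjective a has p
    obtain ⟨h, hh⟩ := (AlgSp.yon S).map_surjective (a ≫ pullback.snd f.hom y)
    have hl : AlgSp.LocP @LocallyOfFiniteType (pullback.snd f.hom y) :=
      AS.locP_of_isPullback AS.etLoc_locallyOfFiniteType X.property Y.property
        (AlgSp.IsAlgSpace.yon_obj _) pb hf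
    have hlft : LocallyOfFiniteType h.left :=
      hl a (𝟙 _) h hae (AlgSp.repWith_id _ _) (by rw [Category.comp_id, hh])
    have hJ0 : JacobsonSpace ↥(Over.mk str).left :=
      inferInstanceAs (JacobsonSpace ↥(Spec (CommRingCat.of k)))
    have hJ : JacobsonSpace ↥U.left := LocallyOfFiniteType.jacobsonSpace h.left
    obtain ⟨u', -, hu'⟩ := nonempty_inter_closedPoints (X := ↥U.left) (Z := Set.univ) ⟨u, trivial⟩
      isOpen_univ.isLocallyClosed
    have hpt : pointOfClosedPoint h.left u' hu' ≫ h.left = 𝟙 _ := pointOfClosedPoint_comp _ _ _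
    have hstr : h.left ≫ str = U.hom := Over.w h
    let pt' : Over.mk str ⟶ U := Over.homMk (pointOfClosedPoint h.left u' hu') (by
      change _ ≫ U.hom = str
      rw [← hstr, ← Category.assoc, hpt, Category.id_comp])
    have hpt' : pt' ≫ h = 𝟙 _ := by
      ext
      exact hpt
    refine ⟨(AlgSp.yon S).map pt' ≫ a ≫ pullback.fst f.hom y, ?_⟩
    rw [Category.assoc, Category.assoc, pb.w, ← Category.assoc a, ← hh, ← Category.assoc,
      ← CategoryTheory.Functor.map_comp, hpt', CategoryTheory.Functor.map_id, Category.id_comp]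
  · intro H y
    obtain ⟨K, _, str, m, rfl⟩ := AS.exists_fpOf y
    let k := AlgebraicClosure K
    let φ : Over.mk (Spec.map (CommRingCat.ofHom (algebraMap K k)) ≫ str) ⟶ Over.mk str :=
      Over.homMk (Spec.map (CommRingCat.ofHom (algebraMap K k))) rfl
    obtain ⟨x, hx⟩ := H k _ ((AlgSp.yon S).map φ ≫ m)
    refine ⟨AlgSp.Points.mk (AS.fpOf k _ x), ?_⟩
    rw [AS.map_fpOf, hx]
    exact AS.mk_fpOf_eq m _ φ rfl

end Groth.Agent.S9954
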