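import Groth.Statements.S9955
import Groth.Agent.H25.AlgSp73
open Groth.Agent.H25 Groth.Agent.H25.AS

set_option autoImplicit false
universe u
open CategoryTheory CategoryTheory.Limits AlgebraicGeometry
open AlgSp

namespace Groth.Agent.S9955

/-- A morphism locally of finite type is locally quasi-finite if and only if all its fibres over
field-valued points have discrete spaces of points. -/
theorem result {S : Scheme.{u}} {X Y : AlgSp.Space S} (f : X ⟶ Y)
    (hf : AlgSp.LocP @LocallyOfFiniteType f.hom) :
    AlgSp.LocP ((@LocallyQuasiFinite : MorphismProperty Scheme.{u}) ⊓ @LocallyOfFiniteType) f.hom ↔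
      ∀ (k : Type u) [Field k] (str : Spec (CommRingCat.of k) ⟶ S) (y : (AlgSp.yon S).obj (Over.mk str) ⟶ Y.obj)
        (P : AlgSp.Sp S) (fst : P ⟶ X.obj) (snd : P ⟶ (AlgSp.yon S).obj (Over.mk str)),
        IsPullback fst snd f.hom y → DiscreteTopology (AlgSp.Points P) := by

  constructor
  · intro hl k _ str y P fst snd sq
    have hPa : AlgSp.IsAlgSpace P :=
      isAlgSpace_of_isPullback Y.property.diag X.property (AlgSp.IsAlgSpace.yon_obj _) sq
    have hl' : AlgSp.LocP ((@LocallyQuasiFinite : MorphismProperty Scheme.{u}) ⊓
        @LocallyOfFiniteType) snd :=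
      locP_of_isPullback (etLoc_locallyQuasiFinite.inf etLoc_locallyOfFiniteType) X.property
        Y.property (AlgSp.IsAlgSpace.yon_obj _) sq hl
    obtain ⟨U, a, hae, has⟩ := hPa.atlas
    obtain ⟨h, hh⟩ := (AlgSp.yon S).map_surjective (a ≫ snd)
    have hlqf : LocallyQuasiFinite h.left :=
      (hl' a (𝟙 _) h hae (AlgSp.repWith_id _ _) (by rw [Category.comp_id, hh])).1
    have hd := h.left.isDiscrete_preimage_singleton (IsLocalRing.closedPoint k)
    have e : (h.left ⁻¹' {IsLocalRing.closedPoint k} : Set ↥U.left) = Set.univ := by
      ext w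
      simp only [Set.mem_preimage, Set.mem_univ, iff_true]
      exact Subsingleton.elim (α := PrimeSpectrum k) _ _
    have hd' : _root_.IsDiscrete (Set.univ : Set ↥U.left) := by
      convert hd using 1
      exact e.symm
    have hdU : DiscreteTopology ↥U.left := isDiscrete_univ_iff.mp hd'
    exact discreteTopology_points_of_atlas a hae has
  · intro H
    obtain ⟨V, b, hbe, hbs⟩ := Y.property.atlas
    obtain ⟨U, u, h, hue, hus, hh⟩ := exists_chart_over X.property Y.property.diag f.hom b
    have sqQ := IsPullback.of_hasPullback f.hom b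
    have hae : AlgSp.RepWith @Etale (u ≫ pullback.fst f.hom b) :=
      repWith_etale_comp hue (repWith_fst_of_isPullback sqQ hbe)
    have has : AlgSp.RepWith @Surjective (u ≫ pullback.fst f.hom b) :=
      repWith_surjective_comp hus (repWith_fst_of_isPullback sqQ hbs)
    have comm : (u ≫ pullback.fst f.hom b) ≫ f.hom = (AlgSp.yon S).map h ≫ b := by
      rw [Category.assoc, pullback.condition, hh, Category.assoc]
    have hlft : LocallyOfFiniteType h.left := hf _ b h hae hbe comm
    refine locP_of_chart (etLoc_locallyQuasiFinite.inf etLoc_locallyOfFiniteType) f.hom _ b h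
      hae has hbe comm ⟨?_, hlft⟩
    refine LocallyQuasiFinite.of_fiberToSpecResidueField h.left (fun v => ?_)
    have hN0 : IsLocallyNoetherian (Spec (V.left.residueField v)) :=
      inferInstanceAs (IsLocallyNoetherian (Spec (CommRingCat.of (V.left.residueField v))))
    have hlft' : LocallyOfFiniteType (h.left.fiberToSpecResidueField v) :=
      inferInstanceAs (LocallyOfFiniteType (pullback.snd h.left (V.left.fromSpecResidueField v)))
    have hN : IsLocallyNoetherian (h.left.fiber v) :=
      LocallyOfFiniteType.isLocallyNoetherian (h.left.fiberToSpecResidueField v)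
    suffices hD : DiscreteTopology ↥(h.left.fiber v) by
      rw [locallyQuasiFinite_iff_isDiscrete_preimage_singleton]
      intro x
      exact ⟨inferInstance⟩
    let K : Over S := Over.mk (V.left.fromSpecResidueField v ≫ V.hom)
    let ι : K ⟶ V := Over.homMk (V.left.fromSpecResidueField v) rfl
    let F : Over S := Over.mk (h.left.fiberToSpecResidueField v ≫ K.hom)
    let p2 : F ⟶ K := Over.homMk (h.left.fiberToSpecResidueField v) rfl
    let p1 : F ⟶ U := Over.homMk (h.left.fiberι v) (by
      change h.left.fiberι v ≫ U.hom = h.left.fiberToSpecResidueField v ≫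
        V.left.fromSpecResidueField v ≫ V.hom
      rw [← Over.w h, ← Category.assoc, ← Category.assoc]
      congr 1
      exact pullback.condition)
    have sqO : IsPullback p1 p2 h ι := by
      apply IsPullback.of_map (Over.forget S)
      · apply Over.OverMorphism.ext
        exact pullback.condition
      · exact IsPullback.of_hasPullback h.left (V.left.fromSpecResidueField v)
    have sqP := IsPullback.of_hasPullback f.hom ((AlgSp.yon S).map ι ≫ b)
    have hdP : DiscreteTopology (AlgSp.Points (pullback f.hom ((AlgSp.yon S).map ι ≫ b))) :=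
      H (V.left.residueField v) K.hom ((AlgSp.yon S).map ι ≫ b) _ _ _ sqP
    obtain ⟨a, hae', has', -⟩ := exists_fibre_chart f.hom b u h hue hus hh sqO sqP
    have hNP : AlgSp.IsLocNoethSp (pullback f.hom ((AlgSp.yon S).map ι ≫ b)) :=
      ⟨F, a, hae', has', hN⟩
    refine discreteTopology_of_no_specializations (W := h.left.fiber v) ?_
    intro w w' hs
    have h1 : AlgSp.Points.ofPt a w' ⤳ AlgSp.Points.ofPt a w :=
      hs.map (AlgSp.Points.continuous_ofPt a)
    exact eq_of_specializes_of_isLocNoethSp hNP a hae' w w' h1.eq.symm hs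


end Groth.Agent.S9955
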