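import Groth.Statements.S9956
import Groth.Agent.H25.AlgSp31

set_option autoImplicit false
universe u
open CategoryTheory CategoryTheory.Limits AlgebraicGeometry
open AlgSp

namespace Groth.Agent.S9956

/-- For morphisms X -> Y -> Z of algebraic spaces, local quasi-finiteness of the composite implies that
of the first map (locally quasi-finite includes locally of finite type, etale locally on source and
target). -/
theorem result {S : Scheme.{u}} {X Y Z : AlgSp.Space S} (f : X ⟶ Y) (g : Y ⟶ Z)
    (h : AlgSp.LocP ((@LocallyQuasiFinite : MorphismProperty Scheme.{u}) ⊓ @LocallyOfFiniteType) (f ≫ g).hom) :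
    AlgSp.LocP ((@LocallyQuasiFinite : MorphismProperty Scheme.{u}) ⊓ @LocallyOfFiniteType) f.hom := by
  have hP : Groth.Agent.H25.AS.EtLoc ((@LocallyQuasiFinite : MorphismProperty Scheme.{u}) ⊓ @LocallyOfFiniteType) :=
    Groth.Agent.H25.AS.etLoc_locallyQuasiFinite.inf Groth.Agent.H25.AS.etLoc_locallyOfFiniteType
  refine Groth.Agent.H25.AS.locP_cancel (Q := ⊤) hP ?_ X.property Y.property Z.property f.hom g.hom
    (fun _ _ _ _ _ _ _ _ => trivial) h
  intro A B C h k _ hhk
  have h1 : LocallyQuasiFinite (h ≫ k) := hhk.1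
  have h2 : LocallyOfFiniteType (h ≫ k) := hhk.2
  exact ⟨LocallyQuasiFinite.of_comp h k, locallyOfFiniteType_of_comp h k⟩


end Groth.Agent.S9956
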