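import Groth.Statements.S9957
import Groth.Agent.H25.AlgSp43

set_option autoImplicit false
universe u
open CategoryTheory CategoryTheory.Limits AlgebraicGeometry
open AlgSp

namespace Groth.Agent.S9957

/-- The source of a morphism of finite presentation whose target is Noetherian is itself Noetherian,
Noetherian meaning quasi-compact, quasi-separated over S and locally Noetherian. (The published
statement uses quasi-separatedness in the absolute sense; this row uses quasi-separatedness over S
in hypothesis and conclusion.) -/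
theorem result {S : Scheme.{u}} {X Y : AlgSp.Space S} (f : X ⟶ Y)
    (hf : AlgSp.IsFinitePresentationMor f.hom)
    (hY : AlgSp.IsQuasiCompactSp Y.obj ∧ AlgSp.IsQuasiSeparatedSp Y.obj ∧ AlgSp.IsLocNoethSp Y.obj) :
    AlgSp.IsQuasiCompactSp X.obj ∧ AlgSp.IsQuasiSeparatedSp X.obj ∧ AlgSp.IsLocNoethSp X.obj := by
  obtain ⟨hlfp, hqc, hqs⟩ := hf
  obtain ⟨hYc, hYs, hYn⟩ := hY
  refine ⟨hqc Y.property hYc (𝟙 _) (𝟙 _) f.hom (Groth.Agent.H25.AS.isPullback_id_left f.hom), ?_, ?_⟩
  · have h1 : AlgSp.RepWith @QuasiCompact
        (prod.lift (pullback.fst f.hom f.hom) (pullback.snd f.hom f.hom)) :=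
      Groth.Agent.H25.AS.repWith_snd_of_isPullback
        (Groth.Agent.H25.AS.isPullback_prod_lift_diag (IsPullback.of_hasPullback f.hom f.hom)) hYs
    have h2 := (AlgSp.RepWith (S := S) @QuasiCompact).comp_mem _ _ hqs h1
    rw [Groth.Agent.H25.AS.diagonal_comp_prod_lift] at h2
    exact h2
  · exact Groth.Agent.H25.AS.isLocNoethSp_of_locP_lft X.property f.hom
      (fun U V a b h ha hb w => by
        have : LocallyOfFinitePresentation h.left := hlfp a b h ha hb w
        exact (inferInstance : LocallyOfFiniteType h.left)) hYn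


end Groth.Agent.S9957
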