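import Groth.Statements.S9963
import Groth.Agent.H25.AlgSp60
open Groth.Agent.H25 Groth.Agent.H25.AS

set_option autoImplicit false
universe u
open CategoryTheory CategoryTheory.Limits AlgebraicGeometry
open AlgSp

namespace Groth.Agent.S9963

/-- A morphism of algebraic spaces that is flat, quasi-compact and surjective is submersive, and
universally submersive. -/
theorem result {S : Scheme.{u}} {X Y : AlgSp.Space S} (f : X ⟶ Y)
    (hfl : AlgSp.LocP @Flat f.hom) (hqc : AlgSp.IsQuasiCompactMor f.hom) (hs : AlgSp.IsSurjectiveMor f.hom) :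
    AlgSp.IsSubmersiveMor f.hom ∧ AlgSp.IsUnivSubmersiveMor f.hom := by
  have huniv : AlgSp.IsUnivSubmersiveMor f.hom := by
    apply AS.univSp_of_affine AS.descFam_isSubmersiveMor
    intro Z hZ g P fst snd sq
    exact AS.isSubmersiveMor_of_flat_qc_surj_affine Z hZ snd
      (AS.locP_of_isPullback AS.etLoc_flat X.property Y.property (AlgSp.IsAlgSpace.yon_obj Z) sq hfl)
      (AS.isQuasiCompactMor_of_isPullback sq hqc) (AS.isSurjectiveMor_of_isPullback sq hs)
  exact ⟨huniv Y.property (𝟙 _) (𝟙 _) f.hom (IsPullback.id_horiz f.hom), huniv⟩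


end Groth.Agent.S9963
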