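import Groth.Statements.S9972
import Groth.Agent.H25.AlgSp119
open Groth.Agent.H25 Groth.Agent.H25.AS

set_option autoImplicit false
universe u
open CategoryTheory CategoryTheory.Limits AlgebraicGeometry
open AlgSp

namespace Groth.Agent.S9972

/-- Two morphisms to an algebraic space separated over B that agree on an open subspace whose scheme
theoretic closure is everything are equal. -/
theorem result {S : Scheme.{u}} {U X Y B : AlgSp.Space S} (q : Y ⟶ B)
    (hq : AlgSp.IsSeparatedMor q.hom) (f g : X ⟶ Y) (hfg : f ≫ q = g ≫ q) (j : U ⟶ X)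
    (hj : AlgSp.RepWith @IsOpenImmersion j.hom) (hcl : AlgSp.IsSchImage j.hom (𝟙 X.obj)) (heq : j ≫ f = j ≫ g) :
    f = g := by

  have hfg' : f.hom ≫ q.hom = g.hom ≫ q.hom := by
    have := congrArg (fun z => z.hom) hfg
    simpa using this
  have heq' : j.hom ≫ f.hom = j.hom ≫ g.hom := by
    have := congrArg (fun z => z.hom) heq
    simpa using this
  let Δ := pullback.diagonal q.hom
  let ℓ : X.obj ⟶ pullback q.hom q.hom := pullback.lift f.hom g.hom hfg'
  have sq := (IsPullback.of_hasPullback ℓ Δ).flip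
  have hi' : AlgSp.RepWith @IsClosedImmersion (pullback.fst ℓ Δ) :=
    MorphismProperty.of_isPullback (P := AlgSp.RepWith @IsClosedImmersion) sq hq
  have hZ' : AlgSp.IsAlgSpace (pullback ℓ Δ) :=
    isAlgSpace_of_representable (pullback.fst ℓ Δ) hi'.rep X.property
  have hw : j.hom ≫ ℓ = (j.hom ≫ f.hom) ≫ Δ := by
    apply pullback.hom_ext
    · rw [Category.assoc, Category.assoc, pullback.lift_fst, pullback.diagonal_fst,
        Category.comp_id]
    · rw [Category.assoc, Category.assoc, pullback.lift_snd, pullback.diagonal_snd,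
        Category.comp_id, heq']
  obtain ⟨k, hk⟩ := hcl.2.2 (pullback.fst ℓ Δ) hZ' hi'
    ⟨pullback.lift j.hom (j.hom ≫ f.hom) hw, pullback.lift_fst _ _ _⟩
  have e1 : f.hom = k ≫ pullback.snd ℓ Δ := by
    calc f.hom = (k ≫ pullback.fst ℓ Δ) ≫ ℓ ≫ pullback.fst q.hom q.hom := by
          rw [hk, Category.id_comp, pullback.lift_fst]
      _ = k ≫ (pullback.fst ℓ Δ ≫ ℓ) ≫ pullback.fst q.hom q.hom := by
          simp only [Category.assoc]
      _ = k ≫ pullback.snd ℓ Δ := by
          rw [pullback.condition, Category.assoc, pullback.diagonal_fst, Category.comp_id]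
  have e2 : g.hom = k ≫ pullback.snd ℓ Δ := by
    calc g.hom = (k ≫ pullback.fst ℓ Δ) ≫ ℓ ≫ pullback.snd q.hom q.hom := by
          rw [hk, Category.id_comp, pullback.lift_snd]
      _ = k ≫ (pullback.fst ℓ Δ ≫ ℓ) ≫ pullback.snd q.hom q.hom := by
          simp only [Category.assoc]
      _ = k ≫ pullback.snd ℓ Δ := by
          rw [pullback.condition, Category.assoc, pullback.diagonal_snd, Category.comp_id]
  exact ObjectProperty.hom_ext _ (e1.trans e2.symm)


end Groth.Agent.S9972
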