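import Groth.Statements.S9975
import Groth.Agent.H25.AlgSp82
open Groth.Agent.H25 Groth.Agent.H25.AS

set_option autoImplicit false
universe u
open CategoryTheory CategoryTheory.Limits AlgebraicGeometry
open AlgSp

namespace Groth.Agent.S9975

/-- A point of an algebraic space is a finite type point (represented by a locally finite type morphism
from the spectrum of a field) exactly when it is the image of a closed point of some etale scheme
chart. -/
theorem result {S : Scheme.{u}} (X : AlgSp.Space S) (x : AlgSp.Points X.obj) :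
    (∃ (k : Type u) (_ : Field k) (str : Spec (CommRingCat.of k) ⟶ S) (ξ : (AlgSp.yon S).obj (Over.mk str) ⟶ X.obj),
        AlgSp.LocP @LocallyOfFiniteType ξ ∧ AlgSp.Points.ofPt ξ (IsLocalRing.closedPoint k) = x) ↔
      ∃ (U : Over S) (φ : (AlgSp.yon S).obj U ⟶ X.obj) (u : ↥U.left), AlgSp.RepWith @Etale φ ∧
        IsClosed ({u} : Set ↥U.left) ∧ AlgSp.Points.ofPt φ u = x := by

  constructor
  · rintro ⟨k, _, str, ξ, hξ, hx⟩
    obtain ⟨U, a, hae, has⟩ := X.property.atlas
    obtain ⟨u₀, hu₀⟩ := ofPt_surjective a has x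
    have sq := hae.rep.isPullback' ξ
    have hsnd : Etale (hae.rep.snd ξ).left := hae.property_snd ξ
    obtain ⟨v, hv1, hv2⟩ := exists_point_of_isPullback' sq (IsLocalRing.closedPoint k) u₀
      (hx.trans hu₀.symm)
    have hlft : LocallyOfFiniteType (hae.rep.fst' ξ).left :=
      hξ ((AlgSp.yon S).map (hae.rep.snd ξ)) a (hae.rep.fst' ξ)
        ((repWith_yon_map_iff @Etale _).2 hsnd) hae sq.w.symm
    have hdisc : DiscreteTopology ↥(hae.rep.pullback ξ).left :=
      discreteTopology_of_etale_field (hae.rep.snd ξ).left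
    have hvcl : IsClosed ({v} : Set ↥(hae.rep.pullback ξ).left) := isClosed_discrete _
    have hci : IsClosedImmersion ((hae.rep.pullback ξ).left.fromSpecResidueField v) :=
      isClosed_singleton_iff_isClosedImmersion.1 hvcl
    have hg : LocallyOfFiniteType
        ((hae.rep.pullback ξ).left.fromSpecResidueField v ≫ (hae.rep.fst' ξ).left) :=
      inferInstance
    obtain ⟨W, hu, hcl⟩ := exists_open_closed_point_of_lft_field
      (K := (hae.rep.pullback ξ).left.residueField v)
      ((hae.rep.pullback ξ).left.fromSpecResidueField v ≫ (hae.rep.fst' ξ).left)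
    have hpt : ((hae.rep.pullback ξ).left.fromSpecResidueField v ≫ (hae.rep.fst' ξ).left)
        (IsLocalRing.closedPoint ((hae.rep.pullback ξ).left.residueField v)) = u₀ := by
      rw [Scheme.Hom.comp_apply, Scheme.fromSpecResidueField_apply, hv2]
    refine ⟨openOver U W, (AlgSp.yon S).map (openIncl U W) ≫ a, ⟨_, hu⟩,
      repWith_etale_comp (repWith_etale_openIncl U W) hae, hcl, ?_⟩
    rw [ofPt_map_comp, ← hu₀]
    congr 1
  · rintro ⟨U, φ, u, hφ, hcl, hx⟩
    have hci : IsClosedImmersion (U.left.fromSpecResidueField u) :=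
      isClosed_singleton_iff_isClosedImmersion.1 hcl
    refine ⟨U.left.residueField u, inferInstance, U.left.fromSpecResidueField u ≫ U.hom,
      (AlgSp.yon S).map (resPt U u) ≫ φ, ?_, ?_⟩
    · exact locP_of_chart etLoc_locallyOfFiniteType _ (𝟙 _) φ (resPt U u)
        (AlgSp.repWith_id _ _) (AlgSp.repWith_id _ _) hφ (by rw [Category.id_comp])
        (show LocallyOfFiniteType (U.left.fromSpecResidueField u) from inferInstance)
    · rw [ofPt_map_comp, ← hx]
      congr 1
      exact Scheme.fromSpecResidueField_apply u _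


end Groth.Agent.S9975
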