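import Groth.Statements.S9976
import Groth.Agent.H25.AlgSp81
open Groth.Agent.H25 Groth.Agent.H25.AS

set_option autoImplicit false
universe u
open CategoryTheory CategoryTheory.Limits AlgebraicGeometry
open AlgSp

namespace Groth.Agent.S9976

/-- Under a surjective morphism locally of finite type, every finite type point of the target is the
image of a finite type point of the source. (The published lemma states that the two sets of finite
type points correspond exactly; the inclusion of the image in the finite type points of the target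
holds for every morphism locally of finite type and is omitted here.) -/
theorem result {S : Scheme.{u}} {X Y : AlgSp.Space S} (f : X ⟶ Y)
    (hf : AlgSp.LocP @LocallyOfFiniteType f.hom) (hs : AlgSp.IsSurjectiveMor f.hom) (y : AlgSp.Points Y.obj)
    (hy : ∃ (k : Type u) (_ : Field k) (str : Spec (CommRingCat.of k) ⟶ S) (ξ : (AlgSp.yon S).obj (Over.mk str) ⟶ Y.obj),
        AlgSp.LocP @LocallyOfFiniteType ξ ∧ AlgSp.Points.ofPt ξ (IsLocalRing.closedPoint k) = y) :
    ∃ x : AlgSp.Points X.obj, AlgSp.Points.map f.hom x = y ∧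
      ∃ (k : Type u) (_ : Field k) (str : Spec (CommRingCat.of k) ⟶ S) (ξ : (AlgSp.yon S).obj (Over.mk str) ⟶ X.obj),
        AlgSp.LocP @LocallyOfFiniteType ξ ∧ AlgSp.Points.ofPt ξ (IsLocalRing.closedPoint k) = x := by

  obtain ⟨k, _, str, ξ, hξ, rfl⟩ := hy
  have sqP := IsPullback.of_hasPullback f.hom ξ
  have hPa : AlgSp.IsAlgSpace (pullback f.hom ξ) :=
    isAlgSpace_of_isPullback Y.property.diag X.property (AlgSp.IsAlgSpace.yon_obj _) sqP
  have hl1 : AlgSp.LocP @LocallyOfFiniteType (pullback.snd f.hom ξ) :=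
    locP_of_isPullback etLoc_locallyOfFiniteType X.property Y.property
      (AlgSp.IsAlgSpace.yon_obj _) sqP hf
  have hl2 : AlgSp.LocP @LocallyOfFiniteType (pullback.fst f.hom ξ) :=
    locP_of_isPullback etLoc_locallyOfFiniteType (AlgSp.IsAlgSpace.yon_obj _) Y.property
      X.property sqP.flip hξ
  obtain ⟨x₀, hx₀⟩ := hs (AlgSp.Points.ofPt ξ (IsLocalRing.closedPoint k))
  obtain ⟨z, hz1, hz2⟩ := exists_of_isPullback sqP x₀
    (AlgSp.Points.ofScheme (Over.mk str) (IsLocalRing.closedPoint k))
    (hx₀.trans (AlgSp.Points.ofPt_eq_map_ofScheme ξ _))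
  obtain ⟨W, c, hce, hcs⟩ := hPa.atlas
  obtain ⟨w₀, hw₀⟩ := ofPt_surjective c hcs z
  obtain ⟨h, hh⟩ := (AlgSp.yon S).map_surjective (c ≫ pullback.snd f.hom ξ)
  have hlft : LocallyOfFiniteType h.left :=
    hl1 c (𝟙 _) h hce (AlgSp.repWith_id _ _) (by rw [Category.comp_id, hh])
  have hne : Nonempty ↥W.left := ⟨w₀⟩
  obtain ⟨w, hwcl⟩ := exists_closed_point_of_lft_field (K := k) h.left
  have hci : IsClosedImmersion (W.left.fromSpecResidueField w) :=
    isClosed_singleton_iff_isClosedImmersion.1 hwcl
  refine ⟨AlgSp.Points.ofPt (c ≫ pullback.fst f.hom ξ) w, ?_, W.left.residueField w,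
    inferInstance, W.left.fromSpecResidueField w ≫ W.hom,
    (AlgSp.yon S).map (resPt W w) ≫ c ≫ pullback.fst f.hom ξ, ?_, ?_⟩
  · rw [AlgSp.Points.map_ofPt, Category.assoc, pullback.condition, ← Category.assoc, ← hh,
      ofPt_map_comp]
    congr 1
    exact Subsingleton.elim (α := PrimeSpectrum k) _ _
  · have h1 : AlgSp.LocP @LocallyOfFiniteType ((AlgSp.yon S).map (resPt W w)) :=
      locP_of_repWith (fun g (_ : Etale g) => (inferInstance : LocallyOfFiniteType g))
        ((AlgSp.repWith_yon_map_iff _ _).2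
          (show LocallyOfFiniteType (W.left.fromSpecResidueField w) from inferInstance))
    have h2 : AlgSp.LocP @Etale c := locP_of_repWith (fun g hg => hg) hce
    have h3 : AlgSp.LocP @LocallyOfFiniteType (c ≫ pullback.fst f.hom ξ) :=
      locP_etale_comp etLoc_locallyOfFiniteType (AlgSp.IsAlgSpace.yon_obj _) hPa X.property c h2
        _ hl2
    exact locP_comp etLoc_locallyOfFiniteType (AlgSp.IsAlgSpace.yon_obj _)
      (AlgSp.IsAlgSpace.yon_obj _) X.property _ _ h1 h3
  · rw [ofPt_map_comp]
    congr 1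
    exact Scheme.fromSpecResidueField_apply w _


end Groth.Agent.S9976
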