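import Groth.Statements.S9977
import Groth.Agent.H25.AlgSp81
open Groth.Agent.H25 Groth.Agent.H25.AS

set_option autoImplicit false
universe u
open CategoryTheory CategoryTheory.Limits AlgebraicGeometry
open AlgSp

namespace Groth.Agent.S9977

/-- Every nonempty locally closed subset of |X| contains a finite type point, and finite type points are
dense in every closed subset. -/
theorem result {S : Scheme.{u}} (X : AlgSp.Space S) :
    (∀ T : Set (AlgSp.Points X.obj), IsLocallyClosed T → T.Nonempty →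
      ∃ x ∈ T, (∃ (k : Type u) (_ : Field k) (str : Spec (CommRingCat.of k) ⟶ S) (ξ : (AlgSp.yon S).obj (Over.mk str) ⟶ X.obj),
        AlgSp.LocP @LocallyOfFiniteType ξ ∧ AlgSp.Points.ofPt ξ (IsLocalRing.closedPoint k) = x)) ∧
    (∀ T : Set (AlgSp.Points X.obj), IsClosed T →
      T ⊆ closure {x | x ∈ T ∧ (∃ (k : Type u) (_ : Field k) (str : Spec (CommRingCat.of k) ⟶ S) (ξ : (AlgSp.yon S).obj (Over.mk str) ⟶ X.obj),
        AlgSp.LocP @LocallyOfFiniteType ξ ∧ AlgSp.Points.ofPt ξ (IsLocalRing.closedPoint k) = x)}) := by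

  have key : ∀ T : Set (AlgSp.Points X.obj), IsLocallyClosed T → T.Nonempty →
      ∃ x ∈ T, (∃ (k : Type u) (_ : Field k) (str : Spec (CommRingCat.of k) ⟶ S)
        (ξ : (AlgSp.yon S).obj (Over.mk str) ⟶ X.obj),
        AlgSp.LocP @LocallyOfFiniteType ξ ∧
          AlgSp.Points.ofPt ξ (IsLocalRing.closedPoint k) = x) := by
    intro T hT hTne
    obtain ⟨U, a, hae, has⟩ := X.property.atlas
    obtain ⟨x₀, hx₀⟩ := hTne
    obtain ⟨u₀, rfl⟩ := ofPt_surjective a has x₀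
    obtain ⟨N, Z, hN, hZ, rfl⟩ := hT
    have hNo : IsOpen (AlgSp.Points.ofPt a ⁻¹' N) := hN.preimage (AlgSp.Points.continuous_ofPt a)
    have hZc : IsClosed (AlgSp.Points.ofPt a ⁻¹' Z) :=
      hZ.preimage (AlgSp.Points.continuous_ofPt a)
    obtain ⟨U₁, hU₁, hu₀U₁, hU₁N⟩ := exists_isAffineOpen_mem_and_subset (X := U.left) (x := u₀)
      (U := ⟨_, hNo⟩) hx₀.1
    have haff : IsAffine (U₁ : Scheme.{u}) := hU₁
    have hZ₁ : IsClosed (U₁.ι ⁻¹' (AlgSp.Points.ofPt a ⁻¹' Z)) := hZc.preimage U₁.ι.continuous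
    obtain ⟨w, hwZ, hwcl⟩ := hZ₁.exists_closed_singleton ⟨⟨u₀, hu₀U₁⟩, hx₀.2⟩
    have hφ : AlgSp.RepWith @Etale ((AlgSp.yon S).map (openIncl U U₁) ≫ a) :=
      repWith_etale_comp (repWith_etale_openIncl U U₁) hae
    have hci : IsClosedImmersion ((U₁ : Scheme.{u}).fromSpecResidueField w) :=
      isClosed_singleton_iff_isClosedImmersion.1 hwcl
    refine ⟨AlgSp.Points.ofPt ((AlgSp.yon S).map (openIncl U U₁) ≫ a) w, ⟨?_, ?_⟩,
      (U₁ : Scheme.{u}).residueField w, inferInstance,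
      (U₁ : Scheme.{u}).fromSpecResidueField w ≫ (openOver U U₁).hom,
      (AlgSp.yon S).map (resPt (openOver U U₁) w) ≫ (AlgSp.yon S).map (openIncl U U₁) ≫ a,
      ?_, ?_⟩
    · rw [ofPt_map_comp]
      exact hU₁N w.2
    · rw [ofPt_map_comp]
      exact hwZ
    · exact locP_of_chart etLoc_locallyOfFiniteType _ (𝟙 _)
        ((AlgSp.yon S).map (openIncl U U₁) ≫ a) (resPt (openOver U U₁) w)
        (AlgSp.repWith_id _ _) (AlgSp.repWith_id _ _) hφ (by rw [Category.id_comp])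
        (show LocallyOfFiniteType ((U₁ : Scheme.{u}).fromSpecResidueField w) from inferInstance)
    · rw [ofPt_map_comp]
      congr 1
      exact Scheme.fromSpecResidueField_apply w _
  refine ⟨key, fun T hT t ht => ?_⟩
  rw [mem_closure_iff]
  intro N hN htN
  obtain ⟨x, ⟨hxN, hxT⟩, hx⟩ := key (N ∩ T) ⟨N, T, hN, hT, rfl⟩ ⟨t, htN, ht⟩
  exact ⟨x, hxN, hxT, hx⟩


end Groth.Agent.S9977
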