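import Groth.Statements.S9981
import Groth.Agent.H25.AlgSp101
open Groth.Agent.H25 Groth.Agent.H25.AS

set_option autoImplicit false
universe u
open CategoryTheory CategoryTheory.Limits AlgebraicGeometry
open AlgSp

namespace Groth.Agent.S9981

/-- The inverse image of an etale locally constructible subset under a morphism of algebraic spaces is
etale locally constructible. -/
theorem result {S : Scheme.{u}} {X Y : AlgSp.Space S} (f : X ⟶ Y)
    (E : Set (AlgSp.Points Y.obj))
    (hE : (∀ (U : Over S) (φ : (AlgSp.yon S).obj U ⟶ Y.obj), AlgSp.RepWith @Etale φ →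
        Topology.IsLocallyConstructible (AlgSp.Points.ofPt φ ⁻¹' E))) :
    (∀ (U : Over S) (φ : (AlgSp.yon S).obj U ⟶ X.obj), AlgSp.RepWith @Etale φ →
        Topology.IsLocallyConstructible (AlgSp.Points.ofPt φ ⁻¹' (AlgSp.Points.map f.hom ⁻¹' E))) := by

  intro U φ hφ
  obtain ⟨V, b, hbe, hbs⟩ := Y.property.atlas
  obtain ⟨W, u, h, hue, hus, hh⟩ := exists_chart_over (AlgSp.IsAlgSpace.yon_obj U)
    Y.property.diag (φ ≫ f.hom) b
  have sqV := IsPullback.of_hasPullback (φ ≫ f.hom) b
  obtain ⟨e, he⟩ := (AlgSp.yon S).map_surjective (u ≫ pullback.fst (φ ≫ f.hom) b)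
  have hee : AlgSp.RepWith @Etale ((AlgSp.yon S).map e) := by
    rw [he]; exact repWith_etale_comp hue (repWith_fst_of_isPullback sqV hbe)
  have hes : AlgSp.RepWith @Surjective ((AlgSp.yon S).map e) := by
    rw [he]; exact repWith_surjective_comp hus (repWith_fst_of_isPullback sqV hbs)
  haveI : Etale e.left := (AlgSp.repWith_yon_map_iff _ _).1 hee
  haveI : Surjective e.left := (AlgSp.repWith_yon_map_iff _ _).1 hes
  have comm : (AlgSp.yon S).map e ≫ φ ≫ f.hom = (AlgSp.yon S).map h ≫ b := by
    rw [he, Category.assoc, sqV.w, ← Category.assoc, hh]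
  apply isLocallyConstructible_of_etale_surjective e.left
  have h3 := isLocallyConstructible_preimage h.left (hE V b hbe)
  convert h3 using 1
  ext w
  simp only [Set.mem_preimage]
  rw [AlgSp.Points.map_ofPt, ← ofPt_map_comp, ← ofPt_map_comp, comm]


end Groth.Agent.S9981
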