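import Groth.Statements.S9982
import Groth.Agent.H25.AlgSp101
open Groth.Agent.H25 Groth.Agent.H25.AS

set_option autoImplicit false
universe u
open CategoryTheory CategoryTheory.Limits AlgebraicGeometry
open AlgSp

namespace Groth.Agent.S9982

/-- A quasi-compact morphism locally of finite presentation between algebraic spaces maps etale locally
constructible sets to etale locally constructible sets. -/
theorem result {S : Scheme.{u}} {X Y : AlgSp.Space S} (f : X ⟶ Y)
    (hq : AlgSp.IsQuasiCompactMor f.hom) (hfp : AlgSp.LocP @LocallyOfFinitePresentation f.hom)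
    (E : Set (AlgSp.Points X.obj))
    (hE : (∀ (U : Over S) (φ : (AlgSp.yon S).obj U ⟶ X.obj), AlgSp.RepWith @Etale φ →
        Topology.IsLocallyConstructible (AlgSp.Points.ofPt φ ⁻¹' E))) :
    (∀ (U : Over S) (φ : (AlgSp.yon S).obj U ⟶ Y.obj), AlgSp.RepWith @Etale φ →
        Topology.IsLocallyConstructible (AlgSp.Points.ofPt φ ⁻¹' (AlgSp.Points.map f.hom '' E))) := by

  intro V φ hφ
  have hcov : TopologicalSpace.IsOpenCover (fun V₀ : V.left.affineOpens => V₀.1) :=
    TopologicalSpace.IsOpenCover.mk (iSup_affineOpens_eq_top V.left)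
  refine .of_isOpenCover hcov fun V₀ => ?_
  obtain ⟨g, hg⟩ : ∃ g, g = (AlgSp.yon S).map (openIncl V V₀.1) ≫ φ := ⟨_, rfl⟩
  have hge : AlgSp.RepWith @Etale g := by
    rw [hg]; exact repWith_etale_comp (repWith_etale_openIncl V V₀.1) hφ
  have hZq : AlgSp.IsQuasiCompactSp ((AlgSp.yon S).obj (openOver V V₀.1)) :=
    isQuasiCompactSp_openOver V V₀.1 V₀.2.isCompact
  have sq := IsPullback.of_hasPullback f.hom g
  have hZ'q : AlgSp.IsQuasiCompactSp (pullback f.hom g) :=
    hq (AlgSp.IsAlgSpace.yon_obj _) hZq g (pullback.fst f.hom g) (pullback.snd f.hom g) sq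
  obtain ⟨W, u, hWaff, hue, hus⟩ := exists_affine_chart hZ'q
  obtain ⟨k, hk⟩ := (AlgSp.yon S).map_surjective (u ≫ pullback.snd f.hom g)
  have hae : AlgSp.RepWith @Etale (u ≫ pullback.fst f.hom g) :=
    repWith_etale_comp hue (repWith_fst_of_isPullback sq hge)
  have comm : (u ≫ pullback.fst f.hom g) ≫ f.hom = (AlgSp.yon S).map k ≫ g := by
    rw [Category.assoc, sq.w, ← Category.assoc, hk]
  haveI : LocallyOfFinitePresentation k.left := hfp _ g k hae hge comm
  haveI : IsAffine (openOver V V₀.1).left := V₀.2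
  haveI : IsAffine W.left := hWaff
  haveI : QuasiCompact k.left := HasAffineProperty.iff_of_isAffine.mpr
    (inferInstance : CompactSpace W.left)
  have h1 := k.left.isLocallyConstructible_image (hE W _ hae)
  have e : (Subtype.val ⁻¹' (AlgSp.Points.ofPt φ ⁻¹' (AlgSp.Points.map f.hom '' E)) :
        Set ↥(V₀.1 : Set ↥V.left)) =
      (⇑k.left '' (AlgSp.Points.ofPt (u ≫ pullback.fst f.hom g) ⁻¹' E) : Set ↥V₀.1) := by
    ext v
    constructor
    · rintro ⟨x, hxE, hx⟩
      have hgv : AlgSp.Points.map f.hom x =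
          AlgSp.Points.map g (AlgSp.Points.ofScheme (openOver V V₀.1) v) := by
        rw [← AlgSp.Points.ofPt_eq_map_ofScheme, hg, ofPt_map_comp]
        exact hx
      obtain ⟨p, hp1, hp2⟩ := exists_of_isPullback sq x _ hgv
      obtain ⟨w, hw⟩ := ofPt_surjective u hus p
      refine ⟨w, ?_, ?_⟩
      · change AlgSp.Points.ofPt (u ≫ pullback.fst f.hom g) w ∈ E
        rw [← AlgSp.Points.map_ofPt, hw, hp1]
        exact hxE
      · apply ofScheme_injective (openOver V V₀.1)
        rw [← ofPt_yon_map, hk, ← AlgSp.Points.map_ofPt, hw, hp2]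
    · rintro ⟨w, hw, rfl⟩
      refine ⟨AlgSp.Points.ofPt (u ≫ pullback.fst f.hom g) w, hw, ?_⟩
      rw [AlgSp.Points.map_ofPt, comm, ofPt_map_comp, hg, ofPt_map_comp]
      rfl
  rw [e]
  exact h1


end Groth.Agent.S9982
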