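import Groth.Statements.S9995
import Groth.Agent.H25.AlgSp88
open Groth.Agent.H25 Groth.Agent.H25.AS

set_option autoImplicit false
universe u
open CategoryTheory CategoryTheory.Limits AlgebraicGeometry
open AlgSp

namespace Groth.Agent.S9995

/-- For a morphism f : X ⟶ Y of algebraic spaces of finite type and a point y of |Y|, the set of points
of |X| over y where f is quasi-finite is finite (in the neighbourhood sense, through some chart
diagram). -/
theorem result {S : Scheme.{u}} {X Y : AlgSp.Space S} (f : X ⟶ Y)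
    (hf : AlgSp.IsFiniteTypeMor f.hom) (y : AlgSp.Points Y.obj) :
    {x : AlgSp.Points X.obj | AlgSp.Points.map f.hom x = y ∧
      AlgSp.HasAtMor (fun U _ h u => ∃ W : U.Opens, u ∈ W ∧ LocallyQuasiFinite (W.ι ≫ h) ∧
        LocallyOfFiniteType (W.ι ≫ h)) f.hom x}.Finite := by

  obtain ⟨hlft, hqc⟩ := hf
  have key : ∀ (V : Over S) (b : (AlgSp.yon S).obj V ⟶ Y.obj) (v : ↥V.left), IsAffine V.left →
      AlgSp.RepWith @Etale b → AlgSp.Points.ofPt b v = y →
      {x : AlgSp.Points X.obj | AlgSp.Points.map f.hom x = y ∧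
        AlgSp.HasAtMor (fun U _ h u => ∃ W : U.Opens, u ∈ W ∧ LocallyQuasiFinite (W.ι ≫ h) ∧
          LocallyOfFiniteType (W.ι ≫ h)) f.hom x}.Finite := by
    intro V b v hVaff hbe hv
    have hVc : CompactSpace ↥V.left := inferInstance
    have sq := IsPullback.of_hasPullback f.hom b
    have hZ' : AlgSp.IsAlgSpace (pullback f.hom b) :=
      isAlgSpace_of_isPullback Y.property.diag X.property (IsAlgSpace.yon_obj V) sq
    have hZqc : AlgSp.IsQuasiCompactSp (pullback f.hom b) :=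
      hqc (IsAlgSpace.yon_obj V) ((isQuasiCompactSp_yon_iff V).2 hVc) b (pullback.fst _ _)
        (pullback.snd _ _) sq
    obtain ⟨U, p, hUaff, hpe, hps⟩ := exists_affine_chart hZqc
    obtain ⟨h, hh⟩ := (AlgSp.yon S).map_surjective (p ≫ pullback.snd f.hom b)
    have hfst : AlgSp.RepWith @Etale (pullback.fst f.hom b) := repWith_fst_of_isPullback sq hbe
    have hae : AlgSp.RepWith @Etale (p ≫ pullback.fst f.hom b) := repWith_etale_comp hpe hfst
    have comm : (p ≫ pullback.fst f.hom b) ≫ f.hom = (AlgSp.yon S).map h ≫ b := by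
      rw [Category.assoc, pullback.condition, ← Category.assoc, hh]
    have hhlft : LocallyOfFiniteType h.left := hlft _ b h hae hbe comm
    have hUc : CompactSpace ↥U.left := inferInstance
    have hhqc : QuasiCompact h.left :=
      (HasAffineProperty.iff_of_isAffine (P := @QuasiCompact)).2 hUc
    have hfin := finite_isolatedInFibre h.left v
    refine (hfin.image (AlgSp.Points.ofPt (p ≫ pullback.fst f.hom b))).subset ?_
    rintro x ⟨hxy, hQ⟩
    have e : AlgSp.Points.map f.hom x = AlgSp.Points.map b (AlgSp.Points.ofScheme V v) := by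
      rw [← AlgSp.Points.ofPt_eq_map_ofScheme, hv, hxy]
    obtain ⟨z, hz1, hz2⟩ := exists_of_isPullback sq x (AlgSp.Points.ofScheme V v) e
    obtain ⟨u, rfl⟩ := ofPt_surjective p hps z
    have hux : AlgSp.Points.ofPt (p ≫ pullback.fst f.hom b) u = x := by
      rw [← AlgSp.Points.map_ofPt]; exact hz1
    refine ⟨u, ⟨?_, ?_⟩, hux⟩
    · apply ofScheme_injective V
      rw [← ofPt_yon_map, hh, ← AlgSp.Points.map_ofPt]
      exact hz2
    · obtain ⟨U₁, V₁, a₁, b₁, h₁, u₁, ha₁, hb₁, c₁, hu₁, hq₁⟩ := hQ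
      exact etLocAt_isolatedInFibre.of_hasAtMor f.hom x
        ⟨U₁, V₁, a₁, b₁, h₁, u₁, ha₁, hb₁, c₁, hu₁, isolatedInFibre_of_qfNear h₁.left u₁ hq₁⟩
        _ b h hae hbe comm u hux
  obtain ⟨V₀, b₀, hb₀e, hb₀s⟩ := Y.property.atlas
  obtain ⟨v₀, hv₀⟩ := ofPt_surjective b₀ hb₀s y
  obtain ⟨V₁, hV₁, hv₀V₁, -⟩ := exists_isAffineOpen_mem_and_subset (X := V₀.left) (x := v₀)
    (U := ⊤) trivial
  refine key (openOver V₀ V₁) ((AlgSp.yon S).map (openIncl V₀ V₁) ≫ b₀) ⟨v₀, hv₀V₁⟩ hV₁
    (repWith_etale_comp (repWith_etale_openIncl V₀ V₁) hb₀e) ?_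
  rw [ofPt_map_comp]; exact hv₀


end Groth.Agent.S9995
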